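import Cfsg.Agent.Helper17.SP6TC.Lemmas

set_option autoImplicit false
set_option linter.all false

noncomputable section

namespace Cfsg.Agent.Helper17.SP6TC

theorem F1 : act 0 n0 = n0 := d46_0 B0 
theorem F2 : act 1 n0 = n0 := d47_0 B1 
theorem F3 : act 2 n0 = n0 := d48_0 B2 
theorem F4 : act 3 n0 = n0 := d49_0 B3 
theorem F5 : act 4 n0 = n0 := d50_0 B4 
theorem F6 : act 5 n0 = n0 := d51_0 B5 
theorem F7 : act 6 n0 = n0 := d52_0 B6 
theorem F8 : act 7 n0 = n0 := d53_0 B7 
theorem F9 : act 8 n0 = n0 := d54_0 B8 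
def n1 : Q := act 9 n0
theorem D1 : act 9 n0 = n1 := rfl
theorem F10 : act 0 n1 = n1 := d8_1 D1 (iv D1) F1
theorem F11 : act 1 n1 = n1 := d16_1 D1 (iv D1) F2
theorem F12 : act 2 n1 = n1 := d23_1 D1 (iv D1) F3
theorem F13 : act 3 n1 = n1 := d29_1 D1 (iv D1) F4
theorem F14 : act 4 n1 = n1 := d34_1 D1 (iv D1) F5
theorem F15 : act 5 n1 = n1 := d38_1 D1 (iv D1) F6
theorem F16 : act 6 n1 = n1 := d41_1 D1 (iv D1) F7
theorem F17 : act 7 n1 = n1 := d43_1 D1 (iv D1) F8
def n2 : Q := act 8 n1
theorem D2 : act 8 n1 = n2 := rfl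
theorem F18 : act 0 n2 = n2 := d7_1 D2 (iv D2) F10
theorem F19 : act 1 n2 = n2 := d15_1 D2 (iv D2) F11
theorem F20 : act 2 n2 = n2 := d22_1 D2 (iv D2) F12
theorem F21 : act 3 n2 = n2 := d28_1 D2 (iv D2) F13
theorem F22 : act 4 n2 = n2 := d33_1 D2 (iv D2) F14
theorem F23 : act 6 n2 = n2 := d40_1 D2 (iv D2) F16
theorem F24 : act 7 n2 = n2 := d42_1 D2 (iv D2) F17
theorem F25 : act 9 n2 = n2 := d44_2 D1 D2 (iv D2) (iv D1) F9
def n3 : Q := act 5 n2
theorem D3 : act 5 n2 = n3 := rfl
theorem F26 : act 0 n3 = n3 := d4_1 D3 (iv D3) F18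
theorem F27 : act 1 n3 = n3 := d12_1 D3 (iv D3) F19
theorem F28 : act 2 n3 = n3 := d19_1 D3 (iv D3) F20
theorem F29 : act 3 n3 = n3 := d25_1 D3 (iv D3) F21
theorem F30 : act 7 n3 = n3 := d36_2 F24 D3 (iv D3)
theorem F31 : act 8 n3 = n3 := d37_2 D2 D3 (iv D3) (iv D2) F15
theorem F32 : act 9 n3 = n3 := d38_2 F25 D3 (iv D3)
def n4 : Q := act 4 n3
theorem D4 : act 4 n3 = n4 := rfl
theorem F33 : act 0 n4 = n4 := d3_1 D4 (iv D4) F26
theorem F34 : act 1 n4 = n4 := d11_1 D4 (iv D4) F27
theorem F35 : act 2 n4 = n4 := d18_1 D4 (iv D4) F28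
theorem F36 : act 5 n4 = n4 := d30_2 D3 D4 (iv D4) (iv D3) F22
theorem F37 : act 7 n4 = n4 := d32_2 F30 D4 (iv D4)
theorem F38 : act 8 n4 = n4 := d33_2 F31 D4 (iv D4)
theorem F39 : act 9 n4 = n4 := d34_2 F32 D4 (iv D4)
def n5 : Q := act 6 n3
theorem D5 : act 6 n3 = n5 := rfl
theorem F40 : act 0 n5 = n5 := d5_1 D5 (iv D5) F26
theorem F41 : act 1 n5 = n5 := d13_1 D5 (iv D5) F27
theorem F42 : act 2 n5 = n5 := d20_1 D5 (iv D5) F28
theorem F43 : act 3 n5 = n5 := d26_1 D5 (iv D5) F29
theorem F44 : act 5 n5 = n5 := d35_1 D5 (iv D5) (iv D3) F23 D3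
theorem F45 : act 8 n5 = n5 := d40_2 F31 D5 (iv D5)
theorem F46 : act 9 n5 = n5 := d41_2 F32 D5 (iv D5)
def n6 : Q := act 3 n4
theorem D6 : act 3 n4 = n6 := rfl
theorem F47 : act 0 n6 = n6 := d2_1 D6 (iv D6) F33
theorem F48 : act 1 n6 = n6 := d10_1 D6 (iv D6) F34
theorem F49 : act 4 n6 = n6 := d24_2 D4 D6 (iv D6) (iv D4) F29
theorem F50 : act 5 n6 = n6 := d25_2 F36 D6 (iv D6)
theorem F51 : act 7 n6 = n6 := d27_2 F37 D6 (iv D6)
theorem F52 : act 8 n6 = n6 := d28_2 F38 D6 (iv D6)
theorem F53 : act 9 n6 = n6 := d29_2 F39 D6 (iv D6)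
def n7 : Q := act 6 n4
theorem D7 : act 6 n4 = n7 := rfl
theorem F54 : act 0 n7 = n7 := d5_1 D7 (iv D7) F33
theorem F55 : act 1 n7 = n7 := d13_1 D7 (iv D7) F34
theorem F56 : act 2 n7 = n7 := d20_1 D7 (iv D7) F35
theorem F57 : act 4 n7 = n5 := d31_1 D7 (iv D5) D4
theorem F58 : act 8 n7 = n7 := d40_2 F38 D7 (iv D7)
theorem F59 : act 9 n7 = n7 := d41_2 F39 D7 (iv D7)
def n8 : Q := act 7 n5
theorem D8 : act 7 n5 = n8 := rfl
theorem F60 : act 0 n8 = n8 := d6_1 D8 (iv D8) F40
theorem F61 : act 1 n8 = n8 := d14_1 D8 (iv D8) F41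
theorem F62 : act 2 n8 = n8 := d21_1 D8 (iv D8) F42
theorem F63 : act 3 n8 = n8 := d27_1 D8 (iv D8) F43
theorem F64 : act 5 n8 = n8 := d36_1 D8 (iv D8) F44
theorem F65 : act 6 n8 = n8 := d39_1 D8 (iv D8) (iv D5) F30 D5
theorem F66 : act 8 n8 = n8 := d42_2 F45 D8 (iv D8)
theorem F67 : act 9 n8 = n8 := d43_2 F46 D8 (iv D8)
def n9 : Q := act 2 n6
theorem D9 : act 2 n6 = n9 := rfl
theorem F68 : act 0 n9 = n9 := d1_1 D9 (iv D9) F47
theorem F69 : act 3 n9 = n9 := d17_2 D6 D9 (iv D9) (iv D6) F35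
theorem F70 : act 4 n9 = n9 := d18_2 F49 D9 (iv D9)
theorem F71 : act 5 n9 = n9 := d19_2 F50 D9 (iv D9)
theorem F72 : act 7 n9 = n9 := d21_2 F51 D9 (iv D9)
theorem F73 : act 8 n9 = n9 := d22_2 F52 D9 (iv D9)
theorem F74 : act 9 n9 = n9 := d23_2 F53 D9 (iv D9)
def n10 : Q := act 6 n6
theorem D10 : act 6 n6 = n10 := rfl
theorem F75 : act 0 n10 = n10 := d5_1 D10 (iv D10) F47
theorem F76 : act 1 n10 = n10 := d13_1 D10 (iv D10) F48
theorem F77 : act 3 n10 = n7 := d26_1 D10 (iv D7) D6
theorem F78 : act 4 n10 = n10 := d31_1 D10 (iv D10) F49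
theorem F79 : act 8 n10 = n10 := d40_2 F52 D10 (iv D10)
theorem F80 : act 9 n10 = n10 := d41_2 F53 D10 (iv D10)
def n11 : Q := act 5 n7
theorem D11 : act 5 n7 = n11 := rfl
theorem F81 : act 0 n11 = n11 := d4_1 D11 (iv D11) F54
theorem F82 : act 1 n11 = n11 := d12_1 D11 (iv D11) F55
theorem F83 : act 2 n11 = n11 := d19_1 D11 (iv D11) F56
theorem F84 : act 4 n11 = n11 := d30_1 D11 (iv D11) F57 F44 (iv F57)
theorem F85 : act 6 n11 = n11 := d35_2 D7 D11 (iv D11) (iv D7) F36
theorem F86 : act 9 n11 = n11 := d38_2 F59 D11 (iv D11)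
def n12 : Q := act 7 n7
theorem D12 : act 7 n7 = n12 := rfl
theorem F87 : act 0 n12 = n12 := d6_1 D12 (iv D12) F54
theorem F88 : act 1 n12 = n12 := d14_1 D12 (iv D12) F55
theorem F89 : act 2 n12 = n12 := d21_1 D12 (iv D12) F56
theorem F90 : act 4 n12 = n8 := d32_1 D12 (iv D8) (iv F57)
theorem F91 : act 6 n12 = n12 := d39_1 D12 (iv D12) (iv D7) F37 D7
theorem F92 : act 8 n12 = n12 := d42_2 F58 D12 (iv D12)
theorem F93 : act 9 n12 = n12 := d43_2 F59 D12 (iv D12)
def n13 : Q := act 1 n9
theorem D13 : act 1 n9 = n13 := rfl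
theorem F94 : act 2 n13 = n13 := d9_2 D9 D13 (iv D13) (iv D9) F48
theorem F95 : act 3 n13 = n13 := d10_2 F69 D13 (iv D13)
theorem F96 : act 4 n13 = n13 := d11_2 F70 D13 (iv D13)
theorem F97 : act 5 n13 = n13 := d12_2 F71 D13 (iv D13)
theorem F98 : act 7 n13 = n13 := d14_2 F72 D13 (iv D13)
theorem F99 : act 8 n13 = n13 := d15_2 F73 D13 (iv D13)
theorem F100 : act 9 n13 = n13 := d16_2 F74 D13 (iv D13)
def n14 : Q := act 6 n9
theorem D14 : act 6 n9 = n14 := rfl
theorem F101 : act 0 n14 = n14 := d5_1 D14 (iv D14) F68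
theorem F102 : act 2 n14 = n10 := d20_1 D14 (iv D10) D9
theorem F103 : act 3 n14 = n14 := d26_1 D14 (iv D14) F69
theorem F104 : act 4 n14 = n14 := d31_1 D14 (iv D14) F70
theorem F105 : act 8 n14 = n14 := d40_2 F73 D14 (iv D14)
theorem F106 : act 9 n14 = n14 := d41_2 F74 D14 (iv D14)
def n15 : Q := act 5 n10
theorem D15 : act 5 n10 = n15 := rfl
theorem F107 : act 0 n15 = n15 := d4_1 D15 (iv D15) F75
theorem F108 : act 1 n15 = n15 := d12_1 D15 (iv D15) F76
theorem F109 : act 3 n15 = n11 := d25_1 D15 (iv D11) (iv F77)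
theorem F110 : act 6 n15 = n15 := d35_2 D10 D15 (iv D15) (iv D10) F50
theorem F111 : act 9 n15 = n15 := d38_2 F80 D15 (iv D15)
def n16 : Q := act 7 n10
theorem D16 : act 7 n10 = n16 := rfl
theorem F112 : act 0 n16 = n16 := d6_1 D16 (iv D16) F75
theorem F113 : act 1 n16 = n16 := d14_1 D16 (iv D16) F76
theorem F114 : act 3 n16 = n12 := d27_1 D16 (iv D12) (iv F77)
theorem F115 : act 4 n16 = n16 := d32_1 D16 (iv D16) F78
theorem F116 : act 6 n16 = n16 := d39_1 D16 (iv D16) (iv D10) F51 D10
theorem F117 : act 8 n16 = n16 := d42_2 F79 D16 (iv D16)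
theorem F118 : act 9 n16 = n16 := d43_2 F80 D16 (iv D16)
def n17 : Q := act 7 n11
theorem D17 : act 7 n11 = n17 := rfl
theorem F119 : act 0 n17 = n17 := d6_1 D17 (iv D17) F81
theorem F120 : act 1 n17 = n17 := d14_1 D17 (iv D17) F82
theorem F121 : act 2 n17 = n17 := d21_1 D17 (iv D17) F83
theorem F122 : act 4 n17 = n17 := d32_1 D17 (iv D17) F84
theorem F123 : act 5 n17 = n12 := d36_1 D17 (iv D12) D11
theorem F124 : act 9 n17 = n17 := d43_2 F86 D17 (iv D17)
def n18 : Q := act 8 n11
theorem D18 : act 8 n11 = n18 := rfl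
theorem F125 : act 0 n18 = n18 := d7_1 D18 (iv D18) F81
theorem F126 : act 1 n18 = n18 := d15_1 D18 (iv D18) F82
theorem F127 : act 2 n18 = n18 := d22_1 D18 (iv D18) F83
theorem F128 : act 4 n18 = n18 := d33_1 D18 (iv D18) F84
theorem F129 : act 5 n18 = n18 := d37_1 D18 (iv D18) (iv D11) F58 D11
theorem F130 : act 6 n18 = n18 := d40_1 D18 (iv D18) F85
def n19 : Q := act 0 n13
theorem D19 : act 0 n13 = n19 := rfl
theorem F131 : act 1 n19 = n19 := d0_2 D13 D19 (iv D19) (iv D13) F68
theorem F132 : act 2 n19 = n19 := d1_2 F94 D19 (iv D19)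
theorem F133 : act 3 n19 = n19 := d2_2 F95 D19 (iv D19)
theorem F134 : act 4 n19 = n19 := d3_2 F96 D19 (iv D19)
theorem F135 : act 5 n19 = n19 := d4_2 F97 D19 (iv D19)
theorem F136 : act 7 n19 = n19 := d6_2 F98 D19 (iv D19)
theorem F137 : act 8 n19 = n19 := d7_2 F99 D19 (iv D19)
theorem F138 : act 9 n19 = n19 := d8_2 F100 D19 (iv D19)
def n20 : Q := act 6 n13
theorem D20 : act 6 n13 = n20 := rfl
theorem F139 : act 1 n20 = n14 := d13_1 D20 (iv D14) D13
theorem F140 : act 2 n20 = n20 := d20_1 D20 (iv D20) F94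
theorem F141 : act 3 n20 = n20 := d26_1 D20 (iv D20) F95
theorem F142 : act 4 n20 = n20 := d31_1 D20 (iv D20) F96
theorem F143 : act 8 n20 = n20 := d40_2 F99 D20 (iv D20)
theorem F144 : act 9 n20 = n20 := d41_2 F100 D20 (iv D20)
def n21 : Q := act 5 n14
theorem D21 : act 5 n14 = n21 := rfl
theorem F145 : act 0 n21 = n21 := d4_1 D21 (iv D21) F101
theorem F146 : act 2 n21 = n15 := d19_1 D21 (iv D15) (iv F102)
theorem F147 : act 3 n21 = n21 := d25_1 D21 (iv D21) F103
theorem F148 : act 6 n21 = n21 := d35_2 D14 D21 (iv D21) (iv D14) F71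
theorem F149 : act 9 n21 = n21 := d38_2 F106 D21 (iv D21)
def n22 : Q := act 7 n14
theorem D22 : act 7 n14 = n22 := rfl
theorem F150 : act 0 n22 = n22 := d6_1 D22 (iv D22) F101
theorem F151 : act 2 n22 = n16 := d21_1 D22 (iv D16) (iv F102)
theorem F152 : act 3 n22 = n22 := d27_1 D22 (iv D22) F103
theorem F153 : act 4 n22 = n22 := d32_1 D22 (iv D22) F104
theorem F154 : act 6 n22 = n22 := d39_1 D22 (iv D22) (iv D14) F72 D14
theorem F155 : act 8 n22 = n22 := d42_2 F105 D22 (iv D22)
theorem F156 : act 9 n22 = n22 := d43_2 F106 D22 (iv D22)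
def n23 : Q := act 4 n15
theorem D23 : act 4 n15 = n23 := rfl
theorem F157 : act 0 n23 = n23 := d3_1 D23 (iv D23) F107
theorem F158 : act 1 n23 = n23 := d11_1 D23 (iv D23) F108
theorem F159 : act 3 n23 = n23 := d24_1 D23 (iv D23) F109 F84 (iv F109)
theorem F160 : act 5 n23 = n23 := d30_2 D15 D23 (iv D23) (iv D15) F78
theorem F161 : act 6 n23 = n23 := d31_2 F110 D23 (iv D23)
theorem F162 : act 9 n23 = n23 := d34_2 F111 D23 (iv D23)
def n24 : Q := act 7 n15
theorem D24 : act 7 n15 = n24 := rfl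
theorem F163 : act 0 n24 = n24 := d6_1 D24 (iv D24) F107
theorem F164 : act 1 n24 = n24 := d14_1 D24 (iv D24) F108
theorem F165 : act 3 n24 = n17 := d27_1 D24 (iv D17) (iv F109)
theorem F166 : act 5 n24 = n16 := d36_1 D24 (iv D16) D15
theorem F167 : act 9 n24 = n24 := d43_2 F111 D24 (iv D24)
def n25 : Q := act 8 n15
theorem D25 : act 8 n15 = n25 := rfl
theorem F168 : act 0 n25 = n25 := d7_1 D25 (iv D25) F107
theorem F169 : act 1 n25 = n25 := d15_1 D25 (iv D25) F108
theorem F170 : act 3 n25 = n18 := d28_1 D25 (iv D18) (iv F109)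
theorem F171 : act 5 n25 = n25 := d37_1 D25 (iv D25) (iv D15) F79 D15
theorem F172 : act 6 n25 = n25 := d40_1 D25 (iv D25) F110
def n26 : Q := act 6 n17
theorem D26 : act 6 n17 = n26 := rfl
theorem F173 : act 0 n26 = n26 := d5_1 D26 (iv D26) F119
theorem F174 : act 1 n26 = n26 := d13_1 D26 (iv D26) F120
theorem F175 : act 2 n26 = n26 := d20_1 D26 (iv D26) F121
theorem F176 : act 4 n26 = n26 := d31_1 D26 (iv D26) F122
theorem F177 : act 5 n26 = n26 := d35_1 D26 (iv D26) F123 F91 (iv F123)
theorem F178 : act 7 n26 = n26 := d39_2 D17 D26 (iv D26) (iv D17) F85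
theorem F179 : act 9 n26 = n26 := d41_2 F124 D26 (iv D26)
def n27 : Q := act 8 n17
theorem D27 : act 8 n17 = n27 := rfl
theorem F180 : act 0 n27 = n27 := d7_1 D27 (iv D27) F119
theorem F181 : act 1 n27 = n27 := d15_1 D27 (iv D27) F120
theorem F182 : act 2 n27 = n27 := d22_1 D27 (iv D27) F121
theorem F183 : act 4 n27 = n27 := d33_1 D27 (iv D27) F122
theorem F184 : act 5 n27 = n27 := d37_1 D27 (iv D27) F123 F92 (iv F123)
theorem F185 : act 7 n27 = n18 := d42_1 D27 (iv D18) D17
def n28 : Q := act 9 n18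
theorem D28 : act 9 n18 = n28 := rfl
theorem F186 : act 0 n28 = n28 := d8_1 D28 (iv D28) F125
theorem F187 : act 1 n28 = n28 := d16_1 D28 (iv D28) F126
theorem F188 : act 2 n28 = n28 := d23_1 D28 (iv D28) F127
theorem F189 : act 4 n28 = n28 := d34_1 D28 (iv D28) F128
theorem F190 : act 5 n28 = n28 := d38_1 D28 (iv D28) F129
theorem F191 : act 6 n28 = n28 := d41_1 D28 (iv D28) F130
theorem F192 : act 8 n28 = n28 := d44_1 D28 (iv D28) (iv D18) F86 D18
def n29 : Q := act 6 n19
theorem D29 : act 6 n19 = n29 := rfl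
theorem F193 : act 0 n29 = n20 := d5_1 D29 (iv D20) D19
theorem F194 : act 1 n29 = n29 := d13_1 D29 (iv D29) F131
theorem F195 : act 2 n29 = n29 := d20_1 D29 (iv D29) F132
theorem F196 : act 3 n29 = n29 := d26_1 D29 (iv D29) F133
theorem F197 : act 4 n29 = n29 := d31_1 D29 (iv D29) F134
theorem F198 : act 8 n29 = n29 := d40_2 F137 D29 (iv D29)
theorem F199 : act 9 n29 = n29 := d41_2 F138 D29 (iv D29)
def n30 : Q := act 5 n20
theorem D30 : act 5 n20 = n30 := rfl
theorem F200 : act 1 n30 = n21 := d12_1 D30 (iv D21) (iv F139)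
theorem F201 : act 2 n30 = n30 := d19_1 D30 (iv D30) F140
theorem F202 : act 3 n30 = n30 := d25_1 D30 (iv D30) F141
theorem F203 : act 6 n30 = n30 := d35_2 D20 D30 (iv D30) (iv D20) F97
theorem F204 : act 9 n30 = n30 := d38_2 F144 D30 (iv D30)
def n31 : Q := act 7 n20
theorem D31 : act 7 n20 = n31 := rfl
theorem F205 : act 1 n31 = n22 := d14_1 D31 (iv D22) (iv F139)
theorem F206 : act 2 n31 = n31 := d21_1 D31 (iv D31) F140
theorem F207 : act 3 n31 = n31 := d27_1 D31 (iv D31) F141
theorem F208 : act 4 n31 = n31 := d32_1 D31 (iv D31) F142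
theorem F209 : act 6 n31 = n31 := d39_1 D31 (iv D31) (iv D20) F98 D20
theorem F210 : act 8 n31 = n31 := d42_2 F143 D31 (iv D31)
theorem F211 : act 9 n31 = n31 := d43_2 F144 D31 (iv D31)
def n32 : Q := act 4 n21
theorem D32 : act 4 n21 = n32 := rfl
theorem F212 : act 0 n32 = n32 := d3_1 D32 (iv D32) F145
theorem F213 : act 2 n32 = n23 := d18_1 D32 (iv D23) (iv F146)
theorem F214 : act 5 n32 = n32 := d30_2 D21 D32 (iv D32) (iv D21) F104
theorem F215 : act 6 n32 = n32 := d31_2 F148 D32 (iv D32)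
theorem F216 : act 9 n32 = n32 := d34_2 F149 D32 (iv D32)
def n33 : Q := act 7 n21
theorem D33 : act 7 n21 = n33 := rfl
theorem F217 : act 0 n33 = n33 := d6_1 D33 (iv D33) F145
theorem F218 : act 2 n33 = n24 := d21_1 D33 (iv D24) (iv F146)
theorem F219 : act 3 n33 = n33 := d27_1 D33 (iv D33) F147
theorem F220 : act 5 n33 = n22 := d36_1 D33 (iv D22) D21
theorem F221 : act 9 n33 = n33 := d43_2 F149 D33 (iv D33)
def n34 : Q := act 8 n21
theorem D34 : act 8 n21 = n34 := rfl
theorem F222 : act 0 n34 = n34 := d7_1 D34 (iv D34) F145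
theorem F223 : act 2 n34 = n25 := d22_1 D34 (iv D25) (iv F146)
theorem F224 : act 3 n34 = n34 := d28_1 D34 (iv D34) F147
theorem F225 : act 5 n34 = n34 := d37_1 D34 (iv D34) (iv D21) F105 D21
theorem F226 : act 6 n34 = n34 := d40_1 D34 (iv D34) F148
def n35 : Q := act 7 n23
theorem D35 : act 7 n23 = n35 := rfl
theorem F227 : act 0 n35 = n35 := d6_1 D35 (iv D35) F157
theorem F228 : act 1 n35 = n35 := d14_1 D35 (iv D35) F158
theorem F229 : act 3 n35 = n35 := d27_1 D35 (iv D35) F159
theorem F230 : act 4 n35 = n24 := d32_1 D35 (iv D24) D23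
theorem F231 : act 5 n35 = n35 := d36_1 D35 (iv D35) F160
theorem F232 : act 9 n35 = n35 := d43_2 F162 D35 (iv D35)
def n36 : Q := act 8 n23
theorem D36 : act 8 n23 = n36 := rfl
theorem F233 : act 0 n36 = n36 := d7_1 D36 (iv D36) F157
theorem F234 : act 1 n36 = n36 := d15_1 D36 (iv D36) F158
theorem F235 : act 3 n36 = n36 := d28_1 D36 (iv D36) F159
theorem F236 : act 4 n36 = n25 := d33_1 D36 (iv D25) D23
theorem F237 : act 6 n36 = n36 := d40_1 D36 (iv D36) F161
def n37 : Q := act 6 n24
theorem D37 : act 6 n24 = n37 := rfl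
theorem F238 : act 0 n37 = n37 := d5_1 D37 (iv D37) F163
theorem F239 : act 1 n37 = n37 := d13_1 D37 (iv D37) F164
theorem F240 : act 3 n37 = n26 := d26_1 D37 (iv D26) (iv F165)
theorem F241 : act 5 n37 = n37 := d35_1 D37 (iv D37) F166 F116 (iv F166)
theorem F242 : act 7 n37 = n37 := d39_2 D24 D37 (iv D37) (iv D24) F110
theorem F243 : act 9 n37 = n37 := d41_2 F167 D37 (iv D37)
def n38 : Q := act 8 n24
theorem D38 : act 8 n24 = n38 := rfl
theorem F244 : act 0 n38 = n38 := d7_1 D38 (iv D38) F163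
theorem F245 : act 1 n38 = n38 := d15_1 D38 (iv D38) F164
theorem F246 : act 3 n38 = n27 := d28_1 D38 (iv D27) (iv F165)
theorem F247 : act 5 n38 = n38 := d37_1 D38 (iv D38) F166 F117 (iv F166)
theorem F248 : act 7 n38 = n25 := d42_1 D38 (iv D25) D24
def n39 : Q := act 9 n25
theorem D39 : act 9 n25 = n39 := rfl
theorem F249 : act 0 n39 = n39 := d8_1 D39 (iv D39) F168
theorem F250 : act 1 n39 = n39 := d16_1 D39 (iv D39) F169
theorem F251 : act 3 n39 = n28 := d29_1 D39 (iv D28) (iv F170)
theorem F252 : act 5 n39 = n39 := d38_1 D39 (iv D39) F171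
theorem F253 : act 6 n39 = n39 := d41_1 D39 (iv D39) F172
theorem F254 : act 8 n39 = n39 := d44_1 D39 (iv D39) (iv D25) F111 D25
def n40 : Q := act 8 n26
theorem D40 : act 8 n26 = n40 := rfl
theorem F255 : act 0 n40 = n40 := d7_1 D40 (iv D40) F173
theorem F256 : act 1 n40 = n40 := d15_1 D40 (iv D40) F174
theorem F257 : act 2 n40 = n40 := d22_1 D40 (iv D40) F175
theorem F258 : act 4 n40 = n40 := d33_1 D40 (iv D40) F176
theorem F259 : act 6 n40 = n27 := d40_1 D40 (iv D27) D26
theorem F260 : act 7 n40 = n40 := d42_1 D40 (iv D40) F178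
def n41 : Q := act 9 n27
theorem D41 : act 9 n27 = n41 := rfl
theorem F261 : act 0 n41 = n41 := d8_1 D41 (iv D41) F180
theorem F262 : act 1 n41 = n41 := d16_1 D41 (iv D41) F181
theorem F263 : act 2 n41 = n41 := d23_1 D41 (iv D41) F182
theorem F264 : act 4 n41 = n41 := d34_1 D41 (iv D41) F183
theorem F265 : act 5 n41 = n41 := d38_1 D41 (iv D41) F184
theorem F266 : act 7 n41 = n28 := d43_1 D41 (iv D28) (iv F185)
theorem F267 : act 8 n41 = n41 := d44_1 D41 (iv D41) (iv D27) F124 D27
def n42 : Q := act 5 n29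
theorem D42 : act 5 n29 = n42 := rfl
theorem F268 : act 0 n42 = n30 := d4_1 D42 (iv D30) (iv F193)
theorem F269 : act 1 n42 = n42 := d12_1 D42 (iv D42) F194
theorem F270 : act 2 n42 = n42 := d19_1 D42 (iv D42) F195
theorem F271 : act 3 n42 = n42 := d25_1 D42 (iv D42) F196
theorem F272 : act 6 n42 = n42 := d35_2 D29 D42 (iv D42) (iv D29) F135
theorem F273 : act 9 n42 = n42 := d38_2 F199 D42 (iv D42)
def n43 : Q := act 7 n29
theorem D43 : act 7 n29 = n43 := rfl
theorem F274 : act 0 n43 = n31 := d6_1 D43 (iv D31) (iv F193)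
theorem F275 : act 1 n43 = n43 := d14_1 D43 (iv D43) F194
theorem F276 : act 2 n43 = n43 := d21_1 D43 (iv D43) F195
theorem F277 : act 3 n43 = n43 := d27_1 D43 (iv D43) F196
theorem F278 : act 4 n43 = n43 := d32_1 D43 (iv D43) F197
theorem F279 : act 6 n43 = n43 := d39_1 D43 (iv D43) (iv D29) F136 D29
theorem F280 : act 8 n43 = n43 := d42_2 F198 D43 (iv D43)
theorem F281 : act 9 n43 = n43 := d43_2 F199 D43 (iv D43)
def n44 : Q := act 4 n30
theorem D44 : act 4 n30 = n44 := rfl
theorem F282 : act 1 n44 = n32 := d11_1 D44 (iv D32) (iv F200)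
theorem F283 : act 2 n44 = n44 := d18_1 D44 (iv D44) F201
theorem F284 : act 5 n44 = n44 := d30_2 D30 D44 (iv D44) (iv D30) F142
theorem F285 : act 6 n44 = n44 := d31_2 F203 D44 (iv D44)
theorem F286 : act 9 n44 = n44 := d34_2 F204 D44 (iv D44)
def n45 : Q := act 7 n30
theorem D45 : act 7 n30 = n45 := rfl
theorem F287 : act 1 n45 = n33 := d14_1 D45 (iv D33) (iv F200)
theorem F288 : act 2 n45 = n45 := d21_1 D45 (iv D45) F201
theorem F289 : act 3 n45 = n45 := d27_1 D45 (iv D45) F202
theorem F290 : act 5 n45 = n31 := d36_1 D45 (iv D31) D30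
theorem F291 : act 9 n45 = n45 := d43_2 F204 D45 (iv D45)
def n46 : Q := act 8 n30
theorem D46 : act 8 n30 = n46 := rfl
theorem F292 : act 1 n46 = n34 := d15_1 D46 (iv D34) (iv F200)
theorem F293 : act 2 n46 = n46 := d22_1 D46 (iv D46) F201
theorem F294 : act 3 n46 = n46 := d28_1 D46 (iv D46) F202
theorem F295 : act 5 n46 = n46 := d37_1 D46 (iv D46) (iv D30) F143 D30
theorem F296 : act 6 n46 = n46 := d40_1 D46 (iv D46) F203
def n47 : Q := act 3 n32
theorem D47 : act 3 n32 = n47 := rfl
theorem F297 : act 0 n47 = n47 := d2_1 D47 (iv D47) F212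
theorem F298 : act 2 n47 = n47 := d17_1 D47 (iv D47) F213 F159 (iv F213)
theorem F299 : act 4 n47 = n47 := d24_2 D32 D47 (iv D47) (iv D32) F147
theorem F300 : act 5 n47 = n47 := d25_2 F214 D47 (iv D47)
theorem F301 : act 6 n47 = n47 := d26_2 F215 D47 (iv D47)
theorem F302 : act 9 n47 = n47 := d29_2 F216 D47 (iv D47)
def n48 : Q := act 7 n32
theorem D48 : act 7 n32 = n48 := rfl
theorem F303 : act 0 n48 = n48 := d6_1 D48 (iv D48) F212
theorem F304 : act 2 n48 = n35 := d21_1 D48 (iv D35) (iv F213)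
theorem F305 : act 4 n48 = n33 := d32_1 D48 (iv D33) D32
theorem F306 : act 5 n48 = n48 := d36_1 D48 (iv D48) F214
theorem F307 : act 9 n48 = n48 := d43_2 F216 D48 (iv D48)
def n49 : Q := act 8 n32
theorem D49 : act 8 n32 = n49 := rfl
theorem F308 : act 0 n49 = n49 := d7_1 D49 (iv D49) F212
theorem F309 : act 2 n49 = n36 := d22_1 D49 (iv D36) (iv F213)
theorem F310 : act 4 n49 = n34 := d33_1 D49 (iv D34) D32
theorem F311 : act 6 n49 = n49 := d40_1 D49 (iv D49) F215
def n50 : Q := act 6 n33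
theorem D50 : act 6 n33 = n50 := rfl
theorem F312 : act 0 n50 = n50 := d5_1 D50 (iv D50) F217
theorem F313 : act 2 n50 = n37 := d20_1 D50 (iv D37) (iv F218)
theorem F314 : act 3 n50 = n50 := d26_1 D50 (iv D50) F219
theorem F315 : act 5 n50 = n50 := d35_1 D50 (iv D50) F220 F154 (iv F220)
theorem F316 : act 7 n50 = n50 := d39_2 D33 D50 (iv D50) (iv D33) F148
theorem F317 : act 9 n50 = n50 := d41_2 F221 D50 (iv D50)
def n51 : Q := act 8 n33
theorem D51 : act 8 n33 = n51 := rfl
theorem F318 : act 0 n51 = n51 := d7_1 D51 (iv D51) F217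
theorem F319 : act 2 n51 = n38 := d22_1 D51 (iv D38) (iv F218)
theorem F320 : act 3 n51 = n51 := d28_1 D51 (iv D51) F219
theorem F321 : act 5 n51 = n51 := d37_1 D51 (iv D51) F220 F155 (iv F220)
theorem F322 : act 7 n51 = n34 := d42_1 D51 (iv D34) D33
def n52 : Q := act 9 n34
theorem D52 : act 9 n34 = n52 := rfl
theorem F323 : act 0 n52 = n52 := d8_1 D52 (iv D52) F222
theorem F324 : act 2 n52 = n39 := d23_1 D52 (iv D39) (iv F223)
theorem F325 : act 3 n52 = n52 := d29_1 D52 (iv D52) F224
theorem F326 : act 5 n52 = n52 := d38_1 D52 (iv D52) F225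
theorem F327 : act 6 n52 = n52 := d41_1 D52 (iv D52) F226
theorem F328 : act 8 n52 = n52 := d44_1 D52 (iv D52) (iv D34) F149 D34
def n53 : Q := act 6 n35
theorem D53 : act 6 n35 = n53 := rfl
theorem F329 : act 0 n53 = n53 := d5_1 D53 (iv D53) F227
theorem F330 : act 1 n53 = n53 := d13_1 D53 (iv D53) F228
theorem F331 : act 3 n53 = n53 := d26_1 D53 (iv D53) F229
theorem F332 : act 4 n53 = n37 := d31_1 D53 (iv D37) (iv F230)
theorem F333 : act 7 n53 = n53 := d39_2 D35 D53 (iv D53) (iv D35) F161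
theorem F334 : act 9 n53 = n53 := d41_2 F232 D53 (iv D53)
def n54 : Q := act 8 n35
theorem D54 : act 8 n35 = n54 := rfl
theorem F335 : act 0 n54 = n54 := d7_1 D54 (iv D54) F227
theorem F336 : act 1 n54 = n54 := d15_1 D54 (iv D54) F228
theorem F337 : act 3 n54 = n54 := d28_1 D54 (iv D54) F229
theorem F338 : act 4 n54 = n38 := d33_1 D54 (iv D38) (iv F230)
theorem F339 : act 7 n54 = n36 := d42_1 D54 (iv D36) D35
def n55 : Q := act 5 n36
theorem D55 : act 5 n36 = n55 := rfl
theorem F340 : act 0 n55 = n55 := d4_1 D55 (iv D55) F233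
theorem F341 : act 1 n55 = n55 := d12_1 D55 (iv D55) F234
theorem F342 : act 3 n55 = n55 := d25_1 D55 (iv D55) F235
theorem F343 : act 4 n55 = n55 := d30_1 D55 (iv D55) F236 F171 (iv F236)
theorem F344 : act 8 n55 = n55 := d37_2 D36 D55 (iv D55) (iv D36) F160
def n56 : Q := act 9 n36
theorem D56 : act 9 n36 = n56 := rfl
theorem F345 : act 0 n56 = n56 := d8_1 D56 (iv D56) F233
theorem F346 : act 1 n56 = n56 := d16_1 D56 (iv D56) F234
theorem F347 : act 3 n56 = n56 := d29_1 D56 (iv D56) F235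
theorem F348 : act 4 n56 = n39 := d34_1 D56 (iv D39) (iv F236)
theorem F349 : act 6 n56 = n56 := d41_1 D56 (iv D56) F237
theorem F350 : act 8 n56 = n56 := d44_1 D56 (iv D56) (iv D36) F162 D36
def n57 : Q := act 8 n37
theorem D57 : act 8 n37 = n57 := rfl
theorem F351 : act 0 n57 = n57 := d7_1 D57 (iv D57) F238
theorem F352 : act 1 n57 = n57 := d15_1 D57 (iv D57) F239
theorem F353 : act 3 n57 = n40 := d28_1 D57 (iv D40) (iv F240)
theorem F354 : act 6 n57 = n38 := d40_1 D57 (iv D38) D37
theorem F355 : act 7 n57 = n57 := d42_1 D57 (iv D57) F242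
def n58 : Q := act 9 n38
theorem D58 : act 9 n38 = n58 := rfl
theorem F356 : act 0 n58 = n58 := d8_1 D58 (iv D58) F244
theorem F357 : act 1 n58 = n58 := d16_1 D58 (iv D58) F245
theorem F358 : act 3 n58 = n41 := d29_1 D58 (iv D41) (iv F246)
theorem F359 : act 5 n58 = n58 := d38_1 D58 (iv D58) F247
theorem F360 : act 7 n58 = n39 := d43_1 D58 (iv D39) (iv F248)
theorem F361 : act 8 n58 = n58 := d44_1 D58 (iv D58) (iv D38) F167 D38
def n59 : Q := act 5 n40
theorem D59 : act 5 n40 = n59 := rfl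
theorem F362 : act 0 n59 = n59 := d4_1 D59 (iv D59) F255
theorem F363 : act 1 n59 = n59 := d12_1 D59 (iv D59) F256
theorem F364 : act 2 n59 = n59 := d19_1 D59 (iv D59) F257
theorem F365 : act 6 n59 = n59 := d35_2 (iv F259) D59 (iv D59) F259 F184
theorem F366 : act 7 n59 = n59 := d36_2 F260 D59 (iv D59)
theorem F367 : act 8 n59 = n59 := d37_2 D40 D59 (iv D59) (iv D40) F177
def n60 : Q := act 9 n40
theorem D60 : act 9 n40 = n60 := rfl
theorem F368 : act 0 n60 = n60 := d8_1 D60 (iv D60) F255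
theorem F369 : act 1 n60 = n60 := d16_1 D60 (iv D60) F256
theorem F370 : act 2 n60 = n60 := d23_1 D60 (iv D60) F257
theorem F371 : act 4 n60 = n60 := d34_1 D60 (iv D60) F258
theorem F372 : act 6 n60 = n41 := d41_1 D60 (iv D41) (iv F259)
theorem F373 : act 7 n60 = n60 := d43_1 D60 (iv D60) F260
theorem F374 : act 8 n60 = n60 := d44_1 D60 (iv D60) (iv D40) F179 D40
def n61 : Q := act 4 n42
theorem D61 : act 4 n42 = n61 := rfl
theorem F375 : act 0 n61 = n44 := d3_1 D61 (iv D44) (iv F268)
theorem F376 : act 1 n61 = n61 := d11_1 D61 (iv D61) F269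
theorem F377 : act 2 n61 = n61 := d18_1 D61 (iv D61) F270
theorem F378 : act 5 n61 = n61 := d30_2 D42 D61 (iv D61) (iv D42) F197
theorem F379 : act 6 n61 = n61 := d31_2 F272 D61 (iv D61)
theorem F380 : act 9 n61 = n61 := d34_2 F273 D61 (iv D61)
def n62 : Q := act 7 n42
theorem D62 : act 7 n42 = n62 := rfl
theorem F381 : act 0 n62 = n45 := d6_1 D62 (iv D45) (iv F268)
theorem F382 : act 1 n62 = n62 := d14_1 D62 (iv D62) F269
theorem F383 : act 2 n62 = n62 := d21_1 D62 (iv D62) F270
theorem F384 : act 3 n62 = n62 := d27_1 D62 (iv D62) F271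
theorem F385 : act 5 n62 = n43 := d36_1 D62 (iv D43) D42
theorem F386 : act 9 n62 = n62 := d43_2 F273 D62 (iv D62)
def n63 : Q := act 8 n42
theorem D63 : act 8 n42 = n63 := rfl
theorem F387 : act 0 n63 = n46 := d7_1 D63 (iv D46) (iv F268)
theorem F388 : act 1 n63 = n63 := d15_1 D63 (iv D63) F269
theorem F389 : act 2 n63 = n63 := d22_1 D63 (iv D63) F270
theorem F390 : act 3 n63 = n63 := d28_1 D63 (iv D63) F271
theorem F391 : act 5 n63 = n63 := d37_1 D63 (iv D63) (iv D42) F198 D42
theorem F392 : act 6 n63 = n63 := d40_1 D63 (iv D63) F272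
def n64 : Q := act 3 n44
theorem D64 : act 3 n44 = n64 := rfl
theorem F393 : act 1 n64 = n47 := d10_1 D64 (iv D47) (iv F282)
theorem F394 : act 4 n64 = n64 := d24_2 D44 D64 (iv D64) (iv D44) F202
theorem F395 : act 5 n64 = n64 := d25_2 F284 D64 (iv D64)
theorem F396 : act 6 n64 = n64 := d26_2 F285 D64 (iv D64)
theorem F397 : act 9 n64 = n64 := d29_2 F286 D64 (iv D64)
def n65 : Q := act 7 n44
theorem D65 : act 7 n44 = n65 := rfl
theorem F398 : act 1 n65 = n48 := d14_1 D65 (iv D48) (iv F282)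
theorem F399 : act 2 n65 = n65 := d21_1 D65 (iv D65) F283
theorem F400 : act 4 n65 = n45 := d32_1 D65 (iv D45) D44
theorem F401 : act 5 n65 = n65 := d36_1 D65 (iv D65) F284
theorem F402 : act 9 n65 = n65 := d43_2 F286 D65 (iv D65)
def n66 : Q := act 8 n44
theorem D66 : act 8 n44 = n66 := rfl
theorem F403 : act 1 n66 = n49 := d15_1 D66 (iv D49) (iv F282)
theorem F404 : act 2 n66 = n66 := d22_1 D66 (iv D66) F283
theorem F405 : act 4 n66 = n46 := d33_1 D66 (iv D46) D44
theorem F406 : act 6 n66 = n66 := d40_1 D66 (iv D66) F285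
def n67 : Q := act 6 n45
theorem D67 : act 6 n45 = n67 := rfl
theorem F407 : act 1 n67 = n50 := d13_1 D67 (iv D50) (iv F287)
theorem F408 : act 2 n67 = n67 := d20_1 D67 (iv D67) F288
theorem F409 : act 3 n67 = n67 := d26_1 D67 (iv D67) F289
theorem F410 : act 5 n67 = n67 := d35_1 D67 (iv D67) F290 F209 (iv F290)
theorem F411 : act 7 n67 = n67 := d39_2 D45 D67 (iv D67) (iv D45) F203
theorem F412 : act 9 n67 = n67 := d41_2 F291 D67 (iv D67)
def n68 : Q := act 8 n45
theorem D68 : act 8 n45 = n68 := rfl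
theorem F413 : act 1 n68 = n51 := d15_1 D68 (iv D51) (iv F287)
theorem F414 : act 2 n68 = n68 := d22_1 D68 (iv D68) F288
theorem F415 : act 3 n68 = n68 := d28_1 D68 (iv D68) F289
theorem F416 : act 5 n68 = n68 := d37_1 D68 (iv D68) F290 F210 (iv F290)
theorem F417 : act 7 n68 = n46 := d42_1 D68 (iv D46) D45
def n69 : Q := act 9 n46
theorem D69 : act 9 n46 = n69 := rfl
theorem F418 : act 1 n69 = n52 := d16_1 D69 (iv D52) (iv F292)
theorem F419 : act 2 n69 = n69 := d23_1 D69 (iv D69) F293
theorem F420 : act 3 n69 = n69 := d29_1 D69 (iv D69) F294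
theorem F421 : act 5 n69 = n69 := d38_1 D69 (iv D69) F295
theorem F422 : act 6 n69 = n69 := d41_1 D69 (iv D69) F296
theorem F423 : act 8 n69 = n69 := d44_1 D69 (iv D69) (iv D46) F204 D46
def n70 : Q := act 7 n47
theorem D70 : act 7 n47 = n70 := rfl
theorem F424 : act 0 n70 = n70 := d6_1 D70 (iv D70) F297
theorem F425 : act 2 n70 = n70 := d21_1 D70 (iv D70) F298
theorem F426 : act 3 n70 = n48 := d27_1 D70 (iv D48) D47
theorem F427 : act 4 n70 = n70 := d32_1 D70 (iv D70) F299
theorem F428 : act 5 n70 = n70 := d36_1 D70 (iv D70) F300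
theorem F429 : act 9 n70 = n70 := d43_2 F302 D70 (iv D70)
def n71 : Q := act 8 n47
theorem D71 : act 8 n47 = n71 := rfl
theorem F430 : act 0 n71 = n71 := d7_1 D71 (iv D71) F297
theorem F431 : act 2 n71 = n71 := d22_1 D71 (iv D71) F298
theorem F432 : act 3 n71 = n49 := d28_1 D71 (iv D49) D47
theorem F433 : act 4 n71 = n71 := d33_1 D71 (iv D71) F299
theorem F434 : act 6 n71 = n71 := d40_1 D71 (iv D71) F301
def n72 : Q := act 6 n48
theorem D72 : act 6 n48 = n72 := rfl
theorem F435 : act 0 n72 = n72 := d5_1 D72 (iv D72) F303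
theorem F436 : act 2 n72 = n53 := d20_1 D72 (iv D53) (iv F304)
theorem F437 : act 4 n72 = n50 := d31_1 D72 (iv D50) (iv F305)
theorem F438 : act 7 n72 = n72 := d39_2 D48 D72 (iv D72) (iv D48) F215
theorem F439 : act 9 n72 = n72 := d41_2 F307 D72 (iv D72)
def n73 : Q := act 8 n48
theorem D73 : act 8 n48 = n73 := rfl
theorem F440 : act 0 n73 = n73 := d7_1 D73 (iv D73) F303
theorem F441 : act 2 n73 = n54 := d22_1 D73 (iv D54) (iv F304)
theorem F442 : act 4 n73 = n51 := d33_1 D73 (iv D51) (iv F305)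
theorem F443 : act 7 n73 = n49 := d42_1 D73 (iv D49) D48
def n74 : Q := act 5 n49
theorem D74 : act 5 n49 = n74 := rfl
theorem F444 : act 0 n74 = n74 := d4_1 D74 (iv D74) F308
theorem F445 : act 2 n74 = n55 := d19_1 D74 (iv D55) (iv F309)
theorem F446 : act 4 n74 = n74 := d30_1 D74 (iv D74) F310 F225 (iv F310)
theorem F447 : act 8 n74 = n74 := d37_2 D49 D74 (iv D74) (iv D49) F214
def n75 : Q := act 9 n49
theorem D75 : act 9 n49 = n75 := rfl
theorem F448 : act 0 n75 = n75 := d8_1 D75 (iv D75) F308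
theorem F449 : act 2 n75 = n56 := d23_1 D75 (iv D56) (iv F309)
theorem F450 : act 4 n75 = n52 := d34_1 D75 (iv D52) (iv F310)
theorem F451 : act 6 n75 = n75 := d41_1 D75 (iv D75) F311
theorem F452 : act 8 n75 = n75 := d44_1 D75 (iv D75) (iv D49) F216 D49
def n76 : Q := act 8 n50
theorem D76 : act 8 n50 = n76 := rfl
theorem F453 : act 0 n76 = n76 := d7_1 D76 (iv D76) F312
theorem F454 : act 2 n76 = n57 := d22_1 D76 (iv D57) (iv F313)
theorem F455 : act 3 n76 = n76 := d28_1 D76 (iv D76) F314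
theorem F456 : act 6 n76 = n51 := d40_1 D76 (iv D51) D50
theorem F457 : act 7 n76 = n76 := d42_1 D76 (iv D76) F316
def n77 : Q := act 9 n51
theorem D77 : act 9 n51 = n77 := rfl
theorem F458 : act 0 n77 = n77 := d8_1 D77 (iv D77) F318
theorem F459 : act 2 n77 = n58 := d23_1 D77 (iv D58) (iv F319)
theorem F460 : act 3 n77 = n77 := d29_1 D77 (iv D77) F320
theorem F461 : act 5 n77 = n77 := d38_1 D77 (iv D77) F321
theorem F462 : act 7 n77 = n52 := d43_1 D77 (iv D52) (iv F322)
theorem F463 : act 8 n77 = n77 := d44_1 D77 (iv D77) (iv D51) F221 D51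
def n78 : Q := act 5 n53
theorem D78 : act 5 n53 = n78 := rfl
theorem F464 : act 0 n78 = n78 := d4_1 D78 (iv D78) F329
theorem F465 : act 1 n78 = n78 := d12_1 D78 (iv D78) F330
theorem F466 : act 3 n78 = n78 := d25_1 D78 (iv D78) F331
theorem F467 : act 4 n78 = n78 := d30_1 D78 (iv D78) F332 F241 (iv F332)
theorem F468 : act 6 n78 = n78 := d35_2 D53 D78 (iv D78) (iv D53) F231
theorem F469 : act 7 n78 = n78 := d36_2 F333 D78 (iv D78)
theorem F470 : act 9 n78 = n78 := d38_2 F334 D78 (iv D78)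
def n79 : Q := act 8 n53
theorem D79 : act 8 n53 = n79 := rfl
theorem F471 : act 0 n79 = n79 := d7_1 D79 (iv D79) F329
theorem F472 : act 1 n79 = n79 := d15_1 D79 (iv D79) F330
theorem F473 : act 3 n79 = n79 := d28_1 D79 (iv D79) F331
theorem F474 : act 4 n79 = n57 := d33_1 D79 (iv D57) (iv F332)
theorem F475 : act 6 n79 = n54 := d40_1 D79 (iv D54) D53
theorem F476 : act 7 n79 = n79 := d42_1 D79 (iv D79) F333
def n80 : Q := act 5 n54
theorem D80 : act 5 n54 = n80 := rfl
theorem F477 : act 0 n80 = n80 := d4_1 D80 (iv D80) F335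
theorem F478 : act 1 n80 = n80 := d12_1 D80 (iv D80) F336
theorem F479 : act 3 n80 = n80 := d25_1 D80 (iv D80) F337
theorem F480 : act 4 n80 = n80 := d30_1 D80 (iv D80) F338 F247 (iv F338)
theorem F481 : act 7 n80 = n55 := d36_2 (iv F339) D80 (iv D55)
theorem F482 : act 8 n80 = n80 := d37_2 D54 D80 (iv D80) (iv D54) F231
def n81 : Q := act 9 n54
theorem D81 : act 9 n54 = n81 := rfl
theorem F483 : act 0 n81 = n81 := d8_1 D81 (iv D81) F335
theorem F484 : act 1 n81 = n81 := d16_1 D81 (iv D81) F336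
theorem F485 : act 3 n81 = n81 := d29_1 D81 (iv D81) F337
theorem F486 : act 4 n81 = n58 := d34_1 D81 (iv D58) (iv F338)
theorem F487 : act 7 n81 = n56 := d43_1 D81 (iv D56) (iv F339)
theorem F488 : act 8 n81 = n81 := d44_1 D81 (iv D81) (iv D54) F232 D54
def n82 : Q := act 6 n55
theorem D82 : act 6 n55 = n82 := rfl
theorem F489 : act 0 n82 = n82 := d5_1 D82 (iv D82) F340
theorem F490 : act 1 n82 = n82 := d13_1 D82 (iv D82) F341
theorem F491 : act 3 n82 = n82 := d26_1 D82 (iv D82) F342
theorem F492 : act 4 n82 = n82 := d31_1 D82 (iv D82) F343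
theorem F493 : act 5 n82 = n82 := d35_1 D82 (iv D82) (iv D55) F237 D55
theorem F494 : act 8 n82 = n82 := d40_2 F344 D82 (iv D82)
def n83 : Q := act 9 n55
theorem D83 : act 9 n55 = n83 := rfl
theorem F495 : act 0 n83 = n83 := d8_1 D83 (iv D83) F340
theorem F496 : act 1 n83 = n83 := d16_1 D83 (iv D83) F341
theorem F497 : act 3 n83 = n83 := d29_1 D83 (iv D83) F342
theorem F498 : act 4 n83 = n83 := d34_1 D83 (iv D83) F343
theorem F499 : act 5 n83 = n56 := d38_1 D83 (iv D56) D55
def n84 : Q := act 5 n57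
theorem D84 : act 5 n57 = n84 := rfl
theorem F500 : act 0 n84 = n84 := d4_1 D84 (iv D84) F351
theorem F501 : act 1 n84 = n84 := d12_1 D84 (iv D84) F352
theorem F502 : act 3 n84 = n59 := d25_1 D84 (iv D59) (iv F353)
theorem F503 : act 6 n84 = n84 := d35_2 (iv F354) D84 (iv D84) F354 F247
theorem F504 : act 7 n84 = n84 := d36_2 F355 D84 (iv D84)
theorem F505 : act 8 n84 = n84 := d37_2 D57 D84 (iv D84) (iv D57) F241
def n85 : Q := act 9 n57
theorem D85 : act 9 n57 = n85 := rfl
theorem F506 : act 0 n85 = n85 := d8_1 D85 (iv D85) F351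
theorem F507 : act 1 n85 = n85 := d16_1 D85 (iv D85) F352
theorem F508 : act 3 n85 = n60 := d29_1 D85 (iv D60) (iv F353)
theorem F509 : act 6 n85 = n58 := d41_1 D85 (iv D58) (iv F354)
theorem F510 : act 7 n85 = n85 := d43_1 D85 (iv D85) F355
theorem F511 : act 8 n85 = n85 := d44_1 D85 (iv D85) (iv D57) F243 D57
def n86 : Q := act 4 n59
theorem D86 : act 4 n59 = n86 := rfl
theorem F512 : act 0 n86 = n86 := d3_1 D86 (iv D86) F362
theorem F513 : act 1 n86 = n86 := d11_1 D86 (iv D86) F363
theorem F514 : act 2 n86 = n86 := d18_1 D86 (iv D86) F364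
theorem F515 : act 5 n86 = n86 := d30_2 D59 D86 (iv D86) (iv D59) F258
theorem F516 : act 6 n86 = n86 := d31_2 F365 D86 (iv D86)
theorem F517 : act 7 n86 = n86 := d32_2 F366 D86 (iv D86)
theorem F518 : act 8 n86 = n86 := d33_2 F367 D86 (iv D86)
def n87 : Q := act 9 n59
theorem D87 : act 9 n59 = n87 := rfl
theorem F519 : act 0 n87 = n87 := d8_1 D87 (iv D87) F362
theorem F520 : act 1 n87 = n87 := d16_1 D87 (iv D87) F363
theorem F521 : act 2 n87 = n87 := d23_1 D87 (iv D87) F364
theorem F522 : act 5 n87 = n60 := d38_1 D87 (iv D60) D59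
theorem F523 : act 6 n87 = n87 := d41_1 D87 (iv D87) F365
theorem F524 : act 7 n87 = n87 := d43_1 D87 (iv D87) F366
def n88 : Q := act 3 n61
theorem D88 : act 3 n61 = n88 := rfl
theorem F525 : act 0 n88 = n64 := d2_1 D88 (iv D64) (iv F375)
theorem F526 : act 1 n88 = n88 := d10_1 D88 (iv D88) F376
theorem F527 : act 4 n88 = n88 := d24_2 D61 D88 (iv D88) (iv D61) F271
theorem F528 : act 5 n88 = n88 := d25_2 F378 D88 (iv D88)
theorem F529 : act 6 n88 = n88 := d26_2 F379 D88 (iv D88)
theorem F530 : act 9 n88 = n88 := d29_2 F380 D88 (iv D88)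
def n89 : Q := act 7 n61
theorem D89 : act 7 n61 = n89 := rfl
theorem F531 : act 0 n89 = n65 := d6_1 D89 (iv D65) (iv F375)
theorem F532 : act 1 n89 = n89 := d14_1 D89 (iv D89) F376
theorem F533 : act 2 n89 = n89 := d21_1 D89 (iv D89) F377
theorem F534 : act 4 n89 = n62 := d32_1 D89 (iv D62) D61
theorem F535 : act 5 n89 = n89 := d36_1 D89 (iv D89) F378
theorem F536 : act 9 n89 = n89 := d43_2 F380 D89 (iv D89)
def n90 : Q := act 8 n61
theorem D90 : act 8 n61 = n90 := rfl
theorem F537 : act 0 n90 = n66 := d7_1 D90 (iv D66) (iv F375)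
theorem F538 : act 1 n90 = n90 := d15_1 D90 (iv D90) F376
theorem F539 : act 2 n90 = n90 := d22_1 D90 (iv D90) F377
theorem F540 : act 4 n90 = n63 := d33_1 D90 (iv D63) D61
theorem F541 : act 6 n90 = n90 := d40_1 D90 (iv D90) F379
def n91 : Q := act 6 n62
theorem D91 : act 6 n62 = n91 := rfl
theorem F542 : act 0 n91 = n67 := d5_1 D91 (iv D67) (iv F381)
theorem F543 : act 1 n91 = n91 := d13_1 D91 (iv D91) F382
theorem F544 : act 2 n91 = n91 := d20_1 D91 (iv D91) F383
theorem F545 : act 3 n91 = n91 := d26_1 D91 (iv D91) F384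
theorem F546 : act 5 n91 = n91 := d35_1 D91 (iv D91) F385 F279 (iv F385)
theorem F547 : act 7 n91 = n91 := d39_2 D62 D91 (iv D91) (iv D62) F272
theorem F548 : act 9 n91 = n91 := d41_2 F386 D91 (iv D91)
def n92 : Q := act 8 n62
theorem D92 : act 8 n62 = n92 := rfl
theorem F549 : act 0 n92 = n68 := d7_1 D92 (iv D68) (iv F381)
theorem F550 : act 1 n92 = n92 := d15_1 D92 (iv D92) F382
theorem F551 : act 2 n92 = n92 := d22_1 D92 (iv D92) F383
theorem F552 : act 3 n92 = n92 := d28_1 D92 (iv D92) F384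
theorem F553 : act 5 n92 = n92 := d37_1 D92 (iv D92) F385 F280 (iv F385)
theorem F554 : act 7 n92 = n63 := d42_1 D92 (iv D63) D62
def n93 : Q := act 9 n63
theorem D93 : act 9 n63 = n93 := rfl
theorem F555 : act 0 n93 = n69 := d8_1 D93 (iv D69) (iv F387)
theorem F556 : act 1 n93 = n93 := d16_1 D93 (iv D93) F388
theorem F557 : act 2 n93 = n93 := d23_1 D93 (iv D93) F389
theorem F558 : act 3 n93 = n93 := d29_1 D93 (iv D93) F390
theorem F559 : act 5 n93 = n93 := d38_1 D93 (iv D93) F391
theorem F560 : act 6 n93 = n93 := d41_1 D93 (iv D93) F392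
theorem F561 : act 8 n93 = n93 := d44_1 D93 (iv D93) (iv D63) F273 D63
def n94 : Q := act 2 n64
theorem D94 : act 2 n64 = n94 := rfl
theorem F562 : act 1 n94 = n94 := d9_1 D94 (iv D94) F393 F298 (iv F393)
theorem F563 : act 3 n94 = n94 := d17_2 D64 D94 (iv D94) (iv D64) F283
theorem F564 : act 4 n94 = n94 := d18_2 F394 D94 (iv D94)
theorem F565 : act 5 n94 = n94 := d19_2 F395 D94 (iv D94)
theorem F566 : act 6 n94 = n94 := d20_2 F396 D94 (iv D94)
theorem F567 : act 9 n94 = n94 := d23_2 F397 D94 (iv D94)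
def n95 : Q := act 7 n64
theorem D95 : act 7 n64 = n95 := rfl
theorem F568 : act 1 n95 = n70 := d14_1 D95 (iv D70) (iv F393)
theorem F569 : act 3 n95 = n65 := d27_1 D95 (iv D65) D64
theorem F570 : act 4 n95 = n95 := d32_1 D95 (iv D95) F394
theorem F571 : act 5 n95 = n95 := d36_1 D95 (iv D95) F395
theorem F572 : act 9 n95 = n95 := d43_2 F397 D95 (iv D95)
def n96 : Q := act 8 n64
theorem D96 : act 8 n64 = n96 := rfl
theorem F573 : act 1 n96 = n71 := d15_1 D96 (iv D71) (iv F393)
theorem F574 : act 3 n96 = n66 := d28_1 D96 (iv D66) D64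
theorem F575 : act 4 n96 = n96 := d33_1 D96 (iv D96) F394
theorem F576 : act 6 n96 = n96 := d40_1 D96 (iv D96) F396
def n97 : Q := act 6 n65
theorem D97 : act 6 n65 = n97 := rfl
theorem F577 : act 1 n97 = n72 := d13_1 D97 (iv D72) (iv F398)
theorem F578 : act 2 n97 = n97 := d20_1 D97 (iv D97) F399
theorem F579 : act 4 n97 = n67 := d31_1 D97 (iv D67) (iv F400)
theorem F580 : act 7 n97 = n97 := d39_2 D65 D97 (iv D97) (iv D65) F285
theorem F581 : act 9 n97 = n97 := d41_2 F402 D97 (iv D97)
def n98 : Q := act 8 n65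
theorem D98 : act 8 n65 = n98 := rfl
theorem F582 : act 1 n98 = n73 := d15_1 D98 (iv D73) (iv F398)
theorem F583 : act 2 n98 = n98 := d22_1 D98 (iv D98) F399
theorem F584 : act 4 n98 = n68 := d33_1 D98 (iv D68) (iv F400)
theorem F585 : act 7 n98 = n66 := d42_1 D98 (iv D66) D65
def n99 : Q := act 5 n66
theorem D99 : act 5 n66 = n99 := rfl
theorem F586 : act 1 n99 = n74 := d12_1 D99 (iv D74) (iv F403)
theorem F587 : act 2 n99 = n99 := d19_1 D99 (iv D99) F404
theorem F588 : act 4 n99 = n99 := d30_1 D99 (iv D99) F405 F295 (iv F405)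
theorem F589 : act 8 n99 = n99 := d37_2 D66 D99 (iv D99) (iv D66) F284
def n100 : Q := act 9 n66
theorem D100 : act 9 n66 = n100 := rfl
theorem F590 : act 1 n100 = n75 := d16_1 D100 (iv D75) (iv F403)
theorem F591 : act 2 n100 = n100 := d23_1 D100 (iv D100) F404
theorem F592 : act 4 n100 = n69 := d34_1 D100 (iv D69) (iv F405)
theorem F593 : act 6 n100 = n100 := d41_1 D100 (iv D100) F406
theorem F594 : act 8 n100 = n100 := d44_1 D100 (iv D100) (iv D66) F286 D66
def n101 : Q := act 8 n67
theorem D101 : act 8 n67 = n101 := rfl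
theorem F595 : act 1 n101 = n76 := d15_1 D101 (iv D76) (iv F407)
theorem F596 : act 2 n101 = n101 := d22_1 D101 (iv D101) F408
theorem F597 : act 3 n101 = n101 := d28_1 D101 (iv D101) F409
theorem F598 : act 6 n101 = n68 := d40_1 D101 (iv D68) D67
theorem F599 : act 7 n101 = n101 := d42_1 D101 (iv D101) F411
def n102 : Q := act 9 n68
theorem D102 : act 9 n68 = n102 := rfl
theorem F600 : act 1 n102 = n77 := d16_1 D102 (iv D77) (iv F413)
theorem F601 : act 2 n102 = n102 := d23_1 D102 (iv D102) F414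
theorem F602 : act 3 n102 = n102 := d29_1 D102 (iv D102) F415
theorem F603 : act 5 n102 = n102 := d38_1 D102 (iv D102) F416
theorem F604 : act 7 n102 = n69 := d43_1 D102 (iv D69) (iv F417)
theorem F605 : act 8 n102 = n102 := d44_1 D102 (iv D102) (iv D68) F291 D68
def n103 : Q := act 6 n70
theorem D103 : act 6 n70 = n103 := rfl
theorem F606 : act 0 n103 = n103 := d5_1 D103 (iv D103) F424
theorem F607 : act 2 n103 = n103 := d20_1 D103 (iv D103) F425
theorem F608 : act 3 n103 = n72 := d26_1 D103 (iv D72) (iv F426)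
theorem F609 : act 4 n103 = n103 := d31_1 D103 (iv D103) F427
theorem F610 : act 7 n103 = n103 := d39_2 D70 D103 (iv D103) (iv D70) F301
theorem F611 : act 9 n103 = n103 := d41_2 F429 D103 (iv D103)
def n104 : Q := act 8 n70
theorem D104 : act 8 n70 = n104 := rfl
theorem F612 : act 0 n104 = n104 := d7_1 D104 (iv D104) F424
theorem F613 : act 2 n104 = n104 := d22_1 D104 (iv D104) F425
theorem F614 : act 3 n104 = n73 := d28_1 D104 (iv D73) (iv F426)
theorem F615 : act 4 n104 = n104 := d33_1 D104 (iv D104) F427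
theorem F616 : act 7 n104 = n71 := d42_1 D104 (iv D71) D70
def n105 : Q := act 5 n71
theorem D105 : act 5 n71 = n105 := rfl
theorem F617 : act 0 n105 = n105 := d4_1 D105 (iv D105) F430
theorem F618 : act 2 n105 = n105 := d19_1 D105 (iv D105) F431
theorem F619 : act 3 n105 = n74 := d25_1 D105 (iv D74) (iv F432)
theorem F620 : act 8 n105 = n105 := d37_2 D71 D105 (iv D105) (iv D71) F300
def n106 : Q := act 9 n71
theorem D106 : act 9 n71 = n106 := rfl
theorem F621 : act 0 n106 = n106 := d8_1 D106 (iv D106) F430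
theorem F622 : act 2 n106 = n106 := d23_1 D106 (iv D106) F431
theorem F623 : act 3 n106 = n75 := d29_1 D106 (iv D75) (iv F432)
theorem F624 : act 4 n106 = n106 := d34_1 D106 (iv D106) F433
theorem F625 : act 6 n106 = n106 := d41_1 D106 (iv D106) F434
theorem F626 : act 8 n106 = n106 := d44_1 D106 (iv D106) (iv D71) F302 D71
def n107 : Q := act 5 n72
theorem D107 : act 5 n72 = n107 := rfl
theorem F627 : act 0 n107 = n107 := d4_1 D107 (iv D107) F435
theorem F628 : act 2 n107 = n78 := d19_1 D107 (iv D78) (iv F436)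
theorem F629 : act 4 n107 = n107 := d30_1 D107 (iv D107) F437 F315 (iv F437)
theorem F630 : act 6 n107 = n107 := d35_2 D72 D107 (iv D107) (iv D72) F306
theorem F631 : act 7 n107 = n107 := d36_2 F438 D107 (iv D107)
theorem F632 : act 9 n107 = n107 := d38_2 F439 D107 (iv D107)
def n108 : Q := act 8 n72
theorem D108 : act 8 n72 = n108 := rfl
theorem F633 : act 0 n108 = n108 := d7_1 D108 (iv D108) F435
theorem F634 : act 2 n108 = n79 := d22_1 D108 (iv D79) (iv F436)
theorem F635 : act 4 n108 = n76 := d33_1 D108 (iv D76) (iv F437)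
theorem F636 : act 6 n108 = n73 := d40_1 D108 (iv D73) D72
theorem F637 : act 7 n108 = n108 := d42_1 D108 (iv D108) F438
def n109 : Q := act 5 n73
theorem D109 : act 5 n73 = n109 := rfl
theorem F638 : act 0 n109 = n109 := d4_1 D109 (iv D109) F440
theorem F639 : act 2 n109 = n80 := d19_1 D109 (iv D80) (iv F441)
theorem F640 : act 4 n109 = n109 := d30_1 D109 (iv D109) F442 F321 (iv F442)
theorem F641 : act 7 n109 = n74 := d36_2 (iv F443) D109 (iv D74)
theorem F642 : act 8 n109 = n109 := d37_2 D73 D109 (iv D109) (iv D73) F306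
def n110 : Q := act 9 n73
theorem D110 : act 9 n73 = n110 := rfl
theorem F643 : act 0 n110 = n110 := d8_1 D110 (iv D110) F440
theorem F644 : act 2 n110 = n81 := d23_1 D110 (iv D81) (iv F441)
theorem F645 : act 4 n110 = n77 := d34_1 D110 (iv D77) (iv F442)
theorem F646 : act 7 n110 = n75 := d43_1 D110 (iv D75) (iv F443)
theorem F647 : act 8 n110 = n110 := d44_1 D110 (iv D110) (iv D73) F307 D73
def n111 : Q := act 6 n74
theorem D111 : act 6 n74 = n111 := rfl
theorem F648 : act 0 n111 = n111 := d5_1 D111 (iv D111) F444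
theorem F649 : act 2 n111 = n82 := d20_1 D111 (iv D82) (iv F445)
theorem F650 : act 4 n111 = n111 := d31_1 D111 (iv D111) F446
theorem F651 : act 5 n111 = n111 := d35_1 D111 (iv D111) (iv D74) F311 D74
theorem F652 : act 8 n111 = n111 := d40_2 F447 D111 (iv D111)
def n112 : Q := act 9 n74
theorem D112 : act 9 n74 = n112 := rfl
theorem F653 : act 0 n112 = n112 := d8_1 D112 (iv D112) F444
theorem F654 : act 2 n112 = n83 := d23_1 D112 (iv D83) (iv F445)
theorem F655 : act 4 n112 = n112 := d34_1 D112 (iv D112) F446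
theorem F656 : act 5 n112 = n75 := d38_1 D112 (iv D75) D74
def n113 : Q := act 5 n76
theorem D113 : act 5 n76 = n113 := rfl
theorem F657 : act 0 n113 = n113 := d4_1 D113 (iv D113) F453
theorem F658 : act 2 n113 = n84 := d19_1 D113 (iv D84) (iv F454)
theorem F659 : act 3 n113 = n113 := d25_1 D113 (iv D113) F455
theorem F660 : act 6 n113 = n113 := d35_2 (iv F456) D113 (iv D113) F456 F321
theorem F661 : act 7 n113 = n113 := d36_2 F457 D113 (iv D113)
theorem F662 : act 8 n113 = n113 := d37_2 D76 D113 (iv D113) (iv D76) F315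
def n114 : Q := act 9 n76
theorem D114 : act 9 n76 = n114 := rfl
theorem F663 : act 0 n114 = n114 := d8_1 D114 (iv D114) F453
theorem F664 : act 2 n114 = n85 := d23_1 D114 (iv D85) (iv F454)
theorem F665 : act 3 n114 = n114 := d29_1 D114 (iv D114) F455
theorem F666 : act 6 n114 = n77 := d41_1 D114 (iv D77) (iv F456)
theorem F667 : act 7 n114 = n114 := d43_1 D114 (iv D114) F457
theorem F668 : act 8 n114 = n114 := d44_1 D114 (iv D114) (iv D76) F317 D76
def n115 : Q := act 8 n78
theorem D115 : act 8 n78 = n115 := rfl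
theorem F669 : act 0 n115 = n115 := d7_1 D115 (iv D115) F464
theorem F670 : act 1 n115 = n115 := d15_1 D115 (iv D115) F465
theorem F671 : act 3 n115 = n115 := d28_1 D115 (iv D115) F466
theorem F672 : act 4 n115 = n115 := d33_1 D115 (iv D115) F467
theorem F673 : act 6 n115 = n115 := d40_1 D115 (iv D115) F468
theorem F674 : act 7 n115 = n115 := d42_1 D115 (iv D115) F469
def n116 : Q := act 5 n79
theorem D116 : act 5 n79 = n116 := rfl
theorem F675 : act 0 n116 = n116 := d4_1 D116 (iv D116) F471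
theorem F676 : act 1 n116 = n116 := d12_1 D116 (iv D116) F472
theorem F677 : act 3 n116 = n116 := d25_1 D116 (iv D116) F473
theorem F678 : act 7 n116 = n116 := d36_2 F476 D116 (iv D116)
def n117 : Q := act 9 n79
theorem D117 : act 9 n79 = n117 := rfl
theorem F679 : act 0 n117 = n117 := d8_1 D117 (iv D117) F471
theorem F680 : act 1 n117 = n117 := d16_1 D117 (iv D117) F472
theorem F681 : act 3 n117 = n117 := d29_1 D117 (iv D117) F473
theorem F682 : act 4 n117 = n85 := d34_1 D117 (iv D85) (iv F474)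
theorem F683 : act 6 n117 = n81 := d41_1 D117 (iv D81) (iv F475)
theorem F684 : act 7 n117 = n117 := d43_1 D117 (iv D117) F476
theorem F685 : act 8 n117 = n117 := d44_1 D117 (iv D117) (iv D79) F334 D79
def n118 : Q := act 6 n80
theorem D118 : act 6 n80 = n118 := rfl
theorem F686 : act 0 n118 = n118 := d5_1 D118 (iv D118) F477
theorem F687 : act 1 n118 = n118 := d13_1 D118 (iv D118) F478
theorem F688 : act 3 n118 = n118 := d26_1 D118 (iv D118) F479
theorem F689 : act 4 n118 = n118 := d31_1 D118 (iv D118) F480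
theorem F690 : act 8 n118 = n118 := d40_2 F482 D118 (iv D118)
def n119 : Q := act 9 n80
theorem D119 : act 9 n80 = n119 := rfl
theorem F691 : act 0 n119 = n119 := d8_1 D119 (iv D119) F477
theorem F692 : act 1 n119 = n119 := d16_1 D119 (iv D119) F478
theorem F693 : act 3 n119 = n119 := d29_1 D119 (iv D119) F479
theorem F694 : act 4 n119 = n119 := d34_1 D119 (iv D119) F480
theorem F695 : act 5 n119 = n81 := d38_1 D119 (iv D81) D80
theorem F696 : act 7 n119 = n83 := d43_1 D119 (iv D83) (iv F481)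
def n120 : Q := act 7 n82
theorem D120 : act 7 n82 = n120 := rfl
theorem F697 : act 0 n120 = n120 := d6_1 D120 (iv D120) F489
theorem F698 : act 1 n120 = n120 := d14_1 D120 (iv D120) F490
theorem F699 : act 3 n120 = n120 := d27_1 D120 (iv D120) F491
theorem F700 : act 4 n120 = n120 := d32_1 D120 (iv D120) F492
theorem F701 : act 5 n120 = n120 := d36_1 D120 (iv D120) F493
theorem F702 : act 8 n120 = n120 := d42_2 F494 D120 (iv D120)
def n121 : Q := act 9 n82
theorem D121 : act 9 n82 = n121 := rfl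
theorem F703 : act 0 n121 = n121 := d8_1 D121 (iv D121) F489
theorem F704 : act 1 n121 = n121 := d16_1 D121 (iv D121) F490
theorem F705 : act 3 n121 = n121 := d29_1 D121 (iv D121) F491
theorem F706 : act 4 n121 = n121 := d34_1 D121 (iv D121) F492
theorem F707 : act 5 n121 = n121 := d38_1 D121 (iv D121) F493
theorem F708 : act 6 n121 = n83 := d41_1 D121 (iv D83) D82
def n122 : Q := act 8 n83
theorem D122 : act 8 n83 = n122 := rfl
theorem F709 : act 0 n122 = n122 := d7_1 D122 (iv D122) F495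
theorem F710 : act 1 n122 = n122 := d15_1 D122 (iv D122) F496
theorem F711 : act 3 n122 = n122 := d28_1 D122 (iv D122) F497
theorem F712 : act 4 n122 = n122 := d33_1 D122 (iv D122) F498
theorem F713 : act 5 n122 = n122 := d37_1 D122 (iv D122) F499 F350 (iv F499)
theorem F714 : act 9 n122 = n122 := d44_2 D83 D122 (iv D122) (iv D83) F344
def n123 : Q := act 4 n84
theorem D123 : act 4 n84 = n123 := rfl
theorem F715 : act 0 n123 = n123 := d3_1 D123 (iv D123) F500
theorem F716 : act 1 n123 = n123 := d11_1 D123 (iv D123) F501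
theorem F717 : act 6 n123 = n123 := d31_2 F503 D123 (iv D123)
theorem F718 : act 7 n123 = n123 := d32_2 F504 D123 (iv D123)
theorem F719 : act 8 n123 = n123 := d33_2 F505 D123 (iv D123)
def n124 : Q := act 9 n84
theorem D124 : act 9 n84 = n124 := rfl
theorem F720 : act 0 n124 = n124 := d8_1 D124 (iv D124) F500
theorem F721 : act 1 n124 = n124 := d16_1 D124 (iv D124) F501
theorem F722 : act 3 n124 = n87 := d29_1 D124 (iv D87) (iv F502)
theorem F723 : act 5 n124 = n85 := d38_1 D124 (iv D85) D84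
theorem F724 : act 6 n124 = n124 := d41_1 D124 (iv D124) F503
theorem F725 : act 7 n124 = n124 := d43_1 D124 (iv D124) F504
def n125 : Q := act 3 n86
theorem D125 : act 3 n86 = n125 := rfl
theorem F726 : act 0 n125 = n125 := d2_1 D125 (iv D125) F512
theorem F727 : act 1 n125 = n125 := d10_1 D125 (iv D125) F513
theorem F728 : act 5 n125 = n125 := d25_2 F515 D125 (iv D125)
theorem F729 : act 6 n125 = n125 := d26_2 F516 D125 (iv D125)
theorem F730 : act 7 n125 = n125 := d27_2 F517 D125 (iv D125)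
theorem F731 : act 8 n125 = n125 := d28_2 F518 D125 (iv D125)
def n126 : Q := act 9 n86
theorem D126 : act 9 n86 = n126 := rfl
theorem F732 : act 0 n126 = n126 := d8_1 D126 (iv D126) F512
theorem F733 : act 1 n126 = n126 := d16_1 D126 (iv D126) F513
theorem F734 : act 2 n126 = n126 := d23_1 D126 (iv D126) F514
theorem F735 : act 4 n126 = n87 := d34_1 D126 (iv D87) D86
theorem F736 : act 5 n126 = n126 := d38_1 D126 (iv D126) F515
theorem F737 : act 6 n126 = n126 := d41_1 D126 (iv D126) F516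
theorem F738 : act 7 n126 = n126 := d43_1 D126 (iv D126) F517
def n127 : Q := act 8 n87
theorem D127 : act 8 n87 = n127 := rfl
theorem F739 : act 0 n127 = n127 := d7_1 D127 (iv D127) F519
theorem F740 : act 1 n127 = n127 := d15_1 D127 (iv D127) F520
theorem F741 : act 2 n127 = n127 := d22_1 D127 (iv D127) F521
theorem F742 : act 5 n127 = n127 := d37_1 D127 (iv D127) F522 F374 (iv F522)
theorem F743 : act 6 n127 = n127 := d40_1 D127 (iv D127) F523
theorem F744 : act 7 n127 = n127 := d42_1 D127 (iv D127) F524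
theorem F745 : act 9 n127 = n127 := d44_2 D87 D127 (iv D127) (iv D87) F367
def n128 : Q := act 2 n88
theorem D128 : act 2 n88 = n128 := rfl
theorem F746 : act 0 n128 = n94 := d1_1 D128 (iv D94) (iv F525)
theorem F747 : act 3 n128 = n128 := d17_2 D88 D128 (iv D128) (iv D88) F377
theorem F748 : act 4 n128 = n128 := d18_2 F527 D128 (iv D128)
theorem F749 : act 5 n128 = n128 := d19_2 F528 D128 (iv D128)
theorem F750 : act 6 n128 = n128 := d20_2 F529 D128 (iv D128)
theorem F751 : act 9 n128 = n128 := d23_2 F530 D128 (iv D128)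
def n129 : Q := act 7 n88
theorem D129 : act 7 n88 = n129 := rfl
theorem F752 : act 0 n129 = n95 := d6_1 D129 (iv D95) (iv F525)
theorem F753 : act 1 n129 = n129 := d14_1 D129 (iv D129) F526
theorem F754 : act 3 n129 = n89 := d27_1 D129 (iv D89) D88
theorem F755 : act 4 n129 = n129 := d32_1 D129 (iv D129) F527
theorem F756 : act 5 n129 = n129 := d36_1 D129 (iv D129) F528
theorem F757 : act 9 n129 = n129 := d43_2 F530 D129 (iv D129)
def n130 : Q := act 8 n88
theorem D130 : act 8 n88 = n130 := rfl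
theorem F758 : act 0 n130 = n96 := d7_1 D130 (iv D96) (iv F525)
theorem F759 : act 1 n130 = n130 := d15_1 D130 (iv D130) F526
theorem F760 : act 3 n130 = n90 := d28_1 D130 (iv D90) D88
theorem F761 : act 4 n130 = n130 := d33_1 D130 (iv D130) F527
theorem F762 : act 6 n130 = n130 := d40_1 D130 (iv D130) F529
def n131 : Q := act 6 n89
theorem D131 : act 6 n89 = n131 := rfl
theorem F763 : act 0 n131 = n97 := d5_1 D131 (iv D97) (iv F531)
theorem F764 : act 1 n131 = n131 := d13_1 D131 (iv D131) F532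
theorem F765 : act 2 n131 = n131 := d20_1 D131 (iv D131) F533
theorem F766 : act 4 n131 = n91 := d31_1 D131 (iv D91) (iv F534)
theorem F767 : act 7 n131 = n131 := d39_2 D89 D131 (iv D131) (iv D89) F379
theorem F768 : act 9 n131 = n131 := d41_2 F536 D131 (iv D131)
def n132 : Q := act 8 n89
theorem D132 : act 8 n89 = n132 := rfl
theorem F769 : act 0 n132 = n98 := d7_1 D132 (iv D98) (iv F531)
theorem F770 : act 1 n132 = n132 := d15_1 D132 (iv D132) F532
theorem F771 : act 2 n132 = n132 := d22_1 D132 (iv D132) F533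
theorem F772 : act 4 n132 = n92 := d33_1 D132 (iv D92) (iv F534)
theorem F773 : act 7 n132 = n90 := d42_1 D132 (iv D90) D89
def n133 : Q := act 5 n90
theorem D133 : act 5 n90 = n133 := rfl
theorem F774 : act 0 n133 = n99 := d4_1 D133 (iv D99) (iv F537)
theorem F775 : act 1 n133 = n133 := d12_1 D133 (iv D133) F538
theorem F776 : act 2 n133 = n133 := d19_1 D133 (iv D133) F539
theorem F777 : act 4 n133 = n133 := d30_1 D133 (iv D133) F540 F391 (iv F540)
theorem F778 : act 8 n133 = n133 := d37_2 D90 D133 (iv D133) (iv D90) F378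
def n134 : Q := act 9 n90
theorem D134 : act 9 n90 = n134 := rfl
theorem F779 : act 0 n134 = n100 := d8_1 D134 (iv D100) (iv F537)
theorem F780 : act 1 n134 = n134 := d16_1 D134 (iv D134) F538
theorem F781 : act 2 n134 = n134 := d23_1 D134 (iv D134) F539
theorem F782 : act 4 n134 = n93 := d34_1 D134 (iv D93) (iv F540)
theorem F783 : act 6 n134 = n134 := d41_1 D134 (iv D134) F541
theorem F784 : act 8 n134 = n134 := d44_1 D134 (iv D134) (iv D90) F380 D90
def n135 : Q := act 8 n91
theorem D135 : act 8 n91 = n135 := rfl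
theorem F785 : act 0 n135 = n101 := d7_1 D135 (iv D101) (iv F542)
theorem F786 : act 1 n135 = n135 := d15_1 D135 (iv D135) F543
theorem F787 : act 2 n135 = n135 := d22_1 D135 (iv D135) F544
theorem F788 : act 3 n135 = n135 := d28_1 D135 (iv D135) F545
theorem F789 : act 6 n135 = n92 := d40_1 D135 (iv D92) D91
theorem F790 : act 7 n135 = n135 := d42_1 D135 (iv D135) F547
def n136 : Q := act 9 n92
theorem D136 : act 9 n92 = n136 := rfl
theorem F791 : act 0 n136 = n102 := d8_1 D136 (iv D102) (iv F549)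
theorem F792 : act 1 n136 = n136 := d16_1 D136 (iv D136) F550
theorem F793 : act 2 n136 = n136 := d23_1 D136 (iv D136) F551
theorem F794 : act 3 n136 = n136 := d29_1 D136 (iv D136) F552
theorem F795 : act 5 n136 = n136 := d38_1 D136 (iv D136) F553
theorem F796 : act 7 n136 = n93 := d43_1 D136 (iv D93) (iv F554)
theorem F797 : act 8 n136 = n136 := d44_1 D136 (iv D136) (iv D92) F386 D92
def n137 : Q := act 7 n94
theorem D137 : act 7 n94 = n137 := rfl
theorem F798 : act 1 n137 = n137 := d14_1 D137 (iv D137) F562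
theorem F799 : act 2 n137 = n95 := d21_1 D137 (iv D95) D94
theorem F800 : act 3 n137 = n137 := d27_1 D137 (iv D137) F563
theorem F801 : act 4 n137 = n137 := d32_1 D137 (iv D137) F564
theorem F802 : act 5 n137 = n137 := d36_1 D137 (iv D137) F565
theorem F803 : act 9 n137 = n137 := d43_2 F567 D137 (iv D137)
def n138 : Q := act 8 n94
theorem D138 : act 8 n94 = n138 := rfl
theorem F804 : act 1 n138 = n138 := d15_1 D138 (iv D138) F562
theorem F805 : act 2 n138 = n96 := d22_1 D138 (iv D96) D94
theorem F806 : act 3 n138 = n138 := d28_1 D138 (iv D138) F563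
theorem F807 : act 4 n138 = n138 := d33_1 D138 (iv D138) F564
theorem F808 : act 6 n138 = n138 := d40_1 D138 (iv D138) F566
def n139 : Q := act 6 n95
theorem D139 : act 6 n95 = n139 := rfl
theorem F809 : act 1 n139 = n103 := d13_1 D139 (iv D103) (iv F568)
theorem F810 : act 3 n139 = n97 := d26_1 D139 (iv D97) (iv F569)
theorem F811 : act 4 n139 = n139 := d31_1 D139 (iv D139) F570
theorem F812 : act 7 n139 = n139 := d39_2 D95 D139 (iv D139) (iv D95) F396
theorem F813 : act 9 n139 = n139 := d41_2 F572 D139 (iv D139)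
def n140 : Q := act 8 n95
theorem D140 : act 8 n95 = n140 := rfl
theorem F814 : act 1 n140 = n104 := d15_1 D140 (iv D104) (iv F568)
theorem F815 : act 3 n140 = n98 := d28_1 D140 (iv D98) (iv F569)
theorem F816 : act 4 n140 = n140 := d33_1 D140 (iv D140) F570
theorem F817 : act 7 n140 = n96 := d42_1 D140 (iv D96) D95
def n141 : Q := act 5 n96
theorem D141 : act 5 n96 = n141 := rfl
theorem F818 : act 1 n141 = n105 := d12_1 D141 (iv D105) (iv F573)
theorem F819 : act 3 n141 = n99 := d25_1 D141 (iv D99) (iv F574)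
theorem F820 : act 8 n141 = n141 := d37_2 D96 D141 (iv D141) (iv D96) F395
def n142 : Q := act 9 n96
theorem D142 : act 9 n96 = n142 := rfl
theorem F821 : act 1 n142 = n106 := d16_1 D142 (iv D106) (iv F573)
theorem F822 : act 3 n142 = n100 := d29_1 D142 (iv D100) (iv F574)
theorem F823 : act 4 n142 = n142 := d34_1 D142 (iv D142) F575
theorem F824 : act 6 n142 = n142 := d41_1 D142 (iv D142) F576
theorem F825 : act 8 n142 = n142 := d44_1 D142 (iv D142) (iv D96) F397 D96
def n143 : Q := act 5 n97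
theorem D143 : act 5 n97 = n143 := rfl
theorem F826 : act 1 n143 = n107 := d12_1 D143 (iv D107) (iv F577)
theorem F827 : act 2 n143 = n143 := d19_1 D143 (iv D143) F578
theorem F828 : act 4 n143 = n143 := d30_1 D143 (iv D143) F579 F410 (iv F579)
theorem F829 : act 6 n143 = n143 := d35_2 D97 D143 (iv D143) (iv D97) F401
theorem F830 : act 7 n143 = n143 := d36_2 F580 D143 (iv D143)
theorem F831 : act 9 n143 = n143 := d38_2 F581 D143 (iv D143)
def n144 : Q := act 8 n97
theorem D144 : act 8 n97 = n144 := rfl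
theorem F832 : act 1 n144 = n108 := d15_1 D144 (iv D108) (iv F577)
theorem F833 : act 2 n144 = n144 := d22_1 D144 (iv D144) F578
theorem F834 : act 4 n144 = n101 := d33_1 D144 (iv D101) (iv F579)
theorem F835 : act 6 n144 = n98 := d40_1 D144 (iv D98) D97
theorem F836 : act 7 n144 = n144 := d42_1 D144 (iv D144) F580
def n145 : Q := act 5 n98
theorem D145 : act 5 n98 = n145 := rfl
theorem F837 : act 1 n145 = n109 := d12_1 D145 (iv D109) (iv F582)
theorem F838 : act 2 n145 = n145 := d19_1 D145 (iv D145) F583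
theorem F839 : act 4 n145 = n145 := d30_1 D145 (iv D145) F584 F416 (iv F584)
theorem F840 : act 7 n145 = n99 := d36_2 (iv F585) D145 (iv D99)
theorem F841 : act 8 n145 = n145 := d37_2 D98 D145 (iv D145) (iv D98) F401
def n146 : Q := act 9 n98
theorem D146 : act 9 n98 = n146 := rfl
theorem F842 : act 1 n146 = n110 := d16_1 D146 (iv D110) (iv F582)
theorem F843 : act 2 n146 = n146 := d23_1 D146 (iv D146) F583
theorem F844 : act 4 n146 = n102 := d34_1 D146 (iv D102) (iv F584)
theorem F845 : act 7 n146 = n100 := d43_1 D146 (iv D100) (iv F585)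
theorem F846 : act 8 n146 = n146 := d44_1 D146 (iv D146) (iv D98) F402 D98
def n147 : Q := act 6 n99
theorem D147 : act 6 n99 = n147 := rfl
theorem F847 : act 1 n147 = n111 := d13_1 D147 (iv D111) (iv F586)
theorem F848 : act 2 n147 = n147 := d20_1 D147 (iv D147) F587
theorem F849 : act 4 n147 = n147 := d31_1 D147 (iv D147) F588
theorem F850 : act 5 n147 = n147 := d35_1 D147 (iv D147) (iv D99) F406 D99
theorem F851 : act 8 n147 = n147 := d40_2 F589 D147 (iv D147)
def n148 : Q := act 9 n99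
theorem D148 : act 9 n99 = n148 := rfl
theorem F852 : act 1 n148 = n112 := d16_1 D148 (iv D112) (iv F586)
theorem F853 : act 2 n148 = n148 := d23_1 D148 (iv D148) F587
theorem F854 : act 4 n148 = n148 := d34_1 D148 (iv D148) F588
theorem F855 : act 5 n148 = n100 := d38_1 D148 (iv D100) D99
def n149 : Q := act 5 n101
theorem D149 : act 5 n101 = n149 := rfl
theorem F856 : act 1 n149 = n113 := d12_1 D149 (iv D113) (iv F595)
theorem F857 : act 2 n149 = n149 := d19_1 D149 (iv D149) F596
theorem F858 : act 3 n149 = n149 := d25_1 D149 (iv D149) F597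
theorem F859 : act 6 n149 = n149 := d35_2 (iv F598) D149 (iv D149) F598 F416
theorem F860 : act 7 n149 = n149 := d36_2 F599 D149 (iv D149)
theorem F861 : act 8 n149 = n149 := d37_2 D101 D149 (iv D149) (iv D101) F410
def n150 : Q := act 9 n101
theorem D150 : act 9 n101 = n150 := rfl
theorem F862 : act 1 n150 = n114 := d16_1 D150 (iv D114) (iv F595)
theorem F863 : act 2 n150 = n150 := d23_1 D150 (iv D150) F596
theorem F864 : act 3 n150 = n150 := d29_1 D150 (iv D150) F597
theorem F865 : act 6 n150 = n102 := d41_1 D150 (iv D102) (iv F598)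
theorem F866 : act 7 n150 = n150 := d43_1 D150 (iv D150) F599
theorem F867 : act 8 n150 = n150 := d44_1 D150 (iv D150) (iv D101) F412 D101
def n151 : Q := act 5 n103
theorem D151 : act 5 n103 = n151 := rfl
theorem F868 : act 0 n151 = n151 := d4_1 D151 (iv D151) F606
theorem F869 : act 2 n151 = n151 := d19_1 D151 (iv D151) F607
theorem F870 : act 3 n151 = n107 := d25_1 D151 (iv D107) (iv F608)
theorem F871 : act 6 n151 = n151 := d35_2 D103 D151 (iv D151) (iv D103) F428
theorem F872 : act 7 n151 = n151 := d36_2 F610 D151 (iv D151)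
theorem F873 : act 9 n151 = n151 := d38_2 F611 D151 (iv D151)
def n152 : Q := act 8 n103
theorem D152 : act 8 n103 = n152 := rfl
theorem F874 : act 0 n152 = n152 := d7_1 D152 (iv D152) F606
theorem F875 : act 2 n152 = n152 := d22_1 D152 (iv D152) F607
theorem F876 : act 3 n152 = n108 := d28_1 D152 (iv D108) (iv F608)
theorem F877 : act 4 n152 = n152 := d33_1 D152 (iv D152) F609
theorem F878 : act 6 n152 = n104 := d40_1 D152 (iv D104) D103
theorem F879 : act 7 n152 = n152 := d42_1 D152 (iv D152) F610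
def n153 : Q := act 5 n104
theorem D153 : act 5 n104 = n153 := rfl
theorem F880 : act 0 n153 = n153 := d4_1 D153 (iv D153) F612
theorem F881 : act 2 n153 = n153 := d19_1 D153 (iv D153) F613
theorem F882 : act 3 n153 = n109 := d25_1 D153 (iv D109) (iv F614)
theorem F883 : act 7 n153 = n105 := d36_2 (iv F616) D153 (iv D105)
theorem F884 : act 8 n153 = n153 := d37_2 D104 D153 (iv D153) (iv D104) F428
def n154 : Q := act 9 n104
theorem D154 : act 9 n104 = n154 := rfl
theorem F885 : act 0 n154 = n154 := d8_1 D154 (iv D154) F612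
theorem F886 : act 2 n154 = n154 := d23_1 D154 (iv D154) F613
theorem F887 : act 3 n154 = n110 := d29_1 D154 (iv D110) (iv F614)
theorem F888 : act 4 n154 = n154 := d34_1 D154 (iv D154) F615
theorem F889 : act 7 n154 = n106 := d43_1 D154 (iv D106) (iv F616)
theorem F890 : act 8 n154 = n154 := d44_1 D154 (iv D154) (iv D104) F429 D104
def n155 : Q := act 4 n105
theorem D155 : act 4 n105 = n155 := rfl
theorem F891 : act 0 n155 = n155 := d3_1 D155 (iv D155) F617
theorem F892 : act 2 n155 = n155 := d18_1 D155 (iv D155) F618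
theorem F893 : act 3 n155 = n155 := d24_1 D155 (iv D155) F619 F446 (iv F619)
theorem F894 : act 5 n155 = n155 := d30_2 D105 D155 (iv D155) (iv D105) F433
theorem F895 : act 8 n155 = n155 := d33_2 F620 D155 (iv D155)
def n156 : Q := act 6 n105
theorem D156 : act 6 n105 = n156 := rfl
theorem F896 : act 0 n156 = n156 := d5_1 D156 (iv D156) F617
theorem F897 : act 2 n156 = n156 := d20_1 D156 (iv D156) F618
theorem F898 : act 3 n156 = n111 := d26_1 D156 (iv D111) (iv F619)
theorem F899 : act 5 n156 = n156 := d35_1 D156 (iv D156) (iv D105) F434 D105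
theorem F900 : act 8 n156 = n156 := d40_2 F620 D156 (iv D156)
def n157 : Q := act 9 n105
theorem D157 : act 9 n105 = n157 := rfl
theorem F901 : act 0 n157 = n157 := d8_1 D157 (iv D157) F617
theorem F902 : act 2 n157 = n157 := d23_1 D157 (iv D157) F618
theorem F903 : act 3 n157 = n112 := d29_1 D157 (iv D112) (iv F619)
theorem F904 : act 5 n157 = n106 := d38_1 D157 (iv D106) D105
def n158 : Q := act 8 n107
theorem D158 : act 8 n107 = n158 := rfl
theorem F905 : act 0 n158 = n158 := d7_1 D158 (iv D158) F627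
theorem F906 : act 2 n158 = n115 := d22_1 D158 (iv D115) (iv F628)
theorem F907 : act 4 n158 = n158 := d33_1 D158 (iv D158) F629
theorem F908 : act 6 n158 = n158 := d40_1 D158 (iv D158) F630
theorem F909 : act 7 n158 = n158 := d42_1 D158 (iv D158) F631
def n159 : Q := act 5 n108
theorem D159 : act 5 n108 = n159 := rfl
theorem F910 : act 0 n159 = n159 := d4_1 D159 (iv D159) F633
theorem F911 : act 2 n159 = n116 := d19_1 D159 (iv D116) (iv F634)
theorem F912 : act 7 n159 = n159 := d36_2 F637 D159 (iv D159)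
def n160 : Q := act 9 n108
theorem D160 : act 9 n108 = n160 := rfl
theorem F913 : act 0 n160 = n160 := d8_1 D160 (iv D160) F633
theorem F914 : act 2 n160 = n117 := d23_1 D160 (iv D117) (iv F634)
theorem F915 : act 4 n160 = n114 := d34_1 D160 (iv D114) (iv F635)
theorem F916 : act 6 n160 = n110 := d41_1 D160 (iv D110) (iv F636)
theorem F917 : act 7 n160 = n160 := d43_1 D160 (iv D160) F637
theorem F918 : act 8 n160 = n160 := d44_1 D160 (iv D160) (iv D108) F439 D108
def n161 : Q := act 6 n109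
theorem D161 : act 6 n109 = n161 := rfl
theorem F919 : act 0 n161 = n161 := d5_1 D161 (iv D161) F638
theorem F920 : act 2 n161 = n118 := d20_1 D161 (iv D118) (iv F639)
theorem F921 : act 4 n161 = n161 := d31_1 D161 (iv D161) F640
theorem F922 : act 8 n161 = n161 := d40_2 F642 D161 (iv D161)
def n162 : Q := act 9 n109
theorem D162 : act 9 n109 = n162 := rfl
theorem F923 : act 0 n162 = n162 := d8_1 D162 (iv D162) F638
theorem F924 : act 2 n162 = n119 := d23_1 D162 (iv D119) (iv F639)
theorem F925 : act 4 n162 = n162 := d34_1 D162 (iv D162) F640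
theorem F926 : act 5 n162 = n110 := d38_1 D162 (iv D110) D109
theorem F927 : act 7 n162 = n112 := d43_1 D162 (iv D112) (iv F641)
def n163 : Q := act 7 n111
theorem D163 : act 7 n111 = n163 := rfl
theorem F928 : act 0 n163 = n163 := d6_1 D163 (iv D163) F648
theorem F929 : act 2 n163 = n120 := d21_1 D163 (iv D120) (iv F649)
theorem F930 : act 4 n163 = n163 := d32_1 D163 (iv D163) F650
theorem F931 : act 5 n163 = n163 := d36_1 D163 (iv D163) F651
theorem F932 : act 8 n163 = n163 := d42_2 F652 D163 (iv D163)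
def n164 : Q := act 9 n111
theorem D164 : act 9 n111 = n164 := rfl
theorem F933 : act 0 n164 = n164 := d8_1 D164 (iv D164) F648
theorem F934 : act 2 n164 = n121 := d23_1 D164 (iv D121) (iv F649)
theorem F935 : act 4 n164 = n164 := d34_1 D164 (iv D164) F650
theorem F936 : act 5 n164 = n164 := d38_1 D164 (iv D164) F651
theorem F937 : act 6 n164 = n112 := d41_1 D164 (iv D112) D111
def n165 : Q := act 8 n112
theorem D165 : act 8 n112 = n165 := rfl
theorem F938 : act 0 n165 = n165 := d7_1 D165 (iv D165) F653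
theorem F939 : act 2 n165 = n122 := d22_1 D165 (iv D122) (iv F654)
theorem F940 : act 4 n165 = n165 := d33_1 D165 (iv D165) F655
theorem F941 : act 5 n165 = n165 := d37_1 D165 (iv D165) F656 F452 (iv F656)
theorem F942 : act 9 n165 = n165 := d44_2 D112 D165 (iv D165) (iv D112) F447
def n166 : Q := act 4 n113
theorem D166 : act 4 n113 = n166 := rfl
theorem F943 : act 0 n166 = n166 := d3_1 D166 (iv D166) F657
theorem F944 : act 2 n166 = n123 := d18_1 D166 (iv D123) (iv F658)
theorem F945 : act 6 n166 = n166 := d31_2 F660 D166 (iv D166)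
theorem F946 : act 7 n166 = n166 := d32_2 F661 D166 (iv D166)
theorem F947 : act 8 n166 = n166 := d33_2 F662 D166 (iv D166)
def n167 : Q := act 9 n113
theorem D167 : act 9 n113 = n167 := rfl
theorem F948 : act 0 n167 = n167 := d8_1 D167 (iv D167) F657
theorem F949 : act 2 n167 = n124 := d23_1 D167 (iv D124) (iv F658)
theorem F950 : act 3 n167 = n167 := d29_1 D167 (iv D167) F659
theorem F951 : act 5 n167 = n114 := d38_1 D167 (iv D114) D113
theorem F952 : act 6 n167 = n167 := d41_1 D167 (iv D167) F660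
theorem F953 : act 7 n167 = n167 := d43_1 D167 (iv D167) F661
def n168 : Q := act 5 n115
theorem D168 : act 5 n115 = n168 := rfl
theorem F954 : act 0 n168 = n168 := d4_1 D168 (iv D168) F669
theorem F955 : act 1 n168 = n168 := d12_1 D168 (iv D168) F670
theorem F956 : act 3 n168 = n168 := d25_1 D168 (iv D168) F671
theorem F957 : act 7 n168 = n168 := d36_2 F674 D168 (iv D168)
theorem F958 : act 8 n168 = n116 := d37_2 D115 D168 (iv D116) (iv D79) D78
def n169 : Q := act 9 n115
theorem D169 : act 9 n115 = n169 := rfl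
theorem F959 : act 0 n169 = n169 := d8_1 D169 (iv D169) F669
theorem F960 : act 1 n169 = n169 := d16_1 D169 (iv D169) F670
theorem F961 : act 3 n169 = n169 := d29_1 D169 (iv D169) F671
theorem F962 : act 4 n169 = n169 := d34_1 D169 (iv D169) F672
theorem F963 : act 6 n169 = n169 := d41_1 D169 (iv D169) F673
theorem F964 : act 7 n169 = n169 := d43_1 D169 (iv D169) F674
theorem F965 : act 8 n169 = n169 := d44_1 D169 (iv D169) (iv D115) F470 D115
def n170 : Q := act 4 n116
theorem D170 : act 4 n116 = n170 := rfl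
theorem F966 : act 0 n170 = n170 := d3_1 D170 (iv D170) F675
theorem F967 : act 1 n170 = n170 := d11_1 D170 (iv D170) F676
theorem F968 : act 5 n170 = n123 := d30_2 D116 D170 (iv D123) (iv D84) (iv F474)
theorem F969 : act 7 n170 = n170 := d32_2 F678 D170 (iv D170)
def n171 : Q := act 6 n116
theorem D171 : act 6 n116 = n171 := rfl
theorem F970 : act 0 n171 = n171 := d5_1 D171 (iv D171) F675
theorem F971 : act 1 n171 = n171 := d13_1 D171 (iv D171) F676
theorem F972 : act 3 n171 = n171 := d26_1 D171 (iv D171) F677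
theorem F973 : act 5 n171 = n118 := d35_1 D171 (iv D118) (iv D80) (iv F475) D116
def n172 : Q := act 9 n116
theorem D172 : act 9 n116 = n172 := rfl
theorem F974 : act 0 n172 = n172 := d8_1 D172 (iv D172) F675
theorem F975 : act 1 n172 = n172 := d16_1 D172 (iv D172) F676
theorem F976 : act 3 n172 = n172 := d29_1 D172 (iv D172) F677
theorem F977 : act 5 n172 = n117 := d38_1 D172 (iv D117) D116
theorem F978 : act 7 n172 = n172 := d43_1 D172 (iv D172) F678
def n173 : Q := act 7 n118
theorem D173 : act 7 n118 = n173 := rfl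
theorem F979 : act 0 n173 = n173 := d6_1 D173 (iv D173) F686
theorem F980 : act 1 n173 = n173 := d14_1 D173 (iv D173) F687
theorem F981 : act 3 n173 = n173 := d27_1 D173 (iv D173) F688
theorem F982 : act 4 n173 = n173 := d32_1 D173 (iv D173) F689
theorem F983 : act 6 n173 = n120 := d39_1 D173 (iv D120) (iv D82) (iv F481) D118
theorem F984 : act 8 n173 = n173 := d42_2 F690 D173 (iv D173)
def n174 : Q := act 9 n118
theorem D174 : act 9 n118 = n174 := rfl
theorem F985 : act 0 n174 = n174 := d8_1 D174 (iv D174) F686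
theorem F986 : act 1 n174 = n174 := d16_1 D174 (iv D174) F687
theorem F987 : act 3 n174 = n174 := d29_1 D174 (iv D174) F688
theorem F988 : act 4 n174 = n174 := d34_1 D174 (iv D174) F689
theorem F989 : act 6 n174 = n119 := d41_1 D174 (iv D119) D118
def n175 : Q := act 8 n119
theorem D175 : act 8 n119 = n175 := rfl
theorem F990 : act 0 n175 = n175 := d7_1 D175 (iv D175) F691
theorem F991 : act 1 n175 = n175 := d15_1 D175 (iv D175) F692
theorem F992 : act 3 n175 = n175 := d28_1 D175 (iv D175) F693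
theorem F993 : act 4 n175 = n175 := d33_1 D175 (iv D175) F694
theorem F994 : act 5 n175 = n175 := d37_1 D175 (iv D175) F695 F488 (iv F695)
theorem F995 : act 7 n175 = n122 := d42_1 D175 (iv D122) (iv F696)
theorem F996 : act 9 n175 = n175 := d44_2 D119 D175 (iv D175) (iv D119) F482
def n176 : Q := act 9 n120
theorem D176 : act 9 n120 = n176 := rfl
theorem F997 : act 0 n176 = n176 := d8_1 D176 (iv D176) F697
theorem F998 : act 1 n176 = n176 := d16_1 D176 (iv D176) F698
theorem F999 : act 3 n176 = n176 := d29_1 D176 (iv D176) F699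
theorem F1000 : act 4 n176 = n176 := d34_1 D176 (iv D176) F700
theorem F1001 : act 5 n176 = n176 := d38_1 D176 (iv D176) F701
theorem F1002 : act 7 n176 = n121 := d43_1 D176 (iv D121) D120
def n177 : Q := act 8 n121
theorem D177 : act 8 n121 = n177 := rfl
theorem F1003 : act 0 n177 = n177 := d7_1 D177 (iv D177) F703
theorem F1004 : act 1 n177 = n177 := d15_1 D177 (iv D177) F704
theorem F1005 : act 3 n177 = n177 := d28_1 D177 (iv D177) F705
theorem F1006 : act 4 n177 = n177 := d33_1 D177 (iv D177) F706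
theorem F1007 : act 6 n177 = n122 := d40_1 D177 (iv D122) (iv F708)
theorem F1008 : act 9 n177 = n177 := d44_2 D121 D177 (iv D177) (iv D121) F494
def n178 : Q := act 3 n123
theorem D178 : act 3 n123 = n178 := rfl
theorem F1009 : act 0 n178 = n178 := d2_1 D178 (iv D178) F715
theorem F1010 : act 1 n178 = n178 := d10_1 D178 (iv D178) F716
theorem F1011 : act 4 n178 = n125 := d24_2 D123 D178 (iv D125) (iv D86) (iv F502)
theorem F1012 : act 6 n178 = n178 := d26_2 F717 D178 (iv D178)
theorem F1013 : act 7 n178 = n178 := d27_2 F718 D178 (iv D178)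
theorem F1014 : act 8 n178 = n178 := d28_2 F719 D178 (iv D178)
def n179 : Q := act 9 n123
theorem D179 : act 9 n123 = n179 := rfl
theorem F1015 : act 0 n179 = n179 := d8_1 D179 (iv D179) F715
theorem F1016 : act 1 n179 = n179 := d16_1 D179 (iv D179) F716
theorem F1017 : act 4 n179 = n124 := d34_1 D179 (iv D124) D123
theorem F1018 : act 6 n179 = n179 := d41_1 D179 (iv D179) F717
theorem F1019 : act 7 n179 = n179 := d43_1 D179 (iv D179) F718
def n180 : Q := act 8 n124
theorem D180 : act 8 n124 = n180 := rfl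
theorem F1020 : act 0 n180 = n180 := d7_1 D180 (iv D180) F720
theorem F1021 : act 1 n180 = n180 := d15_1 D180 (iv D180) F721
theorem F1022 : act 3 n180 = n127 := d28_1 D180 (iv D127) (iv F722)
theorem F1023 : act 5 n180 = n180 := d37_1 D180 (iv D180) F723 F511 (iv F723)
theorem F1024 : act 6 n180 = n180 := d40_1 D180 (iv D180) F724
theorem F1025 : act 7 n180 = n180 := d42_1 D180 (iv D180) F725
theorem F1026 : act 9 n180 = n180 := d44_2 D124 D180 (iv D180) (iv D124) F505
def n181 : Q := act 2 n125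
theorem D181 : act 2 n125 = n181 := rfl
theorem F1027 : act 0 n181 = n181 := d1_1 D181 (iv D181) F726
theorem F1028 : act 3 n181 = n181 := d17_2 D125 D181 (iv D181) (iv D125) F514
theorem F1029 : act 5 n181 = n181 := d19_2 F728 D181 (iv D181)
theorem F1030 : act 6 n181 = n181 := d20_2 F729 D181 (iv D181)
theorem F1031 : act 7 n181 = n181 := d21_2 F730 D181 (iv D181)
theorem F1032 : act 8 n181 = n181 := d22_2 F731 D181 (iv D181)
def n182 : Q := act 9 n125
theorem D182 : act 9 n125 = n182 := rfl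
theorem F1033 : act 0 n182 = n182 := d8_1 D182 (iv D182) F726
theorem F1034 : act 1 n182 = n182 := d16_1 D182 (iv D182) F727
theorem F1035 : act 3 n182 = n126 := d29_1 D182 (iv D126) D125
theorem F1036 : act 5 n182 = n182 := d38_1 D182 (iv D182) F728
theorem F1037 : act 6 n182 = n182 := d41_1 D182 (iv D182) F729
theorem F1038 : act 7 n182 = n182 := d43_1 D182 (iv D182) F730
def n183 : Q := act 8 n126
theorem D183 : act 8 n126 = n183 := rfl
theorem F1039 : act 0 n183 = n183 := d7_1 D183 (iv D183) F732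
theorem F1040 : act 1 n183 = n183 := d15_1 D183 (iv D183) F733
theorem F1041 : act 2 n183 = n183 := d22_1 D183 (iv D183) F734
theorem F1042 : act 4 n183 = n127 := d33_1 D183 (iv D127) (iv F735)
theorem F1043 : act 6 n183 = n183 := d40_1 D183 (iv D183) F737
theorem F1044 : act 7 n183 = n183 := d42_1 D183 (iv D183) F738
theorem F1045 : act 9 n183 = n183 := d44_2 D126 D183 (iv D183) (iv D126) F518
def n184 : Q := act 1 n128
theorem D184 : act 1 n128 = n184 := rfl
theorem F1046 : act 0 n184 = n184 := d0_1 D184 (iv D184) F746 F562 (iv F746)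
theorem F1047 : act 2 n184 = n184 := d9_2 D128 D184 (iv D184) (iv D128) F526
theorem F1048 : act 3 n184 = n184 := d10_2 F747 D184 (iv D184)
theorem F1049 : act 4 n184 = n184 := d11_2 F748 D184 (iv D184)
theorem F1050 : act 5 n184 = n184 := d12_2 F749 D184 (iv D184)
theorem F1051 : act 6 n184 = n184 := d13_2 F750 D184 (iv D184)
theorem F1052 : act 9 n184 = n184 := d16_2 F751 D184 (iv D184)
def n185 : Q := act 7 n128
theorem D185 : act 7 n128 = n185 := rfl
theorem F1053 : act 0 n185 = n137 := d6_1 D185 (iv D137) (iv F746)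
theorem F1054 : act 2 n185 = n129 := d21_1 D185 (iv D129) D128
theorem F1055 : act 3 n185 = n185 := d27_1 D185 (iv D185) F747
theorem F1056 : act 4 n185 = n185 := d32_1 D185 (iv D185) F748
theorem F1057 : act 5 n185 = n185 := d36_1 D185 (iv D185) F749
theorem F1058 : act 9 n185 = n185 := d43_2 F751 D185 (iv D185)
def n186 : Q := act 8 n128
theorem D186 : act 8 n128 = n186 := rfl
theorem F1059 : act 0 n186 = n138 := d7_1 D186 (iv D138) (iv F746)
theorem F1060 : act 2 n186 = n130 := d22_1 D186 (iv D130) D128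
theorem F1061 : act 3 n186 = n186 := d28_1 D186 (iv D186) F747
theorem F1062 : act 4 n186 = n186 := d33_1 D186 (iv D186) F748
theorem F1063 : act 6 n186 = n186 := d40_1 D186 (iv D186) F750
def n187 : Q := act 6 n129
theorem D187 : act 6 n129 = n187 := rfl
theorem F1064 : act 0 n187 = n139 := d5_1 D187 (iv D139) (iv F752)
theorem F1065 : act 1 n187 = n187 := d13_1 D187 (iv D187) F753
theorem F1066 : act 3 n187 = n131 := d26_1 D187 (iv D131) (iv F754)
theorem F1067 : act 4 n187 = n187 := d31_1 D187 (iv D187) F755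
theorem F1068 : act 7 n187 = n187 := d39_2 D129 D187 (iv D187) (iv D129) F529
theorem F1069 : act 9 n187 = n187 := d41_2 F757 D187 (iv D187)
def n188 : Q := act 8 n129
theorem D188 : act 8 n129 = n188 := rfl
theorem F1070 : act 0 n188 = n140 := d7_1 D188 (iv D140) (iv F752)
theorem F1071 : act 1 n188 = n188 := d15_1 D188 (iv D188) F753
theorem F1072 : act 3 n188 = n132 := d28_1 D188 (iv D132) (iv F754)
theorem F1073 : act 4 n188 = n188 := d33_1 D188 (iv D188) F755
theorem F1074 : act 7 n188 = n130 := d42_1 D188 (iv D130) D129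
def n189 : Q := act 5 n130
theorem D189 : act 5 n130 = n189 := rfl
theorem F1075 : act 0 n189 = n141 := d4_1 D189 (iv D141) (iv F758)
theorem F1076 : act 1 n189 = n189 := d12_1 D189 (iv D189) F759
theorem F1077 : act 3 n189 = n133 := d25_1 D189 (iv D133) (iv F760)
theorem F1078 : act 8 n189 = n189 := d37_2 D130 D189 (iv D189) (iv D130) F528
def n190 : Q := act 9 n130
theorem D190 : act 9 n130 = n190 := rfl
theorem F1079 : act 0 n190 = n142 := d8_1 D190 (iv D142) (iv F758)
theorem F1080 : act 1 n190 = n190 := d16_1 D190 (iv D190) F759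
theorem F1081 : act 3 n190 = n134 := d29_1 D190 (iv D134) (iv F760)
theorem F1082 : act 4 n190 = n190 := d34_1 D190 (iv D190) F761
theorem F1083 : act 6 n190 = n190 := d41_1 D190 (iv D190) F762
theorem F1084 : act 8 n190 = n190 := d44_1 D190 (iv D190) (iv D130) F530 D130
def n191 : Q := act 5 n131
theorem D191 : act 5 n131 = n191 := rfl
theorem F1085 : act 0 n191 = n143 := d4_1 D191 (iv D143) (iv F763)
theorem F1086 : act 1 n191 = n191 := d12_1 D191 (iv D191) F764
theorem F1087 : act 2 n191 = n191 := d19_1 D191 (iv D191) F765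
theorem F1088 : act 4 n191 = n191 := d30_1 D191 (iv D191) F766 F546 (iv F766)
theorem F1089 : act 6 n191 = n191 := d35_2 D131 D191 (iv D191) (iv D131) F535
theorem F1090 : act 7 n191 = n191 := d36_2 F767 D191 (iv D191)
theorem F1091 : act 9 n191 = n191 := d38_2 F768 D191 (iv D191)
def n192 : Q := act 8 n131
theorem D192 : act 8 n131 = n192 := rfl
theorem F1092 : act 0 n192 = n144 := d7_1 D192 (iv D144) (iv F763)
theorem F1093 : act 1 n192 = n192 := d15_1 D192 (iv D192) F764
theorem F1094 : act 2 n192 = n192 := d22_1 D192 (iv D192) F765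
theorem F1095 : act 4 n192 = n135 := d33_1 D192 (iv D135) (iv F766)
theorem F1096 : act 6 n192 = n132 := d40_1 D192 (iv D132) D131
theorem F1097 : act 7 n192 = n192 := d42_1 D192 (iv D192) F767
def n193 : Q := act 5 n132
theorem D193 : act 5 n132 = n193 := rfl
theorem F1098 : act 0 n193 = n145 := d4_1 D193 (iv D145) (iv F769)
theorem F1099 : act 1 n193 = n193 := d12_1 D193 (iv D193) F770
theorem F1100 : act 2 n193 = n193 := d19_1 D193 (iv D193) F771
theorem F1101 : act 4 n193 = n193 := d30_1 D193 (iv D193) F772 F553 (iv F772)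
theorem F1102 : act 7 n193 = n133 := d36_2 (iv F773) D193 (iv D133)
theorem F1103 : act 8 n193 = n193 := d37_2 D132 D193 (iv D193) (iv D132) F535
def n194 : Q := act 9 n132
theorem D194 : act 9 n132 = n194 := rfl
theorem F1104 : act 0 n194 = n146 := d8_1 D194 (iv D146) (iv F769)
theorem F1105 : act 1 n194 = n194 := d16_1 D194 (iv D194) F770
theorem F1106 : act 2 n194 = n194 := d23_1 D194 (iv D194) F771
theorem F1107 : act 4 n194 = n136 := d34_1 D194 (iv D136) (iv F772)
theorem F1108 : act 7 n194 = n134 := d43_1 D194 (iv D134) (iv F773)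
theorem F1109 : act 8 n194 = n194 := d44_1 D194 (iv D194) (iv D132) F536 D132
def n195 : Q := act 6 n133
theorem D195 : act 6 n133 = n195 := rfl
theorem F1110 : act 0 n195 = n147 := d5_1 D195 (iv D147) (iv F774)
theorem F1111 : act 1 n195 = n195 := d13_1 D195 (iv D195) F775
theorem F1112 : act 2 n195 = n195 := d20_1 D195 (iv D195) F776
theorem F1113 : act 4 n195 = n195 := d31_1 D195 (iv D195) F777
theorem F1114 : act 5 n195 = n195 := d35_1 D195 (iv D195) (iv D133) F541 D133
theorem F1115 : act 8 n195 = n195 := d40_2 F778 D195 (iv D195)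
def n196 : Q := act 9 n133
theorem D196 : act 9 n133 = n196 := rfl
theorem F1116 : act 0 n196 = n148 := d8_1 D196 (iv D148) (iv F774)
theorem F1117 : act 1 n196 = n196 := d16_1 D196 (iv D196) F775
theorem F1118 : act 2 n196 = n196 := d23_1 D196 (iv D196) F776
theorem F1119 : act 4 n196 = n196 := d34_1 D196 (iv D196) F777
theorem F1120 : act 5 n196 = n134 := d38_1 D196 (iv D134) D133
def n197 : Q := act 5 n135
theorem D197 : act 5 n135 = n197 := rfl
theorem F1121 : act 0 n197 = n149 := d4_1 D197 (iv D149) (iv F785)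
theorem F1122 : act 1 n197 = n197 := d12_1 D197 (iv D197) F786
theorem F1123 : act 2 n197 = n197 := d19_1 D197 (iv D197) F787
theorem F1124 : act 3 n197 = n197 := d25_1 D197 (iv D197) F788
theorem F1125 : act 6 n197 = n197 := d35_2 (iv F789) D197 (iv D197) F789 F553
theorem F1126 : act 7 n197 = n197 := d36_2 F790 D197 (iv D197)
theorem F1127 : act 8 n197 = n197 := d37_2 D135 D197 (iv D197) (iv D135) F546
def n198 : Q := act 9 n135
theorem D198 : act 9 n135 = n198 := rfl
theorem F1128 : act 0 n198 = n150 := d8_1 D198 (iv D150) (iv F785)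
theorem F1129 : act 1 n198 = n198 := d16_1 D198 (iv D198) F786
theorem F1130 : act 2 n198 = n198 := d23_1 D198 (iv D198) F787
theorem F1131 : act 3 n198 = n198 := d29_1 D198 (iv D198) F788
theorem F1132 : act 6 n198 = n136 := d41_1 D198 (iv D136) (iv F789)
theorem F1133 : act 7 n198 = n198 := d43_1 D198 (iv D198) F790
theorem F1134 : act 8 n198 = n198 := d44_1 D198 (iv D198) (iv D135) F548 D135
def n199 : Q := act 6 n137
theorem D199 : act 6 n137 = n199 := rfl
theorem F1135 : act 1 n199 = n199 := d13_1 D199 (iv D199) F798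
theorem F1136 : act 2 n199 = n139 := d20_1 D199 (iv D139) (iv F799)
theorem F1137 : act 3 n199 = n199 := d26_1 D199 (iv D199) F800
theorem F1138 : act 4 n199 = n199 := d31_1 D199 (iv D199) F801
theorem F1139 : act 7 n199 = n199 := d39_2 D137 D199 (iv D199) (iv D137) F566
theorem F1140 : act 9 n199 = n199 := d41_2 F803 D199 (iv D199)
def n200 : Q := act 8 n137
theorem D200 : act 8 n137 = n200 := rfl
theorem F1141 : act 1 n200 = n200 := d15_1 D200 (iv D200) F798
theorem F1142 : act 2 n200 = n140 := d22_1 D200 (iv D140) (iv F799)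
theorem F1143 : act 3 n200 = n200 := d28_1 D200 (iv D200) F800
theorem F1144 : act 4 n200 = n200 := d33_1 D200 (iv D200) F801
theorem F1145 : act 7 n200 = n138 := d42_1 D200 (iv D138) D137
def n201 : Q := act 5 n138
theorem D201 : act 5 n138 = n201 := rfl
theorem F1146 : act 1 n201 = n201 := d12_1 D201 (iv D201) F804
theorem F1147 : act 2 n201 = n141 := d19_1 D201 (iv D141) (iv F805)
theorem F1148 : act 3 n201 = n201 := d25_1 D201 (iv D201) F806
theorem F1149 : act 8 n201 = n201 := d37_2 D138 D201 (iv D201) (iv D138) F565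
def n202 : Q := act 9 n138
theorem D202 : act 9 n138 = n202 := rfl
theorem F1150 : act 1 n202 = n202 := d16_1 D202 (iv D202) F804
theorem F1151 : act 2 n202 = n142 := d23_1 D202 (iv D142) (iv F805)
theorem F1152 : act 3 n202 = n202 := d29_1 D202 (iv D202) F806
theorem F1153 : act 4 n202 = n202 := d34_1 D202 (iv D202) F807
theorem F1154 : act 6 n202 = n202 := d41_1 D202 (iv D202) F808
theorem F1155 : act 8 n202 = n202 := d44_1 D202 (iv D202) (iv D138) F567 D138
def n203 : Q := act 5 n139
theorem D203 : act 5 n139 = n203 := rfl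
theorem F1156 : act 1 n203 = n151 := d12_1 D203 (iv D151) (iv F809)
theorem F1157 : act 3 n203 = n143 := d25_1 D203 (iv D143) (iv F810)
theorem F1158 : act 6 n203 = n203 := d35_2 D139 D203 (iv D203) (iv D139) F571
theorem F1159 : act 7 n203 = n203 := d36_2 F812 D203 (iv D203)
theorem F1160 : act 9 n203 = n203 := d38_2 F813 D203 (iv D203)
def n204 : Q := act 8 n139
theorem D204 : act 8 n139 = n204 := rfl
theorem F1161 : act 1 n204 = n152 := d15_1 D204 (iv D152) (iv F809)
theorem F1162 : act 3 n204 = n144 := d28_1 D204 (iv D144) (iv F810)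
theorem F1163 : act 4 n204 = n204 := d33_1 D204 (iv D204) F811
theorem F1164 : act 6 n204 = n140 := d40_1 D204 (iv D140) D139
theorem F1165 : act 7 n204 = n204 := d42_1 D204 (iv D204) F812
def n205 : Q := act 5 n140
theorem D205 : act 5 n140 = n205 := rfl
theorem F1166 : act 1 n205 = n153 := d12_1 D205 (iv D153) (iv F814)
theorem F1167 : act 3 n205 = n145 := d25_1 D205 (iv D145) (iv F815)
theorem F1168 : act 7 n205 = n141 := d36_2 (iv F817) D205 (iv D141)
theorem F1169 : act 8 n205 = n205 := d37_2 D140 D205 (iv D205) (iv D140) F571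
def n206 : Q := act 9 n140
theorem D206 : act 9 n140 = n206 := rfl
theorem F1170 : act 1 n206 = n154 := d16_1 D206 (iv D154) (iv F814)
theorem F1171 : act 3 n206 = n146 := d29_1 D206 (iv D146) (iv F815)
theorem F1172 : act 4 n206 = n206 := d34_1 D206 (iv D206) F816
theorem F1173 : act 7 n206 = n142 := d43_1 D206 (iv D142) (iv F817)
theorem F1174 : act 8 n206 = n206 := d44_1 D206 (iv D206) (iv D140) F572 D140
def n207 : Q := act 4 n141
theorem D207 : act 4 n141 = n207 := rfl
theorem F1175 : act 1 n207 = n155 := d11_1 D207 (iv D155) (iv F818)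
theorem F1176 : act 3 n207 = n207 := d24_1 D207 (iv D207) F819 F588 (iv F819)
theorem F1177 : act 5 n207 = n207 := d30_2 D141 D207 (iv D207) (iv D141) F575
theorem F1178 : act 8 n207 = n207 := d33_2 F820 D207 (iv D207)
def n208 : Q := act 6 n141
theorem D208 : act 6 n141 = n208 := rfl
theorem F1179 : act 1 n208 = n156 := d13_1 D208 (iv D156) (iv F818)
theorem F1180 : act 3 n208 = n147 := d26_1 D208 (iv D147) (iv F819)
theorem F1181 : act 5 n208 = n208 := d35_1 D208 (iv D208) (iv D141) F576 D141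
theorem F1182 : act 8 n208 = n208 := d40_2 F820 D208 (iv D208)
def n209 : Q := act 9 n141
theorem D209 : act 9 n141 = n209 := rfl
theorem F1183 : act 1 n209 = n157 := d16_1 D209 (iv D157) (iv F818)
theorem F1184 : act 3 n209 = n148 := d29_1 D209 (iv D148) (iv F819)
theorem F1185 : act 5 n209 = n142 := d38_1 D209 (iv D142) D141
def n210 : Q := act 8 n143
theorem D210 : act 8 n143 = n210 := rfl
theorem F1186 : act 1 n210 = n158 := d15_1 D210 (iv D158) (iv F826)
theorem F1187 : act 2 n210 = n210 := d22_1 D210 (iv D210) F827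
theorem F1188 : act 4 n210 = n210 := d33_1 D210 (iv D210) F828
theorem F1189 : act 6 n210 = n210 := d40_1 D210 (iv D210) F829
theorem F1190 : act 7 n210 = n210 := d42_1 D210 (iv D210) F830
def n211 : Q := act 5 n144
theorem D211 : act 5 n144 = n211 := rfl
theorem F1191 : act 1 n211 = n159 := d12_1 D211 (iv D159) (iv F832)
theorem F1192 : act 2 n211 = n211 := d19_1 D211 (iv D211) F833
theorem F1193 : act 7 n211 = n211 := d36_2 F836 D211 (iv D211)
def n212 : Q := act 9 n144
theorem D212 : act 9 n144 = n212 := rfl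
theorem F1194 : act 1 n212 = n160 := d16_1 D212 (iv D160) (iv F832)
theorem F1195 : act 2 n212 = n212 := d23_1 D212 (iv D212) F833
theorem F1196 : act 4 n212 = n150 := d34_1 D212 (iv D150) (iv F834)
theorem F1197 : act 6 n212 = n146 := d41_1 D212 (iv D146) (iv F835)
theorem F1198 : act 7 n212 = n212 := d43_1 D212 (iv D212) F836
theorem F1199 : act 8 n212 = n212 := d44_1 D212 (iv D212) (iv D144) F581 D144
def n213 : Q := act 6 n145
theorem D213 : act 6 n145 = n213 := rfl
theorem F1200 : act 1 n213 = n161 := d13_1 D213 (iv D161) (iv F837)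
theorem F1201 : act 2 n213 = n213 := d20_1 D213 (iv D213) F838
theorem F1202 : act 4 n213 = n213 := d31_1 D213 (iv D213) F839
theorem F1203 : act 8 n213 = n213 := d40_2 F841 D213 (iv D213)
def n214 : Q := act 9 n145
theorem D214 : act 9 n145 = n214 := rfl
theorem F1204 : act 1 n214 = n162 := d16_1 D214 (iv D162) (iv F837)
theorem F1205 : act 2 n214 = n214 := d23_1 D214 (iv D214) F838
theorem F1206 : act 4 n214 = n214 := d34_1 D214 (iv D214) F839
theorem F1207 : act 5 n214 = n146 := d38_1 D214 (iv D146) D145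
theorem F1208 : act 7 n214 = n148 := d43_1 D214 (iv D148) (iv F840)
def n215 : Q := act 7 n147
theorem D215 : act 7 n147 = n215 := rfl
theorem F1209 : act 1 n215 = n163 := d14_1 D215 (iv D163) (iv F847)
theorem F1210 : act 2 n215 = n215 := d21_1 D215 (iv D215) F848
theorem F1211 : act 4 n215 = n215 := d32_1 D215 (iv D215) F849
theorem F1212 : act 5 n215 = n215 := d36_1 D215 (iv D215) F850
theorem F1213 : act 8 n215 = n215 := d42_2 F851 D215 (iv D215)
def n216 : Q := act 9 n147
theorem D216 : act 9 n147 = n216 := rfl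
theorem F1214 : act 1 n216 = n164 := d16_1 D216 (iv D164) (iv F847)
theorem F1215 : act 2 n216 = n216 := d23_1 D216 (iv D216) F848
theorem F1216 : act 4 n216 = n216 := d34_1 D216 (iv D216) F849
theorem F1217 : act 5 n216 = n216 := d38_1 D216 (iv D216) F850
theorem F1218 : act 6 n216 = n148 := d41_1 D216 (iv D148) D147
def n217 : Q := act 8 n148
theorem D217 : act 8 n148 = n217 := rfl
theorem F1219 : act 1 n217 = n165 := d15_1 D217 (iv D165) (iv F852)
theorem F1220 : act 2 n217 = n217 := d22_1 D217 (iv D217) F853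
theorem F1221 : act 4 n217 = n217 := d33_1 D217 (iv D217) F854
theorem F1222 : act 5 n217 = n217 := d37_1 D217 (iv D217) F855 F594 (iv F855)
theorem F1223 : act 9 n217 = n217 := d44_2 D148 D217 (iv D217) (iv D148) F589
def n218 : Q := act 4 n149
theorem D218 : act 4 n149 = n218 := rfl
theorem F1224 : act 1 n218 = n166 := d11_1 D218 (iv D166) (iv F856)
theorem F1225 : act 2 n218 = n218 := d18_1 D218 (iv D218) F857
theorem F1226 : act 6 n218 = n218 := d31_2 F859 D218 (iv D218)
theorem F1227 : act 7 n218 = n218 := d32_2 F860 D218 (iv D218)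
theorem F1228 : act 8 n218 = n218 := d33_2 F861 D218 (iv D218)
def n219 : Q := act 9 n149
theorem D219 : act 9 n149 = n219 := rfl
theorem F1229 : act 1 n219 = n167 := d16_1 D219 (iv D167) (iv F856)
theorem F1230 : act 2 n219 = n219 := d23_1 D219 (iv D219) F857
theorem F1231 : act 3 n219 = n219 := d29_1 D219 (iv D219) F858
theorem F1232 : act 5 n219 = n150 := d38_1 D219 (iv D150) D149
theorem F1233 : act 6 n219 = n219 := d41_1 D219 (iv D219) F859
theorem F1234 : act 7 n219 = n219 := d43_1 D219 (iv D219) F860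
def n220 : Q := act 4 n151
theorem D220 : act 4 n151 = n220 := rfl
theorem F1235 : act 0 n220 = n220 := d3_1 D220 (iv D220) F868
theorem F1236 : act 2 n220 = n220 := d18_1 D220 (iv D220) F869
theorem F1237 : act 3 n220 = n220 := d24_1 D220 (iv D220) F870 F629 (iv F870)
theorem F1238 : act 5 n220 = n220 := d30_2 D151 D220 (iv D220) (iv D151) F609
theorem F1239 : act 6 n220 = n220 := d31_2 F871 D220 (iv D220)
theorem F1240 : act 7 n220 = n220 := d32_2 F872 D220 (iv D220)
theorem F1241 : act 9 n220 = n220 := d34_2 F873 D220 (iv D220)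
def n221 : Q := act 8 n151
theorem D221 : act 8 n151 = n221 := rfl
theorem F1242 : act 0 n221 = n221 := d7_1 D221 (iv D221) F868
theorem F1243 : act 2 n221 = n221 := d22_1 D221 (iv D221) F869
theorem F1244 : act 3 n221 = n158 := d28_1 D221 (iv D158) (iv F870)
theorem F1245 : act 6 n221 = n221 := d40_1 D221 (iv D221) F871
theorem F1246 : act 7 n221 = n221 := d42_1 D221 (iv D221) F872
def n222 : Q := act 5 n152
theorem D222 : act 5 n152 = n222 := rfl
theorem F1247 : act 0 n222 = n222 := d4_1 D222 (iv D222) F874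
theorem F1248 : act 2 n222 = n222 := d19_1 D222 (iv D222) F875
theorem F1249 : act 3 n222 = n159 := d25_1 D222 (iv D159) (iv F876)
theorem F1250 : act 7 n222 = n222 := d36_2 F879 D222 (iv D222)
def n223 : Q := act 9 n152
theorem D223 : act 9 n152 = n223 := rfl
theorem F1251 : act 0 n223 = n223 := d8_1 D223 (iv D223) F874
theorem F1252 : act 2 n223 = n223 := d23_1 D223 (iv D223) F875
theorem F1253 : act 3 n223 = n160 := d29_1 D223 (iv D160) (iv F876)
theorem F1254 : act 4 n223 = n223 := d34_1 D223 (iv D223) F877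
theorem F1255 : act 6 n223 = n154 := d41_1 D223 (iv D154) (iv F878)
theorem F1256 : act 7 n223 = n223 := d43_1 D223 (iv D223) F879
theorem F1257 : act 8 n223 = n223 := d44_1 D223 (iv D223) (iv D152) F611 D152
def n224 : Q := act 4 n153
theorem D224 : act 4 n153 = n224 := rfl
theorem F1258 : act 0 n224 = n224 := d3_1 D224 (iv D224) F880
theorem F1259 : act 2 n224 = n224 := d18_1 D224 (iv D224) F881
theorem F1260 : act 3 n224 = n224 := d24_1 D224 (iv D224) F882 F640 (iv F882)
theorem F1261 : act 5 n224 = n224 := d30_2 D153 D224 (iv D224) (iv D153) F615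
theorem F1262 : act 7 n224 = n155 := d32_2 (iv F883) D224 (iv D155)
theorem F1263 : act 8 n224 = n224 := d33_2 F884 D224 (iv D224)
def n225 : Q := act 6 n153
theorem D225 : act 6 n153 = n225 := rfl
theorem F1264 : act 0 n225 = n225 := d5_1 D225 (iv D225) F880
theorem F1265 : act 2 n225 = n225 := d20_1 D225 (iv D225) F881
theorem F1266 : act 3 n225 = n161 := d26_1 D225 (iv D161) (iv F882)
theorem F1267 : act 8 n225 = n225 := d40_2 F884 D225 (iv D225)
def n226 : Q := act 9 n153
theorem D226 : act 9 n153 = n226 := rfl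
theorem F1268 : act 0 n226 = n226 := d8_1 D226 (iv D226) F880
theorem F1269 : act 2 n226 = n226 := d23_1 D226 (iv D226) F881
theorem F1270 : act 3 n226 = n162 := d29_1 D226 (iv D162) (iv F882)
theorem F1271 : act 5 n226 = n154 := d38_1 D226 (iv D154) D153
theorem F1272 : act 7 n226 = n157 := d43_1 D226 (iv D157) (iv F883)
def n227 : Q := act 6 n155
theorem D227 : act 6 n155 = n227 := rfl
theorem F1273 : act 0 n227 = n227 := d5_1 D227 (iv D227) F891
theorem F1274 : act 2 n227 = n227 := d20_1 D227 (iv D227) F892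
theorem F1275 : act 3 n227 = n227 := d26_1 D227 (iv D227) F893
theorem F1276 : act 4 n227 = n156 := d31_1 D227 (iv D156) D155
theorem F1277 : act 8 n227 = n227 := d40_2 F895 D227 (iv D227)
def n228 : Q := act 9 n155
theorem D228 : act 9 n155 = n228 := rfl
theorem F1278 : act 0 n228 = n228 := d8_1 D228 (iv D228) F891
theorem F1279 : act 2 n228 = n228 := d23_1 D228 (iv D228) F892
theorem F1280 : act 3 n228 = n228 := d29_1 D228 (iv D228) F893
theorem F1281 : act 4 n228 = n157 := d34_1 D228 (iv D157) D155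
theorem F1282 : act 5 n228 = n228 := d38_1 D228 (iv D228) F894
def n229 : Q := act 7 n156
theorem D229 : act 7 n156 = n229 := rfl
theorem F1283 : act 0 n229 = n229 := d6_1 D229 (iv D229) F896
theorem F1284 : act 2 n229 = n229 := d21_1 D229 (iv D229) F897
theorem F1285 : act 3 n229 = n163 := d27_1 D229 (iv D163) (iv F898)
theorem F1286 : act 5 n229 = n229 := d36_1 D229 (iv D229) F899
theorem F1287 : act 8 n229 = n229 := d42_2 F900 D229 (iv D229)
def n230 : Q := act 9 n156
theorem D230 : act 9 n156 = n230 := rfl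
theorem F1288 : act 0 n230 = n230 := d8_1 D230 (iv D230) F896
theorem F1289 : act 2 n230 = n230 := d23_1 D230 (iv D230) F897
theorem F1290 : act 3 n230 = n164 := d29_1 D230 (iv D164) (iv F898)
theorem F1291 : act 5 n230 = n230 := d38_1 D230 (iv D230) F899
theorem F1292 : act 6 n230 = n157 := d41_1 D230 (iv D157) D156
def n231 : Q := act 8 n157
theorem D231 : act 8 n157 = n231 := rfl
theorem F1293 : act 0 n231 = n231 := d7_1 D231 (iv D231) F901
theorem F1294 : act 2 n231 = n231 := d22_1 D231 (iv D231) F902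
theorem F1295 : act 3 n231 = n165 := d28_1 D231 (iv D165) (iv F903)
theorem F1296 : act 5 n231 = n231 := d37_1 D231 (iv D231) F904 F626 (iv F904)
theorem F1297 : act 9 n231 = n231 := d44_2 D157 D231 (iv D231) (iv D157) F620
def n232 : Q := act 5 n158
theorem D232 : act 5 n158 = n232 := rfl
theorem F1298 : act 0 n232 = n232 := d4_1 D232 (iv D232) F905
theorem F1299 : act 2 n232 = n168 := d19_1 D232 (iv D168) (iv F906)
theorem F1300 : act 7 n232 = n232 := d36_2 F909 D232 (iv D232)
theorem F1301 : act 8 n232 = n159 := d37_2 D158 D232 (iv D159) (iv D108) D107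
def n233 : Q := act 9 n158
theorem D233 : act 9 n158 = n233 := rfl
theorem F1302 : act 0 n233 = n233 := d8_1 D233 (iv D233) F905
theorem F1303 : act 2 n233 = n169 := d23_1 D233 (iv D169) (iv F906)
theorem F1304 : act 4 n233 = n233 := d34_1 D233 (iv D233) F907
theorem F1305 : act 6 n233 = n233 := d41_1 D233 (iv D233) F908
theorem F1306 : act 7 n233 = n233 := d43_1 D233 (iv D233) F909
theorem F1307 : act 8 n233 = n233 := d44_1 D233 (iv D233) (iv D158) F632 D158
def n234 : Q := act 4 n159
theorem D234 : act 4 n159 = n234 := rfl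
theorem F1308 : act 0 n234 = n234 := d3_1 D234 (iv D234) F910
theorem F1309 : act 2 n234 = n170 := d18_1 D234 (iv D170) (iv F911)
theorem F1310 : act 5 n234 = n166 := d30_2 D159 D234 (iv D166) (iv D113) (iv F635)
theorem F1311 : act 7 n234 = n234 := d32_2 F912 D234 (iv D234)
def n235 : Q := act 6 n159
theorem D235 : act 6 n159 = n235 := rfl
theorem F1312 : act 0 n235 = n235 := d5_1 D235 (iv D235) F910
theorem F1313 : act 2 n235 = n171 := d20_1 D235 (iv D171) (iv F911)
theorem F1314 : act 5 n235 = n161 := d35_1 D235 (iv D161) (iv D109) (iv F636) D159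
def n236 : Q := act 9 n159
theorem D236 : act 9 n159 = n236 := rfl
theorem F1315 : act 0 n236 = n236 := d8_1 D236 (iv D236) F910
theorem F1316 : act 2 n236 = n172 := d23_1 D236 (iv D172) (iv F911)
theorem F1317 : act 5 n236 = n160 := d38_1 D236 (iv D160) D159
theorem F1318 : act 7 n236 = n236 := d43_1 D236 (iv D236) F912
def n237 : Q := act 7 n161
theorem D237 : act 7 n161 = n237 := rfl
theorem F1319 : act 0 n237 = n237 := d6_1 D237 (iv D237) F919
theorem F1320 : act 2 n237 = n173 := d21_1 D237 (iv D173) (iv F920)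
theorem F1321 : act 4 n237 = n237 := d32_1 D237 (iv D237) F921
theorem F1322 : act 6 n237 = n163 := d39_1 D237 (iv D163) (iv D111) (iv F641) D161
theorem F1323 : act 8 n237 = n237 := d42_2 F922 D237 (iv D237)
def n238 : Q := act 9 n161
theorem D238 : act 9 n161 = n238 := rfl
theorem F1324 : act 0 n238 = n238 := d8_1 D238 (iv D238) F919
theorem F1325 : act 2 n238 = n174 := d23_1 D238 (iv D174) (iv F920)
theorem F1326 : act 4 n238 = n238 := d34_1 D238 (iv D238) F921
theorem F1327 : act 6 n238 = n162 := d41_1 D238 (iv D162) D161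
def n239 : Q := act 8 n162
theorem D239 : act 8 n162 = n239 := rfl
theorem F1328 : act 0 n239 = n239 := d7_1 D239 (iv D239) F923
theorem F1329 : act 2 n239 = n175 := d22_1 D239 (iv D175) (iv F924)
theorem F1330 : act 4 n239 = n239 := d33_1 D239 (iv D239) F925
theorem F1331 : act 5 n239 = n239 := d37_1 D239 (iv D239) F926 F647 (iv F926)
theorem F1332 : act 7 n239 = n165 := d42_1 D239 (iv D165) (iv F927)
theorem F1333 : act 9 n239 = n239 := d44_2 D162 D239 (iv D239) (iv D162) F642
def n240 : Q := act 9 n163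
theorem D240 : act 9 n163 = n240 := rfl
theorem F1334 : act 0 n240 = n240 := d8_1 D240 (iv D240) F928
theorem F1335 : act 2 n240 = n176 := d23_1 D240 (iv D176) (iv F929)
theorem F1336 : act 4 n240 = n240 := d34_1 D240 (iv D240) F930
theorem F1337 : act 5 n240 = n240 := d38_1 D240 (iv D240) F931
theorem F1338 : act 7 n240 = n164 := d43_1 D240 (iv D164) D163
def n241 : Q := act 8 n164
theorem D241 : act 8 n164 = n241 := rfl
theorem F1339 : act 0 n241 = n241 := d7_1 D241 (iv D241) F933
theorem F1340 : act 2 n241 = n177 := d22_1 D241 (iv D177) (iv F934)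
theorem F1341 : act 4 n241 = n241 := d33_1 D241 (iv D241) F935
theorem F1342 : act 6 n241 = n165 := d40_1 D241 (iv D165) (iv F937)
theorem F1343 : act 9 n241 = n241 := d44_2 D164 D241 (iv D241) (iv D164) F652
def n242 : Q := act 3 n166
theorem D242 : act 3 n166 = n242 := rfl
theorem F1344 : act 0 n242 = n242 := d2_1 D242 (iv D242) F943
theorem F1345 : act 4 n242 = n242 := d24_2 D166 D242 (iv D242) (iv D166) F659
theorem F1346 : act 6 n242 = n242 := d26_2 F945 D242 (iv D242)
theorem F1347 : act 7 n242 = n242 := d27_2 F946 D242 (iv D242)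
theorem F1348 : act 8 n242 = n242 := d28_2 F947 D242 (iv D242)
def n243 : Q := act 9 n166
theorem D243 : act 9 n166 = n243 := rfl
theorem F1349 : act 0 n243 = n243 := d8_1 D243 (iv D243) F943
theorem F1350 : act 2 n243 = n179 := d23_1 D243 (iv D179) (iv F944)
theorem F1351 : act 4 n243 = n167 := d34_1 D243 (iv D167) D166
theorem F1352 : act 6 n243 = n243 := d41_1 D243 (iv D243) F945
theorem F1353 : act 7 n243 = n243 := d43_1 D243 (iv D243) F946
def n244 : Q := act 8 n167
theorem D244 : act 8 n167 = n244 := rfl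
theorem F1354 : act 0 n244 = n244 := d7_1 D244 (iv D244) F948
theorem F1355 : act 2 n244 = n180 := d22_1 D244 (iv D180) (iv F949)
theorem F1356 : act 3 n244 = n244 := d28_1 D244 (iv D244) F950
theorem F1357 : act 5 n244 = n244 := d37_1 D244 (iv D244) F951 F668 (iv F951)
theorem F1358 : act 6 n244 = n244 := d40_1 D244 (iv D244) F952
theorem F1359 : act 7 n244 = n244 := d42_1 D244 (iv D244) F953
theorem F1360 : act 9 n244 = n244 := d44_2 D167 D244 (iv D244) (iv D167) F662
def n245 : Q := act 4 n168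
theorem D245 : act 4 n168 = n245 := rfl
theorem F1361 : act 0 n245 = n245 := d3_1 D245 (iv D245) F954
theorem F1362 : act 1 n245 = n245 := d11_1 D245 (iv D245) F955
theorem F1363 : act 5 n245 = n245 := d30_2 D168 D245 (iv D245) (iv D168) F672
theorem F1364 : act 7 n245 = n245 := d32_2 F957 D245 (iv D245)
theorem F1365 : act 8 n245 = n170 := d33_2 (iv F958) D245 (iv D170)
def n246 : Q := act 6 n168
theorem D246 : act 6 n168 = n246 := rfl
theorem F1366 : act 0 n246 = n246 := d5_1 D246 (iv D246) F954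
theorem F1367 : act 1 n246 = n246 := d13_1 D246 (iv D246) F955
theorem F1368 : act 3 n246 = n246 := d26_1 D246 (iv D246) F956
theorem F1369 : act 5 n246 = n246 := d35_1 D246 (iv D246) (iv D168) F673 D168
theorem F1370 : act 8 n246 = n171 := d40_2 (iv F958) D246 (iv D171)
def n247 : Q := act 9 n168
theorem D247 : act 9 n168 = n247 := rfl
theorem F1371 : act 0 n247 = n247 := d8_1 D247 (iv D247) F954
theorem F1372 : act 1 n247 = n247 := d16_1 D247 (iv D247) F955
theorem F1373 : act 3 n247 = n247 := d29_1 D247 (iv D247) F956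
theorem F1374 : act 5 n247 = n169 := d38_1 D247 (iv D169) D168
theorem F1375 : act 7 n247 = n247 := d43_1 D247 (iv D247) F957
def n248 : Q := act 3 n170
theorem D248 : act 3 n170 = n248 := rfl
theorem F1376 : act 0 n248 = n248 := d2_1 D248 (iv D248) F966
theorem F1377 : act 1 n248 = n248 := d10_1 D248 (iv D248) F967
theorem F1378 : act 4 n248 = n248 := d24_2 D170 D248 (iv D248) (iv D170) F677
theorem F1379 : act 5 n248 = n178 := d25_2 (iv F968) D248 (iv D178)
theorem F1380 : act 7 n248 = n248 := d27_2 F969 D248 (iv D248)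
def n249 : Q := act 6 n170
theorem D249 : act 6 n170 = n249 := rfl
theorem F1381 : act 0 n249 = n249 := d5_1 D249 (iv D249) F966
theorem F1382 : act 1 n249 = n249 := d13_1 D249 (iv D249) F967
theorem F1383 : act 4 n249 = n171 := d31_1 D249 (iv D171) D170
theorem F1384 : act 5 n249 = n249 := d35_1 D249 (iv D249) F968 F717 (iv F968)
def n250 : Q := act 9 n170
theorem D250 : act 9 n170 = n250 := rfl
theorem F1385 : act 0 n250 = n250 := d8_1 D250 (iv D250) F966
theorem F1386 : act 1 n250 = n250 := d16_1 D250 (iv D250) F967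
theorem F1387 : act 4 n250 = n172 := d34_1 D250 (iv D172) D170
theorem F1388 : act 5 n250 = n179 := d38_1 D250 (iv D179) (iv F968)
theorem F1389 : act 7 n250 = n250 := d43_1 D250 (iv D250) F969
def n251 : Q := act 7 n171
theorem D251 : act 7 n171 = n251 := rfl
theorem F1390 : act 0 n251 = n251 := d6_1 D251 (iv D251) F970
theorem F1391 : act 1 n251 = n251 := d14_1 D251 (iv D251) F971
theorem F1392 : act 3 n251 = n251 := d27_1 D251 (iv D251) F972
theorem F1393 : act 5 n251 = n173 := d36_1 D251 (iv D173) (iv F973)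
theorem F1394 : act 6 n251 = n251 := d39_1 D251 (iv D251) (iv D171) F678 D171
def n252 : Q := act 9 n171
theorem D252 : act 9 n171 = n252 := rfl
theorem F1395 : act 0 n252 = n252 := d8_1 D252 (iv D252) F970
theorem F1396 : act 1 n252 = n252 := d16_1 D252 (iv D252) F971
theorem F1397 : act 3 n252 = n252 := d29_1 D252 (iv D252) F972
theorem F1398 : act 5 n252 = n174 := d38_1 D252 (iv D174) (iv F973)
theorem F1399 : act 6 n252 = n172 := d41_1 D252 (iv D172) D171
def n253 : Q := act 8 n172
theorem D253 : act 8 n172 = n253 := rfl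
theorem F1400 : act 0 n253 = n253 := d7_1 D253 (iv D253) F974
theorem F1401 : act 1 n253 = n253 := d15_1 D253 (iv D253) F975
theorem F1402 : act 3 n253 = n253 := d28_1 D253 (iv D253) F976
theorem F1403 : act 5 n253 = n253 := d37_1 D253 (iv D253) F977 F685 (iv F977)
theorem F1404 : act 7 n253 = n253 := d42_1 D253 (iv D253) F978
def n254 : Q := act 9 n173
theorem D254 : act 9 n173 = n254 := rfl
theorem F1405 : act 0 n254 = n254 := d8_1 D254 (iv D254) F979
theorem F1406 : act 1 n254 = n254 := d16_1 D254 (iv D254) F980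
theorem F1407 : act 3 n254 = n254 := d29_1 D254 (iv D254) F981
theorem F1408 : act 4 n254 = n254 := d34_1 D254 (iv D254) F982
theorem F1409 : act 6 n254 = n176 := d41_1 D254 (iv D176) (iv F983)
theorem F1410 : act 7 n254 = n174 := d43_1 D254 (iv D174) D173
def n255 : Q := act 8 n174
theorem D255 : act 8 n174 = n255 := rfl
theorem F1411 : act 0 n255 = n255 := d7_1 D255 (iv D255) F985
theorem F1412 : act 1 n255 = n255 := d15_1 D255 (iv D255) F986
theorem F1413 : act 3 n255 = n255 := d28_1 D255 (iv D255) F987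
theorem F1414 : act 4 n255 = n255 := d33_1 D255 (iv D255) F988
theorem F1415 : act 6 n255 = n175 := d40_1 D255 (iv D175) (iv F989)
theorem F1416 : act 9 n255 = n255 := d44_2 D174 D255 (iv D255) (iv D174) F690
def n256 : Q := act 8 n176
theorem D256 : act 8 n176 = n256 := rfl
theorem F1417 : act 0 n256 = n256 := d7_1 D256 (iv D256) F997
theorem F1418 : act 1 n256 = n256 := d15_1 D256 (iv D256) F998
theorem F1419 : act 3 n256 = n256 := d28_1 D256 (iv D256) F999
theorem F1420 : act 4 n256 = n256 := d33_1 D256 (iv D256) F1000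
theorem F1421 : act 7 n256 = n177 := d42_1 D256 (iv D177) (iv F1002)
theorem F1422 : act 9 n256 = n256 := d44_2 D176 D256 (iv D256) (iv D176) F702
def n257 : Q := act 5 n177
theorem D257 : act 5 n177 = n257 := rfl
theorem F1423 : act 0 n257 = n257 := d4_1 D257 (iv D257) F1003
theorem F1424 : act 1 n257 = n257 := d12_1 D257 (iv D257) F1004
theorem F1425 : act 3 n257 = n257 := d25_1 D257 (iv D257) F1005
theorem F1426 : act 6 n257 = n257 := d35_2 (iv F1007) D257 (iv D257) F1007 F713
theorem F1427 : act 8 n257 = n257 := d37_2 D177 D257 (iv D257) (iv D177) F707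
theorem F1428 : act 9 n257 = n257 := d38_2 F1008 D257 (iv D257)
def n258 : Q := act 2 n178
theorem D258 : act 2 n178 = n258 := rfl
theorem F1429 : act 0 n258 = n258 := d1_1 D258 (iv D258) F1009
theorem F1430 : act 4 n258 = n181 := d18_2 (iv F1011) D258 (iv D181)
theorem F1431 : act 6 n258 = n258 := d20_2 F1012 D258 (iv D258)
theorem F1432 : act 7 n258 = n258 := d21_2 F1013 D258 (iv D258)
theorem F1433 : act 8 n258 = n258 := d22_2 F1014 D258 (iv D258)
def n259 : Q := act 9 n178
theorem D259 : act 9 n178 = n259 := rfl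
theorem F1434 : act 0 n259 = n259 := d8_1 D259 (iv D259) F1009
theorem F1435 : act 1 n259 = n259 := d16_1 D259 (iv D259) F1010
theorem F1436 : act 3 n259 = n179 := d29_1 D259 (iv D179) D178
theorem F1437 : act 4 n259 = n182 := d34_1 D259 (iv D182) (iv F1011)
theorem F1438 : act 6 n259 = n259 := d41_1 D259 (iv D259) F1012
theorem F1439 : act 7 n259 = n259 := d43_1 D259 (iv D259) F1013
def n260 : Q := act 8 n179
theorem D260 : act 8 n179 = n260 := rfl
theorem F1440 : act 0 n260 = n260 := d7_1 D260 (iv D260) F1015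
theorem F1441 : act 1 n260 = n260 := d15_1 D260 (iv D260) F1016
theorem F1442 : act 4 n260 = n180 := d33_1 D260 (iv D180) (iv F1017)
theorem F1443 : act 6 n260 = n260 := d40_1 D260 (iv D260) F1018
theorem F1444 : act 7 n260 = n260 := d42_1 D260 (iv D260) F1019
theorem F1445 : act 9 n260 = n260 := d44_2 D179 D260 (iv D260) (iv D179) F719
def n261 : Q := act 1 n181
theorem D261 : act 1 n181 = n261 := rfl
theorem F1446 : act 2 n261 = n261 := d9_2 D181 D261 (iv D261) (iv D181) F727
theorem F1447 : act 3 n261 = n261 := d10_2 F1028 D261 (iv D261)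
theorem F1448 : act 5 n261 = n261 := d12_2 F1029 D261 (iv D261)
theorem F1449 : act 6 n261 = n261 := d13_2 F1030 D261 (iv D261)
theorem F1450 : act 7 n261 = n261 := d14_2 F1031 D261 (iv D261)
theorem F1451 : act 8 n261 = n261 := d15_2 F1032 D261 (iv D261)
def n262 : Q := act 9 n181
theorem D262 : act 9 n181 = n262 := rfl
theorem F1452 : act 0 n262 = n262 := d8_1 D262 (iv D262) F1027
theorem F1453 : act 2 n262 = n182 := d23_1 D262 (iv D182) D181
theorem F1454 : act 3 n262 = n262 := d29_1 D262 (iv D262) F1028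
theorem F1455 : act 5 n262 = n262 := d38_1 D262 (iv D262) F1029
theorem F1456 : act 6 n262 = n262 := d41_1 D262 (iv D262) F1030
theorem F1457 : act 7 n262 = n262 := d43_1 D262 (iv D262) F1031
def n263 : Q := act 8 n182
theorem D263 : act 8 n182 = n263 := rfl
theorem F1458 : act 0 n263 = n263 := d7_1 D263 (iv D263) F1033
theorem F1459 : act 1 n263 = n263 := d15_1 D263 (iv D263) F1034
theorem F1460 : act 3 n263 = n183 := d28_1 D263 (iv D183) (iv F1035)
theorem F1461 : act 6 n263 = n263 := d40_1 D263 (iv D263) F1037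
theorem F1462 : act 7 n263 = n263 := d42_1 D263 (iv D263) F1038
theorem F1463 : act 9 n263 = n263 := d44_2 D182 D263 (iv D263) (iv D182) F731
def n264 : Q := act 5 n183
theorem D264 : act 5 n183 = n264 := rfl
theorem F1464 : act 0 n264 = n264 := d4_1 D264 (iv D264) F1039
theorem F1465 : act 1 n264 = n264 := d12_1 D264 (iv D264) F1040
theorem F1466 : act 2 n264 = n264 := d19_1 D264 (iv D264) F1041
theorem F1467 : act 4 n264 = n264 := d30_1 D264 (iv D264) F1042 F742 (iv F1042)
theorem F1468 : act 7 n264 = n264 := d36_2 F1044 D264 (iv D264)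
theorem F1469 : act 8 n264 = n264 := d37_2 D183 D264 (iv D264) (iv D183) F736
theorem F1470 : act 9 n264 = n264 := d38_2 F1045 D264 (iv D264)
def n265 : Q := act 7 n184
theorem D265 : act 7 n184 = n265 := rfl
theorem F1471 : act 0 n265 = n265 := d6_1 D265 (iv D265) F1046
theorem F1472 : act 1 n265 = n185 := d14_1 D265 (iv D185) D184
theorem F1473 : act 2 n265 = n265 := d21_1 D265 (iv D265) F1047
theorem F1474 : act 3 n265 = n265 := d27_1 D265 (iv D265) F1048
theorem F1475 : act 4 n265 = n265 := d32_1 D265 (iv D265) F1049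
theorem F1476 : act 5 n265 = n265 := d36_1 D265 (iv D265) F1050
theorem F1477 : act 9 n265 = n265 := d43_2 F1052 D265 (iv D265)
def n266 : Q := act 8 n184
theorem D266 : act 8 n184 = n266 := rfl
theorem F1478 : act 0 n266 = n266 := d7_1 D266 (iv D266) F1046
theorem F1479 : act 1 n266 = n186 := d15_1 D266 (iv D186) D184
theorem F1480 : act 2 n266 = n266 := d22_1 D266 (iv D266) F1047
theorem F1481 : act 3 n266 = n266 := d28_1 D266 (iv D266) F1048
theorem F1482 : act 4 n266 = n266 := d33_1 D266 (iv D266) F1049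
theorem F1483 : act 6 n266 = n266 := d40_1 D266 (iv D266) F1051
def n267 : Q := act 6 n185
theorem D267 : act 6 n185 = n267 := rfl
theorem F1484 : act 0 n267 = n199 := d5_1 D267 (iv D199) (iv F1053)
theorem F1485 : act 2 n267 = n187 := d20_1 D267 (iv D187) (iv F1054)
theorem F1486 : act 3 n267 = n267 := d26_1 D267 (iv D267) F1055
theorem F1487 : act 4 n267 = n267 := d31_1 D267 (iv D267) F1056
theorem F1488 : act 7 n267 = n267 := d39_2 D185 D267 (iv D267) (iv D185) F750
theorem F1489 : act 9 n267 = n267 := d41_2 F1058 D267 (iv D267)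
def n268 : Q := act 8 n185
theorem D268 : act 8 n185 = n268 := rfl
theorem F1490 : act 0 n268 = n200 := d7_1 D268 (iv D200) (iv F1053)
theorem F1491 : act 2 n268 = n188 := d22_1 D268 (iv D188) (iv F1054)
theorem F1492 : act 3 n268 = n268 := d28_1 D268 (iv D268) F1055
theorem F1493 : act 4 n268 = n268 := d33_1 D268 (iv D268) F1056
theorem F1494 : act 7 n268 = n186 := d42_1 D268 (iv D186) D185
def n269 : Q := act 5 n186
theorem D269 : act 5 n186 = n269 := rfl
theorem F1495 : act 0 n269 = n201 := d4_1 D269 (iv D201) (iv F1059)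
theorem F1496 : act 2 n269 = n189 := d19_1 D269 (iv D189) (iv F1060)
theorem F1497 : act 3 n269 = n269 := d25_1 D269 (iv D269) F1061
theorem F1498 : act 8 n269 = n269 := d37_2 D186 D269 (iv D269) (iv D186) F749
def n270 : Q := act 9 n186
theorem D270 : act 9 n186 = n270 := rfl
theorem F1499 : act 0 n270 = n202 := d8_1 D270 (iv D202) (iv F1059)
theorem F1500 : act 2 n270 = n190 := d23_1 D270 (iv D190) (iv F1060)
theorem F1501 : act 3 n270 = n270 := d29_1 D270 (iv D270) F1061
theorem F1502 : act 4 n270 = n270 := d34_1 D270 (iv D270) F1062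
theorem F1503 : act 6 n270 = n270 := d41_1 D270 (iv D270) F1063
theorem F1504 : act 8 n270 = n270 := d44_1 D270 (iv D270) (iv D186) F751 D186
def n271 : Q := act 5 n187
theorem D271 : act 5 n187 = n271 := rfl
theorem F1505 : act 0 n271 = n203 := d4_1 D271 (iv D203) (iv F1064)
theorem F1506 : act 1 n271 = n271 := d12_1 D271 (iv D271) F1065
theorem F1507 : act 3 n271 = n191 := d25_1 D271 (iv D191) (iv F1066)
theorem F1508 : act 6 n271 = n271 := d35_2 D187 D271 (iv D271) (iv D187) F756
theorem F1509 : act 7 n271 = n271 := d36_2 F1068 D271 (iv D271)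
theorem F1510 : act 9 n271 = n271 := d38_2 F1069 D271 (iv D271)
def n272 : Q := act 8 n187
theorem D272 : act 8 n187 = n272 := rfl
theorem F1511 : act 0 n272 = n204 := d7_1 D272 (iv D204) (iv F1064)
theorem F1512 : act 1 n272 = n272 := d15_1 D272 (iv D272) F1065
theorem F1513 : act 3 n272 = n192 := d28_1 D272 (iv D192) (iv F1066)
theorem F1514 : act 4 n272 = n272 := d33_1 D272 (iv D272) F1067
theorem F1515 : act 6 n272 = n188 := d40_1 D272 (iv D188) D187
theorem F1516 : act 7 n272 = n272 := d42_1 D272 (iv D272) F1068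
def n273 : Q := act 5 n188
theorem D273 : act 5 n188 = n273 := rfl
theorem F1517 : act 0 n273 = n205 := d4_1 D273 (iv D205) (iv F1070)
theorem F1518 : act 1 n273 = n273 := d12_1 D273 (iv D273) F1071
theorem F1519 : act 3 n273 = n193 := d25_1 D273 (iv D193) (iv F1072)
theorem F1520 : act 7 n273 = n189 := d36_2 (iv F1074) D273 (iv D189)
theorem F1521 : act 8 n273 = n273 := d37_2 D188 D273 (iv D273) (iv D188) F756
def n274 : Q := act 9 n188
theorem D274 : act 9 n188 = n274 := rfl
theorem F1522 : act 0 n274 = n206 := d8_1 D274 (iv D206) (iv F1070)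
theorem F1523 : act 1 n274 = n274 := d16_1 D274 (iv D274) F1071
theorem F1524 : act 3 n274 = n194 := d29_1 D274 (iv D194) (iv F1072)
theorem F1525 : act 4 n274 = n274 := d34_1 D274 (iv D274) F1073
theorem F1526 : act 7 n274 = n190 := d43_1 D274 (iv D190) (iv F1074)
theorem F1527 : act 8 n274 = n274 := d44_1 D274 (iv D274) (iv D188) F757 D188
def n275 : Q := act 4 n189
theorem D275 : act 4 n189 = n275 := rfl
theorem F1528 : act 0 n275 = n207 := d3_1 D275 (iv D207) (iv F1075)
theorem F1529 : act 1 n275 = n275 := d11_1 D275 (iv D275) F1076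
theorem F1530 : act 3 n275 = n275 := d24_1 D275 (iv D275) F1077 F777 (iv F1077)
theorem F1531 : act 5 n275 = n275 := d30_2 D189 D275 (iv D275) (iv D189) F761
theorem F1532 : act 8 n275 = n275 := d33_2 F1078 D275 (iv D275)
def n276 : Q := act 6 n189
theorem D276 : act 6 n189 = n276 := rfl
theorem F1533 : act 0 n276 = n208 := d5_1 D276 (iv D208) (iv F1075)
theorem F1534 : act 1 n276 = n276 := d13_1 D276 (iv D276) F1076
theorem F1535 : act 3 n276 = n195 := d26_1 D276 (iv D195) (iv F1077)
theorem F1536 : act 5 n276 = n276 := d35_1 D276 (iv D276) (iv D189) F762 D189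
theorem F1537 : act 8 n276 = n276 := d40_2 F1078 D276 (iv D276)
def n277 : Q := act 9 n189
theorem D277 : act 9 n189 = n277 := rfl
theorem F1538 : act 0 n277 = n209 := d8_1 D277 (iv D209) (iv F1075)
theorem F1539 : act 1 n277 = n277 := d16_1 D277 (iv D277) F1076
theorem F1540 : act 3 n277 = n196 := d29_1 D277 (iv D196) (iv F1077)
theorem F1541 : act 5 n277 = n190 := d38_1 D277 (iv D190) D189
def n278 : Q := act 8 n191
theorem D278 : act 8 n191 = n278 := rfl
theorem F1542 : act 0 n278 = n210 := d7_1 D278 (iv D210) (iv F1085)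
theorem F1543 : act 1 n278 = n278 := d15_1 D278 (iv D278) F1086
theorem F1544 : act 2 n278 = n278 := d22_1 D278 (iv D278) F1087
theorem F1545 : act 4 n278 = n278 := d33_1 D278 (iv D278) F1088
theorem F1546 : act 6 n278 = n278 := d40_1 D278 (iv D278) F1089
theorem F1547 : act 7 n278 = n278 := d42_1 D278 (iv D278) F1090
def n279 : Q := act 5 n192
theorem D279 : act 5 n192 = n279 := rfl
theorem F1548 : act 0 n279 = n211 := d4_1 D279 (iv D211) (iv F1092)
theorem F1549 : act 1 n279 = n279 := d12_1 D279 (iv D279) F1093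
theorem F1550 : act 2 n279 = n279 := d19_1 D279 (iv D279) F1094
theorem F1551 : act 7 n279 = n279 := d36_2 F1097 D279 (iv D279)
def n280 : Q := act 9 n192
theorem D280 : act 9 n192 = n280 := rfl
theorem F1552 : act 0 n280 = n212 := d8_1 D280 (iv D212) (iv F1092)
theorem F1553 : act 1 n280 = n280 := d16_1 D280 (iv D280) F1093
theorem F1554 : act 2 n280 = n280 := d23_1 D280 (iv D280) F1094
theorem F1555 : act 4 n280 = n198 := d34_1 D280 (iv D198) (iv F1095)
theorem F1556 : act 6 n280 = n194 := d41_1 D280 (iv D194) (iv F1096)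
theorem F1557 : act 7 n280 = n280 := d43_1 D280 (iv D280) F1097
theorem F1558 : act 8 n280 = n280 := d44_1 D280 (iv D280) (iv D192) F768 D192
def n281 : Q := act 6 n193
theorem D281 : act 6 n193 = n281 := rfl
theorem F1559 : act 0 n281 = n213 := d5_1 D281 (iv D213) (iv F1098)
theorem F1560 : act 1 n281 = n281 := d13_1 D281 (iv D281) F1099
theorem F1561 : act 2 n281 = n281 := d20_1 D281 (iv D281) F1100
theorem F1562 : act 4 n281 = n281 := d31_1 D281 (iv D281) F1101
theorem F1563 : act 8 n281 = n281 := d40_2 F1103 D281 (iv D281)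
def n282 : Q := act 9 n193
theorem D282 : act 9 n193 = n282 := rfl
theorem F1564 : act 0 n282 = n214 := d8_1 D282 (iv D214) (iv F1098)
theorem F1565 : act 1 n282 = n282 := d16_1 D282 (iv D282) F1099
theorem F1566 : act 2 n282 = n282 := d23_1 D282 (iv D282) F1100
theorem F1567 : act 4 n282 = n282 := d34_1 D282 (iv D282) F1101
theorem F1568 : act 5 n282 = n194 := d38_1 D282 (iv D194) D193
theorem F1569 : act 7 n282 = n196 := d43_1 D282 (iv D196) (iv F1102)
def n283 : Q := act 7 n195
theorem D283 : act 7 n195 = n283 := rfl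
theorem F1570 : act 0 n283 = n215 := d6_1 D283 (iv D215) (iv F1110)
theorem F1571 : act 1 n283 = n283 := d14_1 D283 (iv D283) F1111
theorem F1572 : act 2 n283 = n283 := d21_1 D283 (iv D283) F1112
theorem F1573 : act 4 n283 = n283 := d32_1 D283 (iv D283) F1113
theorem F1574 : act 5 n283 = n283 := d36_1 D283 (iv D283) F1114
theorem F1575 : act 8 n283 = n283 := d42_2 F1115 D283 (iv D283)
def n284 : Q := act 9 n195
theorem D284 : act 9 n195 = n284 := rfl
theorem F1576 : act 0 n284 = n216 := d8_1 D284 (iv D216) (iv F1110)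
theorem F1577 : act 1 n284 = n284 := d16_1 D284 (iv D284) F1111
theorem F1578 : act 2 n284 = n284 := d23_1 D284 (iv D284) F1112
theorem F1579 : act 4 n284 = n284 := d34_1 D284 (iv D284) F1113
theorem F1580 : act 5 n284 = n284 := d38_1 D284 (iv D284) F1114
theorem F1581 : act 6 n284 = n196 := d41_1 D284 (iv D196) D195
def n285 : Q := act 8 n196
theorem D285 : act 8 n196 = n285 := rfl
theorem F1582 : act 0 n285 = n217 := d7_1 D285 (iv D217) (iv F1116)
theorem F1583 : act 1 n285 = n285 := d15_1 D285 (iv D285) F1117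
theorem F1584 : act 2 n285 = n285 := d22_1 D285 (iv D285) F1118
theorem F1585 : act 4 n285 = n285 := d33_1 D285 (iv D285) F1119
theorem F1586 : act 5 n285 = n285 := d37_1 D285 (iv D285) F1120 F784 (iv F1120)
theorem F1587 : act 9 n285 = n285 := d44_2 D196 D285 (iv D285) (iv D196) F778
def n286 : Q := act 4 n197
theorem D286 : act 4 n197 = n286 := rfl
theorem F1588 : act 0 n286 = n218 := d3_1 D286 (iv D218) (iv F1121)
theorem F1589 : act 1 n286 = n286 := d11_1 D286 (iv D286) F1122
theorem F1590 : act 2 n286 = n286 := d18_1 D286 (iv D286) F1123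
theorem F1591 : act 6 n286 = n286 := d31_2 F1125 D286 (iv D286)
theorem F1592 : act 7 n286 = n286 := d32_2 F1126 D286 (iv D286)
theorem F1593 : act 8 n286 = n286 := d33_2 F1127 D286 (iv D286)
def n287 : Q := act 9 n197
theorem D287 : act 9 n197 = n287 := rfl
theorem F1594 : act 0 n287 = n219 := d8_1 D287 (iv D219) (iv F1121)
theorem F1595 : act 1 n287 = n287 := d16_1 D287 (iv D287) F1122
theorem F1596 : act 2 n287 = n287 := d23_1 D287 (iv D287) F1123
theorem F1597 : act 3 n287 = n287 := d29_1 D287 (iv D287) F1124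
theorem F1598 : act 5 n287 = n198 := d38_1 D287 (iv D198) D197
theorem F1599 : act 6 n287 = n287 := d41_1 D287 (iv D287) F1125
theorem F1600 : act 7 n287 = n287 := d43_1 D287 (iv D287) F1126
def n288 : Q := act 5 n199
theorem D288 : act 5 n199 = n288 := rfl
theorem F1601 : act 1 n288 = n288 := d12_1 D288 (iv D288) F1135
theorem F1602 : act 2 n288 = n203 := d19_1 D288 (iv D203) (iv F1136)
theorem F1603 : act 3 n288 = n288 := d25_1 D288 (iv D288) F1137
theorem F1604 : act 6 n288 = n288 := d35_2 D199 D288 (iv D288) (iv D199) F802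
theorem F1605 : act 7 n288 = n288 := d36_2 F1139 D288 (iv D288)
theorem F1606 : act 9 n288 = n288 := d38_2 F1140 D288 (iv D288)
def n289 : Q := act 8 n199
theorem D289 : act 8 n199 = n289 := rfl
theorem F1607 : act 1 n289 = n289 := d15_1 D289 (iv D289) F1135
theorem F1608 : act 2 n289 = n204 := d22_1 D289 (iv D204) (iv F1136)
theorem F1609 : act 3 n289 = n289 := d28_1 D289 (iv D289) F1137
theorem F1610 : act 4 n289 = n289 := d33_1 D289 (iv D289) F1138
theorem F1611 : act 6 n289 = n200 := d40_1 D289 (iv D200) D199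
theorem F1612 : act 7 n289 = n289 := d42_1 D289 (iv D289) F1139
def n290 : Q := act 5 n200
theorem D290 : act 5 n200 = n290 := rfl
theorem F1613 : act 1 n290 = n290 := d12_1 D290 (iv D290) F1141
theorem F1614 : act 2 n290 = n205 := d19_1 D290 (iv D205) (iv F1142)
theorem F1615 : act 3 n290 = n290 := d25_1 D290 (iv D290) F1143
theorem F1616 : act 7 n290 = n201 := d36_2 (iv F1145) D290 (iv D201)
theorem F1617 : act 8 n290 = n290 := d37_2 D200 D290 (iv D290) (iv D200) F802
def n291 : Q := act 9 n200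
theorem D291 : act 9 n200 = n291 := rfl
theorem F1618 : act 1 n291 = n291 := d16_1 D291 (iv D291) F1141
theorem F1619 : act 2 n291 = n206 := d23_1 D291 (iv D206) (iv F1142)
theorem F1620 : act 3 n291 = n291 := d29_1 D291 (iv D291) F1143
theorem F1621 : act 4 n291 = n291 := d34_1 D291 (iv D291) F1144
theorem F1622 : act 7 n291 = n202 := d43_1 D291 (iv D202) (iv F1145)
theorem F1623 : act 8 n291 = n291 := d44_1 D291 (iv D291) (iv D200) F803 D200
def n292 : Q := act 4 n201
theorem D292 : act 4 n201 = n292 := rfl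
theorem F1625 : act 2 n292 = n207 := d18_1 D292 (iv D207) (iv F1147)
def n293 : Q := act 6 n201
theorem D293 : act 6 n201 = n293 := rfl
theorem F1631 : act 5 n293 = n293 := d35_1 D293 (iv D293) (iv D201) F808 D201
def n294 : Q := act 9 n201
theorem D294 : act 9 n201 = n294 := rfl
theorem F1633 : act 1 n294 = n294 := d16_1 D294 (iv D294) F1146
theorem F1634 : act 2 n294 = n209 := d23_1 D294 (iv D209) (iv F1147)
theorem F1635 : act 3 n294 = n294 := d29_1 D294 (iv D294) F1148
theorem F1636 : act 5 n294 = n202 := d38_1 D294 (iv D202) D201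
def n295 : Q := act 4 n203
theorem D295 : act 4 n203 = n295 := rfl
theorem F1637 : act 1 n295 = n220 := d11_1 D295 (iv D220) (iv F1156)
theorem F1638 : act 3 n295 = n295 := d24_1 D295 (iv D295) F1157 F828 (iv F1157)
theorem F1639 : act 5 n295 = n295 := d30_2 D203 D295 (iv D295) (iv D203) F811
theorem F1640 : act 6 n295 = n295 := d31_2 F1158 D295 (iv D295)
theorem F1641 : act 7 n295 = n295 := d32_2 F1159 D295 (iv D295)
theorem F1642 : act 9 n295 = n295 := d34_2 F1160 D295 (iv D295)
def n296 : Q := act 8 n203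
theorem D296 : act 8 n203 = n296 := rfl
theorem F1643 : act 1 n296 = n221 := d15_1 D296 (iv D221) (iv F1156)
theorem F1644 : act 3 n296 = n210 := d28_1 D296 (iv D210) (iv F1157)
theorem F1645 : act 6 n296 = n296 := d40_1 D296 (iv D296) F1158
theorem F1646 : act 7 n296 = n296 := d42_1 D296 (iv D296) F1159
def n297 : Q := act 5 n204
theorem D297 : act 5 n204 = n297 := rfl
theorem F1647 : act 1 n297 = n222 := d12_1 D297 (iv D222) (iv F1161)
theorem F1648 : act 3 n297 = n211 := d25_1 D297 (iv D211) (iv F1162)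
theorem F1649 : act 7 n297 = n297 := d36_2 F1165 D297 (iv D297)
def n298 : Q := act 9 n204
theorem D298 : act 9 n204 = n298 := rfl
theorem F1650 : act 1 n298 = n223 := d16_1 D298 (iv D223) (iv F1161)
theorem F1651 : act 3 n298 = n212 := d29_1 D298 (iv D212) (iv F1162)
theorem F1652 : act 4 n298 = n298 := d34_1 D298 (iv D298) F1163
theorem F1653 : act 6 n298 = n206 := d41_1 D298 (iv D206) (iv F1164)
theorem F1654 : act 7 n298 = n298 := d43_1 D298 (iv D298) F1165
theorem F1655 : act 8 n298 = n298 := d44_1 D298 (iv D298) (iv D204) F813 D204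
def n299 : Q := act 4 n205
theorem D299 : act 4 n205 = n299 := rfl
theorem F1656 : act 1 n299 = n224 := d11_1 D299 (iv D224) (iv F1166)
theorem F1657 : act 3 n299 = n299 := d24_1 D299 (iv D299) F1167 F839 (iv F1167)
theorem F1658 : act 5 n299 = n299 := d30_2 D205 D299 (iv D299) (iv D205) F816
theorem F1659 : act 7 n299 = n207 := d32_2 (iv F1168) D299 (iv D207)
theorem F1660 : act 8 n299 = n299 := d33_2 F1169 D299 (iv D299)
def n300 : Q := act 6 n205
theorem D300 : act 6 n205 = n300 := rfl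
theorem F1661 : act 1 n300 = n225 := d13_1 D300 (iv D225) (iv F1166)
theorem F1662 : act 3 n300 = n213 := d26_1 D300 (iv D213) (iv F1167)
theorem F1663 : act 8 n300 = n300 := d40_2 F1169 D300 (iv D300)
def n301 : Q := act 9 n205
theorem D301 : act 9 n205 = n301 := rfl
theorem F1664 : act 1 n301 = n226 := d16_1 D301 (iv D226) (iv F1166)
theorem F1665 : act 3 n301 = n214 := d29_1 D301 (iv D214) (iv F1167)
theorem F1666 : act 5 n301 = n206 := d38_1 D301 (iv D206) D205
theorem F1667 : act 7 n301 = n209 := d43_1 D301 (iv D209) (iv F1168)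
def n302 : Q := act 6 n207
theorem D302 : act 6 n207 = n302 := rfl
theorem F1668 : act 1 n302 = n227 := d13_1 D302 (iv D227) (iv F1175)
theorem F1670 : act 4 n302 = n208 := d31_1 D302 (iv D208) D207
def n303 : Q := act 9 n207
theorem D303 : act 9 n207 = n303 := rfl
theorem F1672 : act 1 n303 = n228 := d16_1 D303 (iv D228) (iv F1175)
theorem F1673 : act 3 n303 = n303 := d29_1 D303 (iv D303) F1176
theorem F1674 : act 4 n303 = n209 := d34_1 D303 (iv D209) D207
theorem F1675 : act 5 n303 = n303 := d38_1 D303 (iv D303) F1177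
def n304 : Q := act 7 n208
theorem D304 : act 7 n208 = n304 := rfl
theorem F1676 : act 1 n304 = n229 := d14_1 D304 (iv D229) (iv F1179)
theorem F1677 : act 3 n304 = n215 := d27_1 D304 (iv D215) (iv F1180)
theorem F1678 : act 5 n304 = n304 := d36_1 D304 (iv D304) F1181
theorem F1679 : act 8 n304 = n304 := d42_2 F1182 D304 (iv D304)
def n305 : Q := act 9 n208
theorem D305 : act 9 n208 = n305 := rfl
theorem F1680 : act 1 n305 = n230 := d16_1 D305 (iv D230) (iv F1179)
theorem F1681 : act 3 n305 = n216 := d29_1 D305 (iv D216) (iv F1180)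
theorem F1682 : act 5 n305 = n305 := d38_1 D305 (iv D305) F1181
theorem F1683 : act 6 n305 = n209 := d41_1 D305 (iv D209) D208
def n306 : Q := act 8 n209
theorem D306 : act 8 n209 = n306 := rfl
theorem F1684 : act 1 n306 = n231 := d15_1 D306 (iv D231) (iv F1183)
theorem F1685 : act 3 n306 = n217 := d28_1 D306 (iv D217) (iv F1184)
theorem F1686 : act 5 n306 = n306 := d37_1 D306 (iv D306) F1185 F825 (iv F1185)
theorem F1687 : act 9 n306 = n306 := d44_2 D209 D306 (iv D306) (iv D209) F820
def n307 : Q := act 5 n210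
theorem D307 : act 5 n210 = n307 := rfl
theorem F1688 : act 1 n307 = n232 := d12_1 D307 (iv D232) (iv F1186)
theorem F1689 : act 2 n307 = n307 := d19_1 D307 (iv D307) F1187
theorem F1690 : act 7 n307 = n307 := d36_2 F1190 D307 (iv D307)
theorem F1691 : act 8 n307 = n211 := d37_2 D210 D307 (iv D211) (iv D144) D143
def n308 : Q := act 9 n210
theorem D308 : act 9 n210 = n308 := rfl
theorem F1692 : act 1 n308 = n233 := d16_1 D308 (iv D233) (iv F1186)
theorem F1693 : act 2 n308 = n308 := d23_1 D308 (iv D308) F1187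
theorem F1694 : act 4 n308 = n308 := d34_1 D308 (iv D308) F1188
theorem F1695 : act 6 n308 = n308 := d41_1 D308 (iv D308) F1189
theorem F1696 : act 7 n308 = n308 := d43_1 D308 (iv D308) F1190
theorem F1697 : act 8 n308 = n308 := d44_1 D308 (iv D308) (iv D210) F831 D210
def n309 : Q := act 4 n211
theorem D309 : act 4 n211 = n309 := rfl
theorem F1698 : act 1 n309 = n234 := d11_1 D309 (iv D234) (iv F1191)
theorem F1699 : act 2 n309 = n309 := d18_1 D309 (iv D309) F1192
theorem F1700 : act 5 n309 = n218 := d30_2 D211 D309 (iv D218) (iv D149) (iv F834)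
theorem F1701 : act 7 n309 = n309 := d32_2 F1193 D309 (iv D309)
def n310 : Q := act 6 n211
theorem D310 : act 6 n211 = n310 := rfl
theorem F1702 : act 1 n310 = n235 := d13_1 D310 (iv D235) (iv F1191)
theorem F1703 : act 2 n310 = n310 := d20_1 D310 (iv D310) F1192
theorem F1704 : act 5 n310 = n213 := d35_1 D310 (iv D213) (iv D145) (iv F835) D211
def n311 : Q := act 9 n211
theorem D311 : act 9 n211 = n311 := rfl
theorem F1705 : act 1 n311 = n236 := d16_1 D311 (iv D236) (iv F1191)
theorem F1706 : act 2 n311 = n311 := d23_1 D311 (iv D311) F1192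
theorem F1707 : act 5 n311 = n212 := d38_1 D311 (iv D212) D211
theorem F1708 : act 7 n311 = n311 := d43_1 D311 (iv D311) F1193
def n312 : Q := act 7 n213
theorem D312 : act 7 n213 = n312 := rfl
theorem F1709 : act 1 n312 = n237 := d14_1 D312 (iv D237) (iv F1200)
theorem F1710 : act 2 n312 = n312 := d21_1 D312 (iv D312) F1201
theorem F1711 : act 4 n312 = n312 := d32_1 D312 (iv D312) F1202
theorem F1712 : act 6 n312 = n215 := d39_1 D312 (iv D215) (iv D147) (iv F840) D213
theorem F1713 : act 8 n312 = n312 := d42_2 F1203 D312 (iv D312)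
def n313 : Q := act 9 n213
theorem D313 : act 9 n213 = n313 := rfl
theorem F1714 : act 1 n313 = n238 := d16_1 D313 (iv D238) (iv F1200)
theorem F1715 : act 2 n313 = n313 := d23_1 D313 (iv D313) F1201
theorem F1716 : act 4 n313 = n313 := d34_1 D313 (iv D313) F1202
theorem F1717 : act 6 n313 = n214 := d41_1 D313 (iv D214) D213
def n314 : Q := act 8 n214
theorem D314 : act 8 n214 = n314 := rfl
theorem F1718 : act 1 n314 = n239 := d15_1 D314 (iv D239) (iv F1204)
theorem F1719 : act 2 n314 = n314 := d22_1 D314 (iv D314) F1205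
theorem F1720 : act 4 n314 = n314 := d33_1 D314 (iv D314) F1206
theorem F1721 : act 5 n314 = n314 := d37_1 D314 (iv D314) F1207 F846 (iv F1207)
theorem F1722 : act 7 n314 = n217 := d42_1 D314 (iv D217) (iv F1208)
theorem F1723 : act 9 n314 = n314 := d44_2 D214 D314 (iv D314) (iv D214) F841
def n315 : Q := act 9 n215
theorem D315 : act 9 n215 = n315 := rfl
theorem F1724 : act 1 n315 = n240 := d16_1 D315 (iv D240) (iv F1209)
theorem F1725 : act 2 n315 = n315 := d23_1 D315 (iv D315) F1210
theorem F1726 : act 4 n315 = n315 := d34_1 D315 (iv D315) F1211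
theorem F1727 : act 5 n315 = n315 := d38_1 D315 (iv D315) F1212
theorem F1728 : act 7 n315 = n216 := d43_1 D315 (iv D216) D215
def n316 : Q := act 8 n216
theorem D316 : act 8 n216 = n316 := rfl
theorem F1729 : act 1 n316 = n241 := d15_1 D316 (iv D241) (iv F1214)
theorem F1730 : act 2 n316 = n316 := d22_1 D316 (iv D316) F1215
theorem F1731 : act 4 n316 = n316 := d33_1 D316 (iv D316) F1216
theorem F1732 : act 6 n316 = n217 := d40_1 D316 (iv D217) (iv F1218)
theorem F1733 : act 9 n316 = n316 := d44_2 D216 D316 (iv D316) (iv D216) F851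
def n317 : Q := act 3 n218
theorem D317 : act 3 n218 = n317 := rfl
theorem F1734 : act 1 n317 = n242 := d10_1 D317 (iv D242) (iv F1224)
theorem F1735 : act 4 n317 = n317 := d24_2 D218 D317 (iv D317) (iv D218) F858
theorem F1736 : act 6 n317 = n317 := d26_2 F1226 D317 (iv D317)
theorem F1737 : act 7 n317 = n317 := d27_2 F1227 D317 (iv D317)
theorem F1738 : act 8 n317 = n317 := d28_2 F1228 D317 (iv D317)
def n318 : Q := act 9 n218
theorem D318 : act 9 n218 = n318 := rfl
theorem F1739 : act 1 n318 = n243 := d16_1 D318 (iv D243) (iv F1224)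
theorem F1740 : act 2 n318 = n318 := d23_1 D318 (iv D318) F1225
theorem F1741 : act 4 n318 = n219 := d34_1 D318 (iv D219) D218
theorem F1742 : act 6 n318 = n318 := d41_1 D318 (iv D318) F1226
theorem F1743 : act 7 n318 = n318 := d43_1 D318 (iv D318) F1227
def n319 : Q := act 8 n219
theorem D319 : act 8 n219 = n319 := rfl
theorem F1744 : act 1 n319 = n244 := d15_1 D319 (iv D244) (iv F1229)
theorem F1745 : act 2 n319 = n319 := d22_1 D319 (iv D319) F1230
theorem F1746 : act 3 n319 = n319 := d28_1 D319 (iv D319) F1231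
theorem F1747 : act 5 n319 = n319 := d37_1 D319 (iv D319) F1232 F867 (iv F1232)
theorem F1748 : act 6 n319 = n319 := d40_1 D319 (iv D319) F1233
theorem F1749 : act 7 n319 = n319 := d42_1 D319 (iv D319) F1234
theorem F1750 : act 9 n319 = n319 := d44_2 D219 D319 (iv D319) (iv D219) F861
def n320 : Q := act 8 n220
theorem D320 : act 8 n220 = n320 := rfl
theorem F1751 : act 0 n320 = n320 := d7_1 D320 (iv D320) F1235
theorem F1752 : act 2 n320 = n320 := d22_1 D320 (iv D320) F1236
theorem F1753 : act 3 n320 = n320 := d28_1 D320 (iv D320) F1237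
theorem F1754 : act 4 n320 = n221 := d33_1 D320 (iv D221) D220
theorem F1755 : act 6 n320 = n320 := d40_1 D320 (iv D320) F1239
theorem F1756 : act 7 n320 = n320 := d42_1 D320 (iv D320) F1240
def n321 : Q := act 5 n221
theorem D321 : act 5 n221 = n321 := rfl
theorem F1757 : act 0 n321 = n321 := d4_1 D321 (iv D321) F1242
theorem F1758 : act 2 n321 = n321 := d19_1 D321 (iv D321) F1243
theorem F1759 : act 3 n321 = n232 := d25_1 D321 (iv D232) (iv F1244)
theorem F1760 : act 7 n321 = n321 := d36_2 F1246 D321 (iv D321)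
theorem F1761 : act 8 n321 = n222 := d37_2 D221 D321 (iv D222) (iv D152) D151
def n322 : Q := act 9 n221
theorem D322 : act 9 n221 = n322 := rfl
theorem F1762 : act 0 n322 = n322 := d8_1 D322 (iv D322) F1242
theorem F1763 : act 2 n322 = n322 := d23_1 D322 (iv D322) F1243
theorem F1764 : act 3 n322 = n233 := d29_1 D322 (iv D233) (iv F1244)
theorem F1765 : act 6 n322 = n322 := d41_1 D322 (iv D322) F1245
theorem F1766 : act 7 n322 = n322 := d43_1 D322 (iv D322) F1246
theorem F1767 : act 8 n322 = n322 := d44_1 D322 (iv D322) (iv D221) F873 D221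
def n323 : Q := act 4 n222
theorem D323 : act 4 n222 = n323 := rfl
theorem F1768 : act 0 n323 = n323 := d3_1 D323 (iv D323) F1247
theorem F1769 : act 2 n323 = n323 := d18_1 D323 (iv D323) F1248
theorem F1770 : act 5 n323 = n323 := d30_2 D222 D323 (iv D323) (iv D222) F877
theorem F1771 : act 7 n323 = n323 := d32_2 F1250 D323 (iv D323)
def n324 : Q := act 6 n222
theorem D324 : act 6 n222 = n324 := rfl
theorem F1772 : act 0 n324 = n324 := d5_1 D324 (iv D324) F1247
theorem F1773 : act 2 n324 = n324 := d20_1 D324 (iv D324) F1248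
theorem F1774 : act 3 n324 = n235 := d26_1 D324 (iv D235) (iv F1249)
theorem F1775 : act 5 n324 = n225 := d35_1 D324 (iv D225) (iv D153) (iv F878) D222
def n325 : Q := act 9 n222
theorem D325 : act 9 n222 = n325 := rfl
theorem F1776 : act 0 n325 = n325 := d8_1 D325 (iv D325) F1247
theorem F1777 : act 2 n325 = n325 := d23_1 D325 (iv D325) F1248
theorem F1778 : act 3 n325 = n236 := d29_1 D325 (iv D236) (iv F1249)
theorem F1779 : act 5 n325 = n223 := d38_1 D325 (iv D223) D222
theorem F1780 : act 7 n325 = n325 := d43_1 D325 (iv D325) F1250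
def n326 : Q := act 6 n224
theorem D326 : act 6 n224 = n326 := rfl
theorem F1781 : act 0 n326 = n326 := d5_1 D326 (iv D326) F1258
theorem F1782 : act 2 n326 = n326 := d20_1 D326 (iv D326) F1259
theorem F1783 : act 3 n326 = n326 := d26_1 D326 (iv D326) F1260
theorem F1784 : act 4 n326 = n225 := d31_1 D326 (iv D225) D224
theorem F1785 : act 8 n326 = n326 := d40_2 F1263 D326 (iv D326)
def n327 : Q := act 9 n224
theorem D327 : act 9 n224 = n327 := rfl
theorem F1786 : act 0 n327 = n327 := d8_1 D327 (iv D327) F1258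
theorem F1787 : act 2 n327 = n327 := d23_1 D327 (iv D327) F1259
theorem F1788 : act 3 n327 = n327 := d29_1 D327 (iv D327) F1260
theorem F1789 : act 4 n327 = n226 := d34_1 D327 (iv D226) D224
theorem F1790 : act 5 n327 = n327 := d38_1 D327 (iv D327) F1261
theorem F1791 : act 7 n327 = n228 := d43_1 D327 (iv D228) (iv F1262)
def n328 : Q := act 7 n225
theorem D328 : act 7 n225 = n328 := rfl
theorem F1792 : act 0 n328 = n328 := d6_1 D328 (iv D328) F1264
theorem F1793 : act 2 n328 = n328 := d21_1 D328 (iv D328) F1265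
theorem F1794 : act 3 n328 = n237 := d27_1 D328 (iv D237) (iv F1266)
theorem F1795 : act 6 n328 = n229 := d39_1 D328 (iv D229) (iv D156) (iv F883) D225
theorem F1796 : act 8 n328 = n328 := d42_2 F1267 D328 (iv D328)
def n329 : Q := act 9 n225
theorem D329 : act 9 n225 = n329 := rfl
theorem F1797 : act 0 n329 = n329 := d8_1 D329 (iv D329) F1264
theorem F1798 : act 2 n329 = n329 := d23_1 D329 (iv D329) F1265
theorem F1799 : act 3 n329 = n238 := d29_1 D329 (iv D238) (iv F1266)
theorem F1800 : act 6 n329 = n226 := d41_1 D329 (iv D226) D225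
def n330 : Q := act 8 n226
theorem D330 : act 8 n226 = n330 := rfl
theorem F1801 : act 0 n330 = n330 := d7_1 D330 (iv D330) F1268
theorem F1802 : act 2 n330 = n330 := d22_1 D330 (iv D330) F1269
theorem F1803 : act 3 n330 = n239 := d28_1 D330 (iv D239) (iv F1270)
theorem F1804 : act 5 n330 = n330 := d37_1 D330 (iv D330) F1271 F890 (iv F1271)
theorem F1805 : act 7 n330 = n231 := d42_1 D330 (iv D231) (iv F1272)
theorem F1806 : act 9 n330 = n330 := d44_2 D226 D330 (iv D330) (iv D226) F884
def n331 : Q := act 5 n227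
theorem D331 : act 5 n227 = n331 := rfl
theorem F1807 : act 0 n331 = n331 := d4_1 D331 (iv D331) F1273
theorem F1808 : act 2 n331 = n331 := d19_1 D331 (iv D331) F1274
theorem F1809 : act 3 n331 = n331 := d25_1 D331 (iv D331) F1275
theorem F1810 : act 4 n331 = n331 := d30_1 D331 (iv D331) F1276 F899 (iv F1276)
theorem F1811 : act 6 n331 = n331 := d35_2 D227 D331 (iv D331) (iv D227) F894
def n332 : Q := act 7 n227
theorem D332 : act 7 n227 = n332 := rfl
theorem F1812 : act 0 n332 = n332 := d6_1 D332 (iv D332) F1273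
theorem F1813 : act 2 n332 = n332 := d21_1 D332 (iv D332) F1274
theorem F1814 : act 3 n332 = n332 := d27_1 D332 (iv D332) F1275
theorem F1815 : act 4 n332 = n229 := d32_1 D332 (iv D229) (iv F1276)
theorem F1816 : act 8 n332 = n332 := d42_2 F1277 D332 (iv D332)
def n333 : Q := act 9 n227
theorem D333 : act 9 n227 = n333 := rfl
theorem F1817 : act 0 n333 = n333 := d8_1 D333 (iv D333) F1273
theorem F1818 : act 2 n333 = n333 := d23_1 D333 (iv D333) F1274
theorem F1819 : act 3 n333 = n333 := d29_1 D333 (iv D333) F1275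
theorem F1820 : act 4 n333 = n230 := d34_1 D333 (iv D230) (iv F1276)
theorem F1821 : act 6 n333 = n228 := d41_1 D333 (iv D228) D227
def n334 : Q := act 8 n228
theorem D334 : act 8 n228 = n334 := rfl
theorem F1822 : act 0 n334 = n334 := d7_1 D334 (iv D334) F1278
theorem F1823 : act 2 n334 = n334 := d22_1 D334 (iv D334) F1279
theorem F1824 : act 3 n334 = n334 := d28_1 D334 (iv D334) F1280
theorem F1825 : act 4 n334 = n231 := d33_1 D334 (iv D231) (iv F1281)
theorem F1826 : act 9 n334 = n334 := d44_2 D228 D334 (iv D334) (iv D228) F895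
def n335 : Q := act 9 n229
theorem D335 : act 9 n229 = n335 := rfl
theorem F1827 : act 0 n335 = n335 := d8_1 D335 (iv D335) F1283
theorem F1828 : act 2 n335 = n335 := d23_1 D335 (iv D335) F1284
theorem F1829 : act 3 n335 = n240 := d29_1 D335 (iv D240) (iv F1285)
theorem F1830 : act 5 n335 = n335 := d38_1 D335 (iv D335) F1286
theorem F1831 : act 7 n335 = n230 := d43_1 D335 (iv D230) D229
def n336 : Q := act 8 n230
theorem D336 : act 8 n230 = n336 := rfl
theorem F1832 : act 0 n336 = n336 := d7_1 D336 (iv D336) F1288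
theorem F1833 : act 2 n336 = n336 := d22_1 D336 (iv D336) F1289
theorem F1834 : act 3 n336 = n241 := d28_1 D336 (iv D241) (iv F1290)
theorem F1835 : act 6 n336 = n231 := d40_1 D336 (iv D231) (iv F1292)
theorem F1836 : act 9 n336 = n336 := d44_2 D230 D336 (iv D336) (iv D230) F900
def n337 : Q := act 4 n232
theorem D337 : act 4 n232 = n337 := rfl
theorem F1837 : act 0 n337 = n337 := d3_1 D337 (iv D337) F1298
theorem F1838 : act 2 n337 = n245 := d18_1 D337 (iv D245) (iv F1299)
theorem F1839 : act 5 n337 = n337 := d30_2 D232 D337 (iv D337) (iv D232) F907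
theorem F1840 : act 7 n337 = n337 := d32_2 F1300 D337 (iv D337)
theorem F1841 : act 8 n337 = n234 := d33_2 (iv F1301) D337 (iv D234)
def n338 : Q := act 6 n232
theorem D338 : act 6 n232 = n338 := rfl
theorem F1842 : act 0 n338 = n338 := d5_1 D338 (iv D338) F1298
theorem F1843 : act 2 n338 = n246 := d20_1 D338 (iv D246) (iv F1299)
theorem F1844 : act 5 n338 = n338 := d35_1 D338 (iv D338) (iv D232) F908 D232
theorem F1845 : act 8 n338 = n235 := d40_2 (iv F1301) D338 (iv D235)
def n339 : Q := act 9 n232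
theorem D339 : act 9 n232 = n339 := rfl
theorem F1846 : act 0 n339 = n339 := d8_1 D339 (iv D339) F1298
theorem F1847 : act 2 n339 = n247 := d23_1 D339 (iv D247) (iv F1299)
theorem F1848 : act 5 n339 = n233 := d38_1 D339 (iv D233) D232
theorem F1849 : act 7 n339 = n339 := d43_1 D339 (iv D339) F1300
def n340 : Q := act 3 n234
theorem D340 : act 3 n234 = n340 := rfl
theorem F1850 : act 0 n340 = n340 := d2_1 D340 (iv D340) F1308
theorem F1851 : act 5 n340 = n242 := d25_2 (iv F1310) D340 (iv D242)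
theorem F1852 : act 7 n340 = n340 := d27_2 F1311 D340 (iv D340)
def n341 : Q := act 6 n234
theorem D341 : act 6 n234 = n341 := rfl
theorem F1853 : act 0 n341 = n341 := d5_1 D341 (iv D341) F1308
theorem F1854 : act 2 n341 = n249 := d20_1 D341 (iv D249) (iv F1309)
theorem F1855 : act 4 n341 = n235 := d31_1 D341 (iv D235) D234
theorem F1856 : act 5 n341 = n341 := d35_1 D341 (iv D341) F1310 F945 (iv F1310)
def n342 : Q := act 9 n234
theorem D342 : act 9 n234 = n342 := rfl
theorem F1857 : act 0 n342 = n342 := d8_1 D342 (iv D342) F1308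
theorem F1858 : act 2 n342 = n250 := d23_1 D342 (iv D250) (iv F1309)
theorem F1859 : act 4 n342 = n236 := d34_1 D342 (iv D236) D234
theorem F1860 : act 5 n342 = n243 := d38_1 D342 (iv D243) (iv F1310)
theorem F1861 : act 7 n342 = n342 := d43_1 D342 (iv D342) F1311
def n343 : Q := act 7 n235
theorem D343 : act 7 n235 = n343 := rfl
theorem F1862 : act 0 n343 = n343 := d6_1 D343 (iv D343) F1312
theorem F1863 : act 2 n343 = n251 := d21_1 D343 (iv D251) (iv F1313)
theorem F1864 : act 5 n343 = n237 := d36_1 D343 (iv D237) (iv F1314)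
theorem F1865 : act 6 n343 = n343 := d39_1 D343 (iv D343) (iv D235) F912 D235
def n344 : Q := act 9 n235
theorem D344 : act 9 n235 = n344 := rfl
theorem F1866 : act 0 n344 = n344 := d8_1 D344 (iv D344) F1312
theorem F1867 : act 2 n344 = n252 := d23_1 D344 (iv D252) (iv F1313)
theorem F1868 : act 5 n344 = n238 := d38_1 D344 (iv D238) (iv F1314)
theorem F1869 : act 6 n344 = n236 := d41_1 D344 (iv D236) D235
def n345 : Q := act 8 n236
theorem D345 : act 8 n236 = n345 := rfl
theorem F1870 : act 0 n345 = n345 := d7_1 D345 (iv D345) F1315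
theorem F1871 : act 2 n345 = n253 := d22_1 D345 (iv D253) (iv F1316)
theorem F1872 : act 5 n345 = n345 := d37_1 D345 (iv D345) F1317 F918 (iv F1317)
theorem F1873 : act 7 n345 = n345 := d42_1 D345 (iv D345) F1318
def n346 : Q := act 9 n237
theorem D346 : act 9 n237 = n346 := rfl
theorem F1874 : act 0 n346 = n346 := d8_1 D346 (iv D346) F1319
theorem F1875 : act 2 n346 = n254 := d23_1 D346 (iv D254) (iv F1320)
theorem F1876 : act 4 n346 = n346 := d34_1 D346 (iv D346) F1321
theorem F1877 : act 6 n346 = n240 := d41_1 D346 (iv D240) (iv F1322)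
theorem F1878 : act 7 n346 = n238 := d43_1 D346 (iv D238) D237
def n347 : Q := act 8 n238
theorem D347 : act 8 n238 = n347 := rfl
theorem F1879 : act 0 n347 = n347 := d7_1 D347 (iv D347) F1324
theorem F1880 : act 2 n347 = n255 := d22_1 D347 (iv D255) (iv F1325)
theorem F1881 : act 4 n347 = n347 := d33_1 D347 (iv D347) F1326
theorem F1882 : act 6 n347 = n239 := d40_1 D347 (iv D239) (iv F1327)
theorem F1883 : act 9 n347 = n347 := d44_2 D238 D347 (iv D347) (iv D238) F922
def n348 : Q := act 8 n240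
theorem D348 : act 8 n240 = n348 := rfl
theorem F1884 : act 0 n348 = n348 := d7_1 D348 (iv D348) F1334
theorem F1885 : act 2 n348 = n256 := d22_1 D348 (iv D256) (iv F1335)
theorem F1886 : act 4 n348 = n348 := d33_1 D348 (iv D348) F1336
theorem F1887 : act 7 n348 = n241 := d42_1 D348 (iv D241) (iv F1338)
theorem F1888 : act 9 n348 = n348 := d44_2 D240 D348 (iv D348) (iv D240) F932
def n349 : Q := act 5 n241
theorem D349 : act 5 n241 = n349 := rfl
theorem F1889 : act 0 n349 = n349 := d4_1 D349 (iv D349) F1339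
theorem F1890 : act 2 n349 = n257 := d19_1 D349 (iv D257) (iv F1340)
theorem F1891 : act 6 n349 = n349 := d35_2 (iv F1342) D349 (iv D349) F1342 F941
theorem F1892 : act 8 n349 = n349 := d37_2 D241 D349 (iv D349) (iv D241) F936
theorem F1893 : act 9 n349 = n349 := d38_2 F1343 D349 (iv D349)
def n350 : Q := act 2 n242
theorem D350 : act 2 n242 = n350 := rfl
theorem F1894 : act 0 n350 = n350 := d1_1 D350 (iv D350) F1344
theorem F1895 : act 3 n350 = n258 := d17_2 D242 D350 (iv D258) (iv D178) (iv F944)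
theorem F1896 : act 4 n350 = n350 := d18_2 F1345 D350 (iv D350)
theorem F1897 : act 6 n350 = n350 := d20_2 F1346 D350 (iv D350)
theorem F1898 : act 7 n350 = n350 := d21_2 F1347 D350 (iv D350)
theorem F1899 : act 8 n350 = n350 := d22_2 F1348 D350 (iv D350)
def n351 : Q := act 9 n242
theorem D351 : act 9 n242 = n351 := rfl
theorem F1900 : act 0 n351 = n351 := d8_1 D351 (iv D351) F1344
theorem F1901 : act 3 n351 = n243 := d29_1 D351 (iv D243) D242
theorem F1902 : act 4 n351 = n351 := d34_1 D351 (iv D351) F1345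
theorem F1903 : act 6 n351 = n351 := d41_1 D351 (iv D351) F1346
theorem F1904 : act 7 n351 = n351 := d43_1 D351 (iv D351) F1347
def n352 : Q := act 8 n243
theorem D352 : act 8 n243 = n352 := rfl
theorem F1905 : act 0 n352 = n352 := d7_1 D352 (iv D352) F1349
theorem F1906 : act 2 n352 = n260 := d22_1 D352 (iv D260) (iv F1350)
theorem F1907 : act 4 n352 = n244 := d33_1 D352 (iv D244) (iv F1351)
theorem F1908 : act 6 n352 = n352 := d40_1 D352 (iv D352) F1352
theorem F1909 : act 7 n352 = n352 := d42_1 D352 (iv D352) F1353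
theorem F1910 : act 9 n352 = n352 := d44_2 D243 D352 (iv D352) (iv D243) F947
def n353 : Q := act 3 n245
theorem D353 : act 3 n245 = n353 := rfl
theorem F1911 : act 0 n353 = n353 := d2_1 D353 (iv D353) F1361
theorem F1912 : act 1 n353 = n353 := d10_1 D353 (iv D353) F1362
theorem F1913 : act 4 n353 = n353 := d24_2 D245 D353 (iv D353) (iv D245) F956
theorem F1914 : act 5 n353 = n353 := d25_2 F1363 D353 (iv D353)
theorem F1915 : act 7 n353 = n353 := d27_2 F1364 D353 (iv D353)
theorem F1916 : act 8 n353 = n248 := d28_2 (iv F1365) D353 (iv D248)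
def n354 : Q := act 6 n245
theorem D354 : act 6 n245 = n354 := rfl
theorem F1917 : act 0 n354 = n354 := d5_1 D354 (iv D354) F1361
theorem F1918 : act 1 n354 = n354 := d13_1 D354 (iv D354) F1362
theorem F1919 : act 4 n354 = n246 := d31_1 D354 (iv D246) D245
theorem F1920 : act 8 n354 = n249 := d40_2 (iv F1365) D354 (iv D249)
def n355 : Q := act 9 n245
theorem D355 : act 9 n245 = n355 := rfl
theorem F1921 : act 0 n355 = n355 := d8_1 D355 (iv D355) F1361
theorem F1922 : act 1 n355 = n355 := d16_1 D355 (iv D355) F1362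
theorem F1923 : act 4 n355 = n247 := d34_1 D355 (iv D247) D245
theorem F1924 : act 5 n355 = n355 := d38_1 D355 (iv D355) F1363
theorem F1925 : act 7 n355 = n355 := d43_1 D355 (iv D355) F1364
def n356 : Q := act 7 n246
theorem D356 : act 7 n246 = n356 := rfl
theorem F1926 : act 0 n356 = n356 := d6_1 D356 (iv D356) F1366
theorem F1927 : act 1 n356 = n356 := d14_1 D356 (iv D356) F1367
theorem F1928 : act 3 n356 = n356 := d27_1 D356 (iv D356) F1368
theorem F1929 : act 5 n356 = n356 := d36_1 D356 (iv D356) F1369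
theorem F1930 : act 6 n356 = n356 := d39_1 D356 (iv D356) (iv D246) F957 D246
theorem F1931 : act 8 n356 = n251 := d42_2 (iv F1370) D356 (iv D251)
def n357 : Q := act 9 n246
theorem D357 : act 9 n246 = n357 := rfl
theorem F1932 : act 0 n357 = n357 := d8_1 D357 (iv D357) F1366
theorem F1933 : act 1 n357 = n357 := d16_1 D357 (iv D357) F1367
theorem F1934 : act 3 n357 = n357 := d29_1 D357 (iv D357) F1368
theorem F1935 : act 5 n357 = n357 := d38_1 D357 (iv D357) F1369
theorem F1936 : act 6 n357 = n247 := d41_1 D357 (iv D247) D246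
def n358 : Q := act 8 n247
theorem D358 : act 8 n247 = n358 := rfl
theorem F1937 : act 0 n358 = n358 := d7_1 D358 (iv D358) F1371
theorem F1938 : act 1 n358 = n358 := d15_1 D358 (iv D358) F1372
theorem F1939 : act 3 n358 = n358 := d28_1 D358 (iv D358) F1373
theorem F1940 : act 5 n358 = n358 := d37_1 D358 (iv D358) F1374 F965 (iv F1374)
theorem F1941 : act 7 n358 = n358 := d42_1 D358 (iv D358) F1375
theorem F1942 : act 9 n358 = n253 := d44_2 D247 D358 (iv D253) (iv D172) (iv F958)
def n359 : Q := act 2 n248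
theorem D359 : act 2 n248 = n359 := rfl
theorem F1943 : act 0 n359 = n359 := d1_1 D359 (iv D359) F1376
theorem F1944 : act 4 n359 = n359 := d18_2 F1378 D359 (iv D359)
theorem F1945 : act 5 n359 = n258 := d19_2 (iv F1379) D359 (iv D258)
theorem F1946 : act 7 n359 = n359 := d21_2 F1380 D359 (iv D359)
def n360 : Q := act 6 n248
theorem D360 : act 6 n248 = n360 := rfl
theorem F1947 : act 0 n360 = n360 := d5_1 D360 (iv D360) F1376
theorem F1948 : act 1 n360 = n360 := d13_1 D360 (iv D360) F1377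
theorem F1949 : act 3 n360 = n249 := d26_1 D360 (iv D249) D248
theorem F1950 : act 4 n360 = n360 := d31_1 D360 (iv D360) F1378
theorem F1951 : act 5 n360 = n360 := d35_1 D360 (iv D360) F1379 F1012 (iv F1379)
def n361 : Q := act 9 n248
theorem D361 : act 9 n248 = n361 := rfl
theorem F1952 : act 0 n361 = n361 := d8_1 D361 (iv D361) F1376
theorem F1953 : act 1 n361 = n361 := d16_1 D361 (iv D361) F1377
theorem F1954 : act 3 n361 = n250 := d29_1 D361 (iv D250) D248
theorem F1955 : act 4 n361 = n361 := d34_1 D361 (iv D361) F1378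
theorem F1956 : act 5 n361 = n259 := d38_1 D361 (iv D259) (iv F1379)
theorem F1957 : act 7 n361 = n361 := d43_1 D361 (iv D361) F1380
def n362 : Q := act 7 n249
theorem D362 : act 7 n249 = n362 := rfl
theorem F1958 : act 0 n362 = n362 := d6_1 D362 (iv D362) F1381
theorem F1959 : act 1 n362 = n362 := d14_1 D362 (iv D362) F1382
theorem F1960 : act 4 n362 = n251 := d32_1 D362 (iv D251) (iv F1383)
theorem F1961 : act 5 n362 = n362 := d36_1 D362 (iv D362) F1384
theorem F1962 : act 6 n362 = n362 := d39_1 D362 (iv D362) (iv D249) F969 D249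
def n363 : Q := act 9 n249
theorem D363 : act 9 n249 = n363 := rfl
theorem F1963 : act 0 n363 = n363 := d8_1 D363 (iv D363) F1381
theorem F1964 : act 1 n363 = n363 := d16_1 D363 (iv D363) F1382
theorem F1965 : act 4 n363 = n252 := d34_1 D363 (iv D252) (iv F1383)
theorem F1966 : act 5 n363 = n363 := d38_1 D363 (iv D363) F1384
theorem F1967 : act 6 n363 = n250 := d41_1 D363 (iv D250) D249
def n364 : Q := act 8 n250
theorem D364 : act 8 n250 = n364 := rfl
theorem F1968 : act 0 n364 = n364 := d7_1 D364 (iv D364) F1385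
theorem F1969 : act 1 n364 = n364 := d15_1 D364 (iv D364) F1386
theorem F1970 : act 4 n364 = n253 := d33_1 D364 (iv D253) (iv F1387)
theorem F1971 : act 7 n364 = n364 := d42_1 D364 (iv D364) F1389
def n365 : Q := act 9 n251
theorem D365 : act 9 n251 = n365 := rfl
theorem F1972 : act 0 n365 = n365 := d8_1 D365 (iv D365) F1390
theorem F1973 : act 1 n365 = n365 := d16_1 D365 (iv D365) F1391
theorem F1974 : act 3 n365 = n365 := d29_1 D365 (iv D365) F1392
theorem F1975 : act 5 n365 = n254 := d38_1 D365 (iv D254) (iv F1393)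
theorem F1976 : act 6 n365 = n365 := d41_1 D365 (iv D365) F1394
theorem F1977 : act 7 n365 = n252 := d43_1 D365 (iv D252) D251
def n366 : Q := act 8 n252
theorem D366 : act 8 n252 = n366 := rfl
theorem F1978 : act 0 n366 = n366 := d7_1 D366 (iv D366) F1395
theorem F1979 : act 1 n366 = n366 := d15_1 D366 (iv D366) F1396
theorem F1980 : act 3 n366 = n366 := d28_1 D366 (iv D366) F1397
theorem F1981 : act 6 n366 = n253 := d40_1 D366 (iv D253) (iv F1399)
def n367 : Q := act 8 n254
theorem D367 : act 8 n254 = n367 := rfl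
theorem F1982 : act 0 n367 = n367 := d7_1 D367 (iv D367) F1405
theorem F1983 : act 1 n367 = n367 := d15_1 D367 (iv D367) F1406
theorem F1984 : act 3 n367 = n367 := d28_1 D367 (iv D367) F1407
theorem F1985 : act 4 n367 = n367 := d33_1 D367 (iv D367) F1408
theorem F1986 : act 6 n367 = n256 := d40_1 D367 (iv D256) (iv F1409)
theorem F1987 : act 7 n367 = n255 := d42_1 D367 (iv D255) (iv F1410)
theorem F1988 : act 9 n367 = n367 := d44_2 D254 D367 (iv D367) (iv D254) F984
def n368 : Q := act 5 n255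
theorem D368 : act 5 n255 = n368 := rfl
theorem F1989 : act 0 n368 = n368 := d4_1 D368 (iv D368) F1411
theorem F1990 : act 1 n368 = n368 := d12_1 D368 (iv D368) F1412
theorem F1991 : act 3 n368 = n368 := d25_1 D368 (iv D368) F1413
theorem F1992 : act 6 n368 = n368 := d35_2 (iv F1415) D368 (iv D368) F1415 F994
theorem F1993 : act 9 n368 = n368 := d38_2 F1416 D368 (iv D368)
def n369 : Q := act 5 n256
theorem D369 : act 5 n256 = n369 := rfl
theorem F1994 : act 0 n369 = n369 := d4_1 D369 (iv D369) F1417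
theorem F1995 : act 1 n369 = n369 := d12_1 D369 (iv D369) F1418
theorem F1996 : act 3 n369 = n369 := d25_1 D369 (iv D369) F1419
theorem F1997 : act 7 n369 = n257 := d36_2 (iv F1421) D369 (iv D257)
theorem F1998 : act 8 n369 = n369 := d37_2 D256 D369 (iv D369) (iv D256) F1001
theorem F1999 : act 9 n369 = n369 := d38_2 F1422 D369 (iv D369)
def n370 : Q := act 4 n257
theorem D370 : act 4 n257 = n370 := rfl
theorem F2000 : act 0 n370 = n370 := d3_1 D370 (iv D370) F1423
theorem F2001 : act 1 n370 = n370 := d11_1 D370 (iv D370) F1424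
theorem F2002 : act 5 n370 = n370 := d30_2 D257 D370 (iv D370) (iv D257) F1006
theorem F2003 : act 6 n370 = n370 := d31_2 F1426 D370 (iv D370)
theorem F2004 : act 8 n370 = n370 := d33_2 F1427 D370 (iv D370)
theorem F2005 : act 9 n370 = n370 := d34_2 F1428 D370 (iv D370)
def n371 : Q := act 1 n258
theorem D371 : act 1 n258 = n371 := rfl
theorem F2006 : act 2 n371 = n371 := d9_2 D258 D371 (iv D371) (iv D258) F1010
theorem F2007 : act 4 n371 = n261 := d11_2 (iv F1430) D371 (iv D261)
theorem F2008 : act 6 n371 = n371 := d13_2 F1431 D371 (iv D371)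
theorem F2009 : act 7 n371 = n371 := d14_2 F1432 D371 (iv D371)
theorem F2010 : act 8 n371 = n371 := d15_2 F1433 D371 (iv D371)
def n372 : Q := act 9 n258
theorem D372 : act 9 n258 = n372 := rfl
theorem F2011 : act 0 n372 = n372 := d8_1 D372 (iv D372) F1429
theorem F2012 : act 2 n372 = n259 := d23_1 D372 (iv D259) D258
theorem F2013 : act 4 n372 = n262 := d34_1 D372 (iv D262) (iv F1430)
theorem F2014 : act 6 n372 = n372 := d41_1 D372 (iv D372) F1431
theorem F2015 : act 7 n372 = n372 := d43_1 D372 (iv D372) F1432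
def n373 : Q := act 8 n259
theorem D373 : act 8 n259 = n373 := rfl
theorem F2016 : act 0 n373 = n373 := d7_1 D373 (iv D373) F1434
theorem F2017 : act 1 n373 = n373 := d15_1 D373 (iv D373) F1435
theorem F2018 : act 3 n373 = n260 := d28_1 D373 (iv D260) (iv F1436)
theorem F2019 : act 4 n373 = n263 := d33_1 D373 (iv D263) (iv F1437)
theorem F2020 : act 6 n373 = n373 := d40_1 D373 (iv D373) F1438
theorem F2021 : act 7 n373 = n373 := d42_1 D373 (iv D373) F1439
theorem F2022 : act 9 n373 = n373 := d44_2 D259 D373 (iv D373) (iv D259) F1014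
def n374 : Q := act 5 n260
theorem D374 : act 5 n260 = n374 := rfl
theorem F2023 : act 0 n374 = n374 := d4_1 D374 (iv D374) F1440
theorem F2024 : act 1 n374 = n374 := d12_1 D374 (iv D374) F1441
theorem F2025 : act 4 n374 = n374 := d30_1 D374 (iv D374) F1442 F1023 (iv F1442)
theorem F2026 : act 7 n374 = n374 := d36_2 F1444 D374 (iv D374)
theorem F2027 : act 9 n374 = n374 := d38_2 F1445 D374 (iv D374)
def n375 : Q := act 0 n261
theorem D375 : act 0 n261 = n375 := rfl
theorem F2028 : act 1 n375 = n375 := d0_2 D261 D375 (iv D375) (iv D261) F1027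
theorem F2029 : act 2 n375 = n375 := d1_2 F1446 D375 (iv D375)
theorem F2030 : act 3 n375 = n375 := d2_2 F1447 D375 (iv D375)
theorem F2031 : act 5 n375 = n375 := d4_2 F1448 D375 (iv D375)
theorem F2032 : act 6 n375 = n375 := d5_2 F1449 D375 (iv D375)
theorem F2033 : act 7 n375 = n375 := d6_2 F1450 D375 (iv D375)
theorem F2034 : act 8 n375 = n375 := d7_2 F1451 D375 (iv D375)
def n376 : Q := act 9 n261
theorem D376 : act 9 n261 = n376 := rfl
theorem F2035 : act 1 n376 = n262 := d16_1 D376 (iv D262) D261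
theorem F2036 : act 2 n376 = n376 := d23_1 D376 (iv D376) F1446
theorem F2037 : act 3 n376 = n376 := d29_1 D376 (iv D376) F1447
theorem F2038 : act 5 n376 = n376 := d38_1 D376 (iv D376) F1448
theorem F2039 : act 6 n376 = n376 := d41_1 D376 (iv D376) F1449
theorem F2040 : act 7 n376 = n376 := d43_1 D376 (iv D376) F1450
def n377 : Q := act 8 n262
theorem D377 : act 8 n262 = n377 := rfl
theorem F2041 : act 0 n377 = n377 := d7_1 D377 (iv D377) F1452
theorem F2042 : act 2 n377 = n263 := d22_1 D377 (iv D263) (iv F1453)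
theorem F2043 : act 3 n377 = n377 := d28_1 D377 (iv D377) F1454
theorem F2044 : act 6 n377 = n377 := d40_1 D377 (iv D377) F1456
theorem F2045 : act 7 n377 = n377 := d42_1 D377 (iv D377) F1457
theorem F2046 : act 9 n377 = n377 := d44_2 D262 D377 (iv D377) (iv D262) F1032
def n378 : Q := act 5 n263
theorem D378 : act 5 n263 = n378 := rfl
theorem F2047 : act 0 n378 = n378 := d4_1 D378 (iv D378) F1458
theorem F2048 : act 1 n378 = n378 := d12_1 D378 (iv D378) F1459
theorem F2049 : act 3 n378 = n264 := d25_1 D378 (iv D264) (iv F1460)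
theorem F2050 : act 7 n378 = n378 := d36_2 F1462 D378 (iv D378)
theorem F2051 : act 8 n378 = n378 := d37_2 D263 D378 (iv D378) (iv D263) F1036
theorem F2052 : act 9 n378 = n378 := d38_2 F1463 D378 (iv D378)
def n379 : Q := act 6 n264
theorem D379 : act 6 n264 = n379 := rfl
theorem F2053 : act 0 n379 = n379 := d5_1 D379 (iv D379) F1464
theorem F2054 : act 1 n379 = n379 := d13_1 D379 (iv D379) F1465
theorem F2055 : act 2 n379 = n379 := d20_1 D379 (iv D379) F1466
theorem F2056 : act 4 n379 = n379 := d31_1 D379 (iv D379) F1467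
theorem F2057 : act 5 n379 = n379 := d35_1 D379 (iv D379) (iv D264) F1043 D264
theorem F2058 : act 8 n379 = n379 := d40_2 F1469 D379 (iv D379)
theorem F2059 : act 9 n379 = n379 := d41_2 F1470 D379 (iv D379)
def n380 : Q := act 6 n265
theorem D380 : act 6 n265 = n380 := rfl
theorem F2060 : act 0 n380 = n380 := d5_1 D380 (iv D380) F1471
theorem F2061 : act 1 n380 = n267 := d13_1 D380 (iv D267) (iv F1472)
theorem F2062 : act 2 n380 = n380 := d20_1 D380 (iv D380) F1473
theorem F2063 : act 3 n380 = n380 := d26_1 D380 (iv D380) F1474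
theorem F2064 : act 4 n380 = n380 := d31_1 D380 (iv D380) F1475
theorem F2065 : act 7 n380 = n380 := d39_2 D265 D380 (iv D380) (iv D265) F1051
theorem F2066 : act 9 n380 = n380 := d41_2 F1477 D380 (iv D380)
def n381 : Q := act 8 n265
theorem D381 : act 8 n265 = n381 := rfl
theorem F2067 : act 0 n381 = n381 := d7_1 D381 (iv D381) F1471
theorem F2068 : act 1 n381 = n268 := d15_1 D381 (iv D268) (iv F1472)
theorem F2069 : act 2 n381 = n381 := d22_1 D381 (iv D381) F1473
theorem F2070 : act 3 n381 = n381 := d28_1 D381 (iv D381) F1474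
theorem F2071 : act 4 n381 = n381 := d33_1 D381 (iv D381) F1475
theorem F2072 : act 7 n381 = n266 := d42_1 D381 (iv D266) D265
def n382 : Q := act 5 n266
theorem D382 : act 5 n266 = n382 := rfl
theorem F2074 : act 1 n382 = n269 := d12_1 D382 (iv D269) (iv F1479)
def n383 : Q := act 9 n266
theorem D383 : act 9 n266 = n383 := rfl
theorem F2078 : act 0 n383 = n383 := d8_1 D383 (iv D383) F1478
theorem F2079 : act 1 n383 = n270 := d16_1 D383 (iv D270) (iv F1479)
theorem F2080 : act 2 n383 = n383 := d23_1 D383 (iv D383) F1480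
theorem F2081 : act 3 n383 = n383 := d29_1 D383 (iv D383) F1481
theorem F2082 : act 4 n383 = n383 := d34_1 D383 (iv D383) F1482
theorem F2083 : act 6 n383 = n383 := d41_1 D383 (iv D383) F1483
theorem F2084 : act 8 n383 = n383 := d44_1 D383 (iv D383) (iv D266) F1052 D266
def n384 : Q := act 5 n267
theorem D384 : act 5 n267 = n384 := rfl
theorem F2085 : act 0 n384 = n288 := d4_1 D384 (iv D288) (iv F1484)
theorem F2086 : act 2 n384 = n271 := d19_1 D384 (iv D271) (iv F1485)
theorem F2087 : act 3 n384 = n384 := d25_1 D384 (iv D384) F1486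
theorem F2088 : act 6 n384 = n384 := d35_2 D267 D384 (iv D384) (iv D267) F1057
theorem F2089 : act 7 n384 = n384 := d36_2 F1488 D384 (iv D384)
theorem F2090 : act 9 n384 = n384 := d38_2 F1489 D384 (iv D384)
def n385 : Q := act 8 n267
theorem D385 : act 8 n267 = n385 := rfl
theorem F2091 : act 0 n385 = n289 := d7_1 D385 (iv D289) (iv F1484)
theorem F2092 : act 2 n385 = n272 := d22_1 D385 (iv D272) (iv F1485)
theorem F2093 : act 3 n385 = n385 := d28_1 D385 (iv D385) F1486
theorem F2094 : act 4 n385 = n385 := d33_1 D385 (iv D385) F1487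
theorem F2095 : act 6 n385 = n268 := d40_1 D385 (iv D268) D267
theorem F2096 : act 7 n385 = n385 := d42_1 D385 (iv D385) F1488
def n386 : Q := act 5 n268
theorem D386 : act 5 n268 = n386 := rfl
theorem F2097 : act 0 n386 = n290 := d4_1 D386 (iv D290) (iv F1490)
theorem F2098 : act 2 n386 = n273 := d19_1 D386 (iv D273) (iv F1491)
theorem F2099 : act 3 n386 = n386 := d25_1 D386 (iv D386) F1492
theorem F2100 : act 7 n386 = n269 := d36_2 (iv F1494) D386 (iv D269)
theorem F2101 : act 8 n386 = n386 := d37_2 D268 D386 (iv D386) (iv D268) F1057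
def n387 : Q := act 9 n268
theorem D387 : act 9 n268 = n387 := rfl
theorem F2102 : act 0 n387 = n291 := d8_1 D387 (iv D291) (iv F1490)
theorem F2103 : act 2 n387 = n274 := d23_1 D387 (iv D274) (iv F1491)
theorem F2104 : act 3 n387 = n387 := d29_1 D387 (iv D387) F1492
theorem F2105 : act 4 n387 = n387 := d34_1 D387 (iv D387) F1493
theorem F2106 : act 7 n387 = n270 := d43_1 D387 (iv D270) (iv F1494)
theorem F2107 : act 8 n387 = n387 := d44_1 D387 (iv D387) (iv D268) F1058 D268
def n388 : Q := act 4 n269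
theorem D388 : act 4 n269 = n388 := rfl
theorem F2108 : act 0 n388 = n292 := d3_1 D388 (iv D292) (iv F1495)
theorem F2109 : act 2 n388 = n275 := d18_1 D388 (iv D275) (iv F1496)
def n389 : Q := act 6 n269
theorem D389 : act 6 n269 = n389 := rfl
theorem F2113 : act 2 n389 = n276 := d20_1 D389 (iv D276) (iv F1496)
def n390 : Q := act 9 n269
theorem D390 : act 9 n269 = n390 := rfl
theorem F2117 : act 0 n390 = n294 := d8_1 D390 (iv D294) (iv F1495)
theorem F2118 : act 2 n390 = n277 := d23_1 D390 (iv D277) (iv F1496)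
theorem F2119 : act 3 n390 = n390 := d29_1 D390 (iv D390) F1497
theorem F2120 : act 5 n390 = n270 := d38_1 D390 (iv D270) D269
def n391 : Q := act 4 n271
theorem D391 : act 4 n271 = n391 := rfl
theorem F2121 : act 0 n391 = n295 := d3_1 D391 (iv D295) (iv F1505)
theorem F2122 : act 1 n391 = n391 := d11_1 D391 (iv D391) F1506
theorem F2123 : act 3 n391 = n391 := d24_1 D391 (iv D391) F1507 F1088 (iv F1507)
theorem F2124 : act 5 n391 = n391 := d30_2 D271 D391 (iv D391) (iv D271) F1067
theorem F2125 : act 6 n391 = n391 := d31_2 F1508 D391 (iv D391)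
theorem F2126 : act 7 n391 = n391 := d32_2 F1509 D391 (iv D391)
theorem F2127 : act 9 n391 = n391 := d34_2 F1510 D391 (iv D391)
def n392 : Q := act 8 n271
theorem D392 : act 8 n271 = n392 := rfl
theorem F2128 : act 0 n392 = n296 := d7_1 D392 (iv D296) (iv F1505)
theorem F2129 : act 1 n392 = n392 := d15_1 D392 (iv D392) F1506
theorem F2130 : act 3 n392 = n278 := d28_1 D392 (iv D278) (iv F1507)
theorem F2131 : act 6 n392 = n392 := d40_1 D392 (iv D392) F1508
theorem F2132 : act 7 n392 = n392 := d42_1 D392 (iv D392) F1509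
def n393 : Q := act 5 n272
theorem D393 : act 5 n272 = n393 := rfl
theorem F2133 : act 0 n393 = n297 := d4_1 D393 (iv D297) (iv F1511)
theorem F2134 : act 1 n393 = n393 := d12_1 D393 (iv D393) F1512
theorem F2135 : act 3 n393 = n279 := d25_1 D393 (iv D279) (iv F1513)
theorem F2136 : act 7 n393 = n393 := d36_2 F1516 D393 (iv D393)
def n394 : Q := act 9 n272
theorem D394 : act 9 n272 = n394 := rfl
theorem F2137 : act 0 n394 = n298 := d8_1 D394 (iv D298) (iv F1511)
theorem F2138 : act 1 n394 = n394 := d16_1 D394 (iv D394) F1512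
theorem F2139 : act 3 n394 = n280 := d29_1 D394 (iv D280) (iv F1513)
theorem F2140 : act 4 n394 = n394 := d34_1 D394 (iv D394) F1514
theorem F2141 : act 6 n394 = n274 := d41_1 D394 (iv D274) (iv F1515)
theorem F2142 : act 7 n394 = n394 := d43_1 D394 (iv D394) F1516
theorem F2143 : act 8 n394 = n394 := d44_1 D394 (iv D394) (iv D272) F1069 D272
def n395 : Q := act 4 n273
theorem D395 : act 4 n273 = n395 := rfl
theorem F2144 : act 0 n395 = n299 := d3_1 D395 (iv D299) (iv F1517)
theorem F2145 : act 1 n395 = n395 := d11_1 D395 (iv D395) F1518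
theorem F2146 : act 3 n395 = n395 := d24_1 D395 (iv D395) F1519 F1101 (iv F1519)
theorem F2147 : act 5 n395 = n395 := d30_2 D273 D395 (iv D395) (iv D273) F1073
theorem F2148 : act 7 n395 = n275 := d32_2 (iv F1520) D395 (iv D275)
theorem F2149 : act 8 n395 = n395 := d33_2 F1521 D395 (iv D395)
def n396 : Q := act 6 n273
theorem D396 : act 6 n273 = n396 := rfl
theorem F2150 : act 0 n396 = n300 := d5_1 D396 (iv D300) (iv F1517)
theorem F2151 : act 1 n396 = n396 := d13_1 D396 (iv D396) F1518
theorem F2152 : act 3 n396 = n281 := d26_1 D396 (iv D281) (iv F1519)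
theorem F2153 : act 8 n396 = n396 := d40_2 F1521 D396 (iv D396)
def n397 : Q := act 9 n273
theorem D397 : act 9 n273 = n397 := rfl
theorem F2154 : act 0 n397 = n301 := d8_1 D397 (iv D301) (iv F1517)
theorem F2155 : act 1 n397 = n397 := d16_1 D397 (iv D397) F1518
theorem F2156 : act 3 n397 = n282 := d29_1 D397 (iv D282) (iv F1519)
theorem F2157 : act 5 n397 = n274 := d38_1 D397 (iv D274) D273
theorem F2158 : act 7 n397 = n277 := d43_1 D397 (iv D277) (iv F1520)
def n398 : Q := act 6 n275
theorem D398 : act 6 n275 = n398 := rfl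
theorem F2162 : act 4 n398 = n276 := d31_1 D398 (iv D276) D275
def n399 : Q := act 9 n275
theorem D399 : act 9 n275 = n399 := rfl
theorem F2164 : act 0 n399 = n303 := d8_1 D399 (iv D303) (iv F1528)
theorem F2165 : act 1 n399 = n399 := d16_1 D399 (iv D399) F1529
theorem F2166 : act 3 n399 = n399 := d29_1 D399 (iv D399) F1530
theorem F2167 : act 4 n399 = n277 := d34_1 D399 (iv D277) D275
theorem F2168 : act 5 n399 = n399 := d38_1 D399 (iv D399) F1531
def n400 : Q := act 7 n276
theorem D400 : act 7 n276 = n400 := rfl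
theorem F2169 : act 0 n400 = n304 := d6_1 D400 (iv D304) (iv F1533)
theorem F2170 : act 1 n400 = n400 := d14_1 D400 (iv D400) F1534
theorem F2171 : act 3 n400 = n283 := d27_1 D400 (iv D283) (iv F1535)
theorem F2172 : act 5 n400 = n400 := d36_1 D400 (iv D400) F1536
theorem F2173 : act 8 n400 = n400 := d42_2 F1537 D400 (iv D400)
def n401 : Q := act 9 n276
theorem D401 : act 9 n276 = n401 := rfl
theorem F2174 : act 0 n401 = n305 := d8_1 D401 (iv D305) (iv F1533)
theorem F2175 : act 1 n401 = n401 := d16_1 D401 (iv D401) F1534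
theorem F2176 : act 3 n401 = n284 := d29_1 D401 (iv D284) (iv F1535)
theorem F2177 : act 5 n401 = n401 := d38_1 D401 (iv D401) F1536
theorem F2178 : act 6 n401 = n277 := d41_1 D401 (iv D277) D276
def n402 : Q := act 8 n277
theorem D402 : act 8 n277 = n402 := rfl
theorem F2179 : act 0 n402 = n306 := d7_1 D402 (iv D306) (iv F1538)
theorem F2180 : act 1 n402 = n402 := d15_1 D402 (iv D402) F1539
theorem F2181 : act 3 n402 = n285 := d28_1 D402 (iv D285) (iv F1540)
theorem F2182 : act 5 n402 = n402 := d37_1 D402 (iv D402) F1541 F1084 (iv F1541)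
theorem F2183 : act 9 n402 = n402 := d44_2 D277 D402 (iv D402) (iv D277) F1078
def n403 : Q := act 5 n278
theorem D403 : act 5 n278 = n403 := rfl
theorem F2184 : act 0 n403 = n307 := d4_1 D403 (iv D307) (iv F1542)
theorem F2185 : act 1 n403 = n403 := d12_1 D403 (iv D403) F1543
theorem F2186 : act 2 n403 = n403 := d19_1 D403 (iv D403) F1544
theorem F2187 : act 7 n403 = n403 := d36_2 F1547 D403 (iv D403)
theorem F2188 : act 8 n403 = n279 := d37_2 D278 D403 (iv D279) (iv D192) D191
def n404 : Q := act 9 n278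
theorem D404 : act 9 n278 = n404 := rfl
theorem F2189 : act 0 n404 = n308 := d8_1 D404 (iv D308) (iv F1542)
theorem F2190 : act 1 n404 = n404 := d16_1 D404 (iv D404) F1543
theorem F2191 : act 2 n404 = n404 := d23_1 D404 (iv D404) F1544
theorem F2192 : act 4 n404 = n404 := d34_1 D404 (iv D404) F1545
theorem F2193 : act 6 n404 = n404 := d41_1 D404 (iv D404) F1546
theorem F2194 : act 7 n404 = n404 := d43_1 D404 (iv D404) F1547
theorem F2195 : act 8 n404 = n404 := d44_1 D404 (iv D404) (iv D278) F1091 D278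
def n405 : Q := act 4 n279
theorem D405 : act 4 n279 = n405 := rfl
theorem F2196 : act 0 n405 = n309 := d3_1 D405 (iv D309) (iv F1548)
theorem F2197 : act 1 n405 = n405 := d11_1 D405 (iv D405) F1549
theorem F2198 : act 2 n405 = n405 := d18_1 D405 (iv D405) F1550
theorem F2199 : act 5 n405 = n286 := d30_2 D279 D405 (iv D286) (iv D197) (iv F1095)
theorem F2200 : act 7 n405 = n405 := d32_2 F1551 D405 (iv D405)
def n406 : Q := act 6 n279
theorem D406 : act 6 n279 = n406 := rfl
theorem F2201 : act 0 n406 = n310 := d5_1 D406 (iv D310) (iv F1548)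
theorem F2202 : act 1 n406 = n406 := d13_1 D406 (iv D406) F1549
theorem F2203 : act 2 n406 = n406 := d20_1 D406 (iv D406) F1550
theorem F2204 : act 5 n406 = n281 := d35_1 D406 (iv D281) (iv D193) (iv F1096) D279
def n407 : Q := act 9 n279
theorem D407 : act 9 n279 = n407 := rfl
theorem F2205 : act 0 n407 = n311 := d8_1 D407 (iv D311) (iv F1548)
theorem F2206 : act 1 n407 = n407 := d16_1 D407 (iv D407) F1549
theorem F2207 : act 2 n407 = n407 := d23_1 D407 (iv D407) F1550
theorem F2208 : act 5 n407 = n280 := d38_1 D407 (iv D280) D279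
theorem F2209 : act 7 n407 = n407 := d43_1 D407 (iv D407) F1551
def n408 : Q := act 7 n281
theorem D408 : act 7 n281 = n408 := rfl
theorem F2210 : act 0 n408 = n312 := d6_1 D408 (iv D312) (iv F1559)
theorem F2211 : act 1 n408 = n408 := d14_1 D408 (iv D408) F1560
theorem F2212 : act 2 n408 = n408 := d21_1 D408 (iv D408) F1561
theorem F2213 : act 4 n408 = n408 := d32_1 D408 (iv D408) F1562
theorem F2214 : act 6 n408 = n283 := d39_1 D408 (iv D283) (iv D195) (iv F1102) D281
theorem F2215 : act 8 n408 = n408 := d42_2 F1563 D408 (iv D408)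
def n409 : Q := act 9 n281
theorem D409 : act 9 n281 = n409 := rfl
theorem F2216 : act 0 n409 = n313 := d8_1 D409 (iv D313) (iv F1559)
theorem F2217 : act 1 n409 = n409 := d16_1 D409 (iv D409) F1560
theorem F2218 : act 2 n409 = n409 := d23_1 D409 (iv D409) F1561
theorem F2219 : act 4 n409 = n409 := d34_1 D409 (iv D409) F1562
theorem F2220 : act 6 n409 = n282 := d41_1 D409 (iv D282) D281
def n410 : Q := act 8 n282
theorem D410 : act 8 n282 = n410 := rfl
theorem F2221 : act 0 n410 = n314 := d7_1 D410 (iv D314) (iv F1564)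
theorem F2222 : act 1 n410 = n410 := d15_1 D410 (iv D410) F1565
theorem F2223 : act 2 n410 = n410 := d22_1 D410 (iv D410) F1566
theorem F2224 : act 4 n410 = n410 := d33_1 D410 (iv D410) F1567
theorem F2225 : act 5 n410 = n410 := d37_1 D410 (iv D410) F1568 F1109 (iv F1568)
theorem F2226 : act 7 n410 = n285 := d42_1 D410 (iv D285) (iv F1569)
theorem F2227 : act 9 n410 = n410 := d44_2 D282 D410 (iv D410) (iv D282) F1103
def n411 : Q := act 9 n283
theorem D411 : act 9 n283 = n411 := rfl
theorem F2228 : act 0 n411 = n315 := d8_1 D411 (iv D315) (iv F1570)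
theorem F2229 : act 1 n411 = n411 := d16_1 D411 (iv D411) F1571
theorem F2230 : act 2 n411 = n411 := d23_1 D411 (iv D411) F1572
theorem F2231 : act 4 n411 = n411 := d34_1 D411 (iv D411) F1573
theorem F2232 : act 5 n411 = n411 := d38_1 D411 (iv D411) F1574
theorem F2233 : act 7 n411 = n284 := d43_1 D411 (iv D284) D283
def n412 : Q := act 8 n284
theorem D412 : act 8 n284 = n412 := rfl
theorem F2234 : act 0 n412 = n316 := d7_1 D412 (iv D316) (iv F1576)
theorem F2235 : act 1 n412 = n412 := d15_1 D412 (iv D412) F1577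
theorem F2236 : act 2 n412 = n412 := d22_1 D412 (iv D412) F1578
theorem F2237 : act 4 n412 = n412 := d33_1 D412 (iv D412) F1579
theorem F2238 : act 6 n412 = n285 := d40_1 D412 (iv D285) (iv F1581)
theorem F2239 : act 9 n412 = n412 := d44_2 D284 D412 (iv D412) (iv D284) F1115
def n413 : Q := act 3 n286
theorem D413 : act 3 n286 = n413 := rfl
theorem F2240 : act 0 n413 = n317 := d2_1 D413 (iv D317) (iv F1588)
theorem F2241 : act 1 n413 = n413 := d10_1 D413 (iv D413) F1589
theorem F2242 : act 4 n413 = n413 := d24_2 D286 D413 (iv D413) (iv D286) F1124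
theorem F2243 : act 6 n413 = n413 := d26_2 F1591 D413 (iv D413)
theorem F2244 : act 7 n413 = n413 := d27_2 F1592 D413 (iv D413)
theorem F2245 : act 8 n413 = n413 := d28_2 F1593 D413 (iv D413)
def n414 : Q := act 9 n286
theorem D414 : act 9 n286 = n414 := rfl
theorem F2246 : act 0 n414 = n318 := d8_1 D414 (iv D318) (iv F1588)
theorem F2247 : act 1 n414 = n414 := d16_1 D414 (iv D414) F1589
theorem F2248 : act 2 n414 = n414 := d23_1 D414 (iv D414) F1590
theorem F2249 : act 4 n414 = n287 := d34_1 D414 (iv D287) D286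
theorem F2250 : act 6 n414 = n414 := d41_1 D414 (iv D414) F1591
theorem F2251 : act 7 n414 = n414 := d43_1 D414 (iv D414) F1592
def n415 : Q := act 8 n287
theorem D415 : act 8 n287 = n415 := rfl
theorem F2252 : act 0 n415 = n319 := d7_1 D415 (iv D319) (iv F1594)
theorem F2253 : act 1 n415 = n415 := d15_1 D415 (iv D415) F1595
theorem F2254 : act 2 n415 = n415 := d22_1 D415 (iv D415) F1596
theorem F2255 : act 3 n415 = n415 := d28_1 D415 (iv D415) F1597
theorem F2256 : act 5 n415 = n415 := d37_1 D415 (iv D415) F1598 F1134 (iv F1598)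
theorem F2257 : act 6 n415 = n415 := d40_1 D415 (iv D415) F1599
theorem F2258 : act 7 n415 = n415 := d42_1 D415 (iv D415) F1600
theorem F2259 : act 9 n415 = n415 := d44_2 D287 D415 (iv D415) (iv D287) F1127
def n416 : Q := act 4 n288
theorem D416 : act 4 n288 = n416 := rfl
theorem F2260 : act 1 n416 = n416 := d11_1 D416 (iv D416) F1601
theorem F2261 : act 2 n416 = n295 := d18_1 D416 (iv D295) (iv F1602)
theorem F2262 : act 5 n416 = n416 := d30_2 D288 D416 (iv D416) (iv D288) F1138
theorem F2263 : act 6 n416 = n416 := d31_2 F1604 D416 (iv D416)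
theorem F2264 : act 7 n416 = n416 := d32_2 F1605 D416 (iv D416)
theorem F2265 : act 9 n416 = n416 := d34_2 F1606 D416 (iv D416)
def n417 : Q := act 8 n288
theorem D417 : act 8 n288 = n417 := rfl
theorem F2266 : act 1 n417 = n417 := d15_1 D417 (iv D417) F1601
theorem F2267 : act 2 n417 = n296 := d22_1 D417 (iv D296) (iv F1602)
theorem F2268 : act 3 n417 = n417 := d28_1 D417 (iv D417) F1603
theorem F2269 : act 6 n417 = n417 := d40_1 D417 (iv D417) F1604
theorem F2270 : act 7 n417 = n417 := d42_1 D417 (iv D417) F1605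
def n418 : Q := act 5 n289
theorem D418 : act 5 n289 = n418 := rfl
theorem F2271 : act 1 n418 = n418 := d12_1 D418 (iv D418) F1607
theorem F2272 : act 2 n418 = n297 := d19_1 D418 (iv D297) (iv F1608)
theorem F2273 : act 3 n418 = n418 := d25_1 D418 (iv D418) F1609
theorem F2274 : act 7 n418 = n418 := d36_2 F1612 D418 (iv D418)
def n419 : Q := act 9 n289
theorem D419 : act 9 n289 = n419 := rfl
theorem F2275 : act 1 n419 = n419 := d16_1 D419 (iv D419) F1607
theorem F2276 : act 2 n419 = n298 := d23_1 D419 (iv D298) (iv F1608)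
theorem F2277 : act 3 n419 = n419 := d29_1 D419 (iv D419) F1609
theorem F2278 : act 4 n419 = n419 := d34_1 D419 (iv D419) F1610
theorem F2279 : act 6 n419 = n291 := d41_1 D419 (iv D291) (iv F1611)
theorem F2280 : act 7 n419 = n419 := d43_1 D419 (iv D419) F1612
theorem F2281 : act 8 n419 = n419 := d44_1 D419 (iv D419) (iv D289) F1140 D289
def n420 : Q := act 4 n290
theorem D420 : act 4 n290 = n420 := rfl
theorem F2283 : act 2 n420 = n299 := d18_1 D420 (iv D299) (iv F1614)
theorem F2285 : act 7 n420 = n292 := d32_2 (iv F1616) D420 (iv D292)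
theorem F2286 : act 8 n420 = n420 := d33_2 F1617 D420 (iv D420)
def n421 : Q := act 6 n290
theorem D421 : act 6 n290 = n421 := rfl
theorem F2287 : act 1 n421 = n421 := d13_1 D421 (iv D421) F1613
theorem F2288 : act 2 n421 = n300 := d20_1 D421 (iv D300) (iv F1614)
theorem F2289 : act 3 n421 = n421 := d26_1 D421 (iv D421) F1615
theorem F2290 : act 8 n421 = n421 := d40_2 F1617 D421 (iv D421)
def n422 : Q := act 9 n290
theorem D422 : act 9 n290 = n422 := rfl
theorem F2291 : act 1 n422 = n422 := d16_1 D422 (iv D422) F1613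
theorem F2292 : act 2 n422 = n301 := d23_1 D422 (iv D301) (iv F1614)
theorem F2293 : act 3 n422 = n422 := d29_1 D422 (iv D422) F1615
theorem F2294 : act 5 n422 = n291 := d38_1 D422 (iv D291) D290
theorem F2295 : act 7 n422 = n294 := d43_1 D422 (iv D294) (iv F1616)
def n423 : Q := act 3 n292
theorem D423 : act 3 n292 = n423 := rfl
theorem F2297 : act 2 n423 = n423 := d17_1 D423 (iv D423) F1625 F1176 (iv F1625)
def n424 : Q := act 6 n292
theorem D424 : act 6 n292 = n424 := rfl
theorem F2302 : act 2 n424 = n302 := d20_1 D424 (iv D302) (iv F1625)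
theorem F2303 : act 4 n424 = n293 := d31_1 D424 (iv D293) D292
def n425 : Q := act 9 n292
theorem D425 : act 9 n292 = n425 := rfl
theorem F2307 : act 4 n425 = n294 := d34_1 D425 (iv D294) D292
def n426 : Q := act 7 n293
theorem D426 : act 7 n293 = n426 := rfl
def n427 : Q := act 9 n293
theorem D427 : act 9 n293 = n427 := rfl
theorem F2318 : act 6 n427 = n294 := d41_1 D427 (iv D294) D293
def n428 : Q := act 8 n294
theorem D428 : act 8 n294 = n428 := rfl
theorem F2319 : act 1 n428 = n428 := d15_1 D428 (iv D428) F1633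
theorem F2320 : act 2 n428 = n306 := d22_1 D428 (iv D306) (iv F1634)
theorem F2321 : act 3 n428 = n428 := d28_1 D428 (iv D428) F1635
theorem F2322 : act 5 n428 = n428 := d37_1 D428 (iv D428) F1636 F1155 (iv F1636)
theorem F2323 : act 9 n428 = n428 := d44_2 D294 D428 (iv D428) (iv D294) F1149
def n429 : Q := act 8 n295
theorem D429 : act 8 n295 = n429 := rfl
theorem F2324 : act 1 n429 = n320 := d15_1 D429 (iv D320) (iv F1637)
theorem F2325 : act 3 n429 = n429 := d28_1 D429 (iv D429) F1638
theorem F2326 : act 4 n429 = n296 := d33_1 D429 (iv D296) D295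
theorem F2327 : act 6 n429 = n429 := d40_1 D429 (iv D429) F1640
theorem F2328 : act 7 n429 = n429 := d42_1 D429 (iv D429) F1641
def n430 : Q := act 5 n296
theorem D430 : act 5 n296 = n430 := rfl
theorem F2329 : act 1 n430 = n321 := d12_1 D430 (iv D321) (iv F1643)
theorem F2330 : act 3 n430 = n307 := d25_1 D430 (iv D307) (iv F1644)
theorem F2331 : act 7 n430 = n430 := d36_2 F1646 D430 (iv D430)
theorem F2332 : act 8 n430 = n297 := d37_2 D296 D430 (iv D297) (iv D204) D203
def n431 : Q := act 9 n296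
theorem D431 : act 9 n296 = n431 := rfl
theorem F2333 : act 1 n431 = n322 := d16_1 D431 (iv D322) (iv F1643)
theorem F2334 : act 3 n431 = n308 := d29_1 D431 (iv D308) (iv F1644)
theorem F2335 : act 6 n431 = n431 := d41_1 D431 (iv D431) F1645
theorem F2336 : act 7 n431 = n431 := d43_1 D431 (iv D431) F1646
theorem F2337 : act 8 n431 = n431 := d44_1 D431 (iv D431) (iv D296) F1160 D296
def n432 : Q := act 4 n297
theorem D432 : act 4 n297 = n432 := rfl
theorem F2338 : act 1 n432 = n323 := d11_1 D432 (iv D323) (iv F1647)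
theorem F2339 : act 5 n432 = n432 := d30_2 D297 D432 (iv D432) (iv D297) F1163
theorem F2340 : act 7 n432 = n432 := d32_2 F1649 D432 (iv D432)
def n433 : Q := act 6 n297
theorem D433 : act 6 n297 = n433 := rfl
theorem F2341 : act 1 n433 = n324 := d13_1 D433 (iv D324) (iv F1647)
theorem F2342 : act 3 n433 = n310 := d26_1 D433 (iv D310) (iv F1648)
theorem F2343 : act 5 n433 = n300 := d35_1 D433 (iv D300) (iv D205) (iv F1164) D297
def n434 : Q := act 9 n297
theorem D434 : act 9 n297 = n434 := rfl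
theorem F2344 : act 1 n434 = n325 := d16_1 D434 (iv D325) (iv F1647)
theorem F2345 : act 3 n434 = n311 := d29_1 D434 (iv D311) (iv F1648)
theorem F2346 : act 5 n434 = n298 := d38_1 D434 (iv D298) D297
theorem F2347 : act 7 n434 = n434 := d43_1 D434 (iv D434) F1649
def n435 : Q := act 6 n299
theorem D435 : act 6 n299 = n435 := rfl
theorem F2348 : act 1 n435 = n326 := d13_1 D435 (iv D326) (iv F1656)
theorem F2349 : act 3 n435 = n435 := d26_1 D435 (iv D435) F1657
theorem F2350 : act 4 n435 = n300 := d31_1 D435 (iv D300) D299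
theorem F2351 : act 8 n435 = n435 := d40_2 F1660 D435 (iv D435)
def n436 : Q := act 9 n299
theorem D436 : act 9 n299 = n436 := rfl
theorem F2352 : act 1 n436 = n327 := d16_1 D436 (iv D327) (iv F1656)
theorem F2353 : act 3 n436 = n436 := d29_1 D436 (iv D436) F1657
theorem F2354 : act 4 n436 = n301 := d34_1 D436 (iv D301) D299
theorem F2355 : act 5 n436 = n436 := d38_1 D436 (iv D436) F1658
theorem F2356 : act 7 n436 = n303 := d43_1 D436 (iv D303) (iv F1659)
def n437 : Q := act 7 n300
theorem D437 : act 7 n300 = n437 := rfl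
theorem F2357 : act 1 n437 = n328 := d14_1 D437 (iv D328) (iv F1661)
theorem F2358 : act 3 n437 = n312 := d27_1 D437 (iv D312) (iv F1662)
theorem F2359 : act 6 n437 = n304 := d39_1 D437 (iv D304) (iv D208) (iv F1168) D300
theorem F2360 : act 8 n437 = n437 := d42_2 F1663 D437 (iv D437)
def n438 : Q := act 9 n300
theorem D438 : act 9 n300 = n438 := rfl
theorem F2361 : act 1 n438 = n329 := d16_1 D438 (iv D329) (iv F1661)
theorem F2362 : act 3 n438 = n313 := d29_1 D438 (iv D313) (iv F1662)
theorem F2363 : act 6 n438 = n301 := d41_1 D438 (iv D301) D300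
def n439 : Q := act 8 n301
theorem D439 : act 8 n301 = n439 := rfl
theorem F2364 : act 1 n439 = n330 := d15_1 D439 (iv D330) (iv F1664)
theorem F2365 : act 3 n439 = n314 := d28_1 D439 (iv D314) (iv F1665)
theorem F2366 : act 5 n439 = n439 := d37_1 D439 (iv D439) F1666 F1174 (iv F1666)
theorem F2367 : act 7 n439 = n306 := d42_1 D439 (iv D306) (iv F1667)
theorem F2368 : act 9 n439 = n439 := d44_2 D301 D439 (iv D439) (iv D301) F1169
def n440 : Q := act 5 n302
theorem D440 : act 5 n302 = n440 := rfl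
theorem F2369 : act 1 n440 = n331 := d12_1 D440 (iv D331) (iv F1668)
theorem F2372 : act 6 n440 = n440 := d35_2 D302 D440 (iv D440) (iv D302) F1177
def n441 : Q := act 7 n302
theorem D441 : act 7 n302 = n441 := rfl
theorem F2375 : act 4 n441 = n304 := d32_1 D441 (iv D304) (iv F1670)
def n443 : Q := act 8 n303
theorem D443 : act 8 n303 = n443 := rfl
theorem F2381 : act 1 n443 = n334 := d15_1 D443 (iv D334) (iv F1672)
theorem F2382 : act 3 n443 = n443 := d28_1 D443 (iv D443) F1673
theorem F2383 : act 4 n443 = n306 := d33_1 D443 (iv D306) (iv F1674)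
theorem F2384 : act 9 n443 = n443 := d44_2 D303 D443 (iv D443) (iv D303) F1178
def n444 : Q := act 9 n304
theorem D444 : act 9 n304 = n444 := rfl
theorem F2385 : act 1 n444 = n335 := d16_1 D444 (iv D335) (iv F1676)
theorem F2386 : act 3 n444 = n315 := d29_1 D444 (iv D315) (iv F1677)
theorem F2387 : act 5 n444 = n444 := d38_1 D444 (iv D444) F1678
theorem F2388 : act 7 n444 = n305 := d43_1 D444 (iv D305) D304
def n445 : Q := act 8 n305
theorem D445 : act 8 n305 = n445 := rfl
theorem F2389 : act 1 n445 = n336 := d15_1 D445 (iv D336) (iv F1680)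
theorem F2390 : act 3 n445 = n316 := d28_1 D445 (iv D316) (iv F1681)
theorem F2391 : act 6 n445 = n306 := d40_1 D445 (iv D306) (iv F1683)
theorem F2392 : act 9 n445 = n445 := d44_2 D305 D445 (iv D445) (iv D305) F1182
def n446 : Q := act 4 n307
theorem D446 : act 4 n307 = n446 := rfl
theorem F2393 : act 1 n446 = n337 := d11_1 D446 (iv D337) (iv F1688)
theorem F2394 : act 2 n446 = n446 := d18_1 D446 (iv D446) F1689
theorem F2395 : act 5 n446 = n446 := d30_2 D307 D446 (iv D446) (iv D307) F1188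
theorem F2396 : act 7 n446 = n446 := d32_2 F1690 D446 (iv D446)
theorem F2397 : act 8 n446 = n309 := d33_2 (iv F1691) D446 (iv D309)
def n447 : Q := act 6 n307
theorem D447 : act 6 n307 = n447 := rfl
theorem F2398 : act 1 n447 = n338 := d13_1 D447 (iv D338) (iv F1688)
theorem F2399 : act 2 n447 = n447 := d20_1 D447 (iv D447) F1689
theorem F2400 : act 5 n447 = n447 := d35_1 D447 (iv D447) (iv D307) F1189 D307
theorem F2401 : act 8 n447 = n310 := d40_2 (iv F1691) D447 (iv D310)
def n448 : Q := act 9 n307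
theorem D448 : act 9 n307 = n448 := rfl
theorem F2402 : act 1 n448 = n339 := d16_1 D448 (iv D339) (iv F1688)
theorem F2403 : act 2 n448 = n448 := d23_1 D448 (iv D448) F1689
theorem F2404 : act 5 n448 = n308 := d38_1 D448 (iv D308) D307
theorem F2405 : act 7 n448 = n448 := d43_1 D448 (iv D448) F1690
def n449 : Q := act 3 n309
theorem D449 : act 3 n309 = n449 := rfl
theorem F2406 : act 1 n449 = n340 := d10_1 D449 (iv D340) (iv F1698)
theorem F2407 : act 5 n449 = n317 := d25_2 (iv F1700) D449 (iv D317)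
theorem F2408 : act 7 n449 = n449 := d27_2 F1701 D449 (iv D449)
def n450 : Q := act 6 n309
theorem D450 : act 6 n309 = n450 := rfl
theorem F2409 : act 1 n450 = n341 := d13_1 D450 (iv D341) (iv F1698)
theorem F2410 : act 2 n450 = n450 := d20_1 D450 (iv D450) F1699
theorem F2411 : act 4 n450 = n310 := d31_1 D450 (iv D310) D309
theorem F2412 : act 5 n450 = n450 := d35_1 D450 (iv D450) F1700 F1226 (iv F1700)
def n451 : Q := act 9 n309
theorem D451 : act 9 n309 = n451 := rfl
theorem F2413 : act 1 n451 = n342 := d16_1 D451 (iv D342) (iv F1698)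
theorem F2414 : act 2 n451 = n451 := d23_1 D451 (iv D451) F1699
theorem F2415 : act 4 n451 = n311 := d34_1 D451 (iv D311) D309
theorem F2416 : act 5 n451 = n318 := d38_1 D451 (iv D318) (iv F1700)
theorem F2417 : act 7 n451 = n451 := d43_1 D451 (iv D451) F1701
def n452 : Q := act 7 n310
theorem D452 : act 7 n310 = n452 := rfl
theorem F2418 : act 1 n452 = n343 := d14_1 D452 (iv D343) (iv F1702)
theorem F2419 : act 2 n452 = n452 := d21_1 D452 (iv D452) F1703
theorem F2420 : act 5 n452 = n312 := d36_1 D452 (iv D312) (iv F1704)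
theorem F2421 : act 6 n452 = n452 := d39_1 D452 (iv D452) (iv D310) F1193 D310
def n453 : Q := act 9 n310
theorem D453 : act 9 n310 = n453 := rfl
theorem F2422 : act 1 n453 = n344 := d16_1 D453 (iv D344) (iv F1702)
theorem F2423 : act 2 n453 = n453 := d23_1 D453 (iv D453) F1703
theorem F2424 : act 5 n453 = n313 := d38_1 D453 (iv D313) (iv F1704)
theorem F2425 : act 6 n453 = n311 := d41_1 D453 (iv D311) D310
def n454 : Q := act 8 n311
theorem D454 : act 8 n311 = n454 := rfl
theorem F2426 : act 1 n454 = n345 := d15_1 D454 (iv D345) (iv F1705)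
theorem F2427 : act 2 n454 = n454 := d22_1 D454 (iv D454) F1706
theorem F2428 : act 5 n454 = n454 := d37_1 D454 (iv D454) F1707 F1199 (iv F1707)
theorem F2429 : act 7 n454 = n454 := d42_1 D454 (iv D454) F1708
def n455 : Q := act 9 n312
theorem D455 : act 9 n312 = n455 := rfl
theorem F2430 : act 1 n455 = n346 := d16_1 D455 (iv D346) (iv F1709)
theorem F2431 : act 2 n455 = n455 := d23_1 D455 (iv D455) F1710
theorem F2432 : act 4 n455 = n455 := d34_1 D455 (iv D455) F1711
theorem F2433 : act 6 n455 = n315 := d41_1 D455 (iv D315) (iv F1712)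
theorem F2434 : act 7 n455 = n313 := d43_1 D455 (iv D313) D312
def n456 : Q := act 8 n313
theorem D456 : act 8 n313 = n456 := rfl
theorem F2435 : act 1 n456 = n347 := d15_1 D456 (iv D347) (iv F1714)
theorem F2436 : act 2 n456 = n456 := d22_1 D456 (iv D456) F1715
theorem F2437 : act 4 n456 = n456 := d33_1 D456 (iv D456) F1716
theorem F2438 : act 6 n456 = n314 := d40_1 D456 (iv D314) (iv F1717)
theorem F2439 : act 9 n456 = n456 := d44_2 D313 D456 (iv D456) (iv D313) F1203
def n457 : Q := act 8 n315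
theorem D457 : act 8 n315 = n457 := rfl
theorem F2440 : act 1 n457 = n348 := d15_1 D457 (iv D348) (iv F1724)
theorem F2441 : act 2 n457 = n457 := d22_1 D457 (iv D457) F1725
theorem F2442 : act 4 n457 = n457 := d33_1 D457 (iv D457) F1726
theorem F2443 : act 7 n457 = n316 := d42_1 D457 (iv D316) (iv F1728)
theorem F2444 : act 9 n457 = n457 := d44_2 D315 D457 (iv D457) (iv D315) F1213
def n458 : Q := act 5 n316
theorem D458 : act 5 n316 = n458 := rfl
theorem F2445 : act 1 n458 = n349 := d12_1 D458 (iv D349) (iv F1729)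
theorem F2446 : act 2 n458 = n458 := d19_1 D458 (iv D458) F1730
theorem F2447 : act 6 n458 = n458 := d35_2 (iv F1732) D458 (iv D458) F1732 F1222
theorem F2448 : act 8 n458 = n458 := d37_2 D316 D458 (iv D458) (iv D316) F1217
theorem F2449 : act 9 n458 = n458 := d38_2 F1733 D458 (iv D458)
def n459 : Q := act 2 n317
theorem D459 : act 2 n317 = n459 := rfl
theorem F2450 : act 3 n459 = n459 := d17_2 D317 D459 (iv D459) (iv D317) F1225
theorem F2451 : act 4 n459 = n459 := d18_2 F1735 D459 (iv D459)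
theorem F2452 : act 6 n459 = n459 := d20_2 F1736 D459 (iv D459)
theorem F2453 : act 7 n459 = n459 := d21_2 F1737 D459 (iv D459)
theorem F2454 : act 8 n459 = n459 := d22_2 F1738 D459 (iv D459)
def n460 : Q := act 9 n317
theorem D460 : act 9 n317 = n460 := rfl
theorem F2455 : act 1 n460 = n351 := d16_1 D460 (iv D351) (iv F1734)
theorem F2456 : act 3 n460 = n318 := d29_1 D460 (iv D318) D317
theorem F2457 : act 4 n460 = n460 := d34_1 D460 (iv D460) F1735
theorem F2458 : act 6 n460 = n460 := d41_1 D460 (iv D460) F1736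
theorem F2459 : act 7 n460 = n460 := d43_1 D460 (iv D460) F1737
def n461 : Q := act 8 n318
theorem D461 : act 8 n318 = n461 := rfl
theorem F2460 : act 1 n461 = n352 := d15_1 D461 (iv D352) (iv F1739)
theorem F2461 : act 2 n461 = n461 := d22_1 D461 (iv D461) F1740
theorem F2462 : act 4 n461 = n319 := d33_1 D461 (iv D319) (iv F1741)
theorem F2463 : act 6 n461 = n461 := d40_1 D461 (iv D461) F1742
theorem F2464 : act 7 n461 = n461 := d42_1 D461 (iv D461) F1743
theorem F2465 : act 9 n461 = n461 := d44_2 D318 D461 (iv D461) (iv D318) F1228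
def n462 : Q := act 5 n320
theorem D462 : act 5 n320 = n462 := rfl
theorem F2466 : act 0 n462 = n462 := d4_1 D462 (iv D462) F1751
theorem F2467 : act 2 n462 = n462 := d19_1 D462 (iv D462) F1752
theorem F2468 : act 3 n462 = n462 := d25_1 D462 (iv D462) F1753
theorem F2469 : act 7 n462 = n462 := d36_2 F1756 D462 (iv D462)
theorem F2470 : act 8 n462 = n462 := d37_2 D320 D462 (iv D462) (iv D320) F1238
def n463 : Q := act 9 n320
theorem D463 : act 9 n320 = n463 := rfl
theorem F2471 : act 0 n463 = n463 := d8_1 D463 (iv D463) F1751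
theorem F2472 : act 2 n463 = n463 := d23_1 D463 (iv D463) F1752
theorem F2473 : act 3 n463 = n463 := d29_1 D463 (iv D463) F1753
theorem F2474 : act 4 n463 = n322 := d34_1 D463 (iv D322) (iv F1754)
theorem F2475 : act 6 n463 = n463 := d41_1 D463 (iv D463) F1755
theorem F2476 : act 7 n463 = n463 := d43_1 D463 (iv D463) F1756
theorem F2477 : act 8 n463 = n463 := d44_1 D463 (iv D463) (iv D320) F1241 D320
def n464 : Q := act 4 n321
theorem D464 : act 4 n321 = n464 := rfl
theorem F2478 : act 0 n464 = n464 := d3_1 D464 (iv D464) F1757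
theorem F2479 : act 2 n464 = n464 := d18_1 D464 (iv D464) F1758
theorem F2480 : act 7 n464 = n464 := d32_2 F1760 D464 (iv D464)
theorem F2481 : act 8 n464 = n323 := d33_2 (iv F1761) D464 (iv D323)
def n465 : Q := act 6 n321
theorem D465 : act 6 n321 = n465 := rfl
theorem F2482 : act 0 n465 = n465 := d5_1 D465 (iv D465) F1757
theorem F2483 : act 2 n465 = n465 := d20_1 D465 (iv D465) F1758
theorem F2484 : act 3 n465 = n338 := d26_1 D465 (iv D338) (iv F1759)
theorem F2485 : act 5 n465 = n465 := d35_1 D465 (iv D465) (iv D321) F1245 D321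
theorem F2486 : act 8 n465 = n324 := d40_2 (iv F1761) D465 (iv D324)
def n466 : Q := act 9 n321
theorem D466 : act 9 n321 = n466 := rfl
theorem F2487 : act 0 n466 = n466 := d8_1 D466 (iv D466) F1757
theorem F2488 : act 2 n466 = n466 := d23_1 D466 (iv D466) F1758
theorem F2489 : act 3 n466 = n339 := d29_1 D466 (iv D339) (iv F1759)
theorem F2490 : act 5 n466 = n322 := d38_1 D466 (iv D322) D321
theorem F2491 : act 7 n466 = n466 := d43_1 D466 (iv D466) F1760
def n467 : Q := act 3 n323
theorem D467 : act 3 n323 = n467 := rfl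
theorem F2492 : act 0 n467 = n467 := d2_1 D467 (iv D467) F1768
theorem F2493 : act 4 n467 = n340 := d24_2 D323 D467 (iv D340) (iv D234) (iv F1249)
theorem F2494 : act 5 n467 = n467 := d25_2 F1770 D467 (iv D467)
theorem F2495 : act 7 n467 = n467 := d27_2 F1771 D467 (iv D467)
def n468 : Q := act 6 n323
theorem D468 : act 6 n323 = n468 := rfl
theorem F2496 : act 0 n468 = n468 := d5_1 D468 (iv D468) F1768
theorem F2497 : act 2 n468 = n468 := d20_1 D468 (iv D468) F1769
theorem F2498 : act 4 n468 = n324 := d31_1 D468 (iv D324) D323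
def n469 : Q := act 9 n323
theorem D469 : act 9 n323 = n469 := rfl
theorem F2499 : act 0 n469 = n469 := d8_1 D469 (iv D469) F1768
theorem F2500 : act 2 n469 = n469 := d23_1 D469 (iv D469) F1769
theorem F2501 : act 4 n469 = n325 := d34_1 D469 (iv D325) D323
theorem F2502 : act 5 n469 = n469 := d38_1 D469 (iv D469) F1770
theorem F2503 : act 7 n469 = n469 := d43_1 D469 (iv D469) F1771
def n470 : Q := act 7 n324
theorem D470 : act 7 n324 = n470 := rfl
theorem F2504 : act 0 n470 = n470 := d6_1 D470 (iv D470) F1772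
theorem F2505 : act 2 n470 = n470 := d21_1 D470 (iv D470) F1773
theorem F2506 : act 3 n470 = n343 := d27_1 D470 (iv D343) (iv F1774)
theorem F2507 : act 5 n470 = n328 := d36_1 D470 (iv D328) (iv F1775)
theorem F2508 : act 6 n470 = n470 := d39_1 D470 (iv D470) (iv D324) F1250 D324
def n471 : Q := act 9 n324
theorem D471 : act 9 n324 = n471 := rfl
theorem F2509 : act 0 n471 = n471 := d8_1 D471 (iv D471) F1772
theorem F2510 : act 2 n471 = n471 := d23_1 D471 (iv D471) F1773
theorem F2511 : act 3 n471 = n344 := d29_1 D471 (iv D344) (iv F1774)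
theorem F2512 : act 5 n471 = n329 := d38_1 D471 (iv D329) (iv F1775)
theorem F2513 : act 6 n471 = n325 := d41_1 D471 (iv D325) D324
def n472 : Q := act 8 n325
theorem D472 : act 8 n325 = n472 := rfl
theorem F2514 : act 0 n472 = n472 := d7_1 D472 (iv D472) F1776
theorem F2515 : act 2 n472 = n472 := d22_1 D472 (iv D472) F1777
theorem F2516 : act 3 n472 = n345 := d28_1 D472 (iv D345) (iv F1778)
theorem F2517 : act 5 n472 = n472 := d37_1 D472 (iv D472) F1779 F1257 (iv F1779)
theorem F2518 : act 7 n472 = n472 := d42_1 D472 (iv D472) F1780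
def n473 : Q := act 5 n326
theorem D473 : act 5 n326 = n473 := rfl
theorem F2519 : act 0 n473 = n473 := d4_1 D473 (iv D473) F1781
theorem F2520 : act 2 n473 = n473 := d19_1 D473 (iv D473) F1782
theorem F2521 : act 3 n473 = n473 := d25_1 D473 (iv D473) F1783
theorem F2522 : act 6 n473 = n473 := d35_2 D326 D473 (iv D473) (iv D326) F1261
def n474 : Q := act 7 n326
theorem D474 : act 7 n326 = n474 := rfl
theorem F2523 : act 0 n474 = n474 := d6_1 D474 (iv D474) F1781
theorem F2524 : act 2 n474 = n474 := d21_1 D474 (iv D474) F1782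
theorem F2525 : act 3 n474 = n474 := d27_1 D474 (iv D474) F1783
theorem F2526 : act 4 n474 = n328 := d32_1 D474 (iv D328) (iv F1784)
theorem F2527 : act 6 n474 = n332 := d39_1 D474 (iv D332) (iv D227) (iv F1262) D326
theorem F2528 : act 8 n474 = n474 := d42_2 F1785 D474 (iv D474)
def n475 : Q := act 9 n326
theorem D475 : act 9 n326 = n475 := rfl
theorem F2529 : act 0 n475 = n475 := d8_1 D475 (iv D475) F1781
theorem F2530 : act 2 n475 = n475 := d23_1 D475 (iv D475) F1782
theorem F2531 : act 3 n475 = n475 := d29_1 D475 (iv D475) F1783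
theorem F2532 : act 4 n475 = n329 := d34_1 D475 (iv D329) (iv F1784)
theorem F2533 : act 6 n475 = n327 := d41_1 D475 (iv D327) D326
def n476 : Q := act 8 n327
theorem D476 : act 8 n327 = n476 := rfl
theorem F2534 : act 0 n476 = n476 := d7_1 D476 (iv D476) F1786
theorem F2535 : act 2 n476 = n476 := d22_1 D476 (iv D476) F1787
theorem F2536 : act 3 n476 = n476 := d28_1 D476 (iv D476) F1788
theorem F2537 : act 4 n476 = n330 := d33_1 D476 (iv D330) (iv F1789)
theorem F2538 : act 7 n476 = n334 := d42_1 D476 (iv D334) (iv F1791)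
theorem F2539 : act 9 n476 = n476 := d44_2 D327 D476 (iv D476) (iv D327) F1263
def n477 : Q := act 9 n328
theorem D477 : act 9 n328 = n477 := rfl
theorem F2540 : act 0 n477 = n477 := d8_1 D477 (iv D477) F1792
theorem F2541 : act 2 n477 = n477 := d23_1 D477 (iv D477) F1793
theorem F2542 : act 3 n477 = n346 := d29_1 D477 (iv D346) (iv F1794)
theorem F2543 : act 6 n477 = n335 := d41_1 D477 (iv D335) (iv F1795)
theorem F2544 : act 7 n477 = n329 := d43_1 D477 (iv D329) D328
def n478 : Q := act 8 n329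
theorem D478 : act 8 n329 = n478 := rfl
theorem F2545 : act 0 n478 = n478 := d7_1 D478 (iv D478) F1797
theorem F2546 : act 2 n478 = n478 := d22_1 D478 (iv D478) F1798
theorem F2547 : act 3 n478 = n347 := d28_1 D478 (iv D347) (iv F1799)
theorem F2548 : act 6 n478 = n330 := d40_1 D478 (iv D330) (iv F1800)
theorem F2549 : act 9 n478 = n478 := d44_2 D329 D478 (iv D478) (iv D329) F1267
def n479 : Q := act 7 n331
theorem D479 : act 7 n331 = n479 := rfl
theorem F2550 : act 0 n479 = n479 := d6_1 D479 (iv D479) F1807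
theorem F2551 : act 2 n479 = n479 := d21_1 D479 (iv D479) F1808
theorem F2552 : act 3 n479 = n479 := d27_1 D479 (iv D479) F1809
theorem F2553 : act 4 n479 = n479 := d32_1 D479 (iv D479) F1810
theorem F2554 : act 5 n479 = n332 := d36_1 D479 (iv D332) D331
def n480 : Q := act 8 n331
theorem D480 : act 8 n331 = n480 := rfl
def n482 : Q := act 9 n332
theorem D482 : act 9 n332 = n482 := rfl
theorem F2567 : act 0 n482 = n482 := d8_1 D482 (iv D482) F1812
theorem F2568 : act 2 n482 = n482 := d23_1 D482 (iv D482) F1813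
theorem F2569 : act 3 n482 = n482 := d29_1 D482 (iv D482) F1814
theorem F2570 : act 4 n482 = n335 := d34_1 D482 (iv D335) (iv F1815)
theorem F2571 : act 7 n482 = n333 := d43_1 D482 (iv D333) D332
def n483 : Q := act 8 n333
theorem D483 : act 8 n333 = n483 := rfl
theorem F2572 : act 0 n483 = n483 := d7_1 D483 (iv D483) F1817
theorem F2573 : act 2 n483 = n483 := d22_1 D483 (iv D483) F1818
theorem F2574 : act 3 n483 = n483 := d28_1 D483 (iv D483) F1819
theorem F2575 : act 4 n483 = n336 := d33_1 D483 (iv D336) (iv F1820)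
theorem F2576 : act 6 n483 = n334 := d40_1 D483 (iv D334) (iv F1821)
theorem F2577 : act 9 n483 = n483 := d44_2 D333 D483 (iv D483) (iv D333) F1277
def n484 : Q := act 5 n334
theorem D484 : act 5 n334 = n484 := rfl
theorem F2578 : act 0 n484 = n484 := d4_1 D484 (iv D484) F1822
theorem F2579 : act 2 n484 = n484 := d19_1 D484 (iv D484) F1823
theorem F2580 : act 3 n484 = n484 := d25_1 D484 (iv D484) F1824
theorem F2581 : act 4 n484 = n484 := d30_1 D484 (iv D484) F1825 F1296 (iv F1825)
theorem F2582 : act 8 n484 = n484 := d37_2 D334 D484 (iv D484) (iv D334) F1282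
theorem F2583 : act 9 n484 = n484 := d38_2 F1826 D484 (iv D484)
def n485 : Q := act 8 n335
theorem D485 : act 8 n335 = n485 := rfl
theorem F2584 : act 0 n485 = n485 := d7_1 D485 (iv D485) F1827
theorem F2585 : act 2 n485 = n485 := d22_1 D485 (iv D485) F1828
theorem F2586 : act 3 n485 = n348 := d28_1 D485 (iv D348) (iv F1829)
theorem F2587 : act 7 n485 = n336 := d42_1 D485 (iv D336) (iv F1831)
theorem F2588 : act 9 n485 = n485 := d44_2 D335 D485 (iv D485) (iv D335) F1287
def n486 : Q := act 5 n336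
theorem D486 : act 5 n336 = n486 := rfl
theorem F2589 : act 0 n486 = n486 := d4_1 D486 (iv D486) F1832
theorem F2590 : act 2 n486 = n486 := d19_1 D486 (iv D486) F1833
theorem F2591 : act 3 n486 = n349 := d25_1 D486 (iv D349) (iv F1834)
theorem F2592 : act 6 n486 = n486 := d35_2 (iv F1835) D486 (iv D486) F1835 F1296
theorem F2593 : act 8 n486 = n486 := d37_2 D336 D486 (iv D486) (iv D336) F1291
theorem F2594 : act 9 n486 = n486 := d38_2 F1836 D486 (iv D486)
def n487 : Q := act 3 n337
theorem D487 : act 3 n337 = n487 := rfl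
theorem F2595 : act 0 n487 = n487 := d2_1 D487 (iv D487) F1837
theorem F2596 : act 5 n487 = n487 := d25_2 F1839 D487 (iv D487)
theorem F2597 : act 7 n487 = n487 := d27_2 F1840 D487 (iv D487)
theorem F2598 : act 8 n487 = n340 := d28_2 (iv F1841) D487 (iv D340)
def n488 : Q := act 6 n337
theorem D488 : act 6 n337 = n488 := rfl
theorem F2599 : act 0 n488 = n488 := d5_1 D488 (iv D488) F1837
theorem F2600 : act 2 n488 = n354 := d20_1 D488 (iv D354) (iv F1838)
theorem F2601 : act 4 n488 = n338 := d31_1 D488 (iv D338) D337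
theorem F2602 : act 8 n488 = n341 := d40_2 (iv F1841) D488 (iv D341)
def n489 : Q := act 9 n337
theorem D489 : act 9 n337 = n489 := rfl
theorem F2603 : act 0 n489 = n489 := d8_1 D489 (iv D489) F1837
theorem F2604 : act 2 n489 = n355 := d23_1 D489 (iv D355) (iv F1838)
theorem F2605 : act 4 n489 = n339 := d34_1 D489 (iv D339) D337
theorem F2606 : act 5 n489 = n489 := d38_1 D489 (iv D489) F1839
theorem F2607 : act 7 n489 = n489 := d43_1 D489 (iv D489) F1840
def n490 : Q := act 7 n338
theorem D490 : act 7 n338 = n490 := rfl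
theorem F2608 : act 0 n490 = n490 := d6_1 D490 (iv D490) F1842
theorem F2609 : act 2 n490 = n356 := d21_1 D490 (iv D356) (iv F1843)
theorem F2610 : act 5 n490 = n490 := d36_1 D490 (iv D490) F1844
theorem F2611 : act 6 n490 = n490 := d39_1 D490 (iv D490) (iv D338) F1300 D338
theorem F2612 : act 8 n490 = n343 := d42_2 (iv F1845) D490 (iv D343)
def n491 : Q := act 9 n338
theorem D491 : act 9 n338 = n491 := rfl
theorem F2613 : act 0 n491 = n491 := d8_1 D491 (iv D491) F1842
theorem F2614 : act 2 n491 = n357 := d23_1 D491 (iv D357) (iv F1843)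
theorem F2615 : act 5 n491 = n491 := d38_1 D491 (iv D491) F1844
theorem F2616 : act 6 n491 = n339 := d41_1 D491 (iv D339) D338
def n492 : Q := act 8 n339
theorem D492 : act 8 n339 = n492 := rfl
theorem F2617 : act 0 n492 = n492 := d7_1 D492 (iv D492) F1846
theorem F2618 : act 2 n492 = n358 := d22_1 D492 (iv D358) (iv F1847)
theorem F2619 : act 5 n492 = n492 := d37_1 D492 (iv D492) F1848 F1307 (iv F1848)
theorem F2620 : act 7 n492 = n492 := d42_1 D492 (iv D492) F1849
theorem F2621 : act 9 n492 = n345 := d44_2 D339 D492 (iv D345) (iv D236) (iv F1301)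
def n493 : Q := act 2 n340
theorem D493 : act 2 n340 = n493 := rfl
theorem F2622 : act 0 n493 = n493 := d1_1 D493 (iv D493) F1850
theorem F2623 : act 3 n493 = n359 := d17_2 D340 D493 (iv D359) (iv D248) (iv F1309)
theorem F2624 : act 5 n493 = n350 := d19_2 (iv F1851) D493 (iv D350)
theorem F2625 : act 7 n493 = n493 := d21_2 F1852 D493 (iv D493)
def n494 : Q := act 6 n340
theorem D494 : act 6 n340 = n494 := rfl
theorem F2626 : act 0 n494 = n494 := d5_1 D494 (iv D494) F1850
theorem F2627 : act 3 n494 = n341 := d26_1 D494 (iv D341) D340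
theorem F2628 : act 5 n494 = n494 := d35_1 D494 (iv D494) F1851 F1346 (iv F1851)
def n495 : Q := act 9 n340
theorem D495 : act 9 n340 = n495 := rfl
theorem F2629 : act 0 n495 = n495 := d8_1 D495 (iv D495) F1850
theorem F2630 : act 3 n495 = n342 := d29_1 D495 (iv D342) D340
theorem F2631 : act 5 n495 = n351 := d38_1 D495 (iv D351) (iv F1851)
theorem F2632 : act 7 n495 = n495 := d43_1 D495 (iv D495) F1852
def n496 : Q := act 7 n341
theorem D496 : act 7 n341 = n496 := rfl
theorem F2633 : act 0 n496 = n496 := d6_1 D496 (iv D496) F1853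
theorem F2634 : act 2 n496 = n362 := d21_1 D496 (iv D362) (iv F1854)
theorem F2635 : act 4 n496 = n343 := d32_1 D496 (iv D343) (iv F1855)
theorem F2636 : act 5 n496 = n496 := d36_1 D496 (iv D496) F1856
theorem F2637 : act 6 n496 = n496 := d39_1 D496 (iv D496) (iv D341) F1311 D341
def n497 : Q := act 9 n341
theorem D497 : act 9 n341 = n497 := rfl
theorem F2638 : act 0 n497 = n497 := d8_1 D497 (iv D497) F1853
theorem F2639 : act 2 n497 = n363 := d23_1 D497 (iv D363) (iv F1854)
theorem F2640 : act 4 n497 = n344 := d34_1 D497 (iv D344) (iv F1855)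
theorem F2641 : act 5 n497 = n497 := d38_1 D497 (iv D497) F1856
theorem F2642 : act 6 n497 = n342 := d41_1 D497 (iv D342) D341
def n498 : Q := act 8 n342
theorem D498 : act 8 n342 = n498 := rfl
theorem F2643 : act 0 n498 = n498 := d7_1 D498 (iv D498) F1857
theorem F2644 : act 2 n498 = n364 := d22_1 D498 (iv D364) (iv F1858)
theorem F2645 : act 4 n498 = n345 := d33_1 D498 (iv D345) (iv F1859)
theorem F2646 : act 7 n498 = n498 := d42_1 D498 (iv D498) F1861
def n499 : Q := act 9 n343
theorem D499 : act 9 n343 = n499 := rfl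
theorem F2647 : act 0 n499 = n499 := d8_1 D499 (iv D499) F1862
theorem F2648 : act 2 n499 = n365 := d23_1 D499 (iv D365) (iv F1863)
theorem F2649 : act 5 n499 = n346 := d38_1 D499 (iv D346) (iv F1864)
theorem F2650 : act 6 n499 = n499 := d41_1 D499 (iv D499) F1865
theorem F2651 : act 7 n499 = n344 := d43_1 D499 (iv D344) D343
def n500 : Q := act 8 n344
theorem D500 : act 8 n344 = n500 := rfl
theorem F2652 : act 0 n500 = n500 := d7_1 D500 (iv D500) F1866
theorem F2653 : act 2 n500 = n366 := d22_1 D500 (iv D366) (iv F1867)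
theorem F2654 : act 6 n500 = n345 := d40_1 D500 (iv D345) (iv F1869)
def n501 : Q := act 8 n346
theorem D501 : act 8 n346 = n501 := rfl
theorem F2655 : act 0 n501 = n501 := d7_1 D501 (iv D501) F1874
theorem F2656 : act 2 n501 = n367 := d22_1 D501 (iv D367) (iv F1875)
theorem F2657 : act 4 n501 = n501 := d33_1 D501 (iv D501) F1876
theorem F2658 : act 6 n501 = n348 := d40_1 D501 (iv D348) (iv F1877)
theorem F2659 : act 7 n501 = n347 := d42_1 D501 (iv D347) (iv F1878)
theorem F2660 : act 9 n501 = n501 := d44_2 D346 D501 (iv D501) (iv D346) F1323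
def n502 : Q := act 5 n347
theorem D502 : act 5 n347 = n502 := rfl
theorem F2661 : act 0 n502 = n502 := d4_1 D502 (iv D502) F1879
theorem F2662 : act 2 n502 = n368 := d19_1 D502 (iv D368) (iv F1880)
theorem F2663 : act 6 n502 = n502 := d35_2 (iv F1882) D502 (iv D502) F1882 F1331
theorem F2664 : act 9 n502 = n502 := d38_2 F1883 D502 (iv D502)
def n503 : Q := act 5 n348
theorem D503 : act 5 n348 = n503 := rfl
theorem F2665 : act 0 n503 = n503 := d4_1 D503 (iv D503) F1884
theorem F2666 : act 2 n503 = n369 := d19_1 D503 (iv D369) (iv F1885)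
theorem F2667 : act 7 n503 = n349 := d36_2 (iv F1887) D503 (iv D349)
theorem F2668 : act 8 n503 = n503 := d37_2 D348 D503 (iv D503) (iv D348) F1337
theorem F2669 : act 9 n503 = n503 := d38_2 F1888 D503 (iv D503)
def n504 : Q := act 4 n349
theorem D504 : act 4 n349 = n504 := rfl
theorem F2670 : act 0 n504 = n504 := d3_1 D504 (iv D504) F1889
theorem F2671 : act 2 n504 = n370 := d18_1 D504 (iv D370) (iv F1890)
theorem F2672 : act 5 n504 = n504 := d30_2 D349 D504 (iv D504) (iv D349) F1341
theorem F2673 : act 6 n504 = n504 := d31_2 F1891 D504 (iv D504)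
theorem F2674 : act 8 n504 = n504 := d33_2 F1892 D504 (iv D504)
theorem F2675 : act 9 n504 = n504 := d34_2 F1893 D504 (iv D504)
def n505 : Q := act 1 n350
theorem D505 : act 1 n350 = n505 := rfl
theorem F2676 : act 3 n505 = n371 := d10_2 (iv F1895) D505 (iv D371)
theorem F2677 : act 4 n505 = n505 := d11_2 F1896 D505 (iv D505)
theorem F2678 : act 6 n505 = n505 := d13_2 F1897 D505 (iv D505)
theorem F2679 : act 7 n505 = n505 := d14_2 F1898 D505 (iv D505)
theorem F2680 : act 8 n505 = n505 := d15_2 F1899 D505 (iv D505)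
def n506 : Q := act 9 n350
theorem D506 : act 9 n350 = n506 := rfl
theorem F2681 : act 0 n506 = n506 := d8_1 D506 (iv D506) F1894
theorem F2682 : act 2 n506 = n351 := d23_1 D506 (iv D351) D350
theorem F2683 : act 3 n506 = n372 := d29_1 D506 (iv D372) (iv F1895)
theorem F2684 : act 4 n506 = n506 := d34_1 D506 (iv D506) F1896
theorem F2685 : act 6 n506 = n506 := d41_1 D506 (iv D506) F1897
theorem F2686 : act 7 n506 = n506 := d43_1 D506 (iv D506) F1898
def n507 : Q := act 8 n351
theorem D507 : act 8 n351 = n507 := rfl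
theorem F2687 : act 0 n507 = n507 := d7_1 D507 (iv D507) F1900
theorem F2688 : act 3 n507 = n352 := d28_1 D507 (iv D352) (iv F1901)
theorem F2689 : act 4 n507 = n507 := d33_1 D507 (iv D507) F1902
theorem F2690 : act 6 n507 = n507 := d40_1 D507 (iv D507) F1903
theorem F2691 : act 7 n507 = n507 := d42_1 D507 (iv D507) F1904
theorem F2692 : act 9 n507 = n507 := d44_2 D351 D507 (iv D507) (iv D351) F1348
def n508 : Q := act 5 n352
theorem D508 : act 5 n352 = n508 := rfl
theorem F2693 : act 0 n508 = n508 := d4_1 D508 (iv D508) F1905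
theorem F2694 : act 2 n508 = n374 := d19_1 D508 (iv D374) (iv F1906)
theorem F2695 : act 4 n508 = n508 := d30_1 D508 (iv D508) F1907 F1357 (iv F1907)
theorem F2696 : act 7 n508 = n508 := d36_2 F1909 D508 (iv D508)
theorem F2697 : act 9 n508 = n508 := d38_2 F1910 D508 (iv D508)
def n509 : Q := act 2 n353
theorem D509 : act 2 n353 = n509 := rfl
theorem F2698 : act 0 n509 = n509 := d1_1 D509 (iv D509) F1911
theorem F2699 : act 4 n509 = n509 := d18_2 F1913 D509 (iv D509)
theorem F2700 : act 5 n509 = n509 := d19_2 F1914 D509 (iv D509)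
theorem F2701 : act 7 n509 = n509 := d21_2 F1915 D509 (iv D509)
theorem F2702 : act 8 n509 = n359 := d22_2 (iv F1916) D509 (iv D359)
def n510 : Q := act 6 n353
theorem D510 : act 6 n353 = n510 := rfl
theorem F2703 : act 0 n510 = n510 := d5_1 D510 (iv D510) F1911
theorem F2704 : act 1 n510 = n510 := d13_1 D510 (iv D510) F1912
theorem F2705 : act 3 n510 = n354 := d26_1 D510 (iv D354) D353
theorem F2706 : act 4 n510 = n510 := d31_1 D510 (iv D510) F1913
theorem F2707 : act 8 n510 = n360 := d40_2 (iv F1916) D510 (iv D360)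
def n511 : Q := act 9 n353
theorem D511 : act 9 n353 = n511 := rfl
theorem F2708 : act 0 n511 = n511 := d8_1 D511 (iv D511) F1911
theorem F2709 : act 1 n511 = n511 := d16_1 D511 (iv D511) F1912
theorem F2710 : act 3 n511 = n355 := d29_1 D511 (iv D355) D353
theorem F2711 : act 4 n511 = n511 := d34_1 D511 (iv D511) F1913
theorem F2712 : act 5 n511 = n511 := d38_1 D511 (iv D511) F1914
theorem F2713 : act 7 n511 = n511 := d43_1 D511 (iv D511) F1915
def n512 : Q := act 5 n354
theorem D512 : act 5 n354 = n512 := rfl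
theorem F2714 : act 0 n512 = n512 := d4_1 D512 (iv D512) F1917
theorem F2715 : act 1 n512 = n512 := d12_1 D512 (iv D512) F1918
theorem F2716 : act 4 n512 = n512 := d30_1 D512 (iv D512) F1919 F1369 (iv F1919)
theorem F2717 : act 6 n512 = n512 := d35_2 D354 D512 (iv D512) (iv D354) F1363
theorem F2718 : act 8 n512 = n512 := d37_2 (iv F1920) D512 (iv D512) F1920 F1384
def n513 : Q := act 7 n354
theorem D513 : act 7 n354 = n513 := rfl
theorem F2719 : act 0 n513 = n513 := d6_1 D513 (iv D513) F1917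
theorem F2720 : act 1 n513 = n513 := d14_1 D513 (iv D513) F1918
theorem F2721 : act 4 n513 = n356 := d32_1 D513 (iv D356) (iv F1919)
theorem F2722 : act 6 n513 = n513 := d39_1 D513 (iv D513) (iv D354) F1364 D354
theorem F2723 : act 8 n513 = n362 := d42_2 (iv F1920) D513 (iv D362)
def n514 : Q := act 9 n354
theorem D514 : act 9 n354 = n514 := rfl
theorem F2724 : act 0 n514 = n514 := d8_1 D514 (iv D514) F1917
theorem F2725 : act 1 n514 = n514 := d16_1 D514 (iv D514) F1918
theorem F2726 : act 4 n514 = n357 := d34_1 D514 (iv D357) (iv F1919)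
theorem F2727 : act 6 n514 = n355 := d41_1 D514 (iv D355) D354
def n515 : Q := act 8 n355
theorem D515 : act 8 n355 = n515 := rfl
theorem F2728 : act 0 n515 = n515 := d7_1 D515 (iv D515) F1921
theorem F2729 : act 1 n515 = n515 := d15_1 D515 (iv D515) F1922
theorem F2730 : act 4 n515 = n358 := d33_1 D515 (iv D358) (iv F1923)
theorem F2731 : act 7 n515 = n515 := d42_1 D515 (iv D515) F1925
theorem F2732 : act 9 n515 = n364 := d44_2 D355 D515 (iv D364) (iv D250) (iv F1365)
def n516 : Q := act 9 n356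
theorem D516 : act 9 n356 = n516 := rfl
theorem F2733 : act 0 n516 = n516 := d8_1 D516 (iv D516) F1926
theorem F2734 : act 1 n516 = n516 := d16_1 D516 (iv D516) F1927
theorem F2735 : act 3 n516 = n516 := d29_1 D516 (iv D516) F1928
theorem F2736 : act 5 n516 = n516 := d38_1 D516 (iv D516) F1929
theorem F2737 : act 6 n516 = n516 := d41_1 D516 (iv D516) F1930
theorem F2738 : act 7 n516 = n357 := d43_1 D516 (iv D357) D356
def n517 : Q := act 8 n357
theorem D517 : act 8 n357 = n517 := rfl
theorem F2739 : act 0 n517 = n517 := d7_1 D517 (iv D517) F1932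
theorem F2740 : act 1 n517 = n517 := d15_1 D517 (iv D517) F1933
theorem F2741 : act 3 n517 = n517 := d28_1 D517 (iv D517) F1934
theorem F2742 : act 6 n517 = n358 := d40_1 D517 (iv D358) (iv F1936)
theorem F2743 : act 9 n517 = n366 := d44_2 D357 D517 (iv D366) (iv D252) (iv F1370)
def n518 : Q := act 1 n359
theorem D518 : act 1 n359 = n518 := rfl
theorem F2744 : act 2 n518 = n518 := d9_2 D359 D518 (iv D518) (iv D359) F1377
theorem F2745 : act 4 n518 = n518 := d11_2 F1944 D518 (iv D518)
theorem F2746 : act 5 n518 = n371 := d12_2 (iv F1945) D518 (iv D371)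
theorem F2747 : act 7 n518 = n518 := d14_2 F1946 D518 (iv D518)
def n519 : Q := act 6 n359
theorem D519 : act 6 n359 = n519 := rfl
theorem F2748 : act 0 n519 = n519 := d5_1 D519 (iv D519) F1943
theorem F2749 : act 2 n519 = n360 := d20_1 D519 (iv D360) D359
theorem F2750 : act 4 n519 = n519 := d31_1 D519 (iv D519) F1944
theorem F2751 : act 5 n519 = n519 := d35_1 D519 (iv D519) F1945 F1431 (iv F1945)
def n520 : Q := act 9 n359
theorem D520 : act 9 n359 = n520 := rfl
theorem F2752 : act 0 n520 = n520 := d8_1 D520 (iv D520) F1943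
theorem F2753 : act 2 n520 = n361 := d23_1 D520 (iv D361) D359
theorem F2754 : act 4 n520 = n520 := d34_1 D520 (iv D520) F1944
theorem F2755 : act 5 n520 = n372 := d38_1 D520 (iv D372) (iv F1945)
theorem F2756 : act 7 n520 = n520 := d43_1 D520 (iv D520) F1946
def n521 : Q := act 7 n360
theorem D521 : act 7 n360 = n521 := rfl
theorem F2757 : act 0 n521 = n521 := d6_1 D521 (iv D521) F1947
theorem F2758 : act 1 n521 = n521 := d14_1 D521 (iv D521) F1948
theorem F2759 : act 3 n521 = n362 := d27_1 D521 (iv D362) (iv F1949)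
theorem F2760 : act 4 n521 = n521 := d32_1 D521 (iv D521) F1950
theorem F2761 : act 5 n521 = n521 := d36_1 D521 (iv D521) F1951
theorem F2762 : act 6 n521 = n521 := d39_1 D521 (iv D521) (iv D360) F1380 D360
def n522 : Q := act 9 n360
theorem D522 : act 9 n360 = n522 := rfl
theorem F2763 : act 0 n522 = n522 := d8_1 D522 (iv D522) F1947
theorem F2764 : act 1 n522 = n522 := d16_1 D522 (iv D522) F1948
theorem F2765 : act 3 n522 = n363 := d29_1 D522 (iv D363) (iv F1949)
theorem F2766 : act 4 n522 = n522 := d34_1 D522 (iv D522) F1950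
theorem F2767 : act 5 n522 = n522 := d38_1 D522 (iv D522) F1951
theorem F2768 : act 6 n522 = n361 := d41_1 D522 (iv D361) D360
def n523 : Q := act 8 n361
theorem D523 : act 8 n361 = n523 := rfl
theorem F2769 : act 0 n523 = n523 := d7_1 D523 (iv D523) F1952
theorem F2770 : act 1 n523 = n523 := d15_1 D523 (iv D523) F1953
theorem F2771 : act 3 n523 = n364 := d28_1 D523 (iv D364) (iv F1954)
theorem F2772 : act 4 n523 = n523 := d33_1 D523 (iv D523) F1955
theorem F2773 : act 7 n523 = n523 := d42_1 D523 (iv D523) F1957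
def n524 : Q := act 9 n362
theorem D524 : act 9 n362 = n524 := rfl
theorem F2774 : act 0 n524 = n524 := d8_1 D524 (iv D524) F1958
theorem F2775 : act 1 n524 = n524 := d16_1 D524 (iv D524) F1959
theorem F2776 : act 4 n524 = n365 := d34_1 D524 (iv D365) (iv F1960)
theorem F2777 : act 5 n524 = n524 := d38_1 D524 (iv D524) F1961
theorem F2778 : act 6 n524 = n524 := d41_1 D524 (iv D524) F1962
theorem F2779 : act 7 n524 = n363 := d43_1 D524 (iv D363) D362
def n525 : Q := act 8 n363
theorem D525 : act 8 n363 = n525 := rfl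
theorem F2780 : act 0 n525 = n525 := d7_1 D525 (iv D525) F1963
theorem F2781 : act 1 n525 = n525 := d15_1 D525 (iv D525) F1964
theorem F2782 : act 4 n525 = n366 := d33_1 D525 (iv D366) (iv F1965)
theorem F2783 : act 6 n525 = n364 := d40_1 D525 (iv D364) (iv F1967)
def n526 : Q := act 5 n364
theorem D526 : act 5 n364 = n526 := rfl
theorem F2784 : act 0 n526 = n526 := d4_1 D526 (iv D526) F1968
theorem F2785 : act 1 n526 = n526 := d12_1 D526 (iv D526) F1969
theorem F2786 : act 4 n526 = n526 := d30_1 D526 (iv D526) F1970 F1403 (iv F1970)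
theorem F2787 : act 7 n526 = n526 := d36_2 F1971 D526 (iv D526)
theorem F2788 : act 8 n526 = n374 := d37_2 D364 D526 (iv D374) (iv D260) (iv F1388)
def n527 : Q := act 8 n365
theorem D527 : act 8 n365 = n527 := rfl
theorem F2789 : act 0 n527 = n527 := d7_1 D527 (iv D527) F1972
theorem F2790 : act 1 n527 = n527 := d15_1 D527 (iv D527) F1973
theorem F2791 : act 3 n527 = n527 := d28_1 D527 (iv D527) F1974
theorem F2792 : act 6 n527 = n527 := d40_1 D527 (iv D527) F1976
theorem F2793 : act 7 n527 = n366 := d42_1 D527 (iv D366) (iv F1977)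
def n528 : Q := act 5 n366
theorem D528 : act 5 n366 = n528 := rfl
theorem F2794 : act 0 n528 = n528 := d4_1 D528 (iv D528) F1978
theorem F2795 : act 1 n528 = n528 := d12_1 D528 (iv D528) F1979
theorem F2796 : act 3 n528 = n528 := d25_1 D528 (iv D528) F1980
theorem F2797 : act 6 n528 = n528 := d35_2 (iv F1981) D528 (iv D528) F1981 F1403
theorem F2798 : act 8 n528 = n368 := d37_2 D366 D528 (iv D368) (iv D255) (iv F1398)
def n529 : Q := act 5 n367
theorem D529 : act 5 n367 = n529 := rfl
theorem F2799 : act 0 n529 = n529 := d4_1 D529 (iv D529) F1982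
theorem F2800 : act 1 n529 = n529 := d12_1 D529 (iv D529) F1983
theorem F2801 : act 3 n529 = n529 := d25_1 D529 (iv D529) F1984
theorem F2802 : act 7 n529 = n368 := d36_2 (iv F1987) D529 (iv D368)
theorem F2803 : act 9 n529 = n529 := d38_2 F1988 D529 (iv D529)
def n530 : Q := act 4 n368
theorem D530 : act 4 n368 = n530 := rfl
theorem F2804 : act 0 n530 = n530 := d3_1 D530 (iv D530) F1989
theorem F2805 : act 1 n530 = n530 := d11_1 D530 (iv D530) F1990
theorem F2806 : act 5 n530 = n530 := d30_2 D368 D530 (iv D530) (iv D368) F1414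
theorem F2807 : act 6 n530 = n530 := d31_2 F1992 D530 (iv D530)
theorem F2808 : act 9 n530 = n530 := d34_2 F1993 D530 (iv D530)
def n531 : Q := act 4 n369
theorem D531 : act 4 n369 = n531 := rfl
theorem F2809 : act 0 n531 = n531 := d3_1 D531 (iv D531) F1994
theorem F2810 : act 1 n531 = n531 := d11_1 D531 (iv D531) F1995
theorem F2811 : act 5 n531 = n531 := d30_2 D369 D531 (iv D531) (iv D369) F1420
theorem F2812 : act 7 n531 = n370 := d32_2 (iv F1997) D531 (iv D370)
theorem F2813 : act 8 n531 = n531 := d33_2 F1998 D531 (iv D531)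
theorem F2814 : act 9 n531 = n531 := d34_2 F1999 D531 (iv D531)
def n532 : Q := act 6 n369
theorem D532 : act 6 n369 = n532 := rfl
theorem F2815 : act 0 n532 = n532 := d5_1 D532 (iv D532) F1994
theorem F2816 : act 1 n532 = n532 := d13_1 D532 (iv D532) F1995
theorem F2817 : act 3 n532 = n532 := d26_1 D532 (iv D532) F1996
theorem F2818 : act 7 n532 = n532 := d39_2 (iv F1997) D532 (iv D532) F1997 F1426
theorem F2819 : act 8 n532 = n532 := d40_2 F1998 D532 (iv D532)
theorem F2820 : act 9 n532 = n532 := d41_2 F1999 D532 (iv D532)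
def n533 : Q := act 3 n370
theorem D533 : act 3 n370 = n533 := rfl
theorem F2821 : act 0 n533 = n533 := d2_1 D533 (iv D533) F2000
theorem F2822 : act 1 n533 = n533 := d10_1 D533 (iv D533) F2001
theorem F2823 : act 4 n533 = n533 := d24_2 D370 D533 (iv D533) (iv D370) F1425
theorem F2824 : act 5 n533 = n533 := d25_2 F2002 D533 (iv D533)
theorem F2825 : act 6 n533 = n533 := d26_2 F2003 D533 (iv D533)
theorem F2826 : act 8 n533 = n533 := d28_2 F2004 D533 (iv D533)
theorem F2827 : act 9 n533 = n533 := d29_2 F2005 D533 (iv D533)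
def n534 : Q := act 0 n371
theorem D534 : act 0 n371 = n534 := rfl
theorem F2828 : act 1 n534 = n534 := d0_2 D371 D534 (iv D534) (iv D371) F1429
theorem F2829 : act 2 n534 = n534 := d1_2 F2006 D534 (iv D534)
theorem F2830 : act 4 n534 = n375 := d3_2 (iv F2007) D534 (iv D375)
theorem F2831 : act 6 n534 = n534 := d5_2 F2008 D534 (iv D534)
theorem F2832 : act 7 n534 = n534 := d6_2 F2009 D534 (iv D534)
theorem F2833 : act 8 n534 = n534 := d7_2 F2010 D534 (iv D534)
def n535 : Q := act 9 n371
theorem D535 : act 9 n371 = n535 := rfl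
theorem F2834 : act 1 n535 = n372 := d16_1 D535 (iv D372) D371
theorem F2835 : act 2 n535 = n535 := d23_1 D535 (iv D535) F2006
theorem F2836 : act 4 n535 = n376 := d34_1 D535 (iv D376) (iv F2007)
theorem F2837 : act 6 n535 = n535 := d41_1 D535 (iv D535) F2008
theorem F2838 : act 7 n535 = n535 := d43_1 D535 (iv D535) F2009
def n536 : Q := act 8 n372
theorem D536 : act 8 n372 = n536 := rfl
theorem F2839 : act 0 n536 = n536 := d7_1 D536 (iv D536) F2011
theorem F2840 : act 2 n536 = n373 := d22_1 D536 (iv D373) (iv F2012)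
theorem F2841 : act 4 n536 = n377 := d33_1 D536 (iv D377) (iv F2013)
theorem F2842 : act 6 n536 = n536 := d40_1 D536 (iv D536) F2014
theorem F2843 : act 7 n536 = n536 := d42_1 D536 (iv D536) F2015
theorem F2844 : act 9 n536 = n536 := d44_2 D372 D536 (iv D536) (iv D372) F1433
def n537 : Q := act 5 n373
theorem D537 : act 5 n373 = n537 := rfl
theorem F2845 : act 0 n537 = n537 := d4_1 D537 (iv D537) F2016
theorem F2846 : act 1 n537 = n537 := d12_1 D537 (iv D537) F2017
theorem F2847 : act 3 n537 = n374 := d25_1 D537 (iv D374) (iv F2018)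
theorem F2848 : act 7 n537 = n537 := d36_2 F2021 D537 (iv D537)
theorem F2849 : act 9 n537 = n537 := d38_2 F2022 D537 (iv D537)
def n538 : Q := act 6 n374
theorem D538 : act 6 n374 = n538 := rfl
theorem F2850 : act 0 n538 = n538 := d5_1 D538 (iv D538) F2023
theorem F2851 : act 1 n538 = n538 := d13_1 D538 (iv D538) F2024
theorem F2852 : act 4 n538 = n538 := d31_1 D538 (iv D538) F2025
theorem F2853 : act 5 n538 = n538 := d35_1 D538 (iv D538) (iv D374) F1443 D374
theorem F2854 : act 9 n538 = n538 := d41_2 F2027 D538 (iv D538)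
def n539 : Q := act 9 n375
theorem D539 : act 9 n375 = n539 := rfl
theorem F2855 : act 0 n539 = n376 := d8_1 D539 (iv D376) D375
theorem F2856 : act 1 n539 = n539 := d16_1 D539 (iv D539) F2028
theorem F2857 : act 2 n539 = n539 := d23_1 D539 (iv D539) F2029
theorem F2858 : act 3 n539 = n539 := d29_1 D539 (iv D539) F2030
theorem F2859 : act 5 n539 = n539 := d38_1 D539 (iv D539) F2031
theorem F2860 : act 6 n539 = n539 := d41_1 D539 (iv D539) F2032
theorem F2861 : act 7 n539 = n539 := d43_1 D539 (iv D539) F2033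
def n540 : Q := act 8 n376
theorem D540 : act 8 n376 = n540 := rfl
theorem F2862 : act 1 n540 = n377 := d15_1 D540 (iv D377) (iv F2035)
theorem F2863 : act 2 n540 = n540 := d22_1 D540 (iv D540) F2036
theorem F2864 : act 3 n540 = n540 := d28_1 D540 (iv D540) F2037
theorem F2865 : act 6 n540 = n540 := d40_1 D540 (iv D540) F2039
theorem F2866 : act 7 n540 = n540 := d42_1 D540 (iv D540) F2040
theorem F2867 : act 9 n540 = n540 := d44_2 D376 D540 (iv D540) (iv D376) F1451
def n541 : Q := act 5 n377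
theorem D541 : act 5 n377 = n541 := rfl
theorem F2868 : act 0 n541 = n541 := d4_1 D541 (iv D541) F2041
theorem F2869 : act 2 n541 = n378 := d19_1 D541 (iv D378) (iv F2042)
theorem F2870 : act 3 n541 = n541 := d25_1 D541 (iv D541) F2043
theorem F2871 : act 7 n541 = n541 := d36_2 F2045 D541 (iv D541)
theorem F2872 : act 8 n541 = n541 := d37_2 D377 D541 (iv D541) (iv D377) F1455
theorem F2873 : act 9 n541 = n541 := d38_2 F2046 D541 (iv D541)
def n542 : Q := act 4 n378
theorem D542 : act 4 n378 = n542 := rfl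
theorem F2874 : act 0 n542 = n542 := d3_1 D542 (iv D542) F2047
theorem F2876 : act 3 n542 = n542 := d24_1 D542 (iv D542) F2049 F1467 (iv F2049)
def n543 : Q := act 6 n378
theorem D543 : act 6 n378 = n543 := rfl
def n544 : Q := act 7 n379
theorem D544 : act 7 n379 = n544 := rfl
def n545 : Q := act 5 n380
theorem D545 : act 5 n380 = n545 := rfl
theorem F2894 : act 0 n545 = n545 := d4_1 D545 (iv D545) F2060
theorem F2895 : act 1 n545 = n384 := d12_1 D545 (iv D384) (iv F2061)
theorem F2896 : act 2 n545 = n545 := d19_1 D545 (iv D545) F2062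
theorem F2897 : act 3 n545 = n545 := d25_1 D545 (iv D545) F2063
theorem F2898 : act 6 n545 = n545 := d35_2 D380 D545 (iv D545) (iv D380) F1476
theorem F2899 : act 7 n545 = n545 := d36_2 F2065 D545 (iv D545)
theorem F2900 : act 9 n545 = n545 := d38_2 F2066 D545 (iv D545)
def n546 : Q := act 8 n380
theorem D546 : act 8 n380 = n546 := rfl
theorem F2901 : act 0 n546 = n546 := d7_1 D546 (iv D546) F2060
theorem F2902 : act 1 n546 = n385 := d15_1 D546 (iv D385) (iv F2061)
theorem F2903 : act 2 n546 = n546 := d22_1 D546 (iv D546) F2062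
theorem F2904 : act 3 n546 = n546 := d28_1 D546 (iv D546) F2063
theorem F2905 : act 4 n546 = n546 := d33_1 D546 (iv D546) F2064
theorem F2906 : act 6 n546 = n381 := d40_1 D546 (iv D381) D380
theorem F2907 : act 7 n546 = n546 := d42_1 D546 (iv D546) F2065
def n547 : Q := act 5 n381
theorem D547 : act 5 n381 = n547 := rfl
theorem F2909 : act 1 n547 = n386 := d12_1 D547 (iv D386) (iv F2068)
def n548 : Q := act 9 n381
theorem D548 : act 9 n381 = n548 := rfl
theorem F2914 : act 0 n548 = n548 := d8_1 D548 (iv D548) F2067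
theorem F2915 : act 1 n548 = n387 := d16_1 D548 (iv D387) (iv F2068)
theorem F2916 : act 2 n548 = n548 := d23_1 D548 (iv D548) F2069
theorem F2917 : act 3 n548 = n548 := d29_1 D548 (iv D548) F2070
theorem F2918 : act 4 n548 = n548 := d34_1 D548 (iv D548) F2071
theorem F2919 : act 7 n548 = n383 := d43_1 D548 (iv D383) (iv F2072)
theorem F2920 : act 8 n548 = n548 := d44_1 D548 (iv D548) (iv D381) F1477 D381
def n549 : Q := act 4 n382
theorem D549 : act 4 n382 = n549 := rfl
theorem F2922 : act 1 n549 = n388 := d11_1 D549 (iv D388) (iv F2074)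
def n550 : Q := act 6 n382
theorem D550 : act 6 n382 = n550 := rfl
def n551 : Q := act 9 n382
theorem D551 : act 9 n382 = n551 := rfl
theorem F2933 : act 1 n551 = n390 := d16_1 D551 (iv D390) (iv F2074)
theorem F2936 : act 5 n551 = n383 := d38_1 D551 (iv D383) D382
def n552 : Q := act 4 n384
theorem D552 : act 4 n384 = n552 := rfl
theorem F2937 : act 0 n552 = n416 := d3_1 D552 (iv D416) (iv F2085)
theorem F2938 : act 2 n552 = n391 := d18_1 D552 (iv D391) (iv F2086)
theorem F2939 : act 5 n552 = n552 := d30_2 D384 D552 (iv D552) (iv D384) F1487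
theorem F2940 : act 6 n552 = n552 := d31_2 F2088 D552 (iv D552)
theorem F2941 : act 7 n552 = n552 := d32_2 F2089 D552 (iv D552)
theorem F2942 : act 9 n552 = n552 := d34_2 F2090 D552 (iv D552)
def n553 : Q := act 8 n384
theorem D553 : act 8 n384 = n553 := rfl
theorem F2943 : act 0 n553 = n417 := d7_1 D553 (iv D417) (iv F2085)
theorem F2944 : act 2 n553 = n392 := d22_1 D553 (iv D392) (iv F2086)
theorem F2945 : act 3 n553 = n553 := d28_1 D553 (iv D553) F2087
theorem F2946 : act 6 n553 = n553 := d40_1 D553 (iv D553) F2088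
theorem F2947 : act 7 n553 = n553 := d42_1 D553 (iv D553) F2089
def n554 : Q := act 5 n385
theorem D554 : act 5 n385 = n554 := rfl
theorem F2948 : act 0 n554 = n418 := d4_1 D554 (iv D418) (iv F2091)
theorem F2949 : act 2 n554 = n393 := d19_1 D554 (iv D393) (iv F2092)
theorem F2950 : act 3 n554 = n554 := d25_1 D554 (iv D554) F2093
theorem F2951 : act 7 n554 = n554 := d36_2 F2096 D554 (iv D554)
def n555 : Q := act 9 n385
theorem D555 : act 9 n385 = n555 := rfl
theorem F2952 : act 0 n555 = n419 := d8_1 D555 (iv D419) (iv F2091)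
theorem F2953 : act 2 n555 = n394 := d23_1 D555 (iv D394) (iv F2092)
theorem F2954 : act 3 n555 = n555 := d29_1 D555 (iv D555) F2093
theorem F2955 : act 4 n555 = n555 := d34_1 D555 (iv D555) F2094
theorem F2956 : act 6 n555 = n387 := d41_1 D555 (iv D387) (iv F2095)
theorem F2957 : act 7 n555 = n555 := d43_1 D555 (iv D555) F2096
theorem F2958 : act 8 n555 = n555 := d44_1 D555 (iv D555) (iv D385) F1489 D385
def n556 : Q := act 4 n386
theorem D556 : act 4 n386 = n556 := rfl
theorem F2960 : act 2 n556 = n395 := d18_1 D556 (iv D395) (iv F2098)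
theorem F2962 : act 7 n556 = n388 := d32_2 (iv F2100) D556 (iv D388)
def n557 : Q := act 6 n386
theorem D557 : act 6 n386 = n557 := rfl
theorem F2964 : act 0 n557 = n421 := d5_1 D557 (iv D421) (iv F2097)
theorem F2965 : act 2 n557 = n396 := d20_1 D557 (iv D396) (iv F2098)
theorem F2966 : act 3 n557 = n557 := d26_1 D557 (iv D557) F2099
theorem F2967 : act 8 n557 = n557 := d40_2 F2101 D557 (iv D557)
def n558 : Q := act 9 n386
theorem D558 : act 9 n386 = n558 := rfl
theorem F2968 : act 0 n558 = n422 := d8_1 D558 (iv D422) (iv F2097)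
theorem F2969 : act 2 n558 = n397 := d23_1 D558 (iv D397) (iv F2098)
theorem F2970 : act 3 n558 = n558 := d29_1 D558 (iv D558) F2099
theorem F2971 : act 5 n558 = n387 := d38_1 D558 (iv D387) D386
theorem F2972 : act 7 n558 = n390 := d43_1 D558 (iv D390) (iv F2100)
def n559 : Q := act 3 n388
theorem D559 : act 3 n388 = n559 := rfl
theorem F2973 : act 0 n559 = n423 := d2_1 D559 (iv D423) (iv F2108)
def n560 : Q := act 6 n388
theorem D560 : act 6 n388 = n560 := rfl
theorem F2979 : act 2 n560 = n398 := d20_1 D560 (iv D398) (iv F2109)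
theorem F2980 : act 4 n560 = n389 := d31_1 D560 (iv D389) D388
def n561 : Q := act 9 n388
theorem D561 : act 9 n388 = n561 := rfl
theorem F2983 : act 2 n561 = n399 := d23_1 D561 (iv D399) (iv F2109)
theorem F2984 : act 4 n561 = n390 := d34_1 D561 (iv D390) D388
def n562 : Q := act 7 n389
theorem D562 : act 7 n389 = n562 := rfl
def n563 : Q := act 9 n389
theorem D563 : act 9 n389 = n563 := rfl
theorem F2992 : act 2 n563 = n401 := d23_1 D563 (iv D401) (iv F2113)
theorem F2995 : act 6 n563 = n390 := d41_1 D563 (iv D390) D389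
def n564 : Q := act 8 n390
theorem D564 : act 8 n390 = n564 := rfl
theorem F2996 : act 0 n564 = n428 := d7_1 D564 (iv D428) (iv F2117)
theorem F2997 : act 2 n564 = n402 := d22_1 D564 (iv D402) (iv F2118)
theorem F2998 : act 3 n564 = n564 := d28_1 D564 (iv D564) F2119
theorem F2999 : act 5 n564 = n564 := d37_1 D564 (iv D564) F2120 F1504 (iv F2120)
theorem F3000 : act 9 n564 = n564 := d44_2 D390 D564 (iv D564) (iv D390) F1498
def n565 : Q := act 8 n391
theorem D565 : act 8 n391 = n565 := rfl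
theorem F3001 : act 0 n565 = n429 := d7_1 D565 (iv D429) (iv F2121)
theorem F3002 : act 1 n565 = n565 := d15_1 D565 (iv D565) F2122
theorem F3003 : act 3 n565 = n565 := d28_1 D565 (iv D565) F2123
theorem F3004 : act 4 n565 = n392 := d33_1 D565 (iv D392) D391
theorem F3005 : act 6 n565 = n565 := d40_1 D565 (iv D565) F2125
theorem F3006 : act 7 n565 = n565 := d42_1 D565 (iv D565) F2126
def n566 : Q := act 5 n392
theorem D566 : act 5 n392 = n566 := rfl
theorem F3007 : act 0 n566 = n430 := d4_1 D566 (iv D430) (iv F2128)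
theorem F3008 : act 1 n566 = n566 := d12_1 D566 (iv D566) F2129
theorem F3009 : act 3 n566 = n403 := d25_1 D566 (iv D403) (iv F2130)
theorem F3010 : act 7 n566 = n566 := d36_2 F2132 D566 (iv D566)
theorem F3011 : act 8 n566 = n393 := d37_2 D392 D566 (iv D393) (iv D272) D271
def n567 : Q := act 9 n392
theorem D567 : act 9 n392 = n567 := rfl
theorem F3012 : act 0 n567 = n431 := d8_1 D567 (iv D431) (iv F2128)
theorem F3013 : act 1 n567 = n567 := d16_1 D567 (iv D567) F2129
theorem F3014 : act 3 n567 = n404 := d29_1 D567 (iv D404) (iv F2130)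
theorem F3015 : act 6 n567 = n567 := d41_1 D567 (iv D567) F2131
theorem F3016 : act 7 n567 = n567 := d43_1 D567 (iv D567) F2132
theorem F3017 : act 8 n567 = n567 := d44_1 D567 (iv D567) (iv D392) F1510 D392
def n568 : Q := act 4 n393
theorem D568 : act 4 n393 = n568 := rfl
theorem F3018 : act 0 n568 = n432 := d3_1 D568 (iv D432) (iv F2133)
theorem F3019 : act 1 n568 = n568 := d11_1 D568 (iv D568) F2134
theorem F3020 : act 5 n568 = n568 := d30_2 D393 D568 (iv D568) (iv D393) F1514
theorem F3021 : act 7 n568 = n568 := d32_2 F2136 D568 (iv D568)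
def n569 : Q := act 6 n393
theorem D569 : act 6 n393 = n569 := rfl
theorem F3022 : act 0 n569 = n433 := d5_1 D569 (iv D433) (iv F2133)
theorem F3023 : act 1 n569 = n569 := d13_1 D569 (iv D569) F2134
theorem F3024 : act 3 n569 = n406 := d26_1 D569 (iv D406) (iv F2135)
theorem F3025 : act 5 n569 = n396 := d35_1 D569 (iv D396) (iv D273) (iv F1515) D393
def n570 : Q := act 9 n393
theorem D570 : act 9 n393 = n570 := rfl
theorem F3026 : act 0 n570 = n434 := d8_1 D570 (iv D434) (iv F2133)
theorem F3027 : act 1 n570 = n570 := d16_1 D570 (iv D570) F2134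
theorem F3028 : act 3 n570 = n407 := d29_1 D570 (iv D407) (iv F2135)
theorem F3029 : act 5 n570 = n394 := d38_1 D570 (iv D394) D393
theorem F3030 : act 7 n570 = n570 := d43_1 D570 (iv D570) F2136
def n571 : Q := act 6 n395
theorem D571 : act 6 n395 = n571 := rfl
theorem F3031 : act 0 n571 = n435 := d5_1 D571 (iv D435) (iv F2144)
theorem F3032 : act 1 n571 = n571 := d13_1 D571 (iv D571) F2145
theorem F3033 : act 3 n571 = n571 := d26_1 D571 (iv D571) F2146
theorem F3034 : act 4 n571 = n396 := d31_1 D571 (iv D396) D395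
theorem F3035 : act 8 n571 = n571 := d40_2 F2149 D571 (iv D571)
def n572 : Q := act 9 n395
theorem D572 : act 9 n395 = n572 := rfl
theorem F3036 : act 0 n572 = n436 := d8_1 D572 (iv D436) (iv F2144)
theorem F3037 : act 1 n572 = n572 := d16_1 D572 (iv D572) F2145
theorem F3038 : act 3 n572 = n572 := d29_1 D572 (iv D572) F2146
theorem F3039 : act 4 n572 = n397 := d34_1 D572 (iv D397) D395
theorem F3040 : act 5 n572 = n572 := d38_1 D572 (iv D572) F2147
theorem F3041 : act 7 n572 = n399 := d43_1 D572 (iv D399) (iv F2148)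
def n573 : Q := act 7 n396
theorem D573 : act 7 n396 = n573 := rfl
theorem F3042 : act 0 n573 = n437 := d6_1 D573 (iv D437) (iv F2150)
theorem F3043 : act 1 n573 = n573 := d14_1 D573 (iv D573) F2151
theorem F3044 : act 3 n573 = n408 := d27_1 D573 (iv D408) (iv F2152)
theorem F3045 : act 6 n573 = n400 := d39_1 D573 (iv D400) (iv D276) (iv F1520) D396
theorem F3046 : act 8 n573 = n573 := d42_2 F2153 D573 (iv D573)
def n574 : Q := act 9 n396
theorem D574 : act 9 n396 = n574 := rfl
theorem F3047 : act 0 n574 = n438 := d8_1 D574 (iv D438) (iv F2150)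
theorem F3048 : act 1 n574 = n574 := d16_1 D574 (iv D574) F2151
theorem F3049 : act 3 n574 = n409 := d29_1 D574 (iv D409) (iv F2152)
theorem F3050 : act 6 n574 = n397 := d41_1 D574 (iv D397) D396
def n575 : Q := act 8 n397
theorem D575 : act 8 n397 = n575 := rfl
theorem F3051 : act 0 n575 = n439 := d7_1 D575 (iv D439) (iv F2154)
theorem F3052 : act 1 n575 = n575 := d15_1 D575 (iv D575) F2155
theorem F3053 : act 3 n575 = n410 := d28_1 D575 (iv D410) (iv F2156)
theorem F3054 : act 5 n575 = n575 := d37_1 D575 (iv D575) F2157 F1527 (iv F2157)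
theorem F3055 : act 7 n575 = n402 := d42_1 D575 (iv D402) (iv F2158)
theorem F3056 : act 9 n575 = n575 := d44_2 D397 D575 (iv D575) (iv D397) F1521
def n576 : Q := act 5 n398
theorem D576 : act 5 n398 = n576 := rfl
def n577 : Q := act 7 n398
theorem D577 : act 7 n398 = n577 := rfl
theorem F3065 : act 4 n577 = n400 := d32_1 D577 (iv D400) (iv F2162)
def n578 : Q := act 9 n398
theorem D578 : act 9 n398 = n578 := rfl
theorem F3070 : act 4 n578 = n401 := d34_1 D578 (iv D401) (iv F2162)
theorem F3071 : act 6 n578 = n399 := d41_1 D578 (iv D399) D398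
def n579 : Q := act 8 n399
theorem D579 : act 8 n399 = n579 := rfl
theorem F3072 : act 0 n579 = n443 := d7_1 D579 (iv D443) (iv F2164)
theorem F3073 : act 1 n579 = n579 := d15_1 D579 (iv D579) F2165
theorem F3074 : act 3 n579 = n579 := d28_1 D579 (iv D579) F2166
theorem F3075 : act 4 n579 = n402 := d33_1 D579 (iv D402) (iv F2167)
theorem F3076 : act 9 n579 = n579 := d44_2 D399 D579 (iv D579) (iv D399) F1532
def n580 : Q := act 9 n400
theorem D580 : act 9 n400 = n580 := rfl
theorem F3077 : act 0 n580 = n444 := d8_1 D580 (iv D444) (iv F2169)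
theorem F3078 : act 1 n580 = n580 := d16_1 D580 (iv D580) F2170
theorem F3079 : act 3 n580 = n411 := d29_1 D580 (iv D411) (iv F2171)
theorem F3080 : act 5 n580 = n580 := d38_1 D580 (iv D580) F2172
theorem F3081 : act 7 n580 = n401 := d43_1 D580 (iv D401) D400
def n581 : Q := act 8 n401
theorem D581 : act 8 n401 = n581 := rfl
theorem F3082 : act 0 n581 = n445 := d7_1 D581 (iv D445) (iv F2174)
theorem F3083 : act 1 n581 = n581 := d15_1 D581 (iv D581) F2175
theorem F3084 : act 3 n581 = n412 := d28_1 D581 (iv D412) (iv F2176)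
theorem F3085 : act 6 n581 = n402 := d40_1 D581 (iv D402) (iv F2178)
theorem F3086 : act 9 n581 = n581 := d44_2 D401 D581 (iv D581) (iv D401) F1537
def n582 : Q := act 4 n403
theorem D582 : act 4 n403 = n582 := rfl
theorem F3087 : act 0 n582 = n446 := d3_1 D582 (iv D446) (iv F2184)
theorem F3088 : act 1 n582 = n582 := d11_1 D582 (iv D582) F2185
theorem F3089 : act 2 n582 = n582 := d18_1 D582 (iv D582) F2186
theorem F3090 : act 5 n582 = n582 := d30_2 D403 D582 (iv D582) (iv D403) F1545
theorem F3091 : act 7 n582 = n582 := d32_2 F2187 D582 (iv D582)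
theorem F3092 : act 8 n582 = n405 := d33_2 (iv F2188) D582 (iv D405)
def n583 : Q := act 6 n403
theorem D583 : act 6 n403 = n583 := rfl
theorem F3093 : act 0 n583 = n447 := d5_1 D583 (iv D447) (iv F2184)
theorem F3094 : act 1 n583 = n583 := d13_1 D583 (iv D583) F2185
theorem F3095 : act 2 n583 = n583 := d20_1 D583 (iv D583) F2186
theorem F3096 : act 5 n583 = n583 := d35_1 D583 (iv D583) (iv D403) F1546 D403
theorem F3097 : act 8 n583 = n406 := d40_2 (iv F2188) D583 (iv D406)
def n584 : Q := act 9 n403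
theorem D584 : act 9 n403 = n584 := rfl
theorem F3098 : act 0 n584 = n448 := d8_1 D584 (iv D448) (iv F2184)
theorem F3099 : act 1 n584 = n584 := d16_1 D584 (iv D584) F2185
theorem F3100 : act 2 n584 = n584 := d23_1 D584 (iv D584) F2186
theorem F3101 : act 5 n584 = n404 := d38_1 D584 (iv D404) D403
theorem F3102 : act 7 n584 = n584 := d43_1 D584 (iv D584) F2187
def n585 : Q := act 3 n405
theorem D585 : act 3 n405 = n585 := rfl
theorem F3103 : act 0 n585 = n449 := d2_1 D585 (iv D449) (iv F2196)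
theorem F3104 : act 1 n585 = n585 := d10_1 D585 (iv D585) F2197
theorem F3105 : act 5 n585 = n413 := d25_2 (iv F2199) D585 (iv D413)
theorem F3106 : act 7 n585 = n585 := d27_2 F2200 D585 (iv D585)
def n586 : Q := act 6 n405
theorem D586 : act 6 n405 = n586 := rfl
theorem F3107 : act 0 n586 = n450 := d5_1 D586 (iv D450) (iv F2196)
theorem F3108 : act 1 n586 = n586 := d13_1 D586 (iv D586) F2197
theorem F3109 : act 2 n586 = n586 := d20_1 D586 (iv D586) F2198
theorem F3110 : act 4 n586 = n406 := d31_1 D586 (iv D406) D405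
theorem F3111 : act 5 n586 = n586 := d35_1 D586 (iv D586) F2199 F1591 (iv F2199)
def n587 : Q := act 9 n405
theorem D587 : act 9 n405 = n587 := rfl
theorem F3112 : act 0 n587 = n451 := d8_1 D587 (iv D451) (iv F2196)
theorem F3113 : act 1 n587 = n587 := d16_1 D587 (iv D587) F2197
theorem F3114 : act 2 n587 = n587 := d23_1 D587 (iv D587) F2198
theorem F3115 : act 4 n587 = n407 := d34_1 D587 (iv D407) D405
theorem F3116 : act 5 n587 = n414 := d38_1 D587 (iv D414) (iv F2199)
theorem F3117 : act 7 n587 = n587 := d43_1 D587 (iv D587) F2200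
def n588 : Q := act 7 n406
theorem D588 : act 7 n406 = n588 := rfl
theorem F3118 : act 0 n588 = n452 := d6_1 D588 (iv D452) (iv F2201)
theorem F3119 : act 1 n588 = n588 := d14_1 D588 (iv D588) F2202
theorem F3120 : act 2 n588 = n588 := d21_1 D588 (iv D588) F2203
theorem F3121 : act 5 n588 = n408 := d36_1 D588 (iv D408) (iv F2204)
theorem F3122 : act 6 n588 = n588 := d39_1 D588 (iv D588) (iv D406) F1551 D406
def n589 : Q := act 9 n406
theorem D589 : act 9 n406 = n589 := rfl
theorem F3123 : act 0 n589 = n453 := d8_1 D589 (iv D453) (iv F2201)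
theorem F3124 : act 1 n589 = n589 := d16_1 D589 (iv D589) F2202
theorem F3125 : act 2 n589 = n589 := d23_1 D589 (iv D589) F2203
theorem F3126 : act 5 n589 = n409 := d38_1 D589 (iv D409) (iv F2204)
theorem F3127 : act 6 n589 = n407 := d41_1 D589 (iv D407) D406
def n590 : Q := act 8 n407
theorem D590 : act 8 n407 = n590 := rfl
theorem F3128 : act 0 n590 = n454 := d7_1 D590 (iv D454) (iv F2205)
theorem F3129 : act 1 n590 = n590 := d15_1 D590 (iv D590) F2206
theorem F3130 : act 2 n590 = n590 := d22_1 D590 (iv D590) F2207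
theorem F3131 : act 5 n590 = n590 := d37_1 D590 (iv D590) F2208 F1558 (iv F2208)
theorem F3132 : act 7 n590 = n590 := d42_1 D590 (iv D590) F2209
def n591 : Q := act 9 n408
theorem D591 : act 9 n408 = n591 := rfl
theorem F3133 : act 0 n591 = n455 := d8_1 D591 (iv D455) (iv F2210)
theorem F3134 : act 1 n591 = n591 := d16_1 D591 (iv D591) F2211
theorem F3135 : act 2 n591 = n591 := d23_1 D591 (iv D591) F2212
theorem F3136 : act 4 n591 = n591 := d34_1 D591 (iv D591) F2213
theorem F3137 : act 6 n591 = n411 := d41_1 D591 (iv D411) (iv F2214)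
theorem F3138 : act 7 n591 = n409 := d43_1 D591 (iv D409) D408
def n592 : Q := act 8 n409
theorem D592 : act 8 n409 = n592 := rfl
theorem F3139 : act 0 n592 = n456 := d7_1 D592 (iv D456) (iv F2216)
theorem F3140 : act 1 n592 = n592 := d15_1 D592 (iv D592) F2217
theorem F3141 : act 2 n592 = n592 := d22_1 D592 (iv D592) F2218
theorem F3142 : act 4 n592 = n592 := d33_1 D592 (iv D592) F2219
theorem F3143 : act 6 n592 = n410 := d40_1 D592 (iv D410) (iv F2220)
theorem F3144 : act 9 n592 = n592 := d44_2 D409 D592 (iv D592) (iv D409) F1563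
def n593 : Q := act 8 n411
theorem D593 : act 8 n411 = n593 := rfl
theorem F3145 : act 0 n593 = n457 := d7_1 D593 (iv D457) (iv F2228)
theorem F3146 : act 1 n593 = n593 := d15_1 D593 (iv D593) F2229
theorem F3147 : act 2 n593 = n593 := d22_1 D593 (iv D593) F2230
theorem F3148 : act 4 n593 = n593 := d33_1 D593 (iv D593) F2231
theorem F3149 : act 7 n593 = n412 := d42_1 D593 (iv D412) (iv F2233)
theorem F3150 : act 9 n593 = n593 := d44_2 D411 D593 (iv D593) (iv D411) F1575
def n594 : Q := act 5 n412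
theorem D594 : act 5 n412 = n594 := rfl
theorem F3151 : act 0 n594 = n458 := d4_1 D594 (iv D458) (iv F2234)
theorem F3152 : act 1 n594 = n594 := d12_1 D594 (iv D594) F2235
theorem F3153 : act 2 n594 = n594 := d19_1 D594 (iv D594) F2236
theorem F3154 : act 6 n594 = n594 := d35_2 (iv F2238) D594 (iv D594) F2238 F1586
theorem F3155 : act 8 n594 = n594 := d37_2 D412 D594 (iv D594) (iv D412) F1580
theorem F3156 : act 9 n594 = n594 := d38_2 F2239 D594 (iv D594)
def n595 : Q := act 2 n413
theorem D595 : act 2 n413 = n595 := rfl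
theorem F3157 : act 0 n595 = n459 := d1_1 D595 (iv D459) (iv F2240)
theorem F3158 : act 3 n595 = n595 := d17_2 D413 D595 (iv D595) (iv D413) F1590
theorem F3159 : act 4 n595 = n595 := d18_2 F2242 D595 (iv D595)
theorem F3160 : act 6 n595 = n595 := d20_2 F2243 D595 (iv D595)
theorem F3161 : act 7 n595 = n595 := d21_2 F2244 D595 (iv D595)
theorem F3162 : act 8 n595 = n595 := d22_2 F2245 D595 (iv D595)
def n596 : Q := act 9 n413
theorem D596 : act 9 n413 = n596 := rfl
theorem F3163 : act 0 n596 = n460 := d8_1 D596 (iv D460) (iv F2240)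
theorem F3164 : act 1 n596 = n596 := d16_1 D596 (iv D596) F2241
theorem F3165 : act 3 n596 = n414 := d29_1 D596 (iv D414) D413
theorem F3166 : act 4 n596 = n596 := d34_1 D596 (iv D596) F2242
theorem F3167 : act 6 n596 = n596 := d41_1 D596 (iv D596) F2243
theorem F3168 : act 7 n596 = n596 := d43_1 D596 (iv D596) F2244
def n597 : Q := act 8 n414
theorem D597 : act 8 n414 = n597 := rfl
theorem F3169 : act 0 n597 = n461 := d7_1 D597 (iv D461) (iv F2246)
theorem F3170 : act 1 n597 = n597 := d15_1 D597 (iv D597) F2247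
theorem F3171 : act 2 n597 = n597 := d22_1 D597 (iv D597) F2248
theorem F3172 : act 4 n597 = n415 := d33_1 D597 (iv D415) (iv F2249)
theorem F3173 : act 6 n597 = n597 := d40_1 D597 (iv D597) F2250
theorem F3174 : act 7 n597 = n597 := d42_1 D597 (iv D597) F2251
theorem F3175 : act 9 n597 = n597 := d44_2 D414 D597 (iv D597) (iv D414) F1593
def n598 : Q := act 3 n416
theorem D598 : act 3 n416 = n598 := rfl
theorem F3176 : act 1 n598 = n598 := d10_1 D598 (iv D598) F2260
theorem F3177 : act 2 n598 = n598 := d17_1 D598 (iv D598) F2261 F1638 (iv F2261)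
theorem F3178 : act 4 n598 = n598 := d24_2 D416 D598 (iv D598) (iv D416) F1603
theorem F3179 : act 5 n598 = n598 := d25_2 F2262 D598 (iv D598)
theorem F3180 : act 6 n598 = n598 := d26_2 F2263 D598 (iv D598)
theorem F3181 : act 7 n598 = n598 := d27_2 F2264 D598 (iv D598)
theorem F3182 : act 9 n598 = n598 := d29_2 F2265 D598 (iv D598)
def n599 : Q := act 8 n416
theorem D599 : act 8 n416 = n599 := rfl
theorem F3183 : act 1 n599 = n599 := d15_1 D599 (iv D599) F2260
theorem F3184 : act 2 n599 = n429 := d22_1 D599 (iv D429) (iv F2261)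
theorem F3185 : act 4 n599 = n417 := d33_1 D599 (iv D417) D416
theorem F3186 : act 6 n599 = n599 := d40_1 D599 (iv D599) F2263
theorem F3187 : act 7 n599 = n599 := d42_1 D599 (iv D599) F2264
def n600 : Q := act 5 n417
theorem D600 : act 5 n417 = n600 := rfl
theorem F3188 : act 1 n600 = n600 := d12_1 D600 (iv D600) F2266
theorem F3189 : act 2 n600 = n430 := d19_1 D600 (iv D430) (iv F2267)
theorem F3190 : act 3 n600 = n600 := d25_1 D600 (iv D600) F2268
theorem F3191 : act 7 n600 = n600 := d36_2 F2270 D600 (iv D600)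
theorem F3192 : act 8 n600 = n418 := d37_2 D417 D600 (iv D418) (iv D289) D288
def n601 : Q := act 9 n417
theorem D601 : act 9 n417 = n601 := rfl
theorem F3193 : act 1 n601 = n601 := d16_1 D601 (iv D601) F2266
theorem F3194 : act 2 n601 = n431 := d23_1 D601 (iv D431) (iv F2267)
theorem F3195 : act 3 n601 = n601 := d29_1 D601 (iv D601) F2268
theorem F3196 : act 6 n601 = n601 := d41_1 D601 (iv D601) F2269
theorem F3197 : act 7 n601 = n601 := d43_1 D601 (iv D601) F2270
theorem F3198 : act 8 n601 = n601 := d44_1 D601 (iv D601) (iv D417) F1606 D417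
def n602 : Q := act 4 n418
theorem D602 : act 4 n418 = n602 := rfl
theorem F3199 : act 1 n602 = n602 := d11_1 D602 (iv D602) F2271
theorem F3200 : act 2 n602 = n432 := d18_1 D602 (iv D432) (iv F2272)
theorem F3201 : act 5 n602 = n602 := d30_2 D418 D602 (iv D602) (iv D418) F1610
theorem F3202 : act 7 n602 = n602 := d32_2 F2274 D602 (iv D602)
def n603 : Q := act 6 n418
theorem D603 : act 6 n418 = n603 := rfl
theorem F3203 : act 1 n603 = n603 := d13_1 D603 (iv D603) F2271
theorem F3204 : act 2 n603 = n433 := d20_1 D603 (iv D433) (iv F2272)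
theorem F3205 : act 3 n603 = n603 := d26_1 D603 (iv D603) F2273
theorem F3206 : act 5 n603 = n421 := d35_1 D603 (iv D421) (iv D290) (iv F1611) D418
def n604 : Q := act 9 n418
theorem D604 : act 9 n418 = n604 := rfl
theorem F3207 : act 1 n604 = n604 := d16_1 D604 (iv D604) F2271
theorem F3208 : act 2 n604 = n434 := d23_1 D604 (iv D434) (iv F2272)
theorem F3209 : act 3 n604 = n604 := d29_1 D604 (iv D604) F2273
theorem F3210 : act 5 n604 = n419 := d38_1 D604 (iv D419) D418
theorem F3211 : act 7 n604 = n604 := d43_1 D604 (iv D604) F2274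
def n605 : Q := act 3 n420
theorem D605 : act 3 n420 = n605 := rfl
theorem F3213 : act 2 n605 = n605 := d17_1 D605 (iv D605) F2283 F1657 (iv F2283)
theorem F3216 : act 7 n605 = n423 := d27_2 (iv F2285) D605 (iv D423)
theorem F3217 : act 8 n605 = n605 := d28_2 F2286 D605 (iv D605)
def n606 : Q := act 6 n420
theorem D606 : act 6 n420 = n606 := rfl
theorem F3219 : act 2 n606 = n435 := d20_1 D606 (iv D435) (iv F2283)
theorem F3220 : act 4 n606 = n421 := d31_1 D606 (iv D421) D420
def n607 : Q := act 9 n420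
theorem D607 : act 9 n420 = n607 := rfl
theorem F3223 : act 2 n607 = n436 := d23_1 D607 (iv D436) (iv F2283)
theorem F3224 : act 4 n607 = n422 := d34_1 D607 (iv D422) D420
def n608 : Q := act 7 n421
theorem D608 : act 7 n421 = n608 := rfl
theorem F3228 : act 2 n608 = n437 := d21_1 D608 (iv D437) (iv F2288)
theorem F3230 : act 6 n608 = n426 := d39_1 D608 (iv D426) (iv D293) (iv F1616) D421
def n609 : Q := act 9 n421
theorem D609 : act 9 n421 = n609 := rfl
theorem F3232 : act 1 n609 = n609 := d16_1 D609 (iv D609) F2287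
theorem F3233 : act 2 n609 = n438 := d23_1 D609 (iv D438) (iv F2288)
theorem F3234 : act 3 n609 = n609 := d29_1 D609 (iv D609) F2289
theorem F3235 : act 6 n609 = n422 := d41_1 D609 (iv D422) D421
def n610 : Q := act 8 n422
theorem D610 : act 8 n422 = n610 := rfl
theorem F3236 : act 1 n610 = n610 := d15_1 D610 (iv D610) F2291
theorem F3237 : act 2 n610 = n439 := d22_1 D610 (iv D439) (iv F2292)
theorem F3238 : act 3 n610 = n610 := d28_1 D610 (iv D610) F2293
theorem F3239 : act 5 n610 = n610 := d37_1 D610 (iv D610) F2294 F1623 (iv F2294)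
theorem F3240 : act 7 n610 = n428 := d42_1 D610 (iv D428) (iv F2295)
theorem F3241 : act 9 n610 = n610 := d44_2 D422 D610 (iv D610) (iv D422) F1617
def n611 : Q := act 6 n423
theorem D611 : act 6 n423 = n611 := rfl
theorem F3243 : act 2 n611 = n611 := d20_1 D611 (iv D611) F2297
theorem F3244 : act 3 n611 = n424 := d26_1 D611 (iv D424) D423
def n612 : Q := act 9 n423
theorem D612 : act 9 n423 = n612 := rfl
theorem F3249 : act 3 n612 = n425 := d29_1 D612 (iv D425) D423
def n613 : Q := act 5 n424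
theorem D613 : act 5 n424 = n613 := rfl
theorem F3253 : act 2 n613 = n440 := d19_1 D613 (iv D440) (iv F2302)
theorem F3254 : act 4 n613 = n613 := d30_1 D613 (iv D613) F2303 F1631 (iv F2303)
def n614 : Q := act 7 n424
theorem D614 : act 7 n424 = n614 := rfl
theorem F3258 : act 4 n614 = n426 := d32_1 D614 (iv D426) (iv F2303)
def n616 : Q := act 8 n425
theorem D616 : act 8 n425 = n616 := rfl
theorem F3266 : act 4 n616 = n428 := d33_1 D616 (iv D428) (iv F2307)
def n617 : Q := act 9 n426
theorem D617 : act 9 n426 = n617 := rfl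
theorem F3272 : act 7 n617 = n427 := d43_1 D617 (iv D427) D426
def n618 : Q := act 8 n427
theorem D618 : act 8 n427 = n618 := rfl
theorem F3276 : act 6 n618 = n428 := d40_1 D618 (iv D428) (iv F2318)
def n619 : Q := act 5 n429
theorem D619 : act 5 n429 = n619 := rfl
theorem F3278 : act 1 n619 = n462 := d12_1 D619 (iv D462) (iv F2324)
theorem F3279 : act 3 n619 = n619 := d25_1 D619 (iv D619) F2325
theorem F3280 : act 7 n619 = n619 := d36_2 F2328 D619 (iv D619)
theorem F3281 : act 8 n619 = n619 := d37_2 D429 D619 (iv D619) (iv D429) F1639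
def n620 : Q := act 9 n429
theorem D620 : act 9 n429 = n620 := rfl
theorem F3282 : act 1 n620 = n463 := d16_1 D620 (iv D463) (iv F2324)
theorem F3283 : act 3 n620 = n620 := d29_1 D620 (iv D620) F2325
theorem F3284 : act 4 n620 = n431 := d34_1 D620 (iv D431) (iv F2326)
theorem F3285 : act 6 n620 = n620 := d41_1 D620 (iv D620) F2327
theorem F3286 : act 7 n620 = n620 := d43_1 D620 (iv D620) F2328
theorem F3287 : act 8 n620 = n620 := d44_1 D620 (iv D620) (iv D429) F1642 D429
def n621 : Q := act 4 n430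
theorem D621 : act 4 n430 = n621 := rfl
theorem F3288 : act 1 n621 = n464 := d11_1 D621 (iv D464) (iv F2329)
theorem F3289 : act 7 n621 = n621 := d32_2 F2331 D621 (iv D621)
theorem F3290 : act 8 n621 = n432 := d33_2 (iv F2332) D621 (iv D432)
def n622 : Q := act 6 n430
theorem D622 : act 6 n430 = n622 := rfl
theorem F3291 : act 1 n622 = n465 := d13_1 D622 (iv D465) (iv F2329)
theorem F3292 : act 3 n622 = n447 := d26_1 D622 (iv D447) (iv F2330)
theorem F3293 : act 5 n622 = n622 := d35_1 D622 (iv D622) (iv D430) F1645 D430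
theorem F3294 : act 8 n622 = n433 := d40_2 (iv F2332) D622 (iv D433)
def n623 : Q := act 9 n430
theorem D623 : act 9 n430 = n623 := rfl
theorem F3295 : act 1 n623 = n466 := d16_1 D623 (iv D466) (iv F2329)
theorem F3296 : act 3 n623 = n448 := d29_1 D623 (iv D448) (iv F2330)
theorem F3297 : act 5 n623 = n431 := d38_1 D623 (iv D431) D430
theorem F3298 : act 7 n623 = n623 := d43_1 D623 (iv D623) F2331
def n624 : Q := act 3 n432
theorem D624 : act 3 n432 = n624 := rfl
theorem F3299 : act 1 n624 = n467 := d10_1 D624 (iv D467) (iv F2338)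
theorem F3300 : act 4 n624 = n449 := d24_2 D432 D624 (iv D449) (iv D309) (iv F1648)
theorem F3301 : act 5 n624 = n624 := d25_2 F2339 D624 (iv D624)
theorem F3302 : act 7 n624 = n624 := d27_2 F2340 D624 (iv D624)
def n625 : Q := act 6 n432
theorem D625 : act 6 n432 = n625 := rfl
theorem F3303 : act 1 n625 = n468 := d13_1 D625 (iv D468) (iv F2338)
theorem F3304 : act 4 n625 = n433 := d31_1 D625 (iv D433) D432
def n626 : Q := act 9 n432
theorem D626 : act 9 n432 = n626 := rfl
theorem F3305 : act 1 n626 = n469 := d16_1 D626 (iv D469) (iv F2338)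
theorem F3306 : act 4 n626 = n434 := d34_1 D626 (iv D434) D432
theorem F3307 : act 5 n626 = n626 := d38_1 D626 (iv D626) F2339
theorem F3308 : act 7 n626 = n626 := d43_1 D626 (iv D626) F2340
def n627 : Q := act 7 n433
theorem D627 : act 7 n433 = n627 := rfl
theorem F3309 : act 1 n627 = n470 := d14_1 D627 (iv D470) (iv F2341)
theorem F3310 : act 3 n627 = n452 := d27_1 D627 (iv D452) (iv F2342)
theorem F3311 : act 5 n627 = n437 := d36_1 D627 (iv D437) (iv F2343)
theorem F3312 : act 6 n627 = n627 := d39_1 D627 (iv D627) (iv D433) F1649 D433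
def n628 : Q := act 9 n433
theorem D628 : act 9 n433 = n628 := rfl
theorem F3313 : act 1 n628 = n471 := d16_1 D628 (iv D471) (iv F2341)
theorem F3314 : act 3 n628 = n453 := d29_1 D628 (iv D453) (iv F2342)
theorem F3315 : act 5 n628 = n438 := d38_1 D628 (iv D438) (iv F2343)
theorem F3316 : act 6 n628 = n434 := d41_1 D628 (iv D434) D433
def n629 : Q := act 8 n434
theorem D629 : act 8 n434 = n629 := rfl
theorem F3317 : act 1 n629 = n472 := d15_1 D629 (iv D472) (iv F2344)
theorem F3318 : act 3 n629 = n454 := d28_1 D629 (iv D454) (iv F2345)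
theorem F3319 : act 5 n629 = n629 := d37_1 D629 (iv D629) F2346 F1655 (iv F2346)
theorem F3320 : act 7 n629 = n629 := d42_1 D629 (iv D629) F2347
def n630 : Q := act 5 n435
theorem D630 : act 5 n435 = n630 := rfl
theorem F3321 : act 1 n630 = n473 := d12_1 D630 (iv D473) (iv F2348)
theorem F3322 : act 3 n630 = n630 := d25_1 D630 (iv D630) F2349
theorem F3323 : act 6 n630 = n630 := d35_2 D435 D630 (iv D630) (iv D435) F1658
def n631 : Q := act 7 n435
theorem D631 : act 7 n435 = n631 := rfl
theorem F3324 : act 1 n631 = n474 := d14_1 D631 (iv D474) (iv F2348)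
theorem F3326 : act 4 n631 = n437 := d32_1 D631 (iv D437) (iv F2350)
theorem F3327 : act 6 n631 = n441 := d39_1 D631 (iv D441) (iv D302) (iv F1659) D435
def n632 : Q := act 9 n435
theorem D632 : act 9 n435 = n632 := rfl
theorem F3329 : act 1 n632 = n475 := d16_1 D632 (iv D475) (iv F2348)
theorem F3330 : act 3 n632 = n632 := d29_1 D632 (iv D632) F2349
theorem F3331 : act 4 n632 = n438 := d34_1 D632 (iv D438) (iv F2350)
theorem F3332 : act 6 n632 = n436 := d41_1 D632 (iv D436) D435
def n633 : Q := act 8 n436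
theorem D633 : act 8 n436 = n633 := rfl
theorem F3333 : act 1 n633 = n476 := d15_1 D633 (iv D476) (iv F2352)
theorem F3334 : act 3 n633 = n633 := d28_1 D633 (iv D633) F2353
theorem F3335 : act 4 n633 = n439 := d33_1 D633 (iv D439) (iv F2354)
theorem F3336 : act 7 n633 = n443 := d42_1 D633 (iv D443) (iv F2356)
theorem F3337 : act 9 n633 = n633 := d44_2 D436 D633 (iv D633) (iv D436) F1660
def n634 : Q := act 9 n437
theorem D634 : act 9 n437 = n634 := rfl
theorem F3338 : act 1 n634 = n477 := d16_1 D634 (iv D477) (iv F2357)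
theorem F3339 : act 3 n634 = n455 := d29_1 D634 (iv D455) (iv F2358)
theorem F3340 : act 6 n634 = n444 := d41_1 D634 (iv D444) (iv F2359)
theorem F3341 : act 7 n634 = n438 := d43_1 D634 (iv D438) D437
def n635 : Q := act 8 n438
theorem D635 : act 8 n438 = n635 := rfl
theorem F3342 : act 1 n635 = n478 := d15_1 D635 (iv D478) (iv F2361)
theorem F3343 : act 3 n635 = n456 := d28_1 D635 (iv D456) (iv F2362)
theorem F3344 : act 6 n635 = n439 := d40_1 D635 (iv D439) (iv F2363)
theorem F3345 : act 9 n635 = n635 := d44_2 D438 D635 (iv D635) (iv D438) F1663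
def n636 : Q := act 7 n440
theorem D636 : act 7 n440 = n636 := rfl
theorem F3346 : act 1 n636 = n479 := d14_1 D636 (iv D479) (iv F2369)
theorem F3349 : act 5 n636 = n441 := d36_1 D636 (iv D441) D440
def n641 : Q := act 5 n443
theorem D641 : act 5 n443 = n641 := rfl
theorem F3369 : act 1 n641 = n484 := d12_1 D641 (iv D484) (iv F2381)
theorem F3370 : act 3 n641 = n641 := d25_1 D641 (iv D641) F2382
theorem F3371 : act 4 n641 = n641 := d30_1 D641 (iv D641) F2383 F1686 (iv F2383)
theorem F3372 : act 8 n641 = n641 := d37_2 D443 D641 (iv D641) (iv D443) F1675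
theorem F3373 : act 9 n641 = n641 := d38_2 F2384 D641 (iv D641)
def n642 : Q := act 8 n444
theorem D642 : act 8 n444 = n642 := rfl
theorem F3374 : act 1 n642 = n485 := d15_1 D642 (iv D485) (iv F2385)
theorem F3375 : act 3 n642 = n457 := d28_1 D642 (iv D457) (iv F2386)
theorem F3376 : act 7 n642 = n445 := d42_1 D642 (iv D445) (iv F2388)
theorem F3377 : act 9 n642 = n642 := d44_2 D444 D642 (iv D642) (iv D444) F1679
def n643 : Q := act 5 n445
theorem D643 : act 5 n445 = n643 := rfl
theorem F3378 : act 1 n643 = n486 := d12_1 D643 (iv D486) (iv F2389)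
theorem F3379 : act 3 n643 = n458 := d25_1 D643 (iv D458) (iv F2390)
theorem F3380 : act 6 n643 = n643 := d35_2 (iv F2391) D643 (iv D643) F2391 F1686
theorem F3381 : act 8 n643 = n643 := d37_2 D445 D643 (iv D643) (iv D445) F1682
theorem F3382 : act 9 n643 = n643 := d38_2 F2392 D643 (iv D643)
def n644 : Q := act 3 n446
theorem D644 : act 3 n446 = n644 := rfl
theorem F3383 : act 1 n644 = n487 := d10_1 D644 (iv D487) (iv F2393)
theorem F3384 : act 5 n644 = n644 := d25_2 F2395 D644 (iv D644)
theorem F3385 : act 7 n644 = n644 := d27_2 F2396 D644 (iv D644)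
theorem F3386 : act 8 n644 = n449 := d28_2 (iv F2397) D644 (iv D449)
def n645 : Q := act 6 n446
theorem D645 : act 6 n446 = n645 := rfl
theorem F3387 : act 1 n645 = n488 := d13_1 D645 (iv D488) (iv F2393)
theorem F3388 : act 2 n645 = n645 := d20_1 D645 (iv D645) F2394
theorem F3389 : act 4 n645 = n447 := d31_1 D645 (iv D447) D446
theorem F3390 : act 8 n645 = n450 := d40_2 (iv F2397) D645 (iv D450)
def n646 : Q := act 9 n446
theorem D646 : act 9 n446 = n646 := rfl
theorem F3391 : act 1 n646 = n489 := d16_1 D646 (iv D489) (iv F2393)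
theorem F3392 : act 2 n646 = n646 := d23_1 D646 (iv D646) F2394
theorem F3393 : act 4 n646 = n448 := d34_1 D646 (iv D448) D446
theorem F3394 : act 5 n646 = n646 := d38_1 D646 (iv D646) F2395
theorem F3395 : act 7 n646 = n646 := d43_1 D646 (iv D646) F2396
def n647 : Q := act 7 n447
theorem D647 : act 7 n447 = n647 := rfl
theorem F3396 : act 1 n647 = n490 := d14_1 D647 (iv D490) (iv F2398)
theorem F3397 : act 2 n647 = n647 := d21_1 D647 (iv D647) F2399
theorem F3398 : act 5 n647 = n647 := d36_1 D647 (iv D647) F2400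
theorem F3399 : act 6 n647 = n647 := d39_1 D647 (iv D647) (iv D447) F1690 D447
theorem F3400 : act 8 n647 = n452 := d42_2 (iv F2401) D647 (iv D452)
def n648 : Q := act 9 n447
theorem D648 : act 9 n447 = n648 := rfl
theorem F3401 : act 1 n648 = n491 := d16_1 D648 (iv D491) (iv F2398)
theorem F3402 : act 2 n648 = n648 := d23_1 D648 (iv D648) F2399
theorem F3403 : act 5 n648 = n648 := d38_1 D648 (iv D648) F2400
theorem F3404 : act 6 n648 = n448 := d41_1 D648 (iv D448) D447
def n649 : Q := act 8 n448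
theorem D649 : act 8 n448 = n649 := rfl
theorem F3405 : act 1 n649 = n492 := d15_1 D649 (iv D492) (iv F2402)
theorem F3406 : act 2 n649 = n649 := d22_1 D649 (iv D649) F2403
theorem F3407 : act 5 n649 = n649 := d37_1 D649 (iv D649) F2404 F1697 (iv F2404)
theorem F3408 : act 7 n649 = n649 := d42_1 D649 (iv D649) F2405
theorem F3409 : act 9 n649 = n454 := d44_2 D448 D649 (iv D454) (iv D311) (iv F1691)
def n650 : Q := act 2 n449
theorem D650 : act 2 n449 = n650 := rfl
theorem F3410 : act 3 n650 = n650 := d17_2 D449 D650 (iv D650) (iv D449) F1699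
theorem F3411 : act 5 n650 = n459 := d19_2 (iv F2407) D650 (iv D459)
theorem F3412 : act 7 n650 = n650 := d21_2 F2408 D650 (iv D650)
def n651 : Q := act 6 n449
theorem D651 : act 6 n449 = n651 := rfl
theorem F3413 : act 1 n651 = n494 := d13_1 D651 (iv D494) (iv F2406)
theorem F3414 : act 3 n651 = n450 := d26_1 D651 (iv D450) D449
theorem F3415 : act 5 n651 = n651 := d35_1 D651 (iv D651) F2407 F1736 (iv F2407)
def n652 : Q := act 9 n449
theorem D652 : act 9 n449 = n652 := rfl
theorem F3416 : act 1 n652 = n495 := d16_1 D652 (iv D495) (iv F2406)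
theorem F3417 : act 3 n652 = n451 := d29_1 D652 (iv D451) D449
theorem F3418 : act 5 n652 = n460 := d38_1 D652 (iv D460) (iv F2407)
theorem F3419 : act 7 n652 = n652 := d43_1 D652 (iv D652) F2408
def n653 : Q := act 7 n450
theorem D653 : act 7 n450 = n653 := rfl
theorem F3420 : act 1 n653 = n496 := d14_1 D653 (iv D496) (iv F2409)
theorem F3421 : act 2 n653 = n653 := d21_1 D653 (iv D653) F2410
theorem F3422 : act 4 n653 = n452 := d32_1 D653 (iv D452) (iv F2411)
theorem F3423 : act 5 n653 = n653 := d36_1 D653 (iv D653) F2412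
theorem F3424 : act 6 n653 = n653 := d39_1 D653 (iv D653) (iv D450) F1701 D450
def n654 : Q := act 9 n450
theorem D654 : act 9 n450 = n654 := rfl
theorem F3425 : act 1 n654 = n497 := d16_1 D654 (iv D497) (iv F2409)
theorem F3426 : act 2 n654 = n654 := d23_1 D654 (iv D654) F2410
theorem F3427 : act 4 n654 = n453 := d34_1 D654 (iv D453) (iv F2411)
theorem F3428 : act 5 n654 = n654 := d38_1 D654 (iv D654) F2412
theorem F3429 : act 6 n654 = n451 := d41_1 D654 (iv D451) D450
def n655 : Q := act 8 n451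
theorem D655 : act 8 n451 = n655 := rfl
theorem F3430 : act 1 n655 = n498 := d15_1 D655 (iv D498) (iv F2413)
theorem F3431 : act 2 n655 = n655 := d22_1 D655 (iv D655) F2414
theorem F3432 : act 4 n655 = n454 := d33_1 D655 (iv D454) (iv F2415)
theorem F3433 : act 7 n655 = n655 := d42_1 D655 (iv D655) F2417
def n656 : Q := act 9 n452
theorem D656 : act 9 n452 = n656 := rfl
theorem F3434 : act 1 n656 = n499 := d16_1 D656 (iv D499) (iv F2418)
theorem F3435 : act 2 n656 = n656 := d23_1 D656 (iv D656) F2419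
theorem F3436 : act 5 n656 = n455 := d38_1 D656 (iv D455) (iv F2420)
theorem F3437 : act 6 n656 = n656 := d41_1 D656 (iv D656) F2421
theorem F3438 : act 7 n656 = n453 := d43_1 D656 (iv D453) D452
def n657 : Q := act 8 n453
theorem D657 : act 8 n453 = n657 := rfl
theorem F3439 : act 1 n657 = n500 := d15_1 D657 (iv D500) (iv F2422)
theorem F3440 : act 2 n657 = n657 := d22_1 D657 (iv D657) F2423
theorem F3441 : act 6 n657 = n454 := d40_1 D657 (iv D454) (iv F2425)
def n658 : Q := act 8 n455
theorem D658 : act 8 n455 = n658 := rfl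
theorem F3442 : act 1 n658 = n501 := d15_1 D658 (iv D501) (iv F2430)
theorem F3443 : act 2 n658 = n658 := d22_1 D658 (iv D658) F2431
theorem F3444 : act 4 n658 = n658 := d33_1 D658 (iv D658) F2432
theorem F3445 : act 6 n658 = n457 := d40_1 D658 (iv D457) (iv F2433)
theorem F3446 : act 7 n658 = n456 := d42_1 D658 (iv D456) (iv F2434)
theorem F3447 : act 9 n658 = n658 := d44_2 D455 D658 (iv D658) (iv D455) F1713
def n659 : Q := act 5 n456
theorem D659 : act 5 n456 = n659 := rfl
theorem F3448 : act 1 n659 = n502 := d12_1 D659 (iv D502) (iv F2435)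
theorem F3449 : act 2 n659 = n659 := d19_1 D659 (iv D659) F2436
theorem F3450 : act 6 n659 = n659 := d35_2 (iv F2438) D659 (iv D659) F2438 F1721
theorem F3451 : act 9 n659 = n659 := d38_2 F2439 D659 (iv D659)
def n660 : Q := act 5 n457
theorem D660 : act 5 n457 = n660 := rfl
theorem F3452 : act 1 n660 = n503 := d12_1 D660 (iv D503) (iv F2440)
theorem F3453 : act 2 n660 = n660 := d19_1 D660 (iv D660) F2441
theorem F3454 : act 7 n660 = n458 := d36_2 (iv F2443) D660 (iv D458)
theorem F3455 : act 8 n660 = n660 := d37_2 D457 D660 (iv D660) (iv D457) F1727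
theorem F3456 : act 9 n660 = n660 := d38_2 F2444 D660 (iv D660)
def n661 : Q := act 4 n458
theorem D661 : act 4 n458 = n661 := rfl
theorem F3457 : act 1 n661 = n504 := d11_1 D661 (iv D504) (iv F2445)
theorem F3458 : act 2 n661 = n661 := d18_1 D661 (iv D661) F2446
theorem F3459 : act 5 n661 = n661 := d30_2 D458 D661 (iv D661) (iv D458) F1731
theorem F3460 : act 6 n661 = n661 := d31_2 F2447 D661 (iv D661)
theorem F3461 : act 8 n661 = n661 := d33_2 F2448 D661 (iv D661)
theorem F3462 : act 9 n661 = n661 := d34_2 F2449 D661 (iv D661)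
def n662 : Q := act 1 n459
theorem D662 : act 1 n459 = n662 := rfl
theorem F3463 : act 2 n662 = n505 := d9_2 D459 D662 (iv D505) (iv D350) (iv F1734)
theorem F3464 : act 3 n662 = n662 := d10_2 F2450 D662 (iv D662)
theorem F3465 : act 4 n662 = n662 := d11_2 F2451 D662 (iv D662)
theorem F3466 : act 6 n662 = n662 := d13_2 F2452 D662 (iv D662)
theorem F3467 : act 7 n662 = n662 := d14_2 F2453 D662 (iv D662)
theorem F3468 : act 8 n662 = n662 := d15_2 F2454 D662 (iv D662)
def n663 : Q := act 9 n459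
theorem D663 : act 9 n459 = n663 := rfl
theorem F3469 : act 2 n663 = n460 := d23_1 D663 (iv D460) D459
theorem F3470 : act 3 n663 = n663 := d29_1 D663 (iv D663) F2450
theorem F3471 : act 4 n663 = n663 := d34_1 D663 (iv D663) F2451
theorem F3472 : act 6 n663 = n663 := d41_1 D663 (iv D663) F2452
theorem F3473 : act 7 n663 = n663 := d43_1 D663 (iv D663) F2453
def n664 : Q := act 8 n460
theorem D664 : act 8 n460 = n664 := rfl
theorem F3474 : act 1 n664 = n507 := d15_1 D664 (iv D507) (iv F2455)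
theorem F3475 : act 3 n664 = n461 := d28_1 D664 (iv D461) (iv F2456)
theorem F3476 : act 4 n664 = n664 := d33_1 D664 (iv D664) F2457
theorem F3477 : act 6 n664 = n664 := d40_1 D664 (iv D664) F2458
theorem F3478 : act 7 n664 = n664 := d42_1 D664 (iv D664) F2459
theorem F3479 : act 9 n664 = n664 := d44_2 D460 D664 (iv D664) (iv D460) F1738
def n665 : Q := act 5 n461
theorem D665 : act 5 n461 = n665 := rfl
theorem F3480 : act 1 n665 = n508 := d12_1 D665 (iv D508) (iv F2460)
theorem F3481 : act 2 n665 = n665 := d19_1 D665 (iv D665) F2461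
theorem F3482 : act 4 n665 = n665 := d30_1 D665 (iv D665) F2462 F1747 (iv F2462)
theorem F3483 : act 7 n665 = n665 := d36_2 F2464 D665 (iv D665)
theorem F3484 : act 9 n665 = n665 := d38_2 F2465 D665 (iv D665)
def n666 : Q := act 4 n462
theorem D666 : act 4 n462 = n666 := rfl
theorem F3485 : act 0 n666 = n666 := d3_1 D666 (iv D666) F2466
theorem F3486 : act 2 n666 = n666 := d18_1 D666 (iv D666) F2467
theorem F3487 : act 5 n666 = n464 := d30_2 D462 D666 (iv D464) (iv D321) (iv F1754)
theorem F3488 : act 7 n666 = n666 := d32_2 F2469 D666 (iv D666)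
theorem F3489 : act 8 n666 = n666 := d33_2 F2470 D666 (iv D666)
def n667 : Q := act 6 n462
theorem D667 : act 6 n462 = n667 := rfl
theorem F3490 : act 0 n667 = n667 := d5_1 D667 (iv D667) F2466
theorem F3491 : act 2 n667 = n667 := d20_1 D667 (iv D667) F2467
theorem F3492 : act 3 n667 = n667 := d26_1 D667 (iv D667) F2468
theorem F3493 : act 5 n667 = n667 := d35_1 D667 (iv D667) (iv D462) F1755 D462
theorem F3494 : act 8 n667 = n667 := d40_2 F2470 D667 (iv D667)
def n668 : Q := act 9 n462
theorem D668 : act 9 n462 = n668 := rfl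
theorem F3495 : act 0 n668 = n668 := d8_1 D668 (iv D668) F2466
theorem F3496 : act 2 n668 = n668 := d23_1 D668 (iv D668) F2467
theorem F3497 : act 3 n668 = n668 := d29_1 D668 (iv D668) F2468
theorem F3498 : act 5 n668 = n463 := d38_1 D668 (iv D463) D462
theorem F3499 : act 7 n668 = n668 := d43_1 D668 (iv D668) F2469
def n669 : Q := act 3 n464
theorem D669 : act 3 n464 = n669 := rfl
theorem F3500 : act 0 n669 = n669 := d2_1 D669 (iv D669) F2478
theorem F3501 : act 4 n669 = n487 := d24_2 D464 D669 (iv D487) (iv D337) (iv F1759)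
theorem F3502 : act 7 n669 = n669 := d27_2 F2480 D669 (iv D669)
theorem F3503 : act 8 n669 = n467 := d28_2 (iv F2481) D669 (iv D467)
def n670 : Q := act 6 n464
theorem D670 : act 6 n464 = n670 := rfl
theorem F3504 : act 0 n670 = n670 := d5_1 D670 (iv D670) F2478
theorem F3505 : act 2 n670 = n670 := d20_1 D670 (iv D670) F2479
theorem F3506 : act 4 n670 = n465 := d31_1 D670 (iv D465) D464
theorem F3507 : act 8 n670 = n468 := d40_2 (iv F2481) D670 (iv D468)
def n671 : Q := act 9 n464
theorem D671 : act 9 n464 = n671 := rfl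
theorem F3508 : act 0 n671 = n671 := d8_1 D671 (iv D671) F2478
theorem F3509 : act 2 n671 = n671 := d23_1 D671 (iv D671) F2479
theorem F3510 : act 4 n671 = n466 := d34_1 D671 (iv D466) D464
theorem F3511 : act 7 n671 = n671 := d43_1 D671 (iv D671) F2480
def n672 : Q := act 7 n465
theorem D672 : act 7 n465 = n672 := rfl
theorem F3512 : act 0 n672 = n672 := d6_1 D672 (iv D672) F2482
theorem F3513 : act 2 n672 = n672 := d21_1 D672 (iv D672) F2483
theorem F3514 : act 3 n672 = n490 := d27_1 D672 (iv D490) (iv F2484)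
theorem F3515 : act 5 n672 = n672 := d36_1 D672 (iv D672) F2485
theorem F3516 : act 6 n672 = n672 := d39_1 D672 (iv D672) (iv D465) F1760 D465
theorem F3517 : act 8 n672 = n470 := d42_2 (iv F2486) D672 (iv D470)
def n673 : Q := act 9 n465
theorem D673 : act 9 n465 = n673 := rfl
theorem F3518 : act 0 n673 = n673 := d8_1 D673 (iv D673) F2482
theorem F3519 : act 2 n673 = n673 := d23_1 D673 (iv D673) F2483
theorem F3520 : act 3 n673 = n491 := d29_1 D673 (iv D491) (iv F2484)
theorem F3521 : act 5 n673 = n673 := d38_1 D673 (iv D673) F2485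
theorem F3522 : act 6 n673 = n466 := d41_1 D673 (iv D466) D465
def n674 : Q := act 8 n466
theorem D674 : act 8 n466 = n674 := rfl
theorem F3523 : act 0 n674 = n674 := d7_1 D674 (iv D674) F2487
theorem F3524 : act 2 n674 = n674 := d22_1 D674 (iv D674) F2488
theorem F3525 : act 3 n674 = n492 := d28_1 D674 (iv D492) (iv F2489)
theorem F3526 : act 5 n674 = n674 := d37_1 D674 (iv D674) F2490 F1767 (iv F2490)
theorem F3527 : act 7 n674 = n674 := d42_1 D674 (iv D674) F2491
theorem F3528 : act 9 n674 = n472 := d44_2 D466 D674 (iv D472) (iv D325) (iv F1761)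
def n675 : Q := act 2 n467
theorem D675 : act 2 n467 = n675 := rfl
theorem F3529 : act 0 n675 = n675 := d1_1 D675 (iv D675) F2492
theorem F3530 : act 3 n675 = n675 := d17_2 D467 D675 (iv D675) (iv D467) F1769
theorem F3531 : act 4 n675 = n493 := d18_2 (iv F2493) D675 (iv D493)
theorem F3532 : act 5 n675 = n675 := d19_2 F2494 D675 (iv D675)
theorem F3533 : act 7 n675 = n675 := d21_2 F2495 D675 (iv D675)
def n676 : Q := act 6 n467
theorem D676 : act 6 n467 = n676 := rfl
theorem F3534 : act 0 n676 = n676 := d5_1 D676 (iv D676) F2492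
theorem F3535 : act 3 n676 = n468 := d26_1 D676 (iv D468) D467
theorem F3536 : act 4 n676 = n494 := d31_1 D676 (iv D494) (iv F2493)
def n677 : Q := act 9 n467
theorem D677 : act 9 n467 = n677 := rfl
theorem F3537 : act 0 n677 = n677 := d8_1 D677 (iv D677) F2492
theorem F3538 : act 3 n677 = n469 := d29_1 D677 (iv D469) D467
theorem F3539 : act 4 n677 = n495 := d34_1 D677 (iv D495) (iv F2493)
theorem F3540 : act 5 n677 = n677 := d38_1 D677 (iv D677) F2494
theorem F3541 : act 7 n677 = n677 := d43_1 D677 (iv D677) F2495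
def n678 : Q := act 5 n468
theorem D678 : act 5 n468 = n678 := rfl
theorem F3542 : act 0 n678 = n678 := d4_1 D678 (iv D678) F2496
theorem F3543 : act 2 n678 = n678 := d19_1 D678 (iv D678) F2497
theorem F3544 : act 4 n678 = n473 := d30_1 D678 (iv D473) F1784 (iv F1775) (iv F2498)
theorem F3545 : act 6 n678 = n678 := d35_2 D468 D678 (iv D678) (iv D468) F1770
def n679 : Q := act 7 n468
theorem D679 : act 7 n468 = n679 := rfl
theorem F3546 : act 0 n679 = n679 := d6_1 D679 (iv D679) F2496
theorem F3547 : act 2 n679 = n679 := d21_1 D679 (iv D679) F2497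
theorem F3548 : act 4 n679 = n470 := d32_1 D679 (iv D470) (iv F2498)
theorem F3549 : act 6 n679 = n679 := d39_1 D679 (iv D679) (iv D468) F1771 D468
def n680 : Q := act 9 n468
theorem D680 : act 9 n468 = n680 := rfl
theorem F3550 : act 0 n680 = n680 := d8_1 D680 (iv D680) F2496
theorem F3551 : act 2 n680 = n680 := d23_1 D680 (iv D680) F2497
theorem F3552 : act 4 n680 = n471 := d34_1 D680 (iv D471) (iv F2498)
theorem F3553 : act 6 n680 = n469 := d41_1 D680 (iv D469) D468
def n681 : Q := act 8 n469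
theorem D681 : act 8 n469 = n681 := rfl
theorem F3554 : act 0 n681 = n681 := d7_1 D681 (iv D681) F2499
theorem F3555 : act 2 n681 = n681 := d22_1 D681 (iv D681) F2500
theorem F3556 : act 4 n681 = n472 := d33_1 D681 (iv D472) (iv F2501)
theorem F3557 : act 7 n681 = n681 := d42_1 D681 (iv D681) F2503
def n682 : Q := act 9 n470
theorem D682 : act 9 n470 = n682 := rfl
theorem F3558 : act 0 n682 = n682 := d8_1 D682 (iv D682) F2504
theorem F3559 : act 2 n682 = n682 := d23_1 D682 (iv D682) F2505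
theorem F3560 : act 3 n682 = n499 := d29_1 D682 (iv D499) (iv F2506)
theorem F3561 : act 5 n682 = n477 := d38_1 D682 (iv D477) (iv F2507)
theorem F3562 : act 6 n682 = n682 := d41_1 D682 (iv D682) F2508
theorem F3563 : act 7 n682 = n471 := d43_1 D682 (iv D471) D470
def n683 : Q := act 8 n471
theorem D683 : act 8 n471 = n683 := rfl
theorem F3564 : act 0 n683 = n683 := d7_1 D683 (iv D683) F2509
theorem F3565 : act 2 n683 = n683 := d22_1 D683 (iv D683) F2510
theorem F3566 : act 3 n683 = n500 := d28_1 D683 (iv D500) (iv F2511)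
theorem F3567 : act 6 n683 = n472 := d40_1 D683 (iv D472) (iv F2513)
def n684 : Q := act 7 n473
theorem D684 : act 7 n473 = n684 := rfl
theorem F3568 : act 0 n684 = n684 := d6_1 D684 (iv D684) F2519
theorem F3569 : act 2 n684 = n684 := d21_1 D684 (iv D684) F2520
theorem F3570 : act 3 n684 = n684 := d27_1 D684 (iv D684) F2521
theorem F3571 : act 5 n684 = n474 := d36_1 D684 (iv D474) D473
def n685 : Q := act 8 n473
theorem D685 : act 8 n473 = n685 := rfl
theorem F3572 : act 0 n685 = n685 := d7_1 D685 (iv D685) F2519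
theorem F3573 : act 2 n685 = n685 := d22_1 D685 (iv D685) F2520
theorem F3574 : act 3 n685 = n685 := d28_1 D685 (iv D685) F2521
theorem F3575 : act 5 n685 = n685 := d37_1 D685 (iv D685) (iv D473) F1785 D473
theorem F3576 : act 6 n685 = n685 := d40_1 D685 (iv D685) F2522
def n686 : Q := act 9 n473
theorem D686 : act 9 n473 = n686 := rfl
theorem F3577 : act 0 n686 = n686 := d8_1 D686 (iv D686) F2519
theorem F3578 : act 2 n686 = n686 := d23_1 D686 (iv D686) F2520
theorem F3579 : act 3 n686 = n686 := d29_1 D686 (iv D686) F2521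
theorem F3580 : act 5 n686 = n475 := d38_1 D686 (iv D475) D473
theorem F3581 : act 6 n686 = n686 := d41_1 D686 (iv D686) F2522
def n687 : Q := act 9 n474
theorem D687 : act 9 n474 = n687 := rfl
theorem F3582 : act 0 n687 = n687 := d8_1 D687 (iv D687) F2523
theorem F3583 : act 2 n687 = n687 := d23_1 D687 (iv D687) F2524
theorem F3584 : act 3 n687 = n687 := d29_1 D687 (iv D687) F2525
theorem F3585 : act 4 n687 = n477 := d34_1 D687 (iv D477) (iv F2526)
theorem F3586 : act 6 n687 = n482 := d41_1 D687 (iv D482) (iv F2527)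
theorem F3587 : act 7 n687 = n475 := d43_1 D687 (iv D475) D474
def n688 : Q := act 8 n475
theorem D688 : act 8 n475 = n688 := rfl
theorem F3588 : act 0 n688 = n688 := d7_1 D688 (iv D688) F2529
theorem F3589 : act 2 n688 = n688 := d22_1 D688 (iv D688) F2530
theorem F3590 : act 3 n688 = n688 := d28_1 D688 (iv D688) F2531
theorem F3591 : act 4 n688 = n478 := d33_1 D688 (iv D478) (iv F2532)
theorem F3592 : act 6 n688 = n476 := d40_1 D688 (iv D476) (iv F2533)
theorem F3593 : act 9 n688 = n688 := d44_2 D475 D688 (iv D688) (iv D475) F1785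
def n689 : Q := act 5 n476
theorem D689 : act 5 n476 = n689 := rfl
theorem F3594 : act 0 n689 = n689 := d4_1 D689 (iv D689) F2534
theorem F3595 : act 2 n689 = n689 := d19_1 D689 (iv D689) F2535
theorem F3596 : act 3 n689 = n689 := d25_1 D689 (iv D689) F2536
theorem F3597 : act 4 n689 = n689 := d30_1 D689 (iv D689) F2537 F1804 (iv F2537)
theorem F3598 : act 7 n689 = n484 := d36_2 (iv F2538) D689 (iv D484)
theorem F3599 : act 8 n689 = n689 := d37_2 D476 D689 (iv D689) (iv D476) F1790
theorem F3600 : act 9 n689 = n689 := d38_2 F2539 D689 (iv D689)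
def n690 : Q := act 8 n477
theorem D690 : act 8 n477 = n690 := rfl
theorem F3601 : act 0 n690 = n690 := d7_1 D690 (iv D690) F2540
theorem F3602 : act 2 n690 = n690 := d22_1 D690 (iv D690) F2541
theorem F3603 : act 3 n690 = n501 := d28_1 D690 (iv D501) (iv F2542)
theorem F3604 : act 6 n690 = n485 := d40_1 D690 (iv D485) (iv F2543)
theorem F3605 : act 7 n690 = n478 := d42_1 D690 (iv D478) (iv F2544)
theorem F3606 : act 9 n690 = n690 := d44_2 D477 D690 (iv D690) (iv D477) F1796
def n691 : Q := act 5 n478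
theorem D691 : act 5 n478 = n691 := rfl
theorem F3607 : act 0 n691 = n691 := d4_1 D691 (iv D691) F2545
theorem F3608 : act 2 n691 = n691 := d19_1 D691 (iv D691) F2546
theorem F3609 : act 3 n691 = n502 := d25_1 D691 (iv D502) (iv F2547)
theorem F3610 : act 6 n691 = n691 := d35_2 (iv F2548) D691 (iv D691) F2548 F1804
theorem F3611 : act 9 n691 = n691 := d38_2 F2549 D691 (iv D691)
def n692 : Q := act 6 n479
theorem D692 : act 6 n479 = n692 := rfl
theorem F3612 : act 0 n692 = n692 := d5_1 D692 (iv D692) F2550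
theorem F3613 : act 2 n692 = n692 := d20_1 D692 (iv D692) F2551
theorem F3614 : act 3 n692 = n692 := d26_1 D692 (iv D692) F2552
theorem F3615 : act 4 n692 = n692 := d31_1 D692 (iv D692) F2553
theorem F3616 : act 7 n692 = n692 := d39_2 D479 D692 (iv D692) (iv D479) F1811
def n693 : Q := act 8 n479
theorem D693 : act 8 n479 = n693 := rfl
theorem F3621 : act 5 n693 = n693 := d37_1 D693 (iv D693) F2554 F1816 (iv F2554)
theorem F3622 : act 7 n693 = n480 := d42_1 D693 (iv D480) D479
def n697 : Q := act 8 n482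
theorem D697 : act 8 n482 = n697 := rfl
theorem F3640 : act 0 n697 = n697 := d7_1 D697 (iv D697) F2567
theorem F3641 : act 2 n697 = n697 := d22_1 D697 (iv D697) F2568
theorem F3642 : act 3 n697 = n697 := d28_1 D697 (iv D697) F2569
theorem F3643 : act 4 n697 = n485 := d33_1 D697 (iv D485) (iv F2570)
theorem F3644 : act 7 n697 = n483 := d42_1 D697 (iv D483) (iv F2571)
theorem F3645 : act 9 n697 = n697 := d44_2 D482 D697 (iv D697) (iv D482) F1816
def n698 : Q := act 5 n483
theorem D698 : act 5 n483 = n698 := rfl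
def n699 : Q := act 6 n484
theorem D699 : act 6 n484 = n699 := rfl
def n700 : Q := act 5 n485
theorem D700 : act 5 n485 = n700 := rfl
theorem F3656 : act 0 n700 = n700 := d4_1 D700 (iv D700) F2584
theorem F3657 : act 2 n700 = n700 := d19_1 D700 (iv D700) F2585
theorem F3658 : act 3 n700 = n503 := d25_1 D700 (iv D503) (iv F2586)
theorem F3659 : act 7 n700 = n486 := d36_2 (iv F2587) D700 (iv D486)
theorem F3660 : act 8 n700 = n700 := d37_2 D485 D700 (iv D700) (iv D485) F1830
theorem F3661 : act 9 n700 = n700 := d38_2 F2588 D700 (iv D700)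
def n701 : Q := act 4 n486
theorem D701 : act 4 n486 = n701 := rfl
def n702 : Q := act 2 n487
theorem D702 : act 2 n487 = n702 := rfl
theorem F3667 : act 0 n702 = n702 := d1_1 D702 (iv D702) F2595
theorem F3668 : act 3 n702 = n509 := d17_2 D487 D702 (iv D509) (iv D353) (iv F1838)
theorem F3669 : act 5 n702 = n702 := d19_2 F2596 D702 (iv D702)
theorem F3670 : act 7 n702 = n702 := d21_2 F2597 D702 (iv D702)
theorem F3671 : act 8 n702 = n493 := d22_2 (iv F2598) D702 (iv D493)
def n703 : Q := act 6 n487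
theorem D703 : act 6 n487 = n703 := rfl
theorem F3672 : act 0 n703 = n703 := d5_1 D703 (iv D703) F2595
theorem F3673 : act 3 n703 = n488 := d26_1 D703 (iv D488) D487
theorem F3674 : act 8 n703 = n494 := d40_2 (iv F2598) D703 (iv D494)
def n704 : Q := act 9 n487
theorem D704 : act 9 n487 = n704 := rfl
theorem F3675 : act 0 n704 = n704 := d8_1 D704 (iv D704) F2595
theorem F3676 : act 3 n704 = n489 := d29_1 D704 (iv D489) D487
theorem F3677 : act 5 n704 = n704 := d38_1 D704 (iv D704) F2596
theorem F3678 : act 7 n704 = n704 := d43_1 D704 (iv D704) F2597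
def n705 : Q := act 5 n488
theorem D705 : act 5 n488 = n705 := rfl
theorem F3679 : act 0 n705 = n705 := d4_1 D705 (iv D705) F2599
theorem F3680 : act 2 n705 = n512 := d19_1 D705 (iv D512) (iv F2600)
theorem F3681 : act 4 n705 = n705 := d30_1 D705 (iv D705) F2601 F1844 (iv F2601)
theorem F3682 : act 6 n705 = n705 := d35_2 D488 D705 (iv D705) (iv D488) F1839
theorem F3683 : act 8 n705 = n705 := d37_2 (iv F2602) D705 (iv D705) F2602 F1856
def n706 : Q := act 7 n488
theorem D706 : act 7 n488 = n706 := rfl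
theorem F3684 : act 0 n706 = n706 := d6_1 D706 (iv D706) F2599
theorem F3685 : act 2 n706 = n513 := d21_1 D706 (iv D513) (iv F2600)
theorem F3686 : act 4 n706 = n490 := d32_1 D706 (iv D490) (iv F2601)
theorem F3687 : act 6 n706 = n706 := d39_1 D706 (iv D706) (iv D488) F1840 D488
theorem F3688 : act 8 n706 = n496 := d42_2 (iv F2602) D706 (iv D496)
def n707 : Q := act 9 n488
theorem D707 : act 9 n488 = n707 := rfl
theorem F3689 : act 0 n707 = n707 := d8_1 D707 (iv D707) F2599
theorem F3690 : act 2 n707 = n514 := d23_1 D707 (iv D514) (iv F2600)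
theorem F3691 : act 4 n707 = n491 := d34_1 D707 (iv D491) (iv F2601)
theorem F3692 : act 6 n707 = n489 := d41_1 D707 (iv D489) D488
def n708 : Q := act 8 n489
theorem D708 : act 8 n489 = n708 := rfl
theorem F3693 : act 0 n708 = n708 := d7_1 D708 (iv D708) F2603
theorem F3694 : act 2 n708 = n515 := d22_1 D708 (iv D515) (iv F2604)
theorem F3695 : act 4 n708 = n492 := d33_1 D708 (iv D492) (iv F2605)
theorem F3696 : act 7 n708 = n708 := d42_1 D708 (iv D708) F2607
theorem F3697 : act 9 n708 = n498 := d44_2 D489 D708 (iv D498) (iv D342) (iv F1841)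
def n709 : Q := act 9 n490
theorem D709 : act 9 n490 = n709 := rfl
theorem F3698 : act 0 n709 = n709 := d8_1 D709 (iv D709) F2608
theorem F3699 : act 2 n709 = n516 := d23_1 D709 (iv D516) (iv F2609)
theorem F3700 : act 5 n709 = n709 := d38_1 D709 (iv D709) F2610
theorem F3701 : act 6 n709 = n709 := d41_1 D709 (iv D709) F2611
theorem F3702 : act 7 n709 = n491 := d43_1 D709 (iv D491) D490
def n710 : Q := act 8 n491
theorem D710 : act 8 n491 = n710 := rfl
theorem F3703 : act 0 n710 = n710 := d7_1 D710 (iv D710) F2613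
theorem F3704 : act 2 n710 = n517 := d22_1 D710 (iv D517) (iv F2614)
theorem F3705 : act 6 n710 = n492 := d40_1 D710 (iv D492) (iv F2616)
theorem F3706 : act 9 n710 = n500 := d44_2 D491 D710 (iv D500) (iv D344) (iv F1845)
def n711 : Q := act 1 n493
theorem D711 : act 1 n493 = n711 := rfl
theorem F3707 : act 3 n711 = n518 := d10_2 (iv F2623) D711 (iv D518)
theorem F3708 : act 5 n711 = n505 := d12_2 (iv F2624) D711 (iv D505)
theorem F3709 : act 7 n711 = n711 := d14_2 F2625 D711 (iv D711)
def n712 : Q := act 6 n493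
theorem D712 : act 6 n493 = n712 := rfl
theorem F3710 : act 0 n712 = n712 := d5_1 D712 (iv D712) F2622
theorem F3711 : act 2 n712 = n494 := d20_1 D712 (iv D494) D493
theorem F3712 : act 3 n712 = n519 := d26_1 D712 (iv D519) (iv F2623)
theorem F3713 : act 5 n712 = n712 := d35_1 D712 (iv D712) F2624 F1897 (iv F2624)
def n713 : Q := act 9 n493
theorem D713 : act 9 n493 = n713 := rfl
theorem F3714 : act 0 n713 = n713 := d8_1 D713 (iv D713) F2622
theorem F3715 : act 2 n713 = n495 := d23_1 D713 (iv D495) D493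
theorem F3716 : act 3 n713 = n520 := d29_1 D713 (iv D520) (iv F2623)
theorem F3717 : act 5 n713 = n506 := d38_1 D713 (iv D506) (iv F2624)
theorem F3718 : act 7 n713 = n713 := d43_1 D713 (iv D713) F2625
def n714 : Q := act 7 n494
theorem D714 : act 7 n494 = n714 := rfl
theorem F3719 : act 0 n714 = n714 := d6_1 D714 (iv D714) F2626
theorem F3720 : act 3 n714 = n496 := d27_1 D714 (iv D496) (iv F2627)
theorem F3721 : act 5 n714 = n714 := d36_1 D714 (iv D714) F2628
theorem F3722 : act 6 n714 = n714 := d39_1 D714 (iv D714) (iv D494) F1852 D494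
def n715 : Q := act 9 n494
theorem D715 : act 9 n494 = n715 := rfl
theorem F3723 : act 0 n715 = n715 := d8_1 D715 (iv D715) F2626
theorem F3724 : act 3 n715 = n497 := d29_1 D715 (iv D497) (iv F2627)
theorem F3725 : act 5 n715 = n715 := d38_1 D715 (iv D715) F2628
theorem F3726 : act 6 n715 = n495 := d41_1 D715 (iv D495) D494
def n716 : Q := act 8 n495
theorem D716 : act 8 n495 = n716 := rfl
theorem F3727 : act 0 n716 = n716 := d7_1 D716 (iv D716) F2629
theorem F3728 : act 3 n716 = n498 := d28_1 D716 (iv D498) (iv F2630)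
theorem F3729 : act 7 n716 = n716 := d42_1 D716 (iv D716) F2632
def n717 : Q := act 9 n496
theorem D717 : act 9 n496 = n717 := rfl
theorem F3730 : act 0 n717 = n717 := d8_1 D717 (iv D717) F2633
theorem F3731 : act 2 n717 = n524 := d23_1 D717 (iv D524) (iv F2634)
theorem F3732 : act 4 n717 = n499 := d34_1 D717 (iv D499) (iv F2635)
theorem F3733 : act 5 n717 = n717 := d38_1 D717 (iv D717) F2636
theorem F3734 : act 6 n717 = n717 := d41_1 D717 (iv D717) F2637
theorem F3735 : act 7 n717 = n497 := d43_1 D717 (iv D497) D496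
def n718 : Q := act 8 n497
theorem D718 : act 8 n497 = n718 := rfl
theorem F3736 : act 0 n718 = n718 := d7_1 D718 (iv D718) F2638
theorem F3737 : act 2 n718 = n525 := d22_1 D718 (iv D525) (iv F2639)
theorem F3738 : act 4 n718 = n500 := d33_1 D718 (iv D500) (iv F2640)
theorem F3739 : act 6 n718 = n498 := d40_1 D718 (iv D498) (iv F2642)
def n719 : Q := act 5 n498
theorem D719 : act 5 n498 = n719 := rfl
theorem F3740 : act 0 n719 = n719 := d4_1 D719 (iv D719) F2643
theorem F3741 : act 2 n719 = n526 := d19_1 D719 (iv D526) (iv F2644)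
theorem F3742 : act 4 n719 = n719 := d30_1 D719 (iv D719) F2645 F1872 (iv F2645)
theorem F3743 : act 7 n719 = n719 := d36_2 F2646 D719 (iv D719)
theorem F3744 : act 8 n719 = n508 := d37_2 D498 D719 (iv D508) (iv D352) (iv F1860)
def n720 : Q := act 8 n499
theorem D720 : act 8 n499 = n720 := rfl
theorem F3745 : act 0 n720 = n720 := d7_1 D720 (iv D720) F2647
theorem F3746 : act 2 n720 = n527 := d22_1 D720 (iv D527) (iv F2648)
theorem F3747 : act 6 n720 = n720 := d40_1 D720 (iv D720) F2650
theorem F3748 : act 7 n720 = n500 := d42_1 D720 (iv D500) (iv F2651)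
def n721 : Q := act 5 n500
theorem D721 : act 5 n500 = n721 := rfl
theorem F3749 : act 0 n721 = n721 := d4_1 D721 (iv D721) F2652
theorem F3750 : act 2 n721 = n528 := d19_1 D721 (iv D528) (iv F2653)
theorem F3751 : act 6 n721 = n721 := d35_2 (iv F2654) D721 (iv D721) F2654 F1872
theorem F3752 : act 8 n721 = n502 := d37_2 D500 D721 (iv D502) (iv D347) (iv F1868)
def n722 : Q := act 5 n501
theorem D722 : act 5 n501 = n722 := rfl
theorem F3753 : act 0 n722 = n722 := d4_1 D722 (iv D722) F2655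
theorem F3754 : act 2 n722 = n529 := d19_1 D722 (iv D529) (iv F2656)
theorem F3755 : act 7 n722 = n502 := d36_2 (iv F2659) D722 (iv D502)
theorem F3756 : act 9 n722 = n722 := d38_2 F2660 D722 (iv D722)
def n723 : Q := act 4 n502
theorem D723 : act 4 n502 = n723 := rfl
theorem F3757 : act 0 n723 = n723 := d3_1 D723 (iv D723) F2661
theorem F3758 : act 2 n723 = n530 := d18_1 D723 (iv D530) (iv F2662)
theorem F3759 : act 5 n723 = n723 := d30_2 D502 D723 (iv D723) (iv D502) F1881
theorem F3760 : act 6 n723 = n723 := d31_2 F2663 D723 (iv D723)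
theorem F3761 : act 9 n723 = n723 := d34_2 F2664 D723 (iv D723)
def n724 : Q := act 4 n503
theorem D724 : act 4 n503 = n724 := rfl
theorem F3762 : act 0 n724 = n724 := d3_1 D724 (iv D724) F2665
theorem F3763 : act 2 n724 = n531 := d18_1 D724 (iv D531) (iv F2666)
theorem F3764 : act 5 n724 = n724 := d30_2 D503 D724 (iv D724) (iv D503) F1886
theorem F3765 : act 7 n724 = n504 := d32_2 (iv F2667) D724 (iv D504)
theorem F3766 : act 8 n724 = n724 := d33_2 F2668 D724 (iv D724)
theorem F3767 : act 9 n724 = n724 := d34_2 F2669 D724 (iv D724)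
def n725 : Q := act 6 n503
theorem D725 : act 6 n503 = n725 := rfl
theorem F3768 : act 0 n725 = n725 := d5_1 D725 (iv D725) F2665
theorem F3769 : act 2 n725 = n532 := d20_1 D725 (iv D532) (iv F2666)
theorem F3770 : act 7 n725 = n725 := d39_2 (iv F2667) D725 (iv D725) F2667 F1891
theorem F3771 : act 8 n725 = n725 := d40_2 F2668 D725 (iv D725)
theorem F3772 : act 9 n725 = n725 := d41_2 F2669 D725 (iv D725)
def n726 : Q := act 3 n504
theorem D726 : act 3 n504 = n726 := rfl
def n727 : Q := act 0 n505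
theorem D727 : act 0 n505 = n727 := rfl
theorem F3778 : act 1 n727 = n727 := d0_2 D505 D727 (iv D727) (iv D505) F1894
theorem F3779 : act 3 n727 = n534 := d2_2 (iv F2676) D727 (iv D534)
theorem F3780 : act 4 n727 = n727 := d3_2 F2677 D727 (iv D727)
theorem F3781 : act 6 n727 = n727 := d5_2 F2678 D727 (iv D727)
theorem F3782 : act 7 n727 = n727 := d6_2 F2679 D727 (iv D727)
theorem F3783 : act 8 n727 = n727 := d7_2 F2680 D727 (iv D727)
def n728 : Q := act 9 n505
theorem D728 : act 9 n505 = n728 := rfl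
theorem F3784 : act 1 n728 = n506 := d16_1 D728 (iv D506) D505
theorem F3785 : act 3 n728 = n535 := d29_1 D728 (iv D535) (iv F2676)
theorem F3786 : act 4 n728 = n728 := d34_1 D728 (iv D728) F2677
theorem F3787 : act 6 n728 = n728 := d41_1 D728 (iv D728) F2678
theorem F3788 : act 7 n728 = n728 := d43_1 D728 (iv D728) F2679
def n729 : Q := act 8 n506
theorem D729 : act 8 n506 = n729 := rfl
theorem F3789 : act 0 n729 = n729 := d7_1 D729 (iv D729) F2681
theorem F3790 : act 2 n729 = n507 := d22_1 D729 (iv D507) (iv F2682)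
theorem F3791 : act 3 n729 = n536 := d28_1 D729 (iv D536) (iv F2683)
theorem F3792 : act 4 n729 = n729 := d33_1 D729 (iv D729) F2684
theorem F3793 : act 6 n729 = n729 := d40_1 D729 (iv D729) F2685
theorem F3794 : act 7 n729 = n729 := d42_1 D729 (iv D729) F2686
theorem F3795 : act 9 n729 = n729 := d44_2 D506 D729 (iv D729) (iv D506) F1899
def n730 : Q := act 5 n507
theorem D730 : act 5 n507 = n730 := rfl
theorem F3796 : act 0 n730 = n730 := d4_1 D730 (iv D730) F2687
theorem F3797 : act 3 n730 = n508 := d25_1 D730 (iv D508) (iv F2688)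
theorem F3798 : act 7 n730 = n730 := d36_2 F2691 D730 (iv D730)
theorem F3799 : act 9 n730 = n730 := d38_2 F2692 D730 (iv D730)
def n731 : Q := act 6 n508
theorem D731 : act 6 n508 = n731 := rfl
theorem F3800 : act 0 n731 = n731 := d5_1 D731 (iv D731) F2693
theorem F3801 : act 2 n731 = n538 := d20_1 D731 (iv D538) (iv F2694)
theorem F3802 : act 4 n731 = n731 := d31_1 D731 (iv D731) F2695
theorem F3803 : act 5 n731 = n731 := d35_1 D731 (iv D731) (iv D508) F1908 D508
theorem F3804 : act 9 n731 = n731 := d41_2 F2697 D731 (iv D731)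
def n732 : Q := act 1 n509
theorem D732 : act 1 n509 = n732 := rfl
theorem F3805 : act 2 n732 = n732 := d9_2 D509 D732 (iv D732) (iv D509) F1912
theorem F3806 : act 4 n732 = n732 := d11_2 F2699 D732 (iv D732)
theorem F3807 : act 5 n732 = n732 := d12_2 F2700 D732 (iv D732)
theorem F3808 : act 7 n732 = n732 := d14_2 F2701 D732 (iv D732)
theorem F3809 : act 8 n732 = n518 := d15_2 (iv F2702) D732 (iv D518)
def n733 : Q := act 6 n509
theorem D733 : act 6 n509 = n733 := rfl
theorem F3810 : act 0 n733 = n733 := d5_1 D733 (iv D733) F2698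
theorem F3811 : act 2 n733 = n510 := d20_1 D733 (iv D510) D509
theorem F3812 : act 4 n733 = n733 := d31_1 D733 (iv D733) F2699
theorem F3813 : act 8 n733 = n519 := d40_2 (iv F2702) D733 (iv D519)
def n734 : Q := act 9 n509
theorem D734 : act 9 n509 = n734 := rfl
theorem F3814 : act 0 n734 = n734 := d8_1 D734 (iv D734) F2698
theorem F3815 : act 2 n734 = n511 := d23_1 D734 (iv D511) D509
theorem F3816 : act 4 n734 = n734 := d34_1 D734 (iv D734) F2699
theorem F3817 : act 5 n734 = n734 := d38_1 D734 (iv D734) F2700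
theorem F3818 : act 7 n734 = n734 := d43_1 D734 (iv D734) F2701
def n735 : Q := act 5 n510
theorem D735 : act 5 n510 = n735 := rfl
theorem F3819 : act 0 n735 = n735 := d4_1 D735 (iv D735) F2703
theorem F3820 : act 1 n735 = n735 := d12_1 D735 (iv D735) F2704
theorem F3821 : act 3 n735 = n512 := d25_1 D735 (iv D512) (iv F2705)
theorem F3822 : act 6 n735 = n735 := d35_2 D510 D735 (iv D735) (iv D510) F1914
theorem F3823 : act 8 n735 = n735 := d37_2 (iv F2707) D735 (iv D735) F2707 F1951
def n736 : Q := act 7 n510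
theorem D736 : act 7 n510 = n736 := rfl
theorem F3824 : act 0 n736 = n736 := d6_1 D736 (iv D736) F2703
theorem F3825 : act 1 n736 = n736 := d14_1 D736 (iv D736) F2704
theorem F3826 : act 3 n736 = n513 := d27_1 D736 (iv D513) (iv F2705)
theorem F3827 : act 4 n736 = n736 := d32_1 D736 (iv D736) F2706
theorem F3828 : act 6 n736 = n736 := d39_1 D736 (iv D736) (iv D510) F1915 D510
theorem F3829 : act 8 n736 = n521 := d42_2 (iv F2707) D736 (iv D521)
def n737 : Q := act 9 n510
theorem D737 : act 9 n510 = n737 := rfl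
theorem F3830 : act 0 n737 = n737 := d8_1 D737 (iv D737) F2703
theorem F3831 : act 1 n737 = n737 := d16_1 D737 (iv D737) F2704
theorem F3832 : act 3 n737 = n514 := d29_1 D737 (iv D514) (iv F2705)
theorem F3833 : act 4 n737 = n737 := d34_1 D737 (iv D737) F2706
theorem F3834 : act 6 n737 = n511 := d41_1 D737 (iv D511) D510
def n738 : Q := act 8 n511
theorem D738 : act 8 n511 = n738 := rfl
theorem F3835 : act 0 n738 = n738 := d7_1 D738 (iv D738) F2708
theorem F3836 : act 1 n738 = n738 := d15_1 D738 (iv D738) F2709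
theorem F3837 : act 3 n738 = n515 := d28_1 D738 (iv D515) (iv F2710)
theorem F3838 : act 4 n738 = n738 := d33_1 D738 (iv D738) F2711
theorem F3839 : act 7 n738 = n738 := d42_1 D738 (iv D738) F2713
theorem F3840 : act 9 n738 = n523 := d44_2 D511 D738 (iv D523) (iv D361) (iv F1916)
def n739 : Q := act 7 n512
theorem D739 : act 7 n512 = n739 := rfl
theorem F3841 : act 0 n739 = n739 := d6_1 D739 (iv D739) F2714
theorem F3842 : act 1 n739 = n739 := d14_1 D739 (iv D739) F2715
theorem F3843 : act 4 n739 = n739 := d32_1 D739 (iv D739) F2716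
theorem F3844 : act 5 n739 = n513 := d36_1 D739 (iv D513) D512
theorem F3845 : act 8 n739 = n739 := d42_2 F2718 D739 (iv D739)
def n740 : Q := act 9 n512
theorem D740 : act 9 n512 = n740 := rfl
theorem F3846 : act 0 n740 = n740 := d8_1 D740 (iv D740) F2714
theorem F3847 : act 1 n740 = n740 := d16_1 D740 (iv D740) F2715
theorem F3848 : act 4 n740 = n740 := d34_1 D740 (iv D740) F2716
theorem F3849 : act 5 n740 = n514 := d38_1 D740 (iv D514) D512
theorem F3850 : act 6 n740 = n740 := d41_1 D740 (iv D740) F2717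
def n741 : Q := act 9 n513
theorem D741 : act 9 n513 = n741 := rfl
theorem F3851 : act 0 n741 = n741 := d8_1 D741 (iv D741) F2719
theorem F3852 : act 1 n741 = n741 := d16_1 D741 (iv D741) F2720
theorem F3853 : act 4 n741 = n516 := d34_1 D741 (iv D516) (iv F2721)
theorem F3854 : act 6 n741 = n741 := d41_1 D741 (iv D741) F2722
theorem F3855 : act 7 n741 = n514 := d43_1 D741 (iv D514) D513
def n742 : Q := act 8 n514
theorem D742 : act 8 n514 = n742 := rfl
theorem F3856 : act 0 n742 = n742 := d7_1 D742 (iv D742) F2724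
theorem F3857 : act 1 n742 = n742 := d15_1 D742 (iv D742) F2725
theorem F3858 : act 4 n742 = n517 := d33_1 D742 (iv D517) (iv F2726)
theorem F3859 : act 6 n742 = n515 := d40_1 D742 (iv D515) (iv F2727)
theorem F3860 : act 9 n742 = n525 := d44_2 D514 D742 (iv D525) (iv D363) (iv F1920)
def n743 : Q := act 5 n515
theorem D743 : act 5 n515 = n743 := rfl
theorem F3861 : act 0 n743 = n743 := d4_1 D743 (iv D743) F2728
theorem F3862 : act 1 n743 = n743 := d12_1 D743 (iv D743) F2729
theorem F3863 : act 4 n743 = n743 := d30_1 D743 (iv D743) F2730 F1940 (iv F2730)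
theorem F3864 : act 7 n743 = n743 := d36_2 F2731 D743 (iv D743)
theorem F3865 : act 8 n743 = n743 := d37_2 D515 D743 (iv D743) (iv D515) F1924
theorem F3866 : act 9 n743 = n526 := d38_2 (iv F2732) D743 (iv D526)
def n744 : Q := act 8 n516
theorem D744 : act 8 n516 = n744 := rfl
theorem F3867 : act 0 n744 = n744 := d7_1 D744 (iv D744) F2733
theorem F3868 : act 1 n744 = n744 := d15_1 D744 (iv D744) F2734
theorem F3869 : act 3 n744 = n744 := d28_1 D744 (iv D744) F2735
theorem F3870 : act 6 n744 = n744 := d40_1 D744 (iv D744) F2737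
theorem F3871 : act 7 n744 = n517 := d42_1 D744 (iv D517) (iv F2738)
theorem F3872 : act 9 n744 = n527 := d44_2 D516 D744 (iv D527) (iv D365) (iv F1931)
def n745 : Q := act 5 n517
theorem D745 : act 5 n517 = n745 := rfl
theorem F3873 : act 0 n745 = n745 := d4_1 D745 (iv D745) F2739
theorem F3874 : act 1 n745 = n745 := d12_1 D745 (iv D745) F2740
theorem F3875 : act 3 n745 = n745 := d25_1 D745 (iv D745) F2741
theorem F3876 : act 6 n745 = n745 := d35_2 (iv F2742) D745 (iv D745) F2742 F1940
theorem F3877 : act 8 n745 = n745 := d37_2 D517 D745 (iv D745) (iv D517) F1935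
theorem F3878 : act 9 n745 = n528 := d38_2 (iv F2743) D745 (iv D528)
def n746 : Q := act 0 n518
theorem D746 : act 0 n518 = n746 := rfl
theorem F3879 : act 1 n746 = n746 := d0_2 D518 D746 (iv D746) (iv D518) F1943
theorem F3880 : act 2 n746 = n746 := d1_2 F2744 D746 (iv D746)
theorem F3881 : act 4 n746 = n746 := d3_2 F2745 D746 (iv D746)
theorem F3882 : act 5 n746 = n534 := d4_2 (iv F2746) D746 (iv D534)
theorem F3883 : act 7 n746 = n746 := d6_2 F2747 D746 (iv D746)
def n747 : Q := act 6 n518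
theorem D747 : act 6 n518 = n747 := rfl
theorem F3884 : act 1 n747 = n519 := d13_1 D747 (iv D519) D518
theorem F3885 : act 2 n747 = n747 := d20_1 D747 (iv D747) F2744
theorem F3886 : act 4 n747 = n747 := d31_1 D747 (iv D747) F2745
theorem F3887 : act 5 n747 = n747 := d35_1 D747 (iv D747) F2746 F2008 (iv F2746)
def n748 : Q := act 9 n518
theorem D748 : act 9 n518 = n748 := rfl
theorem F3888 : act 1 n748 = n520 := d16_1 D748 (iv D520) D518
theorem F3889 : act 2 n748 = n748 := d23_1 D748 (iv D748) F2744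
theorem F3890 : act 4 n748 = n748 := d34_1 D748 (iv D748) F2745
theorem F3891 : act 5 n748 = n535 := d38_1 D748 (iv D535) (iv F2746)
theorem F3892 : act 7 n748 = n748 := d43_1 D748 (iv D748) F2747
def n749 : Q := act 7 n519
theorem D749 : act 7 n519 = n749 := rfl
theorem F3893 : act 0 n749 = n749 := d6_1 D749 (iv D749) F2748
theorem F3894 : act 2 n749 = n521 := d21_1 D749 (iv D521) (iv F2749)
theorem F3895 : act 4 n749 = n749 := d32_1 D749 (iv D749) F2750
theorem F3896 : act 5 n749 = n749 := d36_1 D749 (iv D749) F2751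
theorem F3897 : act 6 n749 = n749 := d39_1 D749 (iv D749) (iv D519) F1946 D519
def n750 : Q := act 9 n519
theorem D750 : act 9 n519 = n750 := rfl
theorem F3898 : act 0 n750 = n750 := d8_1 D750 (iv D750) F2748
theorem F3899 : act 2 n750 = n522 := d23_1 D750 (iv D522) (iv F2749)
theorem F3900 : act 4 n750 = n750 := d34_1 D750 (iv D750) F2750
theorem F3901 : act 5 n750 = n750 := d38_1 D750 (iv D750) F2751
theorem F3902 : act 6 n750 = n520 := d41_1 D750 (iv D520) D519
def n751 : Q := act 8 n520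
theorem D751 : act 8 n520 = n751 := rfl
theorem F3903 : act 0 n751 = n751 := d7_1 D751 (iv D751) F2752
theorem F3904 : act 2 n751 = n523 := d22_1 D751 (iv D523) (iv F2753)
theorem F3905 : act 4 n751 = n751 := d33_1 D751 (iv D751) F2754
theorem F3906 : act 7 n751 = n751 := d42_1 D751 (iv D751) F2756
def n752 : Q := act 9 n521
theorem D752 : act 9 n521 = n752 := rfl
theorem F3907 : act 0 n752 = n752 := d8_1 D752 (iv D752) F2757
theorem F3908 : act 1 n752 = n752 := d16_1 D752 (iv D752) F2758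
theorem F3909 : act 3 n752 = n524 := d29_1 D752 (iv D524) (iv F2759)
theorem F3910 : act 4 n752 = n752 := d34_1 D752 (iv D752) F2760
theorem F3911 : act 5 n752 = n752 := d38_1 D752 (iv D752) F2761
theorem F3912 : act 6 n752 = n752 := d41_1 D752 (iv D752) F2762
theorem F3913 : act 7 n752 = n522 := d43_1 D752 (iv D522) D521
def n753 : Q := act 8 n522
theorem D753 : act 8 n522 = n753 := rfl
theorem F3914 : act 0 n753 = n753 := d7_1 D753 (iv D753) F2763
theorem F3915 : act 1 n753 = n753 := d15_1 D753 (iv D753) F2764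
theorem F3916 : act 3 n753 = n525 := d28_1 D753 (iv D525) (iv F2765)
theorem F3917 : act 4 n753 = n753 := d33_1 D753 (iv D753) F2766
theorem F3918 : act 6 n753 = n523 := d40_1 D753 (iv D523) (iv F2768)
def n754 : Q := act 5 n523
theorem D754 : act 5 n523 = n754 := rfl
theorem F3919 : act 0 n754 = n754 := d4_1 D754 (iv D754) F2769
theorem F3920 : act 1 n754 = n754 := d12_1 D754 (iv D754) F2770
theorem F3921 : act 3 n754 = n526 := d25_1 D754 (iv D526) (iv F2771)
theorem F3922 : act 7 n754 = n754 := d36_2 F2773 D754 (iv D754)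
theorem F3923 : act 8 n754 = n537 := d37_2 D523 D754 (iv D537) (iv D373) (iv F1956)
def n755 : Q := act 8 n524
theorem D755 : act 8 n524 = n755 := rfl
theorem F3924 : act 0 n755 = n755 := d7_1 D755 (iv D755) F2774
theorem F3925 : act 1 n755 = n755 := d15_1 D755 (iv D755) F2775
theorem F3926 : act 4 n755 = n527 := d33_1 D755 (iv D527) (iv F2776)
theorem F3927 : act 6 n755 = n755 := d40_1 D755 (iv D755) F2778
theorem F3928 : act 7 n755 = n525 := d42_1 D755 (iv D525) (iv F2779)
def n756 : Q := act 5 n525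
theorem D756 : act 5 n525 = n756 := rfl
theorem F3929 : act 0 n756 = n756 := d4_1 D756 (iv D756) F2780
theorem F3930 : act 1 n756 = n756 := d12_1 D756 (iv D756) F2781
theorem F3931 : act 8 n756 = n756 := d37_2 D525 D756 (iv D756) (iv D525) F1966
def n757 : Q := act 6 n526
theorem D757 : act 6 n526 = n757 := rfl
theorem F3932 : act 0 n757 = n757 := d5_1 D757 (iv D757) F2784
theorem F3933 : act 1 n757 = n757 := d13_1 D757 (iv D757) F2785
theorem F3934 : act 4 n757 = n757 := d31_1 D757 (iv D757) F2786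
theorem F3935 : act 8 n757 = n538 := d40_2 (iv F2788) D757 (iv D538)
def n758 : Q := act 5 n527
theorem D758 : act 5 n527 = n758 := rfl
theorem F3936 : act 0 n758 = n758 := d4_1 D758 (iv D758) F2789
theorem F3937 : act 1 n758 = n758 := d12_1 D758 (iv D758) F2790
theorem F3938 : act 3 n758 = n758 := d25_1 D758 (iv D758) F2791
theorem F3939 : act 7 n758 = n528 := d36_2 (iv F2793) D758 (iv D528)
theorem F3940 : act 8 n758 = n529 := d37_2 D527 D758 (iv D529) (iv D367) (iv F1975)
def n759 : Q := act 4 n528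
theorem D759 : act 4 n528 = n759 := rfl
theorem F3941 : act 0 n759 = n759 := d3_1 D759 (iv D759) F2794
theorem F3942 : act 1 n759 = n759 := d11_1 D759 (iv D759) F2795
theorem F3943 : act 6 n759 = n759 := d31_2 F2797 D759 (iv D759)
theorem F3944 : act 8 n759 = n530 := d33_2 (iv F2798) D759 (iv D530)
def n760 : Q := act 4 n529
theorem D760 : act 4 n529 = n760 := rfl
theorem F3945 : act 0 n760 = n760 := d3_1 D760 (iv D760) F2799
theorem F3946 : act 1 n760 = n760 := d11_1 D760 (iv D760) F2800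
theorem F3947 : act 5 n760 = n760 := d30_2 D529 D760 (iv D760) (iv D529) F1985
theorem F3948 : act 7 n760 = n530 := d32_2 (iv F2802) D760 (iv D530)
theorem F3949 : act 9 n760 = n760 := d34_2 F2803 D760 (iv D760)
def n761 : Q := act 6 n529
theorem D761 : act 6 n529 = n761 := rfl
theorem F3950 : act 0 n761 = n761 := d5_1 D761 (iv D761) F2799
theorem F3951 : act 1 n761 = n761 := d13_1 D761 (iv D761) F2800
theorem F3952 : act 3 n761 = n761 := d26_1 D761 (iv D761) F2801
theorem F3953 : act 5 n761 = n532 := d35_1 D761 (iv D532) (iv D369) (iv F1986) D529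
theorem F3954 : act 7 n761 = n761 := d39_2 (iv F2802) D761 (iv D761) F2802 F1992
theorem F3955 : act 9 n761 = n761 := d41_2 F2803 D761 (iv D761)
def n762 : Q := act 3 n530
theorem D762 : act 3 n530 = n762 := rfl
theorem F3956 : act 0 n762 = n762 := d2_1 D762 (iv D762) F2804
theorem F3957 : act 1 n762 = n762 := d10_1 D762 (iv D762) F2805
theorem F3958 : act 4 n762 = n762 := d24_2 D530 D762 (iv D762) (iv D530) F1991
theorem F3959 : act 5 n762 = n762 := d25_2 F2806 D762 (iv D762)
theorem F3960 : act 6 n762 = n762 := d26_2 F2807 D762 (iv D762)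
theorem F3961 : act 9 n762 = n762 := d29_2 F2808 D762 (iv D762)
def n763 : Q := act 3 n531
theorem D763 : act 3 n531 = n763 := rfl
theorem F3966 : act 7 n763 = n533 := d27_2 (iv F2812) D763 (iv D533)
def n764 : Q := act 6 n531
theorem D764 : act 6 n531 = n764 := rfl
theorem F3971 : act 4 n764 = n532 := d31_1 D764 (iv D532) D531
def n765 : Q := act 2 n533
theorem D765 : act 2 n533 = n765 := rfl
def n766 : Q := act 9 n534
theorem D766 : act 9 n534 = n766 := rfl
theorem F3981 : act 0 n766 = n535 := d8_1 D766 (iv D535) D534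
theorem F3982 : act 1 n766 = n766 := d16_1 D766 (iv D766) F2828
theorem F3983 : act 2 n766 = n766 := d23_1 D766 (iv D766) F2829
theorem F3984 : act 4 n766 = n539 := d34_1 D766 (iv D539) (iv F2830)
theorem F3985 : act 6 n766 = n766 := d41_1 D766 (iv D766) F2831
theorem F3986 : act 7 n766 = n766 := d43_1 D766 (iv D766) F2832
def n767 : Q := act 8 n535
theorem D767 : act 8 n535 = n767 := rfl
theorem F3987 : act 1 n767 = n536 := d15_1 D767 (iv D536) (iv F2834)
theorem F3988 : act 2 n767 = n767 := d22_1 D767 (iv D767) F2835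
theorem F3989 : act 4 n767 = n540 := d33_1 D767 (iv D540) (iv F2836)
theorem F3990 : act 6 n767 = n767 := d40_1 D767 (iv D767) F2837
theorem F3991 : act 7 n767 = n767 := d42_1 D767 (iv D767) F2838
theorem F3992 : act 9 n767 = n767 := d44_2 D535 D767 (iv D767) (iv D535) F2010
def n768 : Q := act 5 n536
theorem D768 : act 5 n536 = n768 := rfl
theorem F3993 : act 0 n768 = n768 := d4_1 D768 (iv D768) F2839
theorem F3994 : act 2 n768 = n537 := d19_1 D768 (iv D537) (iv F2840)
theorem F3995 : act 7 n768 = n768 := d36_2 F2843 D768 (iv D768)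
theorem F3996 : act 9 n768 = n768 := d38_2 F2844 D768 (iv D768)
def n769 : Q := act 4 n537
theorem D769 : act 4 n537 = n769 := rfl
theorem F3999 : act 3 n769 = n769 := d24_1 D769 (iv D769) F2847 F2025 (iv F2847)
theorem F4000 : act 5 n769 = n542 := d30_2 D537 D769 (iv D542) (iv D378) (iv F2019)
def n770 : Q := act 6 n537
theorem D770 : act 6 n537 = n770 := rfl
theorem F4005 : act 3 n770 = n538 := d26_1 D770 (iv D538) (iv F2847)
def n771 : Q := act 7 n538
theorem D771 : act 7 n538 = n771 := rfl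
def n772 : Q := act 8 n539
theorem D772 : act 8 n539 = n772 := rfl
theorem F4014 : act 0 n772 = n540 := d7_1 D772 (iv D540) (iv F2855)
theorem F4015 : act 1 n772 = n772 := d15_1 D772 (iv D772) F2856
theorem F4016 : act 2 n772 = n772 := d22_1 D772 (iv D772) F2857
theorem F4017 : act 3 n772 = n772 := d28_1 D772 (iv D772) F2858
theorem F4018 : act 6 n772 = n772 := d40_1 D772 (iv D772) F2860
theorem F4019 : act 7 n772 = n772 := d42_1 D772 (iv D772) F2861
theorem F4020 : act 9 n772 = n772 := d44_2 D539 D772 (iv D772) (iv D539) F2034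
def n773 : Q := act 5 n540
theorem D773 : act 5 n540 = n773 := rfl
theorem F4021 : act 1 n773 = n541 := d12_1 D773 (iv D541) (iv F2862)
theorem F4022 : act 2 n773 = n773 := d19_1 D773 (iv D773) F2863
theorem F4023 : act 3 n773 = n773 := d25_1 D773 (iv D773) F2864
theorem F4024 : act 7 n773 = n773 := d36_2 F2866 D773 (iv D773)
theorem F4025 : act 8 n773 = n773 := d37_2 D540 D773 (iv D773) (iv D540) F2038
theorem F4026 : act 9 n773 = n773 := d38_2 F2867 D773 (iv D773)
def n774 : Q := act 4 n541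
theorem D774 : act 4 n541 = n774 := rfl
theorem F4028 : act 2 n774 = n542 := d18_1 D774 (iv D542) (iv F2869)
theorem F4029 : act 7 n774 = n774 := d32_2 F2871 D774 (iv D774)
theorem F4030 : act 8 n774 = n774 := d33_2 F2872 D774 (iv D774)
def n775 : Q := act 6 n541
theorem D775 : act 6 n541 = n775 := rfl
theorem F4035 : act 5 n775 = n775 := d35_1 D775 (iv D775) (iv D541) F2044 D541
def n776 : Q := act 6 n542
theorem D776 : act 6 n542 = n776 := rfl
theorem F4038 : act 0 n776 = n776 := d5_1 D776 (iv D776) F2874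
def n778 : Q := act 4 n545
theorem D778 : act 4 n545 = n778 := rfl
theorem F4051 : act 0 n778 = n778 := d3_1 D778 (iv D778) F2894
theorem F4052 : act 1 n778 = n552 := d11_1 D778 (iv D552) (iv F2895)
theorem F4053 : act 2 n778 = n778 := d18_1 D778 (iv D778) F2896
theorem F4054 : act 5 n778 = n778 := d30_2 D545 D778 (iv D778) (iv D545) F2064
theorem F4055 : act 6 n778 = n778 := d31_2 F2898 D778 (iv D778)
theorem F4056 : act 7 n778 = n778 := d32_2 F2899 D778 (iv D778)
theorem F4057 : act 9 n778 = n778 := d34_2 F2900 D778 (iv D778)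
def n779 : Q := act 8 n545
theorem D779 : act 8 n545 = n779 := rfl
theorem F4058 : act 0 n779 = n779 := d7_1 D779 (iv D779) F2894
theorem F4059 : act 1 n779 = n553 := d15_1 D779 (iv D553) (iv F2895)
theorem F4060 : act 2 n779 = n779 := d22_1 D779 (iv D779) F2896
theorem F4061 : act 3 n779 = n779 := d28_1 D779 (iv D779) F2897
theorem F4062 : act 6 n779 = n779 := d40_1 D779 (iv D779) F2898
theorem F4063 : act 7 n779 = n779 := d42_1 D779 (iv D779) F2899
def n780 : Q := act 5 n546
theorem D780 : act 5 n546 = n780 := rfl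
theorem F4064 : act 0 n780 = n780 := d4_1 D780 (iv D780) F2901
theorem F4065 : act 1 n780 = n554 := d12_1 D780 (iv D554) (iv F2902)
theorem F4066 : act 2 n780 = n780 := d19_1 D780 (iv D780) F2903
theorem F4067 : act 3 n780 = n780 := d25_1 D780 (iv D780) F2904
theorem F4068 : act 7 n780 = n780 := d36_2 F2907 D780 (iv D780)
def n781 : Q := act 9 n546
theorem D781 : act 9 n546 = n781 := rfl
theorem F4069 : act 0 n781 = n781 := d8_1 D781 (iv D781) F2901
theorem F4070 : act 1 n781 = n555 := d16_1 D781 (iv D555) (iv F2902)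
theorem F4071 : act 2 n781 = n781 := d23_1 D781 (iv D781) F2903
theorem F4072 : act 3 n781 = n781 := d29_1 D781 (iv D781) F2904
theorem F4073 : act 4 n781 = n781 := d34_1 D781 (iv D781) F2905
theorem F4074 : act 6 n781 = n548 := d41_1 D781 (iv D548) (iv F2906)
theorem F4075 : act 7 n781 = n781 := d43_1 D781 (iv D781) F2907
theorem F4076 : act 8 n781 = n781 := d44_1 D781 (iv D781) (iv D546) F2066 D546
def n782 : Q := act 4 n547
theorem D782 : act 4 n547 = n782 := rfl
def n783 : Q := act 6 n547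
theorem D783 : act 6 n547 = n783 := rfl
theorem F4084 : act 1 n783 = n557 := d13_1 D783 (iv D557) (iv F2909)
def n784 : Q := act 9 n547
theorem D784 : act 9 n547 = n784 := rfl
theorem F4089 : act 1 n784 = n558 := d16_1 D784 (iv D558) (iv F2909)
theorem F4092 : act 5 n784 = n548 := d38_1 D784 (iv D548) D547
def n785 : Q := act 3 n549
theorem D785 : act 3 n549 = n785 := rfl
theorem F4095 : act 1 n785 = n559 := d10_1 D785 (iv D559) (iv F2922)
def n786 : Q := act 6 n549
theorem D786 : act 6 n549 = n786 := rfl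
theorem F4100 : act 1 n786 = n560 := d13_1 D786 (iv D560) (iv F2922)
theorem F4102 : act 4 n786 = n550 := d31_1 D786 (iv D550) D549
def n787 : Q := act 9 n549
theorem D787 : act 9 n549 = n787 := rfl
theorem F4107 : act 4 n787 = n551 := d34_1 D787 (iv D551) D549
def n788 : Q := act 7 n550
theorem D788 : act 7 n550 = n788 := rfl
def n789 : Q := act 9 n550
theorem D789 : act 9 n550 = n789 := rfl
theorem F4120 : act 6 n789 = n551 := d41_1 D789 (iv D551) D550
def n790 : Q := act 8 n551
theorem D790 : act 8 n551 = n790 := rfl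
theorem F4122 : act 1 n790 = n564 := d15_1 D790 (iv D564) (iv F2933)
theorem F4125 : act 5 n790 = n790 := d37_1 D790 (iv D790) F2936 F2084 (iv F2936)
def n791 : Q := act 3 n552
theorem D791 : act 3 n552 = n791 := rfl
theorem F4127 : act 0 n791 = n598 := d2_1 D791 (iv D598) (iv F2937)
theorem F4128 : act 2 n791 = n791 := d17_1 D791 (iv D791) F2938 F2123 (iv F2938)
theorem F4129 : act 4 n791 = n791 := d24_2 D552 D791 (iv D791) (iv D552) F2087
theorem F4130 : act 5 n791 = n791 := d25_2 F2939 D791 (iv D791)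
theorem F4131 : act 6 n791 = n791 := d26_2 F2940 D791 (iv D791)
theorem F4132 : act 7 n791 = n791 := d27_2 F2941 D791 (iv D791)
theorem F4133 : act 9 n791 = n791 := d29_2 F2942 D791 (iv D791)
def n792 : Q := act 8 n552
theorem D792 : act 8 n552 = n792 := rfl
theorem F4134 : act 0 n792 = n599 := d7_1 D792 (iv D599) (iv F2937)
theorem F4135 : act 2 n792 = n565 := d22_1 D792 (iv D565) (iv F2938)
theorem F4136 : act 4 n792 = n553 := d33_1 D792 (iv D553) D552
theorem F4137 : act 6 n792 = n792 := d40_1 D792 (iv D792) F2940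
theorem F4138 : act 7 n792 = n792 := d42_1 D792 (iv D792) F2941
def n793 : Q := act 5 n553
theorem D793 : act 5 n553 = n793 := rfl
theorem F4139 : act 0 n793 = n600 := d4_1 D793 (iv D600) (iv F2943)
theorem F4140 : act 2 n793 = n566 := d19_1 D793 (iv D566) (iv F2944)
theorem F4141 : act 3 n793 = n793 := d25_1 D793 (iv D793) F2945
theorem F4142 : act 7 n793 = n793 := d36_2 F2947 D793 (iv D793)
theorem F4143 : act 8 n793 = n554 := d37_2 D553 D793 (iv D554) (iv D385) D384
def n794 : Q := act 9 n553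
theorem D794 : act 9 n553 = n794 := rfl
theorem F4144 : act 0 n794 = n601 := d8_1 D794 (iv D601) (iv F2943)
theorem F4145 : act 2 n794 = n567 := d23_1 D794 (iv D567) (iv F2944)
theorem F4146 : act 3 n794 = n794 := d29_1 D794 (iv D794) F2945
theorem F4147 : act 6 n794 = n794 := d41_1 D794 (iv D794) F2946
theorem F4148 : act 7 n794 = n794 := d43_1 D794 (iv D794) F2947
theorem F4149 : act 8 n794 = n794 := d44_1 D794 (iv D794) (iv D553) F2090 D553
def n795 : Q := act 4 n554
theorem D795 : act 4 n554 = n795 := rfl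
theorem F4150 : act 0 n795 = n602 := d3_1 D795 (iv D602) (iv F2948)
theorem F4151 : act 2 n795 = n568 := d18_1 D795 (iv D568) (iv F2949)
theorem F4152 : act 5 n795 = n795 := d30_2 D554 D795 (iv D795) (iv D554) F2094
theorem F4153 : act 7 n795 = n795 := d32_2 F2951 D795 (iv D795)
def n796 : Q := act 6 n554
theorem D796 : act 6 n554 = n796 := rfl
theorem F4154 : act 0 n796 = n603 := d5_1 D796 (iv D603) (iv F2948)
theorem F4155 : act 2 n796 = n569 := d20_1 D796 (iv D569) (iv F2949)
theorem F4156 : act 3 n796 = n796 := d26_1 D796 (iv D796) F2950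
theorem F4157 : act 5 n796 = n557 := d35_1 D796 (iv D557) (iv D386) (iv F2095) D554
def n797 : Q := act 9 n554
theorem D797 : act 9 n554 = n797 := rfl
theorem F4158 : act 0 n797 = n604 := d8_1 D797 (iv D604) (iv F2948)
theorem F4159 : act 2 n797 = n570 := d23_1 D797 (iv D570) (iv F2949)
theorem F4160 : act 3 n797 = n797 := d29_1 D797 (iv D797) F2950
theorem F4161 : act 5 n797 = n555 := d38_1 D797 (iv D555) D554
theorem F4162 : act 7 n797 = n797 := d43_1 D797 (iv D797) F2951
def n798 : Q := act 3 n556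
theorem D798 : act 3 n556 = n798 := rfl
theorem F4167 : act 7 n798 = n559 := d27_2 (iv F2962) D798 (iv D559)
def n799 : Q := act 6 n556
theorem D799 : act 6 n556 = n799 := rfl
theorem F4170 : act 2 n799 = n571 := d20_1 D799 (iv D571) (iv F2960)
theorem F4171 : act 4 n799 = n557 := d31_1 D799 (iv D557) D556
def n800 : Q := act 9 n556
theorem D800 : act 9 n556 = n800 := rfl
theorem F4174 : act 2 n800 = n572 := d23_1 D800 (iv D572) (iv F2960)
theorem F4175 : act 4 n800 = n558 := d34_1 D800 (iv D558) D556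
def n801 : Q := act 7 n557
theorem D801 : act 7 n557 = n801 := rfl
theorem F4179 : act 2 n801 = n573 := d21_1 D801 (iv D573) (iv F2965)
theorem F4181 : act 6 n801 = n562 := d39_1 D801 (iv D562) (iv D389) (iv F2100) D557
def n802 : Q := act 9 n557
theorem D802 : act 9 n557 = n802 := rfl
theorem F4183 : act 0 n802 = n609 := d8_1 D802 (iv D609) (iv F2964)
theorem F4184 : act 2 n802 = n574 := d23_1 D802 (iv D574) (iv F2965)
theorem F4185 : act 3 n802 = n802 := d29_1 D802 (iv D802) F2966
theorem F4186 : act 6 n802 = n558 := d41_1 D802 (iv D558) D557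
def n803 : Q := act 8 n558
theorem D803 : act 8 n558 = n803 := rfl
theorem F4187 : act 0 n803 = n610 := d7_1 D803 (iv D610) (iv F2968)
theorem F4188 : act 2 n803 = n575 := d22_1 D803 (iv D575) (iv F2969)
theorem F4189 : act 3 n803 = n803 := d28_1 D803 (iv D803) F2970
theorem F4190 : act 5 n803 = n803 := d37_1 D803 (iv D803) F2971 F2107 (iv F2971)
theorem F4191 : act 7 n803 = n564 := d42_1 D803 (iv D564) (iv F2972)
theorem F4192 : act 9 n803 = n803 := d44_2 D558 D803 (iv D803) (iv D558) F2101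
def n804 : Q := act 6 n559
theorem D804 : act 6 n559 = n804 := rfl
theorem F4193 : act 0 n804 = n611 := d5_1 D804 (iv D611) (iv F2973)
theorem F4195 : act 3 n804 = n560 := d26_1 D804 (iv D560) D559
def n805 : Q := act 9 n559
theorem D805 : act 9 n559 = n805 := rfl
theorem F4200 : act 3 n805 = n561 := d29_1 D805 (iv D561) D559
def n806 : Q := act 5 n560
theorem D806 : act 5 n560 = n806 := rfl
theorem F4204 : act 2 n806 = n576 := d19_1 D806 (iv D576) (iv F2979)
def n807 : Q := act 7 n560
theorem D807 : act 7 n560 = n807 := rfl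
theorem F4209 : act 4 n807 = n562 := d32_1 D807 (iv D562) (iv F2980)
def n809 : Q := act 8 n561
theorem D809 : act 8 n561 = n809 := rfl
theorem F4216 : act 2 n809 = n579 := d22_1 D809 (iv D579) (iv F2983)
theorem F4217 : act 4 n809 = n564 := d33_1 D809 (iv D564) (iv F2984)
def n810 : Q := act 9 n562
theorem D810 : act 9 n562 = n810 := rfl
theorem F4223 : act 7 n810 = n563 := d43_1 D810 (iv D563) D562
def n811 : Q := act 8 n563
theorem D811 : act 8 n563 = n811 := rfl
theorem F4225 : act 2 n811 = n581 := d22_1 D811 (iv D581) (iv F2992)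
theorem F4227 : act 6 n811 = n564 := d40_1 D811 (iv D564) (iv F2995)
def n812 : Q := act 5 n565
theorem D812 : act 5 n565 = n812 := rfl
theorem F4229 : act 0 n812 = n619 := d4_1 D812 (iv D619) (iv F3001)
theorem F4230 : act 1 n812 = n812 := d12_1 D812 (iv D812) F3002
theorem F4231 : act 3 n812 = n812 := d25_1 D812 (iv D812) F3003
theorem F4232 : act 7 n812 = n812 := d36_2 F3006 D812 (iv D812)
theorem F4233 : act 8 n812 = n812 := d37_2 D565 D812 (iv D812) (iv D565) F2124
def n813 : Q := act 9 n565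
theorem D813 : act 9 n565 = n813 := rfl
theorem F4234 : act 0 n813 = n620 := d8_1 D813 (iv D620) (iv F3001)
theorem F4235 : act 1 n813 = n813 := d16_1 D813 (iv D813) F3002
theorem F4236 : act 3 n813 = n813 := d29_1 D813 (iv D813) F3003
theorem F4237 : act 4 n813 = n567 := d34_1 D813 (iv D567) (iv F3004)
theorem F4238 : act 6 n813 = n813 := d41_1 D813 (iv D813) F3005
theorem F4239 : act 7 n813 = n813 := d43_1 D813 (iv D813) F3006
theorem F4240 : act 8 n813 = n813 := d44_1 D813 (iv D813) (iv D565) F2127 D565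
def n814 : Q := act 4 n566
theorem D814 : act 4 n566 = n814 := rfl
theorem F4241 : act 0 n814 = n621 := d3_1 D814 (iv D621) (iv F3007)
theorem F4242 : act 1 n814 = n814 := d11_1 D814 (iv D814) F3008
theorem F4243 : act 7 n814 = n814 := d32_2 F3010 D814 (iv D814)
theorem F4244 : act 8 n814 = n568 := d33_2 (iv F3011) D814 (iv D568)
def n815 : Q := act 6 n566
theorem D815 : act 6 n566 = n815 := rfl
theorem F4245 : act 0 n815 = n622 := d5_1 D815 (iv D622) (iv F3007)
theorem F4246 : act 1 n815 = n815 := d13_1 D815 (iv D815) F3008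
theorem F4247 : act 3 n815 = n583 := d26_1 D815 (iv D583) (iv F3009)
theorem F4248 : act 5 n815 = n815 := d35_1 D815 (iv D815) (iv D566) F2131 D566
theorem F4249 : act 8 n815 = n569 := d40_2 (iv F3011) D815 (iv D569)
def n816 : Q := act 9 n566
theorem D816 : act 9 n566 = n816 := rfl
theorem F4250 : act 0 n816 = n623 := d8_1 D816 (iv D623) (iv F3007)
theorem F4251 : act 1 n816 = n816 := d16_1 D816 (iv D816) F3008
theorem F4252 : act 3 n816 = n584 := d29_1 D816 (iv D584) (iv F3009)
theorem F4253 : act 5 n816 = n567 := d38_1 D816 (iv D567) D566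
theorem F4254 : act 7 n816 = n816 := d43_1 D816 (iv D816) F3010
def n817 : Q := act 3 n568
theorem D817 : act 3 n568 = n817 := rfl
theorem F4255 : act 0 n817 = n624 := d2_1 D817 (iv D624) (iv F3018)
theorem F4256 : act 1 n817 = n817 := d10_1 D817 (iv D817) F3019
theorem F4257 : act 4 n817 = n585 := d24_2 D568 D817 (iv D585) (iv D405) (iv F2135)
theorem F4258 : act 5 n817 = n817 := d25_2 F3020 D817 (iv D817)
theorem F4259 : act 7 n817 = n817 := d27_2 F3021 D817 (iv D817)
def n818 : Q := act 6 n568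
theorem D818 : act 6 n568 = n818 := rfl
theorem F4260 : act 0 n818 = n625 := d5_1 D818 (iv D625) (iv F3018)
theorem F4261 : act 1 n818 = n818 := d13_1 D818 (iv D818) F3019
theorem F4262 : act 4 n818 = n569 := d31_1 D818 (iv D569) D568
def n819 : Q := act 9 n568
theorem D819 : act 9 n568 = n819 := rfl
theorem F4263 : act 0 n819 = n626 := d8_1 D819 (iv D626) (iv F3018)
theorem F4264 : act 1 n819 = n819 := d16_1 D819 (iv D819) F3019
theorem F4265 : act 4 n819 = n570 := d34_1 D819 (iv D570) D568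
theorem F4266 : act 5 n819 = n819 := d38_1 D819 (iv D819) F3020
theorem F4267 : act 7 n819 = n819 := d43_1 D819 (iv D819) F3021
def n820 : Q := act 7 n569
theorem D820 : act 7 n569 = n820 := rfl
theorem F4268 : act 0 n820 = n627 := d6_1 D820 (iv D627) (iv F3022)
theorem F4269 : act 1 n820 = n820 := d14_1 D820 (iv D820) F3023
theorem F4270 : act 3 n820 = n588 := d27_1 D820 (iv D588) (iv F3024)
theorem F4271 : act 5 n820 = n573 := d36_1 D820 (iv D573) (iv F3025)
theorem F4272 : act 6 n820 = n820 := d39_1 D820 (iv D820) (iv D569) F2136 D569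
def n821 : Q := act 9 n569
theorem D821 : act 9 n569 = n821 := rfl
theorem F4273 : act 0 n821 = n628 := d8_1 D821 (iv D628) (iv F3022)
theorem F4274 : act 1 n821 = n821 := d16_1 D821 (iv D821) F3023
theorem F4275 : act 3 n821 = n589 := d29_1 D821 (iv D589) (iv F3024)
theorem F4276 : act 5 n821 = n574 := d38_1 D821 (iv D574) (iv F3025)
theorem F4277 : act 6 n821 = n570 := d41_1 D821 (iv D570) D569
def n822 : Q := act 8 n570
theorem D822 : act 8 n570 = n822 := rfl
theorem F4278 : act 0 n822 = n629 := d7_1 D822 (iv D629) (iv F3026)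
theorem F4279 : act 1 n822 = n822 := d15_1 D822 (iv D822) F3027
theorem F4280 : act 3 n822 = n590 := d28_1 D822 (iv D590) (iv F3028)
theorem F4281 : act 5 n822 = n822 := d37_1 D822 (iv D822) F3029 F2143 (iv F3029)
theorem F4282 : act 7 n822 = n822 := d42_1 D822 (iv D822) F3030
def n823 : Q := act 5 n571
theorem D823 : act 5 n571 = n823 := rfl
theorem F4283 : act 0 n823 = n630 := d4_1 D823 (iv D630) (iv F3031)
theorem F4284 : act 1 n823 = n823 := d12_1 D823 (iv D823) F3032
theorem F4285 : act 3 n823 = n823 := d25_1 D823 (iv D823) F3033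
theorem F4286 : act 6 n823 = n823 := d35_2 D571 D823 (iv D823) (iv D571) F2147
def n824 : Q := act 7 n571
theorem D824 : act 7 n571 = n824 := rfl
theorem F4290 : act 4 n824 = n573 := d32_1 D824 (iv D573) (iv F3034)
theorem F4291 : act 6 n824 = n577 := d39_1 D824 (iv D577) (iv D398) (iv F2148) D571
def n825 : Q := act 9 n571
theorem D825 : act 9 n571 = n825 := rfl
theorem F4293 : act 0 n825 = n632 := d8_1 D825 (iv D632) (iv F3031)
theorem F4294 : act 1 n825 = n825 := d16_1 D825 (iv D825) F3032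
theorem F4295 : act 3 n825 = n825 := d29_1 D825 (iv D825) F3033
theorem F4296 : act 4 n825 = n574 := d34_1 D825 (iv D574) (iv F3034)
theorem F4297 : act 6 n825 = n572 := d41_1 D825 (iv D572) D571
def n826 : Q := act 8 n572
theorem D826 : act 8 n572 = n826 := rfl
theorem F4298 : act 0 n826 = n633 := d7_1 D826 (iv D633) (iv F3036)
theorem F4299 : act 1 n826 = n826 := d15_1 D826 (iv D826) F3037
theorem F4300 : act 3 n826 = n826 := d28_1 D826 (iv D826) F3038
theorem F4301 : act 4 n826 = n575 := d33_1 D826 (iv D575) (iv F3039)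
theorem F4302 : act 7 n826 = n579 := d42_1 D826 (iv D579) (iv F3041)
theorem F4303 : act 9 n826 = n826 := d44_2 D572 D826 (iv D826) (iv D572) F2149
def n827 : Q := act 9 n573
theorem D827 : act 9 n573 = n827 := rfl
theorem F4304 : act 0 n827 = n634 := d8_1 D827 (iv D634) (iv F3042)
theorem F4305 : act 1 n827 = n827 := d16_1 D827 (iv D827) F3043
theorem F4306 : act 3 n827 = n591 := d29_1 D827 (iv D591) (iv F3044)
theorem F4307 : act 6 n827 = n580 := d41_1 D827 (iv D580) (iv F3045)
theorem F4308 : act 7 n827 = n574 := d43_1 D827 (iv D574) D573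
def n828 : Q := act 8 n574
theorem D828 : act 8 n574 = n828 := rfl
theorem F4309 : act 0 n828 = n635 := d7_1 D828 (iv D635) (iv F3047)
theorem F4310 : act 1 n828 = n828 := d15_1 D828 (iv D828) F3048
theorem F4311 : act 3 n828 = n592 := d28_1 D828 (iv D592) (iv F3049)
theorem F4312 : act 6 n828 = n575 := d40_1 D828 (iv D575) (iv F3050)
theorem F4313 : act 9 n828 = n828 := d44_2 D574 D828 (iv D828) (iv D574) F2153
def n829 : Q := act 7 n576
theorem D829 : act 7 n576 = n829 := rfl
theorem F4318 : act 5 n829 = n577 := d36_1 D829 (iv D577) D576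
def n830 : Q := act 8 n576
theorem D830 : act 8 n576 = n830 := rfl
def n833 : Q := act 8 n578
theorem D833 : act 8 n578 = n833 := rfl
theorem F4339 : act 4 n833 = n581 := d33_1 D833 (iv D581) (iv F3070)
theorem F4340 : act 6 n833 = n579 := d40_1 D833 (iv D579) (iv F3071)
def n834 : Q := act 5 n579
theorem D834 : act 5 n579 = n834 := rfl
theorem F4342 : act 0 n834 = n641 := d4_1 D834 (iv D641) (iv F3072)
theorem F4343 : act 1 n834 = n834 := d12_1 D834 (iv D834) F3073
theorem F4344 : act 3 n834 = n834 := d25_1 D834 (iv D834) F3074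
theorem F4345 : act 4 n834 = n834 := d30_1 D834 (iv D834) F3075 F2182 (iv F3075)
theorem F4346 : act 8 n834 = n834 := d37_2 D579 D834 (iv D834) (iv D579) F2168
theorem F4347 : act 9 n834 = n834 := d38_2 F3076 D834 (iv D834)
def n835 : Q := act 8 n580
theorem D835 : act 8 n580 = n835 := rfl
theorem F4348 : act 0 n835 = n642 := d7_1 D835 (iv D642) (iv F3077)
theorem F4349 : act 1 n835 = n835 := d15_1 D835 (iv D835) F3078
theorem F4350 : act 3 n835 = n593 := d28_1 D835 (iv D593) (iv F3079)
theorem F4351 : act 7 n835 = n581 := d42_1 D835 (iv D581) (iv F3081)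
theorem F4352 : act 9 n835 = n835 := d44_2 D580 D835 (iv D835) (iv D580) F2173
def n836 : Q := act 5 n581
theorem D836 : act 5 n581 = n836 := rfl
theorem F4353 : act 0 n836 = n643 := d4_1 D836 (iv D643) (iv F3082)
theorem F4354 : act 1 n836 = n836 := d12_1 D836 (iv D836) F3083
theorem F4355 : act 3 n836 = n594 := d25_1 D836 (iv D594) (iv F3084)
theorem F4356 : act 6 n836 = n836 := d35_2 (iv F3085) D836 (iv D836) F3085 F2182
theorem F4357 : act 8 n836 = n836 := d37_2 D581 D836 (iv D836) (iv D581) F2177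
theorem F4358 : act 9 n836 = n836 := d38_2 F3086 D836 (iv D836)
def n837 : Q := act 3 n582
theorem D837 : act 3 n582 = n837 := rfl
theorem F4359 : act 0 n837 = n644 := d2_1 D837 (iv D644) (iv F3087)
theorem F4360 : act 1 n837 = n837 := d10_1 D837 (iv D837) F3088
theorem F4361 : act 5 n837 = n837 := d25_2 F3090 D837 (iv D837)
theorem F4362 : act 7 n837 = n837 := d27_2 F3091 D837 (iv D837)
theorem F4363 : act 8 n837 = n585 := d28_2 (iv F3092) D837 (iv D585)
def n838 : Q := act 6 n582
theorem D838 : act 6 n582 = n838 := rfl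
theorem F4364 : act 0 n838 = n645 := d5_1 D838 (iv D645) (iv F3087)
theorem F4365 : act 1 n838 = n838 := d13_1 D838 (iv D838) F3088
theorem F4366 : act 2 n838 = n838 := d20_1 D838 (iv D838) F3089
theorem F4367 : act 4 n838 = n583 := d31_1 D838 (iv D583) D582
theorem F4368 : act 8 n838 = n586 := d40_2 (iv F3092) D838 (iv D586)
def n839 : Q := act 9 n582
theorem D839 : act 9 n582 = n839 := rfl
theorem F4369 : act 0 n839 = n646 := d8_1 D839 (iv D646) (iv F3087)
theorem F4370 : act 1 n839 = n839 := d16_1 D839 (iv D839) F3088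
theorem F4371 : act 2 n839 = n839 := d23_1 D839 (iv D839) F3089
theorem F4372 : act 4 n839 = n584 := d34_1 D839 (iv D584) D582
theorem F4373 : act 5 n839 = n839 := d38_1 D839 (iv D839) F3090
theorem F4374 : act 7 n839 = n839 := d43_1 D839 (iv D839) F3091
def n840 : Q := act 7 n583
theorem D840 : act 7 n583 = n840 := rfl
theorem F4375 : act 0 n840 = n647 := d6_1 D840 (iv D647) (iv F3093)
theorem F4376 : act 1 n840 = n840 := d14_1 D840 (iv D840) F3094
theorem F4377 : act 2 n840 = n840 := d21_1 D840 (iv D840) F3095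
theorem F4378 : act 5 n840 = n840 := d36_1 D840 (iv D840) F3096
theorem F4379 : act 6 n840 = n840 := d39_1 D840 (iv D840) (iv D583) F2187 D583
theorem F4380 : act 8 n840 = n588 := d42_2 (iv F3097) D840 (iv D588)
def n841 : Q := act 9 n583
theorem D841 : act 9 n583 = n841 := rfl
theorem F4381 : act 0 n841 = n648 := d8_1 D841 (iv D648) (iv F3093)
theorem F4382 : act 1 n841 = n841 := d16_1 D841 (iv D841) F3094
theorem F4383 : act 2 n841 = n841 := d23_1 D841 (iv D841) F3095
theorem F4384 : act 5 n841 = n841 := d38_1 D841 (iv D841) F3096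
theorem F4385 : act 6 n841 = n584 := d41_1 D841 (iv D584) D583
def n842 : Q := act 8 n584
theorem D842 : act 8 n584 = n842 := rfl
theorem F4386 : act 0 n842 = n649 := d7_1 D842 (iv D649) (iv F3098)
theorem F4387 : act 1 n842 = n842 := d15_1 D842 (iv D842) F3099
theorem F4388 : act 2 n842 = n842 := d22_1 D842 (iv D842) F3100
theorem F4389 : act 5 n842 = n842 := d37_1 D842 (iv D842) F3101 F2195 (iv F3101)
theorem F4390 : act 7 n842 = n842 := d42_1 D842 (iv D842) F3102
theorem F4391 : act 9 n842 = n590 := d44_2 D584 D842 (iv D590) (iv D407) (iv F2188)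
def n843 : Q := act 2 n585
theorem D843 : act 2 n585 = n843 := rfl
theorem F4392 : act 0 n843 = n650 := d1_1 D843 (iv D650) (iv F3103)
theorem F4393 : act 3 n843 = n843 := d17_2 D585 D843 (iv D843) (iv D585) F2198
theorem F4394 : act 5 n843 = n595 := d19_2 (iv F3105) D843 (iv D595)
theorem F4395 : act 7 n843 = n843 := d21_2 F3106 D843 (iv D843)
def n844 : Q := act 6 n585
theorem D844 : act 6 n585 = n844 := rfl
theorem F4396 : act 0 n844 = n651 := d5_1 D844 (iv D651) (iv F3103)
theorem F4397 : act 1 n844 = n844 := d13_1 D844 (iv D844) F3104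
theorem F4398 : act 3 n844 = n586 := d26_1 D844 (iv D586) D585
theorem F4399 : act 5 n844 = n844 := d35_1 D844 (iv D844) F3105 F2243 (iv F3105)
def n845 : Q := act 9 n585
theorem D845 : act 9 n585 = n845 := rfl
theorem F4400 : act 0 n845 = n652 := d8_1 D845 (iv D652) (iv F3103)
theorem F4401 : act 1 n845 = n845 := d16_1 D845 (iv D845) F3104
theorem F4402 : act 3 n845 = n587 := d29_1 D845 (iv D587) D585
theorem F4403 : act 5 n845 = n596 := d38_1 D845 (iv D596) (iv F3105)
theorem F4404 : act 7 n845 = n845 := d43_1 D845 (iv D845) F3106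
def n846 : Q := act 7 n586
theorem D846 : act 7 n586 = n846 := rfl
theorem F4405 : act 0 n846 = n653 := d6_1 D846 (iv D653) (iv F3107)
theorem F4406 : act 1 n846 = n846 := d14_1 D846 (iv D846) F3108
theorem F4407 : act 2 n846 = n846 := d21_1 D846 (iv D846) F3109
theorem F4408 : act 4 n846 = n588 := d32_1 D846 (iv D588) (iv F3110)
theorem F4409 : act 5 n846 = n846 := d36_1 D846 (iv D846) F3111
theorem F4410 : act 6 n846 = n846 := d39_1 D846 (iv D846) (iv D586) F2200 D586
def n847 : Q := act 9 n586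
theorem D847 : act 9 n586 = n847 := rfl
theorem F4411 : act 0 n847 = n654 := d8_1 D847 (iv D654) (iv F3107)
theorem F4412 : act 1 n847 = n847 := d16_1 D847 (iv D847) F3108
theorem F4413 : act 2 n847 = n847 := d23_1 D847 (iv D847) F3109
theorem F4414 : act 4 n847 = n589 := d34_1 D847 (iv D589) (iv F3110)
theorem F4415 : act 5 n847 = n847 := d38_1 D847 (iv D847) F3111
theorem F4416 : act 6 n847 = n587 := d41_1 D847 (iv D587) D586
def n848 : Q := act 8 n587
theorem D848 : act 8 n587 = n848 := rfl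
theorem F4417 : act 0 n848 = n655 := d7_1 D848 (iv D655) (iv F3112)
theorem F4418 : act 1 n848 = n848 := d15_1 D848 (iv D848) F3113
theorem F4419 : act 2 n848 = n848 := d22_1 D848 (iv D848) F3114
theorem F4420 : act 4 n848 = n590 := d33_1 D848 (iv D590) (iv F3115)
theorem F4421 : act 7 n848 = n848 := d42_1 D848 (iv D848) F3117
def n849 : Q := act 9 n588
theorem D849 : act 9 n588 = n849 := rfl
theorem F4422 : act 0 n849 = n656 := d8_1 D849 (iv D656) (iv F3118)
theorem F4423 : act 1 n849 = n849 := d16_1 D849 (iv D849) F3119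
theorem F4424 : act 2 n849 = n849 := d23_1 D849 (iv D849) F3120
theorem F4425 : act 5 n849 = n591 := d38_1 D849 (iv D591) (iv F3121)
theorem F4426 : act 6 n849 = n849 := d41_1 D849 (iv D849) F3122
theorem F4427 : act 7 n849 = n589 := d43_1 D849 (iv D589) D588
def n850 : Q := act 8 n589
theorem D850 : act 8 n589 = n850 := rfl
theorem F4428 : act 0 n850 = n657 := d7_1 D850 (iv D657) (iv F3123)
theorem F4429 : act 1 n850 = n850 := d15_1 D850 (iv D850) F3124
theorem F4430 : act 2 n850 = n850 := d22_1 D850 (iv D850) F3125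
theorem F4431 : act 6 n850 = n590 := d40_1 D850 (iv D590) (iv F3127)
def n851 : Q := act 8 n591
theorem D851 : act 8 n591 = n851 := rfl
theorem F4432 : act 0 n851 = n658 := d7_1 D851 (iv D658) (iv F3133)
theorem F4433 : act 1 n851 = n851 := d15_1 D851 (iv D851) F3134
theorem F4434 : act 2 n851 = n851 := d22_1 D851 (iv D851) F3135
theorem F4435 : act 4 n851 = n851 := d33_1 D851 (iv D851) F3136
theorem F4436 : act 6 n851 = n593 := d40_1 D851 (iv D593) (iv F3137)
theorem F4437 : act 7 n851 = n592 := d42_1 D851 (iv D592) (iv F3138)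
theorem F4438 : act 9 n851 = n851 := d44_2 D591 D851 (iv D851) (iv D591) F2215
def n852 : Q := act 5 n592
theorem D852 : act 5 n592 = n852 := rfl
theorem F4439 : act 0 n852 = n659 := d4_1 D852 (iv D659) (iv F3139)
theorem F4440 : act 1 n852 = n852 := d12_1 D852 (iv D852) F3140
theorem F4441 : act 2 n852 = n852 := d19_1 D852 (iv D852) F3141
theorem F4442 : act 6 n852 = n852 := d35_2 (iv F3143) D852 (iv D852) F3143 F2225
theorem F4443 : act 9 n852 = n852 := d38_2 F3144 D852 (iv D852)
def n853 : Q := act 5 n593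
theorem D853 : act 5 n593 = n853 := rfl
theorem F4444 : act 0 n853 = n660 := d4_1 D853 (iv D660) (iv F3145)
theorem F4445 : act 1 n853 = n853 := d12_1 D853 (iv D853) F3146
theorem F4446 : act 2 n853 = n853 := d19_1 D853 (iv D853) F3147
theorem F4447 : act 7 n853 = n594 := d36_2 (iv F3149) D853 (iv D594)
theorem F4448 : act 8 n853 = n853 := d37_2 D593 D853 (iv D853) (iv D593) F2232
theorem F4449 : act 9 n853 = n853 := d38_2 F3150 D853 (iv D853)
def n854 : Q := act 4 n594
theorem D854 : act 4 n594 = n854 := rfl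
theorem F4450 : act 0 n854 = n661 := d3_1 D854 (iv D661) (iv F3151)
theorem F4451 : act 1 n854 = n854 := d11_1 D854 (iv D854) F3152
theorem F4452 : act 2 n854 = n854 := d18_1 D854 (iv D854) F3153
theorem F4453 : act 5 n854 = n854 := d30_2 D594 D854 (iv D854) (iv D594) F2237
theorem F4454 : act 6 n854 = n854 := d31_2 F3154 D854 (iv D854)
theorem F4455 : act 8 n854 = n854 := d33_2 F3155 D854 (iv D854)
theorem F4456 : act 9 n854 = n854 := d34_2 F3156 D854 (iv D854)
def n855 : Q := act 1 n595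
theorem D855 : act 1 n595 = n855 := rfl
theorem F4457 : act 2 n855 = n855 := d9_2 D595 D855 (iv D855) (iv D595) F2241
theorem F4458 : act 3 n855 = n855 := d10_2 F3158 D855 (iv D855)
theorem F4459 : act 4 n855 = n855 := d11_2 F3159 D855 (iv D855)
theorem F4460 : act 6 n855 = n855 := d13_2 F3160 D855 (iv D855)
theorem F4461 : act 7 n855 = n855 := d14_2 F3161 D855 (iv D855)
theorem F4462 : act 8 n855 = n855 := d15_2 F3162 D855 (iv D855)
def n856 : Q := act 9 n595
theorem D856 : act 9 n595 = n856 := rfl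
theorem F4463 : act 0 n856 = n663 := d8_1 D856 (iv D663) (iv F3157)
theorem F4464 : act 2 n856 = n596 := d23_1 D856 (iv D596) D595
theorem F4465 : act 3 n856 = n856 := d29_1 D856 (iv D856) F3158
theorem F4466 : act 4 n856 = n856 := d34_1 D856 (iv D856) F3159
theorem F4467 : act 6 n856 = n856 := d41_1 D856 (iv D856) F3160
theorem F4468 : act 7 n856 = n856 := d43_1 D856 (iv D856) F3161
def n857 : Q := act 8 n596
theorem D857 : act 8 n596 = n857 := rfl
theorem F4469 : act 0 n857 = n664 := d7_1 D857 (iv D664) (iv F3163)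
theorem F4470 : act 1 n857 = n857 := d15_1 D857 (iv D857) F3164
theorem F4471 : act 3 n857 = n597 := d28_1 D857 (iv D597) (iv F3165)
theorem F4472 : act 4 n857 = n857 := d33_1 D857 (iv D857) F3166
theorem F4473 : act 6 n857 = n857 := d40_1 D857 (iv D857) F3167
theorem F4474 : act 7 n857 = n857 := d42_1 D857 (iv D857) F3168
theorem F4475 : act 9 n857 = n857 := d44_2 D596 D857 (iv D857) (iv D596) F2245
def n858 : Q := act 5 n597
theorem D858 : act 5 n597 = n858 := rfl
theorem F4476 : act 0 n858 = n665 := d4_1 D858 (iv D665) (iv F3169)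
theorem F4477 : act 1 n858 = n858 := d12_1 D858 (iv D858) F3170
theorem F4478 : act 2 n858 = n858 := d19_1 D858 (iv D858) F3171
theorem F4479 : act 4 n858 = n858 := d30_1 D858 (iv D858) F3172 F2256 (iv F3172)
theorem F4480 : act 7 n858 = n858 := d36_2 F3174 D858 (iv D858)
theorem F4481 : act 9 n858 = n858 := d38_2 F3175 D858 (iv D858)
def n859 : Q := act 8 n598
theorem D859 : act 8 n598 = n859 := rfl
theorem F4482 : act 1 n859 = n859 := d15_1 D859 (iv D859) F3176
theorem F4483 : act 2 n859 = n859 := d22_1 D859 (iv D859) F3177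
theorem F4484 : act 3 n859 = n599 := d28_1 D859 (iv D599) D598
theorem F4485 : act 4 n859 = n859 := d33_1 D859 (iv D859) F3178
theorem F4486 : act 6 n859 = n859 := d40_1 D859 (iv D859) F3180
theorem F4487 : act 7 n859 = n859 := d42_1 D859 (iv D859) F3181
def n860 : Q := act 5 n599
theorem D860 : act 5 n599 = n860 := rfl
theorem F4488 : act 1 n860 = n860 := d12_1 D860 (iv D860) F3183
theorem F4489 : act 2 n860 = n619 := d19_1 D860 (iv D619) (iv F3184)
theorem F4490 : act 7 n860 = n860 := d36_2 F3187 D860 (iv D860)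
theorem F4491 : act 8 n860 = n860 := d37_2 D599 D860 (iv D860) (iv D599) F2262
def n861 : Q := act 9 n599
theorem D861 : act 9 n599 = n861 := rfl
theorem F4492 : act 1 n861 = n861 := d16_1 D861 (iv D861) F3183
theorem F4493 : act 2 n861 = n620 := d23_1 D861 (iv D620) (iv F3184)
theorem F4494 : act 4 n861 = n601 := d34_1 D861 (iv D601) (iv F3185)
theorem F4495 : act 6 n861 = n861 := d41_1 D861 (iv D861) F3186
theorem F4496 : act 7 n861 = n861 := d43_1 D861 (iv D861) F3187
theorem F4497 : act 8 n861 = n861 := d44_1 D861 (iv D861) (iv D599) F2265 D599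
def n862 : Q := act 4 n600
theorem D862 : act 4 n600 = n862 := rfl
theorem F4498 : act 1 n862 = n862 := d11_1 D862 (iv D862) F3188
theorem F4499 : act 2 n862 = n621 := d18_1 D862 (iv D621) (iv F3189)
theorem F4500 : act 7 n862 = n862 := d32_2 F3191 D862 (iv D862)
theorem F4501 : act 8 n862 = n602 := d33_2 (iv F3192) D862 (iv D602)
def n863 : Q := act 6 n600
theorem D863 : act 6 n600 = n863 := rfl
theorem F4502 : act 1 n863 = n863 := d13_1 D863 (iv D863) F3188
theorem F4503 : act 2 n863 = n622 := d20_1 D863 (iv D622) (iv F3189)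
theorem F4504 : act 3 n863 = n863 := d26_1 D863 (iv D863) F3190
theorem F4505 : act 5 n863 = n863 := d35_1 D863 (iv D863) (iv D600) F2269 D600
theorem F4506 : act 8 n863 = n603 := d40_2 (iv F3192) D863 (iv D603)
def n864 : Q := act 9 n600
theorem D864 : act 9 n600 = n864 := rfl
theorem F4507 : act 1 n864 = n864 := d16_1 D864 (iv D864) F3188
theorem F4508 : act 2 n864 = n623 := d23_1 D864 (iv D623) (iv F3189)
theorem F4509 : act 3 n864 = n864 := d29_1 D864 (iv D864) F3190
theorem F4510 : act 5 n864 = n601 := d38_1 D864 (iv D601) D600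
theorem F4511 : act 7 n864 = n864 := d43_1 D864 (iv D864) F3191
def n865 : Q := act 3 n602
theorem D865 : act 3 n602 = n865 := rfl
theorem F4512 : act 1 n865 = n865 := d10_1 D865 (iv D865) F3199
theorem F4513 : act 4 n865 = n865 := d24_2 D602 D865 (iv D865) (iv D602) F2273
theorem F4514 : act 5 n865 = n865 := d25_2 F3201 D865 (iv D865)
theorem F4515 : act 7 n865 = n865 := d27_2 F3202 D865 (iv D865)
def n866 : Q := act 6 n602
theorem D866 : act 6 n602 = n866 := rfl
theorem F4516 : act 1 n866 = n866 := d13_1 D866 (iv D866) F3199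
theorem F4517 : act 2 n866 = n625 := d20_1 D866 (iv D625) (iv F3200)
theorem F4518 : act 4 n866 = n603 := d31_1 D866 (iv D603) D602
def n867 : Q := act 9 n602
theorem D867 : act 9 n602 = n867 := rfl
theorem F4519 : act 1 n867 = n867 := d16_1 D867 (iv D867) F3199
theorem F4520 : act 2 n867 = n626 := d23_1 D867 (iv D626) (iv F3200)
theorem F4521 : act 4 n867 = n604 := d34_1 D867 (iv D604) D602
theorem F4522 : act 5 n867 = n867 := d38_1 D867 (iv D867) F3201
theorem F4523 : act 7 n867 = n867 := d43_1 D867 (iv D867) F3202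
def n868 : Q := act 7 n603
theorem D868 : act 7 n603 = n868 := rfl
theorem F4525 : act 2 n868 = n627 := d21_1 D868 (iv D627) (iv F3204)
def n869 : Q := act 9 n603
theorem D869 : act 9 n603 = n869 := rfl
theorem F4529 : act 1 n869 = n869 := d16_1 D869 (iv D869) F3203
theorem F4530 : act 2 n869 = n628 := d23_1 D869 (iv D628) (iv F3204)
theorem F4531 : act 3 n869 = n869 := d29_1 D869 (iv D869) F3205
theorem F4532 : act 5 n869 = n609 := d38_1 D869 (iv D609) (iv F3206)
theorem F4533 : act 6 n869 = n604 := d41_1 D869 (iv D604) D603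
def n870 : Q := act 8 n604
theorem D870 : act 8 n604 = n870 := rfl
theorem F4534 : act 1 n870 = n870 := d15_1 D870 (iv D870) F3207
theorem F4535 : act 2 n870 = n629 := d22_1 D870 (iv D629) (iv F3208)
theorem F4536 : act 3 n870 = n870 := d28_1 D870 (iv D870) F3209
theorem F4537 : act 5 n870 = n870 := d37_1 D870 (iv D870) F3210 F2281 (iv F3210)
theorem F4538 : act 7 n870 = n870 := d42_1 D870 (iv D870) F3211
def n872 : Q := act 9 n605
theorem D872 : act 9 n605 = n872 := rfl
theorem F4546 : act 3 n872 = n607 := d29_1 D872 (iv D607) D605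
def n873 : Q := act 5 n606
theorem D873 : act 5 n606 = n873 := rfl
theorem F4551 : act 2 n873 = n630 := d19_1 D873 (iv D630) (iv F3219)
def n874 : Q := act 7 n606
theorem D874 : act 7 n606 = n874 := rfl
theorem F4556 : act 6 n874 = n614 := d39_1 D874 (iv D614) (iv D424) (iv F2285) D606
def n875 : Q := act 9 n606
theorem D875 : act 9 n606 = n875 := rfl
theorem F4559 : act 2 n875 = n632 := d23_1 D875 (iv D632) (iv F3219)
theorem F4560 : act 4 n875 = n609 := d34_1 D875 (iv D609) (iv F3220)
def n876 : Q := act 8 n607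
theorem D876 : act 8 n607 = n876 := rfl
theorem F4563 : act 2 n876 = n633 := d22_1 D876 (iv D633) (iv F3223)
theorem F4564 : act 4 n876 = n610 := d33_1 D876 (iv D610) (iv F3224)
def n877 : Q := act 9 n608
theorem D877 : act 9 n608 = n877 := rfl
theorem F4568 : act 2 n877 = n634 := d23_1 D877 (iv D634) (iv F3228)
theorem F4571 : act 7 n877 = n609 := d43_1 D877 (iv D609) D608
def n878 : Q := act 8 n609
theorem D878 : act 8 n609 = n878 := rfl
theorem F4572 : act 1 n878 = n878 := d15_1 D878 (iv D878) F3232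
theorem F4573 : act 2 n878 = n635 := d22_1 D878 (iv D635) (iv F3233)
theorem F4574 : act 3 n878 = n878 := d28_1 D878 (iv D878) F3234
theorem F4575 : act 6 n878 = n610 := d40_1 D878 (iv D610) (iv F3235)
theorem F4576 : act 9 n878 = n878 := d44_2 D609 D878 (iv D878) (iv D609) F2290
def n879 : Q := act 5 n611
theorem D879 : act 5 n611 = n879 := rfl
theorem F4578 : act 2 n879 = n879 := d19_1 D879 (iv D879) F3243
theorem F4579 : act 3 n879 = n613 := d25_1 D879 (iv D613) (iv F3244)
def n882 : Q := act 8 n612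
theorem D882 : act 8 n612 = n882 := rfl
theorem F4593 : act 3 n882 = n616 := d28_1 D882 (iv D616) (iv F3249)
def n883 : Q := act 7 n613
theorem D883 : act 7 n613 = n883 := rfl
theorem F4597 : act 2 n883 = n636 := d21_1 D883 (iv D636) (iv F3253)
theorem F4599 : act 5 n883 = n614 := d36_1 D883 (iv D614) D613
def n884 : Q := act 8 n613
theorem D884 : act 8 n613 = n884 := rfl
def n888 : Q := act 5 n616
theorem D888 : act 5 n616 = n888 := rfl
theorem F4621 : act 4 n888 = n888 := d30_1 D888 (iv D888) F3266 F2322 (iv F3266)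
def n889 : Q := act 8 n617
theorem D889 : act 8 n617 = n889 := rfl
theorem F4627 : act 7 n889 = n618 := d42_1 D889 (iv D618) (iv F3272)
def n890 : Q := act 5 n618
theorem D890 : act 5 n618 = n890 := rfl
theorem F4632 : act 6 n890 = n890 := d35_2 (iv F3276) D890 (iv D890) F3276 F2322
def n891 : Q := act 4 n619
theorem D891 : act 4 n619 = n891 := rfl
theorem F4635 : act 1 n891 = n666 := d11_1 D891 (iv D666) (iv F3278)
theorem F4636 : act 5 n891 = n621 := d30_2 D619 D891 (iv D621) (iv D430) (iv F2326)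
theorem F4637 : act 7 n891 = n891 := d32_2 F3280 D891 (iv D891)
theorem F4638 : act 8 n891 = n891 := d33_2 F3281 D891 (iv D891)
def n892 : Q := act 6 n619
theorem D892 : act 6 n619 = n892 := rfl
theorem F4639 : act 1 n892 = n667 := d13_1 D892 (iv D667) (iv F3278)
theorem F4640 : act 3 n892 = n892 := d26_1 D892 (iv D892) F3279
theorem F4641 : act 5 n892 = n892 := d35_1 D892 (iv D892) (iv D619) F2327 D619
theorem F4642 : act 8 n892 = n892 := d40_2 F3281 D892 (iv D892)
def n893 : Q := act 9 n619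
theorem D893 : act 9 n619 = n893 := rfl
theorem F4643 : act 1 n893 = n668 := d16_1 D893 (iv D668) (iv F3278)
theorem F4644 : act 3 n893 = n893 := d29_1 D893 (iv D893) F3279
theorem F4645 : act 5 n893 = n620 := d38_1 D893 (iv D620) D619
theorem F4646 : act 7 n893 = n893 := d43_1 D893 (iv D893) F3280
def n894 : Q := act 3 n621
theorem D894 : act 3 n621 = n894 := rfl
theorem F4647 : act 1 n894 = n669 := d10_1 D894 (iv D669) (iv F3288)
theorem F4648 : act 4 n894 = n644 := d24_2 D621 D894 (iv D644) (iv D446) (iv F2330)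
theorem F4649 : act 7 n894 = n894 := d27_2 F3289 D894 (iv D894)
theorem F4650 : act 8 n894 = n624 := d28_2 (iv F3290) D894 (iv D624)
def n895 : Q := act 6 n621
theorem D895 : act 6 n621 = n895 := rfl
theorem F4651 : act 1 n895 = n670 := d13_1 D895 (iv D670) (iv F3288)
theorem F4652 : act 4 n895 = n622 := d31_1 D895 (iv D622) D621
theorem F4653 : act 8 n895 = n625 := d40_2 (iv F3290) D895 (iv D625)
def n896 : Q := act 9 n621
theorem D896 : act 9 n621 = n896 := rfl
theorem F4654 : act 1 n896 = n671 := d16_1 D896 (iv D671) (iv F3288)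
theorem F4655 : act 4 n896 = n623 := d34_1 D896 (iv D623) D621
theorem F4656 : act 7 n896 = n896 := d43_1 D896 (iv D896) F3289
def n897 : Q := act 7 n622
theorem D897 : act 7 n622 = n897 := rfl
theorem F4657 : act 1 n897 = n672 := d14_1 D897 (iv D672) (iv F3291)
theorem F4658 : act 3 n897 = n647 := d27_1 D897 (iv D647) (iv F3292)
theorem F4659 : act 5 n897 = n897 := d36_1 D897 (iv D897) F3293
theorem F4660 : act 6 n897 = n897 := d39_1 D897 (iv D897) (iv D622) F2331 D622
theorem F4661 : act 8 n897 = n627 := d42_2 (iv F3294) D897 (iv D627)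
def n898 : Q := act 9 n622
theorem D898 : act 9 n622 = n898 := rfl
theorem F4662 : act 1 n898 = n673 := d16_1 D898 (iv D673) (iv F3291)
theorem F4663 : act 3 n898 = n648 := d29_1 D898 (iv D648) (iv F3292)
theorem F4664 : act 5 n898 = n898 := d38_1 D898 (iv D898) F3293
theorem F4665 : act 6 n898 = n623 := d41_1 D898 (iv D623) D622
def n899 : Q := act 8 n623
theorem D899 : act 8 n623 = n899 := rfl
theorem F4666 : act 1 n899 = n674 := d15_1 D899 (iv D674) (iv F3295)
theorem F4667 : act 3 n899 = n649 := d28_1 D899 (iv D649) (iv F3296)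
theorem F4668 : act 5 n899 = n899 := d37_1 D899 (iv D899) F3297 F2337 (iv F3297)
theorem F4669 : act 7 n899 = n899 := d42_1 D899 (iv D899) F3298
theorem F4670 : act 9 n899 = n629 := d44_2 D623 D899 (iv D629) (iv D434) (iv F2332)
def n900 : Q := act 2 n624
theorem D900 : act 2 n624 = n900 := rfl
theorem F4671 : act 4 n900 = n650 := d18_2 (iv F3300) D900 (iv D650)
theorem F4672 : act 5 n900 = n900 := d19_2 F3301 D900 (iv D900)
theorem F4673 : act 7 n900 = n900 := d21_2 F3302 D900 (iv D900)
def n901 : Q := act 6 n624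
theorem D901 : act 6 n624 = n901 := rfl
theorem F4674 : act 1 n901 = n676 := d13_1 D901 (iv D676) (iv F3299)
theorem F4675 : act 3 n901 = n625 := d26_1 D901 (iv D625) D624
theorem F4676 : act 4 n901 = n651 := d31_1 D901 (iv D651) (iv F3300)
def n902 : Q := act 9 n624
theorem D902 : act 9 n624 = n902 := rfl
theorem F4677 : act 1 n902 = n677 := d16_1 D902 (iv D677) (iv F3299)
theorem F4678 : act 3 n902 = n626 := d29_1 D902 (iv D626) D624
theorem F4679 : act 4 n902 = n652 := d34_1 D902 (iv D652) (iv F3300)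
theorem F4680 : act 5 n902 = n902 := d38_1 D902 (iv D902) F3301
theorem F4681 : act 7 n902 = n902 := d43_1 D902 (iv D902) F3302
def n903 : Q := act 5 n625
theorem D903 : act 5 n625 = n903 := rfl
theorem F4682 : act 1 n903 = n678 := d12_1 D903 (iv D678) (iv F3303)
theorem F4683 : act 4 n903 = n630 := d30_1 D903 (iv D630) F2350 (iv F2343) (iv F3304)
theorem F4684 : act 6 n903 = n903 := d35_2 D625 D903 (iv D903) (iv D625) F2339
def n904 : Q := act 7 n625
theorem D904 : act 7 n625 = n904 := rfl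
theorem F4685 : act 1 n904 = n679 := d14_1 D904 (iv D679) (iv F3303)
theorem F4686 : act 4 n904 = n627 := d32_1 D904 (iv D627) (iv F3304)
theorem F4687 : act 6 n904 = n904 := d39_1 D904 (iv D904) (iv D625) F2340 D625
def n905 : Q := act 9 n625
theorem D905 : act 9 n625 = n905 := rfl
theorem F4688 : act 1 n905 = n680 := d16_1 D905 (iv D680) (iv F3303)
theorem F4689 : act 4 n905 = n628 := d34_1 D905 (iv D628) (iv F3304)
theorem F4690 : act 6 n905 = n626 := d41_1 D905 (iv D626) D625
def n906 : Q := act 8 n626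
theorem D906 : act 8 n626 = n906 := rfl
theorem F4691 : act 1 n906 = n681 := d15_1 D906 (iv D681) (iv F3305)
theorem F4692 : act 4 n906 = n629 := d33_1 D906 (iv D629) (iv F3306)
theorem F4693 : act 7 n906 = n906 := d42_1 D906 (iv D906) F3308
def n907 : Q := act 9 n627
theorem D907 : act 9 n627 = n907 := rfl
theorem F4694 : act 1 n907 = n682 := d16_1 D907 (iv D682) (iv F3309)
theorem F4695 : act 3 n907 = n656 := d29_1 D907 (iv D656) (iv F3310)
theorem F4696 : act 5 n907 = n634 := d38_1 D907 (iv D634) (iv F3311)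
theorem F4697 : act 6 n907 = n907 := d41_1 D907 (iv D907) F3312
theorem F4698 : act 7 n907 = n628 := d43_1 D907 (iv D628) D627
def n908 : Q := act 8 n628
theorem D908 : act 8 n628 = n908 := rfl
theorem F4699 : act 1 n908 = n683 := d15_1 D908 (iv D683) (iv F3313)
theorem F4700 : act 3 n908 = n657 := d28_1 D908 (iv D657) (iv F3314)
theorem F4701 : act 6 n908 = n629 := d40_1 D908 (iv D629) (iv F3316)
def n909 : Q := act 7 n630
theorem D909 : act 7 n630 = n909 := rfl
theorem F4702 : act 1 n909 = n684 := d14_1 D909 (iv D684) (iv F3321)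
theorem F4704 : act 5 n909 = n631 := d36_1 D909 (iv D631) D630
def n910 : Q := act 8 n630
theorem D910 : act 8 n630 = n910 := rfl
theorem F4705 : act 1 n910 = n685 := d15_1 D910 (iv D685) (iv F3321)
theorem F4706 : act 3 n910 = n910 := d28_1 D910 (iv D910) F3322
theorem F4707 : act 5 n910 = n910 := d37_1 D910 (iv D910) (iv D630) F2351 D630
theorem F4708 : act 6 n910 = n910 := d40_1 D910 (iv D910) F3323
def n911 : Q := act 9 n630
theorem D911 : act 9 n630 = n911 := rfl
theorem F4709 : act 1 n911 = n686 := d16_1 D911 (iv D686) (iv F3321)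
theorem F4710 : act 3 n911 = n911 := d29_1 D911 (iv D911) F3322
theorem F4711 : act 5 n911 = n632 := d38_1 D911 (iv D632) D630
theorem F4712 : act 6 n911 = n911 := d41_1 D911 (iv D911) F3323
def n912 : Q := act 9 n631
theorem D912 : act 9 n631 = n912 := rfl
theorem F4713 : act 1 n912 = n687 := d16_1 D912 (iv D687) (iv F3324)
theorem F4715 : act 4 n912 = n634 := d34_1 D912 (iv D634) (iv F3326)
theorem F4717 : act 7 n912 = n632 := d43_1 D912 (iv D632) D631
def n913 : Q := act 8 n632
theorem D913 : act 8 n632 = n913 := rfl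
theorem F4718 : act 1 n913 = n688 := d15_1 D913 (iv D688) (iv F3329)
theorem F4719 : act 3 n913 = n913 := d28_1 D913 (iv D913) F3330
theorem F4720 : act 4 n913 = n635 := d33_1 D913 (iv D635) (iv F3331)
theorem F4721 : act 6 n913 = n633 := d40_1 D913 (iv D633) (iv F3332)
theorem F4722 : act 9 n913 = n913 := d44_2 D632 D913 (iv D913) (iv D632) F2351
def n914 : Q := act 5 n633
theorem D914 : act 5 n633 = n914 := rfl
theorem F4723 : act 1 n914 = n689 := d12_1 D914 (iv D689) (iv F3333)
theorem F4724 : act 3 n914 = n914 := d25_1 D914 (iv D914) F3334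
theorem F4725 : act 4 n914 = n914 := d30_1 D914 (iv D914) F3335 F2366 (iv F3335)
theorem F4726 : act 7 n914 = n641 := d36_2 (iv F3336) D914 (iv D641)
theorem F4727 : act 8 n914 = n914 := d37_2 D633 D914 (iv D914) (iv D633) F2355
theorem F4728 : act 9 n914 = n914 := d38_2 F3337 D914 (iv D914)
def n915 : Q := act 8 n634
theorem D915 : act 8 n634 = n915 := rfl
theorem F4729 : act 1 n915 = n690 := d15_1 D915 (iv D690) (iv F3338)
theorem F4730 : act 3 n915 = n658 := d28_1 D915 (iv D658) (iv F3339)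
theorem F4731 : act 6 n915 = n642 := d40_1 D915 (iv D642) (iv F3340)
theorem F4732 : act 7 n915 = n635 := d42_1 D915 (iv D635) (iv F3341)
theorem F4733 : act 9 n915 = n915 := d44_2 D634 D915 (iv D915) (iv D634) F2360
def n916 : Q := act 5 n635
theorem D916 : act 5 n635 = n916 := rfl
theorem F4734 : act 1 n916 = n691 := d12_1 D916 (iv D691) (iv F3342)
theorem F4735 : act 3 n916 = n659 := d25_1 D916 (iv D659) (iv F3343)
theorem F4736 : act 6 n916 = n916 := d35_2 (iv F3344) D916 (iv D916) F3344 F2366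
theorem F4737 : act 9 n916 = n916 := d38_2 F3345 D916 (iv D916)
def n917 : Q := act 6 n636
theorem D917 : act 6 n636 = n917 := rfl
theorem F4738 : act 1 n917 = n692 := d13_1 D917 (iv D692) (iv F3346)
theorem F4741 : act 7 n917 = n917 := d39_2 D636 D917 (iv D917) (iv D636) F2372
def n918 : Q := act 8 n636
theorem D918 : act 8 n636 = n918 := rfl
def n924 : Q := act 6 n641
theorem D924 : act 6 n641 = n924 := rfl
def n925 : Q := act 5 n642
theorem D925 : act 5 n642 = n925 := rfl
theorem F4774 : act 1 n925 = n700 := d12_1 D925 (iv D700) (iv F3374)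
theorem F4775 : act 3 n925 = n660 := d25_1 D925 (iv D660) (iv F3375)
theorem F4776 : act 7 n925 = n643 := d36_2 (iv F3376) D925 (iv D643)
theorem F4777 : act 8 n925 = n925 := d37_2 D642 D925 (iv D925) (iv D642) F2387
theorem F4778 : act 9 n925 = n925 := d38_2 F3377 D925 (iv D925)
def n926 : Q := act 4 n643
theorem D926 : act 4 n643 = n926 := rfl
def n927 : Q := act 2 n644
theorem D927 : act 2 n644 = n927 := rfl
theorem F4783 : act 3 n927 = n927 := d17_2 D644 D927 (iv D927) (iv D644) F2394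
theorem F4784 : act 5 n927 = n927 := d19_2 F3384 D927 (iv D927)
theorem F4785 : act 7 n927 = n927 := d21_2 F3385 D927 (iv D927)
theorem F4786 : act 8 n927 = n650 := d22_2 (iv F3386) D927 (iv D650)
def n928 : Q := act 6 n644
theorem D928 : act 6 n644 = n928 := rfl
theorem F4787 : act 1 n928 = n703 := d13_1 D928 (iv D703) (iv F3383)
theorem F4788 : act 3 n928 = n645 := d26_1 D928 (iv D645) D644
theorem F4789 : act 8 n928 = n651 := d40_2 (iv F3386) D928 (iv D651)
def n929 : Q := act 9 n644
theorem D929 : act 9 n644 = n929 := rfl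
theorem F4790 : act 1 n929 = n704 := d16_1 D929 (iv D704) (iv F3383)
theorem F4791 : act 3 n929 = n646 := d29_1 D929 (iv D646) D644
theorem F4792 : act 5 n929 = n929 := d38_1 D929 (iv D929) F3384
theorem F4793 : act 7 n929 = n929 := d43_1 D929 (iv D929) F3385
def n930 : Q := act 5 n645
theorem D930 : act 5 n645 = n930 := rfl
theorem F4794 : act 1 n930 = n705 := d12_1 D930 (iv D705) (iv F3387)
theorem F4795 : act 2 n930 = n930 := d19_1 D930 (iv D930) F3388
theorem F4796 : act 4 n930 = n930 := d30_1 D930 (iv D930) F3389 F2400 (iv F3389)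
theorem F4797 : act 6 n930 = n930 := d35_2 D645 D930 (iv D930) (iv D645) F2395
theorem F4798 : act 8 n930 = n930 := d37_2 (iv F3390) D930 (iv D930) F3390 F2412
def n931 : Q := act 7 n645
theorem D931 : act 7 n645 = n931 := rfl
theorem F4799 : act 1 n931 = n706 := d14_1 D931 (iv D706) (iv F3387)
theorem F4800 : act 2 n931 = n931 := d21_1 D931 (iv D931) F3388
theorem F4801 : act 4 n931 = n647 := d32_1 D931 (iv D647) (iv F3389)
theorem F4802 : act 6 n931 = n931 := d39_1 D931 (iv D931) (iv D645) F2396 D645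
theorem F4803 : act 8 n931 = n653 := d42_2 (iv F3390) D931 (iv D653)
def n932 : Q := act 9 n645
theorem D932 : act 9 n645 = n932 := rfl
theorem F4804 : act 1 n932 = n707 := d16_1 D932 (iv D707) (iv F3387)
theorem F4805 : act 2 n932 = n932 := d23_1 D932 (iv D932) F3388
theorem F4806 : act 4 n932 = n648 := d34_1 D932 (iv D648) (iv F3389)
theorem F4807 : act 6 n932 = n646 := d41_1 D932 (iv D646) D645
def n933 : Q := act 8 n646
theorem D933 : act 8 n646 = n933 := rfl
theorem F4808 : act 1 n933 = n708 := d15_1 D933 (iv D708) (iv F3391)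
theorem F4809 : act 2 n933 = n933 := d22_1 D933 (iv D933) F3392
theorem F4810 : act 4 n933 = n649 := d33_1 D933 (iv D649) (iv F3393)
theorem F4811 : act 7 n933 = n933 := d42_1 D933 (iv D933) F3395
theorem F4812 : act 9 n933 = n655 := d44_2 D646 D933 (iv D655) (iv D451) (iv F2397)
def n934 : Q := act 9 n647
theorem D934 : act 9 n647 = n934 := rfl
theorem F4813 : act 1 n934 = n709 := d16_1 D934 (iv D709) (iv F3396)
theorem F4814 : act 2 n934 = n934 := d23_1 D934 (iv D934) F3397
theorem F4815 : act 5 n934 = n934 := d38_1 D934 (iv D934) F3398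
theorem F4816 : act 6 n934 = n934 := d41_1 D934 (iv D934) F3399
theorem F4817 : act 7 n934 = n648 := d43_1 D934 (iv D648) D647
def n935 : Q := act 8 n648
theorem D935 : act 8 n648 = n935 := rfl
theorem F4818 : act 1 n935 = n710 := d15_1 D935 (iv D710) (iv F3401)
theorem F4819 : act 2 n935 = n935 := d22_1 D935 (iv D935) F3402
theorem F4820 : act 6 n935 = n649 := d40_1 D935 (iv D649) (iv F3404)
theorem F4821 : act 9 n935 = n657 := d44_2 D648 D935 (iv D657) (iv D453) (iv F2401)
def n936 : Q := act 1 n650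
theorem D936 : act 1 n650 = n936 := rfl
theorem F4822 : act 2 n936 = n711 := d9_2 D650 D936 (iv D711) (iv D493) (iv F2406)
theorem F4823 : act 3 n936 = n936 := d10_2 F3410 D936 (iv D936)
theorem F4824 : act 5 n936 = n662 := d12_2 (iv F3411) D936 (iv D662)
theorem F4825 : act 7 n936 = n936 := d14_2 F3412 D936 (iv D936)
def n937 : Q := act 6 n650
theorem D937 : act 6 n650 = n937 := rfl
theorem F4826 : act 2 n937 = n651 := d20_1 D937 (iv D651) D650
theorem F4827 : act 3 n937 = n937 := d26_1 D937 (iv D937) F3410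
theorem F4828 : act 5 n937 = n937 := d35_1 D937 (iv D937) F3411 F2452 (iv F3411)
def n938 : Q := act 9 n650
theorem D938 : act 9 n650 = n938 := rfl
theorem F4829 : act 2 n938 = n652 := d23_1 D938 (iv D652) D650
theorem F4830 : act 3 n938 = n938 := d29_1 D938 (iv D938) F3410
theorem F4831 : act 5 n938 = n663 := d38_1 D938 (iv D663) (iv F3411)
theorem F4832 : act 7 n938 = n938 := d43_1 D938 (iv D938) F3412
def n939 : Q := act 7 n651
theorem D939 : act 7 n651 = n939 := rfl
theorem F4833 : act 1 n939 = n714 := d14_1 D939 (iv D714) (iv F3413)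
theorem F4834 : act 3 n939 = n653 := d27_1 D939 (iv D653) (iv F3414)
theorem F4835 : act 5 n939 = n939 := d36_1 D939 (iv D939) F3415
theorem F4836 : act 6 n939 = n939 := d39_1 D939 (iv D939) (iv D651) F2408 D651
def n940 : Q := act 9 n651
theorem D940 : act 9 n651 = n940 := rfl
theorem F4837 : act 1 n940 = n715 := d16_1 D940 (iv D715) (iv F3413)
theorem F4838 : act 3 n940 = n654 := d29_1 D940 (iv D654) (iv F3414)
theorem F4839 : act 5 n940 = n940 := d38_1 D940 (iv D940) F3415
theorem F4840 : act 6 n940 = n652 := d41_1 D940 (iv D652) D651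
def n941 : Q := act 8 n652
theorem D941 : act 8 n652 = n941 := rfl
theorem F4841 : act 1 n941 = n716 := d15_1 D941 (iv D716) (iv F3416)
theorem F4842 : act 3 n941 = n655 := d28_1 D941 (iv D655) (iv F3417)
theorem F4843 : act 7 n941 = n941 := d42_1 D941 (iv D941) F3419
def n942 : Q := act 9 n653
theorem D942 : act 9 n653 = n942 := rfl
theorem F4844 : act 1 n942 = n717 := d16_1 D942 (iv D717) (iv F3420)
theorem F4845 : act 2 n942 = n942 := d23_1 D942 (iv D942) F3421
theorem F4846 : act 4 n942 = n656 := d34_1 D942 (iv D656) (iv F3422)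
theorem F4847 : act 5 n942 = n942 := d38_1 D942 (iv D942) F3423
theorem F4848 : act 6 n942 = n942 := d41_1 D942 (iv D942) F3424
theorem F4849 : act 7 n942 = n654 := d43_1 D942 (iv D654) D653
def n943 : Q := act 8 n654
theorem D943 : act 8 n654 = n943 := rfl
theorem F4850 : act 1 n943 = n718 := d15_1 D943 (iv D718) (iv F3425)
theorem F4851 : act 2 n943 = n943 := d22_1 D943 (iv D943) F3426
theorem F4852 : act 4 n943 = n657 := d33_1 D943 (iv D657) (iv F3427)
theorem F4853 : act 6 n943 = n655 := d40_1 D943 (iv D655) (iv F3429)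
def n944 : Q := act 5 n655
theorem D944 : act 5 n655 = n944 := rfl
theorem F4854 : act 1 n944 = n719 := d12_1 D944 (iv D719) (iv F3430)
theorem F4855 : act 2 n944 = n944 := d19_1 D944 (iv D944) F3431
theorem F4856 : act 4 n944 = n944 := d30_1 D944 (iv D944) F3432 F2428 (iv F3432)
theorem F4857 : act 7 n944 = n944 := d36_2 F3433 D944 (iv D944)
theorem F4858 : act 8 n944 = n665 := d37_2 D655 D944 (iv D665) (iv D461) (iv F2416)
def n945 : Q := act 8 n656
theorem D945 : act 8 n656 = n945 := rfl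
theorem F4859 : act 1 n945 = n720 := d15_1 D945 (iv D720) (iv F3434)
theorem F4860 : act 2 n945 = n945 := d22_1 D945 (iv D945) F3435
theorem F4861 : act 6 n945 = n945 := d40_1 D945 (iv D945) F3437
theorem F4862 : act 7 n945 = n657 := d42_1 D945 (iv D657) (iv F3438)
def n946 : Q := act 5 n657
theorem D946 : act 5 n657 = n946 := rfl
theorem F4863 : act 1 n946 = n721 := d12_1 D946 (iv D721) (iv F3439)
theorem F4864 : act 2 n946 = n946 := d19_1 D946 (iv D946) F3440
theorem F4865 : act 6 n946 = n946 := d35_2 (iv F3441) D946 (iv D946) F3441 F2428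
theorem F4866 : act 8 n946 = n659 := d37_2 D657 D946 (iv D659) (iv D456) (iv F2424)
def n947 : Q := act 5 n658
theorem D947 : act 5 n658 = n947 := rfl
theorem F4867 : act 1 n947 = n722 := d12_1 D947 (iv D722) (iv F3442)
theorem F4868 : act 2 n947 = n947 := d19_1 D947 (iv D947) F3443
theorem F4869 : act 7 n947 = n659 := d36_2 (iv F3446) D947 (iv D659)
theorem F4870 : act 9 n947 = n947 := d38_2 F3447 D947 (iv D947)
def n948 : Q := act 4 n659
theorem D948 : act 4 n659 = n948 := rfl
theorem F4871 : act 1 n948 = n723 := d11_1 D948 (iv D723) (iv F3448)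
theorem F4872 : act 2 n948 = n948 := d18_1 D948 (iv D948) F3449
theorem F4873 : act 5 n948 = n948 := d30_2 D659 D948 (iv D948) (iv D659) F2437
theorem F4874 : act 6 n948 = n948 := d31_2 F3450 D948 (iv D948)
theorem F4875 : act 9 n948 = n948 := d34_2 F3451 D948 (iv D948)
def n949 : Q := act 4 n660
theorem D949 : act 4 n660 = n949 := rfl
theorem F4876 : act 1 n949 = n724 := d11_1 D949 (iv D724) (iv F3452)
theorem F4877 : act 2 n949 = n949 := d18_1 D949 (iv D949) F3453
theorem F4878 : act 5 n949 = n949 := d30_2 D660 D949 (iv D949) (iv D660) F2442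
theorem F4879 : act 7 n949 = n661 := d32_2 (iv F3454) D949 (iv D661)
theorem F4880 : act 8 n949 = n949 := d33_2 F3455 D949 (iv D949)
theorem F4881 : act 9 n949 = n949 := d34_2 F3456 D949 (iv D949)
def n950 : Q := act 6 n660
theorem D950 : act 6 n660 = n950 := rfl
theorem F4882 : act 1 n950 = n725 := d13_1 D950 (iv D725) (iv F3452)
theorem F4883 : act 2 n950 = n950 := d20_1 D950 (iv D950) F3453
theorem F4884 : act 7 n950 = n950 := d39_2 (iv F3454) D950 (iv D950) F3454 F2447
theorem F4885 : act 8 n950 = n950 := d40_2 F3455 D950 (iv D950)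
theorem F4886 : act 9 n950 = n950 := d41_2 F3456 D950 (iv D950)
def n951 : Q := act 3 n661
theorem D951 : act 3 n661 = n951 := rfl
def n952 : Q := act 0 n662
theorem D952 : act 0 n662 = n952 := rfl
theorem F4892 : act 2 n952 = n727 := d1_2 (iv F3463) D952 (iv D727)
theorem F4893 : act 3 n952 = n952 := d2_2 F3464 D952 (iv D952)
theorem F4894 : act 4 n952 = n952 := d3_2 F3465 D952 (iv D952)
theorem F4895 : act 6 n952 = n952 := d5_2 F3466 D952 (iv D952)
theorem F4896 : act 7 n952 = n952 := d6_2 F3467 D952 (iv D952)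
theorem F4897 : act 8 n952 = n952 := d7_2 F3468 D952 (iv D952)
def n953 : Q := act 9 n662
theorem D953 : act 9 n662 = n953 := rfl
theorem F4898 : act 1 n953 = n663 := d16_1 D953 (iv D663) D662
theorem F4899 : act 2 n953 = n728 := d23_1 D953 (iv D728) (iv F3463)
theorem F4900 : act 3 n953 = n953 := d29_1 D953 (iv D953) F3464
theorem F4901 : act 4 n953 = n953 := d34_1 D953 (iv D953) F3465
theorem F4902 : act 6 n953 = n953 := d41_1 D953 (iv D953) F3466
theorem F4903 : act 7 n953 = n953 := d43_1 D953 (iv D953) F3467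
def n954 : Q := act 8 n663
theorem D954 : act 8 n663 = n954 := rfl
theorem F4904 : act 2 n954 = n664 := d22_1 D954 (iv D664) (iv F3469)
theorem F4905 : act 3 n954 = n954 := d28_1 D954 (iv D954) F3470
theorem F4906 : act 4 n954 = n954 := d33_1 D954 (iv D954) F3471
theorem F4907 : act 6 n954 = n954 := d40_1 D954 (iv D954) F3472
theorem F4908 : act 7 n954 = n954 := d42_1 D954 (iv D954) F3473
theorem F4909 : act 9 n954 = n954 := d44_2 D663 D954 (iv D954) (iv D663) F2454
def n955 : Q := act 5 n664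
theorem D955 : act 5 n664 = n955 := rfl
theorem F4910 : act 1 n955 = n730 := d12_1 D955 (iv D730) (iv F3474)
theorem F4911 : act 3 n955 = n665 := d25_1 D955 (iv D665) (iv F3475)
theorem F4912 : act 7 n955 = n955 := d36_2 F3478 D955 (iv D955)
theorem F4913 : act 9 n955 = n955 := d38_2 F3479 D955 (iv D955)
def n956 : Q := act 6 n665
theorem D956 : act 6 n665 = n956 := rfl
theorem F4914 : act 1 n956 = n731 := d13_1 D956 (iv D731) (iv F3480)
theorem F4915 : act 2 n956 = n956 := d20_1 D956 (iv D956) F3481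
theorem F4916 : act 4 n956 = n956 := d31_1 D956 (iv D956) F3482
theorem F4917 : act 5 n956 = n956 := d35_1 D956 (iv D956) (iv D665) F2463 D665
theorem F4918 : act 9 n956 = n956 := d41_2 F3484 D956 (iv D956)
def n957 : Q := act 3 n666
theorem D957 : act 3 n666 = n957 := rfl
theorem F4919 : act 0 n957 = n957 := d2_1 D957 (iv D957) F3485
theorem F4920 : act 4 n957 = n957 := d24_2 D666 D957 (iv D957) (iv D666) F2468
theorem F4921 : act 5 n957 = n669 := d25_2 (iv F3487) D957 (iv D669)
theorem F4922 : act 7 n957 = n957 := d27_2 F3488 D957 (iv D957)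
theorem F4923 : act 8 n957 = n957 := d28_2 F3489 D957 (iv D957)
def n958 : Q := act 6 n666
theorem D958 : act 6 n666 = n958 := rfl
theorem F4924 : act 0 n958 = n958 := d5_1 D958 (iv D958) F3485
theorem F4925 : act 2 n958 = n958 := d20_1 D958 (iv D958) F3486
theorem F4926 : act 4 n958 = n667 := d31_1 D958 (iv D667) D666
theorem F4927 : act 8 n958 = n958 := d40_2 F3489 D958 (iv D958)
def n959 : Q := act 9 n666
theorem D959 : act 9 n666 = n959 := rfl
theorem F4928 : act 0 n959 = n959 := d8_1 D959 (iv D959) F3485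
theorem F4929 : act 2 n959 = n959 := d23_1 D959 (iv D959) F3486
theorem F4930 : act 4 n959 = n668 := d34_1 D959 (iv D668) D666
theorem F4931 : act 5 n959 = n671 := d38_1 D959 (iv D671) (iv F3487)
theorem F4932 : act 7 n959 = n959 := d43_1 D959 (iv D959) F3488
def n960 : Q := act 7 n667
theorem D960 : act 7 n667 = n960 := rfl
theorem F4933 : act 0 n960 = n960 := d6_1 D960 (iv D960) F3490
theorem F4934 : act 2 n960 = n960 := d21_1 D960 (iv D960) F3491
theorem F4935 : act 3 n960 = n960 := d27_1 D960 (iv D960) F3492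
theorem F4936 : act 5 n960 = n960 := d36_1 D960 (iv D960) F3493
theorem F4937 : act 6 n960 = n960 := d39_1 D960 (iv D960) (iv D667) F2469 D667
theorem F4938 : act 8 n960 = n960 := d42_2 F3494 D960 (iv D960)
def n961 : Q := act 9 n667
theorem D961 : act 9 n667 = n961 := rfl
theorem F4939 : act 0 n961 = n961 := d8_1 D961 (iv D961) F3490
theorem F4940 : act 2 n961 = n961 := d23_1 D961 (iv D961) F3491
theorem F4941 : act 3 n961 = n961 := d29_1 D961 (iv D961) F3492
theorem F4942 : act 5 n961 = n961 := d38_1 D961 (iv D961) F3493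
theorem F4943 : act 6 n961 = n668 := d41_1 D961 (iv D668) D667
def n962 : Q := act 8 n668
theorem D962 : act 8 n668 = n962 := rfl
theorem F4944 : act 0 n962 = n962 := d7_1 D962 (iv D962) F3495
theorem F4945 : act 2 n962 = n962 := d22_1 D962 (iv D962) F3496
theorem F4946 : act 3 n962 = n962 := d28_1 D962 (iv D962) F3497
theorem F4947 : act 5 n962 = n962 := d37_1 D962 (iv D962) F3498 F2477 (iv F3498)
theorem F4948 : act 7 n962 = n962 := d42_1 D962 (iv D962) F3499
theorem F4949 : act 9 n962 = n962 := d44_2 D668 D962 (iv D962) (iv D668) F2470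
def n963 : Q := act 2 n669
theorem D963 : act 2 n669 = n963 := rfl
theorem F4950 : act 0 n963 = n963 := d1_1 D963 (iv D963) F3500
theorem F4951 : act 3 n963 = n963 := d17_2 D669 D963 (iv D963) (iv D669) F2479
theorem F4952 : act 4 n963 = n702 := d18_2 (iv F3501) D963 (iv D702)
theorem F4953 : act 7 n963 = n963 := d21_2 F3502 D963 (iv D963)
theorem F4954 : act 8 n963 = n675 := d22_2 (iv F3503) D963 (iv D675)
def n964 : Q := act 6 n669
theorem D964 : act 6 n669 = n964 := rfl
theorem F4955 : act 0 n964 = n964 := d5_1 D964 (iv D964) F3500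
theorem F4956 : act 3 n964 = n670 := d26_1 D964 (iv D670) D669
theorem F4957 : act 4 n964 = n703 := d31_1 D964 (iv D703) (iv F3501)
theorem F4958 : act 8 n964 = n676 := d40_2 (iv F3503) D964 (iv D676)
def n965 : Q := act 9 n669
theorem D965 : act 9 n669 = n965 := rfl
theorem F4959 : act 0 n965 = n965 := d8_1 D965 (iv D965) F3500
theorem F4960 : act 3 n965 = n671 := d29_1 D965 (iv D671) D669
theorem F4961 : act 4 n965 = n704 := d34_1 D965 (iv D704) (iv F3501)
theorem F4962 : act 7 n965 = n965 := d43_1 D965 (iv D965) F3502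
def n966 : Q := act 5 n670
theorem D966 : act 5 n670 = n966 := rfl
theorem F4963 : act 0 n966 = n966 := d4_1 D966 (iv D966) F3504
theorem F4964 : act 2 n966 = n966 := d19_1 D966 (iv D966) F3505
theorem F4965 : act 4 n966 = n966 := d30_1 D966 (iv D966) F3506 F2485 (iv F3506)
def n967 : Q := act 7 n670
theorem D967 : act 7 n670 = n967 := rfl
theorem F4966 : act 0 n967 = n967 := d6_1 D967 (iv D967) F3504
theorem F4967 : act 2 n967 = n967 := d21_1 D967 (iv D967) F3505
theorem F4968 : act 4 n967 = n672 := d32_1 D967 (iv D672) (iv F3506)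
theorem F4969 : act 6 n967 = n967 := d39_1 D967 (iv D967) (iv D670) F2480 D670
theorem F4970 : act 8 n967 = n679 := d42_2 (iv F3507) D967 (iv D679)
def n968 : Q := act 9 n670
theorem D968 : act 9 n670 = n968 := rfl
theorem F4971 : act 0 n968 = n968 := d8_1 D968 (iv D968) F3504
theorem F4972 : act 2 n968 = n968 := d23_1 D968 (iv D968) F3505
theorem F4973 : act 4 n968 = n673 := d34_1 D968 (iv D673) (iv F3506)
theorem F4974 : act 6 n968 = n671 := d41_1 D968 (iv D671) D670
def n969 : Q := act 8 n671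
theorem D969 : act 8 n671 = n969 := rfl
theorem F4975 : act 0 n969 = n969 := d7_1 D969 (iv D969) F3508
theorem F4976 : act 2 n969 = n969 := d22_1 D969 (iv D969) F3509
theorem F4977 : act 4 n969 = n674 := d33_1 D969 (iv D674) (iv F3510)
theorem F4978 : act 7 n969 = n969 := d42_1 D969 (iv D969) F3511
theorem F4979 : act 9 n969 = n681 := d44_2 D671 D969 (iv D681) (iv D469) (iv F2481)
def n970 : Q := act 9 n672
theorem D970 : act 9 n672 = n970 := rfl
theorem F4980 : act 0 n970 = n970 := d8_1 D970 (iv D970) F3512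
theorem F4981 : act 2 n970 = n970 := d23_1 D970 (iv D970) F3513
theorem F4982 : act 3 n970 = n709 := d29_1 D970 (iv D709) (iv F3514)
theorem F4983 : act 5 n970 = n970 := d38_1 D970 (iv D970) F3515
theorem F4984 : act 6 n970 = n970 := d41_1 D970 (iv D970) F3516
theorem F4985 : act 7 n970 = n673 := d43_1 D970 (iv D673) D672
def n971 : Q := act 8 n673
theorem D971 : act 8 n673 = n971 := rfl
theorem F4986 : act 0 n971 = n971 := d7_1 D971 (iv D971) F3518
theorem F4987 : act 2 n971 = n971 := d22_1 D971 (iv D971) F3519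
theorem F4988 : act 3 n971 = n710 := d28_1 D971 (iv D710) (iv F3520)
theorem F4989 : act 6 n971 = n674 := d40_1 D971 (iv D674) (iv F3522)
theorem F4990 : act 9 n971 = n683 := d44_2 D673 D971 (iv D683) (iv D471) (iv F2486)
def n972 : Q := act 1 n675
theorem D972 : act 1 n675 = n972 := rfl
theorem F4991 : act 3 n972 = n972 := d10_2 F3530 D972 (iv D972)
theorem F4992 : act 4 n972 = n711 := d11_2 (iv F3531) D972 (iv D711)
theorem F4993 : act 5 n972 = n972 := d12_2 F3532 D972 (iv D972)
theorem F4994 : act 7 n972 = n972 := d14_2 F3533 D972 (iv D972)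
def n973 : Q := act 6 n675
theorem D973 : act 6 n675 = n973 := rfl
theorem F4995 : act 0 n973 = n973 := d5_1 D973 (iv D973) F3529
theorem F4996 : act 2 n973 = n676 := d20_1 D973 (iv D676) D675
theorem F4997 : act 3 n973 = n973 := d26_1 D973 (iv D973) F3530
theorem F4998 : act 4 n973 = n712 := d31_1 D973 (iv D712) (iv F3531)
def n974 : Q := act 9 n675
theorem D974 : act 9 n675 = n974 := rfl
theorem F4999 : act 0 n974 = n974 := d8_1 D974 (iv D974) F3529
theorem F5000 : act 2 n974 = n677 := d23_1 D974 (iv D677) D675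
theorem F5001 : act 3 n974 = n974 := d29_1 D974 (iv D974) F3530
theorem F5002 : act 4 n974 = n713 := d34_1 D974 (iv D713) (iv F3531)
theorem F5003 : act 5 n974 = n974 := d38_1 D974 (iv D974) F3532
theorem F5004 : act 7 n974 = n974 := d43_1 D974 (iv D974) F3533
def n975 : Q := act 5 n676
theorem D975 : act 5 n676 = n975 := rfl
theorem F5005 : act 0 n975 = n975 := d4_1 D975 (iv D975) F3534
theorem F5006 : act 3 n975 = n678 := d25_1 D975 (iv D678) (iv F3535)
theorem F5007 : act 4 n975 = n975 := d30_1 D975 (iv D975) F3536 F2628 (iv F3536)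
theorem F5008 : act 6 n975 = n975 := d35_2 D676 D975 (iv D975) (iv D676) F2494
def n976 : Q := act 7 n676
theorem D976 : act 7 n676 = n976 := rfl
theorem F5009 : act 0 n976 = n976 := d6_1 D976 (iv D976) F3534
theorem F5010 : act 3 n976 = n679 := d27_1 D976 (iv D679) (iv F3535)
theorem F5011 : act 4 n976 = n714 := d32_1 D976 (iv D714) (iv F3536)
theorem F5012 : act 6 n976 = n976 := d39_1 D976 (iv D976) (iv D676) F2495 D676
def n977 : Q := act 9 n676
theorem D977 : act 9 n676 = n977 := rfl
theorem F5013 : act 0 n977 = n977 := d8_1 D977 (iv D977) F3534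
theorem F5014 : act 3 n977 = n680 := d29_1 D977 (iv D680) (iv F3535)
theorem F5015 : act 4 n977 = n715 := d34_1 D977 (iv D715) (iv F3536)
theorem F5016 : act 6 n977 = n677 := d41_1 D977 (iv D677) D676
def n978 : Q := act 8 n677
theorem D978 : act 8 n677 = n978 := rfl
theorem F5017 : act 0 n978 = n978 := d7_1 D978 (iv D978) F3537
theorem F5018 : act 3 n978 = n681 := d28_1 D978 (iv D681) (iv F3538)
theorem F5019 : act 4 n978 = n716 := d33_1 D978 (iv D716) (iv F3539)
theorem F5020 : act 7 n978 = n978 := d42_1 D978 (iv D978) F3541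
def n979 : Q := act 7 n678
theorem D979 : act 7 n678 = n979 := rfl
theorem F5021 : act 0 n979 = n979 := d6_1 D979 (iv D979) F3542
theorem F5022 : act 2 n979 = n979 := d21_1 D979 (iv D979) F3543
theorem F5023 : act 4 n979 = n684 := d32_1 D979 (iv D684) (iv F3544)
theorem F5024 : act 5 n979 = n679 := d36_1 D979 (iv D679) D678
def n980 : Q := act 8 n678
theorem D980 : act 8 n678 = n980 := rfl
theorem F5025 : act 0 n980 = n980 := d7_1 D980 (iv D980) F3542
theorem F5026 : act 2 n980 = n980 := d22_1 D980 (iv D980) F3543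
theorem F5027 : act 4 n980 = n685 := d33_1 D980 (iv D685) (iv F3544)
theorem F5028 : act 6 n980 = n980 := d40_1 D980 (iv D980) F3545
def n981 : Q := act 9 n678
theorem D981 : act 9 n678 = n981 := rfl
theorem F5029 : act 0 n981 = n981 := d8_1 D981 (iv D981) F3542
theorem F5030 : act 2 n981 = n981 := d23_1 D981 (iv D981) F3543
theorem F5031 : act 4 n981 = n686 := d34_1 D981 (iv D686) (iv F3544)
theorem F5032 : act 5 n981 = n680 := d38_1 D981 (iv D680) D678
theorem F5033 : act 6 n981 = n981 := d41_1 D981 (iv D981) F3545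
def n982 : Q := act 9 n679
theorem D982 : act 9 n679 = n982 := rfl
theorem F5034 : act 0 n982 = n982 := d8_1 D982 (iv D982) F3546
theorem F5035 : act 2 n982 = n982 := d23_1 D982 (iv D982) F3547
theorem F5036 : act 4 n982 = n682 := d34_1 D982 (iv D682) (iv F3548)
theorem F5037 : act 6 n982 = n982 := d41_1 D982 (iv D982) F3549
theorem F5038 : act 7 n982 = n680 := d43_1 D982 (iv D680) D679
def n983 : Q := act 8 n680
theorem D983 : act 8 n680 = n983 := rfl
theorem F5039 : act 0 n983 = n983 := d7_1 D983 (iv D983) F3550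
theorem F5040 : act 2 n983 = n983 := d22_1 D983 (iv D983) F3551
theorem F5041 : act 4 n983 = n683 := d33_1 D983 (iv D683) (iv F3552)
theorem F5042 : act 6 n983 = n681 := d40_1 D983 (iv D681) (iv F3553)
def n984 : Q := act 5 n681
theorem D984 : act 5 n681 = n984 := rfl
theorem F5043 : act 0 n984 = n984 := d4_1 D984 (iv D984) F3554
theorem F5044 : act 2 n984 = n984 := d19_1 D984 (iv D984) F3555
theorem F5045 : act 4 n984 = n984 := d30_1 D984 (iv D984) F3556 F2517 (iv F3556)
theorem F5046 : act 7 n984 = n984 := d36_2 F3557 D984 (iv D984)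
theorem F5047 : act 8 n984 = n984 := d37_2 D681 D984 (iv D984) (iv D681) F2502
def n985 : Q := act 8 n682
theorem D985 : act 8 n682 = n985 := rfl
theorem F5048 : act 0 n985 = n985 := d7_1 D985 (iv D985) F3558
theorem F5049 : act 2 n985 = n985 := d22_1 D985 (iv D985) F3559
theorem F5050 : act 3 n985 = n720 := d28_1 D985 (iv D720) (iv F3560)
theorem F5051 : act 6 n985 = n985 := d40_1 D985 (iv D985) F3562
theorem F5052 : act 7 n985 = n683 := d42_1 D985 (iv D683) (iv F3563)
def n986 : Q := act 5 n683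
theorem D986 : act 5 n683 = n986 := rfl
theorem F5053 : act 0 n986 = n986 := d4_1 D986 (iv D986) F3564
theorem F5054 : act 2 n986 = n986 := d19_1 D986 (iv D986) F3565
theorem F5055 : act 3 n986 = n721 := d25_1 D986 (iv D721) (iv F3566)
theorem F5056 : act 6 n986 = n986 := d35_2 (iv F3567) D986 (iv D986) F3567 F2517
theorem F5057 : act 8 n986 = n691 := d37_2 D683 D986 (iv D691) (iv D478) (iv F2512)
def n987 : Q := act 6 n684
theorem D987 : act 6 n684 = n987 := rfl
theorem F5061 : act 5 n987 = n692 := d35_1 D987 (iv D692) F2554 (iv F2527) (iv F3571)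
theorem F5062 : act 7 n987 = n987 := d39_2 D684 D987 (iv D987) (iv D684) F2522
def n988 : Q := act 8 n684
theorem D988 : act 8 n684 = n988 := rfl
theorem F5063 : act 0 n988 = n988 := d7_1 D988 (iv D988) F3568
theorem F5064 : act 2 n988 = n988 := d22_1 D988 (iv D988) F3569
theorem F5065 : act 3 n988 = n988 := d28_1 D988 (iv D988) F3570
theorem F5066 : act 5 n988 = n988 := d37_1 D988 (iv D988) F3571 F2528 (iv F3571)
theorem F5067 : act 7 n988 = n685 := d42_1 D988 (iv D685) D684
def n989 : Q := act 9 n684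
theorem D989 : act 9 n684 = n989 := rfl
theorem F5068 : act 0 n989 = n989 := d8_1 D989 (iv D989) F3568
theorem F5069 : act 2 n989 = n989 := d23_1 D989 (iv D989) F3569
theorem F5070 : act 3 n989 = n989 := d29_1 D989 (iv D989) F3570
theorem F5071 : act 5 n989 = n687 := d38_1 D989 (iv D687) (iv F3571)
theorem F5072 : act 7 n989 = n686 := d43_1 D989 (iv D686) D684
def n990 : Q := act 9 n685
theorem D990 : act 9 n685 = n990 := rfl
theorem F5073 : act 0 n990 = n990 := d8_1 D990 (iv D990) F3572
theorem F5074 : act 2 n990 = n990 := d23_1 D990 (iv D990) F3573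
theorem F5075 : act 3 n990 = n990 := d29_1 D990 (iv D990) F3574
theorem F5076 : act 5 n990 = n990 := d38_1 D990 (iv D990) F3575
theorem F5077 : act 6 n990 = n990 := d41_1 D990 (iv D990) F3576
def n991 : Q := act 8 n686
theorem D991 : act 8 n686 = n991 := rfl
theorem F5078 : act 0 n991 = n991 := d7_1 D991 (iv D991) F3577
theorem F5079 : act 2 n991 = n991 := d22_1 D991 (iv D991) F3578
theorem F5080 : act 3 n991 = n991 := d28_1 D991 (iv D991) F3579
theorem F5081 : act 6 n991 = n991 := d40_1 D991 (iv D991) F3581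
def n992 : Q := act 8 n687
theorem D992 : act 8 n687 = n992 := rfl
theorem F5082 : act 0 n992 = n992 := d7_1 D992 (iv D992) F3582
theorem F5083 : act 2 n992 = n992 := d22_1 D992 (iv D992) F3583
theorem F5084 : act 3 n992 = n992 := d28_1 D992 (iv D992) F3584
theorem F5085 : act 4 n992 = n690 := d33_1 D992 (iv D690) (iv F3585)
theorem F5086 : act 6 n992 = n697 := d40_1 D992 (iv D697) (iv F3586)
theorem F5087 : act 7 n992 = n688 := d42_1 D992 (iv D688) (iv F3587)
theorem F5088 : act 9 n992 = n992 := d44_2 D687 D992 (iv D992) (iv D687) F2528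
def n993 : Q := act 5 n688
theorem D993 : act 5 n688 = n993 := rfl
theorem F5089 : act 0 n993 = n993 := d4_1 D993 (iv D993) F3588
theorem F5090 : act 2 n993 = n993 := d19_1 D993 (iv D993) F3589
theorem F5091 : act 3 n993 = n993 := d25_1 D993 (iv D993) F3590
theorem F5092 : act 9 n993 = n993 := d38_2 F3593 D993 (iv D993)
def n994 : Q := act 6 n689
theorem D994 : act 6 n689 = n994 := rfl
theorem F5093 : act 0 n994 = n994 := d5_1 D994 (iv D994) F3594
theorem F5094 : act 2 n994 = n994 := d20_1 D994 (iv D994) F3595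
theorem F5095 : act 3 n994 = n994 := d26_1 D994 (iv D994) F3596
theorem F5096 : act 4 n994 = n994 := d31_1 D994 (iv D994) F3597
theorem F5097 : act 8 n994 = n994 := d40_2 F3599 D994 (iv D994)
theorem F5098 : act 9 n994 = n994 := d41_2 F3600 D994 (iv D994)
def n995 : Q := act 5 n690
theorem D995 : act 5 n690 = n995 := rfl
theorem F5099 : act 0 n995 = n995 := d4_1 D995 (iv D995) F3601
theorem F5100 : act 2 n995 = n995 := d19_1 D995 (iv D995) F3602
theorem F5101 : act 3 n995 = n722 := d25_1 D995 (iv D722) (iv F3603)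
theorem F5102 : act 7 n995 = n691 := d36_2 (iv F3605) D995 (iv D691)
theorem F5103 : act 9 n995 = n995 := d38_2 F3606 D995 (iv D995)
def n996 : Q := act 4 n691
theorem D996 : act 4 n691 = n996 := rfl
theorem F5104 : act 0 n996 = n996 := d3_1 D996 (iv D996) F3607
theorem F5105 : act 2 n996 = n996 := d18_1 D996 (iv D996) F3608
theorem F5106 : act 6 n996 = n996 := d31_2 F3610 D996 (iv D996)
theorem F5107 : act 9 n996 = n996 := d34_2 F3611 D996 (iv D996)
def n997 : Q := act 8 n692
theorem D997 : act 8 n692 = n997 := rfl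
theorem F5108 : act 0 n997 = n997 := d7_1 D997 (iv D997) F3612
theorem F5109 : act 2 n997 = n997 := d22_1 D997 (iv D997) F3613
theorem F5110 : act 3 n997 = n997 := d28_1 D997 (iv D997) F3614
theorem F5111 : act 4 n997 = n997 := d33_1 D997 (iv D997) F3615
theorem F5112 : act 6 n997 = n693 := d40_1 D997 (iv D693) D692
theorem F5113 : act 7 n997 = n997 := d42_1 D997 (iv D997) F3616
def n1003 : Q := act 5 n697
theorem D1003 : act 5 n697 = n1003 := rfl
def n1007 : Q := act 4 n700
theorem D1007 : act 4 n700 = n1007 := rfl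
def n1008 : Q := act 6 n700
theorem D1008 : act 6 n700 = n1008 := rfl
theorem F5166 : act 0 n1008 = n1008 := d5_1 D1008 (iv D1008) F3656
theorem F5167 : act 2 n1008 = n1008 := d20_1 D1008 (iv D1008) F3657
theorem F5168 : act 3 n1008 = n725 := d26_1 D1008 (iv D725) (iv F3658)
theorem F5169 : act 7 n1008 = n1008 := d39_2 (iv F3659) D1008 (iv D1008) F3659 F2592
theorem F5170 : act 8 n1008 = n1008 := d40_2 F3660 D1008 (iv D1008)
theorem F5171 : act 9 n1008 = n1008 := d41_2 F3661 D1008 (iv D1008)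
def n1010 : Q := act 1 n702
theorem D1010 : act 1 n702 = n1010 := rfl
theorem F5177 : act 3 n1010 = n732 := d10_2 (iv F3668) D1010 (iv D732)
theorem F5178 : act 5 n1010 = n1010 := d12_2 F3669 D1010 (iv D1010)
theorem F5179 : act 7 n1010 = n1010 := d14_2 F3670 D1010 (iv D1010)
theorem F5180 : act 8 n1010 = n711 := d15_2 (iv F3671) D1010 (iv D711)
def n1011 : Q := act 6 n702
theorem D1011 : act 6 n702 = n1011 := rfl
theorem F5181 : act 0 n1011 = n1011 := d5_1 D1011 (iv D1011) F3667
theorem F5182 : act 2 n1011 = n703 := d20_1 D1011 (iv D703) D702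
theorem F5183 : act 3 n1011 = n733 := d26_1 D1011 (iv D733) (iv F3668)
theorem F5184 : act 8 n1011 = n712 := d40_2 (iv F3671) D1011 (iv D712)
def n1012 : Q := act 9 n702
theorem D1012 : act 9 n702 = n1012 := rfl
theorem F5185 : act 0 n1012 = n1012 := d8_1 D1012 (iv D1012) F3667
theorem F5186 : act 2 n1012 = n704 := d23_1 D1012 (iv D704) D702
theorem F5187 : act 3 n1012 = n734 := d29_1 D1012 (iv D734) (iv F3668)
theorem F5188 : act 5 n1012 = n1012 := d38_1 D1012 (iv D1012) F3669
theorem F5189 : act 7 n1012 = n1012 := d43_1 D1012 (iv D1012) F3670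
def n1013 : Q := act 5 n703
theorem D1013 : act 5 n703 = n1013 := rfl
theorem F5190 : act 0 n1013 = n1013 := d4_1 D1013 (iv D1013) F3672
theorem F5191 : act 3 n1013 = n705 := d25_1 D1013 (iv D705) (iv F3673)
theorem F5192 : act 6 n1013 = n1013 := d35_2 D703 D1013 (iv D1013) (iv D703) F2596
theorem F5193 : act 8 n1013 = n1013 := d37_2 (iv F3674) D1013 (iv D1013) F3674 F2628
def n1014 : Q := act 7 n703
theorem D1014 : act 7 n703 = n1014 := rfl
theorem F5194 : act 0 n1014 = n1014 := d6_1 D1014 (iv D1014) F3672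
theorem F5195 : act 3 n1014 = n706 := d27_1 D1014 (iv D706) (iv F3673)
theorem F5196 : act 6 n1014 = n1014 := d39_1 D1014 (iv D1014) (iv D703) F2597 D703
theorem F5197 : act 8 n1014 = n714 := d42_2 (iv F3674) D1014 (iv D714)
def n1015 : Q := act 9 n703
theorem D1015 : act 9 n703 = n1015 := rfl
theorem F5198 : act 0 n1015 = n1015 := d8_1 D1015 (iv D1015) F3672
theorem F5199 : act 3 n1015 = n707 := d29_1 D1015 (iv D707) (iv F3673)
theorem F5200 : act 6 n1015 = n704 := d41_1 D1015 (iv D704) D703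
def n1016 : Q := act 8 n704
theorem D1016 : act 8 n704 = n1016 := rfl
theorem F5201 : act 0 n1016 = n1016 := d7_1 D1016 (iv D1016) F3675
theorem F5202 : act 3 n1016 = n708 := d28_1 D1016 (iv D708) (iv F3676)
theorem F5203 : act 7 n1016 = n1016 := d42_1 D1016 (iv D1016) F3678
theorem F5204 : act 9 n1016 = n716 := d44_2 D704 D1016 (iv D716) (iv D495) (iv F2598)
def n1017 : Q := act 7 n705
theorem D1017 : act 7 n705 = n1017 := rfl
theorem F5205 : act 0 n1017 = n1017 := d6_1 D1017 (iv D1017) F3679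
theorem F5206 : act 2 n1017 = n739 := d21_1 D1017 (iv D739) (iv F3680)
theorem F5207 : act 4 n1017 = n1017 := d32_1 D1017 (iv D1017) F3681
theorem F5208 : act 5 n1017 = n706 := d36_1 D1017 (iv D706) D705
theorem F5209 : act 8 n1017 = n1017 := d42_2 F3683 D1017 (iv D1017)
def n1018 : Q := act 9 n705
theorem D1018 : act 9 n705 = n1018 := rfl
theorem F5210 : act 0 n1018 = n1018 := d8_1 D1018 (iv D1018) F3679
theorem F5211 : act 2 n1018 = n740 := d23_1 D1018 (iv D740) (iv F3680)
theorem F5212 : act 4 n1018 = n1018 := d34_1 D1018 (iv D1018) F3681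
theorem F5213 : act 5 n1018 = n707 := d38_1 D1018 (iv D707) D705
theorem F5214 : act 6 n1018 = n1018 := d41_1 D1018 (iv D1018) F3682
def n1019 : Q := act 9 n706
theorem D1019 : act 9 n706 = n1019 := rfl
theorem F5215 : act 0 n1019 = n1019 := d8_1 D1019 (iv D1019) F3684
theorem F5216 : act 2 n1019 = n741 := d23_1 D1019 (iv D741) (iv F3685)
theorem F5217 : act 4 n1019 = n709 := d34_1 D1019 (iv D709) (iv F3686)
theorem F5218 : act 6 n1019 = n1019 := d41_1 D1019 (iv D1019) F3687
theorem F5219 : act 7 n1019 = n707 := d43_1 D1019 (iv D707) D706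
def n1020 : Q := act 8 n707
theorem D1020 : act 8 n707 = n1020 := rfl
theorem F5220 : act 0 n1020 = n1020 := d7_1 D1020 (iv D1020) F3689
theorem F5221 : act 2 n1020 = n742 := d22_1 D1020 (iv D742) (iv F3690)
theorem F5222 : act 4 n1020 = n710 := d33_1 D1020 (iv D710) (iv F3691)
theorem F5223 : act 6 n1020 = n708 := d40_1 D1020 (iv D708) (iv F3692)
theorem F5224 : act 9 n1020 = n718 := d44_2 D707 D1020 (iv D718) (iv D497) (iv F2602)
def n1021 : Q := act 5 n708
theorem D1021 : act 5 n708 = n1021 := rfl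
theorem F5225 : act 0 n1021 = n1021 := d4_1 D1021 (iv D1021) F3693
theorem F5226 : act 2 n1021 = n743 := d19_1 D1021 (iv D743) (iv F3694)
theorem F5227 : act 4 n1021 = n1021 := d30_1 D1021 (iv D1021) F3695 F2619 (iv F3695)
theorem F5228 : act 7 n1021 = n1021 := d36_2 F3696 D1021 (iv D1021)
theorem F5229 : act 8 n1021 = n1021 := d37_2 D708 D1021 (iv D1021) (iv D708) F2606
theorem F5230 : act 9 n1021 = n719 := d38_2 (iv F3697) D1021 (iv D719)
def n1022 : Q := act 8 n709
theorem D1022 : act 8 n709 = n1022 := rfl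
theorem F5231 : act 0 n1022 = n1022 := d7_1 D1022 (iv D1022) F3698
theorem F5232 : act 2 n1022 = n744 := d22_1 D1022 (iv D744) (iv F3699)
theorem F5233 : act 6 n1022 = n1022 := d40_1 D1022 (iv D1022) F3701
theorem F5234 : act 7 n1022 = n710 := d42_1 D1022 (iv D710) (iv F3702)
theorem F5235 : act 9 n1022 = n720 := d44_2 D709 D1022 (iv D720) (iv D499) (iv F2612)
def n1023 : Q := act 5 n710
theorem D1023 : act 5 n710 = n1023 := rfl
theorem F5236 : act 0 n1023 = n1023 := d4_1 D1023 (iv D1023) F3703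
theorem F5237 : act 2 n1023 = n745 := d19_1 D1023 (iv D745) (iv F3704)
theorem F5238 : act 6 n1023 = n1023 := d35_2 (iv F3705) D1023 (iv D1023) F3705 F2619
theorem F5239 : act 8 n1023 = n1023 := d37_2 D710 D1023 (iv D1023) (iv D710) F2615
theorem F5240 : act 9 n1023 = n721 := d38_2 (iv F3706) D1023 (iv D721)
def n1024 : Q := act 0 n711
theorem D1024 : act 0 n711 = n1024 := rfl
theorem F5241 : act 1 n1024 = n1024 := d0_2 D711 D1024 (iv D1024) (iv D711) F2622
theorem F5242 : act 3 n1024 = n746 := d2_2 (iv F3707) D1024 (iv D746)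
theorem F5243 : act 5 n1024 = n727 := d4_2 (iv F3708) D1024 (iv D727)
theorem F5244 : act 7 n1024 = n1024 := d6_2 F3709 D1024 (iv D1024)
def n1025 : Q := act 6 n711
theorem D1025 : act 6 n711 = n1025 := rfl
theorem F5245 : act 1 n1025 = n712 := d13_1 D1025 (iv D712) D711
theorem F5246 : act 3 n1025 = n747 := d26_1 D1025 (iv D747) (iv F3707)
theorem F5247 : act 5 n1025 = n1025 := d35_1 D1025 (iv D1025) F3708 F2678 (iv F3708)
def n1026 : Q := act 9 n711
theorem D1026 : act 9 n711 = n1026 := rfl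
theorem F5248 : act 1 n1026 = n713 := d16_1 D1026 (iv D713) D711
theorem F5249 : act 3 n1026 = n748 := d29_1 D1026 (iv D748) (iv F3707)
theorem F5250 : act 5 n1026 = n728 := d38_1 D1026 (iv D728) (iv F3708)
theorem F5251 : act 7 n1026 = n1026 := d43_1 D1026 (iv D1026) F3709
def n1027 : Q := act 7 n712
theorem D1027 : act 7 n712 = n1027 := rfl
theorem F5252 : act 0 n1027 = n1027 := d6_1 D1027 (iv D1027) F3710
theorem F5253 : act 2 n1027 = n714 := d21_1 D1027 (iv D714) (iv F3711)
theorem F5254 : act 3 n1027 = n749 := d27_1 D1027 (iv D749) (iv F3712)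
theorem F5255 : act 5 n1027 = n1027 := d36_1 D1027 (iv D1027) F3713
theorem F5256 : act 6 n1027 = n1027 := d39_1 D1027 (iv D1027) (iv D712) F2625 D712
def n1028 : Q := act 9 n712
theorem D1028 : act 9 n712 = n1028 := rfl
theorem F5257 : act 0 n1028 = n1028 := d8_1 D1028 (iv D1028) F3710
theorem F5258 : act 2 n1028 = n715 := d23_1 D1028 (iv D715) (iv F3711)
theorem F5259 : act 3 n1028 = n750 := d29_1 D1028 (iv D750) (iv F3712)
theorem F5260 : act 5 n1028 = n1028 := d38_1 D1028 (iv D1028) F3713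
theorem F5261 : act 6 n1028 = n713 := d41_1 D1028 (iv D713) D712
def n1029 : Q := act 8 n713
theorem D1029 : act 8 n713 = n1029 := rfl
theorem F5262 : act 0 n1029 = n1029 := d7_1 D1029 (iv D1029) F3714
theorem F5263 : act 2 n1029 = n716 := d22_1 D1029 (iv D716) (iv F3715)
theorem F5264 : act 3 n1029 = n751 := d28_1 D1029 (iv D751) (iv F3716)
theorem F5265 : act 7 n1029 = n1029 := d42_1 D1029 (iv D1029) F3718
def n1030 : Q := act 9 n714
theorem D1030 : act 9 n714 = n1030 := rfl
theorem F5266 : act 0 n1030 = n1030 := d8_1 D1030 (iv D1030) F3719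
theorem F5267 : act 3 n1030 = n717 := d29_1 D1030 (iv D717) (iv F3720)
theorem F5268 : act 5 n1030 = n1030 := d38_1 D1030 (iv D1030) F3721
theorem F5269 : act 6 n1030 = n1030 := d41_1 D1030 (iv D1030) F3722
theorem F5270 : act 7 n1030 = n715 := d43_1 D1030 (iv D715) D714
def n1031 : Q := act 8 n715
theorem D1031 : act 8 n715 = n1031 := rfl
theorem F5271 : act 0 n1031 = n1031 := d7_1 D1031 (iv D1031) F3723
theorem F5272 : act 3 n1031 = n718 := d28_1 D1031 (iv D718) (iv F3724)
theorem F5273 : act 6 n1031 = n716 := d40_1 D1031 (iv D716) (iv F3726)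
def n1032 : Q := act 5 n716
theorem D1032 : act 5 n716 = n1032 := rfl
theorem F5274 : act 0 n1032 = n1032 := d4_1 D1032 (iv D1032) F3727
theorem F5275 : act 3 n1032 = n719 := d25_1 D1032 (iv D719) (iv F3728)
theorem F5276 : act 7 n1032 = n1032 := d36_2 F3729 D1032 (iv D1032)
theorem F5277 : act 8 n1032 = n730 := d37_2 D716 D1032 (iv D730) (iv D507) (iv F2631)
def n1033 : Q := act 8 n717
theorem D1033 : act 8 n717 = n1033 := rfl
theorem F5278 : act 0 n1033 = n1033 := d7_1 D1033 (iv D1033) F3730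
theorem F5279 : act 2 n1033 = n755 := d22_1 D1033 (iv D755) (iv F3731)
theorem F5280 : act 4 n1033 = n720 := d33_1 D1033 (iv D720) (iv F3732)
theorem F5281 : act 6 n1033 = n1033 := d40_1 D1033 (iv D1033) F3734
theorem F5282 : act 7 n1033 = n718 := d42_1 D1033 (iv D718) (iv F3735)
def n1034 : Q := act 5 n718
theorem D1034 : act 5 n718 = n1034 := rfl
theorem F5283 : act 0 n1034 = n1034 := d4_1 D1034 (iv D1034) F3736
theorem F5284 : act 2 n1034 = n756 := d19_1 D1034 (iv D756) (iv F3737)
theorem F5285 : act 8 n1034 = n1034 := d37_2 D718 D1034 (iv D1034) (iv D718) F2641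
def n1035 : Q := act 6 n719
theorem D1035 : act 6 n719 = n1035 := rfl
theorem F5286 : act 0 n1035 = n1035 := d5_1 D1035 (iv D1035) F3740
theorem F5287 : act 2 n1035 = n757 := d20_1 D1035 (iv D757) (iv F3741)
theorem F5288 : act 4 n1035 = n1035 := d31_1 D1035 (iv D1035) F3742
theorem F5289 : act 8 n1035 = n731 := d40_2 (iv F3744) D1035 (iv D731)
def n1036 : Q := act 5 n720
theorem D1036 : act 5 n720 = n1036 := rfl
theorem F5290 : act 0 n1036 = n1036 := d4_1 D1036 (iv D1036) F3745
theorem F5291 : act 2 n1036 = n758 := d19_1 D1036 (iv D758) (iv F3746)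
theorem F5292 : act 7 n1036 = n721 := d36_2 (iv F3748) D1036 (iv D721)
theorem F5293 : act 8 n1036 = n722 := d37_2 D720 D1036 (iv D722) (iv D501) (iv F2649)
def n1037 : Q := act 4 n721
theorem D1037 : act 4 n721 = n1037 := rfl
theorem F5294 : act 0 n1037 = n1037 := d3_1 D1037 (iv D1037) F3749
theorem F5295 : act 2 n1037 = n759 := d18_1 D1037 (iv D759) (iv F3750)
theorem F5296 : act 6 n1037 = n1037 := d31_2 F3751 D1037 (iv D1037)
theorem F5297 : act 8 n1037 = n723 := d33_2 (iv F3752) D1037 (iv D723)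
def n1038 : Q := act 4 n722
theorem D1038 : act 4 n722 = n1038 := rfl
theorem F5298 : act 0 n1038 = n1038 := d3_1 D1038 (iv D1038) F3753
theorem F5299 : act 2 n1038 = n760 := d18_1 D1038 (iv D760) (iv F3754)
theorem F5300 : act 5 n1038 = n1038 := d30_2 D722 D1038 (iv D1038) (iv D722) F2657
theorem F5301 : act 7 n1038 = n723 := d32_2 (iv F3755) D1038 (iv D723)
theorem F5302 : act 9 n1038 = n1038 := d34_2 F3756 D1038 (iv D1038)
def n1039 : Q := act 6 n722
theorem D1039 : act 6 n722 = n1039 := rfl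
theorem F5303 : act 0 n1039 = n1039 := d5_1 D1039 (iv D1039) F3753
theorem F5304 : act 2 n1039 = n761 := d20_1 D1039 (iv D761) (iv F3754)
theorem F5305 : act 5 n1039 = n725 := d35_1 D1039 (iv D725) (iv D503) (iv F2658) D722
theorem F5306 : act 7 n1039 = n1039 := d39_2 (iv F3755) D1039 (iv D1039) F3755 F2663
theorem F5307 : act 9 n1039 = n1039 := d41_2 F3756 D1039 (iv D1039)
def n1040 : Q := act 3 n723
theorem D1040 : act 3 n723 = n1040 := rfl
theorem F5308 : act 0 n1040 = n1040 := d2_1 D1040 (iv D1040) F3757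
theorem F5309 : act 5 n1040 = n1040 := d25_2 F3759 D1040 (iv D1040)
theorem F5310 : act 6 n1040 = n1040 := d26_2 F3760 D1040 (iv D1040)
theorem F5311 : act 9 n1040 = n1040 := d29_2 F3761 D1040 (iv D1040)
def n1041 : Q := act 3 n724
theorem D1041 : act 3 n724 = n1041 := rfl
theorem F5314 : act 7 n1041 = n726 := d27_2 (iv F3765) D1041 (iv D726)
def n1042 : Q := act 6 n724
theorem D1042 : act 6 n724 = n1042 := rfl
theorem F5319 : act 4 n1042 = n725 := d31_1 D1042 (iv D725) D724
def n1043 : Q := act 2 n726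
theorem D1043 : act 2 n726 = n1043 := rfl
theorem F5324 : act 3 n1043 = n765 := d17_2 D726 D1043 (iv D765) (iv D533) (iv F2671)
def n1044 : Q := act 9 n727
theorem D1044 : act 9 n727 = n1044 := rfl
theorem F5329 : act 0 n1044 = n728 := d8_1 D1044 (iv D728) D727
theorem F5330 : act 1 n1044 = n1044 := d16_1 D1044 (iv D1044) F3778
theorem F5331 : act 3 n1044 = n766 := d29_1 D1044 (iv D766) (iv F3779)
theorem F5332 : act 4 n1044 = n1044 := d34_1 D1044 (iv D1044) F3780
theorem F5333 : act 6 n1044 = n1044 := d41_1 D1044 (iv D1044) F3781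
theorem F5334 : act 7 n1044 = n1044 := d43_1 D1044 (iv D1044) F3782
def n1045 : Q := act 8 n728
theorem D1045 : act 8 n728 = n1045 := rfl
theorem F5335 : act 1 n1045 = n729 := d15_1 D1045 (iv D729) (iv F3784)
theorem F5336 : act 3 n1045 = n767 := d28_1 D1045 (iv D767) (iv F3785)
theorem F5337 : act 4 n1045 = n1045 := d33_1 D1045 (iv D1045) F3786
theorem F5338 : act 6 n1045 = n1045 := d40_1 D1045 (iv D1045) F3787
theorem F5339 : act 7 n1045 = n1045 := d42_1 D1045 (iv D1045) F3788
theorem F5340 : act 9 n1045 = n1045 := d44_2 D728 D1045 (iv D1045) (iv D728) F2680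
def n1046 : Q := act 5 n729
theorem D1046 : act 5 n729 = n1046 := rfl
theorem F5341 : act 0 n1046 = n1046 := d4_1 D1046 (iv D1046) F3789
theorem F5342 : act 2 n1046 = n730 := d19_1 D1046 (iv D730) (iv F3790)
theorem F5343 : act 3 n1046 = n768 := d25_1 D1046 (iv D768) (iv F3791)
theorem F5344 : act 7 n1046 = n1046 := d36_2 F3794 D1046 (iv D1046)
theorem F5345 : act 9 n1046 = n1046 := d38_2 F3795 D1046 (iv D1046)
def n1047 : Q := act 4 n730
theorem D1047 : act 4 n730 = n1047 := rfl
theorem F5346 : act 0 n1047 = n1047 := d3_1 D1047 (iv D1047) F3796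
theorem F5347 : act 3 n1047 = n1047 := d24_1 D1047 (iv D1047) F3797 F2695 (iv F3797)
theorem F5348 : act 5 n1047 = n1047 := d30_2 D730 D1047 (iv D1047) (iv D730) F2689
theorem F5349 : act 7 n1047 = n1047 := d32_2 F3798 D1047 (iv D1047)
theorem F5350 : act 9 n1047 = n1047 := d34_2 F3799 D1047 (iv D1047)
def n1048 : Q := act 6 n730
theorem D1048 : act 6 n730 = n1048 := rfl
theorem F5351 : act 0 n1048 = n1048 := d5_1 D1048 (iv D1048) F3796
theorem F5352 : act 3 n1048 = n731 := d26_1 D1048 (iv D731) (iv F3797)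
theorem F5353 : act 5 n1048 = n1048 := d35_1 D1048 (iv D1048) (iv D730) F2690 D730
theorem F5354 : act 9 n1048 = n1048 := d41_2 F3799 D1048 (iv D1048)
def n1049 : Q := act 7 n731
theorem D1049 : act 7 n731 = n1049 := rfl
theorem F5355 : act 0 n1049 = n1049 := d6_1 D1049 (iv D1049) F3800
theorem F5356 : act 2 n1049 = n771 := d21_1 D1049 (iv D771) (iv F3801)
theorem F5357 : act 4 n1049 = n1049 := d32_1 D1049 (iv D1049) F3802
theorem F5358 : act 5 n1049 = n1049 := d36_1 D1049 (iv D1049) F3803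
theorem F5359 : act 6 n1049 = n1049 := d39_1 D1049 (iv D1049) (iv D731) F2696 D731
theorem F5360 : act 9 n1049 = n1049 := d43_2 F3804 D1049 (iv D1049)
def n1050 : Q := act 0 n732
theorem D1050 : act 0 n732 = n1050 := rfl
theorem F5361 : act 1 n1050 = n1050 := d0_2 D732 D1050 (iv D1050) (iv D732) F2698
theorem F5362 : act 2 n1050 = n1050 := d1_2 F3805 D1050 (iv D1050)
theorem F5363 : act 4 n1050 = n1050 := d3_2 F3806 D1050 (iv D1050)
theorem F5364 : act 5 n1050 = n1050 := d4_2 F3807 D1050 (iv D1050)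
theorem F5365 : act 7 n1050 = n1050 := d6_2 F3808 D1050 (iv D1050)
theorem F5366 : act 8 n1050 = n746 := d7_2 (iv F3809) D1050 (iv D746)
def n1051 : Q := act 6 n732
theorem D1051 : act 6 n732 = n1051 := rfl
theorem F5367 : act 1 n1051 = n733 := d13_1 D1051 (iv D733) D732
theorem F5368 : act 2 n1051 = n1051 := d20_1 D1051 (iv D1051) F3805
theorem F5369 : act 4 n1051 = n1051 := d31_1 D1051 (iv D1051) F3806
theorem F5370 : act 8 n1051 = n747 := d40_2 (iv F3809) D1051 (iv D747)
def n1052 : Q := act 9 n732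
theorem D1052 : act 9 n732 = n1052 := rfl
theorem F5371 : act 1 n1052 = n734 := d16_1 D1052 (iv D734) D732
theorem F5372 : act 2 n1052 = n1052 := d23_1 D1052 (iv D1052) F3805
theorem F5373 : act 4 n1052 = n1052 := d34_1 D1052 (iv D1052) F3806
theorem F5374 : act 5 n1052 = n1052 := d38_1 D1052 (iv D1052) F3807
theorem F5375 : act 7 n1052 = n1052 := d43_1 D1052 (iv D1052) F3808
def n1053 : Q := act 5 n733
theorem D1053 : act 5 n733 = n1053 := rfl
theorem F5376 : act 0 n1053 = n1053 := d4_1 D1053 (iv D1053) F3810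
theorem F5377 : act 2 n1053 = n735 := d19_1 D1053 (iv D735) (iv F3811)
theorem F5378 : act 6 n1053 = n1053 := d35_2 D733 D1053 (iv D1053) (iv D733) F2700
theorem F5379 : act 8 n1053 = n1053 := d37_2 (iv F3813) D1053 (iv D1053) F3813 F2751
def n1054 : Q := act 7 n733
theorem D1054 : act 7 n733 = n1054 := rfl
theorem F5380 : act 0 n1054 = n1054 := d6_1 D1054 (iv D1054) F3810
theorem F5381 : act 2 n1054 = n736 := d21_1 D1054 (iv D736) (iv F3811)
theorem F5382 : act 4 n1054 = n1054 := d32_1 D1054 (iv D1054) F3812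
theorem F5383 : act 6 n1054 = n1054 := d39_1 D1054 (iv D1054) (iv D733) F2701 D733
theorem F5384 : act 8 n1054 = n749 := d42_2 (iv F3813) D1054 (iv D749)
def n1055 : Q := act 9 n733
theorem D1055 : act 9 n733 = n1055 := rfl
theorem F5385 : act 0 n1055 = n1055 := d8_1 D1055 (iv D1055) F3810
theorem F5386 : act 2 n1055 = n737 := d23_1 D1055 (iv D737) (iv F3811)
theorem F5387 : act 4 n1055 = n1055 := d34_1 D1055 (iv D1055) F3812
theorem F5388 : act 6 n1055 = n734 := d41_1 D1055 (iv D734) D733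
def n1056 : Q := act 8 n734
theorem D1056 : act 8 n734 = n1056 := rfl
theorem F5389 : act 0 n1056 = n1056 := d7_1 D1056 (iv D1056) F3814
theorem F5390 : act 2 n1056 = n738 := d22_1 D1056 (iv D738) (iv F3815)
theorem F5391 : act 4 n1056 = n1056 := d33_1 D1056 (iv D1056) F3816
theorem F5392 : act 7 n1056 = n1056 := d42_1 D1056 (iv D1056) F3818
theorem F5393 : act 9 n1056 = n751 := d44_2 D734 D1056 (iv D751) (iv D520) (iv F2702)
def n1057 : Q := act 4 n735
theorem D1057 : act 4 n735 = n1057 := rfl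
theorem F5394 : act 0 n1057 = n1057 := d3_1 D1057 (iv D1057) F3819
theorem F5395 : act 1 n1057 = n1057 := d11_1 D1057 (iv D1057) F3820
theorem F5396 : act 3 n1057 = n1057 := d24_1 D1057 (iv D1057) F3821 F2716 (iv F3821)
theorem F5397 : act 5 n1057 = n1057 := d30_2 D735 D1057 (iv D1057) (iv D735) F2706
theorem F5398 : act 6 n1057 = n1057 := d31_2 F3822 D1057 (iv D1057)
theorem F5399 : act 8 n1057 = n1057 := d33_2 F3823 D1057 (iv D1057)
def n1058 : Q := act 7 n735
theorem D1058 : act 7 n735 = n1058 := rfl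
theorem F5400 : act 0 n1058 = n1058 := d6_1 D1058 (iv D1058) F3819
theorem F5401 : act 1 n1058 = n1058 := d14_1 D1058 (iv D1058) F3820
theorem F5402 : act 3 n1058 = n739 := d27_1 D1058 (iv D739) (iv F3821)
theorem F5403 : act 5 n1058 = n736 := d36_1 D1058 (iv D736) D735
theorem F5404 : act 8 n1058 = n1058 := d42_2 F3823 D1058 (iv D1058)
def n1059 : Q := act 9 n735
theorem D1059 : act 9 n735 = n1059 := rfl
theorem F5405 : act 0 n1059 = n1059 := d8_1 D1059 (iv D1059) F3819
theorem F5406 : act 1 n1059 = n1059 := d16_1 D1059 (iv D1059) F3820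
theorem F5407 : act 3 n1059 = n740 := d29_1 D1059 (iv D740) (iv F3821)
theorem F5408 : act 5 n1059 = n737 := d38_1 D1059 (iv D737) D735
theorem F5409 : act 6 n1059 = n1059 := d41_1 D1059 (iv D1059) F3822
def n1060 : Q := act 9 n736
theorem D1060 : act 9 n736 = n1060 := rfl
theorem F5410 : act 0 n1060 = n1060 := d8_1 D1060 (iv D1060) F3824
theorem F5411 : act 1 n1060 = n1060 := d16_1 D1060 (iv D1060) F3825
theorem F5412 : act 3 n1060 = n741 := d29_1 D1060 (iv D741) (iv F3826)
theorem F5413 : act 4 n1060 = n1060 := d34_1 D1060 (iv D1060) F3827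
theorem F5414 : act 6 n1060 = n1060 := d41_1 D1060 (iv D1060) F3828
theorem F5415 : act 7 n1060 = n737 := d43_1 D1060 (iv D737) D736
def n1061 : Q := act 8 n737
theorem D1061 : act 8 n737 = n1061 := rfl
theorem F5416 : act 0 n1061 = n1061 := d7_1 D1061 (iv D1061) F3830
theorem F5417 : act 1 n1061 = n1061 := d15_1 D1061 (iv D1061) F3831
theorem F5418 : act 3 n1061 = n742 := d28_1 D1061 (iv D742) (iv F3832)
theorem F5419 : act 4 n1061 = n1061 := d33_1 D1061 (iv D1061) F3833
theorem F5420 : act 6 n1061 = n738 := d40_1 D1061 (iv D738) (iv F3834)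
theorem F5421 : act 9 n1061 = n753 := d44_2 D737 D1061 (iv D753) (iv D522) (iv F2707)
def n1062 : Q := act 5 n738
theorem D1062 : act 5 n738 = n1062 := rfl
theorem F5422 : act 0 n1062 = n1062 := d4_1 D1062 (iv D1062) F3835
theorem F5423 : act 1 n1062 = n1062 := d12_1 D1062 (iv D1062) F3836
theorem F5424 : act 3 n1062 = n743 := d25_1 D1062 (iv D743) (iv F3837)
theorem F5425 : act 7 n1062 = n1062 := d36_2 F3839 D1062 (iv D1062)
theorem F5426 : act 8 n1062 = n1062 := d37_2 D738 D1062 (iv D1062) (iv D738) F2712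
theorem F5427 : act 9 n1062 = n754 := d38_2 (iv F3840) D1062 (iv D754)
def n1063 : Q := act 6 n739
theorem D1063 : act 6 n739 = n1063 := rfl
theorem F5428 : act 0 n1063 = n1063 := d5_1 D1063 (iv D1063) F3841
theorem F5429 : act 1 n1063 = n1063 := d13_1 D1063 (iv D1063) F3842
theorem F5430 : act 4 n1063 = n1063 := d31_1 D1063 (iv D1063) F3843
theorem F5431 : act 5 n1063 = n1063 := d35_1 D1063 (iv D1063) F3844 F2722 (iv F3844)
theorem F5432 : act 7 n1063 = n1063 := d39_2 D739 D1063 (iv D1063) (iv D739) F2717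
theorem F5433 : act 8 n1063 = n1063 := d40_2 F3845 D1063 (iv D1063)
def n1064 : Q := act 9 n739
theorem D1064 : act 9 n739 = n1064 := rfl
theorem F5434 : act 0 n1064 = n1064 := d8_1 D1064 (iv D1064) F3841
theorem F5435 : act 1 n1064 = n1064 := d16_1 D1064 (iv D1064) F3842
theorem F5436 : act 4 n1064 = n1064 := d34_1 D1064 (iv D1064) F3843
theorem F5437 : act 5 n1064 = n741 := d38_1 D1064 (iv D741) (iv F3844)
theorem F5438 : act 7 n1064 = n740 := d43_1 D1064 (iv D740) D739
def n1065 : Q := act 8 n740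
theorem D1065 : act 8 n740 = n1065 := rfl
theorem F5439 : act 0 n1065 = n1065 := d7_1 D1065 (iv D1065) F3846
theorem F5440 : act 1 n1065 = n1065 := d15_1 D1065 (iv D1065) F3847
theorem F5441 : act 4 n1065 = n1065 := d33_1 D1065 (iv D1065) F3848
theorem F5442 : act 6 n1065 = n1065 := d40_1 D1065 (iv D1065) F3850
theorem F5443 : act 9 n1065 = n1065 := d44_2 D740 D1065 (iv D1065) (iv D740) F2718
def n1066 : Q := act 8 n741
theorem D1066 : act 8 n741 = n1066 := rfl
theorem F5444 : act 0 n1066 = n1066 := d7_1 D1066 (iv D1066) F3851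
theorem F5445 : act 1 n1066 = n1066 := d15_1 D1066 (iv D1066) F3852
theorem F5446 : act 4 n1066 = n744 := d33_1 D1066 (iv D744) (iv F3853)
theorem F5447 : act 6 n1066 = n1066 := d40_1 D1066 (iv D1066) F3854
theorem F5448 : act 7 n1066 = n742 := d42_1 D1066 (iv D742) (iv F3855)
theorem F5449 : act 9 n1066 = n755 := d44_2 D741 D1066 (iv D755) (iv D524) (iv F2723)
def n1067 : Q := act 5 n742
theorem D1067 : act 5 n742 = n1067 := rfl
theorem F5450 : act 0 n1067 = n1067 := d4_1 D1067 (iv D1067) F3856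
theorem F5451 : act 1 n1067 = n1067 := d12_1 D1067 (iv D1067) F3857
theorem F5452 : act 9 n1067 = n756 := d38_2 (iv F3860) D1067 (iv D756)
def n1068 : Q := act 6 n743
theorem D1068 : act 6 n743 = n1068 := rfl
theorem F5453 : act 0 n1068 = n1068 := d5_1 D1068 (iv D1068) F3861
theorem F5454 : act 1 n1068 = n1068 := d13_1 D1068 (iv D1068) F3862
theorem F5455 : act 4 n1068 = n1068 := d31_1 D1068 (iv D1068) F3863
theorem F5456 : act 8 n1068 = n1068 := d40_2 F3865 D1068 (iv D1068)
theorem F5457 : act 9 n1068 = n757 := d41_2 (iv F3866) D1068 (iv D757)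
def n1069 : Q := act 5 n744
theorem D1069 : act 5 n744 = n1069 := rfl
theorem F5458 : act 0 n1069 = n1069 := d4_1 D1069 (iv D1069) F3867
theorem F5459 : act 1 n1069 = n1069 := d12_1 D1069 (iv D1069) F3868
theorem F5460 : act 3 n1069 = n1069 := d25_1 D1069 (iv D1069) F3869
theorem F5461 : act 7 n1069 = n745 := d36_2 (iv F3871) D1069 (iv D745)
theorem F5462 : act 8 n1069 = n1069 := d37_2 D744 D1069 (iv D1069) (iv D744) F2736
theorem F5463 : act 9 n1069 = n758 := d38_2 (iv F3872) D1069 (iv D758)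
def n1070 : Q := act 4 n745
theorem D1070 : act 4 n745 = n1070 := rfl
theorem F5464 : act 0 n1070 = n1070 := d3_1 D1070 (iv D1070) F3873
theorem F5465 : act 1 n1070 = n1070 := d11_1 D1070 (iv D1070) F3874
theorem F5466 : act 6 n1070 = n1070 := d31_2 F3876 D1070 (iv D1070)
theorem F5467 : act 8 n1070 = n1070 := d33_2 F3877 D1070 (iv D1070)
theorem F5468 : act 9 n1070 = n759 := d34_2 (iv F3878) D1070 (iv D759)
def n1071 : Q := act 6 n746
theorem D1071 : act 6 n746 = n1071 := rfl
theorem F5469 : act 0 n1071 = n747 := d5_1 D1071 (iv D747) D746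
theorem F5470 : act 1 n1071 = n1071 := d13_1 D1071 (iv D1071) F3879
theorem F5471 : act 2 n1071 = n1071 := d20_1 D1071 (iv D1071) F3880
theorem F5472 : act 4 n1071 = n1071 := d31_1 D1071 (iv D1071) F3881
theorem F5473 : act 5 n1071 = n1071 := d35_1 D1071 (iv D1071) F3882 F2831 (iv F3882)
def n1072 : Q := act 9 n746
theorem D1072 : act 9 n746 = n1072 := rfl
theorem F5474 : act 0 n1072 = n748 := d8_1 D1072 (iv D748) D746
theorem F5475 : act 1 n1072 = n1072 := d16_1 D1072 (iv D1072) F3879
theorem F5476 : act 2 n1072 = n1072 := d23_1 D1072 (iv D1072) F3880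
theorem F5477 : act 4 n1072 = n1072 := d34_1 D1072 (iv D1072) F3881
theorem F5478 : act 5 n1072 = n766 := d38_1 D1072 (iv D766) (iv F3882)
theorem F5479 : act 7 n1072 = n1072 := d43_1 D1072 (iv D1072) F3883
def n1073 : Q := act 7 n747
theorem D1073 : act 7 n747 = n1073 := rfl
theorem F5480 : act 1 n1073 = n749 := d14_1 D1073 (iv D749) (iv F3884)
theorem F5481 : act 2 n1073 = n1073 := d21_1 D1073 (iv D1073) F3885
theorem F5482 : act 4 n1073 = n1073 := d32_1 D1073 (iv D1073) F3886
theorem F5483 : act 5 n1073 = n1073 := d36_1 D1073 (iv D1073) F3887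
theorem F5484 : act 6 n1073 = n1073 := d39_1 D1073 (iv D1073) (iv D747) F2747 D747
def n1074 : Q := act 9 n747
theorem D1074 : act 9 n747 = n1074 := rfl
theorem F5485 : act 1 n1074 = n750 := d16_1 D1074 (iv D750) (iv F3884)
theorem F5486 : act 2 n1074 = n1074 := d23_1 D1074 (iv D1074) F3885
theorem F5487 : act 4 n1074 = n1074 := d34_1 D1074 (iv D1074) F3886
theorem F5488 : act 5 n1074 = n1074 := d38_1 D1074 (iv D1074) F3887
theorem F5489 : act 6 n1074 = n748 := d41_1 D1074 (iv D748) D747
def n1075 : Q := act 8 n748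
theorem D1075 : act 8 n748 = n1075 := rfl
theorem F5490 : act 1 n1075 = n751 := d15_1 D1075 (iv D751) (iv F3888)
theorem F5491 : act 2 n1075 = n1075 := d22_1 D1075 (iv D1075) F3889
theorem F5492 : act 4 n1075 = n1075 := d33_1 D1075 (iv D1075) F3890
theorem F5493 : act 7 n1075 = n1075 := d42_1 D1075 (iv D1075) F3892
def n1076 : Q := act 9 n749
theorem D1076 : act 9 n749 = n1076 := rfl
theorem F5494 : act 0 n1076 = n1076 := d8_1 D1076 (iv D1076) F3893
theorem F5495 : act 2 n1076 = n752 := d23_1 D1076 (iv D752) (iv F3894)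
theorem F5496 : act 4 n1076 = n1076 := d34_1 D1076 (iv D1076) F3895
theorem F5497 : act 5 n1076 = n1076 := d38_1 D1076 (iv D1076) F3896
theorem F5498 : act 6 n1076 = n1076 := d41_1 D1076 (iv D1076) F3897
theorem F5499 : act 7 n1076 = n750 := d43_1 D1076 (iv D750) D749
def n1077 : Q := act 8 n750
theorem D1077 : act 8 n750 = n1077 := rfl
theorem F5500 : act 0 n1077 = n1077 := d7_1 D1077 (iv D1077) F3898
theorem F5501 : act 2 n1077 = n753 := d22_1 D1077 (iv D753) (iv F3899)
theorem F5502 : act 4 n1077 = n1077 := d33_1 D1077 (iv D1077) F3900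
theorem F5503 : act 6 n1077 = n751 := d40_1 D1077 (iv D751) (iv F3902)
def n1078 : Q := act 5 n751
theorem D1078 : act 5 n751 = n1078 := rfl
theorem F5504 : act 0 n1078 = n1078 := d4_1 D1078 (iv D1078) F3903
theorem F5505 : act 2 n1078 = n754 := d19_1 D1078 (iv D754) (iv F3904)
theorem F5506 : act 7 n1078 = n1078 := d36_2 F3906 D1078 (iv D1078)
theorem F5507 : act 8 n1078 = n768 := d37_2 D751 D1078 (iv D768) (iv D536) (iv F2755)
def n1079 : Q := act 8 n752
theorem D1079 : act 8 n752 = n1079 := rfl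
theorem F5508 : act 0 n1079 = n1079 := d7_1 D1079 (iv D1079) F3907
theorem F5509 : act 1 n1079 = n1079 := d15_1 D1079 (iv D1079) F3908
theorem F5510 : act 3 n1079 = n755 := d28_1 D1079 (iv D755) (iv F3909)
theorem F5511 : act 4 n1079 = n1079 := d33_1 D1079 (iv D1079) F3910
theorem F5512 : act 6 n1079 = n1079 := d40_1 D1079 (iv D1079) F3912
theorem F5513 : act 7 n1079 = n753 := d42_1 D1079 (iv D753) (iv F3913)
def n1080 : Q := act 5 n753
theorem D1080 : act 5 n753 = n1080 := rfl
theorem F5514 : act 0 n1080 = n1080 := d4_1 D1080 (iv D1080) F3914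
theorem F5515 : act 1 n1080 = n1080 := d12_1 D1080 (iv D1080) F3915
theorem F5516 : act 3 n1080 = n756 := d25_1 D1080 (iv D756) (iv F3916)
theorem F5517 : act 8 n1080 = n1080 := d37_2 D753 D1080 (iv D1080) (iv D753) F2767
def n1081 : Q := act 4 n754
theorem D1081 : act 4 n754 = n1081 := rfl
theorem F5518 : act 0 n1081 = n1081 := d3_1 D1081 (iv D1081) F3919
theorem F5519 : act 1 n1081 = n1081 := d11_1 D1081 (iv D1081) F3920
theorem F5520 : act 3 n1081 = n1081 := d24_1 D1081 (iv D1081) F3921 F2786 (iv F3921)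
theorem F5521 : act 5 n1081 = n1081 := d30_2 D754 D1081 (iv D1081) (iv D754) F2772
theorem F5522 : act 7 n1081 = n1081 := d32_2 F3922 D1081 (iv D1081)
theorem F5523 : act 8 n1081 = n769 := d33_2 (iv F3923) D1081 (iv D769)
def n1082 : Q := act 6 n754
theorem D1082 : act 6 n754 = n1082 := rfl
theorem F5524 : act 0 n1082 = n1082 := d5_1 D1082 (iv D1082) F3919
theorem F5525 : act 1 n1082 = n1082 := d13_1 D1082 (iv D1082) F3920
theorem F5526 : act 3 n1082 = n757 := d26_1 D1082 (iv D757) (iv F3921)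
def n1083 : Q := act 5 n755
theorem D1083 : act 5 n755 = n1083 := rfl
theorem F5528 : act 0 n1083 = n1083 := d4_1 D1083 (iv D1083) F3924
theorem F5529 : act 1 n1083 = n1083 := d12_1 D1083 (iv D1083) F3925
theorem F5530 : act 7 n1083 = n756 := d36_2 (iv F3928) D1083 (iv D756)
theorem F5531 : act 8 n1083 = n1083 := d37_2 D755 D1083 (iv D1083) (iv D755) F2777
def n1084 : Q := act 4 n756
theorem D1084 : act 4 n756 = n1084 := rfl
theorem F5532 : act 0 n1084 = n1084 := d3_1 D1084 (iv D1084) F3929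
theorem F5533 : act 1 n1084 = n1084 := d11_1 D1084 (iv D1084) F3930
theorem F5534 : act 5 n1084 = n759 := d30_2 D756 D1084 (iv D759) (iv D528) (iv F2782)
theorem F5535 : act 8 n1084 = n1084 := d33_2 F3931 D1084 (iv D1084)
def n1085 : Q := act 6 n756
theorem D1085 : act 6 n756 = n1085 := rfl
theorem F5536 : act 0 n1085 = n1085 := d5_1 D1085 (iv D1085) F3929
theorem F5537 : act 1 n1085 = n1085 := d13_1 D1085 (iv D1085) F3930
theorem F5538 : act 5 n1085 = n757 := d35_1 D1085 (iv D757) (iv D526) (iv F2783) D756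
theorem F5539 : act 8 n1085 = n1085 := d40_2 F3931 D1085 (iv D1085)
def n1086 : Q := act 7 n757
theorem D1086 : act 7 n757 = n1086 := rfl
theorem F5540 : act 0 n1086 = n1086 := d6_1 D1086 (iv D1086) F3932
theorem F5541 : act 1 n1086 = n1086 := d14_1 D1086 (iv D1086) F3933
theorem F5542 : act 4 n1086 = n1086 := d32_1 D1086 (iv D1086) F3934
theorem F5543 : act 6 n1086 = n1086 := d39_1 D1086 (iv D1086) (iv D757) F2787 D757
def n1087 : Q := act 4 n758
theorem D1087 : act 4 n758 = n1087 := rfl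
theorem F5547 : act 7 n1087 = n759 := d32_2 (iv F3939) D1087 (iv D759)
theorem F5548 : act 8 n1087 = n760 := d33_2 (iv F3940) D1087 (iv D760)
def n1088 : Q := act 6 n758
theorem D1088 : act 6 n758 = n1088 := rfl
theorem F5554 : act 8 n1088 = n761 := d40_2 (iv F3940) D1088 (iv D761)
def n1089 : Q := act 3 n759
theorem D1089 : act 3 n759 = n1089 := rfl
theorem F5558 : act 6 n1089 = n1089 := d26_2 F3943 D1089 (iv D1089)
theorem F5559 : act 8 n1089 = n762 := d28_2 (iv F3944) D1089 (iv D762)
def n1090 : Q := act 3 n760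
theorem D1090 : act 3 n760 = n1090 := rfl
theorem F5561 : act 1 n1090 = n1090 := d10_1 D1090 (iv D1090) F3946
theorem F5564 : act 7 n1090 = n762 := d27_2 (iv F3948) D1090 (iv D762)
theorem F5565 : act 9 n1090 = n1090 := d29_2 F3949 D1090 (iv D1090)
def n1091 : Q := act 6 n760
theorem D1091 : act 6 n760 = n1091 := rfl
theorem F5568 : act 4 n1091 = n761 := d31_1 D1091 (iv D761) D760
def n1092 : Q := act 2 n762
theorem D1092 : act 2 n762 = n1092 := rfl
def n1094 : Q := act 6 n763
theorem D1094 : act 6 n763 = n1094 := rfl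
theorem F5584 : act 3 n1094 = n764 := d26_1 D1094 (iv D764) D763
def n1095 : Q := act 5 n764
theorem D1095 : act 5 n764 = n1095 := rfl
def n1097 : Q := act 8 n766
theorem D1097 : act 8 n766 = n1097 := rfl
theorem F5600 : act 0 n1097 = n767 := d7_1 D1097 (iv D767) (iv F3981)
theorem F5601 : act 1 n1097 = n1097 := d15_1 D1097 (iv D1097) F3982
theorem F5602 : act 2 n1097 = n1097 := d22_1 D1097 (iv D1097) F3983
theorem F5603 : act 4 n1097 = n772 := d33_1 D1097 (iv D772) (iv F3984)
theorem F5604 : act 6 n1097 = n1097 := d40_1 D1097 (iv D1097) F3985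
theorem F5605 : act 7 n1097 = n1097 := d42_1 D1097 (iv D1097) F3986
theorem F5606 : act 9 n1097 = n1097 := d44_2 D766 D1097 (iv D1097) (iv D766) F2833
def n1098 : Q := act 5 n767
theorem D1098 : act 5 n767 = n1098 := rfl
theorem F5607 : act 1 n1098 = n768 := d12_1 D1098 (iv D768) (iv F3987)
theorem F5608 : act 2 n1098 = n1098 := d19_1 D1098 (iv D1098) F3988
theorem F5609 : act 7 n1098 = n1098 := d36_2 F3991 D1098 (iv D1098)
theorem F5610 : act 9 n1098 = n1098 := d38_2 F3992 D1098 (iv D1098)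
def n1099 : Q := act 4 n768
theorem D1099 : act 4 n768 = n1099 := rfl
theorem F5612 : act 2 n1099 = n769 := d18_1 D1099 (iv D769) (iv F3994)
theorem F5613 : act 5 n1099 = n774 := d30_2 D768 D1099 (iv D774) (iv D541) (iv F2841)
def n1100 : Q := act 6 n768
theorem D1100 : act 6 n768 = n1100 := rfl
theorem F5617 : act 2 n1100 = n770 := d20_1 D1100 (iv D770) (iv F3994)
def n1101 : Q := act 6 n769
theorem D1101 : act 6 n769 = n1101 := rfl
theorem F5623 : act 4 n1101 = n770 := d31_1 D1101 (iv D770) D769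
def n1102 : Q := act 7 n770
theorem D1102 : act 7 n770 = n1102 := rfl
theorem F5627 : act 3 n1102 = n771 := d27_1 D1102 (iv D771) (iv F4005)
def n1103 : Q := act 5 n772
theorem D1103 : act 5 n772 = n1103 := rfl
theorem F5631 : act 0 n1103 = n773 := d4_1 D1103 (iv D773) (iv F4014)
theorem F5632 : act 1 n1103 = n1103 := d12_1 D1103 (iv D1103) F4015
theorem F5633 : act 2 n1103 = n1103 := d19_1 D1103 (iv D1103) F4016
theorem F5634 : act 3 n1103 = n1103 := d25_1 D1103 (iv D1103) F4017
theorem F5635 : act 7 n1103 = n1103 := d36_2 F4019 D1103 (iv D1103)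
theorem F5636 : act 8 n1103 = n1103 := d37_2 D772 D1103 (iv D1103) (iv D772) F2859
theorem F5637 : act 9 n1103 = n1103 := d38_2 F4020 D1103 (iv D1103)
def n1104 : Q := act 4 n773
theorem D1104 : act 4 n773 = n1104 := rfl
theorem F5638 : act 1 n1104 = n774 := d11_1 D1104 (iv D774) (iv F4021)
theorem F5639 : act 2 n1104 = n1104 := d18_1 D1104 (iv D1104) F4022
theorem F5642 : act 9 n1104 = n1104 := d34_2 F4026 D1104 (iv D1104)
def n1105 : Q := act 6 n773
theorem D1105 : act 6 n773 = n1105 := rfl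
def n1106 : Q := act 3 n774
theorem D1106 : act 3 n774 = n1106 := rfl
theorem F5650 : act 2 n1106 = n1106 := d17_1 D1106 (iv D1106) F4028 F2876 (iv F4028)
theorem F5652 : act 7 n1106 = n1106 := d27_2 F4029 D1106 (iv D1106)
theorem F5653 : act 8 n1106 = n1106 := d28_2 F4030 D1106 (iv D1106)
def n1107 : Q := act 6 n774
theorem D1107 : act 6 n774 = n1107 := rfl
theorem F5656 : act 2 n1107 = n776 := d20_1 D1107 (iv D776) (iv F4028)
theorem F5657 : act 4 n1107 = n775 := d31_1 D1107 (iv D775) D774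
def n1109 : Q := act 5 n776
theorem D1109 : act 5 n776 = n1109 := rfl
theorem F5667 : act 0 n1109 = n1109 := d4_1 D1109 (iv D1109) F4038
def n1111 : Q := act 3 n778
theorem D1111 : act 3 n778 = n1111 := rfl
theorem F5679 : act 0 n1111 = n1111 := d2_1 D1111 (iv D1111) F4051
theorem F5680 : act 1 n1111 = n791 := d10_1 D1111 (iv D791) (iv F4052)
theorem F5681 : act 4 n1111 = n1111 := d24_2 D778 D1111 (iv D1111) (iv D778) F2897
theorem F5682 : act 5 n1111 = n1111 := d25_2 F4054 D1111 (iv D1111)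
theorem F5683 : act 6 n1111 = n1111 := d26_2 F4055 D1111 (iv D1111)
theorem F5684 : act 7 n1111 = n1111 := d27_2 F4056 D1111 (iv D1111)
theorem F5685 : act 9 n1111 = n1111 := d29_2 F4057 D1111 (iv D1111)
def n1112 : Q := act 8 n778
theorem D1112 : act 8 n778 = n1112 := rfl
theorem F5686 : act 0 n1112 = n1112 := d7_1 D1112 (iv D1112) F4051
theorem F5687 : act 1 n1112 = n792 := d15_1 D1112 (iv D792) (iv F4052)
theorem F5688 : act 2 n1112 = n1112 := d22_1 D1112 (iv D1112) F4053
theorem F5689 : act 4 n1112 = n779 := d33_1 D1112 (iv D779) D778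
theorem F5690 : act 6 n1112 = n1112 := d40_1 D1112 (iv D1112) F4055
theorem F5691 : act 7 n1112 = n1112 := d42_1 D1112 (iv D1112) F4056
def n1113 : Q := act 5 n779
theorem D1113 : act 5 n779 = n1113 := rfl
theorem F5692 : act 0 n1113 = n1113 := d4_1 D1113 (iv D1113) F4058
theorem F5693 : act 1 n1113 = n793 := d12_1 D1113 (iv D793) (iv F4059)
theorem F5694 : act 2 n1113 = n1113 := d19_1 D1113 (iv D1113) F4060
theorem F5695 : act 3 n1113 = n1113 := d25_1 D1113 (iv D1113) F4061
theorem F5696 : act 7 n1113 = n1113 := d36_2 F4063 D1113 (iv D1113)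
theorem F5697 : act 8 n1113 = n780 := d37_2 D779 D1113 (iv D780) (iv D546) D545
def n1114 : Q := act 9 n779
theorem D1114 : act 9 n779 = n1114 := rfl
theorem F5698 : act 0 n1114 = n1114 := d8_1 D1114 (iv D1114) F4058
theorem F5699 : act 1 n1114 = n794 := d16_1 D1114 (iv D794) (iv F4059)
theorem F5700 : act 2 n1114 = n1114 := d23_1 D1114 (iv D1114) F4060
theorem F5701 : act 3 n1114 = n1114 := d29_1 D1114 (iv D1114) F4061
theorem F5702 : act 6 n1114 = n1114 := d41_1 D1114 (iv D1114) F4062
theorem F5703 : act 7 n1114 = n1114 := d43_1 D1114 (iv D1114) F4063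
theorem F5704 : act 8 n1114 = n1114 := d44_1 D1114 (iv D1114) (iv D779) F2900 D779
def n1115 : Q := act 4 n780
theorem D1115 : act 4 n780 = n1115 := rfl
theorem F5705 : act 0 n1115 = n1115 := d3_1 D1115 (iv D1115) F4064
theorem F5706 : act 1 n1115 = n795 := d11_1 D1115 (iv D795) (iv F4065)
theorem F5707 : act 2 n1115 = n1115 := d18_1 D1115 (iv D1115) F4066
theorem F5708 : act 5 n1115 = n1115 := d30_2 D780 D1115 (iv D1115) (iv D780) F2905
theorem F5709 : act 7 n1115 = n1115 := d32_2 F4068 D1115 (iv D1115)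
def n1116 : Q := act 6 n780
theorem D1116 : act 6 n780 = n1116 := rfl
theorem F5711 : act 1 n1116 = n796 := d13_1 D1116 (iv D796) (iv F4065)
def n1117 : Q := act 9 n780
theorem D1117 : act 9 n780 = n1117 := rfl
theorem F5715 : act 0 n1117 = n1117 := d8_1 D1117 (iv D1117) F4064
theorem F5716 : act 1 n1117 = n797 := d16_1 D1117 (iv D797) (iv F4065)
theorem F5717 : act 2 n1117 = n1117 := d23_1 D1117 (iv D1117) F4066
theorem F5718 : act 3 n1117 = n1117 := d29_1 D1117 (iv D1117) F4067
theorem F5719 : act 5 n1117 = n781 := d38_1 D1117 (iv D781) D780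
theorem F5720 : act 7 n1117 = n1117 := d43_1 D1117 (iv D1117) F4068
def n1120 : Q := act 9 n782
theorem D1120 : act 9 n782 = n1120 := rfl
theorem F5735 : act 4 n1120 = n784 := d34_1 D1120 (iv D784) D782
def n1122 : Q := act 9 n783
theorem D1122 : act 9 n783 = n1122 := rfl
theorem F5745 : act 1 n1122 = n802 := d16_1 D1122 (iv D802) (iv F4084)
theorem F5748 : act 6 n1122 = n784 := d41_1 D1122 (iv D784) D783
def n1123 : Q := act 8 n784
theorem D1123 : act 8 n784 = n1123 := rfl
theorem F5750 : act 1 n1123 = n803 := d15_1 D1123 (iv D803) (iv F4089)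
theorem F5753 : act 5 n1123 = n1123 := d37_1 D1123 (iv D1123) F4092 F2920 (iv F4092)
def n1125 : Q := act 6 n785
theorem D1125 : act 6 n785 = n1125 := rfl
theorem F5763 : act 1 n1125 = n804 := d13_1 D1125 (iv D804) (iv F4095)
def n1126 : Q := act 9 n785
theorem D1126 : act 9 n785 = n1126 := rfl
theorem F5769 : act 3 n1126 = n787 := d29_1 D1126 (iv D787) D785
def n1127 : Q := act 5 n786
theorem D1127 : act 5 n786 = n1127 := rfl
theorem F5773 : act 1 n1127 = n806 := d12_1 D1127 (iv D806) (iv F4100)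
def n1128 : Q := act 7 n786
theorem D1128 : act 7 n786 = n1128 := rfl
theorem F5780 : act 4 n1128 = n788 := d32_1 D1128 (iv D788) (iv F4102)
def n1130 : Q := act 8 n787
theorem D1130 : act 8 n787 = n1130 := rfl
theorem F5790 : act 4 n1130 = n790 := d33_1 D1130 (iv D790) (iv F4107)
def n1131 : Q := act 9 n788
theorem D1131 : act 9 n788 = n1131 := rfl
theorem F5797 : act 7 n1131 = n789 := d43_1 D1131 (iv D789) D788
def n1132 : Q := act 8 n789
theorem D1132 : act 8 n789 = n1132 := rfl
theorem F5802 : act 6 n1132 = n790 := d40_1 D1132 (iv D790) (iv F4120)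
def n1133 : Q := act 8 n791
theorem D1133 : act 8 n791 = n1133 := rfl
theorem F5804 : act 0 n1133 = n859 := d7_1 D1133 (iv D859) (iv F4127)
theorem F5805 : act 2 n1133 = n1133 := d22_1 D1133 (iv D1133) F4128
theorem F5806 : act 3 n1133 = n792 := d28_1 D1133 (iv D792) D791
theorem F5807 : act 4 n1133 = n1133 := d33_1 D1133 (iv D1133) F4129
theorem F5808 : act 6 n1133 = n1133 := d40_1 D1133 (iv D1133) F4131
theorem F5809 : act 7 n1133 = n1133 := d42_1 D1133 (iv D1133) F4132
def n1134 : Q := act 5 n792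
theorem D1134 : act 5 n792 = n1134 := rfl
theorem F5810 : act 0 n1134 = n860 := d4_1 D1134 (iv D860) (iv F4134)
theorem F5811 : act 2 n1134 = n812 := d19_1 D1134 (iv D812) (iv F4135)
theorem F5812 : act 7 n1134 = n1134 := d36_2 F4138 D1134 (iv D1134)
theorem F5813 : act 8 n1134 = n1134 := d37_2 D792 D1134 (iv D1134) (iv D792) F2939
def n1135 : Q := act 9 n792
theorem D1135 : act 9 n792 = n1135 := rfl
theorem F5814 : act 0 n1135 = n861 := d8_1 D1135 (iv D861) (iv F4134)
theorem F5815 : act 2 n1135 = n813 := d23_1 D1135 (iv D813) (iv F4135)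
theorem F5816 : act 4 n1135 = n794 := d34_1 D1135 (iv D794) (iv F4136)
theorem F5817 : act 6 n1135 = n1135 := d41_1 D1135 (iv D1135) F4137
theorem F5818 : act 7 n1135 = n1135 := d43_1 D1135 (iv D1135) F4138
theorem F5819 : act 8 n1135 = n1135 := d44_1 D1135 (iv D1135) (iv D792) F2942 D792
def n1136 : Q := act 4 n793
theorem D1136 : act 4 n793 = n1136 := rfl
theorem F5820 : act 0 n1136 = n862 := d3_1 D1136 (iv D862) (iv F4139)
theorem F5821 : act 2 n1136 = n814 := d18_1 D1136 (iv D814) (iv F4140)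
theorem F5822 : act 7 n1136 = n1136 := d32_2 F4142 D1136 (iv D1136)
theorem F5823 : act 8 n1136 = n795 := d33_2 (iv F4143) D1136 (iv D795)
def n1137 : Q := act 6 n793
theorem D1137 : act 6 n793 = n1137 := rfl
theorem F5824 : act 0 n1137 = n863 := d5_1 D1137 (iv D863) (iv F4139)
theorem F5825 : act 2 n1137 = n815 := d20_1 D1137 (iv D815) (iv F4140)
theorem F5826 : act 3 n1137 = n1137 := d26_1 D1137 (iv D1137) F4141
theorem F5827 : act 5 n1137 = n1137 := d35_1 D1137 (iv D1137) (iv D793) F2946 D793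
theorem F5828 : act 8 n1137 = n796 := d40_2 (iv F4143) D1137 (iv D796)
def n1138 : Q := act 9 n793
theorem D1138 : act 9 n793 = n1138 := rfl
theorem F5829 : act 0 n1138 = n864 := d8_1 D1138 (iv D864) (iv F4139)
theorem F5830 : act 2 n1138 = n816 := d23_1 D1138 (iv D816) (iv F4140)
theorem F5831 : act 3 n1138 = n1138 := d29_1 D1138 (iv D1138) F4141
theorem F5832 : act 5 n1138 = n794 := d38_1 D1138 (iv D794) D793
theorem F5833 : act 7 n1138 = n1138 := d43_1 D1138 (iv D1138) F4142
def n1139 : Q := act 3 n795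
theorem D1139 : act 3 n795 = n1139 := rfl
theorem F5834 : act 0 n1139 = n865 := d2_1 D1139 (iv D865) (iv F4150)
theorem F5835 : act 4 n1139 = n1139 := d24_2 D795 D1139 (iv D1139) (iv D795) F2950
theorem F5836 : act 5 n1139 = n1139 := d25_2 F4152 D1139 (iv D1139)
theorem F5837 : act 7 n1139 = n1139 := d27_2 F4153 D1139 (iv D1139)
def n1140 : Q := act 6 n795
theorem D1140 : act 6 n795 = n1140 := rfl
theorem F5838 : act 0 n1140 = n866 := d5_1 D1140 (iv D866) (iv F4150)
theorem F5839 : act 2 n1140 = n818 := d20_1 D1140 (iv D818) (iv F4151)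
theorem F5840 : act 4 n1140 = n796 := d31_1 D1140 (iv D796) D795
def n1141 : Q := act 9 n795
theorem D1141 : act 9 n795 = n1141 := rfl
theorem F5841 : act 0 n1141 = n867 := d8_1 D1141 (iv D867) (iv F4150)
theorem F5842 : act 2 n1141 = n819 := d23_1 D1141 (iv D819) (iv F4151)
theorem F5843 : act 4 n1141 = n797 := d34_1 D1141 (iv D797) D795
theorem F5844 : act 5 n1141 = n1141 := d38_1 D1141 (iv D1141) F4152
theorem F5845 : act 7 n1141 = n1141 := d43_1 D1141 (iv D1141) F4153
def n1142 : Q := act 7 n796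
theorem D1142 : act 7 n796 = n1142 := rfl
theorem F5847 : act 2 n1142 = n820 := d21_1 D1142 (iv D820) (iv F4155)
def n1143 : Q := act 9 n796
theorem D1143 : act 9 n796 = n1143 := rfl
theorem F5851 : act 0 n1143 = n869 := d8_1 D1143 (iv D869) (iv F4154)
theorem F5852 : act 2 n1143 = n821 := d23_1 D1143 (iv D821) (iv F4155)
theorem F5853 : act 3 n1143 = n1143 := d29_1 D1143 (iv D1143) F4156
theorem F5854 : act 5 n1143 = n802 := d38_1 D1143 (iv D802) (iv F4157)
theorem F5855 : act 6 n1143 = n797 := d41_1 D1143 (iv D797) D796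
def n1144 : Q := act 8 n797
theorem D1144 : act 8 n797 = n1144 := rfl
theorem F5856 : act 0 n1144 = n870 := d7_1 D1144 (iv D870) (iv F4158)
theorem F5857 : act 2 n1144 = n822 := d22_1 D1144 (iv D822) (iv F4159)
theorem F5858 : act 3 n1144 = n1144 := d28_1 D1144 (iv D1144) F4160
theorem F5859 : act 5 n1144 = n1144 := d37_1 D1144 (iv D1144) F4161 F2958 (iv F4161)
theorem F5860 : act 7 n1144 = n1144 := d42_1 D1144 (iv D1144) F4162
def n1146 : Q := act 9 n798
theorem D1146 : act 9 n798 = n1146 := rfl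
theorem F5868 : act 3 n1146 = n800 := d29_1 D1146 (iv D800) D798
def n1147 : Q := act 5 n799
theorem D1147 : act 5 n799 = n1147 := rfl
def n1148 : Q := act 7 n799
theorem D1148 : act 7 n799 = n1148 := rfl
theorem F5878 : act 6 n1148 = n807 := d39_1 D1148 (iv D807) (iv D560) (iv F2962) D799
def n1149 : Q := act 9 n799
theorem D1149 : act 9 n799 = n1149 := rfl
theorem F5881 : act 2 n1149 = n825 := d23_1 D1149 (iv D825) (iv F4170)
theorem F5882 : act 4 n1149 = n802 := d34_1 D1149 (iv D802) (iv F4171)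
def n1150 : Q := act 8 n800
theorem D1150 : act 8 n800 = n1150 := rfl
theorem F5885 : act 2 n1150 = n826 := d22_1 D1150 (iv D826) (iv F4174)
theorem F5886 : act 4 n1150 = n803 := d33_1 D1150 (iv D803) (iv F4175)
def n1151 : Q := act 9 n801
theorem D1151 : act 9 n801 = n1151 := rfl
theorem F5890 : act 2 n1151 = n827 := d23_1 D1151 (iv D827) (iv F4179)
theorem F5893 : act 7 n1151 = n802 := d43_1 D1151 (iv D802) D801
def n1152 : Q := act 8 n802
theorem D1152 : act 8 n802 = n1152 := rfl
theorem F5894 : act 0 n1152 = n878 := d7_1 D1152 (iv D878) (iv F4183)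
theorem F5895 : act 2 n1152 = n828 := d22_1 D1152 (iv D828) (iv F4184)
theorem F5896 : act 3 n1152 = n1152 := d28_1 D1152 (iv D1152) F4185
theorem F5897 : act 6 n1152 = n803 := d40_1 D1152 (iv D803) (iv F4186)
theorem F5898 : act 9 n1152 = n1152 := d44_2 D802 D1152 (iv D1152) (iv D802) F2967
def n1153 : Q := act 5 n804
theorem D1153 : act 5 n804 = n1153 := rfl
theorem F5899 : act 0 n1153 = n879 := d4_1 D1153 (iv D879) (iv F4193)
theorem F5901 : act 3 n1153 = n806 := d25_1 D1153 (iv D806) (iv F4195)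
def n1156 : Q := act 8 n805
theorem D1156 : act 8 n805 = n1156 := rfl
theorem F5915 : act 3 n1156 = n809 := d28_1 D1156 (iv D809) (iv F4200)
def n1157 : Q := act 7 n806
theorem D1157 : act 7 n806 = n1157 := rfl
theorem F5919 : act 2 n1157 = n829 := d21_1 D1157 (iv D829) (iv F4204)
theorem F5921 : act 5 n1157 = n807 := d36_1 D1157 (iv D807) D806
def n1158 : Q := act 8 n806
theorem D1158 : act 8 n806 = n1158 := rfl
def n1162 : Q := act 5 n809
theorem D1162 : act 5 n809 = n1162 := rfl
theorem F5942 : act 2 n1162 = n834 := d19_1 D1162 (iv D834) (iv F4216)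
theorem F5943 : act 4 n1162 = n1162 := d30_1 D1162 (iv D1162) F4217 F2999 (iv F4217)
def n1163 : Q := act 8 n810
theorem D1163 : act 8 n810 = n1163 := rfl
theorem F5949 : act 7 n1163 = n811 := d42_1 D1163 (iv D811) (iv F4223)
def n1164 : Q := act 5 n811
theorem D1164 : act 5 n811 = n1164 := rfl
theorem F5952 : act 2 n1164 = n836 := d19_1 D1164 (iv D836) (iv F4225)
theorem F5954 : act 6 n1164 = n1164 := d35_2 (iv F4227) D1164 (iv D1164) F4227 F2999
def n1165 : Q := act 4 n812
theorem D1165 : act 4 n812 = n1165 := rfl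
theorem F5957 : act 0 n1165 = n891 := d3_1 D1165 (iv D891) (iv F4229)
theorem F5958 : act 1 n1165 = n1165 := d11_1 D1165 (iv D1165) F4230
theorem F5959 : act 5 n1165 = n814 := d30_2 D812 D1165 (iv D814) (iv D566) (iv F3004)
theorem F5960 : act 7 n1165 = n1165 := d32_2 F4232 D1165 (iv D1165)
theorem F5961 : act 8 n1165 = n1165 := d33_2 F4233 D1165 (iv D1165)
def n1166 : Q := act 6 n812
theorem D1166 : act 6 n812 = n1166 := rfl
theorem F5962 : act 0 n1166 = n892 := d5_1 D1166 (iv D892) (iv F4229)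
theorem F5963 : act 1 n1166 = n1166 := d13_1 D1166 (iv D1166) F4230
theorem F5964 : act 3 n1166 = n1166 := d26_1 D1166 (iv D1166) F4231
theorem F5965 : act 5 n1166 = n1166 := d35_1 D1166 (iv D1166) (iv D812) F3005 D812
theorem F5966 : act 8 n1166 = n1166 := d40_2 F4233 D1166 (iv D1166)
def n1167 : Q := act 9 n812
theorem D1167 : act 9 n812 = n1167 := rfl
theorem F5967 : act 0 n1167 = n893 := d8_1 D1167 (iv D893) (iv F4229)
theorem F5968 : act 1 n1167 = n1167 := d16_1 D1167 (iv D1167) F4230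
theorem F5969 : act 3 n1167 = n1167 := d29_1 D1167 (iv D1167) F4231
theorem F5970 : act 5 n1167 = n813 := d38_1 D1167 (iv D813) D812
theorem F5971 : act 7 n1167 = n1167 := d43_1 D1167 (iv D1167) F4232
def n1168 : Q := act 3 n814
theorem D1168 : act 3 n814 = n1168 := rfl
theorem F5972 : act 0 n1168 = n894 := d2_1 D1168 (iv D894) (iv F4241)
theorem F5973 : act 1 n1168 = n1168 := d10_1 D1168 (iv D1168) F4242
theorem F5974 : act 4 n1168 = n837 := d24_2 D814 D1168 (iv D837) (iv D582) (iv F3009)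
theorem F5975 : act 7 n1168 = n1168 := d27_2 F4243 D1168 (iv D1168)
theorem F5976 : act 8 n1168 = n817 := d28_2 (iv F4244) D1168 (iv D817)
def n1169 : Q := act 6 n814
theorem D1169 : act 6 n814 = n1169 := rfl
theorem F5977 : act 0 n1169 = n895 := d5_1 D1169 (iv D895) (iv F4241)
theorem F5978 : act 1 n1169 = n1169 := d13_1 D1169 (iv D1169) F4242
theorem F5979 : act 4 n1169 = n815 := d31_1 D1169 (iv D815) D814
theorem F5980 : act 8 n1169 = n818 := d40_2 (iv F4244) D1169 (iv D818)
def n1170 : Q := act 9 n814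
theorem D1170 : act 9 n814 = n1170 := rfl
theorem F5981 : act 0 n1170 = n896 := d8_1 D1170 (iv D896) (iv F4241)
theorem F5982 : act 1 n1170 = n1170 := d16_1 D1170 (iv D1170) F4242
theorem F5983 : act 4 n1170 = n816 := d34_1 D1170 (iv D816) D814
theorem F5984 : act 7 n1170 = n1170 := d43_1 D1170 (iv D1170) F4243
def n1171 : Q := act 7 n815
theorem D1171 : act 7 n815 = n1171 := rfl
theorem F5985 : act 0 n1171 = n897 := d6_1 D1171 (iv D897) (iv F4245)
theorem F5986 : act 1 n1171 = n1171 := d14_1 D1171 (iv D1171) F4246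
theorem F5987 : act 3 n1171 = n840 := d27_1 D1171 (iv D840) (iv F4247)
theorem F5988 : act 5 n1171 = n1171 := d36_1 D1171 (iv D1171) F4248
theorem F5989 : act 6 n1171 = n1171 := d39_1 D1171 (iv D1171) (iv D815) F3010 D815
theorem F5990 : act 8 n1171 = n820 := d42_2 (iv F4249) D1171 (iv D820)
def n1172 : Q := act 9 n815
theorem D1172 : act 9 n815 = n1172 := rfl
theorem F5991 : act 0 n1172 = n898 := d8_1 D1172 (iv D898) (iv F4245)
theorem F5992 : act 1 n1172 = n1172 := d16_1 D1172 (iv D1172) F4246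
theorem F5993 : act 3 n1172 = n841 := d29_1 D1172 (iv D841) (iv F4247)
theorem F5994 : act 5 n1172 = n1172 := d38_1 D1172 (iv D1172) F4248
theorem F5995 : act 6 n1172 = n816 := d41_1 D1172 (iv D816) D815
def n1173 : Q := act 8 n816
theorem D1173 : act 8 n816 = n1173 := rfl
theorem F5996 : act 0 n1173 = n899 := d7_1 D1173 (iv D899) (iv F4250)
theorem F5997 : act 1 n1173 = n1173 := d15_1 D1173 (iv D1173) F4251
theorem F5998 : act 3 n1173 = n842 := d28_1 D1173 (iv D842) (iv F4252)
theorem F5999 : act 5 n1173 = n1173 := d37_1 D1173 (iv D1173) F4253 F3017 (iv F4253)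
theorem F6000 : act 7 n1173 = n1173 := d42_1 D1173 (iv D1173) F4254
theorem F6001 : act 9 n1173 = n822 := d44_2 D816 D1173 (iv D822) (iv D570) (iv F3011)
def n1174 : Q := act 2 n817
theorem D1174 : act 2 n817 = n1174 := rfl
theorem F6002 : act 0 n1174 = n900 := d1_1 D1174 (iv D900) (iv F4255)
theorem F6003 : act 4 n1174 = n843 := d18_2 (iv F4257) D1174 (iv D843)
theorem F6004 : act 5 n1174 = n1174 := d19_2 F4258 D1174 (iv D1174)
theorem F6005 : act 7 n1174 = n1174 := d21_2 F4259 D1174 (iv D1174)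
def n1175 : Q := act 6 n817
theorem D1175 : act 6 n817 = n1175 := rfl
theorem F6006 : act 0 n1175 = n901 := d5_1 D1175 (iv D901) (iv F4255)
theorem F6007 : act 1 n1175 = n1175 := d13_1 D1175 (iv D1175) F4256
theorem F6008 : act 3 n1175 = n818 := d26_1 D1175 (iv D818) D817
theorem F6009 : act 4 n1175 = n844 := d31_1 D1175 (iv D844) (iv F4257)
def n1176 : Q := act 9 n817
theorem D1176 : act 9 n817 = n1176 := rfl
theorem F6010 : act 0 n1176 = n902 := d8_1 D1176 (iv D902) (iv F4255)
theorem F6011 : act 1 n1176 = n1176 := d16_1 D1176 (iv D1176) F4256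
theorem F6012 : act 3 n1176 = n819 := d29_1 D1176 (iv D819) D817
theorem F6013 : act 4 n1176 = n845 := d34_1 D1176 (iv D845) (iv F4257)
theorem F6014 : act 5 n1176 = n1176 := d38_1 D1176 (iv D1176) F4258
theorem F6015 : act 7 n1176 = n1176 := d43_1 D1176 (iv D1176) F4259
def n1177 : Q := act 5 n818
theorem D1177 : act 5 n818 = n1177 := rfl
theorem F6016 : act 0 n1177 = n903 := d4_1 D1177 (iv D903) (iv F4260)
theorem F6017 : act 1 n1177 = n1177 := d12_1 D1177 (iv D1177) F4261
theorem F6018 : act 4 n1177 = n823 := d30_1 D1177 (iv D823) F3034 (iv F3025) (iv F4262)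
theorem F6019 : act 6 n1177 = n1177 := d35_2 D818 D1177 (iv D1177) (iv D818) F3020
def n1178 : Q := act 7 n818
theorem D1178 : act 7 n818 = n1178 := rfl
theorem F6020 : act 0 n1178 = n904 := d6_1 D1178 (iv D904) (iv F4260)
theorem F6021 : act 1 n1178 = n1178 := d14_1 D1178 (iv D1178) F4261
theorem F6022 : act 4 n1178 = n820 := d32_1 D1178 (iv D820) (iv F4262)
theorem F6023 : act 6 n1178 = n1178 := d39_1 D1178 (iv D1178) (iv D818) F3021 D818
def n1179 : Q := act 9 n818
theorem D1179 : act 9 n818 = n1179 := rfl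
theorem F6024 : act 0 n1179 = n905 := d8_1 D1179 (iv D905) (iv F4260)
theorem F6025 : act 1 n1179 = n1179 := d16_1 D1179 (iv D1179) F4261
theorem F6026 : act 4 n1179 = n821 := d34_1 D1179 (iv D821) (iv F4262)
theorem F6027 : act 6 n1179 = n819 := d41_1 D1179 (iv D819) D818
def n1180 : Q := act 8 n819
theorem D1180 : act 8 n819 = n1180 := rfl
theorem F6028 : act 0 n1180 = n906 := d7_1 D1180 (iv D906) (iv F4263)
theorem F6029 : act 1 n1180 = n1180 := d15_1 D1180 (iv D1180) F4264
theorem F6030 : act 4 n1180 = n822 := d33_1 D1180 (iv D822) (iv F4265)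
theorem F6031 : act 7 n1180 = n1180 := d42_1 D1180 (iv D1180) F4267
def n1181 : Q := act 9 n820
theorem D1181 : act 9 n820 = n1181 := rfl
theorem F6032 : act 0 n1181 = n907 := d8_1 D1181 (iv D907) (iv F4268)
theorem F6033 : act 1 n1181 = n1181 := d16_1 D1181 (iv D1181) F4269
theorem F6034 : act 3 n1181 = n849 := d29_1 D1181 (iv D849) (iv F4270)
theorem F6035 : act 5 n1181 = n827 := d38_1 D1181 (iv D827) (iv F4271)
theorem F6036 : act 6 n1181 = n1181 := d41_1 D1181 (iv D1181) F4272
theorem F6037 : act 7 n1181 = n821 := d43_1 D1181 (iv D821) D820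
def n1182 : Q := act 8 n821
theorem D1182 : act 8 n821 = n1182 := rfl
theorem F6038 : act 0 n1182 = n908 := d7_1 D1182 (iv D908) (iv F4273)
theorem F6039 : act 1 n1182 = n1182 := d15_1 D1182 (iv D1182) F4274
theorem F6040 : act 3 n1182 = n850 := d28_1 D1182 (iv D850) (iv F4275)
theorem F6041 : act 6 n1182 = n822 := d40_1 D1182 (iv D822) (iv F4277)
def n1183 : Q := act 7 n823
theorem D1183 : act 7 n823 = n1183 := rfl
theorem F6045 : act 5 n1183 = n824 := d36_1 D1183 (iv D824) D823
def n1184 : Q := act 8 n823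
theorem D1184 : act 8 n823 = n1184 := rfl
theorem F6046 : act 0 n1184 = n910 := d7_1 D1184 (iv D910) (iv F4283)
theorem F6047 : act 1 n1184 = n1184 := d15_1 D1184 (iv D1184) F4284
theorem F6048 : act 3 n1184 = n1184 := d28_1 D1184 (iv D1184) F4285
theorem F6049 : act 5 n1184 = n1184 := d37_1 D1184 (iv D1184) (iv D823) F3035 D823
theorem F6050 : act 6 n1184 = n1184 := d40_1 D1184 (iv D1184) F4286
def n1185 : Q := act 9 n823
theorem D1185 : act 9 n823 = n1185 := rfl
theorem F6051 : act 0 n1185 = n911 := d8_1 D1185 (iv D911) (iv F4283)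
theorem F6052 : act 1 n1185 = n1185 := d16_1 D1185 (iv D1185) F4284
theorem F6053 : act 3 n1185 = n1185 := d29_1 D1185 (iv D1185) F4285
theorem F6054 : act 5 n1185 = n825 := d38_1 D1185 (iv D825) D823
theorem F6055 : act 6 n1185 = n1185 := d41_1 D1185 (iv D1185) F4286
def n1186 : Q := act 9 n824
theorem D1186 : act 9 n824 = n1186 := rfl
theorem F6059 : act 4 n1186 = n827 := d34_1 D1186 (iv D827) (iv F4290)
theorem F6061 : act 7 n1186 = n825 := d43_1 D1186 (iv D825) D824
def n1187 : Q := act 8 n825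
theorem D1187 : act 8 n825 = n1187 := rfl
theorem F6062 : act 0 n1187 = n913 := d7_1 D1187 (iv D913) (iv F4293)
theorem F6063 : act 1 n1187 = n1187 := d15_1 D1187 (iv D1187) F4294
theorem F6064 : act 3 n1187 = n1187 := d28_1 D1187 (iv D1187) F4295
theorem F6065 : act 4 n1187 = n828 := d33_1 D1187 (iv D828) (iv F4296)
theorem F6066 : act 6 n1187 = n826 := d40_1 D1187 (iv D826) (iv F4297)
theorem F6067 : act 9 n1187 = n1187 := d44_2 D825 D1187 (iv D1187) (iv D825) F3035
def n1188 : Q := act 5 n826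
theorem D1188 : act 5 n826 = n1188 := rfl
theorem F6068 : act 0 n1188 = n914 := d4_1 D1188 (iv D914) (iv F4298)
theorem F6069 : act 1 n1188 = n1188 := d12_1 D1188 (iv D1188) F4299
theorem F6070 : act 3 n1188 = n1188 := d25_1 D1188 (iv D1188) F4300
theorem F6071 : act 4 n1188 = n1188 := d30_1 D1188 (iv D1188) F4301 F3054 (iv F4301)
theorem F6072 : act 7 n1188 = n834 := d36_2 (iv F4302) D1188 (iv D834)
theorem F6073 : act 8 n1188 = n1188 := d37_2 D826 D1188 (iv D1188) (iv D826) F3040
theorem F6074 : act 9 n1188 = n1188 := d38_2 F4303 D1188 (iv D1188)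
def n1189 : Q := act 8 n827
theorem D1189 : act 8 n827 = n1189 := rfl
theorem F6075 : act 0 n1189 = n915 := d7_1 D1189 (iv D915) (iv F4304)
theorem F6076 : act 1 n1189 = n1189 := d15_1 D1189 (iv D1189) F4305
theorem F6077 : act 3 n1189 = n851 := d28_1 D1189 (iv D851) (iv F4306)
theorem F6078 : act 6 n1189 = n835 := d40_1 D1189 (iv D835) (iv F4307)
theorem F6079 : act 7 n1189 = n828 := d42_1 D1189 (iv D828) (iv F4308)
theorem F6080 : act 9 n1189 = n1189 := d44_2 D827 D1189 (iv D1189) (iv D827) F3046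
def n1190 : Q := act 5 n828
theorem D1190 : act 5 n828 = n1190 := rfl
theorem F6081 : act 0 n1190 = n916 := d4_1 D1190 (iv D916) (iv F4309)
theorem F6082 : act 1 n1190 = n1190 := d12_1 D1190 (iv D1190) F4310
theorem F6083 : act 3 n1190 = n852 := d25_1 D1190 (iv D852) (iv F4311)
theorem F6084 : act 6 n1190 = n1190 := d35_2 (iv F4312) D1190 (iv D1190) F4312 F3054
theorem F6085 : act 9 n1190 = n1190 := d38_2 F4313 D1190 (iv D1190)
def n1191 : Q := act 6 n829
theorem D1191 : act 6 n829 = n1191 := rfl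
def n1192 : Q := act 8 n829
theorem D1192 : act 8 n829 = n1192 := rfl
theorem F6096 : act 7 n1192 = n830 := d42_1 D1192 (iv D830) D829
def n1198 : Q := act 6 n834
theorem D1198 : act 6 n834 = n1198 := rfl
def n1199 : Q := act 5 n835
theorem D1199 : act 5 n835 = n1199 := rfl
theorem F6130 : act 0 n1199 = n925 := d4_1 D1199 (iv D925) (iv F4348)
theorem F6131 : act 1 n1199 = n1199 := d12_1 D1199 (iv D1199) F4349
theorem F6132 : act 3 n1199 = n853 := d25_1 D1199 (iv D853) (iv F4350)
theorem F6133 : act 7 n1199 = n836 := d36_2 (iv F4351) D1199 (iv D836)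
theorem F6134 : act 8 n1199 = n1199 := d37_2 D835 D1199 (iv D1199) (iv D835) F3080
theorem F6135 : act 9 n1199 = n1199 := d38_2 F4352 D1199 (iv D1199)
def n1200 : Q := act 4 n836
theorem D1200 : act 4 n836 = n1200 := rfl
def n1201 : Q := act 2 n837
theorem D1201 : act 2 n837 = n1201 := rfl
theorem F6141 : act 0 n1201 = n927 := d1_1 D1201 (iv D927) (iv F4359)
theorem F6142 : act 3 n1201 = n1201 := d17_2 D837 D1201 (iv D1201) (iv D837) F3089
theorem F6143 : act 5 n1201 = n1201 := d19_2 F4361 D1201 (iv D1201)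
theorem F6144 : act 7 n1201 = n1201 := d21_2 F4362 D1201 (iv D1201)
theorem F6145 : act 8 n1201 = n843 := d22_2 (iv F4363) D1201 (iv D843)
def n1202 : Q := act 6 n837
theorem D1202 : act 6 n837 = n1202 := rfl
theorem F6146 : act 0 n1202 = n928 := d5_1 D1202 (iv D928) (iv F4359)
theorem F6147 : act 1 n1202 = n1202 := d13_1 D1202 (iv D1202) F4360
theorem F6148 : act 3 n1202 = n838 := d26_1 D1202 (iv D838) D837
theorem F6149 : act 8 n1202 = n844 := d40_2 (iv F4363) D1202 (iv D844)
def n1203 : Q := act 9 n837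
theorem D1203 : act 9 n837 = n1203 := rfl
theorem F6150 : act 0 n1203 = n929 := d8_1 D1203 (iv D929) (iv F4359)
theorem F6151 : act 1 n1203 = n1203 := d16_1 D1203 (iv D1203) F4360
theorem F6152 : act 3 n1203 = n839 := d29_1 D1203 (iv D839) D837
theorem F6153 : act 5 n1203 = n1203 := d38_1 D1203 (iv D1203) F4361
theorem F6154 : act 7 n1203 = n1203 := d43_1 D1203 (iv D1203) F4362
def n1204 : Q := act 5 n838
theorem D1204 : act 5 n838 = n1204 := rfl
theorem F6155 : act 0 n1204 = n930 := d4_1 D1204 (iv D930) (iv F4364)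
theorem F6156 : act 1 n1204 = n1204 := d12_1 D1204 (iv D1204) F4365
theorem F6157 : act 2 n1204 = n1204 := d19_1 D1204 (iv D1204) F4366
theorem F6158 : act 4 n1204 = n1204 := d30_1 D1204 (iv D1204) F4367 F3096 (iv F4367)
theorem F6159 : act 6 n1204 = n1204 := d35_2 D838 D1204 (iv D1204) (iv D838) F3090
theorem F6160 : act 8 n1204 = n1204 := d37_2 (iv F4368) D1204 (iv D1204) F4368 F3111
def n1205 : Q := act 7 n838
theorem D1205 : act 7 n838 = n1205 := rfl
theorem F6161 : act 0 n1205 = n931 := d6_1 D1205 (iv D931) (iv F4364)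
theorem F6162 : act 1 n1205 = n1205 := d14_1 D1205 (iv D1205) F4365
theorem F6163 : act 2 n1205 = n1205 := d21_1 D1205 (iv D1205) F4366
theorem F6164 : act 4 n1205 = n840 := d32_1 D1205 (iv D840) (iv F4367)
theorem F6165 : act 6 n1205 = n1205 := d39_1 D1205 (iv D1205) (iv D838) F3091 D838
theorem F6166 : act 8 n1205 = n846 := d42_2 (iv F4368) D1205 (iv D846)
def n1206 : Q := act 9 n838
theorem D1206 : act 9 n838 = n1206 := rfl
theorem F6167 : act 0 n1206 = n932 := d8_1 D1206 (iv D932) (iv F4364)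
theorem F6168 : act 1 n1206 = n1206 := d16_1 D1206 (iv D1206) F4365
theorem F6169 : act 2 n1206 = n1206 := d23_1 D1206 (iv D1206) F4366
theorem F6170 : act 4 n1206 = n841 := d34_1 D1206 (iv D841) (iv F4367)
theorem F6171 : act 6 n1206 = n839 := d41_1 D1206 (iv D839) D838
def n1207 : Q := act 8 n839
theorem D1207 : act 8 n839 = n1207 := rfl
theorem F6172 : act 0 n1207 = n933 := d7_1 D1207 (iv D933) (iv F4369)
theorem F6173 : act 1 n1207 = n1207 := d15_1 D1207 (iv D1207) F4370
theorem F6174 : act 2 n1207 = n1207 := d22_1 D1207 (iv D1207) F4371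
theorem F6175 : act 4 n1207 = n842 := d33_1 D1207 (iv D842) (iv F4372)
theorem F6176 : act 7 n1207 = n1207 := d42_1 D1207 (iv D1207) F4374
theorem F6177 : act 9 n1207 = n848 := d44_2 D839 D1207 (iv D848) (iv D587) (iv F3092)
def n1208 : Q := act 9 n840
theorem D1208 : act 9 n840 = n1208 := rfl
theorem F6178 : act 0 n1208 = n934 := d8_1 D1208 (iv D934) (iv F4375)
theorem F6179 : act 1 n1208 = n1208 := d16_1 D1208 (iv D1208) F4376
theorem F6180 : act 2 n1208 = n1208 := d23_1 D1208 (iv D1208) F4377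
theorem F6181 : act 5 n1208 = n1208 := d38_1 D1208 (iv D1208) F4378
theorem F6182 : act 6 n1208 = n1208 := d41_1 D1208 (iv D1208) F4379
theorem F6183 : act 7 n1208 = n841 := d43_1 D1208 (iv D841) D840
def n1209 : Q := act 8 n841
theorem D1209 : act 8 n841 = n1209 := rfl
theorem F6184 : act 0 n1209 = n935 := d7_1 D1209 (iv D935) (iv F4381)
theorem F6185 : act 1 n1209 = n1209 := d15_1 D1209 (iv D1209) F4382
theorem F6186 : act 2 n1209 = n1209 := d22_1 D1209 (iv D1209) F4383
theorem F6187 : act 6 n1209 = n842 := d40_1 D1209 (iv D842) (iv F4385)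
theorem F6188 : act 9 n1209 = n850 := d44_2 D841 D1209 (iv D850) (iv D589) (iv F3097)
def n1210 : Q := act 1 n843
theorem D1210 : act 1 n843 = n1210 := rfl
theorem F6189 : act 2 n1210 = n1210 := d9_2 D843 D1210 (iv D1210) (iv D843) F3104
theorem F6190 : act 3 n1210 = n1210 := d10_2 F4393 D1210 (iv D1210)
theorem F6191 : act 5 n1210 = n855 := d12_2 (iv F4394) D1210 (iv D855)
theorem F6192 : act 7 n1210 = n1210 := d14_2 F4395 D1210 (iv D1210)
def n1211 : Q := act 6 n843
theorem D1211 : act 6 n843 = n1211 := rfl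
theorem F6193 : act 0 n1211 = n937 := d5_1 D1211 (iv D937) (iv F4392)
theorem F6194 : act 2 n1211 = n844 := d20_1 D1211 (iv D844) D843
theorem F6195 : act 3 n1211 = n1211 := d26_1 D1211 (iv D1211) F4393
theorem F6196 : act 5 n1211 = n1211 := d35_1 D1211 (iv D1211) F4394 F3160 (iv F4394)
def n1212 : Q := act 9 n843
theorem D1212 : act 9 n843 = n1212 := rfl
theorem F6197 : act 0 n1212 = n938 := d8_1 D1212 (iv D938) (iv F4392)
theorem F6198 : act 2 n1212 = n845 := d23_1 D1212 (iv D845) D843
theorem F6199 : act 3 n1212 = n1212 := d29_1 D1212 (iv D1212) F4393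
theorem F6200 : act 5 n1212 = n856 := d38_1 D1212 (iv D856) (iv F4394)
theorem F6201 : act 7 n1212 = n1212 := d43_1 D1212 (iv D1212) F4395
def n1213 : Q := act 7 n844
theorem D1213 : act 7 n844 = n1213 := rfl
theorem F6202 : act 0 n1213 = n939 := d6_1 D1213 (iv D939) (iv F4396)
theorem F6203 : act 1 n1213 = n1213 := d14_1 D1213 (iv D1213) F4397
theorem F6204 : act 3 n1213 = n846 := d27_1 D1213 (iv D846) (iv F4398)
theorem F6205 : act 5 n1213 = n1213 := d36_1 D1213 (iv D1213) F4399
theorem F6206 : act 6 n1213 = n1213 := d39_1 D1213 (iv D1213) (iv D844) F3106 D844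
def n1214 : Q := act 9 n844
theorem D1214 : act 9 n844 = n1214 := rfl
theorem F6207 : act 0 n1214 = n940 := d8_1 D1214 (iv D940) (iv F4396)
theorem F6208 : act 1 n1214 = n1214 := d16_1 D1214 (iv D1214) F4397
theorem F6209 : act 3 n1214 = n847 := d29_1 D1214 (iv D847) (iv F4398)
theorem F6210 : act 5 n1214 = n1214 := d38_1 D1214 (iv D1214) F4399
theorem F6211 : act 6 n1214 = n845 := d41_1 D1214 (iv D845) D844
def n1215 : Q := act 8 n845
theorem D1215 : act 8 n845 = n1215 := rfl
theorem F6212 : act 0 n1215 = n941 := d7_1 D1215 (iv D941) (iv F4400)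
theorem F6213 : act 1 n1215 = n1215 := d15_1 D1215 (iv D1215) F4401
theorem F6214 : act 3 n1215 = n848 := d28_1 D1215 (iv D848) (iv F4402)
theorem F6215 : act 7 n1215 = n1215 := d42_1 D1215 (iv D1215) F4404
def n1216 : Q := act 9 n846
theorem D1216 : act 9 n846 = n1216 := rfl
theorem F6216 : act 0 n1216 = n942 := d8_1 D1216 (iv D942) (iv F4405)
theorem F6217 : act 1 n1216 = n1216 := d16_1 D1216 (iv D1216) F4406
theorem F6218 : act 2 n1216 = n1216 := d23_1 D1216 (iv D1216) F4407
theorem F6219 : act 4 n1216 = n849 := d34_1 D1216 (iv D849) (iv F4408)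
theorem F6220 : act 5 n1216 = n1216 := d38_1 D1216 (iv D1216) F4409
theorem F6221 : act 6 n1216 = n1216 := d41_1 D1216 (iv D1216) F4410
theorem F6222 : act 7 n1216 = n847 := d43_1 D1216 (iv D847) D846
def n1217 : Q := act 8 n847
theorem D1217 : act 8 n847 = n1217 := rfl
theorem F6223 : act 0 n1217 = n943 := d7_1 D1217 (iv D943) (iv F4411)
theorem F6224 : act 1 n1217 = n1217 := d15_1 D1217 (iv D1217) F4412
theorem F6225 : act 2 n1217 = n1217 := d22_1 D1217 (iv D1217) F4413
theorem F6226 : act 4 n1217 = n850 := d33_1 D1217 (iv D850) (iv F4414)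
theorem F6227 : act 6 n1217 = n848 := d40_1 D1217 (iv D848) (iv F4416)
def n1218 : Q := act 5 n848
theorem D1218 : act 5 n848 = n1218 := rfl
theorem F6228 : act 0 n1218 = n944 := d4_1 D1218 (iv D944) (iv F4417)
theorem F6229 : act 1 n1218 = n1218 := d12_1 D1218 (iv D1218) F4418
theorem F6230 : act 2 n1218 = n1218 := d19_1 D1218 (iv D1218) F4419
theorem F6231 : act 4 n1218 = n1218 := d30_1 D1218 (iv D1218) F4420 F3131 (iv F4420)
theorem F6232 : act 7 n1218 = n1218 := d36_2 F4421 D1218 (iv D1218)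
theorem F6233 : act 8 n1218 = n858 := d37_2 D848 D1218 (iv D858) (iv D597) (iv F3116)
def n1219 : Q := act 8 n849
theorem D1219 : act 8 n849 = n1219 := rfl
theorem F6234 : act 0 n1219 = n945 := d7_1 D1219 (iv D945) (iv F4422)
theorem F6235 : act 1 n1219 = n1219 := d15_1 D1219 (iv D1219) F4423
theorem F6236 : act 2 n1219 = n1219 := d22_1 D1219 (iv D1219) F4424
theorem F6237 : act 6 n1219 = n1219 := d40_1 D1219 (iv D1219) F4426
theorem F6238 : act 7 n1219 = n850 := d42_1 D1219 (iv D850) (iv F4427)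
def n1220 : Q := act 5 n850
theorem D1220 : act 5 n850 = n1220 := rfl
theorem F6239 : act 0 n1220 = n946 := d4_1 D1220 (iv D946) (iv F4428)
theorem F6240 : act 1 n1220 = n1220 := d12_1 D1220 (iv D1220) F4429
theorem F6241 : act 2 n1220 = n1220 := d19_1 D1220 (iv D1220) F4430
theorem F6242 : act 6 n1220 = n1220 := d35_2 (iv F4431) D1220 (iv D1220) F4431 F3131
theorem F6243 : act 8 n1220 = n852 := d37_2 D850 D1220 (iv D852) (iv D592) (iv F3126)
def n1221 : Q := act 5 n851
theorem D1221 : act 5 n851 = n1221 := rfl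
theorem F6244 : act 0 n1221 = n947 := d4_1 D1221 (iv D947) (iv F4432)
theorem F6245 : act 1 n1221 = n1221 := d12_1 D1221 (iv D1221) F4433
theorem F6246 : act 2 n1221 = n1221 := d19_1 D1221 (iv D1221) F4434
theorem F6247 : act 7 n1221 = n852 := d36_2 (iv F4437) D1221 (iv D852)
theorem F6248 : act 9 n1221 = n1221 := d38_2 F4438 D1221 (iv D1221)
def n1222 : Q := act 4 n852
theorem D1222 : act 4 n852 = n1222 := rfl
theorem F6249 : act 0 n1222 = n948 := d3_1 D1222 (iv D948) (iv F4439)
theorem F6250 : act 1 n1222 = n1222 := d11_1 D1222 (iv D1222) F4440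
theorem F6251 : act 2 n1222 = n1222 := d18_1 D1222 (iv D1222) F4441
theorem F6252 : act 5 n1222 = n1222 := d30_2 D852 D1222 (iv D1222) (iv D852) F3142
theorem F6253 : act 6 n1222 = n1222 := d31_2 F4442 D1222 (iv D1222)
theorem F6254 : act 9 n1222 = n1222 := d34_2 F4443 D1222 (iv D1222)
def n1223 : Q := act 4 n853
theorem D1223 : act 4 n853 = n1223 := rfl
theorem F6255 : act 0 n1223 = n949 := d3_1 D1223 (iv D949) (iv F4444)
theorem F6256 : act 1 n1223 = n1223 := d11_1 D1223 (iv D1223) F4445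
theorem F6257 : act 2 n1223 = n1223 := d18_1 D1223 (iv D1223) F4446
theorem F6258 : act 5 n1223 = n1223 := d30_2 D853 D1223 (iv D1223) (iv D853) F3148
theorem F6259 : act 7 n1223 = n854 := d32_2 (iv F4447) D1223 (iv D854)
theorem F6260 : act 8 n1223 = n1223 := d33_2 F4448 D1223 (iv D1223)
theorem F6261 : act 9 n1223 = n1223 := d34_2 F4449 D1223 (iv D1223)
def n1224 : Q := act 6 n853
theorem D1224 : act 6 n853 = n1224 := rfl
theorem F6262 : act 0 n1224 = n950 := d5_1 D1224 (iv D950) (iv F4444)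
theorem F6263 : act 1 n1224 = n1224 := d13_1 D1224 (iv D1224) F4445
theorem F6264 : act 2 n1224 = n1224 := d20_1 D1224 (iv D1224) F4446
theorem F6265 : act 7 n1224 = n1224 := d39_2 (iv F4447) D1224 (iv D1224) F4447 F3154
theorem F6266 : act 8 n1224 = n1224 := d40_2 F4448 D1224 (iv D1224)
theorem F6267 : act 9 n1224 = n1224 := d41_2 F4449 D1224 (iv D1224)
def n1225 : Q := act 3 n854
theorem D1225 : act 3 n854 = n1225 := rfl
def n1226 : Q := act 0 n855
theorem D1226 : act 0 n855 = n1226 := rfl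
theorem F6274 : act 1 n1226 = n952 := d0_2 D855 D1226 (iv D952) (iv D662) (iv F3157)
theorem F6275 : act 2 n1226 = n1226 := d1_2 F4457 D1226 (iv D1226)
theorem F6276 : act 3 n1226 = n1226 := d2_2 F4458 D1226 (iv D1226)
theorem F6277 : act 4 n1226 = n1226 := d3_2 F4459 D1226 (iv D1226)
theorem F6278 : act 6 n1226 = n1226 := d5_2 F4460 D1226 (iv D1226)
theorem F6279 : act 7 n1226 = n1226 := d6_2 F4461 D1226 (iv D1226)
theorem F6280 : act 8 n1226 = n1226 := d7_2 F4462 D1226 (iv D1226)
def n1227 : Q := act 9 n855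
theorem D1227 : act 9 n855 = n1227 := rfl
theorem F6281 : act 1 n1227 = n856 := d16_1 D1227 (iv D856) D855
theorem F6282 : act 2 n1227 = n1227 := d23_1 D1227 (iv D1227) F4457
theorem F6283 : act 3 n1227 = n1227 := d29_1 D1227 (iv D1227) F4458
theorem F6284 : act 4 n1227 = n1227 := d34_1 D1227 (iv D1227) F4459
theorem F6285 : act 6 n1227 = n1227 := d41_1 D1227 (iv D1227) F4460
theorem F6286 : act 7 n1227 = n1227 := d43_1 D1227 (iv D1227) F4461
def n1228 : Q := act 8 n856
theorem D1228 : act 8 n856 = n1228 := rfl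
theorem F6287 : act 0 n1228 = n954 := d7_1 D1228 (iv D954) (iv F4463)
theorem F6288 : act 2 n1228 = n857 := d22_1 D1228 (iv D857) (iv F4464)
theorem F6289 : act 3 n1228 = n1228 := d28_1 D1228 (iv D1228) F4465
theorem F6290 : act 4 n1228 = n1228 := d33_1 D1228 (iv D1228) F4466
theorem F6291 : act 6 n1228 = n1228 := d40_1 D1228 (iv D1228) F4467
theorem F6292 : act 7 n1228 = n1228 := d42_1 D1228 (iv D1228) F4468
theorem F6293 : act 9 n1228 = n1228 := d44_2 D856 D1228 (iv D1228) (iv D856) F3162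
def n1229 : Q := act 5 n857
theorem D1229 : act 5 n857 = n1229 := rfl
theorem F6294 : act 0 n1229 = n955 := d4_1 D1229 (iv D955) (iv F4469)
theorem F6295 : act 1 n1229 = n1229 := d12_1 D1229 (iv D1229) F4470
theorem F6296 : act 3 n1229 = n858 := d25_1 D1229 (iv D858) (iv F4471)
theorem F6297 : act 7 n1229 = n1229 := d36_2 F4474 D1229 (iv D1229)
theorem F6298 : act 9 n1229 = n1229 := d38_2 F4475 D1229 (iv D1229)
def n1230 : Q := act 6 n858
theorem D1230 : act 6 n858 = n1230 := rfl
theorem F6299 : act 0 n1230 = n956 := d5_1 D1230 (iv D956) (iv F4476)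
theorem F6300 : act 1 n1230 = n1230 := d13_1 D1230 (iv D1230) F4477
theorem F6301 : act 2 n1230 = n1230 := d20_1 D1230 (iv D1230) F4478
theorem F6302 : act 4 n1230 = n1230 := d31_1 D1230 (iv D1230) F4479
theorem F6303 : act 5 n1230 = n1230 := d35_1 D1230 (iv D1230) (iv D858) F3173 D858
theorem F6304 : act 9 n1230 = n1230 := d41_2 F4481 D1230 (iv D1230)
def n1231 : Q := act 5 n859
theorem D1231 : act 5 n859 = n1231 := rfl
theorem F6305 : act 1 n1231 = n1231 := d12_1 D1231 (iv D1231) F4482
theorem F6306 : act 2 n1231 = n1231 := d19_1 D1231 (iv D1231) F4483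
theorem F6307 : act 3 n1231 = n860 := d25_1 D1231 (iv D860) (iv F4484)
theorem F6308 : act 7 n1231 = n1231 := d36_2 F4487 D1231 (iv D1231)
theorem F6309 : act 8 n1231 = n1231 := d37_2 D859 D1231 (iv D1231) (iv D859) F3179
def n1232 : Q := act 9 n859
theorem D1232 : act 9 n859 = n1232 := rfl
theorem F6310 : act 1 n1232 = n1232 := d16_1 D1232 (iv D1232) F4482
theorem F6311 : act 2 n1232 = n1232 := d23_1 D1232 (iv D1232) F4483
theorem F6312 : act 3 n1232 = n861 := d29_1 D1232 (iv D861) (iv F4484)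
theorem F6313 : act 4 n1232 = n1232 := d34_1 D1232 (iv D1232) F4485
theorem F6314 : act 6 n1232 = n1232 := d41_1 D1232 (iv D1232) F4486
theorem F6315 : act 7 n1232 = n1232 := d43_1 D1232 (iv D1232) F4487
theorem F6316 : act 8 n1232 = n1232 := d44_1 D1232 (iv D1232) (iv D859) F3182 D859
def n1233 : Q := act 4 n860
theorem D1233 : act 4 n860 = n1233 := rfl
theorem F6317 : act 1 n1233 = n1233 := d11_1 D1233 (iv D1233) F4488
theorem F6318 : act 2 n1233 = n891 := d18_1 D1233 (iv D891) (iv F4489)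
theorem F6319 : act 5 n1233 = n862 := d30_2 D860 D1233 (iv D862) (iv D600) (iv F3185)
theorem F6320 : act 7 n1233 = n1233 := d32_2 F4490 D1233 (iv D1233)
theorem F6321 : act 8 n1233 = n1233 := d33_2 F4491 D1233 (iv D1233)
def n1234 : Q := act 6 n860
theorem D1234 : act 6 n860 = n1234 := rfl
theorem F6322 : act 1 n1234 = n1234 := d13_1 D1234 (iv D1234) F4488
theorem F6323 : act 2 n1234 = n892 := d20_1 D1234 (iv D892) (iv F4489)
theorem F6324 : act 5 n1234 = n1234 := d35_1 D1234 (iv D1234) (iv D860) F3186 D860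
theorem F6325 : act 8 n1234 = n1234 := d40_2 F4491 D1234 (iv D1234)
def n1235 : Q := act 9 n860
theorem D1235 : act 9 n860 = n1235 := rfl
theorem F6326 : act 1 n1235 = n1235 := d16_1 D1235 (iv D1235) F4488
theorem F6327 : act 2 n1235 = n893 := d23_1 D1235 (iv D893) (iv F4489)
theorem F6328 : act 5 n1235 = n861 := d38_1 D1235 (iv D861) D860
theorem F6329 : act 7 n1235 = n1235 := d43_1 D1235 (iv D1235) F4490
def n1236 : Q := act 3 n862
theorem D1236 : act 3 n862 = n1236 := rfl
theorem F6330 : act 1 n1236 = n1236 := d10_1 D1236 (iv D1236) F4498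
theorem F6331 : act 4 n1236 = n1236 := d24_2 D862 D1236 (iv D1236) (iv D862) F3190
theorem F6332 : act 7 n1236 = n1236 := d27_2 F4500 D1236 (iv D1236)
theorem F6333 : act 8 n1236 = n865 := d28_2 (iv F4501) D1236 (iv D865)
def n1237 : Q := act 6 n862
theorem D1237 : act 6 n862 = n1237 := rfl
theorem F6334 : act 1 n1237 = n1237 := d13_1 D1237 (iv D1237) F4498
theorem F6335 : act 2 n1237 = n895 := d20_1 D1237 (iv D895) (iv F4499)
theorem F6336 : act 4 n1237 = n863 := d31_1 D1237 (iv D863) D862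
theorem F6337 : act 8 n1237 = n866 := d40_2 (iv F4501) D1237 (iv D866)
def n1238 : Q := act 9 n862
theorem D1238 : act 9 n862 = n1238 := rfl
theorem F6338 : act 1 n1238 = n1238 := d16_1 D1238 (iv D1238) F4498
theorem F6339 : act 2 n1238 = n896 := d23_1 D1238 (iv D896) (iv F4499)
theorem F6340 : act 4 n1238 = n864 := d34_1 D1238 (iv D864) D862
theorem F6341 : act 7 n1238 = n1238 := d43_1 D1238 (iv D1238) F4500
def n1239 : Q := act 7 n863
theorem D1239 : act 7 n863 = n1239 := rfl
theorem F6343 : act 2 n1239 = n897 := d21_1 D1239 (iv D897) (iv F4503)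
def n1240 : Q := act 9 n863
theorem D1240 : act 9 n863 = n1240 := rfl
theorem F6348 : act 1 n1240 = n1240 := d16_1 D1240 (iv D1240) F4502
theorem F6349 : act 2 n1240 = n898 := d23_1 D1240 (iv D898) (iv F4503)
theorem F6350 : act 3 n1240 = n1240 := d29_1 D1240 (iv D1240) F4504
theorem F6351 : act 5 n1240 = n1240 := d38_1 D1240 (iv D1240) F4505
theorem F6352 : act 6 n1240 = n864 := d41_1 D1240 (iv D864) D863
def n1241 : Q := act 8 n864
theorem D1241 : act 8 n864 = n1241 := rfl
theorem F6353 : act 1 n1241 = n1241 := d15_1 D1241 (iv D1241) F4507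
theorem F6354 : act 2 n1241 = n899 := d22_1 D1241 (iv D899) (iv F4508)
theorem F6355 : act 3 n1241 = n1241 := d28_1 D1241 (iv D1241) F4509
theorem F6356 : act 5 n1241 = n1241 := d37_1 D1241 (iv D1241) F4510 F3198 (iv F4510)
theorem F6357 : act 7 n1241 = n1241 := d42_1 D1241 (iv D1241) F4511
theorem F6358 : act 9 n1241 = n870 := d44_2 D864 D1241 (iv D870) (iv D604) (iv F3192)
def n1242 : Q := act 2 n865
theorem D1242 : act 2 n865 = n1242 := rfl
theorem F6359 : act 3 n1242 = n900 := d17_2 D865 D1242 (iv D900) (iv D624) (iv F3200)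
theorem F6360 : act 4 n1242 = n1242 := d18_2 F4513 D1242 (iv D1242)
theorem F6361 : act 5 n1242 = n1242 := d19_2 F4514 D1242 (iv D1242)
theorem F6362 : act 7 n1242 = n1242 := d21_2 F4515 D1242 (iv D1242)
def n1243 : Q := act 6 n865
theorem D1243 : act 6 n865 = n1243 := rfl
theorem F6363 : act 1 n1243 = n1243 := d13_1 D1243 (iv D1243) F4512
theorem F6364 : act 3 n1243 = n866 := d26_1 D1243 (iv D866) D865
theorem F6365 : act 4 n1243 = n1243 := d31_1 D1243 (iv D1243) F4513
def n1244 : Q := act 9 n865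
theorem D1244 : act 9 n865 = n1244 := rfl
theorem F6366 : act 1 n1244 = n1244 := d16_1 D1244 (iv D1244) F4512
theorem F6367 : act 3 n1244 = n867 := d29_1 D1244 (iv D867) D865
theorem F6368 : act 4 n1244 = n1244 := d34_1 D1244 (iv D1244) F4513
theorem F6369 : act 5 n1244 = n1244 := d38_1 D1244 (iv D1244) F4514
theorem F6370 : act 7 n1244 = n1244 := d43_1 D1244 (iv D1244) F4515
def n1245 : Q := act 5 n866
theorem D1245 : act 5 n866 = n1245 := rfl
theorem F6372 : act 2 n1245 = n903 := d19_1 D1245 (iv D903) (iv F4517)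
theorem F6373 : act 4 n1245 = n873 := d30_1 D1245 (iv D873) F3220 (iv F3206) (iv F4518)
def n1246 : Q := act 7 n866
theorem D1246 : act 7 n866 = n1246 := rfl
theorem F6376 : act 2 n1246 = n904 := d21_1 D1246 (iv D904) (iv F4517)
def n1247 : Q := act 9 n866
theorem D1247 : act 9 n866 = n1247 := rfl
theorem F6379 : act 1 n1247 = n1247 := d16_1 D1247 (iv D1247) F4516
theorem F6380 : act 2 n1247 = n905 := d23_1 D1247 (iv D905) (iv F4517)
theorem F6381 : act 4 n1247 = n869 := d34_1 D1247 (iv D869) (iv F4518)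
theorem F6382 : act 6 n1247 = n867 := d41_1 D1247 (iv D867) D866
def n1248 : Q := act 8 n867
theorem D1248 : act 8 n867 = n1248 := rfl
theorem F6383 : act 1 n1248 = n1248 := d15_1 D1248 (iv D1248) F4519
theorem F6384 : act 2 n1248 = n906 := d22_1 D1248 (iv D906) (iv F4520)
theorem F6385 : act 4 n1248 = n870 := d33_1 D1248 (iv D870) (iv F4521)
theorem F6386 : act 7 n1248 = n1248 := d42_1 D1248 (iv D1248) F4523
def n1249 : Q := act 9 n868
theorem D1249 : act 9 n868 = n1249 := rfl
theorem F6388 : act 2 n1249 = n907 := d23_1 D1249 (iv D907) (iv F4525)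
theorem F6392 : act 7 n1249 = n869 := d43_1 D1249 (iv D869) D868
def n1250 : Q := act 8 n869
theorem D1250 : act 8 n869 = n1250 := rfl
theorem F6393 : act 1 n1250 = n1250 := d15_1 D1250 (iv D1250) F4529
theorem F6394 : act 2 n1250 = n908 := d22_1 D1250 (iv D908) (iv F4530)
theorem F6395 : act 3 n1250 = n1250 := d28_1 D1250 (iv D1250) F4531
theorem F6396 : act 6 n1250 = n870 := d40_1 D1250 (iv D870) (iv F4533)
def n1254 : Q := act 8 n872
theorem D1254 : act 8 n872 = n1254 := rfl
theorem F6414 : act 3 n1254 = n876 := d28_1 D1254 (iv D876) (iv F4546)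
def n1255 : Q := act 7 n873
theorem D1255 : act 7 n873 = n1255 := rfl
theorem F6420 : act 5 n1255 = n874 := d36_1 D1255 (iv D874) D873
def n1256 : Q := act 8 n873
theorem D1256 : act 8 n873 = n1256 := rfl
theorem F6422 : act 2 n1256 = n910 := d22_1 D1256 (iv D910) (iv F4551)
def n1257 : Q := act 9 n873
theorem D1257 : act 9 n873 = n1257 := rfl
theorem F6426 : act 2 n1257 = n911 := d23_1 D1257 (iv D911) (iv F4551)
def n1259 : Q := act 8 n875
theorem D1259 : act 8 n875 = n1259 := rfl
theorem F6435 : act 2 n1259 = n913 := d22_1 D1259 (iv D913) (iv F4559)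
theorem F6436 : act 4 n1259 = n878 := d33_1 D1259 (iv D878) (iv F4560)
def n1260 : Q := act 5 n876
theorem D1260 : act 5 n876 = n1260 := rfl
theorem F6440 : act 2 n1260 = n914 := d19_1 D1260 (iv D914) (iv F4563)
theorem F6441 : act 4 n1260 = n1260 := d30_1 D1260 (iv D1260) F4564 F3239 (iv F4564)
def n1261 : Q := act 8 n877
theorem D1261 : act 8 n877 = n1261 := rfl
theorem F6446 : act 2 n1261 = n915 := d22_1 D1261 (iv D915) (iv F4568)
theorem F6449 : act 7 n1261 = n878 := d42_1 D1261 (iv D878) (iv F4571)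
def n1262 : Q := act 5 n878
theorem D1262 : act 5 n878 = n1262 := rfl
theorem F6451 : act 1 n1262 = n1262 := d12_1 D1262 (iv D1262) F4572
theorem F6452 : act 2 n1262 = n916 := d19_1 D1262 (iv D916) (iv F4573)
theorem F6453 : act 3 n1262 = n1262 := d25_1 D1262 (iv D1262) F4574
theorem F6454 : act 6 n1262 = n1262 := d35_2 (iv F4575) D1262 (iv D1262) F4575 F3239
theorem F6455 : act 9 n1262 = n1262 := d38_2 F4576 D1262 (iv D1262)
def n1263 : Q := act 4 n879
theorem D1263 : act 4 n879 = n1263 := rfl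
theorem F6457 : act 2 n1263 = n1263 := d18_1 D1263 (iv D1263) F4578
theorem F6458 : act 3 n1263 = n1263 := d24_1 D1263 (iv D1263) F4579 F3254 (iv F4579)
def n1264 : Q := act 7 n879
theorem D1264 : act 7 n879 = n1264 := rfl
theorem F6463 : act 3 n1264 = n883 := d27_1 D1264 (iv D883) (iv F4579)
def n1265 : Q := act 8 n879
theorem D1265 : act 8 n879 = n1265 := rfl
def n1269 : Q := act 5 n882
theorem D1269 : act 5 n882 = n1269 := rfl
theorem F6488 : act 3 n1269 = n888 := d25_1 D1269 (iv D888) (iv F4593)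
def n1270 : Q := act 6 n883
theorem D1270 : act 6 n883 = n1270 := rfl
theorem F6492 : act 2 n1270 = n917 := d20_1 D1270 (iv D917) (iv F4597)
def n1271 : Q := act 8 n883
theorem D1271 : act 8 n883 = n1271 := rfl
theorem F6499 : act 7 n1271 = n884 := d42_1 D1271 (iv D884) D883
def n1278 : Q := act 5 n889
theorem D1278 : act 5 n889 = n1278 := rfl
theorem F6530 : act 7 n1278 = n890 := d36_2 (iv F4627) D1278 (iv D890)
def n1280 : Q := act 3 n891
theorem D1280 : act 3 n891 = n1280 := rfl
theorem F6538 : act 1 n1280 = n957 := d10_1 D1280 (iv D957) (iv F4635)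
theorem F6539 : act 4 n1280 = n1280 := d24_2 D891 D1280 (iv D1280) (iv D891) F3279
theorem F6540 : act 5 n1280 = n894 := d25_2 (iv F4636) D1280 (iv D894)
theorem F6541 : act 7 n1280 = n1280 := d27_2 F4637 D1280 (iv D1280)
theorem F6542 : act 8 n1280 = n1280 := d28_2 F4638 D1280 (iv D1280)
def n1281 : Q := act 6 n891
theorem D1281 : act 6 n891 = n1281 := rfl
theorem F6543 : act 1 n1281 = n958 := d13_1 D1281 (iv D958) (iv F4635)
theorem F6544 : act 4 n1281 = n892 := d31_1 D1281 (iv D892) D891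
theorem F6545 : act 8 n1281 = n1281 := d40_2 F4638 D1281 (iv D1281)
def n1282 : Q := act 9 n891
theorem D1282 : act 9 n891 = n1282 := rfl
theorem F6546 : act 1 n1282 = n959 := d16_1 D1282 (iv D959) (iv F4635)
theorem F6547 : act 4 n1282 = n893 := d34_1 D1282 (iv D893) D891
theorem F6548 : act 5 n1282 = n896 := d38_1 D1282 (iv D896) (iv F4636)
theorem F6549 : act 7 n1282 = n1282 := d43_1 D1282 (iv D1282) F4637
def n1283 : Q := act 7 n892
theorem D1283 : act 7 n892 = n1283 := rfl
theorem F6550 : act 1 n1283 = n960 := d14_1 D1283 (iv D960) (iv F4639)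
theorem F6551 : act 3 n1283 = n1283 := d27_1 D1283 (iv D1283) F4640
theorem F6552 : act 5 n1283 = n1283 := d36_1 D1283 (iv D1283) F4641
theorem F6553 : act 6 n1283 = n1283 := d39_1 D1283 (iv D1283) (iv D892) F3280 D892
theorem F6554 : act 8 n1283 = n1283 := d42_2 F4642 D1283 (iv D1283)
def n1284 : Q := act 9 n892
theorem D1284 : act 9 n892 = n1284 := rfl
theorem F6555 : act 1 n1284 = n961 := d16_1 D1284 (iv D961) (iv F4639)
theorem F6556 : act 3 n1284 = n1284 := d29_1 D1284 (iv D1284) F4640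
theorem F6557 : act 5 n1284 = n1284 := d38_1 D1284 (iv D1284) F4641
theorem F6558 : act 6 n1284 = n893 := d41_1 D1284 (iv D893) D892
def n1285 : Q := act 8 n893
theorem D1285 : act 8 n893 = n1285 := rfl
theorem F6559 : act 1 n1285 = n962 := d15_1 D1285 (iv D962) (iv F4643)
theorem F6560 : act 3 n1285 = n1285 := d28_1 D1285 (iv D1285) F4644
theorem F6561 : act 5 n1285 = n1285 := d37_1 D1285 (iv D1285) F4645 F3287 (iv F4645)
theorem F6562 : act 7 n1285 = n1285 := d42_1 D1285 (iv D1285) F4646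
theorem F6563 : act 9 n1285 = n1285 := d44_2 D893 D1285 (iv D1285) (iv D893) F3281
def n1286 : Q := act 2 n894
theorem D1286 : act 2 n894 = n1286 := rfl
theorem F6564 : act 4 n1286 = n927 := d18_2 (iv F4648) D1286 (iv D927)
theorem F6565 : act 7 n1286 = n1286 := d21_2 F4649 D1286 (iv D1286)
theorem F6566 : act 8 n1286 = n900 := d22_2 (iv F4650) D1286 (iv D900)
def n1287 : Q := act 6 n894
theorem D1287 : act 6 n894 = n1287 := rfl
theorem F6567 : act 1 n1287 = n964 := d13_1 D1287 (iv D964) (iv F4647)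
theorem F6568 : act 3 n1287 = n895 := d26_1 D1287 (iv D895) D894
theorem F6569 : act 4 n1287 = n928 := d31_1 D1287 (iv D928) (iv F4648)
theorem F6570 : act 8 n1287 = n901 := d40_2 (iv F4650) D1287 (iv D901)
def n1288 : Q := act 9 n894
theorem D1288 : act 9 n894 = n1288 := rfl
theorem F6571 : act 1 n1288 = n965 := d16_1 D1288 (iv D965) (iv F4647)
theorem F6572 : act 3 n1288 = n896 := d29_1 D1288 (iv D896) D894
theorem F6573 : act 4 n1288 = n929 := d34_1 D1288 (iv D929) (iv F4648)
theorem F6574 : act 7 n1288 = n1288 := d43_1 D1288 (iv D1288) F4649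
def n1289 : Q := act 5 n895
theorem D1289 : act 5 n895 = n1289 := rfl
theorem F6575 : act 1 n1289 = n966 := d12_1 D1289 (iv D966) (iv F4651)
theorem F6576 : act 4 n1289 = n1289 := d30_1 D1289 (iv D1289) F4652 F3293 (iv F4652)
def n1290 : Q := act 7 n895
theorem D1290 : act 7 n895 = n1290 := rfl
theorem F6577 : act 1 n1290 = n967 := d14_1 D1290 (iv D967) (iv F4651)
theorem F6578 : act 4 n1290 = n897 := d32_1 D1290 (iv D897) (iv F4652)
theorem F6579 : act 6 n1290 = n1290 := d39_1 D1290 (iv D1290) (iv D895) F3289 D895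
theorem F6580 : act 8 n1290 = n904 := d42_2 (iv F4653) D1290 (iv D904)
def n1291 : Q := act 9 n895
theorem D1291 : act 9 n895 = n1291 := rfl
theorem F6581 : act 1 n1291 = n968 := d16_1 D1291 (iv D968) (iv F4651)
theorem F6582 : act 4 n1291 = n898 := d34_1 D1291 (iv D898) (iv F4652)
theorem F6583 : act 6 n1291 = n896 := d41_1 D1291 (iv D896) D895
def n1292 : Q := act 8 n896
theorem D1292 : act 8 n896 = n1292 := rfl
theorem F6584 : act 1 n1292 = n969 := d15_1 D1292 (iv D969) (iv F4654)
theorem F6585 : act 4 n1292 = n899 := d33_1 D1292 (iv D899) (iv F4655)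
theorem F6586 : act 7 n1292 = n1292 := d42_1 D1292 (iv D1292) F4656
theorem F6587 : act 9 n1292 = n906 := d44_2 D896 D1292 (iv D906) (iv D626) (iv F3290)
def n1293 : Q := act 9 n897
theorem D1293 : act 9 n897 = n1293 := rfl
theorem F6588 : act 1 n1293 = n970 := d16_1 D1293 (iv D970) (iv F4657)
theorem F6589 : act 3 n1293 = n934 := d29_1 D1293 (iv D934) (iv F4658)
theorem F6590 : act 5 n1293 = n1293 := d38_1 D1293 (iv D1293) F4659
theorem F6591 : act 6 n1293 = n1293 := d41_1 D1293 (iv D1293) F4660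
theorem F6592 : act 7 n1293 = n898 := d43_1 D1293 (iv D898) D897
def n1294 : Q := act 8 n898
theorem D1294 : act 8 n898 = n1294 := rfl
theorem F6593 : act 1 n1294 = n971 := d15_1 D1294 (iv D971) (iv F4662)
theorem F6594 : act 3 n1294 = n935 := d28_1 D1294 (iv D935) (iv F4663)
theorem F6595 : act 6 n1294 = n899 := d40_1 D1294 (iv D899) (iv F4665)
theorem F6596 : act 9 n1294 = n908 := d44_2 D898 D1294 (iv D908) (iv D628) (iv F3294)
def n1295 : Q := act 1 n900
theorem D1295 : act 1 n900 = n1295 := rfl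
theorem F6597 : act 2 n1295 = n972 := d9_2 D900 D1295 (iv D972) (iv D675) (iv F3299)
theorem F6598 : act 4 n1295 = n936 := d11_2 (iv F4671) D1295 (iv D936)
theorem F6599 : act 5 n1295 = n1295 := d12_2 F4672 D1295 (iv D1295)
theorem F6600 : act 7 n1295 = n1295 := d14_2 F4673 D1295 (iv D1295)
def n1296 : Q := act 6 n900
theorem D1296 : act 6 n900 = n1296 := rfl
theorem F6601 : act 2 n1296 = n901 := d20_1 D1296 (iv D901) D900
theorem F6602 : act 4 n1296 = n937 := d31_1 D1296 (iv D937) (iv F4671)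
def n1297 : Q := act 9 n900
theorem D1297 : act 9 n900 = n1297 := rfl
theorem F6603 : act 2 n1297 = n902 := d23_1 D1297 (iv D902) D900
theorem F6604 : act 4 n1297 = n938 := d34_1 D1297 (iv D938) (iv F4671)
theorem F6605 : act 5 n1297 = n1297 := d38_1 D1297 (iv D1297) F4672
theorem F6606 : act 7 n1297 = n1297 := d43_1 D1297 (iv D1297) F4673
def n1298 : Q := act 5 n901
theorem D1298 : act 5 n901 = n1298 := rfl
theorem F6607 : act 1 n1298 = n975 := d12_1 D1298 (iv D975) (iv F4674)
theorem F6608 : act 3 n1298 = n903 := d25_1 D1298 (iv D903) (iv F4675)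
theorem F6609 : act 4 n1298 = n1298 := d30_1 D1298 (iv D1298) F4676 F3415 (iv F4676)
theorem F6610 : act 6 n1298 = n1298 := d35_2 D901 D1298 (iv D1298) (iv D901) F3301
def n1299 : Q := act 7 n901
theorem D1299 : act 7 n901 = n1299 := rfl
theorem F6611 : act 1 n1299 = n976 := d14_1 D1299 (iv D976) (iv F4674)
theorem F6612 : act 3 n1299 = n904 := d27_1 D1299 (iv D904) (iv F4675)
theorem F6613 : act 4 n1299 = n939 := d32_1 D1299 (iv D939) (iv F4676)
theorem F6614 : act 6 n1299 = n1299 := d39_1 D1299 (iv D1299) (iv D901) F3302 D901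
def n1300 : Q := act 9 n901
theorem D1300 : act 9 n901 = n1300 := rfl
theorem F6615 : act 1 n1300 = n977 := d16_1 D1300 (iv D977) (iv F4674)
theorem F6616 : act 3 n1300 = n905 := d29_1 D1300 (iv D905) (iv F4675)
theorem F6617 : act 4 n1300 = n940 := d34_1 D1300 (iv D940) (iv F4676)
theorem F6618 : act 6 n1300 = n902 := d41_1 D1300 (iv D902) D901
def n1301 : Q := act 8 n902
theorem D1301 : act 8 n902 = n1301 := rfl
theorem F6619 : act 1 n1301 = n978 := d15_1 D1301 (iv D978) (iv F4677)
theorem F6620 : act 3 n1301 = n906 := d28_1 D1301 (iv D906) (iv F4678)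
theorem F6621 : act 4 n1301 = n941 := d33_1 D1301 (iv D941) (iv F4679)
theorem F6622 : act 7 n1301 = n1301 := d42_1 D1301 (iv D1301) F4681
def n1302 : Q := act 7 n903
theorem D1302 : act 7 n903 = n1302 := rfl
theorem F6623 : act 1 n1302 = n979 := d14_1 D1302 (iv D979) (iv F4682)
theorem F6624 : act 4 n1302 = n909 := d32_1 D1302 (iv D909) (iv F4683)
theorem F6625 : act 5 n1302 = n904 := d36_1 D1302 (iv D904) D903
def n1303 : Q := act 8 n903
theorem D1303 : act 8 n903 = n1303 := rfl
theorem F6626 : act 1 n1303 = n980 := d15_1 D1303 (iv D980) (iv F4682)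
theorem F6627 : act 4 n1303 = n910 := d33_1 D1303 (iv D910) (iv F4683)
theorem F6628 : act 6 n1303 = n1303 := d40_1 D1303 (iv D1303) F4684
def n1304 : Q := act 9 n903
theorem D1304 : act 9 n903 = n1304 := rfl
theorem F6629 : act 1 n1304 = n981 := d16_1 D1304 (iv D981) (iv F4682)
theorem F6630 : act 4 n1304 = n911 := d34_1 D1304 (iv D911) (iv F4683)
theorem F6631 : act 5 n1304 = n905 := d38_1 D1304 (iv D905) D903
theorem F6632 : act 6 n1304 = n1304 := d41_1 D1304 (iv D1304) F4684
def n1305 : Q := act 9 n904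
theorem D1305 : act 9 n904 = n1305 := rfl
theorem F6633 : act 1 n1305 = n982 := d16_1 D1305 (iv D982) (iv F4685)
theorem F6634 : act 4 n1305 = n907 := d34_1 D1305 (iv D907) (iv F4686)
theorem F6635 : act 6 n1305 = n1305 := d41_1 D1305 (iv D1305) F4687
theorem F6636 : act 7 n1305 = n905 := d43_1 D1305 (iv D905) D904
def n1306 : Q := act 8 n905
theorem D1306 : act 8 n905 = n1306 := rfl
theorem F6637 : act 1 n1306 = n983 := d15_1 D1306 (iv D983) (iv F4688)
theorem F6638 : act 4 n1306 = n908 := d33_1 D1306 (iv D908) (iv F4689)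
theorem F6639 : act 6 n1306 = n906 := d40_1 D1306 (iv D906) (iv F4690)
def n1307 : Q := act 5 n906
theorem D1307 : act 5 n906 = n1307 := rfl
theorem F6640 : act 1 n1307 = n984 := d12_1 D1307 (iv D984) (iv F4691)
theorem F6641 : act 4 n1307 = n1307 := d30_1 D1307 (iv D1307) F4692 F3319 (iv F4692)
theorem F6642 : act 7 n1307 = n1307 := d36_2 F4693 D1307 (iv D1307)
theorem F6643 : act 8 n1307 = n1307 := d37_2 D906 D1307 (iv D1307) (iv D906) F3307
def n1308 : Q := act 8 n907
theorem D1308 : act 8 n907 = n1308 := rfl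
theorem F6644 : act 1 n1308 = n985 := d15_1 D1308 (iv D985) (iv F4694)
theorem F6645 : act 3 n1308 = n945 := d28_1 D1308 (iv D945) (iv F4695)
theorem F6646 : act 6 n1308 = n1308 := d40_1 D1308 (iv D1308) F4697
theorem F6647 : act 7 n1308 = n908 := d42_1 D1308 (iv D908) (iv F4698)
def n1309 : Q := act 5 n908
theorem D1309 : act 5 n908 = n1309 := rfl
theorem F6648 : act 1 n1309 = n986 := d12_1 D1309 (iv D986) (iv F4699)
theorem F6649 : act 3 n1309 = n946 := d25_1 D1309 (iv D946) (iv F4700)
theorem F6650 : act 6 n1309 = n1309 := d35_2 (iv F4701) D1309 (iv D1309) F4701 F3319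
theorem F6651 : act 8 n1309 = n916 := d37_2 D908 D1309 (iv D916) (iv D635) (iv F3315)
def n1310 : Q := act 6 n909
theorem D1310 : act 6 n909 = n1310 := rfl
theorem F6654 : act 5 n1310 = n917 := d35_1 D1310 (iv D917) F3349 (iv F3327) (iv F4704)
def n1311 : Q := act 8 n909
theorem D1311 : act 8 n909 = n1311 := rfl
theorem F6656 : act 1 n1311 = n988 := d15_1 D1311 (iv D988) (iv F4702)
theorem F6659 : act 7 n1311 = n910 := d42_1 D1311 (iv D910) D909
def n1312 : Q := act 9 n909
theorem D1312 : act 9 n909 = n1312 := rfl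
theorem F6660 : act 1 n1312 = n989 := d16_1 D1312 (iv D989) (iv F4702)
theorem F6663 : act 7 n1312 = n911 := d43_1 D1312 (iv D911) D909
def n1313 : Q := act 9 n910
theorem D1313 : act 9 n910 = n1313 := rfl
theorem F6664 : act 1 n1313 = n990 := d16_1 D1313 (iv D990) (iv F4705)
theorem F6665 : act 3 n1313 = n1313 := d29_1 D1313 (iv D1313) F4706
theorem F6666 : act 5 n1313 = n1313 := d38_1 D1313 (iv D1313) F4707
theorem F6667 : act 6 n1313 = n1313 := d41_1 D1313 (iv D1313) F4708
def n1314 : Q := act 8 n911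
theorem D1314 : act 8 n911 = n1314 := rfl
theorem F6668 : act 1 n1314 = n991 := d15_1 D1314 (iv D991) (iv F4709)
theorem F6669 : act 3 n1314 = n1314 := d28_1 D1314 (iv D1314) F4710
theorem F6670 : act 6 n1314 = n1314 := d40_1 D1314 (iv D1314) F4712
def n1315 : Q := act 8 n912
theorem D1315 : act 8 n912 = n1315 := rfl
theorem F6671 : act 1 n1315 = n992 := d15_1 D1315 (iv D992) (iv F4713)
theorem F6673 : act 4 n1315 = n915 := d33_1 D1315 (iv D915) (iv F4715)
theorem F6675 : act 7 n1315 = n913 := d42_1 D1315 (iv D913) (iv F4717)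
def n1316 : Q := act 5 n913
theorem D1316 : act 5 n913 = n1316 := rfl
theorem F6677 : act 1 n1316 = n993 := d12_1 D1316 (iv D993) (iv F4718)
theorem F6678 : act 3 n1316 = n1316 := d25_1 D1316 (iv D1316) F4719
theorem F6679 : act 9 n1316 = n1316 := d38_2 F4722 D1316 (iv D1316)
def n1317 : Q := act 6 n914
theorem D1317 : act 6 n914 = n1317 := rfl
theorem F6680 : act 1 n1317 = n994 := d13_1 D1317 (iv D994) (iv F4723)
theorem F6681 : act 3 n1317 = n1317 := d26_1 D1317 (iv D1317) F4724
theorem F6682 : act 4 n1317 = n1317 := d31_1 D1317 (iv D1317) F4725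
theorem F6683 : act 8 n1317 = n1317 := d40_2 F4727 D1317 (iv D1317)
theorem F6684 : act 9 n1317 = n1317 := d41_2 F4728 D1317 (iv D1317)
def n1318 : Q := act 5 n915
theorem D1318 : act 5 n915 = n1318 := rfl
theorem F6685 : act 1 n1318 = n995 := d12_1 D1318 (iv D995) (iv F4729)
theorem F6686 : act 3 n1318 = n947 := d25_1 D1318 (iv D947) (iv F4730)
theorem F6687 : act 7 n1318 = n916 := d36_2 (iv F4732) D1318 (iv D916)
theorem F6688 : act 9 n1318 = n1318 := d38_2 F4733 D1318 (iv D1318)
def n1319 : Q := act 4 n916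
theorem D1319 : act 4 n916 = n1319 := rfl
theorem F6689 : act 1 n1319 = n996 := d11_1 D1319 (iv D996) (iv F4734)
theorem F6690 : act 6 n1319 = n1319 := d31_2 F4736 D1319 (iv D1319)
theorem F6691 : act 9 n1319 = n1319 := d34_2 F4737 D1319 (iv D1319)
def n1320 : Q := act 8 n917
theorem D1320 : act 8 n917 = n1320 := rfl
theorem F6692 : act 1 n1320 = n997 := d15_1 D1320 (iv D997) (iv F4738)
theorem F6695 : act 6 n1320 = n918 := d40_1 D1320 (iv D918) D917
def n1330 : Q := act 4 n925
theorem D1330 : act 4 n925 = n1330 := rfl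
def n1331 : Q := act 6 n925
theorem D1331 : act 6 n925 = n1331 := rfl
theorem F6739 : act 1 n1331 = n1008 := d13_1 D1331 (iv D1008) (iv F4774)
theorem F6740 : act 3 n1331 = n950 := d26_1 D1331 (iv D950) (iv F4775)
theorem F6741 : act 7 n1331 = n1331 := d39_2 (iv F4776) D1331 (iv D1331) F4776 F3380
theorem F6742 : act 8 n1331 = n1331 := d40_2 F4777 D1331 (iv D1331)
theorem F6743 : act 9 n1331 = n1331 := d41_2 F4778 D1331 (iv D1331)
def n1333 : Q := act 1 n927
theorem D1333 : act 1 n927 = n1333 := rfl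
theorem F6749 : act 2 n1333 = n1010 := d9_2 D927 D1333 (iv D1010) (iv D702) (iv F3383)
theorem F6750 : act 3 n1333 = n1333 := d10_2 F4783 D1333 (iv D1333)
theorem F6751 : act 5 n1333 = n1333 := d12_2 F4784 D1333 (iv D1333)
theorem F6752 : act 7 n1333 = n1333 := d14_2 F4785 D1333 (iv D1333)
theorem F6753 : act 8 n1333 = n936 := d15_2 (iv F4786) D1333 (iv D936)
def n1334 : Q := act 6 n927
theorem D1334 : act 6 n927 = n1334 := rfl
theorem F6754 : act 2 n1334 = n928 := d20_1 D1334 (iv D928) D927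
theorem F6755 : act 3 n1334 = n1334 := d26_1 D1334 (iv D1334) F4783
theorem F6756 : act 8 n1334 = n937 := d40_2 (iv F4786) D1334 (iv D937)
def n1335 : Q := act 9 n927
theorem D1335 : act 9 n927 = n1335 := rfl
theorem F6757 : act 2 n1335 = n929 := d23_1 D1335 (iv D929) D927
theorem F6758 : act 3 n1335 = n1335 := d29_1 D1335 (iv D1335) F4783
theorem F6759 : act 5 n1335 = n1335 := d38_1 D1335 (iv D1335) F4784
theorem F6760 : act 7 n1335 = n1335 := d43_1 D1335 (iv D1335) F4785
def n1336 : Q := act 5 n928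
theorem D1336 : act 5 n928 = n1336 := rfl
theorem F6761 : act 1 n1336 = n1013 := d12_1 D1336 (iv D1013) (iv F4787)
theorem F6762 : act 3 n1336 = n930 := d25_1 D1336 (iv D930) (iv F4788)
theorem F6763 : act 6 n1336 = n1336 := d35_2 D928 D1336 (iv D1336) (iv D928) F3384
theorem F6764 : act 8 n1336 = n1336 := d37_2 (iv F4789) D1336 (iv D1336) F4789 F3415
def n1337 : Q := act 7 n928
theorem D1337 : act 7 n928 = n1337 := rfl
theorem F6765 : act 1 n1337 = n1014 := d14_1 D1337 (iv D1014) (iv F4787)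
theorem F6766 : act 3 n1337 = n931 := d27_1 D1337 (iv D931) (iv F4788)
theorem F6767 : act 6 n1337 = n1337 := d39_1 D1337 (iv D1337) (iv D928) F3385 D928
theorem F6768 : act 8 n1337 = n939 := d42_2 (iv F4789) D1337 (iv D939)
def n1338 : Q := act 9 n928
theorem D1338 : act 9 n928 = n1338 := rfl
theorem F6769 : act 1 n1338 = n1015 := d16_1 D1338 (iv D1015) (iv F4787)
theorem F6770 : act 3 n1338 = n932 := d29_1 D1338 (iv D932) (iv F4788)
theorem F6771 : act 6 n1338 = n929 := d41_1 D1338 (iv D929) D928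
def n1339 : Q := act 8 n929
theorem D1339 : act 8 n929 = n1339 := rfl
theorem F6772 : act 1 n1339 = n1016 := d15_1 D1339 (iv D1016) (iv F4790)
theorem F6773 : act 3 n1339 = n933 := d28_1 D1339 (iv D933) (iv F4791)
theorem F6774 : act 7 n1339 = n1339 := d42_1 D1339 (iv D1339) F4793
theorem F6775 : act 9 n1339 = n941 := d44_2 D929 D1339 (iv D941) (iv D652) (iv F3386)
def n1340 : Q := act 7 n930
theorem D1340 : act 7 n930 = n1340 := rfl
theorem F6776 : act 1 n1340 = n1017 := d14_1 D1340 (iv D1017) (iv F4794)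
theorem F6777 : act 2 n1340 = n1340 := d21_1 D1340 (iv D1340) F4795
theorem F6778 : act 4 n1340 = n1340 := d32_1 D1340 (iv D1340) F4796
theorem F6779 : act 5 n1340 = n931 := d36_1 D1340 (iv D931) D930
theorem F6780 : act 8 n1340 = n1340 := d42_2 F4798 D1340 (iv D1340)
def n1341 : Q := act 9 n930
theorem D1341 : act 9 n930 = n1341 := rfl
theorem F6781 : act 1 n1341 = n1018 := d16_1 D1341 (iv D1018) (iv F4794)
theorem F6782 : act 2 n1341 = n1341 := d23_1 D1341 (iv D1341) F4795
theorem F6783 : act 4 n1341 = n1341 := d34_1 D1341 (iv D1341) F4796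
theorem F6784 : act 5 n1341 = n932 := d38_1 D1341 (iv D932) D930
theorem F6785 : act 6 n1341 = n1341 := d41_1 D1341 (iv D1341) F4797
def n1342 : Q := act 9 n931
theorem D1342 : act 9 n931 = n1342 := rfl
theorem F6786 : act 1 n1342 = n1019 := d16_1 D1342 (iv D1019) (iv F4799)
theorem F6787 : act 2 n1342 = n1342 := d23_1 D1342 (iv D1342) F4800
theorem F6788 : act 4 n1342 = n934 := d34_1 D1342 (iv D934) (iv F4801)
theorem F6789 : act 6 n1342 = n1342 := d41_1 D1342 (iv D1342) F4802
theorem F6790 : act 7 n1342 = n932 := d43_1 D1342 (iv D932) D931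
def n1343 : Q := act 8 n932
theorem D1343 : act 8 n932 = n1343 := rfl
theorem F6791 : act 1 n1343 = n1020 := d15_1 D1343 (iv D1020) (iv F4804)
theorem F6792 : act 2 n1343 = n1343 := d22_1 D1343 (iv D1343) F4805
theorem F6793 : act 4 n1343 = n935 := d33_1 D1343 (iv D935) (iv F4806)
theorem F6794 : act 6 n1343 = n933 := d40_1 D1343 (iv D933) (iv F4807)
theorem F6795 : act 9 n1343 = n943 := d44_2 D932 D1343 (iv D943) (iv D654) (iv F3390)
def n1344 : Q := act 5 n933
theorem D1344 : act 5 n933 = n1344 := rfl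
theorem F6796 : act 1 n1344 = n1021 := d12_1 D1344 (iv D1021) (iv F4808)
theorem F6797 : act 2 n1344 = n1344 := d19_1 D1344 (iv D1344) F4809
theorem F6798 : act 4 n1344 = n1344 := d30_1 D1344 (iv D1344) F4810 F3407 (iv F4810)
theorem F6799 : act 7 n1344 = n1344 := d36_2 F4811 D1344 (iv D1344)
theorem F6800 : act 8 n1344 = n1344 := d37_2 D933 D1344 (iv D1344) (iv D933) F3394
theorem F6801 : act 9 n1344 = n944 := d38_2 (iv F4812) D1344 (iv D944)
def n1345 : Q := act 8 n934
theorem D1345 : act 8 n934 = n1345 := rfl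
theorem F6802 : act 1 n1345 = n1022 := d15_1 D1345 (iv D1022) (iv F4813)
theorem F6803 : act 2 n1345 = n1345 := d22_1 D1345 (iv D1345) F4814
theorem F6804 : act 6 n1345 = n1345 := d40_1 D1345 (iv D1345) F4816
theorem F6805 : act 7 n1345 = n935 := d42_1 D1345 (iv D935) (iv F4817)
theorem F6806 : act 9 n1345 = n945 := d44_2 D934 D1345 (iv D945) (iv D656) (iv F3400)
def n1346 : Q := act 5 n935
theorem D1346 : act 5 n935 = n1346 := rfl
theorem F6807 : act 1 n1346 = n1023 := d12_1 D1346 (iv D1023) (iv F4818)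
theorem F6808 : act 2 n1346 = n1346 := d19_1 D1346 (iv D1346) F4819
theorem F6809 : act 6 n1346 = n1346 := d35_2 (iv F4820) D1346 (iv D1346) F4820 F3407
theorem F6810 : act 8 n1346 = n1346 := d37_2 D935 D1346 (iv D1346) (iv D935) F3403
theorem F6811 : act 9 n1346 = n946 := d38_2 (iv F4821) D1346 (iv D946)
def n1347 : Q := act 0 n936
theorem D1347 : act 0 n936 = n1347 := rfl
theorem F6812 : act 2 n1347 = n1024 := d1_2 (iv F4822) D1347 (iv D1024)
theorem F6813 : act 3 n1347 = n1347 := d2_2 F4823 D1347 (iv D1347)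
theorem F6814 : act 5 n1347 = n952 := d4_2 (iv F4824) D1347 (iv D952)
theorem F6815 : act 7 n1347 = n1347 := d6_2 F4825 D1347 (iv D1347)
def n1348 : Q := act 6 n936
theorem D1348 : act 6 n936 = n1348 := rfl
theorem F6816 : act 1 n1348 = n937 := d13_1 D1348 (iv D937) D936
theorem F6817 : act 2 n1348 = n1025 := d20_1 D1348 (iv D1025) (iv F4822)
theorem F6818 : act 3 n1348 = n1348 := d26_1 D1348 (iv D1348) F4823
theorem F6819 : act 5 n1348 = n1348 := d35_1 D1348 (iv D1348) F4824 F3466 (iv F4824)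
def n1349 : Q := act 9 n936
theorem D1349 : act 9 n936 = n1349 := rfl
theorem F6820 : act 1 n1349 = n938 := d16_1 D1349 (iv D938) D936
theorem F6821 : act 2 n1349 = n1026 := d23_1 D1349 (iv D1026) (iv F4822)
theorem F6822 : act 3 n1349 = n1349 := d29_1 D1349 (iv D1349) F4823
theorem F6823 : act 5 n1349 = n953 := d38_1 D1349 (iv D953) (iv F4824)
theorem F6824 : act 7 n1349 = n1349 := d43_1 D1349 (iv D1349) F4825
def n1350 : Q := act 7 n937
theorem D1350 : act 7 n937 = n1350 := rfl
theorem F6825 : act 2 n1350 = n939 := d21_1 D1350 (iv D939) (iv F4826)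
theorem F6826 : act 3 n1350 = n1350 := d27_1 D1350 (iv D1350) F4827
theorem F6827 : act 5 n1350 = n1350 := d36_1 D1350 (iv D1350) F4828
theorem F6828 : act 6 n1350 = n1350 := d39_1 D1350 (iv D1350) (iv D937) F3412 D937
def n1351 : Q := act 9 n937
theorem D1351 : act 9 n937 = n1351 := rfl
theorem F6829 : act 2 n1351 = n940 := d23_1 D1351 (iv D940) (iv F4826)
theorem F6830 : act 3 n1351 = n1351 := d29_1 D1351 (iv D1351) F4827
theorem F6831 : act 5 n1351 = n1351 := d38_1 D1351 (iv D1351) F4828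
theorem F6832 : act 6 n1351 = n938 := d41_1 D1351 (iv D938) D937
def n1352 : Q := act 8 n938
theorem D1352 : act 8 n938 = n1352 := rfl
theorem F6833 : act 2 n1352 = n941 := d22_1 D1352 (iv D941) (iv F4829)
theorem F6834 : act 3 n1352 = n1352 := d28_1 D1352 (iv D1352) F4830
theorem F6835 : act 7 n1352 = n1352 := d42_1 D1352 (iv D1352) F4832
def n1353 : Q := act 9 n939
theorem D1353 : act 9 n939 = n1353 := rfl
theorem F6836 : act 1 n1353 = n1030 := d16_1 D1353 (iv D1030) (iv F4833)
theorem F6837 : act 3 n1353 = n942 := d29_1 D1353 (iv D942) (iv F4834)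
theorem F6838 : act 5 n1353 = n1353 := d38_1 D1353 (iv D1353) F4835
theorem F6839 : act 6 n1353 = n1353 := d41_1 D1353 (iv D1353) F4836
theorem F6840 : act 7 n1353 = n940 := d43_1 D1353 (iv D940) D939
def n1354 : Q := act 8 n940
theorem D1354 : act 8 n940 = n1354 := rfl
theorem F6841 : act 1 n1354 = n1031 := d15_1 D1354 (iv D1031) (iv F4837)
theorem F6842 : act 3 n1354 = n943 := d28_1 D1354 (iv D943) (iv F4838)
theorem F6843 : act 6 n1354 = n941 := d40_1 D1354 (iv D941) (iv F4840)
def n1355 : Q := act 5 n941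
theorem D1355 : act 5 n941 = n1355 := rfl
theorem F6844 : act 1 n1355 = n1032 := d12_1 D1355 (iv D1032) (iv F4841)
theorem F6845 : act 3 n1355 = n944 := d25_1 D1355 (iv D944) (iv F4842)
theorem F6846 : act 7 n1355 = n1355 := d36_2 F4843 D1355 (iv D1355)
theorem F6847 : act 8 n1355 = n955 := d37_2 D941 D1355 (iv D955) (iv D664) (iv F3418)
def n1356 : Q := act 8 n942
theorem D1356 : act 8 n942 = n1356 := rfl
theorem F6848 : act 1 n1356 = n1033 := d15_1 D1356 (iv D1033) (iv F4844)
theorem F6849 : act 2 n1356 = n1356 := d22_1 D1356 (iv D1356) F4845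
theorem F6850 : act 4 n1356 = n945 := d33_1 D1356 (iv D945) (iv F4846)
theorem F6851 : act 6 n1356 = n1356 := d40_1 D1356 (iv D1356) F4848
theorem F6852 : act 7 n1356 = n943 := d42_1 D1356 (iv D943) (iv F4849)
def n1357 : Q := act 5 n943
theorem D1357 : act 5 n943 = n1357 := rfl
theorem F6853 : act 1 n1357 = n1034 := d12_1 D1357 (iv D1034) (iv F4850)
theorem F6854 : act 2 n1357 = n1357 := d19_1 D1357 (iv D1357) F4851
theorem F6855 : act 8 n1357 = n1357 := d37_2 D943 D1357 (iv D1357) (iv D943) F3428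
def n1358 : Q := act 6 n944
theorem D1358 : act 6 n944 = n1358 := rfl
theorem F6856 : act 1 n1358 = n1035 := d13_1 D1358 (iv D1035) (iv F4854)
theorem F6857 : act 2 n1358 = n1358 := d20_1 D1358 (iv D1358) F4855
theorem F6858 : act 4 n1358 = n1358 := d31_1 D1358 (iv D1358) F4856
theorem F6859 : act 8 n1358 = n956 := d40_2 (iv F4858) D1358 (iv D956)
def n1359 : Q := act 5 n945
theorem D1359 : act 5 n945 = n1359 := rfl
theorem F6860 : act 1 n1359 = n1036 := d12_1 D1359 (iv D1036) (iv F4859)
theorem F6861 : act 2 n1359 = n1359 := d19_1 D1359 (iv D1359) F4860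
theorem F6862 : act 7 n1359 = n946 := d36_2 (iv F4862) D1359 (iv D946)
theorem F6863 : act 8 n1359 = n947 := d37_2 D945 D1359 (iv D947) (iv D658) (iv F3436)
def n1360 : Q := act 4 n946
theorem D1360 : act 4 n946 = n1360 := rfl
theorem F6864 : act 1 n1360 = n1037 := d11_1 D1360 (iv D1037) (iv F4863)
theorem F6865 : act 2 n1360 = n1360 := d18_1 D1360 (iv D1360) F4864
theorem F6866 : act 6 n1360 = n1360 := d31_2 F4865 D1360 (iv D1360)
theorem F6867 : act 8 n1360 = n948 := d33_2 (iv F4866) D1360 (iv D948)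
def n1361 : Q := act 4 n947
theorem D1361 : act 4 n947 = n1361 := rfl
theorem F6868 : act 1 n1361 = n1038 := d11_1 D1361 (iv D1038) (iv F4867)
theorem F6869 : act 2 n1361 = n1361 := d18_1 D1361 (iv D1361) F4868
theorem F6870 : act 5 n1361 = n1361 := d30_2 D947 D1361 (iv D1361) (iv D947) F3444
theorem F6871 : act 7 n1361 = n948 := d32_2 (iv F4869) D1361 (iv D948)
theorem F6872 : act 9 n1361 = n1361 := d34_2 F4870 D1361 (iv D1361)
def n1362 : Q := act 6 n947
theorem D1362 : act 6 n947 = n1362 := rfl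
theorem F6873 : act 1 n1362 = n1039 := d13_1 D1362 (iv D1039) (iv F4867)
theorem F6874 : act 2 n1362 = n1362 := d20_1 D1362 (iv D1362) F4868
theorem F6875 : act 5 n1362 = n950 := d35_1 D1362 (iv D950) (iv D660) (iv F3445) D947
theorem F6876 : act 7 n1362 = n1362 := d39_2 (iv F4869) D1362 (iv D1362) F4869 F3450
theorem F6877 : act 9 n1362 = n1362 := d41_2 F4870 D1362 (iv D1362)
def n1363 : Q := act 3 n948
theorem D1363 : act 3 n948 = n1363 := rfl
theorem F6878 : act 1 n1363 = n1040 := d10_1 D1363 (iv D1040) (iv F4871)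
theorem F6879 : act 5 n1363 = n1363 := d25_2 F4873 D1363 (iv D1363)
theorem F6880 : act 6 n1363 = n1363 := d26_2 F4874 D1363 (iv D1363)
theorem F6881 : act 9 n1363 = n1363 := d29_2 F4875 D1363 (iv D1363)
def n1364 : Q := act 3 n949
theorem D1364 : act 3 n949 = n1364 := rfl
def n1365 : Q := act 6 n949
theorem D1365 : act 6 n949 = n1365 := rfl
theorem F6889 : act 4 n1365 = n950 := d31_1 D1365 (iv D950) D949
def n1367 : Q := act 9 n952
theorem D1367 : act 9 n952 = n1367 := rfl
theorem F6898 : act 0 n1367 = n953 := d8_1 D1367 (iv D953) D952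
theorem F6899 : act 2 n1367 = n1044 := d23_1 D1367 (iv D1044) (iv F4892)
theorem F6900 : act 3 n1367 = n1367 := d29_1 D1367 (iv D1367) F4893
theorem F6901 : act 4 n1367 = n1367 := d34_1 D1367 (iv D1367) F4894
theorem F6902 : act 6 n1367 = n1367 := d41_1 D1367 (iv D1367) F4895
theorem F6903 : act 7 n1367 = n1367 := d43_1 D1367 (iv D1367) F4896
def n1368 : Q := act 8 n953
theorem D1368 : act 8 n953 = n1368 := rfl
theorem F6904 : act 1 n1368 = n954 := d15_1 D1368 (iv D954) (iv F4898)
theorem F6905 : act 2 n1368 = n1045 := d22_1 D1368 (iv D1045) (iv F4899)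
theorem F6906 : act 3 n1368 = n1368 := d28_1 D1368 (iv D1368) F4900
theorem F6907 : act 4 n1368 = n1368 := d33_1 D1368 (iv D1368) F4901
theorem F6908 : act 6 n1368 = n1368 := d40_1 D1368 (iv D1368) F4902
theorem F6909 : act 7 n1368 = n1368 := d42_1 D1368 (iv D1368) F4903
theorem F6910 : act 9 n1368 = n1368 := d44_2 D953 D1368 (iv D1368) (iv D953) F3468
def n1369 : Q := act 5 n954
theorem D1369 : act 5 n954 = n1369 := rfl
theorem F6911 : act 2 n1369 = n955 := d19_1 D1369 (iv D955) (iv F4904)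
theorem F6912 : act 3 n1369 = n1369 := d25_1 D1369 (iv D1369) F4905
theorem F6913 : act 7 n1369 = n1369 := d36_2 F4908 D1369 (iv D1369)
theorem F6914 : act 9 n1369 = n1369 := d38_2 F4909 D1369 (iv D1369)
def n1370 : Q := act 4 n955
theorem D1370 : act 4 n955 = n1370 := rfl
theorem F6915 : act 1 n1370 = n1047 := d11_1 D1370 (iv D1047) (iv F4910)
theorem F6916 : act 3 n1370 = n1370 := d24_1 D1370 (iv D1370) F4911 F3482 (iv F4911)
theorem F6917 : act 5 n1370 = n1370 := d30_2 D955 D1370 (iv D1370) (iv D955) F3476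
theorem F6918 : act 7 n1370 = n1370 := d32_2 F4912 D1370 (iv D1370)
theorem F6919 : act 9 n1370 = n1370 := d34_2 F4913 D1370 (iv D1370)
def n1371 : Q := act 6 n955
theorem D1371 : act 6 n955 = n1371 := rfl
theorem F6920 : act 1 n1371 = n1048 := d13_1 D1371 (iv D1048) (iv F4910)
theorem F6921 : act 3 n1371 = n956 := d26_1 D1371 (iv D956) (iv F4911)
theorem F6922 : act 5 n1371 = n1371 := d35_1 D1371 (iv D1371) (iv D955) F3477 D955
theorem F6923 : act 9 n1371 = n1371 := d41_2 F4913 D1371 (iv D1371)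
def n1372 : Q := act 7 n956
theorem D1372 : act 7 n956 = n1372 := rfl
theorem F6924 : act 1 n1372 = n1049 := d14_1 D1372 (iv D1049) (iv F4914)
theorem F6925 : act 2 n1372 = n1372 := d21_1 D1372 (iv D1372) F4915
theorem F6926 : act 4 n1372 = n1372 := d32_1 D1372 (iv D1372) F4916
theorem F6927 : act 5 n1372 = n1372 := d36_1 D1372 (iv D1372) F4917
theorem F6928 : act 6 n1372 = n1372 := d39_1 D1372 (iv D1372) (iv D956) F3483 D956
theorem F6929 : act 9 n1372 = n1372 := d43_2 F4918 D1372 (iv D1372)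
def n1373 : Q := act 2 n957
theorem D1373 : act 2 n957 = n1373 := rfl
theorem F6930 : act 0 n1373 = n1373 := d1_1 D1373 (iv D1373) F4919
theorem F6931 : act 3 n1373 = n1373 := d17_2 D957 D1373 (iv D1373) (iv D957) F3486
theorem F6932 : act 4 n1373 = n1373 := d18_2 F4920 D1373 (iv D1373)
theorem F6933 : act 5 n1373 = n963 := d19_2 (iv F4921) D1373 (iv D963)
theorem F6934 : act 7 n1373 = n1373 := d21_2 F4922 D1373 (iv D1373)
theorem F6935 : act 8 n1373 = n1373 := d22_2 F4923 D1373 (iv D1373)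
def n1374 : Q := act 6 n957
theorem D1374 : act 6 n957 = n1374 := rfl
theorem F6936 : act 0 n1374 = n1374 := d5_1 D1374 (iv D1374) F4919
theorem F6937 : act 3 n1374 = n958 := d26_1 D1374 (iv D958) D957
theorem F6938 : act 4 n1374 = n1374 := d31_1 D1374 (iv D1374) F4920
theorem F6939 : act 8 n1374 = n1374 := d40_2 F4923 D1374 (iv D1374)
def n1375 : Q := act 9 n957
theorem D1375 : act 9 n957 = n1375 := rfl
theorem F6940 : act 0 n1375 = n1375 := d8_1 D1375 (iv D1375) F4919
theorem F6941 : act 3 n1375 = n959 := d29_1 D1375 (iv D959) D957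
theorem F6942 : act 4 n1375 = n1375 := d34_1 D1375 (iv D1375) F4920
theorem F6943 : act 5 n1375 = n965 := d38_1 D1375 (iv D965) (iv F4921)
theorem F6944 : act 7 n1375 = n1375 := d43_1 D1375 (iv D1375) F4922
def n1376 : Q := act 5 n958
theorem D1376 : act 5 n958 = n1376 := rfl
theorem F6945 : act 0 n1376 = n1376 := d4_1 D1376 (iv D1376) F4924
theorem F6946 : act 2 n1376 = n1376 := d19_1 D1376 (iv D1376) F4925
theorem F6947 : act 4 n1376 = n1376 := d30_1 D1376 (iv D1376) F4926 F3493 (iv F4926)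
theorem F6948 : act 6 n1376 = n966 := d35_2 D958 D1376 (iv D966) (iv D670) (iv F3487)
def n1377 : Q := act 7 n958
theorem D1377 : act 7 n958 = n1377 := rfl
theorem F6949 : act 0 n1377 = n1377 := d6_1 D1377 (iv D1377) F4924
theorem F6950 : act 2 n1377 = n1377 := d21_1 D1377 (iv D1377) F4925
theorem F6951 : act 4 n1377 = n960 := d32_1 D1377 (iv D960) (iv F4926)
theorem F6952 : act 6 n1377 = n1377 := d39_1 D1377 (iv D1377) (iv D958) F3488 D958
theorem F6953 : act 8 n1377 = n1377 := d42_2 F4927 D1377 (iv D1377)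
def n1378 : Q := act 9 n958
theorem D1378 : act 9 n958 = n1378 := rfl
theorem F6954 : act 0 n1378 = n1378 := d8_1 D1378 (iv D1378) F4924
theorem F6955 : act 2 n1378 = n1378 := d23_1 D1378 (iv D1378) F4925
theorem F6956 : act 4 n1378 = n961 := d34_1 D1378 (iv D961) (iv F4926)
theorem F6957 : act 6 n1378 = n959 := d41_1 D1378 (iv D959) D958
def n1379 : Q := act 8 n959
theorem D1379 : act 8 n959 = n1379 := rfl
theorem F6958 : act 0 n1379 = n1379 := d7_1 D1379 (iv D1379) F4928
theorem F6959 : act 2 n1379 = n1379 := d22_1 D1379 (iv D1379) F4929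
theorem F6960 : act 4 n1379 = n962 := d33_1 D1379 (iv D962) (iv F4930)
theorem F6961 : act 7 n1379 = n1379 := d42_1 D1379 (iv D1379) F4932
theorem F6962 : act 9 n1379 = n1379 := d44_2 D959 D1379 (iv D1379) (iv D959) F3489
def n1380 : Q := act 9 n960
theorem D1380 : act 9 n960 = n1380 := rfl
theorem F6963 : act 0 n1380 = n1380 := d8_1 D1380 (iv D1380) F4933
theorem F6964 : act 2 n1380 = n1380 := d23_1 D1380 (iv D1380) F4934
theorem F6965 : act 3 n1380 = n1380 := d29_1 D1380 (iv D1380) F4935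
theorem F6966 : act 5 n1380 = n1380 := d38_1 D1380 (iv D1380) F4936
theorem F6967 : act 6 n1380 = n1380 := d41_1 D1380 (iv D1380) F4937
theorem F6968 : act 7 n1380 = n961 := d43_1 D1380 (iv D961) D960
def n1381 : Q := act 8 n961
theorem D1381 : act 8 n961 = n1381 := rfl
theorem F6969 : act 0 n1381 = n1381 := d7_1 D1381 (iv D1381) F4939
theorem F6970 : act 2 n1381 = n1381 := d22_1 D1381 (iv D1381) F4940
theorem F6971 : act 3 n1381 = n1381 := d28_1 D1381 (iv D1381) F4941
theorem F6972 : act 6 n1381 = n962 := d40_1 D1381 (iv D962) (iv F4943)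
theorem F6973 : act 9 n1381 = n1381 := d44_2 D961 D1381 (iv D1381) (iv D961) F3494
def n1382 : Q := act 1 n963
theorem D1382 : act 1 n963 = n1382 := rfl
theorem F6974 : act 3 n1382 = n1382 := d10_2 F4951 D1382 (iv D1382)
theorem F6975 : act 4 n1382 = n1010 := d11_2 (iv F4952) D1382 (iv D1010)
theorem F6976 : act 7 n1382 = n1382 := d14_2 F4953 D1382 (iv D1382)
theorem F6977 : act 8 n1382 = n972 := d15_2 (iv F4954) D1382 (iv D972)
def n1383 : Q := act 6 n963
theorem D1383 : act 6 n963 = n1383 := rfl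
theorem F6978 : act 0 n1383 = n1383 := d5_1 D1383 (iv D1383) F4950
theorem F6979 : act 2 n1383 = n964 := d20_1 D1383 (iv D964) D963
theorem F6980 : act 3 n1383 = n1383 := d26_1 D1383 (iv D1383) F4951
theorem F6981 : act 4 n1383 = n1011 := d31_1 D1383 (iv D1011) (iv F4952)
theorem F6982 : act 8 n1383 = n973 := d40_2 (iv F4954) D1383 (iv D973)
def n1384 : Q := act 9 n963
theorem D1384 : act 9 n963 = n1384 := rfl
theorem F6983 : act 0 n1384 = n1384 := d8_1 D1384 (iv D1384) F4950
theorem F6984 : act 2 n1384 = n965 := d23_1 D1384 (iv D965) D963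
theorem F6985 : act 3 n1384 = n1384 := d29_1 D1384 (iv D1384) F4951
theorem F6986 : act 4 n1384 = n1012 := d34_1 D1384 (iv D1012) (iv F4952)
theorem F6987 : act 7 n1384 = n1384 := d43_1 D1384 (iv D1384) F4953
def n1385 : Q := act 5 n964
theorem D1385 : act 5 n964 = n1385 := rfl
theorem F6988 : act 0 n1385 = n1385 := d4_1 D1385 (iv D1385) F4955
theorem F6989 : act 3 n1385 = n966 := d25_1 D1385 (iv D966) (iv F4956)
def n1386 : Q := act 7 n964
theorem D1386 : act 7 n964 = n1386 := rfl
theorem F6990 : act 0 n1386 = n1386 := d6_1 D1386 (iv D1386) F4955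
theorem F6991 : act 3 n1386 = n967 := d27_1 D1386 (iv D967) (iv F4956)
theorem F6992 : act 4 n1386 = n1014 := d32_1 D1386 (iv D1014) (iv F4957)
theorem F6993 : act 6 n1386 = n1386 := d39_1 D1386 (iv D1386) (iv D964) F3502 D964
theorem F6994 : act 8 n1386 = n976 := d42_2 (iv F4958) D1386 (iv D976)
def n1387 : Q := act 9 n964
theorem D1387 : act 9 n964 = n1387 := rfl
theorem F6995 : act 0 n1387 = n1387 := d8_1 D1387 (iv D1387) F4955
theorem F6996 : act 3 n1387 = n968 := d29_1 D1387 (iv D968) (iv F4956)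
theorem F6997 : act 4 n1387 = n1015 := d34_1 D1387 (iv D1015) (iv F4957)
theorem F6998 : act 6 n1387 = n965 := d41_1 D1387 (iv D965) D964
def n1388 : Q := act 8 n965
theorem D1388 : act 8 n965 = n1388 := rfl
theorem F6999 : act 0 n1388 = n1388 := d7_1 D1388 (iv D1388) F4959
theorem F7000 : act 3 n1388 = n969 := d28_1 D1388 (iv D969) (iv F4960)
theorem F7001 : act 4 n1388 = n1016 := d33_1 D1388 (iv D1016) (iv F4961)
theorem F7002 : act 7 n1388 = n1388 := d42_1 D1388 (iv D1388) F4962
theorem F7003 : act 9 n1388 = n978 := d44_2 D965 D1388 (iv D978) (iv D677) (iv F3503)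
def n1389 : Q := act 7 n966
theorem D1389 : act 7 n966 = n1389 := rfl
theorem F7004 : act 0 n1389 = n1389 := d6_1 D1389 (iv D1389) F4963
theorem F7005 : act 2 n1389 = n1389 := d21_1 D1389 (iv D1389) F4964
theorem F7006 : act 4 n1389 = n1389 := d32_1 D1389 (iv D1389) F4965
theorem F7007 : act 5 n1389 = n967 := d36_1 D1389 (iv D967) D966
def n1390 : Q := act 8 n966
theorem D1390 : act 8 n966 = n1390 := rfl
theorem F7008 : act 0 n1390 = n1390 := d7_1 D1390 (iv D1390) F4963
theorem F7009 : act 2 n1390 = n1390 := d22_1 D1390 (iv D1390) F4964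
theorem F7010 : act 4 n1390 = n1390 := d33_1 D1390 (iv D1390) F4965
theorem F7011 : act 5 n1390 = n980 := d37_1 D1390 (iv D980) (iv D678) (iv F3507) D966
def n1391 : Q := act 9 n966
theorem D1391 : act 9 n966 = n1391 := rfl
theorem F7012 : act 0 n1391 = n1391 := d8_1 D1391 (iv D1391) F4963
theorem F7013 : act 2 n1391 = n1391 := d23_1 D1391 (iv D1391) F4964
theorem F7014 : act 4 n1391 = n1391 := d34_1 D1391 (iv D1391) F4965
theorem F7015 : act 5 n1391 = n968 := d38_1 D1391 (iv D968) D966
def n1392 : Q := act 9 n967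
theorem D1392 : act 9 n967 = n1392 := rfl
theorem F7016 : act 0 n1392 = n1392 := d8_1 D1392 (iv D1392) F4966
theorem F7017 : act 2 n1392 = n1392 := d23_1 D1392 (iv D1392) F4967
theorem F7018 : act 4 n1392 = n970 := d34_1 D1392 (iv D970) (iv F4968)
theorem F7019 : act 6 n1392 = n1392 := d41_1 D1392 (iv D1392) F4969
theorem F7020 : act 7 n1392 = n968 := d43_1 D1392 (iv D968) D967
def n1393 : Q := act 8 n968
theorem D1393 : act 8 n968 = n1393 := rfl
theorem F7021 : act 0 n1393 = n1393 := d7_1 D1393 (iv D1393) F4971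
theorem F7022 : act 2 n1393 = n1393 := d22_1 D1393 (iv D1393) F4972
theorem F7023 : act 4 n1393 = n971 := d33_1 D1393 (iv D971) (iv F4973)
theorem F7024 : act 6 n1393 = n969 := d40_1 D1393 (iv D969) (iv F4974)
theorem F7025 : act 9 n1393 = n983 := d44_2 D968 D1393 (iv D983) (iv D680) (iv F3507)
def n1394 : Q := act 5 n969
theorem D1394 : act 5 n969 = n1394 := rfl
theorem F7026 : act 0 n1394 = n1394 := d4_1 D1394 (iv D1394) F4975
theorem F7027 : act 2 n1394 = n1394 := d19_1 D1394 (iv D1394) F4976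
theorem F7028 : act 4 n1394 = n1394 := d30_1 D1394 (iv D1394) F4977 F3526 (iv F4977)
theorem F7029 : act 7 n1394 = n1394 := d36_2 F4978 D1394 (iv D1394)
theorem F7030 : act 9 n1394 = n984 := d38_2 (iv F4979) D1394 (iv D984)
def n1395 : Q := act 8 n970
theorem D1395 : act 8 n970 = n1395 := rfl
theorem F7031 : act 0 n1395 = n1395 := d7_1 D1395 (iv D1395) F4980
theorem F7032 : act 2 n1395 = n1395 := d22_1 D1395 (iv D1395) F4981
theorem F7033 : act 3 n1395 = n1022 := d28_1 D1395 (iv D1022) (iv F4982)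
theorem F7034 : act 6 n1395 = n1395 := d40_1 D1395 (iv D1395) F4984
theorem F7035 : act 7 n1395 = n971 := d42_1 D1395 (iv D971) (iv F4985)
theorem F7036 : act 9 n1395 = n985 := d44_2 D970 D1395 (iv D985) (iv D682) (iv F3517)
def n1396 : Q := act 5 n971
theorem D1396 : act 5 n971 = n1396 := rfl
theorem F7037 : act 0 n1396 = n1396 := d4_1 D1396 (iv D1396) F4986
theorem F7038 : act 2 n1396 = n1396 := d19_1 D1396 (iv D1396) F4987
theorem F7039 : act 3 n1396 = n1023 := d25_1 D1396 (iv D1023) (iv F4988)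
theorem F7040 : act 6 n1396 = n1396 := d35_2 (iv F4989) D1396 (iv D1396) F4989 F3526
theorem F7041 : act 8 n1396 = n1396 := d37_2 D971 D1396 (iv D1396) (iv D971) F3521
theorem F7042 : act 9 n1396 = n986 := d38_2 (iv F4990) D1396 (iv D986)
def n1397 : Q := act 0 n972
theorem D1397 : act 0 n972 = n1397 := rfl
theorem F7043 : act 1 n1397 = n1397 := d0_2 D972 D1397 (iv D1397) (iv D972) F3529
theorem F7044 : act 3 n1397 = n1397 := d2_2 F4991 D1397 (iv D1397)
theorem F7045 : act 4 n1397 = n1024 := d3_2 (iv F4992) D1397 (iv D1024)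
theorem F7046 : act 5 n1397 = n1397 := d4_2 F4993 D1397 (iv D1397)
theorem F7047 : act 7 n1397 = n1397 := d6_2 F4994 D1397 (iv D1397)
def n1398 : Q := act 6 n972
theorem D1398 : act 6 n972 = n1398 := rfl
theorem F7048 : act 1 n1398 = n973 := d13_1 D1398 (iv D973) D972
theorem F7049 : act 3 n1398 = n1398 := d26_1 D1398 (iv D1398) F4991
theorem F7050 : act 4 n1398 = n1025 := d31_1 D1398 (iv D1025) (iv F4992)
def n1399 : Q := act 9 n972
theorem D1399 : act 9 n972 = n1399 := rfl
theorem F7051 : act 1 n1399 = n974 := d16_1 D1399 (iv D974) D972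
theorem F7052 : act 3 n1399 = n1399 := d29_1 D1399 (iv D1399) F4991
theorem F7053 : act 4 n1399 = n1026 := d34_1 D1399 (iv D1026) (iv F4992)
theorem F7054 : act 5 n1399 = n1399 := d38_1 D1399 (iv D1399) F4993
theorem F7055 : act 7 n1399 = n1399 := d43_1 D1399 (iv D1399) F4994
def n1400 : Q := act 5 n973
theorem D1400 : act 5 n973 = n1400 := rfl
theorem F7056 : act 0 n1400 = n1400 := d4_1 D1400 (iv D1400) F4995
theorem F7057 : act 2 n1400 = n975 := d19_1 D1400 (iv D975) (iv F4996)
theorem F7058 : act 3 n1400 = n1400 := d25_1 D1400 (iv D1400) F4997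
theorem F7059 : act 4 n1400 = n1400 := d30_1 D1400 (iv D1400) F4998 F3713 (iv F4998)
theorem F7060 : act 6 n1400 = n1400 := d35_2 D973 D1400 (iv D1400) (iv D973) F3532
def n1401 : Q := act 7 n973
theorem D1401 : act 7 n973 = n1401 := rfl
theorem F7061 : act 0 n1401 = n1401 := d6_1 D1401 (iv D1401) F4995
theorem F7062 : act 2 n1401 = n976 := d21_1 D1401 (iv D976) (iv F4996)
theorem F7063 : act 3 n1401 = n1401 := d27_1 D1401 (iv D1401) F4997
theorem F7064 : act 4 n1401 = n1027 := d32_1 D1401 (iv D1027) (iv F4998)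
theorem F7065 : act 6 n1401 = n1401 := d39_1 D1401 (iv D1401) (iv D973) F3533 D973
def n1402 : Q := act 9 n973
theorem D1402 : act 9 n973 = n1402 := rfl
theorem F7066 : act 0 n1402 = n1402 := d8_1 D1402 (iv D1402) F4995
theorem F7067 : act 2 n1402 = n977 := d23_1 D1402 (iv D977) (iv F4996)
theorem F7068 : act 3 n1402 = n1402 := d29_1 D1402 (iv D1402) F4997
theorem F7069 : act 4 n1402 = n1028 := d34_1 D1402 (iv D1028) (iv F4998)
theorem F7070 : act 6 n1402 = n974 := d41_1 D1402 (iv D974) D973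
def n1403 : Q := act 8 n974
theorem D1403 : act 8 n974 = n1403 := rfl
theorem F7071 : act 0 n1403 = n1403 := d7_1 D1403 (iv D1403) F4999
theorem F7072 : act 2 n1403 = n978 := d22_1 D1403 (iv D978) (iv F5000)
theorem F7073 : act 3 n1403 = n1403 := d28_1 D1403 (iv D1403) F5001
theorem F7074 : act 4 n1403 = n1029 := d33_1 D1403 (iv D1029) (iv F5002)
theorem F7075 : act 7 n1403 = n1403 := d42_1 D1403 (iv D1403) F5004
def n1404 : Q := act 7 n975
theorem D1404 : act 7 n975 = n1404 := rfl
theorem F7076 : act 0 n1404 = n1404 := d6_1 D1404 (iv D1404) F5005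
theorem F7077 : act 3 n1404 = n979 := d27_1 D1404 (iv D979) (iv F5006)
theorem F7078 : act 4 n1404 = n1404 := d32_1 D1404 (iv D1404) F5007
theorem F7079 : act 5 n1404 = n976 := d36_1 D1404 (iv D976) D975
def n1405 : Q := act 8 n975
theorem D1405 : act 8 n975 = n1405 := rfl
theorem F7080 : act 0 n1405 = n1405 := d7_1 D1405 (iv D1405) F5005
theorem F7081 : act 3 n1405 = n980 := d28_1 D1405 (iv D980) (iv F5006)
theorem F7082 : act 4 n1405 = n1405 := d33_1 D1405 (iv D1405) F5007
theorem F7083 : act 6 n1405 = n1405 := d40_1 D1405 (iv D1405) F5008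
def n1406 : Q := act 9 n975
theorem D1406 : act 9 n975 = n1406 := rfl
theorem F7084 : act 0 n1406 = n1406 := d8_1 D1406 (iv D1406) F5005
theorem F7085 : act 3 n1406 = n981 := d29_1 D1406 (iv D981) (iv F5006)
theorem F7086 : act 4 n1406 = n1406 := d34_1 D1406 (iv D1406) F5007
theorem F7087 : act 5 n1406 = n977 := d38_1 D1406 (iv D977) D975
theorem F7088 : act 6 n1406 = n1406 := d41_1 D1406 (iv D1406) F5008
def n1407 : Q := act 9 n976
theorem D1407 : act 9 n976 = n1407 := rfl
theorem F7089 : act 0 n1407 = n1407 := d8_1 D1407 (iv D1407) F5009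
theorem F7090 : act 3 n1407 = n982 := d29_1 D1407 (iv D982) (iv F5010)
theorem F7091 : act 4 n1407 = n1030 := d34_1 D1407 (iv D1030) (iv F5011)
theorem F7092 : act 6 n1407 = n1407 := d41_1 D1407 (iv D1407) F5012
theorem F7093 : act 7 n1407 = n977 := d43_1 D1407 (iv D977) D976
def n1408 : Q := act 8 n977
theorem D1408 : act 8 n977 = n1408 := rfl
theorem F7094 : act 0 n1408 = n1408 := d7_1 D1408 (iv D1408) F5013
theorem F7095 : act 3 n1408 = n983 := d28_1 D1408 (iv D983) (iv F5014)
theorem F7096 : act 4 n1408 = n1031 := d33_1 D1408 (iv D1031) (iv F5015)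
theorem F7097 : act 6 n1408 = n978 := d40_1 D1408 (iv D978) (iv F5016)
def n1409 : Q := act 5 n978
theorem D1409 : act 5 n978 = n1409 := rfl
theorem F7098 : act 0 n1409 = n1409 := d4_1 D1409 (iv D1409) F5017
theorem F7099 : act 3 n1409 = n984 := d25_1 D1409 (iv D984) (iv F5018)
theorem F7100 : act 7 n1409 = n1409 := d36_2 F5020 D1409 (iv D1409)
theorem F7101 : act 8 n1409 = n1409 := d37_2 D978 D1409 (iv D1409) (iv D978) F3540
def n1410 : Q := act 6 n979
theorem D1410 : act 6 n979 = n1410 := rfl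
theorem F7104 : act 4 n1410 = n987 := d31_1 D1410 (iv D987) (iv F5023)
def n1411 : Q := act 8 n979
theorem D1411 : act 8 n979 = n1411 := rfl
theorem F7107 : act 0 n1411 = n1411 := d7_1 D1411 (iv D1411) F5021
theorem F7108 : act 2 n1411 = n1411 := d22_1 D1411 (iv D1411) F5022
theorem F7109 : act 4 n1411 = n988 := d33_1 D1411 (iv D988) (iv F5023)
theorem F7110 : act 7 n1411 = n980 := d42_1 D1411 (iv D980) D979
def n1412 : Q := act 9 n979
theorem D1412 : act 9 n979 = n1412 := rfl
theorem F7111 : act 0 n1412 = n1412 := d8_1 D1412 (iv D1412) F5021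
theorem F7112 : act 2 n1412 = n1412 := d23_1 D1412 (iv D1412) F5022
theorem F7113 : act 4 n1412 = n989 := d34_1 D1412 (iv D989) (iv F5023)
theorem F7114 : act 5 n1412 = n982 := d38_1 D1412 (iv D982) (iv F5024)
theorem F7115 : act 7 n1412 = n981 := d43_1 D1412 (iv D981) D979
def n1413 : Q := act 9 n980
theorem D1413 : act 9 n980 = n1413 := rfl
theorem F7116 : act 0 n1413 = n1413 := d8_1 D1413 (iv D1413) F5025
theorem F7117 : act 2 n1413 = n1413 := d23_1 D1413 (iv D1413) F5026
theorem F7118 : act 4 n1413 = n990 := d34_1 D1413 (iv D990) (iv F5027)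
theorem F7119 : act 6 n1413 = n1413 := d41_1 D1413 (iv D1413) F5028
def n1414 : Q := act 8 n981
theorem D1414 : act 8 n981 = n1414 := rfl
theorem F7120 : act 0 n1414 = n1414 := d7_1 D1414 (iv D1414) F5029
theorem F7121 : act 2 n1414 = n1414 := d22_1 D1414 (iv D1414) F5030
theorem F7122 : act 4 n1414 = n991 := d33_1 D1414 (iv D991) (iv F5031)
theorem F7123 : act 6 n1414 = n1414 := d40_1 D1414 (iv D1414) F5033
def n1415 : Q := act 8 n982
theorem D1415 : act 8 n982 = n1415 := rfl
theorem F7124 : act 0 n1415 = n1415 := d7_1 D1415 (iv D1415) F5034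
theorem F7125 : act 2 n1415 = n1415 := d22_1 D1415 (iv D1415) F5035
theorem F7126 : act 4 n1415 = n985 := d33_1 D1415 (iv D985) (iv F5036)
theorem F7127 : act 6 n1415 = n1415 := d40_1 D1415 (iv D1415) F5037
theorem F7128 : act 7 n1415 = n983 := d42_1 D1415 (iv D983) (iv F5038)
def n1416 : Q := act 5 n983
theorem D1416 : act 5 n983 = n1416 := rfl
theorem F7129 : act 0 n1416 = n1416 := d4_1 D1416 (iv D1416) F5039
theorem F7130 : act 2 n1416 = n1416 := d19_1 D1416 (iv D1416) F5040
def n1417 : Q := act 6 n984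
theorem D1417 : act 6 n984 = n1417 := rfl
theorem F7131 : act 0 n1417 = n1417 := d5_1 D1417 (iv D1417) F5043
theorem F7132 : act 2 n1417 = n1417 := d20_1 D1417 (iv D1417) F5044
theorem F7133 : act 4 n1417 = n1417 := d31_1 D1417 (iv D1417) F5045
theorem F7134 : act 8 n1417 = n1417 := d40_2 F5047 D1417 (iv D1417)
def n1418 : Q := act 5 n985
theorem D1418 : act 5 n985 = n1418 := rfl
theorem F7135 : act 0 n1418 = n1418 := d4_1 D1418 (iv D1418) F5048
theorem F7136 : act 2 n1418 = n1418 := d19_1 D1418 (iv D1418) F5049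
theorem F7137 : act 3 n1418 = n1036 := d25_1 D1418 (iv D1036) (iv F5050)
theorem F7138 : act 7 n1418 = n986 := d36_2 (iv F5052) D1418 (iv D986)
theorem F7139 : act 8 n1418 = n995 := d37_2 D985 D1418 (iv D995) (iv D690) (iv F3561)
def n1419 : Q := act 4 n986
theorem D1419 : act 4 n986 = n1419 := rfl
theorem F7140 : act 0 n1419 = n1419 := d3_1 D1419 (iv D1419) F5053
theorem F7141 : act 2 n1419 = n1419 := d18_1 D1419 (iv D1419) F5054
theorem F7142 : act 6 n1419 = n1419 := d31_2 F5056 D1419 (iv D1419)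
theorem F7143 : act 8 n1419 = n996 := d33_2 (iv F5057) D1419 (iv D996)
def n1420 : Q := act 8 n987
theorem D1420 : act 8 n987 = n1420 := rfl
theorem F7147 : act 6 n1420 = n988 := d40_1 D1420 (iv D988) D987
theorem F7148 : act 7 n1420 = n1420 := d42_1 D1420 (iv D1420) F5062
def n1422 : Q := act 9 n988
theorem D1422 : act 9 n988 = n1422 := rfl
theorem F7155 : act 0 n1422 = n1422 := d8_1 D1422 (iv D1422) F5063
theorem F7156 : act 2 n1422 = n1422 := d23_1 D1422 (iv D1422) F5064
theorem F7157 : act 3 n1422 = n1422 := d29_1 D1422 (iv D1422) F5065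
theorem F7158 : act 5 n1422 = n1422 := d38_1 D1422 (iv D1422) F5066
theorem F7159 : act 7 n1422 = n990 := d43_1 D1422 (iv D990) (iv F5067)
def n1423 : Q := act 8 n989
theorem D1423 : act 8 n989 = n1423 := rfl
theorem F7160 : act 0 n1423 = n1423 := d7_1 D1423 (iv D1423) F5068
theorem F7161 : act 2 n1423 = n1423 := d22_1 D1423 (iv D1423) F5069
theorem F7162 : act 3 n1423 = n1423 := d28_1 D1423 (iv D1423) F5070
theorem F7163 : act 7 n1423 = n991 := d42_1 D1423 (iv D991) (iv F5072)
def n1424 : Q := act 8 n990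
theorem D1424 : act 8 n990 = n1424 := rfl
theorem F7164 : act 0 n1424 = n1424 := d7_1 D1424 (iv D1424) F5073
theorem F7165 : act 2 n1424 = n1424 := d22_1 D1424 (iv D1424) F5074
theorem F7166 : act 3 n1424 = n1424 := d28_1 D1424 (iv D1424) F5075
theorem F7167 : act 6 n1424 = n1424 := d40_1 D1424 (iv D1424) F5077
theorem F7168 : act 9 n1424 = n991 := d44_2 D990 D1424 (iv D991) (iv D686) D685
def n1425 : Q := act 5 n991
theorem D1425 : act 5 n991 = n1425 := rfl
theorem F7169 : act 0 n1425 = n1425 := d4_1 D1425 (iv D1425) F5078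
theorem F7170 : act 2 n1425 = n1425 := d19_1 D1425 (iv D1425) F5079
theorem F7171 : act 3 n1425 = n1425 := d25_1 D1425 (iv D1425) F5080
theorem F7172 : act 8 n1425 = n993 := d37_2 D991 D1425 (iv D993) (iv D688) (iv F3580)
def n1426 : Q := act 5 n992
theorem D1426 : act 5 n992 = n1426 := rfl
theorem F7173 : act 0 n1426 = n1426 := d4_1 D1426 (iv D1426) F5082
theorem F7174 : act 2 n1426 = n1426 := d19_1 D1426 (iv D1426) F5083
theorem F7175 : act 3 n1426 = n1426 := d25_1 D1426 (iv D1426) F5084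
theorem F7176 : act 7 n1426 = n993 := d36_2 (iv F5087) D1426 (iv D993)
theorem F7177 : act 9 n1426 = n1426 := d38_2 F5088 D1426 (iv D1426)
def n1427 : Q := act 4 n993
theorem D1427 : act 4 n993 = n1427 := rfl
theorem F7178 : act 0 n1427 = n1427 := d3_1 D1427 (iv D1427) F5089
theorem F7179 : act 2 n1427 = n1427 := d18_1 D1427 (iv D1427) F5090
theorem F7180 : act 5 n1427 = n996 := d30_2 D993 D1427 (iv D996) (iv D691) (iv F3591)
theorem F7181 : act 9 n1427 = n1427 := d34_2 F5092 D1427 (iv D1427)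
def n1428 : Q := act 6 n993
theorem D1428 : act 6 n993 = n1428 := rfl
theorem F7182 : act 0 n1428 = n1428 := d5_1 D1428 (iv D1428) F5089
theorem F7183 : act 2 n1428 = n1428 := d20_1 D1428 (iv D1428) F5090
theorem F7184 : act 3 n1428 = n1428 := d26_1 D1428 (iv D1428) F5091
theorem F7185 : act 5 n1428 = n994 := d35_1 D1428 (iv D994) (iv D689) (iv F3592) D993
theorem F7186 : act 9 n1428 = n1428 := d41_2 F5092 D1428 (iv D1428)
def n1429 : Q := act 7 n994
theorem D1429 : act 7 n994 = n1429 := rfl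
def n1430 : Q := act 4 n995
theorem D1430 : act 4 n995 = n1430 := rfl
theorem F7194 : act 0 n1430 = n1430 := d3_1 D1430 (iv D1430) F5099
theorem F7195 : act 2 n1430 = n1430 := d18_1 D1430 (iv D1430) F5100
theorem F7196 : act 7 n1430 = n996 := d32_2 (iv F5102) D1430 (iv D996)
theorem F7197 : act 9 n1430 = n1430 := d34_2 F5103 D1430 (iv D1430)
def n1431 : Q := act 6 n995
theorem D1431 : act 6 n995 = n1431 := rfl
theorem F7198 : act 0 n1431 = n1431 := d5_1 D1431 (iv D1431) F5099
theorem F7199 : act 2 n1431 = n1431 := d20_1 D1431 (iv D1431) F5100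
theorem F7200 : act 3 n1431 = n1039 := d26_1 D1431 (iv D1039) (iv F5101)
theorem F7201 : act 5 n1431 = n1008 := d35_1 D1431 (iv D1008) (iv D700) (iv F3604) D995
theorem F7202 : act 7 n1431 = n1431 := d39_2 (iv F5102) D1431 (iv D1431) F5102 F3610
theorem F7203 : act 9 n1431 = n1431 := d41_2 F5103 D1431 (iv D1431)
def n1432 : Q := act 3 n996
theorem D1432 : act 3 n996 = n1432 := rfl
theorem F7204 : act 0 n1432 = n1432 := d2_1 D1432 (iv D1432) F5104
theorem F7205 : act 4 n1432 = n1040 := d24_2 D996 D1432 (iv D1040) (iv D723) (iv F3609)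
theorem F7206 : act 6 n1432 = n1432 := d26_2 F5106 D1432 (iv D1432)
theorem F7207 : act 9 n1432 = n1432 := d29_2 F5107 D1432 (iv D1432)
def n1433 : Q := act 5 n997
theorem D1433 : act 5 n997 = n1433 := rfl
theorem F7208 : act 0 n1433 = n1433 := d4_1 D1433 (iv D1433) F5108
theorem F7209 : act 2 n1433 = n1433 := d19_1 D1433 (iv D1433) F5109
theorem F7210 : act 3 n1433 = n1433 := d25_1 D1433 (iv D1433) F5110
theorem F7211 : act 6 n1433 = n1433 := d35_2 (iv F5112) D1433 (iv D1433) F5112 F3621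
theorem F7212 : act 7 n1433 = n1433 := d36_2 F5113 D1433 (iv D1433)
def n1447 : Q := act 6 n1007
theorem D1447 : act 6 n1007 = n1447 := rfl
theorem F7280 : act 4 n1447 = n1008 := d31_1 D1447 (iv D1008) D1007
def n1449 : Q := act 0 n1010
theorem D1449 : act 0 n1010 = n1449 := rfl
theorem F7290 : act 1 n1449 = n1449 := d0_2 D1010 D1449 (iv D1449) (iv D1010) F3667
theorem F7291 : act 3 n1449 = n1050 := d2_2 (iv F5177) D1449 (iv D1050)
theorem F7292 : act 5 n1449 = n1449 := d4_2 F5178 D1449 (iv D1449)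
theorem F7293 : act 7 n1449 = n1449 := d6_2 F5179 D1449 (iv D1449)
theorem F7294 : act 8 n1449 = n1024 := d7_2 (iv F5180) D1449 (iv D1024)
def n1450 : Q := act 6 n1010
theorem D1450 : act 6 n1010 = n1450 := rfl
theorem F7295 : act 1 n1450 = n1011 := d13_1 D1450 (iv D1011) D1010
theorem F7296 : act 3 n1450 = n1051 := d26_1 D1450 (iv D1051) (iv F5177)
theorem F7297 : act 8 n1450 = n1025 := d40_2 (iv F5180) D1450 (iv D1025)
def n1451 : Q := act 9 n1010
theorem D1451 : act 9 n1010 = n1451 := rfl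
theorem F7298 : act 1 n1451 = n1012 := d16_1 D1451 (iv D1012) D1010
theorem F7299 : act 3 n1451 = n1052 := d29_1 D1451 (iv D1052) (iv F5177)
theorem F7300 : act 5 n1451 = n1451 := d38_1 D1451 (iv D1451) F5178
theorem F7301 : act 7 n1451 = n1451 := d43_1 D1451 (iv D1451) F5179
def n1452 : Q := act 5 n1011
theorem D1452 : act 5 n1011 = n1452 := rfl
theorem F7302 : act 0 n1452 = n1452 := d4_1 D1452 (iv D1452) F5181
theorem F7303 : act 2 n1452 = n1013 := d19_1 D1452 (iv D1013) (iv F5182)
theorem F7304 : act 3 n1452 = n1053 := d25_1 D1452 (iv D1053) (iv F5183)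
theorem F7305 : act 6 n1452 = n1452 := d35_2 D1011 D1452 (iv D1452) (iv D1011) F3669
theorem F7306 : act 8 n1452 = n1452 := d37_2 (iv F5184) D1452 (iv D1452) F5184 F3713
def n1453 : Q := act 7 n1011
theorem D1453 : act 7 n1011 = n1453 := rfl
theorem F7307 : act 0 n1453 = n1453 := d6_1 D1453 (iv D1453) F5181
theorem F7308 : act 2 n1453 = n1014 := d21_1 D1453 (iv D1014) (iv F5182)
theorem F7309 : act 3 n1453 = n1054 := d27_1 D1453 (iv D1054) (iv F5183)
theorem F7310 : act 6 n1453 = n1453 := d39_1 D1453 (iv D1453) (iv D1011) F3670 D1011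
theorem F7311 : act 8 n1453 = n1027 := d42_2 (iv F5184) D1453 (iv D1027)
def n1454 : Q := act 9 n1011
theorem D1454 : act 9 n1011 = n1454 := rfl
theorem F7312 : act 0 n1454 = n1454 := d8_1 D1454 (iv D1454) F5181
theorem F7313 : act 2 n1454 = n1015 := d23_1 D1454 (iv D1015) (iv F5182)
theorem F7314 : act 3 n1454 = n1055 := d29_1 D1454 (iv D1055) (iv F5183)
theorem F7315 : act 6 n1454 = n1012 := d41_1 D1454 (iv D1012) D1011
def n1455 : Q := act 8 n1012
theorem D1455 : act 8 n1012 = n1455 := rfl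
theorem F7316 : act 0 n1455 = n1455 := d7_1 D1455 (iv D1455) F5185
theorem F7317 : act 2 n1455 = n1016 := d22_1 D1455 (iv D1016) (iv F5186)
theorem F7318 : act 3 n1455 = n1056 := d28_1 D1455 (iv D1056) (iv F5187)
theorem F7319 : act 7 n1455 = n1455 := d42_1 D1455 (iv D1455) F5189
theorem F7320 : act 9 n1455 = n1029 := d44_2 D1012 D1455 (iv D1029) (iv D713) (iv F3671)
def n1456 : Q := act 4 n1013
theorem D1456 : act 4 n1013 = n1456 := rfl
theorem F7321 : act 0 n1456 = n1456 := d3_1 D1456 (iv D1456) F5190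
theorem F7322 : act 3 n1456 = n1456 := d24_1 D1456 (iv D1456) F5191 F3681 (iv F5191)
theorem F7323 : act 6 n1456 = n1456 := d31_2 F5192 D1456 (iv D1456)
theorem F7324 : act 8 n1456 = n1456 := d33_2 F5193 D1456 (iv D1456)
def n1457 : Q := act 7 n1013
theorem D1457 : act 7 n1013 = n1457 := rfl
theorem F7325 : act 0 n1457 = n1457 := d6_1 D1457 (iv D1457) F5190
theorem F7326 : act 3 n1457 = n1017 := d27_1 D1457 (iv D1017) (iv F5191)
theorem F7327 : act 5 n1457 = n1014 := d36_1 D1457 (iv D1014) D1013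
theorem F7328 : act 8 n1457 = n1457 := d42_2 F5193 D1457 (iv D1457)
def n1458 : Q := act 9 n1013
theorem D1458 : act 9 n1013 = n1458 := rfl
theorem F7329 : act 0 n1458 = n1458 := d8_1 D1458 (iv D1458) F5190
theorem F7330 : act 3 n1458 = n1018 := d29_1 D1458 (iv D1018) (iv F5191)
theorem F7331 : act 5 n1458 = n1015 := d38_1 D1458 (iv D1015) D1013
theorem F7332 : act 6 n1458 = n1458 := d41_1 D1458 (iv D1458) F5192
def n1459 : Q := act 9 n1014
theorem D1459 : act 9 n1014 = n1459 := rfl
theorem F7333 : act 0 n1459 = n1459 := d8_1 D1459 (iv D1459) F5194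
theorem F7334 : act 3 n1459 = n1019 := d29_1 D1459 (iv D1019) (iv F5195)
theorem F7335 : act 6 n1459 = n1459 := d41_1 D1459 (iv D1459) F5196
theorem F7336 : act 7 n1459 = n1015 := d43_1 D1459 (iv D1015) D1014
def n1460 : Q := act 8 n1015
theorem D1460 : act 8 n1015 = n1460 := rfl
theorem F7337 : act 0 n1460 = n1460 := d7_1 D1460 (iv D1460) F5198
theorem F7338 : act 3 n1460 = n1020 := d28_1 D1460 (iv D1020) (iv F5199)
theorem F7339 : act 6 n1460 = n1016 := d40_1 D1460 (iv D1016) (iv F5200)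
theorem F7340 : act 9 n1460 = n1031 := d44_2 D1015 D1460 (iv D1031) (iv D715) (iv F3674)
def n1461 : Q := act 5 n1016
theorem D1461 : act 5 n1016 = n1461 := rfl
theorem F7341 : act 0 n1461 = n1461 := d4_1 D1461 (iv D1461) F5201
theorem F7342 : act 3 n1461 = n1021 := d25_1 D1461 (iv D1021) (iv F5202)
theorem F7343 : act 7 n1461 = n1461 := d36_2 F5203 D1461 (iv D1461)
theorem F7344 : act 8 n1461 = n1461 := d37_2 D1016 D1461 (iv D1461) (iv D1016) F3677
theorem F7345 : act 9 n1461 = n1032 := d38_2 (iv F5204) D1461 (iv D1032)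
def n1462 : Q := act 6 n1017
theorem D1462 : act 6 n1017 = n1462 := rfl
theorem F7346 : act 0 n1462 = n1462 := d5_1 D1462 (iv D1462) F5205
theorem F7347 : act 2 n1462 = n1063 := d20_1 D1462 (iv D1063) (iv F5206)
theorem F7348 : act 4 n1462 = n1462 := d31_1 D1462 (iv D1462) F5207
theorem F7349 : act 5 n1462 = n1462 := d35_1 D1462 (iv D1462) F5208 F3687 (iv F5208)
theorem F7350 : act 7 n1462 = n1462 := d39_2 D1017 D1462 (iv D1462) (iv D1017) F3682
theorem F7351 : act 8 n1462 = n1462 := d40_2 F5209 D1462 (iv D1462)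
def n1463 : Q := act 9 n1017
theorem D1463 : act 9 n1017 = n1463 := rfl
theorem F7352 : act 0 n1463 = n1463 := d8_1 D1463 (iv D1463) F5205
theorem F7353 : act 2 n1463 = n1064 := d23_1 D1463 (iv D1064) (iv F5206)
theorem F7354 : act 4 n1463 = n1463 := d34_1 D1463 (iv D1463) F5207
theorem F7355 : act 5 n1463 = n1019 := d38_1 D1463 (iv D1019) (iv F5208)
theorem F7356 : act 7 n1463 = n1018 := d43_1 D1463 (iv D1018) D1017
def n1464 : Q := act 8 n1018
theorem D1464 : act 8 n1018 = n1464 := rfl
theorem F7357 : act 0 n1464 = n1464 := d7_1 D1464 (iv D1464) F5210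
theorem F7358 : act 2 n1464 = n1065 := d22_1 D1464 (iv D1065) (iv F5211)
theorem F7359 : act 4 n1464 = n1464 := d33_1 D1464 (iv D1464) F5212
theorem F7360 : act 6 n1464 = n1464 := d40_1 D1464 (iv D1464) F5214
theorem F7361 : act 9 n1464 = n1464 := d44_2 D1018 D1464 (iv D1464) (iv D1018) F3683
def n1465 : Q := act 8 n1019
theorem D1465 : act 8 n1019 = n1465 := rfl
theorem F7362 : act 0 n1465 = n1465 := d7_1 D1465 (iv D1465) F5215
theorem F7363 : act 2 n1465 = n1066 := d22_1 D1465 (iv D1066) (iv F5216)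
theorem F7364 : act 4 n1465 = n1022 := d33_1 D1465 (iv D1022) (iv F5217)
theorem F7365 : act 6 n1465 = n1465 := d40_1 D1465 (iv D1465) F5218
theorem F7366 : act 7 n1465 = n1020 := d42_1 D1465 (iv D1020) (iv F5219)
theorem F7367 : act 9 n1465 = n1033 := d44_2 D1019 D1465 (iv D1033) (iv D717) (iv F3688)
def n1466 : Q := act 5 n1020
theorem D1466 : act 5 n1020 = n1466 := rfl
theorem F7368 : act 0 n1466 = n1466 := d4_1 D1466 (iv D1466) F5220
theorem F7369 : act 2 n1466 = n1067 := d19_1 D1466 (iv D1067) (iv F5221)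
theorem F7370 : act 9 n1466 = n1034 := d38_2 (iv F5224) D1466 (iv D1034)
def n1467 : Q := act 6 n1021
theorem D1467 : act 6 n1021 = n1467 := rfl
theorem F7371 : act 0 n1467 = n1467 := d5_1 D1467 (iv D1467) F5225
theorem F7372 : act 2 n1467 = n1068 := d20_1 D1467 (iv D1068) (iv F5226)
theorem F7373 : act 4 n1467 = n1467 := d31_1 D1467 (iv D1467) F5227
theorem F7374 : act 8 n1467 = n1467 := d40_2 F5229 D1467 (iv D1467)
theorem F7375 : act 9 n1467 = n1035 := d41_2 (iv F5230) D1467 (iv D1035)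
def n1468 : Q := act 5 n1022
theorem D1468 : act 5 n1022 = n1468 := rfl
theorem F7376 : act 0 n1468 = n1468 := d4_1 D1468 (iv D1468) F5231
theorem F7377 : act 2 n1468 = n1069 := d19_1 D1468 (iv D1069) (iv F5232)
theorem F7378 : act 7 n1468 = n1023 := d36_2 (iv F5234) D1468 (iv D1023)
theorem F7379 : act 8 n1468 = n1468 := d37_2 D1022 D1468 (iv D1468) (iv D1022) F3700
theorem F7380 : act 9 n1468 = n1036 := d38_2 (iv F5235) D1468 (iv D1036)
def n1469 : Q := act 4 n1023
theorem D1469 : act 4 n1023 = n1469 := rfl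
theorem F7381 : act 0 n1469 = n1469 := d3_1 D1469 (iv D1469) F5236
theorem F7382 : act 2 n1469 = n1070 := d18_1 D1469 (iv D1070) (iv F5237)
theorem F7383 : act 6 n1469 = n1469 := d31_2 F5238 D1469 (iv D1469)
theorem F7384 : act 8 n1469 = n1469 := d33_2 F5239 D1469 (iv D1469)
theorem F7385 : act 9 n1469 = n1037 := d34_2 (iv F5240) D1469 (iv D1037)
def n1470 : Q := act 6 n1024
theorem D1470 : act 6 n1024 = n1470 := rfl
theorem F7386 : act 0 n1470 = n1025 := d5_1 D1470 (iv D1025) D1024
theorem F7387 : act 1 n1470 = n1470 := d13_1 D1470 (iv D1470) F5241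
theorem F7388 : act 3 n1470 = n1071 := d26_1 D1470 (iv D1071) (iv F5242)
theorem F7389 : act 5 n1470 = n1470 := d35_1 D1470 (iv D1470) F5243 F3781 (iv F5243)
def n1471 : Q := act 9 n1024
theorem D1471 : act 9 n1024 = n1471 := rfl
theorem F7390 : act 0 n1471 = n1026 := d8_1 D1471 (iv D1026) D1024
theorem F7391 : act 1 n1471 = n1471 := d16_1 D1471 (iv D1471) F5241
theorem F7392 : act 3 n1471 = n1072 := d29_1 D1471 (iv D1072) (iv F5242)
theorem F7393 : act 5 n1471 = n1044 := d38_1 D1471 (iv D1044) (iv F5243)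
theorem F7394 : act 7 n1471 = n1471 := d43_1 D1471 (iv D1471) F5244
def n1472 : Q := act 7 n1025
theorem D1472 : act 7 n1025 = n1472 := rfl
theorem F7395 : act 1 n1472 = n1027 := d14_1 D1472 (iv D1027) (iv F5245)
theorem F7396 : act 3 n1472 = n1073 := d27_1 D1472 (iv D1073) (iv F5246)
theorem F7397 : act 5 n1472 = n1472 := d36_1 D1472 (iv D1472) F5247
theorem F7398 : act 6 n1472 = n1472 := d39_1 D1472 (iv D1472) (iv D1025) F3709 D1025
def n1473 : Q := act 9 n1025
theorem D1473 : act 9 n1025 = n1473 := rfl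
theorem F7399 : act 1 n1473 = n1028 := d16_1 D1473 (iv D1028) (iv F5245)
theorem F7400 : act 3 n1473 = n1074 := d29_1 D1473 (iv D1074) (iv F5246)
theorem F7401 : act 5 n1473 = n1473 := d38_1 D1473 (iv D1473) F5247
theorem F7402 : act 6 n1473 = n1026 := d41_1 D1473 (iv D1026) D1025
def n1474 : Q := act 8 n1026
theorem D1474 : act 8 n1026 = n1474 := rfl
theorem F7403 : act 1 n1474 = n1029 := d15_1 D1474 (iv D1029) (iv F5248)
theorem F7404 : act 3 n1474 = n1075 := d28_1 D1474 (iv D1075) (iv F5249)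
theorem F7405 : act 7 n1474 = n1474 := d42_1 D1474 (iv D1474) F5251
def n1475 : Q := act 9 n1027
theorem D1475 : act 9 n1027 = n1475 := rfl
theorem F7406 : act 0 n1475 = n1475 := d8_1 D1475 (iv D1475) F5252
theorem F7407 : act 2 n1475 = n1030 := d23_1 D1475 (iv D1030) (iv F5253)
theorem F7408 : act 3 n1475 = n1076 := d29_1 D1475 (iv D1076) (iv F5254)
theorem F7409 : act 5 n1475 = n1475 := d38_1 D1475 (iv D1475) F5255
theorem F7410 : act 6 n1475 = n1475 := d41_1 D1475 (iv D1475) F5256
theorem F7411 : act 7 n1475 = n1028 := d43_1 D1475 (iv D1028) D1027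
def n1476 : Q := act 8 n1028
theorem D1476 : act 8 n1028 = n1476 := rfl
theorem F7412 : act 0 n1476 = n1476 := d7_1 D1476 (iv D1476) F5257
theorem F7413 : act 2 n1476 = n1031 := d22_1 D1476 (iv D1031) (iv F5258)
theorem F7414 : act 3 n1476 = n1077 := d28_1 D1476 (iv D1077) (iv F5259)
theorem F7415 : act 6 n1476 = n1029 := d40_1 D1476 (iv D1029) (iv F5261)
def n1477 : Q := act 5 n1029
theorem D1477 : act 5 n1029 = n1477 := rfl
theorem F7416 : act 0 n1477 = n1477 := d4_1 D1477 (iv D1477) F5262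
theorem F7417 : act 2 n1477 = n1032 := d19_1 D1477 (iv D1032) (iv F5263)
theorem F7418 : act 3 n1477 = n1078 := d25_1 D1477 (iv D1078) (iv F5264)
theorem F7419 : act 7 n1477 = n1477 := d36_2 F5265 D1477 (iv D1477)
theorem F7420 : act 8 n1477 = n1046 := d37_2 D1029 D1477 (iv D1046) (iv D729) (iv F3717)
def n1478 : Q := act 8 n1030
theorem D1478 : act 8 n1030 = n1478 := rfl
theorem F7421 : act 0 n1478 = n1478 := d7_1 D1478 (iv D1478) F5266
theorem F7422 : act 3 n1478 = n1033 := d28_1 D1478 (iv D1033) (iv F5267)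
theorem F7423 : act 6 n1478 = n1478 := d40_1 D1478 (iv D1478) F5269
theorem F7424 : act 7 n1478 = n1031 := d42_1 D1478 (iv D1031) (iv F5270)
def n1479 : Q := act 5 n1031
theorem D1479 : act 5 n1031 = n1479 := rfl
theorem F7425 : act 0 n1479 = n1479 := d4_1 D1479 (iv D1479) F5271
theorem F7426 : act 3 n1479 = n1034 := d25_1 D1479 (iv D1034) (iv F5272)
theorem F7427 : act 8 n1479 = n1479 := d37_2 D1031 D1479 (iv D1479) (iv D1031) F3725
def n1480 : Q := act 4 n1032
theorem D1480 : act 4 n1032 = n1480 := rfl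
theorem F7428 : act 0 n1480 = n1480 := d3_1 D1480 (iv D1480) F5274
theorem F7429 : act 3 n1480 = n1480 := d24_1 D1480 (iv D1480) F5275 F3742 (iv F5275)
theorem F7430 : act 7 n1480 = n1480 := d32_2 F5276 D1480 (iv D1480)
theorem F7431 : act 8 n1480 = n1047 := d33_2 (iv F5277) D1480 (iv D1047)
def n1481 : Q := act 6 n1032
theorem D1481 : act 6 n1032 = n1481 := rfl
theorem F7432 : act 0 n1481 = n1481 := d5_1 D1481 (iv D1481) F5274
theorem F7433 : act 3 n1481 = n1035 := d26_1 D1481 (iv D1035) (iv F5275)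
theorem F7434 : act 8 n1481 = n1048 := d40_2 (iv F5277) D1481 (iv D1048)
def n1482 : Q := act 5 n1033
theorem D1482 : act 5 n1033 = n1482 := rfl
theorem F7435 : act 0 n1482 = n1482 := d4_1 D1482 (iv D1482) F5278
theorem F7436 : act 2 n1482 = n1083 := d19_1 D1482 (iv D1083) (iv F5279)
theorem F7437 : act 7 n1482 = n1034 := d36_2 (iv F5282) D1482 (iv D1034)
theorem F7438 : act 8 n1482 = n1482 := d37_2 D1033 D1482 (iv D1482) (iv D1033) F3733
def n1483 : Q := act 4 n1034
theorem D1483 : act 4 n1034 = n1483 := rfl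
theorem F7439 : act 0 n1483 = n1483 := d3_1 D1483 (iv D1483) F5283
theorem F7440 : act 2 n1483 = n1084 := d18_1 D1483 (iv D1084) (iv F5284)
theorem F7441 : act 5 n1483 = n1037 := d30_2 D1034 D1483 (iv D1037) (iv D721) (iv F3738)
theorem F7442 : act 8 n1483 = n1483 := d33_2 F5285 D1483 (iv D1483)
def n1484 : Q := act 6 n1034
theorem D1484 : act 6 n1034 = n1484 := rfl
theorem F7443 : act 0 n1484 = n1484 := d5_1 D1484 (iv D1484) F5283
theorem F7444 : act 2 n1484 = n1085 := d20_1 D1484 (iv D1085) (iv F5284)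
theorem F7445 : act 5 n1484 = n1035 := d35_1 D1484 (iv D1035) (iv D719) (iv F3739) D1034
theorem F7446 : act 8 n1484 = n1484 := d40_2 F5285 D1484 (iv D1484)
def n1485 : Q := act 7 n1035
theorem D1485 : act 7 n1035 = n1485 := rfl
theorem F7447 : act 0 n1485 = n1485 := d6_1 D1485 (iv D1485) F5286
theorem F7448 : act 2 n1485 = n1086 := d21_1 D1485 (iv D1086) (iv F5287)
theorem F7449 : act 4 n1485 = n1485 := d32_1 D1485 (iv D1485) F5288
theorem F7450 : act 6 n1485 = n1485 := d39_1 D1485 (iv D1485) (iv D1035) F3743 D1035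
theorem F7451 : act 8 n1485 = n1049 := d42_2 (iv F5289) D1485 (iv D1049)
def n1486 : Q := act 4 n1036
theorem D1486 : act 4 n1036 = n1486 := rfl
theorem F7452 : act 0 n1486 = n1486 := d3_1 D1486 (iv D1486) F5290
theorem F7453 : act 2 n1486 = n1087 := d18_1 D1486 (iv D1087) (iv F5291)
theorem F7454 : act 7 n1486 = n1037 := d32_2 (iv F5292) D1486 (iv D1037)
theorem F7455 : act 8 n1486 = n1038 := d33_2 (iv F5293) D1486 (iv D1038)
def n1487 : Q := act 6 n1036
theorem D1487 : act 6 n1036 = n1487 := rfl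
theorem F7456 : act 0 n1487 = n1487 := d5_1 D1487 (iv D1487) F5290
theorem F7457 : act 2 n1487 = n1088 := d20_1 D1487 (iv D1088) (iv F5291)
theorem F7458 : act 5 n1487 = n1487 := d35_1 D1487 (iv D1487) (iv D1036) F3747 D1036
theorem F7459 : act 7 n1487 = n1487 := d39_2 (iv F5292) D1487 (iv D1487) F5292 F3751
theorem F7460 : act 8 n1487 = n1039 := d40_2 (iv F5293) D1487 (iv D1039)
def n1488 : Q := act 3 n1037
theorem D1488 : act 3 n1037 = n1488 := rfl
theorem F7461 : act 0 n1488 = n1488 := d2_1 D1488 (iv D1488) F5294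
theorem F7462 : act 6 n1488 = n1488 := d26_2 F5296 D1488 (iv D1488)
theorem F7463 : act 8 n1488 = n1040 := d28_2 (iv F5297) D1488 (iv D1040)
def n1489 : Q := act 3 n1038
theorem D1489 : act 3 n1038 = n1489 := rfl
theorem F7464 : act 0 n1489 = n1489 := d2_1 D1489 (iv D1489) F5298
theorem F7465 : act 5 n1489 = n1489 := d25_2 F5300 D1489 (iv D1489)
theorem F7466 : act 7 n1489 = n1040 := d27_2 (iv F5301) D1489 (iv D1040)
theorem F7467 : act 9 n1489 = n1489 := d29_2 F5302 D1489 (iv D1489)
def n1490 : Q := act 6 n1038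
theorem D1490 : act 6 n1038 = n1490 := rfl
theorem F7469 : act 2 n1490 = n1091 := d20_1 D1490 (iv D1091) (iv F5299)
def n1491 : Q := act 2 n1040
theorem D1491 : act 2 n1040 = n1491 := rfl
theorem F7473 : act 0 n1491 = n1491 := d1_1 D1491 (iv D1491) F5308
theorem F7474 : act 3 n1491 = n1092 := d17_2 D1040 D1491 (iv D1092) (iv D762) (iv F3758)
theorem F7475 : act 5 n1491 = n1491 := d19_2 F5309 D1491 (iv D1491)
theorem F7476 : act 6 n1491 = n1491 := d20_2 F5310 D1491 (iv D1491)
theorem F7477 : act 9 n1491 = n1491 := d23_2 F5311 D1491 (iv D1491)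
def n1496 : Q := act 8 n1044
theorem D1496 : act 8 n1044 = n1496 := rfl
theorem F7499 : act 0 n1496 = n1045 := d7_1 D1496 (iv D1045) (iv F5329)
theorem F7500 : act 1 n1496 = n1496 := d15_1 D1496 (iv D1496) F5330
theorem F7501 : act 3 n1496 = n1097 := d28_1 D1496 (iv D1097) (iv F5331)
theorem F7502 : act 4 n1496 = n1496 := d33_1 D1496 (iv D1496) F5332
theorem F7503 : act 6 n1496 = n1496 := d40_1 D1496 (iv D1496) F5333
theorem F7504 : act 7 n1496 = n1496 := d42_1 D1496 (iv D1496) F5334
theorem F7505 : act 9 n1496 = n1496 := d44_2 D1044 D1496 (iv D1496) (iv D1044) F3783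
def n1497 : Q := act 5 n1045
theorem D1497 : act 5 n1045 = n1497 := rfl
theorem F7506 : act 1 n1497 = n1046 := d12_1 D1497 (iv D1046) (iv F5335)
theorem F7507 : act 3 n1497 = n1098 := d25_1 D1497 (iv D1098) (iv F5336)
theorem F7508 : act 7 n1497 = n1497 := d36_2 F5339 D1497 (iv D1497)
theorem F7509 : act 9 n1497 = n1497 := d38_2 F5340 D1497 (iv D1497)
def n1498 : Q := act 4 n1046
theorem D1498 : act 4 n1046 = n1498 := rfl
theorem F7510 : act 0 n1498 = n1498 := d3_1 D1498 (iv D1498) F5341
theorem F7511 : act 2 n1498 = n1047 := d18_1 D1498 (iv D1047) (iv F5342)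
theorem F7512 : act 5 n1498 = n1498 := d30_2 D1046 D1498 (iv D1498) (iv D1046) F3792
theorem F7513 : act 7 n1498 = n1498 := d32_2 F5344 D1498 (iv D1498)
theorem F7514 : act 9 n1498 = n1498 := d34_2 F5345 D1498 (iv D1498)
def n1499 : Q := act 6 n1046
theorem D1499 : act 6 n1046 = n1499 := rfl
theorem F7516 : act 2 n1499 = n1048 := d20_1 D1499 (iv D1048) (iv F5342)
theorem F7517 : act 3 n1499 = n1100 := d26_1 D1499 (iv D1100) (iv F5343)
def n1500 : Q := act 6 n1047
theorem D1500 : act 6 n1047 = n1500 := rfl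
theorem F7520 : act 0 n1500 = n1500 := d5_1 D1500 (iv D1500) F5346
theorem F7521 : act 3 n1500 = n1500 := d26_1 D1500 (iv D1500) F5347
theorem F7522 : act 4 n1500 = n1048 := d31_1 D1500 (iv D1048) D1047
theorem F7523 : act 9 n1500 = n1500 := d41_2 F5350 D1500 (iv D1500)
def n1501 : Q := act 7 n1048
theorem D1501 : act 7 n1048 = n1501 := rfl
def n1502 : Q := act 6 n1050
theorem D1502 : act 6 n1050 = n1502 := rfl
theorem F7529 : act 0 n1502 = n1051 := d5_1 D1502 (iv D1051) D1050
theorem F7530 : act 1 n1502 = n1502 := d13_1 D1502 (iv D1502) F5361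
theorem F7531 : act 2 n1502 = n1502 := d20_1 D1502 (iv D1502) F5362
theorem F7532 : act 4 n1502 = n1502 := d31_1 D1502 (iv D1502) F5363
theorem F7533 : act 8 n1502 = n1071 := d40_2 (iv F5366) D1502 (iv D1071)
def n1503 : Q := act 9 n1050
theorem D1503 : act 9 n1050 = n1503 := rfl
theorem F7534 : act 0 n1503 = n1052 := d8_1 D1503 (iv D1052) D1050
theorem F7535 : act 1 n1503 = n1503 := d16_1 D1503 (iv D1503) F5361
theorem F7536 : act 2 n1503 = n1503 := d23_1 D1503 (iv D1503) F5362
theorem F7537 : act 4 n1503 = n1503 := d34_1 D1503 (iv D1503) F5363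
theorem F7538 : act 5 n1503 = n1503 := d38_1 D1503 (iv D1503) F5364
theorem F7539 : act 7 n1503 = n1503 := d43_1 D1503 (iv D1503) F5365
def n1504 : Q := act 5 n1051
theorem D1504 : act 5 n1051 = n1504 := rfl
theorem F7540 : act 1 n1504 = n1053 := d12_1 D1504 (iv D1053) (iv F5367)
theorem F7541 : act 2 n1504 = n1504 := d19_1 D1504 (iv D1504) F5368
theorem F7542 : act 6 n1504 = n1504 := d35_2 D1051 D1504 (iv D1504) (iv D1051) F3807
theorem F7543 : act 8 n1504 = n1504 := d37_2 (iv F5370) D1504 (iv D1504) F5370 F3887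
def n1505 : Q := act 7 n1051
theorem D1505 : act 7 n1051 = n1505 := rfl
theorem F7544 : act 1 n1505 = n1054 := d14_1 D1505 (iv D1054) (iv F5367)
theorem F7545 : act 2 n1505 = n1505 := d21_1 D1505 (iv D1505) F5368
theorem F7546 : act 4 n1505 = n1505 := d32_1 D1505 (iv D1505) F5369
theorem F7547 : act 6 n1505 = n1505 := d39_1 D1505 (iv D1505) (iv D1051) F3808 D1051
theorem F7548 : act 8 n1505 = n1073 := d42_2 (iv F5370) D1505 (iv D1073)
def n1506 : Q := act 9 n1051
theorem D1506 : act 9 n1051 = n1506 := rfl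
theorem F7549 : act 1 n1506 = n1055 := d16_1 D1506 (iv D1055) (iv F5367)
theorem F7550 : act 2 n1506 = n1506 := d23_1 D1506 (iv D1506) F5368
theorem F7551 : act 4 n1506 = n1506 := d34_1 D1506 (iv D1506) F5369
theorem F7552 : act 6 n1506 = n1052 := d41_1 D1506 (iv D1052) D1051
def n1507 : Q := act 8 n1052
theorem D1507 : act 8 n1052 = n1507 := rfl
theorem F7553 : act 1 n1507 = n1056 := d15_1 D1507 (iv D1056) (iv F5371)
theorem F7554 : act 2 n1507 = n1507 := d22_1 D1507 (iv D1507) F5372
theorem F7555 : act 4 n1507 = n1507 := d33_1 D1507 (iv D1507) F5373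
theorem F7556 : act 7 n1507 = n1507 := d42_1 D1507 (iv D1507) F5375
theorem F7557 : act 9 n1507 = n1075 := d44_2 D1052 D1507 (iv D1075) (iv D748) (iv F3809)
def n1508 : Q := act 4 n1053
theorem D1508 : act 4 n1053 = n1508 := rfl
theorem F7558 : act 0 n1508 = n1508 := d3_1 D1508 (iv D1508) F5376
theorem F7559 : act 2 n1508 = n1057 := d18_1 D1508 (iv D1057) (iv F5377)
theorem F7560 : act 5 n1508 = n1508 := d30_2 D1053 D1508 (iv D1508) (iv D1053) F3812
theorem F7561 : act 6 n1508 = n1508 := d31_2 F5378 D1508 (iv D1508)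
theorem F7562 : act 8 n1508 = n1508 := d33_2 F5379 D1508 (iv D1508)
def n1509 : Q := act 7 n1053
theorem D1509 : act 7 n1053 = n1509 := rfl
theorem F7563 : act 0 n1509 = n1509 := d6_1 D1509 (iv D1509) F5376
theorem F7564 : act 2 n1509 = n1058 := d21_1 D1509 (iv D1058) (iv F5377)
theorem F7565 : act 5 n1509 = n1054 := d36_1 D1509 (iv D1054) D1053
theorem F7566 : act 8 n1509 = n1509 := d42_2 F5379 D1509 (iv D1509)
def n1510 : Q := act 9 n1053
theorem D1510 : act 9 n1053 = n1510 := rfl
theorem F7567 : act 0 n1510 = n1510 := d8_1 D1510 (iv D1510) F5376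
theorem F7568 : act 2 n1510 = n1059 := d23_1 D1510 (iv D1059) (iv F5377)
theorem F7569 : act 5 n1510 = n1055 := d38_1 D1510 (iv D1055) D1053
theorem F7570 : act 6 n1510 = n1510 := d41_1 D1510 (iv D1510) F5378
def n1511 : Q := act 9 n1054
theorem D1511 : act 9 n1054 = n1511 := rfl
theorem F7571 : act 0 n1511 = n1511 := d8_1 D1511 (iv D1511) F5380
theorem F7572 : act 2 n1511 = n1060 := d23_1 D1511 (iv D1060) (iv F5381)
theorem F7573 : act 4 n1511 = n1511 := d34_1 D1511 (iv D1511) F5382
theorem F7574 : act 6 n1511 = n1511 := d41_1 D1511 (iv D1511) F5383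
theorem F7575 : act 7 n1511 = n1055 := d43_1 D1511 (iv D1055) D1054
def n1512 : Q := act 8 n1055
theorem D1512 : act 8 n1055 = n1512 := rfl
theorem F7576 : act 0 n1512 = n1512 := d7_1 D1512 (iv D1512) F5385
theorem F7577 : act 2 n1512 = n1061 := d22_1 D1512 (iv D1061) (iv F5386)
theorem F7578 : act 4 n1512 = n1512 := d33_1 D1512 (iv D1512) F5387
theorem F7579 : act 6 n1512 = n1056 := d40_1 D1512 (iv D1056) (iv F5388)
theorem F7580 : act 9 n1512 = n1077 := d44_2 D1055 D1512 (iv D1077) (iv D750) (iv F3813)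
def n1513 : Q := act 5 n1056
theorem D1513 : act 5 n1056 = n1513 := rfl
theorem F7581 : act 0 n1513 = n1513 := d4_1 D1513 (iv D1513) F5389
theorem F7582 : act 2 n1513 = n1062 := d19_1 D1513 (iv D1062) (iv F5390)
theorem F7583 : act 7 n1513 = n1513 := d36_2 F5392 D1513 (iv D1513)
theorem F7584 : act 8 n1513 = n1513 := d37_2 D1056 D1513 (iv D1513) (iv D1056) F3817
theorem F7585 : act 9 n1513 = n1078 := d38_2 (iv F5393) D1513 (iv D1078)
def n1514 : Q := act 7 n1057
theorem D1514 : act 7 n1057 = n1514 := rfl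
theorem F7586 : act 0 n1514 = n1514 := d6_1 D1514 (iv D1514) F5394
theorem F7587 : act 1 n1514 = n1514 := d14_1 D1514 (iv D1514) F5395
theorem F7588 : act 3 n1514 = n1514 := d27_1 D1514 (iv D1514) F5396
theorem F7589 : act 4 n1514 = n1058 := d32_1 D1514 (iv D1058) D1057
theorem F7590 : act 5 n1514 = n1514 := d36_1 D1514 (iv D1514) F5397
theorem F7591 : act 8 n1514 = n1514 := d42_2 F5399 D1514 (iv D1514)
def n1515 : Q := act 9 n1057
theorem D1515 : act 9 n1057 = n1515 := rfl
theorem F7592 : act 0 n1515 = n1515 := d8_1 D1515 (iv D1515) F5394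
theorem F7593 : act 1 n1515 = n1515 := d16_1 D1515 (iv D1515) F5395
theorem F7594 : act 3 n1515 = n1515 := d29_1 D1515 (iv D1515) F5396
theorem F7595 : act 4 n1515 = n1059 := d34_1 D1515 (iv D1059) D1057
theorem F7596 : act 5 n1515 = n1515 := d38_1 D1515 (iv D1515) F5397
theorem F7597 : act 6 n1515 = n1515 := d41_1 D1515 (iv D1515) F5398
def n1516 : Q := act 6 n1058
theorem D1516 : act 6 n1058 = n1516 := rfl
theorem F7598 : act 0 n1516 = n1516 := d5_1 D1516 (iv D1516) F5400
theorem F7599 : act 1 n1516 = n1516 := d13_1 D1516 (iv D1516) F5401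
theorem F7600 : act 3 n1516 = n1063 := d26_1 D1516 (iv D1063) (iv F5402)
theorem F7601 : act 5 n1516 = n1516 := d35_1 D1516 (iv D1516) F5403 F3828 (iv F5403)
theorem F7602 : act 7 n1516 = n1516 := d39_2 D1058 D1516 (iv D1516) (iv D1058) F3822
theorem F7603 : act 8 n1516 = n1516 := d40_2 F5404 D1516 (iv D1516)
def n1517 : Q := act 9 n1058
theorem D1517 : act 9 n1058 = n1517 := rfl
theorem F7604 : act 0 n1517 = n1517 := d8_1 D1517 (iv D1517) F5400
theorem F7605 : act 1 n1517 = n1517 := d16_1 D1517 (iv D1517) F5401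
theorem F7606 : act 3 n1517 = n1064 := d29_1 D1517 (iv D1064) (iv F5402)
theorem F7607 : act 5 n1517 = n1060 := d38_1 D1517 (iv D1060) (iv F5403)
theorem F7608 : act 7 n1517 = n1059 := d43_1 D1517 (iv D1059) D1058
def n1518 : Q := act 8 n1059
theorem D1518 : act 8 n1059 = n1518 := rfl
theorem F7609 : act 0 n1518 = n1518 := d7_1 D1518 (iv D1518) F5405
theorem F7610 : act 1 n1518 = n1518 := d15_1 D1518 (iv D1518) F5406
theorem F7611 : act 3 n1518 = n1065 := d28_1 D1518 (iv D1065) (iv F5407)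
theorem F7612 : act 6 n1518 = n1518 := d40_1 D1518 (iv D1518) F5409
theorem F7613 : act 9 n1518 = n1518 := d44_2 D1059 D1518 (iv D1518) (iv D1059) F3823
def n1519 : Q := act 8 n1060
theorem D1519 : act 8 n1060 = n1519 := rfl
theorem F7614 : act 0 n1519 = n1519 := d7_1 D1519 (iv D1519) F5410
theorem F7615 : act 1 n1519 = n1519 := d15_1 D1519 (iv D1519) F5411
theorem F7616 : act 3 n1519 = n1066 := d28_1 D1519 (iv D1066) (iv F5412)
theorem F7617 : act 4 n1519 = n1519 := d33_1 D1519 (iv D1519) F5413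
theorem F7618 : act 6 n1519 = n1519 := d40_1 D1519 (iv D1519) F5414
theorem F7619 : act 7 n1519 = n1061 := d42_1 D1519 (iv D1061) (iv F5415)
theorem F7620 : act 9 n1519 = n1079 := d44_2 D1060 D1519 (iv D1079) (iv D752) (iv F3829)
def n1520 : Q := act 5 n1061
theorem D1520 : act 5 n1061 = n1520 := rfl
theorem F7621 : act 0 n1520 = n1520 := d4_1 D1520 (iv D1520) F5416
theorem F7622 : act 1 n1520 = n1520 := d12_1 D1520 (iv D1520) F5417
theorem F7623 : act 3 n1520 = n1067 := d25_1 D1520 (iv D1067) (iv F5418)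
theorem F7624 : act 9 n1520 = n1080 := d38_2 (iv F5421) D1520 (iv D1080)
def n1521 : Q := act 4 n1062
theorem D1521 : act 4 n1062 = n1521 := rfl
theorem F7625 : act 0 n1521 = n1521 := d3_1 D1521 (iv D1521) F5422
theorem F7626 : act 1 n1521 = n1521 := d11_1 D1521 (iv D1521) F5423
theorem F7627 : act 3 n1521 = n1521 := d24_1 D1521 (iv D1521) F5424 F3863 (iv F5424)
theorem F7628 : act 5 n1521 = n1521 := d30_2 D1062 D1521 (iv D1521) (iv D1062) F3838
theorem F7629 : act 7 n1521 = n1521 := d32_2 F5425 D1521 (iv D1521)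
theorem F7630 : act 8 n1521 = n1521 := d33_2 F5426 D1521 (iv D1521)
theorem F7631 : act 9 n1521 = n1081 := d34_2 (iv F5427) D1521 (iv D1081)
def n1522 : Q := act 6 n1062
theorem D1522 : act 6 n1062 = n1522 := rfl
theorem F7632 : act 0 n1522 = n1522 := d5_1 D1522 (iv D1522) F5422
theorem F7633 : act 1 n1522 = n1522 := d13_1 D1522 (iv D1522) F5423
theorem F7634 : act 3 n1522 = n1068 := d26_1 D1522 (iv D1068) (iv F5424)
theorem F7635 : act 8 n1522 = n1522 := d40_2 F5426 D1522 (iv D1522)
theorem F7636 : act 9 n1522 = n1082 := d41_2 (iv F5427) D1522 (iv D1082)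
def n1523 : Q := act 9 n1063
theorem D1523 : act 9 n1063 = n1523 := rfl
theorem F7637 : act 0 n1523 = n1523 := d8_1 D1523 (iv D1523) F5428
theorem F7638 : act 1 n1523 = n1523 := d16_1 D1523 (iv D1523) F5429
theorem F7639 : act 4 n1523 = n1523 := d34_1 D1523 (iv D1523) F5430
theorem F7640 : act 5 n1523 = n1523 := d38_1 D1523 (iv D1523) F5431
theorem F7641 : act 6 n1523 = n1064 := d41_1 D1523 (iv D1064) D1063
theorem F7642 : act 7 n1523 = n1523 := d43_1 D1523 (iv D1523) F5432
def n1524 : Q := act 8 n1064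
theorem D1524 : act 8 n1064 = n1524 := rfl
theorem F7643 : act 0 n1524 = n1524 := d7_1 D1524 (iv D1524) F5434
theorem F7644 : act 1 n1524 = n1524 := d15_1 D1524 (iv D1524) F5435
theorem F7645 : act 4 n1524 = n1524 := d33_1 D1524 (iv D1524) F5436
theorem F7646 : act 7 n1524 = n1065 := d42_1 D1524 (iv D1065) (iv F5438)
theorem F7647 : act 9 n1524 = n1524 := d44_2 D1064 D1524 (iv D1524) (iv D1064) F3845
def n1525 : Q := act 5 n1065
theorem D1525 : act 5 n1065 = n1525 := rfl
theorem F7648 : act 0 n1525 = n1525 := d4_1 D1525 (iv D1525) F5439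
theorem F7649 : act 1 n1525 = n1525 := d12_1 D1525 (iv D1525) F5440
theorem F7650 : act 8 n1525 = n1067 := d37_2 D1065 D1525 (iv D1067) (iv D742) (iv F3849)
theorem F7651 : act 9 n1525 = n1525 := d38_2 F5443 D1525 (iv D1525)
def n1526 : Q := act 5 n1066
theorem D1526 : act 5 n1066 = n1526 := rfl
theorem F7652 : act 0 n1526 = n1526 := d4_1 D1526 (iv D1526) F5444
theorem F7653 : act 1 n1526 = n1526 := d12_1 D1526 (iv D1526) F5445
theorem F7654 : act 7 n1526 = n1067 := d36_2 (iv F5448) D1526 (iv D1067)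
theorem F7655 : act 9 n1526 = n1083 := d38_2 (iv F5449) D1526 (iv D1083)
def n1527 : Q := act 4 n1067
theorem D1527 : act 4 n1067 = n1527 := rfl
theorem F7656 : act 0 n1527 = n1527 := d3_1 D1527 (iv D1527) F5450
theorem F7657 : act 1 n1527 = n1527 := d11_1 D1527 (iv D1527) F5451
theorem F7658 : act 5 n1527 = n1070 := d30_2 D1067 D1527 (iv D1070) (iv D745) (iv F3858)
theorem F7659 : act 9 n1527 = n1084 := d34_2 (iv F5452) D1527 (iv D1084)
def n1528 : Q := act 6 n1067
theorem D1528 : act 6 n1067 = n1528 := rfl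
theorem F7660 : act 0 n1528 = n1528 := d5_1 D1528 (iv D1528) F5450
theorem F7661 : act 1 n1528 = n1528 := d13_1 D1528 (iv D1528) F5451
theorem F7662 : act 5 n1528 = n1068 := d35_1 D1528 (iv D1068) (iv D743) (iv F3859) D1067
theorem F7663 : act 9 n1528 = n1085 := d41_2 (iv F5452) D1528 (iv D1085)
def n1529 : Q := act 7 n1068
theorem D1529 : act 7 n1068 = n1529 := rfl
theorem F7664 : act 0 n1529 = n1529 := d6_1 D1529 (iv D1529) F5453
theorem F7665 : act 1 n1529 = n1529 := d14_1 D1529 (iv D1529) F5454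
theorem F7666 : act 4 n1529 = n1529 := d32_1 D1529 (iv D1529) F5455
theorem F7667 : act 6 n1529 = n1529 := d39_1 D1529 (iv D1529) (iv D1068) F3864 D1068
theorem F7668 : act 8 n1529 = n1529 := d42_2 F5456 D1529 (iv D1529)
theorem F7669 : act 9 n1529 = n1086 := d43_2 (iv F5457) D1529 (iv D1086)
def n1530 : Q := act 4 n1069
theorem D1530 : act 4 n1069 = n1530 := rfl
theorem F7672 : act 7 n1530 = n1070 := d32_2 (iv F5461) D1530 (iv D1070)
theorem F7674 : act 9 n1530 = n1087 := d34_2 (iv F5463) D1530 (iv D1087)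
def n1531 : Q := act 6 n1069
theorem D1531 : act 6 n1069 = n1531 := rfl
def n1533 : Q := act 7 n1071
theorem D1533 : act 7 n1071 = n1533 := rfl
theorem F7688 : act 0 n1533 = n1073 := d6_1 D1533 (iv D1073) (iv F5469)
theorem F7689 : act 1 n1533 = n1533 := d14_1 D1533 (iv D1533) F5470
theorem F7690 : act 2 n1533 = n1533 := d21_1 D1533 (iv D1533) F5471
theorem F7691 : act 4 n1533 = n1533 := d32_1 D1533 (iv D1533) F5472
theorem F7692 : act 5 n1533 = n1533 := d36_1 D1533 (iv D1533) F5473
theorem F7693 : act 6 n1533 = n1533 := d39_1 D1533 (iv D1533) (iv D1071) F3883 D1071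
def n1534 : Q := act 9 n1071
theorem D1534 : act 9 n1071 = n1534 := rfl
theorem F7694 : act 0 n1534 = n1074 := d8_1 D1534 (iv D1074) (iv F5469)
theorem F7695 : act 1 n1534 = n1534 := d16_1 D1534 (iv D1534) F5470
theorem F7696 : act 2 n1534 = n1534 := d23_1 D1534 (iv D1534) F5471
theorem F7697 : act 4 n1534 = n1534 := d34_1 D1534 (iv D1534) F5472
theorem F7698 : act 5 n1534 = n1534 := d38_1 D1534 (iv D1534) F5473
theorem F7699 : act 6 n1534 = n1072 := d41_1 D1534 (iv D1072) D1071
def n1535 : Q := act 8 n1072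
theorem D1535 : act 8 n1072 = n1535 := rfl
theorem F7700 : act 0 n1535 = n1075 := d7_1 D1535 (iv D1075) (iv F5474)
theorem F7701 : act 1 n1535 = n1535 := d15_1 D1535 (iv D1535) F5475
theorem F7702 : act 2 n1535 = n1535 := d22_1 D1535 (iv D1535) F5476
theorem F7703 : act 4 n1535 = n1535 := d33_1 D1535 (iv D1535) F5477
theorem F7704 : act 7 n1535 = n1535 := d42_1 D1535 (iv D1535) F5479
def n1536 : Q := act 9 n1073
theorem D1536 : act 9 n1073 = n1536 := rfl
theorem F7705 : act 1 n1536 = n1076 := d16_1 D1536 (iv D1076) (iv F5480)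
theorem F7706 : act 2 n1536 = n1536 := d23_1 D1536 (iv D1536) F5481
theorem F7707 : act 4 n1536 = n1536 := d34_1 D1536 (iv D1536) F5482
theorem F7708 : act 5 n1536 = n1536 := d38_1 D1536 (iv D1536) F5483
theorem F7709 : act 6 n1536 = n1536 := d41_1 D1536 (iv D1536) F5484
theorem F7710 : act 7 n1536 = n1074 := d43_1 D1536 (iv D1074) D1073
def n1537 : Q := act 8 n1074
theorem D1537 : act 8 n1074 = n1537 := rfl
theorem F7711 : act 1 n1537 = n1077 := d15_1 D1537 (iv D1077) (iv F5485)
theorem F7712 : act 2 n1537 = n1537 := d22_1 D1537 (iv D1537) F5486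
theorem F7713 : act 4 n1537 = n1537 := d33_1 D1537 (iv D1537) F5487
theorem F7714 : act 6 n1537 = n1075 := d40_1 D1537 (iv D1075) (iv F5489)
def n1538 : Q := act 5 n1075
theorem D1538 : act 5 n1075 = n1538 := rfl
theorem F7715 : act 1 n1538 = n1078 := d12_1 D1538 (iv D1078) (iv F5490)
theorem F7716 : act 2 n1538 = n1538 := d19_1 D1538 (iv D1538) F5491
theorem F7717 : act 7 n1538 = n1538 := d36_2 F5493 D1538 (iv D1538)
theorem F7718 : act 8 n1538 = n1098 := d37_2 D1075 D1538 (iv D1098) (iv D767) (iv F3891)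
def n1539 : Q := act 8 n1076
theorem D1539 : act 8 n1076 = n1539 := rfl
theorem F7719 : act 0 n1539 = n1539 := d7_1 D1539 (iv D1539) F5494
theorem F7720 : act 2 n1539 = n1079 := d22_1 D1539 (iv D1079) (iv F5495)
theorem F7721 : act 4 n1539 = n1539 := d33_1 D1539 (iv D1539) F5496
theorem F7722 : act 6 n1539 = n1539 := d40_1 D1539 (iv D1539) F5498
theorem F7723 : act 7 n1539 = n1077 := d42_1 D1539 (iv D1077) (iv F5499)
def n1540 : Q := act 5 n1077
theorem D1540 : act 5 n1077 = n1540 := rfl
theorem F7724 : act 0 n1540 = n1540 := d4_1 D1540 (iv D1540) F5500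
theorem F7725 : act 2 n1540 = n1080 := d19_1 D1540 (iv D1080) (iv F5501)
theorem F7726 : act 8 n1540 = n1540 := d37_2 D1077 D1540 (iv D1540) (iv D1077) F3901
def n1541 : Q := act 4 n1078
theorem D1541 : act 4 n1078 = n1541 := rfl
theorem F7728 : act 2 n1541 = n1081 := d18_1 D1541 (iv D1081) (iv F5505)
theorem F7731 : act 8 n1541 = n1099 := d33_2 (iv F5507) D1541 (iv D1099)
def n1542 : Q := act 6 n1078
theorem D1542 : act 6 n1078 = n1542 := rfl
theorem F7733 : act 2 n1542 = n1082 := d20_1 D1542 (iv D1082) (iv F5505)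
def n1543 : Q := act 5 n1079
theorem D1543 : act 5 n1079 = n1543 := rfl
theorem F7735 : act 0 n1543 = n1543 := d4_1 D1543 (iv D1543) F5508
theorem F7736 : act 1 n1543 = n1543 := d12_1 D1543 (iv D1543) F5509
theorem F7737 : act 3 n1543 = n1083 := d25_1 D1543 (iv D1083) (iv F5510)
theorem F7738 : act 7 n1543 = n1080 := d36_2 (iv F5513) D1543 (iv D1080)
theorem F7739 : act 8 n1543 = n1543 := d37_2 D1079 D1543 (iv D1543) (iv D1079) F3911
def n1544 : Q := act 4 n1080
theorem D1544 : act 4 n1080 = n1544 := rfl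
theorem F7740 : act 0 n1544 = n1544 := d3_1 D1544 (iv D1544) F5514
theorem F7741 : act 1 n1544 = n1544 := d11_1 D1544 (iv D1544) F5515
theorem F7742 : act 5 n1544 = n1544 := d30_2 D1080 D1544 (iv D1544) (iv D1080) F3917
theorem F7743 : act 8 n1544 = n1544 := d33_2 F5517 D1544 (iv D1544)
def n1545 : Q := act 6 n1080
theorem D1545 : act 6 n1080 = n1545 := rfl
theorem F7744 : act 0 n1545 = n1545 := d5_1 D1545 (iv D1545) F5514
theorem F7745 : act 1 n1545 = n1545 := d13_1 D1545 (iv D1545) F5515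
theorem F7746 : act 3 n1545 = n1085 := d26_1 D1545 (iv D1085) (iv F5516)
theorem F7747 : act 5 n1545 = n1082 := d35_1 D1545 (iv D1082) (iv D754) (iv F3918) D1080
theorem F7748 : act 8 n1545 = n1545 := d40_2 F5517 D1545 (iv D1545)
def n1546 : Q := act 6 n1081
theorem D1546 : act 6 n1081 = n1546 := rfl
theorem F7752 : act 4 n1546 = n1082 := d31_1 D1546 (iv D1082) D1081
theorem F7753 : act 8 n1546 = n1101 := d40_2 (iv F5523) D1546 (iv D1101)
def n1547 : Q := act 7 n1082
theorem D1547 : act 7 n1082 = n1547 := rfl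
theorem F7756 : act 3 n1547 = n1086 := d27_1 D1547 (iv D1086) (iv F5526)
def n1548 : Q := act 4 n1083
theorem D1548 : act 4 n1083 = n1548 := rfl
theorem F7761 : act 5 n1548 = n1087 := d30_2 D1083 D1548 (iv D1087) (iv D758) (iv F3926)
theorem F7762 : act 7 n1548 = n1084 := d32_2 (iv F5530) D1548 (iv D1084)
def n1549 : Q := act 6 n1083
theorem D1549 : act 6 n1083 = n1549 := rfl
theorem F7766 : act 5 n1549 = n1549 := d35_1 D1549 (iv D1549) (iv D1083) F3927 D1083
def n1550 : Q := act 3 n1084
theorem D1550 : act 3 n1084 = n1550 := rfl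
theorem F7768 : act 0 n1550 = n1550 := d2_1 D1550 (iv D1550) F5532
theorem F7769 : act 1 n1550 = n1550 := d10_1 D1550 (iv D1550) F5533
theorem F7771 : act 8 n1550 = n1550 := d28_2 F5535 D1550 (iv D1550)
def n1551 : Q := act 6 n1084
theorem D1551 : act 6 n1084 = n1551 := rfl
theorem F7772 : act 0 n1551 = n1551 := d5_1 D1551 (iv D1551) F5532
theorem F7773 : act 1 n1551 = n1551 := d13_1 D1551 (iv D1551) F5533
theorem F7774 : act 4 n1551 = n1085 := d31_1 D1551 (iv D1085) D1084
theorem F7775 : act 5 n1551 = n1551 := d35_1 D1551 (iv D1551) F5534 F3943 (iv F5534)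
theorem F7776 : act 8 n1551 = n1551 := d40_2 F5535 D1551 (iv D1551)
def n1552 : Q := act 7 n1085
theorem D1552 : act 7 n1085 = n1552 := rfl
theorem F7779 : act 5 n1552 = n1086 := d36_1 D1552 (iv D1086) (iv F5538)
def n1553 : Q := act 3 n1087
theorem D1553 : act 3 n1087 = n1553 := rfl
theorem F7784 : act 7 n1553 = n1089 := d27_2 (iv F5547) D1553 (iv D1089)
theorem F7785 : act 8 n1553 = n1090 := d28_2 (iv F5548) D1553 (iv D1090)
def n1554 : Q := act 6 n1087
theorem D1554 : act 6 n1087 = n1554 := rfl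
theorem F7788 : act 4 n1554 = n1088 := d31_1 D1554 (iv D1088) D1087
def n1555 : Q := act 2 n1089
theorem D1555 : act 2 n1089 = n1555 := rfl
theorem F7793 : act 6 n1555 = n1555 := d20_2 F5558 D1555 (iv D1555)
def n1556 : Q := act 2 n1090
theorem D1556 : act 2 n1090 = n1556 := rfl
theorem F7799 : act 9 n1556 = n1556 := d23_2 F5565 D1556 (iv D1556)
def n1557 : Q := act 6 n1090
theorem D1557 : act 6 n1090 = n1557 := rfl
theorem F7802 : act 3 n1557 = n1091 := d26_1 D1557 (iv D1091) D1090
def n1558 : Q := act 5 n1091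
theorem D1558 : act 5 n1091 = n1558 := rfl
theorem F7808 : act 4 n1558 = n1095 := d30_1 D1558 (iv D1095) F3971 (iv F3953) (iv F5568)
def n1562 : Q := act 5 n1094
theorem D1562 : act 5 n1094 = n1562 := rfl
theorem F7831 : act 3 n1562 = n1095 := d25_1 D1562 (iv D1095) (iv F5584)
def n1563 : Q := act 8 n1095
theorem D1563 : act 8 n1095 = n1563 := rfl
def n1565 : Q := act 5 n1097
theorem D1565 : act 5 n1097 = n1565 := rfl
theorem F7847 : act 0 n1565 = n1098 := d4_1 D1565 (iv D1098) (iv F5600)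
theorem F7848 : act 1 n1565 = n1565 := d12_1 D1565 (iv D1565) F5601
theorem F7849 : act 2 n1565 = n1565 := d19_1 D1565 (iv D1565) F5602
theorem F7850 : act 7 n1565 = n1565 := d36_2 F5605 D1565 (iv D1565)
theorem F7851 : act 9 n1565 = n1565 := d38_2 F5606 D1565 (iv D1565)
def n1566 : Q := act 4 n1098
theorem D1566 : act 4 n1098 = n1566 := rfl
theorem F7852 : act 1 n1566 = n1099 := d11_1 D1566 (iv D1099) (iv F5607)
theorem F7854 : act 5 n1566 = n1104 := d30_2 D1098 D1566 (iv D1104) (iv D773) (iv F3989)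
theorem F7856 : act 9 n1566 = n1566 := d34_2 F5610 D1566 (iv D1566)
def n1567 : Q := act 6 n1098
theorem D1567 : act 6 n1098 = n1567 := rfl
theorem F7857 : act 1 n1567 = n1100 := d13_1 D1567 (iv D1100) (iv F5607)
theorem F7859 : act 5 n1567 = n1567 := d35_1 D1567 (iv D1567) (iv D1098) F3990 D1098
def n1568 : Q := act 3 n1099
theorem D1568 : act 3 n1099 = n1568 := rfl
theorem F7862 : act 2 n1568 = n1568 := d17_1 D1568 (iv D1568) F5612 F3999 (iv F5612)
theorem F7863 : act 5 n1568 = n1106 := d25_2 (iv F5613) D1568 (iv D1106)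
def n1569 : Q := act 6 n1099
theorem D1569 : act 6 n1099 = n1569 := rfl
theorem F7867 : act 2 n1569 = n1101 := d20_1 D1569 (iv D1101) (iv F5612)
theorem F7868 : act 4 n1569 = n1100 := d31_1 D1569 (iv D1100) D1099
def n1570 : Q := act 7 n1100
theorem D1570 : act 7 n1100 = n1570 := rfl
def n1571 : Q := act 5 n1101
theorem D1571 : act 5 n1101 = n1571 := rfl
theorem F7879 : act 6 n1571 = n1109 := d35_2 D1101 D1571 (iv D1109) (iv D776) (iv F4000)
def n1572 : Q := act 7 n1101
theorem D1572 : act 7 n1101 = n1572 := rfl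
theorem F7884 : act 4 n1572 = n1102 := d32_1 D1572 (iv D1102) (iv F5623)
def n1573 : Q := act 4 n1103
theorem D1573 : act 4 n1103 = n1573 := rfl
theorem F7887 : act 0 n1573 = n1104 := d3_1 D1573 (iv D1104) (iv F5631)
theorem F7888 : act 1 n1573 = n1573 := d11_1 D1573 (iv D1573) F5632
theorem F7889 : act 2 n1573 = n1573 := d18_1 D1573 (iv D1573) F5633
theorem F7890 : act 7 n1573 = n1573 := d32_2 F5635 D1573 (iv D1573)
theorem F7891 : act 8 n1573 = n1573 := d33_2 F5636 D1573 (iv D1573)
theorem F7892 : act 9 n1573 = n1573 := d34_2 F5637 D1573 (iv D1573)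
def n1574 : Q := act 6 n1103
theorem D1574 : act 6 n1103 = n1574 := rfl
theorem F7895 : act 2 n1574 = n1574 := d20_1 D1574 (iv D1574) F5633
theorem F7896 : act 3 n1574 = n1574 := d26_1 D1574 (iv D1574) F5634
theorem F7898 : act 8 n1574 = n1574 := d40_2 F5636 D1574 (iv D1574)
def n1575 : Q := act 3 n1104
theorem D1575 : act 3 n1104 = n1575 := rfl
theorem F7900 : act 1 n1575 = n1106 := d10_1 D1575 (iv D1106) (iv F5638)
theorem F7901 : act 4 n1575 = n1575 := d24_2 D1104 D1575 (iv D1575) (iv D1104) F4023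
def n1576 : Q := act 6 n1104
theorem D1576 : act 6 n1104 = n1576 := rfl
theorem F7906 : act 2 n1576 = n1576 := d20_1 D1576 (iv D1576) F5639
theorem F7909 : act 9 n1576 = n1576 := d41_2 F5642 D1576 (iv D1576)
def n1578 : Q := act 6 n1106
theorem D1578 : act 6 n1106 = n1578 := rfl
theorem F7918 : act 2 n1578 = n1578 := d20_1 D1578 (iv D1578) F5650
theorem F7919 : act 3 n1578 = n1107 := d26_1 D1578 (iv D1107) D1106
def n1579 : Q := act 5 n1107
theorem D1579 : act 5 n1107 = n1579 := rfl
theorem F7924 : act 2 n1579 = n1109 := d19_1 D1579 (iv D1109) (iv F5656)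
theorem F7925 : act 4 n1579 = n1579 := d30_1 D1579 (iv D1579) F5657 F4035 (iv F5657)
def n1581 : Q := act 7 n1109
theorem D1581 : act 7 n1109 = n1581 := rfl
theorem F7933 : act 0 n1581 = n1581 := d6_1 D1581 (iv D1581) F5667
def n1582 : Q := act 8 n1109
theorem D1582 : act 8 n1109 = n1582 := rfl
def n1583 : Q := act 2 n1111
theorem D1583 : act 2 n1111 = n1583 := rfl
theorem F7944 : act 0 n1583 = n1583 := d1_1 D1583 (iv D1583) F5679
theorem F7945 : act 1 n1583 = n1583 := d9_1 D1583 (iv D1583) F5680 F4128 (iv F5680)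
theorem F7946 : act 3 n1583 = n1583 := d17_2 D1111 D1583 (iv D1583) (iv D1111) F4053
theorem F7947 : act 4 n1583 = n1583 := d18_2 F5681 D1583 (iv D1583)
theorem F7948 : act 5 n1583 = n1583 := d19_2 F5682 D1583 (iv D1583)
theorem F7949 : act 6 n1583 = n1583 := d20_2 F5683 D1583 (iv D1583)
theorem F7950 : act 7 n1583 = n1583 := d21_2 F5684 D1583 (iv D1583)
theorem F7951 : act 9 n1583 = n1583 := d23_2 F5685 D1583 (iv D1583)
def n1584 : Q := act 8 n1111
theorem D1584 : act 8 n1111 = n1584 := rfl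
theorem F7952 : act 0 n1584 = n1584 := d7_1 D1584 (iv D1584) F5679
theorem F7953 : act 1 n1584 = n1133 := d15_1 D1584 (iv D1133) (iv F5680)
theorem F7954 : act 3 n1584 = n1112 := d28_1 D1584 (iv D1112) D1111
theorem F7955 : act 4 n1584 = n1584 := d33_1 D1584 (iv D1584) F5681
theorem F7956 : act 6 n1584 = n1584 := d40_1 D1584 (iv D1584) F5683
theorem F7957 : act 7 n1584 = n1584 := d42_1 D1584 (iv D1584) F5684
def n1585 : Q := act 5 n1112
theorem D1585 : act 5 n1112 = n1585 := rfl
theorem F7958 : act 0 n1585 = n1585 := d4_1 D1585 (iv D1585) F5686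
theorem F7959 : act 1 n1585 = n1134 := d12_1 D1585 (iv D1134) (iv F5687)
theorem F7960 : act 2 n1585 = n1585 := d19_1 D1585 (iv D1585) F5688
theorem F7961 : act 7 n1585 = n1585 := d36_2 F5691 D1585 (iv D1585)
theorem F7962 : act 8 n1585 = n1585 := d37_2 D1112 D1585 (iv D1585) (iv D1112) F4054
def n1586 : Q := act 9 n1112
theorem D1586 : act 9 n1112 = n1586 := rfl
theorem F7963 : act 0 n1586 = n1586 := d8_1 D1586 (iv D1586) F5686
theorem F7964 : act 1 n1586 = n1135 := d16_1 D1586 (iv D1135) (iv F5687)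
theorem F7965 : act 2 n1586 = n1586 := d23_1 D1586 (iv D1586) F5688
theorem F7966 : act 4 n1586 = n1114 := d34_1 D1586 (iv D1114) (iv F5689)
theorem F7967 : act 6 n1586 = n1586 := d41_1 D1586 (iv D1586) F5690
theorem F7968 : act 7 n1586 = n1586 := d43_1 D1586 (iv D1586) F5691
theorem F7969 : act 8 n1586 = n1586 := d44_1 D1586 (iv D1586) (iv D1112) F4057 D1112
def n1587 : Q := act 4 n1113
theorem D1587 : act 4 n1113 = n1587 := rfl
theorem F7970 : act 0 n1587 = n1587 := d3_1 D1587 (iv D1587) F5692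
theorem F7971 : act 1 n1587 = n1136 := d11_1 D1587 (iv D1136) (iv F5693)
theorem F7972 : act 2 n1587 = n1587 := d18_1 D1587 (iv D1587) F5694
theorem F7973 : act 7 n1587 = n1587 := d32_2 F5696 D1587 (iv D1587)
theorem F7974 : act 8 n1587 = n1115 := d33_2 (iv F5697) D1587 (iv D1115)
def n1588 : Q := act 6 n1113
theorem D1588 : act 6 n1113 = n1588 := rfl
theorem F7976 : act 1 n1588 = n1137 := d13_1 D1588 (iv D1137) (iv F5693)
def n1589 : Q := act 9 n1113
theorem D1589 : act 9 n1113 = n1589 := rfl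
theorem F7981 : act 0 n1589 = n1589 := d8_1 D1589 (iv D1589) F5692
theorem F7982 : act 1 n1589 = n1138 := d16_1 D1589 (iv D1138) (iv F5693)
theorem F7983 : act 2 n1589 = n1589 := d23_1 D1589 (iv D1589) F5694
theorem F7984 : act 3 n1589 = n1589 := d29_1 D1589 (iv D1589) F5695
theorem F7985 : act 5 n1589 = n1114 := d38_1 D1589 (iv D1114) D1113
theorem F7986 : act 7 n1589 = n1589 := d43_1 D1589 (iv D1589) F5696
def n1590 : Q := act 3 n1115
theorem D1590 : act 3 n1115 = n1590 := rfl
theorem F7987 : act 0 n1590 = n1590 := d2_1 D1590 (iv D1590) F5705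
theorem F7988 : act 1 n1590 = n1139 := d10_1 D1590 (iv D1139) (iv F5706)
theorem F7989 : act 4 n1590 = n1590 := d24_2 D1115 D1590 (iv D1590) (iv D1115) F4067
theorem F7990 : act 5 n1590 = n1590 := d25_2 F5708 D1590 (iv D1590)
theorem F7991 : act 7 n1590 = n1590 := d27_2 F5709 D1590 (iv D1590)
def n1591 : Q := act 6 n1115
theorem D1591 : act 6 n1115 = n1591 := rfl
theorem F7993 : act 1 n1591 = n1140 := d13_1 D1591 (iv D1140) (iv F5706)
def n1592 : Q := act 9 n1115
theorem D1592 : act 9 n1115 = n1592 := rfl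
theorem F7996 : act 0 n1592 = n1592 := d8_1 D1592 (iv D1592) F5705
theorem F7997 : act 1 n1592 = n1141 := d16_1 D1592 (iv D1141) (iv F5706)
theorem F7998 : act 2 n1592 = n1592 := d23_1 D1592 (iv D1592) F5707
theorem F7999 : act 4 n1592 = n1117 := d34_1 D1592 (iv D1117) D1115
theorem F8000 : act 5 n1592 = n1592 := d38_1 D1592 (iv D1592) F5708
theorem F8001 : act 7 n1592 = n1592 := d43_1 D1592 (iv D1592) F5709
def n1594 : Q := act 9 n1116
theorem D1594 : act 9 n1116 = n1594 := rfl
theorem F8009 : act 1 n1594 = n1143 := d16_1 D1594 (iv D1143) (iv F5711)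
theorem F8013 : act 6 n1594 = n1117 := d41_1 D1594 (iv D1117) D1116
def n1595 : Q := act 8 n1117
theorem D1595 : act 8 n1117 = n1595 := rfl
theorem F8014 : act 0 n1595 = n1595 := d7_1 D1595 (iv D1595) F5715
theorem F8015 : act 1 n1595 = n1144 := d15_1 D1595 (iv D1144) (iv F5716)
theorem F8016 : act 2 n1595 = n1595 := d22_1 D1595 (iv D1595) F5717
theorem F8017 : act 3 n1595 = n1595 := d28_1 D1595 (iv D1595) F5718
theorem F8018 : act 5 n1595 = n1595 := d37_1 D1595 (iv D1595) F5719 F4076 (iv F5719)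
theorem F8019 : act 7 n1595 = n1595 := d42_1 D1595 (iv D1595) F5720
def n1602 : Q := act 8 n1120
theorem D1602 : act 8 n1120 = n1602 := rfl
theorem F8056 : act 4 n1602 = n1123 := d33_1 D1602 (iv D1123) (iv F5735)
def n1604 : Q := act 8 n1122
theorem D1604 : act 8 n1122 = n1604 := rfl
theorem F8066 : act 1 n1604 = n1152 := d15_1 D1604 (iv D1152) (iv F5745)
theorem F8069 : act 6 n1604 = n1123 := d40_1 D1604 (iv D1123) (iv F5748)
def n1607 : Q := act 5 n1125
theorem D1607 : act 5 n1125 = n1607 := rfl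
theorem F8084 : act 1 n1607 = n1153 := d12_1 D1607 (iv D1153) (iv F5763)
def n1610 : Q := act 8 n1126
theorem D1610 : act 8 n1126 = n1610 := rfl
theorem F8099 : act 3 n1610 = n1130 := d28_1 D1610 (iv D1130) (iv F5769)
def n1611 : Q := act 7 n1127
theorem D1611 : act 7 n1127 = n1611 := rfl
theorem F8103 : act 1 n1611 = n1157 := d14_1 D1611 (iv D1157) (iv F5773)
theorem F8106 : act 5 n1611 = n1128 := d36_1 D1611 (iv D1128) D1127
def n1612 : Q := act 8 n1127
theorem D1612 : act 8 n1127 = n1612 := rfl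
def n1616 : Q := act 5 n1130
theorem D1616 : act 5 n1130 = n1616 := rfl
theorem F8133 : act 4 n1616 = n1616 := d30_1 D1616 (iv D1616) F5790 F4125 (iv F5790)
def n1617 : Q := act 8 n1131
theorem D1617 : act 8 n1131 = n1617 := rfl
theorem F8140 : act 7 n1617 = n1132 := d42_1 D1617 (iv D1132) (iv F5797)
def n1618 : Q := act 5 n1132
theorem D1618 : act 5 n1132 = n1618 := rfl
theorem F8146 : act 6 n1618 = n1618 := d35_2 (iv F5802) D1618 (iv D1618) F5802 F4125
def n1619 : Q := act 5 n1133
theorem D1619 : act 5 n1133 = n1619 := rfl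
theorem F8149 : act 0 n1619 = n1231 := d4_1 D1619 (iv D1231) (iv F5804)
theorem F8150 : act 2 n1619 = n1619 := d19_1 D1619 (iv D1619) F5805
theorem F8151 : act 3 n1619 = n1134 := d25_1 D1619 (iv D1134) (iv F5806)
theorem F8152 : act 7 n1619 = n1619 := d36_2 F5809 D1619 (iv D1619)
theorem F8153 : act 8 n1619 = n1619 := d37_2 D1133 D1619 (iv D1619) (iv D1133) F4130
def n1620 : Q := act 9 n1133
theorem D1620 : act 9 n1133 = n1620 := rfl
theorem F8154 : act 0 n1620 = n1232 := d8_1 D1620 (iv D1232) (iv F5804)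
theorem F8155 : act 2 n1620 = n1620 := d23_1 D1620 (iv D1620) F5805
theorem F8156 : act 3 n1620 = n1135 := d29_1 D1620 (iv D1135) (iv F5806)
theorem F8157 : act 4 n1620 = n1620 := d34_1 D1620 (iv D1620) F5807
theorem F8158 : act 6 n1620 = n1620 := d41_1 D1620 (iv D1620) F5808
theorem F8159 : act 7 n1620 = n1620 := d43_1 D1620 (iv D1620) F5809
theorem F8160 : act 8 n1620 = n1620 := d44_1 D1620 (iv D1620) (iv D1133) F4133 D1133
def n1621 : Q := act 4 n1134
theorem D1621 : act 4 n1134 = n1621 := rfl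
theorem F8161 : act 0 n1621 = n1233 := d3_1 D1621 (iv D1233) (iv F5810)
theorem F8162 : act 2 n1621 = n1165 := d18_1 D1621 (iv D1165) (iv F5811)
theorem F8163 : act 5 n1621 = n1136 := d30_2 D1134 D1621 (iv D1136) (iv D793) (iv F4136)
theorem F8164 : act 7 n1621 = n1621 := d32_2 F5812 D1621 (iv D1621)
theorem F8165 : act 8 n1621 = n1621 := d33_2 F5813 D1621 (iv D1621)
def n1622 : Q := act 6 n1134
theorem D1622 : act 6 n1134 = n1622 := rfl
theorem F8166 : act 0 n1622 = n1234 := d5_1 D1622 (iv D1234) (iv F5810)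
theorem F8167 : act 2 n1622 = n1166 := d20_1 D1622 (iv D1166) (iv F5811)
theorem F8168 : act 5 n1622 = n1622 := d35_1 D1622 (iv D1622) (iv D1134) F4137 D1134
theorem F8169 : act 8 n1622 = n1622 := d40_2 F5813 D1622 (iv D1622)
def n1623 : Q := act 9 n1134
theorem D1623 : act 9 n1134 = n1623 := rfl
theorem F8170 : act 0 n1623 = n1235 := d8_1 D1623 (iv D1235) (iv F5810)
theorem F8171 : act 2 n1623 = n1167 := d23_1 D1623 (iv D1167) (iv F5811)
theorem F8172 : act 5 n1623 = n1135 := d38_1 D1623 (iv D1135) D1134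
theorem F8173 : act 7 n1623 = n1623 := d43_1 D1623 (iv D1623) F5812
def n1624 : Q := act 3 n1136
theorem D1624 : act 3 n1136 = n1624 := rfl
theorem F8174 : act 0 n1624 = n1236 := d2_1 D1624 (iv D1236) (iv F5820)
theorem F8175 : act 4 n1624 = n1624 := d24_2 D1136 D1624 (iv D1624) (iv D1136) F4141
theorem F8176 : act 7 n1624 = n1624 := d27_2 F5822 D1624 (iv D1624)
theorem F8177 : act 8 n1624 = n1139 := d28_2 (iv F5823) D1624 (iv D1139)
def n1625 : Q := act 6 n1136
theorem D1625 : act 6 n1136 = n1625 := rfl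
theorem F8178 : act 0 n1625 = n1237 := d5_1 D1625 (iv D1237) (iv F5820)
theorem F8179 : act 2 n1625 = n1169 := d20_1 D1625 (iv D1169) (iv F5821)
theorem F8180 : act 4 n1625 = n1137 := d31_1 D1625 (iv D1137) D1136
theorem F8181 : act 8 n1625 = n1140 := d40_2 (iv F5823) D1625 (iv D1140)
def n1626 : Q := act 9 n1136
theorem D1626 : act 9 n1136 = n1626 := rfl
theorem F8182 : act 0 n1626 = n1238 := d8_1 D1626 (iv D1238) (iv F5820)
theorem F8183 : act 2 n1626 = n1170 := d23_1 D1626 (iv D1170) (iv F5821)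
theorem F8184 : act 4 n1626 = n1138 := d34_1 D1626 (iv D1138) D1136
theorem F8185 : act 7 n1626 = n1626 := d43_1 D1626 (iv D1626) F5822
def n1627 : Q := act 7 n1137
theorem D1627 : act 7 n1137 = n1627 := rfl
theorem F8187 : act 2 n1627 = n1171 := d21_1 D1627 (iv D1171) (iv F5825)
def n1628 : Q := act 9 n1137
theorem D1628 : act 9 n1137 = n1628 := rfl
theorem F8192 : act 0 n1628 = n1240 := d8_1 D1628 (iv D1240) (iv F5824)
theorem F8193 : act 2 n1628 = n1172 := d23_1 D1628 (iv D1172) (iv F5825)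
theorem F8194 : act 3 n1628 = n1628 := d29_1 D1628 (iv D1628) F5826
theorem F8195 : act 5 n1628 = n1628 := d38_1 D1628 (iv D1628) F5827
theorem F8196 : act 6 n1628 = n1138 := d41_1 D1628 (iv D1138) D1137
def n1629 : Q := act 8 n1138
theorem D1629 : act 8 n1138 = n1629 := rfl
theorem F8197 : act 0 n1629 = n1241 := d7_1 D1629 (iv D1241) (iv F5829)
theorem F8198 : act 2 n1629 = n1173 := d22_1 D1629 (iv D1173) (iv F5830)
theorem F8199 : act 3 n1629 = n1629 := d28_1 D1629 (iv D1629) F5831
theorem F8200 : act 5 n1629 = n1629 := d37_1 D1629 (iv D1629) F5832 F4149 (iv F5832)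
theorem F8201 : act 7 n1629 = n1629 := d42_1 D1629 (iv D1629) F5833
theorem F8202 : act 9 n1629 = n1144 := d44_2 D1138 D1629 (iv D1144) (iv D797) (iv F4143)
def n1630 : Q := act 2 n1139
theorem D1630 : act 2 n1139 = n1630 := rfl
theorem F8203 : act 0 n1630 = n1242 := d1_1 D1630 (iv D1242) (iv F5834)
theorem F8204 : act 3 n1630 = n1174 := d17_2 D1139 D1630 (iv D1174) (iv D817) (iv F4151)
theorem F8205 : act 4 n1630 = n1630 := d18_2 F5835 D1630 (iv D1630)
theorem F8206 : act 5 n1630 = n1630 := d19_2 F5836 D1630 (iv D1630)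
theorem F8207 : act 7 n1630 = n1630 := d21_2 F5837 D1630 (iv D1630)
def n1631 : Q := act 6 n1139
theorem D1631 : act 6 n1139 = n1631 := rfl
theorem F8208 : act 0 n1631 = n1243 := d5_1 D1631 (iv D1243) (iv F5834)
theorem F8209 : act 3 n1631 = n1140 := d26_1 D1631 (iv D1140) D1139
theorem F8210 : act 4 n1631 = n1631 := d31_1 D1631 (iv D1631) F5835
def n1632 : Q := act 9 n1139
theorem D1632 : act 9 n1139 = n1632 := rfl
theorem F8211 : act 0 n1632 = n1244 := d8_1 D1632 (iv D1244) (iv F5834)
theorem F8212 : act 3 n1632 = n1141 := d29_1 D1632 (iv D1141) D1139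
theorem F8213 : act 4 n1632 = n1632 := d34_1 D1632 (iv D1632) F5835
theorem F8214 : act 5 n1632 = n1632 := d38_1 D1632 (iv D1632) F5836
theorem F8215 : act 7 n1632 = n1632 := d43_1 D1632 (iv D1632) F5837
def n1633 : Q := act 5 n1140
theorem D1633 : act 5 n1140 = n1633 := rfl
theorem F8217 : act 2 n1633 = n1177 := d19_1 D1633 (iv D1177) (iv F5839)
theorem F8218 : act 4 n1633 = n1147 := d30_1 D1633 (iv D1147) F4171 (iv F4157) (iv F5840)
def n1634 : Q := act 7 n1140
theorem D1634 : act 7 n1140 = n1634 := rfl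
theorem F8221 : act 2 n1634 = n1178 := d21_1 D1634 (iv D1178) (iv F5839)
def n1635 : Q := act 9 n1140
theorem D1635 : act 9 n1140 = n1635 := rfl
theorem F8224 : act 0 n1635 = n1247 := d8_1 D1635 (iv D1247) (iv F5838)
theorem F8225 : act 2 n1635 = n1179 := d23_1 D1635 (iv D1179) (iv F5839)
theorem F8226 : act 4 n1635 = n1143 := d34_1 D1635 (iv D1143) (iv F5840)
theorem F8227 : act 6 n1635 = n1141 := d41_1 D1635 (iv D1141) D1140
def n1636 : Q := act 8 n1141
theorem D1636 : act 8 n1141 = n1636 := rfl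
theorem F8228 : act 0 n1636 = n1248 := d7_1 D1636 (iv D1248) (iv F5841)
theorem F8229 : act 2 n1636 = n1180 := d22_1 D1636 (iv D1180) (iv F5842)
theorem F8230 : act 4 n1636 = n1144 := d33_1 D1636 (iv D1144) (iv F5843)
theorem F8231 : act 7 n1636 = n1636 := d42_1 D1636 (iv D1636) F5845
def n1637 : Q := act 9 n1142
theorem D1637 : act 9 n1142 = n1637 := rfl
theorem F8233 : act 2 n1637 = n1181 := d23_1 D1637 (iv D1181) (iv F5847)
theorem F8237 : act 7 n1637 = n1143 := d43_1 D1637 (iv D1143) D1142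
def n1638 : Q := act 8 n1143
theorem D1638 : act 8 n1143 = n1638 := rfl
theorem F8238 : act 0 n1638 = n1250 := d7_1 D1638 (iv D1250) (iv F5851)
theorem F8239 : act 2 n1638 = n1182 := d22_1 D1638 (iv D1182) (iv F5852)
theorem F8240 : act 3 n1638 = n1638 := d28_1 D1638 (iv D1638) F5853
theorem F8241 : act 6 n1638 = n1144 := d40_1 D1638 (iv D1144) (iv F5855)
def n1642 : Q := act 8 n1146
theorem D1642 : act 8 n1146 = n1642 := rfl
theorem F8259 : act 3 n1642 = n1150 := d28_1 D1642 (iv D1150) (iv F5868)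
def n1643 : Q := act 7 n1147
theorem D1643 : act 7 n1147 = n1643 := rfl
theorem F8265 : act 5 n1643 = n1148 := d36_1 D1643 (iv D1148) D1147
def n1647 : Q := act 8 n1149
theorem D1647 : act 8 n1149 = n1647 := rfl
theorem F8280 : act 2 n1647 = n1187 := d22_1 D1647 (iv D1187) (iv F5881)
theorem F8281 : act 4 n1647 = n1152 := d33_1 D1647 (iv D1152) (iv F5882)
def n1648 : Q := act 5 n1150
theorem D1648 : act 5 n1150 = n1648 := rfl
theorem F8285 : act 2 n1648 = n1188 := d19_1 D1648 (iv D1188) (iv F5885)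
theorem F8286 : act 4 n1648 = n1648 := d30_1 D1648 (iv D1648) F5886 F4190 (iv F5886)
def n1649 : Q := act 8 n1151
theorem D1649 : act 8 n1151 = n1649 := rfl
theorem F8291 : act 2 n1649 = n1189 := d22_1 D1649 (iv D1189) (iv F5890)
theorem F8294 : act 7 n1649 = n1152 := d42_1 D1649 (iv D1152) (iv F5893)
def n1650 : Q := act 5 n1152
theorem D1650 : act 5 n1152 = n1650 := rfl
theorem F8296 : act 0 n1650 = n1262 := d4_1 D1650 (iv D1262) (iv F5894)
theorem F8297 : act 2 n1650 = n1190 := d19_1 D1650 (iv D1190) (iv F5895)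
theorem F8298 : act 3 n1650 = n1650 := d25_1 D1650 (iv D1650) F5896
theorem F8299 : act 6 n1650 = n1650 := d35_2 (iv F5897) D1650 (iv D1650) F5897 F4190
theorem F8300 : act 9 n1650 = n1650 := d38_2 F5898 D1650 (iv D1650)
def n1652 : Q := act 7 n1153
theorem D1652 : act 7 n1153 = n1652 := rfl
theorem F8306 : act 0 n1652 = n1264 := d6_1 D1652 (iv D1264) (iv F5899)
theorem F8308 : act 3 n1652 = n1157 := d27_1 D1652 (iv D1157) (iv F5901)
def n1653 : Q := act 8 n1153
theorem D1653 : act 8 n1153 = n1653 := rfl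
def n1657 : Q := act 5 n1156
theorem D1657 : act 5 n1156 = n1657 := rfl
theorem F8333 : act 3 n1657 = n1162 := d25_1 D1657 (iv D1162) (iv F5915)
def n1658 : Q := act 6 n1157
theorem D1658 : act 6 n1157 = n1658 := rfl
theorem F8337 : act 2 n1658 = n1191 := d20_1 D1658 (iv D1191) (iv F5919)
def n1659 : Q := act 8 n1157
theorem D1659 : act 8 n1157 = n1659 := rfl
theorem F8344 : act 7 n1659 = n1158 := d42_1 D1659 (iv D1158) D1157
def n1666 : Q := act 5 n1163
theorem D1666 : act 5 n1163 = n1666 := rfl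
theorem F8375 : act 7 n1666 = n1164 := d36_2 (iv F5949) D1666 (iv D1164)
def n1668 : Q := act 3 n1165
theorem D1668 : act 3 n1165 = n1668 := rfl
theorem F8383 : act 0 n1668 = n1280 := d2_1 D1668 (iv D1280) (iv F5957)
theorem F8384 : act 1 n1668 = n1668 := d10_1 D1668 (iv D1668) F5958
theorem F8385 : act 4 n1668 = n1668 := d24_2 D1165 D1668 (iv D1668) (iv D1165) F4231
theorem F8386 : act 5 n1668 = n1168 := d25_2 (iv F5959) D1668 (iv D1168)
theorem F8387 : act 7 n1668 = n1668 := d27_2 F5960 D1668 (iv D1668)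
theorem F8388 : act 8 n1668 = n1668 := d28_2 F5961 D1668 (iv D1668)
def n1669 : Q := act 6 n1165
theorem D1669 : act 6 n1165 = n1669 := rfl
theorem F8389 : act 0 n1669 = n1281 := d5_1 D1669 (iv D1281) (iv F5957)
theorem F8390 : act 1 n1669 = n1669 := d13_1 D1669 (iv D1669) F5958
theorem F8391 : act 4 n1669 = n1166 := d31_1 D1669 (iv D1166) D1165
theorem F8392 : act 8 n1669 = n1669 := d40_2 F5961 D1669 (iv D1669)
def n1670 : Q := act 9 n1165
theorem D1670 : act 9 n1165 = n1670 := rfl
theorem F8393 : act 0 n1670 = n1282 := d8_1 D1670 (iv D1282) (iv F5957)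
theorem F8394 : act 1 n1670 = n1670 := d16_1 D1670 (iv D1670) F5958
theorem F8395 : act 4 n1670 = n1167 := d34_1 D1670 (iv D1167) D1165
theorem F8396 : act 5 n1670 = n1170 := d38_1 D1670 (iv D1170) (iv F5959)
theorem F8397 : act 7 n1670 = n1670 := d43_1 D1670 (iv D1670) F5960
def n1671 : Q := act 7 n1166
theorem D1671 : act 7 n1166 = n1671 := rfl
theorem F8398 : act 0 n1671 = n1283 := d6_1 D1671 (iv D1283) (iv F5962)
theorem F8399 : act 1 n1671 = n1671 := d14_1 D1671 (iv D1671) F5963
theorem F8400 : act 3 n1671 = n1671 := d27_1 D1671 (iv D1671) F5964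
theorem F8401 : act 5 n1671 = n1671 := d36_1 D1671 (iv D1671) F5965
theorem F8402 : act 6 n1671 = n1671 := d39_1 D1671 (iv D1671) (iv D1166) F4232 D1166
theorem F8403 : act 8 n1671 = n1671 := d42_2 F5966 D1671 (iv D1671)
def n1672 : Q := act 9 n1166
theorem D1672 : act 9 n1166 = n1672 := rfl
theorem F8404 : act 0 n1672 = n1284 := d8_1 D1672 (iv D1284) (iv F5962)
theorem F8405 : act 1 n1672 = n1672 := d16_1 D1672 (iv D1672) F5963
theorem F8406 : act 3 n1672 = n1672 := d29_1 D1672 (iv D1672) F5964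
theorem F8407 : act 5 n1672 = n1672 := d38_1 D1672 (iv D1672) F5965
theorem F8408 : act 6 n1672 = n1167 := d41_1 D1672 (iv D1167) D1166
def n1673 : Q := act 8 n1167
theorem D1673 : act 8 n1167 = n1673 := rfl
theorem F8409 : act 0 n1673 = n1285 := d7_1 D1673 (iv D1285) (iv F5967)
theorem F8410 : act 1 n1673 = n1673 := d15_1 D1673 (iv D1673) F5968
theorem F8411 : act 3 n1673 = n1673 := d28_1 D1673 (iv D1673) F5969
theorem F8412 : act 5 n1673 = n1673 := d37_1 D1673 (iv D1673) F5970 F4240 (iv F5970)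
theorem F8413 : act 7 n1673 = n1673 := d42_1 D1673 (iv D1673) F5971
theorem F8414 : act 9 n1673 = n1673 := d44_2 D1167 D1673 (iv D1673) (iv D1167) F4233
def n1674 : Q := act 2 n1168
theorem D1674 : act 2 n1168 = n1674 := rfl
theorem F8415 : act 0 n1674 = n1286 := d1_1 D1674 (iv D1286) (iv F5972)
theorem F8416 : act 4 n1674 = n1201 := d18_2 (iv F5974) D1674 (iv D1201)
theorem F8417 : act 7 n1674 = n1674 := d21_2 F5975 D1674 (iv D1674)
theorem F8418 : act 8 n1674 = n1174 := d22_2 (iv F5976) D1674 (iv D1174)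
def n1675 : Q := act 6 n1168
theorem D1675 : act 6 n1168 = n1675 := rfl
theorem F8419 : act 0 n1675 = n1287 := d5_1 D1675 (iv D1287) (iv F5972)
theorem F8420 : act 1 n1675 = n1675 := d13_1 D1675 (iv D1675) F5973
theorem F8421 : act 3 n1675 = n1169 := d26_1 D1675 (iv D1169) D1168
theorem F8422 : act 4 n1675 = n1202 := d31_1 D1675 (iv D1202) (iv F5974)
theorem F8423 : act 8 n1675 = n1175 := d40_2 (iv F5976) D1675 (iv D1175)
def n1676 : Q := act 9 n1168
theorem D1676 : act 9 n1168 = n1676 := rfl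
theorem F8424 : act 0 n1676 = n1288 := d8_1 D1676 (iv D1288) (iv F5972)
theorem F8425 : act 1 n1676 = n1676 := d16_1 D1676 (iv D1676) F5973
theorem F8426 : act 3 n1676 = n1170 := d29_1 D1676 (iv D1170) D1168
theorem F8427 : act 4 n1676 = n1203 := d34_1 D1676 (iv D1203) (iv F5974)
theorem F8428 : act 7 n1676 = n1676 := d43_1 D1676 (iv D1676) F5975
def n1677 : Q := act 5 n1169
theorem D1677 : act 5 n1169 = n1677 := rfl
theorem F8429 : act 0 n1677 = n1289 := d4_1 D1677 (iv D1289) (iv F5977)
theorem F8430 : act 1 n1677 = n1677 := d12_1 D1677 (iv D1677) F5978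
theorem F8431 : act 4 n1677 = n1677 := d30_1 D1677 (iv D1677) F5979 F4248 (iv F5979)
def n1678 : Q := act 7 n1169
theorem D1678 : act 7 n1169 = n1678 := rfl
theorem F8432 : act 0 n1678 = n1290 := d6_1 D1678 (iv D1290) (iv F5977)
theorem F8433 : act 1 n1678 = n1678 := d14_1 D1678 (iv D1678) F5978
theorem F8434 : act 4 n1678 = n1171 := d32_1 D1678 (iv D1171) (iv F5979)
theorem F8435 : act 6 n1678 = n1678 := d39_1 D1678 (iv D1678) (iv D1169) F4243 D1169
theorem F8436 : act 8 n1678 = n1178 := d42_2 (iv F5980) D1678 (iv D1178)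
def n1679 : Q := act 9 n1169
theorem D1679 : act 9 n1169 = n1679 := rfl
theorem F8437 : act 0 n1679 = n1291 := d8_1 D1679 (iv D1291) (iv F5977)
theorem F8438 : act 1 n1679 = n1679 := d16_1 D1679 (iv D1679) F5978
theorem F8439 : act 4 n1679 = n1172 := d34_1 D1679 (iv D1172) (iv F5979)
theorem F8440 : act 6 n1679 = n1170 := d41_1 D1679 (iv D1170) D1169
def n1680 : Q := act 8 n1170
theorem D1680 : act 8 n1170 = n1680 := rfl
theorem F8441 : act 0 n1680 = n1292 := d7_1 D1680 (iv D1292) (iv F5981)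
theorem F8442 : act 1 n1680 = n1680 := d15_1 D1680 (iv D1680) F5982
theorem F8443 : act 4 n1680 = n1173 := d33_1 D1680 (iv D1173) (iv F5983)
theorem F8444 : act 7 n1680 = n1680 := d42_1 D1680 (iv D1680) F5984
theorem F8445 : act 9 n1680 = n1180 := d44_2 D1170 D1680 (iv D1180) (iv D819) (iv F4244)
def n1681 : Q := act 9 n1171
theorem D1681 : act 9 n1171 = n1681 := rfl
theorem F8446 : act 0 n1681 = n1293 := d8_1 D1681 (iv D1293) (iv F5985)
theorem F8447 : act 1 n1681 = n1681 := d16_1 D1681 (iv D1681) F5986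
theorem F8448 : act 3 n1681 = n1208 := d29_1 D1681 (iv D1208) (iv F5987)
theorem F8449 : act 5 n1681 = n1681 := d38_1 D1681 (iv D1681) F5988
theorem F8450 : act 6 n1681 = n1681 := d41_1 D1681 (iv D1681) F5989
theorem F8451 : act 7 n1681 = n1172 := d43_1 D1681 (iv D1172) D1171
def n1682 : Q := act 8 n1172
theorem D1682 : act 8 n1172 = n1682 := rfl
theorem F8452 : act 0 n1682 = n1294 := d7_1 D1682 (iv D1294) (iv F5991)
theorem F8453 : act 1 n1682 = n1682 := d15_1 D1682 (iv D1682) F5992
theorem F8454 : act 3 n1682 = n1209 := d28_1 D1682 (iv D1209) (iv F5993)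
theorem F8455 : act 6 n1682 = n1173 := d40_1 D1682 (iv D1173) (iv F5995)
theorem F8456 : act 9 n1682 = n1182 := d44_2 D1172 D1682 (iv D1182) (iv D821) (iv F4249)
def n1683 : Q := act 1 n1174
theorem D1683 : act 1 n1174 = n1683 := rfl
theorem F8457 : act 2 n1683 = n1683 := d9_2 D1174 D1683 (iv D1683) (iv D1174) F4256
theorem F8458 : act 4 n1683 = n1210 := d11_2 (iv F6003) D1683 (iv D1210)
theorem F8459 : act 5 n1683 = n1683 := d12_2 F6004 D1683 (iv D1683)
theorem F8460 : act 7 n1683 = n1683 := d14_2 F6005 D1683 (iv D1683)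
def n1684 : Q := act 6 n1174
theorem D1684 : act 6 n1174 = n1684 := rfl
theorem F8461 : act 0 n1684 = n1296 := d5_1 D1684 (iv D1296) (iv F6002)
theorem F8462 : act 2 n1684 = n1175 := d20_1 D1684 (iv D1175) D1174
theorem F8463 : act 4 n1684 = n1211 := d31_1 D1684 (iv D1211) (iv F6003)
def n1685 : Q := act 9 n1174
theorem D1685 : act 9 n1174 = n1685 := rfl
theorem F8464 : act 0 n1685 = n1297 := d8_1 D1685 (iv D1297) (iv F6002)
theorem F8465 : act 2 n1685 = n1176 := d23_1 D1685 (iv D1176) D1174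
theorem F8466 : act 4 n1685 = n1212 := d34_1 D1685 (iv D1212) (iv F6003)
theorem F8467 : act 5 n1685 = n1685 := d38_1 D1685 (iv D1685) F6004
theorem F8468 : act 7 n1685 = n1685 := d43_1 D1685 (iv D1685) F6005
def n1686 : Q := act 5 n1175
theorem D1686 : act 5 n1175 = n1686 := rfl
theorem F8469 : act 0 n1686 = n1298 := d4_1 D1686 (iv D1298) (iv F6006)
theorem F8470 : act 1 n1686 = n1686 := d12_1 D1686 (iv D1686) F6007
theorem F8471 : act 3 n1686 = n1177 := d25_1 D1686 (iv D1177) (iv F6008)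
theorem F8472 : act 4 n1686 = n1686 := d30_1 D1686 (iv D1686) F6009 F4399 (iv F6009)
theorem F8473 : act 6 n1686 = n1686 := d35_2 D1175 D1686 (iv D1686) (iv D1175) F4258
def n1687 : Q := act 7 n1175
theorem D1687 : act 7 n1175 = n1687 := rfl
theorem F8474 : act 0 n1687 = n1299 := d6_1 D1687 (iv D1299) (iv F6006)
theorem F8475 : act 1 n1687 = n1687 := d14_1 D1687 (iv D1687) F6007
theorem F8476 : act 3 n1687 = n1178 := d27_1 D1687 (iv D1178) (iv F6008)
theorem F8477 : act 4 n1687 = n1213 := d32_1 D1687 (iv D1213) (iv F6009)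
theorem F8478 : act 6 n1687 = n1687 := d39_1 D1687 (iv D1687) (iv D1175) F4259 D1175
def n1688 : Q := act 9 n1175
theorem D1688 : act 9 n1175 = n1688 := rfl
theorem F8479 : act 0 n1688 = n1300 := d8_1 D1688 (iv D1300) (iv F6006)
theorem F8480 : act 1 n1688 = n1688 := d16_1 D1688 (iv D1688) F6007
theorem F8481 : act 3 n1688 = n1179 := d29_1 D1688 (iv D1179) (iv F6008)
theorem F8482 : act 4 n1688 = n1214 := d34_1 D1688 (iv D1214) (iv F6009)
theorem F8483 : act 6 n1688 = n1176 := d41_1 D1688 (iv D1176) D1175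
def n1689 : Q := act 8 n1176
theorem D1689 : act 8 n1176 = n1689 := rfl
theorem F8484 : act 0 n1689 = n1301 := d7_1 D1689 (iv D1301) (iv F6010)
theorem F8485 : act 1 n1689 = n1689 := d15_1 D1689 (iv D1689) F6011
theorem F8486 : act 3 n1689 = n1180 := d28_1 D1689 (iv D1180) (iv F6012)
theorem F8487 : act 4 n1689 = n1215 := d33_1 D1689 (iv D1215) (iv F6013)
theorem F8488 : act 7 n1689 = n1689 := d42_1 D1689 (iv D1689) F6015
def n1690 : Q := act 7 n1177
theorem D1690 : act 7 n1177 = n1690 := rfl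
theorem F8491 : act 4 n1690 = n1183 := d32_1 D1690 (iv D1183) (iv F6018)
theorem F8492 : act 5 n1690 = n1178 := d36_1 D1690 (iv D1178) D1177
def n1691 : Q := act 8 n1177
theorem D1691 : act 8 n1177 = n1691 := rfl
theorem F8493 : act 0 n1691 = n1303 := d7_1 D1691 (iv D1303) (iv F6016)
theorem F8494 : act 1 n1691 = n1691 := d15_1 D1691 (iv D1691) F6017
theorem F8495 : act 4 n1691 = n1184 := d33_1 D1691 (iv D1184) (iv F6018)
theorem F8496 : act 6 n1691 = n1691 := d40_1 D1691 (iv D1691) F6019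
def n1692 : Q := act 9 n1177
theorem D1692 : act 9 n1177 = n1692 := rfl
theorem F8497 : act 0 n1692 = n1304 := d8_1 D1692 (iv D1304) (iv F6016)
theorem F8498 : act 1 n1692 = n1692 := d16_1 D1692 (iv D1692) F6017
theorem F8499 : act 4 n1692 = n1185 := d34_1 D1692 (iv D1185) (iv F6018)
theorem F8500 : act 5 n1692 = n1179 := d38_1 D1692 (iv D1179) D1177
theorem F8501 : act 6 n1692 = n1692 := d41_1 D1692 (iv D1692) F6019
def n1693 : Q := act 9 n1178
theorem D1693 : act 9 n1178 = n1693 := rfl
theorem F8502 : act 0 n1693 = n1305 := d8_1 D1693 (iv D1305) (iv F6020)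
theorem F8503 : act 1 n1693 = n1693 := d16_1 D1693 (iv D1693) F6021
theorem F8504 : act 4 n1693 = n1181 := d34_1 D1693 (iv D1181) (iv F6022)
theorem F8505 : act 6 n1693 = n1693 := d41_1 D1693 (iv D1693) F6023
theorem F8506 : act 7 n1693 = n1179 := d43_1 D1693 (iv D1179) D1178
def n1694 : Q := act 8 n1179
theorem D1694 : act 8 n1179 = n1694 := rfl
theorem F8507 : act 0 n1694 = n1306 := d7_1 D1694 (iv D1306) (iv F6024)
theorem F8508 : act 1 n1694 = n1694 := d15_1 D1694 (iv D1694) F6025
theorem F8509 : act 4 n1694 = n1182 := d33_1 D1694 (iv D1182) (iv F6026)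
theorem F8510 : act 6 n1694 = n1180 := d40_1 D1694 (iv D1180) (iv F6027)
def n1695 : Q := act 5 n1180
theorem D1695 : act 5 n1180 = n1695 := rfl
theorem F8511 : act 0 n1695 = n1307 := d4_1 D1695 (iv D1307) (iv F6028)
theorem F8512 : act 1 n1695 = n1695 := d12_1 D1695 (iv D1695) F6029
theorem F8513 : act 4 n1695 = n1695 := d30_1 D1695 (iv D1695) F6030 F4281 (iv F6030)
theorem F8514 : act 7 n1695 = n1695 := d36_2 F6031 D1695 (iv D1695)
theorem F8515 : act 8 n1695 = n1695 := d37_2 D1180 D1695 (iv D1695) (iv D1180) F4266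
def n1696 : Q := act 8 n1181
theorem D1696 : act 8 n1181 = n1696 := rfl
theorem F8516 : act 0 n1696 = n1308 := d7_1 D1696 (iv D1308) (iv F6032)
theorem F8517 : act 1 n1696 = n1696 := d15_1 D1696 (iv D1696) F6033
theorem F8518 : act 3 n1696 = n1219 := d28_1 D1696 (iv D1219) (iv F6034)
theorem F8519 : act 6 n1696 = n1696 := d40_1 D1696 (iv D1696) F6036
theorem F8520 : act 7 n1696 = n1182 := d42_1 D1696 (iv D1182) (iv F6037)
def n1697 : Q := act 5 n1182
theorem D1697 : act 5 n1182 = n1697 := rfl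
theorem F8521 : act 0 n1697 = n1309 := d4_1 D1697 (iv D1309) (iv F6038)
theorem F8522 : act 1 n1697 = n1697 := d12_1 D1697 (iv D1697) F6039
theorem F8523 : act 3 n1697 = n1220 := d25_1 D1697 (iv D1220) (iv F6040)
theorem F8524 : act 6 n1697 = n1697 := d35_2 (iv F6041) D1697 (iv D1697) F6041 F4281
theorem F8525 : act 8 n1697 = n1190 := d37_2 D1182 D1697 (iv D1190) (iv D828) (iv F4276)
def n1698 : Q := act 6 n1183
theorem D1698 : act 6 n1183 = n1698 := rfl
theorem F8529 : act 5 n1698 = n1191 := d35_1 D1698 (iv D1191) F4318 (iv F4291) (iv F6045)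
def n1699 : Q := act 8 n1183
theorem D1699 : act 8 n1183 = n1699 := rfl
theorem F8535 : act 7 n1699 = n1184 := d42_1 D1699 (iv D1184) D1183
def n1701 : Q := act 9 n1184
theorem D1701 : act 9 n1184 = n1701 := rfl
theorem F8541 : act 0 n1701 = n1313 := d8_1 D1701 (iv D1313) (iv F6046)
theorem F8542 : act 1 n1701 = n1701 := d16_1 D1701 (iv D1701) F6047
theorem F8543 : act 3 n1701 = n1701 := d29_1 D1701 (iv D1701) F6048
theorem F8544 : act 5 n1701 = n1701 := d38_1 D1701 (iv D1701) F6049
theorem F8545 : act 6 n1701 = n1701 := d41_1 D1701 (iv D1701) F6050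
def n1702 : Q := act 8 n1185
theorem D1702 : act 8 n1185 = n1702 := rfl
theorem F8546 : act 0 n1702 = n1314 := d7_1 D1702 (iv D1314) (iv F6051)
theorem F8547 : act 1 n1702 = n1702 := d15_1 D1702 (iv D1702) F6052
theorem F8548 : act 3 n1702 = n1702 := d28_1 D1702 (iv D1702) F6053
theorem F8549 : act 6 n1702 = n1702 := d40_1 D1702 (iv D1702) F6055
def n1703 : Q := act 8 n1186
theorem D1703 : act 8 n1186 = n1703 := rfl
theorem F8553 : act 4 n1703 = n1189 := d33_1 D1703 (iv D1189) (iv F6059)
theorem F8555 : act 7 n1703 = n1187 := d42_1 D1703 (iv D1187) (iv F6061)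
def n1704 : Q := act 5 n1187
theorem D1704 : act 5 n1187 = n1704 := rfl
theorem F8557 : act 0 n1704 = n1316 := d4_1 D1704 (iv D1316) (iv F6062)
theorem F8558 : act 1 n1704 = n1704 := d12_1 D1704 (iv D1704) F6063
theorem F8559 : act 3 n1704 = n1704 := d25_1 D1704 (iv D1704) F6064
theorem F8560 : act 9 n1704 = n1704 := d38_2 F6067 D1704 (iv D1704)
def n1705 : Q := act 6 n1188
theorem D1705 : act 6 n1188 = n1705 := rfl
theorem F8561 : act 0 n1705 = n1317 := d5_1 D1705 (iv D1317) (iv F6068)
theorem F8562 : act 1 n1705 = n1705 := d13_1 D1705 (iv D1705) F6069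
theorem F8563 : act 3 n1705 = n1705 := d26_1 D1705 (iv D1705) F6070
theorem F8564 : act 4 n1705 = n1705 := d31_1 D1705 (iv D1705) F6071
theorem F8565 : act 8 n1705 = n1705 := d40_2 F6073 D1705 (iv D1705)
theorem F8566 : act 9 n1705 = n1705 := d41_2 F6074 D1705 (iv D1705)
def n1706 : Q := act 5 n1189
theorem D1706 : act 5 n1189 = n1706 := rfl
theorem F8567 : act 0 n1706 = n1318 := d4_1 D1706 (iv D1318) (iv F6075)
theorem F8568 : act 1 n1706 = n1706 := d12_1 D1706 (iv D1706) F6076
theorem F8569 : act 3 n1706 = n1221 := d25_1 D1706 (iv D1221) (iv F6077)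
theorem F8570 : act 7 n1706 = n1190 := d36_2 (iv F6079) D1706 (iv D1190)
theorem F8571 : act 9 n1706 = n1706 := d38_2 F6080 D1706 (iv D1706)
def n1707 : Q := act 4 n1190
theorem D1707 : act 4 n1190 = n1707 := rfl
theorem F8572 : act 0 n1707 = n1319 := d3_1 D1707 (iv D1319) (iv F6081)
theorem F8573 : act 1 n1707 = n1707 := d11_1 D1707 (iv D1707) F6082
theorem F8574 : act 6 n1707 = n1707 := d31_2 F6084 D1707 (iv D1707)
theorem F8575 : act 9 n1707 = n1707 := d34_2 F6085 D1707 (iv D1707)
def n1708 : Q := act 8 n1191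
theorem D1708 : act 8 n1191 = n1708 := rfl
theorem F8580 : act 6 n1708 = n1192 := d40_1 D1708 (iv D1192) D1191
def n1718 : Q := act 4 n1199
theorem D1718 : act 4 n1199 = n1718 := rfl
def n1719 : Q := act 6 n1199
theorem D1719 : act 6 n1199 = n1719 := rfl
theorem F8634 : act 0 n1719 = n1331 := d5_1 D1719 (iv D1331) (iv F6130)
theorem F8635 : act 1 n1719 = n1719 := d13_1 D1719 (iv D1719) F6131
theorem F8636 : act 3 n1719 = n1224 := d26_1 D1719 (iv D1224) (iv F6132)
theorem F8637 : act 7 n1719 = n1719 := d39_2 (iv F6133) D1719 (iv D1719) F6133 F4356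
theorem F8638 : act 8 n1719 = n1719 := d40_2 F6134 D1719 (iv D1719)
theorem F8639 : act 9 n1719 = n1719 := d41_2 F6135 D1719 (iv D1719)
def n1721 : Q := act 1 n1201
theorem D1721 : act 1 n1201 = n1721 := rfl
theorem F8646 : act 2 n1721 = n1721 := d9_2 D1201 D1721 (iv D1721) (iv D1201) F4360
theorem F8647 : act 3 n1721 = n1721 := d10_2 F6142 D1721 (iv D1721)
theorem F8648 : act 5 n1721 = n1721 := d12_2 F6143 D1721 (iv D1721)
theorem F8649 : act 7 n1721 = n1721 := d14_2 F6144 D1721 (iv D1721)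
theorem F8650 : act 8 n1721 = n1210 := d15_2 (iv F6145) D1721 (iv D1210)
def n1722 : Q := act 6 n1201
theorem D1722 : act 6 n1201 = n1722 := rfl
theorem F8651 : act 0 n1722 = n1334 := d5_1 D1722 (iv D1334) (iv F6141)
theorem F8652 : act 2 n1722 = n1202 := d20_1 D1722 (iv D1202) D1201
theorem F8653 : act 3 n1722 = n1722 := d26_1 D1722 (iv D1722) F6142
theorem F8654 : act 8 n1722 = n1211 := d40_2 (iv F6145) D1722 (iv D1211)
def n1723 : Q := act 9 n1201
theorem D1723 : act 9 n1201 = n1723 := rfl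
theorem F8655 : act 0 n1723 = n1335 := d8_1 D1723 (iv D1335) (iv F6141)
theorem F8656 : act 2 n1723 = n1203 := d23_1 D1723 (iv D1203) D1201
theorem F8657 : act 3 n1723 = n1723 := d29_1 D1723 (iv D1723) F6142
theorem F8658 : act 5 n1723 = n1723 := d38_1 D1723 (iv D1723) F6143
theorem F8659 : act 7 n1723 = n1723 := d43_1 D1723 (iv D1723) F6144
def n1724 : Q := act 5 n1202
theorem D1724 : act 5 n1202 = n1724 := rfl
theorem F8660 : act 0 n1724 = n1336 := d4_1 D1724 (iv D1336) (iv F6146)
theorem F8661 : act 1 n1724 = n1724 := d12_1 D1724 (iv D1724) F6147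
theorem F8662 : act 3 n1724 = n1204 := d25_1 D1724 (iv D1204) (iv F6148)
theorem F8663 : act 6 n1724 = n1724 := d35_2 D1202 D1724 (iv D1724) (iv D1202) F4361
theorem F8664 : act 8 n1724 = n1724 := d37_2 (iv F6149) D1724 (iv D1724) F6149 F4399
def n1725 : Q := act 7 n1202
theorem D1725 : act 7 n1202 = n1725 := rfl
theorem F8665 : act 0 n1725 = n1337 := d6_1 D1725 (iv D1337) (iv F6146)
theorem F8666 : act 1 n1725 = n1725 := d14_1 D1725 (iv D1725) F6147
theorem F8667 : act 3 n1725 = n1205 := d27_1 D1725 (iv D1205) (iv F6148)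
theorem F8668 : act 6 n1725 = n1725 := d39_1 D1725 (iv D1725) (iv D1202) F4362 D1202
theorem F8669 : act 8 n1725 = n1213 := d42_2 (iv F6149) D1725 (iv D1213)
def n1726 : Q := act 9 n1202
theorem D1726 : act 9 n1202 = n1726 := rfl
theorem F8670 : act 0 n1726 = n1338 := d8_1 D1726 (iv D1338) (iv F6146)
theorem F8671 : act 1 n1726 = n1726 := d16_1 D1726 (iv D1726) F6147
theorem F8672 : act 3 n1726 = n1206 := d29_1 D1726 (iv D1206) (iv F6148)
theorem F8673 : act 6 n1726 = n1203 := d41_1 D1726 (iv D1203) D1202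
def n1727 : Q := act 8 n1203
theorem D1727 : act 8 n1203 = n1727 := rfl
theorem F8674 : act 0 n1727 = n1339 := d7_1 D1727 (iv D1339) (iv F6150)
theorem F8675 : act 1 n1727 = n1727 := d15_1 D1727 (iv D1727) F6151
theorem F8676 : act 3 n1727 = n1207 := d28_1 D1727 (iv D1207) (iv F6152)
theorem F8677 : act 7 n1727 = n1727 := d42_1 D1727 (iv D1727) F6154
theorem F8678 : act 9 n1727 = n1215 := d44_2 D1203 D1727 (iv D1215) (iv D845) (iv F4363)
def n1728 : Q := act 7 n1204
theorem D1728 : act 7 n1204 = n1728 := rfl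
theorem F8679 : act 0 n1728 = n1340 := d6_1 D1728 (iv D1340) (iv F6155)
theorem F8680 : act 1 n1728 = n1728 := d14_1 D1728 (iv D1728) F6156
theorem F8681 : act 2 n1728 = n1728 := d21_1 D1728 (iv D1728) F6157
theorem F8682 : act 4 n1728 = n1728 := d32_1 D1728 (iv D1728) F6158
theorem F8683 : act 5 n1728 = n1205 := d36_1 D1728 (iv D1205) D1204
theorem F8684 : act 8 n1728 = n1728 := d42_2 F6160 D1728 (iv D1728)
def n1729 : Q := act 9 n1204
theorem D1729 : act 9 n1204 = n1729 := rfl
theorem F8685 : act 0 n1729 = n1341 := d8_1 D1729 (iv D1341) (iv F6155)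
theorem F8686 : act 1 n1729 = n1729 := d16_1 D1729 (iv D1729) F6156
theorem F8687 : act 2 n1729 = n1729 := d23_1 D1729 (iv D1729) F6157
theorem F8688 : act 4 n1729 = n1729 := d34_1 D1729 (iv D1729) F6158
theorem F8689 : act 5 n1729 = n1206 := d38_1 D1729 (iv D1206) D1204
theorem F8690 : act 6 n1729 = n1729 := d41_1 D1729 (iv D1729) F6159
def n1730 : Q := act 9 n1205
theorem D1730 : act 9 n1205 = n1730 := rfl
theorem F8691 : act 0 n1730 = n1342 := d8_1 D1730 (iv D1342) (iv F6161)
theorem F8692 : act 1 n1730 = n1730 := d16_1 D1730 (iv D1730) F6162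
theorem F8693 : act 2 n1730 = n1730 := d23_1 D1730 (iv D1730) F6163
theorem F8694 : act 4 n1730 = n1208 := d34_1 D1730 (iv D1208) (iv F6164)
theorem F8695 : act 6 n1730 = n1730 := d41_1 D1730 (iv D1730) F6165
theorem F8696 : act 7 n1730 = n1206 := d43_1 D1730 (iv D1206) D1205
def n1731 : Q := act 8 n1206
theorem D1731 : act 8 n1206 = n1731 := rfl
theorem F8697 : act 0 n1731 = n1343 := d7_1 D1731 (iv D1343) (iv F6167)
theorem F8698 : act 1 n1731 = n1731 := d15_1 D1731 (iv D1731) F6168
theorem F8699 : act 2 n1731 = n1731 := d22_1 D1731 (iv D1731) F6169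
theorem F8700 : act 4 n1731 = n1209 := d33_1 D1731 (iv D1209) (iv F6170)
theorem F8701 : act 6 n1731 = n1207 := d40_1 D1731 (iv D1207) (iv F6171)
theorem F8702 : act 9 n1731 = n1217 := d44_2 D1206 D1731 (iv D1217) (iv D847) (iv F4368)
def n1732 : Q := act 5 n1207
theorem D1732 : act 5 n1207 = n1732 := rfl
theorem F8703 : act 0 n1732 = n1344 := d4_1 D1732 (iv D1344) (iv F6172)
theorem F8704 : act 1 n1732 = n1732 := d12_1 D1732 (iv D1732) F6173
theorem F8705 : act 2 n1732 = n1732 := d19_1 D1732 (iv D1732) F6174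
theorem F8706 : act 4 n1732 = n1732 := d30_1 D1732 (iv D1732) F6175 F4389 (iv F6175)
theorem F8707 : act 7 n1732 = n1732 := d36_2 F6176 D1732 (iv D1732)
theorem F8708 : act 8 n1732 = n1732 := d37_2 D1207 D1732 (iv D1732) (iv D1207) F4373
theorem F8709 : act 9 n1732 = n1218 := d38_2 (iv F6177) D1732 (iv D1218)
def n1733 : Q := act 8 n1208
theorem D1733 : act 8 n1208 = n1733 := rfl
theorem F8710 : act 0 n1733 = n1345 := d7_1 D1733 (iv D1345) (iv F6178)
theorem F8711 : act 1 n1733 = n1733 := d15_1 D1733 (iv D1733) F6179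
theorem F8712 : act 2 n1733 = n1733 := d22_1 D1733 (iv D1733) F6180
theorem F8713 : act 6 n1733 = n1733 := d40_1 D1733 (iv D1733) F6182
theorem F8714 : act 7 n1733 = n1209 := d42_1 D1733 (iv D1209) (iv F6183)
theorem F8715 : act 9 n1733 = n1219 := d44_2 D1208 D1733 (iv D1219) (iv D849) (iv F4380)
def n1734 : Q := act 5 n1209
theorem D1734 : act 5 n1209 = n1734 := rfl
theorem F8716 : act 0 n1734 = n1346 := d4_1 D1734 (iv D1346) (iv F6184)
theorem F8717 : act 1 n1734 = n1734 := d12_1 D1734 (iv D1734) F6185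
theorem F8718 : act 2 n1734 = n1734 := d19_1 D1734 (iv D1734) F6186
theorem F8719 : act 6 n1734 = n1734 := d35_2 (iv F6187) D1734 (iv D1734) F6187 F4389
theorem F8720 : act 8 n1734 = n1734 := d37_2 D1209 D1734 (iv D1734) (iv D1209) F4384
theorem F8721 : act 9 n1734 = n1220 := d38_2 (iv F6188) D1734 (iv D1220)
def n1735 : Q := act 0 n1210
theorem D1735 : act 0 n1210 = n1735 := rfl
theorem F8722 : act 1 n1735 = n1347 := d0_2 D1210 D1735 (iv D1347) (iv D936) (iv F4392)
theorem F8723 : act 2 n1735 = n1735 := d1_2 F6189 D1735 (iv D1735)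
theorem F8724 : act 3 n1735 = n1735 := d2_2 F6190 D1735 (iv D1735)
theorem F8725 : act 5 n1735 = n1226 := d4_2 (iv F6191) D1735 (iv D1226)
theorem F8726 : act 7 n1735 = n1735 := d6_2 F6192 D1735 (iv D1735)
def n1736 : Q := act 6 n1210
theorem D1736 : act 6 n1210 = n1736 := rfl
theorem F8727 : act 1 n1736 = n1211 := d13_1 D1736 (iv D1211) D1210
theorem F8728 : act 2 n1736 = n1736 := d20_1 D1736 (iv D1736) F6189
theorem F8729 : act 3 n1736 = n1736 := d26_1 D1736 (iv D1736) F6190
theorem F8730 : act 5 n1736 = n1736 := d35_1 D1736 (iv D1736) F6191 F4460 (iv F6191)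
def n1737 : Q := act 9 n1210
theorem D1737 : act 9 n1210 = n1737 := rfl
theorem F8731 : act 1 n1737 = n1212 := d16_1 D1737 (iv D1212) D1210
theorem F8732 : act 2 n1737 = n1737 := d23_1 D1737 (iv D1737) F6189
theorem F8733 : act 3 n1737 = n1737 := d29_1 D1737 (iv D1737) F6190
theorem F8734 : act 5 n1737 = n1227 := d38_1 D1737 (iv D1227) (iv F6191)
theorem F8735 : act 7 n1737 = n1737 := d43_1 D1737 (iv D1737) F6192
def n1738 : Q := act 7 n1211
theorem D1738 : act 7 n1211 = n1738 := rfl
theorem F8736 : act 0 n1738 = n1350 := d6_1 D1738 (iv D1350) (iv F6193)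
theorem F8737 : act 2 n1738 = n1213 := d21_1 D1738 (iv D1213) (iv F6194)
theorem F8738 : act 3 n1738 = n1738 := d27_1 D1738 (iv D1738) F6195
theorem F8739 : act 5 n1738 = n1738 := d36_1 D1738 (iv D1738) F6196
theorem F8740 : act 6 n1738 = n1738 := d39_1 D1738 (iv D1738) (iv D1211) F4395 D1211
def n1739 : Q := act 9 n1211
theorem D1739 : act 9 n1211 = n1739 := rfl
theorem F8741 : act 0 n1739 = n1351 := d8_1 D1739 (iv D1351) (iv F6193)
theorem F8742 : act 2 n1739 = n1214 := d23_1 D1739 (iv D1214) (iv F6194)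
theorem F8743 : act 3 n1739 = n1739 := d29_1 D1739 (iv D1739) F6195
theorem F8744 : act 5 n1739 = n1739 := d38_1 D1739 (iv D1739) F6196
theorem F8745 : act 6 n1739 = n1212 := d41_1 D1739 (iv D1212) D1211
def n1740 : Q := act 8 n1212
theorem D1740 : act 8 n1212 = n1740 := rfl
theorem F8746 : act 0 n1740 = n1352 := d7_1 D1740 (iv D1352) (iv F6197)
theorem F8747 : act 2 n1740 = n1215 := d22_1 D1740 (iv D1215) (iv F6198)
theorem F8748 : act 3 n1740 = n1740 := d28_1 D1740 (iv D1740) F6199
theorem F8749 : act 7 n1740 = n1740 := d42_1 D1740 (iv D1740) F6201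
def n1741 : Q := act 9 n1213
theorem D1741 : act 9 n1213 = n1741 := rfl
theorem F8750 : act 0 n1741 = n1353 := d8_1 D1741 (iv D1353) (iv F6202)
theorem F8751 : act 1 n1741 = n1741 := d16_1 D1741 (iv D1741) F6203
theorem F8752 : act 3 n1741 = n1216 := d29_1 D1741 (iv D1216) (iv F6204)
theorem F8753 : act 5 n1741 = n1741 := d38_1 D1741 (iv D1741) F6205
theorem F8754 : act 6 n1741 = n1741 := d41_1 D1741 (iv D1741) F6206
theorem F8755 : act 7 n1741 = n1214 := d43_1 D1741 (iv D1214) D1213
def n1742 : Q := act 8 n1214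
theorem D1742 : act 8 n1214 = n1742 := rfl
theorem F8756 : act 0 n1742 = n1354 := d7_1 D1742 (iv D1354) (iv F6207)
theorem F8757 : act 1 n1742 = n1742 := d15_1 D1742 (iv D1742) F6208
theorem F8758 : act 3 n1742 = n1217 := d28_1 D1742 (iv D1217) (iv F6209)
theorem F8759 : act 6 n1742 = n1215 := d40_1 D1742 (iv D1215) (iv F6211)
def n1743 : Q := act 5 n1215
theorem D1743 : act 5 n1215 = n1743 := rfl
theorem F8760 : act 0 n1743 = n1355 := d4_1 D1743 (iv D1355) (iv F6212)
theorem F8761 : act 1 n1743 = n1743 := d12_1 D1743 (iv D1743) F6213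
theorem F8762 : act 3 n1743 = n1218 := d25_1 D1743 (iv D1218) (iv F6214)
theorem F8763 : act 7 n1743 = n1743 := d36_2 F6215 D1743 (iv D1743)
theorem F8764 : act 8 n1743 = n1229 := d37_2 D1215 D1743 (iv D1229) (iv D857) (iv F4403)
def n1744 : Q := act 8 n1216
theorem D1744 : act 8 n1216 = n1744 := rfl
theorem F8765 : act 0 n1744 = n1356 := d7_1 D1744 (iv D1356) (iv F6216)
theorem F8766 : act 1 n1744 = n1744 := d15_1 D1744 (iv D1744) F6217
theorem F8767 : act 2 n1744 = n1744 := d22_1 D1744 (iv D1744) F6218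
theorem F8768 : act 4 n1744 = n1219 := d33_1 D1744 (iv D1219) (iv F6219)
theorem F8769 : act 6 n1744 = n1744 := d40_1 D1744 (iv D1744) F6221
theorem F8770 : act 7 n1744 = n1217 := d42_1 D1744 (iv D1217) (iv F6222)
def n1745 : Q := act 5 n1217
theorem D1745 : act 5 n1217 = n1745 := rfl
theorem F8771 : act 0 n1745 = n1357 := d4_1 D1745 (iv D1357) (iv F6223)
theorem F8772 : act 1 n1745 = n1745 := d12_1 D1745 (iv D1745) F6224
theorem F8773 : act 2 n1745 = n1745 := d19_1 D1745 (iv D1745) F6225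
theorem F8774 : act 8 n1745 = n1745 := d37_2 D1217 D1745 (iv D1745) (iv D1217) F4415
def n1746 : Q := act 6 n1218
theorem D1746 : act 6 n1218 = n1746 := rfl
theorem F8775 : act 0 n1746 = n1358 := d5_1 D1746 (iv D1358) (iv F6228)
theorem F8776 : act 1 n1746 = n1746 := d13_1 D1746 (iv D1746) F6229
theorem F8777 : act 2 n1746 = n1746 := d20_1 D1746 (iv D1746) F6230
theorem F8778 : act 4 n1746 = n1746 := d31_1 D1746 (iv D1746) F6231
theorem F8779 : act 8 n1746 = n1230 := d40_2 (iv F6233) D1746 (iv D1230)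
def n1747 : Q := act 5 n1219
theorem D1747 : act 5 n1219 = n1747 := rfl
theorem F8780 : act 0 n1747 = n1359 := d4_1 D1747 (iv D1359) (iv F6234)
theorem F8781 : act 1 n1747 = n1747 := d12_1 D1747 (iv D1747) F6235
theorem F8782 : act 2 n1747 = n1747 := d19_1 D1747 (iv D1747) F6236
theorem F8783 : act 7 n1747 = n1220 := d36_2 (iv F6238) D1747 (iv D1220)
theorem F8784 : act 8 n1747 = n1221 := d37_2 D1219 D1747 (iv D1221) (iv D851) (iv F4425)
def n1748 : Q := act 4 n1220
theorem D1748 : act 4 n1220 = n1748 := rfl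
theorem F8785 : act 0 n1748 = n1360 := d3_1 D1748 (iv D1360) (iv F6239)
theorem F8786 : act 1 n1748 = n1748 := d11_1 D1748 (iv D1748) F6240
theorem F8787 : act 2 n1748 = n1748 := d18_1 D1748 (iv D1748) F6241
theorem F8788 : act 6 n1748 = n1748 := d31_2 F6242 D1748 (iv D1748)
theorem F8789 : act 8 n1748 = n1222 := d33_2 (iv F6243) D1748 (iv D1222)
def n1749 : Q := act 4 n1221
theorem D1749 : act 4 n1221 = n1749 := rfl
theorem F8790 : act 0 n1749 = n1361 := d3_1 D1749 (iv D1361) (iv F6244)
theorem F8791 : act 1 n1749 = n1749 := d11_1 D1749 (iv D1749) F6245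
theorem F8792 : act 2 n1749 = n1749 := d18_1 D1749 (iv D1749) F6246
theorem F8793 : act 5 n1749 = n1749 := d30_2 D1221 D1749 (iv D1749) (iv D1221) F4435
theorem F8794 : act 7 n1749 = n1222 := d32_2 (iv F6247) D1749 (iv D1222)
theorem F8795 : act 9 n1749 = n1749 := d34_2 F6248 D1749 (iv D1749)
def n1750 : Q := act 6 n1221
theorem D1750 : act 6 n1221 = n1750 := rfl
theorem F8796 : act 0 n1750 = n1362 := d5_1 D1750 (iv D1362) (iv F6244)
theorem F8797 : act 1 n1750 = n1750 := d13_1 D1750 (iv D1750) F6245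
theorem F8798 : act 2 n1750 = n1750 := d20_1 D1750 (iv D1750) F6246
theorem F8799 : act 5 n1750 = n1224 := d35_1 D1750 (iv D1224) (iv D853) (iv F4436) D1221
theorem F8800 : act 7 n1750 = n1750 := d39_2 (iv F6247) D1750 (iv D1750) F6247 F4442
theorem F8801 : act 9 n1750 = n1750 := d41_2 F6248 D1750 (iv D1750)
def n1751 : Q := act 3 n1222
theorem D1751 : act 3 n1222 = n1751 := rfl
theorem F8802 : act 0 n1751 = n1363 := d2_1 D1751 (iv D1363) (iv F6249)
theorem F8803 : act 1 n1751 = n1751 := d10_1 D1751 (iv D1751) F6250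
theorem F8804 : act 5 n1751 = n1751 := d25_2 F6252 D1751 (iv D1751)
theorem F8805 : act 6 n1751 = n1751 := d26_2 F6253 D1751 (iv D1751)
theorem F8806 : act 9 n1751 = n1751 := d29_2 F6254 D1751 (iv D1751)
def n1752 : Q := act 3 n1223
theorem D1752 : act 3 n1223 = n1752 := rfl
def n1753 : Q := act 6 n1223
theorem D1753 : act 6 n1223 = n1753 := rfl
theorem F8816 : act 4 n1753 = n1224 := d31_1 D1753 (iv D1224) D1223
def n1755 : Q := act 9 n1226
theorem D1755 : act 9 n1226 = n1755 := rfl
theorem F8826 : act 0 n1755 = n1227 := d8_1 D1755 (iv D1227) D1226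
theorem F8827 : act 1 n1755 = n1367 := d16_1 D1755 (iv D1367) (iv F6274)
theorem F8828 : act 2 n1755 = n1755 := d23_1 D1755 (iv D1755) F6275
theorem F8829 : act 3 n1755 = n1755 := d29_1 D1755 (iv D1755) F6276
theorem F8830 : act 4 n1755 = n1755 := d34_1 D1755 (iv D1755) F6277
theorem F8831 : act 6 n1755 = n1755 := d41_1 D1755 (iv D1755) F6278
theorem F8832 : act 7 n1755 = n1755 := d43_1 D1755 (iv D1755) F6279
def n1756 : Q := act 8 n1227
theorem D1756 : act 8 n1227 = n1756 := rfl
theorem F8833 : act 1 n1756 = n1228 := d15_1 D1756 (iv D1228) (iv F6281)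
theorem F8834 : act 2 n1756 = n1756 := d22_1 D1756 (iv D1756) F6282
theorem F8835 : act 3 n1756 = n1756 := d28_1 D1756 (iv D1756) F6283
theorem F8836 : act 4 n1756 = n1756 := d33_1 D1756 (iv D1756) F6284
theorem F8837 : act 6 n1756 = n1756 := d40_1 D1756 (iv D1756) F6285
theorem F8838 : act 7 n1756 = n1756 := d42_1 D1756 (iv D1756) F6286
theorem F8839 : act 9 n1756 = n1756 := d44_2 D1227 D1756 (iv D1756) (iv D1227) F4462
def n1757 : Q := act 5 n1228
theorem D1757 : act 5 n1228 = n1757 := rfl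
theorem F8840 : act 0 n1757 = n1369 := d4_1 D1757 (iv D1369) (iv F6287)
theorem F8841 : act 2 n1757 = n1229 := d19_1 D1757 (iv D1229) (iv F6288)
theorem F8842 : act 3 n1757 = n1757 := d25_1 D1757 (iv D1757) F6289
theorem F8843 : act 7 n1757 = n1757 := d36_2 F6292 D1757 (iv D1757)
theorem F8844 : act 9 n1757 = n1757 := d38_2 F6293 D1757 (iv D1757)
def n1758 : Q := act 4 n1229
theorem D1758 : act 4 n1229 = n1758 := rfl
theorem F8845 : act 0 n1758 = n1370 := d3_1 D1758 (iv D1370) (iv F6294)
theorem F8846 : act 1 n1758 = n1758 := d11_1 D1758 (iv D1758) F6295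
theorem F8847 : act 3 n1758 = n1758 := d24_1 D1758 (iv D1758) F6296 F4479 (iv F6296)
theorem F8848 : act 5 n1758 = n1758 := d30_2 D1229 D1758 (iv D1758) (iv D1229) F4472
theorem F8849 : act 7 n1758 = n1758 := d32_2 F6297 D1758 (iv D1758)
theorem F8850 : act 9 n1758 = n1758 := d34_2 F6298 D1758 (iv D1758)
def n1759 : Q := act 6 n1229
theorem D1759 : act 6 n1229 = n1759 := rfl
theorem F8851 : act 0 n1759 = n1371 := d5_1 D1759 (iv D1371) (iv F6294)
theorem F8852 : act 1 n1759 = n1759 := d13_1 D1759 (iv D1759) F6295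
theorem F8853 : act 3 n1759 = n1230 := d26_1 D1759 (iv D1230) (iv F6296)
theorem F8854 : act 5 n1759 = n1759 := d35_1 D1759 (iv D1759) (iv D1229) F4473 D1229
theorem F8855 : act 9 n1759 = n1759 := d41_2 F6298 D1759 (iv D1759)
def n1760 : Q := act 7 n1230
theorem D1760 : act 7 n1230 = n1760 := rfl
theorem F8856 : act 0 n1760 = n1372 := d6_1 D1760 (iv D1372) (iv F6299)
theorem F8857 : act 1 n1760 = n1760 := d14_1 D1760 (iv D1760) F6300
theorem F8858 : act 2 n1760 = n1760 := d21_1 D1760 (iv D1760) F6301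
theorem F8859 : act 4 n1760 = n1760 := d32_1 D1760 (iv D1760) F6302
theorem F8860 : act 5 n1760 = n1760 := d36_1 D1760 (iv D1760) F6303
theorem F8861 : act 6 n1760 = n1760 := d39_1 D1760 (iv D1760) (iv D1230) F4480 D1230
theorem F8862 : act 9 n1760 = n1760 := d43_2 F6304 D1760 (iv D1760)
def n1761 : Q := act 4 n1231
theorem D1761 : act 4 n1231 = n1761 := rfl
theorem F8863 : act 1 n1761 = n1761 := d11_1 D1761 (iv D1761) F6305
theorem F8864 : act 2 n1761 = n1761 := d18_1 D1761 (iv D1761) F6306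
theorem F8865 : act 5 n1761 = n1761 := d30_2 D1231 D1761 (iv D1761) (iv D1231) F4485
theorem F8866 : act 7 n1761 = n1761 := d32_2 F6308 D1761 (iv D1761)
theorem F8867 : act 8 n1761 = n1761 := d33_2 F6309 D1761 (iv D1761)
def n1762 : Q := act 6 n1231
theorem D1762 : act 6 n1231 = n1762 := rfl
theorem F8868 : act 1 n1762 = n1762 := d13_1 D1762 (iv D1762) F6305
theorem F8869 : act 2 n1762 = n1762 := d20_1 D1762 (iv D1762) F6306
theorem F8870 : act 3 n1762 = n1234 := d26_1 D1762 (iv D1234) (iv F6307)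
theorem F8871 : act 5 n1762 = n1762 := d35_1 D1762 (iv D1762) (iv D1231) F4486 D1231
theorem F8872 : act 8 n1762 = n1762 := d40_2 F6309 D1762 (iv D1762)
def n1763 : Q := act 9 n1231
theorem D1763 : act 9 n1231 = n1763 := rfl
theorem F8873 : act 1 n1763 = n1763 := d16_1 D1763 (iv D1763) F6305
theorem F8874 : act 2 n1763 = n1763 := d23_1 D1763 (iv D1763) F6306
theorem F8875 : act 3 n1763 = n1235 := d29_1 D1763 (iv D1235) (iv F6307)
theorem F8876 : act 5 n1763 = n1232 := d38_1 D1763 (iv D1232) D1231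
theorem F8877 : act 7 n1763 = n1763 := d43_1 D1763 (iv D1763) F6308
def n1764 : Q := act 3 n1233
theorem D1764 : act 3 n1233 = n1764 := rfl
theorem F8878 : act 1 n1764 = n1764 := d10_1 D1764 (iv D1764) F6317
theorem F8879 : act 5 n1764 = n1236 := d25_2 (iv F6319) D1764 (iv D1236)
theorem F8880 : act 7 n1764 = n1764 := d27_2 F6320 D1764 (iv D1764)
theorem F8881 : act 8 n1764 = n1764 := d28_2 F6321 D1764 (iv D1764)
def n1765 : Q := act 6 n1233
theorem D1765 : act 6 n1233 = n1765 := rfl
theorem F8882 : act 1 n1765 = n1765 := d13_1 D1765 (iv D1765) F6317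
theorem F8883 : act 2 n1765 = n1281 := d20_1 D1765 (iv D1281) (iv F6318)
theorem F8884 : act 4 n1765 = n1234 := d31_1 D1765 (iv D1234) D1233
theorem F8885 : act 8 n1765 = n1765 := d40_2 F6321 D1765 (iv D1765)
def n1766 : Q := act 9 n1233
theorem D1766 : act 9 n1233 = n1766 := rfl
theorem F8886 : act 1 n1766 = n1766 := d16_1 D1766 (iv D1766) F6317
theorem F8887 : act 2 n1766 = n1282 := d23_1 D1766 (iv D1282) (iv F6318)
theorem F8888 : act 4 n1766 = n1235 := d34_1 D1766 (iv D1235) D1233
theorem F8889 : act 5 n1766 = n1238 := d38_1 D1766 (iv D1238) (iv F6319)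
theorem F8890 : act 7 n1766 = n1766 := d43_1 D1766 (iv D1766) F6320
def n1767 : Q := act 7 n1234
theorem D1767 : act 7 n1234 = n1767 := rfl
theorem F8891 : act 1 n1767 = n1767 := d14_1 D1767 (iv D1767) F6322
theorem F8892 : act 2 n1767 = n1283 := d21_1 D1767 (iv D1283) (iv F6323)
theorem F8893 : act 5 n1767 = n1767 := d36_1 D1767 (iv D1767) F6324
theorem F8894 : act 6 n1767 = n1767 := d39_1 D1767 (iv D1767) (iv D1234) F4490 D1234
theorem F8895 : act 8 n1767 = n1767 := d42_2 F6325 D1767 (iv D1767)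
def n1768 : Q := act 9 n1234
theorem D1768 : act 9 n1234 = n1768 := rfl
theorem F8896 : act 1 n1768 = n1768 := d16_1 D1768 (iv D1768) F6322
theorem F8897 : act 2 n1768 = n1284 := d23_1 D1768 (iv D1284) (iv F6323)
theorem F8898 : act 5 n1768 = n1768 := d38_1 D1768 (iv D1768) F6324
theorem F8899 : act 6 n1768 = n1235 := d41_1 D1768 (iv D1235) D1234
def n1769 : Q := act 8 n1235
theorem D1769 : act 8 n1235 = n1769 := rfl
theorem F8900 : act 1 n1769 = n1769 := d15_1 D1769 (iv D1769) F6326
theorem F8901 : act 2 n1769 = n1285 := d22_1 D1769 (iv D1285) (iv F6327)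
theorem F8902 : act 5 n1769 = n1769 := d37_1 D1769 (iv D1769) F6328 F4497 (iv F6328)
theorem F8903 : act 7 n1769 = n1769 := d42_1 D1769 (iv D1769) F6329
theorem F8904 : act 9 n1769 = n1769 := d44_2 D1235 D1769 (iv D1769) (iv D1235) F4491
def n1770 : Q := act 2 n1236
theorem D1770 : act 2 n1236 = n1770 := rfl
theorem F8905 : act 3 n1770 = n1286 := d17_2 D1236 D1770 (iv D1286) (iv D894) (iv F4499)
theorem F8906 : act 4 n1770 = n1770 := d18_2 F6331 D1770 (iv D1770)
theorem F8907 : act 7 n1770 = n1770 := d21_2 F6332 D1770 (iv D1770)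
theorem F8908 : act 8 n1770 = n1242 := d22_2 (iv F6333) D1770 (iv D1242)
def n1771 : Q := act 6 n1236
theorem D1771 : act 6 n1236 = n1771 := rfl
theorem F8909 : act 1 n1771 = n1771 := d13_1 D1771 (iv D1771) F6330
theorem F8910 : act 3 n1771 = n1237 := d26_1 D1771 (iv D1237) D1236
theorem F8911 : act 4 n1771 = n1771 := d31_1 D1771 (iv D1771) F6331
theorem F8912 : act 8 n1771 = n1243 := d40_2 (iv F6333) D1771 (iv D1243)
def n1772 : Q := act 9 n1236
theorem D1772 : act 9 n1236 = n1772 := rfl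
theorem F8913 : act 1 n1772 = n1772 := d16_1 D1772 (iv D1772) F6330
theorem F8914 : act 3 n1772 = n1238 := d29_1 D1772 (iv D1238) D1236
theorem F8915 : act 4 n1772 = n1772 := d34_1 D1772 (iv D1772) F6331
theorem F8916 : act 7 n1772 = n1772 := d43_1 D1772 (iv D1772) F6332
def n1773 : Q := act 5 n1237
theorem D1773 : act 5 n1237 = n1773 := rfl
theorem F8917 : act 1 n1773 = n1773 := d12_1 D1773 (iv D1773) F6334
theorem F8918 : act 2 n1773 = n1289 := d19_1 D1773 (iv D1289) (iv F6335)
theorem F8919 : act 4 n1773 = n1773 := d30_1 D1773 (iv D1773) F6336 F4505 (iv F6336)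
def n1774 : Q := act 7 n1237
theorem D1774 : act 7 n1237 = n1774 := rfl
theorem F8921 : act 2 n1774 = n1290 := d21_1 D1774 (iv D1290) (iv F6335)
theorem F8924 : act 8 n1774 = n1246 := d42_2 (iv F6337) D1774 (iv D1246)
def n1775 : Q := act 9 n1237
theorem D1775 : act 9 n1237 = n1775 := rfl
theorem F8925 : act 1 n1775 = n1775 := d16_1 D1775 (iv D1775) F6334
theorem F8926 : act 2 n1775 = n1291 := d23_1 D1775 (iv D1291) (iv F6335)
theorem F8927 : act 4 n1775 = n1240 := d34_1 D1775 (iv D1240) (iv F6336)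
theorem F8928 : act 6 n1775 = n1238 := d41_1 D1775 (iv D1238) D1237
def n1776 : Q := act 8 n1238
theorem D1776 : act 8 n1238 = n1776 := rfl
theorem F8929 : act 1 n1776 = n1776 := d15_1 D1776 (iv D1776) F6338
theorem F8930 : act 2 n1776 = n1292 := d22_1 D1776 (iv D1292) (iv F6339)
theorem F8931 : act 4 n1776 = n1241 := d33_1 D1776 (iv D1241) (iv F6340)
theorem F8932 : act 7 n1776 = n1776 := d42_1 D1776 (iv D1776) F6341
theorem F8933 : act 9 n1776 = n1248 := d44_2 D1238 D1776 (iv D1248) (iv D867) (iv F4501)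
def n1777 : Q := act 9 n1239
theorem D1777 : act 9 n1239 = n1777 := rfl
theorem F8935 : act 2 n1777 = n1293 := d23_1 D1777 (iv D1293) (iv F6343)
theorem F8939 : act 7 n1777 = n1240 := d43_1 D1777 (iv D1240) D1239
def n1778 : Q := act 8 n1240
theorem D1778 : act 8 n1240 = n1778 := rfl
theorem F8940 : act 1 n1778 = n1778 := d15_1 D1778 (iv D1778) F6348
theorem F8941 : act 2 n1778 = n1294 := d22_1 D1778 (iv D1294) (iv F6349)
theorem F8942 : act 3 n1778 = n1778 := d28_1 D1778 (iv D1778) F6350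
theorem F8943 : act 6 n1778 = n1241 := d40_1 D1778 (iv D1241) (iv F6352)
theorem F8944 : act 9 n1778 = n1250 := d44_2 D1240 D1778 (iv D1250) (iv D869) (iv F4506)
def n1779 : Q := act 1 n1242
theorem D1779 : act 1 n1242 = n1779 := rfl
theorem F8945 : act 2 n1779 = n1779 := d9_2 D1242 D1779 (iv D1779) (iv D1242) F4512
theorem F8946 : act 3 n1779 = n1295 := d10_2 (iv F6359) D1779 (iv D1295)
theorem F8947 : act 4 n1779 = n1779 := d11_2 F6360 D1779 (iv D1779)
theorem F8948 : act 5 n1779 = n1779 := d12_2 F6361 D1779 (iv D1779)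
theorem F8949 : act 7 n1779 = n1779 := d14_2 F6362 D1779 (iv D1779)
def n1780 : Q := act 6 n1242
theorem D1780 : act 6 n1242 = n1780 := rfl
theorem F8950 : act 2 n1780 = n1243 := d20_1 D1780 (iv D1243) D1242
theorem F8951 : act 3 n1780 = n1296 := d26_1 D1780 (iv D1296) (iv F6359)
theorem F8952 : act 4 n1780 = n1780 := d31_1 D1780 (iv D1780) F6360
def n1781 : Q := act 9 n1242
theorem D1781 : act 9 n1242 = n1781 := rfl
theorem F8953 : act 2 n1781 = n1244 := d23_1 D1781 (iv D1244) D1242
theorem F8954 : act 3 n1781 = n1297 := d29_1 D1781 (iv D1297) (iv F6359)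
theorem F8955 : act 4 n1781 = n1781 := d34_1 D1781 (iv D1781) F6360
theorem F8956 : act 5 n1781 = n1781 := d38_1 D1781 (iv D1781) F6361
theorem F8957 : act 7 n1781 = n1781 := d43_1 D1781 (iv D1781) F6362
def n1782 : Q := act 5 n1243
theorem D1782 : act 5 n1243 = n1782 := rfl
theorem F8959 : act 3 n1782 = n1245 := d25_1 D1782 (iv D1245) (iv F6364)
def n1783 : Q := act 7 n1243
theorem D1783 : act 7 n1243 = n1783 := rfl
def n1784 : Q := act 9 n1243
theorem D1784 : act 9 n1243 = n1784 := rfl
theorem F8965 : act 1 n1784 = n1784 := d16_1 D1784 (iv D1784) F6363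
theorem F8966 : act 3 n1784 = n1247 := d29_1 D1784 (iv D1247) (iv F6364)
theorem F8967 : act 4 n1784 = n1784 := d34_1 D1784 (iv D1784) F6365
theorem F8968 : act 6 n1784 = n1244 := d41_1 D1784 (iv D1244) D1243
def n1785 : Q := act 8 n1244
theorem D1785 : act 8 n1244 = n1785 := rfl
theorem F8969 : act 1 n1785 = n1785 := d15_1 D1785 (iv D1785) F6366
theorem F8970 : act 3 n1785 = n1248 := d28_1 D1785 (iv D1248) (iv F6367)
theorem F8971 : act 4 n1785 = n1785 := d33_1 D1785 (iv D1785) F6368
theorem F8972 : act 7 n1785 = n1785 := d42_1 D1785 (iv D1785) F6370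
def n1786 : Q := act 7 n1245
theorem D1786 : act 7 n1245 = n1786 := rfl
theorem F8975 : act 4 n1786 = n1255 := d32_1 D1786 (iv D1255) (iv F6373)
theorem F8976 : act 5 n1786 = n1246 := d36_1 D1786 (iv D1246) D1245
def n1787 : Q := act 8 n1245
theorem D1787 : act 8 n1245 = n1787 := rfl
theorem F8978 : act 2 n1787 = n1303 := d22_1 D1787 (iv D1303) (iv F6372)
def n1788 : Q := act 9 n1245
theorem D1788 : act 9 n1245 = n1788 := rfl
theorem F8982 : act 2 n1788 = n1304 := d23_1 D1788 (iv D1304) (iv F6372)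
theorem F8984 : act 5 n1788 = n1247 := d38_1 D1788 (iv D1247) D1245
def n1789 : Q := act 9 n1246
theorem D1789 : act 9 n1246 = n1789 := rfl
theorem F8987 : act 2 n1789 = n1305 := d23_1 D1789 (iv D1305) (iv F6376)
theorem F8990 : act 7 n1789 = n1247 := d43_1 D1789 (iv D1247) D1246
def n1790 : Q := act 8 n1247
theorem D1790 : act 8 n1247 = n1790 := rfl
theorem F8991 : act 1 n1790 = n1790 := d15_1 D1790 (iv D1790) F6379
theorem F8992 : act 2 n1790 = n1306 := d22_1 D1790 (iv D1306) (iv F6380)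
theorem F8993 : act 4 n1790 = n1250 := d33_1 D1790 (iv D1250) (iv F6381)
theorem F8994 : act 6 n1790 = n1248 := d40_1 D1790 (iv D1248) (iv F6382)
def n1791 : Q := act 5 n1248
theorem D1791 : act 5 n1248 = n1791 := rfl
theorem F8995 : act 1 n1791 = n1791 := d12_1 D1791 (iv D1791) F6383
theorem F8996 : act 2 n1791 = n1307 := d19_1 D1791 (iv D1307) (iv F6384)
theorem F8997 : act 4 n1791 = n1791 := d30_1 D1791 (iv D1791) F6385 F4537 (iv F6385)
theorem F8998 : act 7 n1791 = n1791 := d36_2 F6386 D1791 (iv D1791)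
theorem F8999 : act 8 n1791 = n1791 := d37_2 D1248 D1791 (iv D1791) (iv D1248) F4522
def n1792 : Q := act 8 n1249
theorem D1792 : act 8 n1249 = n1792 := rfl
theorem F9001 : act 2 n1792 = n1308 := d22_1 D1792 (iv D1308) (iv F6388)
theorem F9004 : act 7 n1792 = n1250 := d42_1 D1792 (iv D1250) (iv F6392)
def n1793 : Q := act 5 n1250
theorem D1793 : act 5 n1250 = n1793 := rfl
theorem F9005 : act 1 n1793 = n1793 := d12_1 D1793 (iv D1793) F6393
theorem F9006 : act 2 n1793 = n1309 := d19_1 D1793 (iv D1309) (iv F6394)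
theorem F9007 : act 3 n1793 = n1793 := d25_1 D1793 (iv D1793) F6395
theorem F9008 : act 6 n1793 = n1793 := d35_2 (iv F6396) D1793 (iv D1793) F6396 F4537
theorem F9009 : act 8 n1793 = n1262 := d37_2 D1250 D1793 (iv D1262) (iv D878) (iv F4532)
def n1800 : Q := act 5 n1254
theorem D1800 : act 5 n1254 = n1800 := rfl
theorem F9042 : act 3 n1800 = n1260 := d25_1 D1800 (iv D1260) (iv F6414)
def n1801 : Q := act 6 n1255
theorem D1801 : act 6 n1255 = n1801 := rfl
theorem F9048 : act 5 n1801 = n1270 := d35_1 D1801 (iv D1270) F4599 (iv F4556) (iv F6420)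
def n1802 : Q := act 8 n1255
theorem D1802 : act 8 n1255 = n1802 := rfl
theorem F9053 : act 7 n1802 = n1256 := d42_1 D1802 (iv D1256) D1255
def n1804 : Q := act 9 n1256
theorem D1804 : act 9 n1256 = n1804 := rfl
theorem F9059 : act 2 n1804 = n1313 := d23_1 D1804 (iv D1313) (iv F6422)
def n1805 : Q := act 8 n1257
theorem D1805 : act 8 n1257 = n1805 := rfl
theorem F9063 : act 2 n1805 = n1314 := d22_1 D1805 (iv D1314) (iv F6426)
def n1807 : Q := act 5 n1259
theorem D1807 : act 5 n1259 = n1807 := rfl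
theorem F9072 : act 2 n1807 = n1316 := d19_1 D1807 (iv D1316) (iv F6435)
def n1808 : Q := act 6 n1260
theorem D1808 : act 6 n1260 = n1808 := rfl
theorem F9075 : act 2 n1808 = n1317 := d20_1 D1808 (iv D1317) (iv F6440)
def n1809 : Q := act 5 n1261
theorem D1809 : act 5 n1261 = n1809 := rfl
theorem F9080 : act 2 n1809 = n1318 := d19_1 D1809 (iv D1318) (iv F6446)
theorem F9082 : act 7 n1809 = n1262 := d36_2 (iv F6449) D1809 (iv D1262)
def n1810 : Q := act 4 n1262
theorem D1810 : act 4 n1262 = n1810 := rfl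
theorem F9084 : act 1 n1810 = n1810 := d11_1 D1810 (iv D1810) F6451
theorem F9085 : act 2 n1810 = n1319 := d18_1 D1810 (iv D1319) (iv F6452)
theorem F9086 : act 6 n1810 = n1810 := d31_2 F6454 D1810 (iv D1810)
theorem F9087 : act 9 n1810 = n1810 := d34_2 F6455 D1810 (iv D1810)
def n1811 : Q := act 7 n1263
theorem D1811 : act 7 n1263 = n1811 := rfl
theorem F9091 : act 4 n1811 = n1264 := d32_1 D1811 (iv D1264) D1263
def n1812 : Q := act 8 n1263
theorem D1812 : act 8 n1263 = n1812 := rfl
def n1814 : Q := act 6 n1264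
theorem D1814 : act 6 n1264 = n1814 := rfl
theorem F9106 : act 3 n1814 = n1270 := d26_1 D1814 (iv D1270) (iv F6463)
def n1815 : Q := act 8 n1264
theorem D1815 : act 8 n1264 = n1815 := rfl
theorem F9112 : act 7 n1815 = n1265 := d42_1 D1815 (iv D1265) D1264
def n1821 : Q := act 4 n1269
theorem D1821 : act 4 n1269 = n1821 := rfl
theorem F9139 : act 3 n1821 = n1821 := d24_1 D1821 (iv D1821) F6488 F4621 (iv F6488)
def n1823 : Q := act 8 n1270
theorem D1823 : act 8 n1270 = n1823 := rfl
theorem F9149 : act 2 n1823 = n1320 := d22_1 D1823 (iv D1320) (iv F6492)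
theorem F9151 : act 6 n1823 = n1271 := d40_1 D1823 (iv D1271) D1270
def n1834 : Q := act 6 n1278
theorem D1834 : act 6 n1278 = n1834 := rfl
theorem F9200 : act 7 n1834 = n1834 := d39_2 (iv F6530) D1834 (iv D1834) F6530 F4632
def n1836 : Q := act 2 n1280
theorem D1836 : act 2 n1280 = n1836 := rfl
theorem F9208 : act 4 n1836 = n1836 := d18_2 F6539 D1836 (iv D1836)
theorem F9209 : act 5 n1836 = n1286 := d19_2 (iv F6540) D1836 (iv D1286)
theorem F9210 : act 7 n1836 = n1836 := d21_2 F6541 D1836 (iv D1836)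
theorem F9211 : act 8 n1836 = n1836 := d22_2 F6542 D1836 (iv D1836)
def n1837 : Q := act 6 n1280
theorem D1837 : act 6 n1280 = n1837 := rfl
theorem F9212 : act 1 n1837 = n1374 := d13_1 D1837 (iv D1374) (iv F6538)
theorem F9213 : act 3 n1837 = n1281 := d26_1 D1837 (iv D1281) D1280
theorem F9214 : act 4 n1837 = n1837 := d31_1 D1837 (iv D1837) F6539
theorem F9215 : act 8 n1837 = n1837 := d40_2 F6542 D1837 (iv D1837)
def n1838 : Q := act 9 n1280
theorem D1838 : act 9 n1280 = n1838 := rfl
theorem F9216 : act 1 n1838 = n1375 := d16_1 D1838 (iv D1375) (iv F6538)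
theorem F9217 : act 3 n1838 = n1282 := d29_1 D1838 (iv D1282) D1280
theorem F9218 : act 4 n1838 = n1838 := d34_1 D1838 (iv D1838) F6539
theorem F9219 : act 5 n1838 = n1288 := d38_1 D1838 (iv D1288) (iv F6540)
theorem F9220 : act 7 n1838 = n1838 := d43_1 D1838 (iv D1838) F6541
def n1839 : Q := act 5 n1281
theorem D1839 : act 5 n1281 = n1839 := rfl
theorem F9221 : act 1 n1839 = n1376 := d12_1 D1839 (iv D1376) (iv F6543)
theorem F9222 : act 4 n1839 = n1839 := d30_1 D1839 (iv D1839) F6544 F4641 (iv F6544)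
theorem F9223 : act 6 n1839 = n1289 := d35_2 D1281 D1839 (iv D1289) (iv D895) (iv F4636)
def n1840 : Q := act 7 n1281
theorem D1840 : act 7 n1281 = n1840 := rfl
theorem F9224 : act 1 n1840 = n1377 := d14_1 D1840 (iv D1377) (iv F6543)
theorem F9225 : act 4 n1840 = n1283 := d32_1 D1840 (iv D1283) (iv F6544)
theorem F9226 : act 6 n1840 = n1840 := d39_1 D1840 (iv D1840) (iv D1281) F4637 D1281
theorem F9227 : act 8 n1840 = n1840 := d42_2 F6545 D1840 (iv D1840)
def n1841 : Q := act 9 n1281
theorem D1841 : act 9 n1281 = n1841 := rfl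
theorem F9228 : act 1 n1841 = n1378 := d16_1 D1841 (iv D1378) (iv F6543)
theorem F9229 : act 4 n1841 = n1284 := d34_1 D1841 (iv D1284) (iv F6544)
theorem F9230 : act 6 n1841 = n1282 := d41_1 D1841 (iv D1282) D1281
def n1842 : Q := act 8 n1282
theorem D1842 : act 8 n1282 = n1842 := rfl
theorem F9231 : act 1 n1842 = n1379 := d15_1 D1842 (iv D1379) (iv F6546)
theorem F9232 : act 4 n1842 = n1285 := d33_1 D1842 (iv D1285) (iv F6547)
theorem F9233 : act 7 n1842 = n1842 := d42_1 D1842 (iv D1842) F6549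
theorem F9234 : act 9 n1842 = n1842 := d44_2 D1282 D1842 (iv D1842) (iv D1282) F4638
def n1843 : Q := act 9 n1283
theorem D1843 : act 9 n1283 = n1843 := rfl
theorem F9235 : act 1 n1843 = n1380 := d16_1 D1843 (iv D1380) (iv F6550)
theorem F9236 : act 3 n1843 = n1843 := d29_1 D1843 (iv D1843) F6551
theorem F9237 : act 5 n1843 = n1843 := d38_1 D1843 (iv D1843) F6552
theorem F9238 : act 6 n1843 = n1843 := d41_1 D1843 (iv D1843) F6553
theorem F9239 : act 7 n1843 = n1284 := d43_1 D1843 (iv D1284) D1283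
def n1844 : Q := act 8 n1284
theorem D1844 : act 8 n1284 = n1844 := rfl
theorem F9240 : act 1 n1844 = n1381 := d15_1 D1844 (iv D1381) (iv F6555)
theorem F9241 : act 3 n1844 = n1844 := d28_1 D1844 (iv D1844) F6556
theorem F9242 : act 6 n1844 = n1285 := d40_1 D1844 (iv D1285) (iv F6558)
theorem F9243 : act 9 n1844 = n1844 := d44_2 D1284 D1844 (iv D1844) (iv D1284) F4642
def n1845 : Q := act 1 n1286
theorem D1845 : act 1 n1286 = n1845 := rfl
theorem F9244 : act 2 n1845 = n1382 := d9_2 D1286 D1845 (iv D1382) (iv D963) (iv F4647)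
theorem F9245 : act 4 n1845 = n1333 := d11_2 (iv F6564) D1845 (iv D1333)
theorem F9246 : act 7 n1845 = n1845 := d14_2 F6565 D1845 (iv D1845)
theorem F9247 : act 8 n1845 = n1295 := d15_2 (iv F6566) D1845 (iv D1295)
def n1846 : Q := act 6 n1286
theorem D1846 : act 6 n1286 = n1846 := rfl
theorem F9248 : act 2 n1846 = n1287 := d20_1 D1846 (iv D1287) D1286
theorem F9249 : act 4 n1846 = n1334 := d31_1 D1846 (iv D1334) (iv F6564)
theorem F9250 : act 8 n1846 = n1296 := d40_2 (iv F6566) D1846 (iv D1296)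
def n1847 : Q := act 9 n1286
theorem D1847 : act 9 n1286 = n1847 := rfl
theorem F9251 : act 2 n1847 = n1288 := d23_1 D1847 (iv D1288) D1286
theorem F9252 : act 4 n1847 = n1335 := d34_1 D1847 (iv D1335) (iv F6564)
theorem F9253 : act 7 n1847 = n1847 := d43_1 D1847 (iv D1847) F6565
def n1848 : Q := act 5 n1287
theorem D1848 : act 5 n1287 = n1848 := rfl
theorem F9254 : act 1 n1848 = n1385 := d12_1 D1848 (iv D1385) (iv F6567)
theorem F9255 : act 3 n1848 = n1289 := d25_1 D1848 (iv D1289) (iv F6568)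
def n1849 : Q := act 7 n1287
theorem D1849 : act 7 n1287 = n1849 := rfl
theorem F9256 : act 1 n1849 = n1386 := d14_1 D1849 (iv D1386) (iv F6567)
theorem F9257 : act 3 n1849 = n1290 := d27_1 D1849 (iv D1290) (iv F6568)
theorem F9258 : act 4 n1849 = n1337 := d32_1 D1849 (iv D1337) (iv F6569)
theorem F9259 : act 6 n1849 = n1849 := d39_1 D1849 (iv D1849) (iv D1287) F4649 D1287
theorem F9260 : act 8 n1849 = n1299 := d42_2 (iv F6570) D1849 (iv D1299)
def n1850 : Q := act 9 n1287
theorem D1850 : act 9 n1287 = n1850 := rfl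
theorem F9261 : act 1 n1850 = n1387 := d16_1 D1850 (iv D1387) (iv F6567)
theorem F9262 : act 3 n1850 = n1291 := d29_1 D1850 (iv D1291) (iv F6568)
theorem F9263 : act 4 n1850 = n1338 := d34_1 D1850 (iv D1338) (iv F6569)
theorem F9264 : act 6 n1850 = n1288 := d41_1 D1850 (iv D1288) D1287
def n1851 : Q := act 8 n1288
theorem D1851 : act 8 n1288 = n1851 := rfl
theorem F9265 : act 1 n1851 = n1388 := d15_1 D1851 (iv D1388) (iv F6571)
theorem F9266 : act 3 n1851 = n1292 := d28_1 D1851 (iv D1292) (iv F6572)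
theorem F9267 : act 4 n1851 = n1339 := d33_1 D1851 (iv D1339) (iv F6573)
theorem F9268 : act 7 n1851 = n1851 := d42_1 D1851 (iv D1851) F6574
theorem F9269 : act 9 n1851 = n1301 := d44_2 D1288 D1851 (iv D1301) (iv D902) (iv F4650)
def n1852 : Q := act 7 n1289
theorem D1852 : act 7 n1289 = n1852 := rfl
theorem F9270 : act 1 n1852 = n1389 := d14_1 D1852 (iv D1389) (iv F6575)
theorem F9271 : act 4 n1852 = n1852 := d32_1 D1852 (iv D1852) F6576
theorem F9272 : act 5 n1852 = n1290 := d36_1 D1852 (iv D1290) D1289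
def n1853 : Q := act 8 n1289
theorem D1853 : act 8 n1289 = n1853 := rfl
theorem F9273 : act 1 n1853 = n1390 := d15_1 D1853 (iv D1390) (iv F6575)
theorem F9274 : act 4 n1853 = n1853 := d33_1 D1853 (iv D1853) F6576
theorem F9275 : act 5 n1853 = n1303 := d37_1 D1853 (iv D1303) (iv D903) (iv F4653) D1289
def n1854 : Q := act 9 n1289
theorem D1854 : act 9 n1289 = n1854 := rfl
theorem F9276 : act 1 n1854 = n1391 := d16_1 D1854 (iv D1391) (iv F6575)
theorem F9277 : act 4 n1854 = n1854 := d34_1 D1854 (iv D1854) F6576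
theorem F9278 : act 5 n1854 = n1291 := d38_1 D1854 (iv D1291) D1289
def n1855 : Q := act 9 n1290
theorem D1855 : act 9 n1290 = n1855 := rfl
theorem F9279 : act 1 n1855 = n1392 := d16_1 D1855 (iv D1392) (iv F6577)
theorem F9280 : act 4 n1855 = n1293 := d34_1 D1855 (iv D1293) (iv F6578)
theorem F9281 : act 6 n1855 = n1855 := d41_1 D1855 (iv D1855) F6579
theorem F9282 : act 7 n1855 = n1291 := d43_1 D1855 (iv D1291) D1290
def n1856 : Q := act 8 n1291
theorem D1856 : act 8 n1291 = n1856 := rfl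
theorem F9283 : act 1 n1856 = n1393 := d15_1 D1856 (iv D1393) (iv F6581)
theorem F9284 : act 4 n1856 = n1294 := d33_1 D1856 (iv D1294) (iv F6582)
theorem F9285 : act 6 n1856 = n1292 := d40_1 D1856 (iv D1292) (iv F6583)
theorem F9286 : act 9 n1856 = n1306 := d44_2 D1291 D1856 (iv D1306) (iv D905) (iv F4653)
def n1857 : Q := act 5 n1292
theorem D1857 : act 5 n1292 = n1857 := rfl
theorem F9287 : act 1 n1857 = n1394 := d12_1 D1857 (iv D1394) (iv F6584)
theorem F9288 : act 4 n1857 = n1857 := d30_1 D1857 (iv D1857) F6585 F4668 (iv F6585)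
theorem F9289 : act 7 n1857 = n1857 := d36_2 F6586 D1857 (iv D1857)
theorem F9290 : act 9 n1857 = n1307 := d38_2 (iv F6587) D1857 (iv D1307)
def n1858 : Q := act 8 n1293
theorem D1858 : act 8 n1293 = n1858 := rfl
theorem F9291 : act 1 n1858 = n1395 := d15_1 D1858 (iv D1395) (iv F6588)
theorem F9292 : act 3 n1858 = n1345 := d28_1 D1858 (iv D1345) (iv F6589)
theorem F9293 : act 6 n1858 = n1858 := d40_1 D1858 (iv D1858) F6591
theorem F9294 : act 7 n1858 = n1294 := d42_1 D1858 (iv D1294) (iv F6592)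
theorem F9295 : act 9 n1858 = n1308 := d44_2 D1293 D1858 (iv D1308) (iv D907) (iv F4661)
def n1859 : Q := act 5 n1294
theorem D1859 : act 5 n1294 = n1859 := rfl
theorem F9296 : act 1 n1859 = n1396 := d12_1 D1859 (iv D1396) (iv F6593)
theorem F9297 : act 3 n1859 = n1346 := d25_1 D1859 (iv D1346) (iv F6594)
theorem F9298 : act 6 n1859 = n1859 := d35_2 (iv F6595) D1859 (iv D1859) F6595 F4668
theorem F9299 : act 8 n1859 = n1859 := d37_2 D1294 D1859 (iv D1859) (iv D1294) F4664
theorem F9300 : act 9 n1859 = n1309 := d38_2 (iv F6596) D1859 (iv D1309)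
def n1860 : Q := act 0 n1295
theorem D1860 : act 0 n1295 = n1860 := rfl
theorem F9301 : act 2 n1860 = n1397 := d1_2 (iv F6597) D1860 (iv D1397)
theorem F9302 : act 4 n1860 = n1347 := d3_2 (iv F6598) D1860 (iv D1347)
theorem F9303 : act 5 n1860 = n1860 := d4_2 F6599 D1860 (iv D1860)
theorem F9304 : act 7 n1860 = n1860 := d6_2 F6600 D1860 (iv D1860)
def n1861 : Q := act 6 n1295
theorem D1861 : act 6 n1295 = n1861 := rfl
theorem F9305 : act 1 n1861 = n1296 := d13_1 D1861 (iv D1296) D1295
theorem F9306 : act 2 n1861 = n1398 := d20_1 D1861 (iv D1398) (iv F6597)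
theorem F9307 : act 4 n1861 = n1348 := d31_1 D1861 (iv D1348) (iv F6598)
def n1862 : Q := act 9 n1295
theorem D1862 : act 9 n1295 = n1862 := rfl
theorem F9308 : act 1 n1862 = n1297 := d16_1 D1862 (iv D1297) D1295
theorem F9309 : act 2 n1862 = n1399 := d23_1 D1862 (iv D1399) (iv F6597)
theorem F9310 : act 4 n1862 = n1349 := d34_1 D1862 (iv D1349) (iv F6598)
theorem F9311 : act 5 n1862 = n1862 := d38_1 D1862 (iv D1862) F6599
theorem F9312 : act 7 n1862 = n1862 := d43_1 D1862 (iv D1862) F6600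
def n1863 : Q := act 5 n1296
theorem D1863 : act 5 n1296 = n1863 := rfl
theorem F9313 : act 2 n1863 = n1298 := d19_1 D1863 (iv D1298) (iv F6601)
theorem F9314 : act 4 n1863 = n1863 := d30_1 D1863 (iv D1863) F6602 F4828 (iv F6602)
theorem F9315 : act 6 n1863 = n1863 := d35_2 D1296 D1863 (iv D1863) (iv D1296) F4672
def n1864 : Q := act 7 n1296
theorem D1864 : act 7 n1296 = n1864 := rfl
theorem F9316 : act 2 n1864 = n1299 := d21_1 D1864 (iv D1299) (iv F6601)
theorem F9317 : act 4 n1864 = n1350 := d32_1 D1864 (iv D1350) (iv F6602)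
theorem F9318 : act 6 n1864 = n1864 := d39_1 D1864 (iv D1864) (iv D1296) F4673 D1296
def n1865 : Q := act 9 n1296
theorem D1865 : act 9 n1296 = n1865 := rfl
theorem F9319 : act 2 n1865 = n1300 := d23_1 D1865 (iv D1300) (iv F6601)
theorem F9320 : act 4 n1865 = n1351 := d34_1 D1865 (iv D1351) (iv F6602)
theorem F9321 : act 6 n1865 = n1297 := d41_1 D1865 (iv D1297) D1296
def n1866 : Q := act 8 n1297
theorem D1866 : act 8 n1297 = n1866 := rfl
theorem F9322 : act 2 n1866 = n1301 := d22_1 D1866 (iv D1301) (iv F6603)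
theorem F9323 : act 4 n1866 = n1352 := d33_1 D1866 (iv D1352) (iv F6604)
theorem F9324 : act 7 n1866 = n1866 := d42_1 D1866 (iv D1866) F6606
def n1867 : Q := act 7 n1298
theorem D1867 : act 7 n1298 = n1867 := rfl
theorem F9325 : act 1 n1867 = n1404 := d14_1 D1867 (iv D1404) (iv F6607)
theorem F9326 : act 3 n1867 = n1302 := d27_1 D1867 (iv D1302) (iv F6608)
theorem F9328 : act 5 n1867 = n1299 := d36_1 D1867 (iv D1299) D1298
def n1868 : Q := act 8 n1298
theorem D1868 : act 8 n1298 = n1868 := rfl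
theorem F9329 : act 1 n1868 = n1405 := d15_1 D1868 (iv D1405) (iv F6607)
theorem F9330 : act 3 n1868 = n1303 := d28_1 D1868 (iv D1303) (iv F6608)
theorem F9331 : act 4 n1868 = n1868 := d33_1 D1868 (iv D1868) F6609
theorem F9332 : act 6 n1868 = n1868 := d40_1 D1868 (iv D1868) F6610
def n1869 : Q := act 9 n1298
theorem D1869 : act 9 n1298 = n1869 := rfl
theorem F9333 : act 1 n1869 = n1406 := d16_1 D1869 (iv D1406) (iv F6607)
theorem F9334 : act 3 n1869 = n1304 := d29_1 D1869 (iv D1304) (iv F6608)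
theorem F9335 : act 4 n1869 = n1869 := d34_1 D1869 (iv D1869) F6609
theorem F9336 : act 5 n1869 = n1300 := d38_1 D1869 (iv D1300) D1298
theorem F9337 : act 6 n1869 = n1869 := d41_1 D1869 (iv D1869) F6610
def n1870 : Q := act 9 n1299
theorem D1870 : act 9 n1299 = n1870 := rfl
theorem F9338 : act 1 n1870 = n1407 := d16_1 D1870 (iv D1407) (iv F6611)
theorem F9339 : act 3 n1870 = n1305 := d29_1 D1870 (iv D1305) (iv F6612)
theorem F9340 : act 4 n1870 = n1353 := d34_1 D1870 (iv D1353) (iv F6613)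
theorem F9341 : act 6 n1870 = n1870 := d41_1 D1870 (iv D1870) F6614
theorem F9342 : act 7 n1870 = n1300 := d43_1 D1870 (iv D1300) D1299
def n1871 : Q := act 8 n1300
theorem D1871 : act 8 n1300 = n1871 := rfl
theorem F9343 : act 1 n1871 = n1408 := d15_1 D1871 (iv D1408) (iv F6615)
theorem F9344 : act 3 n1871 = n1306 := d28_1 D1871 (iv D1306) (iv F6616)
theorem F9345 : act 4 n1871 = n1354 := d33_1 D1871 (iv D1354) (iv F6617)
theorem F9346 : act 6 n1871 = n1301 := d40_1 D1871 (iv D1301) (iv F6618)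
def n1872 : Q := act 5 n1301
theorem D1872 : act 5 n1301 = n1872 := rfl
theorem F9347 : act 1 n1872 = n1409 := d12_1 D1872 (iv D1409) (iv F6619)
theorem F9348 : act 3 n1872 = n1307 := d25_1 D1872 (iv D1307) (iv F6620)
theorem F9349 : act 7 n1872 = n1872 := d36_2 F6622 D1872 (iv D1872)
theorem F9350 : act 8 n1872 = n1872 := d37_2 D1301 D1872 (iv D1872) (iv D1301) F4680
def n1873 : Q := act 6 n1302
theorem D1873 : act 6 n1302 = n1873 := rfl
theorem F9352 : act 4 n1873 = n1310 := d31_1 D1873 (iv D1310) (iv F6624)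
def n1874 : Q := act 8 n1302
theorem D1874 : act 8 n1302 = n1874 := rfl
theorem F9355 : act 1 n1874 = n1411 := d15_1 D1874 (iv D1411) (iv F6623)
theorem F9357 : act 7 n1874 = n1303 := d42_1 D1874 (iv D1303) D1302
def n1875 : Q := act 9 n1302
theorem D1875 : act 9 n1302 = n1875 := rfl
theorem F9358 : act 1 n1875 = n1412 := d16_1 D1875 (iv D1412) (iv F6623)
theorem F9360 : act 5 n1875 = n1305 := d38_1 D1875 (iv D1305) (iv F6625)
theorem F9361 : act 7 n1875 = n1304 := d43_1 D1875 (iv D1304) D1302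
def n1876 : Q := act 9 n1303
theorem D1876 : act 9 n1303 = n1876 := rfl
theorem F9362 : act 1 n1876 = n1413 := d16_1 D1876 (iv D1413) (iv F6626)
theorem F9363 : act 4 n1876 = n1313 := d34_1 D1876 (iv D1313) (iv F6627)
theorem F9364 : act 6 n1876 = n1876 := d41_1 D1876 (iv D1876) F6628
def n1877 : Q := act 8 n1304
theorem D1877 : act 8 n1304 = n1877 := rfl
theorem F9365 : act 1 n1877 = n1414 := d15_1 D1877 (iv D1414) (iv F6629)
theorem F9366 : act 4 n1877 = n1314 := d33_1 D1877 (iv D1314) (iv F6630)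
theorem F9367 : act 6 n1877 = n1877 := d40_1 D1877 (iv D1877) F6632
def n1878 : Q := act 8 n1305
theorem D1878 : act 8 n1305 = n1878 := rfl
theorem F9368 : act 1 n1878 = n1415 := d15_1 D1878 (iv D1415) (iv F6633)
theorem F9369 : act 4 n1878 = n1308 := d33_1 D1878 (iv D1308) (iv F6634)
theorem F9370 : act 6 n1878 = n1878 := d40_1 D1878 (iv D1878) F6635
theorem F9371 : act 7 n1878 = n1306 := d42_1 D1878 (iv D1306) (iv F6636)
def n1879 : Q := act 5 n1306
theorem D1879 : act 5 n1306 = n1879 := rfl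
theorem F9372 : act 1 n1879 = n1416 := d12_1 D1879 (iv D1416) (iv F6637)
def n1880 : Q := act 6 n1307
theorem D1880 : act 6 n1307 = n1880 := rfl
theorem F9373 : act 1 n1880 = n1417 := d13_1 D1880 (iv D1417) (iv F6640)
theorem F9374 : act 4 n1880 = n1880 := d31_1 D1880 (iv D1880) F6641
theorem F9375 : act 8 n1880 = n1880 := d40_2 F6643 D1880 (iv D1880)
def n1881 : Q := act 5 n1308
theorem D1881 : act 5 n1308 = n1881 := rfl
theorem F9376 : act 1 n1881 = n1418 := d12_1 D1881 (iv D1418) (iv F6644)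
theorem F9377 : act 3 n1881 = n1359 := d25_1 D1881 (iv D1359) (iv F6645)
theorem F9378 : act 7 n1881 = n1309 := d36_2 (iv F6647) D1881 (iv D1309)
theorem F9379 : act 8 n1881 = n1318 := d37_2 D1308 D1881 (iv D1318) (iv D915) (iv F4696)
def n1882 : Q := act 4 n1309
theorem D1882 : act 4 n1309 = n1882 := rfl
theorem F9380 : act 1 n1882 = n1419 := d11_1 D1882 (iv D1419) (iv F6648)
theorem F9381 : act 6 n1882 = n1882 := d31_2 F6650 D1882 (iv D1882)
theorem F9382 : act 8 n1882 = n1319 := d33_2 (iv F6651) D1882 (iv D1319)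
def n1883 : Q := act 8 n1310
theorem D1883 : act 8 n1310 = n1883 := rfl
theorem F9385 : act 6 n1883 = n1311 := d40_1 D1883 (iv D1311) D1310
def n1885 : Q := act 9 n1311
theorem D1885 : act 9 n1311 = n1885 := rfl
theorem F9392 : act 1 n1885 = n1422 := d16_1 D1885 (iv D1422) (iv F6656)
theorem F9395 : act 7 n1885 = n1313 := d43_1 D1885 (iv D1313) (iv F6659)
def n1886 : Q := act 8 n1312
theorem D1886 : act 8 n1312 = n1886 := rfl
theorem F9396 : act 1 n1886 = n1423 := d15_1 D1886 (iv D1423) (iv F6660)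
theorem F9398 : act 7 n1886 = n1314 := d42_1 D1886 (iv D1314) (iv F6663)
def n1887 : Q := act 8 n1313
theorem D1887 : act 8 n1313 = n1887 := rfl
theorem F9399 : act 1 n1887 = n1424 := d15_1 D1887 (iv D1424) (iv F6664)
theorem F9400 : act 3 n1887 = n1887 := d28_1 D1887 (iv D1887) F6665
theorem F9401 : act 6 n1887 = n1887 := d40_1 D1887 (iv D1887) F6667
theorem F9402 : act 9 n1887 = n1314 := d44_2 D1313 D1887 (iv D1314) (iv D911) D910
def n1888 : Q := act 5 n1314
theorem D1888 : act 5 n1314 = n1888 := rfl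
theorem F9403 : act 1 n1888 = n1425 := d12_1 D1888 (iv D1425) (iv F6668)
theorem F9404 : act 3 n1888 = n1888 := d25_1 D1888 (iv D1888) F6669
theorem F9405 : act 8 n1888 = n1316 := d37_2 D1314 D1888 (iv D1316) (iv D913) (iv F4711)
def n1889 : Q := act 5 n1315
theorem D1889 : act 5 n1315 = n1889 := rfl
theorem F9406 : act 1 n1889 = n1426 := d12_1 D1889 (iv D1426) (iv F6671)
theorem F9408 : act 7 n1889 = n1316 := d36_2 (iv F6675) D1889 (iv D1316)
def n1890 : Q := act 4 n1316
theorem D1890 : act 4 n1316 = n1890 := rfl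
theorem F9410 : act 1 n1890 = n1427 := d11_1 D1890 (iv D1427) (iv F6677)
theorem F9411 : act 5 n1890 = n1319 := d30_2 D1316 D1890 (iv D1319) (iv D916) (iv F4720)
theorem F9412 : act 9 n1890 = n1890 := d34_2 F6679 D1890 (iv D1890)
def n1891 : Q := act 6 n1316
theorem D1891 : act 6 n1316 = n1891 := rfl
theorem F9413 : act 1 n1891 = n1428 := d13_1 D1891 (iv D1428) (iv F6677)
theorem F9414 : act 3 n1891 = n1891 := d26_1 D1891 (iv D1891) F6678
theorem F9415 : act 5 n1891 = n1317 := d35_1 D1891 (iv D1317) (iv D914) (iv F4721) D1316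
theorem F9416 : act 9 n1891 = n1891 := d41_2 F6679 D1891 (iv D1891)
def n1892 : Q := act 7 n1317
theorem D1892 : act 7 n1317 = n1892 := rfl
def n1893 : Q := act 4 n1318
theorem D1893 : act 4 n1318 = n1893 := rfl
theorem F9423 : act 1 n1893 = n1430 := d11_1 D1893 (iv D1430) (iv F6685)
theorem F9424 : act 7 n1893 = n1319 := d32_2 (iv F6687) D1893 (iv D1319)
theorem F9425 : act 9 n1893 = n1893 := d34_2 F6688 D1893 (iv D1893)
def n1894 : Q := act 6 n1318
theorem D1894 : act 6 n1318 = n1894 := rfl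
theorem F9426 : act 1 n1894 = n1431 := d13_1 D1894 (iv D1431) (iv F6685)
theorem F9427 : act 3 n1894 = n1362 := d26_1 D1894 (iv D1362) (iv F6686)
theorem F9428 : act 5 n1894 = n1331 := d35_1 D1894 (iv D1331) (iv D925) (iv F4731) D1318
theorem F9429 : act 7 n1894 = n1894 := d39_2 (iv F6687) D1894 (iv D1894) F6687 F4736
theorem F9430 : act 9 n1894 = n1894 := d41_2 F6688 D1894 (iv D1894)
def n1895 : Q := act 3 n1319
theorem D1895 : act 3 n1319 = n1895 := rfl
theorem F9431 : act 1 n1895 = n1432 := d10_1 D1895 (iv D1432) (iv F6689)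
theorem F9432 : act 4 n1895 = n1363 := d24_2 D1319 D1895 (iv D1363) (iv D948) (iv F4735)
theorem F9433 : act 6 n1895 = n1895 := d26_2 F6690 D1895 (iv D1895)
theorem F9434 : act 9 n1895 = n1895 := d29_2 F6691 D1895 (iv D1895)
def n1896 : Q := act 5 n1320
theorem D1896 : act 5 n1320 = n1896 := rfl
theorem F9435 : act 1 n1896 = n1433 := d12_1 D1896 (iv D1433) (iv F6692)
def n1910 : Q := act 6 n1330
theorem D1910 : act 6 n1330 = n1910 := rfl
theorem F9494 : act 4 n1910 = n1331 := d31_1 D1910 (iv D1331) D1330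
def n1912 : Q := act 0 n1333
theorem D1912 : act 0 n1333 = n1912 := rfl
theorem F9502 : act 2 n1912 = n1449 := d1_2 (iv F6749) D1912 (iv D1449)
theorem F9503 : act 3 n1912 = n1912 := d2_2 F6750 D1912 (iv D1912)
theorem F9504 : act 5 n1912 = n1912 := d4_2 F6751 D1912 (iv D1912)
theorem F9505 : act 7 n1912 = n1912 := d6_2 F6752 D1912 (iv D1912)
theorem F9506 : act 8 n1912 = n1347 := d7_2 (iv F6753) D1912 (iv D1347)
def n1913 : Q := act 6 n1333
theorem D1913 : act 6 n1333 = n1913 := rfl
theorem F9507 : act 1 n1913 = n1334 := d13_1 D1913 (iv D1334) D1333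
theorem F9508 : act 2 n1913 = n1450 := d20_1 D1913 (iv D1450) (iv F6749)
theorem F9509 : act 3 n1913 = n1913 := d26_1 D1913 (iv D1913) F6750
theorem F9510 : act 8 n1913 = n1348 := d40_2 (iv F6753) D1913 (iv D1348)
def n1914 : Q := act 9 n1333
theorem D1914 : act 9 n1333 = n1914 := rfl
theorem F9511 : act 1 n1914 = n1335 := d16_1 D1914 (iv D1335) D1333
theorem F9512 : act 2 n1914 = n1451 := d23_1 D1914 (iv D1451) (iv F6749)
theorem F9513 : act 3 n1914 = n1914 := d29_1 D1914 (iv D1914) F6750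
theorem F9514 : act 5 n1914 = n1914 := d38_1 D1914 (iv D1914) F6751
theorem F9515 : act 7 n1914 = n1914 := d43_1 D1914 (iv D1914) F6752
def n1915 : Q := act 5 n1334
theorem D1915 : act 5 n1334 = n1915 := rfl
theorem F9516 : act 2 n1915 = n1336 := d19_1 D1915 (iv D1336) (iv F6754)
theorem F9517 : act 3 n1915 = n1915 := d25_1 D1915 (iv D1915) F6755
theorem F9518 : act 6 n1915 = n1915 := d35_2 D1334 D1915 (iv D1915) (iv D1334) F4784
theorem F9519 : act 8 n1915 = n1915 := d37_2 (iv F6756) D1915 (iv D1915) F6756 F4828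
def n1916 : Q := act 7 n1334
theorem D1916 : act 7 n1334 = n1916 := rfl
theorem F9520 : act 2 n1916 = n1337 := d21_1 D1916 (iv D1337) (iv F6754)
theorem F9521 : act 3 n1916 = n1916 := d27_1 D1916 (iv D1916) F6755
theorem F9522 : act 6 n1916 = n1916 := d39_1 D1916 (iv D1916) (iv D1334) F4785 D1334
theorem F9523 : act 8 n1916 = n1350 := d42_2 (iv F6756) D1916 (iv D1350)
def n1917 : Q := act 9 n1334
theorem D1917 : act 9 n1334 = n1917 := rfl
theorem F9524 : act 2 n1917 = n1338 := d23_1 D1917 (iv D1338) (iv F6754)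
theorem F9525 : act 3 n1917 = n1917 := d29_1 D1917 (iv D1917) F6755
theorem F9526 : act 6 n1917 = n1335 := d41_1 D1917 (iv D1335) D1334
def n1918 : Q := act 8 n1335
theorem D1918 : act 8 n1335 = n1918 := rfl
theorem F9527 : act 2 n1918 = n1339 := d22_1 D1918 (iv D1339) (iv F6757)
theorem F9528 : act 3 n1918 = n1918 := d28_1 D1918 (iv D1918) F6758
theorem F9529 : act 7 n1918 = n1918 := d42_1 D1918 (iv D1918) F6760
theorem F9530 : act 9 n1918 = n1352 := d44_2 D1335 D1918 (iv D1352) (iv D938) (iv F4786)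
def n1919 : Q := act 4 n1336
theorem D1919 : act 4 n1336 = n1919 := rfl
theorem F9531 : act 1 n1919 = n1456 := d11_1 D1919 (iv D1456) (iv F6761)
theorem F9532 : act 3 n1919 = n1919 := d24_1 D1919 (iv D1919) F6762 F4796 (iv F6762)
theorem F9533 : act 6 n1919 = n1919 := d31_2 F6763 D1919 (iv D1919)
theorem F9534 : act 8 n1919 = n1919 := d33_2 F6764 D1919 (iv D1919)
def n1920 : Q := act 7 n1336
theorem D1920 : act 7 n1336 = n1920 := rfl
theorem F9535 : act 1 n1920 = n1457 := d14_1 D1920 (iv D1457) (iv F6761)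
theorem F9536 : act 3 n1920 = n1340 := d27_1 D1920 (iv D1340) (iv F6762)
theorem F9537 : act 5 n1920 = n1337 := d36_1 D1920 (iv D1337) D1336
theorem F9538 : act 8 n1920 = n1920 := d42_2 F6764 D1920 (iv D1920)
def n1921 : Q := act 9 n1336
theorem D1921 : act 9 n1336 = n1921 := rfl
theorem F9539 : act 1 n1921 = n1458 := d16_1 D1921 (iv D1458) (iv F6761)
theorem F9540 : act 3 n1921 = n1341 := d29_1 D1921 (iv D1341) (iv F6762)
theorem F9541 : act 5 n1921 = n1338 := d38_1 D1921 (iv D1338) D1336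
theorem F9542 : act 6 n1921 = n1921 := d41_1 D1921 (iv D1921) F6763
def n1922 : Q := act 9 n1337
theorem D1922 : act 9 n1337 = n1922 := rfl
theorem F9543 : act 1 n1922 = n1459 := d16_1 D1922 (iv D1459) (iv F6765)
theorem F9544 : act 3 n1922 = n1342 := d29_1 D1922 (iv D1342) (iv F6766)
theorem F9545 : act 6 n1922 = n1922 := d41_1 D1922 (iv D1922) F6767
theorem F9546 : act 7 n1922 = n1338 := d43_1 D1922 (iv D1338) D1337
def n1923 : Q := act 8 n1338
theorem D1923 : act 8 n1338 = n1923 := rfl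
theorem F9547 : act 1 n1923 = n1460 := d15_1 D1923 (iv D1460) (iv F6769)
theorem F9548 : act 3 n1923 = n1343 := d28_1 D1923 (iv D1343) (iv F6770)
theorem F9549 : act 6 n1923 = n1339 := d40_1 D1923 (iv D1339) (iv F6771)
theorem F9550 : act 9 n1923 = n1354 := d44_2 D1338 D1923 (iv D1354) (iv D940) (iv F4789)
def n1924 : Q := act 5 n1339
theorem D1924 : act 5 n1339 = n1924 := rfl
theorem F9551 : act 1 n1924 = n1461 := d12_1 D1924 (iv D1461) (iv F6772)
theorem F9552 : act 3 n1924 = n1344 := d25_1 D1924 (iv D1344) (iv F6773)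
theorem F9553 : act 7 n1924 = n1924 := d36_2 F6774 D1924 (iv D1924)
theorem F9554 : act 8 n1924 = n1924 := d37_2 D1339 D1924 (iv D1924) (iv D1339) F4792
theorem F9555 : act 9 n1924 = n1355 := d38_2 (iv F6775) D1924 (iv D1355)
def n1925 : Q := act 6 n1340
theorem D1925 : act 6 n1340 = n1925 := rfl
theorem F9556 : act 1 n1925 = n1462 := d13_1 D1925 (iv D1462) (iv F6776)
theorem F9557 : act 2 n1925 = n1925 := d20_1 D1925 (iv D1925) F6777
theorem F9558 : act 4 n1925 = n1925 := d31_1 D1925 (iv D1925) F6778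
theorem F9559 : act 5 n1925 = n1925 := d35_1 D1925 (iv D1925) F6779 F4802 (iv F6779)
theorem F9560 : act 7 n1925 = n1925 := d39_2 D1340 D1925 (iv D1925) (iv D1340) F4797
theorem F9561 : act 8 n1925 = n1925 := d40_2 F6780 D1925 (iv D1925)
def n1926 : Q := act 9 n1340
theorem D1926 : act 9 n1340 = n1926 := rfl
theorem F9562 : act 1 n1926 = n1463 := d16_1 D1926 (iv D1463) (iv F6776)
theorem F9563 : act 2 n1926 = n1926 := d23_1 D1926 (iv D1926) F6777
theorem F9564 : act 4 n1926 = n1926 := d34_1 D1926 (iv D1926) F6778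
theorem F9565 : act 5 n1926 = n1342 := d38_1 D1926 (iv D1342) (iv F6779)
theorem F9566 : act 7 n1926 = n1341 := d43_1 D1926 (iv D1341) D1340
def n1927 : Q := act 8 n1341
theorem D1927 : act 8 n1341 = n1927 := rfl
theorem F9567 : act 1 n1927 = n1464 := d15_1 D1927 (iv D1464) (iv F6781)
theorem F9568 : act 2 n1927 = n1927 := d22_1 D1927 (iv D1927) F6782
theorem F9569 : act 4 n1927 = n1927 := d33_1 D1927 (iv D1927) F6783
theorem F9570 : act 6 n1927 = n1927 := d40_1 D1927 (iv D1927) F6785
theorem F9571 : act 9 n1927 = n1927 := d44_2 D1341 D1927 (iv D1927) (iv D1341) F4798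
def n1928 : Q := act 8 n1342
theorem D1928 : act 8 n1342 = n1928 := rfl
theorem F9572 : act 1 n1928 = n1465 := d15_1 D1928 (iv D1465) (iv F6786)
theorem F9573 : act 2 n1928 = n1928 := d22_1 D1928 (iv D1928) F6787
theorem F9574 : act 4 n1928 = n1345 := d33_1 D1928 (iv D1345) (iv F6788)
theorem F9575 : act 6 n1928 = n1928 := d40_1 D1928 (iv D1928) F6789
theorem F9576 : act 7 n1928 = n1343 := d42_1 D1928 (iv D1343) (iv F6790)
theorem F9577 : act 9 n1928 = n1356 := d44_2 D1342 D1928 (iv D1356) (iv D942) (iv F4803)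
def n1929 : Q := act 5 n1343
theorem D1929 : act 5 n1343 = n1929 := rfl
theorem F9578 : act 1 n1929 = n1466 := d12_1 D1929 (iv D1466) (iv F6791)
theorem F9579 : act 2 n1929 = n1929 := d19_1 D1929 (iv D1929) F6792
theorem F9580 : act 9 n1929 = n1357 := d38_2 (iv F6795) D1929 (iv D1357)
def n1930 : Q := act 6 n1344
theorem D1930 : act 6 n1344 = n1930 := rfl
theorem F9581 : act 1 n1930 = n1467 := d13_1 D1930 (iv D1467) (iv F6796)
theorem F9582 : act 2 n1930 = n1930 := d20_1 D1930 (iv D1930) F6797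
theorem F9583 : act 4 n1930 = n1930 := d31_1 D1930 (iv D1930) F6798
theorem F9584 : act 8 n1930 = n1930 := d40_2 F6800 D1930 (iv D1930)
theorem F9585 : act 9 n1930 = n1358 := d41_2 (iv F6801) D1930 (iv D1358)
def n1931 : Q := act 5 n1345
theorem D1931 : act 5 n1345 = n1931 := rfl
theorem F9586 : act 1 n1931 = n1468 := d12_1 D1931 (iv D1468) (iv F6802)
theorem F9587 : act 2 n1931 = n1931 := d19_1 D1931 (iv D1931) F6803
theorem F9588 : act 7 n1931 = n1346 := d36_2 (iv F6805) D1931 (iv D1346)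
theorem F9589 : act 8 n1931 = n1931 := d37_2 D1345 D1931 (iv D1931) (iv D1345) F4815
theorem F9590 : act 9 n1931 = n1359 := d38_2 (iv F6806) D1931 (iv D1359)
def n1932 : Q := act 4 n1346
theorem D1932 : act 4 n1346 = n1932 := rfl
theorem F9591 : act 1 n1932 = n1469 := d11_1 D1932 (iv D1469) (iv F6807)
theorem F9592 : act 2 n1932 = n1932 := d18_1 D1932 (iv D1932) F6808
theorem F9593 : act 6 n1932 = n1932 := d31_2 F6809 D1932 (iv D1932)
theorem F9594 : act 8 n1932 = n1932 := d33_2 F6810 D1932 (iv D1932)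
theorem F9595 : act 9 n1932 = n1360 := d34_2 (iv F6811) D1932 (iv D1360)
def n1933 : Q := act 6 n1347
theorem D1933 : act 6 n1347 = n1933 := rfl
theorem F9596 : act 0 n1933 = n1348 := d5_1 D1933 (iv D1348) D1347
theorem F9597 : act 2 n1933 = n1470 := d20_1 D1933 (iv D1470) (iv F6812)
theorem F9598 : act 3 n1933 = n1933 := d26_1 D1933 (iv D1933) F6813
theorem F9599 : act 5 n1933 = n1933 := d35_1 D1933 (iv D1933) F6814 F4895 (iv F6814)
def n1934 : Q := act 9 n1347
theorem D1934 : act 9 n1347 = n1934 := rfl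
theorem F9600 : act 0 n1934 = n1349 := d8_1 D1934 (iv D1349) D1347
theorem F9601 : act 2 n1934 = n1471 := d23_1 D1934 (iv D1471) (iv F6812)
theorem F9602 : act 3 n1934 = n1934 := d29_1 D1934 (iv D1934) F6813
theorem F9603 : act 5 n1934 = n1367 := d38_1 D1934 (iv D1367) (iv F6814)
theorem F9604 : act 7 n1934 = n1934 := d43_1 D1934 (iv D1934) F6815
def n1935 : Q := act 7 n1348
theorem D1935 : act 7 n1348 = n1935 := rfl
theorem F9605 : act 1 n1935 = n1350 := d14_1 D1935 (iv D1350) (iv F6816)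
theorem F9606 : act 2 n1935 = n1472 := d21_1 D1935 (iv D1472) (iv F6817)
theorem F9607 : act 3 n1935 = n1935 := d27_1 D1935 (iv D1935) F6818
theorem F9608 : act 5 n1935 = n1935 := d36_1 D1935 (iv D1935) F6819
theorem F9609 : act 6 n1935 = n1935 := d39_1 D1935 (iv D1935) (iv D1348) F4825 D1348
def n1936 : Q := act 9 n1348
theorem D1936 : act 9 n1348 = n1936 := rfl
theorem F9610 : act 1 n1936 = n1351 := d16_1 D1936 (iv D1351) (iv F6816)
theorem F9611 : act 2 n1936 = n1473 := d23_1 D1936 (iv D1473) (iv F6817)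
theorem F9612 : act 3 n1936 = n1936 := d29_1 D1936 (iv D1936) F6818
theorem F9613 : act 5 n1936 = n1936 := d38_1 D1936 (iv D1936) F6819
theorem F9614 : act 6 n1936 = n1349 := d41_1 D1936 (iv D1349) D1348
def n1937 : Q := act 8 n1349
theorem D1937 : act 8 n1349 = n1937 := rfl
theorem F9615 : act 1 n1937 = n1352 := d15_1 D1937 (iv D1352) (iv F6820)
theorem F9616 : act 2 n1937 = n1474 := d22_1 D1937 (iv D1474) (iv F6821)
theorem F9617 : act 3 n1937 = n1937 := d28_1 D1937 (iv D1937) F6822
theorem F9618 : act 7 n1937 = n1937 := d42_1 D1937 (iv D1937) F6824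
def n1938 : Q := act 9 n1350
theorem D1938 : act 9 n1350 = n1938 := rfl
theorem F9619 : act 2 n1938 = n1353 := d23_1 D1938 (iv D1353) (iv F6825)
theorem F9620 : act 3 n1938 = n1938 := d29_1 D1938 (iv D1938) F6826
theorem F9621 : act 5 n1938 = n1938 := d38_1 D1938 (iv D1938) F6827
theorem F9622 : act 6 n1938 = n1938 := d41_1 D1938 (iv D1938) F6828
theorem F9623 : act 7 n1938 = n1351 := d43_1 D1938 (iv D1351) D1350
def n1939 : Q := act 8 n1351
theorem D1939 : act 8 n1351 = n1939 := rfl
theorem F9624 : act 2 n1939 = n1354 := d22_1 D1939 (iv D1354) (iv F6829)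
theorem F9625 : act 3 n1939 = n1939 := d28_1 D1939 (iv D1939) F6830
theorem F9626 : act 6 n1939 = n1352 := d40_1 D1939 (iv D1352) (iv F6832)
def n1940 : Q := act 5 n1352
theorem D1940 : act 5 n1352 = n1940 := rfl
theorem F9627 : act 2 n1940 = n1355 := d19_1 D1940 (iv D1355) (iv F6833)
theorem F9628 : act 3 n1940 = n1940 := d25_1 D1940 (iv D1940) F6834
theorem F9629 : act 7 n1940 = n1940 := d36_2 F6835 D1940 (iv D1940)
theorem F9630 : act 8 n1940 = n1369 := d37_2 D1352 D1940 (iv D1369) (iv D954) (iv F4831)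
def n1941 : Q := act 8 n1353
theorem D1941 : act 8 n1353 = n1941 := rfl
theorem F9631 : act 1 n1941 = n1478 := d15_1 D1941 (iv D1478) (iv F6836)
theorem F9632 : act 3 n1941 = n1356 := d28_1 D1941 (iv D1356) (iv F6837)
theorem F9633 : act 6 n1941 = n1941 := d40_1 D1941 (iv D1941) F6839
theorem F9634 : act 7 n1941 = n1354 := d42_1 D1941 (iv D1354) (iv F6840)
def n1942 : Q := act 5 n1354
theorem D1942 : act 5 n1354 = n1942 := rfl
theorem F9635 : act 1 n1942 = n1479 := d12_1 D1942 (iv D1479) (iv F6841)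
theorem F9636 : act 3 n1942 = n1357 := d25_1 D1942 (iv D1357) (iv F6842)
theorem F9637 : act 8 n1942 = n1942 := d37_2 D1354 D1942 (iv D1942) (iv D1354) F4839
def n1943 : Q := act 4 n1355
theorem D1943 : act 4 n1355 = n1943 := rfl
theorem F9638 : act 1 n1943 = n1480 := d11_1 D1943 (iv D1480) (iv F6844)
theorem F9639 : act 3 n1943 = n1943 := d24_1 D1943 (iv D1943) F6845 F4856 (iv F6845)
theorem F9640 : act 7 n1943 = n1943 := d32_2 F6846 D1943 (iv D1943)
theorem F9641 : act 8 n1943 = n1370 := d33_2 (iv F6847) D1943 (iv D1370)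
def n1944 : Q := act 6 n1355
theorem D1944 : act 6 n1355 = n1944 := rfl
theorem F9642 : act 1 n1944 = n1481 := d13_1 D1944 (iv D1481) (iv F6844)
theorem F9643 : act 3 n1944 = n1358 := d26_1 D1944 (iv D1358) (iv F6845)
theorem F9644 : act 8 n1944 = n1371 := d40_2 (iv F6847) D1944 (iv D1371)
def n1945 : Q := act 5 n1356
theorem D1945 : act 5 n1356 = n1945 := rfl
theorem F9645 : act 1 n1945 = n1482 := d12_1 D1945 (iv D1482) (iv F6848)
theorem F9646 : act 2 n1945 = n1945 := d19_1 D1945 (iv D1945) F6849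
theorem F9647 : act 7 n1945 = n1357 := d36_2 (iv F6852) D1945 (iv D1357)
theorem F9648 : act 8 n1945 = n1945 := d37_2 D1356 D1945 (iv D1945) (iv D1356) F4847
def n1946 : Q := act 4 n1357
theorem D1946 : act 4 n1357 = n1946 := rfl
theorem F9649 : act 1 n1946 = n1483 := d11_1 D1946 (iv D1483) (iv F6853)
theorem F9650 : act 2 n1946 = n1946 := d18_1 D1946 (iv D1946) F6854
theorem F9651 : act 5 n1946 = n1360 := d30_2 D1357 D1946 (iv D1360) (iv D946) (iv F4852)
theorem F9652 : act 8 n1946 = n1946 := d33_2 F6855 D1946 (iv D1946)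
def n1947 : Q := act 6 n1357
theorem D1947 : act 6 n1357 = n1947 := rfl
theorem F9653 : act 1 n1947 = n1484 := d13_1 D1947 (iv D1484) (iv F6853)
theorem F9654 : act 2 n1947 = n1947 := d20_1 D1947 (iv D1947) F6854
theorem F9655 : act 5 n1947 = n1358 := d35_1 D1947 (iv D1358) (iv D944) (iv F4853) D1357
theorem F9656 : act 8 n1947 = n1947 := d40_2 F6855 D1947 (iv D1947)
def n1948 : Q := act 7 n1358
theorem D1948 : act 7 n1358 = n1948 := rfl
theorem F9657 : act 1 n1948 = n1485 := d14_1 D1948 (iv D1485) (iv F6856)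
theorem F9658 : act 2 n1948 = n1948 := d21_1 D1948 (iv D1948) F6857
theorem F9659 : act 4 n1948 = n1948 := d32_1 D1948 (iv D1948) F6858
theorem F9660 : act 6 n1948 = n1948 := d39_1 D1948 (iv D1948) (iv D1358) F4857 D1358
theorem F9661 : act 8 n1948 = n1372 := d42_2 (iv F6859) D1948 (iv D1372)
def n1949 : Q := act 4 n1359
theorem D1949 : act 4 n1359 = n1949 := rfl
theorem F9662 : act 1 n1949 = n1486 := d11_1 D1949 (iv D1486) (iv F6860)
theorem F9663 : act 2 n1949 = n1949 := d18_1 D1949 (iv D1949) F6861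
theorem F9664 : act 7 n1949 = n1360 := d32_2 (iv F6862) D1949 (iv D1360)
theorem F9665 : act 8 n1949 = n1361 := d33_2 (iv F6863) D1949 (iv D1361)
def n1950 : Q := act 6 n1359
theorem D1950 : act 6 n1359 = n1950 := rfl
theorem F9666 : act 1 n1950 = n1487 := d13_1 D1950 (iv D1487) (iv F6860)
theorem F9667 : act 2 n1950 = n1950 := d20_1 D1950 (iv D1950) F6861
theorem F9668 : act 5 n1950 = n1950 := d35_1 D1950 (iv D1950) (iv D1359) F4861 D1359
theorem F9669 : act 7 n1950 = n1950 := d39_2 (iv F6862) D1950 (iv D1950) F6862 F4865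
theorem F9670 : act 8 n1950 = n1362 := d40_2 (iv F6863) D1950 (iv D1362)
def n1951 : Q := act 3 n1360
theorem D1951 : act 3 n1360 = n1951 := rfl
theorem F9671 : act 1 n1951 = n1488 := d10_1 D1951 (iv D1488) (iv F6864)
theorem F9672 : act 6 n1951 = n1951 := d26_2 F6866 D1951 (iv D1951)
theorem F9673 : act 8 n1951 = n1363 := d28_2 (iv F6867) D1951 (iv D1363)
def n1952 : Q := act 3 n1361
theorem D1952 : act 3 n1361 = n1952 := rfl
theorem F9674 : act 1 n1952 = n1489 := d10_1 D1952 (iv D1489) (iv F6868)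
theorem F9675 : act 5 n1952 = n1952 := d25_2 F6870 D1952 (iv D1952)
theorem F9676 : act 7 n1952 = n1363 := d27_2 (iv F6871) D1952 (iv D1363)
theorem F9677 : act 9 n1952 = n1952 := d29_2 F6872 D1952 (iv D1952)
def n1953 : Q := act 6 n1361
theorem D1953 : act 6 n1361 = n1953 := rfl
theorem F9678 : act 1 n1953 = n1490 := d13_1 D1953 (iv D1490) (iv F6868)
theorem F9680 : act 4 n1953 = n1362 := d31_1 D1953 (iv D1362) D1361
def n1954 : Q := act 2 n1363
theorem D1954 : act 2 n1363 = n1954 := rfl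
theorem F9683 : act 3 n1954 = n1954 := d17_2 D1363 D1954 (iv D1954) (iv D1363) F4872
theorem F9684 : act 5 n1954 = n1954 := d19_2 F6879 D1954 (iv D1954)
theorem F9685 : act 6 n1954 = n1954 := d20_2 F6880 D1954 (iv D1954)
theorem F9686 : act 9 n1954 = n1954 := d23_2 F6881 D1954 (iv D1954)
def n1957 : Q := act 5 n1365
theorem D1957 : act 5 n1365 = n1957 := rfl
def n1959 : Q := act 8 n1367
theorem D1959 : act 8 n1367 = n1959 := rfl
theorem F9708 : act 0 n1959 = n1368 := d7_1 D1959 (iv D1368) (iv F6898)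
theorem F9709 : act 2 n1959 = n1496 := d22_1 D1959 (iv D1496) (iv F6899)
theorem F9710 : act 3 n1959 = n1959 := d28_1 D1959 (iv D1959) F6900
theorem F9711 : act 4 n1959 = n1959 := d33_1 D1959 (iv D1959) F6901
theorem F9712 : act 6 n1959 = n1959 := d40_1 D1959 (iv D1959) F6902
theorem F9713 : act 7 n1959 = n1959 := d42_1 D1959 (iv D1959) F6903
theorem F9714 : act 9 n1959 = n1959 := d44_2 D1367 D1959 (iv D1959) (iv D1367) F4897
def n1960 : Q := act 5 n1368
theorem D1960 : act 5 n1368 = n1960 := rfl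
theorem F9715 : act 1 n1960 = n1369 := d12_1 D1960 (iv D1369) (iv F6904)
theorem F9716 : act 2 n1960 = n1497 := d19_1 D1960 (iv D1497) (iv F6905)
theorem F9717 : act 3 n1960 = n1960 := d25_1 D1960 (iv D1960) F6906
theorem F9718 : act 7 n1960 = n1960 := d36_2 F6909 D1960 (iv D1960)
theorem F9719 : act 9 n1960 = n1960 := d38_2 F6910 D1960 (iv D1960)
def n1961 : Q := act 4 n1369
theorem D1961 : act 4 n1369 = n1961 := rfl
theorem F9720 : act 2 n1961 = n1370 := d18_1 D1961 (iv D1370) (iv F6911)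
theorem F9721 : act 5 n1961 = n1961 := d30_2 D1369 D1961 (iv D1961) (iv D1369) F4906
theorem F9722 : act 7 n1961 = n1961 := d32_2 F6913 D1961 (iv D1961)
theorem F9723 : act 9 n1961 = n1961 := d34_2 F6914 D1961 (iv D1961)
def n1962 : Q := act 6 n1369
theorem D1962 : act 6 n1369 = n1962 := rfl
theorem F9724 : act 2 n1962 = n1371 := d20_1 D1962 (iv D1371) (iv F6911)
theorem F9725 : act 3 n1962 = n1962 := d26_1 D1962 (iv D1962) F6912
theorem F9726 : act 5 n1962 = n1962 := d35_1 D1962 (iv D1962) (iv D1369) F4907 D1369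
theorem F9727 : act 9 n1962 = n1962 := d41_2 F6914 D1962 (iv D1962)
def n1963 : Q := act 6 n1370
theorem D1963 : act 6 n1370 = n1963 := rfl
theorem F9728 : act 1 n1963 = n1500 := d13_1 D1963 (iv D1500) (iv F6915)
theorem F9729 : act 3 n1963 = n1963 := d26_1 D1963 (iv D1963) F6916
theorem F9730 : act 4 n1963 = n1371 := d31_1 D1963 (iv D1371) D1370
theorem F9731 : act 9 n1963 = n1963 := d41_2 F6919 D1963 (iv D1963)
def n1964 : Q := act 7 n1371
theorem D1964 : act 7 n1371 = n1964 := rfl
theorem F9732 : act 1 n1964 = n1501 := d14_1 D1964 (iv D1501) (iv F6920)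
theorem F9733 : act 3 n1964 = n1372 := d27_1 D1964 (iv D1372) (iv F6921)
theorem F9734 : act 5 n1964 = n1964 := d36_1 D1964 (iv D1964) F6922
theorem F9735 : act 6 n1964 = n1964 := d39_1 D1964 (iv D1964) (iv D1371) F4912 D1371
theorem F9736 : act 9 n1964 = n1964 := d43_2 F6923 D1964 (iv D1964)
def n1965 : Q := act 1 n1373
theorem D1965 : act 1 n1373 = n1965 := rfl
theorem F9737 : act 3 n1965 = n1965 := d10_2 F6931 D1965 (iv D1965)
theorem F9738 : act 4 n1965 = n1965 := d11_2 F6932 D1965 (iv D1965)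
theorem F9739 : act 5 n1965 = n1382 := d12_2 (iv F6933) D1965 (iv D1382)
theorem F9740 : act 7 n1965 = n1965 := d14_2 F6934 D1965 (iv D1965)
theorem F9741 : act 8 n1965 = n1965 := d15_2 F6935 D1965 (iv D1965)
def n1966 : Q := act 6 n1373
theorem D1966 : act 6 n1373 = n1966 := rfl
theorem F9742 : act 0 n1966 = n1966 := d5_1 D1966 (iv D1966) F6930
theorem F9743 : act 2 n1966 = n1374 := d20_1 D1966 (iv D1374) D1373
theorem F9744 : act 3 n1966 = n1966 := d26_1 D1966 (iv D1966) F6931
theorem F9745 : act 4 n1966 = n1966 := d31_1 D1966 (iv D1966) F6932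
theorem F9746 : act 8 n1966 = n1966 := d40_2 F6935 D1966 (iv D1966)
def n1967 : Q := act 9 n1373
theorem D1967 : act 9 n1373 = n1967 := rfl
theorem F9747 : act 0 n1967 = n1967 := d8_1 D1967 (iv D1967) F6930
theorem F9748 : act 2 n1967 = n1375 := d23_1 D1967 (iv D1375) D1373
theorem F9749 : act 3 n1967 = n1967 := d29_1 D1967 (iv D1967) F6931
theorem F9750 : act 4 n1967 = n1967 := d34_1 D1967 (iv D1967) F6932
theorem F9751 : act 5 n1967 = n1384 := d38_1 D1967 (iv D1384) (iv F6933)
theorem F9752 : act 7 n1967 = n1967 := d43_1 D1967 (iv D1967) F6934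
def n1968 : Q := act 5 n1374
theorem D1968 : act 5 n1374 = n1968 := rfl
theorem F9753 : act 0 n1968 = n1968 := d4_1 D1968 (iv D1968) F6936
theorem F9754 : act 3 n1968 = n1376 := d25_1 D1968 (iv D1376) (iv F6937)
theorem F9755 : act 6 n1968 = n1385 := d35_2 D1374 D1968 (iv D1385) (iv D964) (iv F4921)
def n1969 : Q := act 7 n1374
theorem D1969 : act 7 n1374 = n1969 := rfl
theorem F9756 : act 0 n1969 = n1969 := d6_1 D1969 (iv D1969) F6936
theorem F9757 : act 3 n1969 = n1377 := d27_1 D1969 (iv D1377) (iv F6937)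
theorem F9758 : act 4 n1969 = n1969 := d32_1 D1969 (iv D1969) F6938
theorem F9759 : act 6 n1969 = n1969 := d39_1 D1969 (iv D1969) (iv D1374) F4922 D1374
theorem F9760 : act 8 n1969 = n1969 := d42_2 F6939 D1969 (iv D1969)
def n1970 : Q := act 9 n1374
theorem D1970 : act 9 n1374 = n1970 := rfl
theorem F9761 : act 0 n1970 = n1970 := d8_1 D1970 (iv D1970) F6936
theorem F9762 : act 3 n1970 = n1378 := d29_1 D1970 (iv D1378) (iv F6937)
theorem F9763 : act 4 n1970 = n1970 := d34_1 D1970 (iv D1970) F6938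
theorem F9764 : act 6 n1970 = n1375 := d41_1 D1970 (iv D1375) D1374
def n1971 : Q := act 8 n1375
theorem D1971 : act 8 n1375 = n1971 := rfl
theorem F9765 : act 0 n1971 = n1971 := d7_1 D1971 (iv D1971) F6940
theorem F9766 : act 3 n1971 = n1379 := d28_1 D1971 (iv D1379) (iv F6941)
theorem F9767 : act 4 n1971 = n1971 := d33_1 D1971 (iv D1971) F6942
theorem F9768 : act 7 n1971 = n1971 := d42_1 D1971 (iv D1971) F6944
theorem F9769 : act 9 n1971 = n1971 := d44_2 D1375 D1971 (iv D1971) (iv D1375) F4923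
def n1972 : Q := act 7 n1376
theorem D1972 : act 7 n1376 = n1972 := rfl
theorem F9770 : act 0 n1972 = n1972 := d6_1 D1972 (iv D1972) F6945
theorem F9771 : act 2 n1972 = n1972 := d21_1 D1972 (iv D1972) F6946
theorem F9772 : act 4 n1972 = n1972 := d32_1 D1972 (iv D1972) F6947
theorem F9773 : act 5 n1972 = n1377 := d36_1 D1972 (iv D1377) D1376
def n1973 : Q := act 8 n1376
theorem D1973 : act 8 n1376 = n1973 := rfl
theorem F9774 : act 0 n1973 = n1973 := d7_1 D1973 (iv D1973) F6945
theorem F9775 : act 2 n1973 = n1973 := d22_1 D1973 (iv D1973) F6946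
theorem F9776 : act 4 n1973 = n1973 := d33_1 D1973 (iv D1973) F6947
theorem F9777 : act 5 n1973 = n1973 := d37_1 D1973 (iv D1973) (iv D1376) F4927 D1376
theorem F9778 : act 6 n1973 = n1390 := d40_1 D1973 (iv D1390) (iv F6948)
def n1974 : Q := act 9 n1376
theorem D1974 : act 9 n1376 = n1974 := rfl
theorem F9779 : act 0 n1974 = n1974 := d8_1 D1974 (iv D1974) F6945
theorem F9780 : act 2 n1974 = n1974 := d23_1 D1974 (iv D1974) F6946
theorem F9781 : act 4 n1974 = n1974 := d34_1 D1974 (iv D1974) F6947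
theorem F9782 : act 5 n1974 = n1378 := d38_1 D1974 (iv D1378) D1376
theorem F9783 : act 6 n1974 = n1391 := d41_1 D1974 (iv D1391) (iv F6948)
def n1975 : Q := act 9 n1377
theorem D1975 : act 9 n1377 = n1975 := rfl
theorem F9784 : act 0 n1975 = n1975 := d8_1 D1975 (iv D1975) F6949
theorem F9785 : act 2 n1975 = n1975 := d23_1 D1975 (iv D1975) F6950
theorem F9786 : act 4 n1975 = n1380 := d34_1 D1975 (iv D1380) (iv F6951)
theorem F9787 : act 6 n1975 = n1975 := d41_1 D1975 (iv D1975) F6952
theorem F9788 : act 7 n1975 = n1378 := d43_1 D1975 (iv D1378) D1377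
def n1976 : Q := act 8 n1378
theorem D1976 : act 8 n1378 = n1976 := rfl
theorem F9789 : act 0 n1976 = n1976 := d7_1 D1976 (iv D1976) F6954
theorem F9790 : act 2 n1976 = n1976 := d22_1 D1976 (iv D1976) F6955
theorem F9791 : act 4 n1976 = n1381 := d33_1 D1976 (iv D1381) (iv F6956)
theorem F9792 : act 6 n1976 = n1379 := d40_1 D1976 (iv D1379) (iv F6957)
theorem F9793 : act 9 n1976 = n1976 := d44_2 D1378 D1976 (iv D1976) (iv D1378) F4927
def n1977 : Q := act 5 n1379
theorem D1977 : act 5 n1379 = n1977 := rfl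
theorem F9794 : act 0 n1977 = n1977 := d4_1 D1977 (iv D1977) F6958
theorem F9795 : act 2 n1977 = n1977 := d19_1 D1977 (iv D1977) F6959
theorem F9796 : act 4 n1977 = n1977 := d30_1 D1977 (iv D1977) F6960 F4947 (iv F6960)
theorem F9797 : act 7 n1977 = n1977 := d36_2 F6961 D1977 (iv D1977)
theorem F9798 : act 8 n1977 = n1394 := d37_2 D1379 D1977 (iv D1394) (iv D969) (iv F4931)
theorem F9799 : act 9 n1977 = n1977 := d38_2 F6962 D1977 (iv D1977)
def n1978 : Q := act 8 n1380
theorem D1978 : act 8 n1380 = n1978 := rfl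
theorem F9800 : act 0 n1978 = n1978 := d7_1 D1978 (iv D1978) F6963
theorem F9801 : act 2 n1978 = n1978 := d22_1 D1978 (iv D1978) F6964
theorem F9802 : act 3 n1978 = n1978 := d28_1 D1978 (iv D1978) F6965
theorem F9803 : act 6 n1978 = n1978 := d40_1 D1978 (iv D1978) F6967
theorem F9804 : act 7 n1978 = n1381 := d42_1 D1978 (iv D1381) (iv F6968)
theorem F9805 : act 9 n1978 = n1978 := d44_2 D1380 D1978 (iv D1978) (iv D1380) F4938
def n1979 : Q := act 5 n1381
theorem D1979 : act 5 n1381 = n1979 := rfl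
theorem F9806 : act 0 n1979 = n1979 := d4_1 D1979 (iv D1979) F6969
theorem F9807 : act 2 n1979 = n1979 := d19_1 D1979 (iv D1979) F6970
theorem F9808 : act 3 n1979 = n1979 := d25_1 D1979 (iv D1979) F6971
theorem F9809 : act 6 n1979 = n1979 := d35_2 (iv F6972) D1979 (iv D1979) F6972 F4947
theorem F9810 : act 8 n1979 = n1979 := d37_2 D1381 D1979 (iv D1979) (iv D1381) F4942
theorem F9811 : act 9 n1979 = n1979 := d38_2 F6973 D1979 (iv D1979)
def n1980 : Q := act 0 n1382
theorem D1980 : act 0 n1382 = n1980 := rfl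
theorem F9812 : act 1 n1980 = n1980 := d0_2 D1382 D1980 (iv D1980) (iv D1382) F4950
theorem F9813 : act 3 n1980 = n1980 := d2_2 F6974 D1980 (iv D1980)
theorem F9814 : act 4 n1980 = n1449 := d3_2 (iv F6975) D1980 (iv D1449)
theorem F9815 : act 7 n1980 = n1980 := d6_2 F6976 D1980 (iv D1980)
theorem F9816 : act 8 n1980 = n1397 := d7_2 (iv F6977) D1980 (iv D1397)
def n1981 : Q := act 6 n1382
theorem D1981 : act 6 n1382 = n1981 := rfl
theorem F9817 : act 1 n1981 = n1383 := d13_1 D1981 (iv D1383) D1382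
theorem F9818 : act 3 n1981 = n1981 := d26_1 D1981 (iv D1981) F6974
theorem F9819 : act 4 n1981 = n1450 := d31_1 D1981 (iv D1450) (iv F6975)
theorem F9820 : act 8 n1981 = n1398 := d40_2 (iv F6977) D1981 (iv D1398)
def n1982 : Q := act 9 n1382
theorem D1982 : act 9 n1382 = n1982 := rfl
theorem F9821 : act 1 n1982 = n1384 := d16_1 D1982 (iv D1384) D1382
theorem F9822 : act 3 n1982 = n1982 := d29_1 D1982 (iv D1982) F6974
theorem F9823 : act 4 n1982 = n1451 := d34_1 D1982 (iv D1451) (iv F6975)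
theorem F9824 : act 7 n1982 = n1982 := d43_1 D1982 (iv D1982) F6976
def n1983 : Q := act 5 n1383
theorem D1983 : act 5 n1383 = n1983 := rfl
theorem F9825 : act 0 n1983 = n1983 := d4_1 D1983 (iv D1983) F6978
theorem F9826 : act 2 n1983 = n1385 := d19_1 D1983 (iv D1385) (iv F6979)
theorem F9827 : act 3 n1983 = n1983 := d25_1 D1983 (iv D1983) F6980
def n1984 : Q := act 7 n1383
theorem D1984 : act 7 n1383 = n1984 := rfl
theorem F9828 : act 0 n1984 = n1984 := d6_1 D1984 (iv D1984) F6978
theorem F9829 : act 2 n1984 = n1386 := d21_1 D1984 (iv D1386) (iv F6979)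
theorem F9830 : act 3 n1984 = n1984 := d27_1 D1984 (iv D1984) F6980
theorem F9831 : act 4 n1984 = n1453 := d32_1 D1984 (iv D1453) (iv F6981)
theorem F9832 : act 6 n1984 = n1984 := d39_1 D1984 (iv D1984) (iv D1383) F4953 D1383
theorem F9833 : act 8 n1984 = n1401 := d42_2 (iv F6982) D1984 (iv D1401)
def n1985 : Q := act 9 n1383
theorem D1985 : act 9 n1383 = n1985 := rfl
theorem F9834 : act 0 n1985 = n1985 := d8_1 D1985 (iv D1985) F6978
theorem F9835 : act 2 n1985 = n1387 := d23_1 D1985 (iv D1387) (iv F6979)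
theorem F9836 : act 3 n1985 = n1985 := d29_1 D1985 (iv D1985) F6980
theorem F9837 : act 4 n1985 = n1454 := d34_1 D1985 (iv D1454) (iv F6981)
theorem F9838 : act 6 n1985 = n1384 := d41_1 D1985 (iv D1384) D1383
def n1986 : Q := act 8 n1384
theorem D1986 : act 8 n1384 = n1986 := rfl
theorem F9839 : act 0 n1986 = n1986 := d7_1 D1986 (iv D1986) F6983
theorem F9840 : act 2 n1986 = n1388 := d22_1 D1986 (iv D1388) (iv F6984)
theorem F9841 : act 3 n1986 = n1986 := d28_1 D1986 (iv D1986) F6985
theorem F9842 : act 4 n1986 = n1455 := d33_1 D1986 (iv D1455) (iv F6986)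
theorem F9843 : act 7 n1986 = n1986 := d42_1 D1986 (iv D1986) F6987
theorem F9844 : act 9 n1986 = n1403 := d44_2 D1384 D1986 (iv D1403) (iv D974) (iv F4954)
def n1987 : Q := act 4 n1385
theorem D1987 : act 4 n1385 = n1987 := rfl
theorem F9845 : act 0 n1987 = n1987 := d3_1 D1987 (iv D1987) F6988
theorem F9846 : act 3 n1987 = n1987 := d24_1 D1987 (iv D1987) F6989 F4965 (iv F6989)
theorem F9847 : act 5 n1987 = n1456 := d30_2 D1385 D1987 (iv D1456) (iv D1013) (iv F4957)
def n1988 : Q := act 7 n1385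
theorem D1988 : act 7 n1385 = n1988 := rfl
theorem F9848 : act 0 n1988 = n1988 := d6_1 D1988 (iv D1988) F6988
theorem F9849 : act 3 n1988 = n1389 := d27_1 D1988 (iv D1389) (iv F6989)
theorem F9850 : act 5 n1988 = n1386 := d36_1 D1988 (iv D1386) D1385
def n1989 : Q := act 8 n1385
theorem D1989 : act 8 n1385 = n1989 := rfl
theorem F9851 : act 0 n1989 = n1989 := d7_1 D1989 (iv D1989) F6988
theorem F9852 : act 3 n1989 = n1390 := d28_1 D1989 (iv D1390) (iv F6989)
theorem F9853 : act 5 n1989 = n1405 := d37_1 D1989 (iv D1405) (iv D975) (iv F4958) D1385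
def n1990 : Q := act 9 n1385
theorem D1990 : act 9 n1385 = n1990 := rfl
theorem F9854 : act 0 n1990 = n1990 := d8_1 D1990 (iv D1990) F6988
theorem F9855 : act 3 n1990 = n1391 := d29_1 D1990 (iv D1391) (iv F6989)
theorem F9856 : act 5 n1990 = n1387 := d38_1 D1990 (iv D1387) D1385
def n1991 : Q := act 9 n1386
theorem D1991 : act 9 n1386 = n1991 := rfl
theorem F9857 : act 0 n1991 = n1991 := d8_1 D1991 (iv D1991) F6990
theorem F9858 : act 3 n1991 = n1392 := d29_1 D1991 (iv D1392) (iv F6991)
theorem F9859 : act 4 n1991 = n1459 := d34_1 D1991 (iv D1459) (iv F6992)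
theorem F9860 : act 6 n1991 = n1991 := d41_1 D1991 (iv D1991) F6993
theorem F9861 : act 7 n1991 = n1387 := d43_1 D1991 (iv D1387) D1386
def n1992 : Q := act 8 n1387
theorem D1992 : act 8 n1387 = n1992 := rfl
theorem F9862 : act 0 n1992 = n1992 := d7_1 D1992 (iv D1992) F6995
theorem F9863 : act 3 n1992 = n1393 := d28_1 D1992 (iv D1393) (iv F6996)
theorem F9864 : act 4 n1992 = n1460 := d33_1 D1992 (iv D1460) (iv F6997)
theorem F9865 : act 6 n1992 = n1388 := d40_1 D1992 (iv D1388) (iv F6998)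
theorem F9866 : act 9 n1992 = n1408 := d44_2 D1387 D1992 (iv D1408) (iv D977) (iv F4958)
def n1993 : Q := act 5 n1388
theorem D1993 : act 5 n1388 = n1993 := rfl
theorem F9867 : act 0 n1993 = n1993 := d4_1 D1993 (iv D1993) F6999
theorem F9868 : act 3 n1993 = n1394 := d25_1 D1993 (iv D1394) (iv F7000)
theorem F9869 : act 7 n1993 = n1993 := d36_2 F7002 D1993 (iv D1993)
theorem F9870 : act 9 n1993 = n1409 := d38_2 (iv F7003) D1993 (iv D1409)
def n1994 : Q := act 6 n1389
theorem D1994 : act 6 n1389 = n1994 := rfl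
theorem F9871 : act 0 n1994 = n1994 := d5_1 D1994 (iv D1994) F7004
theorem F9872 : act 2 n1994 = n1994 := d20_1 D1994 (iv D1994) F7005
theorem F9873 : act 4 n1994 = n1994 := d31_1 D1994 (iv D1994) F7006
theorem F9874 : act 5 n1994 = n1994 := d35_1 D1994 (iv D1994) F7007 F4969 (iv F7007)
def n1995 : Q := act 8 n1389
theorem D1995 : act 8 n1389 = n1995 := rfl
theorem F9875 : act 0 n1995 = n1995 := d7_1 D1995 (iv D1995) F7004
theorem F9876 : act 2 n1995 = n1995 := d22_1 D1995 (iv D1995) F7005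
theorem F9877 : act 4 n1995 = n1995 := d33_1 D1995 (iv D1995) F7006
theorem F9878 : act 5 n1995 = n1411 := d37_1 D1995 (iv D1411) F5024 (iv F4970) (iv F7007)
theorem F9879 : act 7 n1995 = n1390 := d42_1 D1995 (iv D1390) D1389
def n1996 : Q := act 9 n1389
theorem D1996 : act 9 n1389 = n1996 := rfl
theorem F9880 : act 0 n1996 = n1996 := d8_1 D1996 (iv D1996) F7004
theorem F9881 : act 2 n1996 = n1996 := d23_1 D1996 (iv D1996) F7005
theorem F9882 : act 4 n1996 = n1996 := d34_1 D1996 (iv D1996) F7006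
theorem F9883 : act 5 n1996 = n1392 := d38_1 D1996 (iv D1392) (iv F7007)
theorem F9884 : act 7 n1996 = n1391 := d43_1 D1996 (iv D1391) D1389
def n1997 : Q := act 9 n1390
theorem D1997 : act 9 n1390 = n1997 := rfl
theorem F9885 : act 0 n1997 = n1997 := d8_1 D1997 (iv D1997) F7008
theorem F9886 : act 2 n1997 = n1997 := d23_1 D1997 (iv D1997) F7009
theorem F9887 : act 4 n1997 = n1997 := d34_1 D1997 (iv D1997) F7010
theorem F9888 : act 5 n1997 = n1413 := d38_1 D1997 (iv D1413) (iv F7011)
def n1998 : Q := act 8 n1391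
theorem D1998 : act 8 n1391 = n1998 := rfl
theorem F9889 : act 0 n1998 = n1998 := d7_1 D1998 (iv D1998) F7012
theorem F9890 : act 2 n1998 = n1998 := d22_1 D1998 (iv D1998) F7013
theorem F9891 : act 4 n1998 = n1998 := d33_1 D1998 (iv D1998) F7014
def n1999 : Q := act 8 n1392
theorem D1999 : act 8 n1392 = n1999 := rfl
theorem F9892 : act 0 n1999 = n1999 := d7_1 D1999 (iv D1999) F7016
theorem F9893 : act 2 n1999 = n1999 := d22_1 D1999 (iv D1999) F7017
theorem F9894 : act 4 n1999 = n1395 := d33_1 D1999 (iv D1395) (iv F7018)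
theorem F9895 : act 6 n1999 = n1999 := d40_1 D1999 (iv D1999) F7019
theorem F9896 : act 7 n1999 = n1393 := d42_1 D1999 (iv D1393) (iv F7020)
theorem F9897 : act 9 n1999 = n1415 := d44_2 D1392 D1999 (iv D1415) (iv D982) (iv F4970)
def n2000 : Q := act 5 n1393
theorem D2000 : act 5 n1393 = n2000 := rfl
theorem F9898 : act 0 n2000 = n2000 := d4_1 D2000 (iv D2000) F7021
theorem F9899 : act 2 n2000 = n2000 := d19_1 D2000 (iv D2000) F7022
theorem F9900 : act 9 n2000 = n1416 := d38_2 (iv F7025) D2000 (iv D1416)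
def n2001 : Q := act 6 n1394
theorem D2001 : act 6 n1394 = n2001 := rfl
theorem F9901 : act 0 n2001 = n2001 := d5_1 D2001 (iv D2001) F7026
theorem F9902 : act 2 n2001 = n2001 := d20_1 D2001 (iv D2001) F7027
theorem F9903 : act 4 n2001 = n2001 := d31_1 D2001 (iv D2001) F7028
theorem F9904 : act 9 n2001 = n1417 := d41_2 (iv F7030) D2001 (iv D1417)
def n2002 : Q := act 5 n1395
theorem D2002 : act 5 n1395 = n2002 := rfl
theorem F9905 : act 0 n2002 = n2002 := d4_1 D2002 (iv D2002) F7031
theorem F9906 : act 2 n2002 = n2002 := d19_1 D2002 (iv D2002) F7032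
theorem F9907 : act 3 n2002 = n1468 := d25_1 D2002 (iv D1468) (iv F7033)
theorem F9908 : act 7 n2002 = n1396 := d36_2 (iv F7035) D2002 (iv D1396)
theorem F9909 : act 8 n2002 = n2002 := d37_2 D1395 D2002 (iv D2002) (iv D1395) F4983
theorem F9910 : act 9 n2002 = n1418 := d38_2 (iv F7036) D2002 (iv D1418)
def n2003 : Q := act 4 n1396
theorem D2003 : act 4 n1396 = n2003 := rfl
theorem F9911 : act 0 n2003 = n2003 := d3_1 D2003 (iv D2003) F7037
theorem F9912 : act 2 n2003 = n2003 := d18_1 D2003 (iv D2003) F7038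
theorem F9913 : act 6 n2003 = n2003 := d31_2 F7040 D2003 (iv D2003)
theorem F9914 : act 8 n2003 = n2003 := d33_2 F7041 D2003 (iv D2003)
theorem F9915 : act 9 n2003 = n1419 := d34_2 (iv F7042) D2003 (iv D1419)
def n2004 : Q := act 6 n1397
theorem D2004 : act 6 n1397 = n2004 := rfl
theorem F9916 : act 0 n2004 = n1398 := d5_1 D2004 (iv D1398) D1397
theorem F9917 : act 1 n2004 = n2004 := d13_1 D2004 (iv D2004) F7043
theorem F9918 : act 3 n2004 = n2004 := d26_1 D2004 (iv D2004) F7044
theorem F9919 : act 4 n2004 = n1470 := d31_1 D2004 (iv D1470) (iv F7045)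
def n2005 : Q := act 9 n1397
theorem D2005 : act 9 n1397 = n2005 := rfl
theorem F9920 : act 0 n2005 = n1399 := d8_1 D2005 (iv D1399) D1397
theorem F9921 : act 1 n2005 = n2005 := d16_1 D2005 (iv D2005) F7043
theorem F9922 : act 3 n2005 = n2005 := d29_1 D2005 (iv D2005) F7044
theorem F9923 : act 4 n2005 = n1471 := d34_1 D2005 (iv D1471) (iv F7045)
theorem F9924 : act 5 n2005 = n2005 := d38_1 D2005 (iv D2005) F7046
theorem F9925 : act 7 n2005 = n2005 := d43_1 D2005 (iv D2005) F7047
def n2006 : Q := act 5 n1398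
theorem D2006 : act 5 n1398 = n2006 := rfl
theorem F9926 : act 1 n2006 = n1400 := d12_1 D2006 (iv D1400) (iv F7048)
theorem F9927 : act 3 n2006 = n2006 := d25_1 D2006 (iv D2006) F7049
theorem F9928 : act 4 n2006 = n2006 := d30_1 D2006 (iv D2006) F7050 F5247 (iv F7050)
theorem F9929 : act 6 n2006 = n2006 := d35_2 D1398 D2006 (iv D2006) (iv D1398) F4993
def n2007 : Q := act 7 n1398
theorem D2007 : act 7 n1398 = n2007 := rfl
theorem F9930 : act 1 n2007 = n1401 := d14_1 D2007 (iv D1401) (iv F7048)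
theorem F9931 : act 3 n2007 = n2007 := d27_1 D2007 (iv D2007) F7049
theorem F9932 : act 4 n2007 = n1472 := d32_1 D2007 (iv D1472) (iv F7050)
theorem F9933 : act 6 n2007 = n2007 := d39_1 D2007 (iv D2007) (iv D1398) F4994 D1398
def n2008 : Q := act 9 n1398
theorem D2008 : act 9 n1398 = n2008 := rfl
theorem F9934 : act 1 n2008 = n1402 := d16_1 D2008 (iv D1402) (iv F7048)
theorem F9935 : act 3 n2008 = n2008 := d29_1 D2008 (iv D2008) F7049
theorem F9936 : act 4 n2008 = n1473 := d34_1 D2008 (iv D1473) (iv F7050)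
theorem F9937 : act 6 n2008 = n1399 := d41_1 D2008 (iv D1399) D1398
def n2009 : Q := act 8 n1399
theorem D2009 : act 8 n1399 = n2009 := rfl
theorem F9938 : act 1 n2009 = n1403 := d15_1 D2009 (iv D1403) (iv F7051)
theorem F9939 : act 3 n2009 = n2009 := d28_1 D2009 (iv D2009) F7052
theorem F9940 : act 4 n2009 = n1474 := d33_1 D2009 (iv D1474) (iv F7053)
theorem F9941 : act 7 n2009 = n2009 := d42_1 D2009 (iv D2009) F7055
def n2010 : Q := act 7 n1400
theorem D2010 : act 7 n1400 = n2010 := rfl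
theorem F9942 : act 0 n2010 = n2010 := d6_1 D2010 (iv D2010) F7056
theorem F9943 : act 2 n2010 = n1404 := d21_1 D2010 (iv D1404) (iv F7057)
theorem F9944 : act 3 n2010 = n2010 := d27_1 D2010 (iv D2010) F7058
theorem F9945 : act 4 n2010 = n2010 := d32_1 D2010 (iv D2010) F7059
theorem F9946 : act 5 n2010 = n1401 := d36_1 D2010 (iv D1401) D1400
def n2011 : Q := act 8 n1400
theorem D2011 : act 8 n1400 = n2011 := rfl
theorem F9947 : act 0 n2011 = n2011 := d7_1 D2011 (iv D2011) F7056
theorem F9948 : act 2 n2011 = n1405 := d22_1 D2011 (iv D1405) (iv F7057)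
theorem F9949 : act 3 n2011 = n2011 := d28_1 D2011 (iv D2011) F7058
theorem F9950 : act 4 n2011 = n2011 := d33_1 D2011 (iv D2011) F7059
theorem F9951 : act 6 n2011 = n2011 := d40_1 D2011 (iv D2011) F7060
def n2012 : Q := act 9 n1400
theorem D2012 : act 9 n1400 = n2012 := rfl
theorem F9952 : act 0 n2012 = n2012 := d8_1 D2012 (iv D2012) F7056
theorem F9953 : act 2 n2012 = n1406 := d23_1 D2012 (iv D1406) (iv F7057)
theorem F9954 : act 3 n2012 = n2012 := d29_1 D2012 (iv D2012) F7058
theorem F9955 : act 4 n2012 = n2012 := d34_1 D2012 (iv D2012) F7059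
theorem F9956 : act 5 n2012 = n1402 := d38_1 D2012 (iv D1402) D1400
theorem F9957 : act 6 n2012 = n2012 := d41_1 D2012 (iv D2012) F7060
def n2013 : Q := act 9 n1401
theorem D2013 : act 9 n1401 = n2013 := rfl
theorem F9958 : act 0 n2013 = n2013 := d8_1 D2013 (iv D2013) F7061
theorem F9959 : act 2 n2013 = n1407 := d23_1 D2013 (iv D1407) (iv F7062)
theorem F9960 : act 3 n2013 = n2013 := d29_1 D2013 (iv D2013) F7063
theorem F9961 : act 4 n2013 = n1475 := d34_1 D2013 (iv D1475) (iv F7064)
theorem F9962 : act 6 n2013 = n2013 := d41_1 D2013 (iv D2013) F7065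
theorem F9963 : act 7 n2013 = n1402 := d43_1 D2013 (iv D1402) D1401
def n2014 : Q := act 8 n1402
theorem D2014 : act 8 n1402 = n2014 := rfl
theorem F9964 : act 0 n2014 = n2014 := d7_1 D2014 (iv D2014) F7066
theorem F9965 : act 2 n2014 = n1408 := d22_1 D2014 (iv D1408) (iv F7067)
theorem F9966 : act 3 n2014 = n2014 := d28_1 D2014 (iv D2014) F7068
theorem F9967 : act 4 n2014 = n1476 := d33_1 D2014 (iv D1476) (iv F7069)
theorem F9968 : act 6 n2014 = n1403 := d40_1 D2014 (iv D1403) (iv F7070)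
def n2015 : Q := act 5 n1403
theorem D2015 : act 5 n1403 = n2015 := rfl
theorem F9969 : act 0 n2015 = n2015 := d4_1 D2015 (iv D2015) F7071
theorem F9970 : act 2 n2015 = n1409 := d19_1 D2015 (iv D1409) (iv F7072)
theorem F9971 : act 3 n2015 = n2015 := d25_1 D2015 (iv D2015) F7073
theorem F9972 : act 7 n2015 = n2015 := d36_2 F7075 D2015 (iv D2015)
theorem F9973 : act 8 n2015 = n2015 := d37_2 D1403 D2015 (iv D2015) (iv D1403) F5003
def n2016 : Q := act 6 n1404
theorem D2016 : act 6 n1404 = n2016 := rfl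
theorem F9975 : act 3 n2016 = n1410 := d26_1 D2016 (iv D1410) (iv F7077)
def n2017 : Q := act 8 n1404
theorem D2017 : act 8 n1404 = n2017 := rfl
theorem F9979 : act 0 n2017 = n2017 := d7_1 D2017 (iv D2017) F7076
theorem F9980 : act 3 n2017 = n1411 := d28_1 D2017 (iv D1411) (iv F7077)
theorem F9981 : act 4 n2017 = n2017 := d33_1 D2017 (iv D2017) F7078
theorem F9982 : act 7 n2017 = n1405 := d42_1 D2017 (iv D1405) D1404
def n2018 : Q := act 9 n1404
theorem D2018 : act 9 n1404 = n2018 := rfl
theorem F9983 : act 0 n2018 = n2018 := d8_1 D2018 (iv D2018) F7076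
theorem F9984 : act 3 n2018 = n1412 := d29_1 D2018 (iv D1412) (iv F7077)
theorem F9985 : act 4 n2018 = n2018 := d34_1 D2018 (iv D2018) F7078
theorem F9986 : act 5 n2018 = n1407 := d38_1 D2018 (iv D1407) (iv F7079)
theorem F9987 : act 7 n2018 = n1406 := d43_1 D2018 (iv D1406) D1404
def n2019 : Q := act 9 n1405
theorem D2019 : act 9 n1405 = n2019 := rfl
theorem F9988 : act 0 n2019 = n2019 := d8_1 D2019 (iv D2019) F7080
theorem F9989 : act 3 n2019 = n1413 := d29_1 D2019 (iv D1413) (iv F7081)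
theorem F9990 : act 4 n2019 = n2019 := d34_1 D2019 (iv D2019) F7082
theorem F9991 : act 6 n2019 = n2019 := d41_1 D2019 (iv D2019) F7083
def n2020 : Q := act 8 n1406
theorem D2020 : act 8 n1406 = n2020 := rfl
theorem F9992 : act 0 n2020 = n2020 := d7_1 D2020 (iv D2020) F7084
theorem F9993 : act 3 n2020 = n1414 := d28_1 D2020 (iv D1414) (iv F7085)
theorem F9994 : act 4 n2020 = n2020 := d33_1 D2020 (iv D2020) F7086
theorem F9995 : act 6 n2020 = n2020 := d40_1 D2020 (iv D2020) F7088
def n2021 : Q := act 8 n1407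
theorem D2021 : act 8 n1407 = n2021 := rfl
theorem F9996 : act 0 n2021 = n2021 := d7_1 D2021 (iv D2021) F7089
theorem F9997 : act 3 n2021 = n1415 := d28_1 D2021 (iv D1415) (iv F7090)
theorem F9998 : act 4 n2021 = n1478 := d33_1 D2021 (iv D1478) (iv F7091)
theorem F9999 : act 6 n2021 = n2021 := d40_1 D2021 (iv D2021) F7092
theorem F10000 : act 7 n2021 = n1408 := d42_1 D2021 (iv D1408) (iv F7093)
def n2022 : Q := act 5 n1408
theorem D2022 : act 5 n1408 = n2022 := rfl
theorem F10001 : act 0 n2022 = n2022 := d4_1 D2022 (iv D2022) F7094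
theorem F10002 : act 3 n2022 = n1416 := d25_1 D2022 (iv D1416) (iv F7095)
def n2023 : Q := act 4 n1409
theorem D2023 : act 4 n1409 = n2023 := rfl
theorem F10003 : act 0 n2023 = n2023 := d3_1 D2023 (iv D2023) F7098
theorem F10004 : act 3 n2023 = n2023 := d24_1 D2023 (iv D2023) F7099 F5045 (iv F7099)
theorem F10005 : act 5 n2023 = n1480 := d30_2 D1409 D2023 (iv D1480) (iv D1032) (iv F5019)
theorem F10006 : act 7 n2023 = n2023 := d32_2 F7100 D2023 (iv D2023)
theorem F10007 : act 8 n2023 = n2023 := d33_2 F7101 D2023 (iv D2023)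
def n2024 : Q := act 6 n1409
theorem D2024 : act 6 n1409 = n2024 := rfl
theorem F10008 : act 0 n2024 = n2024 := d5_1 D2024 (iv D2024) F7098
theorem F10009 : act 3 n2024 = n1417 := d26_1 D2024 (iv D1417) (iv F7099)
theorem F10010 : act 8 n2024 = n2024 := d40_2 F7101 D2024 (iv D2024)
def n2025 : Q := act 8 n1410
theorem D2025 : act 8 n1410 = n2025 := rfl
theorem F10013 : act 4 n2025 = n1420 := d33_1 D2025 (iv D1420) (iv F7104)
theorem F10014 : act 6 n2025 = n1411 := d40_1 D2025 (iv D1411) D1410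
def n2027 : Q := act 9 n1411
theorem D2027 : act 9 n1411 = n2027 := rfl
theorem F10022 : act 0 n2027 = n2027 := d8_1 D2027 (iv D2027) F7107
theorem F10023 : act 2 n2027 = n2027 := d23_1 D2027 (iv D2027) F7108
theorem F10024 : act 4 n2027 = n1422 := d34_1 D2027 (iv D1422) (iv F7109)
theorem F10025 : act 7 n2027 = n1413 := d43_1 D2027 (iv D1413) (iv F7110)
def n2028 : Q := act 8 n1412
theorem D2028 : act 8 n1412 = n2028 := rfl
theorem F10026 : act 0 n2028 = n2028 := d7_1 D2028 (iv D2028) F7111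
theorem F10027 : act 2 n2028 = n2028 := d22_1 D2028 (iv D2028) F7112
theorem F10028 : act 4 n2028 = n1423 := d33_1 D2028 (iv D1423) (iv F7113)
theorem F10029 : act 7 n2028 = n1414 := d42_1 D2028 (iv D1414) (iv F7115)
def n2029 : Q := act 8 n1413
theorem D2029 : act 8 n1413 = n2029 := rfl
theorem F10030 : act 0 n2029 = n2029 := d7_1 D2029 (iv D2029) F7116
theorem F10031 : act 2 n2029 = n2029 := d22_1 D2029 (iv D2029) F7117
theorem F10032 : act 4 n2029 = n1424 := d33_1 D2029 (iv D1424) (iv F7118)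
theorem F10033 : act 6 n2029 = n2029 := d40_1 D2029 (iv D2029) F7119
theorem F10034 : act 9 n2029 = n1414 := d44_2 D1413 D2029 (iv D1414) (iv D981) D980
def n2030 : Q := act 5 n1414
theorem D2030 : act 5 n1414 = n2030 := rfl
theorem F10035 : act 0 n2030 = n2030 := d4_1 D2030 (iv D2030) F7120
theorem F10036 : act 2 n2030 = n2030 := d19_1 D2030 (iv D2030) F7121
theorem F10037 : act 8 n2030 = n1416 := d37_2 D1414 D2030 (iv D1416) (iv D983) (iv F5032)
def n2031 : Q := act 5 n1415
theorem D2031 : act 5 n1415 = n2031 := rfl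
theorem F10038 : act 0 n2031 = n2031 := d4_1 D2031 (iv D2031) F7124
theorem F10039 : act 2 n2031 = n2031 := d19_1 D2031 (iv D2031) F7125
theorem F10040 : act 7 n2031 = n1416 := d36_2 (iv F7128) D2031 (iv D1416)
def n2032 : Q := act 4 n1416
theorem D2032 : act 4 n1416 = n2032 := rfl
theorem F10041 : act 0 n2032 = n2032 := d3_1 D2032 (iv D2032) F7129
theorem F10042 : act 2 n2032 = n2032 := d18_1 D2032 (iv D2032) F7130
theorem F10043 : act 5 n2032 = n1419 := d30_2 D1416 D2032 (iv D1419) (iv D986) (iv F5041)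
def n2033 : Q := act 6 n1416
theorem D2033 : act 6 n1416 = n2033 := rfl
theorem F10044 : act 0 n2033 = n2033 := d5_1 D2033 (iv D2033) F7129
theorem F10045 : act 2 n2033 = n2033 := d20_1 D2033 (iv D2033) F7130
theorem F10046 : act 5 n2033 = n1417 := d35_1 D2033 (iv D1417) (iv D984) (iv F5042) D1416
def n2034 : Q := act 7 n1417
theorem D2034 : act 7 n1417 = n2034 := rfl
theorem F10047 : act 0 n2034 = n2034 := d6_1 D2034 (iv D2034) F7131
theorem F10048 : act 2 n2034 = n2034 := d21_1 D2034 (iv D2034) F7132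
theorem F10049 : act 4 n2034 = n2034 := d32_1 D2034 (iv D2034) F7133
theorem F10050 : act 6 n2034 = n2034 := d39_1 D2034 (iv D2034) (iv D1417) F5046 D1417
theorem F10051 : act 8 n2034 = n2034 := d42_2 F7134 D2034 (iv D2034)
def n2035 : Q := act 4 n1418
theorem D2035 : act 4 n1418 = n2035 := rfl
theorem F10052 : act 0 n2035 = n2035 := d3_1 D2035 (iv D2035) F7135
theorem F10053 : act 2 n2035 = n2035 := d18_1 D2035 (iv D2035) F7136
theorem F10054 : act 7 n2035 = n1419 := d32_2 (iv F7138) D2035 (iv D1419)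
theorem F10055 : act 8 n2035 = n1430 := d33_2 (iv F7139) D2035 (iv D1430)
def n2036 : Q := act 6 n1418
theorem D2036 : act 6 n1418 = n2036 := rfl
theorem F10056 : act 0 n2036 = n2036 := d5_1 D2036 (iv D2036) F7135
theorem F10057 : act 2 n2036 = n2036 := d20_1 D2036 (iv D2036) F7136
theorem F10058 : act 3 n2036 = n1487 := d26_1 D2036 (iv D1487) (iv F7137)
theorem F10059 : act 5 n2036 = n2036 := d35_1 D2036 (iv D2036) (iv D1418) F5051 D1418
theorem F10060 : act 7 n2036 = n2036 := d39_2 (iv F7138) D2036 (iv D2036) F7138 F5056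
theorem F10061 : act 8 n2036 = n1431 := d40_2 (iv F7139) D2036 (iv D1431)
def n2037 : Q := act 3 n1419
theorem D2037 : act 3 n1419 = n2037 := rfl
theorem F10062 : act 0 n2037 = n2037 := d2_1 D2037 (iv D2037) F7140
theorem F10063 : act 4 n2037 = n1488 := d24_2 D1419 D2037 (iv D1488) (iv D1037) (iv F5055)
theorem F10064 : act 6 n2037 = n2037 := d26_2 F7142 D2037 (iv D2037)
theorem F10065 : act 8 n2037 = n1432 := d28_2 (iv F7143) D2037 (iv D1432)
def n2038 : Q := act 5 n1420
theorem D2038 : act 5 n1420 = n2038 := rfl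
theorem F10069 : act 6 n2038 = n2038 := d35_2 (iv F7147) D2038 (iv D2038) F7147 F5066
theorem F10070 : act 7 n2038 = n2038 := d36_2 F7148 D2038 (iv D2038)
theorem F10071 : act 8 n2038 = n1433 := d37_2 D1420 D2038 (iv D1433) (iv D997) (iv F5061)
def n2041 : Q := act 8 n1422
theorem D2041 : act 8 n1422 = n2041 := rfl
theorem F10082 : act 0 n2041 = n2041 := d7_1 D2041 (iv D2041) F7155
theorem F10083 : act 2 n2041 = n2041 := d22_1 D2041 (iv D2041) F7156
theorem F10084 : act 3 n2041 = n2041 := d28_1 D2041 (iv D2041) F7157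
theorem F10085 : act 7 n2041 = n1424 := d42_1 D2041 (iv D1424) (iv F7159)
theorem F10086 : act 9 n2041 = n1423 := d44_2 D1422 D2041 (iv D1423) (iv D989) D988
def n2042 : Q := act 5 n1423
theorem D2042 : act 5 n1423 = n2042 := rfl
theorem F10087 : act 0 n2042 = n2042 := d4_1 D2042 (iv D2042) F7160
theorem F10088 : act 2 n2042 = n2042 := d19_1 D2042 (iv D2042) F7161
theorem F10089 : act 3 n2042 = n2042 := d25_1 D2042 (iv D2042) F7162
theorem F10090 : act 7 n2042 = n1425 := d36_2 (iv F7163) D2042 (iv D1425)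
theorem F10091 : act 8 n2042 = n1426 := d37_2 D1423 D2042 (iv D1426) (iv D992) (iv F5071)
def n2043 : Q := act 5 n1424
theorem D2043 : act 5 n1424 = n2043 := rfl
theorem F10092 : act 0 n2043 = n2043 := d4_1 D2043 (iv D2043) F7164
theorem F10093 : act 2 n2043 = n2043 := d19_1 D2043 (iv D2043) F7165
theorem F10094 : act 3 n2043 = n2043 := d25_1 D2043 (iv D2043) F7166
theorem F10095 : act 8 n2043 = n2043 := d37_2 D1424 D2043 (iv D2043) (iv D1424) F5076
theorem F10096 : act 9 n2043 = n1425 := d38_2 (iv F7168) D2043 (iv D1425)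
def n2044 : Q := act 4 n1425
theorem D2044 : act 4 n1425 = n2044 := rfl
theorem F10097 : act 0 n2044 = n2044 := d3_1 D2044 (iv D2044) F7169
theorem F10098 : act 2 n2044 = n2044 := d18_1 D2044 (iv D2044) F7170
theorem F10099 : act 8 n2044 = n1427 := d33_2 (iv F7172) D2044 (iv D1427)
def n2045 : Q := act 6 n1425
theorem D2045 : act 6 n1425 = n2045 := rfl
theorem F10100 : act 0 n2045 = n2045 := d5_1 D2045 (iv D2045) F7169
theorem F10101 : act 2 n2045 = n2045 := d20_1 D2045 (iv D2045) F7170
theorem F10102 : act 3 n2045 = n2045 := d26_1 D2045 (iv D2045) F7171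
theorem F10103 : act 5 n2045 = n2045 := d35_1 D2045 (iv D2045) (iv D1425) F5081 D1425
theorem F10104 : act 8 n2045 = n1428 := d40_2 (iv F7172) D2045 (iv D1428)
def n2046 : Q := act 4 n1426
theorem D2046 : act 4 n1426 = n2046 := rfl
theorem F10105 : act 0 n2046 = n2046 := d3_1 D2046 (iv D2046) F7173
theorem F10106 : act 2 n2046 = n2046 := d18_1 D2046 (iv D2046) F7174
theorem F10107 : act 5 n2046 = n1430 := d30_2 D1426 D2046 (iv D1430) (iv D995) (iv F5085)
theorem F10108 : act 7 n2046 = n1427 := d32_2 (iv F7176) D2046 (iv D1427)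
theorem F10109 : act 9 n2046 = n2046 := d34_2 F7177 D2046 (iv D2046)
def n2047 : Q := act 6 n1426
theorem D2047 : act 6 n1426 = n2047 := rfl
def n2048 : Q := act 3 n1427
theorem D2048 : act 3 n1427 = n2048 := rfl
theorem F10115 : act 0 n2048 = n2048 := d2_1 D2048 (iv D2048) F7178
theorem F10116 : act 4 n2048 = n2048 := d24_2 D1427 D2048 (iv D2048) (iv D1427) F5091
theorem F10117 : act 5 n2048 = n1432 := d25_2 (iv F7180) D2048 (iv D1432)
theorem F10118 : act 9 n2048 = n2048 := d29_2 F7181 D2048 (iv D2048)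
def n2049 : Q := act 6 n1427
theorem D2049 : act 6 n1427 = n2049 := rfl
theorem F10119 : act 0 n2049 = n2049 := d5_1 D2049 (iv D2049) F7178
theorem F10120 : act 2 n2049 = n2049 := d20_1 D2049 (iv D2049) F7179
theorem F10121 : act 4 n2049 = n1428 := d31_1 D2049 (iv D1428) D1427
theorem F10122 : act 5 n2049 = n2049 := d35_1 D2049 (iv D2049) F7180 F5106 (iv F7180)
theorem F10123 : act 9 n2049 = n2049 := d41_2 F7181 D2049 (iv D2049)
def n2050 : Q := act 7 n1428
theorem D2050 : act 7 n1428 = n2050 := rfl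
theorem F10127 : act 5 n2050 = n1429 := d36_1 D2050 (iv D1429) (iv F7185)
def n2051 : Q := act 3 n1430
theorem D2051 : act 3 n1430 = n2051 := rfl
theorem F10129 : act 0 n2051 = n2051 := d2_1 D2051 (iv D2051) F7194
theorem F10130 : act 4 n2051 = n1489 := d24_2 D1430 D2051 (iv D1489) (iv D1038) (iv F5101)
theorem F10131 : act 7 n2051 = n1432 := d27_2 (iv F7196) D2051 (iv D1432)
theorem F10132 : act 9 n2051 = n2051 := d29_2 F7197 D2051 (iv D2051)
def n2052 : Q := act 6 n1430
theorem D2052 : act 6 n1430 = n2052 := rfl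
theorem F10133 : act 0 n2052 = n2052 := d5_1 D2052 (iv D2052) F7194
theorem F10134 : act 2 n2052 = n2052 := d20_1 D2052 (iv D2052) F7195
theorem F10135 : act 4 n2052 = n1431 := d31_1 D2052 (iv D1431) D1430
theorem F10136 : act 7 n2052 = n2052 := d39_2 (iv F7196) D2052 (iv D2052) F7196 F5106
theorem F10137 : act 9 n2052 = n2052 := d41_2 F7197 D2052 (iv D2052)
def n2053 : Q := act 2 n1432
theorem D2053 : act 2 n1432 = n2053 := rfl
theorem F10138 : act 0 n2053 = n2053 := d1_1 D2053 (iv D2053) F7204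
theorem F10139 : act 3 n2053 = n2053 := d17_2 D1432 D2053 (iv D2053) (iv D1432) F5105
theorem F10140 : act 4 n2053 = n1491 := d18_2 (iv F7205) D2053 (iv D1491)
theorem F10141 : act 6 n2053 = n2053 := d20_2 F7206 D2053 (iv D2053)
theorem F10142 : act 9 n2053 = n2053 := d23_2 F7207 D2053 (iv D2053)
def n2054 : Q := act 4 n1433
theorem D2054 : act 4 n1433 = n2054 := rfl
theorem F10143 : act 0 n2054 = n2054 := d3_1 D2054 (iv D2054) F7208
theorem F10144 : act 2 n2054 = n2054 := d18_1 D2054 (iv D2054) F7209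
theorem F10145 : act 5 n2054 = n2054 := d30_2 D1433 D2054 (iv D2054) (iv D1433) F5111
theorem F10146 : act 6 n2054 = n2054 := d31_2 F7211 D2054 (iv D2054)
theorem F10147 : act 7 n2054 = n2054 := d32_2 F7212 D2054 (iv D2054)
def n2074 : Q := act 5 n1447
theorem D2074 : act 5 n1447 = n2074 := rfl
def n2076 : Q := act 6 n1449
theorem D2076 : act 6 n1449 = n2076 := rfl
theorem F10254 : act 0 n2076 = n1450 := d5_1 D2076 (iv D1450) D1449
theorem F10255 : act 1 n2076 = n2076 := d13_1 D2076 (iv D2076) F7290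
theorem F10256 : act 3 n2076 = n1502 := d26_1 D2076 (iv D1502) (iv F7291)
theorem F10257 : act 8 n2076 = n1470 := d40_2 (iv F7294) D2076 (iv D1470)
def n2077 : Q := act 9 n1449
theorem D2077 : act 9 n1449 = n2077 := rfl
theorem F10258 : act 0 n2077 = n1451 := d8_1 D2077 (iv D1451) D1449
theorem F10259 : act 1 n2077 = n2077 := d16_1 D2077 (iv D2077) F7290
theorem F10260 : act 3 n2077 = n1503 := d29_1 D2077 (iv D1503) (iv F7291)
theorem F10261 : act 5 n2077 = n2077 := d38_1 D2077 (iv D2077) F7292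
theorem F10262 : act 7 n2077 = n2077 := d43_1 D2077 (iv D2077) F7293
def n2078 : Q := act 5 n1450
theorem D2078 : act 5 n1450 = n2078 := rfl
theorem F10263 : act 1 n2078 = n1452 := d12_1 D2078 (iv D1452) (iv F7295)
theorem F10264 : act 3 n2078 = n1504 := d25_1 D2078 (iv D1504) (iv F7296)
theorem F10265 : act 6 n2078 = n2078 := d35_2 D1450 D2078 (iv D2078) (iv D1450) F5178
theorem F10266 : act 8 n2078 = n2078 := d37_2 (iv F7297) D2078 (iv D2078) F7297 F5247
def n2079 : Q := act 7 n1450
theorem D2079 : act 7 n1450 = n2079 := rfl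
theorem F10267 : act 1 n2079 = n1453 := d14_1 D2079 (iv D1453) (iv F7295)
theorem F10268 : act 3 n2079 = n1505 := d27_1 D2079 (iv D1505) (iv F7296)
theorem F10269 : act 6 n2079 = n2079 := d39_1 D2079 (iv D2079) (iv D1450) F5179 D1450
theorem F10270 : act 8 n2079 = n1472 := d42_2 (iv F7297) D2079 (iv D1472)
def n2080 : Q := act 9 n1450
theorem D2080 : act 9 n1450 = n2080 := rfl
theorem F10271 : act 1 n2080 = n1454 := d16_1 D2080 (iv D1454) (iv F7295)
theorem F10272 : act 3 n2080 = n1506 := d29_1 D2080 (iv D1506) (iv F7296)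
theorem F10273 : act 6 n2080 = n1451 := d41_1 D2080 (iv D1451) D1450
def n2081 : Q := act 8 n1451
theorem D2081 : act 8 n1451 = n2081 := rfl
theorem F10274 : act 1 n2081 = n1455 := d15_1 D2081 (iv D1455) (iv F7298)
theorem F10275 : act 3 n2081 = n1507 := d28_1 D2081 (iv D1507) (iv F7299)
theorem F10276 : act 7 n2081 = n2081 := d42_1 D2081 (iv D2081) F7301
theorem F10277 : act 9 n2081 = n1474 := d44_2 D1451 D2081 (iv D1474) (iv D1026) (iv F5180)
def n2082 : Q := act 4 n1452
theorem D2082 : act 4 n1452 = n2082 := rfl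
theorem F10278 : act 0 n2082 = n2082 := d3_1 D2082 (iv D2082) F7302
theorem F10279 : act 2 n2082 = n1456 := d18_1 D2082 (iv D1456) (iv F7303)
theorem F10280 : act 6 n2082 = n2082 := d31_2 F7305 D2082 (iv D2082)
theorem F10281 : act 8 n2082 = n2082 := d33_2 F7306 D2082 (iv D2082)
def n2083 : Q := act 7 n1452
theorem D2083 : act 7 n1452 = n2083 := rfl
theorem F10282 : act 0 n2083 = n2083 := d6_1 D2083 (iv D2083) F7302
theorem F10283 : act 2 n2083 = n1457 := d21_1 D2083 (iv D1457) (iv F7303)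
theorem F10284 : act 3 n2083 = n1509 := d27_1 D2083 (iv D1509) (iv F7304)
theorem F10285 : act 5 n2083 = n1453 := d36_1 D2083 (iv D1453) D1452
theorem F10286 : act 8 n2083 = n2083 := d42_2 F7306 D2083 (iv D2083)
def n2084 : Q := act 9 n1452
theorem D2084 : act 9 n1452 = n2084 := rfl
theorem F10287 : act 0 n2084 = n2084 := d8_1 D2084 (iv D2084) F7302
theorem F10288 : act 2 n2084 = n1458 := d23_1 D2084 (iv D1458) (iv F7303)
theorem F10289 : act 3 n2084 = n1510 := d29_1 D2084 (iv D1510) (iv F7304)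
theorem F10290 : act 5 n2084 = n1454 := d38_1 D2084 (iv D1454) D1452
theorem F10291 : act 6 n2084 = n2084 := d41_1 D2084 (iv D2084) F7305
def n2085 : Q := act 9 n1453
theorem D2085 : act 9 n1453 = n2085 := rfl
theorem F10292 : act 0 n2085 = n2085 := d8_1 D2085 (iv D2085) F7307
theorem F10293 : act 2 n2085 = n1459 := d23_1 D2085 (iv D1459) (iv F7308)
theorem F10294 : act 3 n2085 = n1511 := d29_1 D2085 (iv D1511) (iv F7309)
theorem F10295 : act 6 n2085 = n2085 := d41_1 D2085 (iv D2085) F7310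
theorem F10296 : act 7 n2085 = n1454 := d43_1 D2085 (iv D1454) D1453
def n2086 : Q := act 8 n1454
theorem D2086 : act 8 n1454 = n2086 := rfl
theorem F10297 : act 0 n2086 = n2086 := d7_1 D2086 (iv D2086) F7312
theorem F10298 : act 2 n2086 = n1460 := d22_1 D2086 (iv D1460) (iv F7313)
theorem F10299 : act 3 n2086 = n1512 := d28_1 D2086 (iv D1512) (iv F7314)
theorem F10300 : act 6 n2086 = n1455 := d40_1 D2086 (iv D1455) (iv F7315)
theorem F10301 : act 9 n2086 = n1476 := d44_2 D1454 D2086 (iv D1476) (iv D1028) (iv F5184)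
def n2087 : Q := act 5 n1455
theorem D2087 : act 5 n1455 = n2087 := rfl
theorem F10302 : act 0 n2087 = n2087 := d4_1 D2087 (iv D2087) F7316
theorem F10303 : act 2 n2087 = n1461 := d19_1 D2087 (iv D1461) (iv F7317)
theorem F10304 : act 3 n2087 = n1513 := d25_1 D2087 (iv D1513) (iv F7318)
theorem F10305 : act 7 n2087 = n2087 := d36_2 F7319 D2087 (iv D2087)
theorem F10306 : act 8 n2087 = n2087 := d37_2 D1455 D2087 (iv D2087) (iv D1455) F5188
theorem F10307 : act 9 n2087 = n1477 := d38_2 (iv F7320) D2087 (iv D1477)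
def n2088 : Q := act 7 n1456
theorem D2088 : act 7 n1456 = n2088 := rfl
theorem F10308 : act 0 n2088 = n2088 := d6_1 D2088 (iv D2088) F7321
theorem F10309 : act 3 n2088 = n2088 := d27_1 D2088 (iv D2088) F7322
theorem F10310 : act 4 n2088 = n1457 := d32_1 D2088 (iv D1457) D1456
theorem F10311 : act 8 n2088 = n2088 := d42_2 F7324 D2088 (iv D2088)
def n2089 : Q := act 9 n1456
theorem D2089 : act 9 n1456 = n2089 := rfl
theorem F10312 : act 0 n2089 = n2089 := d8_1 D2089 (iv D2089) F7321
theorem F10313 : act 3 n2089 = n2089 := d29_1 D2089 (iv D2089) F7322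
theorem F10314 : act 4 n2089 = n1458 := d34_1 D2089 (iv D1458) D1456
theorem F10315 : act 6 n2089 = n2089 := d41_1 D2089 (iv D2089) F7323
def n2090 : Q := act 6 n1457
theorem D2090 : act 6 n1457 = n2090 := rfl
theorem F10316 : act 0 n2090 = n2090 := d5_1 D2090 (iv D2090) F7325
theorem F10317 : act 3 n2090 = n1462 := d26_1 D2090 (iv D1462) (iv F7326)
theorem F10318 : act 5 n2090 = n2090 := d35_1 D2090 (iv D2090) F7327 F5196 (iv F7327)
theorem F10319 : act 7 n2090 = n2090 := d39_2 D1457 D2090 (iv D2090) (iv D1457) F5192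
theorem F10320 : act 8 n2090 = n2090 := d40_2 F7328 D2090 (iv D2090)
def n2091 : Q := act 9 n1457
theorem D2091 : act 9 n1457 = n2091 := rfl
theorem F10321 : act 0 n2091 = n2091 := d8_1 D2091 (iv D2091) F7325
theorem F10322 : act 3 n2091 = n1463 := d29_1 D2091 (iv D1463) (iv F7326)
theorem F10323 : act 5 n2091 = n1459 := d38_1 D2091 (iv D1459) (iv F7327)
theorem F10324 : act 7 n2091 = n1458 := d43_1 D2091 (iv D1458) D1457
def n2092 : Q := act 8 n1458
theorem D2092 : act 8 n1458 = n2092 := rfl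
theorem F10325 : act 0 n2092 = n2092 := d7_1 D2092 (iv D2092) F7329
theorem F10326 : act 3 n2092 = n1464 := d28_1 D2092 (iv D1464) (iv F7330)
theorem F10327 : act 6 n2092 = n2092 := d40_1 D2092 (iv D2092) F7332
theorem F10328 : act 9 n2092 = n2092 := d44_2 D1458 D2092 (iv D2092) (iv D1458) F5193
def n2093 : Q := act 8 n1459
theorem D2093 : act 8 n1459 = n2093 := rfl
theorem F10329 : act 0 n2093 = n2093 := d7_1 D2093 (iv D2093) F7333
theorem F10330 : act 3 n2093 = n1465 := d28_1 D2093 (iv D1465) (iv F7334)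
theorem F10331 : act 6 n2093 = n2093 := d40_1 D2093 (iv D2093) F7335
theorem F10332 : act 7 n2093 = n1460 := d42_1 D2093 (iv D1460) (iv F7336)
theorem F10333 : act 9 n2093 = n1478 := d44_2 D1459 D2093 (iv D1478) (iv D1030) (iv F5197)
def n2094 : Q := act 5 n1460
theorem D2094 : act 5 n1460 = n2094 := rfl
theorem F10334 : act 0 n2094 = n2094 := d4_1 D2094 (iv D2094) F7337
theorem F10335 : act 3 n2094 = n1466 := d25_1 D2094 (iv D1466) (iv F7338)
theorem F10336 : act 9 n2094 = n1479 := d38_2 (iv F7340) D2094 (iv D1479)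
def n2095 : Q := act 4 n1461
theorem D2095 : act 4 n1461 = n2095 := rfl
theorem F10337 : act 0 n2095 = n2095 := d3_1 D2095 (iv D2095) F7341
theorem F10338 : act 3 n2095 = n2095 := d24_1 D2095 (iv D2095) F7342 F5227 (iv F7342)
theorem F10339 : act 7 n2095 = n2095 := d32_2 F7343 D2095 (iv D2095)
theorem F10340 : act 8 n2095 = n2095 := d33_2 F7344 D2095 (iv D2095)
theorem F10341 : act 9 n2095 = n1480 := d34_2 (iv F7345) D2095 (iv D1480)
def n2096 : Q := act 6 n1461
theorem D2096 : act 6 n1461 = n2096 := rfl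
theorem F10342 : act 0 n2096 = n2096 := d5_1 D2096 (iv D2096) F7341
theorem F10343 : act 3 n2096 = n1467 := d26_1 D2096 (iv D1467) (iv F7342)
theorem F10344 : act 8 n2096 = n2096 := d40_2 F7344 D2096 (iv D2096)
theorem F10345 : act 9 n2096 = n1481 := d41_2 (iv F7345) D2096 (iv D1481)
def n2097 : Q := act 9 n1462
theorem D2097 : act 9 n1462 = n2097 := rfl
theorem F10346 : act 0 n2097 = n2097 := d8_1 D2097 (iv D2097) F7346
theorem F10347 : act 2 n2097 = n1523 := d23_1 D2097 (iv D1523) (iv F7347)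
theorem F10348 : act 4 n2097 = n2097 := d34_1 D2097 (iv D2097) F7348
theorem F10349 : act 5 n2097 = n2097 := d38_1 D2097 (iv D2097) F7349
theorem F10350 : act 6 n2097 = n1463 := d41_1 D2097 (iv D1463) D1462
theorem F10351 : act 7 n2097 = n2097 := d43_1 D2097 (iv D2097) F7350
def n2098 : Q := act 8 n1463
theorem D2098 : act 8 n1463 = n2098 := rfl
theorem F10352 : act 0 n2098 = n2098 := d7_1 D2098 (iv D2098) F7352
theorem F10353 : act 2 n2098 = n1524 := d22_1 D2098 (iv D1524) (iv F7353)
theorem F10354 : act 4 n2098 = n2098 := d33_1 D2098 (iv D2098) F7354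
theorem F10355 : act 7 n2098 = n1464 := d42_1 D2098 (iv D1464) (iv F7356)
theorem F10356 : act 9 n2098 = n2098 := d44_2 D1463 D2098 (iv D2098) (iv D1463) F5209
def n2099 : Q := act 5 n1464
theorem D2099 : act 5 n1464 = n2099 := rfl
theorem F10357 : act 0 n2099 = n2099 := d4_1 D2099 (iv D2099) F7357
theorem F10358 : act 2 n2099 = n1525 := d19_1 D2099 (iv D1525) (iv F7358)
theorem F10359 : act 8 n2099 = n1466 := d37_2 D1464 D2099 (iv D1466) (iv D1020) (iv F5213)
theorem F10360 : act 9 n2099 = n2099 := d38_2 F7361 D2099 (iv D2099)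
def n2100 : Q := act 5 n1465
theorem D2100 : act 5 n1465 = n2100 := rfl
theorem F10361 : act 0 n2100 = n2100 := d4_1 D2100 (iv D2100) F7362
theorem F10362 : act 2 n2100 = n1526 := d19_1 D2100 (iv D1526) (iv F7363)
theorem F10363 : act 7 n2100 = n1466 := d36_2 (iv F7366) D2100 (iv D1466)
theorem F10364 : act 9 n2100 = n1482 := d38_2 (iv F7367) D2100 (iv D1482)
def n2101 : Q := act 4 n1466
theorem D2101 : act 4 n1466 = n2101 := rfl
theorem F10365 : act 0 n2101 = n2101 := d3_1 D2101 (iv D2101) F7368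
theorem F10366 : act 2 n2101 = n1527 := d18_1 D2101 (iv D1527) (iv F7369)
theorem F10367 : act 5 n2101 = n1469 := d30_2 D1466 D2101 (iv D1469) (iv D1023) (iv F5222)
theorem F10368 : act 9 n2101 = n1483 := d34_2 (iv F7370) D2101 (iv D1483)
def n2102 : Q := act 6 n1466
theorem D2102 : act 6 n1466 = n2102 := rfl
theorem F10369 : act 0 n2102 = n2102 := d5_1 D2102 (iv D2102) F7368
theorem F10370 : act 2 n2102 = n1528 := d20_1 D2102 (iv D1528) (iv F7369)
theorem F10371 : act 5 n2102 = n1467 := d35_1 D2102 (iv D1467) (iv D1021) (iv F5223) D1466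
theorem F10372 : act 9 n2102 = n1484 := d41_2 (iv F7370) D2102 (iv D1484)
def n2103 : Q := act 7 n1467
theorem D2103 : act 7 n1467 = n2103 := rfl
theorem F10373 : act 0 n2103 = n2103 := d6_1 D2103 (iv D2103) F7371
theorem F10374 : act 2 n2103 = n1529 := d21_1 D2103 (iv D1529) (iv F7372)
theorem F10375 : act 4 n2103 = n2103 := d32_1 D2103 (iv D2103) F7373
theorem F10376 : act 6 n2103 = n2103 := d39_1 D2103 (iv D2103) (iv D1467) F5228 D1467
theorem F10377 : act 8 n2103 = n2103 := d42_2 F7374 D2103 (iv D2103)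
theorem F10378 : act 9 n2103 = n1485 := d43_2 (iv F7375) D2103 (iv D1485)
def n2104 : Q := act 4 n1468
theorem D2104 : act 4 n1468 = n2104 := rfl
theorem F10379 : act 0 n2104 = n2104 := d3_1 D2104 (iv D2104) F7376
theorem F10380 : act 2 n2104 = n1530 := d18_1 D2104 (iv D1530) (iv F7377)
theorem F10381 : act 7 n2104 = n1469 := d32_2 (iv F7378) D2104 (iv D1469)
theorem F10382 : act 8 n2104 = n2104 := d33_2 F7379 D2104 (iv D2104)
theorem F10383 : act 9 n2104 = n1486 := d34_2 (iv F7380) D2104 (iv D1486)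
def n2105 : Q := act 6 n1468
theorem D2105 : act 6 n1468 = n2105 := rfl
theorem F10384 : act 0 n2105 = n2105 := d5_1 D2105 (iv D2105) F7376
theorem F10385 : act 2 n2105 = n1531 := d20_1 D2105 (iv D1531) (iv F7377)
theorem F10386 : act 5 n2105 = n2105 := d35_1 D2105 (iv D2105) (iv D1468) F5233 D1468
theorem F10387 : act 7 n2105 = n2105 := d39_2 (iv F7378) D2105 (iv D2105) F7378 F5238
theorem F10388 : act 8 n2105 = n2105 := d40_2 F7379 D2105 (iv D2105)
theorem F10389 : act 9 n2105 = n1487 := d41_2 (iv F7380) D2105 (iv D1487)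
def n2106 : Q := act 3 n1469
theorem D2106 : act 3 n1469 = n2106 := rfl
theorem F10390 : act 0 n2106 = n2106 := d2_1 D2106 (iv D2106) F7381
theorem F10391 : act 6 n2106 = n2106 := d26_2 F7383 D2106 (iv D2106)
theorem F10392 : act 8 n2106 = n2106 := d28_2 F7384 D2106 (iv D2106)
theorem F10393 : act 9 n2106 = n1488 := d29_2 (iv F7385) D2106 (iv D1488)
def n2107 : Q := act 7 n1470
theorem D2107 : act 7 n1470 = n2107 := rfl
theorem F10394 : act 0 n2107 = n1472 := d6_1 D2107 (iv D1472) (iv F7386)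
theorem F10395 : act 1 n2107 = n2107 := d14_1 D2107 (iv D2107) F7387
theorem F10396 : act 3 n2107 = n1533 := d27_1 D2107 (iv D1533) (iv F7388)
theorem F10397 : act 5 n2107 = n2107 := d36_1 D2107 (iv D2107) F7389
theorem F10398 : act 6 n2107 = n2107 := d39_1 D2107 (iv D2107) (iv D1470) F5244 D1470
def n2108 : Q := act 9 n1470
theorem D2108 : act 9 n1470 = n2108 := rfl
theorem F10399 : act 0 n2108 = n1473 := d8_1 D2108 (iv D1473) (iv F7386)
theorem F10400 : act 1 n2108 = n2108 := d16_1 D2108 (iv D2108) F7387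
theorem F10401 : act 3 n2108 = n1534 := d29_1 D2108 (iv D1534) (iv F7388)
theorem F10402 : act 5 n2108 = n2108 := d38_1 D2108 (iv D2108) F7389
theorem F10403 : act 6 n2108 = n1471 := d41_1 D2108 (iv D1471) D1470
def n2109 : Q := act 8 n1471
theorem D2109 : act 8 n1471 = n2109 := rfl
theorem F10404 : act 0 n2109 = n1474 := d7_1 D2109 (iv D1474) (iv F7390)
theorem F10405 : act 1 n2109 = n2109 := d15_1 D2109 (iv D2109) F7391
theorem F10406 : act 3 n2109 = n1535 := d28_1 D2109 (iv D1535) (iv F7392)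
theorem F10407 : act 7 n2109 = n2109 := d42_1 D2109 (iv D2109) F7394
def n2110 : Q := act 9 n1472
theorem D2110 : act 9 n1472 = n2110 := rfl
theorem F10408 : act 1 n2110 = n1475 := d16_1 D2110 (iv D1475) (iv F7395)
theorem F10409 : act 3 n2110 = n1536 := d29_1 D2110 (iv D1536) (iv F7396)
theorem F10410 : act 5 n2110 = n2110 := d38_1 D2110 (iv D2110) F7397
theorem F10411 : act 6 n2110 = n2110 := d41_1 D2110 (iv D2110) F7398
theorem F10412 : act 7 n2110 = n1473 := d43_1 D2110 (iv D1473) D1472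
def n2111 : Q := act 8 n1473
theorem D2111 : act 8 n1473 = n2111 := rfl
theorem F10413 : act 1 n2111 = n1476 := d15_1 D2111 (iv D1476) (iv F7399)
theorem F10414 : act 3 n2111 = n1537 := d28_1 D2111 (iv D1537) (iv F7400)
theorem F10415 : act 6 n2111 = n1474 := d40_1 D2111 (iv D1474) (iv F7402)
def n2112 : Q := act 5 n1474
theorem D2112 : act 5 n1474 = n2112 := rfl
theorem F10416 : act 1 n2112 = n1477 := d12_1 D2112 (iv D1477) (iv F7403)
theorem F10417 : act 3 n2112 = n1538 := d25_1 D2112 (iv D1538) (iv F7404)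
theorem F10418 : act 7 n2112 = n2112 := d36_2 F7405 D2112 (iv D2112)
theorem F10419 : act 8 n2112 = n1497 := d37_2 D1474 D2112 (iv D1497) (iv D1045) (iv F5250)
def n2113 : Q := act 8 n1475
theorem D2113 : act 8 n1475 = n2113 := rfl
theorem F10420 : act 0 n2113 = n2113 := d7_1 D2113 (iv D2113) F7406
theorem F10421 : act 2 n2113 = n1478 := d22_1 D2113 (iv D1478) (iv F7407)
theorem F10422 : act 3 n2113 = n1539 := d28_1 D2113 (iv D1539) (iv F7408)
theorem F10423 : act 6 n2113 = n2113 := d40_1 D2113 (iv D2113) F7410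
theorem F10424 : act 7 n2113 = n1476 := d42_1 D2113 (iv D1476) (iv F7411)
def n2114 : Q := act 5 n1476
theorem D2114 : act 5 n1476 = n2114 := rfl
theorem F10425 : act 0 n2114 = n2114 := d4_1 D2114 (iv D2114) F7412
theorem F10426 : act 2 n2114 = n1479 := d19_1 D2114 (iv D1479) (iv F7413)
theorem F10427 : act 3 n2114 = n1540 := d25_1 D2114 (iv D1540) (iv F7414)
theorem F10428 : act 8 n2114 = n2114 := d37_2 D1476 D2114 (iv D2114) (iv D1476) F5260
def n2115 : Q := act 4 n1477
theorem D2115 : act 4 n1477 = n2115 := rfl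
theorem F10429 : act 0 n2115 = n2115 := d3_1 D2115 (iv D2115) F7416
theorem F10430 : act 2 n2115 = n1480 := d18_1 D2115 (iv D1480) (iv F7417)
theorem F10431 : act 7 n2115 = n2115 := d32_2 F7419 D2115 (iv D2115)
theorem F10432 : act 8 n2115 = n1498 := d33_2 (iv F7420) D2115 (iv D1498)
def n2116 : Q := act 6 n1477
theorem D2116 : act 6 n1477 = n2116 := rfl
theorem F10433 : act 0 n2116 = n2116 := d5_1 D2116 (iv D2116) F7416
theorem F10434 : act 2 n2116 = n1481 := d20_1 D2116 (iv D1481) (iv F7417)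
theorem F10435 : act 3 n2116 = n1542 := d26_1 D2116 (iv D1542) (iv F7418)
def n2117 : Q := act 5 n1478
theorem D2117 : act 5 n1478 = n2117 := rfl
theorem F10437 : act 0 n2117 = n2117 := d4_1 D2117 (iv D2117) F7421
theorem F10438 : act 3 n2117 = n1482 := d25_1 D2117 (iv D1482) (iv F7422)
theorem F10439 : act 7 n2117 = n1479 := d36_2 (iv F7424) D2117 (iv D1479)
theorem F10440 : act 8 n2117 = n2117 := d37_2 D1478 D2117 (iv D2117) (iv D1478) F5268
def n2118 : Q := act 4 n1479
theorem D2118 : act 4 n1479 = n2118 := rfl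
theorem F10441 : act 0 n2118 = n2118 := d3_1 D2118 (iv D2118) F7425
theorem F10442 : act 8 n2118 = n2118 := d33_2 F7427 D2118 (iv D2118)
def n2119 : Q := act 6 n1479
theorem D2119 : act 6 n1479 = n2119 := rfl
theorem F10443 : act 0 n2119 = n2119 := d5_1 D2119 (iv D2119) F7425
theorem F10444 : act 3 n2119 = n1484 := d26_1 D2119 (iv D1484) (iv F7426)
theorem F10445 : act 5 n2119 = n1481 := d35_1 D2119 (iv D1481) (iv D1032) (iv F5273) D1479
theorem F10446 : act 8 n2119 = n2119 := d40_2 F7427 D2119 (iv D2119)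
def n2120 : Q := act 6 n1480
theorem D2120 : act 6 n1480 = n2120 := rfl
theorem F10447 : act 0 n2120 = n2120 := d5_1 D2120 (iv D2120) F7428
theorem F10448 : act 3 n2120 = n2120 := d26_1 D2120 (iv D2120) F7429
theorem F10449 : act 4 n2120 = n1481 := d31_1 D2120 (iv D1481) D1480
theorem F10450 : act 8 n2120 = n1500 := d40_2 (iv F7431) D2120 (iv D1500)
def n2121 : Q := act 7 n1481
theorem D2121 : act 7 n1481 = n2121 := rfl
theorem F10451 : act 0 n2121 = n2121 := d6_1 D2121 (iv D2121) F7432
theorem F10452 : act 3 n2121 = n1485 := d27_1 D2121 (iv D1485) (iv F7433)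
theorem F10453 : act 6 n2121 = n2121 := d39_1 D2121 (iv D2121) (iv D1481) F5276 D1481
def n2122 : Q := act 4 n1482
theorem D2122 : act 4 n1482 = n2122 := rfl
theorem F10455 : act 0 n2122 = n2122 := d3_1 D2122 (iv D2122) F7435
theorem F10456 : act 2 n2122 = n1548 := d18_1 D2122 (iv D1548) (iv F7436)
theorem F10457 : act 5 n2122 = n1486 := d30_2 D1482 D2122 (iv D1486) (iv D1036) (iv F5280)
theorem F10458 : act 7 n2122 = n1483 := d32_2 (iv F7437) D2122 (iv D1483)
theorem F10459 : act 8 n2122 = n2122 := d33_2 F7438 D2122 (iv D2122)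
def n2123 : Q := act 6 n1482
theorem D2123 : act 6 n1482 = n2123 := rfl
theorem F10460 : act 0 n2123 = n2123 := d5_1 D2123 (iv D2123) F7435
theorem F10461 : act 2 n2123 = n1549 := d20_1 D2123 (iv D1549) (iv F7436)
theorem F10462 : act 5 n2123 = n2123 := d35_1 D2123 (iv D2123) (iv D1482) F5281 D1482
theorem F10463 : act 8 n2123 = n2123 := d40_2 F7438 D2123 (iv D2123)
def n2124 : Q := act 3 n1483
theorem D2124 : act 3 n1483 = n2124 := rfl
theorem F10464 : act 0 n2124 = n2124 := d2_1 D2124 (iv D2124) F7439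
theorem F10465 : act 5 n2124 = n1488 := d25_2 (iv F7441) D2124 (iv D1488)
theorem F10466 : act 8 n2124 = n2124 := d28_2 F7442 D2124 (iv D2124)
def n2125 : Q := act 6 n1483
theorem D2125 : act 6 n1483 = n2125 := rfl
theorem F10467 : act 0 n2125 = n2125 := d5_1 D2125 (iv D2125) F7439
theorem F10468 : act 2 n2125 = n1551 := d20_1 D2125 (iv D1551) (iv F7440)
theorem F10469 : act 4 n2125 = n1484 := d31_1 D2125 (iv D1484) D1483
theorem F10470 : act 5 n2125 = n2125 := d35_1 D2125 (iv D2125) F7441 F5296 (iv F7441)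
theorem F10471 : act 8 n2125 = n2125 := d40_2 F7442 D2125 (iv D2125)
def n2126 : Q := act 7 n1484
theorem D2126 : act 7 n1484 = n2126 := rfl
theorem F10472 : act 0 n2126 = n2126 := d6_1 D2126 (iv D2126) F7443
theorem F10473 : act 2 n2126 = n1552 := d21_1 D2126 (iv D1552) (iv F7444)
theorem F10474 : act 5 n2126 = n1485 := d36_1 D2126 (iv D1485) (iv F7445)
theorem F10475 : act 8 n2126 = n2126 := d42_2 F7446 D2126 (iv D2126)
def n2127 : Q := act 3 n1486
theorem D2127 : act 3 n1486 = n2127 := rfl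
theorem F10477 : act 7 n2127 = n1488 := d27_2 (iv F7454) D2127 (iv D1488)
theorem F10478 : act 8 n2127 = n1489 := d28_2 (iv F7455) D2127 (iv D1489)
def n2128 : Q := act 6 n1486
theorem D2128 : act 6 n1486 = n2128 := rfl
theorem F10480 : act 2 n2128 = n1554 := d20_1 D2128 (iv D1554) (iv F7453)
theorem F10482 : act 7 n2128 = n2128 := d39_2 (iv F7454) D2128 (iv D2128) F7454 F5296
def n2129 : Q := act 2 n1488
theorem D2129 : act 2 n1488 = n2129 := rfl
theorem F10487 : act 8 n2129 = n1491 := d22_2 (iv F7463) D2129 (iv D1491)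
def n2130 : Q := act 2 n1489
theorem D2130 : act 2 n1489 = n2130 := rfl
theorem F10489 : act 3 n2130 = n1556 := d17_2 D1489 D2130 (iv D1556) (iv D1090) (iv F5299)
theorem F10491 : act 7 n2130 = n1491 := d21_2 (iv F7466) D2130 (iv D1491)
def n2131 : Q := act 6 n1489
theorem D2131 : act 6 n1489 = n2131 := rfl
theorem F10494 : act 3 n2131 = n1490 := d26_1 D2131 (iv D1490) D1489
def n2132 : Q := act 5 n1490
theorem D2132 : act 5 n1490 = n2132 := rfl
theorem F10498 : act 2 n2132 = n1558 := d19_1 D2132 (iv D1558) (iv F7469)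
def n2133 : Q := act 1 n1491
theorem D2133 : act 1 n1491 = n2133 := rfl
def n2139 : Q := act 5 n1496
theorem D2139 : act 5 n1496 = n2139 := rfl
theorem F10534 : act 0 n2139 = n1497 := d4_1 D2139 (iv D1497) (iv F7499)
theorem F10535 : act 1 n2139 = n2139 := d12_1 D2139 (iv D2139) F7500
theorem F10536 : act 3 n2139 = n1565 := d25_1 D2139 (iv D1565) (iv F7501)
theorem F10537 : act 7 n2139 = n2139 := d36_2 F7504 D2139 (iv D2139)
theorem F10538 : act 9 n2139 = n2139 := d38_2 F7505 D2139 (iv D2139)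
def n2140 : Q := act 4 n1497
theorem D2140 : act 4 n1497 = n2140 := rfl
theorem F10539 : act 1 n2140 = n1498 := d11_1 D2140 (iv D1498) (iv F7506)
theorem F10540 : act 5 n2140 = n2140 := d30_2 D1497 D2140 (iv D2140) (iv D1497) F5337
theorem F10541 : act 7 n2140 = n2140 := d32_2 F7508 D2140 (iv D2140)
theorem F10542 : act 9 n2140 = n2140 := d34_2 F7509 D2140 (iv D2140)
def n2141 : Q := act 6 n1497
theorem D2141 : act 6 n1497 = n2141 := rfl
theorem F10543 : act 1 n2141 = n1499 := d13_1 D2141 (iv D1499) (iv F7506)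
theorem F10544 : act 3 n2141 = n1567 := d26_1 D2141 (iv D1567) (iv F7507)
theorem F10545 : act 5 n2141 = n2141 := d35_1 D2141 (iv D2141) (iv D1497) F5338 D1497
def n2142 : Q := act 3 n1498
theorem D2142 : act 3 n1498 = n2142 := rfl
theorem F10549 : act 4 n2142 = n1568 := d24_2 D1498 D2142 (iv D1568) (iv D1099) (iv F5343)
def n2143 : Q := act 6 n1498
theorem D2143 : act 6 n1498 = n2143 := rfl
theorem F10554 : act 2 n2143 = n1500 := d20_1 D2143 (iv D1500) (iv F7511)
def n2144 : Q := act 7 n1499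
theorem D2144 : act 7 n1499 = n2144 := rfl
theorem F10558 : act 2 n2144 = n1501 := d21_1 D2144 (iv D1501) (iv F7516)
theorem F10559 : act 3 n2144 = n1570 := d27_1 D2144 (iv D1570) (iv F7517)
def n2145 : Q := act 5 n1500
theorem D2145 : act 5 n1500 = n2145 := rfl
theorem F10563 : act 0 n2145 = n2145 := d4_1 D2145 (iv D2145) F7520
theorem F10564 : act 3 n2145 = n2145 := d25_1 D2145 (iv D2145) F7521
theorem F10565 : act 4 n2145 = n2145 := d30_1 D2145 (iv D2145) F7522 F5353 (iv F7522)
theorem F10566 : act 6 n2145 = n2145 := d35_2 D1500 D2145 (iv D2145) (iv D1500) F5348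
theorem F10567 : act 9 n2145 = n2145 := d38_2 F7523 D2145 (iv D2145)
def n2146 : Q := act 7 n1500
theorem D2146 : act 7 n1500 = n2146 := rfl
def n2147 : Q := act 5 n1502
theorem D2147 : act 5 n1502 = n2147 := rfl
theorem F10573 : act 0 n2147 = n1504 := d4_1 D2147 (iv D1504) (iv F7529)
theorem F10574 : act 1 n2147 = n2147 := d12_1 D2147 (iv D2147) F7530
theorem F10575 : act 2 n2147 = n2147 := d19_1 D2147 (iv D2147) F7531
theorem F10576 : act 6 n2147 = n2147 := d35_2 D1502 D2147 (iv D2147) (iv D1502) F5364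
theorem F10577 : act 8 n2147 = n2147 := d37_2 (iv F7533) D2147 (iv D2147) F7533 F5473
def n2148 : Q := act 7 n1502
theorem D2148 : act 7 n1502 = n2148 := rfl
theorem F10578 : act 0 n2148 = n1505 := d6_1 D2148 (iv D1505) (iv F7529)
theorem F10579 : act 1 n2148 = n2148 := d14_1 D2148 (iv D2148) F7530
theorem F10580 : act 2 n2148 = n2148 := d21_1 D2148 (iv D2148) F7531
theorem F10581 : act 4 n2148 = n2148 := d32_1 D2148 (iv D2148) F7532
theorem F10582 : act 6 n2148 = n2148 := d39_1 D2148 (iv D2148) (iv D1502) F5365 D1502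
theorem F10583 : act 8 n2148 = n1533 := d42_2 (iv F7533) D2148 (iv D1533)
def n2149 : Q := act 9 n1502
theorem D2149 : act 9 n1502 = n2149 := rfl
theorem F10584 : act 0 n2149 = n1506 := d8_1 D2149 (iv D1506) (iv F7529)
theorem F10585 : act 1 n2149 = n2149 := d16_1 D2149 (iv D2149) F7530
theorem F10586 : act 2 n2149 = n2149 := d23_1 D2149 (iv D2149) F7531
theorem F10587 : act 4 n2149 = n2149 := d34_1 D2149 (iv D2149) F7532
theorem F10588 : act 6 n2149 = n1503 := d41_1 D2149 (iv D1503) D1502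
def n2150 : Q := act 8 n1503
theorem D2150 : act 8 n1503 = n2150 := rfl
theorem F10589 : act 0 n2150 = n1507 := d7_1 D2150 (iv D1507) (iv F7534)
theorem F10590 : act 1 n2150 = n2150 := d15_1 D2150 (iv D2150) F7535
theorem F10591 : act 2 n2150 = n2150 := d22_1 D2150 (iv D2150) F7536
theorem F10592 : act 4 n2150 = n2150 := d33_1 D2150 (iv D2150) F7537
theorem F10593 : act 7 n2150 = n2150 := d42_1 D2150 (iv D2150) F7539
theorem F10594 : act 9 n2150 = n1535 := d44_2 D1503 D2150 (iv D1535) (iv D1072) (iv F5366)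
def n2151 : Q := act 4 n1504
theorem D2151 : act 4 n1504 = n2151 := rfl
theorem F10595 : act 1 n2151 = n1508 := d11_1 D2151 (iv D1508) (iv F7540)
theorem F10596 : act 2 n2151 = n2151 := d18_1 D2151 (iv D2151) F7541
theorem F10597 : act 5 n2151 = n2151 := d30_2 D1504 D2151 (iv D2151) (iv D1504) F5369
theorem F10598 : act 6 n2151 = n2151 := d31_2 F7542 D2151 (iv D2151)
theorem F10599 : act 8 n2151 = n2151 := d33_2 F7543 D2151 (iv D2151)
def n2152 : Q := act 7 n1504
theorem D2152 : act 7 n1504 = n2152 := rfl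
theorem F10600 : act 1 n2152 = n1509 := d14_1 D2152 (iv D1509) (iv F7540)
theorem F10601 : act 2 n2152 = n2152 := d21_1 D2152 (iv D2152) F7541
theorem F10602 : act 5 n2152 = n1505 := d36_1 D2152 (iv D1505) D1504
theorem F10603 : act 8 n2152 = n2152 := d42_2 F7543 D2152 (iv D2152)
def n2153 : Q := act 9 n1504
theorem D2153 : act 9 n1504 = n2153 := rfl
theorem F10604 : act 1 n2153 = n1510 := d16_1 D2153 (iv D1510) (iv F7540)
theorem F10605 : act 2 n2153 = n2153 := d23_1 D2153 (iv D2153) F7541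
theorem F10606 : act 5 n2153 = n1506 := d38_1 D2153 (iv D1506) D1504
theorem F10607 : act 6 n2153 = n2153 := d41_1 D2153 (iv D2153) F7542
def n2154 : Q := act 9 n1505
theorem D2154 : act 9 n1505 = n2154 := rfl
theorem F10608 : act 1 n2154 = n1511 := d16_1 D2154 (iv D1511) (iv F7544)
theorem F10609 : act 2 n2154 = n2154 := d23_1 D2154 (iv D2154) F7545
theorem F10610 : act 4 n2154 = n2154 := d34_1 D2154 (iv D2154) F7546
theorem F10611 : act 6 n2154 = n2154 := d41_1 D2154 (iv D2154) F7547
theorem F10612 : act 7 n2154 = n1506 := d43_1 D2154 (iv D1506) D1505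
def n2155 : Q := act 8 n1506
theorem D2155 : act 8 n1506 = n2155 := rfl
theorem F10613 : act 1 n2155 = n1512 := d15_1 D2155 (iv D1512) (iv F7549)
theorem F10614 : act 2 n2155 = n2155 := d22_1 D2155 (iv D2155) F7550
theorem F10615 : act 4 n2155 = n2155 := d33_1 D2155 (iv D2155) F7551
theorem F10616 : act 6 n2155 = n1507 := d40_1 D2155 (iv D1507) (iv F7552)
theorem F10617 : act 9 n2155 = n1537 := d44_2 D1506 D2155 (iv D1537) (iv D1074) (iv F5370)
def n2156 : Q := act 5 n1507
theorem D2156 : act 5 n1507 = n2156 := rfl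
theorem F10618 : act 1 n2156 = n1513 := d12_1 D2156 (iv D1513) (iv F7553)
theorem F10619 : act 2 n2156 = n2156 := d19_1 D2156 (iv D2156) F7554
theorem F10620 : act 7 n2156 = n2156 := d36_2 F7556 D2156 (iv D2156)
theorem F10621 : act 8 n2156 = n2156 := d37_2 D1507 D2156 (iv D2156) (iv D1507) F5374
theorem F10622 : act 9 n2156 = n1538 := d38_2 (iv F7557) D2156 (iv D1538)
def n2157 : Q := act 3 n1508
theorem D2157 : act 3 n1508 = n2157 := rfl
theorem F10623 : act 0 n2157 = n2157 := d2_1 D2157 (iv D2157) F7558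
theorem F10624 : act 2 n2157 = n2157 := d17_1 D2157 (iv D2157) F7559 F5396 (iv F7559)
theorem F10625 : act 5 n2157 = n2157 := d25_2 F7560 D2157 (iv D2157)
theorem F10626 : act 6 n2157 = n2157 := d26_2 F7561 D2157 (iv D2157)
theorem F10627 : act 8 n2157 = n2157 := d28_2 F7562 D2157 (iv D2157)
def n2158 : Q := act 7 n1508
theorem D2158 : act 7 n1508 = n2158 := rfl
theorem F10628 : act 0 n2158 = n2158 := d6_1 D2158 (iv D2158) F7558
theorem F10629 : act 2 n2158 = n1514 := d21_1 D2158 (iv D1514) (iv F7559)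
theorem F10630 : act 4 n2158 = n1509 := d32_1 D2158 (iv D1509) D1508
theorem F10631 : act 5 n2158 = n2158 := d36_1 D2158 (iv D2158) F7560
theorem F10632 : act 8 n2158 = n2158 := d42_2 F7562 D2158 (iv D2158)
def n2159 : Q := act 9 n1508
theorem D2159 : act 9 n1508 = n2159 := rfl
theorem F10633 : act 0 n2159 = n2159 := d8_1 D2159 (iv D2159) F7558
theorem F10634 : act 2 n2159 = n1515 := d23_1 D2159 (iv D1515) (iv F7559)
theorem F10635 : act 4 n2159 = n1510 := d34_1 D2159 (iv D1510) D1508
theorem F10636 : act 5 n2159 = n2159 := d38_1 D2159 (iv D2159) F7560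
theorem F10637 : act 6 n2159 = n2159 := d41_1 D2159 (iv D2159) F7561
def n2160 : Q := act 6 n1509
theorem D2160 : act 6 n1509 = n2160 := rfl
theorem F10638 : act 0 n2160 = n2160 := d5_1 D2160 (iv D2160) F7563
theorem F10639 : act 2 n2160 = n1516 := d20_1 D2160 (iv D1516) (iv F7564)
theorem F10640 : act 5 n2160 = n2160 := d35_1 D2160 (iv D2160) F7565 F5383 (iv F7565)
theorem F10641 : act 7 n2160 = n2160 := d39_2 D1509 D2160 (iv D2160) (iv D1509) F5378
theorem F10642 : act 8 n2160 = n2160 := d40_2 F7566 D2160 (iv D2160)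
def n2161 : Q := act 9 n1509
theorem D2161 : act 9 n1509 = n2161 := rfl
theorem F10643 : act 0 n2161 = n2161 := d8_1 D2161 (iv D2161) F7563
theorem F10644 : act 2 n2161 = n1517 := d23_1 D2161 (iv D1517) (iv F7564)
theorem F10645 : act 5 n2161 = n1511 := d38_1 D2161 (iv D1511) (iv F7565)
theorem F10646 : act 7 n2161 = n1510 := d43_1 D2161 (iv D1510) D1509
def n2162 : Q := act 8 n1510
theorem D2162 : act 8 n1510 = n2162 := rfl
theorem F10647 : act 0 n2162 = n2162 := d7_1 D2162 (iv D2162) F7567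
theorem F10648 : act 2 n2162 = n1518 := d22_1 D2162 (iv D1518) (iv F7568)
theorem F10649 : act 6 n2162 = n2162 := d40_1 D2162 (iv D2162) F7570
theorem F10650 : act 9 n2162 = n2162 := d44_2 D1510 D2162 (iv D2162) (iv D1510) F5379
def n2163 : Q := act 8 n1511
theorem D2163 : act 8 n1511 = n2163 := rfl
theorem F10651 : act 0 n2163 = n2163 := d7_1 D2163 (iv D2163) F7571
theorem F10652 : act 2 n2163 = n1519 := d22_1 D2163 (iv D1519) (iv F7572)
theorem F10653 : act 4 n2163 = n2163 := d33_1 D2163 (iv D2163) F7573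
theorem F10654 : act 6 n2163 = n2163 := d40_1 D2163 (iv D2163) F7574
theorem F10655 : act 7 n2163 = n1512 := d42_1 D2163 (iv D1512) (iv F7575)
theorem F10656 : act 9 n2163 = n1539 := d44_2 D1511 D2163 (iv D1539) (iv D1076) (iv F5384)
def n2164 : Q := act 5 n1512
theorem D2164 : act 5 n1512 = n2164 := rfl
theorem F10657 : act 0 n2164 = n2164 := d4_1 D2164 (iv D2164) F7576
theorem F10658 : act 2 n2164 = n1520 := d19_1 D2164 (iv D1520) (iv F7577)
theorem F10659 : act 9 n2164 = n1540 := d38_2 (iv F7580) D2164 (iv D1540)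
def n2165 : Q := act 4 n1513
theorem D2165 : act 4 n1513 = n2165 := rfl
theorem F10661 : act 2 n2165 = n1521 := d18_1 D2165 (iv D1521) (iv F7582)
theorem F10665 : act 9 n2165 = n1541 := d34_2 (iv F7585) D2165 (iv D1541)
def n2166 : Q := act 6 n1513
theorem D2166 : act 6 n1513 = n2166 := rfl
theorem F10667 : act 2 n2166 = n1522 := d20_1 D2166 (iv D1522) (iv F7582)
def n2167 : Q := act 6 n1514
theorem D2167 : act 6 n1514 = n2167 := rfl
theorem F10670 : act 0 n2167 = n2167 := d5_1 D2167 (iv D2167) F7586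
theorem F10671 : act 1 n2167 = n2167 := d13_1 D2167 (iv D2167) F7587
theorem F10672 : act 3 n2167 = n2167 := d26_1 D2167 (iv D2167) F7588
theorem F10673 : act 4 n2167 = n1516 := d31_1 D2167 (iv D1516) (iv F7589)
theorem F10674 : act 7 n2167 = n2167 := d39_2 D1514 D2167 (iv D2167) (iv D1514) F5398
theorem F10675 : act 8 n2167 = n2167 := d40_2 F7591 D2167 (iv D2167)
def n2168 : Q := act 9 n1514
theorem D2168 : act 9 n1514 = n2168 := rfl
theorem F10676 : act 0 n2168 = n2168 := d8_1 D2168 (iv D2168) F7586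
theorem F10677 : act 1 n2168 = n2168 := d16_1 D2168 (iv D2168) F7587
theorem F10678 : act 3 n2168 = n2168 := d29_1 D2168 (iv D2168) F7588
theorem F10679 : act 4 n2168 = n1517 := d34_1 D2168 (iv D1517) (iv F7589)
theorem F10680 : act 5 n2168 = n2168 := d38_1 D2168 (iv D2168) F7590
theorem F10681 : act 7 n2168 = n1515 := d43_1 D2168 (iv D1515) D1514
def n2169 : Q := act 8 n1515
theorem D2169 : act 8 n1515 = n2169 := rfl
theorem F10682 : act 0 n2169 = n2169 := d7_1 D2169 (iv D2169) F7592
theorem F10683 : act 1 n2169 = n2169 := d15_1 D2169 (iv D2169) F7593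
theorem F10684 : act 3 n2169 = n2169 := d28_1 D2169 (iv D2169) F7594
theorem F10685 : act 4 n2169 = n1518 := d33_1 D2169 (iv D1518) (iv F7595)
theorem F10686 : act 6 n2169 = n2169 := d40_1 D2169 (iv D2169) F7597
theorem F10687 : act 9 n2169 = n2169 := d44_2 D1515 D2169 (iv D2169) (iv D1515) F5399
def n2170 : Q := act 9 n1516
theorem D2170 : act 9 n1516 = n2170 := rfl
theorem F10688 : act 0 n2170 = n2170 := d8_1 D2170 (iv D2170) F7598
theorem F10689 : act 1 n2170 = n2170 := d16_1 D2170 (iv D2170) F7599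
theorem F10690 : act 3 n2170 = n1523 := d29_1 D2170 (iv D1523) (iv F7600)
theorem F10691 : act 5 n2170 = n2170 := d38_1 D2170 (iv D2170) F7601
theorem F10692 : act 6 n2170 = n1517 := d41_1 D2170 (iv D1517) D1516
theorem F10693 : act 7 n2170 = n2170 := d43_1 D2170 (iv D2170) F7602
def n2171 : Q := act 8 n1517
theorem D2171 : act 8 n1517 = n2171 := rfl
theorem F10694 : act 0 n2171 = n2171 := d7_1 D2171 (iv D2171) F7604
theorem F10695 : act 1 n2171 = n2171 := d15_1 D2171 (iv D2171) F7605
theorem F10696 : act 3 n2171 = n1524 := d28_1 D2171 (iv D1524) (iv F7606)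
theorem F10697 : act 7 n2171 = n1518 := d42_1 D2171 (iv D1518) (iv F7608)
theorem F10698 : act 9 n2171 = n2171 := d44_2 D1517 D2171 (iv D2171) (iv D1517) F5404
def n2172 : Q := act 5 n1518
theorem D2172 : act 5 n1518 = n2172 := rfl
theorem F10699 : act 0 n2172 = n2172 := d4_1 D2172 (iv D2172) F7609
theorem F10700 : act 1 n2172 = n2172 := d12_1 D2172 (iv D2172) F7610
theorem F10701 : act 3 n2172 = n1525 := d25_1 D2172 (iv D1525) (iv F7611)
theorem F10702 : act 8 n2172 = n1520 := d37_2 D1518 D2172 (iv D1520) (iv D1061) (iv F5408)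
theorem F10703 : act 9 n2172 = n2172 := d38_2 F7613 D2172 (iv D2172)
def n2173 : Q := act 5 n1519
theorem D2173 : act 5 n1519 = n2173 := rfl
theorem F10704 : act 0 n2173 = n2173 := d4_1 D2173 (iv D2173) F7614
theorem F10705 : act 1 n2173 = n2173 := d12_1 D2173 (iv D2173) F7615
theorem F10706 : act 3 n2173 = n1526 := d25_1 D2173 (iv D1526) (iv F7616)
theorem F10707 : act 7 n2173 = n1520 := d36_2 (iv F7619) D2173 (iv D1520)
theorem F10708 : act 9 n2173 = n1543 := d38_2 (iv F7620) D2173 (iv D1543)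
def n2174 : Q := act 4 n1520
theorem D2174 : act 4 n1520 = n2174 := rfl
theorem F10709 : act 0 n2174 = n2174 := d3_1 D2174 (iv D2174) F7621
theorem F10710 : act 1 n2174 = n2174 := d11_1 D2174 (iv D2174) F7622
theorem F10711 : act 5 n2174 = n2174 := d30_2 D1520 D2174 (iv D2174) (iv D1520) F5419
theorem F10712 : act 9 n2174 = n1544 := d34_2 (iv F7624) D2174 (iv D1544)
def n2175 : Q := act 6 n1520
theorem D2175 : act 6 n1520 = n2175 := rfl
theorem F10713 : act 0 n2175 = n2175 := d5_1 D2175 (iv D2175) F7621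
theorem F10714 : act 1 n2175 = n2175 := d13_1 D2175 (iv D2175) F7622
theorem F10715 : act 3 n2175 = n1528 := d26_1 D2175 (iv D1528) (iv F7623)
theorem F10716 : act 5 n2175 = n1522 := d35_1 D2175 (iv D1522) (iv D1062) (iv F5420) D1520
theorem F10717 : act 9 n2175 = n1545 := d41_2 (iv F7624) D2175 (iv D1545)
def n2176 : Q := act 6 n1521
theorem D2176 : act 6 n1521 = n2176 := rfl
theorem F10721 : act 4 n2176 = n1522 := d31_1 D2176 (iv D1522) D1521
theorem F10723 : act 9 n2176 = n1546 := d41_2 (iv F7631) D2176 (iv D1546)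
def n2177 : Q := act 7 n1522
theorem D2177 : act 7 n1522 = n2177 := rfl
theorem F10726 : act 3 n2177 = n1529 := d27_1 D2177 (iv D1529) (iv F7634)
def n2178 : Q := act 8 n1523
theorem D2178 : act 8 n1523 = n2178 := rfl
theorem F10730 : act 0 n2178 = n2178 := d7_1 D2178 (iv D2178) F7637
theorem F10731 : act 1 n2178 = n2178 := d15_1 D2178 (iv D2178) F7638
theorem F10732 : act 4 n2178 = n2178 := d33_1 D2178 (iv D2178) F7639
theorem F10733 : act 6 n2178 = n1524 := d40_1 D2178 (iv D1524) (iv F7641)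
theorem F10734 : act 7 n2178 = n2178 := d42_1 D2178 (iv D2178) F7642
theorem F10735 : act 9 n2178 = n2178 := d44_2 D1523 D2178 (iv D2178) (iv D1523) F5433
def n2179 : Q := act 5 n1524
theorem D2179 : act 5 n1524 = n2179 := rfl
theorem F10736 : act 0 n2179 = n2179 := d4_1 D2179 (iv D2179) F7643
theorem F10737 : act 1 n2179 = n2179 := d12_1 D2179 (iv D2179) F7644
theorem F10738 : act 7 n2179 = n1525 := d36_2 (iv F7646) D2179 (iv D1525)
theorem F10739 : act 8 n2179 = n1526 := d37_2 D1524 D2179 (iv D1526) (iv D1066) (iv F5437)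
theorem F10740 : act 9 n2179 = n2179 := d38_2 F7647 D2179 (iv D2179)
def n2180 : Q := act 4 n1525
theorem D2180 : act 4 n1525 = n2180 := rfl
theorem F10741 : act 0 n2180 = n2180 := d3_1 D2180 (iv D2180) F7648
theorem F10742 : act 1 n2180 = n2180 := d11_1 D2180 (iv D2180) F7649
theorem F10743 : act 5 n2180 = n2180 := d30_2 D1525 D2180 (iv D2180) (iv D1525) F5441
theorem F10744 : act 8 n2180 = n1527 := d33_2 (iv F7650) D2180 (iv D1527)
theorem F10745 : act 9 n2180 = n2180 := d34_2 F7651 D2180 (iv D2180)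
def n2181 : Q := act 6 n1525
theorem D2181 : act 6 n1525 = n2181 := rfl
theorem F10746 : act 0 n2181 = n2181 := d5_1 D2181 (iv D2181) F7648
theorem F10747 : act 1 n2181 = n2181 := d13_1 D2181 (iv D2181) F7649
theorem F10748 : act 5 n2181 = n2181 := d35_1 D2181 (iv D2181) (iv D1525) F5442 D1525
theorem F10749 : act 8 n2181 = n1528 := d40_2 (iv F7650) D2181 (iv D1528)
theorem F10750 : act 9 n2181 = n2181 := d41_2 F7651 D2181 (iv D2181)
def n2182 : Q := act 4 n1526
theorem D2182 : act 4 n1526 = n2182 := rfl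
theorem F10753 : act 5 n2182 = n1530 := d30_2 D1526 D2182 (iv D1530) (iv D1069) (iv F5446)
theorem F10754 : act 7 n2182 = n1527 := d32_2 (iv F7654) D2182 (iv D1527)
theorem F10755 : act 9 n2182 = n1548 := d34_2 (iv F7655) D2182 (iv D1548)
def n2183 : Q := act 6 n1526
theorem D2183 : act 6 n1526 = n2183 := rfl
def n2184 : Q := act 3 n1527
theorem D2184 : act 3 n1527 = n2184 := rfl
theorem F10760 : act 0 n2184 = n2184 := d2_1 D2184 (iv D2184) F7656
theorem F10761 : act 1 n2184 = n2184 := d10_1 D2184 (iv D2184) F7657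
theorem F10763 : act 9 n2184 = n1550 := d29_2 (iv F7659) D2184 (iv D1550)
def n2185 : Q := act 6 n1527
theorem D2185 : act 6 n1527 = n2185 := rfl
theorem F10764 : act 0 n2185 = n2185 := d5_1 D2185 (iv D2185) F7656
theorem F10765 : act 1 n2185 = n2185 := d13_1 D2185 (iv D2185) F7657
theorem F10766 : act 4 n2185 = n1528 := d31_1 D2185 (iv D1528) D1527
theorem F10767 : act 5 n2185 = n2185 := d35_1 D2185 (iv D2185) F7658 F5466 (iv F7658)
theorem F10768 : act 9 n2185 = n1551 := d41_2 (iv F7659) D2185 (iv D1551)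
def n2186 : Q := act 7 n1528
theorem D2186 : act 7 n1528 = n2186 := rfl
theorem F10771 : act 5 n2186 = n1529 := d36_1 D2186 (iv D1529) (iv F7662)
def n2187 : Q := act 3 n1530
theorem D2187 : act 3 n1530 = n2187 := rfl
theorem F10778 : act 9 n2187 = n1553 := d29_2 (iv F7674) D2187 (iv D1553)
def n2188 : Q := act 6 n1530
theorem D2188 : act 6 n1530 = n2188 := rfl
theorem F10781 : act 4 n2188 = n1531 := d31_1 D2188 (iv D1531) D1530
def n2190 : Q := act 9 n1533
theorem D2190 : act 9 n1533 = n2190 := rfl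
theorem F10790 : act 0 n2190 = n1536 := d8_1 D2190 (iv D1536) (iv F7688)
theorem F10791 : act 1 n2190 = n2190 := d16_1 D2190 (iv D2190) F7689
theorem F10792 : act 2 n2190 = n2190 := d23_1 D2190 (iv D2190) F7690
theorem F10793 : act 4 n2190 = n2190 := d34_1 D2190 (iv D2190) F7691
theorem F10794 : act 5 n2190 = n2190 := d38_1 D2190 (iv D2190) F7692
theorem F10795 : act 6 n2190 = n2190 := d41_1 D2190 (iv D2190) F7693
theorem F10796 : act 7 n2190 = n1534 := d43_1 D2190 (iv D1534) D1533
def n2191 : Q := act 8 n1534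
theorem D2191 : act 8 n1534 = n2191 := rfl
theorem F10797 : act 0 n2191 = n1537 := d7_1 D2191 (iv D1537) (iv F7694)
theorem F10798 : act 1 n2191 = n2191 := d15_1 D2191 (iv D2191) F7695
theorem F10799 : act 2 n2191 = n2191 := d22_1 D2191 (iv D2191) F7696
theorem F10800 : act 4 n2191 = n2191 := d33_1 D2191 (iv D2191) F7697
theorem F10801 : act 6 n2191 = n1535 := d40_1 D2191 (iv D1535) (iv F7699)
def n2192 : Q := act 5 n1535
theorem D2192 : act 5 n1535 = n2192 := rfl
theorem F10802 : act 0 n2192 = n1538 := d4_1 D2192 (iv D1538) (iv F7700)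
theorem F10803 : act 1 n2192 = n2192 := d12_1 D2192 (iv D2192) F7701
theorem F10804 : act 2 n2192 = n2192 := d19_1 D2192 (iv D2192) F7702
theorem F10805 : act 7 n2192 = n2192 := d36_2 F7704 D2192 (iv D2192)
theorem F10806 : act 8 n2192 = n1565 := d37_2 D1535 D2192 (iv D1565) (iv D1097) (iv F5478)
def n2193 : Q := act 8 n1536
theorem D2193 : act 8 n1536 = n2193 := rfl
theorem F10807 : act 1 n2193 = n1539 := d15_1 D2193 (iv D1539) (iv F7705)
theorem F10808 : act 2 n2193 = n2193 := d22_1 D2193 (iv D2193) F7706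
theorem F10809 : act 4 n2193 = n2193 := d33_1 D2193 (iv D2193) F7707
theorem F10810 : act 6 n2193 = n2193 := d40_1 D2193 (iv D2193) F7709
theorem F10811 : act 7 n2193 = n1537 := d42_1 D2193 (iv D1537) (iv F7710)
def n2194 : Q := act 5 n1537
theorem D2194 : act 5 n1537 = n2194 := rfl
theorem F10812 : act 1 n2194 = n1540 := d12_1 D2194 (iv D1540) (iv F7711)
theorem F10813 : act 2 n2194 = n2194 := d19_1 D2194 (iv D2194) F7712
theorem F10814 : act 8 n2194 = n2194 := d37_2 D1537 D2194 (iv D2194) (iv D1537) F5488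
def n2195 : Q := act 4 n1538
theorem D2195 : act 4 n1538 = n2195 := rfl
theorem F10815 : act 1 n2195 = n1541 := d11_1 D2195 (iv D1541) (iv F7715)
theorem F10817 : act 5 n2195 = n2195 := d30_2 D1538 D2195 (iv D2195) (iv D1538) F5492
theorem F10819 : act 8 n2195 = n1566 := d33_2 (iv F7718) D2195 (iv D1566)
def n2196 : Q := act 6 n1538
theorem D2196 : act 6 n1538 = n2196 := rfl
theorem F10820 : act 1 n2196 = n1542 := d13_1 D2196 (iv D1542) (iv F7715)
def n2197 : Q := act 5 n1539
theorem D2197 : act 5 n1539 = n2197 := rfl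
theorem F10823 : act 0 n2197 = n2197 := d4_1 D2197 (iv D2197) F7719
theorem F10824 : act 2 n2197 = n1543 := d19_1 D2197 (iv D1543) (iv F7720)
theorem F10825 : act 7 n2197 = n1540 := d36_2 (iv F7723) D2197 (iv D1540)
theorem F10826 : act 8 n2197 = n2197 := d37_2 D1539 D2197 (iv D2197) (iv D1539) F5497
def n2198 : Q := act 4 n1540
theorem D2198 : act 4 n1540 = n2198 := rfl
theorem F10828 : act 2 n2198 = n1544 := d18_1 D2198 (iv D1544) (iv F7725)
def n2199 : Q := act 6 n1540
theorem D2199 : act 6 n1540 = n2199 := rfl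
theorem F10832 : act 2 n2199 = n1545 := d20_1 D2199 (iv D1545) (iv F7725)
theorem F10833 : act 5 n2199 = n1542 := d35_1 D2199 (iv D1542) (iv D1078) (iv F5503) D1540
def n2200 : Q := act 3 n1541
theorem D2200 : act 3 n1541 = n2200 := rfl
theorem F10839 : act 8 n2200 = n1568 := d28_2 (iv F7731) D2200 (iv D1568)
def n2201 : Q := act 6 n1541
theorem D2201 : act 6 n1541 = n2201 := rfl
theorem F10842 : act 4 n2201 = n1542 := d31_1 D2201 (iv D1542) D1541
theorem F10843 : act 8 n2201 = n1569 := d40_2 (iv F7731) D2201 (iv D1569)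
def n2202 : Q := act 7 n1542
theorem D2202 : act 7 n1542 = n2202 := rfl
def n2203 : Q := act 4 n1543
theorem D2203 : act 4 n1543 = n2203 := rfl
theorem F10848 : act 0 n2203 = n2203 := d3_1 D2203 (iv D2203) F7735
theorem F10849 : act 1 n2203 = n2203 := d11_1 D2203 (iv D2203) F7736
theorem F10850 : act 5 n2203 = n2203 := d30_2 D1543 D2203 (iv D2203) (iv D1543) F5511
theorem F10851 : act 7 n2203 = n1544 := d32_2 (iv F7738) D2203 (iv D1544)
theorem F10852 : act 8 n2203 = n2203 := d33_2 F7739 D2203 (iv D2203)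
def n2204 : Q := act 6 n1543
theorem D2204 : act 6 n1543 = n2204 := rfl
theorem F10853 : act 0 n2204 = n2204 := d5_1 D2204 (iv D2204) F7735
theorem F10854 : act 1 n2204 = n2204 := d13_1 D2204 (iv D2204) F7736
theorem F10855 : act 3 n2204 = n1549 := d26_1 D2204 (iv D1549) (iv F7737)
theorem F10856 : act 5 n2204 = n2204 := d35_1 D2204 (iv D2204) (iv D1543) F5512 D1543
theorem F10857 : act 8 n2204 = n2204 := d40_2 F7739 D2204 (iv D2204)
def n2205 : Q := act 3 n1544
theorem D2205 : act 3 n1544 = n2205 := rfl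
theorem F10860 : act 4 n2205 = n1550 := d24_2 D1544 D2205 (iv D1550) (iv D1084) (iv F5516)
def n2206 : Q := act 6 n1544
theorem D2206 : act 6 n1544 = n2206 := rfl
theorem F10865 : act 4 n2206 = n1545 := d31_1 D2206 (iv D1545) D1544
def n2207 : Q := act 7 n1545
theorem D2207 : act 7 n1545 = n2207 := rfl
theorem F10869 : act 3 n2207 = n1552 := d27_1 D2207 (iv D1552) (iv F7746)
def n2208 : Q := act 5 n1546
theorem D2208 : act 5 n1546 = n2208 := rfl
def n2209 : Q := act 7 n1546
theorem D2209 : act 7 n1546 = n2209 := rfl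
theorem F10879 : act 4 n2209 = n1547 := d32_1 D2209 (iv D1547) (iv F7752)
theorem F10881 : act 8 n2209 = n1572 := d42_2 (iv F7753) D2209 (iv D1572)
def n2210 : Q := act 3 n1548
theorem D2210 : act 3 n1548 = n2210 := rfl
theorem F10884 : act 5 n2210 = n1553 := d25_2 (iv F7761) D2210 (iv D1553)
theorem F10885 : act 7 n2210 = n1550 := d27_2 (iv F7762) D2210 (iv D1550)
def n2211 : Q := act 6 n1548
theorem D2211 : act 6 n1548 = n2211 := rfl
theorem F10889 : act 4 n2211 = n1549 := d31_1 D2211 (iv D1549) D1548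
def n2212 : Q := act 7 n1549
theorem D2212 : act 7 n1549 = n2212 := rfl
def n2213 : Q := act 2 n1550
theorem D2213 : act 2 n1550 = n2213 := rfl
theorem F10898 : act 8 n2213 = n2213 := d22_2 F7771 D2213 (iv D2213)
def n2214 : Q := act 6 n1550
theorem D2214 : act 6 n1550 = n2214 := rfl
def n2215 : Q := act 7 n1551
theorem D2215 : act 7 n1551 = n2215 := rfl
def n2216 : Q := act 2 n1553
theorem D2216 : act 2 n1553 = n2216 := rfl
theorem F10911 : act 7 n2216 = n1555 := d21_2 (iv F7784) D2216 (iv D1555)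
theorem F10912 : act 8 n2216 = n1556 := d22_2 (iv F7785) D2216 (iv D1556)
def n2217 : Q := act 6 n1553
theorem D2217 : act 6 n1553 = n2217 := rfl
theorem F10915 : act 3 n2217 = n1554 := d26_1 D2217 (iv D1554) D1553
theorem F10918 : act 8 n2217 = n1557 := d40_2 (iv F7785) D2217 (iv D1557)
def n2218 : Q := act 5 n1554
theorem D2218 : act 5 n1554 = n2218 := rfl
def n2220 : Q := act 1 n1556
theorem D2220 : act 1 n1556 = n2220 := rfl
theorem F10927 : act 2 n2220 = n2220 := d9_2 D1556 D2220 (iv D2220) (iv D1556) F5561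
theorem F10931 : act 9 n2220 = n2220 := d16_2 F7799 D2220 (iv D2220)
def n2221 : Q := act 6 n1556
theorem D2221 : act 6 n1556 = n2221 := rfl
theorem F10933 : act 2 n2221 = n1557 := d20_1 D2221 (iv D1557) D1556
def n2222 : Q := act 5 n1557
theorem D2222 : act 5 n1557 = n2222 := rfl
theorem F10939 : act 3 n2222 = n1558 := d25_1 D2222 (iv D1558) (iv F7802)
def n2223 : Q := act 8 n1558
theorem D2223 : act 8 n1558 = n2223 := rfl
def n2228 : Q := act 4 n1562
theorem D2228 : act 4 n1562 = n2228 := rfl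
def n2229 : Q := act 8 n1562
theorem D2229 : act 8 n1562 = n2229 := rfl
theorem F10980 : act 3 n2229 = n1563 := d28_1 D2229 (iv D1563) (iv F7831)
def n2230 : Q := act 9 n1563
theorem D2230 : act 9 n1563 = n2230 := rfl
def n2231 : Q := act 4 n1565
theorem D2231 : act 4 n1565 = n2231 := rfl
theorem F10990 : act 0 n2231 = n1566 := d3_1 D2231 (iv D1566) (iv F7847)
theorem F10991 : act 1 n2231 = n2231 := d11_1 D2231 (iv D2231) F7848
theorem F10992 : act 2 n2231 = n2231 := d18_1 D2231 (iv D2231) F7849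
theorem F10993 : act 5 n2231 = n1573 := d30_2 D1565 D2231 (iv D1573) (iv D1103) (iv F5603)
def n2232 : Q := act 6 n1565
theorem D2232 : act 6 n1565 = n2232 := rfl
theorem F10996 : act 0 n2232 = n1567 := d5_1 D2232 (iv D1567) (iv F7847)
def n2233 : Q := act 3 n1566
theorem D2233 : act 3 n1566 = n2233 := rfl
theorem F11001 : act 1 n2233 = n1568 := d10_1 D2233 (iv D1568) (iv F7852)
theorem F11002 : act 5 n2233 = n1575 := d25_2 (iv F7854) D2233 (iv D1575)
theorem F11004 : act 9 n2233 = n2233 := d29_2 F7856 D2233 (iv D2233)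
def n2234 : Q := act 6 n1566
theorem D2234 : act 6 n1566 = n2234 := rfl
theorem F11005 : act 1 n2234 = n1569 := d13_1 D2234 (iv D1569) (iv F7852)
theorem F11007 : act 4 n2234 = n1567 := d31_1 D2234 (iv D1567) D1566
def n2235 : Q := act 7 n1567
theorem D2235 : act 7 n1567 = n2235 := rfl
def n2236 : Q := act 6 n1568
theorem D2236 : act 6 n1568 = n2236 := rfl
theorem F11016 : act 3 n2236 = n1569 := d26_1 D2236 (iv D1569) D1568
def n2237 : Q := act 5 n1569
theorem D2237 : act 5 n1569 = n2237 := rfl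
theorem F11019 : act 2 n2237 = n1571 := d19_1 D2237 (iv D1571) (iv F7867)
def n2238 : Q := act 7 n1569
theorem D2238 : act 7 n1569 = n2238 := rfl
theorem F11025 : act 4 n2238 = n1570 := d32_1 D2238 (iv D1570) (iv F7868)
def n2239 : Q := act 7 n1571
theorem D2239 : act 7 n1571 = n2239 := rfl
theorem F11032 : act 5 n2239 = n1572 := d36_1 D2239 (iv D1572) D1571
def n2240 : Q := act 8 n1571
theorem D2240 : act 8 n1571 = n2240 := rfl
def n2241 : Q := act 3 n1573
theorem D2241 : act 3 n1573 = n2241 := rfl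
theorem F11039 : act 0 n2241 = n1575 := d2_1 D2241 (iv D1575) (iv F7887)
theorem F11040 : act 1 n2241 = n2241 := d10_1 D2241 (iv D2241) F7888
theorem F11041 : act 4 n2241 = n2241 := d24_2 D1573 D2241 (iv D2241) (iv D1573) F5634
theorem F11042 : act 7 n2241 = n2241 := d27_2 F7890 D2241 (iv D2241)
theorem F11043 : act 8 n2241 = n2241 := d28_2 F7891 D2241 (iv D2241)
def n2242 : Q := act 6 n1573
theorem D2242 : act 6 n1573 = n2242 := rfl
theorem F11047 : act 2 n2242 = n2242 := d20_1 D2242 (iv D2242) F7889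
theorem F11048 : act 4 n2242 = n1574 := d31_1 D2242 (iv D1574) D1573
theorem F11050 : act 9 n2242 = n2242 := d41_2 F7892 D2242 (iv D2242)
def n2243 : Q := act 7 n1574
theorem D2243 : act 7 n1574 = n2243 := rfl
theorem F11053 : act 2 n2243 = n2243 := d21_1 D2243 (iv D2243) F7895
theorem F11054 : act 3 n2243 = n2243 := d27_1 D2243 (iv D2243) F7896
theorem F11057 : act 8 n2243 = n2243 := d42_2 F7898 D2243 (iv D2243)
def n2244 : Q := act 2 n1575
theorem D2244 : act 2 n1575 = n2244 := rfl
theorem F11060 : act 3 n2244 = n2244 := d17_2 D1575 D2244 (iv D2244) (iv D1575) F5639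
theorem F11061 : act 4 n2244 = n2244 := d18_2 F7901 D2244 (iv D2244)
def n2245 : Q := act 6 n1575
theorem D2245 : act 6 n1575 = n2245 := rfl
theorem F11065 : act 1 n2245 = n1578 := d13_1 D2245 (iv D1578) (iv F7900)
theorem F11066 : act 3 n2245 = n1576 := d26_1 D2245 (iv D1576) D1575
def n2246 : Q := act 5 n1576
theorem D2246 : act 5 n1576 = n2246 := rfl
theorem F11071 : act 2 n2246 = n2246 := d19_1 D2246 (iv D2246) F7906
theorem F11073 : act 9 n2246 = n2246 := d38_2 F7909 D2246 (iv D2246)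
def n2248 : Q := act 5 n1578
theorem D2248 : act 5 n1578 = n2248 := rfl
theorem F11081 : act 2 n2248 = n2248 := d19_1 D2248 (iv D2248) F7918
theorem F11082 : act 3 n2248 = n1579 := d25_1 D2248 (iv D1579) (iv F7919)
def n2250 : Q := act 7 n1579
theorem D2250 : act 7 n1579 = n2250 := rfl
theorem F11092 : act 2 n2250 = n1581 := d21_1 D2250 (iv D1581) (iv F7924)
def n2252 : Q := act 6 n1581
theorem D2252 : act 6 n1581 = n2252 := rfl
theorem F11100 : act 0 n2252 = n2252 := d5_1 D2252 (iv D2252) F7933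
def n2253 : Q := act 8 n1581
theorem D2253 : act 8 n1581 = n2253 := rfl
theorem F11111 : act 7 n2253 = n1582 := d42_1 D2253 (iv D1582) D1581
def n2254 : Q := act 9 n1582
theorem D2254 : act 9 n1582 = n2254 := rfl
def n2255 : Q := act 8 n1583
theorem D2255 : act 8 n1583 = n2255 := rfl
theorem F11118 : act 0 n2255 = n2255 := d7_1 D2255 (iv D2255) F7944
theorem F11119 : act 1 n2255 = n2255 := d15_1 D2255 (iv D2255) F7945
theorem F11120 : act 2 n2255 = n1584 := d22_1 D2255 (iv D1584) D1583
theorem F11121 : act 3 n2255 = n2255 := d28_1 D2255 (iv D2255) F7946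
theorem F11122 : act 4 n2255 = n2255 := d33_1 D2255 (iv D2255) F7947
theorem F11123 : act 6 n2255 = n2255 := d40_1 D2255 (iv D2255) F7949
theorem F11124 : act 7 n2255 = n2255 := d42_1 D2255 (iv D2255) F7950
def n2256 : Q := act 5 n1584
theorem D2256 : act 5 n1584 = n2256 := rfl
theorem F11125 : act 0 n2256 = n2256 := d4_1 D2256 (iv D2256) F7952
theorem F11126 : act 1 n2256 = n1619 := d12_1 D2256 (iv D1619) (iv F7953)
theorem F11127 : act 3 n2256 = n1585 := d25_1 D2256 (iv D1585) (iv F7954)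
theorem F11128 : act 7 n2256 = n2256 := d36_2 F7957 D2256 (iv D2256)
theorem F11129 : act 8 n2256 = n2256 := d37_2 D1584 D2256 (iv D2256) (iv D1584) F5682
def n2257 : Q := act 9 n1584
theorem D2257 : act 9 n1584 = n2257 := rfl
theorem F11130 : act 0 n2257 = n2257 := d8_1 D2257 (iv D2257) F7952
theorem F11131 : act 1 n2257 = n1620 := d16_1 D2257 (iv D1620) (iv F7953)
theorem F11132 : act 3 n2257 = n1586 := d29_1 D2257 (iv D1586) (iv F7954)
theorem F11133 : act 4 n2257 = n2257 := d34_1 D2257 (iv D2257) F7955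
theorem F11134 : act 6 n2257 = n2257 := d41_1 D2257 (iv D2257) F7956
theorem F11135 : act 7 n2257 = n2257 := d43_1 D2257 (iv D2257) F7957
theorem F11136 : act 8 n2257 = n2257 := d44_1 D2257 (iv D2257) (iv D1584) F5685 D1584
def n2258 : Q := act 4 n1585
theorem D2258 : act 4 n1585 = n2258 := rfl
theorem F11137 : act 0 n2258 = n2258 := d3_1 D2258 (iv D2258) F7958
theorem F11138 : act 1 n2258 = n1621 := d11_1 D2258 (iv D1621) (iv F7959)
theorem F11139 : act 2 n2258 = n2258 := d18_1 D2258 (iv D2258) F7960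
theorem F11140 : act 5 n2258 = n1587 := d30_2 D1585 D2258 (iv D1587) (iv D1113) (iv F5689)
theorem F11141 : act 7 n2258 = n2258 := d32_2 F7961 D2258 (iv D2258)
theorem F11142 : act 8 n2258 = n2258 := d33_2 F7962 D2258 (iv D2258)
def n2259 : Q := act 6 n1585
theorem D2259 : act 6 n1585 = n2259 := rfl
theorem F11143 : act 0 n2259 = n2259 := d5_1 D2259 (iv D2259) F7958
theorem F11144 : act 1 n2259 = n1622 := d13_1 D2259 (iv D1622) (iv F7959)
theorem F11145 : act 2 n2259 = n2259 := d20_1 D2259 (iv D2259) F7960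
theorem F11146 : act 5 n2259 = n2259 := d35_1 D2259 (iv D2259) (iv D1585) F5690 D1585
theorem F11147 : act 8 n2259 = n2259 := d40_2 F7962 D2259 (iv D2259)
def n2260 : Q := act 9 n1585
theorem D2260 : act 9 n1585 = n2260 := rfl
theorem F11148 : act 0 n2260 = n2260 := d8_1 D2260 (iv D2260) F7958
theorem F11149 : act 1 n2260 = n1623 := d16_1 D2260 (iv D1623) (iv F7959)
theorem F11150 : act 2 n2260 = n2260 := d23_1 D2260 (iv D2260) F7960
theorem F11151 : act 5 n2260 = n1586 := d38_1 D2260 (iv D1586) D1585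
theorem F11152 : act 7 n2260 = n2260 := d43_1 D2260 (iv D2260) F7961
def n2261 : Q := act 3 n1587
theorem D2261 : act 3 n1587 = n2261 := rfl
theorem F11153 : act 0 n2261 = n2261 := d2_1 D2261 (iv D2261) F7970
theorem F11154 : act 1 n2261 = n1624 := d10_1 D2261 (iv D1624) (iv F7971)
theorem F11155 : act 4 n2261 = n2261 := d24_2 D1587 D2261 (iv D2261) (iv D1587) F5695
theorem F11156 : act 7 n2261 = n2261 := d27_2 F7973 D2261 (iv D2261)
theorem F11157 : act 8 n2261 = n1590 := d28_2 (iv F7974) D2261 (iv D1590)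
def n2262 : Q := act 6 n1587
theorem D2262 : act 6 n1587 = n2262 := rfl
theorem F11159 : act 1 n2262 = n1625 := d13_1 D2262 (iv D1625) (iv F7971)
def n2263 : Q := act 9 n1587
theorem D2263 : act 9 n1587 = n2263 := rfl
theorem F11163 : act 0 n2263 = n2263 := d8_1 D2263 (iv D2263) F7970
theorem F11164 : act 1 n2263 = n1626 := d16_1 D2263 (iv D1626) (iv F7971)
theorem F11165 : act 2 n2263 = n2263 := d23_1 D2263 (iv D2263) F7972
theorem F11166 : act 4 n2263 = n1589 := d34_1 D2263 (iv D1589) D1587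
theorem F11167 : act 7 n2263 = n2263 := d43_1 D2263 (iv D2263) F7973
def n2265 : Q := act 9 n1588
theorem D2265 : act 9 n1588 = n2265 := rfl
theorem F11176 : act 1 n2265 = n1628 := d16_1 D2265 (iv D1628) (iv F7976)
theorem F11180 : act 6 n2265 = n1589 := d41_1 D2265 (iv D1589) D1588
def n2266 : Q := act 8 n1589
theorem D2266 : act 8 n1589 = n2266 := rfl
theorem F11181 : act 0 n2266 = n2266 := d7_1 D2266 (iv D2266) F7981
theorem F11182 : act 1 n2266 = n1629 := d15_1 D2266 (iv D1629) (iv F7982)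
theorem F11183 : act 2 n2266 = n2266 := d22_1 D2266 (iv D2266) F7983
theorem F11184 : act 3 n2266 = n2266 := d28_1 D2266 (iv D2266) F7984
theorem F11185 : act 5 n2266 = n2266 := d37_1 D2266 (iv D2266) F7985 F5704 (iv F7985)
theorem F11186 : act 7 n2266 = n2266 := d42_1 D2266 (iv D2266) F7986
theorem F11187 : act 9 n2266 = n1595 := d44_2 D1589 D2266 (iv D1595) (iv D1117) (iv F5697)
def n2267 : Q := act 2 n1590
theorem D2267 : act 2 n1590 = n2267 := rfl
theorem F11188 : act 0 n2267 = n2267 := d1_1 D2267 (iv D2267) F7987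
theorem F11189 : act 3 n2267 = n2267 := d17_2 D1590 D2267 (iv D2267) (iv D1590) F5707
theorem F11190 : act 4 n2267 = n2267 := d18_2 F7989 D2267 (iv D2267)
theorem F11191 : act 5 n2267 = n2267 := d19_2 F7990 D2267 (iv D2267)
theorem F11192 : act 7 n2267 = n2267 := d21_2 F7991 D2267 (iv D2267)
def n2268 : Q := act 6 n1590
theorem D2268 : act 6 n1590 = n2268 := rfl
theorem F11194 : act 1 n2268 = n1631 := d13_1 D2268 (iv D1631) (iv F7988)
def n2269 : Q := act 9 n1590
theorem D2269 : act 9 n1590 = n2269 := rfl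
theorem F11197 : act 0 n2269 = n2269 := d8_1 D2269 (iv D2269) F7987
theorem F11198 : act 1 n2269 = n1632 := d16_1 D2269 (iv D1632) (iv F7988)
theorem F11199 : act 3 n2269 = n1592 := d29_1 D2269 (iv D1592) D1590
theorem F11200 : act 4 n2269 = n2269 := d34_1 D2269 (iv D2269) F7989
theorem F11201 : act 5 n2269 = n2269 := d38_1 D2269 (iv D2269) F7990
theorem F11202 : act 7 n2269 = n2269 := d43_1 D2269 (iv D2269) F7991
def n2272 : Q := act 9 n1591
theorem D2272 : act 9 n1591 = n2272 := rfl
theorem F11214 : act 1 n2272 = n1635 := d16_1 D2272 (iv D1635) (iv F7993)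
theorem F11217 : act 6 n2272 = n1592 := d41_1 D2272 (iv D1592) D1591
def n2273 : Q := act 8 n1592
theorem D2273 : act 8 n1592 = n2273 := rfl
theorem F11218 : act 0 n2273 = n2273 := d7_1 D2273 (iv D2273) F7996
theorem F11219 : act 1 n2273 = n1636 := d15_1 D2273 (iv D1636) (iv F7997)
theorem F11220 : act 2 n2273 = n2273 := d22_1 D2273 (iv D2273) F7998
theorem F11221 : act 4 n2273 = n1595 := d33_1 D2273 (iv D1595) (iv F7999)
theorem F11222 : act 7 n2273 = n2273 := d42_1 D2273 (iv D2273) F8001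
def n2275 : Q := act 8 n1594
theorem D2275 : act 8 n1594 = n2275 := rfl
theorem F11231 : act 1 n2275 = n1638 := d15_1 D2275 (iv D1638) (iv F8009)
theorem F11234 : act 6 n2275 = n1595 := d40_1 D2275 (iv D1595) (iv F8013)
def n2287 : Q := act 5 n1602
theorem D2287 : act 5 n1602 = n2287 := rfl
theorem F11298 : act 4 n2287 = n2287 := d30_1 D2287 (iv D2287) F8056 F5753 (iv F8056)
def n2289 : Q := act 5 n1604
theorem D2289 : act 5 n1604 = n2289 := rfl
theorem F11310 : act 1 n2289 = n1650 := d12_1 D2289 (iv D1650) (iv F8066)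
theorem F11313 : act 6 n2289 = n2289 := d35_2 (iv F8069) D2289 (iv D2289) F8069 F5753
def n2295 : Q := act 7 n1607
theorem D2295 : act 7 n1607 = n2295 := rfl
theorem F11344 : act 1 n2295 = n1652 := d14_1 D2295 (iv D1652) (iv F8084)
def n2296 : Q := act 8 n1607
theorem D2296 : act 8 n1607 = n2296 := rfl
def n2300 : Q := act 5 n1610
theorem D2300 : act 5 n1610 = n2300 := rfl
theorem F11370 : act 3 n2300 = n1616 := d25_1 D2300 (iv D1616) (iv F8099)
def n2301 : Q := act 6 n1611
theorem D2301 : act 6 n1611 = n2301 := rfl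
theorem F11374 : act 1 n2301 = n1658 := d13_1 D2301 (iv D1658) (iv F8103)
def n2302 : Q := act 8 n1611
theorem D2302 : act 8 n1611 = n2302 := rfl
theorem F11383 : act 7 n2302 = n1612 := d42_1 D2302 (iv D1612) D1611
def n2309 : Q := act 5 n1617
theorem D2309 : act 5 n1617 = n2309 := rfl
theorem F11421 : act 7 n2309 = n1618 := d36_2 (iv F8140) D2309 (iv D1618)
def n2311 : Q := act 4 n1619
theorem D2311 : act 4 n1619 = n2311 := rfl
theorem F11430 : act 0 n2311 = n1761 := d3_1 D2311 (iv D1761) (iv F8149)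
theorem F11431 : act 2 n2311 = n2311 := d18_1 D2311 (iv D2311) F8150
theorem F11432 : act 5 n2311 = n2311 := d30_2 D1619 D2311 (iv D2311) (iv D1619) F5807
theorem F11433 : act 7 n2311 = n2311 := d32_2 F8152 D2311 (iv D2311)
theorem F11434 : act 8 n2311 = n2311 := d33_2 F8153 D2311 (iv D2311)
def n2312 : Q := act 6 n1619
theorem D2312 : act 6 n1619 = n2312 := rfl
theorem F11435 : act 0 n2312 = n1762 := d5_1 D2312 (iv D1762) (iv F8149)
theorem F11436 : act 2 n2312 = n2312 := d20_1 D2312 (iv D2312) F8150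
theorem F11437 : act 3 n2312 = n1622 := d26_1 D2312 (iv D1622) (iv F8151)
theorem F11438 : act 5 n2312 = n2312 := d35_1 D2312 (iv D2312) (iv D1619) F5808 D1619
theorem F11439 : act 8 n2312 = n2312 := d40_2 F8153 D2312 (iv D2312)
def n2313 : Q := act 9 n1619
theorem D2313 : act 9 n1619 = n2313 := rfl
theorem F11440 : act 0 n2313 = n1763 := d8_1 D2313 (iv D1763) (iv F8149)
theorem F11441 : act 2 n2313 = n2313 := d23_1 D2313 (iv D2313) F8150
theorem F11442 : act 3 n2313 = n1623 := d29_1 D2313 (iv D1623) (iv F8151)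
theorem F11443 : act 5 n2313 = n1620 := d38_1 D2313 (iv D1620) D1619
theorem F11444 : act 7 n2313 = n2313 := d43_1 D2313 (iv D2313) F8152
def n2314 : Q := act 3 n1621
theorem D2314 : act 3 n1621 = n2314 := rfl
theorem F11445 : act 0 n2314 = n1764 := d2_1 D2314 (iv D1764) (iv F8161)
theorem F11446 : act 5 n2314 = n1624 := d25_2 (iv F8163) D2314 (iv D1624)
theorem F11447 : act 7 n2314 = n2314 := d27_2 F8164 D2314 (iv D2314)
theorem F11448 : act 8 n2314 = n2314 := d28_2 F8165 D2314 (iv D2314)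
def n2315 : Q := act 6 n1621
theorem D2315 : act 6 n1621 = n2315 := rfl
theorem F11449 : act 0 n2315 = n1765 := d5_1 D2315 (iv D1765) (iv F8161)
theorem F11450 : act 2 n2315 = n1669 := d20_1 D2315 (iv D1669) (iv F8162)
theorem F11451 : act 4 n2315 = n1622 := d31_1 D2315 (iv D1622) D1621
theorem F11452 : act 8 n2315 = n2315 := d40_2 F8165 D2315 (iv D2315)
def n2316 : Q := act 9 n1621
theorem D2316 : act 9 n1621 = n2316 := rfl
theorem F11453 : act 0 n2316 = n1766 := d8_1 D2316 (iv D1766) (iv F8161)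
theorem F11454 : act 2 n2316 = n1670 := d23_1 D2316 (iv D1670) (iv F8162)
theorem F11455 : act 4 n2316 = n1623 := d34_1 D2316 (iv D1623) D1621
theorem F11456 : act 5 n2316 = n1626 := d38_1 D2316 (iv D1626) (iv F8163)
theorem F11457 : act 7 n2316 = n2316 := d43_1 D2316 (iv D2316) F8164
def n2317 : Q := act 7 n1622
theorem D2317 : act 7 n1622 = n2317 := rfl
theorem F11458 : act 0 n2317 = n1767 := d6_1 D2317 (iv D1767) (iv F8166)
theorem F11459 : act 2 n2317 = n1671 := d21_1 D2317 (iv D1671) (iv F8167)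
theorem F11460 : act 5 n2317 = n2317 := d36_1 D2317 (iv D2317) F8168
theorem F11461 : act 6 n2317 = n2317 := d39_1 D2317 (iv D2317) (iv D1622) F5812 D1622
theorem F11462 : act 8 n2317 = n2317 := d42_2 F8169 D2317 (iv D2317)
def n2318 : Q := act 9 n1622
theorem D2318 : act 9 n1622 = n2318 := rfl
theorem F11463 : act 0 n2318 = n1768 := d8_1 D2318 (iv D1768) (iv F8166)
theorem F11464 : act 2 n2318 = n1672 := d23_1 D2318 (iv D1672) (iv F8167)
theorem F11465 : act 5 n2318 = n2318 := d38_1 D2318 (iv D2318) F8168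
theorem F11466 : act 6 n2318 = n1623 := d41_1 D2318 (iv D1623) D1622
def n2319 : Q := act 8 n1623
theorem D2319 : act 8 n1623 = n2319 := rfl
theorem F11467 : act 0 n2319 = n1769 := d7_1 D2319 (iv D1769) (iv F8170)
theorem F11468 : act 2 n2319 = n1673 := d22_1 D2319 (iv D1673) (iv F8171)
theorem F11469 : act 5 n2319 = n2319 := d37_1 D2319 (iv D2319) F8172 F5819 (iv F8172)
theorem F11470 : act 7 n2319 = n2319 := d42_1 D2319 (iv D2319) F8173
theorem F11471 : act 9 n2319 = n2319 := d44_2 D1623 D2319 (iv D2319) (iv D1623) F5813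
def n2320 : Q := act 2 n1624
theorem D2320 : act 2 n1624 = n2320 := rfl
theorem F11472 : act 0 n2320 = n1770 := d1_1 D2320 (iv D1770) (iv F8174)
theorem F11473 : act 3 n2320 = n1674 := d17_2 D1624 D2320 (iv D1674) (iv D1168) (iv F5821)
theorem F11474 : act 4 n2320 = n2320 := d18_2 F8175 D2320 (iv D2320)
theorem F11475 : act 7 n2320 = n2320 := d21_2 F8176 D2320 (iv D2320)
theorem F11476 : act 8 n2320 = n1630 := d22_2 (iv F8177) D2320 (iv D1630)
def n2321 : Q := act 6 n1624
theorem D2321 : act 6 n1624 = n2321 := rfl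
theorem F11477 : act 0 n2321 = n1771 := d5_1 D2321 (iv D1771) (iv F8174)
theorem F11478 : act 3 n2321 = n1625 := d26_1 D2321 (iv D1625) D1624
theorem F11479 : act 4 n2321 = n2321 := d31_1 D2321 (iv D2321) F8175
theorem F11480 : act 8 n2321 = n1631 := d40_2 (iv F8177) D2321 (iv D1631)
def n2322 : Q := act 9 n1624
theorem D2322 : act 9 n1624 = n2322 := rfl
theorem F11481 : act 0 n2322 = n1772 := d8_1 D2322 (iv D1772) (iv F8174)
theorem F11482 : act 3 n2322 = n1626 := d29_1 D2322 (iv D1626) D1624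
theorem F11483 : act 4 n2322 = n2322 := d34_1 D2322 (iv D2322) F8175
theorem F11484 : act 7 n2322 = n2322 := d43_1 D2322 (iv D2322) F8176
def n2323 : Q := act 5 n1625
theorem D2323 : act 5 n1625 = n2323 := rfl
theorem F11485 : act 0 n2323 = n1773 := d4_1 D2323 (iv D1773) (iv F8178)
theorem F11486 : act 2 n2323 = n1677 := d19_1 D2323 (iv D1677) (iv F8179)
theorem F11487 : act 4 n2323 = n2323 := d30_1 D2323 (iv D2323) F8180 F5827 (iv F8180)
def n2324 : Q := act 7 n1625
theorem D2324 : act 7 n1625 = n2324 := rfl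
theorem F11489 : act 2 n2324 = n1678 := d21_1 D2324 (iv D1678) (iv F8179)
theorem F11492 : act 8 n2324 = n1634 := d42_2 (iv F8181) D2324 (iv D1634)
def n2325 : Q := act 9 n1625
theorem D2325 : act 9 n1625 = n2325 := rfl
theorem F11493 : act 0 n2325 = n1775 := d8_1 D2325 (iv D1775) (iv F8178)
theorem F11494 : act 2 n2325 = n1679 := d23_1 D2325 (iv D1679) (iv F8179)
theorem F11495 : act 4 n2325 = n1628 := d34_1 D2325 (iv D1628) (iv F8180)
theorem F11496 : act 6 n2325 = n1626 := d41_1 D2325 (iv D1626) D1625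
def n2326 : Q := act 8 n1626
theorem D2326 : act 8 n1626 = n2326 := rfl
theorem F11497 : act 0 n2326 = n1776 := d7_1 D2326 (iv D1776) (iv F8182)
theorem F11498 : act 2 n2326 = n1680 := d22_1 D2326 (iv D1680) (iv F8183)
theorem F11499 : act 4 n2326 = n1629 := d33_1 D2326 (iv D1629) (iv F8184)
theorem F11500 : act 7 n2326 = n2326 := d42_1 D2326 (iv D2326) F8185
theorem F11501 : act 9 n2326 = n1636 := d44_2 D1626 D2326 (iv D1636) (iv D1141) (iv F5823)
def n2327 : Q := act 9 n1627
theorem D2327 : act 9 n1627 = n2327 := rfl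
theorem F11503 : act 2 n2327 = n1681 := d23_1 D2327 (iv D1681) (iv F8187)
theorem F11507 : act 7 n2327 = n1628 := d43_1 D2327 (iv D1628) D1627
def n2328 : Q := act 8 n1628
theorem D2328 : act 8 n1628 = n2328 := rfl
theorem F11508 : act 0 n2328 = n1778 := d7_1 D2328 (iv D1778) (iv F8192)
theorem F11509 : act 2 n2328 = n1682 := d22_1 D2328 (iv D1682) (iv F8193)
theorem F11510 : act 3 n2328 = n2328 := d28_1 D2328 (iv D2328) F8194
theorem F11511 : act 6 n2328 = n1629 := d40_1 D2328 (iv D1629) (iv F8196)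
theorem F11512 : act 9 n2328 = n1638 := d44_2 D1628 D2328 (iv D1638) (iv D1143) (iv F5828)
def n2329 : Q := act 1 n1630
theorem D2329 : act 1 n1630 = n2329 := rfl
theorem F11513 : act 3 n2329 = n1683 := d10_2 (iv F8204) D2329 (iv D1683)
theorem F11514 : act 4 n2329 = n2329 := d11_2 F8205 D2329 (iv D2329)
theorem F11515 : act 5 n2329 = n2329 := d12_2 F8206 D2329 (iv D2329)
theorem F11516 : act 7 n2329 = n2329 := d14_2 F8207 D2329 (iv D2329)
def n2330 : Q := act 6 n1630
theorem D2330 : act 6 n1630 = n2330 := rfl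
theorem F11517 : act 0 n2330 = n1780 := d5_1 D2330 (iv D1780) (iv F8203)
theorem F11518 : act 2 n2330 = n1631 := d20_1 D2330 (iv D1631) D1630
theorem F11519 : act 3 n2330 = n1684 := d26_1 D2330 (iv D1684) (iv F8204)
theorem F11520 : act 4 n2330 = n2330 := d31_1 D2330 (iv D2330) F8205
def n2331 : Q := act 9 n1630
theorem D2331 : act 9 n1630 = n2331 := rfl
theorem F11521 : act 0 n2331 = n1781 := d8_1 D2331 (iv D1781) (iv F8203)
theorem F11522 : act 2 n2331 = n1632 := d23_1 D2331 (iv D1632) D1630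
theorem F11523 : act 3 n2331 = n1685 := d29_1 D2331 (iv D1685) (iv F8204)
theorem F11524 : act 4 n2331 = n2331 := d34_1 D2331 (iv D2331) F8205
theorem F11525 : act 5 n2331 = n2331 := d38_1 D2331 (iv D2331) F8206
theorem F11526 : act 7 n2331 = n2331 := d43_1 D2331 (iv D2331) F8207
def n2332 : Q := act 5 n1631
theorem D2332 : act 5 n1631 = n2332 := rfl
theorem F11528 : act 3 n2332 = n1633 := d25_1 D2332 (iv D1633) (iv F8209)
def n2333 : Q := act 7 n1631
theorem D2333 : act 7 n1631 = n2333 := rfl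
def n2334 : Q := act 9 n1631
theorem D2334 : act 9 n1631 = n2334 := rfl
theorem F11534 : act 0 n2334 = n1784 := d8_1 D2334 (iv D1784) (iv F8208)
theorem F11535 : act 3 n2334 = n1635 := d29_1 D2334 (iv D1635) (iv F8209)
theorem F11536 : act 4 n2334 = n2334 := d34_1 D2334 (iv D2334) F8210
theorem F11537 : act 6 n2334 = n1632 := d41_1 D2334 (iv D1632) D1631
def n2335 : Q := act 8 n1632
theorem D2335 : act 8 n1632 = n2335 := rfl
theorem F11538 : act 0 n2335 = n1785 := d7_1 D2335 (iv D1785) (iv F8211)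
theorem F11539 : act 3 n2335 = n1636 := d28_1 D2335 (iv D1636) (iv F8212)
theorem F11540 : act 4 n2335 = n2335 := d33_1 D2335 (iv D2335) F8213
theorem F11541 : act 7 n2335 = n2335 := d42_1 D2335 (iv D2335) F8215
def n2336 : Q := act 7 n1633
theorem D2336 : act 7 n1633 = n2336 := rfl
theorem F11544 : act 4 n2336 = n1643 := d32_1 D2336 (iv D1643) (iv F8218)
theorem F11545 : act 5 n2336 = n1634 := d36_1 D2336 (iv D1634) D1633
def n2337 : Q := act 8 n1633
theorem D2337 : act 8 n1633 = n2337 := rfl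
theorem F11547 : act 2 n2337 = n1691 := d22_1 D2337 (iv D1691) (iv F8217)
def n2338 : Q := act 9 n1633
theorem D2338 : act 9 n1633 = n2338 := rfl
theorem F11551 : act 2 n2338 = n1692 := d23_1 D2338 (iv D1692) (iv F8217)
theorem F11553 : act 5 n2338 = n1635 := d38_1 D2338 (iv D1635) D1633
def n2339 : Q := act 9 n1634
theorem D2339 : act 9 n1634 = n2339 := rfl
theorem F11556 : act 2 n2339 = n1693 := d23_1 D2339 (iv D1693) (iv F8221)
theorem F11559 : act 7 n2339 = n1635 := d43_1 D2339 (iv D1635) D1634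
def n2340 : Q := act 8 n1635
theorem D2340 : act 8 n1635 = n2340 := rfl
theorem F11560 : act 0 n2340 = n1790 := d7_1 D2340 (iv D1790) (iv F8224)
theorem F11561 : act 2 n2340 = n1694 := d22_1 D2340 (iv D1694) (iv F8225)
theorem F11562 : act 4 n2340 = n1638 := d33_1 D2340 (iv D1638) (iv F8226)
theorem F11563 : act 6 n2340 = n1636 := d40_1 D2340 (iv D1636) (iv F8227)
def n2341 : Q := act 5 n1636
theorem D2341 : act 5 n1636 = n2341 := rfl
theorem F11564 : act 0 n2341 = n1791 := d4_1 D2341 (iv D1791) (iv F8228)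
theorem F11565 : act 2 n2341 = n1695 := d19_1 D2341 (iv D1695) (iv F8229)
theorem F11566 : act 4 n2341 = n2341 := d30_1 D2341 (iv D2341) F8230 F5859 (iv F8230)
theorem F11567 : act 7 n2341 = n2341 := d36_2 F8231 D2341 (iv D2341)
theorem F11568 : act 8 n2341 = n2341 := d37_2 D1636 D2341 (iv D2341) (iv D1636) F5844
def n2342 : Q := act 8 n1637
theorem D2342 : act 8 n1637 = n2342 := rfl
theorem F11570 : act 2 n2342 = n1696 := d22_1 D2342 (iv D1696) (iv F8233)
theorem F11573 : act 7 n2342 = n1638 := d42_1 D2342 (iv D1638) (iv F8237)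
def n2343 : Q := act 5 n1638
theorem D2343 : act 5 n1638 = n2343 := rfl
theorem F11574 : act 0 n2343 = n1793 := d4_1 D2343 (iv D1793) (iv F8238)
theorem F11575 : act 2 n2343 = n1697 := d19_1 D2343 (iv D1697) (iv F8239)
theorem F11576 : act 3 n2343 = n2343 := d25_1 D2343 (iv D2343) F8240
theorem F11577 : act 6 n2343 = n2343 := d35_2 (iv F8241) D2343 (iv D2343) F8241 F5859
theorem F11578 : act 8 n2343 = n1650 := d37_2 D1638 D2343 (iv D1650) (iv D1152) (iv F5854)
def n2350 : Q := act 5 n1642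
theorem D2350 : act 5 n1642 = n2350 := rfl
theorem F11611 : act 3 n2350 = n1648 := d25_1 D2350 (iv D1648) (iv F8259)
def n2351 : Q := act 6 n1643
theorem D2351 : act 6 n1643 = n2351 := rfl
theorem F11617 : act 5 n2351 = n1658 := d35_1 D2351 (iv D1658) F5921 (iv F5878) (iv F8265)
def n2357 : Q := act 5 n1647
theorem D2357 : act 5 n1647 = n2357 := rfl
theorem F11641 : act 2 n2357 = n1704 := d19_1 D2357 (iv D1704) (iv F8280)
def n2358 : Q := act 6 n1648
theorem D2358 : act 6 n1648 = n2358 := rfl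
theorem F11644 : act 2 n2358 = n1705 := d20_1 D2358 (iv D1705) (iv F8285)
def n2359 : Q := act 5 n1649
theorem D2359 : act 5 n1649 = n2359 := rfl
theorem F11649 : act 2 n2359 = n1706 := d19_1 D2359 (iv D1706) (iv F8291)
theorem F11651 : act 7 n2359 = n1650 := d36_2 (iv F8294) D2359 (iv D1650)
def n2360 : Q := act 4 n1650
theorem D2360 : act 4 n1650 = n2360 := rfl
theorem F11653 : act 0 n2360 = n1810 := d3_1 D2360 (iv D1810) (iv F8296)
theorem F11654 : act 2 n2360 = n1707 := d18_1 D2360 (iv D1707) (iv F8297)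
theorem F11655 : act 6 n2360 = n2360 := d31_2 F8299 D2360 (iv D2360)
theorem F11656 : act 9 n2360 = n2360 := d34_2 F8300 D2360 (iv D2360)
def n2364 : Q := act 6 n1652
theorem D2364 : act 6 n1652 = n2364 := rfl
theorem F11673 : act 0 n2364 = n1814 := d5_1 D2364 (iv D1814) (iv F8306)
theorem F11675 : act 3 n2364 = n1658 := d26_1 D2364 (iv D1658) (iv F8308)
def n2365 : Q := act 8 n1652
theorem D2365 : act 8 n1652 = n2365 := rfl
theorem F11681 : act 7 n2365 = n1653 := d42_1 D2365 (iv D1653) D1652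
def n2371 : Q := act 4 n1657
theorem D2371 : act 4 n1657 = n2371 := rfl
theorem F11708 : act 3 n2371 = n2371 := d24_1 D2371 (iv D2371) F8333 F5943 (iv F8333)
def n2373 : Q := act 8 n1658
theorem D2373 : act 8 n1658 = n2373 := rfl
theorem F11718 : act 2 n2373 = n1708 := d22_1 D2373 (iv D1708) (iv F8337)
theorem F11720 : act 6 n2373 = n1659 := d40_1 D2373 (iv D1659) D1658
def n2384 : Q := act 6 n1666
theorem D2384 : act 6 n1666 = n2384 := rfl
theorem F11769 : act 7 n2384 = n2384 := d39_2 (iv F8375) D2384 (iv D2384) F8375 F5954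
def n2386 : Q := act 2 n1668
theorem D2386 : act 2 n1668 = n2386 := rfl
theorem F11777 : act 0 n2386 = n1836 := d1_1 D2386 (iv D1836) (iv F8383)
theorem F11778 : act 4 n2386 = n2386 := d18_2 F8385 D2386 (iv D2386)
theorem F11779 : act 5 n2386 = n1674 := d19_2 (iv F8386) D2386 (iv D1674)
theorem F11780 : act 7 n2386 = n2386 := d21_2 F8387 D2386 (iv D2386)
theorem F11781 : act 8 n2386 = n2386 := d22_2 F8388 D2386 (iv D2386)
def n2387 : Q := act 6 n1668
theorem D2387 : act 6 n1668 = n2387 := rfl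
theorem F11782 : act 0 n2387 = n1837 := d5_1 D2387 (iv D1837) (iv F8383)
theorem F11783 : act 1 n2387 = n2387 := d13_1 D2387 (iv D2387) F8384
theorem F11784 : act 3 n2387 = n1669 := d26_1 D2387 (iv D1669) D1668
theorem F11785 : act 4 n2387 = n2387 := d31_1 D2387 (iv D2387) F8385
theorem F11786 : act 8 n2387 = n2387 := d40_2 F8388 D2387 (iv D2387)
def n2388 : Q := act 9 n1668
theorem D2388 : act 9 n1668 = n2388 := rfl
theorem F11787 : act 0 n2388 = n1838 := d8_1 D2388 (iv D1838) (iv F8383)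
theorem F11788 : act 1 n2388 = n2388 := d16_1 D2388 (iv D2388) F8384
theorem F11789 : act 3 n2388 = n1670 := d29_1 D2388 (iv D1670) D1668
theorem F11790 : act 4 n2388 = n2388 := d34_1 D2388 (iv D2388) F8385
theorem F11791 : act 5 n2388 = n1676 := d38_1 D2388 (iv D1676) (iv F8386)
theorem F11792 : act 7 n2388 = n2388 := d43_1 D2388 (iv D2388) F8387
def n2389 : Q := act 5 n1669
theorem D2389 : act 5 n1669 = n2389 := rfl
theorem F11793 : act 0 n2389 = n1839 := d4_1 D2389 (iv D1839) (iv F8389)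
theorem F11794 : act 1 n2389 = n2389 := d12_1 D2389 (iv D2389) F8390
theorem F11795 : act 4 n2389 = n2389 := d30_1 D2389 (iv D2389) F8391 F5965 (iv F8391)
theorem F11796 : act 6 n2389 = n1677 := d35_2 D1669 D2389 (iv D1677) (iv D1169) (iv F5959)
def n2390 : Q := act 7 n1669
theorem D2390 : act 7 n1669 = n2390 := rfl
theorem F11797 : act 0 n2390 = n1840 := d6_1 D2390 (iv D1840) (iv F8389)
theorem F11798 : act 1 n2390 = n2390 := d14_1 D2390 (iv D2390) F8390
theorem F11799 : act 4 n2390 = n1671 := d32_1 D2390 (iv D1671) (iv F8391)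
theorem F11800 : act 6 n2390 = n2390 := d39_1 D2390 (iv D2390) (iv D1669) F5960 D1669
theorem F11801 : act 8 n2390 = n2390 := d42_2 F8392 D2390 (iv D2390)
def n2391 : Q := act 9 n1669
theorem D2391 : act 9 n1669 = n2391 := rfl
theorem F11802 : act 0 n2391 = n1841 := d8_1 D2391 (iv D1841) (iv F8389)
theorem F11803 : act 1 n2391 = n2391 := d16_1 D2391 (iv D2391) F8390
theorem F11804 : act 4 n2391 = n1672 := d34_1 D2391 (iv D1672) (iv F8391)
theorem F11805 : act 6 n2391 = n1670 := d41_1 D2391 (iv D1670) D1669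
def n2392 : Q := act 8 n1670
theorem D2392 : act 8 n1670 = n2392 := rfl
theorem F11806 : act 0 n2392 = n1842 := d7_1 D2392 (iv D1842) (iv F8393)
theorem F11807 : act 1 n2392 = n2392 := d15_1 D2392 (iv D2392) F8394
theorem F11808 : act 4 n2392 = n1673 := d33_1 D2392 (iv D1673) (iv F8395)
theorem F11809 : act 7 n2392 = n2392 := d42_1 D2392 (iv D2392) F8397
theorem F11810 : act 9 n2392 = n2392 := d44_2 D1670 D2392 (iv D2392) (iv D1670) F5961
def n2393 : Q := act 9 n1671
theorem D2393 : act 9 n1671 = n2393 := rfl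
theorem F11811 : act 0 n2393 = n1843 := d8_1 D2393 (iv D1843) (iv F8398)
theorem F11812 : act 1 n2393 = n2393 := d16_1 D2393 (iv D2393) F8399
theorem F11813 : act 3 n2393 = n2393 := d29_1 D2393 (iv D2393) F8400
theorem F11814 : act 5 n2393 = n2393 := d38_1 D2393 (iv D2393) F8401
theorem F11815 : act 6 n2393 = n2393 := d41_1 D2393 (iv D2393) F8402
theorem F11816 : act 7 n2393 = n1672 := d43_1 D2393 (iv D1672) D1671
def n2394 : Q := act 8 n1672
theorem D2394 : act 8 n1672 = n2394 := rfl
theorem F11817 : act 0 n2394 = n1844 := d7_1 D2394 (iv D1844) (iv F8404)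
theorem F11818 : act 1 n2394 = n2394 := d15_1 D2394 (iv D2394) F8405
theorem F11819 : act 3 n2394 = n2394 := d28_1 D2394 (iv D2394) F8406
theorem F11820 : act 6 n2394 = n1673 := d40_1 D2394 (iv D1673) (iv F8408)
theorem F11821 : act 9 n2394 = n2394 := d44_2 D1672 D2394 (iv D2394) (iv D1672) F5966
def n2395 : Q := act 1 n1674
theorem D2395 : act 1 n1674 = n2395 := rfl
theorem F11822 : act 2 n2395 = n2395 := d9_2 D1674 D2395 (iv D2395) (iv D1674) F5973
theorem F11823 : act 4 n2395 = n1721 := d11_2 (iv F8416) D2395 (iv D1721)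
theorem F11824 : act 7 n2395 = n2395 := d14_2 F8417 D2395 (iv D2395)
theorem F11825 : act 8 n2395 = n1683 := d15_2 (iv F8418) D2395 (iv D1683)
def n2396 : Q := act 6 n1674
theorem D2396 : act 6 n1674 = n2396 := rfl
theorem F11826 : act 0 n2396 = n1846 := d5_1 D2396 (iv D1846) (iv F8415)
theorem F11827 : act 2 n2396 = n1675 := d20_1 D2396 (iv D1675) D1674
theorem F11828 : act 4 n2396 = n1722 := d31_1 D2396 (iv D1722) (iv F8416)
theorem F11829 : act 8 n2396 = n1684 := d40_2 (iv F8418) D2396 (iv D1684)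
def n2397 : Q := act 9 n1674
theorem D2397 : act 9 n1674 = n2397 := rfl
theorem F11830 : act 0 n2397 = n1847 := d8_1 D2397 (iv D1847) (iv F8415)
theorem F11831 : act 2 n2397 = n1676 := d23_1 D2397 (iv D1676) D1674
theorem F11832 : act 4 n2397 = n1723 := d34_1 D2397 (iv D1723) (iv F8416)
theorem F11833 : act 7 n2397 = n2397 := d43_1 D2397 (iv D2397) F8417
def n2398 : Q := act 5 n1675
theorem D2398 : act 5 n1675 = n2398 := rfl
theorem F11834 : act 0 n2398 = n1848 := d4_1 D2398 (iv D1848) (iv F8419)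
theorem F11835 : act 1 n2398 = n2398 := d12_1 D2398 (iv D2398) F8420
theorem F11836 : act 3 n2398 = n1677 := d25_1 D2398 (iv D1677) (iv F8421)
def n2399 : Q := act 7 n1675
theorem D2399 : act 7 n1675 = n2399 := rfl
theorem F11837 : act 0 n2399 = n1849 := d6_1 D2399 (iv D1849) (iv F8419)
theorem F11838 : act 1 n2399 = n2399 := d14_1 D2399 (iv D2399) F8420
theorem F11839 : act 3 n2399 = n1678 := d27_1 D2399 (iv D1678) (iv F8421)
theorem F11840 : act 4 n2399 = n1725 := d32_1 D2399 (iv D1725) (iv F8422)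
theorem F11841 : act 6 n2399 = n2399 := d39_1 D2399 (iv D2399) (iv D1675) F5975 D1675
theorem F11842 : act 8 n2399 = n1687 := d42_2 (iv F8423) D2399 (iv D1687)
def n2400 : Q := act 9 n1675
theorem D2400 : act 9 n1675 = n2400 := rfl
theorem F11843 : act 0 n2400 = n1850 := d8_1 D2400 (iv D1850) (iv F8419)
theorem F11844 : act 1 n2400 = n2400 := d16_1 D2400 (iv D2400) F8420
theorem F11845 : act 3 n2400 = n1679 := d29_1 D2400 (iv D1679) (iv F8421)
theorem F11846 : act 4 n2400 = n1726 := d34_1 D2400 (iv D1726) (iv F8422)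
theorem F11847 : act 6 n2400 = n1676 := d41_1 D2400 (iv D1676) D1675
def n2401 : Q := act 8 n1676
theorem D2401 : act 8 n1676 = n2401 := rfl
theorem F11848 : act 0 n2401 = n1851 := d7_1 D2401 (iv D1851) (iv F8424)
theorem F11849 : act 1 n2401 = n2401 := d15_1 D2401 (iv D2401) F8425
theorem F11850 : act 3 n2401 = n1680 := d28_1 D2401 (iv D1680) (iv F8426)
theorem F11851 : act 4 n2401 = n1727 := d33_1 D2401 (iv D1727) (iv F8427)
theorem F11852 : act 7 n2401 = n2401 := d42_1 D2401 (iv D2401) F8428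
theorem F11853 : act 9 n2401 = n1689 := d44_2 D1676 D2401 (iv D1689) (iv D1176) (iv F5976)
def n2402 : Q := act 7 n1677
theorem D2402 : act 7 n1677 = n2402 := rfl
theorem F11854 : act 0 n2402 = n1852 := d6_1 D2402 (iv D1852) (iv F8429)
theorem F11855 : act 1 n2402 = n2402 := d14_1 D2402 (iv D2402) F8430
theorem F11856 : act 4 n2402 = n2402 := d32_1 D2402 (iv D2402) F8431
theorem F11857 : act 5 n2402 = n1678 := d36_1 D2402 (iv D1678) D1677
def n2403 : Q := act 8 n1677
theorem D2403 : act 8 n1677 = n2403 := rfl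
theorem F11858 : act 0 n2403 = n1853 := d7_1 D2403 (iv D1853) (iv F8429)
theorem F11859 : act 1 n2403 = n2403 := d15_1 D2403 (iv D2403) F8430
theorem F11860 : act 4 n2403 = n2403 := d33_1 D2403 (iv D2403) F8431
theorem F11861 : act 5 n2403 = n1691 := d37_1 D2403 (iv D1691) (iv D1177) (iv F5980) D1677
def n2404 : Q := act 9 n1677
theorem D2404 : act 9 n1677 = n2404 := rfl
theorem F11862 : act 0 n2404 = n1854 := d8_1 D2404 (iv D1854) (iv F8429)
theorem F11863 : act 1 n2404 = n2404 := d16_1 D2404 (iv D2404) F8430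
theorem F11864 : act 4 n2404 = n2404 := d34_1 D2404 (iv D2404) F8431
theorem F11865 : act 5 n2404 = n1679 := d38_1 D2404 (iv D1679) D1677
def n2405 : Q := act 9 n1678
theorem D2405 : act 9 n1678 = n2405 := rfl
theorem F11866 : act 0 n2405 = n1855 := d8_1 D2405 (iv D1855) (iv F8432)
theorem F11867 : act 1 n2405 = n2405 := d16_1 D2405 (iv D2405) F8433
theorem F11868 : act 4 n2405 = n1681 := d34_1 D2405 (iv D1681) (iv F8434)
theorem F11869 : act 6 n2405 = n2405 := d41_1 D2405 (iv D2405) F8435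
theorem F11870 : act 7 n2405 = n1679 := d43_1 D2405 (iv D1679) D1678
def n2406 : Q := act 8 n1679
theorem D2406 : act 8 n1679 = n2406 := rfl
theorem F11871 : act 0 n2406 = n1856 := d7_1 D2406 (iv D1856) (iv F8437)
theorem F11872 : act 1 n2406 = n2406 := d15_1 D2406 (iv D2406) F8438
theorem F11873 : act 4 n2406 = n1682 := d33_1 D2406 (iv D1682) (iv F8439)
theorem F11874 : act 6 n2406 = n1680 := d40_1 D2406 (iv D1680) (iv F8440)
theorem F11875 : act 9 n2406 = n1694 := d44_2 D1679 D2406 (iv D1694) (iv D1179) (iv F5980)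
def n2407 : Q := act 5 n1680
theorem D2407 : act 5 n1680 = n2407 := rfl
theorem F11876 : act 0 n2407 = n1857 := d4_1 D2407 (iv D1857) (iv F8441)
theorem F11877 : act 1 n2407 = n2407 := d12_1 D2407 (iv D2407) F8442
theorem F11878 : act 4 n2407 = n2407 := d30_1 D2407 (iv D2407) F8443 F5999 (iv F8443)
theorem F11879 : act 7 n2407 = n2407 := d36_2 F8444 D2407 (iv D2407)
theorem F11880 : act 9 n2407 = n1695 := d38_2 (iv F8445) D2407 (iv D1695)
def n2408 : Q := act 8 n1681
theorem D2408 : act 8 n1681 = n2408 := rfl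
theorem F11881 : act 0 n2408 = n1858 := d7_1 D2408 (iv D1858) (iv F8446)
theorem F11882 : act 1 n2408 = n2408 := d15_1 D2408 (iv D2408) F8447
theorem F11883 : act 3 n2408 = n1733 := d28_1 D2408 (iv D1733) (iv F8448)
theorem F11884 : act 6 n2408 = n2408 := d40_1 D2408 (iv D2408) F8450
theorem F11885 : act 7 n2408 = n1682 := d42_1 D2408 (iv D1682) (iv F8451)
theorem F11886 : act 9 n2408 = n1696 := d44_2 D1681 D2408 (iv D1696) (iv D1181) (iv F5990)
def n2409 : Q := act 5 n1682
theorem D2409 : act 5 n1682 = n2409 := rfl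
theorem F11887 : act 0 n2409 = n1859 := d4_1 D2409 (iv D1859) (iv F8452)
theorem F11888 : act 1 n2409 = n2409 := d12_1 D2409 (iv D2409) F8453
theorem F11889 : act 3 n2409 = n1734 := d25_1 D2409 (iv D1734) (iv F8454)
theorem F11890 : act 6 n2409 = n2409 := d35_2 (iv F8455) D2409 (iv D2409) F8455 F5999
theorem F11891 : act 8 n2409 = n2409 := d37_2 D1682 D2409 (iv D2409) (iv D1682) F5994
theorem F11892 : act 9 n2409 = n1697 := d38_2 (iv F8456) D2409 (iv D1697)
def n2410 : Q := act 0 n1683
theorem D2410 : act 0 n1683 = n2410 := rfl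
theorem F11893 : act 1 n2410 = n1860 := d0_2 D1683 D2410 (iv D1860) (iv D1295) (iv F6002)
theorem F11894 : act 2 n2410 = n2410 := d1_2 F8457 D2410 (iv D2410)
theorem F11895 : act 4 n2410 = n1735 := d3_2 (iv F8458) D2410 (iv D1735)
theorem F11896 : act 5 n2410 = n2410 := d4_2 F8459 D2410 (iv D2410)
theorem F11897 : act 7 n2410 = n2410 := d6_2 F8460 D2410 (iv D2410)
def n2411 : Q := act 6 n1683
theorem D2411 : act 6 n1683 = n2411 := rfl
theorem F11898 : act 1 n2411 = n1684 := d13_1 D2411 (iv D1684) D1683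
theorem F11899 : act 2 n2411 = n2411 := d20_1 D2411 (iv D2411) F8457
theorem F11900 : act 4 n2411 = n1736 := d31_1 D2411 (iv D1736) (iv F8458)
def n2412 : Q := act 9 n1683
theorem D2412 : act 9 n1683 = n2412 := rfl
theorem F11901 : act 1 n2412 = n1685 := d16_1 D2412 (iv D1685) D1683
theorem F11902 : act 2 n2412 = n2412 := d23_1 D2412 (iv D2412) F8457
theorem F11903 : act 4 n2412 = n1737 := d34_1 D2412 (iv D1737) (iv F8458)
theorem F11904 : act 5 n2412 = n2412 := d38_1 D2412 (iv D2412) F8459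
theorem F11905 : act 7 n2412 = n2412 := d43_1 D2412 (iv D2412) F8460
def n2413 : Q := act 5 n1684
theorem D2413 : act 5 n1684 = n2413 := rfl
theorem F11906 : act 0 n2413 = n1863 := d4_1 D2413 (iv D1863) (iv F8461)
theorem F11907 : act 2 n2413 = n1686 := d19_1 D2413 (iv D1686) (iv F8462)
theorem F11908 : act 4 n2413 = n2413 := d30_1 D2413 (iv D2413) F8463 F6196 (iv F8463)
theorem F11909 : act 6 n2413 = n2413 := d35_2 D1684 D2413 (iv D2413) (iv D1684) F6004
def n2414 : Q := act 7 n1684
theorem D2414 : act 7 n1684 = n2414 := rfl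
theorem F11910 : act 0 n2414 = n1864 := d6_1 D2414 (iv D1864) (iv F8461)
theorem F11911 : act 2 n2414 = n1687 := d21_1 D2414 (iv D1687) (iv F8462)
theorem F11912 : act 4 n2414 = n1738 := d32_1 D2414 (iv D1738) (iv F8463)
theorem F11913 : act 6 n2414 = n2414 := d39_1 D2414 (iv D2414) (iv D1684) F6005 D1684
def n2415 : Q := act 9 n1684
theorem D2415 : act 9 n1684 = n2415 := rfl
theorem F11914 : act 0 n2415 = n1865 := d8_1 D2415 (iv D1865) (iv F8461)
theorem F11915 : act 2 n2415 = n1688 := d23_1 D2415 (iv D1688) (iv F8462)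
theorem F11916 : act 4 n2415 = n1739 := d34_1 D2415 (iv D1739) (iv F8463)
theorem F11917 : act 6 n2415 = n1685 := d41_1 D2415 (iv D1685) D1684
def n2416 : Q := act 8 n1685
theorem D2416 : act 8 n1685 = n2416 := rfl
theorem F11918 : act 0 n2416 = n1866 := d7_1 D2416 (iv D1866) (iv F8464)
theorem F11919 : act 2 n2416 = n1689 := d22_1 D2416 (iv D1689) (iv F8465)
theorem F11920 : act 4 n2416 = n1740 := d33_1 D2416 (iv D1740) (iv F8466)
theorem F11921 : act 7 n2416 = n2416 := d42_1 D2416 (iv D2416) F8468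
def n2417 : Q := act 7 n1686
theorem D2417 : act 7 n1686 = n2417 := rfl
theorem F11924 : act 3 n2417 = n1690 := d27_1 D2417 (iv D1690) (iv F8471)
theorem F11926 : act 5 n2417 = n1687 := d36_1 D2417 (iv D1687) D1686
def n2418 : Q := act 8 n1686
theorem D2418 : act 8 n1686 = n2418 := rfl
theorem F11927 : act 0 n2418 = n1868 := d7_1 D2418 (iv D1868) (iv F8469)
theorem F11928 : act 1 n2418 = n2418 := d15_1 D2418 (iv D2418) F8470
theorem F11929 : act 3 n2418 = n1691 := d28_1 D2418 (iv D1691) (iv F8471)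
theorem F11930 : act 4 n2418 = n2418 := d33_1 D2418 (iv D2418) F8472
theorem F11931 : act 6 n2418 = n2418 := d40_1 D2418 (iv D2418) F8473
def n2419 : Q := act 9 n1686
theorem D2419 : act 9 n1686 = n2419 := rfl
theorem F11932 : act 0 n2419 = n1869 := d8_1 D2419 (iv D1869) (iv F8469)
theorem F11933 : act 1 n2419 = n2419 := d16_1 D2419 (iv D2419) F8470
theorem F11934 : act 3 n2419 = n1692 := d29_1 D2419 (iv D1692) (iv F8471)
theorem F11935 : act 4 n2419 = n2419 := d34_1 D2419 (iv D2419) F8472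
theorem F11936 : act 5 n2419 = n1688 := d38_1 D2419 (iv D1688) D1686
theorem F11937 : act 6 n2419 = n2419 := d41_1 D2419 (iv D2419) F8473
def n2420 : Q := act 9 n1687
theorem D2420 : act 9 n1687 = n2420 := rfl
theorem F11938 : act 0 n2420 = n1870 := d8_1 D2420 (iv D1870) (iv F8474)
theorem F11939 : act 1 n2420 = n2420 := d16_1 D2420 (iv D2420) F8475
theorem F11940 : act 3 n2420 = n1693 := d29_1 D2420 (iv D1693) (iv F8476)
theorem F11941 : act 4 n2420 = n1741 := d34_1 D2420 (iv D1741) (iv F8477)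
theorem F11942 : act 6 n2420 = n2420 := d41_1 D2420 (iv D2420) F8478
theorem F11943 : act 7 n2420 = n1688 := d43_1 D2420 (iv D1688) D1687
def n2421 : Q := act 8 n1688
theorem D2421 : act 8 n1688 = n2421 := rfl
theorem F11944 : act 0 n2421 = n1871 := d7_1 D2421 (iv D1871) (iv F8479)
theorem F11945 : act 1 n2421 = n2421 := d15_1 D2421 (iv D2421) F8480
theorem F11946 : act 3 n2421 = n1694 := d28_1 D2421 (iv D1694) (iv F8481)
theorem F11947 : act 4 n2421 = n1742 := d33_1 D2421 (iv D1742) (iv F8482)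
theorem F11948 : act 6 n2421 = n1689 := d40_1 D2421 (iv D1689) (iv F8483)
def n2422 : Q := act 5 n1689
theorem D2422 : act 5 n1689 = n2422 := rfl
theorem F11949 : act 0 n2422 = n1872 := d4_1 D2422 (iv D1872) (iv F8484)
theorem F11950 : act 1 n2422 = n2422 := d12_1 D2422 (iv D2422) F8485
theorem F11951 : act 3 n2422 = n1695 := d25_1 D2422 (iv D1695) (iv F8486)
theorem F11952 : act 7 n2422 = n2422 := d36_2 F8488 D2422 (iv D2422)
theorem F11953 : act 8 n2422 = n2422 := d37_2 D1689 D2422 (iv D2422) (iv D1689) F6014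
def n2423 : Q := act 6 n1690
theorem D2423 : act 6 n1690 = n2423 := rfl
theorem F11956 : act 4 n2423 = n1698 := d31_1 D2423 (iv D1698) (iv F8491)
def n2424 : Q := act 8 n1690
theorem D2424 : act 8 n1690 = n2424 := rfl
theorem F11962 : act 7 n2424 = n1691 := d42_1 D2424 (iv D1691) D1690
def n2425 : Q := act 9 n1690
theorem D2425 : act 9 n1690 = n2425 := rfl
theorem F11966 : act 5 n2425 = n1693 := d38_1 D2425 (iv D1693) (iv F8492)
theorem F11967 : act 7 n2425 = n1692 := d43_1 D2425 (iv D1692) D1690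
def n2426 : Q := act 9 n1691
theorem D2426 : act 9 n1691 = n2426 := rfl
theorem F11968 : act 0 n2426 = n1876 := d8_1 D2426 (iv D1876) (iv F8493)
theorem F11969 : act 1 n2426 = n2426 := d16_1 D2426 (iv D2426) F8494
theorem F11970 : act 4 n2426 = n1701 := d34_1 D2426 (iv D1701) (iv F8495)
theorem F11971 : act 6 n2426 = n2426 := d41_1 D2426 (iv D2426) F8496
def n2427 : Q := act 8 n1692
theorem D2427 : act 8 n1692 = n2427 := rfl
theorem F11972 : act 0 n2427 = n1877 := d7_1 D2427 (iv D1877) (iv F8497)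
theorem F11973 : act 1 n2427 = n2427 := d15_1 D2427 (iv D2427) F8498
theorem F11974 : act 4 n2427 = n1702 := d33_1 D2427 (iv D1702) (iv F8499)
theorem F11975 : act 6 n2427 = n2427 := d40_1 D2427 (iv D2427) F8501
def n2428 : Q := act 8 n1693
theorem D2428 : act 8 n1693 = n2428 := rfl
theorem F11976 : act 0 n2428 = n1878 := d7_1 D2428 (iv D1878) (iv F8502)
theorem F11977 : act 1 n2428 = n2428 := d15_1 D2428 (iv D2428) F8503
theorem F11978 : act 4 n2428 = n1696 := d33_1 D2428 (iv D1696) (iv F8504)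
theorem F11979 : act 6 n2428 = n2428 := d40_1 D2428 (iv D2428) F8505
theorem F11980 : act 7 n2428 = n1694 := d42_1 D2428 (iv D1694) (iv F8506)
def n2429 : Q := act 5 n1694
theorem D2429 : act 5 n1694 = n2429 := rfl
theorem F11981 : act 0 n2429 = n1879 := d4_1 D2429 (iv D1879) (iv F8507)
theorem F11982 : act 1 n2429 = n2429 := d12_1 D2429 (iv D2429) F8508
def n2430 : Q := act 6 n1695
theorem D2430 : act 6 n1695 = n2430 := rfl
theorem F11983 : act 0 n2430 = n1880 := d5_1 D2430 (iv D1880) (iv F8511)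
theorem F11984 : act 1 n2430 = n2430 := d13_1 D2430 (iv D2430) F8512
theorem F11985 : act 4 n2430 = n2430 := d31_1 D2430 (iv D2430) F8513
theorem F11986 : act 8 n2430 = n2430 := d40_2 F8515 D2430 (iv D2430)
def n2431 : Q := act 5 n1696
theorem D2431 : act 5 n1696 = n2431 := rfl
theorem F11987 : act 0 n2431 = n1881 := d4_1 D2431 (iv D1881) (iv F8516)
theorem F11988 : act 1 n2431 = n2431 := d12_1 D2431 (iv D2431) F8517
theorem F11989 : act 3 n2431 = n1747 := d25_1 D2431 (iv D1747) (iv F8518)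
theorem F11990 : act 7 n2431 = n1697 := d36_2 (iv F8520) D2431 (iv D1697)
theorem F11991 : act 8 n2431 = n1706 := d37_2 D1696 D2431 (iv D1706) (iv D1189) (iv F6035)
def n2432 : Q := act 4 n1697
theorem D2432 : act 4 n1697 = n2432 := rfl
theorem F11992 : act 0 n2432 = n1882 := d3_1 D2432 (iv D1882) (iv F8521)
theorem F11993 : act 1 n2432 = n2432 := d11_1 D2432 (iv D2432) F8522
theorem F11994 : act 6 n2432 = n2432 := d31_2 F8524 D2432 (iv D2432)
theorem F11995 : act 8 n2432 = n1707 := d33_2 (iv F8525) D2432 (iv D1707)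
def n2433 : Q := act 8 n1698
theorem D2433 : act 8 n1698 = n2433 := rfl
theorem F11999 : act 6 n2433 = n1699 := d40_1 D2433 (iv D1699) D1698
def n2437 : Q := act 8 n1701
theorem D2437 : act 8 n1701 = n2437 := rfl
theorem F12016 : act 0 n2437 = n1887 := d7_1 D2437 (iv D1887) (iv F8541)
theorem F12017 : act 1 n2437 = n2437 := d15_1 D2437 (iv D2437) F8542
theorem F12018 : act 3 n2437 = n2437 := d28_1 D2437 (iv D2437) F8543
theorem F12019 : act 6 n2437 = n2437 := d40_1 D2437 (iv D2437) F8545
theorem F12020 : act 9 n2437 = n1702 := d44_2 D1701 D2437 (iv D1702) (iv D1185) D1184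
def n2438 : Q := act 5 n1702
theorem D2438 : act 5 n1702 = n2438 := rfl
theorem F12021 : act 0 n2438 = n1888 := d4_1 D2438 (iv D1888) (iv F8546)
theorem F12022 : act 1 n2438 = n2438 := d12_1 D2438 (iv D2438) F8547
theorem F12023 : act 3 n2438 = n2438 := d25_1 D2438 (iv D2438) F8548
theorem F12024 : act 8 n2438 = n1704 := d37_2 D1702 D2438 (iv D1704) (iv D1187) (iv F6054)
def n2439 : Q := act 5 n1703
theorem D2439 : act 5 n1703 = n2439 := rfl
theorem F12028 : act 7 n2439 = n1704 := d36_2 (iv F8555) D2439 (iv D1704)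
def n2440 : Q := act 4 n1704
theorem D2440 : act 4 n1704 = n2440 := rfl
theorem F12030 : act 0 n2440 = n1890 := d3_1 D2440 (iv D1890) (iv F8557)
theorem F12031 : act 1 n2440 = n2440 := d11_1 D2440 (iv D2440) F8558
theorem F12032 : act 5 n2440 = n1707 := d30_2 D1704 D2440 (iv D1707) (iv D1190) (iv F6065)
theorem F12033 : act 9 n2440 = n2440 := d34_2 F8560 D2440 (iv D2440)
def n2441 : Q := act 6 n1704
theorem D2441 : act 6 n1704 = n2441 := rfl
theorem F12034 : act 0 n2441 = n1891 := d5_1 D2441 (iv D1891) (iv F8557)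
theorem F12035 : act 1 n2441 = n2441 := d13_1 D2441 (iv D2441) F8558
theorem F12036 : act 3 n2441 = n2441 := d26_1 D2441 (iv D2441) F8559
theorem F12037 : act 5 n2441 = n1705 := d35_1 D2441 (iv D1705) (iv D1188) (iv F6066) D1704
theorem F12038 : act 9 n2441 = n2441 := d41_2 F8560 D2441 (iv D2441)
def n2442 : Q := act 7 n1705
theorem D2442 : act 7 n1705 = n2442 := rfl
def n2443 : Q := act 4 n1706
theorem D2443 : act 4 n1706 = n2443 := rfl
theorem F12046 : act 0 n2443 = n1893 := d3_1 D2443 (iv D1893) (iv F8567)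
theorem F12047 : act 1 n2443 = n2443 := d11_1 D2443 (iv D2443) F8568
theorem F12048 : act 7 n2443 = n1707 := d32_2 (iv F8570) D2443 (iv D1707)
theorem F12049 : act 9 n2443 = n2443 := d34_2 F8571 D2443 (iv D2443)
def n2444 : Q := act 6 n1706
theorem D2444 : act 6 n1706 = n2444 := rfl
theorem F12050 : act 0 n2444 = n1894 := d5_1 D2444 (iv D1894) (iv F8567)
theorem F12051 : act 1 n2444 = n2444 := d13_1 D2444 (iv D2444) F8568
theorem F12052 : act 3 n2444 = n1750 := d26_1 D2444 (iv D1750) (iv F8569)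
theorem F12053 : act 5 n2444 = n1719 := d35_1 D2444 (iv D1719) (iv D1199) (iv F6078) D1706
theorem F12054 : act 7 n2444 = n2444 := d39_2 (iv F8570) D2444 (iv D2444) F8570 F6084
theorem F12055 : act 9 n2444 = n2444 := d41_2 F8571 D2444 (iv D2444)
def n2445 : Q := act 3 n1707
theorem D2445 : act 3 n1707 = n2445 := rfl
theorem F12056 : act 0 n2445 = n1895 := d2_1 D2445 (iv D1895) (iv F8572)
theorem F12057 : act 1 n2445 = n2445 := d10_1 D2445 (iv D2445) F8573
theorem F12058 : act 4 n2445 = n1751 := d24_2 D1707 D2445 (iv D1751) (iv D1222) (iv F6083)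
theorem F12059 : act 6 n2445 = n2445 := d26_2 F8574 D2445 (iv D2445)
theorem F12060 : act 9 n2445 = n2445 := d29_2 F8575 D2445 (iv D2445)
def n2446 : Q := act 5 n1708
theorem D2446 : act 5 n1708 = n2446 := rfl
def n2460 : Q := act 6 n1718
theorem D2460 : act 6 n1718 = n2460 := rfl
theorem F12135 : act 4 n2460 = n1719 := d31_1 D2460 (iv D1719) D1718
def n2462 : Q := act 0 n1721
theorem D2462 : act 0 n1721 = n2462 := rfl
theorem F12144 : act 1 n2462 = n1912 := d0_2 D1721 D2462 (iv D1912) (iv D1333) (iv F6141)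
theorem F12145 : act 2 n2462 = n2462 := d1_2 F8646 D2462 (iv D2462)
theorem F12146 : act 3 n2462 = n2462 := d2_2 F8647 D2462 (iv D2462)
theorem F12147 : act 5 n2462 = n2462 := d4_2 F8648 D2462 (iv D2462)
theorem F12148 : act 7 n2462 = n2462 := d6_2 F8649 D2462 (iv D2462)
theorem F12149 : act 8 n2462 = n1735 := d7_2 (iv F8650) D2462 (iv D1735)
def n2463 : Q := act 6 n1721
theorem D2463 : act 6 n1721 = n2463 := rfl
theorem F12150 : act 1 n2463 = n1722 := d13_1 D2463 (iv D1722) D1721
theorem F12151 : act 2 n2463 = n2463 := d20_1 D2463 (iv D2463) F8646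
theorem F12152 : act 3 n2463 = n2463 := d26_1 D2463 (iv D2463) F8647
theorem F12153 : act 8 n2463 = n1736 := d40_2 (iv F8650) D2463 (iv D1736)
def n2464 : Q := act 9 n1721
theorem D2464 : act 9 n1721 = n2464 := rfl
theorem F12154 : act 1 n2464 = n1723 := d16_1 D2464 (iv D1723) D1721
theorem F12155 : act 2 n2464 = n2464 := d23_1 D2464 (iv D2464) F8646
theorem F12156 : act 3 n2464 = n2464 := d29_1 D2464 (iv D2464) F8647
theorem F12157 : act 5 n2464 = n2464 := d38_1 D2464 (iv D2464) F8648
theorem F12158 : act 7 n2464 = n2464 := d43_1 D2464 (iv D2464) F8649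
def n2465 : Q := act 5 n1722
theorem D2465 : act 5 n1722 = n2465 := rfl
theorem F12159 : act 0 n2465 = n1915 := d4_1 D2465 (iv D1915) (iv F8651)
theorem F12160 : act 2 n2465 = n1724 := d19_1 D2465 (iv D1724) (iv F8652)
theorem F12161 : act 3 n2465 = n2465 := d25_1 D2465 (iv D2465) F8653
theorem F12162 : act 6 n2465 = n2465 := d35_2 D1722 D2465 (iv D2465) (iv D1722) F6143
theorem F12163 : act 8 n2465 = n2465 := d37_2 (iv F8654) D2465 (iv D2465) F8654 F6196
def n2466 : Q := act 7 n1722
theorem D2466 : act 7 n1722 = n2466 := rfl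
theorem F12164 : act 0 n2466 = n1916 := d6_1 D2466 (iv D1916) (iv F8651)
theorem F12165 : act 2 n2466 = n1725 := d21_1 D2466 (iv D1725) (iv F8652)
theorem F12166 : act 3 n2466 = n2466 := d27_1 D2466 (iv D2466) F8653
theorem F12167 : act 6 n2466 = n2466 := d39_1 D2466 (iv D2466) (iv D1722) F6144 D1722
theorem F12168 : act 8 n2466 = n1738 := d42_2 (iv F8654) D2466 (iv D1738)
def n2467 : Q := act 9 n1722
theorem D2467 : act 9 n1722 = n2467 := rfl
theorem F12169 : act 0 n2467 = n1917 := d8_1 D2467 (iv D1917) (iv F8651)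
theorem F12170 : act 2 n2467 = n1726 := d23_1 D2467 (iv D1726) (iv F8652)
theorem F12171 : act 3 n2467 = n2467 := d29_1 D2467 (iv D2467) F8653
theorem F12172 : act 6 n2467 = n1723 := d41_1 D2467 (iv D1723) D1722
def n2468 : Q := act 8 n1723
theorem D2468 : act 8 n1723 = n2468 := rfl
theorem F12173 : act 0 n2468 = n1918 := d7_1 D2468 (iv D1918) (iv F8655)
theorem F12174 : act 2 n2468 = n1727 := d22_1 D2468 (iv D1727) (iv F8656)
theorem F12175 : act 3 n2468 = n2468 := d28_1 D2468 (iv D2468) F8657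
theorem F12176 : act 7 n2468 = n2468 := d42_1 D2468 (iv D2468) F8659
theorem F12177 : act 9 n2468 = n1740 := d44_2 D1723 D2468 (iv D1740) (iv D1212) (iv F6145)
def n2469 : Q := act 4 n1724
theorem D2469 : act 4 n1724 = n2469 := rfl
theorem F12178 : act 0 n2469 = n1919 := d3_1 D2469 (iv D1919) (iv F8660)
theorem F12179 : act 1 n2469 = n2469 := d11_1 D2469 (iv D2469) F8661
theorem F12180 : act 3 n2469 = n2469 := d24_1 D2469 (iv D2469) F8662 F6158 (iv F8662)
theorem F12181 : act 6 n2469 = n2469 := d31_2 F8663 D2469 (iv D2469)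
theorem F12182 : act 8 n2469 = n2469 := d33_2 F8664 D2469 (iv D2469)
def n2470 : Q := act 7 n1724
theorem D2470 : act 7 n1724 = n2470 := rfl
theorem F12183 : act 0 n2470 = n1920 := d6_1 D2470 (iv D1920) (iv F8660)
theorem F12184 : act 1 n2470 = n2470 := d14_1 D2470 (iv D2470) F8661
theorem F12185 : act 3 n2470 = n1728 := d27_1 D2470 (iv D1728) (iv F8662)
theorem F12186 : act 5 n2470 = n1725 := d36_1 D2470 (iv D1725) D1724
theorem F12187 : act 8 n2470 = n2470 := d42_2 F8664 D2470 (iv D2470)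
def n2471 : Q := act 9 n1724
theorem D2471 : act 9 n1724 = n2471 := rfl
theorem F12188 : act 0 n2471 = n1921 := d8_1 D2471 (iv D1921) (iv F8660)
theorem F12189 : act 1 n2471 = n2471 := d16_1 D2471 (iv D2471) F8661
theorem F12190 : act 3 n2471 = n1729 := d29_1 D2471 (iv D1729) (iv F8662)
theorem F12191 : act 5 n2471 = n1726 := d38_1 D2471 (iv D1726) D1724
theorem F12192 : act 6 n2471 = n2471 := d41_1 D2471 (iv D2471) F8663
def n2472 : Q := act 9 n1725
theorem D2472 : act 9 n1725 = n2472 := rfl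
theorem F12193 : act 0 n2472 = n1922 := d8_1 D2472 (iv D1922) (iv F8665)
theorem F12194 : act 1 n2472 = n2472 := d16_1 D2472 (iv D2472) F8666
theorem F12195 : act 3 n2472 = n1730 := d29_1 D2472 (iv D1730) (iv F8667)
theorem F12196 : act 6 n2472 = n2472 := d41_1 D2472 (iv D2472) F8668
theorem F12197 : act 7 n2472 = n1726 := d43_1 D2472 (iv D1726) D1725
def n2473 : Q := act 8 n1726
theorem D2473 : act 8 n1726 = n2473 := rfl
theorem F12198 : act 0 n2473 = n1923 := d7_1 D2473 (iv D1923) (iv F8670)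
theorem F12199 : act 1 n2473 = n2473 := d15_1 D2473 (iv D2473) F8671
theorem F12200 : act 3 n2473 = n1731 := d28_1 D2473 (iv D1731) (iv F8672)
theorem F12201 : act 6 n2473 = n1727 := d40_1 D2473 (iv D1727) (iv F8673)
theorem F12202 : act 9 n2473 = n1742 := d44_2 D1726 D2473 (iv D1742) (iv D1214) (iv F6149)
def n2474 : Q := act 5 n1727
theorem D2474 : act 5 n1727 = n2474 := rfl
theorem F12203 : act 0 n2474 = n1924 := d4_1 D2474 (iv D1924) (iv F8674)
theorem F12204 : act 1 n2474 = n2474 := d12_1 D2474 (iv D2474) F8675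
theorem F12205 : act 3 n2474 = n1732 := d25_1 D2474 (iv D1732) (iv F8676)
theorem F12206 : act 7 n2474 = n2474 := d36_2 F8677 D2474 (iv D2474)
theorem F12207 : act 8 n2474 = n2474 := d37_2 D1727 D2474 (iv D2474) (iv D1727) F6153
theorem F12208 : act 9 n2474 = n1743 := d38_2 (iv F8678) D2474 (iv D1743)
def n2475 : Q := act 6 n1728
theorem D2475 : act 6 n1728 = n2475 := rfl
theorem F12209 : act 0 n2475 = n1925 := d5_1 D2475 (iv D1925) (iv F8679)
theorem F12210 : act 1 n2475 = n2475 := d13_1 D2475 (iv D2475) F8680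
theorem F12211 : act 2 n2475 = n2475 := d20_1 D2475 (iv D2475) F8681
theorem F12212 : act 4 n2475 = n2475 := d31_1 D2475 (iv D2475) F8682
theorem F12213 : act 5 n2475 = n2475 := d35_1 D2475 (iv D2475) F8683 F6165 (iv F8683)
theorem F12214 : act 7 n2475 = n2475 := d39_2 D1728 D2475 (iv D2475) (iv D1728) F6159
theorem F12215 : act 8 n2475 = n2475 := d40_2 F8684 D2475 (iv D2475)
def n2476 : Q := act 9 n1728
theorem D2476 : act 9 n1728 = n2476 := rfl
theorem F12216 : act 0 n2476 = n1926 := d8_1 D2476 (iv D1926) (iv F8679)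
theorem F12217 : act 1 n2476 = n2476 := d16_1 D2476 (iv D2476) F8680
theorem F12218 : act 2 n2476 = n2476 := d23_1 D2476 (iv D2476) F8681
theorem F12219 : act 4 n2476 = n2476 := d34_1 D2476 (iv D2476) F8682
theorem F12220 : act 5 n2476 = n1730 := d38_1 D2476 (iv D1730) (iv F8683)
theorem F12221 : act 7 n2476 = n1729 := d43_1 D2476 (iv D1729) D1728
def n2477 : Q := act 8 n1729
theorem D2477 : act 8 n1729 = n2477 := rfl
theorem F12222 : act 0 n2477 = n1927 := d7_1 D2477 (iv D1927) (iv F8685)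
theorem F12223 : act 1 n2477 = n2477 := d15_1 D2477 (iv D2477) F8686
theorem F12224 : act 2 n2477 = n2477 := d22_1 D2477 (iv D2477) F8687
theorem F12225 : act 4 n2477 = n2477 := d33_1 D2477 (iv D2477) F8688
theorem F12226 : act 6 n2477 = n2477 := d40_1 D2477 (iv D2477) F8690
theorem F12227 : act 9 n2477 = n2477 := d44_2 D1729 D2477 (iv D2477) (iv D1729) F6160
def n2478 : Q := act 8 n1730
theorem D2478 : act 8 n1730 = n2478 := rfl
theorem F12228 : act 0 n2478 = n1928 := d7_1 D2478 (iv D1928) (iv F8691)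
theorem F12229 : act 1 n2478 = n2478 := d15_1 D2478 (iv D2478) F8692
theorem F12230 : act 2 n2478 = n2478 := d22_1 D2478 (iv D2478) F8693
theorem F12231 : act 4 n2478 = n1733 := d33_1 D2478 (iv D1733) (iv F8694)
theorem F12232 : act 6 n2478 = n2478 := d40_1 D2478 (iv D2478) F8695
theorem F12233 : act 7 n2478 = n1731 := d42_1 D2478 (iv D1731) (iv F8696)
theorem F12234 : act 9 n2478 = n1744 := d44_2 D1730 D2478 (iv D1744) (iv D1216) (iv F6166)
def n2479 : Q := act 5 n1731
theorem D2479 : act 5 n1731 = n2479 := rfl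
theorem F12235 : act 0 n2479 = n1929 := d4_1 D2479 (iv D1929) (iv F8697)
theorem F12236 : act 1 n2479 = n2479 := d12_1 D2479 (iv D2479) F8698
theorem F12237 : act 2 n2479 = n2479 := d19_1 D2479 (iv D2479) F8699
theorem F12238 : act 9 n2479 = n1745 := d38_2 (iv F8702) D2479 (iv D1745)
def n2480 : Q := act 6 n1732
theorem D2480 : act 6 n1732 = n2480 := rfl
theorem F12239 : act 0 n2480 = n1930 := d5_1 D2480 (iv D1930) (iv F8703)
theorem F12240 : act 1 n2480 = n2480 := d13_1 D2480 (iv D2480) F8704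
theorem F12241 : act 2 n2480 = n2480 := d20_1 D2480 (iv D2480) F8705
theorem F12242 : act 4 n2480 = n2480 := d31_1 D2480 (iv D2480) F8706
theorem F12243 : act 8 n2480 = n2480 := d40_2 F8708 D2480 (iv D2480)
theorem F12244 : act 9 n2480 = n1746 := d41_2 (iv F8709) D2480 (iv D1746)
def n2481 : Q := act 5 n1733
theorem D2481 : act 5 n1733 = n2481 := rfl
theorem F12245 : act 0 n2481 = n1931 := d4_1 D2481 (iv D1931) (iv F8710)
theorem F12246 : act 1 n2481 = n2481 := d12_1 D2481 (iv D2481) F8711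
theorem F12247 : act 2 n2481 = n2481 := d19_1 D2481 (iv D2481) F8712
theorem F12248 : act 7 n2481 = n1734 := d36_2 (iv F8714) D2481 (iv D1734)
theorem F12249 : act 8 n2481 = n2481 := d37_2 D1733 D2481 (iv D2481) (iv D1733) F6181
theorem F12250 : act 9 n2481 = n1747 := d38_2 (iv F8715) D2481 (iv D1747)
def n2482 : Q := act 4 n1734
theorem D2482 : act 4 n1734 = n2482 := rfl
theorem F12251 : act 0 n2482 = n1932 := d3_1 D2482 (iv D1932) (iv F8716)
theorem F12252 : act 1 n2482 = n2482 := d11_1 D2482 (iv D2482) F8717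
theorem F12253 : act 2 n2482 = n2482 := d18_1 D2482 (iv D2482) F8718
theorem F12254 : act 6 n2482 = n2482 := d31_2 F8719 D2482 (iv D2482)
theorem F12255 : act 8 n2482 = n2482 := d33_2 F8720 D2482 (iv D2482)
theorem F12256 : act 9 n2482 = n1748 := d34_2 (iv F8721) D2482 (iv D1748)
def n2483 : Q := act 6 n1735
theorem D2483 : act 6 n1735 = n2483 := rfl
theorem F12257 : act 0 n2483 = n1736 := d5_1 D2483 (iv D1736) D1735
theorem F12258 : act 1 n2483 = n1933 := d13_1 D2483 (iv D1933) (iv F8722)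
theorem F12259 : act 2 n2483 = n2483 := d20_1 D2483 (iv D2483) F8723
theorem F12260 : act 3 n2483 = n2483 := d26_1 D2483 (iv D2483) F8724
theorem F12261 : act 5 n2483 = n2483 := d35_1 D2483 (iv D2483) F8725 F6278 (iv F8725)
def n2484 : Q := act 9 n1735
theorem D2484 : act 9 n1735 = n2484 := rfl
theorem F12262 : act 0 n2484 = n1737 := d8_1 D2484 (iv D1737) D1735
theorem F12263 : act 1 n2484 = n1934 := d16_1 D2484 (iv D1934) (iv F8722)
theorem F12264 : act 2 n2484 = n2484 := d23_1 D2484 (iv D2484) F8723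
theorem F12265 : act 3 n2484 = n2484 := d29_1 D2484 (iv D2484) F8724
theorem F12266 : act 5 n2484 = n1755 := d38_1 D2484 (iv D1755) (iv F8725)
theorem F12267 : act 7 n2484 = n2484 := d43_1 D2484 (iv D2484) F8726
def n2485 : Q := act 7 n1736
theorem D2485 : act 7 n1736 = n2485 := rfl
theorem F12268 : act 1 n2485 = n1738 := d14_1 D2485 (iv D1738) (iv F8727)
theorem F12269 : act 2 n2485 = n2485 := d21_1 D2485 (iv D2485) F8728
theorem F12270 : act 3 n2485 = n2485 := d27_1 D2485 (iv D2485) F8729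
theorem F12271 : act 5 n2485 = n2485 := d36_1 D2485 (iv D2485) F8730
theorem F12272 : act 6 n2485 = n2485 := d39_1 D2485 (iv D2485) (iv D1736) F6192 D1736
def n2486 : Q := act 9 n1736
theorem D2486 : act 9 n1736 = n2486 := rfl
theorem F12273 : act 1 n2486 = n1739 := d16_1 D2486 (iv D1739) (iv F8727)
theorem F12274 : act 2 n2486 = n2486 := d23_1 D2486 (iv D2486) F8728
theorem F12275 : act 3 n2486 = n2486 := d29_1 D2486 (iv D2486) F8729
theorem F12276 : act 5 n2486 = n2486 := d38_1 D2486 (iv D2486) F8730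
theorem F12277 : act 6 n2486 = n1737 := d41_1 D2486 (iv D1737) D1736
def n2487 : Q := act 8 n1737
theorem D2487 : act 8 n1737 = n2487 := rfl
theorem F12278 : act 1 n2487 = n1740 := d15_1 D2487 (iv D1740) (iv F8731)
theorem F12279 : act 2 n2487 = n2487 := d22_1 D2487 (iv D2487) F8732
theorem F12280 : act 3 n2487 = n2487 := d28_1 D2487 (iv D2487) F8733
theorem F12281 : act 7 n2487 = n2487 := d42_1 D2487 (iv D2487) F8735
def n2488 : Q := act 9 n1738
theorem D2488 : act 9 n1738 = n2488 := rfl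
theorem F12282 : act 0 n2488 = n1938 := d8_1 D2488 (iv D1938) (iv F8736)
theorem F12283 : act 2 n2488 = n1741 := d23_1 D2488 (iv D1741) (iv F8737)
theorem F12284 : act 3 n2488 = n2488 := d29_1 D2488 (iv D2488) F8738
theorem F12285 : act 5 n2488 = n2488 := d38_1 D2488 (iv D2488) F8739
theorem F12286 : act 6 n2488 = n2488 := d41_1 D2488 (iv D2488) F8740
theorem F12287 : act 7 n2488 = n1739 := d43_1 D2488 (iv D1739) D1738
def n2489 : Q := act 8 n1739
theorem D2489 : act 8 n1739 = n2489 := rfl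
theorem F12288 : act 0 n2489 = n1939 := d7_1 D2489 (iv D1939) (iv F8741)
theorem F12289 : act 2 n2489 = n1742 := d22_1 D2489 (iv D1742) (iv F8742)
theorem F12290 : act 3 n2489 = n2489 := d28_1 D2489 (iv D2489) F8743
theorem F12291 : act 6 n2489 = n1740 := d40_1 D2489 (iv D1740) (iv F8745)
def n2490 : Q := act 5 n1740
theorem D2490 : act 5 n1740 = n2490 := rfl
theorem F12292 : act 0 n2490 = n1940 := d4_1 D2490 (iv D1940) (iv F8746)
theorem F12293 : act 2 n2490 = n1743 := d19_1 D2490 (iv D1743) (iv F8747)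
theorem F12294 : act 3 n2490 = n2490 := d25_1 D2490 (iv D2490) F8748
theorem F12295 : act 7 n2490 = n2490 := d36_2 F8749 D2490 (iv D2490)
theorem F12296 : act 8 n2490 = n1757 := d37_2 D1740 D2490 (iv D1757) (iv D1228) (iv F6200)
def n2491 : Q := act 8 n1741
theorem D2491 : act 8 n1741 = n2491 := rfl
theorem F12297 : act 0 n2491 = n1941 := d7_1 D2491 (iv D1941) (iv F8750)
theorem F12298 : act 1 n2491 = n2491 := d15_1 D2491 (iv D2491) F8751
theorem F12299 : act 3 n2491 = n1744 := d28_1 D2491 (iv D1744) (iv F8752)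
theorem F12300 : act 6 n2491 = n2491 := d40_1 D2491 (iv D2491) F8754
theorem F12301 : act 7 n2491 = n1742 := d42_1 D2491 (iv D1742) (iv F8755)
def n2492 : Q := act 5 n1742
theorem D2492 : act 5 n1742 = n2492 := rfl
theorem F12302 : act 0 n2492 = n1942 := d4_1 D2492 (iv D1942) (iv F8756)
theorem F12303 : act 1 n2492 = n2492 := d12_1 D2492 (iv D2492) F8757
theorem F12304 : act 3 n2492 = n1745 := d25_1 D2492 (iv D1745) (iv F8758)
theorem F12305 : act 8 n2492 = n2492 := d37_2 D1742 D2492 (iv D2492) (iv D1742) F6210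
def n2493 : Q := act 4 n1743
theorem D2493 : act 4 n1743 = n2493 := rfl
theorem F12306 : act 0 n2493 = n1943 := d3_1 D2493 (iv D1943) (iv F8760)
theorem F12307 : act 1 n2493 = n2493 := d11_1 D2493 (iv D2493) F8761
theorem F12308 : act 3 n2493 = n2493 := d24_1 D2493 (iv D2493) F8762 F6231 (iv F8762)
theorem F12309 : act 7 n2493 = n2493 := d32_2 F8763 D2493 (iv D2493)
theorem F12310 : act 8 n2493 = n1758 := d33_2 (iv F8764) D2493 (iv D1758)
def n2494 : Q := act 6 n1743
theorem D2494 : act 6 n1743 = n2494 := rfl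
theorem F12311 : act 0 n2494 = n1944 := d5_1 D2494 (iv D1944) (iv F8760)
theorem F12312 : act 1 n2494 = n2494 := d13_1 D2494 (iv D2494) F8761
theorem F12313 : act 3 n2494 = n1746 := d26_1 D2494 (iv D1746) (iv F8762)
theorem F12314 : act 8 n2494 = n1759 := d40_2 (iv F8764) D2494 (iv D1759)
def n2495 : Q := act 5 n1744
theorem D2495 : act 5 n1744 = n2495 := rfl
theorem F12315 : act 0 n2495 = n1945 := d4_1 D2495 (iv D1945) (iv F8765)
theorem F12316 : act 1 n2495 = n2495 := d12_1 D2495 (iv D2495) F8766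
theorem F12317 : act 2 n2495 = n2495 := d19_1 D2495 (iv D2495) F8767
theorem F12318 : act 7 n2495 = n1745 := d36_2 (iv F8770) D2495 (iv D1745)
theorem F12319 : act 8 n2495 = n2495 := d37_2 D1744 D2495 (iv D2495) (iv D1744) F6220
def n2496 : Q := act 4 n1745
theorem D2496 : act 4 n1745 = n2496 := rfl
theorem F12320 : act 0 n2496 = n1946 := d3_1 D2496 (iv D1946) (iv F8771)
theorem F12321 : act 1 n2496 = n2496 := d11_1 D2496 (iv D2496) F8772
theorem F12322 : act 2 n2496 = n2496 := d18_1 D2496 (iv D2496) F8773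
theorem F12323 : act 5 n2496 = n1748 := d30_2 D1745 D2496 (iv D1748) (iv D1220) (iv F6226)
theorem F12324 : act 8 n2496 = n2496 := d33_2 F8774 D2496 (iv D2496)
def n2497 : Q := act 6 n1745
theorem D2497 : act 6 n1745 = n2497 := rfl
theorem F12325 : act 0 n2497 = n1947 := d5_1 D2497 (iv D1947) (iv F8771)
theorem F12326 : act 1 n2497 = n2497 := d13_1 D2497 (iv D2497) F8772
theorem F12327 : act 2 n2497 = n2497 := d20_1 D2497 (iv D2497) F8773
theorem F12328 : act 5 n2497 = n1746 := d35_1 D2497 (iv D1746) (iv D1218) (iv F6227) D1745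
theorem F12329 : act 8 n2497 = n2497 := d40_2 F8774 D2497 (iv D2497)
def n2498 : Q := act 7 n1746
theorem D2498 : act 7 n1746 = n2498 := rfl
theorem F12330 : act 0 n2498 = n1948 := d6_1 D2498 (iv D1948) (iv F8775)
theorem F12331 : act 1 n2498 = n2498 := d14_1 D2498 (iv D2498) F8776
theorem F12332 : act 2 n2498 = n2498 := d21_1 D2498 (iv D2498) F8777
theorem F12333 : act 4 n2498 = n2498 := d32_1 D2498 (iv D2498) F8778
theorem F12334 : act 6 n2498 = n2498 := d39_1 D2498 (iv D2498) (iv D1746) F6232 D1746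
theorem F12335 : act 8 n2498 = n1760 := d42_2 (iv F8779) D2498 (iv D1760)
def n2499 : Q := act 4 n1747
theorem D2499 : act 4 n1747 = n2499 := rfl
theorem F12336 : act 0 n2499 = n1949 := d3_1 D2499 (iv D1949) (iv F8780)
theorem F12337 : act 1 n2499 = n2499 := d11_1 D2499 (iv D2499) F8781
theorem F12338 : act 2 n2499 = n2499 := d18_1 D2499 (iv D2499) F8782
theorem F12339 : act 7 n2499 = n1748 := d32_2 (iv F8783) D2499 (iv D1748)
theorem F12340 : act 8 n2499 = n1749 := d33_2 (iv F8784) D2499 (iv D1749)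
def n2500 : Q := act 6 n1747
theorem D2500 : act 6 n1747 = n2500 := rfl
theorem F12341 : act 0 n2500 = n1950 := d5_1 D2500 (iv D1950) (iv F8780)
theorem F12342 : act 1 n2500 = n2500 := d13_1 D2500 (iv D2500) F8781
theorem F12343 : act 2 n2500 = n2500 := d20_1 D2500 (iv D2500) F8782
theorem F12344 : act 5 n2500 = n2500 := d35_1 D2500 (iv D2500) (iv D1747) F6237 D1747
theorem F12345 : act 7 n2500 = n2500 := d39_2 (iv F8783) D2500 (iv D2500) F8783 F6242
theorem F12346 : act 8 n2500 = n1750 := d40_2 (iv F8784) D2500 (iv D1750)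
def n2501 : Q := act 3 n1748
theorem D2501 : act 3 n1748 = n2501 := rfl
theorem F12347 : act 0 n2501 = n1951 := d2_1 D2501 (iv D1951) (iv F8785)
theorem F12348 : act 1 n2501 = n2501 := d10_1 D2501 (iv D2501) F8786
theorem F12349 : act 6 n2501 = n2501 := d26_2 F8788 D2501 (iv D2501)
theorem F12350 : act 8 n2501 = n1751 := d28_2 (iv F8789) D2501 (iv D1751)
def n2502 : Q := act 3 n1749
theorem D2502 : act 3 n1749 = n2502 := rfl
theorem F12351 : act 0 n2502 = n1952 := d2_1 D2502 (iv D1952) (iv F8790)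
theorem F12352 : act 1 n2502 = n2502 := d10_1 D2502 (iv D2502) F8791
theorem F12353 : act 5 n2502 = n2502 := d25_2 F8793 D2502 (iv D2502)
theorem F12354 : act 7 n2502 = n1751 := d27_2 (iv F8794) D2502 (iv D1751)
theorem F12355 : act 9 n2502 = n2502 := d29_2 F8795 D2502 (iv D2502)
def n2503 : Q := act 6 n1749
theorem D2503 : act 6 n1749 = n2503 := rfl
theorem F12356 : act 0 n2503 = n1953 := d5_1 D2503 (iv D1953) (iv F8790)
theorem F12359 : act 4 n2503 = n1750 := d31_1 D2503 (iv D1750) D1749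
def n2504 : Q := act 2 n1751
theorem D2504 : act 2 n1751 = n2504 := rfl
theorem F12362 : act 0 n2504 = n1954 := d1_1 D2504 (iv D1954) (iv F8802)
theorem F12363 : act 3 n2504 = n2504 := d17_2 D1751 D2504 (iv D2504) (iv D1751) F6251
theorem F12364 : act 5 n2504 = n2504 := d19_2 F8804 D2504 (iv D2504)
theorem F12365 : act 6 n2504 = n2504 := d20_2 F8805 D2504 (iv D2504)
theorem F12366 : act 9 n2504 = n2504 := d23_2 F8806 D2504 (iv D2504)
def n2507 : Q := act 5 n1753
theorem D2507 : act 5 n1753 = n2507 := rfl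
def n2509 : Q := act 8 n1755
theorem D2509 : act 8 n1755 = n2509 := rfl
theorem F12391 : act 0 n2509 = n1756 := d7_1 D2509 (iv D1756) (iv F8826)
theorem F12392 : act 1 n2509 = n1959 := d15_1 D2509 (iv D1959) (iv F8827)
theorem F12393 : act 2 n2509 = n2509 := d22_1 D2509 (iv D2509) F8828
theorem F12394 : act 3 n2509 = n2509 := d28_1 D2509 (iv D2509) F8829
theorem F12395 : act 4 n2509 = n2509 := d33_1 D2509 (iv D2509) F8830
theorem F12396 : act 6 n2509 = n2509 := d40_1 D2509 (iv D2509) F8831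
theorem F12397 : act 7 n2509 = n2509 := d42_1 D2509 (iv D2509) F8832
theorem F12398 : act 9 n2509 = n2509 := d44_2 D1755 D2509 (iv D2509) (iv D1755) F6280
def n2510 : Q := act 5 n1756
theorem D2510 : act 5 n1756 = n2510 := rfl
theorem F12399 : act 1 n2510 = n1757 := d12_1 D2510 (iv D1757) (iv F8833)
theorem F12400 : act 2 n2510 = n2510 := d19_1 D2510 (iv D2510) F8834
theorem F12401 : act 3 n2510 = n2510 := d25_1 D2510 (iv D2510) F8835
theorem F12402 : act 7 n2510 = n2510 := d36_2 F8838 D2510 (iv D2510)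
theorem F12403 : act 9 n2510 = n2510 := d38_2 F8839 D2510 (iv D2510)
def n2511 : Q := act 4 n1757
theorem D2511 : act 4 n1757 = n2511 := rfl
theorem F12404 : act 0 n2511 = n1961 := d3_1 D2511 (iv D1961) (iv F8840)
theorem F12405 : act 2 n2511 = n1758 := d18_1 D2511 (iv D1758) (iv F8841)
theorem F12406 : act 5 n2511 = n2511 := d30_2 D1757 D2511 (iv D2511) (iv D1757) F6290
theorem F12407 : act 7 n2511 = n2511 := d32_2 F8843 D2511 (iv D2511)
theorem F12408 : act 9 n2511 = n2511 := d34_2 F8844 D2511 (iv D2511)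
def n2512 : Q := act 6 n1757
theorem D2512 : act 6 n1757 = n2512 := rfl
theorem F12409 : act 0 n2512 = n1962 := d5_1 D2512 (iv D1962) (iv F8840)
theorem F12410 : act 2 n2512 = n1759 := d20_1 D2512 (iv D1759) (iv F8841)
theorem F12411 : act 3 n2512 = n2512 := d26_1 D2512 (iv D2512) F8842
theorem F12412 : act 5 n2512 = n2512 := d35_1 D2512 (iv D2512) (iv D1757) F6291 D1757
theorem F12413 : act 9 n2512 = n2512 := d41_2 F8844 D2512 (iv D2512)
def n2513 : Q := act 6 n1758
theorem D2513 : act 6 n1758 = n2513 := rfl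
theorem F12414 : act 0 n2513 = n1963 := d5_1 D2513 (iv D1963) (iv F8845)
theorem F12415 : act 1 n2513 = n2513 := d13_1 D2513 (iv D2513) F8846
theorem F12416 : act 3 n2513 = n2513 := d26_1 D2513 (iv D2513) F8847
theorem F12417 : act 4 n2513 = n1759 := d31_1 D2513 (iv D1759) D1758
theorem F12418 : act 9 n2513 = n2513 := d41_2 F8850 D2513 (iv D2513)
def n2514 : Q := act 7 n1759
theorem D2514 : act 7 n1759 = n2514 := rfl
theorem F12419 : act 0 n2514 = n1964 := d6_1 D2514 (iv D1964) (iv F8851)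
theorem F12420 : act 1 n2514 = n2514 := d14_1 D2514 (iv D2514) F8852
theorem F12421 : act 3 n2514 = n1760 := d27_1 D2514 (iv D1760) (iv F8853)
theorem F12422 : act 5 n2514 = n2514 := d36_1 D2514 (iv D2514) F8854
theorem F12423 : act 6 n2514 = n2514 := d39_1 D2514 (iv D2514) (iv D1759) F6297 D1759
theorem F12424 : act 9 n2514 = n2514 := d43_2 F8855 D2514 (iv D2514)
def n2515 : Q := act 3 n1761
theorem D2515 : act 3 n1761 = n2515 := rfl
theorem F12425 : act 1 n2515 = n2515 := d10_1 D2515 (iv D2515) F8863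
theorem F12426 : act 4 n2515 = n1764 := d24_2 D1761 D2515 (iv D1764) (iv D1233) (iv F6307)
theorem F12427 : act 5 n2515 = n2515 := d25_2 F8865 D2515 (iv D2515)
theorem F12428 : act 7 n2515 = n2515 := d27_2 F8866 D2515 (iv D2515)
theorem F12429 : act 8 n2515 = n2515 := d28_2 F8867 D2515 (iv D2515)
def n2516 : Q := act 6 n1761
theorem D2516 : act 6 n1761 = n2516 := rfl
theorem F12430 : act 1 n2516 = n2516 := d13_1 D2516 (iv D2516) F8863
theorem F12431 : act 2 n2516 = n2516 := d20_1 D2516 (iv D2516) F8864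
theorem F12432 : act 4 n2516 = n1762 := d31_1 D2516 (iv D1762) D1761
theorem F12433 : act 8 n2516 = n2516 := d40_2 F8867 D2516 (iv D2516)
def n2517 : Q := act 9 n1761
theorem D2517 : act 9 n1761 = n2517 := rfl
theorem F12434 : act 1 n2517 = n2517 := d16_1 D2517 (iv D2517) F8863
theorem F12435 : act 2 n2517 = n2517 := d23_1 D2517 (iv D2517) F8864
theorem F12436 : act 4 n2517 = n1763 := d34_1 D2517 (iv D1763) D1761
theorem F12437 : act 5 n2517 = n2517 := d38_1 D2517 (iv D2517) F8865
theorem F12438 : act 7 n2517 = n2517 := d43_1 D2517 (iv D2517) F8866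
def n2518 : Q := act 7 n1762
theorem D2518 : act 7 n1762 = n2518 := rfl
theorem F12439 : act 1 n2518 = n2518 := d14_1 D2518 (iv D2518) F8868
theorem F12440 : act 2 n2518 = n2518 := d21_1 D2518 (iv D2518) F8869
theorem F12441 : act 3 n2518 = n1767 := d27_1 D2518 (iv D1767) (iv F8870)
theorem F12442 : act 5 n2518 = n2518 := d36_1 D2518 (iv D2518) F8871
theorem F12443 : act 6 n2518 = n2518 := d39_1 D2518 (iv D2518) (iv D1762) F6308 D1762
theorem F12444 : act 8 n2518 = n2518 := d42_2 F8872 D2518 (iv D2518)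
def n2519 : Q := act 9 n1762
theorem D2519 : act 9 n1762 = n2519 := rfl
theorem F12445 : act 1 n2519 = n2519 := d16_1 D2519 (iv D2519) F8868
theorem F12446 : act 2 n2519 = n2519 := d23_1 D2519 (iv D2519) F8869
theorem F12447 : act 3 n2519 = n1768 := d29_1 D2519 (iv D1768) (iv F8870)
theorem F12448 : act 5 n2519 = n2519 := d38_1 D2519 (iv D2519) F8871
theorem F12449 : act 6 n2519 = n1763 := d41_1 D2519 (iv D1763) D1762
def n2520 : Q := act 8 n1763
theorem D2520 : act 8 n1763 = n2520 := rfl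
theorem F12450 : act 1 n2520 = n2520 := d15_1 D2520 (iv D2520) F8873
theorem F12451 : act 2 n2520 = n2520 := d22_1 D2520 (iv D2520) F8874
theorem F12452 : act 3 n2520 = n1769 := d28_1 D2520 (iv D1769) (iv F8875)
theorem F12453 : act 5 n2520 = n2520 := d37_1 D2520 (iv D2520) F8876 F6316 (iv F8876)
theorem F12454 : act 7 n2520 = n2520 := d42_1 D2520 (iv D2520) F8877
theorem F12455 : act 9 n2520 = n2520 := d44_2 D1763 D2520 (iv D2520) (iv D1763) F6309
def n2521 : Q := act 2 n1764
theorem D2521 : act 2 n1764 = n2521 := rfl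
theorem F12456 : act 3 n2521 = n1836 := d17_2 D1764 D2521 (iv D1836) (iv D1280) (iv F6318)
theorem F12457 : act 5 n2521 = n1770 := d19_2 (iv F8879) D2521 (iv D1770)
theorem F12458 : act 7 n2521 = n2521 := d21_2 F8880 D2521 (iv D2521)
theorem F12459 : act 8 n2521 = n2521 := d22_2 F8881 D2521 (iv D2521)
def n2522 : Q := act 6 n1764
theorem D2522 : act 6 n1764 = n2522 := rfl
theorem F12460 : act 1 n2522 = n2522 := d13_1 D2522 (iv D2522) F8878
theorem F12461 : act 3 n2522 = n1765 := d26_1 D2522 (iv D1765) D1764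
theorem F12462 : act 8 n2522 = n2522 := d40_2 F8881 D2522 (iv D2522)
def n2523 : Q := act 9 n1764
theorem D2523 : act 9 n1764 = n2523 := rfl
theorem F12463 : act 1 n2523 = n2523 := d16_1 D2523 (iv D2523) F8878
theorem F12464 : act 3 n2523 = n1766 := d29_1 D2523 (iv D1766) D1764
theorem F12465 : act 5 n2523 = n1772 := d38_1 D2523 (iv D1772) (iv F8879)
theorem F12466 : act 7 n2523 = n2523 := d43_1 D2523 (iv D2523) F8880
def n2524 : Q := act 5 n1765
theorem D2524 : act 5 n1765 = n2524 := rfl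
theorem F12467 : act 1 n2524 = n2524 := d12_1 D2524 (iv D2524) F8882
theorem F12468 : act 2 n2524 = n1839 := d19_1 D2524 (iv D1839) (iv F8883)
theorem F12469 : act 4 n2524 = n2524 := d30_1 D2524 (iv D2524) F8884 F6324 (iv F8884)
theorem F12470 : act 6 n2524 = n1773 := d35_2 D1765 D2524 (iv D1773) (iv D1237) (iv F6319)
def n2525 : Q := act 7 n1765
theorem D2525 : act 7 n1765 = n2525 := rfl
theorem F12471 : act 1 n2525 = n2525 := d14_1 D2525 (iv D2525) F8882
theorem F12472 : act 2 n2525 = n1840 := d21_1 D2525 (iv D1840) (iv F8883)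
theorem F12473 : act 4 n2525 = n1767 := d32_1 D2525 (iv D1767) (iv F8884)
theorem F12474 : act 6 n2525 = n2525 := d39_1 D2525 (iv D2525) (iv D1765) F6320 D1765
theorem F12475 : act 8 n2525 = n2525 := d42_2 F8885 D2525 (iv D2525)
def n2526 : Q := act 9 n1765
theorem D2526 : act 9 n1765 = n2526 := rfl
theorem F12476 : act 1 n2526 = n2526 := d16_1 D2526 (iv D2526) F8882
theorem F12477 : act 2 n2526 = n1841 := d23_1 D2526 (iv D1841) (iv F8883)
theorem F12478 : act 4 n2526 = n1768 := d34_1 D2526 (iv D1768) (iv F8884)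
theorem F12479 : act 6 n2526 = n1766 := d41_1 D2526 (iv D1766) D1765
def n2527 : Q := act 8 n1766
theorem D2527 : act 8 n1766 = n2527 := rfl
theorem F12480 : act 1 n2527 = n2527 := d15_1 D2527 (iv D2527) F8886
theorem F12481 : act 2 n2527 = n1842 := d22_1 D2527 (iv D1842) (iv F8887)
theorem F12482 : act 4 n2527 = n1769 := d33_1 D2527 (iv D1769) (iv F8888)
theorem F12483 : act 7 n2527 = n2527 := d42_1 D2527 (iv D2527) F8890
theorem F12484 : act 9 n2527 = n2527 := d44_2 D1766 D2527 (iv D2527) (iv D1766) F6321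
def n2528 : Q := act 9 n1767
theorem D2528 : act 9 n1767 = n2528 := rfl
theorem F12485 : act 1 n2528 = n2528 := d16_1 D2528 (iv D2528) F8891
theorem F12486 : act 2 n2528 = n1843 := d23_1 D2528 (iv D1843) (iv F8892)
theorem F12487 : act 5 n2528 = n2528 := d38_1 D2528 (iv D2528) F8893
theorem F12488 : act 6 n2528 = n2528 := d41_1 D2528 (iv D2528) F8894
theorem F12489 : act 7 n2528 = n1768 := d43_1 D2528 (iv D1768) D1767
def n2529 : Q := act 8 n1768
theorem D2529 : act 8 n1768 = n2529 := rfl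
theorem F12490 : act 1 n2529 = n2529 := d15_1 D2529 (iv D2529) F8896
theorem F12491 : act 2 n2529 = n1844 := d22_1 D2529 (iv D1844) (iv F8897)
theorem F12492 : act 6 n2529 = n1769 := d40_1 D2529 (iv D1769) (iv F8899)
theorem F12493 : act 9 n2529 = n2529 := d44_2 D1768 D2529 (iv D2529) (iv D1768) F6325
def n2530 : Q := act 1 n1770
theorem D2530 : act 1 n1770 = n2530 := rfl
theorem F12494 : act 2 n2530 = n2530 := d9_2 D1770 D2530 (iv D2530) (iv D1770) F6330
theorem F12495 : act 3 n2530 = n1845 := d10_2 (iv F8905) D2530 (iv D1845)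
theorem F12496 : act 4 n2530 = n2530 := d11_2 F8906 D2530 (iv D2530)
theorem F12497 : act 7 n2530 = n2530 := d14_2 F8907 D2530 (iv D2530)
theorem F12498 : act 8 n2530 = n1779 := d15_2 (iv F8908) D2530 (iv D1779)
def n2531 : Q := act 6 n1770
theorem D2531 : act 6 n1770 = n2531 := rfl
theorem F12499 : act 2 n2531 = n1771 := d20_1 D2531 (iv D1771) D1770
theorem F12500 : act 3 n2531 = n1846 := d26_1 D2531 (iv D1846) (iv F8905)
theorem F12501 : act 4 n2531 = n2531 := d31_1 D2531 (iv D2531) F8906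
theorem F12502 : act 8 n2531 = n1780 := d40_2 (iv F8908) D2531 (iv D1780)
def n2532 : Q := act 9 n1770
theorem D2532 : act 9 n1770 = n2532 := rfl
theorem F12503 : act 2 n2532 = n1772 := d23_1 D2532 (iv D1772) D1770
theorem F12504 : act 3 n2532 = n1847 := d29_1 D2532 (iv D1847) (iv F8905)
theorem F12505 : act 4 n2532 = n2532 := d34_1 D2532 (iv D2532) F8906
theorem F12506 : act 7 n2532 = n2532 := d43_1 D2532 (iv D2532) F8907
def n2533 : Q := act 5 n1771
theorem D2533 : act 5 n1771 = n2533 := rfl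
theorem F12507 : act 1 n2533 = n2533 := d12_1 D2533 (iv D2533) F8909
theorem F12508 : act 3 n2533 = n1773 := d25_1 D2533 (iv D1773) (iv F8910)
def n2534 : Q := act 7 n1771
theorem D2534 : act 7 n1771 = n2534 := rfl
theorem F12513 : act 8 n2534 = n1783 := d42_2 (iv F8912) D2534 (iv D1783)
def n2535 : Q := act 9 n1771
theorem D2535 : act 9 n1771 = n2535 := rfl
theorem F12514 : act 1 n2535 = n2535 := d16_1 D2535 (iv D2535) F8909
theorem F12515 : act 3 n2535 = n1775 := d29_1 D2535 (iv D1775) (iv F8910)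
theorem F12516 : act 4 n2535 = n2535 := d34_1 D2535 (iv D2535) F8911
theorem F12517 : act 6 n2535 = n1772 := d41_1 D2535 (iv D1772) D1771
def n2536 : Q := act 8 n1772
theorem D2536 : act 8 n1772 = n2536 := rfl
theorem F12518 : act 1 n2536 = n2536 := d15_1 D2536 (iv D2536) F8913
theorem F12519 : act 3 n2536 = n1776 := d28_1 D2536 (iv D1776) (iv F8914)
theorem F12520 : act 4 n2536 = n2536 := d33_1 D2536 (iv D2536) F8915
theorem F12521 : act 7 n2536 = n2536 := d42_1 D2536 (iv D2536) F8916
theorem F12522 : act 9 n2536 = n1785 := d44_2 D1772 D2536 (iv D1785) (iv D1244) (iv F6333)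
def n2537 : Q := act 7 n1773
theorem D2537 : act 7 n1773 = n2537 := rfl
theorem F12524 : act 2 n2537 = n1852 := d21_1 D2537 (iv D1852) (iv F8918)
theorem F12526 : act 5 n2537 = n1774 := d36_1 D2537 (iv D1774) D1773
def n2538 : Q := act 8 n1773
theorem D2538 : act 8 n1773 = n2538 := rfl
theorem F12528 : act 2 n2538 = n1853 := d22_1 D2538 (iv D1853) (iv F8918)
def n2539 : Q := act 9 n1773
theorem D2539 : act 9 n1773 = n2539 := rfl
theorem F12531 : act 1 n2539 = n2539 := d16_1 D2539 (iv D2539) F8917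
theorem F12532 : act 2 n2539 = n1854 := d23_1 D2539 (iv D1854) (iv F8918)
theorem F12533 : act 4 n2539 = n2539 := d34_1 D2539 (iv D2539) F8919
theorem F12534 : act 5 n2539 = n1775 := d38_1 D2539 (iv D1775) D1773
def n2540 : Q := act 9 n1774
theorem D2540 : act 9 n1774 = n2540 := rfl
theorem F12536 : act 2 n2540 = n1855 := d23_1 D2540 (iv D1855) (iv F8921)
theorem F12539 : act 7 n2540 = n1775 := d43_1 D2540 (iv D1775) D1774
def n2541 : Q := act 8 n1775
theorem D2541 : act 8 n1775 = n2541 := rfl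
theorem F12540 : act 1 n2541 = n2541 := d15_1 D2541 (iv D2541) F8925
theorem F12541 : act 2 n2541 = n1856 := d22_1 D2541 (iv D1856) (iv F8926)
theorem F12542 : act 4 n2541 = n1778 := d33_1 D2541 (iv D1778) (iv F8927)
theorem F12543 : act 6 n2541 = n1776 := d40_1 D2541 (iv D1776) (iv F8928)
theorem F12544 : act 9 n2541 = n1790 := d44_2 D1775 D2541 (iv D1790) (iv D1247) (iv F6337)
def n2542 : Q := act 5 n1776
theorem D2542 : act 5 n1776 = n2542 := rfl
theorem F12545 : act 1 n2542 = n2542 := d12_1 D2542 (iv D2542) F8929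
theorem F12546 : act 2 n2542 = n1857 := d19_1 D2542 (iv D1857) (iv F8930)
theorem F12547 : act 4 n2542 = n2542 := d30_1 D2542 (iv D2542) F8931 F6356 (iv F8931)
theorem F12548 : act 7 n2542 = n2542 := d36_2 F8932 D2542 (iv D2542)
theorem F12549 : act 9 n2542 = n1791 := d38_2 (iv F8933) D2542 (iv D1791)
def n2543 : Q := act 8 n1777
theorem D2543 : act 8 n1777 = n2543 := rfl
theorem F12551 : act 2 n2543 = n1858 := d22_1 D2543 (iv D1858) (iv F8935)
theorem F12554 : act 7 n2543 = n1778 := d42_1 D2543 (iv D1778) (iv F8939)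
def n2544 : Q := act 5 n1778
theorem D2544 : act 5 n1778 = n2544 := rfl
theorem F12556 : act 1 n2544 = n2544 := d12_1 D2544 (iv D2544) F8940
theorem F12557 : act 2 n2544 = n1859 := d19_1 D2544 (iv D1859) (iv F8941)
theorem F12558 : act 3 n2544 = n2544 := d25_1 D2544 (iv D2544) F8942
theorem F12559 : act 6 n2544 = n2544 := d35_2 (iv F8943) D2544 (iv D2544) F8943 F6356
theorem F12560 : act 8 n2544 = n2544 := d37_2 D1778 D2544 (iv D2544) (iv D1778) F6351
theorem F12561 : act 9 n2544 = n1793 := d38_2 (iv F8944) D2544 (iv D1793)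
def n2545 : Q := act 0 n1779
theorem D2545 : act 0 n1779 = n2545 := rfl
theorem F12562 : act 2 n2545 = n2545 := d1_2 F8945 D2545 (iv D2545)
theorem F12563 : act 3 n2545 = n1860 := d2_2 (iv F8946) D2545 (iv D1860)
theorem F12564 : act 4 n2545 = n2545 := d3_2 F8947 D2545 (iv D2545)
theorem F12565 : act 5 n2545 = n2545 := d4_2 F8948 D2545 (iv D2545)
theorem F12566 : act 7 n2545 = n2545 := d6_2 F8949 D2545 (iv D2545)
def n2546 : Q := act 6 n1779
theorem D2546 : act 6 n1779 = n2546 := rfl
theorem F12567 : act 1 n2546 = n1780 := d13_1 D2546 (iv D1780) D1779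
theorem F12568 : act 2 n2546 = n2546 := d20_1 D2546 (iv D2546) F8945
theorem F12569 : act 3 n2546 = n1861 := d26_1 D2546 (iv D1861) (iv F8946)
theorem F12570 : act 4 n2546 = n2546 := d31_1 D2546 (iv D2546) F8947
def n2547 : Q := act 9 n1779
theorem D2547 : act 9 n1779 = n2547 := rfl
theorem F12571 : act 1 n2547 = n1781 := d16_1 D2547 (iv D1781) D1779
theorem F12572 : act 2 n2547 = n2547 := d23_1 D2547 (iv D2547) F8945
theorem F12573 : act 3 n2547 = n1862 := d29_1 D2547 (iv D1862) (iv F8946)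
theorem F12574 : act 4 n2547 = n2547 := d34_1 D2547 (iv D2547) F8947
theorem F12575 : act 5 n2547 = n2547 := d38_1 D2547 (iv D2547) F8948
theorem F12576 : act 7 n2547 = n2547 := d43_1 D2547 (iv D2547) F8949
def n2548 : Q := act 5 n1780
theorem D2548 : act 5 n1780 = n2548 := rfl
theorem F12577 : act 2 n2548 = n1782 := d19_1 D2548 (iv D1782) (iv F8950)
theorem F12578 : act 3 n2548 = n1863 := d25_1 D2548 (iv D1863) (iv F8951)
def n2549 : Q := act 7 n1780
theorem D2549 : act 7 n1780 = n2549 := rfl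
theorem F12581 : act 3 n2549 = n1864 := d27_1 D2549 (iv D1864) (iv F8951)
def n2550 : Q := act 9 n1780
theorem D2550 : act 9 n1780 = n2550 := rfl
theorem F12584 : act 2 n2550 = n1784 := d23_1 D2550 (iv D1784) (iv F8950)
theorem F12585 : act 3 n2550 = n1865 := d29_1 D2550 (iv D1865) (iv F8951)
theorem F12586 : act 4 n2550 = n2550 := d34_1 D2550 (iv D2550) F8952
theorem F12587 : act 6 n2550 = n1781 := d41_1 D2550 (iv D1781) D1780
def n2551 : Q := act 8 n1781
theorem D2551 : act 8 n1781 = n2551 := rfl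
theorem F12588 : act 2 n2551 = n1785 := d22_1 D2551 (iv D1785) (iv F8953)
theorem F12589 : act 3 n2551 = n1866 := d28_1 D2551 (iv D1866) (iv F8954)
theorem F12590 : act 4 n2551 = n2551 := d33_1 D2551 (iv D2551) F8955
theorem F12591 : act 7 n2551 = n2551 := d42_1 D2551 (iv D2551) F8957
def n2553 : Q := act 7 n1782
theorem D2553 : act 7 n1782 = n2553 := rfl
theorem F12597 : act 3 n2553 = n1786 := d27_1 D2553 (iv D1786) (iv F8959)
theorem F12598 : act 5 n2553 = n1783 := d36_1 D2553 (iv D1783) D1782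
def n2554 : Q := act 8 n1782
theorem D2554 : act 8 n1782 = n2554 := rfl
def n2556 : Q := act 9 n1783
theorem D2556 : act 9 n1783 = n2556 := rfl
theorem F12610 : act 7 n2556 = n1784 := d43_1 D2556 (iv D1784) D1783
def n2557 : Q := act 8 n1784
theorem D2557 : act 8 n1784 = n2557 := rfl
theorem F12611 : act 1 n2557 = n2557 := d15_1 D2557 (iv D2557) F8965
theorem F12612 : act 3 n2557 = n1790 := d28_1 D2557 (iv D1790) (iv F8966)
theorem F12613 : act 4 n2557 = n2557 := d33_1 D2557 (iv D2557) F8967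
theorem F12614 : act 6 n2557 = n1785 := d40_1 D2557 (iv D1785) (iv F8968)
def n2558 : Q := act 5 n1785
theorem D2558 : act 5 n1785 = n2558 := rfl
theorem F12615 : act 1 n2558 = n2558 := d12_1 D2558 (iv D2558) F8969
theorem F12616 : act 3 n2558 = n1791 := d25_1 D2558 (iv D1791) (iv F8970)
theorem F12617 : act 7 n2558 = n2558 := d36_2 F8972 D2558 (iv D2558)
theorem F12618 : act 8 n2558 = n2558 := d37_2 D1785 D2558 (iv D2558) (iv D1785) F6369
def n2559 : Q := act 6 n1786
theorem D2559 : act 6 n1786 = n2559 := rfl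
theorem F12621 : act 4 n2559 = n1801 := d31_1 D2559 (iv D1801) (iv F8975)
def n2560 : Q := act 8 n1786
theorem D2560 : act 8 n1786 = n2560 := rfl
theorem F12627 : act 7 n2560 = n1787 := d42_1 D2560 (iv D1787) D1786
def n2562 : Q := act 9 n1787
theorem D2562 : act 9 n1787 = n2562 := rfl
theorem F12634 : act 2 n2562 = n1876 := d23_1 D2562 (iv D1876) (iv F8978)
def n2563 : Q := act 8 n1788
theorem D2563 : act 8 n1788 = n2563 := rfl
theorem F12638 : act 2 n2563 = n1877 := d22_1 D2563 (iv D1877) (iv F8982)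
def n2564 : Q := act 8 n1789
theorem D2564 : act 8 n1789 = n2564 := rfl
theorem F12642 : act 2 n2564 = n1878 := d22_1 D2564 (iv D1878) (iv F8987)
theorem F12645 : act 7 n2564 = n1790 := d42_1 D2564 (iv D1790) (iv F8990)
def n2565 : Q := act 5 n1790
theorem D2565 : act 5 n1790 = n2565 := rfl
theorem F12646 : act 1 n2565 = n2565 := d12_1 D2565 (iv D2565) F8991
theorem F12647 : act 2 n2565 = n1879 := d19_1 D2565 (iv D1879) (iv F8992)
def n2566 : Q := act 6 n1791
theorem D2566 : act 6 n1791 = n2566 := rfl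
theorem F12648 : act 1 n2566 = n2566 := d13_1 D2566 (iv D2566) F8995
theorem F12649 : act 2 n2566 = n1880 := d20_1 D2566 (iv D1880) (iv F8996)
theorem F12650 : act 4 n2566 = n2566 := d31_1 D2566 (iv D2566) F8997
theorem F12651 : act 8 n2566 = n2566 := d40_2 F8999 D2566 (iv D2566)
def n2567 : Q := act 5 n1792
theorem D2567 : act 5 n1792 = n2567 := rfl
theorem F12653 : act 2 n2567 = n1881 := d19_1 D2567 (iv D1881) (iv F9001)
theorem F12655 : act 7 n2567 = n1793 := d36_2 (iv F9004) D2567 (iv D1793)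
def n2568 : Q := act 4 n1793
theorem D2568 : act 4 n1793 = n2568 := rfl
theorem F12657 : act 1 n2568 = n2568 := d11_1 D2568 (iv D2568) F9005
theorem F12658 : act 2 n2568 = n1882 := d18_1 D2568 (iv D1882) (iv F9006)
theorem F12659 : act 6 n2568 = n2568 := d31_2 F9008 D2568 (iv D2568)
theorem F12660 : act 8 n2568 = n1810 := d33_2 (iv F9009) D2568 (iv D1810)
def n2579 : Q := act 4 n1800
theorem D2579 : act 4 n1800 = n2579 := rfl
theorem F12711 : act 3 n2579 = n2579 := d24_1 D2579 (iv D2579) F9042 F6441 (iv F9042)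
def n2581 : Q := act 8 n1801
theorem D2581 : act 8 n1801 = n2581 := rfl
theorem F12723 : act 6 n2581 = n1802 := d40_1 D2581 (iv D1802) D1801
def n2585 : Q := act 8 n1804
theorem D2585 : act 8 n1804 = n2585 := rfl
theorem F12738 : act 2 n2585 = n1887 := d22_1 D2585 (iv D1887) (iv F9059)
def n2586 : Q := act 5 n1805
theorem D2586 : act 5 n1805 = n2586 := rfl
theorem F12742 : act 2 n2586 = n1888 := d19_1 D2586 (iv D1888) (iv F9063)
def n2588 : Q := act 4 n1807
theorem D2588 : act 4 n1807 = n2588 := rfl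
theorem F12749 : act 2 n2588 = n1890 := d18_1 D2588 (iv D1890) (iv F9072)
theorem F12750 : act 5 n2588 = n1810 := d30_2 D1807 D2588 (iv D1810) (iv D1262) (iv F6436)
def n2591 : Q := act 4 n1809
theorem D2591 : act 4 n1809 = n2591 := rfl
theorem F12763 : act 2 n2591 = n1893 := d18_1 D2591 (iv D1893) (iv F9080)
theorem F12764 : act 7 n2591 = n1810 := d32_2 (iv F9082) D2591 (iv D1810)
def n2592 : Q := act 6 n1809
theorem D2592 : act 6 n1809 = n2592 := rfl
theorem F12770 : act 7 n2592 = n2592 := d39_2 (iv F9082) D2592 (iv D2592) F9082 F6454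
def n2593 : Q := act 3 n1810
theorem D2593 : act 3 n1810 = n2593 := rfl
theorem F12772 : act 1 n2593 = n2593 := d10_1 D2593 (iv D2593) F9084
theorem F12773 : act 4 n2593 = n2593 := d24_2 D1810 D2593 (iv D2593) (iv D1810) F6453
theorem F12774 : act 6 n2593 = n2593 := d26_2 F9086 D2593 (iv D2593)
theorem F12775 : act 9 n2593 = n2593 := d29_2 F9087 D2593 (iv D2593)
def n2594 : Q := act 6 n1811
theorem D2594 : act 6 n1811 = n2594 := rfl
theorem F12779 : act 4 n2594 = n1814 := d31_1 D2594 (iv D1814) (iv F9091)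
def n2595 : Q := act 8 n1811
theorem D2595 : act 8 n1811 = n2595 := rfl
theorem F12785 : act 7 n2595 = n1812 := d42_1 D2595 (iv D1812) D1811
def n2600 : Q := act 8 n1814
theorem D2600 : act 8 n1814 = n2600 := rfl
theorem F12809 : act 3 n2600 = n1823 := d28_1 D2600 (iv D1823) (iv F9106)
theorem F12810 : act 6 n2600 = n1815 := d40_1 D2600 (iv D1815) D1814
def n2611 : Q := act 5 n1823
theorem D2611 : act 5 n1823 = n2611 := rfl
theorem F12861 : act 2 n2611 = n1896 := d19_1 D2611 (iv D1896) (iv F9149)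
def n2627 : Q := act 1 n1836
theorem D2627 : act 1 n1836 = n2627 := rfl
theorem F12931 : act 2 n2627 = n1965 := d9_2 D1836 D2627 (iv D1965) (iv D1373) (iv F6538)
theorem F12932 : act 4 n2627 = n2627 := d11_2 F9208 D2627 (iv D2627)
theorem F12933 : act 5 n2627 = n1845 := d12_2 (iv F9209) D2627 (iv D1845)
theorem F12934 : act 7 n2627 = n2627 := d14_2 F9210 D2627 (iv D2627)
theorem F12935 : act 8 n2627 = n2627 := d15_2 F9211 D2627 (iv D2627)
def n2628 : Q := act 6 n1836
theorem D2628 : act 6 n1836 = n2628 := rfl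
theorem F12936 : act 2 n2628 = n1837 := d20_1 D2628 (iv D1837) D1836
theorem F12937 : act 4 n2628 = n2628 := d31_1 D2628 (iv D2628) F9208
theorem F12938 : act 8 n2628 = n2628 := d40_2 F9211 D2628 (iv D2628)
def n2629 : Q := act 9 n1836
theorem D2629 : act 9 n1836 = n2629 := rfl
theorem F12939 : act 2 n2629 = n1838 := d23_1 D2629 (iv D1838) D1836
theorem F12940 : act 4 n2629 = n2629 := d34_1 D2629 (iv D2629) F9208
theorem F12941 : act 5 n2629 = n1847 := d38_1 D2629 (iv D1847) (iv F9209)
theorem F12942 : act 7 n2629 = n2629 := d43_1 D2629 (iv D2629) F9210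
def n2630 : Q := act 5 n1837
theorem D2630 : act 5 n1837 = n2630 := rfl
theorem F12943 : act 1 n2630 = n1968 := d12_1 D2630 (iv D1968) (iv F9212)
theorem F12944 : act 3 n2630 = n1839 := d25_1 D2630 (iv D1839) (iv F9213)
theorem F12945 : act 6 n2630 = n1848 := d35_2 D1837 D2630 (iv D1848) (iv D1287) (iv F6540)
def n2631 : Q := act 7 n1837
theorem D2631 : act 7 n1837 = n2631 := rfl
theorem F12946 : act 1 n2631 = n1969 := d14_1 D2631 (iv D1969) (iv F9212)
theorem F12947 : act 3 n2631 = n1840 := d27_1 D2631 (iv D1840) (iv F9213)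
theorem F12948 : act 4 n2631 = n2631 := d32_1 D2631 (iv D2631) F9214
theorem F12949 : act 6 n2631 = n2631 := d39_1 D2631 (iv D2631) (iv D1837) F6541 D1837
theorem F12950 : act 8 n2631 = n2631 := d42_2 F9215 D2631 (iv D2631)
def n2632 : Q := act 9 n1837
theorem D2632 : act 9 n1837 = n2632 := rfl
theorem F12951 : act 1 n2632 = n1970 := d16_1 D2632 (iv D1970) (iv F9212)
theorem F12952 : act 3 n2632 = n1841 := d29_1 D2632 (iv D1841) (iv F9213)
theorem F12953 : act 4 n2632 = n2632 := d34_1 D2632 (iv D2632) F9214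
theorem F12954 : act 6 n2632 = n1838 := d41_1 D2632 (iv D1838) D1837
def n2633 : Q := act 8 n1838
theorem D2633 : act 8 n1838 = n2633 := rfl
theorem F12955 : act 1 n2633 = n1971 := d15_1 D2633 (iv D1971) (iv F9216)
theorem F12956 : act 3 n2633 = n1842 := d28_1 D2633 (iv D1842) (iv F9217)
theorem F12957 : act 4 n2633 = n2633 := d33_1 D2633 (iv D2633) F9218
theorem F12958 : act 7 n2633 = n2633 := d42_1 D2633 (iv D2633) F9220
theorem F12959 : act 9 n2633 = n2633 := d44_2 D1838 D2633 (iv D2633) (iv D1838) F6542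
def n2634 : Q := act 7 n1839
theorem D2634 : act 7 n1839 = n2634 := rfl
theorem F12960 : act 1 n2634 = n1972 := d14_1 D2634 (iv D1972) (iv F9221)
theorem F12961 : act 4 n2634 = n2634 := d32_1 D2634 (iv D2634) F9222
theorem F12962 : act 5 n2634 = n1840 := d36_1 D2634 (iv D1840) D1839
def n2635 : Q := act 8 n1839
theorem D2635 : act 8 n1839 = n2635 := rfl
theorem F12963 : act 1 n2635 = n1973 := d15_1 D2635 (iv D1973) (iv F9221)
theorem F12964 : act 4 n2635 = n2635 := d33_1 D2635 (iv D2635) F9222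
theorem F12965 : act 5 n2635 = n2635 := d37_1 D2635 (iv D2635) (iv D1839) F6545 D1839
theorem F12966 : act 6 n2635 = n1853 := d40_1 D2635 (iv D1853) (iv F9223)
def n2636 : Q := act 9 n1839
theorem D2636 : act 9 n1839 = n2636 := rfl
theorem F12967 : act 1 n2636 = n1974 := d16_1 D2636 (iv D1974) (iv F9221)
theorem F12968 : act 4 n2636 = n2636 := d34_1 D2636 (iv D2636) F9222
theorem F12969 : act 5 n2636 = n1841 := d38_1 D2636 (iv D1841) D1839
theorem F12970 : act 6 n2636 = n1854 := d41_1 D2636 (iv D1854) (iv F9223)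
def n2637 : Q := act 9 n1840
theorem D2637 : act 9 n1840 = n2637 := rfl
theorem F12971 : act 1 n2637 = n1975 := d16_1 D2637 (iv D1975) (iv F9224)
theorem F12972 : act 4 n2637 = n1843 := d34_1 D2637 (iv D1843) (iv F9225)
theorem F12973 : act 6 n2637 = n2637 := d41_1 D2637 (iv D2637) F9226
theorem F12974 : act 7 n2637 = n1841 := d43_1 D2637 (iv D1841) D1840
def n2638 : Q := act 8 n1841
theorem D2638 : act 8 n1841 = n2638 := rfl
theorem F12975 : act 1 n2638 = n1976 := d15_1 D2638 (iv D1976) (iv F9228)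
theorem F12976 : act 4 n2638 = n1844 := d33_1 D2638 (iv D1844) (iv F9229)
theorem F12977 : act 6 n2638 = n1842 := d40_1 D2638 (iv D1842) (iv F9230)
theorem F12978 : act 9 n2638 = n2638 := d44_2 D1841 D2638 (iv D2638) (iv D1841) F6545
def n2639 : Q := act 5 n1842
theorem D2639 : act 5 n1842 = n2639 := rfl
theorem F12979 : act 1 n2639 = n1977 := d12_1 D2639 (iv D1977) (iv F9231)
theorem F12980 : act 4 n2639 = n2639 := d30_1 D2639 (iv D2639) F9232 F6561 (iv F9232)
theorem F12981 : act 7 n2639 = n2639 := d36_2 F9233 D2639 (iv D2639)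
theorem F12982 : act 8 n2639 = n1857 := d37_2 D1842 D2639 (iv D1857) (iv D1292) (iv F6548)
theorem F12983 : act 9 n2639 = n2639 := d38_2 F9234 D2639 (iv D2639)
def n2640 : Q := act 8 n1843
theorem D2640 : act 8 n1843 = n2640 := rfl
theorem F12984 : act 1 n2640 = n1978 := d15_1 D2640 (iv D1978) (iv F9235)
theorem F12985 : act 3 n2640 = n2640 := d28_1 D2640 (iv D2640) F9236
theorem F12986 : act 6 n2640 = n2640 := d40_1 D2640 (iv D2640) F9238
theorem F12987 : act 7 n2640 = n1844 := d42_1 D2640 (iv D1844) (iv F9239)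
theorem F12988 : act 9 n2640 = n2640 := d44_2 D1843 D2640 (iv D2640) (iv D1843) F6554
def n2641 : Q := act 5 n1844
theorem D2641 : act 5 n1844 = n2641 := rfl
theorem F12989 : act 1 n2641 = n1979 := d12_1 D2641 (iv D1979) (iv F9240)
theorem F12990 : act 3 n2641 = n2641 := d25_1 D2641 (iv D2641) F9241
theorem F12991 : act 6 n2641 = n2641 := d35_2 (iv F9242) D2641 (iv D2641) F9242 F6561
theorem F12992 : act 8 n2641 = n2641 := d37_2 D1844 D2641 (iv D2641) (iv D1844) F6557
theorem F12993 : act 9 n2641 = n2641 := d38_2 F9243 D2641 (iv D2641)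
def n2642 : Q := act 0 n1845
theorem D2642 : act 0 n1845 = n2642 := rfl
theorem F12994 : act 2 n2642 = n1980 := d1_2 (iv F9244) D2642 (iv D1980)
theorem F12995 : act 4 n2642 = n1912 := d3_2 (iv F9245) D2642 (iv D1912)
theorem F12996 : act 7 n2642 = n2642 := d6_2 F9246 D2642 (iv D2642)
theorem F12997 : act 8 n2642 = n1860 := d7_2 (iv F9247) D2642 (iv D1860)
def n2643 : Q := act 6 n1845
theorem D2643 : act 6 n1845 = n2643 := rfl
theorem F12998 : act 1 n2643 = n1846 := d13_1 D2643 (iv D1846) D1845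
theorem F12999 : act 2 n2643 = n1981 := d20_1 D2643 (iv D1981) (iv F9244)
theorem F13000 : act 4 n2643 = n1913 := d31_1 D2643 (iv D1913) (iv F9245)
theorem F13001 : act 8 n2643 = n1861 := d40_2 (iv F9247) D2643 (iv D1861)
def n2644 : Q := act 9 n1845
theorem D2644 : act 9 n1845 = n2644 := rfl
theorem F13002 : act 1 n2644 = n1847 := d16_1 D2644 (iv D1847) D1845
theorem F13003 : act 2 n2644 = n1982 := d23_1 D2644 (iv D1982) (iv F9244)
theorem F13004 : act 4 n2644 = n1914 := d34_1 D2644 (iv D1914) (iv F9245)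
theorem F13005 : act 7 n2644 = n2644 := d43_1 D2644 (iv D2644) F9246
def n2645 : Q := act 5 n1846
theorem D2645 : act 5 n1846 = n2645 := rfl
theorem F13006 : act 2 n2645 = n1848 := d19_1 D2645 (iv D1848) (iv F9248)
def n2646 : Q := act 7 n1846
theorem D2646 : act 7 n1846 = n2646 := rfl
theorem F13007 : act 2 n2646 = n1849 := d21_1 D2646 (iv D1849) (iv F9248)
theorem F13008 : act 4 n2646 = n1916 := d32_1 D2646 (iv D1916) (iv F9249)
theorem F13009 : act 6 n2646 = n2646 := d39_1 D2646 (iv D2646) (iv D1846) F6565 D1846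
theorem F13010 : act 8 n2646 = n1864 := d42_2 (iv F9250) D2646 (iv D1864)
def n2647 : Q := act 9 n1846
theorem D2647 : act 9 n1846 = n2647 := rfl
theorem F13011 : act 2 n2647 = n1850 := d23_1 D2647 (iv D1850) (iv F9248)
theorem F13012 : act 4 n2647 = n1917 := d34_1 D2647 (iv D1917) (iv F9249)
theorem F13013 : act 6 n2647 = n1847 := d41_1 D2647 (iv D1847) D1846
def n2648 : Q := act 8 n1847
theorem D2648 : act 8 n1847 = n2648 := rfl
theorem F13014 : act 2 n2648 = n1851 := d22_1 D2648 (iv D1851) (iv F9251)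
theorem F13015 : act 4 n2648 = n1918 := d33_1 D2648 (iv D1918) (iv F9252)
theorem F13016 : act 7 n2648 = n2648 := d42_1 D2648 (iv D2648) F9253
theorem F13017 : act 9 n2648 = n1866 := d44_2 D1847 D2648 (iv D1866) (iv D1297) (iv F6566)
def n2649 : Q := act 4 n1848
theorem D2649 : act 4 n1848 = n2649 := rfl
theorem F13018 : act 1 n2649 = n1987 := d11_1 D2649 (iv D1987) (iv F9254)
theorem F13019 : act 3 n2649 = n2649 := d24_1 D2649 (iv D2649) F9255 F6576 (iv F9255)
theorem F13020 : act 5 n2649 = n1919 := d30_2 D1848 D2649 (iv D1919) (iv D1336) (iv F6569)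
def n2650 : Q := act 7 n1848
theorem D2650 : act 7 n1848 = n2650 := rfl
theorem F13021 : act 1 n2650 = n1988 := d14_1 D2650 (iv D1988) (iv F9254)
theorem F13022 : act 3 n2650 = n1852 := d27_1 D2650 (iv D1852) (iv F9255)
theorem F13023 : act 5 n2650 = n1849 := d36_1 D2650 (iv D1849) D1848
def n2651 : Q := act 8 n1848
theorem D2651 : act 8 n1848 = n2651 := rfl
theorem F13024 : act 1 n2651 = n1989 := d15_1 D2651 (iv D1989) (iv F9254)
theorem F13025 : act 3 n2651 = n1853 := d28_1 D2651 (iv D1853) (iv F9255)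
theorem F13026 : act 5 n2651 = n1868 := d37_1 D2651 (iv D1868) (iv D1298) (iv F6570) D1848
def n2652 : Q := act 9 n1848
theorem D2652 : act 9 n1848 = n2652 := rfl
theorem F13027 : act 1 n2652 = n1990 := d16_1 D2652 (iv D1990) (iv F9254)
theorem F13028 : act 3 n2652 = n1854 := d29_1 D2652 (iv D1854) (iv F9255)
theorem F13029 : act 5 n2652 = n1850 := d38_1 D2652 (iv D1850) D1848
def n2653 : Q := act 9 n1849
theorem D2653 : act 9 n1849 = n2653 := rfl
theorem F13030 : act 1 n2653 = n1991 := d16_1 D2653 (iv D1991) (iv F9256)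
theorem F13031 : act 3 n2653 = n1855 := d29_1 D2653 (iv D1855) (iv F9257)
theorem F13032 : act 4 n2653 = n1922 := d34_1 D2653 (iv D1922) (iv F9258)
theorem F13033 : act 6 n2653 = n2653 := d41_1 D2653 (iv D2653) F9259
theorem F13034 : act 7 n2653 = n1850 := d43_1 D2653 (iv D1850) D1849
def n2654 : Q := act 8 n1850
theorem D2654 : act 8 n1850 = n2654 := rfl
theorem F13035 : act 1 n2654 = n1992 := d15_1 D2654 (iv D1992) (iv F9261)
theorem F13036 : act 3 n2654 = n1856 := d28_1 D2654 (iv D1856) (iv F9262)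
theorem F13037 : act 4 n2654 = n1923 := d33_1 D2654 (iv D1923) (iv F9263)
theorem F13038 : act 6 n2654 = n1851 := d40_1 D2654 (iv D1851) (iv F9264)
theorem F13039 : act 9 n2654 = n1871 := d44_2 D1850 D2654 (iv D1871) (iv D1300) (iv F6570)
def n2655 : Q := act 5 n1851
theorem D2655 : act 5 n1851 = n2655 := rfl
theorem F13040 : act 1 n2655 = n1993 := d12_1 D2655 (iv D1993) (iv F9265)
theorem F13041 : act 3 n2655 = n1857 := d25_1 D2655 (iv D1857) (iv F9266)
theorem F13042 : act 7 n2655 = n2655 := d36_2 F9268 D2655 (iv D2655)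
theorem F13043 : act 9 n2655 = n1872 := d38_2 (iv F9269) D2655 (iv D1872)
def n2656 : Q := act 6 n1852
theorem D2656 : act 6 n1852 = n2656 := rfl
theorem F13044 : act 1 n2656 = n1994 := d13_1 D2656 (iv D1994) (iv F9270)
theorem F13045 : act 4 n2656 = n2656 := d31_1 D2656 (iv D2656) F9271
theorem F13046 : act 5 n2656 = n2656 := d35_1 D2656 (iv D2656) F9272 F6579 (iv F9272)
def n2657 : Q := act 8 n1852
theorem D2657 : act 8 n1852 = n2657 := rfl
theorem F13047 : act 1 n2657 = n1995 := d15_1 D2657 (iv D1995) (iv F9270)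
theorem F13049 : act 5 n2657 = n1874 := d37_1 D2657 (iv D1874) F6625 (iv F6580) (iv F9272)
theorem F13050 : act 7 n2657 = n1853 := d42_1 D2657 (iv D1853) D1852
def n2658 : Q := act 9 n1852
theorem D2658 : act 9 n1852 = n2658 := rfl
theorem F13051 : act 1 n2658 = n1996 := d16_1 D2658 (iv D1996) (iv F9270)
theorem F13052 : act 4 n2658 = n2658 := d34_1 D2658 (iv D2658) F9271
theorem F13053 : act 5 n2658 = n1855 := d38_1 D2658 (iv D1855) (iv F9272)
theorem F13054 : act 7 n2658 = n1854 := d43_1 D2658 (iv D1854) D1852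
def n2659 : Q := act 9 n1853
theorem D2659 : act 9 n1853 = n2659 := rfl
theorem F13055 : act 1 n2659 = n1997 := d16_1 D2659 (iv D1997) (iv F9273)
theorem F13056 : act 4 n2659 = n2659 := d34_1 D2659 (iv D2659) F9274
theorem F13057 : act 5 n2659 = n1876 := d38_1 D2659 (iv D1876) (iv F9275)
def n2660 : Q := act 8 n1854
theorem D2660 : act 8 n1854 = n2660 := rfl
theorem F13058 : act 1 n2660 = n1998 := d15_1 D2660 (iv D1998) (iv F9276)
theorem F13059 : act 4 n2660 = n2660 := d33_1 D2660 (iv D2660) F9277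
def n2661 : Q := act 8 n1855
theorem D2661 : act 8 n1855 = n2661 := rfl
theorem F13060 : act 1 n2661 = n1999 := d15_1 D2661 (iv D1999) (iv F9279)
theorem F13061 : act 4 n2661 = n1858 := d33_1 D2661 (iv D1858) (iv F9280)
theorem F13062 : act 6 n2661 = n2661 := d40_1 D2661 (iv D2661) F9281
theorem F13063 : act 7 n2661 = n1856 := d42_1 D2661 (iv D1856) (iv F9282)
theorem F13064 : act 9 n2661 = n1878 := d44_2 D1855 D2661 (iv D1878) (iv D1305) (iv F6580)
def n2662 : Q := act 5 n1856
theorem D2662 : act 5 n1856 = n2662 := rfl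
theorem F13065 : act 1 n2662 = n2000 := d12_1 D2662 (iv D2000) (iv F9283)
theorem F13066 : act 9 n2662 = n1879 := d38_2 (iv F9286) D2662 (iv D1879)
def n2663 : Q := act 6 n1857
theorem D2663 : act 6 n1857 = n2663 := rfl
theorem F13067 : act 1 n2663 = n2001 := d13_1 D2663 (iv D2001) (iv F9287)
theorem F13068 : act 4 n2663 = n2663 := d31_1 D2663 (iv D2663) F9288
theorem F13069 : act 9 n2663 = n1880 := d41_2 (iv F9290) D2663 (iv D1880)
def n2664 : Q := act 5 n1858
theorem D2664 : act 5 n1858 = n2664 := rfl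
theorem F13070 : act 1 n2664 = n2002 := d12_1 D2664 (iv D2002) (iv F9291)
theorem F13071 : act 3 n2664 = n1931 := d25_1 D2664 (iv D1931) (iv F9292)
theorem F13072 : act 7 n2664 = n1859 := d36_2 (iv F9294) D2664 (iv D1859)
theorem F13073 : act 8 n2664 = n2664 := d37_2 D1858 D2664 (iv D2664) (iv D1858) F6590
theorem F13074 : act 9 n2664 = n1881 := d38_2 (iv F9295) D2664 (iv D1881)
def n2665 : Q := act 4 n1859
theorem D2665 : act 4 n1859 = n2665 := rfl
theorem F13075 : act 1 n2665 = n2003 := d11_1 D2665 (iv D2003) (iv F9296)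
theorem F13076 : act 6 n2665 = n2665 := d31_2 F9298 D2665 (iv D2665)
theorem F13077 : act 8 n2665 = n2665 := d33_2 F9299 D2665 (iv D2665)
theorem F13078 : act 9 n2665 = n1882 := d34_2 (iv F9300) D2665 (iv D1882)
def n2666 : Q := act 6 n1860
theorem D2666 : act 6 n1860 = n2666 := rfl
theorem F13079 : act 0 n2666 = n1861 := d5_1 D2666 (iv D1861) D1860
theorem F13080 : act 2 n2666 = n2004 := d20_1 D2666 (iv D2004) (iv F9301)
theorem F13081 : act 4 n2666 = n1933 := d31_1 D2666 (iv D1933) (iv F9302)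
def n2667 : Q := act 9 n1860
theorem D2667 : act 9 n1860 = n2667 := rfl
theorem F13082 : act 0 n2667 = n1862 := d8_1 D2667 (iv D1862) D1860
theorem F13083 : act 2 n2667 = n2005 := d23_1 D2667 (iv D2005) (iv F9301)
theorem F13084 : act 4 n2667 = n1934 := d34_1 D2667 (iv D1934) (iv F9302)
theorem F13085 : act 5 n2667 = n2667 := d38_1 D2667 (iv D2667) F9303
theorem F13086 : act 7 n2667 = n2667 := d43_1 D2667 (iv D2667) F9304
def n2668 : Q := act 5 n1861
theorem D2668 : act 5 n1861 = n2668 := rfl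
theorem F13087 : act 1 n2668 = n1863 := d12_1 D2668 (iv D1863) (iv F9305)
theorem F13088 : act 2 n2668 = n2006 := d19_1 D2668 (iv D2006) (iv F9306)
theorem F13089 : act 4 n2668 = n2668 := d30_1 D2668 (iv D2668) F9307 F6819 (iv F9307)
theorem F13090 : act 6 n2668 = n2668 := d35_2 D1861 D2668 (iv D2668) (iv D1861) F6599
def n2669 : Q := act 7 n1861
theorem D2669 : act 7 n1861 = n2669 := rfl
theorem F13091 : act 1 n2669 = n1864 := d14_1 D2669 (iv D1864) (iv F9305)
theorem F13092 : act 2 n2669 = n2007 := d21_1 D2669 (iv D2007) (iv F9306)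
theorem F13093 : act 4 n2669 = n1935 := d32_1 D2669 (iv D1935) (iv F9307)
theorem F13094 : act 6 n2669 = n2669 := d39_1 D2669 (iv D2669) (iv D1861) F6600 D1861
def n2670 : Q := act 9 n1861
theorem D2670 : act 9 n1861 = n2670 := rfl
theorem F13095 : act 1 n2670 = n1865 := d16_1 D2670 (iv D1865) (iv F9305)
theorem F13096 : act 2 n2670 = n2008 := d23_1 D2670 (iv D2008) (iv F9306)
theorem F13097 : act 4 n2670 = n1936 := d34_1 D2670 (iv D1936) (iv F9307)
theorem F13098 : act 6 n2670 = n1862 := d41_1 D2670 (iv D1862) D1861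
def n2671 : Q := act 8 n1862
theorem D2671 : act 8 n1862 = n2671 := rfl
theorem F13099 : act 1 n2671 = n1866 := d15_1 D2671 (iv D1866) (iv F9308)
theorem F13100 : act 2 n2671 = n2009 := d22_1 D2671 (iv D2009) (iv F9309)
theorem F13101 : act 4 n2671 = n1937 := d33_1 D2671 (iv D1937) (iv F9310)
theorem F13102 : act 7 n2671 = n2671 := d42_1 D2671 (iv D2671) F9312
def n2672 : Q := act 7 n1863
theorem D2672 : act 7 n1863 = n2672 := rfl
theorem F13103 : act 2 n2672 = n1867 := d21_1 D2672 (iv D1867) (iv F9313)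
theorem F13105 : act 5 n2672 = n1864 := d36_1 D2672 (iv D1864) D1863
def n2673 : Q := act 8 n1863
theorem D2673 : act 8 n1863 = n2673 := rfl
theorem F13106 : act 2 n2673 = n1868 := d22_1 D2673 (iv D1868) (iv F9313)
theorem F13107 : act 4 n2673 = n2673 := d33_1 D2673 (iv D2673) F9314
theorem F13108 : act 6 n2673 = n2673 := d40_1 D2673 (iv D2673) F9315
def n2674 : Q := act 9 n1863
theorem D2674 : act 9 n1863 = n2674 := rfl
theorem F13109 : act 2 n2674 = n1869 := d23_1 D2674 (iv D1869) (iv F9313)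
theorem F13110 : act 4 n2674 = n2674 := d34_1 D2674 (iv D2674) F9314
theorem F13111 : act 5 n2674 = n1865 := d38_1 D2674 (iv D1865) D1863
theorem F13112 : act 6 n2674 = n2674 := d41_1 D2674 (iv D2674) F9315
def n2675 : Q := act 9 n1864
theorem D2675 : act 9 n1864 = n2675 := rfl
theorem F13113 : act 2 n2675 = n1870 := d23_1 D2675 (iv D1870) (iv F9316)
theorem F13114 : act 4 n2675 = n1938 := d34_1 D2675 (iv D1938) (iv F9317)
theorem F13115 : act 6 n2675 = n2675 := d41_1 D2675 (iv D2675) F9318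
theorem F13116 : act 7 n2675 = n1865 := d43_1 D2675 (iv D1865) D1864
def n2676 : Q := act 8 n1865
theorem D2676 : act 8 n1865 = n2676 := rfl
theorem F13117 : act 2 n2676 = n1871 := d22_1 D2676 (iv D1871) (iv F9319)
theorem F13118 : act 4 n2676 = n1939 := d33_1 D2676 (iv D1939) (iv F9320)
theorem F13119 : act 6 n2676 = n1866 := d40_1 D2676 (iv D1866) (iv F9321)
def n2677 : Q := act 5 n1866
theorem D2677 : act 5 n1866 = n2677 := rfl
theorem F13120 : act 2 n2677 = n1872 := d19_1 D2677 (iv D1872) (iv F9322)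
theorem F13121 : act 7 n2677 = n2677 := d36_2 F9324 D2677 (iv D2677)
theorem F13122 : act 8 n2677 = n2677 := d37_2 D1866 D2677 (iv D2677) (iv D1866) F6605
def n2678 : Q := act 6 n1867
theorem D2678 : act 6 n1867 = n2678 := rfl
theorem F13124 : act 3 n2678 = n1873 := d26_1 D2678 (iv D1873) (iv F9326)
def n2679 : Q := act 8 n1867
theorem D2679 : act 8 n1867 = n2679 := rfl
theorem F13128 : act 1 n2679 = n2017 := d15_1 D2679 (iv D2017) (iv F9325)
theorem F13131 : act 7 n2679 = n1868 := d42_1 D2679 (iv D1868) D1867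
def n2680 : Q := act 9 n1867
theorem D2680 : act 9 n1867 = n2680 := rfl
theorem F13132 : act 1 n2680 = n2018 := d16_1 D2680 (iv D2018) (iv F9325)
theorem F13136 : act 7 n2680 = n1869 := d43_1 D2680 (iv D1869) D1867
def n2681 : Q := act 9 n1868
theorem D2681 : act 9 n1868 = n2681 := rfl
theorem F13137 : act 1 n2681 = n2019 := d16_1 D2681 (iv D2019) (iv F9329)
theorem F13138 : act 3 n2681 = n1876 := d29_1 D2681 (iv D1876) (iv F9330)
theorem F13139 : act 4 n2681 = n2681 := d34_1 D2681 (iv D2681) F9331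
theorem F13140 : act 6 n2681 = n2681 := d41_1 D2681 (iv D2681) F9332
def n2682 : Q := act 8 n1869
theorem D2682 : act 8 n1869 = n2682 := rfl
theorem F13141 : act 1 n2682 = n2020 := d15_1 D2682 (iv D2020) (iv F9333)
theorem F13142 : act 3 n2682 = n1877 := d28_1 D2682 (iv D1877) (iv F9334)
theorem F13143 : act 4 n2682 = n2682 := d33_1 D2682 (iv D2682) F9335
theorem F13144 : act 6 n2682 = n2682 := d40_1 D2682 (iv D2682) F9337
def n2683 : Q := act 8 n1870
theorem D2683 : act 8 n1870 = n2683 := rfl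
theorem F13145 : act 1 n2683 = n2021 := d15_1 D2683 (iv D2021) (iv F9338)
theorem F13146 : act 3 n2683 = n1878 := d28_1 D2683 (iv D1878) (iv F9339)
theorem F13147 : act 4 n2683 = n1941 := d33_1 D2683 (iv D1941) (iv F9340)
theorem F13148 : act 6 n2683 = n2683 := d40_1 D2683 (iv D2683) F9341
theorem F13149 : act 7 n2683 = n1871 := d42_1 D2683 (iv D1871) (iv F9342)
def n2684 : Q := act 5 n1871
theorem D2684 : act 5 n1871 = n2684 := rfl
theorem F13150 : act 1 n2684 = n2022 := d12_1 D2684 (iv D2022) (iv F9343)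

end Cfsg.Agent.Helper17.SP6TC
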