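import Cfsg.Agent.Helper17.SP6TC.Facts9

set_option autoImplicit false
set_option linter.all false

noncomputable section

namespace Cfsg.Agent.Helper17.SP6TC

theorem F139241 : act 0 n29894 = n26032 := d4_1 D29894 (iv D26032) (iv F108576)
theorem F139242 : act 1 n29894 = n29894 := d12_1 D29894 (iv D29894) F108577
theorem F139243 : act 6 n29894 = n24186 := d35_2 (iv F108578) D29894 (iv D24186) F86508 (iv F86411)
def n29895 : Q := act 9 n24162
theorem D29895 : act 9 n24162 = n29895 := rfl
theorem F139244 : act 0 n29895 = n26033 := d8_1 D29895 (iv D26033) (iv F108576)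
theorem F139245 : act 1 n29895 = n29895 := d16_1 D29895 (iv D29895) F108577
theorem F139246 : act 6 n29895 = n24163 := d41_1 D29895 (iv D24163) (iv F108578)
def n29896 : Q := act 5 n24175
theorem D29896 : act 5 n24175 = n29896 := rfl
theorem F139247 : act 0 n29896 = n26051 := d4_1 D29896 (iv D26051) (iv F108635)
theorem F139248 : act 1 n29896 = n29896 := d12_1 D29896 (iv D29896) F108636
theorem F139249 : act 3 n29896 = n25157 := d25_1 D29896 F113354 (iv F134763)
theorem F139250 : act 7 n29896 = n24770 := d36_2 (iv F108639) D29896 (iv D24770)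
theorem F139251 : act 8 n29896 = n24186 := d37_2 D24175 D29896 (iv D24186) (iv D19097) (iv F86453)
def n29897 : Q := act 8 n24177
theorem D29897 : act 8 n24177 = n29897 := rfl
theorem F139252 : act 0 n29897 = n24180 := d7_1 D29897 (iv D24180) (iv F108645)
theorem F139253 : act 1 n29897 = n24654 := d15_1 D29897 (iv D24654) (iv F133655)
theorem F139254 : act 2 n29897 = n29897 := d22_1 D29897 (iv D29897) F108647
theorem F139255 : act 4 n29897 = n29897 := d33_1 D29897 (iv D29897) F108648
theorem F139256 : act 6 n29897 = n24564 := d40_1 D29897 (iv D24564) (iv F133656)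
def n29898 : Q := act 8 n24179
theorem D29898 : act 8 n24179 = n29898 := rfl
theorem F139257 : act 1 n29898 = n24182 := d15_1 D29898 (iv D24182) (iv F108656)
theorem F139258 : act 2 n29898 = n29898 := d22_1 D29898 (iv D29898) F108657
theorem F139259 : act 4 n29898 = n29898 := d33_1 D29898 (iv D29898) F108658
theorem F139260 : act 7 n29898 = n24180 := d42_1 D29898 (iv D24180) D24179
def n29899 : Q := act 9 n24180
theorem D29899 : act 9 n24180 = n29899 := rfl
theorem F139261 : act 1 n29899 = n24183 := d16_1 D29899 (iv D24183) (iv F108661)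
theorem F139262 : act 2 n29899 = n29899 := d23_1 D29899 (iv D29899) F108662
theorem F139263 : act 4 n29899 = n29899 := d34_1 D29899 (iv D29899) F108663
theorem F139264 : act 6 n29899 = n24776 := d41_1 D29899 (iv D24776) (iv F108664)
theorem F139265 : act 8 n29899 = n24446 := d44_1 D29899 (iv D24446) (iv D19296) (iv F86474) D24180
def n29900 : Q := act 8 n24181
theorem D29900 : act 8 n24181 = n29900 := rfl
theorem F139266 : act 0 n29900 = n25800 := d7_1 D29900 (iv D25800) F134098
theorem F139267 : act 2 n29900 = n24184 := d22_1 D29900 (iv D24184) (iv F108666)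
theorem F139268 : act 4 n29900 = n29900 := d33_1 D29900 (iv D29900) F108667
theorem F139269 : act 6 n29900 = n24182 := d40_1 D29900 (iv D24182) D24181
theorem F139270 : act 7 n29900 = n24777 := d42_1 D29900 (iv D24777) (iv F108668)
def n29901 : Q := act 9 n24182
theorem D29901 : act 9 n24182 = n29901 := rfl
theorem F139271 : act 0 n29901 = n26059 := d8_1 D29901 (iv D26059) (iv F108670)
theorem F139272 : act 2 n29901 = n24185 := d23_1 D29901 (iv D24185) (iv F108671)
theorem F139273 : act 4 n29901 = n29901 := d34_1 D29901 (iv D29901) F108672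
theorem F139274 : act 7 n29901 = n24183 := d43_1 D29901 (iv D24183) (iv F108673)
theorem F139275 : act 8 n29901 = n24448 := d44_1 D29901 (iv D24448) (iv D19298) (iv F86483) D24182
def n29902 : Q := act 5 n24184
theorem D29902 : act 5 n24184 = n29902 := rfl
theorem F139276 : act 0 n29902 = n26060 := d4_1 D29902 (iv D26060) (iv F108679)
theorem F139277 : act 1 n29902 = n29902 := d12_1 D29902 (iv D29902) F108680
theorem F139278 : act 3 n29902 = n24186 := d25_1 D29902 (iv D24186) (iv F108681)
theorem F139279 : act 7 n29902 = n24779 := d36_2 (iv F108684) D29902 (iv D24779)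
theorem F139280 : act 8 n29902 = n25157 := d37_2 D24184 D29902 F113354 F90156 F133660
theorem F139281 : act 4 n25324 = n29902 := d33_3 F139280 F113353 D25324
def n29903 : Q := act 9 n24184
theorem D29903 : act 9 n24184 = n29903 := rfl
theorem F139282 : act 0 n29903 = n26061 := d8_1 D29903 (iv D26061) (iv F108679)
theorem F139283 : act 1 n29903 = n29903 := d16_1 D29903 (iv D29903) F108680
theorem F139284 : act 3 n29903 = n24187 := d29_1 D29903 (iv D24187) (iv F108681)
theorem F139285 : act 4 n29903 = n29903 := d34_1 D29903 (iv D29903) F108682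
theorem F139286 : act 6 n29903 = n24185 := d41_1 D29903 (iv D24185) (iv F108683)
theorem F139287 : act 7 n29903 = n24780 := d43_1 D29903 (iv D24780) (iv F108684)
theorem F139288 : act 8 n29903 = n24450 := d44_1 D29903 (iv D24450) (iv D19300) (iv F86493) D24184
def n29904 : Q := act 4 n24186
theorem D29904 : act 4 n24186 = n29904 := rfl
theorem F139289 : act 0 n29904 = n26062 := d3_1 D29904 (iv D26062) (iv F108691)
theorem F139290 : act 1 n29904 = n29904 := d11_1 D29904 (iv D29904) F108692
theorem F139291 : act 5 n29904 = n24188 := d30_2 D24186 D29904 (iv D24188) (iv D19099) (iv F86507)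
theorem F139292 : act 7 n29904 = n24781 := d32_2 (iv F108693) D29904 (iv D24781)
def n29905 : Q := act 9 n24186
theorem D29905 : act 9 n24186 = n29905 := rfl
theorem F139293 : act 0 n29905 = n26063 := d8_1 D29905 (iv D26063) (iv F108691)
theorem F139294 : act 1 n29905 = n29905 := d16_1 D29905 (iv D29905) F108692
theorem F139295 : act 5 n29905 = n24187 := d38_1 D29905 (iv D24187) D24186
theorem F139296 : act 7 n29905 = n24782 := d43_1 D29905 (iv D24782) (iv F108693)
def n29906 : Q := act 6 n24190
theorem D29906 : act 6 n24190 = n29906 := rfl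
theorem F139297 : act 0 n29906 = n24191 := d5_1 D29906 (iv D24191) D24190
theorem F139298 : act 1 n29906 = n26067 := d13_1 D29906 (iv D26067) (iv F108709)
theorem F139299 : act 2 n29906 = n29906 := d20_1 D29906 (iv D29906) F108710
theorem F139300 : act 3 n29906 = n25703 := d26_1 D29906 (iv D25703) (iv F108711)
theorem F139301 : act 8 n29906 = n29906 := d40_2 F108713 D29906 (iv D29906)
theorem F139302 : act 9 n29906 = n25207 := d41_2 (iv F108714) D29906 (iv D25207)
def n29907 : Q := act 5 n24191
theorem D29907 : act 5 n24191 = n29907 := rfl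
theorem F139303 : act 1 n29907 = n24192 := d12_1 D29907 (iv D24192) (iv F108715)
theorem F139304 : act 2 n29907 = n29907 := d19_1 D29907 (iv D29907) F108716
theorem F139305 : act 3 n29907 = n25704 := d25_1 D29907 (iv D25704) (iv F108717)
theorem F139306 : act 6 n29907 = n29907 := d35_2 D24191 D29907 (iv D29907) (iv D24191) F86528
theorem F139307 : act 9 n29907 = n25208 := d38_2 (iv F108719) D29907 (iv D25208)
def n29908 : Q := act 7 n24191
theorem D29908 : act 7 n24191 = n29908 := rfl
theorem F139308 : act 1 n29908 = n24193 := d14_1 D29908 (iv D24193) (iv F108715)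
theorem F139309 : act 2 n29908 = n29908 := d21_1 D29908 (iv D29908) F108716
theorem F139310 : act 3 n29908 = n25705 := d27_1 D29908 (iv D25705) (iv F108717)
theorem F139311 : act 8 n29908 = n29908 := d42_2 F108718 D29908 (iv D29908)
theorem F139312 : act 9 n29908 = n25209 := d43_2 (iv F108719) D29908 (iv D25209)
def n29909 : Q := act 4 n24192
theorem D29909 : act 4 n24192 = n29909 := rfl
theorem F139313 : act 0 n29909 = n26070 := d3_1 D29909 (iv D26070) (iv F108720)
theorem F139314 : act 2 n29909 = n24194 := d18_1 D29909 (iv D24194) (iv F108721)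
theorem F139315 : act 6 n29909 = n29909 := d31_2 F108723 D29909 (iv D29909)
theorem F139316 : act 9 n29909 = n25210 := d34_2 (iv F108724) D29909 (iv D25210)
theorem F139317 : act 8 n27117 = n29909 := d22_0 F139314 F135530 (iv F120872)
def n29910 : Q := act 7 n24192
theorem D29910 : act 7 n24192 = n29910 := rfl
theorem F139318 : act 0 n29910 = n26071 := d6_1 D29910 (iv D26071) (iv F108720)
theorem F139319 : act 2 n29910 = n24195 := d21_1 D29910 (iv D24195) (iv F108721)
theorem F139320 : act 3 n29910 = n25707 := d27_1 D29910 (iv D25707) (iv F108722)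
theorem F139321 : act 5 n29910 = n24193 := d36_1 D29910 (iv D24193) D24192
theorem F139322 : act 9 n29910 = n25211 := d43_2 (iv F108724) D29910 (iv D25211)
def n29911 : Q := act 8 n24192
theorem D29911 : act 8 n24192 = n29911 := rfl
theorem F139323 : act 0 n29911 = n26072 := d7_1 D29911 (iv D26072) (iv F108720)
theorem F139324 : act 2 n29911 = n24196 := d22_1 D29911 (iv D24196) (iv F108721)
theorem F139325 : act 3 n29911 = n25708 := d28_1 D29911 (iv D25708) (iv F108722)
theorem F139326 : act 4 n29911 = n27117 := d33_1 D29911 F139317 (iv D29909)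
theorem F139327 : act 5 n29911 = n29911 := d37_1 D29911 (iv D29911) (iv D24192) F86534 D24192
theorem F139328 : act 6 n29911 = n29911 := d40_1 D29911 (iv D29911) F108723
theorem F139329 : act 9 n29911 = n29911 := d44_2 (iv F108724) D29911 (iv D29911) F108724 F90293
def n29912 : Q := act 7 n24194
theorem D29912 : act 7 n24194 = n29912 := rfl
theorem F139330 : act 0 n29912 = n26073 := d6_1 D29912 (iv D26073) (iv F108730)
theorem F139331 : act 1 n29912 = n29912 := d14_1 D29912 (iv D29912) F108731
theorem F139332 : act 3 n29912 = n24205 := d27_1 D29912 (iv D24205) (iv F108732)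
theorem F139333 : act 4 n29912 = n24195 := d32_1 D29912 (iv D24195) D24194
theorem F139334 : act 8 n29912 = n27120 := d42_2 (iv F135530) D29912 (iv D27120)
theorem F139335 : act 9 n29912 = n25212 := d43_2 (iv F108734) D29912 (iv D25212)
def n29913 : Q := act 6 n24195
theorem D29913 : act 6 n24195 = n29913 := rfl
theorem F139336 : act 0 n29913 = n26075 := d5_1 D29913 (iv D26075) (iv F108735)
theorem F139337 : act 1 n29913 = n29913 := d13_1 D29913 (iv D29913) F108736
theorem F139338 : act 3 n29913 = n24197 := d26_1 D29913 (iv D24197) (iv F108737)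
theorem F139339 : act 7 n29913 = n29913 := d39_2 D24195 D29913 (iv D29913) (iv D24195) F86539
theorem F139340 : act 9 n29913 = n25213 := d41_2 (iv F108739) D29913 (iv D25213)
def n29914 : Q := act 8 n24195
theorem D29914 : act 8 n24195 = n29914 := rfl
theorem F139341 : act 0 n29914 = n26076 := d7_1 D29914 (iv D26076) (iv F108735)
theorem F139342 : act 1 n29914 = n29914 := d15_1 D29914 (iv D29914) F108736
theorem F139343 : act 3 n29914 = n24198 := d28_1 D29914 (iv D24198) (iv F108737)
theorem F139344 : act 4 n29914 = n27120 := d33_1 D29914 (iv F139334) F139333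
theorem F139345 : act 5 n29914 = n29914 := d37_1 D29914 (iv D29914) F108738 F86544 (iv F108738)
theorem F139346 : act 7 n29914 = n24196 := d42_1 D29914 (iv D24196) D24195
theorem F139347 : act 9 n29914 = n29914 := d44_2 (iv F108739) D29914 (iv D29914) F108739 F90304
def n29915 : Q := act 8 n24197
theorem D29915 : act 8 n24197 = n29915 := rfl
theorem F139348 : act 0 n29915 = n26077 := d7_1 D29915 (iv D26077) (iv F108746)
theorem F139349 : act 1 n29915 = n29915 := d15_1 D29915 (iv D29915) F108747
theorem F139350 : act 2 n29915 = n25713 := d22_1 D29915 (iv D25713) (iv F108748)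
theorem F139351 : act 4 n29915 = n24209 := d33_1 D29915 (iv D24209) (iv F108749)
theorem F139352 : act 6 n29915 = n24198 := d40_1 D29915 (iv D24198) D24197
theorem F139353 : act 7 n29915 = n29915 := d42_1 D29915 (iv D29915) F108750
theorem F139354 : act 9 n29915 = n29915 := d44_2 (iv F108751) D29915 (iv D29915) F108751 F90309
def n29916 : Q := act 3 n24202
theorem D29916 : act 3 n24202 = n29916 := rfl
theorem F139355 : act 0 n29916 = n25500 := d2_1 D29916 F114671 (iv F134807)
theorem F139356 : act 4 n29916 = n26095 := d24_2 D24202 D29916 (iv D26095) (iv D20560) (iv F86573)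
theorem F139357 : act 6 n29916 = n29916 := d26_2 F108778 D29916 (iv D29916)
theorem F139358 : act 8 n29916 = n25457 := d28_2 (iv F134808) D29916 F114487
theorem F139359 : act 9 n29916 = n25356 := d29_2 (iv F108779) D29916 (iv D25356)
def n29917 : Q := act 7 n24202
theorem D29917 : act 7 n24202 = n29917 := rfl
theorem F139360 : act 0 n29917 = n25502 := d6_1 D29917 F114681 (iv F134807)
theorem F139361 : act 2 n29917 = n24205 := d21_1 D29917 (iv D24205) (iv F108777)
theorem F139362 : act 4 n29917 = n24203 := d32_1 D29917 (iv D24203) D24202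
theorem F139363 : act 8 n29917 = n25459 := d42_2 (iv F134808) D29917 (iv D25459)
theorem F139364 : act 9 n29917 = n25357 := d43_2 (iv F108779) D29917 (iv D25357)
def n29918 : Q := act 6 n24203
theorem D29918 : act 6 n24203 = n29918 := rfl
theorem F139365 : act 0 n29918 = n25512 := d5_1 D29918 F114723 (iv F134725)
theorem F139366 : act 2 n29918 = n24207 := d20_1 D29918 (iv D24207) (iv F108781)
theorem F139367 : act 3 n29918 = n26097 := d26_1 D29918 (iv D26097) (iv F108782)
theorem F139368 : act 5 n29918 = n24227 := d35_1 D29918 (iv D24227) F86676 (iv F86579) (iv F108783)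
theorem F139369 : act 7 n29918 = n29918 := d39_2 D24203 D29918 (iv D29918) (iv D24203) F86574
theorem F139370 : act 8 n29918 = n25467 := d40_2 (iv F134726) D29918 (iv D25467)
theorem F139371 : act 9 n29918 = n25358 := d41_2 (iv F108784) D29918 (iv D25358)
def n29919 : Q := act 6 n24205
theorem D29919 : act 6 n24205 = n29919 := rfl
theorem F139372 : act 0 n29919 = n26088 := d5_1 D29919 (iv D26088) (iv F108791)
theorem F139373 : act 1 n29919 = n29919 := d13_1 D29919 (iv D29919) F108792
theorem F139374 : act 4 n29919 = n24207 := d31_1 D29919 (iv D24207) (iv F108793)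
theorem F139375 : act 7 n29919 = n29919 := d39_2 D24205 D29919 (iv D29919) (iv D24205) F86584
theorem F139376 : act 8 n29919 = n27122 := d40_2 (iv F135531) D29919 (iv D27122)
theorem F139377 : act 9 n29919 = n25359 := d41_2 (iv F108794) D29919 (iv D25359)
def n29920 : Q := act 3 n24213
theorem D29920 : act 3 n24213 = n29920 := rfl
theorem F139378 : act 0 n29920 = n26095 := d2_1 D29920 (iv D26095) (iv F108836)
theorem F139379 : act 1 n29920 = n25567 := d10_1 D29920 F114894 (iv F134810)
theorem F139380 : act 4 n29920 = n25500 := d24_2 D24213 D29920 F114671 F91149 (iv F134153)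
theorem F139381 : act 6 n29920 = n29920 := d26_2 F108838 D29920 (iv D29920)
theorem F139382 : act 8 n29920 = n25498 := d28_2 (iv F134811) D29920 F114663
theorem F139383 : act 9 n29920 = n24225 := d29_2 (iv F108839) D29920 (iv D24225)
def n29921 : Q := act 7 n24213
theorem D29921 : act 7 n24213 = n29921 := rfl
theorem F139384 : act 0 n29921 = n26096 := d6_1 D29921 (iv D26096) (iv F108836)
theorem F139385 : act 1 n29921 = n25574 := d14_1 D29921 F114919 (iv F134810)
theorem F139386 : act 2 n29921 = n24216 := d21_1 D29921 (iv D24216) (iv F108837)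
theorem F139387 : act 4 n29921 = n24214 := d32_1 D29921 (iv D24214) D24213
theorem F139388 : act 8 n29921 = n25507 := d42_2 (iv F134811) D29921 (iv D25507)
theorem F139389 : act 9 n29921 = n24226 := d43_2 (iv F108839) D29921 (iv D24226)
def n29922 : Q := act 6 n24214
theorem D29922 : act 6 n24214 = n29922 := rfl
theorem F139390 : act 0 n29922 = n26097 := d5_1 D29922 (iv D26097) (iv F108840)
theorem F139391 : act 1 n29922 = n25577 := d13_1 D29922 F114928 (iv F134730)
theorem F139392 : act 2 n29922 = n24218 := d20_1 D29922 (iv D24218) (iv F108841)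
theorem F139393 : act 3 n29922 = n25512 := d26_1 D29922 F114723 (iv F134731)
theorem F139394 : act 5 n29922 = n25358 := d35_1 D29922 (iv D25358) F90737 (iv F86629) (iv F108843)
theorem F139395 : act 7 n29922 = n29922 := d39_2 D24214 D29922 (iv D29922) (iv D24214) F86624
theorem F139396 : act 8 n29922 = n25509 := d40_2 (iv F134732) D29922 (iv D25509)
theorem F139397 : act 9 n29922 = n24227 := d41_2 (iv F108844) D29922 (iv D24227)
def n29923 : Q := act 6 n24216
theorem D29923 : act 6 n24216 = n29923 := rfl
theorem F139398 : act 0 n29923 = n26099 := d5_1 D29923 (iv D26099) (iv F108851)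
theorem F139399 : act 1 n29923 = n29923 := d13_1 D29923 (iv D29923) F108852
theorem F139400 : act 4 n29923 = n24218 := d31_1 D29923 (iv D24218) (iv F108853)
theorem F139401 : act 7 n29923 = n29923 := d39_2 D24216 D29923 (iv D29923) (iv D24216) F86634
theorem F139402 : act 9 n29923 = n24228 := d41_2 (iv F108854) D29923 (iv D24228)
def n29924 : Q := act 8 n24216
theorem D29924 : act 8 n24216 = n29924 := rfl
theorem F139403 : act 0 n29924 = n26100 := d7_1 D29924 (iv D26100) (iv F108851)
theorem F139404 : act 1 n29924 = n29924 := d15_1 D29924 (iv D29924) F108852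
theorem F139405 : act 2 n29924 = n25507 := d22_1 D29924 (iv F139388) F139386
theorem F139406 : act 4 n29924 = n24219 := d33_1 D29924 (iv D24219) (iv F108853)
theorem F139407 : act 7 n29924 = n24217 := d42_1 D29924 (iv D24217) D24216
theorem F139408 : act 9 n29924 = n29924 := d44_2 (iv F108854) D29924 (iv D29924) F108854 F86681
theorem F139409 : act 5 n27317 = n29924 := d36_3 F139407 (iv F108860) D27317
def n29925 : Q := act 8 n24218
theorem D29925 : act 8 n24218 = n29925 := rfl
theorem F139410 : act 0 n29925 = n26101 := d7_1 D29925 (iv D26101) (iv F108861)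
theorem F139411 : act 1 n29925 = n29925 := d15_1 D29925 (iv D29925) F108862
theorem F139412 : act 2 n29925 = n25509 := d22_1 D29925 (iv F139396) F139392
theorem F139413 : act 3 n29925 = n24220 := d28_1 D29925 (iv D24220) (iv F108863)
theorem F139414 : act 5 n29925 = n29925 := d37_1 D29925 (iv D29925) F108864 F90745 (iv F108864)
theorem F139415 : act 6 n29925 = n24219 := d40_1 D29925 (iv D24219) D24218
theorem F139416 : act 7 n29925 = n29925 := d42_1 D29925 (iv D29925) F108865
theorem F139417 : act 9 n29925 = n29925 := d44_2 (iv F108866) D29925 (iv D29925) F108866 F86686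
def n29926 : Q := act 3 n24223
theorem D29926 : act 3 n24223 = n29926 := rfl
theorem F139418 : act 1 n29926 = n24225 := d10_1 D29926 (iv D24225) (iv F108889)
theorem F139419 : act 4 n29926 = n25570 := d24_2 D24223 D29926 F114902 F91309 (iv F134335)
theorem F139420 : act 6 n29926 = n29926 := d26_2 F108891 D29926 (iv D29926)
theorem F139421 : act 8 n29926 = n29926 := d28_2 F108892 D29926 (iv D29926)
theorem F139422 : act 9 n29926 = n25567 := d29_2 (iv F135022) D29926 F114894
def n29927 : Q := act 7 n24223
theorem D29927 : act 7 n24223 = n29927 := rfl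
theorem F139423 : act 1 n29927 = n24226 := d14_1 D29927 (iv D24226) (iv F108889)
theorem F139424 : act 2 n29927 = n29927 := d21_1 D29927 (iv D29927) F108890
theorem F139425 : act 4 n29927 = n24224 := d32_1 D29927 (iv D24224) D24223
theorem F139426 : act 8 n29927 = n29927 := d42_2 F108892 D29927 (iv D29927)
theorem F139427 : act 9 n29927 = n25574 := d43_2 (iv F135022) D29927 F114919
def n29928 : Q := act 6 n24224
theorem D29928 : act 6 n24224 = n29928 := rfl
theorem F139428 : act 1 n29928 = n24227 := d13_1 D29928 (iv D24227) (iv F108893)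
theorem F139429 : act 2 n29928 = n29928 := d20_1 D29928 (iv D29928) F108894
theorem F139430 : act 3 n29928 = n25580 := d26_1 D29928 F114940 (iv F135020)
theorem F139431 : act 7 n29928 = n29928 := d39_2 D24224 D29928 (iv D29928) (iv D24224) F86665
theorem F139432 : act 8 n29928 = n29928 := d40_2 F108896 D29928 (iv D29928)
theorem F139433 : act 9 n29928 = n25577 := d41_2 (iv F135021) D29928 F114928
def n29929 : Q := act 7 n24225
theorem D29929 : act 7 n24225 = n29929 := rfl
theorem F139434 : act 0 n29929 = n26107 := d6_1 D29929 (iv D26107) (iv F108897)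
theorem F139435 : act 3 n29929 = n24226 := d27_1 D29929 (iv D24226) D24225
theorem F139436 : act 8 n29929 = n29929 := d42_2 F108899 D29929 (iv D29929)
def n29930 : Q := act 6 n24226
theorem D29930 : act 6 n24226 = n29930 := rfl
theorem F139437 : act 0 n29930 = n26108 := d5_1 D29930 (iv D26108) (iv F108900)
theorem F139438 : act 2 n29930 = n24228 := d20_1 D29930 (iv D24228) (iv F108901)
theorem F139439 : act 4 n29930 = n24227 := d31_1 D29930 (iv D24227) (iv F108902)
theorem F139440 : act 7 n29930 = n29930 := d39_2 D24226 D29930 (iv D29930) (iv D24226) F86672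
theorem F139441 : act 8 n29930 = n29930 := d40_2 F108903 D29930 (iv D29930)
def n29931 : Q := act 5 n24228
theorem D29931 : act 5 n24228 = n29931 := rfl
theorem F139442 : act 0 n29931 = n26109 := d4_1 D29931 (iv D26109) (iv F108908)
theorem F139443 : act 1 n29931 = n29931 := d12_1 D29931 (iv D29931) F108909
theorem F139444 : act 7 n29931 = n29931 := d36_2 F108911 D29931 (iv D29931)
def n29932 : Q := act 1 n24246
theorem D29932 : act 1 n24246 = n29932 := rfl
theorem F139445 : act 0 n29932 = n24658 := d0_1 D29932 F110961 F88239 F133497 (iv F109010)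
theorem F139446 : act 2 n29932 = n24890 := d9_2 D24246 D29932 F112079 F134198 (iv F86776)
theorem F139447 : act 3 n29932 = n29932 := d10_2 F109011 D29932 (iv D29932)
theorem F139448 : act 4 n29932 = n24561 := d11_2 (iv F133583) D29932 F110550
theorem F139449 : act 5 n29932 = n29932 := d12_2 F109013 D29932 (iv D29932)
theorem F139450 : act 7 n29932 = n24560 := d14_2 F134179 D29932 F110546
theorem F139451 : act 9 n29932 = n24250 := d16_2 (iv F109015) D29932 (iv D24250)
def n29933 : Q := act 6 n24246
theorem D29933 : act 6 n24246 = n29933 := rfl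
theorem F139452 : act 0 n29933 = n24281 := d5_1 D29933 (iv D24281) (iv F109010)
theorem F139453 : act 2 n29933 = n24247 := d20_1 D29933 (iv D24247) D24246
theorem F139454 : act 3 n29933 = n29933 := d26_1 D29933 (iv D29933) F109011
theorem F139455 : act 4 n29933 = n24651 := d31_1 D29933 (iv D24651) (iv F133583)
theorem F139456 : act 9 n29933 = n24251 := d41_2 (iv F109015) D29933 (iv D24251)
def n29934 : Q := act 5 n24247
theorem D29934 : act 5 n24247 = n29934 := rfl
theorem F139457 : act 0 n29934 = n24282 := d4_1 D29934 (iv D24282) (iv F109016)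
theorem F139458 : act 1 n29934 = n25418 := d12_1 D29934 F134859 (iv F109017)
theorem F139459 : act 3 n29934 = n24248 := d25_1 D29934 (iv D24248) (iv F109018)
theorem F139460 : act 6 n29934 = n29934 := d35_2 D24247 D29934 (iv D29934) (iv D24247) F86778
theorem F139461 : act 9 n29934 = n24252 := d38_2 (iv F109020) D29934 (iv D24252)
def n29935 : Q := act 7 n24247
theorem D29935 : act 7 n24247 = n29935 := rfl
theorem F139462 : act 0 n29935 = n24283 := d6_1 D29935 (iv D24283) (iv F109016)
theorem F139463 : act 1 n29935 = n26134 := d14_1 D29935 (iv D26134) (iv F109017)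
theorem F139464 : act 3 n29935 = n24249 := d27_1 D29935 (iv D24249) (iv F109018)
theorem F139465 : act 4 n29935 = n25739 := d32_1 D29935 (iv D25739) (iv F109019)
theorem F139466 : act 6 n29935 = n25233 := d39_1 D29935 (iv D25233) (iv D19928) (iv F86779) D24247
theorem F139467 : act 9 n29935 = n24253 := d43_2 (iv F109020) D29935 (iv D24253)
def n29936 : Q := act 7 n24248
theorem D29936 : act 7 n24248 = n29936 := rfl
theorem F139468 : act 0 n29936 = n24284 := d6_1 D29936 (iv D24284) (iv F109021)
theorem F139469 : act 1 n29936 = n25443 := d14_1 D29936 F114437 (iv F134702)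
theorem F139470 : act 2 n29936 = n29936 := d21_1 D29936 (iv D29936) F109023
theorem F139471 : act 4 n29936 = n29936 := d32_1 D29936 (iv D29936) F109024
theorem F139472 : act 5 n29936 = n24249 := d36_1 D29936 (iv D24249) D24248
theorem F139473 : act 9 n29936 = n24254 := d43_2 (iv F109026) D29936 (iv D24254)
def n29937 : Q := act 8 n24248
theorem D29937 : act 8 n24248 = n29937 := rfl
theorem F139474 : act 0 n29937 = n24285 := d7_1 D29937 (iv D24285) (iv F109021)
theorem F139475 : act 1 n29937 = n25345 := d15_1 D29937 F114049 (iv F134702)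
theorem F139476 : act 2 n29937 = n29937 := d22_1 D29937 (iv D29937) F109023
theorem F139477 : act 4 n29937 = n29937 := d33_1 D29937 (iv D29937) F109024
theorem F139478 : act 6 n29937 = n29937 := d40_1 D29937 (iv D29937) F109025
theorem F139479 : act 9 n29937 = n25342 := d44_2 (iv F109026) D29937 (iv D25342) F90676 (iv F134065)
def n29938 : Q := act 6 n24250
theorem D29938 : act 6 n24250 = n29938 := rfl
theorem F139480 : act 0 n29938 = n24368 := d5_1 D29938 F109589 (iv F133576)
theorem F139481 : act 1 n29938 = n24251 := d13_1 D29938 (iv D24251) D24250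
theorem F139482 : act 2 n29938 = n24302 := d20_1 D29938 F109296 F134188
theorem F139483 : act 3 n29938 = n29938 := d26_1 D29938 (iv D29938) F109034
theorem F139484 : act 4 n29938 = n24366 := d31_1 D29938 F133642 (iv F133853)
theorem F139485 : act 8 n29938 = n24263 := d40_2 (iv F109038) D29938 (iv D24263)
theorem F139486 : act 5 n24347 = n29938 := d45_45 (iv F114212) F114213 F134686 F93035 F73371 (iv D12538) (iv F57649) (iv F73342) (iv F133964) F57761 (iv F67220) F67221 (iv F84847) (iv D18753) F67214 (iv F67268) F67269 F67270 F53169 (iv D9818) F36596 (iv F36618) (iv F45733) (iv F56535) D15699 F71799 D20063 D25417 F114341 F90911 F71814 F56560 (iv F71838) F71839 (iv D15712) F56556 F44903 (iv F56585) (iv F69014) (iv D15089) (iv D11756) D11757 (iv F68856) (iv F87115) (iv F109500) (iv D29938) (iv F134186) F134187 F133852 F89092 F70370 F70371 F55441 (iv D9364) F35241 F35239 (iv F44029) F44030 D11965 (iv F68772) D19195 D24315 F133606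
def n29939 : Q := act 5 n24251
theorem D29939 : act 5 n24251 = n29939 := rfl
theorem F139487 : act 0 n29939 = n24288 := d4_1 D29939 (iv D24288) (iv F109039)
theorem F139488 : act 1 n29939 = n24347 := d12_1 D29939 F139486 F139481
theorem F139489 : act 2 n29939 = n24252 := d19_1 D29939 (iv D24252) (iv F109040)
theorem F139490 : act 3 n29939 = n29939 := d25_1 D29939 (iv D29939) F109041
theorem F139491 : act 4 n29939 = n24292 := d30_1 D29939 F109250 F132944 (iv F89247) (iv F133582)
theorem F139492 : act 6 n29939 = n29939 := d35_2 D24251 D29939 (iv D29939) (iv D24251) F86796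
theorem F139493 : act 8 n29939 = n24290 := d37_2 (iv F109043) D29939 F134685 F134057 (iv D24264)
def n29940 : Q := act 7 n24251
theorem D29940 : act 7 n24251 = n29940 := rfl
theorem F139494 : act 0 n29940 = n24289 := d6_1 D29940 (iv D24289) (iv F109039)
theorem F139495 : act 2 n29940 = n24253 := d21_1 D29940 (iv D24253) (iv F109040)
theorem F139496 : act 3 n29940 = n29940 := d27_1 D29940 (iv D29940) F109041
theorem F139497 : act 4 n29940 = n24361 := d32_1 D29940 F109561 (iv F133582)
theorem F139498 : act 6 n29940 = n24359 := d39_1 D29940 (iv D24359) F87156 F133363 D24251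
theorem F139499 : act 8 n29940 = n24265 := d42_2 (iv F109043) D29940 (iv D24265)
def n29941 : Q := act 4 n24252
theorem D29941 : act 4 n24252 = n29941 := rfl
theorem F139500 : act 0 n29941 = n24290 := d3_1 D29941 (iv D24290) (iv F109044)
theorem F139501 : act 1 n29941 = n25415 := d11_1 D29941 F114336 (iv F134698)
theorem F139502 : act 2 n29941 = n24292 := d18_1 D29941 (iv F139491) F139489
theorem F139503 : act 3 n29941 = n29941 := d24_1 D29941 (iv D29941) F109046 F86807 (iv F109046)
theorem F139504 : act 5 n29941 = n24311 := d30_2 D24252 D29941 F133614 (iv F133342) (iv F86802)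
theorem F139505 : act 6 n29941 = n29941 := d31_2 F109047 D29941 (iv D29941)
theorem F139506 : act 8 n29941 = n24288 := d33_2 (iv F134699) D29941 F133578
def n29942 : Q := act 7 n24252
theorem D29942 : act 7 n24252 = n29942 := rfl
theorem F139507 : act 0 n29942 = n24291 := d6_1 D29942 (iv D24291) (iv F109044)
theorem F139508 : act 1 n29942 = n25417 := d14_1 D29942 F114343 (iv F134698)
theorem F139509 : act 3 n29942 = n24254 := d27_1 D29942 (iv D24254) (iv F109046)
theorem F139510 : act 5 n29942 = n24253 := d36_1 D29942 (iv D24253) D24252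
theorem F139511 : act 8 n29942 = n25412 := d42_2 (iv F134699) D29942 (iv D25412)
def n29943 : Q := act 6 n24254
theorem D29943 : act 6 n24254 = n29943 := rfl
theorem F139512 : act 0 n29943 = n24293 := d5_1 D29943 (iv D24293) (iv F109054)
theorem F139513 : act 1 n29943 = n25442 := d13_1 D29943 F114433 (iv F134700)
theorem F139514 : act 2 n29943 = n29943 := d20_1 D29943 (iv D29943) F109056
theorem F139515 : act 4 n29943 = n29943 := d31_1 D29943 (iv D29943) F109057
theorem F139516 : act 5 n29943 = n25367 := d35_1 D29943 (iv D25367) F90767 (iv F86813) (iv F109058)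
theorem F139517 : act 7 n29943 = n29943 := d39_2 D24254 D29943 (iv D29943) (iv D24254) F86808
theorem F139518 : act 8 n29943 = n25427 := d40_2 (iv F134701) D29943 F134704
def n29944 : Q := act 6 n24256
theorem D29944 : act 6 n24256 = n29944 := rfl
theorem F139519 : act 0 n29944 = n24307 := d5_1 D29944 F109318 (iv F133845)
theorem F139520 : act 1 n29944 = n24257 := d13_1 D29944 (iv D24257) D24256
theorem F139521 : act 2 n29944 = n24366 := d20_1 D29944 F133642 (iv F133852)
theorem F139522 : act 3 n29944 = n29944 := d26_1 D29944 (iv D29944) F109066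
theorem F139523 : act 4 n29944 = n24302 := d31_1 D29944 F109296 F134189
theorem F139524 : act 5 n29944 = n24306 := d35_1 D29944 (iv D24306) F86984 (iv F133028) (iv F109068)
theorem F139525 : act 8 n29944 = n24300 := d40_2 F134187 D29944 F109289
def n29945 : Q := act 5 n24257
theorem D29945 : act 5 n24257 = n29945 := rfl
theorem F139526 : act 0 n29945 = n24263 := d4_1 D29945 F134840 (iv F109071)
theorem F139527 : act 1 n29945 = n24306 := d12_1 D29945 (iv F139524) F139520
theorem F139528 : act 2 n29945 = n24258 := d19_1 D29945 (iv D24258) (iv F109072)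
theorem F139529 : act 3 n29945 = n29945 := d25_1 D29945 (iv D29945) F109073
theorem F139530 : act 4 n29945 = n24370 := d30_1 D29945 F133858 F90907 (iv F87162) (iv F134399)
theorem F139531 : act 6 n29945 = n24262 := d35_2 D24257 D29945 F133597 (iv D19609) (iv F86818)
theorem F139532 : act 8 n29945 = n24368 := d37_2 (iv F134400) D29945 F133857 (iv D20702) (iv F87155)
def n29946 : Q := act 7 n24257
theorem D29946 : act 7 n24257 = n29946 := rfl
theorem F139533 : act 0 n29946 = n24299 := d6_1 D29946 (iv D24299) (iv F109071)
theorem F139534 : act 2 n29946 = n24259 := d21_1 D29946 (iv D24259) (iv F109072)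
theorem F139535 : act 3 n29946 = n29946 := d27_1 D29946 (iv D29946) F109073
theorem F139536 : act 4 n29946 = n24362 := d32_1 D29946 F109565 (iv F134399)
theorem F139537 : act 6 n29946 = n24265 := d39_1 D29946 (iv D24265) (iv D19160) (iv F86819) D24257
theorem F139538 : act 8 n29946 = n24359 := d42_2 (iv F134400) D29946 (iv D24359)
def n29947 : Q := act 4 n24258
theorem D29947 : act 4 n24258 = n29947 := rfl
theorem F139539 : act 0 n29947 = n24300 := d3_1 D29947 (iv D24300) (iv F109076)
theorem F139540 : act 1 n29947 = n24311 := d11_1 D29947 F133614 (iv F133847)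
theorem F139541 : act 2 n29947 = n24370 := d18_1 D29947 (iv F139530) F139528
theorem F139542 : act 3 n29947 = n29947 := d24_1 D29947 (iv D29947) F109078 F86829 (iv F109078)
theorem F139543 : act 5 n29947 = n25415 := d30_2 D24258 D29947 F114336 F134203 (iv F86824)
theorem F139544 : act 6 n29947 = n24859 := d31_2 (iv F109079) D29947 (iv D24859)
theorem F139545 : act 8 n24307 = n29947 := d40_0 F139544 (iv F111913) (iv F109318)
def n29948 : Q := act 7 n24258
theorem D29948 : act 7 n24258 = n29948 := rfl
theorem F139546 : act 0 n29948 = n24301 := d6_1 D29948 (iv D24301) (iv F109076)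
theorem F139547 : act 1 n29948 = n24373 := d14_1 D29948 F109608 (iv F133847)
theorem F139548 : act 3 n29948 = n24260 := d27_1 D29948 (iv D24260) (iv F109078)
theorem F139549 : act 5 n29948 = n24259 := d36_1 D29948 (iv D24259) D24258
theorem F139550 : act 6 n29948 = n24369 := d39_1 D29948 (iv D24369) F87184 F133052 (iv F109079)
def n29949 : Q := act 8 n24258
theorem D29949 : act 8 n24258 = n29949 := rfl
theorem F139551 : act 0 n29949 = n24302 := d7_1 D29949 (iv D24302) (iv F109076)
theorem F139552 : act 1 n29949 = n24309 := d15_1 D29949 F133713 (iv F133847)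
theorem F139553 : act 2 n29949 = n24368 := d22_1 D29949 (iv F139532) F139528
theorem F139554 : act 3 n29949 = n24261 := d28_1 D29949 (iv D24261) (iv F109078)
theorem F139555 : act 4 n29949 = n24307 := d33_1 D29949 F139545 (iv D29947)
theorem F139556 : act 5 n29949 = n25366 := d37_1 D29949 (iv D25366) (iv D20026) (iv F86825) D24258
theorem F139557 : act 6 n29949 = n24861 := d40_1 D29949 (iv D24861) (iv F109079)
def n29950 : Q := act 8 n24260
theorem D29950 : act 8 n24260 = n29950 := rfl
theorem F139558 : act 0 n29950 = n24304 := d7_1 D29950 (iv D24304) (iv F109086)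
theorem F139559 : act 1 n29950 = n24447 := d15_1 D29950 (iv D24447) (iv F133663)
theorem F139560 : act 2 n29950 = n29950 := d22_1 D29950 (iv D29950) F109088
theorem F139561 : act 4 n29950 = n29950 := d33_1 D29950 (iv D29950) F109089
theorem F139562 : act 5 n29950 = n25368 := d37_1 D29950 (iv D25368) F90767 (iv F86836) (iv F109090)
theorem F139563 : act 6 n29950 = n24445 := d40_1 D29950 (iv D24445) (iv F133664)
theorem F139564 : act 7 n29950 = n24261 := d42_1 D29950 (iv D24261) D24260
def n29951 : Q := act 9 n24261
theorem D29951 : act 9 n24261 = n29951 := rfl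
theorem F139565 : act 0 n29951 = n24305 := d8_1 D29951 (iv D24305) (iv F109091)
theorem F139566 : act 1 n29951 = n24994 := d16_1 D29951 (iv D24994) (iv F133849)
theorem F139567 : act 2 n29951 = n29951 := d23_1 D29951 (iv D29951) F109093
theorem F139568 : act 4 n29951 = n29951 := d34_1 D29951 (iv D29951) F109094
theorem F139569 : act 5 n29951 = n25369 := d38_1 D29951 (iv D25369) (iv F109095)
theorem F139570 : act 6 n29951 = n24864 := d41_1 D29951 (iv D24864) (iv F109096)
def n29952 : Q := act 7 n24263
theorem D29952 : act 7 n24263 = n29952 := rfl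
theorem F139571 : act 1 n29952 = n24265 := d14_1 D29952 (iv D24265) (iv F109101)
theorem F139572 : act 2 n29952 = n24301 := d21_1 D29952 (iv D24301) (iv F134839)
theorem F139573 : act 3 n29952 = n29952 := d27_1 D29952 (iv D29952) F109103
theorem F139574 : act 5 n29952 = n24299 := d36_1 D29952 (iv D24299) (iv F134840)
def n29953 : Q := act 7 n24264
theorem D29953 : act 7 n24264 = n29953 := rfl
theorem F139575 : act 0 n29953 = n24310 := d6_1 D29953 (iv D24310) (iv F109105)
theorem F139576 : act 1 n29953 = n24299 := d14_1 D29953 (iv D24299) F134206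
theorem F139577 : act 2 n29953 = n24267 := d21_1 D29953 (iv D24267) (iv F109107)
theorem F139578 : act 3 n29953 = n29953 := d27_1 D29953 (iv D29953) F109108
theorem F139579 : act 4 n29953 = n26190 := d32_1 D29953 (iv D26190) F134172
theorem F139580 : act 5 n29953 = n24265 := d36_1 D29953 (iv D24265) D24264
theorem F139581 : act 6 n29953 = n24308 := d39_1 D29953 (iv D24308) (iv D19191) (iv F86959) (iv F133586)
theorem F139582 : act 8 n29953 = n25384 := d42_2 F134057 D29953 (iv D25384)
def n29954 : Q := act 5 n24281
theorem D29954 : act 5 n24281 = n29954 := rfl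
theorem F139583 : act 1 n29954 = n25298 := d12_1 D29954 F113893 (iv F133580)
theorem F139584 : act 2 n29954 = n24282 := d19_1 D29954 (iv D24282) (iv F109200)
theorem F139585 : act 3 n29954 = n29954 := d25_1 D29954 (iv D29954) F109201
theorem F139586 : act 4 n29954 = n25296 := d30_1 D29954 (iv D25296) F90569 (iv F134094) (iv F109202)
theorem F139587 : act 6 n29954 = n29954 := d35_2 D24281 D29954 (iv D29954) (iv D24281) F86911
theorem F139588 : act 9 n29954 = n24288 := d38_2 (iv F109203) D29954 (iv D24288)
def n29955 : Q := act 7 n24281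
theorem D29955 : act 7 n24281 = n29955 := rfl
theorem F139589 : act 1 n29955 = n25918 := d14_1 D29955 (iv D25918) (iv F133580)
theorem F139590 : act 2 n29955 = n24283 := d21_1 D29955 (iv D24283) (iv F109200)
theorem F139591 : act 3 n29955 = n29955 := d27_1 D29955 (iv D29955) F109201
theorem F139592 : act 4 n29955 = n25795 := d32_1 D29955 (iv D25795) (iv F109202)
theorem F139593 : act 6 n29955 = n25258 := d39_1 D29955 (iv D25258) (iv D19945) (iv F86912) D24281
theorem F139594 : act 9 n29955 = n24289 := d43_2 (iv F109203) D29955 (iv D24289)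
def n29956 : Q := act 4 n24282
theorem D29956 : act 4 n24282 = n29956 := rfl
theorem F139595 : act 1 n29956 = n24334 := d11_1 D29956 (iv D24334) (iv F109204)
theorem F139596 : act 2 n29956 = n25296 := d18_1 D29956 (iv F139586) F139584
theorem F139597 : act 3 n29956 = n29956 := d24_1 D29956 (iv D29956) F109205 F86920 (iv F109205)
theorem F139598 : act 5 n29956 = n25256 := d30_2 D24282 D29956 F134687 (iv D20344) (iv F86916)
theorem F139599 : act 6 n29956 = n29956 := d31_2 F109206 D29956 (iv D29956)
theorem F139600 : act 9 n29956 = n24290 := d34_2 (iv F109207) D29956 (iv D24290)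
def n29957 : Q := act 7 n24282
theorem D29957 : act 7 n24282 = n29957 := rfl
theorem F139601 : act 1 n29957 = n24335 := d14_1 D29957 (iv D24335) (iv F109204)
theorem F139602 : act 3 n29957 = n24284 := d27_1 D29957 (iv D24284) (iv F109205)
theorem F139603 : act 5 n29957 = n24283 := d36_1 D29957 (iv D24283) D24282
theorem F139604 : act 9 n29957 = n24291 := d43_2 (iv F109207) D29957 (iv D24291)
def n29958 : Q := act 8 n24282
theorem D29958 : act 8 n24282 = n29958 := rfl
theorem F139605 : act 1 n29958 = n24336 := d15_1 D29958 (iv D24336) (iv F109204)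
theorem F139606 : act 3 n29958 = n24285 := d28_1 D29958 (iv D24285) (iv F109205)
theorem F139607 : act 6 n29958 = n29958 := d40_1 D29958 (iv D29958) F109206
def n29959 : Q := act 6 n24284
theorem D29959 : act 6 n24284 = n29959 := rfl
theorem F139608 : act 1 n29959 = n24337 := d13_1 D29959 (iv D24337) (iv F109213)
theorem F139609 : act 2 n29959 = n29959 := d20_1 D29959 (iv D29959) F109214
theorem F139610 : act 4 n29959 = n29959 := d31_1 D29959 (iv D29959) F109215
theorem F139611 : act 5 n29959 = n25262 := d35_1 D29959 (iv D25262) F90489 (iv F86926) (iv F109216)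
theorem F139612 : act 7 n29959 = n29959 := d39_2 D24284 D29959 (iv D29959) (iv D24284) F86921
theorem F139613 : act 9 n29959 = n24293 := d41_2 (iv F109217) D29959 (iv D24293)
def n29960 : Q := act 8 n24284
theorem D29960 : act 8 n24284 = n29960 := rfl
theorem F139614 : act 1 n29960 = n24338 := d15_1 D29960 (iv D24338) (iv F109213)
theorem F139615 : act 2 n29960 = n29960 := d22_1 D29960 (iv D29960) F109214
theorem F139616 : act 4 n29960 = n29960 := d33_1 D29960 (iv D29960) F109215
theorem F139617 : act 7 n29960 = n24285 := d42_1 D29960 (iv D24285) D24284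
def n29961 : Q := act 9 n24285
theorem D29961 : act 9 n24285 = n29961 := rfl
theorem F139618 : act 0 n29961 = n25342 := d8_1 D29961 (iv F139479) F139474
theorem F139619 : act 1 n29961 = n24339 := d16_1 D29961 (iv D24339) (iv F109218)
theorem F139620 : act 2 n29961 = n29961 := d23_1 D29961 (iv D29961) F109219
theorem F139621 : act 4 n29961 = n29961 := d34_1 D29961 (iv D29961) F109220
theorem F139622 : act 6 n29961 = n29961 := d41_1 D29961 (iv D29961) F109221
theorem F139623 : act 8 n29961 = n24295 := d44_1 D29961 (iv D24295) (iv D19183) (iv F86922) D24285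
def n29962 : Q := act 7 n24288
theorem D29962 : act 7 n24288 = n29962 := rfl
theorem F139624 : act 1 n29962 = n25414 := d14_1 D29962 (iv D25414) (iv F133577)
theorem F139625 : act 2 n29962 = n24291 := d21_1 D29962 (iv D24291) (iv F109233)
theorem F139626 : act 3 n29962 = n29962 := d27_1 D29962 (iv D29962) F109234
theorem F139627 : act 4 n29962 = n25412 := d32_1 D29962 (iv D25412) (iv F133578)
theorem F139628 : act 5 n29962 = n24289 := d36_1 D29962 (iv D24289) D24288
def n29963 : Q := act 7 n24290
theorem D29963 : act 7 n24290 = n29963 := rfl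
theorem F139629 : act 1 n29963 = n24346 := d14_1 D29963 (iv D24346) (iv F109241)
theorem F139630 : act 2 n29963 = n25412 := d21_1 D29963 (iv D25412) (iv F134684)
theorem F139631 : act 3 n29963 = n29963 := d27_1 D29963 (iv D29963) F109242
theorem F139632 : act 4 n29963 = n24291 := d32_1 D29963 (iv D24291) D24290
theorem F139633 : act 5 n29963 = n25384 := d36_1 D29963 (iv D25384) (iv F134685)
def n29964 : Q := act 6 n24291
theorem D29964 : act 6 n24291 = n29964 := rfl
theorem F139634 : act 1 n29964 = n24348 := d13_1 D29964 (iv D24348) (iv F109245)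
theorem F139635 : act 3 n29964 = n24293 := d26_1 D29964 (iv D24293) (iv F109246)
theorem F139636 : act 5 n29964 = n25390 := d35_1 D29964 (iv D25390) F90829 (iv F86944) (iv F109247)
theorem F139637 : act 7 n29964 = n29964 := d39_2 D24291 D29964 (iv D29964) (iv D24291) F86940
def n29965 : Q := act 8 n24291
theorem D29965 : act 8 n24291 = n29965 := rfl
theorem F139638 : act 0 n29965 = n25412 := d7_1 D29965 (iv F139511) F139507
theorem F139639 : act 1 n29965 = n24349 := d15_1 D29965 (iv D24349) (iv F109245)
theorem F139640 : act 3 n29965 = n24294 := d28_1 D29965 (iv D24294) (iv F109246)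
theorem F139641 : act 5 n29965 = n24315 := d37_1 D29965 (iv D24315) F86998 (iv F86945) (iv F109247)
theorem F139642 : act 7 n29965 = n24292 := d42_1 D29965 (iv D24292) D24291
def n29966 : Q := act 9 n24292
theorem D29966 : act 9 n24292 = n29966 := rfl
theorem F139643 : act 0 n29966 = n25296 := d8_1 D29966 F113886 (iv F133605)
theorem F139644 : act 1 n29966 = n24350 := d16_1 D29966 (iv D24350) (iv F109248)
theorem F139645 : act 3 n29966 = n24295 := d29_1 D29966 (iv D24295) (iv F109249)
theorem F139646 : act 5 n29966 = n24316 := d38_1 D29966 (iv D24316) (iv F109250)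
theorem F139647 : act 6 n29966 = n29966 := d41_1 D29966 (iv D29966) F109251
def n29967 : Q := act 7 n24300
theorem D29967 : act 7 n24300 = n29967 := rfl
theorem F139648 : act 1 n29967 = n24359 := d14_1 D29967 (iv D24359) (iv F109286)
theorem F139649 : act 3 n29967 = n29967 := d27_1 D29967 (iv D29967) F109287
theorem F139650 : act 4 n29967 = n24301 := d32_1 D29967 (iv D24301) D24300
theorem F139651 : act 5 n29967 = n26194 := d36_1 D29967 (iv D26194) (iv F109288)
def n29968 : Q := act 6 n24301
theorem D29968 : act 6 n24301 = n29968 := rfl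
theorem F139652 : act 0 n29968 = n24369 := d5_1 D29968 (iv F139550) F139546
theorem F139653 : act 1 n29968 = n24361 := d13_1 D29968 (iv D24361) (iv F109290)
theorem F139654 : act 3 n29968 = n24303 := d26_1 D29968 (iv D24303) (iv F109291)
theorem F139655 : act 5 n29968 = n24314 := d35_1 D29968 (iv D24314) F86998 (iv F86971) (iv F109292)
theorem F139656 : act 7 n29968 = n24366 := d39_2 D24301 D29968 F133642 (iv D19637) (iv F86967)
def n29969 : Q := act 8 n24301
theorem D29969 : act 8 n24301 = n29969 := rfl
theorem F139657 : act 1 n29969 = n24362 := d15_1 D29969 (iv D24362) (iv F109290)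
theorem F139658 : act 3 n29969 = n24304 := d28_1 D29969 (iv D24304) (iv F109291)
theorem F139659 : act 5 n29969 = n25391 := d37_1 D29969 (iv D25391) F90829 (iv F86972) (iv F109292)
theorem F139660 : act 7 n29969 = n24302 := d42_1 D29969 (iv D24302) D24301
def n29970 : Q := act 9 n24302
theorem D29970 : act 9 n24302 = n29970 := rfl
theorem F139661 : act 1 n29970 = n24363 := d16_1 D29970 (iv D24363) (iv F109293)
theorem F139662 : act 3 n29970 = n24305 := d29_1 D29970 (iv D24305) (iv F109294)
theorem F139663 : act 5 n29970 = n25392 := d38_1 D29970 (iv D25392) (iv F109295)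
theorem F139664 : act 6 n29970 = n24890 := d41_1 D29970 (iv D24890) (iv F109296)
def n29971 : Q := act 9 n24304
theorem D29971 : act 9 n24304 = n29971 := rfl
theorem F139665 : act 1 n29971 = n24365 := d16_1 D29971 (iv D24365) (iv F109302)
theorem F139666 : act 2 n29971 = n29971 := d23_1 D29971 (iv D29971) F109303
theorem F139667 : act 4 n29971 = n29971 := d34_1 D29971 (iv D29971) F109304
theorem F139668 : act 5 n29971 = n25394 := d38_1 D29971 (iv D25394) (iv F109305)
theorem F139669 : act 7 n29971 = n24305 := d43_1 D29971 (iv D24305) (iv F109306)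
def n29972 : Q := act 7 n24306
theorem D29972 : act 7 n24306 = n29972 := rfl
theorem F139670 : act 0 n29972 = n24308 := d6_1 D29972 (iv D24308) (iv F109312)
theorem F139671 : act 2 n29972 = n24314 := d21_1 D29972 F133609 (iv F109313)
theorem F139672 : act 3 n29972 = n29972 := d27_1 D29972 (iv D29972) F109314
theorem F139673 : act 4 n29972 = n24374 := d32_1 D29972 F109612 (iv F133599)
theorem F139674 : act 6 n29972 = n24310 := d39_1 D29972 (iv D24310) F86990 F133625 D24306
theorem F139675 : act 8 n29972 = n24371 := d42_2 (iv F133600) D29972 (iv D24371)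
def n29973 : Q := act 7 n24307
theorem D29973 : act 7 n24307 = n29973 := rfl
theorem F139676 : act 1 n29973 = n24310 := d14_1 D29973 (iv D24310) (iv F109315)
theorem F139677 : act 2 n29973 = n24369 := d21_1 D29973 (iv D24369) (iv F109316)
theorem F139678 : act 3 n29973 = n29973 := d27_1 D29973 (iv D29973) F109317
theorem F139679 : act 5 n29973 = n24308 := d36_1 D29973 (iv D24308) D24307
def n29974 : Q := act 7 n24309
theorem D29974 : act 7 n24309 = n29974 := rfl
theorem F139680 : act 0 n29974 = n26190 := d6_1 D29974 (iv D26190) F134170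
theorem F139681 : act 2 n29974 = n24312 := d21_1 D29974 (iv D24312) (iv F109323)
theorem F139682 : act 3 n29974 = n24447 := d27_1 D29974 F109951 (iv F133712)
theorem F139683 : act 4 n29974 = n24310 := d32_1 D29974 (iv D24310) D24309
theorem F139684 : act 6 n29974 = n24374 := d39_1 D29974 F109612 F87198 (iv F133044) (iv F109324)
theorem F139685 : act 8 n29974 = n24373 := d42_2 (iv F133713) D29974 F109608
def n29975 : Q := act 8 n24310
theorem D29975 : act 8 n24310 = n29975 := rfl
theorem F139686 : act 0 n29975 = n25384 := d7_1 D29975 (iv F139582) F139575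
theorem F139687 : act 2 n29975 = n24315 := d22_1 D29975 (iv D24315) (iv F109327)
theorem F139688 : act 3 n29975 = n29975 := d28_1 D29975 (iv D29975) F109328
theorem F139689 : act 4 n29975 = n24373 := d33_1 D29975 (iv F139685) F139683
theorem F139690 : act 6 n29975 = n24371 := d40_1 D29975 (iv F139675) F139674
theorem F139691 : act 7 n29975 = n24311 := d42_1 D29975 (iv D24311) D24310
def n29976 : Q := act 9 n24311
theorem D29976 : act 9 n24311 = n29976 := rfl
theorem F139692 : act 0 n29976 = n25256 := d8_1 D29976 F113752 F134055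
theorem F139693 : act 2 n29976 = n24316 := d23_1 D29976 (iv D24316) (iv F109331)
theorem F139694 : act 3 n29976 = n29976 := d29_1 D29976 (iv D29976) F109332
theorem F139695 : act 4 n29976 = n24663 := d34_1 D29976 F110984 (iv F133614)
theorem F139696 : act 6 n29976 = n24661 := d41_1 D29976 F133801 (iv F109334)
def n29977 : Q := act 7 n24332
theorem D29977 : act 7 n24332 = n29977 := rfl
theorem F139697 : act 0 n29977 = n26247 := d6_1 D29977 (iv D26247) (iv F109430)
theorem F139698 : act 1 n29977 = n25301 := d14_1 D29977 (iv D25301) (iv F134790)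
theorem F139699 : act 2 n29977 = n24335 := d21_1 D29977 (iv D24335) (iv F109431)
theorem F139700 : act 3 n29977 = n24397 := d27_1 D29977 (iv D24397) (iv F109432)
theorem F139701 : act 4 n29977 = n25260 := d32_1 D29977 (iv D25260) (iv F134791)
theorem F139702 : act 5 n29977 = n24333 := d36_1 D29977 (iv D24333) D24332
theorem F139703 : act 9 n29977 = n24344 := d43_2 (iv F109434) D29977 (iv D24344)
def n29978 : Q := act 8 n24332
theorem D29978 : act 8 n24332 = n29978 := rfl
theorem F139704 : act 0 n29978 = n26248 := d7_1 D29978 (iv D26248) (iv F109430)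
theorem F139705 : act 1 n29978 = n25302 := d15_1 D29978 (iv D25302) (iv F134790)
theorem F139706 : act 2 n29978 = n24336 := d22_1 D29978 (iv D24336) (iv F109431)
theorem F139707 : act 3 n29978 = n24398 := d28_1 D29978 (iv D24398) (iv F109432)
theorem F139708 : act 4 n29978 = n25261 := d33_1 D29978 (iv D25261) (iv F134791)
theorem F139709 : act 6 n29978 = n29978 := d40_1 D29978 (iv D29978) F109433
def n29979 : Q := act 7 n24334
theorem D29979 : act 7 n24334 = n29979 := rfl
theorem F139710 : act 0 n29979 = n26249 := d6_1 D29979 (iv D26249) (iv F109441)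
theorem F139711 : act 2 n29979 = n25260 := d21_1 D29979 (iv D25260) (iv F134863)
theorem F139712 : act 3 n29979 = n29979 := d27_1 D29979 (iv D29979) F109442
theorem F139713 : act 4 n29979 = n24335 := d32_1 D29979 (iv D24335) D24334
theorem F139714 : act 5 n29979 = n25258 := d36_1 D29979 (iv D25258) (iv F134864)
theorem F139715 : act 9 n29979 = n24346 := d43_2 (iv F109445) D29979 (iv D24346)
def n29980 : Q := act 8 n24334
theorem D29980 : act 8 n24334 = n29980 := rfl
theorem F139716 : act 0 n29980 = n26250 := d7_1 D29980 (iv D26250) (iv F109441)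
theorem F139717 : act 2 n29980 = n25261 := d22_1 D29980 (iv D25261) (iv F134863)
theorem F139718 : act 3 n29980 = n29980 := d28_1 D29980 (iv D29980) F109442
theorem F139719 : act 4 n29980 = n24336 := d33_1 D29980 (iv D24336) D24334
theorem F139720 : act 6 n29980 = n29980 := d40_1 D29980 (iv D29980) F109444
def n29981 : Q := act 6 n24335
theorem D29981 : act 6 n24335 = n29981 := rfl
theorem F139721 : act 0 n29981 = n26251 := d5_1 D29981 (iv D26251) (iv F109446)
theorem F139722 : act 3 n29981 = n24337 := d26_1 D29981 (iv D24337) (iv F109447)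
theorem F139723 : act 5 n29981 = n25303 := d35_1 D29981 (iv D25303) F90584 (iv F87076) (iv F109448)
theorem F139724 : act 7 n29981 = n29981 := d39_2 D24335 D29981 (iv D29981) (iv D24335) F87071
theorem F139725 : act 9 n29981 = n24348 := d41_2 (iv F109449) D29981 (iv D24348)
def n29982 : Q := act 8 n24335
theorem D29982 : act 8 n24335 = n29982 := rfl
theorem F139726 : act 0 n29982 = n26252 := d7_1 D29982 (iv D26252) (iv F109446)
theorem F139727 : act 3 n29982 = n24338 := d28_1 D29982 (iv D24338) (iv F109447)
theorem F139728 : act 7 n29982 = n24336 := d42_1 D29982 (iv D24336) D24335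
def n29983 : Q := act 9 n24336
theorem D29983 : act 9 n24336 = n29983 := rfl
theorem F139729 : act 0 n29983 = n26253 := d8_1 D29983 (iv D26253) (iv F109450)
theorem F139730 : act 3 n29983 = n24339 := d29_1 D29983 (iv D24339) (iv F109451)
theorem F139731 : act 6 n29983 = n29983 := d41_1 D29983 (iv D29983) F109452
theorem F139732 : act 8 n29983 = n24350 := d44_1 D29983 (iv D24350) (iv D19222) (iv F87072) D24336
def n29984 : Q := act 8 n24337
theorem D29984 : act 8 n24337 = n29984 := rfl
theorem F139733 : act 0 n29984 = n26254 := d7_1 D29984 (iv D26254) (iv F109453)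
theorem F139734 : act 2 n29984 = n24404 := d22_1 D29984 (iv D24404) (iv F109454)
theorem F139735 : act 4 n29984 = n29984 := d33_1 D29984 (iv D29984) F109455
theorem F139736 : act 6 n29984 = n24338 := d40_1 D29984 (iv D24338) D24337
theorem F139737 : act 7 n29984 = n29984 := d42_1 D29984 (iv D29984) F109457
def n29985 : Q := act 9 n24338
theorem D29985 : act 9 n24338 = n29985 := rfl
theorem F139738 : act 0 n29985 = n26255 := d8_1 D29985 (iv D26255) (iv F109459)
theorem F139739 : act 2 n29985 = n24405 := d23_1 D29985 (iv D24405) (iv F109460)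
theorem F139740 : act 4 n29985 = n29985 := d34_1 D29985 (iv D29985) F109461
theorem F139741 : act 7 n29985 = n24339 := d43_1 D29985 (iv D24339) (iv F109462)
theorem F139742 : act 8 n29985 = n24352 := d44_1 D29985 (iv D24352) (iv D19224) (iv F87082) D24338
def n29986 : Q := act 6 n24344
theorem D29986 : act 6 n24344 = n29986 := rfl
theorem F139743 : act 0 n29986 = n26264 := d5_1 D29986 (iv D26264) (iv F109485)
theorem F139744 : act 1 n29986 = n25419 := d13_1 D29986 (iv D25419) (iv F134690)
theorem F139745 : act 2 n29986 = n24348 := d20_1 D29986 (iv D24348) (iv F109486)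
theorem F139746 : act 3 n29986 = n24414 := d26_1 D29986 (iv D24414) (iv F109487)
theorem F139747 : act 4 n29986 = n25390 := d31_1 D29986 (iv D25390) (iv F134691)
theorem F139748 : act 5 n29986 = n25416 := d35_1 D29986 (iv D25416) F90899 (iv F87105) (iv F109488)
theorem F139749 : act 7 n29986 = n29986 := d39_2 D24344 D29986 (iv D29986) (iv D24344) F87100
def n29987 : Q := act 8 n24344
theorem D29987 : act 8 n24344 = n29987 := rfl
theorem F139750 : act 0 n29987 = n26265 := d7_1 D29987 (iv D26265) (iv F109485)
theorem F139751 : act 1 n29987 = n25420 := d15_1 D29987 (iv D25420) (iv F134690)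
theorem F139752 : act 2 n29987 = n24349 := d22_1 D29987 (iv D24349) (iv F109486)
theorem F139753 : act 3 n29987 = n24415 := d28_1 D29987 (iv D24415) (iv F109487)
theorem F139754 : act 4 n29987 = n25391 := d33_1 D29987 (iv D25391) (iv F134691)
theorem F139755 : act 5 n29987 = n24374 := d37_1 D29987 (iv D24374) F87194 (iv F87106) (iv F109488)
theorem F139756 : act 7 n29987 = n24345 := d42_1 D29987 (iv D24345) D24344
def n29988 : Q := act 9 n24345
theorem D29988 : act 9 n24345 = n29988 := rfl
theorem F139757 : act 0 n29988 = n26266 := d8_1 D29988 (iv D26266) (iv F109489)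
theorem F139758 : act 1 n29988 = n25422 := d16_1 D29988 (iv D25422) (iv F134405)
theorem F139759 : act 2 n29988 = n24350 := d23_1 D29988 (iv D24350) (iv F109490)
theorem F139760 : act 3 n29988 = n24416 := d29_1 D29988 (iv D24416) (iv F109491)
theorem F139761 : act 4 n29988 = n25392 := d34_1 D29988 (iv D25392) (iv F134406)
theorem F139762 : act 5 n29988 = n24375 := d38_1 D29988 (iv D24375) (iv F109492)
theorem F139763 : act 6 n29988 = n29988 := d41_1 D29988 (iv D29988) F109493
def n29989 : Q := act 6 n24346
theorem D29989 : act 6 n24346 = n29989 := rfl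
theorem F139764 : act 0 n29989 = n26267 := d5_1 D29989 (iv D26267) (iv F109494)
theorem F139765 : act 2 n29989 = n25390 := d20_1 D29989 (iv D25390) (iv F134860)
theorem F139766 : act 3 n29989 = n29989 := d26_1 D29989 (iv D29989) F109495
theorem F139767 : act 4 n29989 = n24348 := d31_1 D29989 (iv D24348) (iv F109496)
theorem F139768 : act 7 n29989 = n29989 := d39_2 D24346 D29989 (iv D29989) (iv D24346) F87110
def n29990 : Q := act 8 n24346
theorem D29990 : act 8 n24346 = n29990 := rfl
theorem F139769 : act 0 n29990 = n26268 := d7_1 D29990 (iv D26268) (iv F109494)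
theorem F139770 : act 2 n29990 = n25391 := d22_1 D29990 (iv D25391) (iv F134860)
theorem F139771 : act 3 n29990 = n29990 := d28_1 D29990 (iv D29990) F109495
theorem F139772 : act 4 n29990 = n24349 := d33_1 D29990 (iv D24349) (iv F109496)
theorem F139773 : act 7 n29990 = n24347 := d42_1 D29990 (iv D24347) D24346
def n29991 : Q := act 9 n24347
theorem D29991 : act 9 n24347 = n29991 := rfl
theorem F139774 : act 0 n29991 = n26270 := d8_1 D29991 (iv D26270) (iv F109498)
theorem F139775 : act 2 n29991 = n25392 := d23_1 D29991 (iv D25392) (iv F134862)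
theorem F139776 : act 3 n29991 = n29991 := d29_1 D29991 (iv D29991) F109499
theorem F139777 : act 4 n29991 = n24350 := d34_1 D29991 (iv D24350) (iv F109500)
theorem F139778 : act 6 n29991 = n29991 := d41_1 D29991 (iv D29991) F109501
def n29992 : Q := act 8 n24348
theorem D29992 : act 8 n24348 = n29992 := rfl
theorem F139779 : act 0 n29992 = n26271 := d7_1 D29992 (iv D26271) (iv F109502)
theorem F139780 : act 3 n29992 = n24351 := d28_1 D29992 (iv D24351) (iv F109503)
theorem F139781 : act 6 n29992 = n24349 := d40_1 D29992 (iv D24349) D24348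
theorem F139782 : act 7 n29992 = n29992 := d42_1 D29992 (iv D29992) F109505
def n29993 : Q := act 9 n24349
theorem D29993 : act 9 n24349 = n29993 := rfl
theorem F139783 : act 0 n29993 = n26272 := d8_1 D29993 (iv D26272) (iv F109506)
theorem F139784 : act 3 n29993 = n24352 := d29_1 D29993 (iv D24352) (iv F109507)
theorem F139785 : act 5 n29993 = n24381 := d38_1 D29993 (iv D24381) (iv F109508)
theorem F139786 : act 7 n29993 = n24350 := d43_1 D29993 (iv D24350) (iv F109509)
def n29994 : Q := act 9 n24351
theorem D29994 : act 9 n24351 = n29994 := rfl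
theorem F139787 : act 0 n29994 = n26274 := d8_1 D29994 (iv D26274) (iv F109514)
theorem F139788 : act 2 n29994 = n24423 := d23_1 D29994 (iv D24423) (iv F109515)
theorem F139789 : act 4 n29994 = n29994 := d34_1 D29994 (iv D29994) F109516
theorem F139790 : act 6 n29994 = n24352 := d41_1 D29994 (iv D24352) (iv F109517)
theorem F139791 : act 7 n29994 = n29994 := d43_1 D29994 (iv D29994) F109518
def n29995 : Q := act 9 n24362
theorem D29995 : act 9 n24362 = n29995 := rfl
theorem F139792 : act 0 n29995 = n26181 := d8_1 D29995 F117148 (iv F134844)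
theorem F139793 : act 2 n29995 = n26134 := d23_1 D29995 F116941 (iv F134845)
theorem F139794 : act 3 n29995 = n24365 := d29_1 D29995 (iv D24365) (iv F109563)
theorem F139795 : act 5 n29995 = n25424 := d38_1 D29995 (iv D25424) (iv F109564)
theorem F139796 : act 7 n29995 = n24363 := d43_1 D29995 (iv D24363) (iv F109565)
def n29996 : Q := act 9 n24364
theorem D29996 : act 9 n24364 = n29996 := rfl
theorem F139797 : act 0 n29996 = n26288 := d8_1 D29996 (iv D26288) (iv F109570)
theorem F139798 : act 2 n29996 = n24441 := d23_1 D29996 (iv D24441) (iv F109571)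
theorem F139799 : act 4 n29996 = n29996 := d34_1 D29996 (iv D29996) F109572
theorem F139800 : act 6 n29996 = n24365 := d41_1 D29996 (iv D24365) (iv F109573)
theorem F139801 : act 7 n29996 = n24933 := d43_1 D29996 (iv D24933) (iv F109574)
def n29997 : Q := act 7 n24368
theorem D29997 : act 7 n24368 = n29997 := rfl
theorem F139802 : act 1 n29997 = n24371 := d14_1 D29997 (iv D24371) (iv F109587)
theorem F139803 : act 3 n29997 = n29997 := d27_1 D29997 (iv D29997) F109588
theorem F139804 : act 4 n29997 = n24369 := d32_1 D29997 (iv D24369) D24368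
theorem F139805 : act 5 n29997 = n26268 := d36_1 D29997 F117479 (iv F133857)
def n29998 : Q := act 8 n24369
theorem D29998 : act 8 n24369 = n29998 := rfl
theorem F139806 : act 1 n29998 = n24374 := d15_1 D29998 (iv D24374) (iv F109590)
theorem F139807 : act 3 n29998 = n24445 := d28_1 D29998 (iv D24445) (iv F109591)
theorem F139808 : act 5 n29998 = n25420 := d37_1 D29998 (iv D25420) F90905 (iv F134280) (iv F109592)
theorem F139809 : act 7 n29998 = n24370 := d42_1 D29998 (iv D24370) D24369
def n29999 : Q := act 9 n24370
theorem D29999 : act 9 n24370 = n29999 := rfl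
theorem F139810 : act 1 n29999 = n24375 := d16_1 D29999 (iv D24375) (iv F109593)
theorem F139811 : act 3 n29999 = n24446 := d29_1 D29999 (iv D24446) (iv F109594)
theorem F139812 : act 5 n29999 = n25422 := d38_1 D29999 (iv D25422) (iv F133858)
theorem F139813 : act 6 n29999 = n24938 := d41_1 D29999 (iv D24938) (iv F109595)
def n30000 : Q := act 9 n24374
theorem D30000 : act 9 n24374 = n30000 := rfl
theorem F139814 : act 0 n30000 = n26302 := d8_1 D30000 (iv D26302) (iv F109609)
theorem F139815 : act 2 n30000 = n24381 := d23_1 D30000 (iv D24381) (iv F109610)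
theorem F139816 : act 3 n30000 = n24448 := d29_1 D30000 (iv D24448) (iv F109611)
theorem F139817 : act 7 n30000 = n24375 := d43_1 D30000 (iv D24375) (iv F109612)
def n30001 : Q := act 6 n24397
theorem D30001 : act 6 n24397 = n30001 := rfl
theorem F139818 : act 0 n30001 = n26329 := d5_1 D30001 (iv D26329) (iv F109713)
theorem F139819 : act 1 n30001 = n25308 := d13_1 D30001 (iv D25308) (iv F134710)
theorem F139820 : act 2 n30001 = n24401 := d20_1 D30001 (iv D24401) (iv F109714)
theorem F139821 : act 4 n30001 = n25270 := d31_1 D30001 (iv D25270) (iv F134711)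
theorem F139822 : act 5 n30001 = n25343 := d35_1 D30001 (iv D25343) F90683 (iv F87277) (iv F109715)
theorem F139823 : act 7 n30001 = n30001 := d39_2 D24397 D30001 (iv D30001) (iv D24397) F87272
theorem F139824 : act 9 n30001 = n24414 := d41_2 (iv F109716) D30001 (iv D24414)
def n30002 : Q := act 8 n24397
theorem D30002 : act 8 n24397 = n30002 := rfl
theorem F139825 : act 0 n30002 = n26330 := d7_1 D30002 (iv D26330) (iv F109713)
theorem F139826 : act 1 n30002 = n25309 := d15_1 D30002 (iv D25309) (iv F134710)
theorem F139827 : act 2 n30002 = n24402 := d22_1 D30002 (iv D24402) (iv F109714)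
theorem F139828 : act 4 n30002 = n25271 := d33_1 D30002 (iv D25271) (iv F134711)
theorem F139829 : act 7 n30002 = n24398 := d42_1 D30002 (iv D24398) D24397
def n30003 : Q := act 9 n24398
theorem D30003 : act 9 n24398 = n30003 := rfl
theorem F139830 : act 0 n30003 = n26331 := d8_1 D30003 (iv D26331) (iv F109717)
theorem F139831 : act 1 n30003 = n25311 := d16_1 D30003 (iv D25311) (iv F134815)
theorem F139832 : act 2 n30003 = n24403 := d23_1 D30003 (iv D24403) (iv F109718)
theorem F139833 : act 4 n30003 = n25272 := d34_1 D30003 (iv D25272) (iv F134816)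
theorem F139834 : act 6 n30003 = n30003 := d41_1 D30003 (iv D30003) F109719
theorem F139835 : act 8 n30003 = n24416 := d44_1 D30003 (iv D24416) (iv D19272) (iv F87273) D24398
def n30004 : Q := act 6 n24399
theorem D30004 : act 6 n24399 = n30004 := rfl
theorem F139836 : act 0 n30004 = n26332 := d5_1 D30004 (iv D26332) (iv F109720)
theorem F139837 : act 1 n30004 = n30004 := d13_1 D30004 (iv D30004) F109721
theorem F139838 : act 2 n30004 = n25270 := d20_1 D30004 (iv D25270) (iv F134915)
theorem F139839 : act 3 n30004 = n30004 := d26_1 D30004 (iv D30004) F109722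
theorem F139840 : act 4 n30004 = n24401 := d31_1 D30004 (iv D24401) (iv F109723)
theorem F139841 : act 5 n30004 = n30004 := d35_1 D30004 (iv D30004) F109724 F87522 (iv F109724)
theorem F139842 : act 7 n30004 = n30004 := d39_2 D24399 D30004 (iv D30004) (iv D24399) F87283
theorem F139843 : act 9 n30004 = n24417 := d41_2 (iv F109725) D30004 (iv D24417)
def n30005 : Q := act 8 n24399
theorem D30005 : act 8 n24399 = n30005 := rfl
theorem F139844 : act 0 n30005 = n26333 := d7_1 D30005 (iv D26333) (iv F109720)
theorem F139845 : act 1 n30005 = n30005 := d15_1 D30005 (iv D30005) F109721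
theorem F139846 : act 2 n30005 = n25271 := d22_1 D30005 (iv D25271) (iv F134915)
theorem F139847 : act 3 n30005 = n30005 := d28_1 D30005 (iv D30005) F109722
theorem F139848 : act 4 n30005 = n24402 := d33_1 D30005 (iv D24402) (iv F109723)
theorem F139849 : act 5 n30005 = n27364 := d37_1 D30005 F122074 F110047 (iv D24465) (iv F109724)
theorem F139850 : act 7 n30005 = n24400 := d42_1 D30005 (iv D24400) D24399
def n30006 : Q := act 9 n24400
theorem D30006 : act 9 n24400 = n30006 := rfl
theorem F139851 : act 0 n30006 = n26334 := d8_1 D30006 (iv D26334) (iv F109726)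
theorem F139852 : act 1 n30006 = n30006 := d16_1 D30006 (iv D30006) F109727
theorem F139853 : act 2 n30006 = n25272 := d23_1 D30006 (iv D25272) (iv F134917)
theorem F139854 : act 3 n30006 = n30006 := d29_1 D30006 (iv D30006) F109728
theorem F139855 : act 4 n30006 = n24403 := d34_1 D30006 (iv D24403) (iv F109729)
theorem F139856 : act 5 n30006 = n27356 := d38_1 D30006 F122030 (iv F109730)
theorem F139857 : act 6 n30006 = n30006 := d41_1 D30006 (iv D30006) F109731
theorem F139858 : act 8 n30006 = n24419 := d44_1 D30006 (iv D24419) (iv D19274) (iv F87284) D24400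
def n30007 : Q := act 8 n24401
theorem D30007 : act 8 n24401 = n30007 := rfl
theorem F139859 : act 0 n30007 = n26335 := d7_1 D30007 (iv D26335) (iv F109732)
theorem F139860 : act 1 n30007 = n30007 := d15_1 D30007 (iv D30007) F109733
theorem F139861 : act 3 n30007 = n24404 := d28_1 D30007 (iv D24404) (iv F109734)
theorem F139862 : act 6 n30007 = n24402 := d40_1 D30007 (iv D24402) D24401
theorem F139863 : act 7 n30007 = n30007 := d42_1 D30007 (iv D30007) F109736
def n30008 : Q := act 9 n24402
theorem D30008 : act 9 n24402 = n30008 := rfl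
theorem F139864 : act 0 n30008 = n26336 := d8_1 D30008 (iv D26336) (iv F109738)
theorem F139865 : act 1 n30008 = n30008 := d16_1 D30008 (iv D30008) F109739
theorem F139866 : act 3 n30008 = n24405 := d29_1 D30008 (iv D24405) (iv F109740)
theorem F139867 : act 7 n30008 = n24403 := d43_1 D30008 (iv D24403) (iv F109741)
theorem F139868 : act 8 n30008 = n24421 := d44_1 D30008 (iv D24421) (iv D19276) (iv F87289) D24402
def n30009 : Q := act 5 n24404
theorem D30009 : act 5 n24404 = n30009 := rfl
theorem F139869 : act 0 n30009 = n26337 := d4_1 D30009 (iv D26337) (iv F109747)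
theorem F139870 : act 1 n30009 = n30009 := d12_1 D30009 (iv D30009) F109748
theorem F139871 : act 7 n30009 = n30009 := d36_2 F109751 D30009 (iv D30009)
theorem F139872 : act 8 n30009 = n25348 := d37_2 D24404 D30009 (iv D25348) (iv D20012) (iv F87297)
def n30010 : Q := act 9 n24404
theorem D30010 : act 9 n24404 = n30010 := rfl
theorem F139873 : act 0 n30010 = n26338 := d8_1 D30010 (iv D26338) (iv F109747)
theorem F139874 : act 1 n30010 = n30010 := d16_1 D30010 (iv D30010) F109748
theorem F139875 : act 4 n30010 = n30010 := d34_1 D30010 (iv D30010) F109749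
theorem F139876 : act 6 n30010 = n24405 := d41_1 D30010 (iv D24405) (iv F109750)
theorem F139877 : act 7 n30010 = n30010 := d43_1 D30010 (iv D30010) F109751
theorem F139878 : act 8 n30010 = n24423 := d44_1 D30010 (iv D24423) (iv D19278) (iv F87299) D24404
def n30011 : Q := act 8 n24414
theorem D30011 : act 8 n24414 = n30011 := rfl
theorem F139879 : act 0 n30011 = n26353 := d7_1 D30011 (iv D26353) (iv F109791)
theorem F139880 : act 1 n30011 = n25428 := d15_1 D30011 (iv D25428) (iv F134922)
theorem F139881 : act 2 n30011 = n24420 := d22_1 D30011 (iv D24420) (iv F109792)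
theorem F139882 : act 4 n30011 = n25405 := d33_1 D30011 (iv D25405) (iv F134923)
theorem F139883 : act 6 n30011 = n24415 := d40_1 D30011 (iv D24415) D24414
theorem F139884 : act 7 n30011 = n30011 := d42_1 D30011 (iv D30011) F109794
def n30012 : Q := act 9 n24415
theorem D30012 : act 9 n24415 = n30012 := rfl
theorem F139885 : act 0 n30012 = n26354 := d8_1 D30012 (iv D26354) (iv F109795)
theorem F139886 : act 1 n30012 = n25430 := d16_1 D30012 (iv D25430) (iv F134407)
theorem F139887 : act 2 n30012 = n24421 := d23_1 D30012 (iv D24421) (iv F109796)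
theorem F139888 : act 4 n30012 = n25406 := d34_1 D30012 (iv D25406) (iv F134408)
theorem F139889 : act 5 n30012 = n24448 := d38_1 D30012 (iv D24448) (iv F109797)
theorem F139890 : act 7 n30012 = n24416 := d43_1 D30012 (iv D24416) (iv F109798)
def n30013 : Q := act 8 n24417
theorem D30013 : act 8 n24417 = n30013 := rfl
theorem F139891 : act 0 n30013 = n26355 := d7_1 D30013 (iv D26355) (iv F109803)
theorem F139892 : act 1 n30013 = n30013 := d15_1 D30013 (iv D30013) F109804
theorem F139893 : act 2 n30013 = n25405 := d22_1 D30013 (iv D25405) (iv F134913)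
theorem F139894 : act 3 n30013 = n30013 := d28_1 D30013 (iv D30013) F109805
theorem F139895 : act 4 n30013 = n24420 := d33_1 D30013 (iv D24420) (iv F109806)
theorem F139896 : act 6 n30013 = n24418 := d40_1 D30013 (iv D24418) D24417
theorem F139897 : act 7 n30013 = n30013 := d42_1 D30013 (iv D30013) F109808
def n30014 : Q := act 9 n24418
theorem D30014 : act 9 n24418 = n30014 := rfl
theorem F139898 : act 0 n30014 = n26356 := d8_1 D30014 (iv D26356) (iv F109809)
theorem F139899 : act 1 n30014 = n30014 := d16_1 D30014 (iv D30014) F109810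
theorem F139900 : act 2 n30014 = n25406 := d23_1 D30014 (iv D25406) (iv F134914)
theorem F139901 : act 3 n30014 = n30014 := d29_1 D30014 (iv D30014) F109811
theorem F139902 : act 4 n30014 = n24421 := d34_1 D30014 (iv D24421) (iv F109812)
theorem F139903 : act 5 n30014 = n30014 := d38_1 D30014 (iv D30014) F109813
theorem F139904 : act 7 n30014 = n24419 := d43_1 D30014 (iv D24419) (iv F109814)
def n30015 : Q := act 5 n24420
theorem D30015 : act 5 n24420 = n30015 := rfl
theorem F139905 : act 0 n30015 = n26357 := d4_1 D30015 (iv D26357) (iv F109821)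
theorem F139906 : act 1 n30015 = n30015 := d12_1 D30015 (iv D30015) F109822
theorem F139907 : act 3 n30015 = n24422 := d25_1 D30015 (iv D24422) (iv F109823)
theorem F139908 : act 6 n30015 = n24449 := d35_2 (iv F109824) D30015 (iv D24449) F87462 (iv F87352)
theorem F139909 : act 7 n30015 = n30015 := d36_2 F109825 D30015 (iv D30015)
theorem F139910 : act 8 n30015 = n25444 := d37_2 D24420 D30015 (iv D25444) (iv D20087) (iv F87347)
def n30016 : Q := act 9 n24420
theorem D30016 : act 9 n24420 = n30016 := rfl
theorem F139911 : act 0 n30016 = n26358 := d8_1 D30016 (iv D26358) (iv F109821)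
theorem F139912 : act 1 n30016 = n30016 := d16_1 D30016 (iv D30016) F109822
theorem F139913 : act 3 n30016 = n24423 := d29_1 D30016 (iv D24423) (iv F109823)
theorem F139914 : act 6 n30016 = n24421 := d41_1 D30016 (iv D24421) (iv F109824)
theorem F139915 : act 7 n30016 = n30016 := d43_1 D30016 (iv D30016) F109825
def n30017 : Q := act 9 n24422
theorem D30017 : act 9 n24422 = n30017 := rfl
theorem F139916 : act 0 n30017 = n26360 := d8_1 D30017 (iv D26360) (iv F109831)
theorem F139917 : act 1 n30017 = n30017 := d16_1 D30017 (iv D30017) F109832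
theorem F139918 : act 5 n30017 = n24423 := d38_1 D30017 (iv D24423) D24422
theorem F139919 : act 6 n30017 = n24452 := d41_1 D30017 (iv D24452) (iv F109833)
theorem F139920 : act 7 n30017 = n30017 := d43_1 D30017 (iv D30017) F109834
def n30018 : Q := act 9 n24440
theorem D30018 : act 9 n24440 = n30018 := rfl
theorem F139921 : act 0 n30018 = n26381 := d8_1 D30018 (iv D26381) (iv F109915)
theorem F139922 : act 1 n30018 = n30018 := d16_1 D30018 (iv D30018) F109916
theorem F139923 : act 3 n30018 = n27892 := d29_1 D30018 F124222 (iv F134464)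
theorem F139924 : act 5 n30018 = n24441 := d38_1 D30018 (iv D24441) D24440
theorem F139925 : act 6 n30018 = n25447 := d41_1 D30018 (iv D25447) (iv F109917)
theorem F139926 : act 7 n30018 = n24987 := d43_1 D30018 (iv D24987) (iv F109918)
def n30019 : Q := act 9 n24445
theorem D30019 : act 9 n24445 = n30019 := rfl
theorem F139927 : act 1 n30019 = n24448 := d16_1 D30019 (iv D24448) (iv F109939)
theorem F139928 : act 2 n30019 = n30019 := d23_1 D30019 (iv D30019) F109940
theorem F139929 : act 4 n30019 = n30019 := d34_1 D30019 (iv D30019) F109941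
theorem F139930 : act 5 n30019 = n25430 := d38_1 D30019 (iv D25430) (iv F134403)
theorem F139931 : act 7 n30019 = n24446 := d43_1 D30019 (iv D24446) (iv F109942)
def n30020 : Q := act 9 n24447
theorem D30020 : act 9 n24447 = n30020 := rfl
theorem F139932 : act 0 n30020 = n26209 := d8_1 D30020 (iv D26209) F134174
theorem F139933 : act 2 n30020 = n24450 := d23_1 D30020 (iv D24450) (iv F109948)
theorem F139934 : act 4 n30020 = n30020 := d34_1 D30020 (iv D30020) F109949
theorem F139935 : act 6 n30020 = n24448 := d41_1 D30020 (iv D24448) (iv F109950)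
theorem F139936 : act 7 n30020 = n24994 := d43_1 D30020 (iv D24994) (iv F109951)
def n30021 : Q := act 9 n24449
theorem D30021 : act 9 n24449 = n30021 := rfl
theorem F139937 : act 0 n30021 = n26390 := d8_1 D30021 (iv D26390) (iv F109956)
theorem F139938 : act 1 n30021 = n30021 := d16_1 D30021 (iv D30021) F109957
theorem F139939 : act 3 n30021 = n24452 := d29_1 D30021 (iv D24452) (iv F109958)
theorem F139940 : act 5 n30021 = n24450 := d38_1 D30021 (iv D24450) D24449
theorem F139941 : act 7 n30021 = n24996 := d43_1 D30021 (iv D24996) (iv F109959)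
def n30022 : Q := act 1 n24482
theorem D30022 : act 1 n24482 = n30022 := rfl
theorem F139942 : act 2 n30022 = n24542 := d9_2 D24482 D30022 F110468 F134303 (iv F87653)
theorem F139943 : act 3 n30022 = n30022 := d10_2 F110140 D30022 (iv D30022)
theorem F139944 : act 4 n30022 = n25488 := d11_2 (iv F110141) D30022 (iv D25488)
theorem F139945 : act 5 n30022 = n24490 := d12_2 (iv F110142) D30022 (iv D24490)
theorem F139946 : act 7 n30022 = n25102 := d14_2 (iv F110143) D30022 (iv D25102)
theorem F139947 : act 9 n30022 = n30022 := d16_2 F110144 D30022 (iv D30022)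
def n30023 : Q := act 6 n24482
theorem D30023 : act 6 n24482 = n30023 := rfl
theorem F139948 : act 0 n30023 = n24531 := d5_1 D30023 (iv D24531) (iv F110139)
theorem F139949 : act 2 n30023 = n24483 := d20_1 D30023 (iv D24483) D24482
theorem F139950 : act 3 n30023 = n30023 := d26_1 D30023 (iv D30023) F110140
theorem F139951 : act 4 n30023 = n25489 := d31_1 D30023 (iv D25489) (iv F110141)
theorem F139952 : act 9 n30023 = n30023 := d41_2 F110144 D30023 (iv D30023)
def n30024 : Q := act 5 n24483
theorem D30024 : act 5 n24483 = n30024 := rfl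
theorem F139953 : act 0 n30024 = n24532 := d4_1 D30024 (iv D24532) (iv F110145)
theorem F139954 : act 1 n30024 = n24599 := d12_1 D30024 F134989 (iv F110146)
theorem F139955 : act 3 n30024 = n24484 := d25_1 D30024 (iv D24484) (iv F110147)
theorem F139956 : act 6 n30024 = n24492 := d35_2 D24483 D30024 (iv D24492) (iv D19343) (iv F87655)
theorem F139957 : act 9 n30024 = n30024 := d38_2 F110149 D30024 (iv D30024)
def n30025 : Q := act 7 n24483
theorem D30025 : act 7 n24483 = n30025 := rfl
theorem F139958 : act 0 n30025 = n24533 := d6_1 D30025 (iv D24533) (iv F110145)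
theorem F139959 : act 1 n30025 = n25133 := d14_1 D30025 (iv D25133) (iv F110146)
theorem F139960 : act 3 n30025 = n24485 := d27_1 D30025 (iv D24485) (iv F110147)
theorem F139961 : act 4 n30025 = n25491 := d32_1 D30025 (iv D25491) (iv F110148)
theorem F139962 : act 6 n30025 = n25105 := d39_1 D30025 (iv D25105) (iv D19829) (iv F87656) D24483
theorem F139963 : act 9 n30025 = n30025 := d43_2 F110149 D30025 (iv D30025)
def n30026 : Q := act 7 n24484
theorem D30026 : act 7 n24484 = n30026 := rfl
theorem F139964 : act 0 n30026 = n24534 := d6_1 D30026 (iv D24534) (iv F110150)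
theorem F139965 : act 1 n30026 = n24693 := d14_1 D30026 (iv D24693) F134308
theorem F139966 : act 2 n30026 = n30026 := d21_1 D30026 (iv D30026) F110152
theorem F139967 : act 4 n30026 = n30026 := d32_1 D30026 (iv D30026) F110153
theorem F139968 : act 5 n30026 = n24485 := d36_1 D30026 (iv D24485) D24484
theorem F139969 : act 6 n30026 = n24702 := d39_1 D30026 (iv D24702) (iv D19490) F133766 (iv F110154)
theorem F139970 : act 9 n30026 = n30026 := d43_2 F110155 D30026 (iv D30026)
def n30027 : Q := act 1 n24486
theorem D30027 : act 1 n24486 = n30027 := rfl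
theorem F139971 : act 0 n30027 = n24547 := d0_1 D30027 F110489 (iv F110193) F133760 (iv F110162)
theorem F139972 : act 2 n30027 = n24543 := d9_2 D24486 D30027 F110471 (iv F133455) (iv F87671)
theorem F139973 : act 3 n30027 = n30027 := d10_2 F110163 D30027 (iv D30027)
theorem F139974 : act 4 n30027 = n30027 := d11_2 F110164 D30027 (iv D30027)
theorem F139975 : act 5 n30027 = n25102 := d12_2 (iv F110165) D30027 (iv D25102)
theorem F139976 : act 7 n30027 = n24490 := d14_2 (iv F110166) D30027 (iv D24490)
theorem F139977 : act 8 n30027 = n24496 := d15_2 (iv F110167) D30027 (iv D24496)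
theorem F139978 : act 9 n30027 = n30027 := d16_2 F110168 D30027 (iv D30027)
theorem F139979 : act 6 n24546 = n30027 := d40_3 F139977 F133781 (iv F110487)
def n30028 : Q := act 6 n24486
theorem D30028 : act 6 n24486 = n30028 := rfl
theorem F139980 : act 0 n30028 = n24490 := d5_1 D30028 F134981 (iv F110162)
theorem F139981 : act 1 n30028 = n24546 := d13_1 D30028 F139979 (iv D30027)
theorem F139982 : act 2 n30028 = n24487 := d20_1 D30028 (iv D24487) D24486
theorem F139983 : act 3 n30028 = n30028 := d26_1 D30028 (iv D30028) F110163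
theorem F139984 : act 4 n30028 = n30028 := d31_1 D30028 (iv D30028) F110164
theorem F139985 : act 7 n30028 = n24547 := d39_2 (iv F110166) D30028 (iv D24547) (iv F133761) (iv D24491)
theorem F139986 : act 8 n30028 = n24497 := d40_2 (iv F110167) D30028 (iv D24497)
theorem F139987 : act 9 n30028 = n30028 := d41_2 F110168 D30028 (iv D30028)
def n30029 : Q := act 5 n24487
theorem D30029 : act 5 n24487 = n30029 := rfl
theorem F139988 : act 0 n30029 = n24542 := d4_1 D30029 (iv D24542) (iv F110169)
theorem F139989 : act 1 n30029 = n24634 := d12_1 D30029 F110865 (iv F133752)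
theorem F139990 : act 3 n30029 = n24488 := d25_1 D30029 (iv D24488) (iv F110171)
theorem F139991 : act 6 n30029 = n25104 := d35_2 D24487 D30029 (iv D25104) (iv D19829) (iv F87673)
theorem F139992 : act 7 n30029 = n24631 := d36_2 (iv F133753) D30029 (iv D24631)
theorem F139993 : act 9 n30029 = n30029 := d38_2 F110174 D30029 (iv D30029)
theorem F139994 : act 4 n25550 = n30029 := d32_3 F139992 F135127 (iv F114837)
def n30030 : Q := act 8 n24488
theorem D30030 : act 8 n24488 = n30030 := rfl
theorem F139995 : act 0 n30030 = n24545 := d7_1 D30030 (iv D24545) (iv F110175)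
theorem F139996 : act 1 n30030 = n24744 := d15_1 D30030 (iv D24744) F134284
theorem F139997 : act 2 n30030 = n30030 := d22_1 D30030 (iv D30030) F110177
theorem F139998 : act 4 n30030 = n25063 := d33_1 D30030 (iv D25063) (iv F110178)
theorem F139999 : act 5 n30030 = n24501 := d37_1 D30030 (iv D24501) (iv D19348) (iv F87681) D24488
theorem F140000 : act 6 n30030 = n25107 := d40_1 D30030 (iv D25107) (iv F110179)
theorem F140001 : act 7 n30030 = n24739 := d42_1 D30030 (iv D24739) F134440
def n30031 : Q := act 5 n24491
theorem D30031 : act 5 n24491 = n30031 := rfl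
theorem F140002 : act 0 n30031 = n24548 := d4_1 D30031 (iv D24548) (iv F110193)
theorem F140003 : act 1 n30031 = n24526 := d12_1 D30031 F110388 (iv F133760)
theorem F140004 : act 2 n30031 = n24492 := d19_1 D30031 (iv D24492) (iv F110194)
theorem F140005 : act 3 n30031 = n30031 := d25_1 D30031 (iv D30031) F110195
theorem F140006 : act 7 n30031 = n24530 := d36_2 (iv F133761) D30031 F110410
theorem F140007 : act 9 n30031 = n30031 := d38_2 F110198 D30031 (iv D30031)
theorem F140008 : act 4 n25455 = n30031 := d18_0 F140004 (iv F136895) F136893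
def n30032 : Q := act 4 n24498
theorem D30032 : act 4 n24498 = n30032 := rfl
theorem F140009 : act 0 n30032 = n24560 := d3_1 D30032 (iv D24560) (iv F110230)
theorem F140010 : act 1 n30032 = n24661 := d11_1 D30032 F110974 (iv F133750)
theorem F140011 : act 2 n30032 = n24938 := d18_1 D30032 (iv F138217) F138215
theorem F140012 : act 3 n30032 = n30032 := d24_1 D30032 (iv D30032) F110232 F87726 (iv F110232)
theorem F140013 : act 5 n30032 = n30032 := d30_2 D24498 D30032 (iv D30032) (iv D24498) F87721
theorem F140014 : act 7 n30032 = n24658 := d32_2 (iv F133751) D30032 (iv D24658)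
theorem F140015 : act 9 n30032 = n24859 := d34_2 (iv F110233) D30032 (iv D24859)
def n30033 : Q := act 8 n24498
theorem D30033 : act 8 n24498 = n30033 := rfl
theorem F140016 : act 0 n30033 = n24562 := d7_1 D30033 (iv D24562) (iv F110230)
theorem F140017 : act 1 n30033 = n24664 := d15_1 D30033 (iv D24664) (iv F133750)
theorem F140018 : act 3 n30033 = n24501 := d28_1 D30033 (iv D24501) (iv F110232)
theorem F140019 : act 7 n30033 = n24660 := d42_1 D30033 (iv D24660) (iv F133751)
def n30034 : Q := act 9 n24501
theorem D30034 : act 9 n24501 = n30034 := rfl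
theorem F140020 : act 0 n30034 = n24565 := d8_1 D30034 (iv D24565) (iv F110246)
theorem F140021 : act 1 n30034 = n24778 := d16_1 D30034 (iv D24778) (iv F133769)
theorem F140022 : act 2 n30034 = n30034 := d23_1 D30034 (iv D30034) F110248
theorem F140023 : act 4 n30034 = n30034 := d34_1 D30034 (iv D30034) F110249
theorem F140024 : act 7 n30034 = n24776 := d43_1 D30034 (iv D24776) (iv F133770)
theorem F140025 : act 8 n30034 = n24864 := d44_1 D30034 (iv D24864) (iv D19613) (iv F87727) D24501
def n30035 : Q := act 1 n24522
theorem D30035 : act 1 n24522 = n30035 := rfl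
theorem F140026 : act 2 n30035 = n24592 := d9_2 D24522 D30035 (iv D24592) (iv D19414) (iv F87813)
theorem F140027 : act 3 n30035 = n27109 := d10_2 (iv F110363) D30035 (iv D27109)
theorem F140028 : act 4 n30035 = n24530 := d11_2 (iv F110364) D30035 (iv D24530)
theorem F140029 : act 5 n30035 = n30035 := d12_2 F110365 D30035 (iv D30035)
theorem F140030 : act 7 n30035 = n25455 := d14_2 (iv F110366) D30035 (iv D25455)
theorem F140031 : act 9 n30035 = n30035 := d16_2 F110367 D30035 (iv D30035)
def n30036 : Q := act 6 n24522
theorem D30036 : act 6 n24522 = n30036 := rfl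
theorem F140032 : act 0 n30036 = n25489 := d5_1 D30036 (iv D25489) (iv F110362)
theorem F140033 : act 2 n30036 = n24523 := d20_1 D30036 (iv D24523) D24522
theorem F140034 : act 3 n30036 = n27110 := d26_1 D30036 (iv D27110) (iv F110363)
theorem F140035 : act 4 n30036 = n24531 := d31_1 D30036 (iv D24531) (iv F110364)
theorem F140036 : act 9 n30036 = n30036 := d41_2 F110367 D30036 (iv D30036)
def n30037 : Q := act 5 n24523
theorem D30037 : act 5 n24523 = n30037 := rfl
theorem F140037 : act 0 n30037 = n25490 := d4_1 D30037 (iv D25490) (iv F110368)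
theorem F140038 : act 1 n30037 = n24594 := d12_1 D30037 (iv D24594) (iv F110369)
theorem F140039 : act 3 n30037 = n24524 := d25_1 D30037 (iv D24524) (iv F110370)
theorem F140040 : act 6 n30037 = n30037 := d35_2 D24523 D30037 (iv D30037) (iv D24523) F87815
theorem F140041 : act 9 n30037 = n30037 := d38_2 F110372 D30037 (iv D30037)
def n30038 : Q := act 7 n24523
theorem D30038 : act 7 n24523 = n30038 := rfl
theorem F140042 : act 0 n30038 = n25491 := d6_1 D30038 (iv D25491) (iv F110368)
theorem F140043 : act 1 n30038 = n24595 := d14_1 D30038 (iv D24595) (iv F110369)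
theorem F140044 : act 3 n30038 = n24525 := d27_1 D30038 (iv D24525) (iv F110370)
theorem F140045 : act 4 n30038 = n24533 := d32_1 D30038 (iv D24533) (iv F110371)
theorem F140046 : act 6 n30038 = n25458 := d39_1 D30038 (iv D25458) (iv D20097) (iv F87816) D24523
theorem F140047 : act 9 n30038 = n30038 := d43_2 F110372 D30038 (iv D30038)
def n30039 : Q := act 7 n24524
theorem D30039 : act 7 n24524 = n30039 := rfl
theorem F140048 : act 0 n30039 = n25492 := d6_1 D30039 (iv D25492) (iv F110373)
theorem F140049 : act 1 n30039 = n24596 := d14_1 D30039 (iv D24596) (iv F110374)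
theorem F140050 : act 2 n30039 = n27113 := d21_1 D30039 (iv D27113) (iv F110375)
theorem F140051 : act 4 n30039 = n30039 := d32_1 D30039 (iv D30039) F110376
theorem F140052 : act 5 n30039 = n24525 := d36_1 D30039 (iv D24525) D24524
theorem F140053 : act 9 n30039 = n30039 := d43_2 F110378 D30039 (iv D30039)
def n30040 : Q := act 8 n24524
theorem D30040 : act 8 n24524 = n30040 := rfl
theorem F140054 : act 0 n30040 = n25493 := d7_1 D30040 (iv D25493) (iv F110373)
theorem F140055 : act 1 n30040 = n24597 := d15_1 D30040 (iv D24597) (iv F110374)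
theorem F140056 : act 2 n30040 = n27114 := d22_1 D30040 (iv D27114) (iv F110375)
theorem F140057 : act 4 n30040 = n30040 := d33_1 D30040 (iv D30040) F110376
theorem F140058 : act 6 n30040 = n30040 := d40_1 D30040 (iv D30040) F110377
def n30041 : Q := act 6 n24526
theorem D30041 : act 6 n24526 = n30041 := rfl
theorem F140059 : act 0 n30041 = n25103 := d5_1 D30041 (iv D25103) (iv F110385)
theorem F140060 : act 2 n30041 = n24527 := d20_1 D30041 (iv D24527) D24526
theorem F140061 : act 3 n30041 = n30041 := d26_1 D30041 (iv D30041) F110386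
theorem F140062 : act 4 n30041 = n25456 := d31_1 D30041 (iv D25456) (iv F110387)
theorem F140063 : act 9 n30041 = n30041 := d41_2 F110390 D30041 (iv D30041)
def n30042 : Q := act 5 n24527
theorem D30042 : act 5 n24527 = n30042 := rfl
theorem F140064 : act 0 n30042 = n25104 := d4_1 D30042 (iv D25104) (iv F110391)
theorem F140065 : act 1 n30042 = n24600 := d12_1 D30042 (iv D24600) (iv F110392)
theorem F140066 : act 3 n30042 = n24528 := d25_1 D30042 (iv D24528) (iv F110393)
theorem F140067 : act 6 n30042 = n24542 := d35_2 D24527 D30042 (iv D24542) (iv D19379) (iv F87833)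
theorem F140068 : act 9 n30042 = n30042 := d38_2 F110395 D30042 (iv D30042)
theorem F140069 : act 4 n25551 = n30042 := d31_3 F140067 F134982 D25551
def n30043 : Q := act 7 n24527
theorem D30043 : act 7 n24527 = n30043 := rfl
theorem F140070 : act 0 n30043 = n25105 := d6_1 D30043 (iv D25105) (iv F110391)
theorem F140071 : act 1 n30043 = n24601 := d14_1 D30043 (iv D24601) (iv F110392)
theorem F140072 : act 3 n30043 = n24529 := d27_1 D30043 (iv D24529) (iv F110393)
theorem F140073 : act 4 n30043 = n25458 := d32_1 D30043 (iv D25458) (iv F110394)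
theorem F140074 : act 6 n30043 = n24533 := d39_1 D30043 (iv D24533) (iv D19372) (iv F87834) D24527
theorem F140075 : act 9 n30043 = n30043 := d43_2 F110395 D30043 (iv D30043)
def n30044 : Q := act 7 n24528
theorem D30044 : act 7 n24528 = n30044 := rfl
theorem F140076 : act 0 n30044 = n25106 := d6_1 D30044 (iv D25106) (iv F110396)
theorem F140077 : act 1 n30044 = n24602 := d14_1 D30044 (iv D24602) (iv F110397)
theorem F140078 : act 2 n30044 = n30044 := d21_1 D30044 (iv D30044) F110398
theorem F140079 : act 4 n30044 = n25096 := d32_1 D30044 (iv D25096) (iv F110399)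
theorem F140080 : act 5 n30044 = n24529 := d36_1 D30044 (iv D24529) D24528
theorem F140081 : act 6 n30044 = n25187 := d39_1 D30044 (iv D25187) (iv D19884) (iv F134437) (iv F110400)
theorem F140082 : act 9 n30044 = n30044 := d43_2 F110401 D30044 (iv D30044)
def n30045 : Q := act 8 n24528
theorem D30045 : act 8 n24528 = n30045 := rfl
theorem F140083 : act 0 n30045 = n25107 := d7_1 D30045 (iv D25107) (iv F110396)
theorem F140084 : act 1 n30045 = n24603 := d15_1 D30045 (iv D24603) (iv F110397)
theorem F140085 : act 2 n30045 = n30045 := d22_1 D30045 (iv D30045) F110398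
theorem F140086 : act 4 n30045 = n25097 := d33_1 D30045 (iv D25097) (iv F110399)
theorem F140087 : act 6 n30045 = n24545 := d40_1 D30045 (iv D24545) (iv F110400)
def n30046 : Q := act 0 n24530
theorem D30046 : act 0 n24530 = n30046 := rfl
theorem F140088 : act 2 n30046 = n24551 := d1_2 (iv F110408) D30046 F133787
theorem F140089 : act 3 n30046 = n30046 := d2_2 F110409 D30046 (iv D30046)
theorem F140090 : act 5 n30046 = n24546 := d4_2 (iv F110410) D30046 (iv D24546)
theorem F140091 : act 7 n30046 = n24548 := d6_2 F140006 D30046 (iv F140002)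
theorem F140092 : act 9 n30046 = n30046 := d8_2 F110411 D30046 (iv D30046)
def n30047 : Q := act 6 n24530
theorem D30047 : act 6 n24530 = n30047 := rfl
theorem F140093 : act 1 n30047 = n24531 := d13_1 D30047 (iv D24531) D24530
theorem F140094 : act 2 n30047 = n24605 := d20_1 D30047 (iv D24605) (iv F110408)
theorem F140095 : act 3 n30047 = n30047 := d26_1 D30047 (iv D30047) F110409
theorem F140096 : act 9 n30047 = n30047 := d41_2 F110411 D30047 (iv D30047)
def n30048 : Q := act 5 n24531
theorem D30048 : act 5 n24531 = n30048 := rfl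
theorem F140097 : act 2 n30048 = n24532 := d19_1 D30048 (iv D24532) (iv F110412)
theorem F140098 : act 3 n30048 = n30048 := d25_1 D30048 (iv D30048) F110413
theorem F140099 : act 6 n30048 = n24548 := d35_2 D24531 D30048 (iv D24548) (iv D19383) (iv F87849)
theorem F140100 : act 9 n30048 = n30048 := d38_2 F110414 D30048 (iv D30048)
def n30049 : Q := act 7 n24531
theorem D30049 : act 7 n24531 = n30049 := rfl
theorem F140101 : act 2 n30049 = n24533 := d21_1 D30049 (iv D24533) (iv F110412)
theorem F140102 : act 3 n30049 = n30049 := d27_1 D30049 (iv D30049) F110413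
theorem F140103 : act 9 n30049 = n30049 := d43_2 F110414 D30049 (iv D30049)
def n30050 : Q := act 4 n24532
theorem D30050 : act 4 n24532 = n30050 := rfl
theorem F140104 : act 1 n30050 = n24608 := d11_1 D30050 (iv D24608) (iv F110415)
theorem F140105 : act 3 n30050 = n30050 := d24_1 D30050 (iv D30050) F110416 F87856 (iv F110416)
theorem F140106 : act 6 n30050 = n24550 := d31_2 (iv F110417) D30050 (iv D24550)
theorem F140107 : act 9 n30050 = n30050 := d34_2 F110418 D30050 (iv D30050)
def n30051 : Q := act 7 n24532
theorem D30051 : act 7 n24532 = n30051 := rfl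
theorem F140108 : act 1 n30051 = n24609 := d14_1 D30051 (iv D24609) (iv F110415)
theorem F140109 : act 3 n30051 = n24534 := d27_1 D30051 (iv D24534) (iv F110416)
theorem F140110 : act 5 n30051 = n24533 := d36_1 D30051 (iv D24533) D24532
theorem F140111 : act 9 n30051 = n30051 := d43_2 F110418 D30051 (iv D30051)
def n30052 : Q := act 8 n24532
theorem D30052 : act 8 n24532 = n30052 := rfl
theorem F140112 : act 1 n30052 = n24610 := d15_1 D30052 (iv D24610) (iv F110415)
theorem F140113 : act 3 n30052 = n24535 := d28_1 D30052 (iv D24535) (iv F110416)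
theorem F140114 : act 6 n30052 = n24552 := d40_1 D30052 (iv D24552) (iv F110417)
def n30053 : Q := act 6 n24534
theorem D30053 : act 6 n24534 = n30053 := rfl
theorem F140115 : act 0 n30053 = n24702 := d5_1 D30053 (iv F139969) F139964
theorem F140116 : act 1 n30053 = n24611 := d13_1 D30053 (iv D24611) (iv F110422)
theorem F140117 : act 2 n30053 = n30053 := d20_1 D30053 (iv D30053) F110423
theorem F140118 : act 4 n30053 = n30053 := d31_1 D30053 (iv D30053) F110424
theorem F140119 : act 5 n30053 = n25187 := d35_1 D30053 (iv F140081) F140080 F110406 (iv F110425)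
theorem F140120 : act 7 n30053 = n24553 := d39_2 D24534 D30053 (iv D24553) (iv D19386) (iv F87857)
theorem F140121 : act 9 n30053 = n30053 := d41_2 F110426 D30053 (iv D30053)
def n30054 : Q := act 8 n24534
theorem D30054 : act 8 n24534 = n30054 := rfl
theorem F140122 : act 1 n30054 = n24612 := d15_1 D30054 (iv D24612) (iv F110422)
theorem F140123 : act 2 n30054 = n30054 := d22_1 D30054 (iv D30054) F110423
theorem F140124 : act 4 n30054 = n30054 := d33_1 D30054 (iv D30054) F110424
theorem F140125 : act 7 n30054 = n24535 := d42_1 D30054 (iv D24535) D24534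
def n30055 : Q := act 9 n24535
theorem D30055 : act 9 n24535 = n30055 := rfl
theorem F140126 : act 0 n30055 = n25317 := d8_1 D30055 (iv F138938) F138933
theorem F140127 : act 1 n30055 = n24613 := d16_1 D30055 (iv D24613) (iv F110427)
theorem F140128 : act 2 n30055 = n30055 := d23_1 D30055 (iv D30055) F110428
theorem F140129 : act 4 n30055 = n30055 := d34_1 D30055 (iv D30055) F110429
theorem F140130 : act 6 n30055 = n24555 := d41_1 D30055 (iv D24555) (iv F110430)
theorem F140131 : act 8 n30055 = n30055 := d44_1 D30055 (iv D30055) (iv D24535) F87858 D24535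
def n30056 : Q := act 8 n24542
theorem D30056 : act 8 n24542 = n30056 := rfl
theorem F140132 : act 1 n30056 = n24626 := d15_1 D30056 (iv D24626) (iv F110468)
theorem F140133 : act 3 n30056 = n24545 := d28_1 D30056 (iv D24545) (iv F110469)
theorem F140134 : act 4 n30056 = n25528 := d33_1 D30056 F114780 (iv F134982)
theorem F140135 : act 5 n30056 = n24562 := d37_1 D30056 (iv D24562) (iv D19390) (iv F87892) D24542
theorem F140136 : act 7 n30056 = n25124 := d42_1 D30056 F113235 (iv F134983)
def n30057 : Q := act 5 n24547
theorem D30057 : act 5 n24547 = n30057 := rfl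
theorem F140137 : act 0 n30057 = n25102 := d4_1 D30057 (iv F139975) F139971
theorem F140138 : act 1 n30057 = n24548 := d12_1 D30057 (iv D24548) (iv F110489)
theorem F140139 : act 2 n30057 = n24631 := d19_1 D30057 (iv D24631) (iv F110490)
theorem F140140 : act 3 n30057 = n30057 := d25_1 D30057 (iv D30057) F110491
theorem F140141 : act 9 n30057 = n30057 := d38_2 F110494 D30057 (iv D30057)
theorem F140142 : act 4 n25494 = n30057 := d18_0 F140139 F135127 (iv F114647)
def n30058 : Q := act 4 n24548
theorem D30058 : act 4 n24548 = n30058 := rfl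
theorem F140143 : act 0 n30058 = n25455 := d3_1 D30058 F140008 F140002
theorem F140144 : act 1 n30058 = n25494 := d11_1 D30058 F140142 F140138
theorem F140145 : act 2 n30058 = n24550 := d18_1 D30058 (iv D24550) (iv F110495)
theorem F140146 : act 5 n30058 = n30058 := d30_2 D24548 D30058 (iv D30058) (iv D24548) F87910
theorem F140147 : act 9 n30058 = n30058 := d34_2 F110497 D30058 (iv D30058)
theorem F140148 : act 3 n27115 = n30058 := d10_0 F140144 F114648 (iv F120862)
def n30059 : Q := act 8 n24548
theorem D30059 : act 8 n24548 = n30059 := rfl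
theorem F140149 : act 2 n30059 = n24552 := d22_1 D30059 (iv D24552) (iv F110495)
theorem F140150 : act 3 n30059 = n30059 := d28_1 D30059 (iv D30059) F110496
theorem F140151 : act 5 n30059 = n24571 := d37_1 D30059 (iv D24571) (iv D19396) (iv F87911) D24548
def n30060 : Q := act 7 n24550
theorem D30060 : act 7 n24550 = n30060 := rfl
theorem F140152 : act 0 n30060 = n24592 := d6_1 D30060 (iv F136897) F136892
theorem F140153 : act 1 n30060 = n24636 := d14_1 D30060 (iv D24636) (iv F110503)
theorem F140154 : act 3 n30060 = n30060 := d27_1 D30060 (iv D30060) F110504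
theorem F140155 : act 4 n30060 = n24551 := d32_1 D30060 (iv D24551) D24550
theorem F140156 : act 5 n30060 = n30060 := d36_1 D30060 (iv D30060) F110505
theorem F140157 : act 9 n30060 = n30060 := d43_2 F110506 D30060 (iv D30060)
def n30061 : Q := act 8 n24550
theorem D30061 : act 8 n24550 = n30061 := rfl
theorem F140158 : act 1 n30061 = n24637 := d15_1 D30061 (iv D24637) (iv F110503)
theorem F140159 : act 3 n30061 = n30061 := d28_1 D30061 (iv D30061) F110504
theorem F140160 : act 4 n30061 = n24552 := d33_1 D30061 (iv D24552) D24550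
def n30062 : Q := act 6 n24551
theorem D30062 : act 6 n24551 = n30062 := rfl
theorem F140161 : act 0 n30062 = n24605 := d5_1 D30062 (iv D24605) (iv F133787)
theorem F140162 : act 1 n30062 = n24638 := d13_1 D30062 (iv D24638) (iv F110507)
theorem F140163 : act 3 n30062 = n24553 := d26_1 D30062 (iv D24553) (iv F110508)
theorem F140164 : act 5 n30062 = n25137 := d35_1 D30062 (iv D25137) (iv F133777) F110474 (iv F110509)
theorem F140165 : act 9 n30062 = n30062 := d41_2 F110510 D30062 (iv D30062)
def n30063 : Q := act 9 n24552
theorem D30063 : act 9 n24552 = n30063 := rfl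
theorem F140166 : act 0 n30063 = n25279 := d8_1 D30063 (iv F138553) F138548
theorem F140167 : act 1 n30063 = n24640 := d16_1 D30063 (iv D24640) (iv F110511)
theorem F140168 : act 3 n30063 = n24555 := d29_1 D30063 (iv D24555) (iv F110512)
theorem F140169 : act 5 n30063 = n24576 := d38_1 D30063 (iv D24576) (iv F110513)
theorem F140170 : act 7 n30063 = n24668 := d43_1 D30063 (iv F138604) F138602
theorem F140171 : act 8 n30063 = n30063 := d44_1 D30063 (iv D30063) (iv D24552) F87915 D24552
def n30064 : Q := act 8 n24560
theorem D30064 : act 8 n24560 = n30064 := rfl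
theorem F140172 : act 1 n30064 = n24650 := d15_1 D30064 (iv D24650) (iv F110546)
theorem F140173 : act 3 n30064 = n30064 := d28_1 D30064 (iv D30064) F110547
theorem F140174 : act 4 n30064 = n24562 := d33_1 D30064 (iv D24562) D24560
def n30065 : Q := act 8 n24561
theorem D30065 : act 8 n24561 = n30065 := rfl
theorem F140175 : act 0 n30065 = n24660 := d7_1 D30065 (iv D24660) (iv F133782)
theorem F140176 : act 1 n30065 = n24652 := d15_1 D30065 (iv D24652) (iv F110550)
theorem F140177 : act 3 n30065 = n24564 := d28_1 D30065 (iv D24564) (iv F110551)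
theorem F140178 : act 5 n30065 = n25124 := d37_1 D30065 F113235 (iv F133777) F110475 (iv F110552)
theorem F140179 : act 7 n30065 = n24562 := d42_1 D30065 (iv D24562) D24561
def n30066 : Q := act 9 n24562
theorem D30066 : act 9 n24562 = n30066 := rfl
theorem F140180 : act 1 n30066 = n24653 := d16_1 D30066 (iv D24653) (iv F110554)
theorem F140181 : act 3 n30066 = n24565 := d29_1 D30066 (iv D24565) (iv F110555)
theorem F140182 : act 8 n30066 = n24890 := d44_1 D30066 (iv D24890) (iv D19638) (iv F87941) D24562
def n30067 : Q := act 4 n24567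
theorem D30067 : act 4 n24567 = n30067 := rfl
theorem F140183 : act 0 n30067 = n24890 := d3_1 D30067 (iv F138182) F138179
theorem F140184 : act 1 n30067 = n24569 := d11_1 D30067 (iv D24569) (iv F110574)
theorem F140185 : act 2 n30067 = n24658 := d18_1 D30067 (iv D24658) (iv F110575)
theorem F140186 : act 5 n30067 = n30067 := d30_2 D24567 D30067 (iv D30067) (iv D24567) F87962
theorem F140187 : act 7 n30067 = n24938 := d32_2 F138219 D30067 (iv F138217)
theorem F140188 : act 9 n30067 = n24861 := d34_2 (iv F110577) D30067 F111922
theorem F140189 : act 3 n24864 = n30067 := d29_3 F140188 F111921 D24864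
def n30068 : Q := act 8 n24567
theorem D30068 : act 8 n24567 = n30068 := rfl
theorem F140190 : act 1 n30068 = n24571 := d15_1 D30068 (iv D24571) (iv F110574)
theorem F140191 : act 2 n30068 = n24660 := d22_1 D30068 (iv D24660) (iv F110575)
theorem F140192 : act 3 n30068 = n30068 := d28_1 D30068 (iv D30068) F110576
def n30069 : Q := act 8 n24569
theorem D30069 : act 8 n24569 = n30069 := rfl
theorem F140193 : act 0 n30069 = n25776 := d7_1 D30069 F115724 F134208
theorem F140194 : act 2 n30069 = n24573 := d22_1 D30069 (iv D24573) (iv F110584)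
theorem F140195 : act 3 n30069 = n24778 := d28_1 D30069 F111492 (iv F133836)
theorem F140196 : act 4 n30069 = n24571 := d33_1 D30069 (iv D24571) D24569
theorem F140197 : act 7 n30069 = n24665 := d42_1 D30069 F110992 (iv F133837)
theorem F140198 : act 9 n30069 = n24664 := d44_2 (iv F110586) D30069 (iv D24664) F88248 (iv F133045)
def n30070 : Q := act 9 n24571
theorem D30070 : act 9 n24571 = n30070 := rfl
theorem F140199 : act 0 n30070 = n25249 := d8_1 D30070 (iv F138335) (iv F138336)
theorem F140200 : act 2 n30070 = n24576 := d23_1 D30070 (iv D24576) (iv F110592)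
theorem F140201 : act 3 n30070 = n30070 := d29_1 D30070 (iv D30070) F110593
theorem F140202 : act 4 n30070 = n24664 := d34_1 D30070 (iv F140198) F140196
theorem F140203 : act 7 n30070 = n24662 := d43_1 D30070 (iv F138385) F138383
theorem F140204 : act 8 n30070 = n24661 := d44_1 D30070 F133801 (iv D19647) (iv F87966) D24571
def n30071 : Q := act 5 n24573
theorem D30071 : act 5 n24573 = n30071 := rfl
theorem F140205 : act 0 n30071 = n25845 := d4_1 D30071 F115971 (iv F133773)
theorem F140206 : act 1 n30071 = n24668 := d12_1 D30071 (iv D24668) (iv F110599)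
theorem F140207 : act 3 n30071 = n24586 := d25_1 D30071 (iv D24586) (iv F110600)
theorem F140208 : act 7 n30071 = n24640 := d36_2 (iv F133838) D30071 F110888
theorem F140209 : act 8 n30071 = n30071 := d37_2 D24573 D30071 (iv D30071) (iv D24573) F87973
theorem F140210 : act 9 n30071 = n24639 := d38_2 (iv F133839) D30071 F110884
def n30072 : Q := act 6 n24586
theorem D30072 : act 6 n24586 = n30072 := rfl
theorem F140211 : act 0 n30072 = n25958 := d5_1 D30072 (iv D25958) (iv F133807)
theorem F140212 : act 1 n30072 = n24678 := d13_1 D30072 (iv D24678) (iv F110656)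
theorem F140213 : act 2 n30072 = n24752 := d20_1 D30072 F111381 F134459
theorem F140214 : act 4 n30072 = n30072 := d31_1 D30072 (iv D30072) F110657
theorem F140215 : act 8 n30072 = n30072 := d40_2 F110658 D30072 (iv D30072)
theorem F140216 : act 9 n30072 = n24641 := d41_2 (iv F133841) D30072 F110893
def n30073 : Q := act 6 n24592
theorem D30073 : act 6 n24592 = n30073 := rfl
theorem F140217 : act 1 n30073 = n24593 := d13_1 D30073 (iv D24593) D24592
theorem F140218 : act 3 n30073 = n30073 := d26_1 D30073 (iv D30073) F110680
theorem F140219 : act 4 n30073 = n24605 := d31_1 D30073 (iv D24605) (iv F110681)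
theorem F140220 : act 9 n30073 = n30073 := d41_2 F110683 D30073 (iv D30073)
def n30074 : Q := act 5 n24593
theorem D30074 : act 5 n24593 = n30074 := rfl
theorem F140221 : act 0 n30074 = n26536 := d4_1 D30074 (iv D26536) (iv F110684)
theorem F140222 : act 2 n30074 = n24594 := d19_1 D30074 (iv D24594) (iv F110685)
theorem F140223 : act 3 n30074 = n30074 := d25_1 D30074 (iv D30074) F110686
theorem F140224 : act 6 n30074 = n30074 := d35_2 D24593 D30074 (iv D30074) (iv D24593) F88037
theorem F140225 : act 9 n30074 = n30074 := d38_2 F110688 D30074 (iv D30074)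
def n30075 : Q := act 7 n24593
theorem D30075 : act 7 n24593 = n30075 := rfl
theorem F140226 : act 0 n30075 = n26537 := d6_1 D30075 (iv D26537) (iv F110684)
theorem F140227 : act 2 n30075 = n24595 := d21_1 D30075 (iv D24595) (iv F110685)
theorem F140228 : act 3 n30075 = n30075 := d27_1 D30075 (iv D30075) F110686
theorem F140229 : act 4 n30075 = n24607 := d32_1 D30075 (iv D24607) (iv F110687)
theorem F140230 : act 9 n30075 = n30075 := d43_2 F110688 D30075 (iv D30075)
def n30076 : Q := act 4 n24594
theorem D30076 : act 4 n24594 = n30076 := rfl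
theorem F140231 : act 0 n30076 = n26538 := d3_1 D30076 (iv D26538) (iv F110689)
theorem F140232 : act 3 n30076 = n30076 := d24_1 D30076 (iv D30076) F110690 F88045 (iv F110690)
theorem F140233 : act 5 n30076 = n24608 := d30_2 D24594 D30076 (iv D24608) (iv D19424) (iv F88041)
theorem F140234 : act 6 n30076 = n30076 := d31_2 F110691 D30076 (iv D30076)
theorem F140235 : act 9 n30076 = n30076 := d34_2 F110692 D30076 (iv D30076)
def n30077 : Q := act 7 n24594
theorem D30077 : act 7 n24594 = n30077 := rfl
theorem F140236 : act 0 n30077 = n26539 := d6_1 D30077 (iv D26539) (iv F110689)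
theorem F140237 : act 3 n30077 = n24596 := d27_1 D30077 (iv D24596) (iv F110690)
theorem F140238 : act 5 n30077 = n24595 := d36_1 D30077 (iv D24595) D24594
theorem F140239 : act 9 n30077 = n30077 := d43_2 F110692 D30077 (iv D30077)
def n30078 : Q := act 8 n24594
theorem D30078 : act 8 n24594 = n30078 := rfl
theorem F140240 : act 0 n30078 = n26540 := d7_1 D30078 (iv D26540) (iv F110689)
theorem F140241 : act 3 n30078 = n24597 := d28_1 D30078 (iv D24597) (iv F110690)
theorem F140242 : act 6 n30078 = n30078 := d40_1 D30078 (iv D30078) F110691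
def n30079 : Q := act 6 n24596
theorem D30079 : act 6 n24596 = n30079 := rfl
theorem F140243 : act 0 n30079 = n26541 := d5_1 D30079 (iv D26541) (iv F110697)
theorem F140244 : act 2 n30079 = n30079 := d20_1 D30079 (iv D30079) F110698
theorem F140245 : act 4 n30079 = n30079 := d31_1 D30079 (iv D30079) F110699
theorem F140246 : act 7 n30079 = n30079 := d39_2 D24596 D30079 (iv D30079) (iv D24596) F88046
theorem F140247 : act 9 n30079 = n30079 := d41_2 F110701 D30079 (iv D30079)
def n30080 : Q := act 8 n24596
theorem D30080 : act 8 n24596 = n30080 := rfl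
theorem F140248 : act 0 n30080 = n26542 := d7_1 D30080 (iv D26542) (iv F110697)
theorem F140249 : act 2 n30080 = n30080 := d22_1 D30080 (iv D30080) F110698
theorem F140250 : act 4 n30080 = n30080 := d33_1 D30080 (iv D30080) F110699
theorem F140251 : act 7 n30080 = n24597 := d42_1 D30080 (iv D24597) D24596
def n30081 : Q := act 9 n24597
theorem D30081 : act 9 n24597 = n30081 := rfl
theorem F140252 : act 0 n30081 = n26543 := d8_1 D30081 (iv D26543) (iv F110702)
theorem F140253 : act 2 n30081 = n30081 := d23_1 D30081 (iv D30081) F110703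
theorem F140254 : act 4 n30081 = n30081 := d34_1 D30081 (iv D30081) F110704
theorem F140255 : act 6 n30081 = n30081 := d41_1 D30081 (iv D30081) F110705
theorem F140256 : act 8 n30081 = n30081 := d44_1 D30081 (iv D30081) (iv D24597) F88047 D24597
def n30082 : Q := act 7 n24599
theorem D30082 : act 7 n24599 = n30082 := rfl
theorem F140257 : act 0 n30082 = n26457 := d6_1 D30082 (iv D26457) (iv F134988)
theorem F140258 : act 2 n30082 = n24601 := d21_1 D30082 (iv D24601) (iv F110711)
theorem F140259 : act 3 n30082 = n24693 := d27_1 D30082 (iv D24693) (iv F110712)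
theorem F140260 : act 5 n30082 = n25133 := d36_1 D30082 (iv D25133) (iv F134989)
theorem F140261 : act 6 n30082 = n24607 := d39_1 D30082 (iv D24607) (iv D19423) (iv F88055) D24599
theorem F140262 : act 9 n30082 = n30082 := d43_2 F110713 D30082 (iv D30082)
def n30083 : Q := act 7 n24600
theorem D30083 : act 7 n24600 = n30083 := rfl
theorem F140263 : act 0 n30083 = n26455 := d6_1 D30083 (iv D26455) (iv F134985)
theorem F140264 : act 2 n30083 = n25133 := d21_1 D30083 (iv D25133) (iv F134986)
theorem F140265 : act 3 n30083 = n24602 := d27_1 D30083 (iv D24602) (iv F110715)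
theorem F140266 : act 4 n30083 = n25553 := d32_1 D30083 (iv D25553) (iv F134987)
theorem F140267 : act 5 n30083 = n24601 := d36_1 D30083 (iv D24601) D24600
theorem F140268 : act 6 n30083 = n25139 := d39_1 D30083 (iv D25139) (iv D19852) (iv F134304) (iv F110716)
theorem F140269 : act 9 n30083 = n30083 := d43_2 F110717 D30083 (iv D30083)
def n30084 : Q := act 8 n24600
theorem D30084 : act 8 n24600 = n30084 := rfl
theorem F140270 : act 0 n30084 = n25765 := d7_1 D30084 F115689 (iv F134985)
theorem F140271 : act 2 n30084 = n25121 := d22_1 D30084 F113224 (iv F134986)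
theorem F140272 : act 3 n30084 = n24603 := d28_1 D30084 (iv D24603) (iv F110715)
theorem F140273 : act 4 n30084 = n25529 := d33_1 D30084 F114783 (iv F134987)
theorem F140274 : act 6 n30084 = n24626 := d40_1 D30084 (iv D24626) (iv F110716)
def n30085 : Q := act 8 n24602
theorem D30085 : act 8 n24602 = n30085 := rfl
theorem F140275 : act 0 n30085 = n26552 := d7_1 D30085 (iv D26552) (iv F110722)
theorem F140276 : act 2 n30085 = n24698 := d22_1 D30085 (iv D24698) (iv F110723)
theorem F140277 : act 4 n30085 = n25200 := d33_1 D30085 F113524 (iv F135136)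
theorem F140278 : act 6 n30085 = n25168 := d40_1 D30085 F113396 (iv F135137)
theorem F140279 : act 7 n30085 = n24603 := d42_1 D30085 (iv D24603) D24602
def n30086 : Q := act 5 n24605
theorem D30086 : act 5 n24605 = n30086 := rfl
theorem F140280 : act 0 n30086 = n25137 := d4_1 D30086 (iv F140164) F140161
theorem F140281 : act 1 n30086 = n24606 := d12_1 D30086 (iv D24606) (iv F110733)
theorem F140282 : act 3 n30086 = n24701 := d25_1 D30086 (iv D24701) (iv F110734)
theorem F140283 : act 6 n30086 = n24631 := d35_2 D24605 D30086 (iv D24631) (iv D19439) (iv F88070)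
theorem F140284 : act 9 n30086 = n30086 := d38_2 F110735 D30086 (iv D30086)
theorem F140285 : act 4 n25560 = n30086 := d31_3 F140283 F135127 D25560
def n30087 : Q := act 7 n24605
theorem D30087 : act 7 n24605 = n30087 := rfl
theorem F140286 : act 1 n30087 = n24607 := d14_1 D30087 (iv D24607) (iv F110733)
theorem F140287 : act 3 n30087 = n24702 := d27_1 D30087 (iv D24702) (iv F110734)
theorem F140288 : act 9 n30087 = n30087 := d43_2 F110735 D30087 (iv D30087)
def n30088 : Q := act 7 n24606
theorem D30088 : act 7 n24606 = n30088 := rfl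
theorem F140289 : act 0 n30088 = n26558 := d6_1 D30088 (iv D26558) (iv F110736)
theorem F140290 : act 2 n30088 = n24609 := d21_1 D30088 (iv D24609) (iv F110737)
theorem F140291 : act 3 n30088 = n24704 := d27_1 D30088 (iv D24704) (iv F110738)
theorem F140292 : act 5 n30088 = n24607 := d36_1 D30088 (iv D24607) D24606
theorem F140293 : act 6 n30088 = n25141 := d39_1 D30088 (iv D25141) (iv F133803) (iv D24634) (iv F110739)
theorem F140294 : act 9 n30088 = n30088 := d43_2 F110740 D30088 (iv D30088)
def n30089 : Q := act 8 n24606
theorem D30089 : act 8 n24606 = n30089 := rfl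
theorem F140295 : act 0 n30089 = n26559 := d7_1 D30089 (iv D26559) (iv F110736)
theorem F140296 : act 2 n30089 = n24610 := d22_1 D30089 (iv D24610) (iv F110737)
theorem F140297 : act 3 n30089 = n24705 := d28_1 D30089 (iv D24705) (iv F110738)
theorem F140298 : act 6 n30089 = n24635 := d40_1 D30089 (iv D24635) (iv F110739)
def n30090 : Q := act 7 n24608
theorem D30090 : act 7 n24608 = n30090 := rfl
theorem F140299 : act 0 n30090 = n26560 := d6_1 D30090 (iv D26560) (iv F110745)
theorem F140300 : act 3 n30090 = n30090 := d27_1 D30090 (iv D30090) F110746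
theorem F140301 : act 4 n30090 = n24609 := d32_1 D30090 (iv D24609) D24608
theorem F140302 : act 9 n30090 = n30090 := d43_2 F110748 D30090 (iv D30090)
def n30091 : Q := act 8 n24608
theorem D30091 : act 8 n24608 = n30091 := rfl
theorem F140303 : act 0 n30091 = n26561 := d7_1 D30091 (iv D26561) (iv F110745)
theorem F140304 : act 3 n30091 = n30091 := d28_1 D30091 (iv D30091) F110746
theorem F140305 : act 4 n30091 = n24610 := d33_1 D30091 (iv D24610) D24608
theorem F140306 : act 6 n30091 = n24637 := d40_1 D30091 (iv D24637) (iv F110747)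
def n30092 : Q := act 6 n24609
theorem D30092 : act 6 n24609 = n30092 := rfl
theorem F140307 : act 0 n30092 = n26556 := d5_1 D30092 F135007 (iv F110749)
theorem F140308 : act 2 n30092 = n25141 := d20_1 D30092 (iv F140293) F140290
theorem F140309 : act 3 n30092 = n24611 := d26_1 D30092 (iv D24611) (iv F110750)
theorem F140310 : act 5 n30092 = n25139 := d35_1 D30092 (iv F140268) F140267 F110720 (iv F110751)
theorem F140311 : act 7 n30092 = n24638 := d39_2 D24609 D30092 (iv D24638) (iv D19443) (iv F88078)
theorem F140312 : act 9 n30092 = n30092 := d41_2 F110752 D30092 (iv D30092)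
def n30093 : Q := act 8 n24609
theorem D30093 : act 8 n24609 = n30093 := rfl
theorem F140313 : act 0 n30093 = n26563 := d7_1 D30093 (iv D26563) (iv F110749)
theorem F140314 : act 3 n30093 = n24612 := d28_1 D30093 (iv D24612) (iv F110750)
theorem F140315 : act 7 n30093 = n24610 := d42_1 D30093 (iv D24610) D24609
def n30094 : Q := act 9 n24610
theorem D30094 : act 9 n24610 = n30094 := rfl
theorem F140316 : act 0 n30094 = n26564 := d8_1 D30094 (iv D26564) (iv F110753)
theorem F140317 : act 3 n30094 = n24613 := d29_1 D30094 (iv D24613) (iv F110754)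
theorem F140318 : act 6 n30094 = n24640 := d41_1 D30094 (iv D24640) (iv F110755)
theorem F140319 : act 8 n30094 = n30094 := d44_1 D30094 (iv D30094) (iv D24610) F88079 D24610
def n30095 : Q := act 8 n24611
theorem D30095 : act 8 n24611 = n30095 := rfl
theorem F140320 : act 0 n30095 = n25969 := d7_1 D30095 F134782 (iv F110756)
theorem F140321 : act 2 n30095 = n24711 := d22_1 D30095 (iv D24711) (iv F110757)
theorem F140322 : act 4 n30095 = n30095 := d33_1 D30095 (iv D30095) F110758
theorem F140323 : act 6 n30095 = n24612 := d40_1 D30095 (iv D24612) D24611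
theorem F140324 : act 7 n30095 = n24641 := d42_1 D30095 (iv D24641) (iv F110759)
def n30096 : Q := act 9 n24612
theorem D30096 : act 9 n24612 = n30096 := rfl
theorem F140325 : act 0 n30096 = n26566 := d8_1 D30096 (iv D26566) (iv F110761)
theorem F140326 : act 2 n30096 = n24712 := d23_1 D30096 (iv D24712) (iv F110762)
theorem F140327 : act 4 n30096 = n30096 := d34_1 D30096 (iv D30096) F110763
theorem F140328 : act 7 n30096 = n24613 := d43_1 D30096 (iv D24613) (iv F110764)
theorem F140329 : act 8 n30096 = n30096 := d44_1 D30096 (iv D30096) (iv D24612) F88087 D24612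
def n30097 : Q := act 8 n24631
theorem D30097 : act 8 n24631 = n30097 := rfl
theorem F140330 : act 0 n30097 = n25124 := d7_1 D30097 F113235 (iv F135126)
theorem F140331 : act 1 n30097 = n24635 := d15_1 D30097 (iv D24635) (iv F110850)
theorem F140332 : act 3 n30097 = n24739 := d28_1 D30097 (iv D24739) (iv F110851)
theorem F140333 : act 4 n30097 = n25540 := d33_1 D30097 F114812 (iv F135127)
theorem F140334 : act 5 n30097 = n24660 := d37_1 D30097 (iv D24660) (iv D19459) (iv F88148) D24631
def n30098 : Q := act 8 n24634
theorem D30098 : act 8 n24634 = n30098 := rfl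
theorem F140335 : act 0 n30098 = n25764 := d7_1 D30098 F115686 F134292
theorem F140336 : act 2 n30098 = n24639 := d22_1 D30098 (iv D24639) (iv F110863)
theorem F140337 : act 3 n30098 = n24744 := d28_1 D30098 (iv D24744) (iv F110864)
theorem F140338 : act 5 n30098 = n24664 := d37_1 D30098 (iv D24664) F88247 (iv F88158) (iv F110865)
theorem F140339 : act 6 n30098 = n25142 := d40_1 D30098 (iv D25142) (iv F133803)
theorem F140340 : act 7 n30098 = n24635 := d42_1 D30098 (iv D24635) D24634
def n30099 : Q := act 9 n24635
theorem D30099 : act 9 n24635 = n30099 := rfl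
theorem F140341 : act 0 n30099 = n25861 := d8_1 D30099 F135064 (iv F110867)
theorem F140342 : act 2 n30099 = n24640 := d23_1 D30099 (iv D24640) (iv F110868)
theorem F140343 : act 3 n30099 = n24745 := d29_1 D30099 (iv D24745) (iv F110869)
theorem F140344 : act 5 n30099 = n24665 := d38_1 D30099 (iv D24665) (iv F110870)
theorem F140345 : act 8 n30099 = n30099 := d44_1 D30099 (iv D30099) (iv D24635) F88153 D24635
def n30100 : Q := act 6 n24636
theorem D30100 : act 6 n24636 = n30100 := rfl
theorem F140346 : act 0 n30100 = n26535 := d5_1 D30100 (iv D26535) (iv F135005)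
theorem F140347 : act 2 n30100 = n25140 := d20_1 D30100 (iv F137336) F137332
theorem F140348 : act 3 n30100 = n30100 := d26_1 D30100 (iv D30100) F110872
theorem F140349 : act 4 n30100 = n24638 := d31_1 D30100 (iv D24638) (iv F110873)
theorem F140350 : act 9 n30100 = n30100 := d41_2 F110875 D30100 (iv D30100)
theorem F140351 : act 5 n25563 = n30100 := d30_0 F140349 F134445 F90106 D20169 D25563
def n30101 : Q := act 8 n24636
theorem D30101 : act 8 n24636 = n30101 := rfl
theorem F140352 : act 0 n30101 = n25833 := d7_1 D30101 F115940 (iv F135005)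
theorem F140353 : act 3 n30101 = n30101 := d28_1 D30101 (iv D30101) F110872
theorem F140354 : act 4 n30101 = n24639 := d33_1 D30101 (iv D24639) (iv F110873)
theorem F140355 : act 7 n30101 = n24637 := d42_1 D30101 (iv D24637) D24636
def n30102 : Q := act 5 n24637
theorem D30102 : act 5 n24637 = n30102 := rfl
theorem F140356 : act 0 n30102 = n26601 := d4_1 D30102 (iv D26601) (iv F110876)
theorem F140357 : act 3 n30102 = n30102 := d25_1 D30102 (iv D30102) F110877
theorem F140358 : act 4 n30102 = n24668 := d30_1 D30102 (iv D24668) F88259 (iv F88170) (iv F110878)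
theorem F140359 : act 8 n30102 = n30102 := d37_2 D24637 D30102 (iv D30102) (iv D24637) F88162
def n30103 : Q := act 9 n24637
theorem D30103 : act 9 n24637 = n30103 := rfl
theorem F140360 : act 0 n30103 = n26602 := d8_1 D30103 (iv D26602) (iv F110876)
theorem F140361 : act 3 n30103 = n30103 := d29_1 D30103 (iv D30103) F110877
theorem F140362 : act 4 n30103 = n24640 := d34_1 D30103 (iv D24640) (iv F110878)
theorem F140363 : act 8 n30103 = n30103 := d44_1 D30103 (iv D30103) (iv D24637) F88163 D24637
def n30104 : Q := act 8 n24638
theorem D30104 : act 8 n24638 = n30104 := rfl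
theorem F140364 : act 0 n30104 = n25852 := d7_1 D30104 F115995 (iv F134443)
theorem F140365 : act 2 n30104 = n25142 := d22_1 D30104 (iv D25142) (iv F134444)
theorem F140366 : act 3 n30104 = n24641 := d28_1 D30104 (iv D24641) (iv F110880)
theorem F140367 : act 6 n30104 = n24639 := d40_1 D30104 (iv D24639) D24638
def n30105 : Q := act 5 n24641
theorem D30105 : act 5 n24641 = n30105 := rfl
theorem F140368 : act 0 n30105 = n25968 := d4_1 D30105 (iv D25968) F134123
theorem F140369 : act 2 n30105 = n24751 := d19_1 D30105 (iv D24751) (iv F110891)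
theorem F140370 : act 6 n30105 = n24672 := d35_2 (iv F110893) D30105 (iv D24672) F88272 (iv F88178)
theorem F140371 : act 8 n30105 = n25167 := d37_2 D24641 D30105 (iv D25167) F90180 F133792
def n30106 : Q := act 8 n24651
theorem D30106 : act 8 n24651 = n30106 := rfl
theorem F140372 : act 0 n30106 = n25771 := d7_1 D30106 F115709 F134086
theorem F140373 : act 2 n30106 = n25117 := d22_1 D30106 F113205 (iv F133796)
theorem F140374 : act 3 n30106 = n24654 := d28_1 D30106 (iv D24654) (iv F110934)
theorem F140375 : act 6 n30106 = n24652 := d40_1 D30106 (iv D24652) D24651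
def n30107 : Q := act 5 n24654
theorem D30107 : act 5 n24654 = n30107 := rfl
theorem F140376 : act 0 n30107 = n26020 := d4_1 D30107 F116516 F134130
theorem F140377 : act 2 n30107 = n24770 := d19_1 D30107 (iv D24770) (iv F110944)
theorem F140378 : act 6 n30107 = n25167 := d35_2 (iv F110946) D30107 (iv D25167) (iv D19872) F133794
theorem F140379 : act 8 n30107 = n24672 := d37_2 D24654 D30107 (iv D24672) (iv D19469) (iv F88217)
def n30108 : Q := act 8 n24658
theorem D30108 : act 8 n24658 = n30108 := rfl
theorem F140380 : act 1 n30108 = n24662 := d15_1 D30108 (iv D24662) (iv F110961)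
theorem F140381 : act 3 n30108 = n30108 := d28_1 D30108 (iv D30108) F110962
theorem F140382 : act 4 n30108 = n24660 := d33_1 D30108 (iv D24660) D24658
def n30109 : Q := act 9 n24660
theorem D30109 : act 9 n24660 = n30109 := rfl
theorem F140383 : act 1 n30109 = n24665 := d16_1 D30109 (iv D24665) (iv F110969)
theorem F140384 : act 3 n30109 = n24776 := d29_1 D30109 (iv D24776) (iv F110970)
theorem F140385 : act 8 n30109 = n24938 := d44_1 D30109 (iv D24938) (iv D19683) (iv F88234) D24660
def n30110 : Q := act 5 n24662
theorem D30110 : act 5 n24662 = n30110 := rfl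
theorem F140386 : act 0 n30110 = n26636 := d4_1 D30110 (iv D26636) (iv F110977)
theorem F140387 : act 2 n30110 = n24668 := d19_1 D30110 (iv D24668) (iv F110978)
theorem F140388 : act 3 n30110 = n30110 := d25_1 D30110 (iv D30110) F110979
theorem F140389 : act 8 n30110 = n30110 := d37_2 D24662 D30110 (iv D30110) (iv D24662) F88242
def n30111 : Q := act 8 n24663
theorem D30111 : act 8 n24663 = n30111 := rfl
theorem F140390 : act 0 n30111 = n25783 := d7_1 D30111 F134745 F134089
theorem F140391 : act 2 n30111 = n24670 := d22_1 D30111 (iv D24670) (iv F110982)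
theorem F140392 : act 3 n30111 = n24777 := d28_1 D30111 (iv D24777) (iv F110983)
theorem F140393 : act 6 n30111 = n24664 := d40_1 D30111 (iv D24664) D24663
def n30112 : Q := act 6 n24668
theorem D30112 : act 6 n24668 = n30112 := rfl
theorem F140394 : act 0 n30112 = n26644 := d5_1 D30112 (iv D26644) (iv F111001)
theorem F140395 : act 3 n30112 = n24678 := d26_1 D30112 (iv D24678) (iv F111002)
theorem F140396 : act 8 n30112 = n30112 := d40_2 F111003 D30112 (iv D30112)
def n30113 : Q := act 5 n24670
theorem D30113 : act 5 n24670 = n30113 := rfl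
theorem F140397 : act 0 n30113 = n25888 := d4_1 D30113 (iv D25888) (iv F134768)
theorem F140398 : act 3 n30113 = n24672 := d25_1 D30113 (iv D24672) (iv F111009)
def n30114 : Q := act 4 n24672
theorem D30114 : act 4 n24672 = n30114 := rfl
theorem F140399 : act 0 n30114 = n26018 := d3_1 D30114 (iv D26018) (iv F134779)
theorem F140400 : act 2 n30114 = n24781 := d18_1 D30114 (iv D24781) (iv F111016)
theorem F140401 : act 5 n30114 = n24682 := d30_2 D24672 D30114 (iv D24682) (iv D19477) (iv F88271)
def n30115 : Q := act 7 n24678
theorem D30115 : act 7 n24678 = n30115 := rfl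
theorem F140402 : act 0 n30115 = n26655 := d6_1 D30115 (iv D26655) (iv F111041)
theorem F140403 : act 2 n30115 = n30115 := d21_1 D30115 (iv D30115) F111042
theorem F140404 : act 4 n30115 = n30115 := d32_1 D30115 (iv D30115) F111043
theorem F140405 : act 8 n30115 = n30115 := d42_2 F111044 D30115 (iv D30115)
def n30116 : Q := act 3 n24682
theorem D30116 : act 3 n24682 = n30116 := rfl
theorem F140406 : act 0 n30116 = n26104 := d2_1 D30116 (iv D26104) (iv F134801)
theorem F140407 : act 6 n30116 = n30116 := d26_2 F111061 D30116 (iv D30116)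
theorem F140408 : act 8 n30116 = n30116 := d28_2 F111062 D30116 (iv D30116)
def n30117 : Q := act 7 n24701
theorem D30117 : act 7 n24701 = n30117 := rfl
theorem F140409 : act 0 n30117 = n25187 := d6_1 D30117 (iv D25187) (iv F135128)
theorem F140410 : act 1 n30117 = n24704 := d14_1 D30117 (iv D24704) (iv F111147)
theorem F140411 : act 2 n30117 = n30117 := d21_1 D30117 (iv D30117) F111148
theorem F140412 : act 4 n30117 = n25113 := d32_1 D30117 F135614 (iv F135129)
theorem F140413 : act 5 n30117 = n24702 := d36_1 D30117 (iv D24702) D24701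
theorem F140414 : act 6 n30117 = n25106 := d39_1 D30117 (iv D25106) (iv F110179) (iv F134440) (iv F111149)
theorem F140415 : act 9 n30117 = n30117 := d43_2 F111150 D30117 (iv D30117)
def n30118 : Q := act 8 n24701
theorem D30118 : act 8 n24701 = n30118 := rfl
theorem F140416 : act 0 n30118 = n25166 := d7_1 D30118 F113392 (iv F135128)
theorem F140417 : act 1 n30118 = n24705 := d15_1 D30118 (iv D24705) (iv F111147)
theorem F140418 : act 2 n30118 = n30118 := d22_1 D30118 (iv D30118) F111148
theorem F140419 : act 4 n30118 = n25207 := d33_1 D30118 F113549 (iv F135129)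
theorem F140420 : act 6 n30118 = n24739 := d40_1 D30118 (iv D24739) (iv F111149)
def n30119 : Q := act 8 n24704
theorem D30119 : act 8 n24704 = n30119 := rfl
theorem F140421 : act 0 n30119 = n26693 := d7_1 D30119 (iv D26693) (iv F111160)
theorem F140422 : act 2 n30119 = n24709 := d22_1 D30119 (iv D24709) (iv F111161)
theorem F140423 : act 4 n30119 = n25151 := d33_1 D30119 (iv D25151) (iv F135389)
theorem F140424 : act 6 n30119 = n25144 := d40_1 D30119 (iv D25144) (iv F135390)
theorem F140425 : act 7 n30119 = n24705 := d42_1 D30119 (iv D24705) D24704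
def n30120 : Q := act 9 n24705
theorem D30120 : act 9 n24705 = n30120 := rfl
theorem F140426 : act 0 n30120 = n25981 := d8_1 D30120 F135052 (iv F111164)
theorem F140427 : act 2 n30120 = n24710 := d23_1 D30120 (iv D24710) (iv F111165)
theorem F140428 : act 4 n30120 = n26067 := d34_1 D30120 (iv F135994) F135991
theorem F140429 : act 6 n30120 = n24745 := d41_1 D30120 (iv D24745) (iv F111166)
theorem F140430 : act 8 n30120 = n30120 := d44_1 D30120 (iv D30120) (iv D24705) F88371 D24705
def n30121 : Q := act 5 n24707
theorem D30121 : act 5 n24707 = n30121 := rfl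
theorem F140431 : act 0 n30121 = n26697 := d4_1 D30121 (iv D26697) (iv F111173)
theorem F140432 : act 1 n30121 = n30121 := d12_1 D30121 (iv D30121) F111174
theorem F140433 : act 3 n30121 = n30121 := d25_1 D30121 (iv D30121) F111175
theorem F140434 : act 6 n30121 = n30121 := d35_2 (iv F111177) D30121 (iv D30121) F111177 F88516
theorem F140435 : act 7 n30121 = n25195 := d36_2 (iv F134458) D30121 (iv D25195)
theorem F140436 : act 8 n30121 = n30121 := d37_2 D24707 D30121 (iv D30121) (iv D24707) F88379
theorem F140437 : act 9 n30121 = n27815 := d38_2 (iv F133812) D30121 (iv D27815)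
def n30122 : Q := act 9 n24709
theorem D30122 : act 9 n24709 = n30122 := rfl
theorem F140438 : act 0 n30122 = n26700 := d8_1 D30122 (iv D26700) (iv F111183)
theorem F140439 : act 1 n30122 = n30122 := d16_1 D30122 (iv D30122) F111184
theorem F140440 : act 3 n30122 = n24712 := d29_1 D30122 (iv D24712) (iv F111185)
theorem F140441 : act 4 n30122 = n25196 := d34_1 D30122 (iv D25196) (iv F135391)
theorem F140442 : act 6 n30122 = n25194 := d41_1 D30122 (iv D25194) (iv F135392)
theorem F140443 : act 7 n30122 = n24710 := d43_1 D30122 (iv D24710) (iv F111186)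
theorem F140444 : act 8 n30122 = n30122 := d44_1 D30122 (iv D30122) (iv D24709) F88386 D24709
def n30123 : Q := act 5 n24711
theorem D30123 : act 5 n24711 = n30123 := rfl
theorem F140445 : act 0 n30123 = n26701 := d4_1 D30123 (iv D26701) (iv F111192)
theorem F140446 : act 1 n30123 = n30123 := d12_1 D30123 (iv D30123) F111193
theorem F140447 : act 3 n30123 = n25173 := d25_1 D30123 F113410 (iv F133830)
theorem F140448 : act 7 n30123 = n24751 := d36_2 (iv F111196) D30123 (iv D24751)
theorem F140449 : act 8 n30123 = n25170 := d37_2 D24711 D30123 F113402 F90186 F135028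
def n30124 : Q := act 9 n24711
theorem D30124 : act 9 n24711 = n30124 := rfl
theorem F140450 : act 0 n30124 = n26702 := d8_1 D30124 (iv D26702) (iv F111192)
theorem F140451 : act 1 n30124 = n30124 := d16_1 D30124 (iv D30124) F111193
theorem F140452 : act 3 n30124 = n25194 := d29_1 D30124 (iv D25194) (iv F133830)
theorem F140453 : act 4 n30124 = n30124 := d34_1 D30124 (iv D30124) F111194
theorem F140454 : act 6 n30124 = n24712 := d41_1 D30124 (iv D24712) (iv F111195)
theorem F140455 : act 7 n30124 = n24752 := d43_1 D30124 (iv D24752) (iv F111196)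
theorem F140456 : act 8 n30124 = n30124 := d44_1 D30124 (iv D30124) (iv D24711) F88395 D24711
def n30125 : Q := act 9 n24744
theorem D30125 : act 9 n24744 = n30125 := rfl
theorem F140457 : act 0 n30125 = n25603 := d8_1 D30125 F134978 F134296
theorem F140458 : act 2 n30125 = n24750 := d23_1 D30125 (iv D24750) (iv F111341)
theorem F140459 : act 4 n30125 = n25075 := d34_1 D30125 (iv D25075) (iv F133813)
theorem F140460 : act 5 n30125 = n24778 := d38_1 D30125 (iv D24778) (iv F111342)
theorem F140461 : act 6 n30125 = n25145 := d41_1 D30125 (iv D25145) (iv F133814)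
theorem F140462 : act 7 n30125 = n24745 := d43_1 D30125 (iv D24745) (iv F111343)
theorem F140463 : act 8 n30125 = n30125 := d44_1 D30125 (iv D30125) (iv D24744) F88502 D24744
def n30126 : Q := act 4 n24751
theorem D30126 : act 4 n24751 = n30126 := rfl
theorem F140464 : act 0 n30126 = n26753 := d3_1 D30126 (iv D26753) (iv F111375)
theorem F140465 : act 1 n30126 = n30126 := d11_1 D30126 (iv D30126) F111376
theorem F140466 : act 3 n30126 = n25333 := d24_1 D30126 F114005 F90660 (iv F90191) (iv F134460)
theorem F140467 : act 5 n30126 = n30126 := d30_2 D24751 D30126 (iv D30126) (iv D24751) F88533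
theorem F140468 : act 6 n30126 = n24781 := d31_2 (iv F111377) D30126 (iv D24781)
theorem F140469 : act 8 n30126 = n25169 := d33_2 (iv F134461) D30126 (iv D25169)
def n30127 : Q := act 9 n24751
theorem D30127 : act 9 n24751 = n30127 := rfl
theorem F140470 : act 0 n30127 = n26754 := d8_1 D30127 (iv D26754) (iv F111375)
theorem F140471 : act 1 n30127 = n30127 := d16_1 D30127 (iv D30127) F111376
theorem F140472 : act 3 n30127 = n25174 := d29_1 D30127 (iv D25174) (iv F134460)
theorem F140473 : act 5 n30127 = n24752 := d38_1 D30127 (iv D24752) D24751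
theorem F140474 : act 6 n30127 = n24782 := d41_1 D30127 (iv D24782) (iv F111377)
def n30128 : Q := act 4 n24770
theorem D30128 : act 4 n24770 = n30128 := rfl
theorem F140475 : act 0 n30128 = n26779 := d3_1 D30128 (iv D26779) (iv F111454)
theorem F140476 : act 1 n30128 = n30128 := d11_1 D30128 (iv D30128) F111455
theorem F140477 : act 3 n30128 = n25320 := d24_1 D30128 (iv D25320) F90632 (iv F90150) (iv F135060)
theorem F140478 : act 5 n30128 = n30128 := d30_2 D24770 D30128 (iv D30128) (iv D24770) F88589
theorem F140479 : act 6 n30128 = n25169 := d31_2 (iv F135061) D30128 (iv D25169)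
theorem F140480 : act 8 n30128 = n24781 := d33_2 (iv F111456) D30128 (iv D24781)
def n30129 : Q := act 5 n24777
theorem D30129 : act 5 n24777 = n30129 := rfl
theorem F140481 : act 0 n30129 = n25775 := d4_1 D30129 F115721 F134104
theorem F140482 : act 2 n30129 = n24779 := d19_1 D30129 (iv D24779) (iv F111485)
theorem F140483 : act 6 n30129 = n25129 := d35_2 (iv F111487) D30129 F113249 (iv F133814) F111342
theorem F140484 : act 8 n30129 = n25118 := d37_2 D24777 D30129 (iv D25118) F90050 F133284
theorem F140485 : act 4 n25284 = n30129 := d33_3 F140484 F113208 D25284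
def n30130 : Q := act 9 n24777
theorem D30130 : act 9 n24777 = n30130 := rfl
theorem F140486 : act 0 n30130 = n25801 := d8_1 D30130 (iv D25801) F134104
theorem F140487 : act 2 n30130 = n24780 := d23_1 D30130 (iv D24780) (iv F111485)
theorem F140488 : act 4 n30130 = n30130 := d34_1 D30130 (iv D30130) F111486
theorem F140489 : act 6 n30130 = n24778 := d41_1 D30130 (iv D24778) (iv F111487)
theorem F140490 : act 8 n30130 = n24994 := d44_1 D30130 (iv D24994) (iv D19730) (iv F88617) D24777
def n30131 : Q := act 9 n24779
theorem D30131 : act 9 n24779 = n30131 := rfl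
theorem F140491 : act 0 n30131 = n26789 := d8_1 D30131 (iv D26789) (iv F111493)
theorem F140492 : act 1 n30131 = n30131 := d16_1 D30131 (iv D30131) F111494
theorem F140493 : act 3 n30131 = n24782 := d29_1 D30131 (iv D24782) (iv F111495)
theorem F140494 : act 4 n30131 = n25325 := d34_1 D30131 (iv D25325) (iv F133832)
theorem F140495 : act 5 n30131 = n24780 := d38_1 D30131 (iv D24780) D24779
theorem F140496 : act 6 n30131 = n25174 := d41_1 D30131 (iv D25174) (iv F133833)
def n30132 : Q := act 8 n25096
theorem D30132 : act 8 n25096 = n30132 := rfl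
theorem F140497 : act 0 n30132 = n25114 := d7_1 D30132 (iv D25114) (iv F113121)
theorem F140498 : act 1 n30132 = n25200 := d15_1 D30132 F113524 (iv F135578)
theorem F140499 : act 2 n30132 = n30132 := d22_1 D30132 (iv D30132) F113122
theorem F140500 : act 3 n30132 = n25694 := d28_1 D30132 F115399 (iv F135579)
theorem F140501 : act 5 n30132 = n25243 := d37_1 D30132 (iv D25243) F90441 (iv F89992) (iv F113123)
theorem F140502 : act 6 n30132 = n25209 := d40_1 D30132 F113558 (iv F135580)
theorem F140503 : act 7 n30132 = n25097 := d42_1 D30132 (iv D25097) D25096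
def n30133 : Q := act 1 n25098
theorem D30133 : act 1 n25098 = n30133 := rfl
theorem F140504 : act 2 n30133 = n25124 := d9_2 D25098 D30133 (iv D25124) (iv D19843) (iv F89994)
theorem F140505 : act 3 n30133 = n30133 := d10_2 F113128 D30133 (iv D30133)
theorem F140506 : act 4 n30133 = n25482 := d11_2 (iv F113129) D30133 (iv D25482)
theorem F140507 : act 8 n30133 = n25102 := d15_2 (iv F113130) D30133 (iv D25102)
def n30134 : Q := act 6 n25098
theorem D30134 : act 6 n25098 = n30134 := rfl
theorem F140508 : act 2 n30134 = n25099 := d20_1 D30134 (iv D25099) D25098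
theorem F140509 : act 3 n30134 = n30134 := d26_1 D30134 (iv D30134) F113128
theorem F140510 : act 4 n30134 = n25483 := d31_1 D30134 (iv D25483) (iv F113129)
theorem F140511 : act 8 n30134 = n25103 := d40_2 (iv F113130) D30134 (iv D25103)
def n30135 : Q := act 5 n25099
theorem D30135 : act 5 n25099 = n30135 := rfl
theorem F140512 : act 1 n30135 = n25126 := d12_1 D30135 (iv D25126) (iv F113131)
theorem F140513 : act 3 n30135 = n25100 := d25_1 D30135 (iv D25100) (iv F113132)
def n30136 : Q := act 7 n25099
theorem D30136 : act 7 n25099 = n30136 := rfl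
theorem F140514 : act 1 n30136 = n25127 := d14_1 D30136 (iv D25127) (iv F113131)
theorem F140515 : act 3 n30136 = n25101 := d27_1 D30136 (iv D25101) (iv F113132)
theorem F140516 : act 4 n30136 = n25485 := d32_1 D30136 (iv D25485) (iv F113133)
theorem F140517 : act 8 n30136 = n25105 := d42_2 (iv F113134) D30136 (iv D25105)
def n30137 : Q := act 7 n25100
theorem D30137 : act 7 n25100 = n30137 := rfl
theorem F140518 : act 1 n30137 = n25128 := d14_1 D30137 (iv D25128) (iv F113135)
theorem F140519 : act 2 n30137 = n30137 := d21_1 D30137 (iv D30137) F113136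
theorem F140520 : act 4 n30137 = n25253 := d32_1 D30137 (iv D25253) (iv F113137)
theorem F140521 : act 5 n30137 = n25101 := d36_1 D30137 (iv D25101) D25100
def n30138 : Q := act 8 n25100
theorem D30138 : act 8 n25100 = n30138 := rfl
theorem F140522 : act 1 n30138 = n25129 := d15_1 D30138 (iv D25129) (iv F113135)
theorem F140523 : act 2 n30138 = n30138 := d22_1 D30138 (iv D30138) F113136
theorem F140524 : act 4 n30138 = n25254 := d33_1 D30138 (iv D25254) (iv F113137)
theorem F140525 : act 5 n30138 = n25107 := d37_1 D30138 (iv D25107) (iv D19830) (iv F90000) D25100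
def n30139 : Q := act 6 n25102
theorem D30139 : act 6 n25102 = n30139 := rfl
theorem F140526 : act 1 n30139 = n25103 := d13_1 D30139 (iv D25103) D25102
theorem F140527 : act 2 n30139 = n25137 := d20_1 D30139 (iv D25137) (iv F113142)
theorem F140528 : act 3 n30139 = n30139 := d26_1 D30139 (iv D30139) F113143
theorem F140529 : act 4 n30139 = n25495 := d31_1 D30139 (iv D25495) (iv F113144)
theorem F140530 : act 9 n30139 = n30139 := d41_2 F113145 D30139 (iv D30139)
def n30140 : Q := act 5 n25103
theorem D30140 : act 5 n25103 = n30140 := rfl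
theorem F140531 : act 2 n30140 = n25104 := d19_1 D30140 (iv D25104) (iv F113146)
theorem F140532 : act 3 n30140 = n30140 := d25_1 D30140 (iv D30140) F113147
theorem F140533 : act 9 n30140 = n30140 := d38_2 F113149 D30140 (iv D30140)
def n30141 : Q := act 7 n25103
theorem D30141 : act 7 n25103 = n30141 := rfl
theorem F140534 : act 2 n30141 = n25105 := d21_1 D30141 (iv D25105) (iv F113146)
theorem F140535 : act 3 n30141 = n30141 := d27_1 D30141 (iv D30141) F113147
theorem F140536 : act 4 n30141 = n25497 := d32_1 D30141 (iv D25497) (iv F113148)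
theorem F140537 : act 9 n30141 = n30141 := d43_2 F113149 D30141 (iv D30141)
def n30142 : Q := act 4 n25104
theorem D30142 : act 4 n25104 = n30142 := rfl
theorem F140538 : act 0 n30142 = n25551 := d3_1 D30142 F140069 F140064
theorem F140539 : act 1 n30142 = n25140 := d11_1 D30142 (iv D25140) (iv F113150)
theorem F140540 : act 3 n30142 = n25110 := d24_1 D30142 (iv D25110) F90028 (iv F90015) (iv F113151)
theorem F140541 : act 5 n30142 = n25498 := d30_2 D25104 D30142 (iv D25498) (iv D20125) (iv F90011)
theorem F140542 : act 6 n30142 = n25550 := d31_2 F139991 D30142 F139994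
theorem F140543 : act 9 n30142 = n30142 := d34_2 F113152 D30142 (iv D30142)
def n30143 : Q := act 7 n25104
theorem D30143 : act 7 n25104 = n30143 := rfl
theorem F140544 : act 1 n30143 = n25141 := d14_1 D30143 (iv D25141) (iv F113150)
theorem F140545 : act 3 n30143 = n25106 := d27_1 D30143 (iv D25106) (iv F113151)
theorem F140546 : act 5 n30143 = n25105 := d36_1 D30143 (iv D25105) D25104
theorem F140547 : act 9 n30143 = n30143 := d43_2 F113152 D30143 (iv D30143)
def n30144 : Q := act 8 n25104
theorem D30144 : act 8 n25104 = n30144 := rfl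
theorem F140548 : act 1 n30144 = n25142 := d15_1 D30144 (iv D25142) (iv F113150)
theorem F140549 : act 3 n30144 = n25107 := d28_1 D30144 (iv D25107) (iv F113151)
def n30145 : Q := act 8 n25106
theorem D30145 : act 8 n25106 = n30145 := rfl
theorem F140550 : act 1 n30145 = n25144 := d15_1 D30145 (iv D25144) (iv F113157)
theorem F140551 : act 2 n30145 = n30145 := d22_1 D30145 (iv D30145) F113158
theorem F140552 : act 4 n30145 = n25114 := d33_1 D30145 (iv D25114) (iv F113159)
theorem F140553 : act 7 n30145 = n25107 := d42_1 D30145 (iv D25107) D25106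
def n30146 : Q := act 9 n25107
theorem D30146 : act 9 n25107 = n30146 := rfl
theorem F140554 : act 1 n30146 = n25145 := d16_1 D30146 (iv D25145) (iv F113162)
theorem F140555 : act 2 n30146 = n30146 := d23_1 D30146 (iv D30146) F113163
theorem F140556 : act 4 n30146 = n25115 := d34_1 D30146 (iv D25115) (iv F113164)
theorem F140557 : act 8 n30146 = n30146 := d44_1 D30146 (iv D30146) (iv D25107) F90016 D25107
def n30147 : Q := act 7 n25110
theorem D30147 : act 7 n25110 = n30147 := rfl
theorem F140558 : act 0 n30147 = n25650 := d6_1 D30147 (iv D25650) (iv F134925)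
theorem F140559 : act 1 n30147 = n25146 := d14_1 D30147 (iv D25146) (iv F113176)
theorem F140560 : act 2 n30147 = n27317 := d21_1 D30147 (iv D27317) (iv F134926)
theorem F140561 : act 4 n30147 = n25111 := d32_1 D30147 (iv D25111) D25110
theorem F140562 : act 5 n30147 = n25507 := d36_1 D30147 (iv D25507) (iv F113177)
theorem F140563 : act 6 n30147 = n25660 := d39_1 D30147 (iv D25660) (iv D20238) (iv F91509) (iv F134927)
theorem F140564 : act 9 n30147 = n30147 := d43_2 F113178 D30147 (iv D30147)
def n30148 : Q := act 8 n25110
theorem D30148 : act 8 n25110 = n30148 := rfl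
theorem F140565 : act 0 n30148 = n25616 := d7_1 D30148 F115097 (iv F134925)
theorem F140566 : act 1 n30148 = n25147 := d15_1 D30148 (iv D25147) (iv F113176)
theorem F140567 : act 2 n30148 = n27286 := d22_1 D30148 F121714 (iv F134926)
theorem F140568 : act 4 n30148 = n25112 := d33_1 D30148 (iv D25112) D25110
theorem F140569 : act 6 n30148 = n25615 := d40_1 D30148 F115093 (iv F134927)
def n30149 : Q := act 8 n25111
theorem D30149 : act 8 n25111 = n30149 := rfl
theorem F140570 : act 0 n30149 = n25694 := d7_1 D30149 F115399 (iv F134930)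
theorem F140571 : act 1 n30149 = n25149 := d15_1 D30149 (iv D25149) (iv F113179)
theorem F140572 : act 2 n30149 = n27364 := d22_1 D30149 F122074 (iv F134931)
theorem F140573 : act 3 n30149 = n25114 := d28_1 D30149 (iv D25114) (iv F113180)
theorem F140574 : act 5 n30149 = n25271 := d37_1 D30149 (iv D25271) F90512 (iv F90034) (iv F113181)
theorem F140575 : act 6 n30149 = n25715 := d40_1 D30149 F115485 (iv F134932)
theorem F140576 : act 7 n30149 = n25112 := d42_1 D30149 (iv D25112) D25111
def n30150 : Q := act 9 n25112
theorem D30150 : act 9 n25112 = n30150 := rfl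
theorem F140577 : act 0 n30150 = n25683 := d8_1 D30150 F115354 (iv F134933)
theorem F140578 : act 1 n30150 = n25150 := d16_1 D30150 (iv D25150) (iv F113183)
theorem F140579 : act 2 n30150 = n27356 := d23_1 D30150 F122030 (iv F134934)
theorem F140580 : act 3 n30150 = n25115 := d29_1 D30150 (iv D25115) (iv F113184)
theorem F140581 : act 5 n30150 = n25272 := d38_1 D30150 (iv D25272) (iv F113185)
theorem F140582 : act 6 n30150 = n25682 := d41_1 D30150 F115350 (iv F134935)
theorem F140583 : act 8 n30150 = n30150 := d44_1 D30150 (iv D30150) (iv D25112) F90029 D25112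
def n30151 : Q := act 8 n25113
theorem D30151 : act 8 n25113 = n30151 := rfl
theorem F140584 : act 0 n30151 = n25209 := d7_1 D30151 F113558 (iv F135612)
theorem F140585 : act 1 n30151 = n25151 := d15_1 D30151 (iv D25151) (iv F113186)
theorem F140586 : act 2 n30151 = n30151 := d22_1 D30151 (iv D30151) F113187
theorem F140587 : act 3 n30151 = n25715 := d28_1 D30151 F115485 (iv F135613)
theorem F140588 : act 6 n30151 = n25114 := d40_1 D30151 (iv D25114) D25113
theorem F140589 : act 7 n30151 = n25207 := d42_1 D30151 F113549 (iv F135614)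
def n30152 : Q := act 9 n25114
theorem D30152 : act 9 n25114 = n30152 := rfl
theorem F140590 : act 1 n30152 = n25152 := d16_1 D30152 (iv D25152) (iv F113190)
theorem F140591 : act 2 n30152 = n30152 := d23_1 D30152 (iv D30152) F113191
theorem F140592 : act 5 n30152 = n25274 := d38_1 D30152 (iv D25274) (iv F113192)
theorem F140593 : act 7 n30152 = n25115 := d43_1 D30152 (iv D25115) (iv F113193)
theorem F140594 : act 8 n30152 = n30152 := d44_1 D30152 (iv D30152) (iv D25114) F90039 D25114
def n30153 : Q := act 5 n25117
theorem D30153 : act 5 n25117 = n30153 := rfl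
theorem F140595 : act 0 n30153 = n25772 := d4_1 D30153 (iv D25772) (iv F113203)
theorem F140596 : act 3 n30153 = n25118 := d25_1 D30153 (iv D25118) (iv F113204)
theorem F140597 : act 6 n30153 = n25126 := d35_2 D25117 D30153 (iv D25126) (iv D19844) (iv F90044)
def n30154 : Q := act 7 n25117
theorem D30154 : act 7 n25117 = n30154 := rfl
theorem F140598 : act 0 n30154 = n25773 := d6_1 D30154 (iv D25773) (iv F113203)
theorem F140599 : act 3 n30154 = n25119 := d27_1 D30154 (iv D25119) (iv F113204)
theorem F140600 : act 6 n30154 = n25733 := d39_1 D30154 (iv D25733) (iv D20302) (iv F90045) D25117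
theorem F140601 : act 8 n30154 = n25739 := d42_2 (iv F113205) D30154 (iv D25739)
def n30155 : Q := act 7 n25118
theorem D30155 : act 7 n25118 = n30155 := rfl
theorem F140602 : act 0 n30155 = n25774 := d6_1 D30155 (iv D25774) (iv F113206)
theorem F140603 : act 2 n30155 = n25157 := d21_1 D30155 (iv D25157) (iv F113207)
theorem F140604 : act 4 n30155 = n25283 := d32_1 D30155 (iv D25283) (iv F113208)
theorem F140605 : act 5 n30155 = n25119 := d36_1 D30155 (iv D25119) D25118
def n30156 : Q := act 5 n25121
theorem D30156 : act 5 n25121 = n30156 := rfl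
theorem F140606 : act 0 n30156 = n25766 := d4_1 D30156 (iv D25766) (iv F113221)
theorem F140607 : act 3 n30156 = n25122 := d25_1 D30156 (iv D25122) (iv F113222)
theorem F140608 : act 6 n30156 = n25732 := d35_2 D25121 D30156 (iv D25732) (iv D20302) (iv F90058)
def n30157 : Q := act 7 n25121
theorem D30157 : act 7 n25121 = n30157 := rfl
theorem F140609 : act 0 n30157 = n25767 := d6_1 D30157 (iv D25767) (iv F113221)
theorem F140610 : act 3 n30157 = n25123 := d27_1 D30157 (iv D25123) (iv F113222)
theorem F140611 : act 4 n30157 = n25531 := d32_1 D30157 (iv D25531) (iv F113223)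
theorem F140612 : act 6 n30157 = n25127 := d39_1 D30157 (iv D25127) (iv D19844) (iv F90059) D25121
theorem F140613 : act 8 n30157 = n25133 := d42_2 (iv F113224) D30157 (iv D25133)
def n30158 : Q := act 7 n25122
theorem D30158 : act 7 n25122 = n30158 := rfl
theorem F140614 : act 0 n30158 = n25768 := d6_1 D30158 (iv D25768) (iv F113225)
theorem F140615 : act 2 n30158 = n25163 := d21_1 D30158 (iv D25163) (iv F113226)
theorem F140616 : act 5 n30158 = n25123 := d36_1 D30158 (iv D25123) D25122
def n30159 : Q := act 6 n25124
theorem D30159 : act 6 n25124 = n30159 := rfl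
theorem F140617 : act 1 n30159 = n25125 := d13_1 D30159 (iv D25125) D25124
theorem F140618 : act 3 n30159 = n25166 := d26_1 D30159 (iv D25166) (iv F113233)
theorem F140619 : act 4 n30159 = n25541 := d31_1 D30159 (iv D25541) (iv F113234)
theorem F140620 : act 8 n30159 = n25137 := d40_2 (iv F113235) D30159 (iv D25137)
def n30160 : Q := act 5 n25125
theorem D30160 : act 5 n25125 = n30160 := rfl
theorem F140621 : act 2 n30160 = n25126 := d19_1 D30160 (iv D25126) (iv F113236)
theorem F140622 : act 3 n30160 = n25167 := d25_1 D30160 (iv D25167) (iv F113237)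
def n30161 : Q := act 7 n25125
theorem D30161 : act 7 n25125 = n30161 := rfl
theorem F140623 : act 2 n30161 = n25127 := d21_1 D30161 (iv D25127) (iv F113236)
theorem F140624 : act 3 n30161 = n25168 := d27_1 D30161 (iv D25168) (iv F113237)
theorem F140625 : act 4 n30161 = n25543 := d32_1 D30161 (iv D25543) (iv F113238)
theorem F140626 : act 8 n30161 = n25139 := d42_2 (iv F113239) D30161 (iv D25139)
def n30162 : Q := act 4 n25126
theorem D30162 : act 4 n25126 = n30162 := rfl
theorem F140627 : act 3 n30162 = n25289 := d24_1 D30162 (iv D25289) F90555 (iv F90077) (iv F113240)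
theorem F140628 : act 5 n30162 = n25544 := d30_2 D25126 D30162 (iv D25544) (iv D20157) (iv F90074)
def n30163 : Q := act 7 n25126
theorem D30163 : act 7 n25126 = n30163 := rfl
theorem F140629 : act 3 n30163 = n25128 := d27_1 D30163 (iv D25128) (iv F113240)
theorem F140630 : act 5 n30163 = n25127 := d36_1 D30163 (iv D25127) D25126
def n30164 : Q := act 8 n25126
theorem D30164 : act 8 n25126 = n30164 := rfl
theorem F140631 : act 3 n30164 = n25129 := d28_1 D30164 (iv D25129) (iv F113240)
theorem F140632 : act 5 n30164 = n25142 := d37_1 D30164 (iv D25142) (iv D19853) (iv F90075) D25126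
def n30165 : Q := act 6 n25128
theorem D30165 : act 6 n25128 = n30165 := rfl
theorem F140633 : act 2 n30165 = n25172 := d20_1 D30165 (iv D25172) (iv F113244)
theorem F140634 : act 4 n30165 = n25292 := d31_1 D30165 (iv D25292) (iv F113245)
def n30166 : Q := act 8 n25128
theorem D30166 : act 8 n25128 = n30166 := rfl
theorem F140635 : act 2 n30166 = n25173 := d22_1 D30166 (iv D25173) (iv F113244)
theorem F140636 : act 4 n30166 = n25293 := d33_1 D30166 (iv D25293) (iv F113245)
theorem F140637 : act 5 n30166 = n25144 := d37_1 D30166 (iv D25144) F90115 (iv F90080) (iv F113246)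
theorem F140638 : act 7 n30166 = n25129 := d42_1 D30166 (iv D25129) D25128
def n30167 : Q := act 9 n25129
theorem D30167 : act 9 n25129 = n30167 := rfl
theorem F140639 : act 2 n30167 = n25174 := d23_1 D30167 (iv D25174) (iv F113247)
theorem F140640 : act 4 n30167 = n25294 := d34_1 D30167 (iv D25294) (iv F113248)
theorem F140641 : act 5 n30167 = n25145 := d38_1 D30167 (iv D25145) (iv F113249)
def n30168 : Q := act 7 n25137
theorem D30168 : act 7 n25137 = n30168 := rfl
theorem F140642 : act 1 n30168 = n25139 := d14_1 D30168 (iv D25139) (iv F113281)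
theorem F140643 : act 3 n30168 = n25187 := d27_1 D30168 (iv D25187) (iv F113282)
theorem F140644 : act 4 n30168 = n25562 := d32_1 D30168 (iv D25562) (iv F113283)
theorem F140645 : act 9 n30168 = n30168 := d43_2 F113284 D30168 (iv D30168)
def n30169 : Q := act 7 n25140
theorem D30169 : act 7 n25140 = n30169 := rfl
theorem F140646 : act 3 n30169 = n25146 := d27_1 D30169 (iv D25146) (iv F113292)
theorem F140647 : act 4 n30169 = n25141 := d32_1 D30169 (iv D25141) D25140
theorem F140648 : act 5 n30169 = n25566 := d36_1 D30169 (iv D25566) (iv F113293)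
theorem F140649 : act 9 n30169 = n30169 := d43_2 F113294 D30169 (iv D30169)
def n30170 : Q := act 8 n25140
theorem D30170 : act 8 n25140 = n30170 := rfl
theorem F140650 : act 3 n30170 = n25147 := d28_1 D30170 (iv D25147) (iv F113292)
theorem F140651 : act 4 n30170 = n25142 := d33_1 D30170 (iv D25142) D25140
def n30171 : Q := act 8 n25141
theorem D30171 : act 8 n25141 = n30171 := rfl
theorem F140652 : act 3 n30171 = n25144 := d28_1 D30171 (iv D25144) (iv F113295)
theorem F140653 : act 7 n30171 = n25142 := d42_1 D30171 (iv D25142) D25141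
def n30172 : Q := act 9 n25142
theorem D30172 : act 9 n25142 = n30172 := rfl
theorem F140654 : act 3 n30172 = n25145 := d29_1 D30172 (iv D25145) (iv F113298)
theorem F140655 : act 8 n30172 = n30172 := d44_1 D30172 (iv D30172) (iv D25142) F90109 D25142
def n30173 : Q := act 9 n25144
theorem D30173 : act 9 n25144 = n30173 := rfl
theorem F140656 : act 2 n30173 = n25194 := d23_1 D30173 (iv D25194) (iv F113302)
theorem F140657 : act 4 n30173 = n25152 := d34_1 D30173 (iv D25152) (iv F113303)
theorem F140658 : act 7 n30173 = n25145 := d43_1 D30173 (iv D25145) (iv F113304)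
theorem F140659 : act 8 n30173 = n30173 := d44_1 D30173 (iv D30173) (iv D25144) F90116 D25144
def n30174 : Q := act 8 n25146
theorem D30174 : act 8 n25146 = n30174 := rfl
theorem F140660 : act 2 n30174 = n30174 := d22_1 D30174 (iv D30174) F113308
theorem F140661 : act 4 n30174 = n25149 := d33_1 D30174 (iv D25149) (iv F113309)
theorem F140662 : act 7 n30174 = n25147 := d42_1 D30174 (iv D25147) D25146
def n30175 : Q := act 5 n25147
theorem D30175 : act 5 n25147 = n30175 := rfl
theorem F140663 : act 2 n30175 = n30175 := d19_1 D30175 (iv D30175) F113312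
theorem F140664 : act 4 n30175 = n25310 := d30_1 D30175 (iv D25310) F90604 (iv F90128) (iv F113313)
theorem F140665 : act 8 n30175 = n25575 := d37_2 D25147 D30175 (iv D25575) (iv D20178) (iv F90120)
def n30176 : Q := act 9 n25147
theorem D30176 : act 9 n25147 = n30176 := rfl
theorem F140666 : act 2 n30176 = n30176 := d23_1 D30176 (iv D30176) F113312
theorem F140667 : act 4 n30176 = n25150 := d34_1 D30176 (iv D25150) (iv F113313)
theorem F140668 : act 8 n30176 = n30176 := d44_1 D30176 (iv D30176) (iv D25147) F90121 D25147
def n30177 : Q := act 9 n25149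
theorem D30177 : act 9 n25149 = n30177 := rfl
theorem F140669 : act 2 n30177 = n30177 := d23_1 D30177 (iv D30177) F113318
theorem F140670 : act 3 n30177 = n25152 := d29_1 D30177 (iv D25152) (iv F113319)
theorem F140671 : act 5 n30177 = n25313 := d38_1 D30177 (iv D25313) (iv F113320)
theorem F140672 : act 7 n30177 = n25150 := d43_1 D30177 (iv D25150) (iv F113321)
theorem F140673 : act 8 n30177 = n30177 := d44_1 D30177 (iv D30177) (iv D25149) F90125 D25149
def n30178 : Q := act 5 n25151
theorem D30178 : act 5 n25151 = n30178 := rfl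
theorem F140674 : act 2 n30178 = n25195 := d19_1 D30178 (iv D25195) (iv F113326)
theorem F140675 : act 6 n30178 = n25314 := d35_2 (iv F113327) D30178 (iv D25314) F90619 (iv F90133)
theorem F140676 : act 8 n30178 = n30178 := d37_2 D25151 D30178 (iv D30178) (iv D25151) F90130
def n30179 : Q := act 9 n25151
theorem D30179 : act 9 n25151 = n30179 := rfl
theorem F140677 : act 0 n30179 = n26069 := d8_1 D30179 F135913 F135906
theorem F140678 : act 2 n30179 = n25196 := d23_1 D30179 (iv D25196) (iv F113326)
theorem F140679 : act 6 n30179 = n25152 := d41_1 D30179 (iv D25152) (iv F113327)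
theorem F140680 : act 7 n30179 = n26067 := d43_1 D30179 (iv F135994) F135992
theorem F140681 : act 8 n30179 = n30179 := d44_1 D30179 (iv D30179) (iv D25151) F90131 D25151
def n30180 : Q := act 6 n25157
theorem D30180 : act 6 n25157 = n30180 := rfl
theorem F140682 : act 0 n30180 = n27451 := d5_1 D30180 (iv D27451) (iv F113351)
theorem F140683 : act 1 n30180 = n30180 := d13_1 D30180 (iv D30180) F113352
theorem F140684 : act 4 n30180 = n25323 := d31_1 D30180 (iv D25323) (iv F113353)
theorem F140685 : act 5 n30180 = n27395 := d35_1 D30180 (iv D27395) F97086 (iv F90155) (iv F113354)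
theorem F140686 : act 7 n30180 = n25172 := d39_2 D25157 D30180 (iv D25172) (iv D19875) (iv F90151)
def n30181 : Q := act 6 n25163
theorem D30181 : act 6 n25163 = n30181 := rfl
theorem F140687 : act 0 n30181 = n27441 := d5_1 D30181 (iv D27441) (iv F113379)
theorem F140688 : act 1 n30181 = n30181 := d13_1 D30181 (iv D30181) F113380
theorem F140689 : act 5 n30181 = n25172 := d35_1 D30181 (iv D25172) F90189 (iv F90173) (iv F113381)
theorem F140690 : act 7 n30181 = n27395 := d39_2 D25163 D30181 (iv D27395) (iv D21655) (iv F90169)
def n30182 : Q := act 5 n25166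
theorem D30182 : act 5 n25166 = n30182 := rfl
theorem F140691 : act 1 n30182 = n25167 := d12_1 D30182 (iv D25167) (iv F113389)
theorem F140692 : act 2 n30182 = n30182 := d19_1 D30182 (iv D30182) F113390
def n30183 : Q := act 7 n25166
theorem D30183 : act 7 n25166 = n30183 := rfl
theorem F140693 : act 1 n30183 = n25168 := d14_1 D30183 (iv D25168) (iv F113389)
theorem F140694 : act 2 n30183 = n30183 := d21_1 D30183 (iv D30183) F113390
theorem F140695 : act 4 n30183 = n25209 := d32_1 D30183 (iv D25209) (iv F113391)
theorem F140696 : act 8 n30183 = n25187 := d42_2 (iv F113392) D30183 (iv D25187)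
def n30184 : Q := act 4 n25167
theorem D30184 : act 4 n25167 = n30184 := rfl
theorem F140697 : act 2 n30184 = n25169 := d18_1 D30184 (iv D25169) (iv F113393)
theorem F140698 : act 5 n30184 = n25210 := d30_2 D25167 D30184 (iv D25210) (iv D19902) (iv F90179)
def n30185 : Q := act 7 n25167
theorem D30185 : act 7 n25167 = n30185 := rfl
theorem F140699 : act 2 n30185 = n25170 := d21_1 D30185 (iv D25170) (iv F113393)
theorem F140700 : act 5 n30185 = n25168 := d36_1 D30185 (iv D25168) D25167
def n30186 : Q := act 7 n25169
theorem D30186 : act 7 n25169 = n30186 := rfl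
theorem F140701 : act 1 n30186 = n30186 := d14_1 D30186 (iv D30186) F113397
theorem F140702 : act 3 n30186 = n25332 := d27_1 D30186 (iv D25332) (iv F113398)
theorem F140703 : act 4 n30186 = n25170 := d32_1 D30186 (iv D25170) D25169
theorem F140704 : act 5 n30186 = n25212 := d36_1 D30186 (iv D25212) (iv F113399)
def n30187 : Q := act 6 n25170
theorem D30187 : act 6 n25170 = n30187 := rfl
theorem F140705 : act 1 n30187 = n30187 := d13_1 D30187 (iv D30187) F113400
theorem F140706 : act 3 n30187 = n25172 := d26_1 D30187 (iv D25172) (iv F113401)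
def n30188 : Q := act 8 n25172
theorem D30188 : act 8 n25172 = n30188 := rfl
theorem F140707 : act 1 n30188 = n30188 := d15_1 D30188 (iv D30188) F113406
theorem F140708 : act 4 n30188 = n25337 := d33_1 D30188 (iv D25337) (iv F113407)
theorem F140709 : act 6 n30188 = n25173 := d40_1 D30188 (iv D25173) D25172
def n30189 : Q := act 9 n25173
theorem D30189 : act 9 n25173 = n30189 := rfl
theorem F140710 : act 1 n30189 = n30189 := d16_1 D30189 (iv D30189) F113408
theorem F140711 : act 4 n30189 = n25338 := d34_1 D30189 (iv D25338) (iv F113409)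
theorem F140712 : act 5 n30189 = n25194 := d38_1 D30189 (iv D25194) (iv F113410)
theorem F140713 : act 7 n30189 = n25174 := d43_1 D30189 (iv D25174) (iv F113411)
def n30190 : Q := act 4 n25195
theorem D30190 : act 4 n25195 = n30190 := rfl
theorem F140714 : act 1 n30190 = n30190 := d11_1 D30190 (iv D30190) F113501
theorem F140715 : act 6 n30190 = n25350 := d31_2 (iv F113503) D30190 (iv D25350)
theorem F140716 : act 8 n30190 = n30190 := d33_2 F113504 D30190 (iv D30190)
def n30191 : Q := act 9 n25195
theorem D30191 : act 9 n25195 = n30191 := rfl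
theorem F140717 : act 0 n30191 = n27818 := d8_1 D30191 (iv F135979) F135973
theorem F140718 : act 1 n30191 = n30191 := d16_1 D30191 (iv D30191) F113501
theorem F140719 : act 3 n30191 = n30191 := d29_1 D30191 (iv D30191) F113502
theorem F140720 : act 5 n30191 = n25196 := d38_1 D30191 (iv D25196) D25195
theorem F140721 : act 6 n30191 = n25351 := d41_1 D30191 (iv D25351) (iv F113503)
theorem F140722 : act 7 n30191 = n27815 := d43_1 D30191 (iv F140437) F140435
def n30192 : Q := act 7 n25201
theorem D30192 : act 7 n25201 = n30192 := rfl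
theorem F140723 : act 0 n30192 = n27962 := d6_1 D30192 F124538 (iv F135617)
theorem F140724 : act 1 n30192 = n30192 := d14_1 D30192 (iv D30192) F113525
theorem F140725 : act 4 n30192 = n25202 := d32_1 D30192 (iv D25202) D25201
theorem F140726 : act 8 n30192 = n27892 := d42_2 (iv F135618) D30192 (iv D27892)
def n30193 : Q := act 6 n25202
theorem D30193 : act 6 n25202 = n30193 := rfl
theorem F140727 : act 1 n30193 = n30193 := d13_1 D30193 (iv D30193) F113527
theorem F140728 : act 3 n30193 = n25204 := d26_1 D30193 (iv D25204) (iv F113528)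
theorem F140729 : act 5 n30193 = n25213 := d35_1 D30193 (iv D25213) F90303 (iv F90273) (iv F113529)
theorem F140730 : act 7 n30193 = n30193 := d39_2 D25202 D30193 (iv D30193) (iv D25202) F90270
def n30194 : Q := act 8 n25204
theorem D30194 : act 8 n25204 = n30194 := rfl
theorem F140731 : act 1 n30194 = n30194 := d15_1 D30194 (iv D30194) F113534
theorem F140732 : act 2 n30194 = n25701 := d22_1 D30194 (iv D25701) (iv F113535)
theorem F140733 : act 5 n30194 = n30194 := d37_1 D30194 (iv D30194) F113536 F90309 (iv F113536)
theorem F140734 : act 6 n30194 = n25205 := d40_1 D30194 (iv D25205) D25204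
theorem F140735 : act 7 n30194 = n30194 := d42_1 D30194 (iv D30194) F113537
def n30195 : Q := act 5 n25207
theorem D30195 : act 5 n25207 = n30195 := rfl
theorem F140736 : act 0 n30195 = n25208 := d4_1 D30195 (iv D25208) (iv F113546)
theorem F140737 : act 2 n30195 = n30195 := d19_1 D30195 (iv D30195) F113547
theorem F140738 : act 3 n30195 = n25714 := d25_1 D30195 (iv D25714) (iv F113548)
theorem F140739 : act 6 n30195 = n30195 := d35_2 D25207 D30195 (iv D30195) (iv D25207) F90284
theorem F140740 : act 8 n30195 = n30195 := d37_2 (iv F113549) D30195 (iv D30195) F113549 F90352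
def n30196 : Q := act 4 n25208
theorem D30196 : act 4 n25208 = n30196 := rfl
theorem F140741 : act 1 n30196 = n25210 := d11_1 D30196 (iv D25210) (iv F113550)
theorem F140742 : act 2 n30196 = n30196 := d18_1 D30196 (iv D30196) F113551
theorem F140743 : act 6 n30196 = n30196 := d31_2 F113553 D30196 (iv D30196)
theorem F140744 : act 8 n30196 = n30196 := d33_2 F113554 D30196 (iv D30196)
def n30197 : Q := act 7 n25208
theorem D30197 : act 7 n25208 = n30197 := rfl
theorem F140745 : act 1 n30197 = n25211 := d14_1 D30197 (iv D25211) (iv F113550)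
theorem F140746 : act 2 n30197 = n30197 := d21_1 D30197 (iv D30197) F113551
theorem F140747 : act 3 n30197 = n25717 := d27_1 D30197 (iv D25717) (iv F113552)
theorem F140748 : act 5 n30197 = n25209 := d36_1 D30197 (iv D25209) D25208
theorem F140749 : act 8 n30197 = n30197 := d42_2 F113554 D30197 (iv D30197)
def n30198 : Q := act 3 n25210
theorem D30198 : act 3 n25210 = n30198 := rfl
theorem F140750 : act 2 n30198 = n25356 := d17_1 D30198 (iv D25356) F90732 (iv F90298) (iv F113559)
theorem F140751 : act 4 n30198 = n25718 := d24_2 D25210 D30198 (iv D25718) (iv D20284) (iv F90291)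
theorem F140752 : act 6 n30198 = n30198 := d26_2 F113560 D30198 (iv D30198)
theorem F140753 : act 8 n30198 = n30198 := d28_2 F113561 D30198 (iv D30198)
def n30199 : Q := act 7 n25210
theorem D30199 : act 7 n25210 = n30199 := rfl
theorem F140754 : act 2 n30199 = n25212 := d21_1 D30199 (iv D25212) (iv F113559)
theorem F140755 : act 4 n30199 = n25211 := d32_1 D30199 (iv D25211) D25210
theorem F140756 : act 8 n30199 = n30199 := d42_2 F113561 D30199 (iv D30199)
def n30200 : Q := act 6 n25211
theorem D30200 : act 6 n25211 = n30200 := rfl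
theorem F140757 : act 2 n30200 = n25213 := d20_1 D30200 (iv D25213) (iv F113562)
theorem F140758 : act 3 n30200 = n25720 := d26_1 D30200 (iv D25720) (iv F113563)
theorem F140759 : act 7 n30200 = n30200 := d39_2 D25211 D30200 (iv D30200) (iv D25211) F90292
theorem F140760 : act 8 n30200 = n30200 := d40_2 F113565 D30200 (iv D30200)
def n30201 : Q := act 6 n25212
theorem D30201 : act 6 n25212 = n30201 := rfl
theorem F140761 : act 1 n30201 = n30201 := d13_1 D30201 (iv D30201) F113566
theorem F140762 : act 3 n30201 = n25359 := d26_1 D30201 (iv D25359) (iv F113567)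
theorem F140763 : act 4 n30201 = n25213 := d31_1 D30201 (iv D25213) (iv F113568)
theorem F140764 : act 7 n30201 = n30201 := d39_2 D25212 D30201 (iv D30201) (iv D25212) F90299
theorem F140765 : act 8 n30201 = n30201 := d40_2 F113569 D30201 (iv D30201)
def n30202 : Q := act 5 n25227
theorem D30202 : act 5 n25227 = n30202 := rfl
theorem F140766 : act 0 n30202 = n25251 := d4_1 D30202 (iv D25251) (iv F113635)
theorem F140767 : act 3 n30202 = n25228 := d25_1 D30202 (iv D25228) (iv F113636)
def n30203 : Q := act 7 n25227
theorem D30203 : act 7 n25227 = n30203 := rfl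
theorem F140768 : act 0 n30203 = n25252 := d6_1 D30203 (iv D25252) (iv F113635)
theorem F140769 : act 3 n30203 = n25229 := d27_1 D30203 (iv D25229) (iv F113636)
theorem F140770 : act 4 n30203 = n25733 := d32_1 D30203 (iv D25733) (iv F113637)
theorem F140771 : act 8 n30203 = n25233 := d42_2 (iv F113638) D30203 (iv D25233)
def n30204 : Q := act 7 n25228
theorem D30204 : act 7 n25228 = n30204 := rfl
theorem F140772 : act 0 n30204 = n25253 := d6_1 D30204 (iv D25253) (iv F113639)
theorem F140773 : act 2 n30204 = n30204 := d21_1 D30204 (iv D30204) F113640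
theorem F140774 : act 5 n30204 = n25229 := d36_1 D30204 (iv D25229) D25228
def n30205 : Q := act 8 n25228
theorem D30205 : act 8 n25228 = n30205 := rfl
theorem F140775 : act 0 n30205 = n25254 := d7_1 D30205 (iv D25254) (iv F113639)
theorem F140776 : act 2 n30205 = n30205 := d22_1 D30205 (iv D30205) F113640
theorem F140777 : act 5 n30205 = n25235 := d37_1 D30205 (iv D25235) (iv D19929) (iv F90396) D25228
def n30206 : Q := act 7 n25232
theorem D30206 : act 7 n25232 = n30206 := rfl
theorem F140778 : act 0 n30206 = n25260 := d6_1 D30206 (iv D25260) (iv F113654)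
theorem F140779 : act 2 n30206 = n26249 := d21_1 D30206 (iv D26249) (iv F134853)
theorem F140780 : act 3 n30206 = n25234 := d27_1 D30206 (iv D25234) (iv F113655)
theorem F140781 : act 4 n30206 = n26247 := d32_1 D30206 (iv D26247) (iv F134854)
theorem F140782 : act 5 n30206 = n25233 := d36_1 D30206 (iv D25233) D25232
theorem F140783 : act 9 n30206 = n25365 := d43_2 (iv F113657) D30206 (iv D25365)
def n30207 : Q := act 8 n25232
theorem D30207 : act 8 n25232 = n30207 := rfl
theorem F140784 : act 0 n30207 = n25261 := d7_1 D30207 (iv D25261) (iv F113654)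
theorem F140785 : act 2 n30207 = n26250 := d22_1 D30207 (iv D26250) (iv F134853)
theorem F140786 : act 3 n30207 = n25235 := d28_1 D30207 (iv D25235) (iv F113655)
theorem F140787 : act 4 n30207 = n26248 := d33_1 D30207 (iv D26248) (iv F134854)
theorem F140788 : act 6 n30207 = n30207 := d40_1 D30207 (iv D30207) F113656
def n30208 : Q := act 6 n25234
theorem D30208 : act 6 n25234 = n30208 := rfl
theorem F140789 : act 0 n30208 = n25262 := d5_1 D30208 (iv D25262) (iv F113662)
theorem F140790 : act 2 n30208 = n30208 := d20_1 D30208 (iv D30208) F113663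
theorem F140791 : act 4 n30208 = n25242 := d31_1 D30208 (iv D25242) (iv F113664)
theorem F140792 : act 7 n30208 = n30208 := d39_2 D25234 D30208 (iv D30208) (iv D25234) F90413
theorem F140793 : act 9 n30208 = n25367 := d41_2 (iv F113666) D30208 (iv D25367)
def n30209 : Q := act 8 n25234
theorem D30209 : act 8 n25234 = n30209 := rfl
theorem F140794 : act 0 n30209 = n25263 := d7_1 D30209 (iv D25263) (iv F113662)
theorem F140795 : act 2 n30209 = n30209 := d22_1 D30209 (iv D30209) F113663
theorem F140796 : act 4 n30209 = n25243 := d33_1 D30209 (iv D25243) (iv F113664)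
theorem F140797 : act 7 n30209 = n25235 := d42_1 D30209 (iv D25235) D25234
def n30210 : Q := act 9 n25235
theorem D30210 : act 9 n25235 = n30210 := rfl
theorem F140798 : act 0 n30210 = n25264 := d8_1 D30210 (iv D25264) (iv F113667)
theorem F140799 : act 2 n30210 = n30210 := d23_1 D30210 (iv D30210) F113668
theorem F140800 : act 4 n30210 = n25244 := d34_1 D30210 (iv D25244) (iv F113669)
theorem F140801 : act 6 n30210 = n30210 := d41_1 D30210 (iv D30210) F113670
theorem F140802 : act 8 n30210 = n25369 := d44_1 D30210 (iv D25369) (iv D20029) (iv F90414) D25235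
def n30211 : Q := act 6 n25240
theorem D30211 : act 6 n25240 = n30211 := rfl
theorem F140803 : act 0 n30211 = n25270 := d5_1 D30211 (iv D25270) (iv F113691)
theorem F140804 : act 2 n30211 = n26332 := d20_1 D30211 (iv D26332) (iv F134893)
theorem F140805 : act 3 n30211 = n25242 := d26_1 D30211 (iv D25242) (iv F113692)
theorem F140806 : act 4 n30211 = n26329 := d31_1 D30211 (iv D26329) (iv F134894)
theorem F140807 : act 5 n30211 = n30211 := d35_1 D30211 (iv D30211) F113693 F90437 (iv F113693)
theorem F140808 : act 7 n30211 = n30211 := d39_2 D25240 D30211 (iv D30211) (iv D25240) F90432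
theorem F140809 : act 9 n30211 = n25377 := d41_2 (iv F113694) D30211 (iv D25377)
def n30212 : Q := act 8 n25240
theorem D30212 : act 8 n25240 = n30212 := rfl
theorem F140810 : act 0 n30212 = n25271 := d7_1 D30212 (iv D25271) (iv F113691)
theorem F140811 : act 1 n30212 = n25696 := d15_1 D30212 (iv F136091) F136086
theorem F140812 : act 2 n30212 = n26333 := d22_1 D30212 (iv D26333) (iv F134893)
theorem F140813 : act 3 n30212 = n25243 := d28_1 D30212 (iv D25243) (iv F113692)
theorem F140814 : act 4 n30212 = n26330 := d33_1 D30212 (iv D26330) (iv F134894)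
theorem F140815 : act 5 n30212 = n25694 := d37_1 D30212 F115399 (iv F134903) F113119 (iv F113693)
theorem F140816 : act 7 n30212 = n25241 := d42_1 D30212 (iv D25241) D25240
def n30213 : Q := act 9 n25241
theorem D30213 : act 9 n25241 = n30213 := rfl
theorem F140817 : act 0 n30213 = n25272 := d8_1 D30213 (iv D25272) (iv F113695)
theorem F140818 : act 1 n30213 = n25684 := d16_1 D30213 F115357 (iv F134897)
theorem F140819 : act 2 n30213 = n26334 := d23_1 D30213 (iv D26334) (iv F134898)
theorem F140820 : act 3 n30213 = n25244 := d29_1 D30213 (iv D25244) (iv F113696)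
theorem F140821 : act 4 n30213 = n26331 := d34_1 D30213 (iv D26331) (iv F134899)
theorem F140822 : act 5 n30213 = n25683 := d38_1 D30213 F115354 (iv F134900)
theorem F140823 : act 6 n30213 = n30213 := d41_1 D30213 (iv D30213) F113697
theorem F140824 : act 8 n30213 = n25379 := d44_1 D30213 (iv D25379) (iv D20035) (iv F90433) D25241
def n30214 : Q := act 8 n25242
theorem D30214 : act 8 n25242 = n30214 := rfl
theorem F140825 : act 0 n30214 = n25273 := d7_1 D30214 (iv D25273) (iv F113698)
theorem F140826 : act 2 n30214 = n30214 := d22_1 D30214 (iv D30214) F113699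
theorem F140827 : act 6 n30214 = n25243 := d40_1 D30214 (iv D25243) D25242
theorem F140828 : act 7 n30214 = n30214 := d42_1 D30214 (iv D30214) F113701
def n30215 : Q := act 9 n25243
theorem D30215 : act 9 n25243 = n30215 := rfl
theorem F140829 : act 0 n30215 = n25274 := d8_1 D30215 (iv D25274) (iv F113703)
theorem F140830 : act 2 n30215 = n30215 := d23_1 D30215 (iv D30215) F113704
theorem F140831 : act 7 n30215 = n25244 := d43_1 D30215 (iv D25244) (iv F113705)
theorem F140832 : act 8 n30215 = n25381 := d44_1 D30215 (iv D25381) (iv D20037) (iv F90442) D25243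
def n30216 : Q := act 1 n25245
theorem D30216 : act 1 n25245 = n30216 := rfl
theorem F140833 : act 2 n30216 = n25279 := d9_2 D25245 D30216 (iv D25279) (iv D19961) (iv F90446)
theorem F140834 : act 3 n30216 = n30216 := d10_2 F113710 D30216 (iv D30216)
theorem F140835 : act 5 n30216 = n25249 := d12_2 (iv F113711) D30216 (iv D25249)
theorem F140836 : act 7 n30216 = n26636 := d14_2 F137089 D30216 (iv F137085)
theorem F140837 : act 8 n30216 = n30216 := d15_2 F113712 D30216 (iv D30216)
def n30217 : Q := act 6 n25245
theorem D30217 : act 6 n25245 = n30217 := rfl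
theorem F140838 : act 2 n30217 = n25246 := d20_1 D30217 (iv D25246) D25245
theorem F140839 : act 3 n30217 = n30217 := d26_1 D30217 (iv D30217) F113710
theorem F140840 : act 8 n30217 = n30217 := d40_2 F113712 D30217 (iv D30217)
def n30218 : Q := act 5 n25246
theorem D30218 : act 5 n25246 = n30218 := rfl
theorem F140841 : act 1 n30218 = n25281 := d12_1 D30218 (iv D25281) (iv F113713)
theorem F140842 : act 3 n30218 = n25247 := d25_1 D30218 (iv D25247) (iv F113714)
theorem F140843 : act 6 n30218 = n25251 := d35_2 D25246 D30218 (iv D25251) (iv D19941) (iv F90447)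
def n30219 : Q := act 7 n25246
theorem D30219 : act 7 n25246 = n30219 := rfl
theorem F140844 : act 1 n30219 = n25282 := d14_1 D30219 (iv D25282) (iv F113713)
theorem F140845 : act 3 n30219 = n25248 := d27_1 D30219 (iv D25248) (iv F113714)
theorem F140846 : act 8 n30219 = n30219 := d42_2 F113715 D30219 (iv D30219)
def n30220 : Q := act 7 n25247
theorem D30220 : act 7 n25247 = n30220 := rfl
theorem F140847 : act 1 n30220 = n25283 := d14_1 D30220 (iv D25283) (iv F113716)
theorem F140848 : act 2 n30220 = n30220 := d21_1 D30220 (iv D30220) F113717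
theorem F140849 : act 5 n30220 = n25248 := d36_1 D30220 (iv D25248) D25247
def n30221 : Q := act 8 n25247
theorem D30221 : act 8 n25247 = n30221 := rfl
theorem F140850 : act 1 n30221 = n25284 := d15_1 D30221 (iv D25284) (iv F113716)
theorem F140851 : act 2 n30221 = n30221 := d22_1 D30221 (iv D30221) F113717
theorem F140852 : act 5 n30221 = n30221 := d37_1 D30221 (iv D30221) (iv D25247) F90452 D25247
theorem F140853 : act 6 n30221 = n25254 := d40_1 D30221 (iv D25254) (iv F113718)
def n30222 : Q := act 6 n25249
theorem D30222 : act 6 n25249 = n30222 := rfl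
theorem F140854 : act 1 n30222 = n25250 := d13_1 D30222 (iv D25250) D25249
theorem F140855 : act 2 n30222 = n25286 := d20_1 D30222 (iv D25286) (iv F113723)
theorem F140856 : act 3 n30222 = n30222 := d26_1 D30222 (iv D30222) F113724
theorem F140857 : act 4 n30222 = n25783 := d31_1 D30222 (iv D25783) (iv F113725)
theorem F140858 : act 8 n30222 = n25256 := d40_2 (iv F113726) D30222 (iv D25256)
def n30223 : Q := act 5 n25250
theorem D30223 : act 5 n25250 = n30223 := rfl
theorem F140859 : act 2 n30223 = n25251 := d19_1 D30223 (iv D25251) (iv F113727)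
theorem F140860 : act 3 n30223 = n30223 := d25_1 D30223 (iv D30223) F113728
def n30224 : Q := act 7 n25250
theorem D30224 : act 7 n25250 = n30224 := rfl
theorem F140861 : act 2 n30224 = n25252 := d21_1 D30224 (iv D25252) (iv F113727)
theorem F140862 : act 3 n30224 = n30224 := d27_1 D30224 (iv D30224) F113728
theorem F140863 : act 4 n30224 = n25785 := d32_1 D30224 (iv D25785) (iv F113729)
theorem F140864 : act 8 n30224 = n25258 := d42_2 (iv F113730) D30224 (iv D25258)
def n30225 : Q := act 4 n25251
theorem D30225 : act 4 n25251 = n30225 := rfl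
theorem F140865 : act 1 n30225 = n25289 := d11_1 D30225 (iv D25289) (iv F113731)
theorem F140866 : act 5 n30225 = n25786 := d30_2 D25251 D30225 (iv D25786) (iv D20338) (iv F90461)
def n30226 : Q := act 7 n25251
theorem D30226 : act 7 n25251 = n30226 := rfl
theorem F140867 : act 1 n30226 = n25290 := d14_1 D30226 (iv D25290) (iv F113731)
theorem F140868 : act 3 n30226 = n25253 := d27_1 D30226 (iv D25253) (iv F113732)
theorem F140869 : act 5 n30226 = n25252 := d36_1 D30226 (iv D25252) D25251
def n30227 : Q := act 8 n25251
theorem D30227 : act 8 n25251 = n30227 := rfl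
theorem F140870 : act 1 n30227 = n25291 := d15_1 D30227 (iv D25291) (iv F113731)
theorem F140871 : act 3 n30227 = n25254 := d28_1 D30227 (iv D25254) (iv F113732)
theorem F140872 : act 5 n30227 = n25261 := d37_1 D30227 (iv D25261) (iv D19946) (iv F90462) D25251
def n30228 : Q := act 6 n25253
theorem D30228 : act 6 n25253 = n30228 := rfl
theorem F140873 : act 1 n30228 = n25292 := d13_1 D30228 (iv D25292) (iv F113737)
theorem F140874 : act 2 n30228 = n30228 := d20_1 D30228 (iv D30228) F113738
def n30229 : Q := act 8 n25253
theorem D30229 : act 8 n25253 = n30229 := rfl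
theorem F140875 : act 1 n30229 = n25293 := d15_1 D30229 (iv D25293) (iv F113737)
theorem F140876 : act 2 n30229 = n30229 := d22_1 D30229 (iv D30229) F113738
theorem F140877 : act 5 n30229 = n25263 := d37_1 D30229 (iv D25263) F90489 (iv F90468) (iv F113739)
theorem F140878 : act 7 n30229 = n25254 := d42_1 D30229 (iv D25254) D25253
def n30230 : Q := act 9 n25254
theorem D30230 : act 9 n25254 = n30230 := rfl
theorem F140879 : act 1 n30230 = n25294 := d16_1 D30230 (iv D25294) (iv F113740)
theorem F140880 : act 2 n30230 = n30230 := d23_1 D30230 (iv D30230) F113741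
theorem F140881 : act 5 n30230 = n25264 := d38_1 D30230 (iv D25264) (iv F113742)
def n30231 : Q := act 7 n25256
theorem D30231 : act 7 n25256 = n30231 := rfl
theorem F140882 : act 1 n30231 = n25258 := d14_1 D30231 (iv D25258) (iv F113748)
theorem F140883 : act 2 n30231 = n25297 := d21_1 D30231 (iv D25297) (iv F113749)
theorem F140884 : act 3 n30231 = n30231 := d27_1 D30231 (iv D30231) F113750
theorem F140885 : act 4 n30231 = n25797 := d32_1 D30231 (iv D25797) (iv F134687)
theorem F140886 : act 6 n30231 = n25918 := d39_1 D30231 (iv D25918) F92220 (iv F134054) D25256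
theorem F140887 : act 9 n30231 = n25384 := d43_2 (iv F113752) D30231 (iv D25384)
def n30232 : Q := act 6 n25260
theorem D30232 : act 6 n25260 = n30232 := rfl
theorem F140888 : act 1 n30232 = n25303 := d13_1 D30232 (iv D25303) (iv F113766)
theorem F140889 : act 3 n30232 = n25262 := d26_1 D30232 (iv D25262) (iv F113767)
theorem F140890 : act 7 n30232 = n30232 := d39_2 D25260 D30232 (iv D30232) (iv D25260) F90480
theorem F140891 : act 9 n30232 = n25390 := d41_2 (iv F113769) D30232 (iv D25390)
def n30233 : Q := act 8 n25260
theorem D30233 : act 8 n25260 = n30233 := rfl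
theorem F140892 : act 1 n30233 = n25304 := d15_1 D30233 (iv D25304) (iv F113766)
theorem F140893 : act 3 n30233 = n25263 := d28_1 D30233 (iv D25263) (iv F113767)
theorem F140894 : act 7 n30233 = n25261 := d42_1 D30233 (iv D25261) D25260
def n30234 : Q := act 9 n25261
theorem D30234 : act 9 n25261 = n30234 := rfl
theorem F140895 : act 1 n30234 = n25305 := d16_1 D30234 (iv D25305) (iv F113770)
theorem F140896 : act 3 n30234 = n25264 := d29_1 D30234 (iv D25264) (iv F113771)
theorem F140897 : act 6 n30234 = n30234 := d41_1 D30234 (iv D30234) F113772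
theorem F140898 : act 8 n30234 = n25392 := d44_1 D30234 (iv D25392) (iv D20045) (iv F90481) D25261
def n30235 : Q := act 8 n25262
theorem D30235 : act 8 n25262 = n30235 := rfl
theorem F140899 : act 1 n30235 = n25306 := d15_1 D30235 (iv D25306) (iv F113773)
theorem F140900 : act 2 n30235 = n30235 := d22_1 D30235 (iv D30235) F113774
theorem F140901 : act 4 n30235 = n25273 := d33_1 D30235 (iv D25273) (iv F113775)
theorem F140902 : act 6 n30235 = n25263 := d40_1 D30235 (iv D25263) D25262
theorem F140903 : act 7 n30235 = n30235 := d42_1 D30235 (iv D30235) F113776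
def n30236 : Q := act 9 n25263
theorem D30236 : act 9 n25263 = n30236 := rfl
theorem F140904 : act 1 n30236 = n25307 := d16_1 D30236 (iv D25307) (iv F113778)
theorem F140905 : act 2 n30236 = n30236 := d23_1 D30236 (iv D30236) F113779
theorem F140906 : act 4 n30236 = n25274 := d34_1 D30236 (iv D25274) (iv F113780)
theorem F140907 : act 7 n30236 = n25264 := d43_1 D30236 (iv D25264) (iv F113781)
theorem F140908 : act 8 n30236 = n25394 := d44_1 D30236 (iv D25394) (iv D20047) (iv F90490) D25263
def n30237 : Q := act 8 n25270
theorem D30237 : act 8 n25270 = n30237 := rfl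
theorem F140909 : act 1 n30237 = n25312 := d15_1 D30237 (iv D25312) (iv F113808)
theorem F140910 : act 3 n30237 = n25273 := d28_1 D30237 (iv D25273) (iv F113809)
theorem F140911 : act 6 n30237 = n25271 := d40_1 D30237 (iv D25271) D25270
theorem F140912 : act 7 n30237 = n30237 := d42_1 D30237 (iv D30237) F113811
def n30238 : Q := act 9 n25271
theorem D30238 : act 9 n25271 = n30238 := rfl
theorem F140913 : act 1 n30238 = n25313 := d16_1 D30238 (iv D25313) (iv F113813)
theorem F140914 : act 3 n30238 = n25274 := d29_1 D30238 (iv D25274) (iv F113814)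
theorem F140915 : act 7 n30238 = n25272 := d43_1 D30238 (iv D25272) (iv F113815)
theorem F140916 : act 8 n30238 = n25406 := d44_1 D30238 (iv D25406) (iv D20055) (iv F90513) D25271
def n30239 : Q := act 5 n25273
theorem D30239 : act 5 n25273 = n30239 := rfl
theorem F140917 : act 1 n30239 = n25314 := d12_1 D30239 (iv D25314) (iv F113820)
theorem F140918 : act 2 n30239 = n30239 := d19_1 D30239 (iv D30239) F113821
theorem F140919 : act 7 n30239 = n30239 := d36_2 F113823 D30239 (iv D30239)
theorem F140920 : act 8 n30239 = n30239 := d37_2 D25273 D30239 (iv D30239) (iv D25273) F90519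
def n30240 : Q := act 9 n25273
theorem D30240 : act 9 n25273 = n30240 := rfl
theorem F140921 : act 1 n30240 = n25315 := d16_1 D30240 (iv D25315) (iv F113820)
theorem F140922 : act 2 n30240 = n30240 := d23_1 D30240 (iv D30240) F113821
theorem F140923 : act 6 n30240 = n25274 := d41_1 D30240 (iv D25274) (iv F113822)
theorem F140924 : act 7 n30240 = n30240 := d43_1 D30240 (iv D30240) F113823
theorem F140925 : act 8 n30240 = n25408 := d44_1 D30240 (iv D25408) (iv D20057) (iv F90521) D25273
def n30241 : Q := act 1 n25275
theorem D30241 : act 1 n25275 = n30241 := rfl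
theorem F140926 : act 3 n30241 = n30241 := d10_2 F113828 D30241 (iv D30241)
theorem F140927 : act 4 n30241 = n25279 := d11_2 (iv F113829) D30241 (iv D25279)
theorem F140928 : act 5 n30241 = n25833 := d12_2 (iv F113830) D30241 (iv D25833)
theorem F140929 : act 7 n30241 = n26601 := d14_2 F136955 D30241 F136958
theorem F140930 : act 8 n30241 = n30241 := d15_2 F113831 D30241 (iv D30241)
def n30242 : Q := act 6 n25275
theorem D30242 : act 6 n25275 = n30242 := rfl
theorem F140931 : act 2 n30242 = n25276 := d20_1 D30242 (iv D25276) D25275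
theorem F140932 : act 3 n30242 = n30242 := d26_1 D30242 (iv D30242) F113828
theorem F140933 : act 4 n30242 = n25280 := d31_1 D30242 (iv D25280) (iv F113829)
theorem F140934 : act 8 n30242 = n30242 := d40_2 F113831 D30242 (iv D30242)
def n30243 : Q := act 5 n25276
theorem D30243 : act 5 n25276 = n30243 := rfl
theorem F140935 : act 3 n30243 = n25277 := d25_1 D30243 (iv D25277) (iv F113832)
theorem F140936 : act 6 n30243 = n25835 := d35_2 D25276 D30243 (iv D25835) (iv D20372) (iv F90530)
def n30244 : Q := act 7 n25276
theorem D30244 : act 7 n25276 = n30244 := rfl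
theorem F140937 : act 3 n30244 = n25278 := d27_1 D30244 (iv D25278) (iv F113832)
theorem F140938 : act 4 n30244 = n25282 := d32_1 D30244 (iv D25282) (iv F113833)
theorem F140939 : act 8 n30244 = n30244 := d42_2 F113834 D30244 (iv D30244)
def n30245 : Q := act 7 n25277
theorem D30245 : act 7 n25277 = n30245 := rfl
theorem F140940 : act 2 n30245 = n30245 := d21_1 D30245 (iv D30245) F113835
theorem F140941 : act 5 n30245 = n25278 := d36_1 D30245 (iv D25278) D25277
def n30246 : Q := act 8 n25277
theorem D30246 : act 8 n25277 = n30246 := rfl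
theorem F140942 : act 2 n30246 = n30246 := d22_1 D30246 (iv D30246) F113835
theorem F140943 : act 5 n30246 = n30246 := d37_1 D30246 (iv D30246) (iv D25277) F90534 D25277
theorem F140944 : act 6 n30246 = n25838 := d40_1 D30246 (iv D25838) (iv F113836)
def n30247 : Q := act 6 n25279
theorem D30247 : act 6 n25279 = n30247 := rfl
theorem F140945 : act 1 n30247 = n25280 := d13_1 D30247 (iv D25280) D25279
theorem F140946 : act 3 n30247 = n25317 := d26_1 D30247 (iv D25317) (iv F113840)
theorem F140947 : act 8 n30247 = n30247 := d40_2 F113842 D30247 (iv D30247)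
def n30248 : Q := act 5 n25280
theorem D30248 : act 5 n25280 = n30248 := rfl
theorem F140948 : act 2 n30248 = n25281 := d19_1 D30248 (iv D25281) (iv F113843)
theorem F140949 : act 3 n30248 = n25318 := d25_1 D30248 (iv D25318) (iv F113844)
theorem F140950 : act 6 n30248 = n25287 := d35_2 D25280 D30248 (iv D25287) (iv D19966) (iv F90539)
def n30249 : Q := act 7 n25280
theorem D30249 : act 7 n25280 = n30249 := rfl
theorem F140951 : act 2 n30249 = n25282 := d21_1 D30249 (iv D25282) (iv F113843)
theorem F140952 : act 3 n30249 = n25319 := d27_1 D30249 (iv D25319) (iv F113844)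
theorem F140953 : act 8 n30249 = n30249 := d42_2 F113845 D30249 (iv D30249)
def n30250 : Q := act 4 n25281
theorem D30250 : act 4 n25281 = n30250 := rfl
theorem F140954 : act 6 n30250 = n25289 := d31_2 (iv F113847) D30250 (iv D25289)
def n30251 : Q := act 7 n25281
theorem D30251 : act 7 n25281 = n30251 := rfl
theorem F140955 : act 3 n30251 = n25283 := d27_1 D30251 (iv D25283) (iv F113846)
theorem F140956 : act 5 n30251 = n25282 := d36_1 D30251 (iv D25282) D25281
def n30252 : Q := act 8 n25281
theorem D30252 : act 8 n25281 = n30252 := rfl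
theorem F140957 : act 3 n30252 = n25284 := d28_1 D30252 (iv D25284) (iv F113846)
theorem F140958 : act 5 n30252 = n30252 := d37_1 D30252 (iv D30252) (iv D25281) F90542 D25281
theorem F140959 : act 6 n30252 = n25291 := d40_1 D30252 (iv D25291) (iv F113847)
def n30253 : Q := act 6 n25283
theorem D30253 : act 6 n25283 = n30253 := rfl
theorem F140960 : act 2 n30253 = n25323 := d20_1 D30253 (iv D25323) (iv F113850)
theorem F140961 : act 7 n30253 = n25292 := d39_2 D25283 D30253 (iv D25292) (iv D19969) (iv F90544)
def n30254 : Q := act 8 n25283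
theorem D30254 : act 8 n25283 = n30254 := rfl
theorem F140962 : act 2 n30254 = n25324 := d22_1 D30254 (iv D25324) (iv F113850)
theorem F140963 : act 5 n30254 = n30254 := d37_1 D30254 (iv D30254) F113851 F90547 (iv F113851)
theorem F140964 : act 7 n30254 = n25284 := d42_1 D30254 (iv D25284) D25283
def n30255 : Q := act 9 n25284
theorem D30255 : act 9 n25284 = n30255 := rfl
theorem F140965 : act 2 n30255 = n25325 := d23_1 D30255 (iv D25325) (iv F113852)
theorem F140966 : act 5 n30255 = n30255 := d38_1 D30255 (iv D30255) F113853
theorem F140967 : act 6 n30255 = n25294 := d41_1 D30255 (iv D25294) (iv F113854)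
def n30256 : Q := act 5 n25286
theorem D30256 : act 5 n25286 = n30256 := rfl
theorem F140968 : act 1 n30256 = n25287 := d12_1 D30256 (iv D25287) (iv F113858)
theorem F140969 : act 3 n30256 = n25327 := d25_1 D30256 (iv D25327) (iv F113859)
def n30257 : Q := act 7 n25286
theorem D30257 : act 7 n25286 = n30257 := rfl
theorem F140970 : act 1 n30257 = n25288 := d14_1 D30257 (iv D25288) (iv F113858)
theorem F140971 : act 3 n30257 = n25328 := d27_1 D30257 (iv D25328) (iv F113859)
theorem F140972 : act 4 n30257 = n25889 := d32_1 D30257 (iv D25889) (iv F113860)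
theorem F140973 : act 6 n30257 = n25924 := d39_1 D30257 F116196 F92234 (iv F134062) D25286
theorem F140974 : act 8 n30257 = n25297 := d42_2 (iv F113861) D30257 (iv D25297)
def n30258 : Q := act 4 n25287
theorem D30258 : act 4 n25287 = n30258 := rfl
theorem F140975 : act 2 n30258 = n25289 := d18_1 D30258 (iv D25289) (iv F113862)
theorem F140976 : act 5 n30258 = n25890 := d30_2 D25287 D30258 (iv D25890) (iv D20407) (iv F90553)
def n30259 : Q := act 7 n25287
theorem D30259 : act 7 n25287 = n30259 := rfl
theorem F140977 : act 2 n30259 = n25290 := d21_1 D30259 (iv D25290) (iv F113862)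
theorem F140978 : act 3 n30259 = n25330 := d27_1 D30259 (iv D25330) (iv F113863)
theorem F140979 : act 5 n30259 = n25288 := d36_1 D30259 (iv D25288) D25287
def n30260 : Q := act 8 n25287
theorem D30260 : act 8 n25287 = n30260 := rfl
theorem F140980 : act 2 n30260 = n25291 := d22_1 D30260 (iv D25291) (iv F113862)
theorem F140981 : act 3 n30260 = n25331 := d28_1 D30260 (iv D25331) (iv F113863)
theorem F140982 : act 5 n30260 = n25300 := d37_1 D30260 (iv D25300) (iv D19973) (iv F90554) D25287
def n30261 : Q := act 7 n25289
theorem D30261 : act 7 n25289 = n30261 := rfl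
theorem F140983 : act 4 n30261 = n25290 := d32_1 D30261 (iv D25290) D25289
theorem F140984 : act 5 n30261 = n25893 := d36_1 D30261 (iv D25893) (iv F113868)
def n30262 : Q := act 8 n25289
theorem D30262 : act 8 n25289 = n30262 := rfl
theorem F140985 : act 4 n30262 = n25291 := d33_1 D30262 (iv D25291) D25289
def n30263 : Q := act 6 n25290
theorem D30263 : act 6 n25290 = n30263 := rfl
theorem F140986 : act 3 n30263 = n25292 := d26_1 D30263 (iv D25292) (iv F113869)
def n30264 : Q := act 8 n25290
theorem D30264 : act 8 n25290 = n30264 := rfl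
theorem F140987 : act 3 n30264 = n25293 := d28_1 D30264 (iv D25293) (iv F113869)
theorem F140988 : act 5 n30264 = n25304 := d37_1 D30264 (iv D25304) F90584 (iv F90558) (iv F113870)
theorem F140989 : act 7 n30264 = n25291 := d42_1 D30264 (iv D25291) D25290
def n30265 : Q := act 9 n25291
theorem D30265 : act 9 n25291 = n30265 := rfl
theorem F140990 : act 3 n30265 = n25294 := d29_1 D30265 (iv D25294) (iv F113871)
theorem F140991 : act 5 n30265 = n25305 := d38_1 D30265 (iv D25305) (iv F113872)
def n30266 : Q := act 8 n25292
theorem D30266 : act 8 n25292 = n30266 := rfl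
theorem F140992 : act 2 n30266 = n25337 := d22_1 D30266 (iv D25337) (iv F113873)
theorem F140993 : act 6 n30266 = n25293 := d40_1 D30266 (iv D25293) D25292
def n30267 : Q := act 9 n25293
theorem D30267 : act 9 n25293 = n30267 := rfl
theorem F140994 : act 2 n30267 = n25338 := d23_1 D30267 (iv D25338) (iv F113874)
theorem F140995 : act 5 n30267 = n25307 := d38_1 D30267 (iv D25307) (iv F113875)
theorem F140996 : act 7 n30267 = n25294 := d43_1 D30267 (iv D25294) (iv F113876)
def n30268 : Q := act 7 n25296
theorem D30268 : act 7 n25296 = n30268 := rfl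
theorem F140997 : act 1 n30268 = n25299 := d14_1 D30268 (iv D25299) (iv F113883)
theorem F140998 : act 3 n30268 = n25341 := d27_1 D30268 (iv D25341) (iv F113884)
theorem F140999 : act 5 n30268 = n25297 := d36_1 D30268 (iv D25297) D25296
theorem F141000 : act 9 n30268 = n25412 := d43_2 (iv F113886) D30268 (iv D25412)
def n30269 : Q := act 8 n25296
theorem D30269 : act 8 n25296 = n30269 := rfl
theorem F141001 : act 1 n30269 = n25300 := d15_1 D30269 (iv D25300) (iv F113883)
theorem F141002 : act 3 n30269 = n25342 := d28_1 D30269 (iv D25342) (iv F113884)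
theorem F141003 : act 6 n30269 = n30269 := d40_1 D30269 (iv D30269) F113885
def n30270 : Q := act 7 n25298
theorem D30270 : act 7 n25298 = n30270 := rfl
theorem F141004 : act 2 n30270 = n25301 := d21_1 D30270 (iv D25301) (iv F113891)
theorem F141005 : act 3 n30270 = n30270 := d27_1 D30270 (iv D30270) F113892
theorem F141006 : act 4 n30270 = n25299 := d32_1 D30270 (iv D25299) D25298
theorem F141007 : act 5 n30270 = n25918 := d36_1 D30270 (iv D25918) (iv F113893)
theorem F141008 : act 9 n30270 = n25414 := d43_2 (iv F113895) D30270 (iv D25414)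
def n30271 : Q := act 8 n25298
theorem D30271 : act 8 n25298 = n30271 := rfl
theorem F141009 : act 2 n30271 = n25302 := d22_1 D30271 (iv D25302) (iv F113891)
theorem F141010 : act 3 n30271 = n30271 := d28_1 D30271 (iv D30271) F113892
theorem F141011 : act 4 n30271 = n25300 := d33_1 D30271 (iv D25300) D25298
theorem F141012 : act 6 n30271 = n30271 := d40_1 D30271 (iv D30271) F113894
def n30272 : Q := act 6 n25299
theorem D30272 : act 6 n25299 = n30272 := rfl
theorem F141013 : act 2 n30272 = n25303 := d20_1 D30272 (iv D25303) (iv F113896)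
theorem F141014 : act 3 n30272 = n25343 := d26_1 D30272 (iv D25343) (iv F113897)
theorem F141015 : act 7 n30272 = n30272 := d39_2 D25299 D30272 (iv D30272) (iv D25299) F90573
theorem F141016 : act 9 n30272 = n25416 := d41_2 (iv F113899) D30272 (iv D25416)
def n30273 : Q := act 8 n25299
theorem D30273 : act 8 n25299 = n30273 := rfl
theorem F141017 : act 2 n30273 = n25304 := d22_1 D30273 (iv D25304) (iv F113896)
theorem F141018 : act 3 n30273 = n25344 := d28_1 D30273 (iv D25344) (iv F113897)
theorem F141019 : act 7 n30273 = n25300 := d42_1 D30273 (iv D25300) D25299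
def n30274 : Q := act 9 n25300
theorem D30274 : act 9 n25300 = n30274 := rfl
theorem F141020 : act 0 n30274 = n26184 := d8_1 D30274 (iv F136330) F136325
theorem F141021 : act 2 n30274 = n25305 := d23_1 D30274 (iv D25305) (iv F113900)
theorem F141022 : act 3 n30274 = n25345 := d29_1 D30274 (iv D25345) (iv F113901)
theorem F141023 : act 6 n30274 = n30274 := d41_1 D30274 (iv D30274) F113902
theorem F141024 : act 8 n30274 = n25418 := d44_1 D30274 (iv D25418) (iv D20064) (iv F90574) D25300
def n30275 : Q := act 6 n25301
theorem D30275 : act 6 n25301 = n30275 := rfl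
theorem F141025 : act 3 n30275 = n25308 := d26_1 D30275 (iv D25308) (iv F113903)
theorem F141026 : act 4 n30275 = n25303 := d31_1 D30275 (iv D25303) (iv F113904)
theorem F141027 : act 7 n30275 = n30275 := d39_2 D25301 D30275 (iv D30275) (iv D25301) F90581
theorem F141028 : act 9 n30275 = n25419 := d41_2 (iv F113906) D30275 (iv D25419)
def n30276 : Q := act 8 n25301
theorem D30276 : act 8 n25301 = n30276 := rfl
theorem F141029 : act 3 n30276 = n25309 := d28_1 D30276 (iv D25309) (iv F113903)
theorem F141030 : act 4 n30276 = n25304 := d33_1 D30276 (iv D25304) (iv F113904)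
theorem F141031 : act 7 n30276 = n25302 := d42_1 D30276 (iv D25302) D25301
def n30277 : Q := act 5 n25302
theorem D30277 : act 5 n25302 = n30277 := rfl
theorem F141032 : act 3 n30277 = n25310 := d25_1 D30277 (iv D25310) (iv F113907)
theorem F141033 : act 8 n30277 = n25925 := d37_2 D25302 D30277 (iv D25925) (iv D20432) (iv F90580)
def n30278 : Q := act 9 n25302
theorem D30278 : act 9 n25302 = n30278 := rfl
theorem F141034 : act 3 n30278 = n25311 := d29_1 D30278 (iv D25311) (iv F113907)
theorem F141035 : act 4 n30278 = n25305 := d34_1 D30278 (iv D25305) (iv F113908)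
theorem F141036 : act 6 n30278 = n30278 := d41_1 D30278 (iv D30278) F113909
theorem F141037 : act 8 n30278 = n25422 := d44_1 D30278 (iv D25422) (iv D20066) (iv F90582) D25302
def n30279 : Q := act 8 n25303
theorem D30279 : act 8 n25303 = n30279 := rfl
theorem F141038 : act 3 n30279 = n25306 := d28_1 D30279 (iv D25306) (iv F113910)
theorem F141039 : act 6 n30279 = n25304 := d40_1 D30279 (iv D25304) D25303
theorem F141040 : act 7 n30279 = n30279 := d42_1 D30279 (iv D30279) F113911
def n30280 : Q := act 9 n25304
theorem D30280 : act 9 n25304 = n30280 := rfl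
theorem F141041 : act 3 n30280 = n25307 := d29_1 D30280 (iv D25307) (iv F113913)
theorem F141042 : act 7 n30280 = n25305 := d43_1 D30280 (iv D25305) (iv F113914)
theorem F141043 : act 8 n30280 = n25424 := d44_1 D30280 (iv D25424) (iv D20068) (iv F90585) D25304
def n30281 : Q := act 5 n25306
theorem D30281 : act 5 n25306 = n30281 := rfl
theorem F141044 : act 2 n30281 = n25348 := d19_1 D30281 (iv D25348) (iv F113918)
theorem F141045 : act 7 n30281 = n30281 := d36_2 F113921 D30281 (iv D30281)
def n30282 : Q := act 9 n25306
theorem D30282 : act 9 n25306 = n30282 := rfl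
theorem F141046 : act 2 n30282 = n25349 := d23_1 D30282 (iv D25349) (iv F113918)
theorem F141047 : act 4 n30282 = n25315 := d34_1 D30282 (iv D25315) (iv F113919)
theorem F141048 : act 6 n30282 = n25307 := d41_1 D30282 (iv D25307) (iv F113920)
theorem F141049 : act 7 n30282 = n30282 := d43_1 D30282 (iv D30282) F113921
theorem F141050 : act 8 n30282 = n25426 := d44_1 D30282 (iv D25426) (iv D20070) (iv F90591) D25306
def n30283 : Q := act 5 n25308
theorem D30283 : act 5 n25308 = n30283 := rfl
theorem F141051 : act 1 n30283 = n25343 := d12_1 D30283 (iv F139822) F139819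
theorem F141052 : act 2 n30283 = n30283 := d19_1 D30283 (iv D30283) F113926
theorem F141053 : act 4 n30283 = n30283 := d30_1 D30283 (iv D30283) F113927 F90608 (iv F113927)
theorem F141054 : act 6 n30283 = n25341 := d35_2 D25308 D30283 F114033 F134067 (iv F90601)
theorem F141055 : act 7 n30283 = n30283 := d36_2 F113928 D30283 (iv D30283)
theorem F141056 : act 9 n30283 = n25427 := d38_2 (iv F113929) D30283 (iv D25427)
def n30284 : Q := act 8 n25308
theorem D30284 : act 8 n25308 = n30284 := rfl
theorem F141057 : act 2 n30284 = n30284 := d22_1 D30284 (iv D30284) F113926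
theorem F141058 : act 4 n30284 = n25312 := d33_1 D30284 (iv D25312) (iv F113927)
theorem F141059 : act 6 n30284 = n25309 := d40_1 D30284 (iv D25309) D25308
theorem F141060 : act 7 n30284 = n30284 := d42_1 D30284 (iv D30284) F113928
def n30285 : Q := act 5 n25309
theorem D30285 : act 5 n25309 = n30285 := rfl
theorem F141061 : act 2 n30285 = n30285 := d19_1 D30285 (iv D30285) F113930
theorem F141062 : act 7 n30285 = n25310 := d36_2 (iv F113932) D30285 (iv D25310)
theorem F141063 : act 8 n30285 = n25933 := d37_2 D25309 D30285 (iv D25933) (iv D20439) (iv F90601)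
def n30286 : Q := act 9 n25309
theorem D30286 : act 9 n25309 = n30286 := rfl
theorem F141064 : act 2 n30286 = n30286 := d23_1 D30286 (iv D30286) F113930
theorem F141065 : act 4 n30286 = n25313 := d34_1 D30286 (iv D25313) (iv F113931)
theorem F141066 : act 7 n30286 = n25311 := d43_1 D30286 (iv D25311) (iv F113932)
theorem F141067 : act 8 n30286 = n25430 := d44_1 D30286 (iv D25430) (iv D20073) (iv F90602) D25309
def n30287 : Q := act 6 n25310
theorem D30287 : act 6 n25310 = n30287 := rfl
theorem F141068 : act 2 n30287 = n30287 := d20_1 D30287 (iv D30287) F113933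
theorem F141069 : act 5 n30287 = n30287 := d35_1 D30287 (iv D30287) (iv D25310) F90605 D25310
theorem F141070 : act 8 n30287 = n25935 := d40_2 (iv F113934) D30287 (iv D25935)
def n30288 : Q := act 9 n25310
theorem D30288 : act 9 n25310 = n30288 := rfl
theorem F141071 : act 2 n30288 = n30288 := d23_1 D30288 (iv D30288) F113933
theorem F141072 : act 5 n30288 = n25311 := d38_1 D30288 (iv D25311) D25310
def n30289 : Q := act 5 n25312
theorem D30289 : act 5 n25312 = n30289 := rfl
theorem F141073 : act 2 n30289 = n30289 := d19_1 D30289 (iv D30289) F113939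
theorem F141074 : act 3 n30289 = n25314 := d25_1 D30289 (iv D25314) (iv F113940)
theorem F141075 : act 7 n30289 = n30289 := d36_2 F113942 D30289 (iv D30289)
theorem F141076 : act 8 n30289 = n30289 := d37_2 D25312 D30289 (iv D30289) (iv D25312) F90608
def n30290 : Q := act 9 n25312
theorem D30290 : act 9 n25312 = n30290 := rfl
theorem F141077 : act 2 n30290 = n30290 := d23_1 D30290 (iv D30290) F113939
theorem F141078 : act 3 n30290 = n25315 := d29_1 D30290 (iv D25315) (iv F113940)
theorem F141079 : act 6 n30290 = n25313 := d41_1 D30290 (iv D25313) (iv F113941)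
theorem F141080 : act 7 n30290 = n30290 := d43_1 D30290 (iv D30290) F113942
theorem F141081 : act 8 n30290 = n25434 := d44_1 D30290 (iv D25434) (iv D20076) (iv F90610) D25312
def n30291 : Q := act 4 n25314
theorem D30291 : act 4 n25314 = n30291 := rfl
theorem F141082 : act 2 n30291 = n25350 := d18_1 D30291 (iv D25350) (iv F113947)
theorem F141083 : act 7 n30291 = n30291 := d32_2 F113948 D30291 (iv D30291)
theorem F141084 : act 8 n30291 = n30291 := d33_2 F113949 D30291 (iv D30291)
def n30292 : Q := act 9 n25314
theorem D30292 : act 9 n25314 = n30292 := rfl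
theorem F141085 : act 2 n30292 = n25351 := d23_1 D30292 (iv D25351) (iv F113947)
theorem F141086 : act 5 n30292 = n25315 := d38_1 D30292 (iv D25315) D25314
theorem F141087 : act 7 n30292 = n30292 := d43_1 D30292 (iv D30292) F113948
def n30293 : Q := act 5 n25317
theorem D30293 : act 5 n25317 = n30293 := rfl
theorem F141088 : act 1 n30293 = n25318 := d12_1 D30293 (iv D25318) (iv F113958)
theorem F141089 : act 2 n30293 = n30293 := d19_1 D30293 (iv D30293) F113959
theorem F141090 : act 6 n30293 = n25327 := d35_2 D25317 D30293 (iv D25327) (iv D19995) (iv F90626)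
def n30294 : Q := act 7 n25317
theorem D30294 : act 7 n25317 = n30294 := rfl
theorem F141091 : act 1 n30294 = n25319 := d14_1 D30294 (iv D25319) (iv F113958)
theorem F141092 : act 2 n30294 = n30294 := d21_1 D30294 (iv D30294) F113959
theorem F141093 : act 4 n30294 = n30294 := d32_1 D30294 (iv D30294) F113960
theorem F141094 : act 6 n30294 = n26655 := d39_1 D30294 (iv D26655) (iv D21010) (iv F134070) D25317
theorem F141095 : act 8 n30294 = n30294 := d42_2 F113961 D30294 (iv D30294)
def n30295 : Q := act 4 n25318
theorem D30295 : act 4 n25318 = n30295 := rfl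
theorem F141096 : act 2 n30295 = n25320 := d18_1 D30295 (iv D25320) (iv F113962)
theorem F141097 : act 5 n30295 = n30295 := d30_2 D25318 D30295 (iv D30295) (iv D25318) F90629
theorem F141098 : act 6 n30295 = n25329 := d31_2 (iv F113963) D30295 (iv D25329)
def n30296 : Q := act 7 n25318
theorem D30296 : act 7 n25318 = n30296 := rfl
theorem F141099 : act 2 n30296 = n25321 := d21_1 D30296 (iv D25321) (iv F113962)
theorem F141100 : act 5 n30296 = n25319 := d36_1 D30296 (iv D25319) D25318
def n30297 : Q := act 8 n25318
theorem D30297 : act 8 n25318 = n30297 := rfl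
theorem F141101 : act 2 n30297 = n25322 := d22_1 D30297 (iv D25322) (iv F113962)
theorem F141102 : act 5 n30297 = n30297 := d37_1 D30297 (iv D30297) (iv D25318) F90630 D25318
theorem F141103 : act 6 n30297 = n25331 := d40_1 D30297 (iv D25331) (iv F113963)
def n30298 : Q := act 7 n25320
theorem D30298 : act 7 n25320 = n30298 := rfl
theorem F141104 : act 1 n30298 = n30298 := d14_1 D30298 (iv D30298) F113967
theorem F141105 : act 4 n30298 = n25321 := d32_1 D30298 (iv D25321) D25320
theorem F141106 : act 5 n30298 = n30298 := d36_1 D30298 (iv D30298) F113968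
def n30299 : Q := act 6 n25321
theorem D30299 : act 6 n25321 = n30299 := rfl
theorem F141107 : act 1 n30299 = n30299 := d13_1 D30299 (iv D30299) F113970
theorem F141108 : act 3 n30299 = n25323 := d26_1 D30299 (iv D25323) (iv F113971)
theorem F141109 : act 7 n30299 = n25334 := d39_2 D25321 D30299 (iv D25334) (iv D19999) (iv F90633)
def n30300 : Q := act 8 n25321
theorem D30300 : act 8 n25321 = n30300 := rfl
theorem F141110 : act 1 n30300 = n30300 := d15_1 D30300 (iv D30300) F113970
theorem F141111 : act 3 n30300 = n25324 := d28_1 D30300 (iv D25324) (iv F113971)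
theorem F141112 : act 5 n30300 = n30300 := d37_1 D30300 (iv D30300) F113972 F90637 (iv F113972)
theorem F141113 : act 7 n30300 = n25322 := d42_1 D30300 (iv D25322) D25321
def n30301 : Q := act 8 n25323
theorem D30301 : act 8 n25323 = n30301 := rfl
theorem F141114 : act 1 n30301 = n30301 := d15_1 D30301 (iv D30301) F113977
theorem F141115 : act 6 n30301 = n25324 := d40_1 D30301 (iv D25324) D25323
theorem F141116 : act 7 n30301 = n25337 := d42_1 D30301 (iv D25337) (iv F113978)
def n30302 : Q := act 9 n25324
theorem D30302 : act 9 n25324 = n30302 := rfl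
theorem F141117 : act 1 n30302 = n30302 := d16_1 D30302 (iv D30302) F113979
theorem F141118 : act 5 n30302 = n30302 := d38_1 D30302 (iv D30302) F113980
theorem F141119 : act 7 n30302 = n25325 := d43_1 D30302 (iv D25325) (iv F113981)
def n30303 : Q := act 4 n25327
theorem D30303 : act 4 n25327 = n30303 := rfl
theorem F141120 : act 1 n30303 = n25329 := d11_1 D30303 (iv D25329) (iv F113989)
theorem F141121 : act 2 n30303 = n30303 := d18_1 D30303 (iv D30303) F113990
theorem F141122 : act 5 n30303 = n25354 := d30_2 D25327 D30303 (iv D25354) (iv D20017) (iv F90648)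
def n30304 : Q := act 7 n25327
theorem D30304 : act 7 n25327 = n30304 := rfl
theorem F141123 : act 1 n30304 = n25330 := d14_1 D30304 (iv D25330) (iv F113989)
theorem F141124 : act 2 n30304 = n30304 := d21_1 D30304 (iv D30304) F113990
theorem F141125 : act 5 n30304 = n25328 := d36_1 D30304 (iv D25328) D25327
def n30305 : Q := act 8 n25327
theorem D30305 : act 8 n25327 = n30305 := rfl
theorem F141126 : act 1 n30305 = n25331 := d15_1 D30305 (iv D25331) (iv F113989)
theorem F141127 : act 2 n30305 = n30305 := d22_1 D30305 (iv D30305) F113990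
theorem F141128 : act 5 n30305 = n25342 := d37_1 D30305 (iv D25342) (iv D20005) (iv F90649) D25327
def n30306 : Q := act 3 n25329
theorem D30306 : act 3 n25329 = n30306 := rfl
theorem F141129 : act 5 n30306 = n25356 := d25_2 (iv F113996) D30306 (iv D25356)
def n30307 : Q := act 7 n25329
theorem D30307 : act 7 n25329 = n30307 := rfl
theorem F141130 : act 2 n30307 = n25332 := d21_1 D30307 (iv D25332) (iv F113995)
theorem F141131 : act 4 n30307 = n25330 := d32_1 D30307 (iv D25330) D25329
theorem F141132 : act 5 n30307 = n25357 := d36_1 D30307 (iv D25357) (iv F113996)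
def n30308 : Q := act 8 n25329
theorem D30308 : act 8 n25329 = n30308 := rfl
theorem F141133 : act 2 n30308 = n25333 := d22_1 D30308 (iv D25333) (iv F113995)
theorem F141134 : act 4 n30308 = n25331 := d33_1 D30308 (iv D25331) D25329
theorem F141135 : act 5 n30308 = n30308 := d37_1 D30308 (iv D30308) F113996 F90734 (iv F113996)
def n30309 : Q := act 6 n25330
theorem D30309 : act 6 n25330 = n30309 := rfl
theorem F141136 : act 2 n30309 = n25334 := d20_1 D30309 (iv D25334) (iv F113997)
def n30310 : Q := act 8 n25330
theorem D30310 : act 8 n25330 = n30310 := rfl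
theorem F141137 : act 2 n30310 = n25335 := d22_1 D30310 (iv D25335) (iv F113997)
theorem F141138 : act 5 n30310 = n25344 := d37_1 D30310 (iv D25344) F90683 (iv F90653) (iv F113998)
theorem F141139 : act 7 n30310 = n25331 := d42_1 D30310 (iv D25331) D25330
def n30311 : Q := act 9 n25331
theorem D30311 : act 9 n25331 = n30311 := rfl
theorem F141140 : act 0 n30311 = n25781 := d8_1 D30311 (iv F136462) F136458
theorem F141141 : act 2 n30311 = n25336 := d23_1 D30311 (iv D25336) (iv F113999)
theorem F141142 : act 5 n30311 = n25345 := d38_1 D30311 (iv D25345) (iv F114000)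
theorem F141143 : act 8 n30311 = n25728 := d44_1 D30311 F115541 (iv F134720) F108459 D25331
def n30312 : Q := act 6 n25332
theorem D30312 : act 6 n25332 = n30312 := rfl
theorem F141144 : act 1 n30312 = n30312 := d13_1 D30312 (iv D30312) F114001
theorem F141145 : act 4 n30312 = n25334 := d31_1 D30312 (iv D25334) (iv F114002)
def n30313 : Q := act 8 n25332
theorem D30313 : act 8 n25332 = n30313 := rfl
theorem F141146 : act 1 n30313 = n30313 := d15_1 D30313 (iv D30313) F114001
theorem F141147 : act 4 n30313 = n25335 := d33_1 D30313 (iv D25335) (iv F114002)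
theorem F141148 : act 5 n30313 = n30313 := d37_1 D30313 (iv D30313) F114003 F90741 (iv F114003)
theorem F141149 : act 7 n30313 = n25333 := d42_1 D30313 (iv D25333) D25332
def n30314 : Q := act 8 n25334
theorem D30314 : act 8 n25334 = n30314 := rfl
theorem F141150 : act 1 n30314 = n30314 := d15_1 D30314 (iv D30314) F114007
theorem F141151 : act 3 n30314 = n25337 := d28_1 D30314 (iv D25337) (iv F114008)
theorem F141152 : act 6 n30314 = n25335 := d40_1 D30314 (iv D25335) D25334
def n30315 : Q := act 9 n25335
theorem D30315 : act 9 n25335 = n30315 := rfl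
theorem F141153 : act 0 n30315 = n27462 := d8_1 D30315 (iv F136485) F136480
theorem F141154 : act 1 n30315 = n30315 := d16_1 D30315 (iv D30315) F114009
theorem F141155 : act 3 n30315 = n25338 := d29_1 D30315 (iv D25338) (iv F114010)
theorem F141156 : act 5 n30315 = n25347 := d38_1 D30315 (iv D25347) (iv F114011)
theorem F141157 : act 7 n30315 = n25336 := d43_1 D30315 (iv D25336) (iv F114012)
theorem F141158 : act 8 n30315 = n27386 := d44_1 D30315 F122182 (iv F135364) F108474 D25335
def n30316 : Q := act 5 n25337
theorem D30316 : act 5 n25337 = n30316 := rfl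
theorem F141159 : act 1 n30316 = n30316 := d12_1 D30316 (iv D30316) F114016
theorem F141160 : act 6 n30316 = n25348 := d35_2 (iv F114017) D30316 (iv D25348) F90704 (iv F90664)
def n30317 : Q := act 9 n25337
theorem D30317 : act 9 n25337 = n30317 := rfl
theorem F141161 : act 1 n30317 = n30317 := d16_1 D30317 (iv D30317) F114016
theorem F141162 : act 6 n30317 = n25338 := d41_1 D30317 (iv D25338) (iv F114017)
def n30318 : Q := act 8 n25341
theorem D30318 : act 8 n25341 = n30318 := rfl
theorem F141163 : act 1 n30318 = n25344 := d15_1 D30318 (iv D25344) (iv F114030)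
theorem F141164 : act 2 n30318 = n30318 := d22_1 D30318 (iv D30318) F114031
theorem F141165 : act 4 n30318 = n30318 := d33_1 D30318 (iv D30318) F114032
theorem F141166 : act 7 n30318 = n25342 := d42_1 D30318 (iv D25342) D25341
def n30319 : Q := act 8 n25343
theorem D30319 : act 8 n25343 = n30319 := rfl
theorem F141167 : act 2 n30319 = n25346 := d22_1 D30319 (iv D25346) (iv F114039)
theorem F141168 : act 4 n30319 = n30319 := d33_1 D30319 (iv D30319) F114040
theorem F141169 : act 6 n30319 = n25344 := d40_1 D30319 (iv D25344) D25343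
theorem F141170 : act 7 n30319 = n30319 := d42_1 D30319 (iv D30319) F114041
def n30320 : Q := act 9 n25344
theorem D30320 : act 9 n25344 = n30320 := rfl
theorem F141171 : act 0 n30320 = n26186 := d8_1 D30320 (iv F136507) F136502
theorem F141172 : act 2 n30320 = n25347 := d23_1 D30320 (iv D25347) (iv F114043)
theorem F141173 : act 4 n30320 = n30320 := d34_1 D30320 (iv D30320) F114044
theorem F141174 : act 7 n30320 = n25345 := d43_1 D30320 (iv D25345) (iv F114045)
theorem F141175 : act 8 n30320 = n25443 := d44_1 D30320 (iv D25443) (iv D20085) (iv F90684) D25344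
def n30321 : Q := act 5 n25346
theorem D30321 : act 5 n25346 = n30321 := rfl
theorem F141176 : act 1 n30321 = n30321 := d12_1 D30321 (iv D30321) F114050
theorem F141177 : act 3 n30321 = n25348 := d25_1 D30321 (iv D25348) (iv F114051)
theorem F141178 : act 7 n30321 = n30321 := d36_2 F114054 D30321 (iv D30321)
def n30322 : Q := act 9 n25346
theorem D30322 : act 9 n25346 = n30322 := rfl
theorem F141179 : act 0 n30322 = n27982 := d8_1 D30322 (iv F136514) F136508
theorem F141180 : act 1 n30322 = n30322 := d16_1 D30322 (iv D30322) F114050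
theorem F141181 : act 3 n30322 = n25349 := d29_1 D30322 (iv D25349) (iv F114051)
theorem F141182 : act 4 n30322 = n30322 := d34_1 D30322 (iv D30322) F114052
theorem F141183 : act 6 n30322 = n25347 := d41_1 D30322 (iv D25347) (iv F114053)
theorem F141184 : act 7 n30322 = n30322 := d43_1 D30322 (iv D30322) F114054
theorem F141185 : act 8 n30322 = n25445 := d44_1 D30322 (iv D25445) (iv D20087) (iv F90692) D25346
def n30323 : Q := act 4 n25348
theorem D30323 : act 4 n25348 = n30323 := rfl
theorem F141186 : act 1 n30323 = n30323 := d11_1 D30323 (iv D30323) F114060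
theorem F141187 : act 5 n30323 = n25350 := d30_2 D25348 D30323 (iv D25350) (iv D20014) (iv F90703)
theorem F141188 : act 7 n30323 = n30323 := d32_2 F114061 D30323 (iv D30323)
def n30324 : Q := act 9 n25348
theorem D30324 : act 9 n25348 = n30324 := rfl
theorem F141189 : act 1 n30324 = n30324 := d16_1 D30324 (iv D30324) F114060
theorem F141190 : act 5 n30324 = n25349 := d38_1 D30324 (iv D25349) D25348
theorem F141191 : act 7 n30324 = n30324 := d43_1 D30324 (iv D30324) F114061
def n30325 : Q := act 3 n25350
theorem D30325 : act 3 n25350 = n30325 := rfl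
theorem F141192 : act 1 n30325 = n30325 := d10_1 D30325 (iv D30325) F114067
theorem F141193 : act 4 n30325 = n30325 := d24_2 D25350 D30325 (iv D30325) (iv D25350) F90711
theorem F141194 : act 7 n30325 = n30325 := d27_2 F114068 D30325 (iv D30325)
theorem F141195 : act 8 n30325 = n30325 := d28_2 F114069 D30325 (iv D30325)
def n30326 : Q := act 9 n25350
theorem D30326 : act 9 n25350 = n30326 := rfl
theorem F141196 : act 1 n30326 = n30326 := d16_1 D30326 (iv D30326) F114067
theorem F141197 : act 4 n30326 = n25351 := d34_1 D30326 (iv D25351) D25350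
theorem F141198 : act 7 n30326 = n30326 := d43_1 D30326 (iv D30326) F114068
def n30327 : Q := act 8 n25351
theorem D30327 : act 8 n25351 = n30327 := rfl
theorem F141199 : act 1 n30327 = n30327 := d15_1 D30327 (iv D30327) F114070
theorem F141200 : act 3 n30327 = n30327 := d28_1 D30327 (iv D30327) F114071
theorem F141201 : act 5 n30327 = n25450 := d37_1 D30327 (iv D25450) F90994 (iv F90718) (iv F114072)
theorem F141202 : act 7 n30327 = n30327 := d42_1 D30327 (iv D30327) F114073
theorem F141203 : act 9 n30327 = n30327 := d44_2 D25351 D30327 (iv D30327) (iv D25351) F90713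
def n30328 : Q := act 3 n25354
theorem D30328 : act 3 n25354 = n30328 := rfl
theorem F141204 : act 1 n30328 = n25356 := d10_1 D30328 (iv D25356) (iv F114083)
theorem F141205 : act 4 n30328 = n26104 := d24_2 D25354 D30328 (iv D26104) (iv D20570) (iv F90725)
theorem F141206 : act 6 n30328 = n30328 := d26_2 F114085 D30328 (iv D30328)
theorem F141207 : act 8 n30328 = n30328 := d28_2 F114086 D30328 (iv D30328)
def n30329 : Q := act 7 n25354
theorem D30329 : act 7 n25354 = n30329 := rfl
theorem F141208 : act 1 n30329 = n25357 := d14_1 D30329 (iv D25357) (iv F114083)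
theorem F141209 : act 2 n30329 = n30329 := d21_1 D30329 (iv D30329) F114084
theorem F141210 : act 4 n30329 = n25355 := d32_1 D30329 (iv D25355) D25354
theorem F141211 : act 8 n30329 = n30329 := d42_2 F114086 D30329 (iv D30329)
def n30330 : Q := act 6 n25355
theorem D30330 : act 6 n25355 = n30330 := rfl
theorem F141212 : act 1 n30330 = n25358 := d13_1 D30330 (iv D25358) (iv F114087)
theorem F141213 : act 2 n30330 = n30330 := d20_1 D30330 (iv D30330) F114088
theorem F141214 : act 3 n30330 = n25579 := d26_1 D30330 F114936 (iv F134722)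
theorem F141215 : act 5 n30330 = n25577 := d35_1 D30330 F114928 F91325 (iv F134077) (iv F114090)
theorem F141216 : act 7 n30330 = n30330 := d39_2 D25355 D30330 (iv D30330) (iv D25355) F90726
theorem F141217 : act 8 n30330 = n30330 := d40_2 F114091 D30330 (iv D30330)
def n30331 : Q := act 7 n25356
theorem D30331 : act 7 n25356 = n30331 := rfl
theorem F141218 : act 3 n30331 = n25357 := d27_1 D30331 (iv D25357) D25356
theorem F141219 : act 4 n30331 = n26107 := d32_1 D30331 (iv D26107) (iv F114092)
theorem F141220 : act 8 n30331 = n30331 := d42_2 F114094 D30331 (iv D30331)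
def n30332 : Q := act 6 n25357
theorem D30332 : act 6 n25357 = n30332 := rfl
theorem F141221 : act 2 n30332 = n25359 := d20_1 D30332 (iv D25359) (iv F114095)
theorem F141222 : act 4 n30332 = n25358 := d31_1 D30332 (iv D25358) (iv F114096)
theorem F141223 : act 7 n30332 = n30332 := d39_2 D25357 D30332 (iv D30332) (iv D25357) F90733
theorem F141224 : act 8 n30332 = n30332 := d40_2 F114097 D30332 (iv D30332)
def n30333 : Q := act 5 n25359
theorem D30333 : act 5 n25359 = n30333 := rfl
theorem F141225 : act 1 n30333 = n30333 := d12_1 D30333 (iv D30333) F114102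
theorem F141226 : act 7 n30333 = n30333 := d36_2 F114104 D30333 (iv D30333)
def n30334 : Q := act 6 n25365
theorem D30334 : act 6 n25365 = n30334 := rfl
theorem F141227 : act 0 n30334 = n25390 := d5_1 D30334 (iv D25390) (iv F114125)
theorem F141228 : act 2 n30334 = n26267 := d20_1 D30334 (iv D26267) (iv F134849)
theorem F141229 : act 3 n30334 = n25367 := d26_1 D30334 (iv D25367) (iv F114126)
theorem F141230 : act 4 n30334 = n26264 := d31_1 D30334 (iv D26264) (iv F134850)
theorem F141231 : act 7 n30334 = n30334 := d39_2 D25365 D30334 (iv D30334) (iv D25365) F90760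
def n30335 : Q := act 8 n25365
theorem D30335 : act 8 n25365 = n30335 := rfl
theorem F141232 : act 0 n30335 = n25391 := d7_1 D30335 (iv D25391) (iv F114125)
theorem F141233 : act 2 n30335 = n26268 := d22_1 D30335 (iv D26268) (iv F134849)
theorem F141234 : act 3 n30335 = n25368 := d28_1 D30335 (iv D25368) (iv F114126)
theorem F141235 : act 4 n30335 = n26265 := d33_1 D30335 (iv D26265) (iv F134850)
theorem F141236 : act 7 n30335 = n25366 := d42_1 D30335 (iv D25366) D25365
def n30336 : Q := act 9 n25366
theorem D30336 : act 9 n25366 = n30336 := rfl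
theorem F141237 : act 0 n30336 = n25392 := d8_1 D30336 (iv D25392) (iv F114128)
theorem F141238 : act 2 n30336 = n26270 := d23_1 D30336 (iv D26270) (iv F134851)
theorem F141239 : act 3 n30336 = n25369 := d29_1 D30336 (iv D25369) (iv F114129)
theorem F141240 : act 4 n30336 = n26266 := d34_1 D30336 (iv D26266) (iv F134852)
theorem F141241 : act 6 n30336 = n30336 := d41_1 D30336 (iv D30336) F114130
def n30337 : Q := act 8 n25367
theorem D30337 : act 8 n25367 = n30337 := rfl
theorem F141242 : act 0 n30337 = n25393 := d7_1 D30337 (iv D25393) (iv F114131)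
theorem F141243 : act 2 n30337 = n30337 := d22_1 D30337 (iv D30337) F114132
theorem F141244 : act 4 n30337 = n25380 := d33_1 D30337 (iv D25380) (iv F114133)
theorem F141245 : act 5 n30337 = n25428 := d37_1 D30337 (iv D25428) D25427 (iv F139518) F139516
theorem F141246 : act 6 n30337 = n25368 := d40_1 D30337 (iv D25368) D25367
theorem F141247 : act 7 n30337 = n30337 := d42_1 D30337 (iv D30337) F114134
def n30338 : Q := act 9 n25368
theorem D30338 : act 9 n25368 = n30338 := rfl
theorem F141248 : act 0 n30338 = n25394 := d8_1 D30338 (iv D25394) (iv F114135)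
theorem F141249 : act 2 n30338 = n30338 := d23_1 D30338 (iv D30338) F114136
theorem F141250 : act 4 n30338 = n25381 := d34_1 D30338 (iv D25381) (iv F114137)
theorem F141251 : act 7 n30338 = n25369 := d43_1 D30338 (iv D25369) (iv F114138)
def n30339 : Q := act 8 n25377
theorem D30339 : act 8 n25377 = n30339 := rfl
theorem F141252 : act 0 n30339 = n25405 := d7_1 D30339 (iv D25405) (iv F114183)
theorem F141253 : act 2 n30339 = n26355 := d22_1 D30339 (iv D26355) (iv F134889)
theorem F141254 : act 3 n30339 = n25380 := d28_1 D30339 (iv D25380) (iv F114184)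
theorem F141255 : act 4 n30339 = n26353 := d33_1 D30339 (iv D26353) (iv F134890)
theorem F141256 : act 6 n30339 = n25378 := d40_1 D30339 (iv D25378) D25377
theorem F141257 : act 7 n30339 = n30339 := d42_1 D30339 (iv D30339) F114186
def n30340 : Q := act 9 n25378
theorem D30340 : act 9 n25378 = n30340 := rfl
theorem F141258 : act 0 n30340 = n25406 := d8_1 D30340 (iv D25406) (iv F114187)
theorem F141259 : act 2 n30340 = n26356 := d23_1 D30340 (iv D26356) (iv F134891)
theorem F141260 : act 3 n30340 = n25381 := d29_1 D30340 (iv D25381) (iv F114188)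
theorem F141261 : act 4 n30340 = n26354 := d34_1 D30340 (iv D26354) (iv F134892)
theorem F141262 : act 5 n30340 = n30340 := d38_1 D30340 (iv D30340) F114189
theorem F141263 : act 7 n30340 = n25379 := d43_1 D30340 (iv D25379) (iv F114190)
def n30341 : Q := act 5 n25380
theorem D30341 : act 5 n25380 = n30341 := rfl
theorem F141264 : act 0 n30341 = n25407 := d4_1 D30341 (iv D25407) (iv F114195)
theorem F141265 : act 2 n30341 = n30341 := d19_1 D30341 (iv D30341) F114196
theorem F141266 : act 4 n30341 = n25433 := d30_1 D30341 (iv D25433) (iv F114374) (iv F141245) F141244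
theorem F141267 : act 6 n30341 = n30341 := d35_2 (iv F114197) D30341 (iv D30341) F114197 F90803
theorem F141268 : act 7 n30341 = n30341 := d36_2 F114198 D30341 (iv D30341)
theorem F141269 : act 8 n30341 = n30341 := d37_2 D25380 D30341 (iv D30341) (iv D25380) F90799
def n30342 : Q := act 9 n25380
theorem D30342 : act 9 n25380 = n30342 := rfl
theorem F141270 : act 0 n30342 = n25408 := d8_1 D30342 (iv D25408) (iv F114195)
theorem F141271 : act 2 n30342 = n30342 := d23_1 D30342 (iv D30342) F114196
theorem F141272 : act 6 n30342 = n25381 := d41_1 D30342 (iv D25381) (iv F114197)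
theorem F141273 : act 7 n30342 = n30342 := d43_1 D30342 (iv D30342) F114198
def n30343 : Q := act 8 n25390
theorem D30343 : act 8 n25390 = n30343 := rfl
theorem F141274 : act 1 n30343 = n25423 := d15_1 D30343 (iv D25423) (iv F114232)
theorem F141275 : act 3 n30343 = n25393 := d28_1 D30343 (iv D25393) (iv F114233)
theorem F141276 : act 6 n30343 = n25391 := d40_1 D30343 (iv D25391) D25390
theorem F141277 : act 7 n30343 = n30343 := d42_1 D30343 (iv D30343) F114234
def n30344 : Q := act 9 n25391
theorem D30344 : act 9 n25391 = n30344 := rfl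
theorem F141278 : act 1 n30344 = n25424 := d16_1 D30344 (iv D25424) (iv F114235)
theorem F141279 : act 3 n30344 = n25394 := d29_1 D30344 (iv D25394) (iv F114236)
theorem F141280 : act 7 n30344 = n25392 := d43_1 D30344 (iv D25392) (iv F114237)
def n30345 : Q := act 9 n25393
theorem D30345 : act 9 n25393 = n30345 := rfl
theorem F141281 : act 1 n30345 = n25426 := d16_1 D30345 (iv D25426) (iv F114241)
theorem F141282 : act 2 n30345 = n30345 := d23_1 D30345 (iv D30345) F114242
theorem F141283 : act 4 n30345 = n25408 := d34_1 D30345 (iv D25408) (iv F114243)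
theorem F141284 : act 6 n30345 = n25394 := d41_1 D30345 (iv D25394) (iv F114244)
theorem F141285 : act 7 n30345 = n30345 := d43_1 D30345 (iv D30345) F114245
def n30346 : Q := act 5 n25405
theorem D30346 : act 5 n25405 = n30346 := rfl
theorem F141286 : act 1 n30346 = n25433 := d12_1 D30346 (iv D25433) (iv F114297)
theorem F141287 : act 3 n30346 = n25407 := d25_1 D30346 (iv D25407) (iv F114298)
theorem F141288 : act 6 n30346 = n30346 := d35_2 (iv F114299) D30346 (iv D30346) F114299 F90870
theorem F141289 : act 7 n30346 = n30346 := d36_2 F114300 D30346 (iv D30346)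
theorem F141290 : act 8 n30346 = n30346 := d37_2 D25405 D30346 (iv D30346) (iv D25405) F90866
def n30347 : Q := act 9 n25405
theorem D30347 : act 9 n25405 = n30347 := rfl
theorem F141291 : act 1 n30347 = n25434 := d16_1 D30347 (iv D25434) (iv F114297)
theorem F141292 : act 3 n30347 = n25408 := d29_1 D30347 (iv D25408) (iv F114298)
theorem F141293 : act 6 n30347 = n25406 := d41_1 D30347 (iv D25406) (iv F114299)
theorem F141294 : act 7 n30347 = n30347 := d43_1 D30347 (iv D30347) F114300
def n30348 : Q := act 9 n25407
theorem D30348 : act 9 n25407 = n30348 := rfl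
theorem F141295 : act 1 n30348 = n25436 := d16_1 D30348 (iv D25436) (iv F114305)
theorem F141296 : act 2 n30348 = n30348 := d23_1 D30348 (iv D30348) F114306
theorem F141297 : act 5 n30348 = n25408 := d38_1 D30348 (iv D25408) D25407
theorem F141298 : act 6 n30348 = n30348 := d41_1 D30348 (iv D30348) F114307
theorem F141299 : act 7 n30348 = n30348 := d43_1 D30348 (iv D30348) F114308
def n30349 : Q := act 6 n25412
theorem D30349 : act 6 n25412 = n30349 := rfl
theorem F141300 : act 1 n30349 = n25416 := d13_1 D30349 (iv D25416) (iv F114324)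
theorem F141301 : act 3 n30349 = n25427 := d26_1 D30349 F134704 (iv F114325)
theorem F141302 : act 5 n30349 = n25419 := d35_1 D30349 (iv D25419) F90905 (iv F134058) (iv F114326)
theorem F141303 : act 7 n30349 = n30349 := d39_2 D25412 D30349 (iv D30349) (iv D25412) F90889
def n30350 : Q := act 6 n25414
theorem D30350 : act 6 n25414 = n30350 := rfl
theorem F141304 : act 2 n30350 = n25419 := d20_1 D30350 (iv D25419) (iv F114330)
theorem F141305 : act 3 n30350 = n30350 := d26_1 D30350 (iv D30350) F114331
theorem F141306 : act 4 n30350 = n25416 := d31_1 D30350 (iv D25416) (iv F114332)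
theorem F141307 : act 7 n30350 = n30350 := d39_2 D25414 D30350 (iv D30350) (iv D25414) F90896
def n30351 : Q := act 8 n25414
theorem D30351 : act 8 n25414 = n30351 := rfl
theorem F141308 : act 0 n30351 = n26194 := d7_1 D30351 (iv F136743) F136737
theorem F141309 : act 2 n30351 = n25420 := d22_1 D30351 (iv D25420) (iv F114330)
theorem F141310 : act 3 n30351 = n30351 := d28_1 D30351 (iv D30351) F114331
theorem F141311 : act 4 n30351 = n25417 := d33_1 D30351 (iv D25417) (iv F114332)
theorem F141312 : act 7 n30351 = n25415 := d42_1 D30351 (iv D25415) D25414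
def n30352 : Q := act 9 n25415
theorem D30352 : act 9 n25415 = n30352 := rfl
theorem F141313 : act 0 n30352 = n26182 := d8_1 D30352 F117152 (iv F134855)
theorem F141314 : act 2 n30352 = n25422 := d23_1 D30352 (iv D25422) (iv F114334)
theorem F141315 : act 3 n30352 = n30352 := d29_1 D30352 (iv D30352) F114335
theorem F141316 : act 4 n30352 = n25418 := d34_1 D30352 (iv D25418) (iv F114336)
theorem F141317 : act 6 n30352 = n30352 := d41_1 D30352 (iv D30352) F114337
def n30353 : Q := act 8 n25416
theorem D30353 : act 8 n25416 = n30353 := rfl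
theorem F141318 : act 0 n30353 = n26196 := d7_1 D30353 (iv F136750) F136744
theorem F141319 : act 2 n30353 = n25423 := d22_1 D30353 (iv D25423) (iv F114338)
theorem F141320 : act 3 n30353 = n25442 := d28_1 D30353 (iv D25442) (iv F114339)
theorem F141321 : act 6 n30353 = n25417 := d40_1 D30353 (iv D25417) D25416
theorem F141322 : act 7 n30353 = n30353 := d42_1 D30353 (iv D30353) F114340
def n30354 : Q := act 9 n25417
theorem D30354 : act 9 n25417 = n30354 := rfl
theorem F141323 : act 0 n30354 = n26183 := d8_1 D30354 F117156 (iv F134856)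
theorem F141324 : act 2 n30354 = n25424 := d23_1 D30354 (iv D25424) (iv F114341)
theorem F141325 : act 3 n30354 = n25443 := d29_1 D30354 (iv D25443) (iv F114342)
theorem F141326 : act 5 n30354 = n26134 := d38_1 D30354 F116941 (iv F134857)
theorem F141327 : act 7 n30354 = n25418 := d43_1 D30354 (iv D25418) (iv F114343)
def n30355 : Q := act 8 n25419
theorem D30355 : act 8 n25419 = n30355 := rfl
theorem F141328 : act 3 n30355 = n25428 := d28_1 D30355 (iv D25428) (iv F114347)
theorem F141329 : act 4 n30355 = n25423 := d33_1 D30355 (iv D25423) (iv F114348)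
theorem F141330 : act 6 n30355 = n25420 := d40_1 D30355 (iv D25420) D25419
theorem F141331 : act 7 n30355 = n30355 := d42_1 D30355 (iv D30355) F114349
def n30356 : Q := act 9 n25420
theorem D30356 : act 9 n25420 = n30356 := rfl
theorem F141332 : act 3 n30356 = n25430 := d29_1 D30356 (iv D25430) (iv F114350)
theorem F141333 : act 4 n30356 = n25424 := d34_1 D30356 (iv D25424) (iv F114351)
theorem F141334 : act 7 n30356 = n25422 := d43_1 D30356 (iv D25422) (iv F114352)
def n30357 : Q := act 5 n25423
theorem D30357 : act 5 n25423 = n30357 := rfl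
theorem F141335 : act 3 n30357 = n25425 := d25_1 D30357 (iv D25425) (iv F114358)
theorem F141336 : act 7 n30357 = n30357 := d36_2 F114360 D30357 (iv D30357)
def n30358 : Q := act 9 n25423
theorem D30358 : act 9 n25423 = n30358 := rfl
theorem F141337 : act 3 n30358 = n25426 := d29_1 D30358 (iv D25426) (iv F114358)
theorem F141338 : act 6 n30358 = n25424 := d41_1 D30358 (iv D25424) (iv F114359)
theorem F141339 : act 7 n30358 = n30358 := d43_1 D30358 (iv D30358) F114360
def n30359 : Q := act 9 n25425
theorem D30359 : act 9 n25425 = n30359 := rfl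
theorem F141340 : act 2 n30359 = n25447 := d23_1 D30359 (iv D25447) (iv F114363)
theorem F141341 : act 5 n30359 = n25426 := d38_1 D30359 (iv D25426) D25425
theorem F141342 : act 7 n30359 = n30359 := d43_1 D30359 (iv D30359) F114364
def n30360 : Q := act 9 n25428
theorem D30360 : act 9 n25428 = n30360 := rfl
theorem F141343 : act 2 n30360 = n30360 := d23_1 D30360 (iv D30360) F114373
theorem F141344 : act 4 n30360 = n25434 := d34_1 D30360 (iv D25434) (iv F114374)
theorem F141345 : act 6 n30360 = n25430 := d41_1 D30360 (iv D25430) (iv F114375)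
theorem F141346 : act 7 n30360 = n30360 := d43_1 D30360 (iv D30360) F114376
def n30361 : Q := act 9 n25433
theorem D30361 : act 9 n25433 = n30361 := rfl
theorem F141347 : act 2 n30361 = n30361 := d23_1 D30361 (iv D30361) F114394
theorem F141348 : act 3 n30361 = n25436 := d29_1 D30361 (iv D25436) (iv F114395)
theorem F141349 : act 5 n30361 = n25434 := d38_1 D30361 (iv D25434) D25433
theorem F141350 : act 6 n30361 = n30361 := d41_1 D30361 (iv D30361) F114396
theorem F141351 : act 7 n30361 = n30361 := d43_1 D30361 (iv D30361) F114397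
def n30362 : Q := act 9 n25435
theorem D30362 : act 9 n25435 = n30362 := rfl
theorem F141352 : act 2 n30362 = n25449 := d23_1 D30362 (iv D25449) (iv F114403)
theorem F141353 : act 4 n30362 = n25436 := d34_1 D30362 (iv D25436) D25435
theorem F141354 : act 6 n30362 = n30362 := d41_1 D30362 (iv D30362) F114404
theorem F141355 : act 7 n30362 = n30362 := d43_1 D30362 (iv D30362) F114405
def n30363 : Q := act 8 n25436
theorem D30363 : act 8 n25436 = n30363 := rfl
theorem F141356 : act 2 n30363 = n25450 := d22_1 D30363 (iv D25450) (iv F114407)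
theorem F141357 : act 6 n30363 = n30363 := d40_1 D30363 (iv D30363) F114409
theorem F141358 : act 7 n30363 = n30363 := d42_1 D30363 (iv D30363) F114410
theorem F141359 : act 9 n30363 = n30363 := d44_2 D25436 D30363 (iv D30363) (iv D25436) F90945
def n30364 : Q := act 9 n25442
theorem D30364 : act 9 n25442 = n30364 := rfl
theorem F141360 : act 0 n30364 = n26185 := d8_1 D30364 F117164 (iv F134871)
theorem F141361 : act 2 n30364 = n25445 := d23_1 D30364 (iv D25445) (iv F114431)
theorem F141362 : act 4 n30364 = n30364 := d34_1 D30364 (iv D30364) F114432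
theorem F141363 : act 6 n30364 = n25443 := d41_1 D30364 (iv D25443) (iv F114433)
theorem F141364 : act 7 n30364 = n30364 := d43_1 D30364 (iv D30364) F114434
def n30365 : Q := act 9 n25444
theorem D30365 : act 9 n25444 = n30365 := rfl
theorem F141365 : act 0 n30365 = n27961 := d8_1 D30365 F124536 (iv F135553)
theorem F141366 : act 1 n30365 = n30365 := d16_1 D30365 (iv D30365) F114438
theorem F141367 : act 3 n30365 = n25447 := d29_1 D30365 (iv D25447) (iv F114439)
theorem F141368 : act 5 n30365 = n25445 := d38_1 D30365 (iv D25445) D25444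
theorem F141369 : act 6 n30365 = n27892 := d41_1 D30365 F124222 (iv F135554)
theorem F141370 : act 7 n30365 = n30365 := d43_1 D30365 (iv D30365) F114440
def n30366 : Q := act 3 n25446
theorem D30366 : act 3 n25446 = n30366 := rfl
theorem F141371 : act 1 n30366 = n30366 := d10_1 D30366 (iv D30366) F114446
theorem F141372 : act 5 n30366 = n25448 := d25_2 (iv F114447) D30366 (iv D25448)
theorem F141373 : act 7 n30366 = n30366 := d27_2 F114448 D30366 (iv D30366)
def n30367 : Q := act 9 n25446
theorem D30367 : act 9 n25446 = n30367 := rfl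
theorem F141374 : act 1 n30367 = n30367 := d16_1 D30367 (iv D30367) F114446
theorem F141375 : act 4 n30367 = n25447 := d34_1 D30367 (iv D25447) D25446
theorem F141376 : act 5 n30367 = n25449 := d38_1 D30367 (iv D25449) (iv F114447)
theorem F141377 : act 7 n30367 = n30367 := d43_1 D30367 (iv D30367) F114448
def n30368 : Q := act 8 n25447
theorem D30368 : act 8 n25447 = n30368 := rfl
theorem F141378 : act 1 n30368 = n30368 := d15_1 D30368 (iv D30368) F114449
theorem F141379 : act 7 n30368 = n30368 := d42_1 D30368 (iv D30368) F114451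
def n30369 : Q := act 2 n25448
theorem D30369 : act 2 n25448 = n30369 := rfl
theorem F141380 : act 4 n30369 = n30369 := d18_2 F114453 D30369 (iv D30369)
theorem F141381 : act 6 n30369 = n30369 := d20_2 F114454 D30369 (iv D30369)
theorem F141382 : act 7 n30369 = n30369 := d21_2 F114455 D30369 (iv D30369)
theorem F141383 : act 8 n30369 = n30369 := d22_2 F114456 D30369 (iv D30369)
def n30370 : Q := act 9 n25448
theorem D30370 : act 9 n25448 = n30370 := rfl
theorem F141384 : act 1 n30370 = n30370 := d16_1 D30370 (iv D30370) F114452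
theorem F141385 : act 3 n30370 = n25449 := d29_1 D30370 (iv D25449) D25448
theorem F141386 : act 4 n30370 = n30370 := d34_1 D30370 (iv D30370) F114453
theorem F141387 : act 6 n30370 = n30370 := d41_1 D30370 (iv D30370) F114454
theorem F141388 : act 7 n30370 = n30370 := d43_1 D30370 (iv D30370) F114455
def n30371 : Q := act 8 n25449
theorem D30371 : act 8 n25449 = n30371 := rfl
theorem F141389 : act 1 n30371 = n30371 := d15_1 D30371 (iv D30371) F114457
theorem F141390 : act 4 n30371 = n25450 := d33_1 D30371 (iv D25450) (iv F114458)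
theorem F141391 : act 6 n30371 = n30371 := d40_1 D30371 (iv D30371) F114459
theorem F141392 : act 7 n30371 = n30371 := d42_1 D30371 (iv D30371) F114460
theorem F141393 : act 9 n30371 = n30371 := d44_2 D25449 D30371 (iv D30371) (iv D25449) F90991
def n30372 : Q := act 1 n25451
theorem D30372 : act 1 n25451 = n30372 := rfl
theorem F141394 : act 3 n30372 = n27103 := d10_2 (iv F114467) D30372 (iv D27103)
theorem F141395 : act 8 n30372 = n25455 := d15_2 (iv F114468) D30372 (iv D25455)
def n30373 : Q := act 6 n25451
theorem D30373 : act 6 n25451 = n30373 := rfl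
theorem F141396 : act 0 n30373 = n25483 := d5_1 D30373 (iv D25483) (iv F114466)
theorem F141397 : act 2 n30373 = n25452 := d20_1 D30373 (iv D25452) D25451
theorem F141398 : act 3 n30373 = n27104 := d26_1 D30373 (iv D27104) (iv F114467)
theorem F141399 : act 8 n30373 = n25456 := d40_2 (iv F114468) D30373 (iv D25456)
def n30374 : Q := act 5 n25452
theorem D30374 : act 5 n25452 = n30374 := rfl
theorem F141400 : act 0 n30374 = n25484 := d4_1 D30374 (iv D25484) (iv F114469)
theorem F141401 : act 3 n30374 = n25453 := d25_1 D30374 (iv D25453) (iv F114470)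
def n30375 : Q := act 7 n25452
theorem D30375 : act 7 n25452 = n30375 := rfl
theorem F141402 : act 0 n30375 = n25485 := d6_1 D30375 (iv D25485) (iv F114469)
theorem F141403 : act 3 n30375 = n25454 := d27_1 D30375 (iv D25454) (iv F114470)
theorem F141404 : act 8 n30375 = n25458 := d42_2 (iv F114471) D30375 (iv D25458)
def n30376 : Q := act 7 n25453
theorem D30376 : act 7 n25453 = n30376 := rfl
theorem F141405 : act 0 n30376 = n25486 := d6_1 D30376 (iv D25486) (iv F114472)
theorem F141406 : act 2 n30376 = n27107 := d21_1 D30376 (iv D27107) (iv F114473)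
theorem F141407 : act 4 n30376 = n25734 := d32_1 D30376 (iv D25734) (iv F114474)
theorem F141408 : act 5 n30376 = n25454 := d36_1 D30376 (iv D25454) D25453
def n30377 : Q := act 6 n25455
theorem D30377 : act 6 n25455 = n30377 := rfl
theorem F141409 : act 1 n30377 = n25456 := d13_1 D30377 (iv D25456) D25455
theorem F141410 : act 3 n30377 = n27116 := d26_1 D30377 (iv D27116) (iv F114479)
theorem F141411 : act 9 n30377 = n30377 := d41_2 F114481 D30377 (iv D30377)
def n30378 : Q := act 5 n25456
theorem D30378 : act 5 n25456 = n30378 := rfl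
theorem F141412 : act 0 n30378 = n25496 := d4_1 D30378 (iv D25496) (iv F114482)
theorem F141413 : act 2 n30378 = n25457 := d19_1 D30378 (iv D25457) (iv F114483)
theorem F141414 : act 3 n30378 = n27117 := d25_1 D30378 (iv D27117) (iv F114484)
theorem F141415 : act 6 n30378 = n30378 := d35_2 D25456 D30378 (iv D30378) (iv D25456) F91009
theorem F141416 : act 9 n30378 = n30378 := d38_2 F114485 D30378 (iv D30378)
def n30379 : Q := act 7 n25456
theorem D30379 : act 7 n25456 = n30379 := rfl
theorem F141417 : act 0 n30379 = n25497 := d6_1 D30379 (iv D25497) (iv F114482)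
theorem F141418 : act 2 n30379 = n25458 := d21_1 D30379 (iv D25458) (iv F114483)
theorem F141419 : act 3 n30379 = n27118 := d27_1 D30379 (iv D27118) (iv F114484)
theorem F141420 : act 9 n30379 = n30379 := d43_2 F114485 D30379 (iv D30379)
def n30380 : Q := act 4 n25457
theorem D30380 : act 4 n25457 = n30380 := rfl
theorem F141421 : act 0 n30380 = n25498 := d3_1 D30380 (iv D25498) (iv F114486)
theorem F141422 : act 1 n30380 = n25552 := d11_1 D30380 (iv F136909) F136906
theorem F141423 : act 3 n30380 = n25464 := d24_1 D30380 (iv D25464) F91035 (iv F91016) (iv F114487)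
theorem F141424 : act 5 n30380 = n25551 := d30_2 D25457 D30380 F140069 (iv D30042) F110394
theorem F141425 : act 6 n30380 = n30380 := d31_2 F114488 D30380 (iv D30380)
theorem F141426 : act 8 n30380 = n26095 := d33_2 F139358 D30380 (iv F139356)
theorem F141427 : act 9 n30380 = n30380 := d34_2 F114489 D30380 (iv D30380)
def n30381 : Q := act 7 n25457
theorem D30381 : act 7 n25457 = n30381 := rfl
theorem F141428 : act 0 n30381 = n25499 := d6_1 D30381 (iv D25499) (iv F114486)
theorem F141429 : act 3 n30381 = n25459 := d27_1 D30381 (iv D25459) (iv F114487)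
theorem F141430 : act 5 n30381 = n25458 := d36_1 D30381 (iv D25458) D25457
theorem F141431 : act 9 n30381 = n30381 := d43_2 F114489 D30381 (iv D30381)
def n30382 : Q := act 6 n25459
theorem D30382 : act 6 n25459 = n30382 := rfl
theorem F141432 : act 0 n30382 = n25501 := d5_1 D30382 (iv D25501) (iv F114493)
theorem F141433 : act 2 n30382 = n27122 := d20_1 D30382 (iv D27122) (iv F114494)
theorem F141434 : act 4 n30382 = n25467 := d31_1 D30382 (iv D25467) (iv F114495)
theorem F141435 : act 7 n30382 = n30382 := d39_2 D25459 D30382 (iv D30382) (iv D25459) F91017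
theorem F141436 : act 9 n30382 = n30382 := d41_2 F114497 D30382 (iv D30382)
def n30383 : Q := act 7 n25464
theorem D30383 : act 7 n25464 = n30383 := rfl
theorem F141437 : act 0 n30383 = n25507 := d6_1 D30383 (iv D25507) (iv F114518)
theorem F141438 : act 1 n30383 = n25652 := d14_1 D30383 (iv D25652) (iv F134909)
theorem F141439 : act 2 n30383 = n26100 := d21_1 D30383 F116799 (iv F134910)
theorem F141440 : act 4 n30383 = n25465 := d32_1 D30383 (iv D25465) D25464
theorem F141441 : act 5 n30383 = n25650 := d36_1 D30383 (iv D25650) (iv F134911)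
theorem F141442 : act 8 n30383 = n26096 := d42_2 (iv F134912) D30383 (iv D26096)
theorem F141443 : act 9 n30383 = n30383 := d43_2 F114520 D30383 (iv D30383)
def n30384 : Q := act 6 n25465
theorem D30384 : act 6 n25465 = n30384 := rfl
theorem F141444 : act 0 n30384 = n25509 := d5_1 D30384 (iv D25509) (iv F114521)
theorem F141445 : act 2 n30384 = n26101 := d20_1 D30384 F116805 (iv F134907)
theorem F141446 : act 3 n30384 = n25467 := d26_1 D30384 (iv D25467) (iv F114522)
theorem F141447 : act 5 n30384 = n30384 := d35_1 D30384 (iv D30384) F114523 F91040 (iv F114523)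
theorem F141448 : act 7 n30384 = n30384 := d39_2 D25465 D30384 (iv D30384) (iv D25465) F91036
theorem F141449 : act 8 n30384 = n26097 := d40_2 (iv F134908) D30384 (iv D26097)
theorem F141450 : act 9 n30384 = n30384 := d41_2 F114524 D30384 (iv D30384)
def n30385 : Q := act 1 n25470
theorem D30385 : act 1 n25470 = n30385 := rfl
theorem F141451 : act 2 n30385 = n25518 := d9_2 D25470 D30385 (iv D25518) (iv D20140) (iv F91051)
theorem F141452 : act 3 n30385 = n25609 := d10_2 (iv F114543) D30385 (iv D25609)
theorem F141453 : act 5 n30385 = n25482 := d12_2 (iv F114544) D30385 (iv D25482)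
theorem F141454 : act 7 n30385 = n25534 := d14_2 (iv F114545) D30385 (iv D25534)
theorem F141455 : act 8 n30385 = n30385 := d15_2 F114546 D30385 (iv D30385)
theorem F141456 : act 9 n30385 = n25528 := d16_2 (iv F114547) D30385 (iv D25528)
def n30386 : Q := act 6 n25470
theorem D30386 : act 6 n25470 = n30386 := rfl
theorem F141457 : act 2 n30386 = n25471 := d20_1 D30386 (iv D25471) D25470
theorem F141458 : act 3 n30386 = n25610 := d26_1 D30386 (iv D25610) (iv F114543)
theorem F141459 : act 8 n30386 = n30386 := d40_2 F114546 D30386 (iv D30386)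
theorem F141460 : act 9 n30386 = n25529 := d41_2 (iv F114547) D30386 (iv D25529)
def n30387 : Q := act 5 n25471
theorem D30387 : act 5 n25471 = n30387 := rfl
theorem F141461 : act 1 n30387 = n25520 := d12_1 D30387 (iv D25520) (iv F114548)
theorem F141462 : act 3 n30387 = n25472 := d25_1 D30387 (iv D25472) (iv F114549)
theorem F141463 : act 6 n30387 = n25484 := d35_2 D25471 D30387 (iv D25484) (iv D20116) (iv F91052)
theorem F141464 : act 9 n30387 = n25530 := d38_2 (iv F114551) D30387 (iv D25530)
def n30388 : Q := act 7 n25471
theorem D30388 : act 7 n25471 = n30388 := rfl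
theorem F141465 : act 1 n30388 = n25521 := d14_1 D30388 (iv D25521) (iv F114548)
theorem F141466 : act 3 n30388 = n25473 := d27_1 D30388 (iv D25473) (iv F114549)
theorem F141467 : act 6 n30388 = n25537 := d39_1 D30388 (iv D25537) (iv D20152) (iv F91053) D25471
theorem F141468 : act 8 n30388 = n30388 := d42_2 F114550 D30388 (iv D30388)
theorem F141469 : act 9 n30388 = n25531 := d43_2 (iv F114551) D30388 (iv D25531)
def n30389 : Q := act 7 n25472
theorem D30389 : act 7 n25472 = n30389 := rfl
theorem F141470 : act 1 n30389 = n25522 := d14_1 D30389 (iv D25522) (iv F114552)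
theorem F141471 : act 2 n30389 = n25613 := d21_1 D30389 (iv D25613) (iv F114553)
theorem F141472 : act 4 n30389 = n25768 := d32_1 D30389 (iv D25768) (iv F114554)
theorem F141473 : act 5 n30389 = n25473 := d36_1 D30389 (iv D25473) D25472
theorem F141474 : act 9 n30389 = n25532 := d43_2 (iv F114556) D30389 (iv D25532)
def n30390 : Q := act 8 n25472
theorem D30390 : act 8 n25472 = n30390 := rfl
theorem F141475 : act 1 n30390 = n25523 := d15_1 D30390 (iv D25523) (iv F114552)
theorem F141476 : act 2 n30390 = n25614 := d22_1 D30390 (iv D25614) (iv F114553)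
theorem F141477 : act 4 n30390 = n25769 := d33_1 D30390 (iv D25769) (iv F114554)
theorem F141478 : act 5 n30390 = n30390 := d37_1 D30390 (iv D30390) (iv D25472) F91059 D25472
theorem F141479 : act 6 n30390 = n25487 := d40_1 D30390 (iv D25487) (iv F114555)
def n30391 : Q := act 1 n25474
theorem D30391 : act 1 n25474 = n30391 := rfl
theorem F141480 : act 2 n30391 = n25528 := d9_2 D25474 D30391 (iv D25528) (iv D20147) (iv F91067)
theorem F141481 : act 3 n30391 = n25587 := d10_2 (iv F114563) D30391 (iv D25587)
theorem F141482 : act 5 n30391 = n25534 := d12_2 (iv F114564) D30391 (iv D25534)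
theorem F141483 : act 7 n30391 = n25482 := d14_2 (iv F114565) D30391 (iv D25482)
theorem F141484 : act 8 n30391 = n25488 := d15_2 (iv F114566) D30391 (iv D25488)
theorem F141485 : act 9 n30391 = n25518 := d16_2 (iv F114567) D30391 (iv D25518)
def n30392 : Q := act 6 n25474
theorem D30392 : act 6 n25474 = n30392 := rfl
theorem F141486 : act 2 n30392 = n25475 := d20_1 D30392 (iv D25475) D25474
theorem F141487 : act 3 n30392 = n25588 := d26_1 D30392 (iv D25588) (iv F114563)
theorem F141488 : act 8 n30392 = n25489 := d40_2 (iv F114566) D30392 (iv D25489)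
theorem F141489 : act 9 n30392 = n25519 := d41_2 (iv F114567) D30392 (iv D25519)
def n30393 : Q := act 5 n25475
theorem D30393 : act 5 n25475 = n30393 := rfl
theorem F141490 : act 1 n30393 = n25530 := d12_1 D30393 (iv D25530) (iv F114568)
theorem F141491 : act 3 n30393 = n25476 := d25_1 D30393 (iv D25476) (iv F114569)
theorem F141492 : act 6 n30393 = n25536 := d35_2 D25475 D30393 (iv D25536) (iv D20152) (iv F91068)
theorem F141493 : act 9 n30393 = n25520 := d38_2 (iv F114571) D30393 (iv D25520)
def n30394 : Q := act 7 n25475
theorem D30394 : act 7 n25475 = n30394 := rfl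
theorem F141494 : act 1 n30394 = n25531 := d14_1 D30394 (iv D25531) (iv F114568)
theorem F141495 : act 3 n30394 = n25477 := d27_1 D30394 (iv D25477) (iv F114569)
theorem F141496 : act 6 n30394 = n25485 := d39_1 D30394 (iv D25485) (iv D20116) (iv F91069) D25475
theorem F141497 : act 8 n30394 = n25491 := d42_2 (iv F114570) D30394 (iv D25491)
theorem F141498 : act 9 n30394 = n25521 := d43_2 (iv F114571) D30394 (iv D25521)
def n30395 : Q := act 7 n25476
theorem D30395 : act 7 n25476 = n30395 := rfl
theorem F141499 : act 1 n30395 = n25532 := d14_1 D30395 (iv D25532) (iv F114572)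
theorem F141500 : act 2 n30395 = n25591 := d21_1 D30395 (iv D25591) (iv F114573)
theorem F141501 : act 4 n30395 = n25849 := d32_1 D30395 (iv D25849) (iv F114574)
theorem F141502 : act 5 n30395 = n25477 := d36_1 D30395 (iv D25477) D25476
theorem F141503 : act 9 n30395 = n25522 := d43_2 (iv F114576) D30395 (iv D25522)
def n30396 : Q := act 8 n25476
theorem D30396 : act 8 n25476 = n30396 := rfl
theorem F141504 : act 1 n30396 = n25533 := d15_1 D30396 (iv D25533) (iv F114572)
theorem F141505 : act 2 n30396 = n25592 := d22_1 D30396 (iv D25592) (iv F114573)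
theorem F141506 : act 4 n30396 = n25850 := d33_1 D30396 (iv D25850) (iv F114574)
theorem F141507 : act 5 n30396 = n25493 := d37_1 D30396 (iv D25493) (iv D20121) (iv F91075) D25476
theorem F141508 : act 6 n30396 = n25539 := d40_1 D30396 (iv D25539) (iv F114575)
def n30397 : Q := act 1 n25478
theorem D30397 : act 1 n25478 = n30397 := rfl
theorem F141509 : act 2 n30397 = n25534 := d9_2 D25478 D30397 (iv D25534) (iv D20151) (iv F91083)
theorem F141510 : act 3 n30397 = n25581 := d10_2 (iv F114583) D30397 (iv D25581)
theorem F141511 : act 5 n30397 = n25528 := d12_2 (iv F114584) D30397 (iv D25528)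
theorem F141512 : act 7 n30397 = n25518 := d14_2 (iv F114585) D30397 (iv D25518)
theorem F141513 : act 8 n30397 = n30397 := d15_2 F114586 D30397 (iv D30397)
theorem F141514 : act 9 n30397 = n25482 := d16_2 (iv F114587) D30397 (iv D25482)
def n30398 : Q := act 6 n25478
theorem D30398 : act 6 n25478 = n30398 := rfl
theorem F141515 : act 2 n30398 = n25479 := d20_1 D30398 (iv D25479) D25478
theorem F141516 : act 3 n30398 = n25582 := d26_1 D30398 (iv D25582) (iv F114583)
theorem F141517 : act 8 n30398 = n30398 := d40_2 F114586 D30398 (iv D30398)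
theorem F141518 : act 9 n30398 = n25483 := d41_2 (iv F114587) D30398 (iv D25483)
def n30399 : Q := act 5 n25479
theorem D30399 : act 5 n25479 = n30399 := rfl
theorem F141519 : act 1 n30399 = n25536 := d12_1 D30399 (iv D25536) (iv F114588)
theorem F141520 : act 3 n30399 = n25480 := d25_1 D30399 (iv D25480) (iv F114589)
theorem F141521 : act 6 n30399 = n25530 := d35_2 D25479 D30399 (iv D25530) (iv D20148) (iv F91084)
theorem F141522 : act 9 n30399 = n25484 := d38_2 (iv F114591) D30399 (iv D25484)
def n30400 : Q := act 7 n25479
theorem D30400 : act 7 n25479 = n30400 := rfl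
theorem F141523 : act 1 n30400 = n25537 := d14_1 D30400 (iv D25537) (iv F114588)
theorem F141524 : act 3 n30400 = n25481 := d27_1 D30400 (iv D25481) (iv F114589)
theorem F141525 : act 6 n30400 = n25521 := d39_1 D30400 (iv D25521) (iv D20141) (iv F91085) D25479
theorem F141526 : act 8 n30400 = n30400 := d42_2 F114590 D30400 (iv D30400)
theorem F141527 : act 9 n30400 = n25485 := d43_2 (iv F114591) D30400 (iv D25485)
def n30401 : Q := act 7 n25480
theorem D30401 : act 7 n25480 = n30401 := rfl
theorem F141528 : act 1 n30401 = n25538 := d14_1 D30401 (iv D25538) (iv F114592)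
theorem F141529 : act 2 n30401 = n25585 := d21_1 D30401 (iv D25585) (iv F114593)
theorem F141530 : act 4 n30401 = n25780 := d32_1 D30401 (iv D25780) (iv F114594)
theorem F141531 : act 5 n30401 = n25481 := d36_1 D30401 (iv D25481) D25480
theorem F141532 : act 9 n30401 = n25486 := d43_2 (iv F114596) D30401 (iv D25486)
def n30402 : Q := act 8 n25480
theorem D30402 : act 8 n25480 = n30402 := rfl
theorem F141533 : act 1 n30402 = n25539 := d15_1 D30402 (iv D25539) (iv F114592)
theorem F141534 : act 2 n30402 = n25586 := d22_1 D30402 (iv D25586) (iv F114593)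
theorem F141535 : act 4 n30402 = n25781 := d33_1 D30402 (iv D25781) (iv F114594)
theorem F141536 : act 5 n30402 = n30402 := d37_1 D30402 (iv D30402) (iv D25480) F91091 D25480
theorem F141537 : act 6 n30402 = n25533 := d40_1 D30402 (iv D25533) (iv F114595)
def n30403 : Q := act 0 n25482
theorem D30403 : act 0 n25482 = n30403 := rfl
theorem F141538 : act 2 n30403 = n25540 := d1_2 (iv F114603) D30403 (iv D25540)
theorem F141539 : act 3 n30403 = n27137 := d2_2 (iv F114604) D30403 (iv D27137)
theorem F141540 : act 8 n30403 = n25494 := d7_2 (iv F114605) D30403 (iv D25494)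
def n30404 : Q := act 6 n25482
theorem D30404 : act 6 n25482 = n30404 := rfl
theorem F141541 : act 1 n30404 = n25483 := d13_1 D30404 (iv D25483) D25482
theorem F141542 : act 2 n30404 = n25541 := d20_1 D30404 (iv D25541) (iv F114603)
theorem F141543 : act 3 n30404 = n27138 := d26_1 D30404 (iv D27138) (iv F114604)
theorem F141544 : act 8 n30404 = n25495 := d40_2 (iv F114605) D30404 (iv D25495)
def n30405 : Q := act 5 n25483
theorem D30405 : act 5 n25483 = n30405 := rfl
theorem F141545 : act 2 n30405 = n25484 := d19_1 D30405 (iv D25484) (iv F114606)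
theorem F141546 : act 3 n30405 = n27139 := d25_1 D30405 (iv D27139) (iv F114607)
def n30406 : Q := act 7 n25483
theorem D30406 : act 7 n25483 = n30406 := rfl
theorem F141547 : act 2 n30406 = n25485 := d21_1 D30406 (iv D25485) (iv F114606)
theorem F141548 : act 3 n30406 = n27140 := d27_1 D30406 (iv D27140) (iv F114607)
theorem F141549 : act 8 n30406 = n25497 := d42_2 (iv F114608) D30406 (iv D25497)
def n30407 : Q := act 4 n25484
theorem D30407 : act 4 n25484 = n30407 := rfl
theorem F141550 : act 1 n30407 = n25544 := d11_1 D30407 (iv D25544) (iv F114609)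
theorem F141551 : act 3 n30407 = n25786 := d24_1 D30407 (iv D25786) F91937 (iv F91106) (iv F114610)
def n30408 : Q := act 7 n25484
theorem D30408 : act 7 n25484 = n30408 := rfl
theorem F141552 : act 1 n30408 = n25545 := d14_1 D30408 (iv D25545) (iv F114609)
theorem F141553 : act 3 n30408 = n25486 := d27_1 D30408 (iv D25486) (iv F114610)
theorem F141554 : act 5 n30408 = n25485 := d36_1 D30408 (iv D25485) D25484
def n30409 : Q := act 8 n25484
theorem D30409 : act 8 n25484 = n30409 := rfl
theorem F141555 : act 1 n30409 = n25546 := d15_1 D30409 (iv D25546) (iv F114609)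
theorem F141556 : act 3 n30409 = n25487 := d28_1 D30409 (iv D25487) (iv F114610)
theorem F141557 : act 5 n30409 = n25500 := d37_1 D30409 (iv D25500) (iv D20125) (iv F91103) D25484
def n30410 : Q := act 6 n25486
theorem D30410 : act 6 n25486 = n30410 := rfl
theorem F141558 : act 1 n30410 = n25547 := d13_1 D30410 (iv D25547) (iv F114614)
theorem F141559 : act 2 n30410 = n27144 := d20_1 D30410 (iv D27144) (iv F114615)
theorem F141560 : act 4 n30410 = n25789 := d31_1 D30410 (iv D25789) (iv F114616)
def n30411 : Q := act 8 n25486
theorem D30411 : act 8 n25486 = n30411 := rfl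
theorem F141561 : act 1 n30411 = n25548 := d15_1 D30411 (iv D25548) (iv F114614)
theorem F141562 : act 2 n30411 = n25996 := d22_1 D30411 F135424 (iv F114615)
theorem F141563 : act 4 n30411 = n25790 := d33_1 D30411 (iv D25790) (iv F114616)
theorem F141564 : act 5 n30411 = n25502 := d37_1 D30411 (iv D25502) F91145 (iv F91110) (iv F114617)
theorem F141565 : act 7 n30411 = n25487 := d42_1 D30411 (iv D25487) D25486
def n30412 : Q := act 0 n25488
theorem D30412 : act 0 n25488 = n30412 := rfl
theorem F141566 : act 2 n30412 = n25550 := d1_2 (iv F114622) D30412 (iv D25550)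
theorem F141567 : act 3 n30412 = n27147 := d2_2 (iv F114623) D30412 (iv D27147)
theorem F141568 : act 5 n30412 = n30412 := d4_2 F114624 D30412 (iv D30412)
theorem F141569 : act 7 n30412 = n25494 := d6_2 (iv F114625) D30412 (iv D25494)
theorem F141570 : act 9 n30412 = n30412 := d8_2 F114626 D30412 (iv D30412)
def n30413 : Q := act 6 n25488
theorem D30413 : act 6 n25488 = n30413 := rfl
theorem F141571 : act 1 n30413 = n25489 := d13_1 D30413 (iv D25489) D25488
theorem F141572 : act 2 n30413 = n25551 := d20_1 D30413 (iv D25551) (iv F114622)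
theorem F141573 : act 3 n30413 = n27148 := d26_1 D30413 (iv D27148) (iv F114623)
theorem F141574 : act 9 n30413 = n30413 := d41_2 F114626 D30413 (iv D30413)
def n30414 : Q := act 5 n25489
theorem D30414 : act 5 n25489 = n30414 := rfl
theorem F141575 : act 2 n30414 = n25490 := d19_1 D30414 (iv D25490) (iv F114627)
theorem F141576 : act 3 n30414 = n27149 := d25_1 D30414 (iv D27149) (iv F114628)
theorem F141577 : act 6 n30414 = n30414 := d35_2 D25489 D30414 (iv D30414) (iv D25489) F91112
theorem F141578 : act 9 n30414 = n30414 := d38_2 F114629 D30414 (iv D30414)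
def n30415 : Q := act 7 n25489
theorem D30415 : act 7 n25489 = n30415 := rfl
theorem F141579 : act 2 n30415 = n25491 := d21_1 D30415 (iv D25491) (iv F114627)
theorem F141580 : act 3 n30415 = n27150 := d27_1 D30415 (iv D27150) (iv F114628)
theorem F141581 : act 6 n30415 = n25497 := d39_1 D30415 (iv D25497) (iv D20124) (iv F91113) D25489
theorem F141582 : act 9 n30415 = n30415 := d43_2 F114629 D30415 (iv D30415)
def n30416 : Q := act 4 n25490
theorem D30416 : act 4 n25490 = n30416 := rfl
theorem F141583 : act 1 n30416 = n25554 := d11_1 D30416 (iv D25554) (iv F114630)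
theorem F141584 : act 3 n30416 = n30416 := d24_1 D30416 (iv D30416) F114631 F91120 (iv F114631)
theorem F141585 : act 6 n30416 = n30416 := d31_2 F114632 D30416 (iv D30416)
theorem F141586 : act 9 n30416 = n30416 := d34_2 F114633 D30416 (iv D30416)
def n30417 : Q := act 7 n25490
theorem D30417 : act 7 n25490 = n30417 := rfl
theorem F141587 : act 1 n30417 = n25555 := d14_1 D30417 (iv D25555) (iv F114630)
theorem F141588 : act 3 n30417 = n25492 := d27_1 D30417 (iv D25492) (iv F114631)
theorem F141589 : act 5 n30417 = n25491 := d36_1 D30417 (iv D25491) D25490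
theorem F141590 : act 9 n30417 = n30417 := d43_2 F114633 D30417 (iv D30417)
def n30418 : Q := act 8 n25490
theorem D30418 : act 8 n25490 = n30418 := rfl
theorem F141591 : act 1 n30418 = n25556 := d15_1 D30418 (iv D25556) (iv F114630)
theorem F141592 : act 3 n30418 = n25493 := d28_1 D30418 (iv D25493) (iv F114631)
theorem F141593 : act 6 n30418 = n30418 := d40_1 D30418 (iv D30418) F114632
def n30419 : Q := act 6 n25492
theorem D30419 : act 6 n25492 = n30419 := rfl
theorem F141594 : act 1 n30419 = n25557 := d13_1 D30419 (iv D25557) (iv F114638)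
theorem F141595 : act 2 n30419 = n27154 := d20_1 D30419 (iv D27154) (iv F114639)
theorem F141596 : act 4 n30419 = n30419 := d31_1 D30419 (iv D30419) F114640
theorem F141597 : act 5 n30419 = n25501 := d35_1 D30419 (iv D25501) F91145 (iv F91126) (iv F114641)
theorem F141598 : act 7 n30419 = n30419 := d39_2 D25492 D30419 (iv D30419) (iv D25492) F91121
theorem F141599 : act 9 n30419 = n30419 := d41_2 F114642 D30419 (iv D30419)
def n30420 : Q := act 8 n25492
theorem D30420 : act 8 n25492 = n30420 := rfl
theorem F141600 : act 1 n30420 = n25558 := d15_1 D30420 (iv D25558) (iv F114638)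
theorem F141601 : act 2 n30420 = n27155 := d22_1 D30420 (iv D27155) (iv F114639)
theorem F141602 : act 4 n30420 = n30420 := d33_1 D30420 (iv D30420) F114640
theorem F141603 : act 7 n30420 = n25493 := d42_1 D30420 (iv D25493) D25492
def n30421 : Q := act 9 n25493
theorem D30421 : act 9 n25493 = n30421 := rfl
theorem F141604 : act 1 n30421 = n25559 := d16_1 D30421 (iv D25559) (iv F114643)
theorem F141605 : act 2 n30421 = n27156 := d23_1 D30421 (iv D27156) (iv F114644)
theorem F141606 : act 4 n30421 = n30421 := d34_1 D30421 (iv D30421) F114645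
theorem F141607 : act 6 n30421 = n30421 := d41_1 D30421 (iv D30421) F114646
theorem F141608 : act 8 n30421 = n30421 := d44_1 D30421 (iv D30421) (iv D25493) F91122 D25493
def n30422 : Q := act 6 n25494
theorem D30422 : act 6 n25494 = n30422 := rfl
theorem F141609 : act 0 n30422 = n25495 := d5_1 D30422 (iv D25495) D25494
theorem F141610 : act 2 n30422 = n25560 := d20_1 D30422 (iv D25560) (iv F114647)
theorem F141611 : act 3 n30422 = n27157 := d26_1 D30422 (iv D27157) (iv F114648)
theorem F141612 : act 9 n30422 = n30422 := d41_2 F114650 D30422 (iv D30422)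
def n30423 : Q := act 5 n25495
theorem D30423 : act 5 n25495 = n30423 := rfl
theorem F141613 : act 1 n30423 = n25496 := d12_1 D30423 (iv D25496) (iv F114651)
theorem F141614 : act 2 n30423 = n25561 := d19_1 D30423 (iv D25561) (iv F114652)
theorem F141615 : act 3 n30423 = n27158 := d25_1 D30423 (iv D27158) (iv F114653)
theorem F141616 : act 6 n30423 = n30423 := d35_2 D25495 D30423 (iv D30423) (iv D25495) F91130
theorem F141617 : act 9 n30423 = n30423 := d38_2 F114654 D30423 (iv D30423)
def n30424 : Q := act 7 n25495
theorem D30424 : act 7 n25495 = n30424 := rfl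
theorem F141618 : act 1 n30424 = n25497 := d14_1 D30424 (iv D25497) (iv F114651)
theorem F141619 : act 2 n30424 = n25562 := d21_1 D30424 (iv D25562) (iv F114652)
theorem F141620 : act 3 n30424 = n27159 := d27_1 D30424 (iv D27159) (iv F114653)
theorem F141621 : act 9 n30424 = n30424 := d43_2 F114654 D30424 (iv D30424)
def n30425 : Q := act 4 n25496
theorem D30425 : act 4 n25496 = n30425 := rfl
theorem F141622 : act 2 n30425 = n25498 := d18_1 D30425 (iv D25498) (iv F114655)
theorem F141623 : act 6 n30425 = n30425 := d31_2 F114657 D30425 (iv D30425)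
theorem F141624 : act 9 n30425 = n30425 := d34_2 F114658 D30425 (iv D30425)
def n30426 : Q := act 7 n25496
theorem D30426 : act 7 n25496 = n30426 := rfl
theorem F141625 : act 2 n30426 = n25499 := d21_1 D30426 (iv D25499) (iv F114655)
theorem F141626 : act 3 n30426 = n27161 := d27_1 D30426 (iv D27161) (iv F114656)
theorem F141627 : act 5 n30426 = n25497 := d36_1 D30426 (iv D25497) D25496
theorem F141628 : act 9 n30426 = n30426 := d43_2 F114658 D30426 (iv D30426)
def n30427 : Q := act 8 n25496
theorem D30427 : act 8 n25496 = n30427 := rfl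
theorem F141629 : act 2 n30427 = n25500 := d22_1 D30427 (iv D25500) (iv F114655)
theorem F141630 : act 3 n30427 = n26070 := d28_1 D30427 F135533 (iv F114656)
theorem F141631 : act 6 n30427 = n30427 := d40_1 D30427 (iv D30427) F114657
def n30428 : Q := act 7 n25498
theorem D30428 : act 7 n25498 = n30428 := rfl
theorem F141632 : act 1 n30428 = n25566 := d14_1 D30428 (iv D25566) (iv F114662)
theorem F141633 : act 3 n30428 = n25507 := d27_1 D30428 (iv D25507) (iv F114663)
theorem F141634 : act 4 n30428 = n25499 := d32_1 D30428 (iv D25499) D25498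
theorem F141635 : act 9 n30428 = n30428 := d43_2 F114665 D30428 (iv D30428)
def n30429 : Q := act 6 n25499
theorem D30429 : act 6 n25499 = n30429 := rfl
theorem F141636 : act 1 n30429 = n25568 := d13_1 D30429 (iv D25568) (iv F114666)
theorem F141637 : act 3 n30429 = n25501 := d26_1 D30429 (iv D25501) (iv F114667)
theorem F141638 : act 7 n30429 = n30429 := d39_2 D25499 D30429 (iv D30429) (iv D25499) F91137
theorem F141639 : act 9 n30429 = n30429 := d41_2 F114669 D30429 (iv D30429)
def n30430 : Q := act 8 n25499
theorem D30430 : act 8 n25499 = n30430 := rfl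
theorem F141640 : act 1 n30430 = n25569 := d15_1 D30430 (iv D25569) (iv F114666)
theorem F141641 : act 3 n30430 = n25502 := d28_1 D30430 (iv D25502) (iv F114667)
theorem F141642 : act 7 n30430 = n25500 := d42_1 D30430 (iv D25500) D25499
def n30431 : Q := act 8 n25501
theorem D30431 : act 8 n25501 = n30431 := rfl
theorem F141643 : act 1 n30431 = n25571 := d15_1 D30431 (iv D25571) (iv F114673)
theorem F141644 : act 2 n30431 = n26088 := d22_1 D30431 F135538 (iv F114674)
theorem F141645 : act 4 n30431 = n25512 := d33_1 D30431 (iv D25512) (iv F114675)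
theorem F141646 : act 6 n30431 = n25502 := d40_1 D30431 (iv D25502) D25501
theorem F141647 : act 7 n30431 = n30431 := d42_1 D30431 (iv D30431) F114676
def n30432 : Q := act 6 n25507
theorem D30432 : act 6 n25507 = n30432 := rfl
theorem F141648 : act 1 n30432 = n25573 := d13_1 D30432 (iv D25573) (iv F114701)
theorem F141649 : act 4 n30432 = n25509 := d31_1 D30432 (iv D25509) (iv F114702)
theorem F141650 : act 7 n30432 = n30432 := d39_2 D25507 D30432 (iv D30432) (iv D25507) F91163
theorem F141651 : act 9 n30432 = n30432 := d41_2 F114703 D30432 (iv D30432)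
def n30433 : Q := act 1 n25514
theorem D30433 : act 1 n25514 = n30433 := rfl
theorem F141652 : act 3 n30433 = n30433 := d10_2 F114730 D30433 (iv D30433)
theorem F141653 : act 4 n30433 = n25518 := d11_2 (iv F114731) D30433 (iv D25518)
theorem F141654 : act 8 n30433 = n30433 := d15_2 F114732 D30433 (iv D30433)
def n30434 : Q := act 6 n25514
theorem D30434 : act 6 n25514 = n30434 := rfl
theorem F141655 : act 2 n30434 = n25515 := d20_1 D30434 (iv D25515) D25514
theorem F141656 : act 3 n30434 = n30434 := d26_1 D30434 (iv D30434) F114730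
theorem F141657 : act 4 n30434 = n25519 := d31_1 D30434 (iv D25519) (iv F114731)
theorem F141658 : act 8 n30434 = n30434 := d40_2 F114732 D30434 (iv D30434)
def n30435 : Q := act 5 n25515
theorem D30435 : act 5 n25515 = n30435 := rfl
theorem F141659 : act 3 n30435 = n25516 := d25_1 D30435 (iv D25516) (iv F114733)
def n30436 : Q := act 7 n25515
theorem D30436 : act 7 n25515 = n30436 := rfl
theorem F141660 : act 3 n30436 = n25517 := d27_1 D30436 (iv D25517) (iv F114733)
theorem F141661 : act 4 n30436 = n25521 := d32_1 D30436 (iv D25521) (iv F114734)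
theorem F141662 : act 8 n30436 = n30436 := d42_2 F114735 D30436 (iv D30436)
def n30437 : Q := act 7 n25516
theorem D30437 : act 7 n25516 = n30437 := rfl
theorem F141663 : act 2 n30437 = n30437 := d21_1 D30437 (iv D30437) F114736
theorem F141664 : act 4 n30437 = n25837 := d32_1 D30437 (iv D25837) (iv F114737)
theorem F141665 : act 5 n30437 = n25517 := d36_1 D30437 (iv D25517) D25516
def n30438 : Q := act 8 n25516
theorem D30438 : act 8 n25516 = n30438 := rfl
theorem F141666 : act 2 n30438 = n30438 := d22_1 D30438 (iv D30438) F114736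
theorem F141667 : act 4 n30438 = n25838 := d33_1 D30438 (iv D25838) (iv F114737)
theorem F141668 : act 5 n30438 = n30438 := d37_1 D30438 (iv D30438) (iv D25516) F91191 D25516
def n30439 : Q := act 0 n25518
theorem D30439 : act 0 n25518 = n30439 := rfl
theorem F141669 : act 3 n30439 = n25593 := d2_2 (iv F114741) D30439 (iv D25593)
theorem F141670 : act 5 n30439 = n25540 := d4_2 (iv F114742) D30439 (iv D25540)
theorem F141671 : act 8 n30439 = n30439 := d7_2 F114743 D30439 (iv D30439)
def n30440 : Q := act 6 n25518
theorem D30440 : act 6 n25518 = n30440 := rfl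
theorem F141672 : act 1 n30440 = n25519 := d13_1 D30440 (iv D25519) D25518
theorem F141673 : act 3 n30440 = n25594 := d26_1 D30440 (iv D25594) (iv F114741)
theorem F141674 : act 8 n30440 = n30440 := d40_2 F114743 D30440 (iv D30440)
def n30441 : Q := act 5 n25519
theorem D30441 : act 5 n25519 = n30441 := rfl
theorem F141675 : act 2 n30441 = n25520 := d19_1 D30441 (iv D25520) (iv F114744)
theorem F141676 : act 3 n30441 = n25595 := d25_1 D30441 (iv D25595) (iv F114745)
theorem F141677 : act 6 n30441 = n25542 := d35_2 D25519 D30441 (iv D25542) (iv D20156) (iv F91197)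
def n30442 : Q := act 7 n25519
theorem D30442 : act 7 n25519 = n30442 := rfl
theorem F141678 : act 2 n30442 = n25521 := d21_1 D30442 (iv D25521) (iv F114744)
theorem F141679 : act 3 n30442 = n25596 := d27_1 D30442 (iv D25596) (iv F114745)
theorem F141680 : act 8 n30442 = n30442 := d42_2 F114746 D30442 (iv D30442)
def n30443 : Q := act 4 n25520
theorem D30443 : act 4 n25520 = n30443 := rfl
theorem F141681 : act 3 n30443 = n25855 := d24_1 D30443 (iv D25855) F92104 (iv F91202) (iv F114747)
theorem F141682 : act 6 n30443 = n25544 := d31_2 (iv F114748) D30443 (iv D25544)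
def n30444 : Q := act 7 n25520
theorem D30444 : act 7 n25520 = n30444 := rfl
theorem F141683 : act 3 n30444 = n25522 := d27_1 D30444 (iv D25522) (iv F114747)
theorem F141684 : act 5 n30444 = n25521 := d36_1 D30444 (iv D25521) D25520
def n30445 : Q := act 8 n25520
theorem D30445 : act 8 n25520 = n30445 := rfl
theorem F141685 : act 3 n30445 = n25523 := d28_1 D30445 (iv D25523) (iv F114747)
theorem F141686 : act 5 n30445 = n30445 := d37_1 D30445 (iv D30445) (iv D25520) F91200 D25520
theorem F141687 : act 6 n30445 = n25546 := d40_1 D30445 (iv D25546) (iv F114748)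
def n30446 : Q := act 6 n25522
theorem D30446 : act 6 n25522 = n30446 := rfl
theorem F141688 : act 2 n30446 = n25600 := d20_1 D30446 (iv D25600) (iv F114751)
theorem F141689 : act 4 n30446 = n25858 := d31_1 D30446 (iv D25858) (iv F114752)
theorem F141690 : act 7 n30446 = n25547 := d39_2 D25522 D30446 (iv D25547) (iv D20159) (iv F91203)
def n30447 : Q := act 8 n25522
theorem D30447 : act 8 n25522 = n30447 := rfl
theorem F141691 : act 2 n30447 = n25601 := d22_1 D30447 (iv D25601) (iv F114751)
theorem F141692 : act 4 n30447 = n25859 := d33_1 D30447 (iv D25859) (iv F114752)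
theorem F141693 : act 5 n30447 = n30447 := d37_1 D30447 (iv D30447) F114753 F91206 (iv F114753)
theorem F141694 : act 7 n30447 = n25523 := d42_1 D30447 (iv D25523) D25522
def n30448 : Q := act 9 n25523
theorem D30448 : act 9 n25523 = n30448 := rfl
theorem F141695 : act 2 n30448 = n25602 := d23_1 D30448 (iv D25602) (iv F114754)
theorem F141696 : act 4 n30448 = n25860 := d34_1 D30448 (iv D25860) (iv F114755)
theorem F141697 : act 5 n30448 = n30448 := d38_1 D30448 (iv D30448) F114756
theorem F141698 : act 6 n30448 = n25549 := d41_1 D30448 (iv D25549) (iv F114757)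
def n30449 : Q := act 1 n25524
theorem D30449 : act 1 n25524 = n30449 := rfl
theorem F141699 : act 2 n30449 = n25845 := d9_2 D25524 D30449 (iv D25845) (iv D20379) (iv F91207)
theorem F141700 : act 3 n30449 = n25603 := d10_2 (iv F114758) D30449 (iv D25603)
theorem F141701 : act 5 n30449 = n25776 := d12_2 (iv F114759) D30449 (iv D25776)
theorem F141702 : act 7 n30449 = n25861 := d14_2 (iv F114760) D30449 (iv D25861)
theorem F141703 : act 8 n30449 = n30449 := d15_2 F114761 D30449 (iv D30449)
theorem F141704 : act 9 n30449 = n25764 := d16_2 (iv F114762) D30449 (iv D25764)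
def n30450 : Q := act 6 n25524
theorem D30450 : act 6 n25524 = n30450 := rfl
theorem F141705 : act 2 n30450 = n25525 := d20_1 D30450 (iv D25525) D25524
theorem F141706 : act 3 n30450 = n25604 := d26_1 D30450 (iv D25604) (iv F114758)
theorem F141707 : act 8 n30450 = n30450 := d40_2 F114761 D30450 (iv D30450)
theorem F141708 : act 9 n30450 = n25765 := d41_2 (iv F114762) D30450 (iv D25765)
def n30451 : Q := act 5 n25525
theorem D30451 : act 5 n25525 = n30451 := rfl
theorem F141709 : act 1 n30451 = n25847 := d12_1 D30451 (iv D25847) (iv F114763)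
theorem F141710 : act 3 n30451 = n25526 := d25_1 D30451 (iv D25526) (iv F114764)
theorem F141711 : act 6 n30451 = n25778 := d35_2 D25525 D30451 (iv D25778) (iv D20333) (iv F91208)
theorem F141712 : act 9 n30451 = n25766 := d38_2 (iv F114766) D30451 (iv D25766)
def n30452 : Q := act 7 n25525
theorem D30452 : act 7 n25525 = n30452 := rfl
theorem F141713 : act 1 n30452 = n25848 := d14_1 D30452 (iv D25848) (iv F114763)
theorem F141714 : act 3 n30452 = n25527 := d27_1 D30452 (iv D25527) (iv F114764)
theorem F141715 : act 6 n30452 = n25864 := d39_1 D30452 (iv D25864) (iv D20390) (iv F91209) D25525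
theorem F141716 : act 8 n30452 = n30452 := d42_2 F114765 D30452 (iv D30452)
theorem F141717 : act 9 n30452 = n25767 := d43_2 (iv F114766) D30452 (iv D25767)
def n30453 : Q := act 7 n25526
theorem D30453 : act 7 n25526 = n30453 := rfl
theorem F141718 : act 1 n30453 = n25849 := d14_1 D30453 (iv D25849) (iv F114767)
theorem F141719 : act 2 n30453 = n25607 := d21_1 D30453 (iv D25607) (iv F114768)
theorem F141720 : act 4 n30453 = n25532 := d32_1 D30453 (iv D25532) (iv F114769)
theorem F141721 : act 5 n30453 = n25527 := d36_1 D30453 (iv D25527) D25526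
theorem F141722 : act 9 n30453 = n25768 := d43_2 (iv F114771) D30453 (iv D25768)
def n30454 : Q := act 8 n25526
theorem D30454 : act 8 n25526 = n30454 := rfl
theorem F141723 : act 1 n30454 = n25850 := d15_1 D30454 (iv D25850) (iv F114767)
theorem F141724 : act 2 n30454 = n25608 := d22_1 D30454 (iv D25608) (iv F114768)
theorem F141725 : act 4 n30454 = n25533 := d33_1 D30454 (iv D25533) (iv F114769)
theorem F141726 : act 5 n30454 = n30454 := d37_1 D30454 (iv D30454) (iv D25526) F91215 D25526
theorem F141727 : act 6 n30454 = n25781 := d40_1 D30454 (iv D25781) (iv F114770)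
def n30455 : Q := act 0 n25528
theorem D30455 : act 0 n25528 = n30455 := rfl
theorem F141728 : act 3 n30455 = n25615 := d2_2 (iv F114778) D30455 (iv D25615)
theorem F141729 : act 7 n30455 = n25540 := d6_2 (iv F114779) D30455 (iv D25540)
theorem F141730 : act 8 n30455 = n25550 := d7_2 (iv F114780) D30455 (iv D25550)
def n30456 : Q := act 6 n25528
theorem D30456 : act 6 n25528 = n30456 := rfl
theorem F141731 : act 1 n30456 = n25529 := d13_1 D30456 (iv D25529) D25528
theorem F141732 : act 3 n30456 = n25616 := d26_1 D30456 (iv D25616) (iv F114778)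
theorem F141733 : act 8 n30456 = n25551 := d40_2 (iv F114780) D30456 (iv D25551)
def n30457 : Q := act 5 n25529
theorem D30457 : act 5 n25529 = n30457 := rfl
theorem F141734 : act 2 n30457 = n25530 := d19_1 D30457 (iv D25530) (iv F114781)
theorem F141735 : act 3 n30457 = n25617 := d25_1 D30457 (iv D25617) (iv F114782)
def n30458 : Q := act 7 n25529
theorem D30458 : act 7 n25529 = n30458 := rfl
theorem F141736 : act 2 n30458 = n25531 := d21_1 D30458 (iv D25531) (iv F114781)
theorem F141737 : act 3 n30458 = n25618 := d27_1 D30458 (iv D25618) (iv F114782)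
theorem F141738 : act 6 n30458 = n25543 := d39_1 D30458 (iv D25543) (iv D20156) (iv F91224) D25529
theorem F141739 : act 8 n30458 = n25553 := d42_2 (iv F114783) D30458 (iv D25553)
def n30459 : Q := act 4 n25530
theorem D30459 : act 4 n25530 = n30459 := rfl
def n30460 : Q := act 7 n25530
theorem D30460 : act 7 n25530 = n30460 := rfl
theorem F141740 : act 3 n30460 = n25532 := d27_1 D30460 (iv D25532) (iv F114784)
theorem F141741 : act 5 n30460 = n25531 := d36_1 D30460 (iv D25531) D25530
def n30461 : Q := act 8 n25530
theorem D30461 : act 8 n25530 = n30461 := rfl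
theorem F141742 : act 3 n30461 = n25533 := d28_1 D30461 (iv D25533) (iv F114784)
theorem F141743 : act 5 n30461 = n25556 := d37_1 D30461 (iv D25556) (iv D20163) (iv F91227) D25530
def n30462 : Q := act 6 n25532
theorem D30462 : act 6 n25532 = n30462 := rfl
theorem F141744 : act 2 n30462 = n25622 := d20_1 D30462 (iv D25622) (iv F114788)
theorem F141745 : act 5 n30462 = n25547 := d35_1 D30462 (iv D25547) F91256 (iv F91231) (iv F114789)
def n30463 : Q := act 8 n25532
theorem D30463 : act 8 n25532 = n30463 := rfl
theorem F141746 : act 2 n30463 = n25623 := d22_1 D30463 (iv D25623) (iv F114788)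
theorem F141747 : act 5 n30463 = n25558 := d37_1 D30463 (iv D25558) F91275 (iv F91232) (iv F114789)
theorem F141748 : act 7 n30463 = n25533 := d42_1 D30463 (iv D25533) D25532
def n30464 : Q := act 9 n25533
theorem D30464 : act 9 n25533 = n30464 := rfl
theorem F141749 : act 2 n30464 = n25624 := d23_1 D30464 (iv D25624) (iv F114790)
theorem F141750 : act 5 n30464 = n25559 := d38_1 D30464 (iv D25559) (iv F114791)
def n30465 : Q := act 0 n25534
theorem D30465 : act 0 n25534 = n30465 := rfl
theorem F141751 : act 3 n30465 = n25625 := d2_2 (iv F114792) D30465 (iv D25625)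
theorem F141752 : act 8 n30465 = n30465 := d7_2 F114793 D30465 (iv D30465)
theorem F141753 : act 9 n30465 = n25540 := d8_2 (iv F114794) D30465 (iv D25540)
def n30466 : Q := act 6 n25534
theorem D30466 : act 6 n25534 = n30466 := rfl
theorem F141754 : act 1 n30466 = n25535 := d13_1 D30466 (iv D25535) D25534
theorem F141755 : act 3 n30466 = n25626 := d26_1 D30466 (iv D25626) (iv F114792)
theorem F141756 : act 8 n30466 = n30466 := d40_2 F114793 D30466 (iv D30466)
theorem F141757 : act 9 n30466 = n25541 := d41_2 (iv F114794) D30466 (iv D25541)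
def n30467 : Q := act 5 n25535
theorem D30467 : act 5 n25535 = n30467 := rfl
theorem F141758 : act 2 n30467 = n25536 := d19_1 D30467 (iv D25536) (iv F114795)
theorem F141759 : act 3 n30467 = n25627 := d25_1 D30467 (iv D25627) (iv F114796)
theorem F141760 : act 9 n30467 = n25542 := d38_2 (iv F114798) D30467 (iv D25542)
def n30468 : Q := act 7 n25535
theorem D30468 : act 7 n25535 = n30468 := rfl
theorem F141761 : act 2 n30468 = n25537 := d21_1 D30468 (iv D25537) (iv F114795)
theorem F141762 : act 3 n30468 = n25628 := d27_1 D30468 (iv D25628) (iv F114796)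
theorem F141763 : act 8 n30468 = n30468 := d42_2 F114797 D30468 (iv D30468)
theorem F141764 : act 9 n30468 = n25543 := d43_2 (iv F114798) D30468 (iv D25543)
def n30469 : Q := act 4 n25536
theorem D30469 : act 4 n25536 = n30469 := rfl
theorem F141765 : act 3 n30469 = n25881 := d24_1 D30469 (iv D25881) F92143 (iv F91240) (iv F114799)
theorem F141766 : act 9 n30469 = n25544 := d34_2 (iv F114800) D30469 (iv D25544)
def n30470 : Q := act 7 n25536
theorem D30470 : act 7 n25536 = n30470 := rfl
theorem F141767 : act 3 n30470 = n25538 := d27_1 D30470 (iv D25538) (iv F114799)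
theorem F141768 : act 5 n30470 = n25537 := d36_1 D30470 (iv D25537) D25536
theorem F141769 : act 9 n30470 = n25545 := d43_2 (iv F114800) D30470 (iv D25545)
def n30471 : Q := act 8 n25536
theorem D30471 : act 8 n25536 = n30471 := rfl
theorem F141770 : act 3 n30471 = n25539 := d28_1 D30471 (iv D25539) (iv F114799)
theorem F141771 : act 5 n30471 = n30471 := d37_1 D30471 (iv D30471) (iv D25536) F91237 D25536
def n30472 : Q := act 6 n25538
theorem D30472 : act 6 n25538 = n30472 := rfl
theorem F141772 : act 2 n30472 = n25632 := d20_1 D30472 (iv D25632) (iv F114804)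
theorem F141773 : act 4 n30472 = n25884 := d31_1 D30472 (iv D25884) (iv F114805)
theorem F141774 : act 9 n30472 = n25547 := d41_2 (iv F114807) D30472 (iv D25547)
def n30473 : Q := act 8 n25538
theorem D30473 : act 8 n25538 = n30473 := rfl
theorem F141775 : act 2 n30473 = n25633 := d22_1 D30473 (iv D25633) (iv F114804)
theorem F141776 : act 4 n30473 = n25885 := d33_1 D30473 (iv D25885) (iv F114805)
theorem F141777 : act 5 n30473 = n30473 := d37_1 D30473 (iv D30473) F114806 F91244 (iv F114806)
theorem F141778 : act 7 n30473 = n25539 := d42_1 D30473 (iv D25539) D25538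
def n30474 : Q := act 9 n25539
theorem D30474 : act 9 n25539 = n30474 := rfl
theorem F141779 : act 2 n30474 = n25634 := d23_1 D30474 (iv D25634) (iv F114808)
theorem F141780 : act 4 n30474 = n25886 := d34_1 D30474 (iv D25886) (iv F114809)
theorem F141781 : act 5 n30474 = n30474 := d38_1 D30474 (iv D30474) F114810
theorem F141782 : act 8 n30474 = n25549 := d44_1 D30474 (iv D25549) (iv D20160) (iv F91241) D25539
def n30475 : Q := act 6 n25540
theorem D30475 : act 6 n25540 = n30475 := rfl
theorem F141783 : act 0 n30475 = n25541 := d5_1 D30475 (iv D25541) D25540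
theorem F141784 : act 3 n30475 = n25635 := d26_1 D30475 (iv D25635) (iv F114811)
theorem F141785 : act 8 n30475 = n25560 := d40_2 (iv F114812) D30475 (iv D25560)
def n30476 : Q := act 5 n25541
theorem D30476 : act 5 n25541 = n30476 := rfl
theorem F141786 : act 1 n30476 = n25542 := d12_1 D30476 (iv D25542) (iv F114813)
theorem F141787 : act 3 n30476 = n25636 := d25_1 D30476 (iv D25636) (iv F114814)
def n30477 : Q := act 7 n25541
theorem D30477 : act 7 n25541 = n30477 := rfl
theorem F141788 : act 1 n30477 = n25543 := d14_1 D30477 (iv D25543) (iv F114813)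
theorem F141789 : act 3 n30477 = n25637 := d27_1 D30477 (iv D25637) (iv F114814)
theorem F141790 : act 8 n30477 = n25562 := d42_2 (iv F114815) D30477 (iv D25562)
def n30478 : Q := act 4 n25542
theorem D30478 : act 4 n25542 = n30478 := rfl
theorem F141791 : act 2 n30478 = n25544 := d18_1 D30478 (iv D25544) (iv F114816)
def n30479 : Q := act 7 n25542
theorem D30479 : act 7 n25542 = n30479 := rfl
theorem F141792 : act 2 n30479 = n25545 := d21_1 D30479 (iv D25545) (iv F114816)
theorem F141793 : act 3 n30479 = n25639 := d27_1 D30479 (iv D25639) (iv F114817)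
theorem F141794 : act 5 n30479 = n25543 := d36_1 D30479 (iv D25543) D25542
def n30480 : Q := act 8 n25542
theorem D30480 : act 8 n25542 = n30480 := rfl
theorem F141795 : act 2 n30480 = n25546 := d22_1 D30480 (iv D25546) (iv F114816)
theorem F141796 : act 3 n30480 = n25640 := d28_1 D30480 (iv D25640) (iv F114817)
theorem F141797 : act 5 n30480 = n25565 := d37_1 D30480 (iv D25565) (iv D20169) (iv F91250) D25542
def n30481 : Q := act 7 n25544
theorem D30481 : act 7 n25544 = n30481 := rfl
theorem F141798 : act 3 n30481 = n25893 := d27_1 D30481 (iv D25893) (iv F114821)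
theorem F141799 : act 4 n30481 = n25545 := d32_1 D30481 (iv D25545) D25544
def n30482 : Q := act 8 n25544
theorem D30482 : act 8 n25544 = n30482 := rfl
theorem F141800 : act 3 n30482 = n25894 := d28_1 D30482 (iv D25894) (iv F114821)
theorem F141801 : act 4 n30482 = n25546 := d33_1 D30482 (iv D25546) D25544
def n30483 : Q := act 6 n25545
theorem D30483 : act 6 n25545 = n30483 := rfl
theorem F141802 : act 3 n30483 = n25547 := d26_1 D30483 (iv D25547) (iv F114822)
def n30484 : Q := act 8 n25545
theorem D30484 : act 8 n25545 = n30484 := rfl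
theorem F141803 : act 3 n30484 = n25548 := d28_1 D30484 (iv D25548) (iv F114822)
theorem F141804 : act 5 n30484 = n25569 := d37_1 D30484 (iv D25569) F91297 (iv F91253) (iv F114823)
theorem F141805 : act 7 n30484 = n25546 := d42_1 D30484 (iv D25546) D25545
def n30485 : Q := act 9 n25546
theorem D30485 : act 9 n25546 = n30485 := rfl
theorem F141806 : act 3 n30485 = n25549 := d29_1 D30485 (iv D25549) (iv F114824)
theorem F141807 : act 5 n30485 = n25570 := d38_1 D30485 (iv D25570) (iv F114825)
def n30486 : Q := act 8 n25547
theorem D30486 : act 8 n25547 = n30486 := rfl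
theorem F141808 : act 2 n30486 = n25646 := d22_1 D30486 (iv D25646) (iv F114826)
theorem F141809 : act 4 n30486 = n25898 := d33_1 D30486 (iv D25898) (iv F114827)
theorem F141810 : act 6 n30486 = n25548 := d40_1 D30486 (iv D25548) D25547
def n30487 : Q := act 9 n25548
theorem D30487 : act 9 n25548 = n30487 := rfl
theorem F141811 : act 2 n30487 = n25647 := d23_1 D30487 (iv D25647) (iv F114828)
theorem F141812 : act 4 n30487 = n25899 := d34_1 D30487 (iv D25899) (iv F114829)
theorem F141813 : act 5 n30487 = n25572 := d38_1 D30487 (iv D25572) (iv F114830)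
theorem F141814 : act 7 n30487 = n25549 := d43_1 D30487 (iv D25549) (iv F114831)
def n30488 : Q := act 7 n25551
theorem D30488 : act 7 n25551 = n30488 := rfl
theorem F141815 : act 1 n30488 = n25553 := d14_1 D30488 (iv D25553) (iv F114839)
theorem F141816 : act 3 n30488 = n25650 := d27_1 D30488 (iv D25650) (iv F114840)
theorem F141817 : act 6 n30488 = n25562 := d39_1 D30488 (iv D25562) (iv D20168) (iv F91262) D25551
theorem F141818 : act 9 n30488 = n30488 := d43_2 F114841 D30488 (iv D30488)
def n30489 : Q := act 7 n25552
theorem D30489 : act 7 n25552 = n30489 := rfl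
theorem F141819 : act 2 n30489 = n25555 := d21_1 D30489 (iv D25555) (iv F114842)
theorem F141820 : act 3 n30489 = n25652 := d27_1 D30489 (iv D25652) (iv F114843)
theorem F141821 : act 5 n30489 = n25553 := d36_1 D30489 (iv D25553) D25552
theorem F141822 : act 9 n30489 = n30489 := d43_2 F114845 D30489 (iv D30489)
def n30490 : Q := act 8 n25552
theorem D30490 : act 8 n25552 = n30490 := rfl
theorem F141823 : act 1 n30490 = n26095 := d15_1 D30490 (iv F141426) F141422
theorem F141824 : act 2 n30490 = n25556 := d22_1 D30490 (iv D25556) (iv F114842)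
theorem F141825 : act 3 n30490 = n25653 := d28_1 D30490 (iv D25653) (iv F114843)
theorem F141826 : act 6 n30490 = n30490 := d40_1 D30490 (iv D30490) F114844
theorem F141827 : act 9 n26104 = n30490 := d29_0 F141825 (iv F115227) D26104
def n30491 : Q := act 7 n25554
theorem D30491 : act 7 n25554 = n30491 := rfl
theorem F141828 : act 3 n30491 = n30491 := d27_1 D30491 (iv D30491) F114850
theorem F141829 : act 4 n30491 = n25555 := d32_1 D30491 (iv D25555) D25554
theorem F141830 : act 9 n30491 = n30491 := d43_2 F114852 D30491 (iv D30491)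
def n30492 : Q := act 8 n25554
theorem D30492 : act 8 n25554 = n30492 := rfl
theorem F141831 : act 3 n30492 = n30492 := d28_1 D30492 (iv D30492) F114850
theorem F141832 : act 4 n30492 = n25556 := d33_1 D30492 (iv D25556) D25554
theorem F141833 : act 6 n30492 = n30492 := d40_1 D30492 (iv D30492) F114851
def n30493 : Q := act 6 n25555
theorem D30493 : act 6 n25555 = n30493 := rfl
theorem F141834 : act 3 n30493 = n25557 := d26_1 D30493 (iv D25557) (iv F114853)
theorem F141835 : act 5 n30493 = n25568 := d35_1 D30493 (iv D25568) F91297 (iv F91271) (iv F114854)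
theorem F141836 : act 7 n30493 = n30493 := d39_2 D25555 D30493 (iv D30493) (iv D25555) F91268
theorem F141837 : act 9 n30493 = n30493 := d41_2 F114855 D30493 (iv D30493)
def n30494 : Q := act 8 n25555
theorem D30494 : act 8 n25555 = n30494 := rfl
theorem F141838 : act 3 n30494 = n25558 := d28_1 D30494 (iv D25558) (iv F114853)
theorem F141839 : act 7 n30494 = n25556 := d42_1 D30494 (iv D25556) D25555
def n30495 : Q := act 9 n25556
theorem D30495 : act 9 n25556 = n30495 := rfl
theorem F141840 : act 2 n30495 = n26104 := d23_1 D30495 F141827 F141824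
theorem F141841 : act 3 n30495 = n25559 := d29_1 D30495 (iv D25559) (iv F114856)
theorem F141842 : act 6 n30495 = n30495 := d41_1 D30495 (iv D30495) F114857
theorem F141843 : act 8 n30495 = n30495 := d44_1 D30495 (iv D30495) (iv D25556) F91269 D25556
def n30496 : Q := act 8 n25557
theorem D30496 : act 8 n25557 = n30496 := rfl
theorem F141844 : act 2 n30496 = n25657 := d22_1 D30496 (iv D25657) (iv F114858)
theorem F141845 : act 4 n30496 = n30496 := d33_1 D30496 (iv D30496) F114859
theorem F141846 : act 6 n30496 = n25558 := d40_1 D30496 (iv D25558) D25557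
theorem F141847 : act 7 n30496 = n30496 := d42_1 D30496 (iv D30496) F114861
def n30497 : Q := act 9 n25558
theorem D30497 : act 9 n25558 = n30497 := rfl
theorem F141848 : act 2 n30497 = n25658 := d23_1 D30497 (iv D25658) (iv F114863)
theorem F141849 : act 4 n30497 = n30497 := d34_1 D30497 (iv D30497) F114864
theorem F141850 : act 7 n30497 = n25559 := d43_1 D30497 (iv D25559) (iv F114865)
theorem F141851 : act 8 n30497 = n30497 := d44_1 D30497 (iv D30497) (iv D25558) F91276 D25558
def n30498 : Q := act 5 n25560
theorem D30498 : act 5 n25560 = n30498 := rfl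
theorem F141852 : act 0 n30498 = n25561 := d4_1 D30498 (iv D25561) (iv F114870)
theorem F141853 : act 3 n30498 = n25659 := d25_1 D30498 (iv D25659) (iv F114871)
theorem F141854 : act 6 n30498 = n30498 := d35_2 D25560 D30498 (iv D30498) (iv D25560) F91281
theorem F141855 : act 9 n30498 = n30498 := d38_2 F114872 D30498 (iv D30498)
def n30499 : Q := act 7 n25560
theorem D30499 : act 7 n25560 = n30499 := rfl
theorem F141856 : act 0 n30499 = n25562 := d6_1 D30499 (iv D25562) (iv F114870)
theorem F141857 : act 3 n30499 = n25660 := d27_1 D30499 (iv D25660) (iv F114871)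
theorem F141858 : act 9 n30499 = n30499 := d43_2 F114872 D30499 (iv D30499)
def n30500 : Q := act 4 n25561
theorem D30500 : act 4 n25561 = n30500 := rfl
theorem F141859 : act 1 n30500 = n25563 := d11_1 D30500 (iv D25563) (iv F114873)
theorem F141860 : act 3 n30500 = n30500 := d24_1 D30500 (iv D30500) F114874 F91556 (iv F114874)
theorem F141861 : act 6 n30500 = n30500 := d31_2 F114875 D30500 (iv D30500)
theorem F141862 : act 9 n30500 = n30500 := d34_2 F114876 D30500 (iv D30500)
def n30501 : Q := act 7 n25561
theorem D30501 : act 7 n25561 = n30501 := rfl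
theorem F141863 : act 1 n30501 = n25564 := d14_1 D30501 (iv D25564) (iv F114873)
theorem F141864 : act 3 n30501 = n25661 := d27_1 D30501 (iv D25661) (iv F114874)
theorem F141865 : act 5 n30501 = n25562 := d36_1 D30501 (iv D25562) D25561
theorem F141866 : act 9 n30501 = n30501 := d43_2 F114876 D30501 (iv D30501)
def n30502 : Q := act 8 n25561
theorem D30502 : act 8 n25561 = n30502 := rfl
theorem F141867 : act 1 n30502 = n25565 := d15_1 D30502 (iv D25565) (iv F114873)
theorem F141868 : act 3 n30502 = n25662 := d28_1 D30502 (iv D25662) (iv F114874)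
theorem F141869 : act 6 n30502 = n30502 := d40_1 D30502 (iv D30502) F114875
def n30503 : Q := act 7 n25563
theorem D30503 : act 7 n25563 = n30503 := rfl
theorem F141870 : act 2 n30503 = n25566 := d21_1 D30503 (iv D25566) (iv F114880)
theorem F141871 : act 3 n30503 = n30503 := d27_1 D30503 (iv D30503) F114881
theorem F141872 : act 4 n30503 = n25564 := d32_1 D30503 (iv D25564) D25563
theorem F141873 : act 9 n30503 = n30503 := d43_2 F114883 D30503 (iv D30503)
def n30504 : Q := act 8 n25563
theorem D30504 : act 8 n25563 = n30504 := rfl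
theorem F141874 : act 2 n30504 = n25567 := d22_1 D30504 (iv D25567) (iv F114880)
theorem F141875 : act 3 n30504 = n30504 := d28_1 D30504 (iv D30504) F114881
theorem F141876 : act 4 n30504 = n25565 := d33_1 D30504 (iv D25565) D25563
theorem F141877 : act 6 n30504 = n30504 := d40_1 D30504 (iv D30504) F114882
def n30505 : Q := act 6 n25564
theorem D30505 : act 6 n25564 = n30505 := rfl
theorem F141878 : act 2 n30505 = n25568 := d20_1 D30505 (iv D25568) (iv F114884)
theorem F141879 : act 3 n30505 = n25663 := d26_1 D30505 (iv D25663) (iv F114885)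
theorem F141880 : act 7 n30505 = n30505 := d39_2 D25564 D30505 (iv D30505) (iv D25564) F91288
theorem F141881 : act 9 n30505 = n30505 := d41_2 F114887 D30505 (iv D30505)
def n30506 : Q := act 8 n25564
theorem D30506 : act 8 n25564 = n30506 := rfl
theorem F141882 : act 2 n30506 = n25569 := d22_1 D30506 (iv D25569) (iv F114884)
theorem F141883 : act 3 n30506 = n25664 := d28_1 D30506 (iv D25664) (iv F114885)
theorem F141884 : act 7 n30506 = n25565 := d42_1 D30506 (iv D25565) D25564
def n30507 : Q := act 9 n25565
theorem D30507 : act 9 n25565 = n30507 := rfl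
theorem F141885 : act 2 n30507 = n25570 := d23_1 D30507 (iv D25570) (iv F114888)
theorem F141886 : act 3 n30507 = n25665 := d29_1 D30507 (iv D25665) (iv F114889)
theorem F141887 : act 6 n30507 = n30507 := d41_1 D30507 (iv D30507) F114890
theorem F141888 : act 8 n30507 = n30507 := d44_1 D30507 (iv D30507) (iv D25565) F91289 D25565
def n30508 : Q := act 6 n25566
theorem D30508 : act 6 n25566 = n30508 := rfl
theorem F141889 : act 3 n30508 = n25573 := d26_1 D30508 (iv D25573) (iv F114891)
theorem F141890 : act 4 n30508 = n25568 := d31_1 D30508 (iv D25568) (iv F114892)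
theorem F141891 : act 7 n30508 = n30508 := d39_2 D25566 D30508 (iv D30508) (iv D25566) F91294
theorem F141892 : act 9 n30508 = n30508 := d41_2 F114893 D30508 (iv D30508)
def n30509 : Q := act 8 n25566
theorem D30509 : act 8 n25566 = n30509 := rfl
theorem F141893 : act 3 n30509 = n25574 := d28_1 D30509 (iv D25574) (iv F114891)
theorem F141894 : act 4 n30509 = n25569 := d33_1 D30509 (iv D25569) (iv F114892)
theorem F141895 : act 7 n30509 = n25567 := d42_1 D30509 (iv D25567) D25566
def n30510 : Q := act 5 n25567
theorem D30510 : act 5 n25567 = n30510 := rfl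
theorem F141896 : act 3 n30510 = n25575 := d25_1 D30510 (iv D25575) (iv F114894)
def n30511 : Q := act 8 n25568
theorem D30511 : act 8 n25568 = n30511 := rfl
theorem F141897 : act 3 n30511 = n25571 := d28_1 D30511 (iv D25571) (iv F114897)
theorem F141898 : act 6 n30511 = n25569 := d40_1 D30511 (iv D25569) D25568
theorem F141899 : act 7 n30511 = n30511 := d42_1 D30511 (iv D30511) F114898
def n30512 : Q := act 9 n25569
theorem D30512 : act 9 n25569 = n30512 := rfl
theorem F141900 : act 3 n30512 = n25572 := d29_1 D30512 (iv D25572) (iv F114900)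
theorem F141901 : act 7 n30512 = n25570 := d43_1 D30512 (iv D25570) (iv F114901)
theorem F141902 : act 8 n30512 = n30512 := d44_1 D30512 (iv D30512) (iv D25569) F91298 D25569
def n30513 : Q := act 5 n25571
theorem D30513 : act 5 n25571 = n30513 := rfl
theorem F141903 : act 2 n30513 = n25668 := d19_1 D30513 (iv D25668) (iv F114905)
theorem F141904 : act 7 n30513 = n30513 := d36_2 F114908 D30513 (iv D30513)
def n30514 : Q := act 9 n25571
theorem D30514 : act 9 n25571 = n30514 := rfl
theorem F141905 : act 2 n30514 = n25669 := d23_1 D30514 (iv D25669) (iv F114905)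
theorem F141906 : act 4 n30514 = n25580 := d34_1 D30514 (iv D25580) (iv F114906)
theorem F141907 : act 6 n30514 = n25572 := d41_1 D30514 (iv D25572) (iv F114907)
theorem F141908 : act 7 n30514 = n30514 := d43_1 D30514 (iv D30514) F114908
theorem F141909 : act 8 n30514 = n30514 := d44_1 D30514 (iv D30514) (iv D25571) F91304 D25571
def n30515 : Q := act 5 n25573
theorem D30515 : act 5 n25573 = n30515 := rfl
theorem F141910 : act 2 n30515 = n30515 := d19_1 D30515 (iv D30515) F114913
theorem F141911 : act 4 n30515 = n30515 := d30_1 D30515 (iv D30515) F114914 F91320 (iv F114914)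
theorem F141912 : act 7 n30515 = n30515 := d36_2 F114915 D30515 (iv D30515)
theorem F141913 : act 9 n30515 = n30515 := d38_2 F114916 D30515 (iv D30515)
def n30516 : Q := act 8 n25573
theorem D30516 : act 8 n25573 = n30516 := rfl
theorem F141914 : act 2 n30516 = n30516 := d22_1 D30516 (iv D30516) F114913
theorem F141915 : act 4 n30516 = n25577 := d33_1 D30516 (iv D25577) (iv F114914)
theorem F141916 : act 6 n30516 = n25574 := d40_1 D30516 (iv D25574) D25573
theorem F141917 : act 7 n30516 = n30516 := d42_1 D30516 (iv D30516) F114915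
def n30517 : Q := act 5 n25574
theorem D30517 : act 5 n25574 = n30517 := rfl
theorem F141918 : act 2 n30517 = n30517 := d19_1 D30517 (iv D30517) F114917
theorem F141919 : act 4 n30517 = n25933 := d30_1 D30517 (iv D25933) F92256 (iv F91325) (iv F114918)
theorem F141920 : act 7 n30517 = n25575 := d36_2 (iv F114919) D30517 (iv D25575)
def n30518 : Q := act 6 n25575
theorem D30518 : act 6 n25575 = n30518 := rfl
theorem F141921 : act 2 n30518 = n30518 := d20_1 D30518 (iv D30518) F114920
theorem F141922 : act 4 n30518 = n25935 := d31_1 D30518 (iv D25935) (iv F114921)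
theorem F141923 : act 5 n30518 = n30518 := d35_1 D30518 (iv D30518) (iv D25575) F91317 D25575
def n30519 : Q := act 4 n25579
theorem D30519 : act 4 n25579 = n30519 := rfl
theorem F141924 : act 1 n30519 = n26108 := d11_1 D30519 F116830 (iv F134804)
theorem F141925 : act 2 n30519 = n25670 := d18_1 D30519 (iv D25670) (iv F114935)
theorem F141926 : act 6 n30519 = n25939 := d31_2 (iv F114936) D30519 (iv D25939)
theorem F141927 : act 7 n30519 = n30519 := d32_2 F114937 D30519 (iv D30519)
theorem F141928 : act 8 n30519 = n30519 := d33_2 F114938 D30519 (iv D30519)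
def n30520 : Q := act 9 n25579
theorem D30520 : act 9 n25579 = n30520 := rfl
theorem F141929 : act 1 n30520 = n26097 := d16_1 D30520 F116788 (iv F134804)
theorem F141930 : act 2 n30520 = n25671 := d23_1 D30520 (iv D25671) (iv F114935)
theorem F141931 : act 5 n30520 = n25580 := d38_1 D30520 (iv D25580) D25579
theorem F141932 : act 6 n30520 = n25940 := d41_1 D30520 (iv D25940) (iv F114936)
theorem F141933 : act 7 n30520 = n30520 := d43_1 D30520 (iv D30520) F114937
def n30521 : Q := act 0 n25581
theorem D30521 : act 0 n25581 = n30521 := rfl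
theorem F141934 : act 2 n30521 = n27204 := d1_2 (iv F114943) D30521 (iv D27204)
theorem F141935 : act 4 n30521 = n30521 := d3_2 F114944 D30521 (iv D30521)
theorem F141936 : act 5 n30521 = n25615 := d4_2 (iv F114945) D30521 (iv D25615)
theorem F141937 : act 7 n30521 = n25593 := d6_2 (iv F114946) D30521 (iv D25593)
theorem F141938 : act 8 n30521 = n30521 := d7_2 F114947 D30521 (iv D30521)
theorem F141939 : act 9 n30521 = n27137 := d8_2 (iv F114948) D30521 (iv D27137)
def n30522 : Q := act 6 n25581
theorem D30522 : act 6 n25581 = n30522 := rfl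
theorem F141940 : act 1 n30522 = n25582 := d13_1 D30522 (iv D25582) D25581
theorem F141941 : act 2 n30522 = n27205 := d20_1 D30522 (iv D27205) (iv F114943)
theorem F141942 : act 4 n30522 = n30522 := d31_1 D30522 (iv D30522) F114944
theorem F141943 : act 8 n30522 = n30522 := d40_2 F114947 D30522 (iv D30522)
theorem F141944 : act 9 n30522 = n27138 := d41_2 (iv F114948) D30522 (iv D27138)
def n30523 : Q := act 5 n25582
theorem D30523 : act 5 n25582 = n30523 := rfl
theorem F141945 : act 2 n30523 = n25583 := d19_1 D30523 (iv D25583) (iv F114949)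
theorem F141946 : act 6 n30523 = n25617 := d35_2 D25582 D30523 (iv D25617) (iv D20207) (iv F91340)
theorem F141947 : act 9 n30523 = n27139 := d38_2 (iv F114952) D30523 (iv D27139)
def n30524 : Q := act 7 n25582
theorem D30524 : act 7 n25582 = n30524 := rfl
theorem F141948 : act 2 n30524 = n25584 := d21_1 D30524 (iv D25584) (iv F114949)
theorem F141949 : act 4 n30524 = n30524 := d32_1 D30524 (iv D30524) F114950
theorem F141950 : act 6 n30524 = n25596 := d39_1 D30524 (iv D25596) (iv D20193) (iv F91341) D25582
theorem F141951 : act 8 n30524 = n30524 := d42_2 F114951 D30524 (iv D30524)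
theorem F141952 : act 9 n30524 = n27140 := d43_2 (iv F114952) D30524 (iv D27140)
def n30525 : Q := act 4 n25583
theorem D30525 : act 4 n25583 = n30525 := rfl
theorem F141953 : act 1 n30525 = n27208 := d11_1 D30525 (iv D27208) (iv F114953)
theorem F141954 : act 3 n30525 = n25989 := d24_1 D30525 F116418 F135172 (iv F91350) (iv F114954)
theorem F141955 : act 5 n30525 = n30525 := d30_2 D25583 D30525 (iv D30525) (iv D25583) F91346
theorem F141956 : act 6 n30525 = n25619 := d31_2 (iv F114955) D30525 (iv D25619)
theorem F141957 : act 9 n30525 = n25986 := d34_2 (iv F114956) D30525 F135414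
theorem F141958 : act 8 n26754 = n30525 := d44_5 F141957 (iv D25986) (iv F105466) F135030 D26754
def n30526 : Q := act 7 n25583
theorem D30526 : act 7 n25583 = n30526 := rfl
theorem F141959 : act 1 n30526 = n27209 := d14_1 D30526 (iv D27209) (iv F114953)
theorem F141960 : act 3 n30526 = n25585 := d27_1 D30526 (iv D25585) (iv F114954)
theorem F141961 : act 5 n30526 = n25584 := d36_1 D30526 (iv D25584) D25583
theorem F141962 : act 9 n30526 = n27142 := d43_2 (iv F114956) D30526 (iv D27142)
def n30527 : Q := act 8 n25583
theorem D30527 : act 8 n25583 = n30527 := rfl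
theorem F141963 : act 1 n30527 = n27210 := d15_1 D30527 (iv D27210) (iv F114953)
theorem F141964 : act 3 n30527 = n25586 := d28_1 D30527 (iv D25586) (iv F114954)
theorem F141965 : act 4 n30527 = n26754 := d33_1 D30527 F141958 (iv D30525)
theorem F141966 : act 5 n30527 = n30527 := d37_1 D30527 (iv D30527) (iv D25583) F91347 D25583
theorem F141967 : act 6 n30527 = n25621 := d40_1 D30527 (iv D25621) (iv F114955)
theorem F141968 : act 9 n30527 = n26753 := d44_2 (iv F114956) D30527 (iv F135939) F135940 F135429
def n30528 : Q := act 6 n25585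
theorem D30528 : act 6 n25585 = n30528 := rfl
theorem F141969 : act 1 n30528 = n27211 := d13_1 D30528 (iv D27211) (iv F114963)
theorem F141970 : act 4 n30528 = n27461 := d31_1 D30528 (iv D27461) (iv F114964)
theorem F141971 : act 5 n30528 = n25600 := d35_1 D30528 (iv D25600) F91393 (iv F91355) (iv F114965)
theorem F141972 : act 7 n30528 = n25622 := d39_2 D25585 D30528 (iv D25622) (iv D20210) (iv F91351)
theorem F141973 : act 9 n30528 = n27144 := d41_2 (iv F114966) D30528 (iv D27144)
def n30529 : Q := act 8 n25585
theorem D30529 : act 8 n25585 = n30529 := rfl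
theorem F141974 : act 1 n30529 = n27212 := d15_1 D30529 (iv D27212) (iv F114963)
theorem F141975 : act 4 n30529 = n27462 := d33_1 D30529 (iv D27462) (iv F114964)
theorem F141976 : act 5 n30529 = n30529 := d37_1 D30529 (iv D30529) F114965 F91356 (iv F114965)
theorem F141977 : act 7 n30529 = n25586 := d42_1 D30529 (iv D25586) D25585
def n30530 : Q := act 0 n25587
theorem D30530 : act 0 n25587 = n30530 := rfl
theorem F141978 : act 2 n30530 = n27194 := d1_2 (iv F114971) D30530 (iv D27194)
theorem F141979 : act 4 n30530 = n30530 := d3_2 F114972 D30530 (iv D30530)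
theorem F141980 : act 5 n30530 = n25625 := d4_2 (iv F114973) D30530 (iv D25625)
theorem F141981 : act 7 n30530 = n27137 := d6_2 (iv F114974) D30530 (iv D27137)
theorem F141982 : act 8 n30530 = n27147 := d7_2 (iv F114975) D30530 (iv D27147)
theorem F141983 : act 9 n30530 = n25593 := d8_2 (iv F114976) D30530 (iv D25593)
def n30531 : Q := act 6 n25587
theorem D30531 : act 6 n25587 = n30531 := rfl
theorem F141984 : act 1 n30531 = n25588 := d13_1 D30531 (iv D25588) D25587
theorem F141985 : act 2 n30531 = n27195 := d20_1 D30531 (iv D27195) (iv F114971)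
theorem F141986 : act 4 n30531 = n30531 := d31_1 D30531 (iv D30531) F114972
theorem F141987 : act 8 n30531 = n27148 := d40_2 (iv F114975) D30531 (iv D27148)
theorem F141988 : act 9 n30531 = n25594 := d41_2 (iv F114976) D30531 (iv D25594)
def n30532 : Q := act 5 n25588
theorem D30532 : act 5 n25588 = n30532 := rfl
theorem F141989 : act 2 n30532 = n25589 := d19_1 D30532 (iv D25589) (iv F114977)
theorem F141990 : act 6 n30532 = n25627 := d35_2 D25588 D30532 (iv D25627) (iv D20213) (iv F91359)
theorem F141991 : act 9 n30532 = n25595 := d38_2 (iv F114980) D30532 (iv D25595)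
def n30533 : Q := act 7 n25588
theorem D30533 : act 7 n25588 = n30533 := rfl
theorem F141992 : act 2 n30533 = n25590 := d21_1 D30533 (iv D25590) (iv F114977)
theorem F141993 : act 4 n30533 = n30533 := d32_1 D30533 (iv D30533) F114978
theorem F141994 : act 6 n30533 = n27140 := d39_1 D30533 (iv D27140) (iv D21437) (iv F91360) D25588
theorem F141995 : act 8 n30533 = n27150 := d42_2 (iv F114979) D30533 (iv D27150)
theorem F141996 : act 9 n30533 = n25596 := d43_2 (iv F114980) D30533 (iv D25596)
def n30534 : Q := act 4 n25589
theorem D30534 : act 4 n25589 = n30534 := rfl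
theorem F141997 : act 1 n30534 = n27198 := d11_1 D30534 (iv D27198) (iv F114981)
theorem F141998 : act 3 n30534 = n25961 := d24_1 D30534 (iv D25961) F92328 (iv F91369) (iv F114982)
theorem F141999 : act 5 n30534 = n30534 := d30_2 D25589 D30534 (iv D30534) (iv D25589) F91365
theorem F142000 : act 6 n30534 = n25629 := d31_2 (iv F114983) D30534 (iv D25629)
theorem F142001 : act 9 n30534 = n25597 := d34_2 (iv F114984) D30534 (iv D25597)
theorem F142002 : act 8 n27295 = n30534 := d15_0 F141997 (iv F121242) (iv F121750)
def n30535 : Q := act 7 n25589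
theorem D30535 : act 7 n25589 = n30535 := rfl
theorem F142003 : act 1 n30535 = n27199 := d14_1 D30535 (iv D27199) (iv F114981)
theorem F142004 : act 3 n30535 = n25591 := d27_1 D30535 (iv D25591) (iv F114982)
theorem F142005 : act 5 n30535 = n25590 := d36_1 D30535 (iv D25590) D25589
theorem F142006 : act 9 n30535 = n25598 := d43_2 (iv F114984) D30535 (iv D25598)
def n30536 : Q := act 8 n25589
theorem D30536 : act 8 n25589 = n30536 := rfl
theorem F142007 : act 1 n30536 = n27200 := d15_1 D30536 (iv D27200) (iv F114981)
theorem F142008 : act 3 n30536 = n25592 := d28_1 D30536 (iv D25592) (iv F114982)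
theorem F142009 : act 4 n30536 = n27295 := d33_1 D30536 F142002 (iv D30534)
theorem F142010 : act 5 n30536 = n27153 := d37_1 D30536 (iv D27153) (iv D21444) (iv F91366) D25589
theorem F142011 : act 6 n30536 = n25631 := d40_1 D30536 (iv D25631) (iv F114983)
theorem F142012 : act 9 n27305 = n30536 := d38_0 F142010 (iv F121027) (iv F121787)
def n30537 : Q := act 6 n25591
theorem D30537 : act 6 n25591 = n30537 := rfl
theorem F142013 : act 1 n30537 = n27201 := d13_1 D30537 (iv D27201) (iv F114991)
theorem F142014 : act 4 n30537 = n25964 := d31_1 D30537 (iv D25964) (iv F114992)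
theorem F142015 : act 5 n30537 = n27144 := d35_1 D30537 (iv D27144) F96131 (iv F91374) (iv F114993)
theorem F142016 : act 7 n30537 = n25632 := d39_2 D25591 D30537 (iv D25632) (iv D20216) (iv F91370)
theorem F142017 : act 9 n30537 = n25600 := d41_2 (iv F114994) D30537 (iv D25600)
def n30538 : Q := act 8 n25591
theorem D30538 : act 8 n25591 = n30538 := rfl
theorem F142018 : act 1 n30538 = n27202 := d15_1 D30538 (iv D27202) (iv F114991)
theorem F142019 : act 4 n30538 = n25965 := d33_1 D30538 (iv D25965) (iv F114992)
theorem F142020 : act 5 n30538 = n27155 := d37_1 D30538 (iv D27155) F96154 (iv F91375) (iv F114993)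
theorem F142021 : act 7 n30538 = n25592 := d42_1 D30538 (iv D25592) D25591
def n30539 : Q := act 9 n25592
theorem D30539 : act 9 n25592 = n30539 := rfl
theorem F142022 : act 1 n30539 = n27203 := d16_1 D30539 (iv D27203) (iv F114995)
theorem F142023 : act 3 n30539 = n27305 := d29_1 D30539 F142012 F142008
theorem F142024 : act 4 n30539 = n25966 := d34_1 D30539 (iv D25966) (iv F114996)
theorem F142025 : act 5 n30539 = n27156 := d38_1 D30539 (iv D27156) (iv F114997)
theorem F142026 : act 6 n30539 = n25634 := d41_1 D30539 (iv D25634) (iv F114998)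
theorem F142027 : act 8 n30539 = n25602 := d44_1 D30539 (iv D25602) (iv D20197) (iv F91371) D25592
def n30540 : Q := act 6 n25593
theorem D30540 : act 6 n25593 = n30540 := rfl
theorem F142028 : act 0 n30540 = n25594 := d5_1 D30540 (iv D25594) D25593
theorem F142029 : act 2 n30540 = n27263 := d20_1 D30540 (iv D27263) (iv F114999)
theorem F142030 : act 4 n30540 = n30540 := d31_1 D30540 (iv D30540) F115000
theorem F142031 : act 8 n30540 = n30540 := d40_2 F115002 D30540 (iv D30540)
def n30541 : Q := act 5 n25594
theorem D30541 : act 5 n25594 = n30541 := rfl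
theorem F142032 : act 1 n30541 = n25595 := d12_1 D30541 (iv D25595) (iv F115003)
theorem F142033 : act 2 n30541 = n27264 := d19_1 D30541 (iv D27264) (iv F115004)
theorem F142034 : act 6 n30541 = n25636 := d35_2 D25594 D30541 (iv D25636) (iv D20219) (iv F91379)
def n30542 : Q := act 7 n25594
theorem D30542 : act 7 n25594 = n30542 := rfl
theorem F142035 : act 1 n30542 = n25596 := d14_1 D30542 (iv D25596) (iv F115003)
theorem F142036 : act 2 n30542 = n27265 := d21_1 D30542 (iv D27265) (iv F115004)
theorem F142037 : act 4 n30542 = n30542 := d32_1 D30542 (iv D30542) F115005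
theorem F142038 : act 8 n30542 = n30542 := d42_2 F115006 D30542 (iv D30542)
def n30543 : Q := act 4 n25595
theorem D30543 : act 4 n25595 = n30543 := rfl
theorem F142039 : act 2 n30543 = n25597 := d18_1 D30543 (iv D25597) (iv F115007)
theorem F142040 : act 5 n30543 = n30543 := d30_2 D25595 D30543 (iv D30543) (iv D25595) F91382
theorem F142041 : act 6 n30543 = n25638 := d31_2 (iv F115008) D30543 (iv D25638)
def n30544 : Q := act 7 n25595
theorem D30544 : act 7 n25595 = n30544 := rfl
theorem F142042 : act 2 n30544 = n25598 := d21_1 D30544 (iv D25598) (iv F115007)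
theorem F142043 : act 5 n30544 = n25596 := d36_1 D30544 (iv D25596) D25595
def n30545 : Q := act 8 n25595
theorem D30545 : act 8 n25595 = n30545 := rfl
theorem F142044 : act 2 n30545 = n25599 := d22_1 D30545 (iv D25599) (iv F115007)
theorem F142045 : act 5 n30545 = n30545 := d37_1 D30545 (iv D30545) (iv D25595) F91383 D25595
theorem F142046 : act 6 n30545 = n25640 := d40_1 D30545 (iv D25640) (iv F115008)
def n30546 : Q := act 7 n25597
theorem D30546 : act 7 n25597 = n30546 := rfl
theorem F142047 : act 1 n30546 = n27269 := d14_1 D30546 (iv D27269) (iv F115012)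
theorem F142048 : act 3 n30546 = n25973 := d27_1 D30546 (iv D25973) (iv F115013)
theorem F142049 : act 4 n30546 = n25598 := d32_1 D30546 (iv D25598) D25597
theorem F142050 : act 5 n30546 = n30546 := d36_1 D30546 (iv D30546) F115014
def n30547 : Q := act 8 n25597
theorem D30547 : act 8 n25597 = n30547 := rfl
theorem F142051 : act 1 n30547 = n27270 := d15_1 D30547 (iv D27270) (iv F115012)
theorem F142052 : act 3 n30547 = n25974 := d28_1 D30547 (iv D25974) (iv F115013)
theorem F142053 : act 4 n30547 = n25599 := d33_1 D30547 (iv D25599) D25597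
theorem F142054 : act 6 n30547 = n25642 := d40_1 D30547 (iv D25642) (iv F115015)
theorem F142055 : act 9 n30547 = n27307 := d44_2 F142001 D30547 (iv D27307) (iv F121751) F142002
theorem F142056 : act 5 n27327 = n30547 := d38_3 F142055 F121791 D27327
def n30548 : Q := act 6 n25598
theorem D30548 : act 6 n25598 = n30548 := rfl
theorem F142057 : act 1 n30548 = n27271 := d13_1 D30548 (iv D27271) (iv F115016)
theorem F142058 : act 3 n30548 = n25600 := d26_1 D30548 (iv D25600) (iv F115017)
theorem F142059 : act 7 n30548 = n25643 := d39_2 D25598 D30548 (iv D25643) (iv D20223) (iv F91386)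
def n30549 : Q := act 8 n25598
theorem D30549 : act 8 n25598 = n30549 := rfl
theorem F142060 : act 1 n30549 = n27272 := d15_1 D30549 (iv D27272) (iv F115016)
theorem F142061 : act 3 n30549 = n25601 := d28_1 D30549 (iv D25601) (iv F115017)
theorem F142062 : act 5 n30549 = n30549 := d37_1 D30549 (iv D30549) F115018 F91390 (iv F115018)
theorem F142063 : act 7 n30549 = n25599 := d42_1 D30549 (iv D25599) D25598
def n30550 : Q := act 9 n25599
theorem D30550 : act 9 n25599 = n30550 := rfl
theorem F142064 : act 1 n30550 = n27273 := d16_1 D30550 (iv D27273) (iv F115019)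
theorem F142065 : act 3 n30550 = n25602 := d29_1 D30550 (iv D25602) (iv F115020)
theorem F142066 : act 4 n30550 = n27307 := d34_1 D30550 (iv F142055) F142053
theorem F142067 : act 5 n30550 = n30550 := d38_1 D30550 (iv D30550) F115021
theorem F142068 : act 6 n30550 = n25645 := d41_1 D30550 (iv D25645) (iv F115022)
theorem F142069 : act 8 n30550 = n27305 := d44_1 D30550 F142012 (iv D30536) F114984 D25599
def n30551 : Q := act 8 n25600
theorem D30551 : act 8 n25600 = n30551 := rfl
theorem F142070 : act 1 n30551 = n27274 := d15_1 D30551 (iv D27274) (iv F115023)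
theorem F142071 : act 4 n30551 = n25978 := d33_1 D30551 (iv D25978) (iv F115024)
theorem F142072 : act 6 n30551 = n25601 := d40_1 D30551 (iv D25601) D25600
theorem F142073 : act 7 n30551 = n25646 := d42_1 D30551 (iv D25646) (iv F115025)
def n30552 : Q := act 9 n25601
theorem D30552 : act 9 n25601 = n30552 := rfl
theorem F142074 : act 1 n30552 = n27275 := d16_1 D30552 (iv D27275) (iv F115026)
theorem F142075 : act 4 n30552 = n25979 := d34_1 D30552 (iv D25979) (iv F115027)
theorem F142076 : act 5 n30552 = n30552 := d38_1 D30552 (iv D30552) F115028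
theorem F142077 : act 7 n30552 = n25602 := d43_1 D30552 (iv D25602) (iv F115029)
def n30553 : Q := act 5 n25604
theorem D30553 : act 5 n25604 = n30553 := rfl
theorem F142078 : act 2 n30553 = n25605 := d19_1 D30553 (iv D25605) (iv F115040)
theorem F142079 : act 6 n30553 = n25876 := d35_2 D25604 D30553 F116052 F92206 (iv F135187)
theorem F142080 : act 9 n30553 = n25844 := d38_2 (iv F135438) D30553 F115968
def n30554 : Q := act 7 n25604
theorem D30554 : act 7 n25604 = n30554 := rfl
theorem F142081 : act 2 n30554 = n25606 := d21_1 D30554 (iv D25606) (iv F115040)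
theorem F142082 : act 4 n30554 = n25675 := d32_1 D30554 (iv D25675) (iv F115041)
theorem F142083 : act 6 n30554 = n25983 := d39_1 D30554 (iv D25983) (iv D20473) (iv F91400) D25604
theorem F142084 : act 8 n30554 = n30554 := d42_2 F115042 D30554 (iv D30554)
theorem F142085 : act 9 n30554 = n26552 := d43_2 (iv F135438) D30554 F118601
def n30555 : Q := act 4 n25605
theorem D30555 : act 4 n25605 = n30555 := rfl
theorem F142086 : act 1 n30555 = n27280 := d11_1 D30555 (iv D27280) (iv F115044)
theorem F142087 : act 3 n30555 = n25619 := d24_1 D30555 (iv D25619) F91444 (iv F91409) (iv F115045)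
theorem F142088 : act 5 n30555 = n25676 := d30_2 D25605 D30555 (iv D25676) (iv D20252) (iv F91405)
theorem F142089 : act 6 n30555 = n25989 := d31_2 (iv F135419) D30555 F116418
theorem F142090 : act 8 n30555 = n26789 := d33_2 F136447 D30555 (iv F136444)
theorem F142091 : act 9 n30555 = n25946 := d34_2 (iv F135420) D30555 F116273
def n30556 : Q := act 7 n25605
theorem D30556 : act 7 n25605 = n30556 := rfl
theorem F142092 : act 1 n30556 = n27281 := d14_1 D30556 (iv D27281) (iv F115044)
theorem F142093 : act 3 n30556 = n25607 := d27_1 D30556 (iv D25607) (iv F115045)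
theorem F142094 : act 5 n30556 = n25606 := d36_1 D30556 (iv D25606) D25605
theorem F142095 : act 9 n30556 = n25955 := d43_2 (iv F135420) D30556 F116306
def n30557 : Q := act 6 n25607
theorem D30557 : act 6 n25607 = n30557 := rfl
theorem F142096 : act 1 n30557 = n27283 := d13_1 D30557 (iv D27283) (iv F115054)
theorem F142097 : act 4 n30557 = n25622 := d31_1 D30557 (iv D25622) (iv F115055)
theorem F142098 : act 5 n30557 = n25987 := d35_1 D30557 (iv D25987) F92387 (iv F91414) (iv F115056)
theorem F142099 : act 7 n30557 = n27461 := d39_2 D25607 D30557 (iv D27461) (iv D21701) (iv F91410)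
theorem F142100 : act 9 n30557 = n27441 := d41_2 (iv F115057) D30557 (iv D27441)
def n30558 : Q := act 8 n25607
theorem D30558 : act 8 n25607 = n30558 := rfl
theorem F142101 : act 1 n30558 = n27284 := d15_1 D30558 (iv D27284) (iv F115054)
theorem F142102 : act 4 n30558 = n25623 := d33_1 D30558 (iv D25623) (iv F115055)
theorem F142103 : act 5 n30558 = n30558 := d37_1 D30558 (iv D30558) F115056 F91415 (iv F115056)
theorem F142104 : act 7 n30558 = n25608 := d42_1 D30558 (iv D25608) D25607
def n30559 : Q := act 0 n25609
theorem D30559 : act 0 n25609 = n30559 := rfl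
theorem F142105 : act 2 n30559 = n27184 := d1_2 (iv F115062) D30559 (iv D27184)
theorem F142106 : act 4 n30559 = n25682 := d3_2 (iv F115063) D30559 (iv D25682)
theorem F142107 : act 5 n30559 = n27137 := d4_2 (iv F115064) D30559 (iv D27137)
theorem F142108 : act 7 n30559 = n25625 := d6_2 (iv F115065) D30559 (iv D25625)
theorem F142109 : act 8 n30559 = n30559 := d7_2 F115066 D30559 (iv D30559)
theorem F142110 : act 9 n30559 = n25615 := d8_2 (iv F115067) D30559 (iv D25615)
def n30560 : Q := act 6 n25609
theorem D30560 : act 6 n25609 = n30560 := rfl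
theorem F142111 : act 1 n30560 = n25610 := d13_1 D30560 (iv D25610) D25609
theorem F142112 : act 2 n30560 = n27185 := d20_1 D30560 (iv D27185) (iv F115062)
theorem F142113 : act 4 n30560 = n25683 := d31_1 D30560 (iv D25683) (iv F115063)
theorem F142114 : act 8 n30560 = n30560 := d40_2 F115066 D30560 (iv D30560)
theorem F142115 : act 9 n30560 = n25616 := d41_2 (iv F115067) D30560 (iv D25616)
def n30561 : Q := act 5 n25610
theorem D30561 : act 5 n25610 = n30561 := rfl
theorem F142116 : act 2 n30561 = n25611 := d19_1 D30561 (iv D25611) (iv F115068)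
theorem F142117 : act 6 n30561 = n27139 := d35_2 D25610 D30561 (iv D27139) (iv D21437) (iv F91418)
theorem F142118 : act 9 n30561 = n25617 := d38_2 (iv F115071) D30561 (iv D25617)
def n30562 : Q := act 7 n25610
theorem D30562 : act 7 n25610 = n30562 := rfl
theorem F142119 : act 2 n30562 = n25612 := d21_1 D30562 (iv D25612) (iv F115068)
theorem F142120 : act 4 n30562 = n25685 := d32_1 D30562 (iv D25685) (iv F115069)
theorem F142121 : act 6 n30562 = n25628 := d39_1 D30562 (iv D25628) (iv D20213) (iv F91419) D25610
theorem F142122 : act 8 n30562 = n30562 := d42_2 F115070 D30562 (iv D30562)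
theorem F142123 : act 9 n30562 = n25618 := d43_2 (iv F115071) D30562 (iv D25618)
def n30563 : Q := act 4 n25611
theorem D30563 : act 4 n25611 = n30563 := rfl
theorem F142124 : act 1 n30563 = n27188 := d11_1 D30563 (iv D27188) (iv F115072)
theorem F142125 : act 3 n30563 = n25946 := d24_1 D30563 F116273 F135170 (iv F91428) (iv F115073)
theorem F142126 : act 5 n30563 = n25686 := d30_2 D25611 D30563 (iv D25686) (iv D20258) (iv F91424)
theorem F142127 : act 6 n30563 = n25986 := d31_2 (iv F115074) D30563 F135414
theorem F142128 : act 9 n30563 = n25619 := d34_2 (iv F115075) D30563 (iv D25619)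
theorem F142129 : act 8 n25943 = n30563 := d44_5 F142128 F135514 (iv D21112) (iv F94664) (iv F135057)
def n30564 : Q := act 7 n25611
theorem D30564 : act 7 n25611 = n30564 := rfl
theorem F142130 : act 1 n30564 = n27189 := d14_1 D30564 (iv D27189) (iv F115072)
theorem F142131 : act 3 n30564 = n25613 := d27_1 D30564 (iv D25613) (iv F115073)
theorem F142132 : act 5 n30564 = n25612 := d36_1 D30564 (iv D25612) D25611
theorem F142133 : act 9 n30564 = n25620 := d43_2 (iv F115075) D30564 (iv D25620)
def n30565 : Q := act 8 n25611
theorem D30565 : act 8 n25611 = n30565 := rfl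
theorem F142134 : act 1 n30565 = n27190 := d15_1 D30565 (iv D27190) (iv F115072)
theorem F142135 : act 3 n30565 = n25614 := d28_1 D30565 (iv D25614) (iv F115073)
theorem F142136 : act 4 n30565 = n25943 := d33_1 D30565 F142129 (iv D30563)
theorem F142137 : act 5 n30565 = n30565 := d37_1 D30565 (iv D30565) (iv D25611) F91425 D25611
theorem F142138 : act 6 n30565 = n25984 := d40_1 D30565 F135429 (iv F115074)
theorem F142139 : act 9 n30565 = n26779 := d44_2 (iv F115075) D30565 F119389 (iv F135511) (iv D25621)
def n30566 : Q := act 6 n25613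
theorem D30566 : act 6 n25613 = n30566 := rfl
theorem F142140 : act 1 n30566 = n27191 := d13_1 D30566 (iv D27191) (iv F115082)
theorem F142141 : act 4 n30566 = n27441 := d31_1 D30566 (iv D27441) (iv F115083)
theorem F142142 : act 5 n30566 = n25632 := d35_1 D30566 (iv D25632) F91472 (iv F91433) (iv F115084)
theorem F142143 : act 7 n30566 = n27144 := d39_2 D25613 D30566 (iv D27144) (iv D21440) (iv F91429)
theorem F142144 : act 9 n30566 = n25622 := d41_2 (iv F115085) D30566 (iv D25622)
def n30567 : Q := act 8 n25613
theorem D30567 : act 8 n25613 = n30567 := rfl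
theorem F142145 : act 1 n30567 = n27192 := d15_1 D30567 (iv D27192) (iv F115082)
theorem F142146 : act 4 n30567 = n25952 := d33_1 D30567 F135434 (iv F115083)
theorem F142147 : act 5 n30567 = n30567 := d37_1 D30567 (iv D30567) F115084 F91434 (iv F115084)
theorem F142148 : act 7 n30567 = n25614 := d42_1 D30567 (iv D25614) D25613
def n30568 : Q := act 5 n25616
theorem D30568 : act 5 n25616 = n30568 := rfl
theorem F142149 : act 1 n30568 = n25617 := d12_1 D30568 (iv D25617) (iv F115094)
theorem F142150 : act 2 n30568 = n26010 := d19_1 D30568 F116484 (iv F115095)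
theorem F142151 : act 4 n30568 = n26008 := d30_1 D30568 F116477 (iv F134899) F134900 (iv F115096)
theorem F142152 : act 8 n30568 = n26006 := d37_2 (iv F115097) D30568 F116471 (iv F134912) F134911
def n30569 : Q := act 7 n25616
theorem D30569 : act 7 n25616 = n30569 := rfl
theorem F142153 : act 1 n30569 = n25618 := d14_1 D30569 (iv D25618) (iv F115094)
theorem F142154 : act 2 n30569 = n27287 := d21_1 D30569 (iv D27287) (iv F115095)
theorem F142155 : act 4 n30569 = n25694 := d32_1 D30569 (iv D25694) (iv F115096)
theorem F142156 : act 6 n30569 = n25637 := d39_1 D30569 (iv D25637) (iv D20219) (iv F91438) D25616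
theorem F142157 : act 8 n30569 = n25650 := d42_2 (iv F115097) D30569 (iv D25650)
def n30570 : Q := act 4 n25617
theorem D30570 : act 4 n25617 = n30570 := rfl
theorem F142158 : act 1 n30570 = n26008 := d11_1 D30570 (iv F142151) F142149
theorem F142159 : act 2 n30570 = n25619 := d18_1 D30570 (iv D25619) (iv F115098)
theorem F142160 : act 5 n30570 = n25695 := d30_2 D25617 D30570 (iv D25695) (iv D20264) (iv F91441)
theorem F142161 : act 8 n26004 = n30570 := d37_0 F142160 (iv F115403) (iv D20750) (iv F92426) D26004
def n30571 : Q := act 7 n25617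
theorem D30571 : act 7 n25617 = n30571 := rfl
theorem F142162 : act 2 n30571 = n25620 := d21_1 D30571 (iv D25620) (iv F115098)
theorem F142163 : act 5 n30571 = n25618 := d36_1 D30571 (iv D25618) D25617
def n30572 : Q := act 8 n25617
theorem D30572 : act 8 n25617 = n30572 := rfl
theorem F142164 : act 1 n30572 = n26006 := d15_1 D30572 (iv F142152) F142149
theorem F142165 : act 2 n30572 = n25621 := d22_1 D30572 (iv D25621) (iv F115098)
theorem F142166 : act 4 n30572 = n26004 := d33_1 D30572 F142161 (iv D30570)
theorem F142167 : act 5 n30572 = n25653 := d37_1 D30572 (iv D25653) (iv D20230) (iv F91442) D25617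
theorem F142168 : act 9 n26018 = n30572 := d38_0 F142167 (iv F115227) (iv F116510)
def n30573 : Q := act 7 n25619
theorem D30573 : act 7 n25619 = n30573 := rfl
theorem F142169 : act 1 n30573 = n27289 := d14_1 D30573 (iv D27289) (iv F115103)
theorem F142170 : act 4 n30573 = n25620 := d32_1 D30573 (iv D25620) D25619
theorem F142171 : act 5 n30573 = n25698 := d36_1 D30573 (iv D25698) (iv F115104)
theorem F142172 : act 8 n30573 = n26063 := d42_2 (iv F135514) D30573 F116670
def n30574 : Q := act 6 n25620
theorem D30574 : act 6 n25620 = n30574 := rfl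
theorem F142173 : act 1 n30574 = n27290 := d13_1 D30574 (iv D27290) (iv F115106)
theorem F142174 : act 3 n30574 = n25622 := d26_1 D30574 (iv D25622) (iv F115107)
theorem F142175 : act 5 n30574 = n25643 := d35_1 D30574 (iv D25643) F91493 (iv F91448) (iv F115108)
def n30575 : Q := act 8 n25620
theorem D30575 : act 8 n25620 = n30575 := rfl
theorem F142176 : act 1 n30575 = n27291 := d15_1 D30575 (iv D27291) (iv F115106)
theorem F142177 : act 3 n30575 = n25623 := d28_1 D30575 (iv D25623) (iv F115107)
theorem F142178 : act 4 n30575 = n26063 := d33_1 D30575 (iv F142172) F142170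
theorem F142179 : act 5 n30575 = n25656 := d37_1 D30575 (iv D25656) F91530 (iv F91449) (iv F115108)
theorem F142180 : act 7 n30575 = n25621 := d42_1 D30575 (iv D25621) D25620
theorem F142181 : act 9 n26062 = n30575 := d43_0 F142180 F135511 (iv F116667)
def n30576 : Q := act 8 n25622
theorem D30576 : act 8 n25622 = n30576 := rfl
theorem F142182 : act 1 n30576 = n27292 := d15_1 D30576 (iv D27292) (iv F115114)
theorem F142183 : act 6 n30576 = n25623 := d40_1 D30576 (iv D25623) D25622
def n30577 : Q := act 9 n25623
theorem D30577 : act 9 n25623 = n30577 := rfl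
theorem F142184 : act 1 n30577 = n27293 := d16_1 D30577 (iv D27293) (iv F115116)
theorem F142185 : act 3 n30577 = n26062 := d29_1 D30577 F142181 F142177
theorem F142186 : act 5 n30577 = n25658 := d38_1 D30577 (iv D25658) (iv F115117)
theorem F142187 : act 7 n30577 = n25624 := d43_1 D30577 (iv D25624) (iv F115118)
def n30578 : Q := act 6 n25625
theorem D30578 : act 6 n25625 = n30578 := rfl
theorem F142188 : act 0 n30578 = n25626 := d5_1 D30578 (iv D25626) D25625
theorem F142189 : act 2 n30578 = n27294 := d20_1 D30578 (iv D27294) (iv F115122)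
theorem F142190 : act 4 n30578 = n25703 := d31_1 D30578 (iv D25703) (iv F115123)
theorem F142191 : act 8 n30578 = n30578 := d40_2 F115124 D30578 (iv D30578)
theorem F142192 : act 9 n30578 = n25635 := d41_2 (iv F115125) D30578 (iv D25635)
def n30579 : Q := act 5 n25626
theorem D30579 : act 5 n25626 = n30579 := rfl
theorem F142193 : act 1 n30579 = n25627 := d12_1 D30579 (iv D25627) (iv F115126)
theorem F142194 : act 2 n30579 = n27295 := d19_1 D30579 (iv D27295) (iv F115127)
theorem F142195 : act 9 n30579 = n25636 := d38_2 (iv F115130) D30579 (iv D25636)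
def n30580 : Q := act 7 n25626
theorem D30580 : act 7 n25626 = n30580 := rfl
theorem F142196 : act 1 n30580 = n25628 := d14_1 D30580 (iv D25628) (iv F115126)
theorem F142197 : act 2 n30580 = n27296 := d21_1 D30580 (iv D27296) (iv F115127)
theorem F142198 : act 4 n30580 = n25705 := d32_1 D30580 (iv D25705) (iv F115128)
theorem F142199 : act 8 n30580 = n30580 := d42_2 F115129 D30580 (iv D30580)
theorem F142200 : act 9 n30580 = n25637 := d43_2 (iv F115130) D30580 (iv D25637)
def n30581 : Q := act 4 n25627
theorem D30581 : act 4 n25627 = n30581 := rfl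
theorem F142201 : act 2 n30581 = n25629 := d18_1 D30581 (iv D25629) (iv F115131)
theorem F142202 : act 5 n30581 = n25706 := d30_2 D25627 D30581 (iv D25706) (iv D20274) (iv F91459)
theorem F142203 : act 9 n30581 = n25638 := d34_2 (iv F115132) D30581 (iv D25638)
def n30582 : Q := act 7 n25627
theorem D30582 : act 7 n25627 = n30582 := rfl
theorem F142204 : act 2 n30582 = n25630 := d21_1 D30582 (iv D25630) (iv F115131)
theorem F142205 : act 5 n30582 = n25628 := d36_1 D30582 (iv D25628) D25627
theorem F142206 : act 9 n30582 = n25639 := d43_2 (iv F115132) D30582 (iv D25639)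
def n30583 : Q := act 8 n25627
theorem D30583 : act 8 n25627 = n30583 := rfl
theorem F142207 : act 2 n30583 = n25631 := d22_1 D30583 (iv D25631) (iv F115131)
theorem F142208 : act 5 n30583 = n30583 := d37_1 D30583 (iv D30583) (iv D25627) F91460 D25627
def n30584 : Q := act 7 n25629
theorem D30584 : act 7 n25629 = n30584 := rfl
theorem F142209 : act 1 n30584 = n27298 := d14_1 D30584 (iv D27298) (iv F115137)
theorem F142210 : act 3 n30584 = n26009 := d27_1 D30584 (iv D26009) (iv F115138)
theorem F142211 : act 4 n30584 = n25630 := d32_1 D30584 (iv D25630) D25629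
theorem F142212 : act 5 n30584 = n25709 := d36_1 D30584 (iv D25709) (iv F115139)
theorem F142213 : act 9 n30584 = n25641 := d43_2 (iv F115140) D30584 (iv D25641)
def n30585 : Q := act 8 n25629
theorem D30585 : act 8 n25629 = n30585 := rfl
theorem F142214 : act 1 n30585 = n27196 := d15_1 D30585 F121226 (iv F115137)
theorem F142215 : act 3 n30585 = n26010 := d28_1 D30585 (iv D26010) (iv F115138)
theorem F142216 : act 4 n30585 = n25631 := d33_1 D30585 (iv D25631) D25629
theorem F142217 : act 5 n30585 = n27195 := d37_1 D30585 F121220 F115464 (iv D25710) (iv F115139)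
theorem F142218 : act 6 n30585 = n27295 := d40_1 D30585 F142002 F142000
theorem F142219 : act 9 n27264 = n30585 := d41_0 F142218 F121751 (iv F121595)
def n30586 : Q := act 6 n25630
theorem D30586 : act 6 n25630 = n30586 := rfl
theorem F142220 : act 1 n30586 = n27299 := d13_1 D30586 (iv D27299) (iv F115141)
theorem F142221 : act 3 n30586 = n25632 := d26_1 D30586 (iv D25632) (iv F115142)
theorem F142222 : act 9 n30586 = n25643 := d41_2 (iv F115144) D30586 (iv D25643)
def n30587 : Q := act 8 n25630
theorem D30587 : act 8 n25630 = n30587 := rfl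
theorem F142223 : act 1 n30587 = n27300 := d15_1 D30587 (iv D27300) (iv F115141)
theorem F142224 : act 3 n30587 = n25633 := d28_1 D30587 (iv D25633) (iv F115142)
theorem F142225 : act 5 n30587 = n30587 := d37_1 D30587 (iv D30587) F115143 F91468 (iv F115143)
theorem F142226 : act 7 n30587 = n25631 := d42_1 D30587 (iv D25631) D25630
def n30588 : Q := act 9 n25631
theorem D30588 : act 9 n25631 = n30588 := rfl
theorem F142227 : act 1 n30588 = n27266 := d16_1 D30588 F121604 (iv F115145)
theorem F142228 : act 3 n30588 = n25634 := d29_1 D30588 (iv D25634) (iv F115146)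
theorem F142229 : act 4 n30588 = n27264 := d34_1 D30588 F142219 F142216
theorem F142230 : act 5 n30588 = n30588 := d38_1 D30588 (iv D30588) F115147
theorem F142231 : act 6 n30588 = n27305 := d41_1 D30588 F142012 F142011
theorem F142232 : act 8 n30588 = n25645 := d44_1 D30588 (iv D25645) (iv D20224) (iv F91464) D25631
def n30589 : Q := act 8 n25632
theorem D30589 : act 8 n25632 = n30589 := rfl
theorem F142233 : act 1 n30589 = n27301 := d15_1 D30589 (iv D27301) (iv F115148)
theorem F142234 : act 4 n30589 = n26014 := d33_1 D30589 (iv D26014) (iv F115149)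
theorem F142235 : act 6 n30589 = n25633 := d40_1 D30589 (iv D25633) D25632
def n30590 : Q := act 9 n25633
theorem D30590 : act 9 n25633 = n30590 := rfl
theorem F142236 : act 1 n30590 = n27302 := d16_1 D30590 (iv D27302) (iv F115151)
theorem F142237 : act 4 n30590 = n26015 := d34_1 D30590 (iv D26015) (iv F115152)
theorem F142238 : act 5 n30590 = n30590 := d38_1 D30590 (iv D30590) F115153
theorem F142239 : act 7 n30590 = n25634 := d43_1 D30590 (iv D25634) (iv F115154)
theorem F142240 : act 8 n30590 = n25647 := d44_1 D30590 (iv D25647) (iv D20226) (iv F91473) D25633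
def n30591 : Q := act 5 n25635
theorem D30591 : act 5 n25635 = n30591 := rfl
theorem F142241 : act 0 n30591 = n25636 := d4_1 D30591 (iv D25636) (iv F115159)
theorem F142242 : act 2 n30591 = n27303 := d19_1 D30591 (iv D27303) (iv F115160)
def n30592 : Q := act 7 n25635
theorem D30592 : act 7 n25635 = n30592 := rfl
theorem F142243 : act 0 n30592 = n25637 := d6_1 D30592 (iv D25637) (iv F115159)
theorem F142244 : act 2 n30592 = n27304 := d21_1 D30592 (iv D27304) (iv F115160)
theorem F142245 : act 4 n30592 = n25715 := d32_1 D30592 (iv D25715) (iv F115161)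
theorem F142246 : act 8 n30592 = n25660 := d42_2 (iv F115162) D30592 (iv D25660)
def n30593 : Q := act 4 n25636
theorem D30593 : act 4 n25636 = n30593 := rfl
theorem F142247 : act 1 n30593 = n25638 := d11_1 D30593 (iv D25638) (iv F115163)
theorem F142248 : act 2 n30593 = n27305 := d18_1 D30593 (iv D27305) (iv F115164)
theorem F142249 : act 5 n30593 = n25716 := d30_2 D25636 D30593 (iv D25716) (iv D20282) (iv F91482)
def n30594 : Q := act 7 n25636
theorem D30594 : act 7 n25636 = n30594 := rfl
theorem F142250 : act 1 n30594 = n25639 := d14_1 D30594 (iv D25639) (iv F115163)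
theorem F142251 : act 2 n30594 = n27306 := d21_1 D30594 (iv D27306) (iv F115164)
theorem F142252 : act 5 n30594 = n25637 := d36_1 D30594 (iv D25637) D25636
def n30595 : Q := act 8 n25636
theorem D30595 : act 8 n25636 = n30595 := rfl
theorem F142253 : act 1 n30595 = n25640 := d15_1 D30595 (iv D25640) (iv F115163)
theorem F142254 : act 2 n30595 = n27307 := d22_1 D30595 (iv D27307) (iv F115164)
theorem F142255 : act 5 n30595 = n25662 := d37_1 D30595 (iv D25662) (iv D20239) (iv F91483) D25636
def n30596 : Q := act 3 n25638
theorem D30596 : act 3 n25638 = n30596 := rfl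
theorem F142256 : act 2 n30596 = n26021 := d17_1 D30596 (iv D26021) F92462 (iv F91489) (iv F115169)
theorem F142257 : act 5 n30596 = n25718 := d25_2 (iv F115170) D30596 (iv D25718)
def n30597 : Q := act 7 n25638
theorem D30597 : act 7 n25638 = n30597 := rfl
theorem F142258 : act 2 n30597 = n25641 := d21_1 D30597 (iv D25641) (iv F115169)
theorem F142259 : act 4 n30597 = n25639 := d32_1 D30597 (iv D25639) D25638
theorem F142260 : act 5 n30597 = n25719 := d36_1 D30597 (iv D25719) (iv F115170)
def n30598 : Q := act 8 n25638
theorem D30598 : act 8 n25638 = n30598 := rfl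
theorem F142261 : act 2 n30598 = n25642 := d22_1 D30598 (iv D25642) (iv F115169)
theorem F142262 : act 4 n30598 = n25640 := d33_1 D30598 (iv D25640) D25638
theorem F142263 : act 5 n30598 = n30598 := d37_1 D30598 (iv D30598) F115170 F91727 (iv F115170)
def n30599 : Q := act 6 n25639
theorem D30599 : act 6 n25639 = n30599 := rfl
theorem F142264 : act 2 n30599 = n25643 := d20_1 D30599 (iv D25643) (iv F115171)
def n30600 : Q := act 8 n25639
theorem D30600 : act 8 n25639 = n30600 := rfl
theorem F142265 : act 2 n30600 = n25644 := d22_1 D30600 (iv D25644) (iv F115171)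
theorem F142266 : act 5 n30600 = n25664 := d37_1 D30600 (iv D25664) F91565 (iv F91487) (iv F115172)
theorem F142267 : act 7 n30600 = n25640 := d42_1 D30600 (iv D25640) D25639
def n30601 : Q := act 9 n25640
theorem D30601 : act 9 n25640 = n30601 := rfl
theorem F142268 : act 2 n30601 = n25645 := d23_1 D30601 (iv D25645) (iv F115173)
theorem F142269 : act 5 n30601 = n25665 := d38_1 D30601 (iv D25665) (iv F115174)
def n30602 : Q := act 6 n25641
theorem D30602 : act 6 n25641 = n30602 := rfl
theorem F142270 : act 1 n30602 = n27311 := d13_1 D30602 (iv D27311) (iv F115175)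
theorem F142271 : act 3 n30602 = n26027 := d26_1 D30602 (iv D26027) (iv F115176)
theorem F142272 : act 4 n30602 = n25643 := d31_1 D30602 (iv D25643) (iv F115177)
def n30603 : Q := act 8 n25641
theorem D30603 : act 8 n25641 = n30603 := rfl
theorem F142273 : act 1 n30603 = n27312 := d15_1 D30603 (iv D27312) (iv F115175)
theorem F142274 : act 3 n30603 = n26028 := d28_1 D30603 (iv D26028) (iv F115176)
theorem F142275 : act 4 n30603 = n25644 := d33_1 D30603 (iv D25644) (iv F115177)
theorem F142276 : act 5 n30603 = n30603 := d37_1 D30603 (iv D30603) F115178 F91734 (iv F115178)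
theorem F142277 : act 7 n30603 = n25642 := d42_1 D30603 (iv D25642) D25641
def n30604 : Q := act 9 n25642
theorem D30604 : act 9 n25642 = n30604 := rfl
theorem F142278 : act 1 n30604 = n27268 := d16_1 D30604 F121615 (iv F115179)
theorem F142279 : act 3 n30604 = n26029 := d29_1 D30604 (iv D26029) (iv F115180)
theorem F142280 : act 4 n30604 = n25645 := d34_1 D30604 (iv D25645) (iv F115181)
theorem F142281 : act 5 n30604 = n30604 := d38_1 D30604 (iv D30604) F115182
theorem F142282 : act 6 n30604 = n27307 := d41_1 D30604 (iv F142055) F142054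
theorem F142283 : act 8 n30604 = n27264 := d44_1 D30604 F142219 (iv D30585) F115140 D25642
def n30605 : Q := act 8 n25643
theorem D30605 : act 8 n25643 = n30605 := rfl
theorem F142284 : act 1 n30605 = n27313 := d15_1 D30605 (iv D27313) (iv F115183)
theorem F142285 : act 3 n30605 = n25646 := d28_1 D30605 (iv D25646) (iv F115184)
theorem F142286 : act 6 n30605 = n25644 := d40_1 D30605 (iv D25644) D25643
def n30606 : Q := act 9 n25644
theorem D30606 : act 9 n25644 = n30606 := rfl
theorem F142287 : act 1 n30606 = n27314 := d16_1 D30606 (iv D27314) (iv F115185)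
theorem F142288 : act 3 n30606 = n25647 := d29_1 D30606 (iv D25647) (iv F115186)
theorem F142289 : act 5 n30606 = n25667 := d38_1 D30606 (iv D25667) (iv F115187)
theorem F142290 : act 7 n30606 = n25645 := d43_1 D30606 (iv D25645) (iv F115188)
def n30607 : Q := act 5 n25646
theorem D30607 : act 5 n25646 = n30607 := rfl
theorem F142291 : act 1 n30607 = n27315 := d12_1 D30607 (iv D27315) (iv F115192)
theorem F142292 : act 6 n30607 = n25668 := d35_2 (iv F115194) D30607 (iv D25668) F91586 (iv F91501)
def n30608 : Q := act 9 n25646
theorem D30608 : act 9 n25646 = n30608 := rfl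
theorem F142293 : act 1 n30608 = n27316 := d16_1 D30608 (iv D27316) (iv F115192)
theorem F142294 : act 4 n30608 = n26033 := d34_1 D30608 (iv D26033) (iv F115193)
theorem F142295 : act 6 n30608 = n25647 := d41_1 D30608 (iv D25647) (iv F115194)
def n30609 : Q := act 6 n25652
theorem D30609 : act 6 n25652 = n30609 := rfl
theorem F142296 : act 2 n30609 = n25655 := d20_1 D30609 (iv D25655) (iv F115220)
theorem F142297 : act 5 n30609 = n25663 := d35_1 D30609 (iv D25663) F91565 (iv F91520) (iv F115221)
theorem F142298 : act 7 n30609 = n30609 := d39_2 D25652 D30609 (iv D30609) (iv D25652) F91516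
theorem F142299 : act 9 n30609 = n30609 := d41_2 F115222 D30609 (iv D30609)
def n30610 : Q := act 8 n25652
theorem D30610 : act 8 n25652 = n30610 := rfl
theorem F142300 : act 1 n30610 = n26096 := d15_1 D30610 (iv F141442) F141438
theorem F142301 : act 2 n30610 = n25656 := d22_1 D30610 (iv D25656) (iv F115220)
theorem F142302 : act 4 n30610 = n25940 := d33_1 D30610 (iv F136936) F136934
theorem F142303 : act 7 n30610 = n25653 := d42_1 D30610 (iv D25653) D25652
theorem F142304 : act 9 n25939 = n30610 := d43_0 F142303 (iv F115227) (iv F134803)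
def n30611 : Q := act 6 n25654
theorem D30611 : act 6 n25654 = n30611 := rfl
theorem F142305 : act 1 n30611 = n27319 := d13_1 D30611 (iv D27319) (iv F115228)
theorem F142306 : act 3 n30611 = n30611 := d26_1 D30611 (iv D30611) F115229
theorem F142307 : act 4 n30611 = n25655 := d31_1 D30611 (iv D25655) (iv F115230)
theorem F142308 : act 5 n30611 = n30611 := d35_1 D30611 (iv D30611) F115231 F91769 (iv F115231)
theorem F142309 : act 7 n30611 = n30611 := d39_2 D25654 D30611 (iv D30611) (iv D25654) F91525
theorem F142310 : act 8 n30611 = n25671 := d40_2 F135257 D30611 F115306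
theorem F142311 : act 9 n30611 = n30611 := d41_2 F115233 D30611 (iv D30611)
def n30612 : Q := act 8 n25655
theorem D30612 : act 8 n25655 = n30612 := rfl
theorem F142312 : act 1 n30612 = n27320 := d15_1 D30612 (iv D27320) (iv F115234)
theorem F142313 : act 3 n30612 = n25657 := d28_1 D30612 (iv D25657) (iv F115235)
theorem F142314 : act 4 n30612 = n25671 := d33_1 D30612 (iv F142310) F142307
theorem F142315 : act 6 n30612 = n25656 := d40_1 D30612 (iv D25656) D25655
theorem F142316 : act 7 n30612 = n30612 := d42_1 D30612 (iv D30612) F115237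
theorem F142317 : act 9 n25670 = n30612 := d41_0 F142315 F135520 (iv F115300)
def n30613 : Q := act 5 n25657
theorem D30613 : act 5 n25657 = n30613 := rfl
theorem F142318 : act 1 n30613 = n27321 := d12_1 D30613 (iv D27321) (iv F115244)
theorem F142319 : act 7 n30613 = n30613 := d36_2 F115247 D30613 (iv D30613)
theorem F142320 : act 8 n30613 = n25668 := d37_2 D25657 D30613 (iv D25668) (iv D20246) (iv F91539)
def n30614 : Q := act 9 n25657
theorem D30614 : act 9 n25657 = n30614 := rfl
theorem F142321 : act 1 n30614 = n27322 := d16_1 D30614 (iv D27322) (iv F115244)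
theorem F142322 : act 3 n30614 = n25670 := d29_1 D30614 F142317 F142313
theorem F142323 : act 4 n30614 = n30614 := d34_1 D30614 (iv D30614) F115245
theorem F142324 : act 6 n30614 = n25658 := d41_1 D30614 (iv D25658) (iv F115246)
theorem F142325 : act 7 n30614 = n30614 := d43_1 D30614 (iv D30614) F115247
theorem F142326 : act 8 n30614 = n30614 := d44_1 D30614 (iv D30614) (iv D25657) F91541 D25657
def n30615 : Q := act 7 n25659
theorem D30615 : act 7 n25659 = n30615 := rfl
theorem F142327 : act 0 n30615 = n25661 := d6_1 D30615 (iv D25661) (iv F115253)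
theorem F142328 : act 2 n30615 = n27323 := d21_1 D30615 (iv D27323) (iv F115254)
theorem F142329 : act 4 n30615 = n30615 := d32_1 D30615 (iv D30615) F115255
theorem F142330 : act 5 n30615 = n25660 := d36_1 D30615 (iv D25660) D25659
theorem F142331 : act 9 n30615 = n30615 := d43_2 F115257 D30615 (iv D30615)
def n30616 : Q := act 8 n25659
theorem D30616 : act 8 n25659 = n30616 := rfl
theorem F142332 : act 0 n30616 = n25662 := d7_1 D30616 (iv D25662) (iv F115253)
theorem F142333 : act 2 n30616 = n27324 := d22_1 D30616 (iv D27324) (iv F115254)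
theorem F142334 : act 4 n30616 = n30616 := d33_1 D30616 (iv D30616) F115255
theorem F142335 : act 6 n30616 = n30616 := d40_1 D30616 (iv D30616) F115256
def n30617 : Q := act 6 n25661
theorem D30617 : act 6 n25661 = n30617 := rfl
theorem F142336 : act 1 n30617 = n25663 := d13_1 D30617 (iv D25663) (iv F115262)
theorem F142337 : act 2 n30617 = n27325 := d20_1 D30617 (iv D27325) (iv F115263)
theorem F142338 : act 4 n30617 = n30617 := d31_1 D30617 (iv D30617) F115264
theorem F142339 : act 7 n30617 = n30617 := d39_2 D25661 D30617 (iv D30617) (iv D25661) F91557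
theorem F142340 : act 9 n30617 = n30617 := d41_2 F115266 D30617 (iv D30617)
def n30618 : Q := act 8 n25661
theorem D30618 : act 8 n25661 = n30618 := rfl
theorem F142341 : act 1 n30618 = n25664 := d15_1 D30618 (iv D25664) (iv F115262)
theorem F142342 : act 2 n30618 = n27326 := d22_1 D30618 (iv D27326) (iv F115263)
theorem F142343 : act 4 n30618 = n30618 := d33_1 D30618 (iv D30618) F115264
theorem F142344 : act 7 n30618 = n25662 := d42_1 D30618 (iv D25662) D25661
def n30619 : Q := act 9 n25662
theorem D30619 : act 9 n25662 = n30619 := rfl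
theorem F142345 : act 1 n30619 = n25665 := d16_1 D30619 (iv D25665) (iv F115267)
theorem F142346 : act 2 n30619 = n27327 := d23_1 D30619 (iv D27327) (iv F115268)
theorem F142347 : act 4 n30619 = n30619 := d34_1 D30619 (iv D30619) F115269
theorem F142348 : act 6 n30619 = n30619 := d41_1 D30619 (iv D30619) F115270
theorem F142349 : act 8 n30619 = n30619 := d44_1 D30619 (iv D30619) (iv D25662) F91558 D25662
def n30620 : Q := act 8 n25663
theorem D30620 : act 8 n25663 = n30620 := rfl
theorem F142350 : act 2 n30620 = n25666 := d22_1 D30620 (iv D25666) (iv F115271)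
theorem F142351 : act 4 n30620 = n30620 := d33_1 D30620 (iv D30620) F115272
theorem F142352 : act 6 n30620 = n25664 := d40_1 D30620 (iv D25664) D25663
theorem F142353 : act 7 n30620 = n30620 := d42_1 D30620 (iv D30620) F115273
def n30621 : Q := act 9 n25664
theorem D30621 : act 9 n25664 = n30621 := rfl
theorem F142354 : act 2 n30621 = n25667 := d23_1 D30621 (iv D25667) (iv F115275)
theorem F142355 : act 4 n30621 = n30621 := d34_1 D30621 (iv D30621) F115276
theorem F142356 : act 7 n30621 = n25665 := d43_1 D30621 (iv D25665) (iv F115277)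
theorem F142357 : act 8 n30621 = n30621 := d44_1 D30621 (iv D30621) (iv D25664) F91566 D25664
def n30622 : Q := act 5 n25666
theorem D30622 : act 5 n25666 = n30622 := rfl
theorem F142358 : act 1 n30622 = n27330 := d12_1 D30622 (iv D27330) (iv F115282)
theorem F142359 : act 3 n30622 = n25668 := d25_1 D30622 (iv D25668) (iv F115283)
theorem F142360 : act 7 n30622 = n30622 := d36_2 F115286 D30622 (iv D30622)
def n30623 : Q := act 9 n25666
theorem D30623 : act 9 n25666 = n30623 := rfl
theorem F142361 : act 1 n30623 = n27331 := d16_1 D30623 (iv D27331) (iv F115282)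
theorem F142362 : act 3 n30623 = n25669 := d29_1 D30623 (iv D25669) (iv F115283)
theorem F142363 : act 4 n30623 = n30623 := d34_1 D30623 (iv D30623) F115284
theorem F142364 : act 6 n30623 = n25667 := d41_1 D30623 (iv D25667) (iv F115285)
theorem F142365 : act 7 n30623 = n30623 := d43_1 D30623 (iv D30623) F115286
theorem F142366 : act 8 n30623 = n30623 := d44_1 D30623 (iv D30623) (iv D25666) F91574 D25666
def n30624 : Q := act 4 n25668
theorem D30624 : act 4 n25668 = n30624 := rfl
theorem F142367 : act 1 n30624 = n27332 := d11_1 D30624 (iv D27332) (iv F115292)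
theorem F142368 : act 5 n30624 = n25670 := d30_2 D25668 D30624 (iv D25670) (iv D20248) (iv F91585)
theorem F142369 : act 7 n30624 = n30624 := d32_2 F115293 D30624 (iv D30624)
def n30625 : Q := act 9 n25668
theorem D30625 : act 9 n25668 = n30625 := rfl
theorem F142370 : act 1 n30625 = n27333 := d16_1 D30625 (iv D27333) (iv F115292)
theorem F142371 : act 5 n30625 = n25669 := d38_1 D30625 (iv D25669) D25668
theorem F142372 : act 7 n30625 = n30625 := d43_1 D30625 (iv D30625) F115293
def n30626 : Q := act 7 n25676
theorem D30626 : act 7 n25676 = n30626 := rfl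
theorem F142373 : act 1 n30626 = n27351 := d14_1 D30626 (iv D27351) (iv F115320)
theorem F142374 : act 3 n30626 = n25698 := d27_1 D30626 (iv D25698) (iv F115321)
theorem F142375 : act 4 n30626 = n25677 := d32_1 D30626 (iv D25677) D25676
theorem F142376 : act 8 n30626 = n26390 := d42_2 (iv F135074) D30626 F117925
theorem F142377 : act 9 n30626 = n27962 := d43_2 (iv F135073) D30626 F124538
def n30627 : Q := act 6 n25677
theorem D30627 : act 6 n25677 = n30627 := rfl
theorem F142378 : act 1 n30627 = n27352 := d13_1 D30627 (iv D27352) (iv F115324)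
theorem F142379 : act 3 n30627 = n25679 := d26_1 D30627 (iv D25679) (iv F115325)
theorem F142380 : act 5 n30627 = n26075 := d35_1 D30627 (iv D26075) F92607 (iv F91613) (iv F115326)
theorem F142381 : act 7 n30627 = n30627 := d39_2 D25677 D30627 (iv D30627) (iv D25677) F91610
def n30628 : Q := act 8 n25679
theorem D30628 : act 8 n25679 = n30628 := rfl
theorem F142382 : act 1 n30628 = n27354 := d15_1 D30628 (iv D27354) (iv F115333)
theorem F142383 : act 4 n30628 = n25701 := d33_1 D30628 (iv D25701) (iv F115334)
theorem F142384 : act 6 n30628 = n25680 := d40_1 D30628 (iv D25680) D25679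
theorem F142385 : act 7 n30628 = n30628 := d42_1 D30628 (iv D30628) F115336
def n30629 : Q := act 7 n25683
theorem D30629 : act 7 n25683 = n30629 := rfl
theorem F142386 : act 1 n30629 = n25685 := d14_1 D30629 (iv D25685) (iv F115351)
theorem F142387 : act 2 n30629 = n27357 := d21_1 D30629 (iv D27357) (iv F115352)
theorem F142388 : act 6 n30629 = n25705 := d39_1 D30629 (iv D25705) (iv D20273) (iv F91624) D25683
theorem F142389 : act 8 n30629 = n30629 := d42_2 F115353 D30629 (iv D30629)
theorem F142390 : act 9 n30629 = n25694 := d43_2 (iv F115354) D30629 (iv D25694)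
def n30630 : Q := act 4 n25684
theorem D30630 : act 4 n25684 = n30630 := rfl
theorem F142391 : act 1 n30630 = n26331 := d11_1 D30630 (iv F140821) F140818
theorem F142392 : act 2 n30630 = n25686 := d18_1 D30630 (iv D25686) (iv F115355)
theorem F142393 : act 6 n30630 = n30630 := d31_2 F115356 D30630 (iv D30630)
theorem F142394 : act 8 n30630 = n26347 := d33_2 F136632 D30630 (iv F136629)
theorem F142395 : act 9 n30630 = n25695 := d34_2 (iv F115357) D30630 (iv D25695)
def n30631 : Q := act 7 n25684
theorem D30631 : act 7 n25684 = n30631 := rfl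
theorem F142396 : act 2 n30631 = n25687 := d21_1 D30631 (iv D25687) (iv F115355)
theorem F142397 : act 5 n30631 = n25685 := d36_1 D30631 (iv D25685) D25684
theorem F142398 : act 9 n30631 = n25696 := d43_2 (iv F115357) D30631 (iv D25696)
def n30632 : Q := act 7 n25686
theorem D30632 : act 7 n25686 = n30632 := rfl
theorem F142399 : act 1 n30632 = n27359 := d14_1 D30632 (iv D27359) (iv F115362)
theorem F142400 : act 3 n30632 = n27962 := d27_1 D30632 F124538 (iv F135072)
theorem F142401 : act 4 n30632 = n25687 := d32_1 D30632 (iv D25687) D25686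
theorem F142402 : act 8 n30632 = n26381 := d42_2 (iv F135068) D30632 F117891
theorem F142403 : act 9 n30632 = n25698 := d43_2 (iv F115364) D30632 (iv D25698)
def n30633 : Q := act 6 n25687
theorem D30633 : act 6 n25687 = n30633 := rfl
theorem F142404 : act 1 n30633 = n27360 := d13_1 D30633 (iv D27360) (iv F115366)
theorem F142405 : act 3 n30633 = n25689 := d26_1 D30633 (iv D25689) (iv F115367)
theorem F142406 : act 5 n30633 = n25711 := d35_1 D30633 (iv D25711) F91699 (iv F91636) (iv F115368)
theorem F142407 : act 7 n30633 = n30633 := d39_2 D25687 D30633 (iv D30633) (iv D25687) F91632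
theorem F142408 : act 9 n30633 = n25699 := d41_2 (iv F115369) D30633 (iv D25699)
def n30634 : Q := act 8 n25687
theorem D30634 : act 8 n25687 = n30634 := rfl
theorem F142409 : act 1 n30634 = n27361 := d15_1 D30634 (iv D27361) (iv F115366)
theorem F142410 : act 3 n30634 = n25690 := d28_1 D30634 (iv D25690) (iv F115367)
theorem F142411 : act 4 n30634 = n26381 := d33_1 D30634 (iv F142402) F142401
theorem F142412 : act 5 n30634 = n30634 := d37_1 D30634 (iv D30634) F115368 F91637 (iv F115368)
theorem F142413 : act 7 n30634 = n25688 := d42_1 D30634 (iv D25688) D25687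
theorem F142414 : act 9 n30634 = n26380 := d44_2 (iv F115369) D30634 F117888 (iv F135082) (iv D25700)
def n30635 : Q := act 8 n25689
theorem D30635 : act 8 n25689 = n30635 := rfl
theorem F142415 : act 1 n30635 = n27362 := d15_1 D30635 (iv D27362) (iv F115376)
theorem F142416 : act 6 n30635 = n25690 := d40_1 D30635 (iv D25690) D25689
theorem F142417 : act 7 n30635 = n30635 := d42_1 D30635 (iv D30635) F115378
def n30636 : Q := act 3 n25695
theorem D30636 : act 3 n25695 = n30636 := rfl
theorem F142418 : act 1 n30636 = n26248 := d10_1 D30636 F117416 (iv F115400)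
theorem F142419 : act 6 n30636 = n30636 := d26_2 F115402 D30636 (iv D30636)
theorem F142420 : act 8 n30636 = n26244 := d28_2 F115403 D30636 F117402
def n30637 : Q := act 7 n25695
theorem D30637 : act 7 n25695 = n30637 := rfl
theorem F142421 : act 1 n30637 = n26330 := d14_1 D30637 F117683 (iv F115400)
theorem F142422 : act 2 n30637 = n25698 := d21_1 D30637 (iv D25698) (iv F115401)
theorem F142423 : act 4 n30637 = n25696 := d32_1 D30637 (iv D25696) D25695
theorem F142424 : act 8 n30637 = n26311 := d42_2 F115403 D30637 F134945
def n30638 : Q := act 6 n25696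
theorem D30638 : act 6 n25696 = n30638 := rfl
theorem F142425 : act 2 n30638 = n25699 := d20_1 D30638 (iv D25699) (iv F115404)
theorem F142426 : act 5 n30638 = n25720 := d35_1 D30638 (iv D25720) F91729 (iv F91655) (iv F115405)
theorem F142427 : act 7 n30638 = n30638 := d39_2 D25696 D30638 (iv D30638) (iv D25696) F91653
def n30639 : Q := act 6 n25698
theorem D30639 : act 6 n25698 = n30639 := rfl
theorem F142428 : act 1 n30639 = n27366 := d13_1 D30639 (iv D27366) (iv F115412)
theorem F142429 : act 4 n30639 = n25699 := d31_1 D30639 (iv D25699) (iv F115413)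
theorem F142430 : act 7 n30639 = n30639 := d39_2 D25698 D30639 (iv D30639) (iv D25698) F91658
theorem F142431 : act 8 n30639 = n26360 := d40_2 (iv F135587) D30639 F117802
def n30640 : Q := act 8 n25699
theorem D30640 : act 8 n25699 = n30640 := rfl
theorem F142432 : act 1 n30640 = n27367 := d15_1 D30640 (iv D27367) (iv F115415)
theorem F142433 : act 3 n30640 = n25701 := d28_1 D30640 (iv D25701) (iv F115416)
theorem F142434 : act 4 n30640 = n26360 := d33_1 D30640 (iv F142431) F142429
theorem F142435 : act 5 n30640 = n30640 := d37_1 D30640 (iv D30640) F115417 F91738 (iv F115417)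
theorem F142436 : act 6 n30640 = n25700 := d40_1 D30640 (iv D25700) D25699
theorem F142437 : act 7 n30640 = n30640 := d42_1 D30640 (iv D30640) F115418
theorem F142438 : act 9 n26359 = n30640 := d41_0 F142436 F135082 (iv F117798)
def n30641 : Q := act 9 n25701
theorem D30641 : act 9 n25701 = n30641 := rfl
theorem F142439 : act 1 n30641 = n27368 := d16_1 D30641 (iv D27368) (iv F115425)
theorem F142440 : act 3 n30641 = n26359 := d29_1 D30641 F142438 F142433
theorem F142441 : act 5 n30641 = n30641 := d38_1 D30641 (iv D30641) F115426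
theorem F142442 : act 6 n30641 = n25702 := d41_1 D30641 (iv D25702) (iv F115427)
theorem F142443 : act 7 n30641 = n30641 := d43_1 D30641 (iv D30641) F115428
def n30642 : Q := act 5 n25703
theorem D30642 : act 5 n25703 = n30642 := rfl
theorem F142444 : act 0 n30642 = n25704 := d4_1 D30642 (iv D25704) (iv F115433)
theorem F142445 : act 2 n30642 = n27369 := d19_1 D30642 (iv D27369) (iv F115434)
theorem F142446 : act 6 n30642 = n30642 := d35_2 D25703 D30642 (iv D30642) (iv D25703) F91680
theorem F142447 : act 9 n30642 = n25714 := d38_2 (iv F115436) D30642 (iv D25714)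
def n30643 : Q := act 7 n25703
theorem D30643 : act 7 n25703 = n30643 := rfl
theorem F142448 : act 0 n30643 = n25705 := d6_1 D30643 (iv D25705) (iv F115433)
theorem F142449 : act 2 n30643 = n27370 := d21_1 D30643 (iv D27370) (iv F115434)
theorem F142450 : act 8 n30643 = n30643 := d42_2 F115435 D30643 (iv D30643)
theorem F142451 : act 9 n30643 = n25715 := d43_2 (iv F115436) D30643 (iv D25715)
def n30644 : Q := act 4 n25704
theorem D30644 : act 4 n25704 = n30644 := rfl
theorem F142452 : act 1 n30644 = n25706 := d11_1 D30644 (iv D25706) (iv F115437)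
theorem F142453 : act 2 n30644 = n27153 := d18_1 D30644 F121025 (iv F115438)
theorem F142454 : act 6 n30644 = n30644 := d31_2 F115439 D30644 (iv D30644)
theorem F142455 : act 9 n30644 = n25716 := d34_2 (iv F115440) D30644 (iv D25716)
theorem F142456 : act 8 n27149 = n30644 := d22_0 F142453 (iv D27153) (iv F121006)
def n30645 : Q := act 7 n25704
theorem D30645 : act 7 n25704 = n30645 := rfl
theorem F142457 : act 1 n30645 = n25707 := d14_1 D30645 (iv D25707) (iv F115437)
theorem F142458 : act 2 n30645 = n27371 := d21_1 D30645 (iv D27371) (iv F115438)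
theorem F142459 : act 5 n30645 = n25705 := d36_1 D30645 (iv D25705) D25704
theorem F142460 : act 9 n30645 = n25717 := d43_2 (iv F115440) D30645 (iv D25717)
def n30646 : Q := act 8 n25704
theorem D30646 : act 8 n25704 = n30646 := rfl
theorem F142461 : act 1 n30646 = n25708 := d15_1 D30646 (iv D25708) (iv F115437)
theorem F142462 : act 2 n30646 = n27151 := d22_1 D30646 (iv F121018) (iv F115438)
theorem F142463 : act 4 n30646 = n27149 := d33_1 D30646 F142456 (iv D30644)
theorem F142464 : act 5 n30646 = n30646 := d37_1 D30646 (iv D30646) (iv D25704) F91685 D25704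
theorem F142465 : act 6 n30646 = n30646 := d40_1 D30646 (iv D30646) F115439
theorem F142466 : act 9 n30646 = n30646 := d44_2 (iv F115440) D30646 (iv D30646) F115440 F91721
def n30647 : Q := act 3 n25706
theorem D30647 : act 3 n25706 = n30647 := rfl
theorem F142467 : act 2 n30647 = n26095 := d17_1 D30647 (iv D26095) F92671 (iv F91694) (iv F115445)
theorem F142468 : act 6 n30647 = n30647 := d26_2 F115446 D30647 (iv D30647)
theorem F142469 : act 9 n30647 = n25718 := d29_2 (iv F115447) D30647 (iv D25718)
def n30648 : Q := act 7 n25706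
theorem D30648 : act 7 n25706 = n30648 := rfl
theorem F142470 : act 2 n30648 = n25709 := d21_1 D30648 (iv D25709) (iv F115445)
theorem F142471 : act 4 n30648 = n25707 := d32_1 D30648 (iv D25707) D25706
theorem F142472 : act 9 n30648 = n25719 := d43_2 (iv F115447) D30648 (iv D25719)
def n30649 : Q := act 8 n25706
theorem D30649 : act 8 n25706 = n30649 := rfl
theorem F142473 : act 1 n30649 = n27149 := d15_1 D30649 F142456 F142452
theorem F142474 : act 2 n30649 = n25710 := d22_1 D30649 (iv D25710) (iv F115445)
theorem F142475 : act 4 n30649 = n25708 := d33_1 D30649 (iv D25708) D25706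
theorem F142476 : act 6 n30649 = n30649 := d40_1 D30649 (iv D30649) F115446
theorem F142477 : act 9 n30649 = n30649 := d44_2 (iv F115447) D30649 (iv D30649) F115447 F91727
theorem F142478 : act 5 n27148 = n30649 := d19_0 F142474 (iv F115464) (iv F121003)
def n30650 : Q := act 6 n25707
theorem D30650 : act 6 n25707 = n30650 := rfl
theorem F142479 : act 2 n30650 = n25711 := d20_1 D30650 (iv D25711) (iv F115448)
theorem F142480 : act 7 n30650 = n30650 := d39_2 D25707 D30650 (iv D30650) (iv D25707) F91688
theorem F142481 : act 9 n30650 = n25720 := d41_2 (iv F115450) D30650 (iv D25720)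
def n30651 : Q := act 8 n25707
theorem D30651 : act 8 n25707 = n30651 := rfl
theorem F142482 : act 2 n30651 = n25712 := d22_1 D30651 (iv D25712) (iv F115448)
theorem F142483 : act 5 n30651 = n30651 := d37_1 D30651 (iv D30651) F115449 F91691 (iv F115449)
theorem F142484 : act 7 n30651 = n25708 := d42_1 D30651 (iv D25708) D25707
theorem F142485 : act 9 n30651 = n30651 := d44_2 (iv F115450) D30651 (iv D30651) F115450 F91730
def n30652 : Q := act 6 n25709
theorem D30652 : act 6 n25709 = n30652 := rfl
theorem F142486 : act 1 n30652 = n27373 := d13_1 D30652 (iv D27373) (iv F115455)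
theorem F142487 : act 3 n30652 = n26099 := d26_1 D30652 (iv D26099) (iv F115456)
theorem F142488 : act 4 n30652 = n25711 := d31_1 D30652 (iv D25711) (iv F115457)
theorem F142489 : act 7 n30652 = n30652 := d39_2 D25709 D30652 (iv D30652) (iv D25709) F91695
theorem F142490 : act 9 n30652 = n25721 := d41_2 (iv F115458) D30652 (iv D25721)
def n30653 : Q := act 8 n25709
theorem D30653 : act 8 n25709 = n30653 := rfl
theorem F142491 : act 1 n30653 = n27229 := d15_1 D30653 F121411 (iv F115455)
theorem F142492 : act 3 n30653 = n26100 := d28_1 D30653 (iv D26100) (iv F115456)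
theorem F142493 : act 4 n30653 = n25712 := d33_1 D30653 (iv D25712) (iv F115457)
theorem F142494 : act 7 n30653 = n25710 := d42_1 D30653 (iv D25710) D25709
theorem F142495 : act 9 n30653 = n30653 := d44_2 (iv F115458) D30653 (iv D30653) F115458 F91734
theorem F142496 : act 5 n27228 = n30653 := d36_3 F142494 (iv F115464) D27228
def n30654 : Q := act 8 n25711
theorem D30654 : act 8 n25711 = n30654 := rfl
theorem F142497 : act 1 n30654 = n27374 := d15_1 D30654 (iv D27374) (iv F115465)
theorem F142498 : act 3 n30654 = n25713 := d28_1 D30654 (iv D25713) (iv F115466)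
theorem F142499 : act 6 n30654 = n25712 := d40_1 D30654 (iv D25712) D25711
theorem F142500 : act 7 n30654 = n30654 := d42_1 D30654 (iv D30654) F115467
theorem F142501 : act 9 n30654 = n30654 := d44_2 (iv F115468) D30654 (iv D30654) F115468 F91738
def n30655 : Q := act 5 n25713
theorem D30655 : act 5 n25713 = n30655 := rfl
theorem F142502 : act 1 n30655 = n27375 := d12_1 D30655 (iv D27375) (iv F115474)
theorem F142503 : act 4 n30655 = n30655 := d30_1 D30655 (iv D30655) F115475 F92699 (iv F115475)
theorem F142504 : act 6 n30655 = n30655 := d35_2 (iv F115476) D30655 (iv D30655) F115476 F91712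
theorem F142505 : act 7 n30655 = n30655 := d36_2 F115477 D30655 (iv D30655)
theorem F142506 : act 9 n30655 = n30655 := d38_2 F115478 D30655 (iv D30655)
def n30656 : Q := act 4 n25714
theorem D30656 : act 4 n25714 = n30656 := rfl
theorem F142507 : act 0 n30656 = n25716 := d3_1 D30656 (iv D25716) (iv F115479)
theorem F142508 : act 2 n30656 = n27376 := d18_1 D30656 (iv D27376) (iv F115480)
theorem F142509 : act 6 n30656 = n30656 := d31_2 F115481 D30656 (iv D30656)
theorem F142510 : act 8 n30656 = n30656 := d33_2 F115482 D30656 (iv D30656)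
def n30657 : Q := act 7 n25714
theorem D30657 : act 7 n25714 = n30657 := rfl
theorem F142511 : act 0 n30657 = n25717 := d6_1 D30657 (iv D25717) (iv F115479)
theorem F142512 : act 2 n30657 = n27377 := d21_1 D30657 (iv D27377) (iv F115480)
theorem F142513 : act 5 n30657 = n25715 := d36_1 D30657 (iv D25715) D25714
theorem F142514 : act 8 n30657 = n30657 := d42_2 F115482 D30657 (iv D30657)
def n30658 : Q := act 3 n25716
theorem D30658 : act 3 n25716 = n30658 := rfl
theorem F142515 : act 1 n30658 = n25718 := d10_1 D30658 (iv D25718) (iv F115486)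
theorem F142516 : act 6 n30658 = n30658 := d26_2 F115488 D30658 (iv D30658)
theorem F142517 : act 8 n30658 = n30658 := d28_2 F115489 D30658 (iv D30658)
def n30659 : Q := act 7 n25716
theorem D30659 : act 7 n25716 = n30659 := rfl
theorem F142518 : act 1 n30659 = n25719 := d14_1 D30659 (iv D25719) (iv F115486)
theorem F142519 : act 2 n30659 = n27378 := d21_1 D30659 (iv D27378) (iv F115487)
theorem F142520 : act 4 n30659 = n25717 := d32_1 D30659 (iv D25717) D25716
theorem F142521 : act 8 n30659 = n30659 := d42_2 F115489 D30659 (iv D30659)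
def n30660 : Q := act 6 n25717
theorem D30660 : act 6 n25717 = n30660 := rfl
theorem F142522 : act 1 n30660 = n25720 := d13_1 D30660 (iv D25720) (iv F115490)
theorem F142523 : act 2 n30660 = n27379 := d20_1 D30660 (iv D27379) (iv F115491)
theorem F142524 : act 7 n30660 = n30660 := d39_2 D25717 D30660 (iv D30660) (iv D25717) F91720
theorem F142525 : act 8 n30660 = n30660 := d40_2 F115493 D30660 (iv D30660)
def n30661 : Q := act 7 n25718
theorem D30661 : act 7 n25718 = n30661 := rfl
theorem F142526 : act 2 n30661 = n26107 := d21_1 D30661 (iv D26107) (iv F115494)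
theorem F142527 : act 3 n30661 = n25719 := d27_1 D30661 (iv D25719) D25718
theorem F142528 : act 8 n30661 = n30661 := d42_2 F115496 D30661 (iv D30661)
def n30662 : Q := act 6 n25719
theorem D30662 : act 6 n25719 = n30662 := rfl
theorem F142529 : act 2 n30662 = n25721 := d20_1 D30662 (iv D25721) (iv F115497)
theorem F142530 : act 4 n30662 = n25720 := d31_1 D30662 (iv D25720) (iv F115498)
theorem F142531 : act 7 n30662 = n30662 := d39_2 D25719 D30662 (iv D30662) (iv D25719) F91726
theorem F142532 : act 8 n30662 = n30662 := d40_2 F115499 D30662 (iv D30662)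
def n30663 : Q := act 5 n25721
theorem D30663 : act 5 n25721 = n30663 := rfl
theorem F142533 : act 1 n30663 = n27381 := d12_1 D30663 (iv D27381) (iv F115503)
theorem F142534 : act 3 n30663 = n26109 := d25_1 D30663 (iv D26109) (iv F115504)
theorem F142535 : act 7 n30663 = n30663 := d36_2 F115506 D30663 (iv D30663)
def n30664 : Q := act 5 n25727
theorem D30664 : act 5 n25727 = n30664 := rfl
theorem F142536 : act 0 n30664 = n25778 := d4_1 D30664 (iv D25778) (iv F115535)
theorem F142537 : act 3 n30664 = n25728 := d25_1 D30664 (iv D25728) (iv F115536)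
theorem F142538 : act 9 n30664 = n25732 := d38_2 (iv F115538) D30664 (iv D25732)
def n30665 : Q := act 7 n25727
theorem D30665 : act 7 n25727 = n30665 := rfl
theorem F142539 : act 0 n30665 = n25779 := d6_1 D30665 (iv D25779) (iv F115535)
theorem F142540 : act 3 n30665 = n25729 := d27_1 D30665 (iv D25729) (iv F115536)
theorem F142541 : act 8 n30665 = n26134 := d42_2 (iv F115537) D30665 (iv D26134)
theorem F142542 : act 9 n30665 = n25733 := d43_2 (iv F115538) D30665 (iv D25733)
def n30666 : Q := act 7 n25728
theorem D30666 : act 7 n25728 = n30666 := rfl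
theorem F142543 : act 0 n30666 = n25780 := d6_1 D30666 (iv D25780) (iv F115539)
theorem F142544 : act 2 n30666 = n27386 := d21_1 D30666 (iv D27386) (iv F115540)
theorem F142545 : act 5 n30666 = n25729 := d36_1 D30666 (iv D25729) D25728
theorem F142546 : act 9 n30666 = n25734 := d43_2 (iv F115541) D30666 (iv D25734)
def n30667 : Q := act 4 n25732
theorem D30667 : act 4 n25732 = n30667 := rfl
theorem F142547 : act 0 n30667 = n25786 := d3_1 D30667 (iv D25786) (iv F115553)
def n30668 : Q := act 7 n25732
theorem D30668 : act 7 n25732 = n30668 := rfl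
theorem F142548 : act 0 n30668 = n25787 := d6_1 D30668 (iv D25787) (iv F115553)
theorem F142549 : act 3 n30668 = n25734 := d27_1 D30668 (iv D25734) (iv F115554)
theorem F142550 : act 5 n30668 = n25733 := d36_1 D30668 (iv D25733) D25732
def n30669 : Q := act 6 n25734
theorem D30669 : act 6 n25734 = n30669 := rfl
theorem F142551 : act 0 n30669 = n25789 := d5_1 D30669 (iv D25789) (iv F115558)
theorem F142552 : act 2 n30669 = n27395 := d20_1 D30669 (iv D27395) (iv F115559)
def n30670 : Q := act 5 n25765
theorem D30670 : act 5 n25765 = n30670 := rfl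
theorem F142553 : act 2 n30670 = n25766 := d19_1 D30670 (iv D25766) (iv F115687)
theorem F142554 : act 3 n30670 = n25844 := d25_1 D30670 F115968 F135186
theorem F142555 : act 6 n30670 = n25784 := d35_2 D25765 D30670 (iv D25784) (iv D20337) (iv F91890)
theorem F142556 : act 8 n30670 = n25841 := d37_2 (iv F115689) D30670 (iv D25841) F92077 F134973
def n30671 : Q := act 7 n25765
theorem D30671 : act 7 n25765 = n30671 := rfl
theorem F142557 : act 2 n30671 = n25767 := d21_1 D30671 (iv D25767) (iv F115687)
theorem F142558 : act 3 n30671 = n26552 := d27_1 D30671 F118601 F135186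
theorem F142559 : act 8 n30671 = n26455 := d42_2 (iv F115689) D30671 (iv D26455)
def n30672 : Q := act 4 n25766
theorem D30672 : act 4 n25766 = n30672 := rfl
theorem F142560 : act 1 n30672 = n25855 := d11_1 D30672 (iv D25855) (iv F115690)
theorem F142561 : act 6 n30672 = n25786 := d31_2 (iv F115692) D30672 (iv D25786)
def n30673 : Q := act 7 n25766
theorem D30673 : act 7 n25766 = n30673 := rfl
theorem F142562 : act 1 n30673 = n25856 := d14_1 D30673 (iv D25856) (iv F115690)
theorem F142563 : act 3 n30673 = n25768 := d27_1 D30673 (iv D25768) (iv F115691)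
theorem F142564 : act 5 n30673 = n25767 := d36_1 D30673 (iv D25767) D25766
def n30674 : Q := act 8 n25766
theorem D30674 : act 8 n25766 = n30674 := rfl
theorem F142565 : act 1 n30674 = n25857 := d15_1 D30674 (iv D25857) (iv F115690)
theorem F142566 : act 2 n30674 = n25841 := d22_1 D30674 (iv F142556) F142553
theorem F142567 : act 3 n30674 = n25769 := d28_1 D30674 (iv D25769) (iv F115691)
theorem F142568 : act 5 n30674 = n25840 := d37_1 D30674 F134797 (iv D20868) (iv F91894) D25766
theorem F142569 : act 6 n30674 = n25788 := d40_1 D30674 (iv D25788) (iv F115692)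
def n30675 : Q := act 6 n25768
theorem D30675 : act 6 n25768 = n30675 := rfl
theorem F142570 : act 1 n30675 = n25858 := d13_1 D30675 (iv D25858) (iv F115696)
theorem F142571 : act 2 n30675 = n27441 := d20_1 D30675 (iv D27441) (iv F115697)
theorem F142572 : act 7 n30675 = n25789 := d39_2 D25768 D30675 (iv D25789) (iv D20340) (iv F91897)
def n30676 : Q := act 8 n25768
theorem D30676 : act 8 n25768 = n30676 := rfl
theorem F142573 : act 1 n30676 = n25859 := d15_1 D30676 (iv D25859) (iv F115696)
theorem F142574 : act 2 n30676 = n25952 := d22_1 D30676 F135434 (iv F115697)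
theorem F142575 : act 5 n30676 = n25950 := d37_1 D30676 F134800 F93833 (iv F91901) (iv F115698)
theorem F142576 : act 7 n30676 = n25769 := d42_1 D30676 (iv D25769) D25768
def n30677 : Q := act 5 n25771
theorem D30677 : act 5 n25771 = n30677 := rfl
theorem F142577 : act 1 n30677 = n25892 := d12_1 D30677 F116095 (iv F134740)
theorem F142578 : act 2 n30677 = n25772 := d19_1 D30677 (iv D25772) (iv F115707)
theorem F142579 : act 3 n30677 = n26020 := d25_1 D30677 F116516 (iv F134741)
theorem F142580 : act 8 n30677 = n25888 := d37_2 (iv F115709) D30677 (iv D25888) F92157 (iv F134094)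
def n30678 : Q := act 7 n25771
theorem D30678 : act 7 n25771 = n30678 := rfl
theorem F142581 : act 1 n30678 = n25921 := d14_1 D30678 F116185 (iv F134740)
theorem F142582 : act 2 n30678 = n25773 := d21_1 D30678 (iv D25773) (iv F115707)
theorem F142583 : act 3 n30678 = n25911 := d27_1 D30678 F134762 (iv F134741)
theorem F142584 : act 6 n30678 = n25785 := d39_1 D30678 (iv D25785) (iv D20337) (iv F91903) D25771
theorem F142585 : act 8 n30678 = n25795 := d42_2 (iv F115709) D30678 (iv D25795)
def n30679 : Q := act 4 n25772
theorem D30679 : act 4 n25772 = n30679 := rfl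
theorem F142586 : act 1 n30679 = n25871 := d11_1 D30679 (iv D25871) (iv F115710)
def n30680 : Q := act 7 n25772
theorem D30680 : act 7 n25772 = n30680 := rfl
theorem F142587 : act 1 n30680 = n25872 := d14_1 D30680 (iv D25872) (iv F115710)
theorem F142588 : act 3 n30680 = n25774 := d27_1 D30680 (iv D25774) (iv F115711)
theorem F142589 : act 5 n30680 = n25773 := d36_1 D30680 (iv D25773) D25772
def n30681 : Q := act 8 n25772
theorem D30681 : act 8 n25772 = n30681 := rfl
theorem F142590 : act 1 n30681 = n25784 := d15_1 D30681 F134865 (iv F115710)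
theorem F142591 : act 2 n30681 = n25888 := d22_1 D30681 (iv F142580) F142578
theorem F142592 : act 3 n30681 = n25775 := d28_1 D30681 (iv D25775) (iv F115711)
theorem F142593 : act 5 n30681 = n25783 := d37_1 D30681 F134745 (iv D20344) (iv F91907) D25772
def n30682 : Q := act 6 n25774
theorem D30682 : act 6 n25774 = n30682 := rfl
theorem F142594 : act 1 n30682 = n25874 := d13_1 D30682 (iv D25874) (iv F115716)
theorem F142595 : act 2 n30682 = n27451 := d20_1 D30682 (iv D27451) (iv F115717)
theorem F142596 : act 5 n30682 = n25789 := d35_1 D30682 (iv D25789) F91943 (iv F91913) (iv F115718)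
def n30683 : Q := act 8 n25774
theorem D30683 : act 8 n25774 = n30683 := rfl
theorem F142597 : act 1 n30683 = n25875 := d15_1 D30683 (iv D25875) (iv F115716)
theorem F142598 : act 2 n30683 = n26060 := d22_1 D30683 F134787 (iv F115717)
theorem F142599 : act 5 n30683 = n25800 := d37_1 D30683 (iv D25800) F91966 (iv F91914) (iv F115718)
theorem F142600 : act 7 n30683 = n25775 := d42_1 D30683 (iv D25775) D25774
def n30684 : Q := act 9 n25775
theorem D30684 : act 9 n25775 = n30684 := rfl
theorem F142601 : act 1 n30684 = n25876 := d16_1 D30684 (iv D25876) (iv F115719)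
theorem F142602 : act 2 n30684 = n26789 := d23_1 D30684 (iv D26789) (iv F134751)
theorem F142603 : act 5 n30684 = n25801 := d38_1 D30684 (iv D25801) (iv F115721)
def n30685 : Q := act 6 n25776
theorem D30685 : act 6 n25776 = n30685 := rfl
theorem F142604 : act 1 n30685 = n25777 := d13_1 D30685 (iv D25777) D25776
theorem F142605 : act 2 n30685 = n25878 := d20_1 D30685 (iv D25878) (iv F115722)
theorem F142606 : act 3 n30685 = n25801 := d26_1 D30685 F115813 (iv F134754)
theorem F142607 : act 8 n30685 = n26179 := d40_2 (iv F115724) D30685 (iv D26179)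
theorem F142608 : act 9 n30685 = n25783 := d41_2 (iv F115725) D30685 (iv D25783)
def n30686 : Q := act 5 n25777
theorem D30686 : act 5 n25777 = n30686 := rfl
theorem F142609 : act 2 n30686 = n25778 := d19_1 D30686 (iv D25778) (iv F115726)
theorem F142610 : act 3 n30686 = n25876 := d25_1 D30686 F116052 F135162
theorem F142611 : act 9 n30686 = n25784 := d38_2 (iv F115729) D30686 (iv D25784)
def n30687 : Q := act 7 n25777
theorem D30687 : act 7 n25777 = n30687 := rfl
theorem F142612 : act 2 n30687 = n25779 := d21_1 D30687 (iv D25779) (iv F115726)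
theorem F142613 : act 3 n30687 = n25912 := d27_1 D30687 F116151 F135162
theorem F142614 : act 8 n30687 = n26181 := d42_2 (iv F115728) D30687 (iv D26181)
theorem F142615 : act 9 n30687 = n25785 := d43_2 (iv F115729) D30687 (iv D25785)
def n30688 : Q := act 4 n25778
theorem D30688 : act 4 n25778 = n30688 := rfl
theorem F142616 : act 1 n30688 = n25881 := d11_1 D30688 (iv D25881) (iv F115730)
theorem F142617 : act 9 n30688 = n25786 := d34_2 (iv F115732) D30688 (iv D25786)
def n30689 : Q := act 7 n25778
theorem D30689 : act 7 n25778 = n30689 := rfl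
theorem F142618 : act 1 n30689 = n25882 := d14_1 D30689 (iv D25882) (iv F115730)
theorem F142619 : act 3 n30689 = n25780 := d27_1 D30689 (iv D25780) (iv F115731)
theorem F142620 : act 5 n30689 = n25779 := d36_1 D30689 (iv D25779) D25778
theorem F142621 : act 9 n30689 = n25787 := d43_2 (iv F115732) D30689 (iv D25787)
def n30690 : Q := act 8 n25778
theorem D30690 : act 8 n25778 = n30690 := rfl
theorem F142622 : act 1 n30690 = n25883 := d15_1 D30690 (iv D25883) (iv F115730)
theorem F142623 : act 3 n30690 = n25781 := d28_1 D30690 (iv D25781) (iv F115731)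
theorem F142624 : act 5 n30690 = n26184 := d37_1 D30690 (iv D26184) (iv D20634) (iv F91920) D25778
def n30691 : Q := act 6 n25780
theorem D30691 : act 6 n25780 = n30691 := rfl
theorem F142625 : act 1 n30691 = n25884 := d13_1 D30691 (iv D25884) (iv F115737)
theorem F142626 : act 2 n30691 = n27461 := d20_1 D30691 (iv D27461) (iv F115738)
theorem F142627 : act 9 n30691 = n25789 := d41_2 (iv F115740) D30691 (iv D25789)
def n30692 : Q := act 8 n25780
theorem D30692 : act 8 n25780 = n30692 := rfl
theorem F142628 : act 1 n30692 = n25885 := d15_1 D30692 (iv D25885) (iv F115737)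
theorem F142629 : act 2 n30692 = n27462 := d22_1 D30692 (iv D27462) (iv F115738)
theorem F142630 : act 5 n30692 = n26186 := d37_1 D30692 (iv D26186) F92973 (iv F91928) (iv F115739)
theorem F142631 : act 7 n30692 = n25781 := d42_1 D30692 (iv D25781) D25780
def n30693 : Q := act 7 n25783
theorem D30693 : act 7 n25783 = n30693 := rfl
theorem F142632 : act 1 n30693 = n25785 := d14_1 D30693 (iv D25785) (iv F115747)
theorem F142633 : act 2 n30693 = n25889 := d21_1 D30693 (iv D25889) (iv F115748)
theorem F142634 : act 3 n30693 = n25800 := d27_1 D30693 F115809 (iv F134744)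
theorem F142635 : act 6 n30693 = n25921 := d39_1 D30693 F116185 F92228 (iv F134103) D25783
theorem F142636 : act 8 n30693 = n25797 := d42_2 (iv F134745) D30693 (iv D25797)
def n30694 : Q := act 4 n25784
theorem D30694 : act 4 n25784 = n30694 := rfl
theorem F142637 : act 2 n30694 = n25786 := d18_1 D30694 (iv D25786) (iv F115751)
theorem F142638 : act 8 n30694 = n25871 := d33_2 (iv F134865) D30694 (iv D25871)
def n30695 : Q := act 7 n25784
theorem D30695 : act 7 n25784 = n30695 := rfl
theorem F142639 : act 2 n30695 = n25787 := d21_1 D30695 (iv D25787) (iv F115751)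
theorem F142640 : act 3 n30695 = n25875 := d27_1 D30695 F116050 F135161
theorem F142641 : act 5 n30695 = n25785 := d36_1 D30695 (iv D25785) D25784
theorem F142642 : act 8 n30695 = n25872 := d42_2 (iv F134865) D30695 (iv D25872)
def n30696 : Q := act 7 n25786
theorem D30696 : act 7 n25786 = n30696 := rfl
theorem F142643 : act 1 n30696 = n25893 := d14_1 D30696 (iv D25893) (iv F115756)
theorem F142644 : act 4 n30696 = n25787 := d32_1 D30696 (iv D25787) D25786
def n30697 : Q := act 8 n25786
theorem D30697 : act 8 n25786 = n30697 := rfl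
theorem F142645 : act 1 n30697 = n25894 := d15_1 D30697 (iv D25894) (iv F115756)
theorem F142646 : act 2 n30697 = n25871 := d22_1 D30697 (iv F142638) F142637
theorem F142647 : act 4 n30697 = n25788 := d33_1 D30697 (iv D25788) D25786
def n30698 : Q := act 6 n25787
theorem D30698 : act 6 n25787 = n30698 := rfl
theorem F142648 : act 1 n30698 = n25895 := d13_1 D30698 (iv D25895) (iv F115757)
theorem F142649 : act 3 n30698 = n25789 := d26_1 D30698 (iv D25789) (iv F115758)
def n30699 : Q := act 8 n25787
theorem D30699 : act 8 n25787 = n30699 := rfl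
theorem F142650 : act 1 n30699 = n25896 := d15_1 D30699 (iv D25896) (iv F115757)
theorem F142651 : act 2 n30699 = n25872 := d22_1 D30699 (iv F142642) F142639
theorem F142652 : act 3 n30699 = n25790 := d28_1 D30699 (iv D25790) (iv F115758)
theorem F142653 : act 5 n30699 = n25811 := d37_1 D30699 (iv D25811) F91993 (iv F91940) (iv F115759)
theorem F142654 : act 7 n30699 = n25788 := d42_1 D30699 (iv D25788) D25787
def n30700 : Q := act 8 n25789
theorem D30700 : act 8 n25789 = n30700 := rfl
theorem F142655 : act 1 n30700 = n25898 := d15_1 D30700 (iv D25898) (iv F115763)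
theorem F142656 : act 2 n30700 = n25998 := d22_1 D30700 F135426 (iv F115764)
theorem F142657 : act 6 n30700 = n25790 := d40_1 D30700 (iv D25790) D25789
theorem F142658 : act 5 n26024 = n30700 := d35_5 F142657 F115767 (iv F134729) (iv F92465) D26024
def n30701 : Q := act 9 n25800
theorem D30701 : act 9 n25800 = n30701 := rfl
theorem F142659 : act 1 n30701 = n25912 := d16_1 D30701 (iv D25912) (iv F115806)
theorem F142660 : act 2 n30701 = n26061 := d23_1 D30701 (iv D26061) (iv F134746)
theorem F142661 : act 4 n30701 = n30701 := d34_1 D30701 (iv D30701) F115808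
theorem F142662 : act 6 n30701 = n26059 := d41_1 D30701 (iv D26059) (iv F134747)
theorem F142663 : act 7 n30701 = n25801 := d43_1 D30701 (iv D25801) (iv F115809)
theorem F142664 : act 8 n30701 = n26209 := d44_1 D30701 (iv D26209) (iv D20656) (iv F91967) D25800
def n30702 : Q := act 1 n25829
theorem D30702 : act 1 n25829 = n30702 := rfl
theorem F142665 : act 3 n30702 = n30702 := d10_2 F115924 D30702 (iv D30702)
theorem F142666 : act 4 n30702 = n25845 := d11_2 (iv F115925) D30702 (iv D25845)
theorem F142667 : act 7 n30702 = n26602 := d14_2 F136225 D30702 F136228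
theorem F142668 : act 8 n30702 = n30702 := d15_2 F115926 D30702 (iv D30702)
theorem F142669 : act 9 n30702 = n25833 := d16_2 (iv F115927) D30702 (iv D25833)
def n30703 : Q := act 6 n25829
theorem D30703 : act 6 n25829 = n30703 := rfl
theorem F142670 : act 2 n30703 = n25830 := d20_1 D30703 (iv D25830) D25829
theorem F142671 : act 3 n30703 = n30703 := d26_1 D30703 (iv D30703) F115924
theorem F142672 : act 4 n30703 = n25846 := d31_1 D30703 (iv D25846) (iv F115925)
theorem F142673 : act 8 n30703 = n30703 := d40_2 F115926 D30703 (iv D30703)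
theorem F142674 : act 9 n30703 = n25834 := d41_2 (iv F115927) D30703 (iv D25834)
def n30704 : Q := act 5 n25830
theorem D30704 : act 5 n25830 = n30704 := rfl
theorem F142675 : act 3 n30704 = n25831 := d25_1 D30704 (iv D25831) (iv F115928)
theorem F142676 : act 9 n30704 = n25835 := d38_2 (iv F115931) D30704 (iv D25835)
def n30705 : Q := act 7 n25830
theorem D30705 : act 7 n25830 = n30705 := rfl
theorem F142677 : act 3 n30705 = n25832 := d27_1 D30705 (iv D25832) (iv F115928)
theorem F142678 : act 4 n30705 = n25848 := d32_1 D30705 (iv D25848) (iv F115929)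
theorem F142679 : act 8 n30705 = n30705 := d42_2 F115930 D30705 (iv D30705)
theorem F142680 : act 9 n30705 = n25836 := d43_2 (iv F115931) D30705 (iv D25836)
def n30706 : Q := act 7 n25831
theorem D30706 : act 7 n25831 = n30706 := rfl
theorem F142681 : act 2 n30706 = n30706 := d21_1 D30706 (iv D30706) F115932
theorem F142682 : act 5 n30706 = n25832 := d36_1 D30706 (iv D25832) D25831
theorem F142683 : act 9 n30706 = n25837 := d43_2 (iv F115933) D30706 (iv D25837)
def n30707 : Q := act 8 n25831
theorem D30707 : act 8 n25831 = n30707 := rfl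
theorem F142684 : act 2 n30707 = n30707 := d22_1 D30707 (iv D30707) F115932
theorem F142685 : act 5 n30707 = n30707 := d37_1 D30707 (iv D30707) (iv D25831) F92056 D25831
def n30708 : Q := act 6 n25833
theorem D30708 : act 6 n25833 = n30708 := rfl
theorem F142686 : act 1 n30708 = n25834 := d13_1 D30708 (iv D25834) D25833
theorem F142687 : act 3 n30708 = n30708 := d26_1 D30708 (iv D30708) F115938
theorem F142688 : act 4 n30708 = n25852 := d31_1 D30708 (iv D25852) (iv F115939)
theorem F142689 : act 8 n30708 = n26535 := d40_2 (iv F115940) D30708 (iv D26535)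
def n30709 : Q := act 5 n25834
theorem D30709 : act 5 n25834 = n30709 := rfl
theorem F142690 : act 2 n30709 = n25835 := d19_1 D30709 (iv D25835) (iv F115941)
theorem F142691 : act 3 n30709 = n30709 := d25_1 D30709 (iv D30709) F115942
def n30710 : Q := act 7 n25834
theorem D30710 : act 7 n25834 = n30710 := rfl
theorem F142692 : act 2 n30710 = n25836 := d21_1 D30710 (iv D25836) (iv F115941)
theorem F142693 : act 3 n30710 = n30710 := d27_1 D30710 (iv D30710) F115942
theorem F142694 : act 4 n30710 = n25854 := d32_1 D30710 (iv D25854) (iv F115943)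
theorem F142695 : act 8 n30710 = n26537 := d42_2 (iv F115944) D30710 (iv D26537)
def n30711 : Q := act 4 n25835
theorem D30711 : act 4 n25835 = n30711 := rfl
theorem F142696 : act 5 n30711 = n25855 := d30_2 D25835 D30711 (iv D25855) (iv D20385) (iv F92066)
def n30712 : Q := act 7 n25835
theorem D30712 : act 7 n25835 = n30712 := rfl
theorem F142697 : act 3 n30712 = n25837 := d27_1 D30712 (iv D25837) (iv F115945)
theorem F142698 : act 5 n30712 = n25836 := d36_1 D30712 (iv D25836) D25835
def n30713 : Q := act 8 n25835
theorem D30713 : act 8 n25835 = n30713 := rfl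
theorem F142699 : act 3 n30713 = n25838 := d28_1 D30713 (iv D25838) (iv F115945)
theorem F142700 : act 5 n30713 = n26540 := d37_1 D30713 (iv D26540) (iv D20927) (iv F92067) D25835
def n30714 : Q := act 6 n25837
theorem D30714 : act 6 n25837 = n30714 := rfl
theorem F142701 : act 2 n30714 = n30714 := d20_1 D30714 (iv D30714) F115949
def n30715 : Q := act 8 n25837
theorem D30715 : act 8 n25837 = n30715 := rfl
theorem F142702 : act 2 n30715 = n30715 := d22_1 D30715 (iv D30715) F115949
theorem F142703 : act 5 n30715 = n26542 := d37_1 D30715 (iv D26542) F94072 (iv F92071) (iv F115950)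
theorem F142704 : act 7 n30715 = n25838 := d42_1 D30715 (iv D25838) D25837
def n30716 : Q := act 9 n25838
theorem D30716 : act 9 n25838 = n30716 := rfl
theorem F142705 : act 2 n30716 = n30716 := d23_1 D30716 (iv D30716) F115951
theorem F142706 : act 5 n30716 = n26543 := d38_1 D30716 (iv D26543) (iv F115952)
def n30717 : Q := act 7 n25840
theorem D30717 : act 7 n25840 = n30717 := rfl
theorem F142707 : act 1 n30717 = n26563 := d14_1 D30717 F118635 (iv F134796)
theorem F142708 : act 2 n30717 = n25842 := d21_1 D30717 (iv D25842) (iv F115957)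
theorem F142709 : act 3 n30717 = n25950 := d27_1 D30717 (iv D25950) (iv F115958)
theorem F142710 : act 6 n30717 = n25854 := d39_1 D30717 (iv D25854) (iv D20384) (iv F92074) D25840
theorem F142711 : act 8 n30717 = n26457 := d42_2 (iv F134797) D30717 (iv D26457)
def n30718 : Q := act 4 n25841
theorem D30718 : act 4 n25841 = n30718 := rfl
theorem F142712 : act 6 n30718 = n25871 := d31_2 (iv F115961) D30718 (iv D25871)
def n30719 : Q := act 7 n25841
theorem D30719 : act 7 n25841 = n30719 := rfl
theorem F142713 : act 3 n30719 = n25843 := d27_1 D30719 (iv D25843) (iv F115960)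
theorem F142714 : act 5 n30719 = n25842 := d36_1 D30719 (iv D25842) D25841
def n30720 : Q := act 6 n25843
theorem D30720 : act 6 n25843 = n30720 := rfl
theorem F142715 : act 2 n30720 = n25954 := d20_1 D30720 (iv D25954) (iv F115965)
theorem F142716 : act 5 n30720 = n25858 := d35_1 D30720 (iv D25858) F92109 (iv F92082) (iv F115966)
theorem F142717 : act 7 n30720 = n25874 := d39_2 D25843 D30720 (iv D25874) (iv D20397) (iv F92079)
def n30721 : Q := act 8 n25843
theorem D30721 : act 8 n25843 = n30721 := rfl
theorem F142718 : act 2 n30721 = n25955 := d22_1 D30721 (iv D25955) (iv F115965)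
theorem F142719 : act 5 n30721 = n26552 := d37_1 D30721 (iv D26552) F94091 (iv F92083) (iv F115966)
theorem F142720 : act 7 n30721 = n25844 := d42_1 D30721 (iv D25844) D25843
def n30722 : Q := act 6 n25845
theorem D30722 : act 6 n25845 = n30722 := rfl
theorem F142721 : act 1 n30722 = n25846 := d13_1 D30722 (iv D25846) D25845
theorem F142722 : act 3 n30722 = n25958 := d26_1 D30722 (iv D25958) (iv F115970)
theorem F142723 : act 8 n30722 = n30722 := d40_2 F115972 D30722 (iv D30722)
theorem F142724 : act 9 n30722 = n25852 := d41_2 (iv F115973) D30722 (iv D25852)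
def n30723 : Q := act 5 n25846
theorem D30723 : act 5 n25846 = n30723 := rfl
theorem F142725 : act 2 n30723 = n25847 := d19_1 D30723 (iv D25847) (iv F115974)
theorem F142726 : act 3 n30723 = n25959 := d25_1 D30723 (iv D25959) (iv F115975)
theorem F142727 : act 6 n30723 = n25879 := d35_2 D25846 D30723 (iv D25879) (iv D20400) (iv F92085)
theorem F142728 : act 9 n30723 = n25853 := d38_2 (iv F115977) D30723 (iv D25853)
def n30724 : Q := act 7 n25846
theorem D30724 : act 7 n25846 = n30724 := rfl
theorem F142729 : act 2 n30724 = n25848 := d21_1 D30724 (iv D25848) (iv F115974)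
theorem F142730 : act 3 n30724 = n25960 := d27_1 D30724 (iv D25960) (iv F115975)
theorem F142731 : act 8 n30724 = n30724 := d42_2 F115976 D30724 (iv D30724)
theorem F142732 : act 9 n30724 = n25854 := d43_2 (iv F115977) D30724 (iv D25854)
def n30725 : Q := act 4 n25847
theorem D30725 : act 4 n25847 = n30725 := rfl
theorem F142733 : act 6 n30725 = n25881 := d31_2 (iv F115979) D30725 (iv D25881)
theorem F142734 : act 9 n30725 = n25855 := d34_2 (iv F115980) D30725 (iv D25855)
def n30726 : Q := act 7 n25847
theorem D30726 : act 7 n25847 = n30726 := rfl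
theorem F142735 : act 3 n30726 = n25849 := d27_1 D30726 (iv D25849) (iv F115978)
theorem F142736 : act 5 n30726 = n25848 := d36_1 D30726 (iv D25848) D25847
theorem F142737 : act 9 n30726 = n25856 := d43_2 (iv F115980) D30726 (iv D25856)
def n30727 : Q := act 8 n25847
theorem D30727 : act 8 n25847 = n30727 := rfl
theorem F142738 : act 3 n30727 = n25850 := d28_1 D30727 (iv D25850) (iv F115978)
theorem F142739 : act 5 n30727 = n30727 := d37_1 D30727 (iv D30727) (iv D25847) F92089 D25847
theorem F142740 : act 6 n30727 = n25883 := d40_1 D30727 (iv D25883) (iv F115979)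
def n30728 : Q := act 6 n25849
theorem D30728 : act 6 n25849 = n30728 := rfl
theorem F142741 : act 2 n30728 = n25964 := d20_1 D30728 (iv D25964) (iv F115984)
theorem F142742 : act 7 n30728 = n25884 := d39_2 D25849 D30728 (iv D25884) (iv D20403) (iv F92092)
theorem F142743 : act 9 n30728 = n25858 := d41_2 (iv F115986) D30728 (iv D25858)
def n30729 : Q := act 8 n25849
theorem D30729 : act 8 n25849 = n30729 := rfl
theorem F142744 : act 2 n30729 = n25965 := d22_1 D30729 (iv D25965) (iv F115984)
theorem F142745 : act 5 n30729 = n30729 := d37_1 D30729 (iv D30729) F115985 F92096 (iv F115985)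
theorem F142746 : act 7 n30729 = n25850 := d42_1 D30729 (iv D25850) D25849
def n30730 : Q := act 9 n25850
theorem D30730 : act 9 n25850 = n30730 := rfl
theorem F142747 : act 2 n30730 = n25966 := d23_1 D30730 (iv D25966) (iv F115987)
theorem F142748 : act 5 n30730 = n30730 := d38_1 D30730 (iv D30730) F115988
theorem F142749 : act 6 n30730 = n25886 := d41_1 D30730 (iv D25886) (iv F115989)
theorem F142750 : act 8 n30730 = n25860 := d44_1 D30730 (iv D25860) (iv D20388) (iv F92093) D25850
def n30731 : Q := act 5 n25852
theorem D30731 : act 5 n25852 = n30731 := rfl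
theorem F142751 : act 1 n30731 = n25853 := d12_1 D30731 (iv D25853) (iv F115993)
theorem F142752 : act 3 n30731 = n25968 := d25_1 D30731 (iv D25968) (iv F115994)
theorem F142753 : act 6 n30731 = n25888 := d35_2 D25852 D30731 (iv D25888) (iv D20406) (iv F92099)
def n30732 : Q := act 7 n25852
theorem D30732 : act 7 n25852 = n30732 := rfl
theorem F142754 : act 1 n30732 = n25854 := d14_1 D30732 (iv D25854) (iv F115993)
theorem F142755 : act 3 n30732 = n25969 := d27_1 D30732 (iv D25969) (iv F115994)
theorem F142756 : act 6 n30732 = n26563 := d39_1 D30732 F118635 F94115 F134774 D25852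
theorem F142757 : act 8 n30732 = n26556 := d42_2 (iv F115995) D30732 (iv D26556)
def n30733 : Q := act 4 n25853
theorem D30733 : act 4 n25853 = n30733 := rfl
theorem F142758 : act 2 n30733 = n25855 := d18_1 D30733 (iv D25855) (iv F115996)
theorem F142759 : act 6 n30733 = n25890 := d31_2 (iv F115998) D30733 (iv D25890)
def n30734 : Q := act 7 n25853
theorem D30734 : act 7 n25853 = n30734 := rfl
theorem F142760 : act 2 n30734 = n25856 := d21_1 D30734 (iv D25856) (iv F115996)
theorem F142761 : act 3 n30734 = n25971 := d27_1 D30734 (iv D25971) (iv F115997)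
theorem F142762 : act 5 n30734 = n25854 := d36_1 D30734 (iv D25854) D25853
def n30735 : Q := act 8 n25853
theorem D30735 : act 8 n25853 = n30735 := rfl
theorem F142763 : act 2 n30735 = n25857 := d22_1 D30735 (iv D25857) (iv F115996)
theorem F142764 : act 3 n30735 = n25972 := d28_1 D30735 (iv D25972) (iv F115997)
theorem F142765 : act 5 n30735 = n26559 := d37_1 D30735 (iv D26559) (iv D20939) (iv F92103) D25853
theorem F142766 : act 6 n30735 = n25892 := d40_1 D30735 (iv D25892) (iv F115998)
def n30736 : Q := act 7 n25855
theorem D30736 : act 7 n25855 = n30736 := rfl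
theorem F142767 : act 4 n30736 = n25856 := d32_1 D30736 (iv D25856) D25855
def n30737 : Q := act 8 n25855
theorem D30737 : act 8 n25855 = n30737 := rfl
theorem F142768 : act 4 n30737 = n25857 := d33_1 D30737 (iv D25857) D25855
theorem F142769 : act 6 n30737 = n25894 := d40_1 D30737 (iv D25894) (iv F116002)
def n30738 : Q := act 6 n25856
theorem D30738 : act 6 n25856 = n30738 := rfl
theorem F142770 : act 3 n30738 = n25858 := d26_1 D30738 (iv D25858) (iv F116003)
theorem F142771 : act 7 n30738 = n25895 := d39_2 D25856 D30738 (iv D25895) (iv D20410) (iv F92105)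
def n30739 : Q := act 8 n25856
theorem D30739 : act 8 n25856 = n30739 := rfl
theorem F142772 : act 3 n30739 = n25859 := d28_1 D30739 (iv D25859) (iv F116003)
theorem F142773 : act 5 n30739 = n26563 := d37_1 D30739 (iv D26563) F94112 (iv F92107) (iv F116004)
theorem F142774 : act 7 n30739 = n25857 := d42_1 D30739 (iv D25857) D25856
def n30740 : Q := act 9 n25857
theorem D30740 : act 9 n25857 = n30740 := rfl
theorem F142775 : act 3 n30740 = n25860 := d29_1 D30740 (iv D25860) (iv F116005)
theorem F142776 : act 5 n30740 = n26564 := d38_1 D30740 (iv D26564) (iv F116006)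
theorem F142777 : act 6 n30740 = n25897 := d41_1 D30740 (iv D25897) (iv F116007)
def n30741 : Q := act 8 n25858
theorem D30741 : act 8 n25858 = n30741 := rfl
theorem F142778 : act 2 n30741 = n25978 := d22_1 D30741 (iv D25978) (iv F116008)
theorem F142779 : act 6 n30741 = n25859 := d40_1 D30741 (iv D25859) D25858
theorem F142780 : act 7 n30741 = n25898 := d42_1 D30741 (iv D25898) (iv F116009)
def n30742 : Q := act 9 n25859
theorem D30742 : act 9 n25859 = n30742 := rfl
theorem F142781 : act 2 n30742 = n25979 := d23_1 D30742 (iv D25979) (iv F116010)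
theorem F142782 : act 5 n30742 = n26566 := d38_1 D30742 (iv D26566) (iv F116011)
theorem F142783 : act 7 n30742 = n25860 := d43_1 D30742 (iv D25860) (iv F116012)
def n30743 : Q := act 6 n25861
theorem D30743 : act 6 n25861 = n30743 := rfl
theorem F142784 : act 1 n30743 = n25862 := d13_1 D30743 (iv D25862) D25861
theorem F142785 : act 2 n30743 = n26564 := d20_1 D30743 F118637 (iv F135062)
theorem F142786 : act 3 n30743 = n25981 := d26_1 D30743 (iv D25981) (iv F116016)
theorem F142787 : act 8 n30743 = n30743 := d40_2 F116017 D30743 (iv D30743)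
theorem F142788 : act 9 n30743 = n26559 := d41_2 (iv F135064) D30743 F118624
def n30744 : Q := act 5 n25862
theorem D30744 : act 5 n25862 = n30744 := rfl
theorem F142789 : act 2 n30744 = n25863 := d19_1 D30744 (iv D25863) (iv F116018)
theorem F142790 : act 3 n30744 = n25982 := d25_1 D30744 (iv D25982) (iv F116019)
def n30745 : Q := act 7 n25862
theorem D30745 : act 7 n25862 = n30745 := rfl
theorem F142791 : act 2 n30745 = n25864 := d21_1 D30745 (iv D25864) (iv F116018)
theorem F142792 : act 3 n30745 = n25983 := d27_1 D30745 (iv D25983) (iv F116019)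
theorem F142793 : act 8 n30745 = n30745 := d42_2 F116020 D30745 (iv D30745)
def n30746 : Q := act 4 n25863
theorem D30746 : act 4 n25863 = n30746 := rfl
theorem F142794 : act 3 n30746 = n25871 := d24_1 D30746 (iv D25871) F92128 (iv F92118) (iv F116021)
def n30747 : Q := act 7 n25863
theorem D30747 : act 7 n25863 = n30747 := rfl
theorem F142795 : act 3 n30747 = n25865 := d27_1 D30747 (iv D25865) (iv F116021)
theorem F142796 : act 5 n30747 = n25864 := d36_1 D30747 (iv D25864) D25863
def n30748 : Q := act 8 n25863
theorem D30748 : act 8 n25863 = n30748 := rfl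
theorem F142797 : act 3 n30748 = n25866 := d28_1 D30748 (iv D25866) (iv F116021)
theorem F142798 : act 5 n30748 = n30748 := d37_1 D30748 (iv D30748) (iv D25863) F92116 D25863
def n30749 : Q := act 6 n25865
theorem D30749 : act 6 n25865 = n30749 := rfl
theorem F142799 : act 2 n30749 = n25987 := d20_1 D30749 (iv D25987) (iv F116024)
theorem F142800 : act 4 n30749 = n25874 := d31_1 D30749 (iv D25874) (iv F116025)
def n30750 : Q := act 8 n25865
theorem D30750 : act 8 n25865 = n30750 := rfl
theorem F142801 : act 2 n30750 = n25988 := d22_1 D30750 (iv D25988) (iv F116024)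
theorem F142802 : act 4 n30750 = n25875 := d33_1 D30750 (iv D25875) (iv F116025)
theorem F142803 : act 5 n30750 = n30750 := d37_1 D30750 (iv D30750) F116026 F92121 (iv F116026)
theorem F142804 : act 7 n30750 = n25866 := d42_1 D30750 (iv D25866) D25865
def n30751 : Q := act 9 n25866
theorem D30751 : act 9 n25866 = n30751 := rfl
theorem F142805 : act 2 n30751 = n25989 := d23_1 D30751 (iv D25989) (iv F116027)
theorem F142806 : act 4 n30751 = n25876 := d34_1 D30751 (iv D25876) (iv F116028)
theorem F142807 : act 5 n30751 = n30751 := d38_1 D30751 (iv D30751) F116029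
def n30752 : Q := act 7 n25871
theorem D30752 : act 7 n25871 = n30752 := rfl
theorem F142808 : act 4 n30752 = n25872 := d32_1 D30752 (iv D25872) D25871
def n30753 : Q := act 6 n25872
theorem D30753 : act 6 n25872 = n30753 := rfl
theorem F142809 : act 3 n30753 = n25874 := d26_1 D30753 (iv D25874) (iv F116042)
theorem F142810 : act 5 n30753 = n25895 := d35_1 D30753 (iv D25895) F92164 (iv F92130) (iv F116043)
def n30754 : Q := act 8 n25874
theorem D30754 : act 8 n25874 = n30754 := rfl
theorem F142811 : act 2 n30754 = n26001 := d22_1 D30754 (iv D26001) (iv F116046)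
theorem F142812 : act 6 n30754 = n25875 := d40_1 D30754 (iv D25875) D25874
def n30755 : Q := act 9 n25875
theorem D30755 : act 9 n25875 = n30755 := rfl
theorem F142813 : act 2 n30755 = n26002 := d23_1 D30755 (iv D26002) (iv F116048)
theorem F142814 : act 5 n30755 = n25912 := d38_1 D30755 (iv D25912) (iv F116049)
theorem F142815 : act 7 n30755 = n25876 := d43_1 D30755 (iv D25876) (iv F116050)
def n30756 : Q := act 5 n25878
theorem D30756 : act 5 n25878 = n30756 := rfl
theorem F142816 : act 1 n30756 = n25879 := d12_1 D30756 (iv D25879) (iv F116056)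
theorem F142817 : act 3 n30756 = n26004 := d25_1 D30756 (iv D26004) (iv F116057)
theorem F142818 : act 9 n30756 = n25888 := d38_2 (iv F116059) D30756 (iv D25888)
def n30757 : Q := act 7 n25878
theorem D30757 : act 7 n25878 = n30757 := rfl
theorem F142819 : act 1 n30757 = n25880 := d14_1 D30757 (iv D25880) (iv F116056)
theorem F142820 : act 3 n30757 = n25930 := d27_1 D30757 F134758 (iv F116057)
theorem F142821 : act 6 n30757 = n25928 := d39_1 D30757 F116206 F92241 (iv F134107) D25878
theorem F142822 : act 8 n30757 = n26245 := d42_2 (iv F116058) D30757 (iv D26245)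
theorem F142823 : act 9 n30757 = n25889 := d43_2 (iv F116059) D30757 (iv D25889)
def n30758 : Q := act 4 n25879
theorem D30758 : act 4 n25879 = n30758 := rfl
theorem F142824 : act 2 n30758 = n25881 := d18_1 D30758 (iv D25881) (iv F116060)
theorem F142825 : act 9 n30758 = n25890 := d34_2 (iv F116062) D30758 (iv D25890)
def n30759 : Q := act 7 n25879
theorem D30759 : act 7 n25879 = n30759 := rfl
theorem F142826 : act 2 n30759 = n25882 := d21_1 D30759 (iv D25882) (iv F116060)
theorem F142827 : act 3 n30759 = n26007 := d27_1 D30759 (iv D26007) (iv F116061)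
theorem F142828 : act 5 n30759 = n25880 := d36_1 D30759 (iv D25880) D25879
theorem F142829 : act 9 n30759 = n25891 := d43_2 (iv F116062) D30759 (iv D25891)
def n30760 : Q := act 8 n25879
theorem D30760 : act 8 n25879 = n30760 := rfl
theorem F142830 : act 2 n30760 = n25883 := d22_1 D30760 (iv D25883) (iv F116060)
theorem F142831 : act 3 n30760 = n26008 := d28_1 D30760 (iv D26008) (iv F116061)
theorem F142832 : act 5 n30760 = n26248 := d37_1 D30760 (iv D26248) (iv D20687) (iv F92141) D25879
def n30761 : Q := act 7 n25881
theorem D30761 : act 7 n25881 = n30761 := rfl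
theorem F142833 : act 4 n30761 = n25882 := d32_1 D30761 (iv D25882) D25881
theorem F142834 : act 9 n30761 = n25893 := d43_2 (iv F116067) D30761 (iv D25893)
def n30762 : Q := act 8 n25881
theorem D30762 : act 8 n25881 = n30762 := rfl
theorem F142835 : act 4 n30762 = n25883 := d33_1 D30762 (iv D25883) D25881
def n30763 : Q := act 6 n25882
theorem D30763 : act 6 n25882 = n30763 := rfl
theorem F142836 : act 3 n30763 = n25884 := d26_1 D30763 (iv D25884) (iv F116068)
theorem F142837 : act 9 n30763 = n25895 := d41_2 (iv F116070) D30763 (iv D25895)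
def n30764 : Q := act 8 n25882
theorem D30764 : act 8 n25882 = n30764 := rfl
theorem F142838 : act 3 n30764 = n25885 := d28_1 D30764 (iv D25885) (iv F116068)
theorem F142839 : act 5 n30764 = n26252 := d37_1 D30764 (iv D26252) F93173 (iv F92146) (iv F116069)
theorem F142840 : act 7 n30764 = n25883 := d42_1 D30764 (iv D25883) D25882
def n30765 : Q := act 9 n25883
theorem D30765 : act 9 n25883 = n30765 := rfl
theorem F142841 : act 3 n30765 = n25886 := d29_1 D30765 (iv D25886) (iv F116071)
theorem F142842 : act 5 n30765 = n26253 := d38_1 D30765 (iv D26253) (iv F116072)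
theorem F142843 : act 8 n30765 = n25897 := d44_1 D30765 (iv D25897) (iv D20411) (iv F92144) D25883
def n30766 : Q := act 8 n25884
theorem D30766 : act 8 n25884 = n30766 := rfl
theorem F142844 : act 2 n30766 = n26014 := d22_1 D30766 (iv D26014) (iv F116073)
theorem F142845 : act 6 n30766 = n25885 := d40_1 D30766 (iv D25885) D25884
def n30767 : Q := act 9 n25885
theorem D30767 : act 9 n25885 = n30767 := rfl
theorem F142846 : act 2 n30767 = n26015 := d23_1 D30767 (iv D26015) (iv F116075)
theorem F142847 : act 5 n30767 = n26255 := d38_1 D30767 (iv D26255) (iv F116076)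
theorem F142848 : act 7 n30767 = n25886 := d43_1 D30767 (iv D25886) (iv F116077)
theorem F142849 : act 8 n30767 = n25899 := d44_1 D30767 (iv D25899) (iv D20413) (iv F92150) D25885
def n30768 : Q := act 4 n25888
theorem D30768 : act 4 n25888 = n30768 := rfl
theorem F142850 : act 1 n30768 = n25890 := d11_1 D30768 (iv D25890) (iv F116084)
def n30769 : Q := act 7 n25888
theorem D30769 : act 7 n25888 = n30769 := rfl
theorem F142851 : act 1 n30769 = n25891 := d14_1 D30769 (iv D25891) (iv F116084)
theorem F142852 : act 3 n30769 = n25929 := d27_1 D30769 F134785 (iv F116085)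
theorem F142853 : act 5 n30769 = n25889 := d36_1 D30769 (iv D25889) D25888
def n30770 : Q := act 3 n25890
theorem D30770 : act 3 n25890 = n30770 := rfl
theorem F142854 : act 4 n30770 = n26021 := d24_2 D25890 D30770 (iv D26021) (iv D20501) (iv F92159)
def n30771 : Q := act 7 n25890
theorem D30771 : act 7 n25890 = n30771 := rfl
theorem F142855 : act 2 n30771 = n25893 := d21_1 D30771 (iv D25893) (iv F116089)
theorem F142856 : act 4 n30771 = n25891 := d32_1 D30771 (iv D25891) D25890
def n30772 : Q := act 8 n25890
theorem D30772 : act 8 n25890 = n30772 := rfl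
theorem F142857 : act 2 n30772 = n25894 := d22_1 D30772 (iv D25894) (iv F116089)
theorem F142858 : act 4 n30772 = n25892 := d33_1 D30772 (iv D25892) D25890
def n30773 : Q := act 6 n25891
theorem D30773 : act 6 n25891 = n30773 := rfl
theorem F142859 : act 2 n30773 = n25895 := d20_1 D30773 (iv D25895) (iv F116090)
theorem F142860 : act 3 n30773 = n26024 := d26_1 D30773 (iv D26024) (iv F116091)
def n30774 : Q := act 8 n25891
theorem D30774 : act 8 n25891 = n30774 := rfl
theorem F142861 : act 2 n30774 = n25896 := d22_1 D30774 (iv D25896) (iv F116090)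
theorem F142862 : act 3 n30774 = n26025 := d28_1 D30774 (iv D26025) (iv F116091)
theorem F142863 : act 5 n30774 = n25921 := d37_1 D30774 (iv D25921) F92224 (iv F92162) (iv F116092)
theorem F142864 : act 7 n30774 = n25892 := d42_1 D30774 (iv D25892) D25891
def n30775 : Q := act 9 n25892
theorem D30775 : act 9 n25892 = n30775 := rfl
theorem F142865 : act 2 n30775 = n25897 := d23_1 D30775 (iv D25897) (iv F116093)
theorem F142866 : act 3 n30775 = n26026 := d29_1 D30775 (iv D26026) (iv F116094)
theorem F142867 : act 5 n30775 = n25922 := d38_1 D30775 (iv D25922) (iv F116095)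
def n30776 : Q := act 6 n25893
theorem D30776 : act 6 n25893 = n30776 := rfl
theorem F142868 : act 4 n30776 = n25895 := d31_1 D30776 (iv D25895) (iv F116096)
def n30777 : Q := act 8 n25893
theorem D30777 : act 8 n25893 = n30777 := rfl
theorem F142869 : act 4 n30777 = n25896 := d33_1 D30777 (iv D25896) (iv F116096)
theorem F142870 : act 7 n30777 = n25894 := d42_1 D30777 (iv D25894) D25893
def n30778 : Q := act 5 n25894
theorem D30778 : act 5 n25894 = n30778 := rfl
theorem F142871 : act 4 n30778 = n25925 := d30_1 D30778 (iv D25925) F92233 (iv F92166) (iv F116097)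
def n30779 : Q := act 9 n25894
theorem D30779 : act 9 n25894 = n30779 := rfl
theorem F142872 : act 4 n30779 = n25897 := d34_1 D30779 (iv D25897) (iv F116097)
def n30780 : Q := act 8 n25895
theorem D30780 : act 8 n25895 = n30780 := rfl
theorem F142873 : act 3 n30780 = n25898 := d28_1 D30780 (iv D25898) (iv F116098)
theorem F142874 : act 6 n30780 = n25896 := d40_1 D30780 (iv D25896) D25895
def n30781 : Q := act 9 n25896
theorem D30781 : act 9 n25896 = n30781 := rfl
theorem F142875 : act 3 n30781 = n25899 := d29_1 D30781 (iv D25899) (iv F116099)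
theorem F142876 : act 5 n30781 = n25928 := d38_1 D30781 (iv D25928) (iv F116100)
theorem F142877 : act 7 n30781 = n25897 := d43_1 D30781 (iv D25897) (iv F116101)
def n30782 : Q := act 5 n25898
theorem D30782 : act 5 n25898 = n30782 := rfl
theorem F142878 : act 1 n30782 = n26024 := d12_1 D30782 F142658 F142655
theorem F142879 : act 2 n30782 = n26032 := d19_1 D30782 (iv D26032) (iv F116104)
theorem F142880 : act 6 n30782 = n25929 := d35_2 (iv F116105) D30782 (iv D25929) F92245 (iv F92169)
def n30783 : Q := act 9 n25898
theorem D30783 : act 9 n25898 = n30783 := rfl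
theorem F142881 : act 2 n30783 = n26033 := d23_1 D30783 (iv D26033) (iv F116104)
theorem F142882 : act 6 n30783 = n25899 := d41_1 D30783 (iv D25899) (iv F116105)
def n30784 : Q := act 5 n25911
theorem D30784 : act 5 n25911 = n30784 := rfl
theorem F142883 : act 1 n30784 = n26025 := d12_1 D30784 F116526 (iv F134761)
theorem F142884 : act 2 n30784 = n26051 := d19_1 D30784 (iv D26051) (iv F116145)
theorem F142885 : act 7 n30784 = n26020 := d36_2 (iv F134762) D30784 F116516
theorem F142886 : act 8 n30784 = n25929 := d37_2 D25911 D30784 (iv D25929) (iv D20436) (iv F92198)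
def n30785 : Q := act 9 n25911
theorem D30785 : act 9 n25911 = n30785 := rfl
theorem F142887 : act 1 n30785 = n26059 := d16_1 D30785 (iv D26059) (iv F134761)
theorem F142888 : act 2 n30785 = n25944 := d23_1 D30785 F134766 (iv F116145)
theorem F142889 : act 4 n30785 = n30785 := d34_1 D30785 (iv D30785) F116146
theorem F142890 : act 6 n30785 = n25912 := d41_1 D30785 (iv D25912) (iv F116147)
theorem F142891 : act 7 n30785 = n25942 := d43_1 D30785 F134778 (iv F134762)
theorem F142892 : act 8 n30785 = n26288 := d44_1 D30785 (iv D26288) (iv D20719) (iv F92200) D25911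
def n30786 : Q := act 8 n25918
theorem D30786 : act 8 n25918 = n30786 := rfl
theorem F142893 : act 2 n30786 = n25924 := d22_1 D30786 (iv D25924) (iv F116171)
theorem F142894 : act 3 n30786 = n30786 := d28_1 D30786 (iv D30786) F116172
theorem F142895 : act 4 n30786 = n25921 := d33_1 D30786 (iv D25921) (iv F116173)
theorem F142896 : act 7 n30786 = n25919 := d42_1 D30786 (iv D25919) D25918
def n30787 : Q := act 5 n25919
theorem D30787 : act 5 n25919 = n30787 := rfl
theorem F142897 : act 2 n30787 = n25925 := d19_1 D30787 (iv D25925) (iv F116175)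
theorem F142898 : act 3 n30787 = n30787 := d25_1 D30787 (iv D30787) F116176
def n30788 : Q := act 9 n25921
theorem D30788 : act 9 n25921 = n30788 := rfl
theorem F142899 : act 2 n30788 = n25928 := d23_1 D30788 (iv D25928) (iv F116183)
theorem F142900 : act 3 n30788 = n26059 := d29_1 D30788 (iv D26059) (iv F116184)
theorem F142901 : act 7 n30788 = n25922 := d43_1 D30788 (iv D25922) (iv F116185)
theorem F142902 : act 8 n30788 = n26302 := d44_1 D30788 (iv D26302) (iv D20729) (iv F92225) D25921
def n30789 : Q := act 5 n25924
theorem D30789 : act 5 n25924 = n30789 := rfl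
theorem F142903 : act 3 n30789 = n25933 := d25_1 D30789 (iv D25933) (iv F116194)
theorem F142904 : act 7 n30789 = n25925 := d36_2 (iv F116196) D30789 (iv D25925)
def n30790 : Q := act 6 n25925
theorem D30790 : act 6 n25925 = n30790 := rfl
theorem F142905 : act 3 n30790 = n25935 := d26_1 D30790 (iv D25935) (iv F116197)
theorem F142906 : act 5 n30790 = n26644 := d35_1 D30790 (iv D26644) (iv D21000) (iv F92234) D25925
def n30791 : Q := act 4 n25929
theorem D30791 : act 4 n25929 = n30791 := rfl
theorem F142907 : act 1 n30791 = n26022 := d11_1 D30791 F116519 (iv F134784)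
theorem F142908 : act 2 n30791 = n26062 := d18_1 D30791 (iv D26062) (iv F116208)
theorem F142909 : act 5 n30791 = n25939 := d30_2 D25929 D30791 (iv D25939) (iv D20444) (iv F92244)
theorem F142910 : act 7 n30791 = n26018 := d32_2 (iv F134785) D30791 (iv D26018)
def n30792 : Q := act 9 n25929
theorem D30792 : act 9 n25929 = n30792 := rfl
theorem F142911 : act 1 n30792 = n26007 := d16_1 D30792 F116475 (iv F134784)
theorem F142912 : act 2 n30792 = n26063 := d23_1 D30792 (iv D26063) (iv F116208)
theorem F142913 : act 5 n30792 = n25930 := d38_1 D30792 (iv D25930) D25929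
theorem F142914 : act 7 n30792 = n26004 := d43_1 D30792 F116464 (iv F134785)
def n30793 : Q := act 6 n25933
theorem D30793 : act 6 n25933 = n30793 := rfl
theorem F142915 : act 2 n30793 = n30793 := d20_1 D30793 (iv D30793) F116223
def n30794 : Q := act 7 n25935
theorem D30794 : act 7 n25935 = n30794 := rfl
theorem F142916 : act 2 n30794 = n30794 := d21_1 D30794 (iv D30794) F116229
theorem F142917 : act 5 n30794 = n26655 := d36_1 D30794 (iv D26655) (iv F116230)
def n30795 : Q := act 3 n25939
theorem D30795 : act 3 n25939 = n30795 := rfl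
theorem F142918 : act 1 n30795 = n26107 := d10_1 D30795 F116827 (iv F134802)
theorem F142919 : act 7 n30795 = n26104 := d27_2 (iv F134803) D30795 (iv D26104)
theorem F142920 : act 8 n30795 = n30795 := d28_2 F116244 D30795 (iv D30795)
def n30796 : Q := act 5 n25942
theorem D30796 : act 5 n25942 = n30796 := rfl
theorem F142921 : act 1 n30796 = n26026 := d12_1 D30796 F116529 (iv F134776)
theorem F142922 : act 2 n30796 = n25943 := d19_1 D30796 (iv D25943) (iv F116254)
theorem F142923 : act 6 n30796 = n25982 := d35_2 D25942 D30796 (iv D25982) (iv D20473) (iv F92279)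
theorem F142924 : act 9 n30796 = n26020 := d38_2 (iv F134778) D30796 F116516
def n30797 : Q := act 7 n25943
theorem D30797 : act 7 n25943 = n30797 := rfl
theorem F142925 : act 1 n30797 = n27562 := d14_1 D30797 (iv D27562) (iv F116258)
theorem F142926 : act 3 n30797 = n25945 := d27_1 D30797 (iv D25945) (iv F116259)
theorem F142927 : act 5 n30797 = n25944 := d36_1 D30797 (iv D25944) D25943
theorem F142928 : act 9 n30797 = n26051 := d43_2 (iv F135057) D30797 F116618
def n30798 : Q := act 6 n25945
theorem D30798 : act 6 n25945 = n30798 := rfl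
theorem F142929 : act 1 n30798 = n27564 := d13_1 D30798 (iv D27564) (iv F116268)
theorem F142930 : act 4 n30798 = n25954 := d31_1 D30798 (iv D25954) (iv F116269)
theorem F142931 : act 5 n30798 = n27461 := d35_1 D30798 (iv D27461) F97271 (iv F92294) (iv F116270)
theorem F142932 : act 7 n30798 = n25987 := d39_2 D25945 D30798 (iv D25987) (iv D20476) (iv F92290)
theorem F142933 : act 9 n30798 = n27451 := d41_2 (iv F116271) D30798 (iv D27451)
def n30799 : Q := act 8 n25945
theorem D30799 : act 8 n25945 = n30799 := rfl
theorem F142934 : act 1 n30799 = n27540 := d15_1 D30799 F135484 (iv F116268)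
theorem F142935 : act 4 n30799 = n25955 := d33_1 D30799 (iv D25955) (iv F116269)
theorem F142936 : act 5 n30799 = n27962 := d37_1 D30799 (iv D27962) F98939 (iv F92295) (iv F116270)
theorem F142937 : act 7 n30799 = n25946 := d42_1 D30799 (iv D25946) D25945
def n30800 : Q := act 6 n25952
theorem D30800 : act 6 n25952 = n30800 := rfl
theorem F142938 : act 1 n30800 = n27545 := d13_1 D30800 F122796 (iv F135433)
theorem F142939 : act 3 n30800 = n25954 := d26_1 D30800 (iv D25954) (iv F116295)
theorem F142940 : act 5 n30800 = n25975 := d35_1 D30800 (iv D25975) F92360 (iv F92311) (iv F116296)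
theorem F142941 : act 7 n30800 = n25998 := d39_2 D25952 D30800 (iv D25998) (iv D20483) (iv F92307)
theorem F142942 : act 8 n30800 = n27441 := d40_2 (iv F135434) D30800 (iv D27441)
def n30801 : Q := act 8 n25954
theorem D30801 : act 8 n25954 = n30801 := rfl
theorem F142943 : act 1 n30801 = n27542 := d15_1 D30801 F135495 (iv F116301)
theorem F142944 : act 3 n30801 = n27441 := d28_1 D30801 (iv F142942) F142939
theorem F142945 : act 6 n30801 = n25955 := d40_1 D30801 (iv D25955) D25954
theorem F142946 : act 7 n30801 = n26001 := d42_1 D30801 (iv D26001) (iv F116303)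
def n30802 : Q := act 5 n25958
theorem D30802 : act 5 n25958 = n30802 := rfl
theorem F142947 : act 1 n30802 = n25959 := d12_1 D30802 (iv D25959) (iv F116315)
theorem F142948 : act 2 n30802 = n26754 := d19_1 D30802 F119301 (iv F134756)
theorem F142949 : act 6 n30802 = n26004 := d35_2 D25958 D30802 (iv D26004) (iv D20489) (iv F92320)
theorem F142950 : act 9 n30802 = n25968 := d38_2 (iv F116319) D30802 (iv D25968)
def n30803 : Q := act 7 n25958
theorem D30803 : act 7 n25958 = n30803 := rfl
theorem F142951 : act 1 n30803 = n25960 := d14_1 D30803 (iv D25960) (iv F116315)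
theorem F142952 : act 2 n30803 = n26702 := d21_1 D30803 F119114 (iv F134756)
theorem F142953 : act 4 n30803 = n30803 := d32_1 D30803 (iv D30803) F116317
theorem F142954 : act 6 n30803 = n26566 := d39_1 D30803 F118645 F94125 (iv F134108) D25958
theorem F142955 : act 8 n30803 = n30803 := d42_2 F116318 D30803 (iv D30803)
theorem F142956 : act 9 n30803 = n25969 := d43_2 (iv F116319) D30803 (iv D25969)
def n30804 : Q := act 4 n25959
theorem D30804 : act 4 n25959 = n30804 := rfl
theorem F142957 : act 2 n30804 = n25961 := d18_1 D30804 (iv D25961) (iv F116320)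
theorem F142958 : act 5 n30804 = n30804 := d30_2 D25959 D30804 (iv D30804) (iv D25959) F92324
theorem F142959 : act 6 n30804 = n26006 := d31_2 (iv F116321) D30804 (iv D26006)
theorem F142960 : act 9 n30804 = n25970 := d34_2 (iv F116322) D30804 (iv D25970)
def n30805 : Q := act 7 n25959
theorem D30805 : act 7 n25959 = n30805 := rfl
theorem F142961 : act 2 n30805 = n25962 := d21_1 D30805 (iv D25962) (iv F116320)
theorem F142962 : act 5 n30805 = n25960 := d36_1 D30805 (iv D25960) D25959
theorem F142963 : act 9 n30805 = n25971 := d43_2 (iv F116322) D30805 (iv D25971)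
def n30806 : Q := act 8 n25959
theorem D30806 : act 8 n25959 = n30806 := rfl
theorem F142964 : act 2 n30806 = n25963 := d22_1 D30806 (iv D25963) (iv F116320)
theorem F142965 : act 5 n30806 = n30806 := d37_1 D30806 (iv D30806) (iv D25959) F92325 D25959
theorem F142966 : act 6 n30806 = n26008 := d40_1 D30806 (iv D26008) (iv F116321)
def n30807 : Q := act 7 n25961
theorem D30807 : act 7 n25961 = n30807 := rfl
theorem F142967 : act 1 n30807 = n27675 := d14_1 D30807 (iv D27675) (iv F116327)
theorem F142968 : act 4 n30807 = n25962 := d32_1 D30807 (iv D25962) D25961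
theorem F142969 : act 5 n30807 = n30807 := d36_1 D30807 (iv D30807) F116328
theorem F142970 : act 9 n30807 = n25973 := d43_2 (iv F116330) D30807 (iv D25973)
def n30808 : Q := act 8 n25961
theorem D30808 : act 8 n25961 = n30808 := rfl
theorem F142971 : act 1 n30808 = n27206 := d15_1 D30808 (iv F121290) (iv F116327)
theorem F142972 : act 3 n30808 = n27295 := d28_1 D30808 F142002 F141998
theorem F142973 : act 4 n30808 = n25963 := d33_1 D30808 (iv D25963) D25961
theorem F142974 : act 6 n30808 = n26010 := d40_1 D30808 (iv D26010) (iv F116329)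
theorem F142975 : act 5 n27205 = n30808 := d35_5 F142974 F116484 (iv D21544) (iv F96303) D27205
theorem F142976 : act 9 n30808 = n27215 := d38_2 (iv F121283) F142975 (iv D27215)
def n30809 : Q := act 6 n25962
theorem D30809 : act 6 n25962 = n30809 := rfl
theorem F142977 : act 1 n30809 = n27676 := d13_1 D30809 (iv D27676) (iv F116331)
theorem F142978 : act 3 n30809 = n25964 := d26_1 D30809 (iv D25964) (iv F116332)
theorem F142979 : act 7 n30809 = n26011 := d39_2 D25962 D30809 (iv D26011) (iv D20493) (iv F92329)
theorem F142980 : act 9 n30809 = n25975 := d41_2 (iv F116334) D30809 (iv D25975)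
def n30810 : Q := act 8 n25962
theorem D30810 : act 8 n25962 = n30810 := rfl
theorem F142981 : act 1 n30810 = n27677 := d15_1 D30810 (iv D27677) (iv F116331)
theorem F142982 : act 3 n30810 = n25965 := d28_1 D30810 (iv D25965) (iv F116332)
theorem F142983 : act 5 n30810 = n30810 := d37_1 D30810 (iv D30810) F116333 F92334 (iv F116333)
theorem F142984 : act 7 n30810 = n25963 := d42_1 D30810 (iv D25963) D25962
def n30811 : Q := act 9 n25963
theorem D30811 : act 9 n25963 = n30811 := rfl
theorem F142985 : act 1 n30811 = n27217 := d16_1 D30811 F121350 (iv F116335)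
theorem F142986 : act 3 n30811 = n25966 := d29_1 D30811 (iv D25966) (iv F116336)
theorem F142987 : act 4 n30811 = n27215 := d34_1 D30811 (iv F142976) F142973
theorem F142988 : act 5 n30811 = n30811 := d38_1 D30811 (iv D30811) F116337
theorem F142989 : act 6 n30811 = n26013 := d41_1 D30811 (iv D26013) (iv F116338)
theorem F142990 : act 8 n30811 = n25977 := d44_1 D30811 (iv D25977) (iv D20468) (iv F92330) D25963
def n30812 : Q := act 8 n25964
theorem D30812 : act 8 n25964 = n30812 := rfl
theorem F142991 : act 1 n30812 = n27678 := d15_1 D30812 (iv D27678) (iv F116339)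
theorem F142992 : act 6 n30812 = n25965 := d40_1 D30812 (iv D25965) D25964
theorem F142993 : act 7 n30812 = n26014 := d42_1 D30812 (iv D26014) (iv F116340)
def n30813 : Q := act 9 n25965
theorem D30813 : act 9 n25965 = n30813 := rfl
theorem F142994 : act 1 n30813 = n27679 := d16_1 D30813 (iv D27679) (iv F116342)
theorem F142995 : act 5 n30813 = n30813 := d38_1 D30813 (iv D30813) F116343
theorem F142996 : act 7 n30813 = n25966 := d43_1 D30813 (iv D25966) (iv F116344)
theorem F142997 : act 8 n30813 = n25979 := d44_1 D30813 (iv D25979) (iv D20470) (iv F92338) D25965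
def n30814 : Q := act 4 n25968
theorem D30814 : act 4 n25968 = n30814 := rfl
theorem F142998 : act 1 n30814 = n25970 := d11_1 D30814 (iv D25970) (iv F116353)
theorem F142999 : act 2 n30814 = n26753 := d18_1 D30814 (iv D26753) F135056
theorem F143000 : act 5 n30814 = n30814 := d30_2 D25968 D30814 (iv D30814) (iv D25968) F92348
theorem F143001 : act 6 n30814 = n26018 := d31_2 (iv F116355) D30814 (iv D26018)
def n30815 : Q := act 7 n25968
theorem D30815 : act 7 n25968 = n30815 := rfl
theorem F143002 : act 1 n30815 = n25971 := d14_1 D30815 (iv D25971) (iv F116353)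
theorem F143003 : act 2 n30815 = n26701 := d21_1 D30815 F119110 F135056
theorem F143004 : act 5 n30815 = n25969 := d36_1 D30815 (iv D25969) D25968
def n30816 : Q := act 3 n25970
theorem D30816 : act 3 n25970 = n30816 := rfl
theorem F143005 : act 5 n30816 = n30816 := d25_2 F116361 D30816 (iv D30816)
theorem F143006 : act 6 n30816 = n26021 := d26_2 (iv F116362) D30816 (iv D26021)
def n30817 : Q := act 7 n25970
theorem D30817 : act 7 n25970 = n30817 := rfl
theorem F143007 : act 2 n30817 = n25973 := d21_1 D30817 (iv D25973) (iv F116360)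
theorem F143008 : act 4 n30817 = n25971 := d32_1 D30817 (iv D25971) D25970
theorem F143009 : act 5 n30817 = n30817 := d36_1 D30817 (iv D30817) F116361
def n30818 : Q := act 8 n25970
theorem D30818 : act 8 n25970 = n30818 := rfl
theorem F143010 : act 2 n30818 = n25974 := d22_1 D30818 (iv D25974) (iv F116360)
theorem F143011 : act 4 n30818 = n25972 := d33_1 D30818 (iv D25972) D25970
theorem F143012 : act 6 n30818 = n26023 := d40_1 D30818 (iv D26023) (iv F116362)
def n30819 : Q := act 6 n25971
theorem D30819 : act 6 n25971 = n30819 := rfl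
theorem F143013 : act 2 n30819 = n25975 := d20_1 D30819 (iv D25975) (iv F116363)
theorem F143014 : act 7 n30819 = n26024 := d39_2 D25971 D30819 (iv D26024) (iv D20502) (iv F92351)
def n30820 : Q := act 8 n25971
theorem D30820 : act 8 n25971 = n30820 := rfl
theorem F143015 : act 2 n30820 = n25976 := d22_1 D30820 (iv D25976) (iv F116363)
theorem F143016 : act 5 n30820 = n26693 := d37_1 D30820 (iv D26693) F94431 (iv F92354) (iv F116364)
theorem F143017 : act 7 n30820 = n25972 := d42_1 D30820 (iv D25972) D25971
def n30821 : Q := act 9 n25972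
theorem D30821 : act 9 n25972 = n30821 := rfl
theorem F143018 : act 1 n30821 = n25982 := d16_1 D30821 (iv F135926) F135922
theorem F143019 : act 2 n30821 = n25977 := d23_1 D30821 (iv D25977) (iv F116365)
theorem F143020 : act 5 n30821 = n25981 := d38_1 D30821 F135052 (iv F116366)
theorem F143021 : act 6 n30821 = n26026 := d41_1 D30821 (iv D26026) (iv F116367)
def n30822 : Q := act 6 n25973
theorem D30822 : act 6 n25973 = n30822 := rfl
theorem F143022 : act 1 n30822 = n27688 := d13_1 D30822 (iv D27688) (iv F116368)
theorem F143023 : act 4 n30822 = n25975 := d31_1 D30822 (iv D25975) (iv F116369)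
theorem F143024 : act 7 n30822 = n26027 := d39_2 D25973 D30822 (iv D26027) (iv D20504) (iv F92357)
def n30823 : Q := act 8 n25973
theorem D30823 : act 8 n25973 = n30823 := rfl
theorem F143025 : act 1 n30823 = n27689 := d15_1 D30823 (iv D27689) (iv F116368)
theorem F143026 : act 4 n30823 = n25976 := d33_1 D30823 (iv D25976) (iv F116369)
theorem F143027 : act 7 n30823 = n25974 := d42_1 D30823 (iv D25974) D25973
def n30824 : Q := act 5 n25974
theorem D30824 : act 5 n25974 = n30824 := rfl
theorem F143028 : act 1 n30824 = n27244 := d12_1 D30824 F121490 (iv F116371)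
theorem F143029 : act 3 n30824 = n27327 := d25_1 D30824 F142056 F142052
theorem F143030 : act 4 n30824 = n26697 := d30_1 D30824 (iv D26697) F94442 (iv F92363) (iv F116372)
theorem F143031 : act 6 n30824 = n30824 := d35_2 (iv F116373) D30824 (iv D30824) F116373 F92473
theorem F143032 : act 8 n30824 = n30824 := d37_2 D25974 D30824 (iv D30824) (iv D25974) F92356
theorem F143033 : act 9 n27239 = n30824 := d34_0 F143030 F135037 (iv F135547)
def n30825 : Q := act 9 n25974
theorem D30825 : act 9 n25974 = n30825 := rfl
theorem F143034 : act 1 n30825 = n27219 := d16_1 D30825 F121362 (iv F116371)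
theorem F143035 : act 3 n30825 = n27307 := d29_1 D30825 (iv F142055) F142052
theorem F143036 : act 4 n30825 = n25977 := d34_1 D30825 (iv D25977) (iv F116372)
theorem F143037 : act 5 n30825 = n27239 := d38_1 D30825 F143033 (iv D30824)
theorem F143038 : act 6 n30825 = n26029 := d41_1 D30825 (iv D26029) (iv F116373)
theorem F143039 : act 8 n30825 = n27215 := d44_1 D30825 (iv F142976) (iv D30808) F116330 D25974
def n30826 : Q := act 8 n25975
theorem D30826 : act 8 n25975 = n30826 := rfl
theorem F143040 : act 1 n30826 = n27690 := d15_1 D30826 (iv D27690) (iv F116374)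
theorem F143041 : act 3 n30826 = n25978 := d28_1 D30826 (iv D25978) (iv F116375)
theorem F143042 : act 6 n30826 = n25976 := d40_1 D30826 (iv D25976) D25975
theorem F143043 : act 7 n30826 = n26030 := d42_1 D30826 (iv D26030) (iv F116376)
def n30827 : Q := act 9 n25976
theorem D30827 : act 9 n25976 = n30827 := rfl
theorem F143044 : act 1 n30827 = n27691 := d16_1 D30827 (iv D27691) (iv F116377)
theorem F143045 : act 3 n30827 = n25979 := d29_1 D30827 (iv D25979) (iv F116378)
theorem F143046 : act 5 n30827 = n26700 := d38_1 D30827 (iv D26700) (iv F116379)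
theorem F143047 : act 7 n30827 = n25977 := d43_1 D30827 (iv D25977) (iv F116380)
def n30828 : Q := act 5 n25978
theorem D30828 : act 5 n25978 = n30828 := rfl
theorem F143048 : act 1 n30828 = n27686 := d12_1 D30828 F135507 (iv F116385)
theorem F143049 : act 6 n30828 = n26701 := d35_2 (iv F116386) D30828 (iv D26701) F94457 (iv F92368)
theorem F143050 : act 7 n30828 = n26032 := d36_2 (iv F116387) D30828 (iv D26032)
def n30829 : Q := act 9 n25978
theorem D30829 : act 9 n25978 = n30829 := rfl
theorem F143051 : act 1 n30829 = n27693 := d16_1 D30829 (iv D27693) (iv F116385)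
theorem F143052 : act 6 n30829 = n25979 := d41_1 D30829 (iv D25979) (iv F116386)
theorem F143053 : act 7 n30829 = n26033 := d43_1 D30829 (iv D26033) (iv F116387)
def n30830 : Q := act 7 n25981
theorem D30830 : act 7 n25981 = n30830 := rfl
theorem F143054 : act 1 n30830 = n25983 := d14_1 D30830 (iv D25983) (iv F116394)
theorem F143055 : act 2 n30830 = n26700 := d21_1 D30830 F119107 (iv F135051)
theorem F143056 : act 4 n30830 = n26069 := d32_1 D30830 (iv D26069) (iv F116396)
theorem F143057 : act 8 n30830 = n30830 := d42_2 F116397 D30830 (iv D30830)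
theorem F143058 : act 9 n30830 = n26693 := d43_2 (iv F135052) D30830 F119079
def n30831 : Q := act 4 n25982
theorem D30831 : act 4 n25982 = n30831 := rfl
theorem F143059 : act 2 n30831 = n25984 := d18_1 D30831 (iv D25984) (iv F116398)
theorem F143060 : act 5 n30831 = n26070 := d30_2 D25982 D30831 (iv D26070) (iv D20539) (iv F92377)
theorem F143061 : act 8 n27139 = n30831 := d37_0 F143060 F135533 (iv D21450) (iv F96122) D27139
def n30832 : Q := act 7 n25982
theorem D30832 : act 7 n25982 = n30832 := rfl
theorem F143062 : act 2 n30832 = n25985 := d21_1 D30832 (iv D25985) (iv F116398)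
theorem F143063 : act 5 n30832 = n25983 := d36_1 D30832 (iv D25983) D25982
def n30833 : Q := act 8 n25982
theorem D30833 : act 8 n25982 = n30833 := rfl
theorem F143064 : act 2 n30833 = n25986 := d22_1 D30833 (iv D25986) (iv F116398)
theorem F143065 : act 4 n30833 = n27139 := d33_1 D30833 F143061 (iv D30831)
theorem F143066 : act 5 n30833 = n30833 := d37_1 D30833 (iv D30833) (iv D25982) F92378 D25982
def n30834 : Q := act 7 n25984
theorem D30834 : act 7 n25984 = n30834 := rfl
theorem F143067 : act 1 n30834 = n27223 := d14_1 D30834 F121379 (iv F135428)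
theorem F143068 : act 3 n30834 = n25996 := d27_1 D30834 (iv D25996) (iv F116403)
theorem F143069 : act 4 n30834 = n25985 := d32_1 D30834 (iv D25985) D25984
theorem F143070 : act 5 n30834 = n26073 := d36_1 D30834 (iv D26073) (iv F116404)
theorem F143071 : act 8 n30834 = n27142 := d42_2 (iv F135429) D30834 (iv D27142)
def n30835 : Q := act 6 n25985
theorem D30835 : act 6 n25985 = n30835 := rfl
theorem F143072 : act 1 n30835 = n27702 := d13_1 D30835 (iv D27702) (iv F116405)
theorem F143073 : act 3 n30835 = n25987 := d26_1 D30835 (iv D25987) (iv F116406)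
def n30836 : Q := act 8 n25985
theorem D30836 : act 8 n25985 = n30836 := rfl
theorem F143074 : act 1 n30836 = n27220 := d15_1 D30836 F135496 (iv F116405)
theorem F143075 : act 3 n30836 = n25988 := d28_1 D30836 (iv D25988) (iv F116406)
theorem F143076 : act 4 n30836 = n27142 := d33_1 D30836 (iv F143071) F143069
theorem F143077 : act 5 n30836 = n30836 := d37_1 D30836 (iv D30836) F116407 F92384 (iv F116407)
theorem F143078 : act 7 n30836 = n25986 := d42_1 D30836 (iv D25986) D25985
def n30837 : Q := act 8 n25987
theorem D30837 : act 8 n25987 = n30837 := rfl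
theorem F143079 : act 1 n30837 = n27597 := d15_1 D30837 F135497 (iv F116411)
theorem F143080 : act 4 n30837 = n26001 := d33_1 D30837 (iv D26001) (iv F116412)
theorem F143081 : act 6 n30837 = n25988 := d40_1 D30837 (iv D25988) D25987
def n30838 : Q := act 9 n25988
theorem D30838 : act 9 n25988 = n30838 := rfl
theorem F143082 : act 1 n30838 = n27584 := d16_1 D30838 F122977 (iv F135408)
theorem F143083 : act 4 n30838 = n26002 := d34_1 D30838 (iv D26002) (iv F116414)
theorem F143084 : act 5 n30838 = n30838 := d38_1 D30838 (iv D30838) F116415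
theorem F143085 : act 7 n30838 = n25989 := d43_1 D30838 (iv D25989) (iv F116416)
def n30839 : Q := act 6 n25996
theorem D30839 : act 6 n25996 = n30839 := rfl
theorem F143086 : act 1 n30839 = n27225 := d13_1 D30839 F121390 (iv F135423)
theorem F143087 : act 4 n30839 = n25998 := d31_1 D30839 (iv D25998) (iv F116438)
theorem F143088 : act 8 n30839 = n27144 := d40_2 (iv F135424) D30839 (iv D27144)
def n30840 : Q := act 5 n26001
theorem D30840 : act 5 n26001 = n30840 := rfl
theorem F143089 : act 1 n30840 = n27575 := d12_1 D30840 F122940 (iv F135409)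
theorem F143090 : act 3 n30840 = n27451 := d25_1 D30840 F122437 (iv F135410)
theorem F143091 : act 6 n30840 = n26051 := d35_2 (iv F116453) D30840 (iv D26051) F92533 (iv F92415)
theorem F143092 : act 8 n30840 = n26032 := d37_2 D26001 D30840 (iv D26032) (iv D20509) (iv F92413)
def n30841 : Q := act 9 n26001
theorem D30841 : act 9 n26001 = n30841 := rfl
theorem F143093 : act 1 n30841 = n27585 := d16_1 D30841 F122980 (iv F135409)
theorem F143094 : act 3 n30841 = n27461 := d29_1 D30841 F122469 (iv F135410)
theorem F143095 : act 6 n30841 = n26002 := d41_1 D30841 (iv D26002) (iv F116453)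
def n30842 : Q := act 3 n26006
theorem D30842 : act 3 n26006 = n30842 := rfl
theorem F143096 : act 5 n30842 = n26095 := d25_2 (iv F116471) D30842 (iv D26095)
theorem F143097 : act 9 n30842 = n26021 := d29_2 (iv F116472) D30842 (iv D26021)
def n30843 : Q := act 7 n26006
theorem D30843 : act 7 n26006 = n30843 := rfl
theorem F143098 : act 2 n30843 = n26009 := d21_1 D30843 (iv D26009) (iv F116470)
theorem F143099 : act 4 n30843 = n26007 := d32_1 D30843 (iv D26007) D26006
theorem F143100 : act 5 n30843 = n26096 := d36_1 D30843 (iv D26096) (iv F116471)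
theorem F143101 : act 9 n30843 = n26022 := d43_2 (iv F116472) D30843 (iv D26022)
def n30844 : Q := act 6 n26007
theorem D30844 : act 6 n26007 = n30844 := rfl
theorem F143102 : act 2 n30844 = n26011 := d20_1 D30844 (iv D26011) (iv F116473)
theorem F143103 : act 9 n30844 = n26024 := d41_2 (iv F116475) D30844 (iv D26024)
def n30845 : Q := act 8 n26007
theorem D30845 : act 8 n26007 = n30845 := rfl
theorem F143104 : act 2 n30845 = n26012 := d22_1 D30845 (iv D26012) (iv F116473)
theorem F143105 : act 5 n30845 = n26330 := d37_1 D30845 (iv D26330) F93369 (iv F92432) (iv F116474)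
theorem F143106 : act 7 n30845 = n26008 := d42_1 D30845 (iv D26008) D26007
def n30846 : Q := act 9 n26008
theorem D30846 : act 9 n26008 = n30846 := rfl
theorem F143107 : act 2 n30846 = n26013 := d23_1 D30846 (iv D26013) (iv F116476)
theorem F143108 : act 5 n30846 = n26331 := d38_1 D30846 (iv D26331) (iv F116477)
theorem F143109 : act 8 n30846 = n26026 := d44_1 D30846 (iv D26026) (iv D20503) (iv F92429) D26008
def n30847 : Q := act 6 n26009
theorem D30847 : act 6 n26009 = n30847 := rfl
theorem F143110 : act 1 n30847 = n27743 := d13_1 D30847 (iv D27743) (iv F116478)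
theorem F143111 : act 4 n30847 = n26011 := d31_1 D30847 (iv D26011) (iv F116479)
theorem F143112 : act 9 n30847 = n26027 := d41_2 (iv F116481) D30847 (iv D26027)
def n30848 : Q := act 8 n26009
theorem D30848 : act 8 n26009 = n30848 := rfl
theorem F143113 : act 1 n30848 = n27288 := d15_1 D30848 F121723 (iv F116478)
theorem F143114 : act 4 n30848 = n26012 := d33_1 D30848 (iv D26012) (iv F116479)
theorem F143115 : act 5 n30848 = n27287 := d37_1 D30848 F121718 F116801 (iv D26100) (iv F116480)
theorem F143116 : act 7 n30848 = n26010 := d42_1 D30848 (iv D26010) D26009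
def n30849 : Q := act 9 n26010
theorem D30849 : act 9 n26010 = n30849 := rfl
theorem F143117 : act 1 n30849 = n27186 := d16_1 D30849 F121165 (iv F116482)
theorem F143118 : act 3 n30849 = n27264 := d29_1 D30849 F142219 F142215
theorem F143119 : act 4 n30849 = n26013 := d34_1 D30849 (iv D26013) (iv F116483)
theorem F143120 : act 5 n30849 = n27185 := d38_1 D30849 F121159 (iv F116484)
theorem F143121 : act 6 n30849 = n27215 := d41_1 D30849 (iv F142976) F142974
theorem F143122 : act 8 n30849 = n26029 := d44_1 D30849 (iv D26029) (iv D20505) (iv F92436) D26010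
def n30850 : Q := act 8 n26011
theorem D30850 : act 8 n26011 = n30850 := rfl
theorem F143123 : act 1 n30850 = n27744 := d15_1 D30850 (iv D27744) (iv F116485)
theorem F143124 : act 3 n30850 = n26014 := d28_1 D30850 (iv D26014) (iv F116486)
theorem F143125 : act 6 n30850 = n26012 := d40_1 D30850 (iv D26012) D26011
def n30851 : Q := act 9 n26012
theorem D30851 : act 9 n26012 = n30851 := rfl
theorem F143126 : act 1 n30851 = n27745 := d16_1 D30851 (iv D27745) (iv F116488)
theorem F143127 : act 3 n30851 = n26015 := d29_1 D30851 (iv D26015) (iv F116489)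
theorem F143128 : act 5 n30851 = n26336 := d38_1 D30851 (iv D26336) (iv F116490)
theorem F143129 : act 7 n30851 = n26013 := d43_1 D30851 (iv D26013) (iv F116491)
theorem F143130 : act 8 n30851 = n26031 := d44_1 D30851 (iv D26031) (iv D20507) (iv F92440) D26012
def n30852 : Q := act 5 n26014
theorem D30852 : act 5 n26014 = n30852 := rfl
theorem F143131 : act 1 n30852 = n27746 := d12_1 D30852 (iv D27746) (iv F116496)
theorem F143132 : act 6 n30852 = n26337 := d35_2 (iv F116497) D30852 (iv D26337) F93396 (iv F92447)
def n30853 : Q := act 9 n26014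
theorem D30853 : act 9 n26014 = n30853 := rfl
theorem F143133 : act 1 n30853 = n27747 := d16_1 D30853 (iv D27747) (iv F116496)
theorem F143134 : act 6 n30853 = n26015 := d41_1 D30853 (iv D26015) (iv F116497)
theorem F143135 : act 8 n30853 = n26033 := d44_1 D30853 (iv D26033) (iv D20509) (iv F92445) D26014
def n30854 : Q := act 3 n26018
theorem D30854 : act 3 n26018 = n30854 := rfl
theorem F143136 : act 1 n30854 = n26021 := d10_1 D30854 (iv D26021) (iv F116508)
theorem F143137 : act 5 n30854 = n26104 := d25_2 (iv F116510) D30854 (iv D26104)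
def n30855 : Q := act 8 n26018
theorem D30855 : act 8 n26018 = n30855 := rfl
theorem F143138 : act 1 n30855 = n26023 := d15_1 D30855 (iv D26023) (iv F116508)
theorem F143139 : act 2 n30855 = n26779 := d22_1 D30855 F119389 F135249
theorem F143140 : act 4 n30855 = n26020 := d33_1 D30855 (iv D26020) D26018
theorem F143141 : act 5 n30855 = n30855 := d37_1 D30855 (iv D30855) F116510 F92713 (iv F116510)
def n30856 : Q := act 7 n26021
theorem D30856 : act 7 n26021 = n30856 := rfl
theorem F143142 : act 3 n30856 = n26022 := d27_1 D30856 (iv D26022) D26021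
theorem F143143 : act 5 n30856 = n26107 := d36_1 D30856 (iv D26107) (iv F116517)
def n30857 : Q := act 8 n26021
theorem D30857 : act 8 n26021 = n30857 := rfl
theorem F143144 : act 3 n30857 = n26023 := d28_1 D30857 (iv D26023) D26021
theorem F143145 : act 5 n30857 = n30857 := d37_1 D30857 (iv D30857) F116517 F92719 (iv F116517)
def n30858 : Q := act 6 n26022
theorem D30858 : act 6 n26022 = n30858 := rfl
theorem F143146 : act 2 n30858 = n26027 := d20_1 D30858 (iv D26027) (iv F116518)
theorem F143147 : act 4 n30858 = n26024 := d31_1 D30858 (iv D26024) (iv F116519)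
def n30859 : Q := act 8 n26022
theorem D30859 : act 8 n26022 = n30859 := rfl
theorem F143148 : act 2 n30859 = n26028 := d22_1 D30859 (iv D26028) (iv F116518)
theorem F143149 : act 4 n30859 = n26025 := d33_1 D30859 (iv D26025) (iv F116519)
theorem F143150 : act 5 n30859 = n30859 := d37_1 D30859 (iv D30859) F116520 F92722 (iv F116520)
theorem F143151 : act 7 n30859 = n26023 := d42_1 D30859 (iv D26023) D26022
def n30860 : Q := act 9 n26023
theorem D30860 : act 9 n26023 = n30860 := rfl
theorem F143152 : act 2 n30860 = n26029 := d23_1 D30860 (iv D26029) (iv F116521)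
theorem F143153 : act 4 n30860 = n26026 := d34_1 D30860 (iv D26026) (iv F116522)
theorem F143154 : act 5 n30860 = n30860 := d38_1 D30860 (iv D30860) F116523
def n30861 : Q := act 8 n26024
theorem D30861 : act 8 n26024 = n30861 := rfl
theorem F143155 : act 2 n30861 = n26030 := d22_1 D30861 (iv D26030) (iv F116524)
theorem F143156 : act 6 n30861 = n26025 := d40_1 D30861 (iv D26025) D26024
def n30862 : Q := act 9 n26025
theorem D30862 : act 9 n26025 = n30862 := rfl
theorem F143157 : act 2 n30862 = n26031 := d23_1 D30862 (iv D26031) (iv F116525)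
theorem F143158 : act 5 n30862 = n26059 := d38_1 D30862 (iv D26059) (iv F116526)
theorem F143159 : act 7 n30862 = n26026 := d43_1 D30862 (iv D26026) (iv F116527)
def n30863 : Q := act 5 n26027
theorem D30863 : act 5 n26027 = n30863 := rfl
theorem F143160 : act 1 n30863 = n27760 := d12_1 D30863 (iv D27760) (iv F116530)
theorem F143161 : act 6 n30863 = n26109 := d35_2 D26027 D30863 (iv D26109) (iv D20575) (iv F92470)
def n30864 : Q := act 8 n26027
theorem D30864 : act 8 n26027 = n30864 := rfl
theorem F143162 : act 1 n30864 = n27761 := d15_1 D30864 (iv D27761) (iv F116530)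
theorem F143163 : act 4 n30864 = n26030 := d33_1 D30864 (iv D26030) (iv F116531)
theorem F143164 : act 6 n30864 = n26028 := d40_1 D30864 (iv D26028) D26027
def n30865 : Q := act 9 n26028
theorem D30865 : act 9 n26028 = n30865 := rfl
theorem F143165 : act 1 n30865 = n27762 := d16_1 D30865 (iv D27762) (iv F116532)
theorem F143166 : act 4 n30865 = n26031 := d34_1 D30865 (iv D26031) (iv F116533)
theorem F143167 : act 5 n30865 = n30865 := d38_1 D30865 (iv D30865) F116534
theorem F143168 : act 7 n30865 = n26029 := d43_1 D30865 (iv D26029) (iv F116535)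
def n30866 : Q := act 5 n26030
theorem D30866 : act 5 n26030 = n30866 := rfl
theorem F143169 : act 1 n30866 = n27578 := d12_1 D30866 F135462 (iv F116539)
theorem F143170 : act 3 n30866 = n26032 := d25_1 D30866 (iv D26032) (iv F116540)
theorem F143171 : act 6 n30866 = n26060 := d35_2 (iv F116541) D30866 (iv D26060) F92571 (iv F92478)
theorem F143172 : act 8 n30866 = n27451 := d37_2 D26030 D30866 F122437 (iv F135426) F116444
def n30867 : Q := act 9 n26030
theorem D30867 : act 9 n26030 = n30867 := rfl
theorem F143173 : act 1 n30867 = n27764 := d16_1 D30867 (iv D27764) (iv F116539)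
theorem F143174 : act 3 n30867 = n26033 := d29_1 D30867 (iv D26033) (iv F116540)
theorem F143175 : act 6 n30867 = n26031 := d41_1 D30867 (iv D26031) (iv F116541)
def n30868 : Q := act 4 n26032
theorem D30868 : act 4 n26032 = n30868 := rfl
theorem F143176 : act 1 n30868 = n27756 := d11_1 D30868 F123627 (iv F135512)
theorem F143177 : act 6 n30868 = n26062 := d31_2 (iv F116547) D30868 (iv D26062)
def n30869 : Q := act 9 n26032
theorem D30869 : act 9 n26032 = n30869 := rfl
theorem F143178 : act 1 n30869 = n27742 := d16_1 D30869 F123587 (iv F135512)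
theorem F143179 : act 5 n30869 = n26033 := d38_1 D30869 (iv D26033) D26032
theorem F143180 : act 6 n30869 = n26063 := d41_1 D30869 (iv D26063) (iv F116547)
def n30870 : Q := act 4 n26051
theorem D30870 : act 4 n26051 = n30870 := rfl
theorem F143181 : act 1 n30870 = n27573 := d11_1 D30870 F122934 F135205
theorem F143182 : act 5 n30870 = n30870 := d30_2 D26051 D30870 (iv D30870) (iv D26051) F92532
theorem F143183 : act 7 n30870 = n26779 := d32_2 (iv F116618) D30870 (iv D26779)
theorem F143184 : act 8 n30870 = n26062 := d33_2 (iv F116619) D30870 (iv D26062)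
def n30871 : Q := act 9 n26060
theorem D30871 : act 9 n26060 = n30871 := rfl
theorem F143185 : act 1 n30871 = n27579 := d16_1 D30871 (iv D27579) F135206
theorem F143186 : act 3 n30871 = n26063 := d29_1 D30871 (iv D26063) (iv F116657)
theorem F143187 : act 5 n30871 = n26061 := d38_1 D30871 (iv D26061) D26060
theorem F143188 : act 7 n30871 = n26789 := d43_1 D30871 (iv D26789) (iv F116658)
def n30872 : Q := act 5 n26067
theorem D30872 : act 5 n26067 = n30872 := rfl
theorem F143189 : act 0 n30872 = n26068 := d4_1 D30872 (iv D26068) (iv F116683)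
theorem F143190 : act 2 n30872 = n27815 := d19_1 D30872 (iv D27815) (iv F116684)
theorem F143191 : act 6 n30872 = n30872 := d35_2 D26067 D30872 (iv D30872) (iv D26067) F92593
def n30873 : Q := act 4 n26068
theorem D30873 : act 4 n26068 = n30873 := rfl
theorem F143192 : act 1 n30873 = n26070 := d11_1 D30873 (iv D26070) (iv F116686)
theorem F143193 : act 2 n30873 = n27239 := d18_1 D30873 F135547 (iv F116687)
theorem F143194 : act 6 n30873 = n30873 := d31_2 F116688 D30873 (iv D30873)
theorem F143195 : act 8 n27158 = n30873 := d22_0 F143193 (iv D27239) (iv F121046)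
def n30874 : Q := act 7 n26068
theorem D30874 : act 7 n26068 = n30874 := rfl
theorem F143196 : act 1 n30874 = n26071 := d14_1 D30874 (iv D26071) (iv F116686)
theorem F143197 : act 2 n30874 = n27818 := d21_1 D30874 (iv D27818) (iv F116687)
theorem F143198 : act 5 n30874 = n26069 := d36_1 D30874 (iv D26069) D26068
def n30875 : Q := act 8 n26068
theorem D30875 : act 8 n26068 = n30875 := rfl
theorem F143199 : act 1 n30875 = n26072 := d15_1 D30875 (iv D26072) (iv F116686)
theorem F143200 : act 2 n30875 = n27237 := d22_1 D30875 F135594 (iv F116687)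
theorem F143201 : act 4 n30875 = n27158 := d33_1 D30875 F143195 (iv D30873)
theorem F143202 : act 5 n30875 = n30875 := d37_1 D30875 (iv D30875) (iv D26068) F92597 D26068
theorem F143203 : act 6 n30875 = n30875 := d40_1 D30875 (iv D30875) F116688
theorem F143204 : act 9 n30875 = n30875 := d44_2 F136000 D30875 (iv D30875) (iv F136000) F135999
def n30876 : Q := act 7 n26070
theorem D30876 : act 7 n26070 = n30876 := rfl
theorem F143205 : act 2 n30876 = n26073 := d21_1 D30876 (iv D26073) (iv F116692)
theorem F143206 : act 4 n30876 = n26071 := d32_1 D30876 (iv D26071) D26070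
theorem F143207 : act 8 n30876 = n27161 := d42_2 (iv F135533) D30876 (iv D27161)
def n30877 : Q := act 6 n26071
theorem D30877 : act 6 n26071 = n30877 := rfl
theorem F143208 : act 2 n30877 = n26075 := d20_1 D30877 (iv D26075) (iv F116694)
theorem F143209 : act 7 n30877 = n30877 := d39_2 D26071 D30877 (iv D30877) (iv D26071) F92599
def n30878 : Q := act 8 n26071
theorem D30878 : act 8 n26071 = n30878 := rfl
theorem F143210 : act 2 n30878 = n26076 := d22_1 D30878 (iv D26076) (iv F116694)
theorem F143211 : act 4 n30878 = n27161 := d33_1 D30878 (iv F143207) F143206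
theorem F143212 : act 5 n30878 = n30878 := d37_1 D30878 (iv D30878) F116695 F92601 (iv F116695)
theorem F143213 : act 7 n30878 = n26072 := d42_1 D30878 (iv D26072) D26071
theorem F143214 : act 9 n30878 = n30878 := d44_2 F136011 D30878 (iv D30878) (iv F136011) F136010
def n30879 : Q := act 6 n26073
theorem D30879 : act 6 n26073 = n30879 := rfl
theorem F143215 : act 1 n30879 = n27249 := d13_1 D30879 F121518 (iv F135534)
theorem F143216 : act 3 n30879 = n26088 := d26_1 D30879 (iv D26088) (iv F116701)
theorem F143217 : act 4 n30879 = n26075 := d31_1 D30879 (iv D26075) (iv F116702)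
theorem F143218 : act 7 n30879 = n30879 := d39_2 D26073 D30879 (iv D30879) (iv D26073) F92604
theorem F143219 : act 8 n30879 = n27165 := d40_2 (iv F135535) D30879 (iv D27165)
def n30880 : Q := act 8 n26075
theorem D30880 : act 8 n26075 = n30880 := rfl
theorem F143220 : act 1 n30880 = n27245 := d15_1 D30880 F135593 (iv F116708)
theorem F143221 : act 3 n30880 = n26077 := d28_1 D30880 (iv D26077) (iv F116709)
theorem F143222 : act 4 n30880 = n27165 := d33_1 D30880 (iv F143219) F143217
theorem F143223 : act 6 n30880 = n26076 := d40_1 D30880 (iv D26076) D26075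
theorem F143224 : act 7 n30880 = n30880 := d42_1 D30880 (iv D30880) F116710
theorem F143225 : act 9 n30880 = n30880 := d44_2 F136023 D30880 (iv D30880) (iv F136023) F136022
def n30881 : Q := act 5 n26077
theorem D30881 : act 5 n26077 = n30881 := rfl
theorem F143226 : act 1 n30881 = n27253 := d12_1 D30881 (iv D27253) (iv F135590)
theorem F143227 : act 4 n30881 = n30881 := d30_1 D30881 (iv D30881) F116717 F92655 (iv F116717)
theorem F143228 : act 6 n30881 = n30881 := d35_2 (iv F116718) D30881 (iv D30881) F116718 F92618
theorem F143229 : act 7 n30881 = n30881 := d36_2 F116719 D30881 (iv D30881)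
theorem F143230 : act 9 n30881 = n30881 := d38_2 F116720 D30881 (iv D30881)
def n30882 : Q := act 5 n26088
theorem D30882 : act 5 n26088 = n30882 := rfl
theorem F143231 : act 1 n30882 = n27251 := d12_1 D30882 (iv D27251) (iv F135537)
theorem F143232 : act 4 n30882 = n26109 := d30_1 D30882 (iv D26109) F92727 (iv F92647) (iv F116754)
theorem F143233 : act 7 n30882 = n30882 := d36_2 F116755 D30882 (iv D30882)
def n30883 : Q := act 7 n26095
theorem D30883 : act 7 n26095 = n30883 := rfl
theorem F143234 : act 3 n30883 = n26096 := d27_1 D30883 (iv D26096) D26095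
theorem F143235 : act 9 n30883 = n26107 := d43_2 (iv F116782) D30883 (iv D26107)
def n30884 : Q := act 6 n26096
theorem D30884 : act 6 n26096 = n30884 := rfl
theorem F143236 : act 2 n30884 = n26099 := d20_1 D30884 (iv D26099) (iv F116783)
theorem F143237 : act 4 n30884 = n26097 := d31_1 D30884 (iv D26097) (iv F116784)
theorem F143238 : act 7 n30884 = n30884 := d39_2 D26096 D30884 (iv D30884) (iv D26096) F92672
theorem F143239 : act 9 n30884 = n26108 := d41_2 (iv F116785) D30884 (iv D26108)
def n30885 : Q := act 5 n26099
theorem D30885 : act 5 n26099 = n30885 := rfl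
theorem F143240 : act 1 n30885 = n27858 := d12_1 D30885 (iv D27858) (iv F116793)
theorem F143241 : act 7 n30885 = n30885 := d36_2 F116795 D30885 (iv D30885)
theorem F143242 : act 9 n30885 = n26109 := d38_2 (iv F116796) D30885 (iv D26109)
def n30886 : Q := act 8 n26099
theorem D30886 : act 8 n26099 = n30886 := rfl
theorem F143243 : act 1 n30886 = n27318 := d15_1 D30886 F121832 (iv F116793)
theorem F143244 : act 4 n30886 = n26101 := d33_1 D30886 (iv D26101) (iv F116794)
theorem F143245 : act 6 n30886 = n26100 := d40_1 D30886 (iv D26100) D26099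
theorem F143246 : act 7 n30886 = n30886 := d42_1 D30886 (iv D30886) F116795
theorem F143247 : act 9 n30886 = n30886 := d44_2 (iv F116796) D30886 (iv D30886) F116796 F92729
theorem F143248 : act 5 n27325 = n30886 := d35_5 F143245 (iv F116801) F96713 (iv F96759) D27325
def n30887 : Q := act 6 n26107
theorem D30887 : act 6 n26107 = n30887 := rfl
theorem F143249 : act 3 n30887 = n26108 := d26_1 D30887 (iv D26108) (iv F116827)
theorem F143250 : act 7 n30887 = n30887 := d39_2 D26107 D30887 (iv D30887) (iv D26107) F92718
theorem F143251 : act 8 n30887 = n30887 := d40_2 F116828 D30887 (iv D30887)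
def n30888 : Q := act 5 n26108
theorem D30888 : act 5 n26108 = n30888 := rfl
theorem F143252 : act 2 n30888 = n26109 := d19_1 D30888 (iv D26109) (iv F116829)
theorem F143253 : act 7 n30888 = n30888 := d36_2 F116831 D30888 (iv D30888)
def n30889 : Q := act 8 n26109
theorem D30889 : act 8 n26109 = n30889 := rfl
theorem F143254 : act 1 n30889 = n27863 := d15_1 D30889 (iv D27863) (iv F116833)
theorem F143255 : act 5 n30889 = n30889 := d37_1 D30889 (iv D30889) (iv D26109) F92729 D26109
theorem F143256 : act 7 n30889 = n30889 := d42_1 D30889 (iv D30889) F116834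
def n30890 : Q := act 7 n26179
theorem D30890 : act 7 n26179 = n30890 := rfl
theorem F143257 : act 1 n30890 = n26181 := d14_1 D30890 (iv D26181) (iv F117138)
theorem F143258 : act 2 n30890 = n26245 := d21_1 D30890 (iv D26245) (iv F117139)
theorem F143259 : act 3 n30890 = n26209 := d27_1 D30890 F117256 (iv F134820)
theorem F143260 : act 6 n30890 = n26302 := d39_1 D30890 F117587 F93291 (iv F134204) D26179
theorem F143261 : act 9 n30890 = n26190 := d43_2 (iv F117141) D30890 (iv D26190)
def n30891 : Q := act 7 n26182
theorem D30891 : act 7 n26182 = n30891 := rfl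
theorem F143262 : act 1 n30891 = n26249 := d14_1 D30891 (iv D26249) (iv F117149)
theorem F143263 : act 3 n30891 = n30891 := d27_1 D30891 (iv D30891) F117150
theorem F143264 : act 4 n30891 = n26183 := d32_1 D30891 (iv D26183) D26182
theorem F143265 : act 9 n30891 = n26194 := d43_2 (iv F117152) D30891 (iv D26194)
def n30892 : Q := act 8 n26182
theorem D30892 : act 8 n26182 = n30892 := rfl
theorem F143266 : act 1 n30892 = n26250 := d15_1 D30892 (iv D26250) (iv F117149)
theorem F143267 : act 3 n30892 = n30892 := d28_1 D30892 (iv D30892) F117150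
theorem F143268 : act 4 n30892 = n26184 := d33_1 D30892 (iv D26184) D26182
theorem F143269 : act 6 n30892 = n30892 := d40_1 D30892 (iv D30892) F117151
def n30893 : Q := act 6 n26183
theorem D30893 : act 6 n26183 = n30893 := rfl
theorem F143270 : act 1 n30893 = n26251 := d13_1 D30893 (iv D26251) (iv F117153)
theorem F143271 : act 3 n30893 = n26185 := d26_1 D30893 (iv D26185) (iv F117154)
theorem F143272 : act 7 n30893 = n30893 := d39_2 D26183 D30893 (iv D30893) (iv D26183) F92965
theorem F143273 : act 9 n30893 = n26196 := d41_2 (iv F117156) D30893 (iv D26196)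
def n30894 : Q := act 8 n26183
theorem D30894 : act 8 n26183 = n30894 := rfl
theorem F143274 : act 1 n30894 = n26252 := d15_1 D30894 (iv D26252) (iv F117153)
theorem F143275 : act 3 n30894 = n26186 := d28_1 D30894 (iv D26186) (iv F117154)
theorem F143276 : act 7 n30894 = n26184 := d42_1 D30894 (iv D26184) D26183
def n30895 : Q := act 8 n26185
theorem D30895 : act 8 n26185 = n30895 := rfl
theorem F143277 : act 1 n30895 = n26254 := d15_1 D30895 (iv D26254) (iv F117160)
theorem F143278 : act 2 n30895 = n27982 := d22_1 D30895 (iv D27982) (iv F117161)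
theorem F143279 : act 4 n30895 = n30895 := d33_1 D30895 (iv D30895) F117162
theorem F143280 : act 6 n30895 = n26186 := d40_1 D30895 (iv D26186) D26185
theorem F143281 : act 7 n30895 = n30895 := d42_1 D30895 (iv D30895) F117163
def n30896 : Q := act 6 n26194
theorem D30896 : act 6 n26194 = n30896 := rfl
theorem F143282 : act 1 n30896 = n26267 := d13_1 D30896 (iv D26267) (iv F117195)
theorem F143283 : act 3 n30896 = n30896 := d26_1 D30896 (iv D30896) F117196
theorem F143284 : act 4 n30896 = n26196 := d31_1 D30896 (iv D26196) (iv F117197)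
theorem F143285 : act 7 n30896 = n30896 := d39_2 D26194 D30896 (iv D30896) (iv D26194) F92995
def n30897 : Q := act 7 n26244
theorem D30897 : act 7 n26244 = n30897 := rfl
theorem F143286 : act 1 n30897 = n26247 := d14_1 D30897 (iv D26247) (iv F117401)
theorem F143287 : act 3 n30897 = n26311 := d27_1 D30897 F134945 (iv F117402)
theorem F143288 : act 5 n30897 = n26245 := d36_1 D30897 (iv D26245) D26244
theorem F143289 : act 9 n30897 = n26259 := d43_2 (iv F117404) D30897 (iv D26259)
def n30898 : Q := act 6 n26247
theorem D30898 : act 6 n26247 = n30898 := rfl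
theorem F143290 : act 2 n30898 = n26251 := d20_1 D30898 (iv D26251) (iv F117411)
theorem F143291 : act 3 n30898 = n26329 := d26_1 D30898 (iv D26329) (iv F117412)
theorem F143292 : act 7 n30898 = n30898 := d39_2 D26247 D30898 (iv D30898) (iv D26247) F93164
theorem F143293 : act 9 n30898 = n26264 := d41_2 (iv F117414) D30898 (iv D26264)
def n30899 : Q := act 8 n26247
theorem D30899 : act 8 n26247 = n30899 := rfl
theorem F143294 : act 2 n30899 = n26252 := d22_1 D30899 (iv D26252) (iv F117411)
theorem F143295 : act 3 n30899 = n26330 := d28_1 D30899 (iv D26330) (iv F117412)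
theorem F143296 : act 7 n30899 = n26248 := d42_1 D30899 (iv D26248) D26247
def n30900 : Q := act 9 n26248
theorem D30900 : act 9 n26248 = n30900 := rfl
theorem F143297 : act 2 n30900 = n26253 := d23_1 D30900 (iv D26253) (iv F117415)
theorem F143298 : act 3 n30900 = n26331 := d29_1 D30900 (iv D26331) (iv F117416)
theorem F143299 : act 6 n30900 = n30900 := d41_1 D30900 (iv D30900) F117417
theorem F143300 : act 8 n30900 = n26266 := d44_1 D30900 (iv D26266) (iv D20700) (iv F93165) D26248
def n30901 : Q := act 6 n26249
theorem D30901 : act 6 n26249 = n30901 := rfl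
theorem F143301 : act 3 n30901 = n30901 := d26_1 D30901 (iv D30901) F117418
theorem F143302 : act 4 n30901 = n26251 := d31_1 D30901 (iv D26251) (iv F117419)
theorem F143303 : act 7 n30901 = n30901 := d39_2 D26249 D30901 (iv D30901) (iv D26249) F93170
theorem F143304 : act 9 n30901 = n26267 := d41_2 (iv F117420) D30901 (iv D26267)
def n30902 : Q := act 8 n26249
theorem D30902 : act 8 n26249 = n30902 := rfl
theorem F143305 : act 3 n30902 = n30902 := d28_1 D30902 (iv D30902) F117418
theorem F143306 : act 4 n30902 = n26252 := d33_1 D30902 (iv D26252) (iv F117419)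
theorem F143307 : act 7 n30902 = n26250 := d42_1 D30902 (iv D26250) D26249
def n30903 : Q := act 5 n26250
theorem D30903 : act 5 n26250 = n30903 := rfl
theorem F143308 : act 3 n30903 = n30903 := d25_1 D30903 (iv D30903) F117421
def n30904 : Q := act 9 n26250
theorem D30904 : act 9 n26250 = n30904 := rfl
theorem F143309 : act 3 n30904 = n30904 := d29_1 D30904 (iv D30904) F117421
theorem F143310 : act 4 n30904 = n26253 := d34_1 D30904 (iv D26253) (iv F117422)
theorem F143311 : act 6 n30904 = n30904 := d41_1 D30904 (iv D30904) F117423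
theorem F143312 : act 8 n30904 = n26270 := d44_1 D30904 (iv D26270) (iv D20702) (iv F93171) D26250
def n30905 : Q := act 8 n26251
theorem D30905 : act 8 n26251 = n30905 := rfl
theorem F143313 : act 3 n30905 = n26254 := d28_1 D30905 (iv D26254) (iv F117424)
theorem F143314 : act 6 n30905 = n26252 := d40_1 D30905 (iv D26252) D26251
theorem F143315 : act 7 n30905 = n30905 := d42_1 D30905 (iv D30905) F117425
def n30906 : Q := act 9 n26252
theorem D30906 : act 9 n26252 = n30906 := rfl
theorem F143316 : act 3 n30906 = n26255 := d29_1 D30906 (iv D26255) (iv F117427)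
theorem F143317 : act 7 n30906 = n26253 := d43_1 D30906 (iv D26253) (iv F117428)
theorem F143318 : act 8 n30906 = n26272 := d44_1 D30906 (iv D26272) (iv D20704) (iv F93174) D26252
def n30907 : Q := act 5 n26254
theorem D30907 : act 5 n26254 = n30907 := rfl
theorem F143319 : act 2 n30907 = n26337 := d19_1 D30907 (iv D26337) (iv F117432)
theorem F143320 : act 7 n30907 = n30907 := d36_2 F117435 D30907 (iv D30907)
def n30908 : Q := act 9 n26254
theorem D30908 : act 9 n26254 = n30908 := rfl
theorem F143321 : act 2 n30908 = n26338 := d23_1 D30908 (iv D26338) (iv F117432)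
theorem F143322 : act 4 n30908 = n30908 := d34_1 D30908 (iv D30908) F117433
theorem F143323 : act 6 n30908 = n26255 := d41_1 D30908 (iv D26255) (iv F117434)
theorem F143324 : act 7 n30908 = n30908 := d43_1 D30908 (iv D30908) F117435
theorem F143325 : act 8 n30908 = n26274 := d44_1 D30908 (iv D26274) (iv D20706) (iv F93180) D26254
def n30909 : Q := act 6 n26259
theorem D30909 : act 6 n26259 = n30909 := rfl
theorem F143326 : act 1 n30909 = n26264 := d13_1 D30909 (iv D26264) (iv F117448)
theorem F143327 : act 3 n30909 = n26273 := d26_1 D30909 F117492 (iv F134875)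
theorem F143328 : act 5 n30909 = n26271 := d35_1 D30909 F117486 F93214 (iv F134213) (iv F117450)
theorem F143329 : act 7 n30909 = n30909 := d39_2 D26259 D30909 (iv D30909) (iv D26259) F93193
def n30910 : Q := act 8 n26264
theorem D30910 : act 8 n26264 = n30910 := rfl
theorem F143330 : act 2 n30910 = n26271 := d22_1 D30910 (iv D26271) (iv F117463)
theorem F143331 : act 3 n30910 = n26353 := d28_1 D30910 (iv D26353) (iv F117464)
theorem F143332 : act 6 n30910 = n26265 := d40_1 D30910 (iv D26265) D26264
theorem F143333 : act 7 n30910 = n30910 := d42_1 D30910 (iv D30910) F117465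
def n30911 : Q := act 9 n26265
theorem D30911 : act 9 n26265 = n30911 := rfl
theorem F143334 : act 2 n30911 = n26272 := d23_1 D30911 (iv D26272) (iv F117466)
theorem F143335 : act 3 n30911 = n26354 := d29_1 D30911 (iv D26354) (iv F117467)
theorem F143336 : act 5 n30911 = n26302 := d38_1 D30911 (iv D26302) (iv F117468)
theorem F143337 : act 7 n30911 = n26266 := d43_1 D30911 (iv D26266) (iv F117469)
def n30912 : Q := act 5 n26267
theorem D30912 : act 5 n26267 = n30912 := rfl
theorem F143338 : act 3 n30912 = n30912 := d25_1 D30912 (iv D30912) F117474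
theorem F143339 : act 7 n30912 = n30912 := d36_2 F117476 D30912 (iv D30912)
def n30913 : Q := act 8 n26267
theorem D30913 : act 8 n26267 = n30913 := rfl
theorem F143340 : act 3 n30913 = n30913 := d28_1 D30913 (iv D30913) F117474
theorem F143341 : act 4 n30913 = n26271 := d33_1 D30913 (iv D26271) (iv F117475)
theorem F143342 : act 6 n30913 = n26268 := d40_1 D30913 (iv D26268) D26267
theorem F143343 : act 7 n30913 = n30913 := d42_1 D30913 (iv D30913) F117476
def n30914 : Q := act 9 n26268
theorem D30914 : act 9 n26268 = n30914 := rfl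
theorem F143344 : act 3 n30914 = n30914 := d29_1 D30914 (iv D30914) F117477
theorem F143345 : act 4 n30914 = n26272 := d34_1 D30914 (iv D26272) (iv F117478)
theorem F143346 : act 7 n30914 = n26270 := d43_1 D30914 (iv D26270) (iv F117479)
def n30915 : Q := act 9 n26271
theorem D30915 : act 9 n26271 = n30915 := rfl
theorem F143347 : act 3 n30915 = n26274 := d29_1 D30915 (iv D26274) (iv F117485)
theorem F143348 : act 6 n30915 = n26272 := d41_1 D30915 (iv D26272) (iv F117486)
theorem F143349 : act 7 n30915 = n30915 := d43_1 D30915 (iv D30915) F117487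
def n30916 : Q := act 9 n26273
theorem D30916 : act 9 n26273 = n30916 := rfl
theorem F143350 : act 1 n30916 = n26329 := d16_1 D30916 F117681 (iv F134943)
theorem F143351 : act 2 n30916 = n26360 := d23_1 D30916 (iv D26360) (iv F117491)
theorem F143352 : act 5 n30916 = n26274 := d38_1 D30916 (iv D26274) D26273
theorem F143353 : act 6 n30916 = n26311 := d41_1 D30916 (iv D26311) (iv F117492)
theorem F143354 : act 7 n30916 = n30916 := d43_1 D30916 (iv D30916) F117493
def n30917 : Q := act 9 n26287
theorem D30917 : act 9 n26287 = n30917 := rfl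
theorem F143355 : act 1 n30917 = n26354 := d16_1 D30917 (iv D26354) (iv F134880)
theorem F143356 : act 2 n30917 = n26381 := d23_1 D30917 (iv D26381) (iv F117535)
theorem F143357 : act 5 n30917 = n26288 := d38_1 D30917 (iv D26288) D26287
theorem F143358 : act 7 n30917 = n26347 := d43_1 D30917 (iv D26347) (iv F134881)
def n30918 : Q := act 8 n26329
theorem D30918 : act 8 n26329 = n30918 := rfl
theorem F143359 : act 2 n30918 = n26335 := d22_1 D30918 (iv D26335) (iv F117679)
theorem F143360 : act 6 n30918 = n26330 := d40_1 D30918 (iv D26330) D26329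
theorem F143361 : act 7 n30918 = n30918 := d42_1 D30918 (iv D30918) F117680
def n30919 : Q := act 9 n26330
theorem D30919 : act 9 n26330 = n30919 := rfl
theorem F143362 : act 2 n30919 = n26336 := d23_1 D30919 (iv D26336) (iv F117682)
theorem F143363 : act 7 n30919 = n26331 := d43_1 D30919 (iv D26331) (iv F117683)
theorem F143364 : act 8 n30919 = n26354 := d44_1 D30919 (iv D26354) (iv D20771) (iv F93370) D26330
def n30920 : Q := act 8 n26332
theorem D30920 : act 8 n26332 = n30920 := rfl
theorem F143365 : act 1 n30920 = n27365 := d15_1 D30920 F122081 (iv F117687)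
theorem F143366 : act 3 n30920 = n30920 := d28_1 D30920 (iv D30920) F117688
theorem F143367 : act 4 n30920 = n26335 := d33_1 D30920 (iv D26335) (iv F117689)
theorem F143368 : act 6 n30920 = n26333 := d40_1 D30920 (iv D26333) D26332
theorem F143369 : act 7 n30920 = n30920 := d42_1 D30920 (iv D30920) F117691
theorem F143370 : act 5 n27379 = n30920 := d35_5 F143368 F117696 F96946 (iv F97030) D27379
def n30921 : Q := act 9 n26333
theorem D30921 : act 9 n26333 = n30921 := rfl
theorem F143371 : act 1 n30921 = n27358 := d16_1 D30921 F122042 (iv F117693)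
theorem F143372 : act 3 n30921 = n30921 := d29_1 D30921 (iv D30921) F117694
theorem F143373 : act 4 n30921 = n26336 := d34_1 D30921 (iv D26336) (iv F117695)
theorem F143374 : act 5 n30921 = n27357 := d38_1 D30921 F122035 (iv F117696)
theorem F143375 : act 7 n30921 = n26334 := d43_1 D30921 (iv D26334) (iv F117697)
theorem F143376 : act 8 n30921 = n26356 := d44_1 D30921 (iv D26356) (iv D20774) (iv F93377) D26333
def n30922 : Q := act 5 n26335
theorem D30922 : act 5 n26335 = n30922 := rfl
theorem F143377 : act 1 n30922 = n28169 := d12_1 D30922 (iv D28169) (iv F117704)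
theorem F143378 : act 3 n30922 = n26337 := d25_1 D30922 (iv D26337) (iv F117705)
theorem F143379 : act 7 n30922 = n30922 := d36_2 F117707 D30922 (iv D30922)
def n30923 : Q := act 9 n26335
theorem D30923 : act 9 n26335 = n30923 := rfl
theorem F143380 : act 1 n30923 = n28170 := d16_1 D30923 (iv D28170) (iv F117704)
theorem F143381 : act 3 n30923 = n26338 := d29_1 D30923 (iv D26338) (iv F117705)
theorem F143382 : act 6 n30923 = n26336 := d41_1 D30923 (iv D26336) (iv F117706)
theorem F143383 : act 7 n30923 = n30923 := d43_1 D30923 (iv D30923) F117707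
theorem F143384 : act 8 n30923 = n26358 := d44_1 D30923 (iv D26358) (iv D20776) (iv F93386) D26335
def n30924 : Q := act 4 n26337
theorem D30924 : act 4 n26337 = n30924 := rfl
theorem F143385 : act 1 n30924 = n28171 := d11_1 D30924 (iv D28171) (iv F117712)
theorem F143386 : act 5 n30924 = n30924 := d30_2 D26337 D30924 (iv D30924) (iv D26337) F93395
theorem F143387 : act 7 n30924 = n30924 := d32_2 F117713 D30924 (iv D30924)
def n30925 : Q := act 9 n26337
theorem D30925 : act 9 n26337 = n30925 := rfl
theorem F143388 : act 1 n30925 = n28172 := d16_1 D30925 (iv D28172) (iv F117712)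
theorem F143389 : act 5 n30925 = n26338 := d38_1 D30925 (iv D26338) D26337
theorem F143390 : act 7 n30925 = n30925 := d43_1 D30925 (iv D30925) F117713
def n30926 : Q := act 9 n26353
theorem D30926 : act 9 n26353 = n30926 := rfl
theorem F143391 : act 2 n30926 = n26358 := d23_1 D30926 (iv D26358) (iv F117772)
theorem F143392 : act 6 n30926 = n26354 := d41_1 D30926 (iv D26354) (iv F117773)
theorem F143393 : act 7 n30926 = n30926 := d43_1 D30926 (iv D30926) F117774
def n30927 : Q := act 5 n26355
theorem D30927 : act 5 n26355 = n30927 := rfl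
theorem F143394 : act 1 n30927 = n28185 := d12_1 D30927 (iv D28185) (iv F117778)
theorem F143395 : act 3 n30927 = n30927 := d25_1 D30927 (iv D30927) F117779
theorem F143396 : act 6 n30927 = n30927 := d35_2 (iv F117781) D30927 (iv D30927) F117781 F93446
theorem F143397 : act 7 n30927 = n30927 := d36_2 F117782 D30927 (iv D30927)
theorem F143398 : act 8 n30927 = n30927 := d37_2 D26355 D30927 (iv D30927) (iv D26355) F93441
def n30928 : Q := act 9 n26355
theorem D30928 : act 9 n26355 = n30928 := rfl
theorem F143399 : act 1 n30928 = n28186 := d16_1 D30928 (iv D28186) (iv F117778)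
theorem F143400 : act 3 n30928 = n30928 := d29_1 D30928 (iv D30928) F117779
theorem F143401 : act 4 n30928 = n26358 := d34_1 D30928 (iv D26358) (iv F117780)
theorem F143402 : act 6 n30928 = n26356 := d41_1 D30928 (iv D26356) (iv F117781)
theorem F143403 : act 7 n30928 = n30928 := d43_1 D30928 (iv D30928) F117782
def n30929 : Q := act 9 n26357
theorem D30929 : act 9 n26357 = n30929 := rfl
theorem F143404 : act 1 n30929 = n28072 := d16_1 D30929 (iv D28072) (iv F134957)
theorem F143405 : act 3 n30929 = n26360 := d29_1 D30929 (iv D26360) (iv F117789)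
theorem F143406 : act 5 n30929 = n26358 := d38_1 D30929 (iv D26358) D26357
theorem F143407 : act 6 n30929 = n26390 := d41_1 D30929 (iv D26390) (iv F117790)
theorem F143408 : act 7 n30929 = n30929 := d43_1 D30929 (iv D30929) F117791
def n30930 : Q := act 7 n26535
theorem D30930 : act 7 n26535 = n30930 := rfl
theorem F143409 : act 1 n30930 = n26537 := d14_1 D30930 (iv D26537) (iv F118542)
theorem F143410 : act 3 n30930 = n30930 := d27_1 D30930 (iv D30930) F118543
theorem F143411 : act 4 n30930 = n26556 := d32_1 D30930 (iv D26556) (iv F118544)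
theorem F143412 : act 6 n30930 = n26560 := d39_1 D30930 (iv D26560) F94109 F134994 D26535
theorem F143413 : act 9 n30930 = n30930 := d43_2 F118545 D30930 (iv D30930)
def n30931 : Q := act 7 n26536
theorem D30931 : act 7 n26536 = n30931 := rfl
theorem F143414 : act 2 n30931 = n26539 := d21_1 D30931 (iv D26539) (iv F118546)
theorem F143415 : act 3 n30931 = n30931 := d27_1 D30931 (iv D30931) F118547
theorem F143416 : act 5 n30931 = n26537 := d36_1 D30931 (iv D26537) D26536
theorem F143417 : act 9 n30931 = n30931 := d43_2 F118549 D30931 (iv D30931)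
def n30932 : Q := act 8 n26536
theorem D30932 : act 8 n26536 = n30932 := rfl
theorem F143418 : act 2 n30932 = n26540 := d22_1 D30932 (iv D26540) (iv F118546)
theorem F143419 : act 3 n30932 = n30932 := d28_1 D30932 (iv D30932) F118547
theorem F143420 : act 6 n30932 = n30932 := d40_1 D30932 (iv D30932) F118548
def n30933 : Q := act 7 n26538
theorem D30933 : act 7 n26538 = n30933 := rfl
theorem F143421 : act 3 n30933 = n30933 := d27_1 D30933 (iv D30933) F118554
theorem F143422 : act 4 n30933 = n26539 := d32_1 D30933 (iv D26539) D26538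
theorem F143423 : act 5 n30933 = n26560 := d36_1 D30933 (iv D26560) (iv F118555)
theorem F143424 : act 9 n30933 = n30933 := d43_2 F118557 D30933 (iv D30933)
def n30934 : Q := act 8 n26538
theorem D30934 : act 8 n26538 = n30934 := rfl
theorem F143425 : act 3 n30934 = n30934 := d28_1 D30934 (iv D30934) F118554
theorem F143426 : act 4 n30934 = n26540 := d33_1 D30934 (iv D26540) D26538
theorem F143427 : act 6 n30934 = n30934 := d40_1 D30934 (iv D30934) F118556
def n30935 : Q := act 6 n26539
theorem D30935 : act 6 n26539 = n30935 := rfl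
theorem F143428 : act 3 n30935 = n26541 := d26_1 D30935 (iv D26541) (iv F118558)
theorem F143429 : act 7 n30935 = n30935 := d39_2 D26539 D30935 (iv D30935) (iv D26539) F94065
theorem F143430 : act 9 n30935 = n30935 := d41_2 F118560 D30935 (iv D30935)
def n30936 : Q := act 8 n26539
theorem D30936 : act 8 n26539 = n30936 := rfl
theorem F143431 : act 3 n30936 = n26542 := d28_1 D30936 (iv D26542) (iv F118558)
theorem F143432 : act 7 n30936 = n26540 := d42_1 D30936 (iv D26540) D26539
def n30937 : Q := act 9 n26540
theorem D30937 : act 9 n26540 = n30937 := rfl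
theorem F143433 : act 3 n30937 = n26543 := d29_1 D30937 (iv D26543) (iv F118561)
theorem F143434 : act 6 n30937 = n30937 := d41_1 D30937 (iv D30937) F118562
theorem F143435 : act 8 n30937 = n30937 := d44_1 D30937 (iv D30937) (iv D26540) F94066 D26540
def n30938 : Q := act 8 n26541
theorem D30938 : act 8 n26541 = n30938 := rfl
theorem F143436 : act 2 n30938 = n30938 := d22_1 D30938 (iv D30938) F118563
theorem F143437 : act 4 n30938 = n30938 := d33_1 D30938 (iv D30938) F118564
theorem F143438 : act 6 n30938 = n26542 := d40_1 D30938 (iv D26542) D26541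
theorem F143439 : act 7 n30938 = n30938 := d42_1 D30938 (iv D30938) F118565
def n30939 : Q := act 9 n26542
theorem D30939 : act 9 n26542 = n30939 := rfl
theorem F143440 : act 2 n30939 = n30939 := d23_1 D30939 (iv D30939) F118567
theorem F143441 : act 4 n30939 = n30939 := d34_1 D30939 (iv D30939) F118568
theorem F143442 : act 7 n30939 = n26543 := d43_1 D30939 (iv D26543) (iv F118569)
theorem F143443 : act 8 n30939 = n30939 := d44_1 D30939 (iv D30939) (iv D26542) F94073 D26542
def n30940 : Q := act 8 n26558
theorem D30940 : act 8 n26558 = n30940 := rfl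
theorem F143444 : act 2 n30940 = n26563 := d22_1 D30940 (iv D26563) (iv F118618)
theorem F143445 : act 3 n30940 = n26693 := d28_1 D30940 (iv D26693) (iv F118619)
theorem F143446 : act 7 n30940 = n26559 := d42_1 D30940 (iv D26559) D26558
def n30941 : Q := act 8 n26560
theorem D30941 : act 8 n26560 = n30941 := rfl
theorem F143447 : act 3 n30941 = n30941 := d28_1 D30941 (iv D30941) F118625
theorem F143448 : act 4 n30941 = n26563 := d33_1 D30941 (iv D26563) (iv F118626)
theorem F143449 : act 7 n30941 = n26561 := d42_1 D30941 (iv D26561) D26560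
def n30942 : Q := act 5 n26561
theorem D30942 : act 5 n26561 = n30942 := rfl
theorem F143450 : act 3 n30942 = n30942 := d25_1 D30942 (iv D30942) F118628
def n30943 : Q := act 9 n26561
theorem D30943 : act 9 n26561 = n30943 := rfl
theorem F143451 : act 3 n30943 = n30943 := d29_1 D30943 (iv D30943) F118628
theorem F143452 : act 4 n30943 = n26564 := d34_1 D30943 (iv D26564) (iv F118629)
theorem F143453 : act 6 n30943 = n26602 := d41_1 D30943 (iv D26602) (iv F118630)
theorem F143454 : act 8 n30943 = n30943 := d44_1 D30943 (iv D30943) (iv D26561) F94110 D26561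
def n30944 : Q := act 9 n26563
theorem D30944 : act 9 n26563 = n30944 := rfl
theorem F143455 : act 3 n30944 = n26566 := d29_1 D30944 (iv D26566) (iv F118634)
theorem F143456 : act 7 n30944 = n26564 := d43_1 D30944 (iv D26564) (iv F118635)
theorem F143457 : act 8 n30944 = n30944 := d44_1 D30944 (iv D30944) (iv D26563) F94113 D26563
def n30945 : Q := act 6 n26601
theorem D30945 : act 6 n26601 = n30945 := rfl
theorem F143458 : act 3 n30945 = n30945 := d26_1 D30945 (iv D30945) F118766
theorem F143459 : act 4 n30945 = n26644 := d31_1 D30945 (iv D26644) (iv F118767)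
theorem F143460 : act 8 n30945 = n30945 := d40_2 F118768 D30945 (iv D30945)
def n30946 : Q := act 6 n26636
theorem D30946 : act 6 n26636 = n30946 := rfl
theorem F143461 : act 2 n30946 = n26644 := d20_1 D30946 (iv D26644) (iv F118884)
theorem F143462 : act 3 n30946 = n30946 := d26_1 D30946 (iv D30946) F118885
theorem F143463 : act 8 n30946 = n30946 := d40_2 F118886 D30946 (iv D30946)
def n30947 : Q := act 7 n26644
theorem D30947 : act 7 n26644 = n30947 := rfl
theorem F143464 : act 3 n30947 = n26655 := d27_1 D30947 (iv D26655) (iv F118911)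
theorem F143465 : act 8 n30947 = n30947 := d42_2 F118912 D30947 (iv D30947)
def n30948 : Q := act 4 n26701
theorem D30948 : act 4 n26701 = n30948 := rfl
theorem F143466 : act 1 n30948 = n27685 := d11_1 D30948 F123403 F135239
theorem F143467 : act 5 n30948 = n30948 := d30_2 D26701 D30948 (iv D30948) (iv D26701) F94456
theorem F143468 : act 7 n30948 = n26753 := d32_2 (iv F119110) D30948 (iv D26753)
def n30949 : Q := act 9 n26701
theorem D30949 : act 9 n26701 = n30949 := rfl
theorem F143469 : act 1 n30949 = n27674 := d16_1 D30949 F123366 F135239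
theorem F143470 : act 5 n30949 = n26702 := d38_1 D30949 (iv D26702) D26701
theorem F143471 : act 7 n30949 = n26754 := d43_1 D30949 (iv D26754) (iv F119110)
def n30950 : Q := act 0 n27103
theorem D30950 : act 0 n27103 = n30950 := rfl
theorem F143472 : act 1 n30950 = n27137 := d0_2 D27103 D30950 (iv D27137) (iv D21436) (iv F96010)
theorem F143473 : act 2 n30950 = n30950 := d1_2 F120810 D30950 (iv D30950)
theorem F143474 : act 4 n30950 = n30950 := d3_2 F120811 D30950 (iv D30950)
theorem F143475 : act 8 n30950 = n27115 := d7_2 (iv F120812) D30950 (iv D27115)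
def n30951 : Q := act 6 n27103
theorem D30951 : act 6 n27103 = n30951 := rfl
theorem F143476 : act 1 n30951 = n27104 := d13_1 D30951 (iv D27104) D27103
theorem F143477 : act 2 n30951 = n30951 := d20_1 D30951 (iv D30951) F120810
theorem F143478 : act 4 n30951 = n30951 := d31_1 D30951 (iv D30951) F120811
theorem F143479 : act 8 n30951 = n27116 := d40_2 (iv F120812) D30951 (iv D27116)
def n30952 : Q := act 5 n27104
theorem D30952 : act 5 n27104 = n30952 := rfl
theorem F143480 : act 0 n30952 = n27139 := d4_1 D30952 (iv D27139) (iv F120813)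
theorem F143481 : act 2 n30952 = n27105 := d19_1 D30952 (iv D27105) (iv F120814)
def n30953 : Q := act 7 n27104
theorem D30953 : act 7 n27104 = n30953 := rfl
theorem F143482 : act 0 n30953 = n27140 := d6_1 D30953 (iv D27140) (iv F120813)
theorem F143483 : act 2 n30953 = n27106 := d21_1 D30953 (iv D27106) (iv F120814)
theorem F143484 : act 4 n30953 = n30953 := d32_1 D30953 (iv D30953) F120815
theorem F143485 : act 8 n30953 = n27118 := d42_2 (iv F120816) D30953 (iv D27118)
def n30954 : Q := act 7 n27105
theorem D30954 : act 7 n27105 = n30954 := rfl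
theorem F143486 : act 0 n30954 = n27142 := d6_1 D30954 (iv D27142) (iv F120817)
theorem F143487 : act 1 n30954 = n30954 := d14_1 D30954 (iv D30954) F120818
theorem F143488 : act 3 n30954 = n27107 := d27_1 D30954 (iv D27107) (iv F120819)
theorem F143489 : act 5 n30954 = n27106 := d36_1 D30954 (iv D27106) D27105
def n30955 : Q := act 6 n27107
theorem D30955 : act 6 n27107 = n30955 := rfl
theorem F143490 : act 0 n30955 = n27144 := d5_1 D30955 (iv D27144) (iv F120825)
theorem F143491 : act 1 n30955 = n30955 := d13_1 D30955 (iv D30955) F120826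
theorem F143492 : act 4 n30955 = n27395 := d31_1 D30955 (iv D27395) (iv F120827)
def n30956 : Q := act 0 n27109
theorem D30956 : act 0 n27109 = n30956 := rfl
theorem F143493 : act 1 n30956 = n27147 := d0_2 D27109 D30956 (iv D27147) (iv D21442) (iv F96025)
theorem F143494 : act 2 n30956 = n30956 := d1_2 F120833 D30956 (iv D30956)
theorem F143495 : act 4 n30956 = n30956 := d3_2 F120834 D30956 (iv D30956)
theorem F143496 : act 5 n30956 = n30956 := d4_2 F120835 D30956 (iv D30956)
theorem F143497 : act 7 n30956 = n27115 := d6_2 (iv F120836) D30956 (iv D27115)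
theorem F143498 : act 9 n30956 = n30956 := d8_2 F120837 D30956 (iv D30956)
def n30957 : Q := act 6 n27109
theorem D30957 : act 6 n27109 = n30957 := rfl
theorem F143499 : act 1 n30957 = n27110 := d13_1 D30957 (iv D27110) D27109
theorem F143500 : act 2 n30957 = n30957 := d20_1 D30957 (iv D30957) F120833
theorem F143501 : act 4 n30957 = n30957 := d31_1 D30957 (iv D30957) F120834
theorem F143502 : act 9 n30957 = n30957 := d41_2 F120837 D30957 (iv D30957)
def n30958 : Q := act 5 n27110
theorem D30958 : act 5 n27110 = n30958 := rfl
theorem F143503 : act 0 n30958 = n27149 := d4_1 D30958 (iv D27149) (iv F120838)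
theorem F143504 : act 2 n30958 = n27111 := d19_1 D30958 (iv D27111) (iv F120839)
theorem F143505 : act 6 n30958 = n30958 := d35_2 D27110 D30958 (iv D30958) (iv D27110) F96027
theorem F143506 : act 9 n30958 = n30958 := d38_2 F120841 D30958 (iv D30958)
def n30959 : Q := act 7 n27110
theorem D30959 : act 7 n27110 = n30959 := rfl
theorem F143507 : act 0 n30959 = n27150 := d6_1 D30959 (iv D27150) (iv F120838)
theorem F143508 : act 2 n30959 = n27112 := d21_1 D30959 (iv D27112) (iv F120839)
theorem F143509 : act 4 n30959 = n30959 := d32_1 D30959 (iv D30959) F120840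
theorem F143510 : act 6 n30959 = n27118 := d39_1 D30959 (iv D27118) (iv D21422) (iv F96028) D27110
theorem F143511 : act 9 n30959 = n30959 := d43_2 F120841 D30959 (iv D30959)
def n30960 : Q := act 4 n27111
theorem D30960 : act 4 n27111 = n30960 := rfl
theorem F143512 : act 0 n30960 = n27151 := d3_1 D30960 (iv D27151) (iv F120842)
theorem F143513 : act 1 n30960 = n30960 := d11_1 D30960 (iv D30960) F120843
theorem F143514 : act 3 n30960 = n30960 := d24_1 D30960 (iv D30960) F120844 F96037 (iv F120844)
theorem F143515 : act 5 n30960 = n30960 := d30_2 D27111 D30960 (iv D30960) (iv D27111) F96033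
theorem F143516 : act 6 n30960 = n30960 := d31_2 F120845 D30960 (iv D30960)
theorem F143517 : act 9 n30960 = n30960 := d34_2 F120846 D30960 (iv D30960)
theorem F143518 : act 8 n27369 = n30960 := d7_0 F143512 (iv F121018) (iv F122101)
def n30961 : Q := act 7 n27111
theorem D30961 : act 7 n27111 = n30961 := rfl
theorem F143519 : act 0 n30961 = n27152 := d6_1 D30961 (iv D27152) (iv F120842)
theorem F143520 : act 1 n30961 = n30961 := d14_1 D30961 (iv D30961) F120843
theorem F143521 : act 3 n30961 = n27113 := d27_1 D30961 (iv D27113) (iv F120844)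
theorem F143522 : act 5 n30961 = n27112 := d36_1 D30961 (iv D27112) D27111
theorem F143523 : act 9 n30961 = n30961 := d43_2 F120846 D30961 (iv D30961)
def n30962 : Q := act 8 n27111
theorem D30962 : act 8 n27111 = n30962 := rfl
theorem F143524 : act 0 n30962 = n27153 := d7_1 D30962 (iv D27153) (iv F120842)
theorem F143525 : act 1 n30962 = n30962 := d15_1 D30962 (iv D30962) F120843
theorem F143526 : act 3 n30962 = n27114 := d28_1 D30962 (iv D27114) (iv F120844)
theorem F143527 : act 4 n30962 = n27369 := d33_1 D30962 F143518 (iv D30960)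
theorem F143528 : act 6 n30962 = n30962 := d40_1 D30962 (iv D30962) F120845
theorem F143529 : act 9 n27376 = n30962 := d34_0 F143527 F122105 D27376
def n30963 : Q := act 6 n27113
theorem D30963 : act 6 n27113 = n30963 := rfl
theorem F143530 : act 0 n30963 = n27154 := d5_1 D30963 (iv D27154) (iv F120853)
theorem F143531 : act 1 n30963 = n30963 := d13_1 D30963 (iv D30963) F120854
theorem F143532 : act 4 n30963 = n30963 := d31_1 D30963 (iv D30963) F120855
theorem F143533 : act 5 n30963 = n27122 := d35_1 D30963 (iv D27122) F96066 (iv F96043) (iv F120856)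
theorem F143534 : act 7 n30963 = n30963 := d39_2 D27113 D30963 (iv D30963) (iv D27113) F96038
theorem F143535 : act 9 n30963 = n30963 := d41_2 F120857 D30963 (iv D30963)
def n30964 : Q := act 8 n27113
theorem D30964 : act 8 n27113 = n30964 := rfl
theorem F143536 : act 0 n30964 = n27155 := d7_1 D30964 (iv D27155) (iv F120853)
theorem F143537 : act 1 n30964 = n30964 := d15_1 D30964 (iv D30964) F120854
theorem F143538 : act 4 n30964 = n30964 := d33_1 D30964 (iv D30964) F120855
theorem F143539 : act 7 n30964 = n27114 := d42_1 D30964 (iv D27114) D27113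
def n30965 : Q := act 9 n27114
theorem D30965 : act 9 n27114 = n30965 := rfl
theorem F143540 : act 0 n30965 = n27156 := d8_1 D30965 (iv D27156) (iv F120858)
theorem F143541 : act 1 n30965 = n30965 := d16_1 D30965 (iv D30965) F120859
theorem F143542 : act 3 n30965 = n27376 := d29_1 D30965 F143529 F143526
theorem F143543 : act 4 n30965 = n30965 := d34_1 D30965 (iv D30965) F120860
theorem F143544 : act 6 n30965 = n30965 := d41_1 D30965 (iv D30965) F120861
theorem F143545 : act 8 n30965 = n30965 := d44_1 D30965 (iv D30965) (iv D27114) F96039 D27114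
def n30966 : Q := act 6 n27115
theorem D30966 : act 6 n27115 = n30966 := rfl
theorem F143546 : act 0 n30966 = n27116 := d5_1 D30966 (iv D27116) D27115
theorem F143547 : act 1 n30966 = n27157 := d13_1 D30966 (iv D27157) (iv F120862)
theorem F143548 : act 2 n30966 = n30966 := d20_1 D30966 (iv D30966) F120863
theorem F143549 : act 4 n30966 = n30966 := d31_1 D30966 (iv D30966) F120864
theorem F143550 : act 9 n30966 = n30966 := d41_2 F120866 D30966 (iv D30966)
def n30967 : Q := act 5 n27116
theorem D30967 : act 5 n27116 = n30967 := rfl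
theorem F143551 : act 1 n30967 = n27117 := d12_1 D30967 (iv D27117) (iv F120867)
theorem F143552 : act 2 n30967 = n30967 := d19_1 D30967 (iv D30967) F120868
theorem F143553 : act 6 n30967 = n30967 := d35_2 D27116 D30967 (iv D30967) (iv D27116) F96047
theorem F143554 : act 9 n30967 = n30967 := d38_2 F120870 D30967 (iv D30967)
def n30968 : Q := act 7 n27116
theorem D30968 : act 7 n27116 = n30968 := rfl
theorem F143555 : act 1 n30968 = n27118 := d14_1 D30968 (iv D27118) (iv F120867)
theorem F143556 : act 2 n30968 = n30968 := d21_1 D30968 (iv D30968) F120868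
theorem F143557 : act 4 n30968 = n30968 := d32_1 D30968 (iv D30968) F120869
theorem F143558 : act 9 n30968 = n30968 := d43_2 F120870 D30968 (iv D30968)
def n30969 : Q := act 7 n27117
theorem D30969 : act 7 n27117 = n30969 := rfl
theorem F143559 : act 0 n30969 = n27161 := d6_1 D30969 (iv D27161) (iv F120871)
theorem F143560 : act 2 n30969 = n27120 := d21_1 D30969 (iv D27120) (iv F120872)
theorem F143561 : act 5 n30969 = n27118 := d36_1 D30969 (iv D27118) D27117
theorem F143562 : act 9 n30969 = n30969 := d43_2 F120874 D30969 (iv D30969)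
def n30970 : Q := act 6 n27120
theorem D30970 : act 6 n27120 = n30970 := rfl
theorem F143563 : act 0 n30970 = n27165 := d5_1 D30970 (iv D27165) (iv F120885)
theorem F143564 : act 1 n30970 = n30970 := d13_1 D30970 (iv D30970) F120886
theorem F143565 : act 3 n30970 = n27122 := d26_1 D30970 (iv D27122) (iv F120887)
theorem F143566 : act 7 n30970 = n30970 := d39_2 D27120 D30970 (iv D30970) (iv D27120) F96056
theorem F143567 : act 9 n30970 = n30970 := d41_2 F120889 D30970 (iv D30970)
def n30971 : Q := act 6 n27137
theorem D30971 : act 6 n27137 = n30971 := rfl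
theorem F143568 : act 0 n30971 = n27138 := d5_1 D30971 (iv D27138) D27137
theorem F143569 : act 2 n30971 = n27214 := d20_1 D30971 (iv D27214) (iv F120968)
theorem F143570 : act 4 n30971 = n30971 := d31_1 D30971 (iv D30971) F120969
theorem F143571 : act 8 n30971 = n27157 := d40_2 (iv F120970) D30971 (iv D27157)
def n30972 : Q := act 5 n27138
theorem D30972 : act 5 n27138 = n30972 := rfl
theorem F143572 : act 1 n30972 = n27139 := d12_1 D30972 (iv D27139) (iv F120971)
theorem F143573 : act 2 n30972 = n27215 := d19_1 D30972 (iv D27215) (iv F120972)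
def n30973 : Q := act 7 n27138
theorem D30973 : act 7 n27138 = n30973 := rfl
theorem F143574 : act 1 n30973 = n27140 := d14_1 D30973 (iv D27140) (iv F120971)
theorem F143575 : act 2 n30973 = n27216 := d21_1 D30973 (iv D27216) (iv F120972)
theorem F143576 : act 4 n30973 = n30973 := d32_1 D30973 (iv D30973) F120973
theorem F143577 : act 8 n30973 = n27159 := d42_2 (iv F120974) D30973 (iv D27159)
def n30974 : Q := act 7 n27139
theorem D30974 : act 7 n27139 = n30974 := rfl
theorem F143578 : act 2 n30974 = n27142 := d21_1 D30974 (iv D27142) (iv F120975)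
theorem F143579 : act 5 n30974 = n27140 := d36_1 D30974 (iv D27140) D27139
def n30975 : Q := act 6 n27142
theorem D30975 : act 6 n27142 = n30975 := rfl
theorem F143580 : act 1 n30975 = n27222 := d13_1 D30975 (iv D27222) (iv F120982)
theorem F143581 : act 3 n30975 = n27144 := d26_1 D30975 (iv D27144) (iv F120983)
def n30976 : Q := act 6 n27147
theorem D30976 : act 6 n27147 = n30976 := rfl
theorem F143582 : act 0 n30976 = n27148 := d5_1 D30976 (iv D27148) D27147
theorem F143583 : act 2 n30976 = n27227 := d20_1 D30976 (iv D27227) (iv F120997)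
theorem F143584 : act 4 n30976 = n30976 := d31_1 D30976 (iv D30976) F120998
theorem F143585 : act 9 n30976 = n30976 := d41_2 F121001 D30976 (iv D30976)
def n30977 : Q := act 7 n27148
theorem D30977 : act 7 n27148 = n30977 := rfl
theorem F143586 : act 1 n30977 = n27150 := d14_1 D30977 (iv D27150) (iv F121002)
theorem F143587 : act 2 n30977 = n27228 := d21_1 D30977 (iv D27228) (iv F121003)
theorem F143588 : act 4 n30977 = n30977 := d32_1 D30977 (iv D30977) F121004
theorem F143589 : act 6 n30977 = n27159 := d39_1 D30977 (iv D27159) (iv D21449) (iv F96138) D27148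
theorem F143590 : act 9 n30977 = n30977 := d43_2 F121005 D30977 (iv D30977)
def n30978 : Q := act 7 n27149
theorem D30978 : act 7 n27149 = n30978 := rfl
theorem F143591 : act 2 n30978 = n27152 := d21_1 D30978 (iv D27152) (iv F121006)
theorem F143592 : act 5 n30978 = n27150 := d36_1 D30978 (iv D27150) D27149
theorem F143593 : act 9 n30978 = n30978 := d43_2 F121008 D30978 (iv D30978)
def n30979 : Q := act 7 n27151
theorem D30979 : act 7 n27151 = n30979 := rfl
theorem F143594 : act 1 n30979 = n27230 := d14_1 D30979 (iv D27230) (iv F121013)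
theorem F143595 : act 3 n30979 = n30979 := d27_1 D30979 (iv D30979) F121014
theorem F143596 : act 4 n30979 = n27152 := d32_1 D30979 (iv D27152) D27151
theorem F143597 : act 5 n30979 = n30979 := d36_1 D30979 (iv D30979) F121015
theorem F143598 : act 8 n30979 = n27371 := d42_2 F121018 D30979 (iv D27371)
theorem F143599 : act 9 n30979 = n30979 := d43_2 F121017 D30979 (iv D30979)
def n30980 : Q := act 6 n27152
theorem D30980 : act 6 n27152 = n30980 := rfl
theorem F143600 : act 1 n30980 = n27231 := d13_1 D30980 (iv D27231) (iv F121019)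
theorem F143601 : act 3 n30980 = n27154 := d26_1 D30980 (iv D27154) (iv F121020)
theorem F143602 : act 5 n30980 = n27165 := d35_1 D30980 (iv D27165) F96180 (iv F96150) (iv F121021)
theorem F143603 : act 7 n30980 = n30980 := d39_2 D27152 D30980 (iv D30980) (iv D27152) F96145
theorem F143604 : act 9 n30980 = n30980 := d41_2 F121022 D30980 (iv D30980)
def n30981 : Q := act 8 n27152
theorem D30981 : act 8 n27152 = n30981 := rfl
theorem F143605 : act 1 n30981 = n27232 := d15_1 D30981 (iv D27232) (iv F121019)
theorem F143606 : act 3 n30981 = n27155 := d28_1 D30981 (iv D27155) (iv F121020)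
theorem F143607 : act 4 n30981 = n27371 := d33_1 D30981 (iv F143598) F143596
theorem F143608 : act 7 n30981 = n27153 := d42_1 D30981 (iv D27153) D27152
theorem F143609 : act 9 n27378 = n30981 := d43_0 F143608 (iv F121027) D27378
def n30982 : Q := act 8 n27154
theorem D30982 : act 8 n27154 = n30982 := rfl
theorem F143610 : act 1 n30982 = n27233 := d15_1 D30982 (iv D27233) (iv F121028)
theorem F143611 : act 4 n30982 = n30982 := d33_1 D30982 (iv D30982) F121029
theorem F143612 : act 6 n30982 = n27155 := d40_1 D30982 (iv D27155) D27154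
theorem F143613 : act 7 n30982 = n30982 := d42_1 D30982 (iv D30982) F121031
def n30983 : Q := act 9 n27155
theorem D30983 : act 9 n27155 = n30983 := rfl
theorem F143614 : act 1 n30983 = n27234 := d16_1 D30983 (iv D27234) (iv F121033)
theorem F143615 : act 3 n30983 = n27378 := d29_1 D30983 F143609 F143606
theorem F143616 : act 4 n30983 = n30983 := d34_1 D30983 (iv D30983) F121034
theorem F143617 : act 7 n30983 = n27156 := d43_1 D30983 (iv D27156) (iv F121035)
theorem F143618 : act 8 n30983 = n30983 := d44_1 D30983 (iv D30983) (iv D27155) F96155 D27155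
def n30984 : Q := act 5 n27157
theorem D30984 : act 5 n27157 = n30984 := rfl
theorem F143619 : act 0 n30984 = n27158 := d4_1 D30984 (iv D27158) (iv F121041)
theorem F143620 : act 2 n30984 = n27235 := d19_1 D30984 (iv D27235) (iv F121042)
theorem F143621 : act 6 n30984 = n30984 := d35_2 D27157 D30984 (iv D30984) (iv D27157) F96161
theorem F143622 : act 9 n30984 = n30984 := d38_2 F121044 D30984 (iv D30984)
def n30985 : Q := act 7 n27157
theorem D30985 : act 7 n27157 = n30985 := rfl
theorem F143623 : act 0 n30985 = n27159 := d6_1 D30985 (iv D27159) (iv F121041)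
theorem F143624 : act 2 n30985 = n27236 := d21_1 D30985 (iv D27236) (iv F121042)
theorem F143625 : act 4 n30985 = n30985 := d32_1 D30985 (iv D30985) F121043
theorem F143626 : act 9 n30985 = n30985 := d43_2 F121044 D30985 (iv D30985)
def n30986 : Q := act 7 n27158
theorem D30986 : act 7 n27158 = n30986 := rfl
theorem F143627 : act 1 n30986 = n27161 := d14_1 D30986 (iv D27161) (iv F121045)
theorem F143628 : act 2 n30986 = n27238 := d21_1 D30986 (iv D27238) (iv F121046)
theorem F143629 : act 5 n30986 = n27159 := d36_1 D30986 (iv D27159) D27158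
theorem F143630 : act 9 n30986 = n30986 := d43_2 F121048 D30986 (iv D30986)
def n30987 : Q := act 6 n27161
theorem D30987 : act 6 n27161 = n30987 := rfl
theorem F143631 : act 2 n30987 = n27165 := d20_1 D30987 (iv D27165) (iv F121057)
theorem F143632 : act 7 n30987 = n30987 := d39_2 D27161 D30987 (iv D30987) (iv D27161) F96168
theorem F143633 : act 9 n30987 = n30987 := d41_2 F121059 D30987 (iv D30987)
def n30988 : Q := act 6 n27184
theorem D30988 : act 6 n27184 = n30988 := rfl
theorem F143634 : act 0 n30988 = n27185 := d5_1 D30988 (iv D27185) D27184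
theorem F143635 : act 1 n30988 = n30988 := d13_1 D30988 (iv D30988) F121148
theorem F143636 : act 3 n30988 = n27263 := d26_1 D30988 (iv D27263) (iv F121149)
theorem F143637 : act 4 n30988 = n27356 := d31_1 D30988 (iv D27356) (iv F121150)
theorem F143638 : act 8 n30988 = n30988 := d40_2 F121153 D30988 (iv D30988)
theorem F143639 : act 9 n30988 = n27286 := d41_2 (iv F121154) D30988 (iv D27286)
def n30989 : Q := act 7 n27185
theorem D30989 : act 7 n27185 = n30989 := rfl
theorem F143640 : act 1 n30989 = n27187 := d14_1 D30989 (iv D27187) (iv F121155)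
theorem F143641 : act 3 n30989 = n27265 := d27_1 D30989 (iv D27265) (iv F121156)
theorem F143642 : act 4 n30989 = n27357 := d32_1 D30989 (iv D27357) (iv F121157)
theorem F143643 : act 6 n30989 = n27296 := d39_1 D30989 (iv D27296) (iv D21554) (iv F96240) D27185
theorem F143644 : act 8 n30989 = n30989 := d42_2 F121158 D30989 (iv D30989)
theorem F143645 : act 9 n30989 = n27287 := d43_2 (iv F121159) D30989 (iv D27287)
def n30990 : Q := act 7 n27186
theorem D30990 : act 7 n27186 = n30990 := rfl
theorem F143646 : act 0 n30990 = n30990 := d6_1 D30990 (iv D30990) F121160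
theorem F143647 : act 2 n30990 = n27189 := d21_1 D30990 (iv D27189) (iv F121161)
theorem F143648 : act 3 n30990 = n27267 := d27_1 D30990 (iv D27267) (iv F121162)
theorem F143649 : act 4 n30990 = n27745 := d32_1 D30990 F123597 (iv F121163)
theorem F143650 : act 5 n30990 = n27187 := d36_1 D30990 (iv D27187) D27186
theorem F143651 : act 8 n30990 = n27762 := d42_2 F121166 D30990 F123648
theorem F143652 : act 9 n30990 = n27288 := d43_2 (iv F121165) D30990 (iv D27288)
def n30991 : Q := act 7 n27188
theorem D30991 : act 7 n27188 = n30991 := rfl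
theorem F143653 : act 0 n30991 = n30991 := d6_1 D30991 (iv D30991) F121174
theorem F143654 : act 2 n30991 = n27745 := d21_1 D30991 F123597 (iv F121175)
theorem F143655 : act 3 n30991 = n27540 := d27_1 D30991 (iv D27540) (iv F121176)
theorem F143656 : act 4 n30991 = n27189 := d32_1 D30991 (iv D27189) D27188
theorem F143657 : act 5 n30991 = n27359 := d36_1 D30991 (iv D27359) (iv F121177)
theorem F143658 : act 8 n30991 = n27562 := d42_2 (iv F135089) D30991 (iv D27562)
theorem F143659 : act 9 n30991 = n27289 := d43_2 (iv F121179) D30991 (iv D27289)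
def n30992 : Q := act 6 n27189
theorem D30992 : act 6 n27189 = n30992 := rfl
theorem F143660 : act 0 n30992 = n30992 := d5_1 D30992 (iv D30992) F121181
theorem F143661 : act 3 n30992 = n27191 := d26_1 D30992 (iv D27191) (iv F121182)
theorem F143662 : act 5 n30992 = n27299 := d35_1 D30992 (iv D27299) F96650 (iv F96256) (iv F121183)
theorem F143663 : act 7 n30992 = n27222 := d39_2 D27189 D30992 (iv D27222) (iv D21491) (iv F96251)
theorem F143664 : act 9 n30992 = n27290 := d41_2 (iv F121184) D30992 (iv D27290)
def n30993 : Q := act 8 n27189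
theorem D30993 : act 8 n27189 = n30993 := rfl
theorem F143665 : act 0 n30993 = n30993 := d7_1 D30993 (iv D30993) F121181
theorem F143666 : act 2 n30993 = n27762 := d22_1 D30993 (iv F143651) F143647
theorem F143667 : act 3 n30993 = n27192 := d28_1 D30993 (iv D27192) (iv F121182)
theorem F143668 : act 4 n30993 = n27562 := d33_1 D30993 (iv F143658) F143656
theorem F143669 : act 5 n30993 = n30993 := d37_1 D30993 (iv D30993) F121183 F96257 (iv F121183)
theorem F143670 : act 7 n30993 = n27190 := d42_1 D30993 (iv D27190) D27189
theorem F143671 : act 9 n30993 = n27573 := d44_2 (iv F121184) D30993 F135467 F121738 (iv D27291)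
def n30994 : Q := act 8 n27191
theorem D30994 : act 8 n27191 = n30994 := rfl
theorem F143672 : act 0 n30994 = n30994 := d7_1 D30994 (iv D30994) F121192
theorem F143673 : act 2 n30994 = n27274 := d22_1 D30994 (iv D27274) (iv F121193)
theorem F143674 : act 4 n30994 = n27545 := d33_1 D30994 (iv D27545) (iv F121194)
theorem F143675 : act 6 n30994 = n27192 := d40_1 D30994 (iv D27192) D27191
theorem F143676 : act 7 n30994 = n27225 := d42_1 D30994 (iv D27225) (iv F121196)
def n30995 : Q := act 9 n27192
theorem D30995 : act 9 n27192 = n30995 := rfl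
theorem F143677 : act 0 n30995 = n30995 := d8_1 D30995 (iv D30995) F121198
theorem F143678 : act 2 n30995 = n27275 := d23_1 D30995 (iv D27275) (iv F121199)
theorem F143679 : act 3 n30995 = n27573 := d29_1 D30995 (iv F143671) F143667
theorem F143680 : act 4 n30995 = n27546 := d34_1 D30995 (iv D27546) (iv F121200)
theorem F143681 : act 5 n30995 = n30995 := d38_1 D30995 (iv D30995) F121201
theorem F143682 : act 7 n30995 = n27193 := d43_1 D30995 (iv D27193) (iv F121202)
theorem F143683 : act 8 n30995 = n27293 := d44_1 D30995 (iv D27293) (iv D21551) (iv F96263) D27192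
def n30996 : Q := act 6 n27194
theorem D30996 : act 6 n27194 = n30996 := rfl
theorem F143684 : act 0 n30996 = n27195 := d5_1 D30996 (iv D27195) D27194
theorem F143685 : act 1 n30996 = n30996 := d13_1 D30996 (iv D30996) F121210
theorem F143686 : act 3 n30996 = n27286 := d26_1 D30996 (iv D27286) (iv F121211)
theorem F143687 : act 4 n30996 = n30996 := d31_1 D30996 (iv D30996) F121212
theorem F143688 : act 8 n30996 = n27227 := d40_2 (iv F121215) D30996 (iv D27227)
theorem F143689 : act 9 n30996 = n27263 := d41_2 (iv F121216) D30996 (iv D27263)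
def n30997 : Q := act 7 n27195
theorem D30997 : act 7 n27195 = n30997 := rfl
theorem F143690 : act 1 n30997 = n27197 := d14_1 D30997 (iv D27197) (iv F121217)
theorem F143691 : act 3 n30997 = n27287 := d27_1 D30997 (iv D27287) (iv F121218)
theorem F143692 : act 4 n30997 = n30997 := d32_1 D30997 (iv D30997) F121219
theorem F143693 : act 6 n30997 = n27216 := d39_1 D30997 (iv D27216) (iv D21487) (iv F96272) D27195
theorem F143694 : act 8 n30997 = n27228 := d42_2 (iv F121220) D30997 (iv D27228)
theorem F143695 : act 9 n30997 = n27265 := d43_2 (iv F121221) D30997 (iv D27265)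
def n30998 : Q := act 7 n27196
theorem D30998 : act 7 n27196 = n30998 := rfl
theorem F143696 : act 0 n30998 = n30998 := d6_1 D30998 (iv D30998) F121222
theorem F143697 : act 2 n30998 = n27199 := d21_1 D30998 (iv D27199) (iv F121223)
theorem F143698 : act 3 n30998 = n27288 := d27_1 D30998 (iv D27288) (iv F121224)
theorem F143699 : act 4 n30998 = n27300 := d32_1 D30998 F121771 F121228
theorem F143700 : act 5 n30998 = n27197 := d36_1 D30998 (iv D27197) D27196
theorem F143701 : act 8 n30998 = n27298 := d42_2 (iv F121226) D30998 (iv D27298)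
theorem F143702 : act 9 n30998 = n27267 := d43_2 (iv F121227) D30998 (iv D27267)
def n30999 : Q := act 7 n27198
theorem D30999 : act 7 n27198 = n30999 := rfl
theorem F143703 : act 0 n30999 = n30999 := d6_1 D30999 (iv D30999) F121236
theorem F143704 : act 2 n30999 = n27300 := d21_1 D30999 F121771 (iv F121237)
theorem F143705 : act 3 n30999 = n27675 := d27_1 D30999 (iv D27675) (iv F121238)
theorem F143706 : act 4 n30999 = n27199 := d32_1 D30999 (iv D27199) D27198
theorem F143707 : act 5 n30999 = n30999 := d36_1 D30999 (iv D30999) F121239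
theorem F143708 : act 8 n30999 = n27297 := d42_2 F121242 D30999 (iv D27297)
theorem F143709 : act 9 n30999 = n27269 := d43_2 (iv F121241) D30999 (iv D27269)
def n31000 : Q := act 6 n27199
theorem D31000 : act 6 n27199 = n31000 := rfl
theorem F143710 : act 0 n31000 = n31000 := d5_1 D31000 (iv D31000) F121243
theorem F143711 : act 3 n31000 = n27201 := d26_1 D31000 (iv D27201) (iv F121244)
theorem F143712 : act 5 n31000 = n27222 := d35_1 D31000 (iv D27222) F96354 (iv F96288) (iv F121245)
theorem F143713 : act 7 n31000 = n27299 := d39_2 D27199 D31000 (iv D27299) (iv D21558) (iv F96283)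
theorem F143714 : act 9 n31000 = n27271 := d41_2 (iv F121246) D31000 (iv D27271)
def n31001 : Q := act 8 n27199
theorem D31001 : act 8 n27199 = n31001 := rfl
theorem F143715 : act 0 n31001 = n31001 := d7_1 D31001 (iv D31001) F121243
theorem F143716 : act 2 n31001 = n27298 := d22_1 D31001 (iv F143701) F143697
theorem F143717 : act 3 n31001 = n27202 := d28_1 D31001 (iv D27202) (iv F121244)
theorem F143718 : act 4 n31001 = n27297 := d33_1 D31001 (iv F143708) F143706
theorem F143719 : act 5 n31001 = n27232 := d37_1 D31001 (iv D27232) F96402 (iv F96289) (iv F121245)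
theorem F143720 : act 7 n31001 = n27200 := d42_1 D31001 (iv D27200) D27199
theorem F143721 : act 9 n27308 = n31001 := d43_0 F143720 (iv F121253) D27308
def n31002 : Q := act 8 n27201
theorem D31002 : act 8 n27201 = n31002 := rfl
theorem F143722 : act 0 n31002 = n31002 := d7_1 D31002 (iv D31002) F121254
theorem F143723 : act 2 n31002 = n27292 := d22_1 D31002 (iv D27292) (iv F121255)
theorem F143724 : act 4 n31002 = n27678 := d33_1 D31002 (iv D27678) (iv F121256)
theorem F143725 : act 6 n31002 = n27202 := d40_1 D31002 (iv D27202) D27201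
theorem F143726 : act 7 n31002 = n27301 := d42_1 D31002 (iv D27301) (iv F121258)
def n31003 : Q := act 9 n27202
theorem D31003 : act 9 n27202 = n31003 := rfl
theorem F143727 : act 0 n31003 = n31003 := d8_1 D31003 (iv D31003) F121260
theorem F143728 : act 2 n31003 = n27293 := d23_1 D31003 (iv D27293) (iv F121261)
theorem F143729 : act 3 n31003 = n27308 := d29_1 D31003 F143721 F143717
theorem F143730 : act 4 n31003 = n27679 := d34_1 D31003 (iv D27679) (iv F121262)
theorem F143731 : act 5 n31003 = n27234 := d38_1 D31003 (iv D27234) (iv F121263)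
theorem F143732 : act 7 n31003 = n27203 := d43_1 D31003 (iv D27203) (iv F121264)
theorem F143733 : act 8 n31003 = n27275 := d44_1 D31003 (iv D27275) (iv D21535) (iv F96295) D27202
def n31004 : Q := act 6 n27204
theorem D31004 : act 6 n27204 = n31004 := rfl
theorem F143734 : act 0 n31004 = n27205 := d5_1 D31004 (iv D27205) D27204
theorem F143735 : act 1 n31004 = n31004 := d13_1 D31004 (iv D31004) F121272
theorem F143736 : act 3 n31004 = n27294 := d26_1 D31004 (iv D27294) (iv F121273)
theorem F143737 : act 4 n31004 = n31004 := d31_1 D31004 (iv D31004) F121274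
theorem F143738 : act 8 n31004 = n31004 := d40_2 F121277 D31004 (iv D31004)
theorem F143739 : act 9 n31004 = n27214 := d41_2 (iv F121278) D31004 (iv D27214)
def n31005 : Q := act 7 n27205
theorem D31005 : act 7 n27205 = n31005 := rfl
theorem F143740 : act 1 n31005 = n27207 := d14_1 D31005 (iv D27207) (iv F121279)
theorem F143741 : act 3 n31005 = n27296 := d27_1 D31005 (iv D27296) (iv F121280)
theorem F143742 : act 4 n31005 = n31005 := d32_1 D31005 (iv D31005) F121281
theorem F143743 : act 6 n31005 = n27265 := d39_1 D31005 (iv D27265) (iv D21528) (iv F96304) D27205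
theorem F143744 : act 8 n31005 = n31005 := d42_2 F121282 D31005 (iv D31005)
theorem F143745 : act 9 n31005 = n27216 := d43_2 (iv F121283) D31005 (iv D27216)
def n31006 : Q := act 7 n27206
theorem D31006 : act 7 n27206 = n31006 := rfl
theorem F143746 : act 0 n31006 = n31006 := d6_1 D31006 (iv D31006) F121284
theorem F143747 : act 2 n31006 = n27209 := d21_1 D31006 (iv D27209) (iv F121285)
theorem F143748 : act 3 n31006 = n27297 := d27_1 D31006 (iv D27297) (iv F121286)
theorem F143749 : act 4 n31006 = n27677 := d32_1 D31006 F123378 F121289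
theorem F143750 : act 5 n31006 = n27207 := d36_1 D31006 (iv D27207) D27206
theorem F143751 : act 8 n31006 = n27675 := d42_2 F121290 D31006 (iv D27675)
theorem F143752 : act 9 n31006 = n27218 := d43_2 (iv F121288) D31006 (iv D27218)
def n31007 : Q := act 7 n27208
theorem D31007 : act 7 n27208 = n31007 := rfl
theorem F143753 : act 0 n31007 = n31007 := d6_1 D31007 (iv D31007) F121298
theorem F143754 : act 2 n31007 = n27677 := d21_1 D31007 F123378 (iv F121299)
theorem F143755 : act 3 n31007 = n27584 := d27_1 D31007 (iv D27584) (iv F121300)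
theorem F143756 : act 4 n31007 = n27209 := d32_1 D31007 (iv D27209) D27208
theorem F143757 : act 5 n31007 = n31007 := d36_1 D31007 (iv D31007) F121301
theorem F143758 : act 8 n31007 = n27674 := d42_2 F121304 D31007 (iv D27674)
theorem F143759 : act 9 n31007 = n27220 := d43_2 (iv F121303) D31007 (iv D27220)
def n31008 : Q := act 6 n27209
theorem D31008 : act 6 n27209 = n31008 := rfl
theorem F143760 : act 0 n31008 = n31008 := d5_1 D31008 (iv D31008) F121305
theorem F143761 : act 3 n31008 = n27211 := d26_1 D31008 (iv D27211) (iv F121306)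
theorem F143762 : act 5 n31008 = n27271 := d35_1 D31008 (iv D27271) F96543 (iv F96320) (iv F121307)
theorem F143763 : act 7 n31008 = n27290 := d39_2 D27209 D31008 (iv D27290) (iv D21548) (iv F96315)
theorem F143764 : act 9 n31008 = n27222 := d41_2 (iv F121308) D31008 (iv D27222)
def n31009 : Q := act 8 n27209
theorem D31009 : act 8 n27209 = n31009 := rfl
theorem F143765 : act 0 n31009 = n31009 := d7_1 D31009 (iv D31009) F121305
theorem F143766 : act 2 n31009 = n27675 := d22_1 D31009 (iv F143751) F143747
theorem F143767 : act 3 n31009 = n27212 := d28_1 D31009 (iv D27212) (iv F121306)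
theorem F143768 : act 4 n31009 = n27674 := d33_1 D31009 (iv F143758) F143756
theorem F143769 : act 5 n31009 = n31009 := d37_1 D31009 (iv D31009) F121307 F96321 (iv F121307)
theorem F143770 : act 7 n31009 = n27210 := d42_1 D31009 (iv D27210) D27209
theorem F143771 : act 9 n27685 = n31009 := d43_0 F143770 (iv F121315) D27685
def n31010 : Q := act 8 n27211
theorem D31010 : act 8 n27211 = n31010 := rfl
theorem F143772 : act 0 n31010 = n31010 := d7_1 D31010 (iv D31010) F121316
theorem F143773 : act 2 n31010 = n27301 := d22_1 D31010 (iv D27301) (iv F121317)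
theorem F143774 : act 4 n31010 = n27587 := d33_1 D31010 (iv D27587) (iv F121318)
theorem F143775 : act 6 n31010 = n27212 := d40_1 D31010 (iv D27212) D27211
theorem F143776 : act 7 n31010 = n27292 := d42_1 D31010 (iv D27292) (iv F121320)
def n31011 : Q := act 9 n27212
theorem D31011 : act 9 n27212 = n31011 := rfl
theorem F143777 : act 0 n31011 = n31011 := d8_1 D31011 (iv D31011) F121322
theorem F143778 : act 2 n31011 = n27302 := d23_1 D31011 (iv D27302) (iv F121323)
theorem F143779 : act 3 n31011 = n27685 := d29_1 D31011 F143771 F143767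
theorem F143780 : act 4 n31011 = n27588 := d34_1 D31011 (iv D27588) (iv F121324)
theorem F143781 : act 5 n31011 = n31011 := d38_1 D31011 (iv D31011) F121325
theorem F143782 : act 7 n31011 = n27213 := d43_1 D31011 (iv D27213) (iv F121326)
theorem F143783 : act 8 n31011 = n27226 := d44_1 D31011 (iv D27226) (iv D21494) (iv F96327) D27212
def n31012 : Q := act 5 n27214
theorem D31012 : act 5 n27214 = n31012 := rfl
theorem F143784 : act 0 n31012 = n27215 := d4_1 D31012 (iv D27215) (iv F121334)
theorem F143785 : act 1 n31012 = n31012 := d12_1 D31012 (iv D31012) F121335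
theorem F143786 : act 3 n31012 = n27303 := d25_1 D31012 (iv D27303) (iv F121336)
def n31013 : Q := act 7 n27214
theorem D31013 : act 7 n27214 = n31013 := rfl
theorem F143787 : act 0 n31013 = n27216 := d6_1 D31013 (iv D27216) (iv F121334)
theorem F143788 : act 1 n31013 = n31013 := d14_1 D31013 (iv D31013) F121335
theorem F143789 : act 3 n31013 = n27304 := d27_1 D31013 (iv D27304) (iv F121336)
theorem F143790 : act 4 n31013 = n31013 := d32_1 D31013 (iv D31013) F121337
theorem F143791 : act 8 n31013 = n27236 := d42_2 (iv F121338) D31013 (iv D27236)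
def n31014 : Q := act 7 n27215
theorem D31014 : act 7 n27215 = n31014 := rfl
theorem F143792 : act 1 n31014 = n27218 := d14_1 D31014 (iv D27218) (iv F121339)
theorem F143793 : act 3 n31014 = n27306 := d27_1 D31014 (iv D27306) (iv F121340)
theorem F143794 : act 5 n31014 = n27216 := d36_1 D31014 (iv D27216) D27215
def n31015 : Q := act 7 n27217
theorem D31015 : act 7 n27217 = n31015 := rfl
theorem F143795 : act 0 n31015 = n31015 := d6_1 D31015 (iv D31015) F121345
theorem F143796 : act 2 n31015 = n27220 := d21_1 D31015 (iv D27220) (iv F121346)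
theorem F143797 : act 3 n31015 = n27679 := d27_1 D31015 F123384 (iv F121347)
theorem F143798 : act 4 n31015 = n27218 := d32_1 D31015 (iv D27218) D27217
theorem F143799 : act 5 n31015 = n31015 := d36_1 D31015 (iv D31015) F121348
theorem F143800 : act 8 n31015 = n27691 := d42_2 F121351 D31015 F123425
theorem F143801 : act 9 n31015 = n27677 := d43_2 (iv F121350) D31015 F123378
def n31016 : Q := act 6 n27218
theorem D31016 : act 6 n27218 = n31016 := rfl
theorem F143802 : act 0 n31016 = n31016 := d5_1 D31016 (iv D31016) F121352
theorem F143803 : act 2 n31016 = n27222 := d20_1 D31016 (iv D27222) (iv F121353)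
theorem F143804 : act 3 n31016 = n27309 := d26_1 D31016 (iv D27309) (iv F121354)
def n31017 : Q := act 8 n27218
theorem D31017 : act 8 n27218 = n31017 := rfl
theorem F143805 : act 0 n31017 = n31017 := d7_1 D31017 (iv D31017) F121352
theorem F143806 : act 2 n31017 = n27223 := d22_1 D31017 (iv D27223) (iv F121353)
theorem F143807 : act 3 n31017 = n27310 := d28_1 D31017 (iv D27310) (iv F121354)
theorem F143808 : act 4 n31017 = n27691 := d33_1 D31017 (iv F143800) F143798
theorem F143809 : act 5 n31017 = n27243 := d37_1 D31017 (iv D27243) F96448 (iv F96348) (iv F121355)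
theorem F143810 : act 7 n31017 = n27219 := d42_1 D31017 (iv D27219) D27218
theorem F143811 : act 9 n31017 = n27689 := d44_2 F143752 D31017 (iv D27689) (iv F123370) (iv F143751)
def n31018 : Q := act 6 n27220
theorem D31018 : act 6 n27220 = n31018 := rfl
theorem F143812 : act 0 n31018 = n31018 := d5_1 D31018 (iv D31018) F121363
theorem F143813 : act 3 n31018 = n27597 := d26_1 D31018 (iv D27597) (iv F121364)
theorem F143814 : act 4 n31018 = n27222 := d31_1 D31018 (iv D27222) (iv F121365)
theorem F143815 : act 8 n31018 = n27702 := d40_2 (iv F135496) D31018 (iv D27702)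
def n31019 : Q := act 8 n27222
theorem D31019 : act 8 n27222 = n31019 := rfl
theorem F143816 : act 0 n31019 = n31019 := d7_1 D31019 (iv D31019) F121374
theorem F143817 : act 3 n31019 = n27225 := d28_1 D31019 (iv D27225) (iv F121375)
theorem F143818 : act 4 n31019 = n27702 := d33_1 D31019 (iv F143815) F143814
theorem F143819 : act 6 n31019 = n27223 := d40_1 D31019 (iv D27223) D27222
def n31020 : Q := act 9 n27223
theorem D31020 : act 9 n27223 = n31020 := rfl
theorem F143820 : act 0 n31020 = n31020 := d8_1 D31020 (iv D31020) F121376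
theorem F143821 : act 2 n31020 = n27689 := d23_1 D31020 (iv F143811) F143806
theorem F143822 : act 3 n31020 = n27226 := d29_1 D31020 (iv D27226) (iv F121377)
theorem F143823 : act 4 n31020 = n27529 := d34_1 D31020 F122721 (iv F135501)
theorem F143824 : act 5 n31020 = n27250 := d38_1 D31020 (iv D27250) (iv F121378)
theorem F143825 : act 7 n31020 = n27224 := d43_1 D31020 (iv D27224) (iv F121379)
theorem F143826 : act 8 n31020 = n27685 := d44_1 D31020 F143771 (iv D31009) F121308 D27223
def n31021 : Q := act 5 n27225
theorem D31021 : act 5 n27225 = n31021 := rfl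
theorem F143827 : act 0 n31021 = n31021 := d4_1 D31021 (iv D31021) F121387
theorem F143828 : act 2 n31021 = n27315 := d19_1 D31021 (iv D27315) (iv F121388)
theorem F143829 : act 4 n31021 = n27760 := d30_1 D31021 (iv D27760) F98168 F135500 (iv F121389)
theorem F143830 : act 6 n31021 = n27251 := d35_2 (iv F121390) D31021 (iv D27251) F96477 (iv F96364)
def n31022 : Q := act 9 n27225
theorem D31022 : act 9 n27225 = n31022 := rfl
theorem F143831 : act 0 n31022 = n31022 := d8_1 D31022 (iv D31022) F121387
theorem F143832 : act 2 n31022 = n27316 := d23_1 D31022 (iv D27316) (iv F121388)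
theorem F143833 : act 4 n31022 = n27603 := d34_1 D31022 (iv D27603) (iv F121389)
theorem F143834 : act 6 n31022 = n27226 := d41_1 D31022 (iv D27226) (iv F121390)
def n31023 : Q := act 7 n27227
theorem D31023 : act 7 n27227 = n31023 := rfl
theorem F143835 : act 0 n31023 = n27228 := d6_1 D31023 (iv D27228) (iv F121396)
theorem F143836 : act 1 n31023 = n31023 := d14_1 D31023 (iv D31023) F121397
theorem F143837 : act 3 n31023 = n27317 := d27_1 D31023 (iv D27317) (iv F121398)
theorem F143838 : act 4 n31023 = n31023 := d32_1 D31023 (iv D31023) F121399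
theorem F143839 : act 6 n31023 = n27236 := d39_1 D31023 (iv D27236) (iv D21506) (iv F96374) D27227
theorem F143840 : act 9 n31023 = n31023 := d43_2 F121400 D31023 (iv D31023)
def n31024 : Q := act 6 n27229
theorem D31024 : act 6 n27229 = n31024 := rfl
theorem F143841 : act 0 n31024 = n31024 := d5_1 D31024 (iv D31024) F121406
theorem F143842 : act 2 n31024 = n27231 := d20_1 D31024 (iv D27231) (iv F121407)
theorem F143843 : act 3 n31024 = n27318 := d26_1 D31024 (iv D27318) (iv F121408)
theorem F143844 : act 4 n31024 = n27374 := d31_1 D31024 F122127 (iv F121409)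
theorem F143845 : act 5 n31024 = n27242 := d35_1 D31024 (iv D27242) F96448 (iv F96391) (iv F121410)
theorem F143846 : act 7 n31024 = n31024 := d39_2 D27229 D31024 (iv D31024) (iv D27229) F96383
theorem F143847 : act 8 n31024 = n27373 := d40_2 (iv F121411) D31024 (iv D27373)
theorem F143848 : act 9 n31024 = n31024 := d41_2 F121412 D31024 (iv D31024)
def n31025 : Q := act 6 n27230
theorem D31025 : act 6 n27230 = n31025 := rfl
theorem F143849 : act 0 n31025 = n31025 := d5_1 D31025 (iv D31025) F121413
theorem F143850 : act 2 n31025 = n27374 := d20_1 D31025 F122127 (iv F121414)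
theorem F143851 : act 3 n31025 = n31025 := d26_1 D31025 (iv D31025) F121415
theorem F143852 : act 4 n31025 = n27231 := d31_1 D31025 (iv D27231) (iv F121416)
theorem F143853 : act 7 n31025 = n31025 := d39_2 D27230 D31025 (iv D31025) (iv D27230) F96397
theorem F143854 : act 8 n31025 = n27372 := d40_2 (iv F121418) D31025 (iv D27372)
theorem F143855 : act 9 n31025 = n31025 := d41_2 F121419 D31025 (iv D31025)
def n31026 : Q := act 8 n27231
theorem D31026 : act 8 n27231 = n31026 := rfl
theorem F143856 : act 0 n31026 = n31026 := d7_1 D31026 (iv D31026) F121420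
theorem F143857 : act 2 n31026 = n27373 := d22_1 D31026 (iv F143847) F143842
theorem F143858 : act 3 n31026 = n27233 := d28_1 D31026 (iv D27233) (iv F121421)
theorem F143859 : act 4 n31026 = n27372 := d33_1 D31026 (iv F143854) F143852
theorem F143860 : act 6 n31026 = n27232 := d40_1 D31026 (iv D27232) D27231
theorem F143861 : act 7 n31026 = n31026 := d42_1 D31026 (iv D31026) F121423
theorem F143862 : act 9 n27380 = n31026 := d41_0 F143860 (iv F121430) D27380
def n31027 : Q := act 5 n27233
theorem D31027 : act 5 n27233 = n31027 := rfl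
theorem F143863 : act 0 n31027 = n31027 := d4_1 D31027 (iv D31027) F121431
theorem F143864 : act 2 n31027 = n27321 := d19_1 D31027 (iv D27321) (iv F121432)
theorem F143865 : act 7 n31027 = n31027 := d36_2 F121435 D31027 (iv D31027)
theorem F143866 : act 8 n31027 = n27251 := d37_2 D27233 D31027 (iv D27251) (iv D21517) (iv F96413)
theorem F143867 : act 4 n27863 = n31027 := d33_3 F143866 F135552 D27863
def n31028 : Q := act 9 n27233
theorem D31028 : act 9 n27233 = n31028 := rfl
theorem F143868 : act 0 n31028 = n31028 := d8_1 D31028 (iv D31028) F121431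
theorem F143869 : act 2 n31028 = n27322 := d23_1 D31028 (iv D27322) (iv F121432)
theorem F143870 : act 3 n31028 = n27380 := d29_1 D31028 F143862 F143858
theorem F143871 : act 4 n31028 = n31028 := d34_1 D31028 (iv D31028) F121433
theorem F143872 : act 6 n31028 = n27234 := d41_1 D31028 (iv D27234) (iv F121434)
theorem F143873 : act 7 n31028 = n31028 := d43_1 D31028 (iv D31028) F121435
theorem F143874 : act 8 n31028 = n31028 := d44_1 D31028 (iv D31028) (iv D27233) F96415 D27233
def n31029 : Q := act 4 n27235
theorem D31029 : act 4 n27235 = n31029 := rfl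
theorem F143875 : act 0 n31029 = n27237 := d3_1 D31029 (iv D27237) (iv F121442)
theorem F143876 : act 1 n31029 = n31029 := d11_1 D31029 (iv D31029) F121443
theorem F143877 : act 3 n31029 = n31029 := d24_1 D31029 (iv D31029) F121444 F96750 (iv F121444)
theorem F143878 : act 5 n31029 = n31029 := d30_2 D27235 D31029 (iv D31029) (iv D27235) F96429
theorem F143879 : act 6 n31029 = n31029 := d31_2 F121445 D31029 (iv D31029)
theorem F143880 : act 9 n31029 = n31029 := d34_2 F121446 D31029 (iv D31029)
theorem F143881 : act 8 n27815 = n31029 := d7_0 F143875 F135594 (iv F123862)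
def n31030 : Q := act 7 n27235
theorem D31030 : act 7 n27235 = n31030 := rfl
theorem F143882 : act 0 n31030 = n27238 := d6_1 D31030 (iv D27238) (iv F121442)
theorem F143883 : act 1 n31030 = n31030 := d14_1 D31030 (iv D31030) F121443
theorem F143884 : act 3 n31030 = n27323 := d27_1 D31030 (iv D27323) (iv F121444)
theorem F143885 : act 5 n31030 = n27236 := d36_1 D31030 (iv D27236) D27235
theorem F143886 : act 9 n31030 = n31030 := d43_2 F121446 D31030 (iv D31030)
def n31031 : Q := act 8 n27235
theorem D31031 : act 8 n27235 = n31031 := rfl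
theorem F143887 : act 0 n31031 = n27239 := d7_1 D31031 (iv D27239) (iv F121442)
theorem F143888 : act 1 n31031 = n31031 := d15_1 D31031 (iv D31031) F121443
theorem F143889 : act 3 n31031 = n27324 := d28_1 D31031 (iv D27324) (iv F121444)
theorem F143890 : act 4 n31031 = n27815 := d33_1 D31031 F143881 (iv D31029)
theorem F143891 : act 6 n31031 = n31031 := d40_1 D31031 (iv D31031) F121445
def n31032 : Q := act 7 n27237
theorem D31032 : act 7 n27237 = n31032 := rfl
theorem F143892 : act 1 n31032 = n27240 := d14_1 D31032 (iv D27240) (iv F121452)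
theorem F143893 : act 3 n31032 = n31032 := d27_1 D31032 (iv D31032) F121453
theorem F143894 : act 4 n31032 = n27238 := d32_1 D31032 (iv D27238) D27237
theorem F143895 : act 5 n31032 = n31032 := d36_1 D31032 (iv D31032) F121454
theorem F143896 : act 8 n31032 = n27818 := d42_2 (iv F135594) D31032 (iv D27818)
theorem F143897 : act 9 n31032 = n31032 := d43_2 F121456 D31032 (iv D31032)
def n31033 : Q := act 6 n27238
theorem D31033 : act 6 n27238 = n31033 := rfl
theorem F143898 : act 1 n31033 = n27242 := d13_1 D31033 (iv D27242) (iv F121457)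
theorem F143899 : act 3 n31033 = n27325 := d26_1 D31033 (iv D27325) (iv F121458)
theorem F143900 : act 7 n31033 = n31033 := d39_2 D27238 D31033 (iv D31033) (iv D27238) F96433
theorem F143901 : act 9 n31033 = n31033 := d41_2 F121460 D31033 (iv D31033)
def n31034 : Q := act 8 n27238
theorem D31034 : act 8 n27238 = n31034 := rfl
theorem F143902 : act 1 n31034 = n27243 := d15_1 D31034 (iv D27243) (iv F121457)
theorem F143903 : act 3 n31034 = n27326 := d28_1 D31034 (iv D27326) (iv F121458)
theorem F143904 : act 4 n31034 = n27818 := d33_1 D31034 (iv F143896) F143894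
theorem F143905 : act 7 n31034 = n27239 := d42_1 D31034 (iv D27239) D27238
def n31035 : Q := act 6 n27240
theorem D31035 : act 6 n27240 = n31035 := rfl
theorem F143906 : act 0 n31035 = n31035 := d5_1 D31035 (iv D31035) F121464
theorem F143907 : act 2 n31035 = n27245 := d20_1 D31035 (iv D27245) (iv F121465)
theorem F143908 : act 3 n31035 = n31035 := d26_1 D31035 (iv D31035) F121466
theorem F143909 : act 4 n31035 = n27242 := d31_1 D31035 (iv D27242) (iv F121467)
theorem F143910 : act 7 n31035 = n31035 := d39_2 D27240 D31035 (iv D31035) (iv D27240) F96443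
theorem F143911 : act 8 n31035 = n27823 := d40_2 (iv F135592) D31035 (iv D27823)
theorem F143912 : act 9 n31035 = n31035 := d41_2 F121469 D31035 (iv D31035)
def n31036 : Q := act 8 n27242
theorem D31036 : act 8 n27242 = n31036 := rfl
theorem F143913 : act 0 n31036 = n31036 := d7_1 D31036 (iv D31036) F121477
theorem F143914 : act 2 n31036 = n27249 := d22_1 D31036 (iv D27249) (iv F121478)
theorem F143915 : act 3 n31036 = n27328 := d28_1 D31036 (iv D27328) (iv F121479)
theorem F143916 : act 4 n31036 = n27823 := d33_1 D31036 (iv F143911) F143909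
theorem F143917 : act 6 n31036 = n27243 := d40_1 D31036 (iv D27243) D27242
theorem F143918 : act 7 n31036 = n31036 := d42_1 D31036 (iv D31036) F121480
def n31037 : Q := act 9 n27243
theorem D31037 : act 9 n27243 = n31037 := rfl
theorem F143919 : act 0 n31037 = n31037 := d8_1 D31037 (iv D31037) F121482
theorem F143920 : act 2 n31037 = n27250 := d23_1 D31037 (iv D27250) (iv F121483)
theorem F143921 : act 3 n31037 = n27329 := d29_1 D31037 (iv D27329) (iv F121484)
theorem F143922 : act 4 n31037 = n27812 := d34_1 D31037 F123851 (iv F135548)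
theorem F143923 : act 5 n31037 = n27689 := d38_1 D31037 (iv F143811) F143809
theorem F143924 : act 7 n31037 = n27244 := d43_1 D31037 (iv D27244) (iv F121485)
theorem F143925 : act 8 n31037 = n31037 := d44_1 D31037 (iv D31037) (iv D27243) F96449 D27243
def n31038 : Q := act 5 n27245
theorem D31038 : act 5 n27245 = n31038 := rfl
theorem F143926 : act 0 n31038 = n31038 := d4_1 D31038 (iv D31038) F121493
theorem F143927 : act 3 n31038 = n27253 := d25_1 D31038 (iv D27253) (iv F121494)
theorem F143928 : act 6 n31038 = n31038 := d35_2 D27245 D31038 (iv D31038) (iv D27245) F96457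
theorem F143929 : act 7 n31038 = n31038 := d36_2 F121496 D31038 (iv D31038)
theorem F143930 : act 9 n31038 = n31038 := d38_2 F121497 D31038 (iv D31038)
def n31039 : Q := act 5 n27249
theorem D31039 : act 5 n27249 = n31039 := rfl
theorem F143931 : act 0 n31039 = n31039 := d4_1 D31039 (iv D31039) F121516
theorem F143932 : act 3 n31039 = n27251 := d25_1 D31039 (iv D27251) (iv F121517)
theorem F143933 : act 7 n31039 = n31039 := d36_2 F121519 D31039 (iv D31039)
def n31040 : Q := act 9 n27249
theorem D31040 : act 9 n27249 = n31040 := rfl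
theorem F143934 : act 0 n31040 = n31040 := d8_1 D31040 (iv D31040) F121516
theorem F143935 : act 3 n31040 = n27252 := d29_1 D31040 (iv D27252) (iv F121517)
theorem F143936 : act 4 n31040 = n27814 := d34_1 D31040 F123861 (iv F135550)
theorem F143937 : act 6 n31040 = n27250 := d41_1 D31040 (iv D27250) (iv F121518)
theorem F143938 : act 7 n31040 = n31040 := d43_1 D31040 (iv D31040) F121519
theorem F143939 : act 8 n31040 = n31040 := d44_1 D31040 (iv D31040) (iv D27249) F96466 D27249
def n31041 : Q := act 9 n27251
theorem D31041 : act 9 n27251 = n31041 := rfl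
theorem F143940 : act 0 n31041 = n31041 := d8_1 D31041 (iv D31041) F121524
theorem F143941 : act 2 n31041 = n27333 := d23_1 D31041 (iv D27333) (iv F121525)
theorem F143942 : act 4 n31041 = n27858 := d34_1 D31041 F124055 (iv F135552)
theorem F143943 : act 5 n31041 = n27252 := d38_1 D31041 (iv D27252) D27251
theorem F143944 : act 7 n31041 = n31041 := d43_1 D31041 (iv D31041) F121526
def n31042 : Q := act 8 n27253
theorem D31042 : act 8 n27253 = n31042 := rfl
theorem F143945 : act 0 n31042 = n31042 := d7_1 D31042 (iv D31042) F121533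
theorem F143946 : act 2 n31042 = n31042 := d22_1 D31042 (iv D31042) F121534
theorem F143947 : act 4 n31042 = n31042 := d33_1 D31042 (iv D31042) F121535
theorem F143948 : act 5 n31042 = n27354 := d37_1 D31042 (iv D27354) F96873 F135545 D27253
theorem F143949 : act 6 n31042 = n31042 := d40_1 D31042 (iv D31042) F121536
theorem F143950 : act 7 n31042 = n31042 := d42_1 D31042 (iv D31042) F121537
def n31043 : Q := act 5 n27263
theorem D31043 : act 5 n27263 = n31043 := rfl
theorem F143951 : act 0 n31043 = n27264 := d4_1 D31043 (iv D27264) (iv F121590)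
theorem F143952 : act 1 n31043 = n31043 := d12_1 D31043 (iv D31043) F121591
theorem F143953 : act 6 n31043 = n27303 := d35_2 D27263 D31043 (iv D27303) (iv D21563) (iv F96525)
def n31044 : Q := act 7 n27263
theorem D31044 : act 7 n27263 = n31044 := rfl
theorem F143954 : act 0 n31044 = n27265 := d6_1 D31044 (iv D27265) (iv F121590)
theorem F143955 : act 1 n31044 = n31044 := d14_1 D31044 (iv D31044) F121591
theorem F143956 : act 4 n31044 = n31044 := d32_1 D31044 (iv D31044) F121592
theorem F143957 : act 8 n31044 = n31044 := d42_2 F121593 D31044 (iv D31044)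
def n31045 : Q := act 7 n27264
theorem D31045 : act 7 n27264 = n31045 := rfl
theorem F143958 : act 1 n31045 = n27267 := d14_1 D31045 (iv D27267) (iv F121594)
theorem F143959 : act 5 n31045 = n27265 := d36_1 D31045 (iv D27265) D27264
def n31046 : Q := act 7 n27266
theorem D31046 : act 7 n27266 = n31046 := rfl
theorem F143960 : act 0 n31046 = n31046 := d6_1 D31046 (iv D31046) F121599
theorem F143961 : act 2 n31046 = n27269 := d21_1 D31046 (iv D27269) (iv F121600)
theorem F143962 : act 3 n31046 = n27302 := d27_1 D31046 F121778 (iv F121601)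
theorem F143963 : act 4 n31046 = n27267 := d32_1 D31046 (iv D27267) D27266
theorem F143964 : act 5 n31046 = n31046 := d36_1 D31046 (iv D31046) F121602
theorem F143965 : act 8 n31046 = n27314 := d42_2 F121605 D31046 F121816
theorem F143966 : act 9 n31046 = n27300 := d43_2 (iv F121604) D31046 F121771
def n31047 : Q := act 6 n27267
theorem D31047 : act 6 n27267 = n31047 := rfl
theorem F143967 : act 0 n31047 = n31047 := d5_1 D31047 (iv D31047) F121606
theorem F143968 : act 2 n31047 = n27271 := d20_1 D31047 (iv D27271) (iv F121607)
theorem F143969 : act 7 n31047 = n27309 := d39_2 D27267 D31047 (iv D27309) (iv D21567) (iv F96532)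
def n31048 : Q := act 8 n27267
theorem D31048 : act 8 n27267 = n31048 := rfl
theorem F143970 : act 0 n31048 = n31048 := d7_1 D31048 (iv D31048) F121606
theorem F143971 : act 2 n31048 = n27272 := d22_1 D31048 (iv D27272) (iv F121607)
theorem F143972 : act 3 n31048 = n27762 := d28_1 D31048 (iv F143651) F143648
theorem F143973 : act 4 n31048 = n27314 := d33_1 D31048 (iv F143965) F143963
theorem F143974 : act 5 n31048 = n31048 := d37_1 D31048 (iv D31048) F121608 F96536 (iv F121608)
theorem F143975 : act 7 n31048 = n27268 := d42_1 D31048 (iv D27268) D27267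
theorem F143976 : act 9 n31048 = n27312 := d44_2 F143702 D31048 (iv D27312) (iv F121764) (iv F143701)
def n31049 : Q := act 6 n27269
theorem D31049 : act 6 n27269 = n31049 := rfl
theorem F143977 : act 0 n31049 = n31049 := d5_1 D31049 (iv D31049) F121616
theorem F143978 : act 3 n31049 = n27688 := d26_1 D31049 (iv D27688) (iv F121617)
theorem F143979 : act 4 n31049 = n27271 := d31_1 D31049 (iv D27271) (iv F121618)
theorem F143980 : act 7 n31049 = n27311 := d39_2 D27269 D31049 (iv D27311) (iv D21569) (iv F96540)
def n31050 : Q := act 8 n27269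
theorem D31050 : act 8 n27269 = n31050 := rfl
theorem F143981 : act 0 n31050 = n31050 := d7_1 D31050 (iv D31050) F121616
theorem F143982 : act 2 n31050 = n27314 := d22_1 D31050 (iv F143965) F143961
theorem F143983 : act 3 n31050 = n27689 := d28_1 D31050 (iv D27689) (iv F121617)
theorem F143984 : act 4 n31050 = n27272 := d33_1 D31050 (iv D27272) (iv F121618)
theorem F143985 : act 7 n31050 = n27270 := d42_1 D31050 (iv D27270) D27269
theorem F143986 : act 9 n31050 = n27310 := d44_2 F143709 D31050 (iv D27310) (iv F121759) (iv F143708)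
theorem F143987 : act 5 n27329 = n31050 := d38_3 F143986 F121800 D27329
def n31051 : Q := act 8 n27271
theorem D31051 : act 8 n27271 = n31051 := rfl
theorem F143988 : act 0 n31051 = n31051 := d7_1 D31051 (iv D31051) F121627
theorem F143989 : act 3 n31051 = n27274 := d28_1 D31051 (iv D27274) (iv F121628)
theorem F143990 : act 6 n31051 = n27272 := d40_1 D31051 (iv D27272) D27271
theorem F143991 : act 7 n31051 = n27313 := d42_1 D31051 (iv D27313) (iv F121629)
def n31052 : Q := act 9 n27272
theorem D31052 : act 9 n27272 = n31052 := rfl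
theorem F143992 : act 0 n31052 = n31052 := d8_1 D31052 (iv D31052) F121630
theorem F143993 : act 2 n31052 = n27312 := d23_1 D31052 (iv F143976) F143971
theorem F143994 : act 3 n31052 = n27275 := d29_1 D31052 (iv D27275) (iv F121631)
theorem F143995 : act 4 n31052 = n27310 := d34_1 D31052 (iv F143986) F143984
theorem F143996 : act 5 n31052 = n31052 := d38_1 D31052 (iv D31052) F121632
theorem F143997 : act 7 n31052 = n27273 := d43_1 D31052 (iv D27273) (iv F121633)
theorem F143998 : act 8 n31052 = n27308 := d44_1 D31052 F143721 (iv D31001) F121246 D27272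
def n31053 : Q := act 5 n27274
theorem D31053 : act 5 n27274 = n31053 := rfl
theorem F143999 : act 0 n31053 = n31053 := d4_1 D31053 (iv D31053) F121641
theorem F144000 : act 6 n31053 = n31053 := d35_2 (iv F121643) D31053 (iv D31053) F121643 F96553
theorem F144001 : act 7 n31053 = n27315 := d36_2 (iv F121644) D31053 (iv D27315)
def n31054 : Q := act 9 n27274
theorem D31054 : act 9 n27274 = n31054 := rfl
theorem F144002 : act 0 n31054 = n31054 := d8_1 D31054 (iv D31054) F121641
theorem F144003 : act 4 n31054 = n27693 := d34_1 D31054 (iv D27693) (iv F121642)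
theorem F144004 : act 6 n31054 = n27275 := d41_1 D31054 (iv D27275) (iv F121643)
theorem F144005 : act 7 n31054 = n27316 := d43_1 D31054 (iv D27316) (iv F121644)
def n31055 : Q := act 7 n27278
theorem D31055 : act 7 n27278 = n31055 := rfl
theorem F144006 : act 0 n31055 = n31055 := d6_1 D31055 (iv D31055) F121661
theorem F144007 : act 2 n31055 = n27281 := d21_1 D31055 (iv D27281) (iv F121662)
theorem F144008 : act 3 n31055 = n27674 := d27_1 D31055 (iv D27674) (iv F121663)
theorem F144009 : act 4 n31055 = n27586 := d32_1 D31055 F122984 (iv F121664)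
theorem F144010 : act 5 n31055 = n27279 := d36_1 D31055 (iv D27279) D27278
theorem F144011 : act 8 n31055 = n27584 := d42_2 F121667 D31055 (iv D27584)
theorem F144012 : act 9 n31055 = n27532 := d43_2 (iv F135460) D31055 F122736
def n31056 : Q := act 7 n27280
theorem D31056 : act 7 n27280 = n31056 := rfl
theorem F144013 : act 0 n31056 = n31056 := d6_1 D31056 (iv D31056) F121675
theorem F144014 : act 2 n31056 = n27586 := d21_1 D31056 F122984 (iv F121676)
theorem F144015 : act 3 n31056 = n27289 := d27_1 D31056 (iv D27289) (iv F121677)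
theorem F144016 : act 4 n31056 = n27281 := d32_1 D31056 (iv D27281) D27280
theorem F144017 : act 5 n31056 = n27351 := d36_1 D31056 (iv D27351) (iv F121678)
theorem F144018 : act 8 n31056 = n27579 := d42_2 (iv F135481) D31056 F122954
theorem F144019 : act 9 n31056 = n27540 := d43_2 (iv F121680) D31056 (iv D27540)
def n31057 : Q := act 6 n27281
theorem D31057 : act 6 n27281 = n31057 := rfl
theorem F144020 : act 0 n31057 = n31057 := d5_1 D31057 (iv D31057) F121682
theorem F144021 : act 3 n31057 = n27283 := d26_1 D31057 (iv D27283) (iv F121683)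
theorem F144022 : act 5 n31057 = n27702 := d35_1 D31057 (iv D27702) F98014 (iv F96578) (iv F121684)
theorem F144023 : act 7 n31057 = n27585 := d39_2 D27281 D31057 (iv D27585) (iv D21793) (iv F96573)
theorem F144024 : act 9 n31057 = n27542 := d41_2 (iv F121685) D31057 (iv D27542)
def n31058 : Q := act 8 n27281
theorem D31058 : act 8 n27281 = n31058 := rfl
theorem F144025 : act 0 n31058 = n31058 := d7_1 D31058 (iv D31058) F121682
theorem F144026 : act 2 n31058 = n27584 := d22_1 D31058 (iv F144011) F144007
theorem F144027 : act 3 n31058 = n27284 := d28_1 D31058 (iv D27284) (iv F121683)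
theorem F144028 : act 4 n31058 = n27579 := d33_1 D31058 (iv F144018) F144016
theorem F144029 : act 5 n31058 = n31058 := d37_1 D31058 (iv D31058) F121684 F96579 (iv F121684)
theorem F144030 : act 7 n31058 = n27282 := d42_1 D31058 (iv D27282) D27281
theorem F144031 : act 9 n31058 = n27555 := d44_2 (iv F121685) D31058 (iv D27555) F97535 F135447
def n31059 : Q := act 8 n27283
theorem D31059 : act 8 n27283 = n31059 := rfl
theorem F144032 : act 0 n31059 = n31059 := d7_1 D31059 (iv D31059) F121693
theorem F144033 : act 2 n31059 = n27678 := d22_1 D31059 (iv D27678) (iv F121694)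
theorem F144034 : act 4 n31059 = n27292 := d33_1 D31059 (iv D27292) (iv F121695)
theorem F144035 : act 6 n31059 = n27284 := d40_1 D31059 (iv D27284) D27283
theorem F144036 : act 7 n31059 = n27587 := d42_1 D31059 (iv D27587) (iv F121697)
def n31060 : Q := act 9 n27284
theorem D31060 : act 9 n27284 = n31060 := rfl
theorem F144037 : act 0 n31060 = n31060 := d8_1 D31060 (iv D31060) F121699
theorem F144038 : act 2 n31060 = n27679 := d23_1 D31060 (iv D27679) (iv F121700)
theorem F144039 : act 3 n31060 = n27555 := d29_1 D31060 (iv F144031) F144027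
theorem F144040 : act 4 n31060 = n27293 := d34_1 D31060 (iv D27293) (iv F121701)
theorem F144041 : act 5 n31060 = n31060 := d38_1 D31060 (iv D31060) F121702
theorem F144042 : act 7 n31060 = n27285 := d43_1 D31060 (iv D27285) (iv F121703)
theorem F144043 : act 8 n31060 = n27546 := d44_1 D31060 (iv D27546) (iv D21764) (iv F96585) D27284
def n31061 : Q := act 7 n27286
theorem D31061 : act 7 n27286 = n31061 := rfl
theorem F144044 : act 0 n31061 = n27287 := d6_1 D31061 (iv D27287) (iv F121711)
theorem F144045 : act 1 n31061 = n31061 := d14_1 D31061 (iv D31061) F121712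
theorem F144046 : act 4 n31061 = n27364 := d32_1 D31061 (iv D27364) (iv F121713)
theorem F144047 : act 6 n31061 = n27304 := d39_1 D31061 (iv D27304) (iv D21563) (iv F96593) D27286
theorem F144048 : act 8 n31061 = n27317 := d42_2 (iv F121714) D31061 (iv D27317)
def n31062 : Q := act 6 n27288
theorem D31062 : act 6 n27288 = n31062 := rfl
theorem F144049 : act 0 n31062 = n31062 := d5_1 D31062 (iv D31062) F121719
theorem F144050 : act 2 n31062 = n27290 := d20_1 D31062 (iv D27290) (iv F121720)
theorem F144051 : act 4 n31062 = n27744 := d31_1 D31062 F123593 (iv F121721)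
theorem F144052 : act 5 n31062 = n27309 := d35_1 D31062 (iv D27309) F96679 (iv F96605) (iv F121722)
theorem F144053 : act 8 n31062 = n27743 := d40_2 (iv F121723) D31062 (iv D27743)
def n31063 : Q := act 6 n27289
theorem D31063 : act 6 n27289 = n31063 := rfl
theorem F144054 : act 0 n31063 = n31063 := d5_1 D31063 (iv D31063) F121724
theorem F144055 : act 2 n31063 = n27744 := d20_1 D31063 F123593 (iv F121725)
theorem F144056 : act 4 n31063 = n27290 := d31_1 D31063 (iv D27290) (iv F121726)
theorem F144057 : act 8 n31063 = n27742 := d40_2 (iv F121728) D31063 (iv D27742)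
def n31064 : Q := act 8 n27290
theorem D31064 : act 8 n27290 = n31064 := rfl
theorem F144058 : act 0 n31064 = n31064 := d7_1 D31064 (iv D31064) F121729
theorem F144059 : act 2 n31064 = n27743 := d22_1 D31064 (iv F144053) F144050
theorem F144060 : act 3 n31064 = n27292 := d28_1 D31064 (iv D27292) (iv F121730)
theorem F144061 : act 4 n31064 = n27742 := d33_1 D31064 (iv F144057) F144056
theorem F144062 : act 6 n31064 = n27291 := d40_1 D31064 (iv D27291) D27290
theorem F144063 : act 9 n27756 = n31064 := d41_0 F144062 (iv F121738) D27756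
def n31065 : Q := act 5 n27292
theorem D31065 : act 5 n27292 = n31065 := rfl
theorem F144064 : act 0 n31065 = n31065 := d4_1 D31065 (iv D31065) F121739
theorem F144065 : act 6 n31065 = n27321 := d35_2 (iv F121740) D31065 (iv D27321) F96741 (iv F96623)
theorem F144066 : act 8 n31065 = n27315 := d37_2 D27292 D31065 (iv D27315) (iv D21574) (iv F96621)
def n31066 : Q := act 9 n27292
theorem D31066 : act 9 n27292 = n31066 := rfl
theorem F144067 : act 0 n31066 = n31066 := d8_1 D31066 (iv D31066) F121739
theorem F144068 : act 3 n31066 = n27756 := d29_1 D31066 F144063 F144060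
theorem F144069 : act 6 n31066 = n27293 := d41_1 D31066 (iv D27293) (iv F121740)
def n31067 : Q := act 5 n27294
theorem D31067 : act 5 n27294 = n31067 := rfl
theorem F144070 : act 0 n31067 = n27295 := d4_1 D31067 (iv D27295) (iv F121745)
theorem F144071 : act 1 n31067 = n31067 := d12_1 D31067 (iv D31067) F121746
theorem F144072 : act 9 n31067 = n27303 := d38_2 (iv F121749) D31067 (iv D27303)
def n31068 : Q := act 7 n27294
theorem D31068 : act 7 n27294 = n31068 := rfl
theorem F144073 : act 0 n31068 = n27296 := d6_1 D31068 (iv D27296) (iv F121745)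
theorem F144074 : act 1 n31068 = n31068 := d14_1 D31068 (iv D31068) F121746
theorem F144075 : act 4 n31068 = n27370 := d32_1 D31068 (iv D27370) (iv F121747)
theorem F144076 : act 8 n31068 = n31068 := d42_2 F121748 D31068 (iv D31068)
theorem F144077 : act 9 n31068 = n27304 := d43_2 (iv F121749) D31068 (iv D27304)
def n31069 : Q := act 7 n27295
theorem D31069 : act 7 n27295 = n31069 := rfl
theorem F144078 : act 1 n31069 = n27297 := d14_1 D31069 (iv D27297) (iv F121750)
theorem F144079 : act 5 n31069 = n27296 := d36_1 D31069 (iv D27296) D27295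
theorem F144080 : act 9 n31069 = n27306 := d43_2 (iv F121751) D31069 (iv D27306)
def n31070 : Q := act 6 n27297
theorem D31070 : act 6 n27297 = n31070 := rfl
theorem F144081 : act 0 n31070 = n31070 := d5_1 D31070 (iv D31070) F121756
theorem F144082 : act 2 n31070 = n27299 := d20_1 D31070 (iv D27299) (iv F121757)
theorem F144083 : act 9 n31070 = n27309 := d41_2 (iv F121759) D31070 (iv D27309)
def n31071 : Q := act 6 n27298
theorem D31071 : act 6 n27298 = n31071 := rfl
theorem F144084 : act 0 n31071 = n31071 := d5_1 D31071 (iv D31071) F121760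
theorem F144085 : act 3 n31071 = n27743 := d26_1 D31071 (iv D27743) (iv F121761)
theorem F144086 : act 4 n31071 = n27299 := d31_1 D31071 (iv D27299) (iv F121762)
theorem F144087 : act 9 n31071 = n27311 := d41_2 (iv F121764) D31071 (iv D27311)
def n31072 : Q := act 8 n27299
theorem D31072 : act 8 n27299 = n31072 := rfl
theorem F144088 : act 0 n31072 = n31072 := d7_1 D31072 (iv D31072) F121765
theorem F144089 : act 3 n31072 = n27301 := d28_1 D31072 (iv D27301) (iv F121766)
theorem F144090 : act 6 n31072 = n27300 := d40_1 D31072 (iv D27300) D27299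
def n31073 : Q := act 5 n27301
theorem D31073 : act 5 n27301 = n31073 := rfl
theorem F144091 : act 0 n31073 = n31073 := d4_1 D31073 (iv D31073) F121772
theorem F144092 : act 6 n31073 = n31073 := d35_2 (iv F121774) D31073 (iv D31073) F121774 F96660
def n31074 : Q := act 9 n27301
theorem D31074 : act 9 n27301 = n31074 := rfl
theorem F144093 : act 0 n31074 = n31074 := d8_1 D31074 (iv D31074) F121772
theorem F144094 : act 4 n31074 = n27747 := d34_1 D31074 (iv D27747) (iv F121773)
theorem F144095 : act 6 n31074 = n27302 := d41_1 D31074 (iv D27302) (iv F121774)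
theorem F144096 : act 8 n31074 = n27316 := d44_1 D31074 (iv D27316) (iv D21574) (iv F96657) D27301
def n31075 : Q := act 4 n27303
theorem D31075 : act 4 n27303 = n31075 := rfl
theorem F144097 : act 0 n31075 = n27305 := d3_1 D31075 (iv D27305) (iv F121780)
theorem F144098 : act 1 n31075 = n31075 := d11_1 D31075 (iv D31075) F121781
theorem F144099 : act 5 n31075 = n27376 := d30_2 D27303 D31075 (iv D27376) (iv D21639) (iv F96668)
def n31076 : Q := act 7 n27303
theorem D31076 : act 7 n27303 = n31076 := rfl
theorem F144100 : act 0 n31076 = n27306 := d6_1 D31076 (iv D27306) (iv F121780)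
theorem F144101 : act 1 n31076 = n31076 := d14_1 D31076 (iv D31076) F121781
theorem F144102 : act 5 n31076 = n27304 := d36_1 D31076 (iv D27304) D27303
def n31077 : Q := act 8 n27303
theorem D31077 : act 8 n27303 = n31077 := rfl
theorem F144103 : act 0 n31077 = n27307 := d7_1 D31077 (iv D27307) (iv F121780)
theorem F144104 : act 1 n31077 = n31077 := d15_1 D31077 (iv D31077) F121781
theorem F144105 : act 5 n31077 = n27324 := d37_1 D31077 (iv D27324) (iv D21584) (iv F96669) D27303
def n31078 : Q := act 7 n27305
theorem D31078 : act 7 n27305 = n31078 := rfl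
theorem F144106 : act 1 n31078 = n27308 := d14_1 D31078 (iv D27308) (iv F121786)
theorem F144107 : act 4 n31078 = n27306 := d32_1 D31078 (iv D27306) D27305
theorem F144108 : act 5 n31078 = n27378 := d36_1 D31078 (iv D27378) (iv F121787)
def n31079 : Q := act 6 n27306
theorem D31079 : act 6 n27306 = n31079 := rfl
theorem F144109 : act 1 n31079 = n27309 := d13_1 D31079 (iv D27309) (iv F121788)
def n31080 : Q := act 8 n27306
theorem D31080 : act 8 n27306 = n31080 := rfl
theorem F144110 : act 1 n31080 = n27310 := d15_1 D31080 (iv D27310) (iv F121788)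
theorem F144111 : act 5 n31080 = n27326 := d37_1 D31080 (iv D27326) F96759 (iv F96673) (iv F121789)
theorem F144112 : act 7 n31080 = n27307 := d42_1 D31080 (iv D27307) D27306
def n31081 : Q := act 6 n27308
theorem D31081 : act 6 n27308 = n31081 := rfl
theorem F144113 : act 0 n31081 = n31081 := d5_1 D31081 (iv D31081) F121792
theorem F144114 : act 2 n31081 = n27311 := d20_1 D31081 (iv D27311) (iv F121793)
theorem F144115 : act 4 n31081 = n27309 := d31_1 D31081 (iv D27309) (iv F121794)
def n31082 : Q := act 8 n27309
theorem D31082 : act 8 n27309 = n31082 := rfl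
theorem F144116 : act 0 n31082 = n31082 := d7_1 D31082 (iv D31082) F121796
theorem F144117 : act 2 n31082 = n27313 := d22_1 D31082 (iv D27313) (iv F121797)
theorem F144118 : act 6 n31082 = n27310 := d40_1 D31082 (iv D27310) D27309
def n31083 : Q := act 5 n27311
theorem D31083 : act 5 n27311 = n31083 := rfl
theorem F144119 : act 0 n31083 = n31083 := d4_1 D31083 (iv D31083) F121802
theorem F144120 : act 3 n31083 = n27760 := d25_1 D31083 (iv D27760) (iv F121803)
theorem F144121 : act 6 n31083 = n27381 := d35_2 D27311 D31083 (iv D27381) (iv D21645) (iv F96686)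
def n31084 : Q := act 8 n27311
theorem D31084 : act 8 n27311 = n31084 := rfl
theorem F144122 : act 0 n31084 = n31084 := d7_1 D31084 (iv D31084) F121802
theorem F144123 : act 3 n31084 = n27761 := d28_1 D31084 (iv D27761) (iv F121803)
theorem F144124 : act 4 n31084 = n27313 := d33_1 D31084 (iv D27313) (iv F121804)
theorem F144125 : act 6 n31084 = n27312 := d40_1 D31084 (iv D27312) D27311
def n31085 : Q := act 5 n27313
theorem D31085 : act 5 n27313 = n31085 := rfl
theorem F144126 : act 0 n31085 = n31085 := d4_1 D31085 (iv D31085) F121810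
theorem F144127 : act 3 n31085 = n27315 := d25_1 D31085 (iv D27315) (iv F121811)
theorem F144128 : act 6 n31085 = n27330 := d35_2 (iv F121812) D31085 (iv D27330) F96781 (iv F96695)
def n31086 : Q := act 9 n27313
theorem D31086 : act 9 n27313 = n31086 := rfl
theorem F144129 : act 0 n31086 = n31086 := d8_1 D31086 (iv D31086) F121810
theorem F144130 : act 3 n31086 = n27316 := d29_1 D31086 (iv D27316) (iv F121811)
theorem F144131 : act 6 n31086 = n27314 := d41_1 D31086 (iv D27314) (iv F121812)
def n31087 : Q := act 4 n27315
theorem D31087 : act 4 n27315 = n31087 := rfl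
theorem F144132 : act 0 n31087 = n31087 := d3_1 D31087 (iv D31087) F121817
theorem F144133 : act 2 n31087 = n27760 := d18_1 D31087 (iv F143829) F143828
theorem F144134 : act 5 n31087 = n27756 := d30_2 D27315 D31087 F123627 (iv F135499) (iv F96701)
theorem F144135 : act 6 n31087 = n27332 := d31_2 (iv F121818) D31087 (iv D27332)
def n31088 : Q := act 9 n27315
theorem D31088 : act 9 n27315 = n31088 := rfl
theorem F144136 : act 0 n31088 = n31088 := d8_1 D31088 (iv D31088) F121817
theorem F144137 : act 5 n31088 = n27316 := d38_1 D31088 (iv D27316) D27315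
theorem F144138 : act 6 n31088 = n27333 := d41_1 D31088 (iv D27333) (iv F121818)
def n31089 : Q := act 5 n27320
theorem D31089 : act 5 n27320 = n31089 := rfl
theorem F144139 : act 0 n31089 = n31089 := d4_1 D31089 (iv D31089) F121842
theorem F144140 : act 2 n31089 = n27858 := d19_1 D31089 (iv D27858) (iv F121843)
theorem F144141 : act 3 n31089 = n27321 := d25_1 D31089 (iv D27321) (iv F121844)
theorem F144142 : act 4 n31089 = n27333 := d30_1 D31089 F121901 F96791 (iv F96801) (iv F135526)
theorem F144143 : act 7 n31089 = n31089 := d36_2 F121847 D31089 (iv D31089)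
theorem F144144 : act 8 n31089 = n27330 := d37_2 D27320 D31089 (iv D27330) (iv D21591) (iv F96730)
theorem F144145 : act 9 n31089 = n27332 := d38_2 (iv F135527) D31089 F121898
def n31090 : Q := act 4 n27321
theorem D31090 : act 4 n27321 = n31090 := rfl
theorem F144146 : act 0 n31090 = n31090 := d3_1 D31090 (iv D31090) F121849
theorem F144147 : act 2 n31090 = n27863 := d18_1 D31090 F143867 F143864
theorem F144148 : act 5 n31090 = n31090 := d30_2 D27321 D31090 (iv D31090) (iv D27321) F96740
theorem F144149 : act 7 n31090 = n31090 := d32_2 F121850 D31090 (iv D31090)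
theorem F144150 : act 8 n31090 = n27332 := d33_2 (iv F121851) D31090 (iv D27332)
def n31091 : Q := act 9 n27321
theorem D31091 : act 9 n27321 = n31091 := rfl
theorem F144151 : act 0 n31091 = n31091 := d8_1 D31091 (iv D31091) F121849
theorem F144152 : act 3 n31091 = n27332 := d29_1 D31091 (iv F144145) F144141
theorem F144153 : act 5 n31091 = n27322 := d38_1 D31091 (iv D27322) D27321
theorem F144154 : act 7 n31091 = n31091 := d43_1 D31091 (iv D31091) F121850
def n31092 : Q := act 6 n27323
theorem D31092 : act 6 n27323 = n31092 := rfl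
theorem F144155 : act 0 n31092 = n27325 := d5_1 D31092 (iv D27325) (iv F121858)
theorem F144156 : act 1 n31092 = n31092 := d13_1 D31092 (iv D31092) F121859
theorem F144157 : act 4 n31092 = n31092 := d31_1 D31092 (iv D31092) F121860
theorem F144158 : act 7 n31092 = n31092 := d39_2 D27323 D31092 (iv D31092) (iv D27323) F96751
theorem F144159 : act 9 n31092 = n31092 := d41_2 F121862 D31092 (iv D31092)
def n31093 : Q := act 8 n27323
theorem D31093 : act 8 n27323 = n31093 := rfl
theorem F144160 : act 0 n31093 = n27326 := d7_1 D31093 (iv D27326) (iv F121858)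
theorem F144161 : act 1 n31093 = n31093 := d15_1 D31093 (iv D31093) F121859
theorem F144162 : act 4 n31093 = n31093 := d33_1 D31093 (iv D31093) F121860
theorem F144163 : act 7 n31093 = n27324 := d42_1 D31093 (iv D27324) D27323
def n31094 : Q := act 9 n27324
theorem D31094 : act 9 n27324 = n31094 := rfl
theorem F144164 : act 0 n31094 = n27327 := d8_1 D31094 (iv D27327) (iv F121863)
theorem F144165 : act 1 n31094 = n31094 := d16_1 D31094 (iv D31094) F121864
theorem F144166 : act 4 n31094 = n31094 := d34_1 D31094 (iv D31094) F121865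
theorem F144167 : act 6 n31094 = n31094 := d41_1 D31094 (iv D31094) F121866
theorem F144168 : act 8 n31094 = n31094 := d44_1 D31094 (iv D31094) (iv D27324) F96752 D27324
def n31095 : Q := act 8 n27325
theorem D31095 : act 8 n27325 = n31095 := rfl
theorem F144169 : act 1 n31095 = n27328 := d15_1 D31095 (iv D27328) (iv F121867)
theorem F144170 : act 4 n31095 = n31095 := d33_1 D31095 (iv D31095) F121868
theorem F144171 : act 6 n31095 = n27326 := d40_1 D31095 (iv D27326) D27325
theorem F144172 : act 7 n31095 = n31095 := d42_1 D31095 (iv D31095) F121869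
def n31096 : Q := act 9 n27326
theorem D31096 : act 9 n27326 = n31096 := rfl
theorem F144173 : act 1 n31096 = n27329 := d16_1 D31096 (iv D27329) (iv F121871)
theorem F144174 : act 4 n31096 = n31096 := d34_1 D31096 (iv D31096) F121872
theorem F144175 : act 7 n31096 = n27327 := d43_1 D31096 (iv D27327) (iv F121873)
theorem F144176 : act 8 n31096 = n31096 := d44_1 D31096 (iv D31096) (iv D27326) F96760 D27326
def n31097 : Q := act 5 n27328
theorem D31097 : act 5 n27328 = n31097 := rfl
theorem F144177 : act 0 n31097 = n31097 := d4_1 D31097 (iv D31097) F121878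
theorem F144178 : act 2 n31097 = n27330 := d19_1 D31097 (iv D27330) (iv F121879)
theorem F144179 : act 7 n31097 = n31097 := d36_2 F121882 D31097 (iv D31097)
theorem F144180 : act 8 n31097 = n27858 := d37_2 D27328 D31097 (iv D27858) (iv F121832) F121830
def n31098 : Q := act 9 n27328
theorem D31098 : act 9 n27328 = n31098 := rfl
theorem F144181 : act 0 n31098 = n31098 := d8_1 D31098 (iv D31098) F121878
theorem F144182 : act 2 n31098 = n27331 := d23_1 D31098 (iv D27331) (iv F121879)
theorem F144183 : act 4 n31098 = n31098 := d34_1 D31098 (iv D31098) F121880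
theorem F144184 : act 6 n31098 = n27329 := d41_1 D31098 (iv D27329) (iv F121881)
theorem F144185 : act 7 n31098 = n31098 := d43_1 D31098 (iv D31098) F121882
theorem F144186 : act 8 n31098 = n31098 := d44_1 D31098 (iv D31098) (iv D27328) F96768 D27328
def n31099 : Q := act 4 n27330
theorem D31099 : act 4 n27330 = n31099 := rfl
theorem F144187 : act 0 n31099 = n31099 := d3_1 D31099 (iv D31099) F121888
theorem F144188 : act 5 n31099 = n31099 := d30_2 D27330 D31099 (iv D31099) (iv D27330) F96780
theorem F144189 : act 7 n31099 = n31099 := d32_2 F121890 D31099 (iv D31099)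
theorem F144190 : act 8 n31099 = n27333 := d33_2 F144144 D31099 (iv F144142)
def n31100 : Q := act 9 n27330
theorem D31100 : act 9 n27330 = n31100 := rfl
theorem F144191 : act 0 n31100 = n31100 := d8_1 D31100 (iv D31100) F121888
theorem F144192 : act 3 n31100 = n27333 := d29_1 D31100 (iv D27333) (iv F121889)
theorem F144193 : act 5 n31100 = n27331 := d38_1 D31100 (iv D27331) D27330
theorem F144194 : act 7 n31100 = n31100 := d43_1 D31100 (iv D31100) F121890
def n31101 : Q := act 6 n27351
theorem D31101 : act 6 n27351 = n31101 := rfl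
theorem F144195 : act 0 n31101 = n31101 := d5_1 D31101 (iv D31101) F121999
theorem F144196 : act 2 n31101 = n28078 := d20_1 D31101 F124996 (iv F122000)
theorem F144197 : act 3 n31101 = n27366 := d26_1 D31101 (iv D27366) (iv F122001)
theorem F144198 : act 4 n31101 = n27352 := d31_1 D31101 (iv D27352) (iv F122002)
theorem F144199 : act 7 n31101 = n31101 := d39_2 D27351 D31101 (iv D31101) (iv D27351) F96855
theorem F144200 : act 8 n31101 = n28072 := d40_2 (iv F135566) D31101 F124968
theorem F144201 : act 9 n31101 = n28058 := d41_2 (iv F135567) D31101 F124909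
def n31102 : Q := act 7 n27356
theorem D31102 : act 7 n27356 = n31102 := rfl
theorem F144202 : act 0 n31102 = n27357 := d6_1 D31102 (iv D27357) (iv F122026)
theorem F144203 : act 1 n31102 = n31102 := d14_1 D31102 (iv D31102) F122027
theorem F144204 : act 3 n31102 = n31102 := d27_1 D31102 (iv D31102) F122028
theorem F144205 : act 6 n31102 = n27370 := d39_1 D31102 (iv D27370) (iv D21631) (iv F96889) D27356
theorem F144206 : act 8 n31102 = n31102 := d42_2 F122029 D31102 (iv D31102)
theorem F144207 : act 9 n31102 = n27364 := d43_2 (iv F122030) D31102 (iv D27364)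
def n31103 : Q := act 6 n27358
theorem D31103 : act 6 n27358 = n31103 := rfl
theorem F144208 : act 0 n31103 = n31103 := d5_1 D31103 (iv D31103) F122036
theorem F144209 : act 2 n31103 = n27360 := d20_1 D31103 (iv D27360) (iv F122037)
theorem F144210 : act 3 n31103 = n31103 := d26_1 D31103 (iv D31103) F122038
theorem F144211 : act 4 n31103 = n28170 := d31_1 D31103 F125440 (iv F122039)
theorem F144212 : act 5 n31103 = n27372 := d35_1 D31103 (iv D27372) F96995 (iv F96906) (iv F122040)
theorem F144213 : act 7 n31103 = n31103 := d39_2 D27358 D31103 (iv D31103) (iv D27358) F96899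
theorem F144214 : act 8 n31103 = n28186 := d40_2 (iv F122041) D31103 F125504
theorem F144215 : act 9 n31103 = n27365 := d41_2 (iv F122042) D31103 (iv D27365)
def n31104 : Q := act 6 n27359
theorem D31104 : act 6 n27359 = n31104 := rfl
theorem F144216 : act 0 n31104 = n31104 := d5_1 D31104 (iv D31104) F122043
theorem F144217 : act 2 n31104 = n28170 := d20_1 D31104 F125440 (iv F122044)
theorem F144218 : act 3 n31104 = n28058 := d26_1 D31104 F124909 (iv F135087)
theorem F144219 : act 4 n31104 = n27360 := d31_1 D31104 (iv D27360) (iv F122045)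
theorem F144220 : act 7 n31104 = n31104 := d39_2 D27359 D31104 (iv D31104) (iv D27359) F96911
theorem F144221 : act 8 n31104 = n28055 := d40_2 (iv F135088) D31104 (iv D28055)
theorem F144222 : act 9 n31104 = n27366 := d41_2 (iv F122047) D31104 (iv D27366)
def n31105 : Q := act 8 n27360
theorem D31105 : act 8 n27360 = n31105 := rfl
theorem F144223 : act 0 n31105 = n31105 := d7_1 D31105 (iv D31105) F122048
theorem F144224 : act 2 n31105 = n28186 := d22_1 D31105 (iv F144214) F144209
theorem F144225 : act 3 n31105 = n27362 := d28_1 D31105 (iv D27362) (iv F122049)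
theorem F144226 : act 4 n31105 = n28055 := d33_1 D31105 (iv F144221) F144219
theorem F144227 : act 6 n31105 = n27361 := d40_1 D31105 (iv D27361) D27360
theorem F144228 : act 7 n31105 = n31105 := d42_1 D31105 (iv D31105) F122051
theorem F144229 : act 9 n31105 = n28066 := d44_2 (iv F122052) D31105 F135095 F122094 (iv D27367)
def n31106 : Q := act 5 n27362
theorem D31106 : act 5 n27362 = n31106 := rfl
theorem F144230 : act 0 n31106 = n31106 := d4_1 D31106 (iv D31106) F122060
theorem F144231 : act 2 n31106 = n31106 := d19_1 D31106 (iv D31106) F122061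
theorem F144232 : act 4 n31106 = n31106 := d30_1 D31106 (iv D31106) (iv F135655) F135656 F135655
theorem F144233 : act 6 n31106 = n31106 := d35_2 (iv F122062) D31106 (iv D31106) F122062 F96932
theorem F144234 : act 7 n31106 = n31106 := d36_2 F122063 D31106 (iv D31106)
theorem F144235 : act 8 n31106 = n27375 := d37_2 D27362 D31106 (iv D27375) (iv D21638) (iv F96927)
def n31107 : Q := act 5 n27366
theorem D31107 : act 5 n27366 = n31107 := rfl
theorem F144236 : act 0 n31107 = n31107 := d4_1 D31107 (iv D31107) F122082
theorem F144237 : act 2 n31107 = n28169 := d19_1 D31107 (iv D28169) (iv F122083)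
theorem F144238 : act 4 n31107 = n27381 := d30_1 D31107 (iv D27381) F97043 (iv F96960) (iv F122084)
theorem F144239 : act 7 n31107 = n31107 := d36_2 F122085 D31107 (iv D31107)
theorem F144240 : act 8 n31107 = n28172 := d37_2 (iv F122086) D31107 F125447 F99765 (iv F135325)
def n31108 : Q := act 7 n27369
theorem D31108 : act 7 n27369 = n31108 := rfl
theorem F144241 : act 0 n31108 = n27371 := d6_1 D31108 (iv D27371) (iv F122101)
theorem F144242 : act 1 n31108 = n31108 := d14_1 D31108 (iv D31108) F122102
theorem F144243 : act 3 n31108 = n31108 := d27_1 D31108 (iv D31108) F122103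
theorem F144244 : act 5 n31108 = n27370 := d36_1 D31108 (iv D27370) D27369
theorem F144245 : act 9 n31108 = n27377 := d43_2 (iv F122105) D31108 (iv D27377)
def n31109 : Q := act 6 n27371
theorem D31109 : act 6 n27371 = n31109 := rfl
theorem F144246 : act 1 n31109 = n27372 := d13_1 D31109 (iv D27372) (iv F122111)
theorem F144247 : act 3 n31109 = n31109 := d26_1 D31109 (iv D31109) F122112
theorem F144248 : act 7 n31109 = n31109 := d39_2 D27371 D31109 (iv D31109) (iv D27371) F96986
theorem F144249 : act 9 n31109 = n27379 := d41_2 (iv F122114) D31109 (iv D27379)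
def n31110 : Q := act 5 n27373
theorem D31110 : act 5 n27373 = n31110 := rfl
theorem F144250 : act 0 n31110 = n31110 := d4_1 D31110 (iv D31110) F122120
theorem F144251 : act 3 n31110 = n27858 := d25_1 D31110 (iv D27858) (iv F122121)
theorem F144252 : act 7 n31110 = n31110 := d36_2 F122123 D31110 (iv D31110)
theorem F144253 : act 9 n31110 = n27381 := d38_2 (iv F122124) D31110 (iv D27381)
def n31111 : Q := act 5 n27374
theorem D31111 : act 5 n27374 = n31111 := rfl
theorem F144254 : act 0 n31111 = n31111 := d4_1 D31111 (iv D31111) F122125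
theorem F144255 : act 3 n31111 = n27375 := d25_1 D31111 (iv D27375) (iv F122126)
theorem F144256 : act 6 n31111 = n31111 := d35_2 (iv F122127) D31111 (iv D31111) F122127 F97007
theorem F144257 : act 7 n31111 = n31111 := d36_2 F122128 D31111 (iv D31111)
theorem F144258 : act 9 n31111 = n31111 := d38_2 F122129 D31111 (iv D31111)
def n31112 : Q := act 7 n27376
theorem D31112 : act 7 n27376 = n31112 := rfl
theorem F144259 : act 0 n31112 = n27378 := d6_1 D31112 (iv D27378) (iv F122136)
theorem F144260 : act 1 n31112 = n31112 := d14_1 D31112 (iv D31112) F122137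
theorem F144261 : act 4 n31112 = n27377 := d32_1 D31112 (iv D27377) D27376
theorem F144262 : act 8 n31112 = n31112 := d42_2 F122139 D31112 (iv D31112)
def n31113 : Q := act 6 n27377
theorem D31113 : act 6 n27377 = n31113 := rfl
theorem F144263 : act 0 n31113 = n27379 := d5_1 D31113 (iv D27379) (iv F122140)
theorem F144264 : act 1 n31113 = n31113 := d13_1 D31113 (iv D31113) F122141
theorem F144265 : act 3 n31113 = n31113 := d26_1 D31113 (iv D31113) F122142
theorem F144266 : act 7 n31113 = n31113 := d39_2 D27377 D31113 (iv D31113) (iv D27377) F97019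
theorem F144267 : act 8 n31113 = n31113 := d40_2 F122144 D31113 (iv D31113)
def n31114 : Q := act 6 n27378
theorem D31114 : act 6 n27378 = n31114 := rfl
theorem F144268 : act 1 n31114 = n27380 := d13_1 D31114 (iv D27380) (iv F122145)
theorem F144269 : act 4 n31114 = n27379 := d31_1 D31114 (iv D27379) (iv F122146)
theorem F144270 : act 7 n31114 = n31114 := d39_2 D27378 D31114 (iv D31114) (iv D27378) F97026
theorem F144271 : act 8 n31114 = n31114 := d40_2 F122147 D31114 (iv D31114)
def n31115 : Q := act 5 n27380
theorem D31115 : act 5 n27380 = n31115 := rfl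
theorem F144272 : act 0 n31115 = n31115 := d4_1 D31115 (iv D31115) F122152
theorem F144273 : act 2 n31115 = n27381 := d19_1 D31115 (iv D27381) (iv F122153)
theorem F144274 : act 4 n31115 = n28169 := d30_1 D31115 (iv D28169) (iv F122078) F122079 (iv F122154)
theorem F144275 : act 7 n31115 = n31115 := d36_2 F122155 D31115 (iv D31115)
def n31116 : Q := act 8 n27381
theorem D31116 : act 8 n27381 = n31116 := rfl
theorem F144276 : act 0 n31116 = n31116 := d7_1 D31116 (iv D31116) F122157
theorem F144277 : act 3 n31116 = n27863 := d28_1 D31116 (iv D27863) (iv F122158)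
theorem F144278 : act 4 n31116 = n28172 := d33_1 D31116 (iv F144240) F144238
theorem F144279 : act 5 n31116 = n31116 := d37_1 D31116 (iv D31116) (iv D27381) F97045 D27381
theorem F144280 : act 7 n31116 = n31116 := d42_1 D31116 (iv D31116) F122159
theorem F144281 : act 9 n28171 = n31116 := d34_0 F144278 (iv D28172) D28171
def n31117 : Q := act 6 n27386
theorem D31117 : act 6 n27386 = n31117 := rfl
theorem F144282 : act 0 n31117 = n27461 := d5_1 D31117 (iv D27461) (iv F122179)
theorem F144283 : act 1 n31117 = n31117 := d13_1 D31117 (iv D31117) F122180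
theorem F144284 : act 9 n31117 = n27395 := d41_2 (iv F122182) D31117 (iv D27395)
def n31118 : Q := act 8 n27461
theorem D31118 : act 8 n27461 = n31118 := rfl
theorem F144285 : act 1 n31118 = n27587 := d15_1 D31118 (iv D27587) (iv F122468)
theorem F144286 : act 6 n31118 = n27462 := d40_1 D31118 (iv D27462) D27461
def n31119 : Q := act 6 n27529
theorem D31119 : act 6 n27529 = n31119 := rfl
theorem F144287 : act 0 n31119 = n31119 := d5_1 D31119 (iv D31119) F122718
theorem F144288 : act 2 n31119 = n27690 := d20_1 D31119 F123420 (iv F135450)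
theorem F144289 : act 3 n31119 = n27531 := d26_1 D31119 (iv D27531) (iv F122719)
theorem F144290 : act 5 n31119 = n27542 := d35_1 D31119 (iv D27542) F97493 (iv F97461) (iv F122720)
theorem F144291 : act 7 n31119 = n27575 := d39_2 D27529 D31119 (iv D27575) (iv D21783) (iv F97456)
theorem F144292 : act 8 n31119 = n27686 := d40_2 (iv F135451) D31119 (iv D27686)
theorem F144293 : act 9 n31119 = n27702 := d41_2 (iv F122721) D31119 (iv D27702)
def n31120 : Q := act 8 n27531
theorem D31120 : act 8 n27531 = n31120 := rfl
theorem F144294 : act 0 n31120 = n31120 := d7_1 D31120 (iv D31120) F122726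
theorem F144295 : act 2 n31120 = n27542 := d22_1 D31120 F135495 (iv F122727)
theorem F144296 : act 3 n31120 = n27686 := d28_1 D31120 (iv F144292) F144289
theorem F144297 : act 4 n31120 = n27718 := d33_1 D31120 (iv D27718) (iv F122728)
theorem F144298 : act 5 n31120 = n27690 := d37_1 D31120 (iv D27690) (iv F135503) (iv D27545) (iv F122729)
theorem F144299 : act 6 n31120 = n27532 := d40_1 D31120 (iv D27532) D27531
theorem F144300 : act 7 n31120 = n27578 := d42_1 D31120 (iv D27578) (iv F122730)
def n31121 : Q := act 6 n27540
theorem D31121 : act 6 n27540 = n31121 := rfl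
theorem F144301 : act 0 n31121 = n31121 := d5_1 D31121 (iv D31121) F122771
theorem F144302 : act 2 n31121 = n27718 := d20_1 D31121 F123515 (iv F135482)
theorem F144303 : act 4 n31121 = n27542 := d31_1 D31121 (iv D27542) (iv F122772)
theorem F144304 : act 7 n31121 = n27597 := d39_2 D27540 D31121 (iv D27597) (iv D21804) (iv F97490)
theorem F144305 : act 8 n31121 = n27564 := d40_2 (iv F135484) D31121 (iv D27564)
def n31122 : Q := act 9 n27545
theorem D31122 : act 9 n27545 = n31122 := rfl
theorem F144306 : act 0 n31122 = n31122 := d8_1 D31122 (iv D31122) F122794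
theorem F144307 : act 2 n31122 = n27693 := d23_1 D31122 (iv D27693) (iv F122795)
theorem F144308 : act 3 n31122 = n27554 := d29_1 D31122 F122844 (iv F135502)
theorem F144309 : act 5 n31122 = n27676 := d38_1 D31122 F123374 (iv F135503)
theorem F144310 : act 6 n31122 = n27546 := d41_1 D31122 (iv D27546) (iv F122796)
theorem F144311 : act 7 n31122 = n27603 := d43_1 D31122 (iv D27603) (iv F122797)
def n31123 : Q := act 8 n27554
theorem D31123 : act 8 n27554 = n31123 := rfl
theorem F144312 : act 0 n31123 = n31123 := d7_1 D31123 (iv D31123) F122839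
theorem F144313 : act 2 n31123 = n27597 := d22_1 D31123 F135497 (iv F122840)
theorem F144314 : act 4 n31123 = n27578 := d33_1 D31123 (iv D27578) (iv F122841)
theorem F144315 : act 6 n31123 = n27555 := d40_1 D31123 (iv D27555) D27554
theorem F144316 : act 7 n31123 = n27718 := d42_1 D31123 (iv D27718) (iv F122843)
def n31124 : Q := act 6 n27562
theorem D31124 : act 6 n27562 = n31124 := rfl
theorem F144317 : act 0 n31124 = n31124 := d5_1 D31124 (iv D31124) F122885
theorem F144318 : act 2 n31124 = n27764 := d20_1 D31124 F123654 (iv F135090)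
theorem F144319 : act 3 n31124 = n27564 := d26_1 D31124 (iv D27564) (iv F122886)
theorem F144320 : act 5 n31124 = n27585 := d35_1 D31124 (iv D27585) F97634 (iv F97560) (iv F122887)
theorem F144321 : act 7 n31124 = n27702 := d39_2 D27562 D31124 (iv D27702) (iv D21890) (iv F97555)
theorem F144322 : act 9 n31124 = n27575 := d41_2 (iv F122888) D31124 (iv D27575)
def n31125 : Q := act 6 n27573
theorem D31125 : act 6 n27573 = n31125 := rfl
theorem F144323 : act 0 n31125 = n31125 := d5_1 D31125 (iv D31125) F122933
theorem F144324 : act 2 n31125 = n27761 := d20_1 D31125 F123644 (iv F135466)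
theorem F144325 : act 4 n31125 = n27575 := d31_1 D31125 (iv D27575) (iv F122934)
theorem F144326 : act 8 n31125 = n27756 := d40_2 (iv F135467) D31125 (iv D27756)
def n31126 : Q := act 9 n27578
theorem D31126 : act 9 n27578 = n31126 := rfl
theorem F144327 : act 0 n31126 = n31126 := d8_1 D31126 (iv D31126) F122948
theorem F144328 : act 2 n31126 = n27585 := d23_1 D31126 F122980 (iv F135476)
theorem F144329 : act 3 n31126 = n27742 := d29_1 D31126 F123587 (iv F135477)
theorem F144330 : act 5 n31126 = n27764 := d38_1 D31126 (iv D27764) (iv F135462)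
theorem F144331 : act 6 n31126 = n27579 := d41_1 D31126 (iv D27579) (iv F122950)
def n31127 : Q := act 6 n27584
theorem D31127 : act 6 n27584 = n31127 := rfl
theorem F144332 : act 0 n31127 = n31127 := d5_1 D31127 (iv D31127) F122974
theorem F144333 : act 4 n31127 = n27585 := d31_1 D31127 (iv D27585) (iv F122975)
theorem F144334 : act 9 n31127 = n27597 := d41_2 (iv F122977) D31127 (iv D27597)
def n31128 : Q := act 8 n27585
theorem D31128 : act 8 n27585 = n31128 := rfl
theorem F144335 : act 0 n31128 = n31128 := d7_1 D31128 (iv D31128) F122978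
theorem F144336 : act 3 n31128 = n27587 := d28_1 D31128 (iv D27587) (iv F122979)
theorem F144337 : act 6 n31128 = n27586 := d40_1 D31128 (iv D27586) D27585
theorem F144338 : act 9 n31128 = n27718 := d44_2 (iv F122980) D31128 (iv D27718) F98057 F135464
def n31129 : Q := act 5 n27587
theorem D31129 : act 5 n27587 = n31129 := rfl
theorem F144339 : act 0 n31129 = n31129 := d4_1 D31129 (iv D31129) F122985
theorem F144340 : act 2 n31129 = n27746 := d19_1 D31129 (iv D27746) (iv F122986)
theorem F144341 : act 6 n31129 = n28080 := d35_2 (iv F122987) D31129 (iv D28080) F99363 (iv F97644)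
def n31130 : Q := act 9 n27587
theorem D31130 : act 9 n27587 = n31130 := rfl
theorem F144342 : act 0 n31130 = n31130 := d8_1 D31130 (iv D31130) F122985
theorem F144343 : act 2 n31130 = n27747 := d23_1 D31130 (iv D27747) (iv F122986)
theorem F144344 : act 3 n31130 = n27718 := d29_1 D31130 (iv F144338) F144336
theorem F144345 : act 6 n31130 = n27588 := d41_1 D31130 (iv D27588) (iv F122987)
theorem F144346 : act 8 n31130 = n27603 := d44_1 D31130 (iv D27603) (iv D21809) (iv F97641) D27587
def n31131 : Q := act 5 n27597
theorem D31131 : act 5 n27597 = n31131 := rfl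
theorem F144347 : act 0 n31131 = n31131 := d4_1 D31131 (iv D31131) F123021
theorem F144348 : act 6 n31131 = n31131 := d35_2 D27597 D31131 (iv D31131) (iv D27597) F97674
def n31132 : Q := act 6 n27674
theorem D31132 : act 6 n27674 = n31132 := rfl
theorem F144349 : act 0 n31132 = n31132 := d5_1 D31132 (iv D31132) F123363
theorem F144350 : act 2 n31132 = n27676 := d20_1 D31132 (iv D27676) (iv F123364)
theorem F144351 : act 5 n31132 = n27693 := d35_1 D31132 F123430 F97995 (iv F135244) (iv F123365)
theorem F144352 : act 7 n31132 = n27742 := d39_2 D27674 D31132 (iv D27742) (iv D21921) (iv F97925)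
theorem F144353 : act 9 n31132 = n27686 := d41_2 (iv F123366) D31132 (iv D27686)
def n31133 : Q := act 6 n27675
theorem D31133 : act 6 n27675 = n31133 := rfl
theorem F144354 : act 0 n31133 = n31133 := d5_1 D31133 (iv D31133) F123367
theorem F144355 : act 4 n31133 = n27676 := d31_1 D31133 (iv D27676) (iv F123368)
theorem F144356 : act 7 n31133 = n27743 := d39_2 D27675 D31133 (iv D27743) (iv D21922) (iv F97934)
theorem F144357 : act 9 n31133 = n27688 := d41_2 (iv F123370) D31133 (iv D27688)
def n31134 : Q := act 8 n27676
theorem D31134 : act 8 n27676 = n31134 := rfl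
theorem F144358 : act 0 n31134 = n31134 := d7_1 D31134 (iv D31134) F123371
theorem F144359 : act 3 n31134 = n27678 := d28_1 D31134 (iv D27678) (iv F123372)
theorem F144360 : act 6 n31134 = n27677 := d40_1 D31134 (iv D27677) D27676
theorem F144361 : act 7 n31134 = n27744 := d42_1 D31134 (iv D27744) (iv F123373)
def n31135 : Q := act 5 n27678
theorem D31135 : act 5 n27678 = n31135 := rfl
theorem F144362 : act 0 n31135 = n31135 := d4_1 D31135 (iv D31135) F123379
theorem F144363 : act 6 n31135 = n31135 := d35_2 (iv F123380) D31135 (iv D31135) F123380 F97948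
theorem F144364 : act 7 n31135 = n27746 := d36_2 (iv F123381) D31135 (iv D27746)
def n31136 : Q := act 9 n27678
theorem D31136 : act 9 n27678 = n31136 := rfl
theorem F144365 : act 0 n31136 = n31136 := d8_1 D31136 (iv D31136) F123379
theorem F144366 : act 6 n31136 = n27679 := d41_1 D31136 (iv D27679) (iv F123380)
theorem F144367 : act 7 n31136 = n27747 := d43_1 D31136 (iv D27747) (iv F123381)
theorem F144368 : act 8 n31136 = n27693 := d44_1 D31136 (iv D27693) (iv D21883) (iv F97946) D27678
def n31137 : Q := act 6 n27685
theorem D31137 : act 6 n27685 = n31137 := rfl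
theorem F144369 : act 0 n31137 = n31137 := d5_1 D31137 (iv D31137) F123401
theorem F144370 : act 2 n31137 = n27688 := d20_1 D31137 (iv D27688) (iv F123402)
theorem F144371 : act 4 n31137 = n27686 := d31_1 D31137 (iv D27686) (iv F123403)
theorem F144372 : act 7 n31137 = n27756 := d39_2 D27685 D31137 (iv D27756) (iv D21933) (iv F97966)
def n31138 : Q := act 5 n27688
theorem D31138 : act 5 n27688 = n31138 := rfl
theorem F144373 : act 0 n31138 = n31138 := d4_1 D31138 (iv D31138) F123412
theorem F144374 : act 6 n31138 = n31138 := d35_2 D27688 D31138 (iv D31138) (iv D27688) F97976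
theorem F144375 : act 7 n31138 = n27760 := d36_2 (iv F123414) D31138 (iv D27760)
def n31139 : Q := act 8 n27688
theorem D31139 : act 8 n27688 = n31139 := rfl
theorem F144376 : act 0 n31139 = n31139 := d7_1 D31139 (iv D31139) F123412
theorem F144377 : act 4 n31139 = n27690 := d33_1 D31139 (iv D27690) (iv F123413)
theorem F144378 : act 6 n31139 = n27689 := d40_1 D31139 (iv D27689) D27688
theorem F144379 : act 7 n31139 = n27761 := d42_1 D31139 (iv D27761) (iv F123414)
def n31140 : Q := act 9 n27690
theorem D31140 : act 9 n27690 = n31140 := rfl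
theorem F144380 : act 0 n31140 = n31140 := d8_1 D31140 (iv D31140) F123418
theorem F144381 : act 2 n31140 = n27702 := d23_1 D31140 (iv F144293) F144288
theorem F144382 : act 3 n31140 = n27693 := d29_1 D31140 (iv D27693) (iv F123419)
theorem F144383 : act 6 n31140 = n27691 := d41_1 D31140 (iv D27691) (iv F123420)
theorem F144384 : act 7 n31140 = n27764 := d43_1 D31140 (iv D27764) (iv F123421)
def n31141 : Q := act 5 n27718
theorem D31141 : act 5 n27718 = n31141 := rfl
theorem F144385 : act 0 n31141 = n31141 := d4_1 D31141 (iv D31141) F123514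
theorem F144386 : act 6 n31141 = n28155 := d35_2 (iv F123515) D31141 (iv D28155) F99677 (iv F98059)
theorem F144387 : act 8 n31141 = n27746 := d37_2 D27718 D31141 (iv D27746) (iv D21926) (iv F98056)
def n31142 : Q := act 5 n27743
theorem D31142 : act 5 n27743 = n31142 := rfl
theorem F144388 : act 0 n31142 = n31142 := d4_1 D31142 (iv D31142) F123588
theorem F144389 : act 6 n31142 = n27858 := d35_2 D27743 D31142 (iv D27858) (iv D22021) (iv F98119)
theorem F144390 : act 9 n31142 = n27760 := d38_2 (iv F123590) D31142 (iv D27760)
def n31143 : Q := act 5 n27744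
theorem D31143 : act 5 n27744 = n31143 := rfl
theorem F144391 : act 0 n31143 = n31143 := d4_1 D31143 (iv D31143) F123591
theorem F144392 : act 3 n31143 = n27746 := d25_1 D31143 (iv D27746) (iv F123592)
theorem F144393 : act 6 n31143 = n28169 := d35_2 (iv F123593) D31143 (iv D28169) F99753 (iv F98126)
def n31144 : Q := act 9 n27744
theorem D31144 : act 9 n27744 = n31144 := rfl
theorem F144394 : act 0 n31144 = n31144 := d8_1 D31144 (iv D31144) F123591
theorem F144395 : act 3 n31144 = n27747 := d29_1 D31144 (iv D27747) (iv F123592)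
theorem F144396 : act 6 n31144 = n27745 := d41_1 D31144 (iv D27745) (iv F123593)
theorem F144397 : act 8 n31144 = n27764 := d44_1 D31144 (iv D27764) (iv D21941) (iv F98123) D27744
def n31145 : Q := act 4 n27746
theorem D31145 : act 4 n27746 = n31145 := rfl
theorem F144398 : act 0 n31145 = n31145 := d3_1 D31145 (iv D31145) F123599
theorem F144399 : act 6 n31145 = n28171 := d31_2 (iv F123600) D31145 (iv D28171)
def n31146 : Q := act 9 n27746
theorem D31146 : act 9 n27746 = n31146 := rfl
theorem F144400 : act 0 n31146 = n31146 := d8_1 D31146 (iv D31146) F123599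
theorem F144401 : act 5 n31146 = n27747 := d38_1 D31146 (iv D27747) D27746
theorem F144402 : act 6 n31146 = n28172 := d41_1 D31146 (iv D28172) (iv F123600)
def n31147 : Q := act 8 n27760
theorem D31147 : act 8 n27760 = n31147 := rfl
theorem F144403 : act 0 n31147 = n31147 := d7_1 D31147 (iv D31147) F123640
theorem F144404 : act 6 n31147 = n27863 := d40_1 D31147 (iv D27863) (iv F123641)
def n31148 : Q := act 5 n27761
theorem D31148 : act 5 n27761 = n31148 := rfl
theorem F144405 : act 0 n31148 = n31148 := d4_1 D31148 (iv D31148) F123642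
theorem F144406 : act 6 n31148 = n31148 := d35_2 (iv F123644) D31148 (iv D31148) F123644 F98171
def n31149 : Q := act 9 n27761
theorem D31149 : act 9 n27761 = n31149 := rfl
theorem F144407 : act 0 n31149 = n31149 := d8_1 D31149 (iv D31149) F123642
theorem F144408 : act 4 n31149 = n27764 := d34_1 D31149 (iv D27764) (iv F123643)
theorem F144409 : act 6 n31149 = n27762 := d41_1 D31149 (iv D27762) (iv F123644)
def n31150 : Q := act 9 n27863
theorem D31150 : act 9 n27863 = n31150 := rfl
theorem F144410 : act 0 n31150 = n31150 := d8_1 D31150 (iv D31150) F124072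
theorem F144411 : act 3 n31150 = n28171 := d29_1 D31150 F144281 F144277
theorem F144412 : act 5 n31150 = n31150 := d38_1 D31150 (iv D31150) F124073
theorem F144413 : act 7 n31150 = n31150 := d43_1 D31150 (iv D31150) F124074
def n31151 : Q := act 8 n27961
theorem D31151 : act 8 n27961 = n31151 := rfl
theorem F144414 : act 1 n31151 = n28058 := d15_1 D31151 (iv D28058) (iv F124533)
theorem F144415 : act 6 n31151 = n27962 := d40_1 D31151 (iv D27962) D27961
theorem F144416 : act 7 n31151 = n31151 := d42_1 D31151 (iv D31151) F124535
def n31152 : Q := act 5 n27982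
theorem D31152 : act 5 n27982 = n31152 := rfl
theorem F144417 : act 1 n31152 = n28080 := d12_1 D31152 (iv D28080) (iv F124607)
theorem F144418 : act 7 n31152 = n31152 := d36_2 F124610 D31152 (iv D31152)
def n31153 : Q := act 5 n28058
theorem D31153 : act 5 n28058 = n31153 := rfl
theorem F144419 : act 0 n31153 = n31153 := d4_1 D31153 (iv D31153) F124907
theorem F144420 : act 2 n31153 = n28155 := d19_1 D31153 (iv D28155) (iv F124908)
theorem F144421 : act 7 n31153 = n31153 := d36_2 F124910 D31153 (iv D31153)
theorem F144422 : act 8 n31153 = n28080 := d37_2 D28058 D31153 (iv D28080) (iv D22226) (iv F99263)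
def n31154 : Q := act 5 n28078
theorem D31154 : act 5 n28078 = n31154 := rfl
theorem F144423 : act 0 n31154 = n31154 := d4_1 D31154 (iv D31154) F124994
theorem F144424 : act 3 n31154 = n28080 := d25_1 D31154 (iv D28080) (iv F124995)
theorem F144425 : act 7 n31154 = n31154 := d36_2 F124997 D31154 (iv D31154)
theorem F144426 : act 9 n31154 = n28155 := d38_2 (iv F135572) D31154 (iv D28155)
def n31155 : Q := act 4 n28080
theorem D31155 : act 4 n28080 = n31155 := rfl
theorem F144427 : act 0 n31155 = n31155 := d3_1 D31155 (iv D31155) F125002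
theorem F144428 : act 2 n31155 = n28171 := d18_1 D31155 (iv D28171) (iv F125003)
theorem F144429 : act 5 n31155 = n31155 := d30_2 D28080 D31155 (iv D31155) (iv D28080) F99362
theorem F144430 : act 7 n31155 = n31155 := d32_2 F125004 D31155 (iv D31155)
def n31156 : Q := act 9 n28080
theorem D31156 : act 9 n28080 = n31156 := rfl
theorem F144431 : act 0 n31156 = n31156 := d8_1 D31156 (iv D31156) F125002
theorem F144432 : act 2 n31156 = n28172 := d23_1 D31156 (iv D28172) (iv F125003)
theorem F144433 : act 3 n31156 = n28155 := d29_1 D31156 (iv F144426) F144424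
theorem F144434 : act 5 n31156 = n28081 := d38_1 D31156 (iv D28081) D28080
theorem F144435 : act 7 n31156 = n31156 := d43_1 D31156 (iv D31156) F125004
theorem F144436 : act 8 n28169 = n31156 := d37_0 F144434 F125010 (iv F135326) D22316 D28169
def n31157 : Q := act 4 n28155
theorem D31157 : act 4 n28155 = n31157 := rfl
theorem F144437 : act 0 n31157 = n31157 := d3_1 D31157 (iv D31157) F125377
theorem F144438 : act 7 n31157 = n31157 := d32_2 F125378 D31157 (iv D31157)
theorem F144439 : act 8 n31157 = n28171 := d33_2 (iv F125379) D31157 (iv D28171)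
def n31158 : Q := act 9 n28169
theorem D31158 : act 9 n28169 = n31158 := rfl
theorem F144440 : act 0 n31158 = n31158 := d8_1 D31158 (iv D31158) F125435
theorem F144441 : act 3 n31158 = n28172 := d29_1 D31158 (iv D28172) (iv F125436)
theorem F144442 : act 5 n31158 = n28170 := d38_1 D31158 (iv D28170) D28169
theorem F144443 : act 7 n31158 = n31158 := d43_1 D31158 (iv D31158) F125437
def n31159 : Q := act 9 n28185
theorem D31159 : act 9 n28185 = n31159 := rfl
theorem F144444 : act 0 n31159 = n31159 := d8_1 D31159 (iv D31159) F125496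
theorem F144445 : act 3 n31159 = n31159 := d29_1 D31159 (iv D31159) F125497
theorem F144446 : act 5 n31159 = n28186 := d38_1 D31159 (iv D28186) D28185
theorem F144447 : act 6 n31159 = n31159 := d41_1 D31159 (iv D31159) F125498
theorem F144448 : act 7 n31159 = n31159 := d43_1 D31159 (iv D31159) F125499
def n31160 : Q := act 6 n29202
theorem D31160 : act 6 n29202 = n31160 := rfl
theorem F144449 : act 0 n31160 = n29204 := d5_1 D31160 (iv D29204) (iv F135622)
theorem F144450 : act 1 n31160 = n31160 := d13_1 D31160 (iv D31160) F135623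
theorem F144451 : act 2 n31160 = n29273 := d20_1 D31160 (iv D29273) (iv F135624)
theorem F144452 : act 3 n31160 = n30194 := d26_1 D31160 F140734 (iv F135625)
theorem F144453 : act 4 n31160 = n30365 := d31_1 D31160 F141369 (iv F135626)
theorem F144454 : act 5 n31160 = n31160 := d35_1 D31160 (iv D31160) F135627 F105079 (iv F135627)
theorem F144455 : act 7 n31160 = n31160 := d39_2 D29202 D31160 (iv D31160) (iv D29202) F105073
theorem F144456 : act 8 n31160 = n30193 := d40_2 (iv F135628) D31160 (iv D30193)
theorem F144457 : act 9 n31160 = n29213 := d41_2 (iv F135629) D31160 (iv D29213)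
def n31161 : Q := act 6 n29203
theorem D31161 : act 6 n29203 = n31161 := rfl
theorem F144458 : act 0 n31161 = n30194 := d5_1 D31161 F140734 (iv F135630)
theorem F144459 : act 1 n31161 = n29206 := d13_1 D31161 (iv D29206) (iv F135631)
theorem F144460 : act 2 n31161 = n29624 := d20_1 D31161 F137978 (iv F135632)
theorem F144461 : act 3 n31161 = n29204 := d26_1 D31161 (iv D29204) (iv F135633)
theorem F144462 : act 4 n31161 = n30635 := d31_1 D31161 F142416 (iv F135634)
theorem F144463 : act 5 n31161 = n31161 := d35_1 D31161 (iv D31161) F135635 F105095 (iv F135635)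
theorem F144464 : act 7 n31161 = n31161 := d39_2 D29203 D31161 (iv D31161) (iv D29203) F105090
theorem F144465 : act 8 n31161 = n29255 := d40_2 (iv F135636) D31161 (iv D29255)
theorem F144466 : act 9 n31161 = n29218 := d41_2 (iv F135637) D31161 (iv D29218)
def n31162 : Q := act 8 n29204
theorem D31162 : act 8 n29204 = n31162 := rfl
theorem F144467 : act 0 n31162 = n30193 := d7_1 D31162 (iv F144456) F144449
theorem F144468 : act 1 n31162 = n29207 := d15_1 D31162 (iv D29207) (iv F135638)
theorem F144469 : act 2 n31162 = n29295 := d22_1 D31162 (iv D29295) (iv F135639)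
theorem F144470 : act 3 n31162 = n29255 := d28_1 D31162 (iv F144465) F144461
theorem F144471 : act 4 n31162 = n31151 := d33_1 D31162 (iv D31151) (iv F135640)
theorem F144472 : act 6 n31162 = n29205 := d40_1 D31162 (iv D29205) D29204
theorem F144473 : act 7 n31162 = n31162 := d42_1 D31162 (iv D31162) F135642
theorem F144474 : act 5 n29261 = n31162 := d35_5 F144472 F135649 F105560 (iv F105606) D29261
theorem F144475 : act 9 n30627 = n31162 := d41_0 F144472 (iv F135651) D30627
def n31163 : Q := act 4 n29208
theorem D31163 : act 4 n29208 = n31163 := rfl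
theorem F144476 : act 0 n31163 = n31163 := d3_1 D31163 (iv D31163) F135668
theorem F144477 : act 1 n31163 = n29354 := d11_1 D31163 (iv D29354) (iv F135669)
theorem F144478 : act 2 n31163 = n31040 := d18_1 D31163 F143936 (iv F135670)
theorem F144479 : act 5 n31163 = n31157 := d30_2 D29208 D31163 (iv D31157) (iv D28155) (iv F105144)
theorem F144480 : act 6 n31163 = n31037 := d31_2 (iv F135672) D31163 F143922
theorem F144481 : act 7 n31163 = n31163 := d32_2 F135673 D31163 (iv D31163)
theorem F144482 : act 8 n31163 = n31163 := d33_2 F135674 D31163 (iv D31163)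
theorem F144483 : act 9 n31163 = n31036 := d34_2 F135675 D31163 F143916
theorem F144484 : act 3 n31098 = n31163 := d29_3 F144483 F143915 D31098
def n31164 : Q := act 7 n29210
theorem D31164 : act 7 n29210 = n31164 := rfl
theorem F144485 : act 0 n31164 = n29217 := d6_1 D31164 (iv D29217) (iv F135685)
theorem F144486 : act 1 n31164 = n31164 := d14_1 D31164 (iv D31164) F135686
theorem F144487 : act 2 n31164 = n29219 := d21_1 D31164 F135747 (iv F135687)
theorem F144488 : act 3 n31164 = n29381 := d27_1 D31164 F136689 (iv F135688)
theorem F144489 : act 4 n31164 = n29211 := d32_1 D31164 (iv D29211) D29210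
theorem F144490 : act 5 n31164 = n31164 := d36_1 D31164 (iv D31164) F135689
theorem F144491 : act 8 n31164 = n29216 := d42_2 F135692 D31164 (iv D29216)
theorem F144492 : act 9 n31164 = n29621 := d43_2 (iv F135691) D31164 F137965
theorem F144493 : act 6 n30366 = n31164 := d26_0 F144488 F136688 D30366
def n31165 : Q := act 6 n29211
theorem D31165 : act 6 n29211 = n31165 := rfl
theorem F144494 : act 0 n31165 = n29218 := d5_1 D31165 (iv D29218) (iv F135693)
theorem F144495 : act 1 n31165 = n31165 := d13_1 D31165 (iv D31165) F135694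
theorem F144496 : act 2 n31165 = n30641 := d20_1 D31165 F142442 (iv F135695)
theorem F144497 : act 3 n31165 = n29213 := d26_1 D31165 (iv D29213) (iv F135696)
theorem F144498 : act 4 n31165 = n30366 := d31_1 D31165 F144493 F144489
theorem F144499 : act 5 n31165 = n31165 := d35_1 D31165 (iv D31165) F135697 F105173 (iv F135697)
theorem F144500 : act 7 n31165 = n31165 := d39_2 D29211 D31165 (iv D31165) (iv D29211) F105168
theorem F144501 : act 9 n31165 = n30194 := d41_2 (iv F135698) D31165 F140734
def n31166 : Q := act 8 n29211
theorem D31166 : act 8 n29211 = n31166 := rfl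
theorem F144502 : act 0 n31166 = n29219 := d7_1 D31166 (iv D29219) (iv F135693)
theorem F144503 : act 1 n31166 = n31166 := d15_1 D31166 (iv D31166) F135694
theorem F144504 : act 2 n31166 = n29217 := d22_1 D31166 F135737 (iv F135695)
theorem F144505 : act 3 n31166 = n29214 := d28_1 D31166 (iv D29214) (iv F135696)
theorem F144506 : act 4 n31166 = n29216 := d33_1 D31166 (iv F144491) F144489
theorem F144507 : act 5 n31166 = n31166 := d37_1 D31166 (iv D31166) F135697 F105174 (iv F135697)
theorem F144508 : act 7 n31166 = n29212 := d42_1 D31166 (iv D29212) D29211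
theorem F144509 : act 9 n31166 = n29615 := d44_2 (iv F135698) D31166 (iv D29615) F107340 D25205
def n31167 : Q := act 8 n29213
theorem D31167 : act 8 n29213 = n31167 := rfl
theorem F144510 : act 0 n31167 = n29220 := d7_1 D31167 (iv D29220) (iv F135707)
theorem F144511 : act 1 n31167 = n31167 := d15_1 D31167 (iv D31167) F135708
theorem F144512 : act 2 n31167 = n29371 := d22_1 D31167 (iv D29371) (iv F135709)
theorem F144513 : act 4 n31167 = n30015 := d33_1 D31167 F139910 (iv F135710)
theorem F144514 : act 6 n31167 = n29214 := d40_1 D31167 (iv D29214) D29213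
theorem F144515 : act 7 n31167 = n31167 := d42_1 D31167 (iv D31167) F135712
def n31168 : Q := act 9 n29214
theorem D31168 : act 9 n29214 = n31168 := rfl
theorem F144516 : act 0 n31168 = n29221 := d8_1 D31168 (iv D29221) (iv F135713)
theorem F144517 : act 1 n31168 = n31168 := d16_1 D31168 (iv D31168) F135714
theorem F144518 : act 2 n31168 = n29372 := d23_1 D31168 (iv D29372) (iv F135715)
theorem F144519 : act 3 n31168 = n29615 := d29_1 D31168 (iv F144509) F144505
theorem F144520 : act 4 n31168 = n30021 := d34_1 D31168 (iv D30021) (iv F135716)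
theorem F144521 : act 5 n31168 = n31168 := d38_1 D31168 (iv D31168) F135717
theorem F144522 : act 7 n31168 = n29215 := d43_1 D31168 (iv D29215) (iv F135718)
theorem F144523 : act 8 n31168 = n29613 := d44_1 D31168 F137914 (iv F135628) F135629 D29214
def n31169 : Q := act 6 n29216
theorem D31169 : act 6 n29216 = n31169 := rfl
theorem F144524 : act 0 n31169 = n30641 := d5_1 D31169 F142442 (iv F135727)
theorem F144525 : act 1 n31169 = n31169 := d13_1 D31169 (iv D31169) F135728
theorem F144526 : act 2 n31169 = n29218 := d20_1 D31169 (iv D29218) (iv F135729)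
theorem F144527 : act 3 n31169 = n29380 := d26_1 D31169 (iv D29380) (iv F135730)
theorem F144528 : act 5 n31169 = n31169 := d35_1 D31169 (iv D31169) F135731 F105194 (iv F135731)
theorem F144529 : act 7 n31169 = n31169 := d39_2 D29216 D31169 (iv D31169) (iv D29216) F105189
theorem F144530 : act 8 n31169 = n30366 := d40_2 F144491 D31169 F144493
theorem F144531 : act 9 n31169 = n29624 := d41_2 (iv F135732) D31169 F137978
def n31170 : Q := act 6 n29217
theorem D31170 : act 6 n29217 = n31170 := rfl
theorem F144532 : act 0 n31170 = n30366 := d5_1 D31170 F144493 F144485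
theorem F144533 : act 1 n31170 = n29222 := d13_1 D31170 (iv D29222) (iv F135733)
theorem F144534 : act 3 n31170 = n29408 := d26_1 D31170 F136843 (iv F135734)
theorem F144535 : act 4 n31170 = n29218 := d31_1 D31170 (iv D29218) (iv F135735)
theorem F144536 : act 7 n31170 = n31170 := d39_2 D29217 D31170 (iv D31170) (iv D29217) F105199
theorem F144537 : act 8 n31170 = n30641 := d40_2 (iv F135737) D31170 F142442
theorem F144538 : act 9 n31170 = n30635 := d41_2 (iv F135738) D31170 F142416
theorem F144539 : act 5 n29410 = n31170 := d25_0 F144534 F136842 D29410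
def n31171 : Q := act 8 n29218
theorem D31171 : act 8 n29218 = n31171 := rfl
theorem F144540 : act 1 n31171 = n29223 := d15_1 D31171 (iv D29223) (iv F135739)
theorem F144541 : act 2 n31171 = n30366 := d22_1 D31171 (iv F144530) F144526
theorem F144542 : act 3 n31171 = n29220 := d28_1 D31171 (iv D29220) (iv F135740)
theorem F144543 : act 4 n31171 = n30641 := d33_1 D31171 (iv F144537) F144535
theorem F144544 : act 6 n31171 = n29219 := d40_1 D31171 (iv D29219) D29218
theorem F144545 : act 7 n31171 = n31171 := d42_1 D31171 (iv D31171) F135742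
theorem F144546 : act 9 n31171 = n30628 := d44_2 F144466 D31171 (iv D30628) (iv F135986) (iv F144465)
theorem F144547 : act 5 n30369 = n31171 := d19_0 F144541 F141372 D30369
def n31172 : Q := act 5 n29220
theorem D31172 : act 5 n29220 = n31172 := rfl
theorem F144548 : act 1 n31172 = n29224 := d12_1 D31172 (iv D29224) (iv F135749)
theorem F144549 : act 2 n31172 = n29388 := d19_1 D31172 (iv D29388) (iv F135750)
theorem F144550 : act 3 n31172 = n30369 := d25_1 D31172 F144547 F144542
theorem F144551 : act 4 n31172 = n30927 := d30_1 D31172 (iv D30927) F117780 D26357 (iv F135751)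
theorem F144552 : act 6 n31172 = n31172 := d35_2 (iv F135752) D31172 (iv D31172) F135752 F105215
theorem F144553 : act 7 n31172 = n31172 := d36_2 F135753 D31172 (iv D31172)
theorem F144554 : act 8 n31172 = n31172 := d37_2 D29220 D31172 (iv D31172) (iv D29220) F105210
def n31173 : Q := act 9 n29220
theorem D31173 : act 9 n29220 = n31173 := rfl
theorem F144555 : act 1 n31173 = n29225 := d16_1 D31173 (iv D29225) (iv F135749)
theorem F144556 : act 2 n31173 = n29389 := d23_1 D31173 (iv D29389) (iv F135750)
theorem F144557 : act 3 n31173 = n30628 := d29_1 D31173 (iv F144546) F144542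
theorem F144558 : act 4 n31173 = n30929 := d34_1 D31173 (iv D30929) (iv F135751)
theorem F144559 : act 6 n31173 = n29221 := d41_1 D31173 (iv D29221) (iv F135752)
theorem F144560 : act 7 n31173 = n31173 := d43_1 D31173 (iv D31173) F135753
theorem F144561 : act 8 n31173 = n30627 := d44_1 D31173 F144475 (iv D31162) F135643 D29220
def n31174 : Q := act 5 n29222
theorem D31174 : act 5 n29222 = n31174 := rfl
theorem F144562 : act 0 n31174 = n31174 := d4_1 D31174 (iv D31174) F135761
theorem F144563 : act 1 n31174 = n29410 := d12_1 D31174 F144539 F144533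
theorem F144564 : act 2 n31174 = n31174 := d19_1 D31174 (iv D31174) F135762
theorem F144565 : act 3 n31174 = n29226 := d25_1 D31174 F135791 (iv F135763)
theorem F144566 : act 4 n31174 = n31174 := d30_1 D31174 (iv D31174) F135764 F105235 (iv F135764)
theorem F144567 : act 6 n31174 = n31174 := d35_2 D29222 D31174 (iv D31174) (iv D29222) F105226
theorem F144568 : act 7 n31174 = n31174 := d36_2 F135765 D31174 (iv D31174)
theorem F144569 : act 8 n31174 = n31174 := d37_2 (iv F135766) D31174 (iv D31174) F135766 F122098
theorem F144570 : act 9 n31174 = n31106 := d38_2 (iv F135767) D31174 (iv D31106)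
def n31175 : Q := act 5 n29223
theorem D31175 : act 5 n29223 = n31175 := rfl
theorem F144571 : act 0 n31175 = n31175 := d4_1 D31175 (iv D31175) F135768
theorem F144572 : act 1 n31175 = n30369 := d12_1 D31175 F144547 F144540
theorem F144573 : act 2 n31175 = n31175 := d19_1 D31175 (iv D31175) F135769
theorem F144574 : act 3 n31175 = n29224 := d25_1 D31175 (iv D29224) (iv F135770)
theorem F144575 : act 4 n31175 = n31175 := d30_1 D31175 (iv D31175) F135771 F122098 (iv F135771)
theorem F144576 : act 6 n31175 = n31175 := d35_2 (iv F135772) D31175 (iv D31175) F135772 F105240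
theorem F144577 : act 7 n31175 = n31175 := d36_2 F135773 D31175 (iv D31175)
theorem F144578 : act 8 n31175 = n31175 := d37_2 D29223 D31175 (iv D31175) (iv D29223) F105235
theorem F144579 : act 9 n31175 = n31042 := d38_2 (iv F135774) D31175 F143948
def n31176 : Q := act 9 n29224
theorem D31176 : act 9 n29224 = n31176 := rfl
theorem F144580 : act 0 n31176 = n31176 := d8_1 D31176 (iv D31176) F135775
theorem F144581 : act 2 n31176 = n29227 := d23_1 D31176 (iv D29227) (iv F135776)
theorem F144582 : act 3 n31176 = n31042 := d29_1 D31176 (iv F144579) F144574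
theorem F144583 : act 4 n31176 = n31159 := d34_1 D31176 (iv D31159) (iv F135777)
theorem F144584 : act 5 n31176 = n29225 := d38_1 D31176 (iv D29225) D29224
theorem F144585 : act 6 n31176 = n31176 := d41_1 D31176 (iv D31176) F135778
theorem F144586 : act 7 n31176 = n31176 := d43_1 D31176 (iv D31176) F135779
theorem F144587 : act 8 n31038 = n31176 := d37_0 F144584 F135787 F122006 (iv F135593) D31038
def n31177 : Q := act 9 n29226
theorem D31177 : act 9 n29226 = n31177 := rfl
theorem F144588 : act 0 n31177 = n31177 := d8_1 D31177 (iv D31177) F135788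
theorem F144589 : act 1 n31177 = n29411 := d16_1 D31177 (iv D29411) (iv F135789)
theorem F144590 : act 2 n31177 = n31159 := d23_1 D31177 (iv D31159) (iv F135790)
theorem F144591 : act 3 n31177 = n31106 := d29_1 D31177 (iv F144570) F144565
theorem F144592 : act 4 n31177 = n29227 := d34_1 D31177 (iv D29227) D29226
theorem F144593 : act 5 n31177 = n31105 := d38_1 D31177 F144229 (iv F135791)
theorem F144594 : act 6 n31177 = n31177 := d41_1 D31177 (iv D31177) F135792
theorem F144595 : act 7 n31177 = n31177 := d43_1 D31177 (iv D31177) F135793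
theorem F144596 : act 8 n31111 = n31177 := d37_0 F144593 (iv D31105) F122050 D27374 D31111
def n31178 : Q := act 8 n29227
theorem D31178 : act 8 n29227 = n31178 := rfl
theorem F144597 : act 0 n31178 = n31178 := d7_1 D31178 (iv D31178) F135795
theorem F144598 : act 1 n31178 = n29412 := d15_1 D31178 (iv D29412) (iv F135796)
theorem F144599 : act 2 n31178 = n31038 := d22_1 D31178 F144587 F144581
theorem F144600 : act 3 n31178 = n31178 := d28_1 D31178 (iv D31178) F135797
theorem F144601 : act 4 n31178 = n31111 := d33_1 D31178 F144596 F144592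
theorem F144602 : act 5 n31178 = n31035 := d37_1 D31178 F143911 (iv F135681) F135684 (iv F135798)
theorem F144603 : act 6 n31178 = n31178 := d40_1 D31178 (iv D31178) F135799
theorem F144604 : act 7 n31178 = n31178 := d42_1 D31178 (iv D31178) F135800
theorem F144605 : act 9 n31178 = n31178 := d44_2 D29227 D31178 (iv D31178) (iv D29227) F105262
def n31179 : Q := act 5 n29229
theorem D31179 : act 5 n29229 = n31179 := rfl
theorem F144606 : act 0 n31179 = n30160 := d4_1 D31179 (iv D30160) (iv F135810)
theorem F144607 : act 1 n31179 = n30735 := d12_1 D31179 F142765 (iv F135811)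
theorem F144608 : act 2 n31179 = n29230 := d19_1 D31179 (iv D29230) (iv F135812)
theorem F144609 : act 3 n31179 = n29246 := d25_1 D31179 (iv D29246) (iv F135813)
theorem F144610 : act 6 n31179 = n30677 := d35_2 D29229 D31179 (iv D30677) (iv D25771) (iv F105370)
theorem F144611 : act 8 n31179 = n30731 := d37_2 (iv F135815) D31179 (iv D30731) F115995 (iv F134975)
theorem F144612 : act 9 n31179 = n30744 := d38_2 (iv F135816) D31179 (iv D30744)
def n31180 : Q := act 7 n29229
theorem D31180 : act 7 n29229 = n31180 := rfl
theorem F144613 : act 0 n31180 = n30161 := d6_1 D31180 (iv D30161) (iv F135810)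
theorem F144614 : act 1 n31180 = n30940 := d14_1 D31180 F143446 (iv F135811)
theorem F144615 : act 2 n31180 = n29231 := d21_1 D31180 (iv D29231) (iv F135812)
theorem F144616 : act 3 n31180 = n29247 := d27_1 D31180 (iv D29247) (iv F135813)
theorem F144617 : act 4 n31180 = n29491 := d32_1 D31180 (iv D29491) (iv F135814)
theorem F144618 : act 6 n31180 = n30671 := d39_1 D31180 (iv D30671) (iv D25765) (iv F105371) D29229
theorem F144619 : act 8 n31180 = n29234 := d42_2 (iv F135815) D31180 (iv D29234)
theorem F144620 : act 9 n31180 = n30745 := d43_2 (iv F135816) D31180 (iv D30745)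
def n31181 : Q := act 4 n29230
theorem D31181 : act 4 n29230 = n31181 := rfl
theorem F144621 : act 0 n31181 = n30162 := d3_1 D31181 (iv D30162) (iv F135817)
theorem F144622 : act 1 n31181 = n30718 := d11_1 D31181 (iv D30718) (iv F135818)
theorem F144623 : act 3 n31181 = n29308 := d24_1 D31181 (iv D29308) F105920 (iv F105383) (iv F135819)
theorem F144624 : act 5 n31181 = n29492 := d30_2 D29230 D31181 (iv D29492) (iv D23797) (iv F105377)
theorem F144625 : act 6 n31181 = n30679 := d31_2 (iv F135820) D31181 (iv D30679)
theorem F144626 : act 9 n31181 = n30746 := d34_2 (iv F135821) D31181 (iv D30746)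
def n31182 : Q := act 7 n29230
theorem D31182 : act 7 n29230 = n31182 := rfl
theorem F144627 : act 0 n31182 = n30163 := d6_1 D31182 (iv D30163) (iv F135817)
theorem F144628 : act 1 n31182 = n30719 := d14_1 D31182 (iv D30719) (iv F135818)
theorem F144629 : act 3 n31182 = n29232 := d27_1 D31182 (iv D29232) (iv F135819)
theorem F144630 : act 5 n31182 = n29231 := d36_1 D31182 (iv D29231) D29230
theorem F144631 : act 9 n31182 = n30747 := d43_2 (iv F135821) D31182 (iv D30747)
def n31183 : Q := act 8 n29230
theorem D31183 : act 8 n29230 = n31183 := rfl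
theorem F144632 : act 0 n31183 = n30164 := d7_1 D31183 (iv D30164) (iv F135817)
theorem F144633 : act 1 n31183 = n30670 := d15_1 D31183 F142556 (iv F135818)
theorem F144634 : act 2 n31183 = n30731 := d22_1 D31183 (iv F144611) F144608
theorem F144635 : act 3 n31183 = n29233 := d28_1 D31183 (iv D29233) (iv F135819)
theorem F144636 : act 5 n31183 = n29237 := d37_1 D31183 (iv D29237) (iv D23511) (iv F105378) D29230
theorem F144637 : act 6 n31183 = n30681 := d40_1 D31183 (iv D30681) (iv F135820)
def n31184 : Q := act 6 n29232
theorem D31184 : act 6 n29232 = n31184 := rfl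
theorem F144638 : act 0 n31184 = n30165 := d5_1 D31184 (iv D30165) (iv F135829)
theorem F144639 : act 1 n31184 = n30720 := d13_1 D31184 (iv D30720) (iv F135830)
theorem F144640 : act 2 n31184 = n29250 := d20_1 D31184 (iv D29250) (iv F135831)
theorem F144641 : act 4 n31184 = n29311 := d31_1 D31184 (iv D29311) (iv F135832)
theorem F144642 : act 5 n31184 = n30675 := d35_1 D31184 (iv D30675) F115698 (iv F105390) (iv F135833)
theorem F144643 : act 7 n31184 = n30682 := d39_2 D29232 D31184 (iv D30682) (iv D25774) (iv F105384)
theorem F144644 : act 9 n31184 = n30749 := d41_2 (iv F135834) D31184 (iv D30749)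
def n31185 : Q := act 8 n29232
theorem D31185 : act 8 n29232 = n31185 := rfl
theorem F144645 : act 0 n31185 = n30166 := d7_1 D31185 (iv D30166) (iv F135829)
theorem F144646 : act 1 n31185 = n30721 := d15_1 D31185 (iv D30721) (iv F135830)
theorem F144647 : act 2 n31185 = n29251 := d22_1 D31185 (iv D29251) (iv F135831)
theorem F144648 : act 4 n31185 = n29312 := d33_1 D31185 (iv D29312) (iv F135832)
theorem F144649 : act 5 n31185 = n29238 := d37_1 D31185 (iv D29238) F105419 (iv F105391) (iv F135833)
theorem F144650 : act 7 n31185 = n29233 := d42_1 D31185 (iv D29233) D29232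
def n31186 : Q := act 9 n29233
theorem D31186 : act 9 n29233 = n31186 := rfl
theorem F144651 : act 0 n31186 = n30167 := d8_1 D31186 (iv D30167) (iv F135835)
theorem F144652 : act 1 n31186 = n30553 := d16_1 D31186 F142080 (iv F135836)
theorem F144653 : act 2 n31186 = n29252 := d23_1 D31186 (iv D29252) (iv F135837)
theorem F144654 : act 4 n31186 = n29313 := d34_1 D31186 (iv D29313) (iv F135838)
theorem F144655 : act 5 n31186 = n29239 := d38_1 D31186 (iv D29239) (iv F135839)
theorem F144656 : act 6 n31186 = n30684 := d41_1 D31186 (iv D30684) (iv F135840)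
theorem F144657 : act 8 n31186 = n30751 := d44_1 D31186 (iv D30751) (iv D25866) (iv F105385) D29233
def n31187 : Q := act 7 n29235
theorem D31187 : act 7 n29235 = n31187 := rfl
theorem F144658 : act 0 n31187 = n30169 := d6_1 D31187 (iv D30169) (iv F135849)
theorem F144659 : act 1 n31187 = n29499 := d14_1 D31187 (iv D29499) (iv F135850)
theorem F144660 : act 2 n31187 = n30930 := d21_1 D31187 (iv D30930) (iv F135851)
theorem F144661 : act 3 n31187 = n29240 := d27_1 D31187 (iv D29240) (iv F135852)
theorem F144662 : act 4 n31187 = n29236 := d32_1 D31187 (iv D29236) D29235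
theorem F144663 : act 5 n31187 = n29511 := d36_1 D31187 (iv D29511) (iv F135853)
theorem F144664 : act 6 n31187 = n29507 := d39_1 D31187 (iv D29507) (iv D23808) (iv F106887) (iv F135854)
theorem F144665 : act 9 n31187 = n31187 := d43_2 F135855 D31187 (iv D31187)
def n31188 : Q := act 8 n29235
theorem D31188 : act 8 n29235 = n31188 := rfl
theorem F144666 : act 0 n31188 = n30170 := d7_1 D31188 (iv D30170) (iv F135849)
theorem F144667 : act 1 n31188 = n29477 := d15_1 D31188 F137248 (iv F135850)
theorem F144668 : act 2 n31188 = n30708 := d22_1 D31188 F142689 (iv F135851)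
theorem F144669 : act 3 n31188 = n29241 := d28_1 D31188 (iv D29241) (iv F135852)
theorem F144670 : act 4 n31188 = n29237 := d33_1 D31188 (iv D29237) D29235
theorem F144671 : act 6 n31188 = n29476 := d40_1 D31188 F137243 (iv F135854)
def n31189 : Q := act 8 n29236
theorem D31189 : act 8 n29236 = n31189 := rfl
theorem F144672 : act 0 n31189 = n30171 := d7_1 D31189 (iv D30171) (iv F135856)
theorem F144673 : act 1 n31189 = n30671 := d15_1 D31189 F142559 (iv F135857)
theorem F144674 : act 2 n31189 = n30732 := d22_1 D31189 F142757 (iv F135858)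
theorem F144675 : act 3 n31189 = n29238 := d28_1 D31189 (iv D29238) (iv F135859)
theorem F144676 : act 6 n31189 = n30940 := d40_1 D31189 (iv D30940) (iv F135861)
theorem F144677 : act 7 n31189 = n29237 := d42_1 D31189 (iv D29237) D29236
def n31190 : Q := act 9 n29237
theorem D31190 : act 9 n29237 = n31190 := rfl
theorem F144678 : act 0 n31190 = n30172 := d8_1 D31190 (iv D30172) (iv F135863)
theorem F144679 : act 1 n31190 = n30450 := d16_1 D31190 F141708 (iv F135864)
theorem F144680 : act 2 n31190 = n30722 := d23_1 D31190 F142724 (iv F135865)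
theorem F144681 : act 3 n31190 = n29239 := d29_1 D31190 (iv D29239) (iv F135866)
theorem F144682 : act 6 n31190 = n30449 := d41_1 D31190 F141704 (iv F135867)
theorem F144683 : act 8 n31190 = n31190 := d44_1 D31190 (iv D31190) (iv D29237) F105408 D29237
def n31191 : Q := act 9 n29238
theorem D31191 : act 9 n29238 = n31191 := rfl
theorem F144684 : act 0 n31191 = n30173 := d8_1 D31191 (iv D30173) (iv F135868)
theorem F144685 : act 1 n31191 = n30554 := d16_1 D31191 F142085 (iv F135869)
theorem F144686 : act 2 n31191 = n29253 := d23_1 D31191 (iv D29253) (iv F135870)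
theorem F144687 : act 4 n31191 = n29245 := d34_1 D31191 (iv D29245) (iv F135871)
theorem F144688 : act 6 n31191 = n30830 := d41_1 D31191 F143058 (iv F135872)
theorem F144689 : act 7 n31191 = n29239 := d43_1 D31191 (iv D29239) (iv F135873)
theorem F144690 : act 8 n31191 = n31191 := d44_1 D31191 (iv D31191) (iv D29238) F105420 D29238
def n31192 : Q := act 8 n29240
theorem D31192 : act 8 n29240 = n31192 := rfl
theorem F144691 : act 0 n31192 = n30174 := d7_1 D31192 (iv D30174) (iv F135880)
theorem F144692 : act 1 n31192 = n29562 := d15_1 D31192 F137667 (iv F135881)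
theorem F144693 : act 2 n31192 = n31192 := d22_1 D31192 (iv D31192) F135882
theorem F144694 : act 4 n31192 = n29242 := d33_1 D31192 (iv D29242) (iv F135883)
theorem F144695 : act 6 n31192 = n29581 := d40_1 D31192 F137752 (iv F135885)
theorem F144696 : act 7 n31192 = n29241 := d42_1 D31192 (iv D29241) D29240
def n31193 : Q := act 5 n29241
theorem D31193 : act 5 n29241 = n31193 := rfl
theorem F144697 : act 0 n31193 = n30175 := d4_1 D31193 (iv D30175) (iv F135887)
theorem F144698 : act 1 n31193 = n29561 := d12_1 D31193 (iv D29561) (iv F135888)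
theorem F144699 : act 2 n31193 = n31193 := d19_1 D31193 (iv D31193) F135889
theorem F144700 : act 4 n31193 = n29326 := d30_1 D31193 (iv D29326) F105990 (iv F105438) (iv F135890)
theorem F144701 : act 8 n31193 = n29520 := d37_2 D29241 D31193 (iv D29520) (iv D23818) (iv F105428)
def n31194 : Q := act 9 n29241
theorem D31194 : act 9 n29241 = n31194 := rfl
theorem F144702 : act 0 n31194 = n30176 := d8_1 D31194 (iv D30176) (iv F135887)
theorem F144703 : act 1 n31194 = n29555 := d16_1 D31194 F137631 (iv F135888)
theorem F144704 : act 2 n31194 = n31194 := d23_1 D31194 (iv D31194) F135889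
theorem F144705 : act 4 n31194 = n29243 := d34_1 D31194 (iv D29243) (iv F135890)
theorem F144706 : act 6 n31194 = n29554 := d41_1 D31194 F137626 (iv F135891)
theorem F144707 : act 8 n31194 = n31194 := d44_1 D31194 (iv D31194) (iv D29241) F105429 D29241
def n31195 : Q := act 9 n29242
theorem D31195 : act 9 n29242 = n31195 := rfl
theorem F144708 : act 0 n31195 = n30177 := d8_1 D31195 (iv D30177) (iv F135892)
theorem F144709 : act 1 n31195 = n29617 := d16_1 D31195 F137941 (iv F135893)
theorem F144710 : act 2 n31195 = n31195 := d23_1 D31195 (iv D31195) F135894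
theorem F144711 : act 3 n31195 = n29245 := d29_1 D31195 (iv D29245) (iv F135895)
theorem F144712 : act 5 n31195 = n29329 := d38_1 D31195 (iv D29329) (iv F135896)
theorem F144713 : act 6 n31195 = n29627 := d41_1 D31195 F137995 (iv F135897)
theorem F144714 : act 7 n31195 = n29243 := d43_1 D31195 (iv D29243) (iv F135898)
theorem F144715 : act 8 n31195 = n31195 := d44_1 D31195 (iv D31195) (iv D29242) F105434 D29242
def n31196 : Q := act 5 n29244
theorem D31196 : act 5 n29244 = n31196 := rfl
theorem F144716 : act 0 n31196 = n30178 := d4_1 D31196 (iv D30178) (iv F135906)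
theorem F144717 : act 1 n31196 = n29259 := d12_1 D31196 F136009 (iv F135907)
theorem F144718 : act 2 n31196 = n29254 := d19_1 D31196 (iv D29254) (iv F135908)
theorem F144719 : act 3 n31196 = n29639 := d25_1 D31196 F138058 (iv F135909)
theorem F144720 : act 6 n31196 = n29330 := d35_2 (iv F135911) D31196 (iv D29330) F106009 (iv F105445)
theorem F144721 : act 7 n31196 = n29257 := d36_2 (iv F135912) D31196 (iv D29257)
theorem F144722 : act 8 n31196 = n31196 := d37_2 D29244 D31196 (iv D31196) (iv D29244) F105441
theorem F144723 : act 9 n31196 = n30874 := d38_2 F135913 D31196 F143198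
def n31197 : Q := act 4 n29246
theorem D31197 : act 4 n29246 = n31197 := rfl
theorem F144724 : act 0 n31197 = n30184 := d3_1 D31197 (iv D30184) (iv F135921)
theorem F144725 : act 1 n31197 = n30818 := d11_1 D31197 F143011 (iv F135922)
theorem F144726 : act 2 n31197 = n29248 := d18_1 D31197 (iv D29248) (iv F135923)
theorem F144727 : act 5 n31197 = n29258 := d30_2 D29246 D31197 (iv D29258) (iv D23546) (iv F105459)
theorem F144728 : act 6 n31197 = n30855 := d31_2 (iv F135924) D31197 F143140
theorem F144729 : act 8 n31197 = n30814 := d33_2 (iv F135925) D31197 (iv D30814)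
theorem F144730 : act 9 n31197 = n30831 := d34_2 (iv F135926) D31197 (iv D30831)
def n31198 : Q := act 7 n29246
theorem D31198 : act 7 n29246 = n31198 := rfl
theorem F144731 : act 0 n31198 = n30185 := d6_1 D31198 (iv D30185) (iv F135921)
theorem F144732 : act 1 n31198 = n30820 := d14_1 D31198 F143017 (iv F135922)
theorem F144733 : act 2 n31198 = n29249 := d21_1 D31198 (iv D29249) (iv F135923)
theorem F144734 : act 5 n31198 = n29247 := d36_1 D31198 (iv D29247) D29246
theorem F144735 : act 8 n31198 = n30815 := d42_2 (iv F135925) D31198 (iv D30815)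
theorem F144736 : act 9 n31198 = n30832 := d43_2 (iv F135926) D31198 (iv D30832)
def n31199 : Q := act 7 n29248
theorem D31199 : act 7 n29248 = n31199 := rfl
theorem F144737 : act 0 n31199 = n30186 := d6_1 D31199 (iv D30186) (iv F135934)
theorem F144738 : act 1 n31199 = n31020 := d14_1 D31199 F143825 (iv F135935)
theorem F144739 : act 3 n31199 = n29343 := d27_1 D31199 (iv D29343) (iv F135936)
theorem F144740 : act 4 n31199 = n29249 := d32_1 D31199 (iv D29249) D29248
theorem F144741 : act 5 n31199 = n29260 := d36_1 D31199 (iv D29260) (iv F135937)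
theorem F144742 : act 8 n31199 = n30948 := d42_2 (iv F135939) D31199 F143468
theorem F144743 : act 9 n31199 = n30834 := d43_2 (iv F135940) D31199 (iv D30834)
def n31200 : Q := act 6 n29249
theorem D31200 : act 6 n29249 = n31200 := rfl
theorem F144744 : act 0 n31200 = n30187 := d5_1 D31200 (iv D30187) (iv F135941)
theorem F144745 : act 1 n31200 = n31119 := d13_1 D31200 (iv D31119) (iv F135942)
theorem F144746 : act 3 n31200 = n29250 := d26_1 D31200 (iv D29250) (iv F135943)
theorem F144747 : act 5 n31200 = n30801 := d35_1 D31200 F142945 F116305 F135192 (iv F135944)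
theorem F144748 : act 7 n31200 = n30840 := d39_2 D29249 D31200 F143091 F116618 (iv F135029)
theorem F144749 : act 8 n31200 = n30828 := d40_2 (iv F135945) D31200 F143049
theorem F144750 : act 9 n31200 = n30835 := d41_2 (iv F135946) D31200 (iv D30835)
def n31201 : Q := act 8 n29250
theorem D31201 : act 8 n29250 = n31201 := rfl
theorem F144751 : act 0 n31201 = n30188 := d7_1 D31201 (iv D30188) (iv F135947)
theorem F144752 : act 1 n31201 = n31120 := d15_1 D31201 (iv D31120) (iv F135948)
theorem F144753 : act 3 n31201 = n30828 := d28_1 D31201 (iv F144749) F144746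
theorem F144754 : act 4 n31201 = n29347 := d33_1 D31201 (iv D29347) (iv F135949)
theorem F144755 : act 5 n31201 = n30826 := d37_1 D31201 (iv D30826) (iv F142940) F142942 (iv F135950)
theorem F144756 : act 6 n31201 = n29251 := d40_1 D31201 (iv D29251) D29250
theorem F144757 : act 7 n31201 = n30866 := d42_1 D31201 F143172 (iv F135951)
def n31202 : Q := act 9 n29251
theorem D31202 : act 9 n29251 = n31202 := rfl
theorem F144758 : act 0 n31202 = n30189 := d8_1 D31202 (iv D30189) (iv F135953)
theorem F144759 : act 1 n31202 = n31055 := d16_1 D31202 F144012 (iv F135954)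
theorem F144760 : act 3 n31202 = n30949 := d29_1 D31202 (iv D30949) (iv F135955)
theorem F144761 : act 4 n31202 = n29348 := d34_1 D31202 (iv D29348) (iv F135956)
theorem F144762 : act 5 n31202 = n29253 := d38_1 D31202 (iv D29253) (iv F135957)
theorem F144763 : act 7 n31202 = n29252 := d43_1 D31202 (iv D29252) (iv F135958)
theorem F144764 : act 8 n31202 = n30838 := d44_1 D31202 (iv D30838) (iv D25988) (iv F105478) D29251
def n31203 : Q := act 4 n29254
theorem D31203 : act 4 n29254 = n31203 := rfl
theorem F144765 : act 0 n31203 = n30190 := d3_1 D31203 (iv D30190) (iv F135973)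
theorem F144766 : act 1 n31203 = n31037 := d11_1 D31203 F143922 (iv F135974)
theorem F144767 : act 5 n31203 = n30823 := d30_2 D29254 D31203 F143026 F116379 (iv F135025)
theorem F144768 : act 6 n31203 = n29354 := d31_2 (iv F135976) D31203 (iv D29354)
theorem F144769 : act 7 n31203 = n30824 := d32_2 (iv F135977) D31203 F143030
theorem F144770 : act 8 n31203 = n31203 := d33_2 F135978 D31203 (iv D31203)
theorem F144771 : act 9 n31203 = n31034 := d34_2 (iv F135979) D31203 F143904
theorem F144772 : act 3 n31096 = n31203 := d29_3 F144771 F143903 D31096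
def n31204 : Q := act 5 n29256
theorem D31204 : act 5 n29256 = n31204 := rfl
theorem F144773 : act 0 n31204 = n29257 := d4_1 D31204 (iv D29257) (iv F135987)
theorem F144774 : act 1 n31204 = n30195 := d12_1 D31204 (iv D30195) (iv F135988)
theorem F144775 : act 2 n31204 = n30121 := d19_1 D31204 (iv D30121) (iv F135989)
theorem F144776 : act 3 n31204 = n29636 := d25_1 D31204 (iv D29636) (iv F135990)
theorem F144777 : act 6 n31204 = n31204 := d35_2 D29256 D31204 (iv D31204) (iv D29256) F105578
theorem F144778 : act 7 n31204 = n30178 := d36_2 (iv F135992) D31204 (iv D30178)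
theorem F144779 : act 8 n31204 = n31204 := d37_2 (iv F135993) D31204 (iv D31204) F135993 F105670
theorem F144780 : act 9 n31204 = n30872 := d38_2 (iv F135994) D31204 (iv D30872)
def n31205 : Q := act 4 n29257
theorem D31205 : act 4 n29257 = n31205 := rfl
theorem F144781 : act 1 n31205 = n29258 := d11_1 D31205 (iv D29258) (iv F135995)
theorem F144782 : act 2 n31205 = n30824 := d18_1 D31205 F143030 (iv F135996)
theorem F144783 : act 5 n31205 = n30818 := d30_2 D29257 D31205 F143011 F116366 (iv F135036)
theorem F144784 : act 6 n31205 = n31205 := d31_2 F135998 D31205 (iv D31205)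
theorem F144785 : act 8 n31205 = n31205 := d33_2 F135999 D31205 (iv D31205)
theorem F144786 : act 9 n31205 = n30873 := d34_2 (iv F136000) D31205 (iv D30873)
def n31206 : Q := act 3 n29258
theorem D31206 : act 3 n29258 = n31206 := rfl
theorem F144787 : act 0 n31206 = n30198 := d2_1 D31206 (iv D30198) (iv F136001)
theorem F144788 : act 2 n31206 = n29356 := d17_1 D31206 (iv D29356) F106173 (iv F105599) (iv F136002)
theorem F144789 : act 4 n31206 = n29640 := d24_2 D29258 D31206 (iv D29640) (iv D23924) (iv F105588)
theorem F144790 : act 6 n31206 = n31206 := d26_2 F136003 D31206 (iv D31206)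
theorem F144791 : act 8 n31206 = n31206 := d28_2 F136004 D31206 (iv D31206)
theorem F144792 : act 9 n31206 = n30427 := d29_2 (iv F136005) D31206 F141630
def n31207 : Q := act 7 n29258
theorem D31207 : act 7 n29258 = n31207 := rfl
theorem F144793 : act 0 n31207 = n30199 := d6_1 D31207 (iv D30199) (iv F136001)
theorem F144794 : act 2 n31207 = n29260 := d21_1 D31207 (iv D29260) (iv F136002)
theorem F144795 : act 4 n31207 = n29259 := d32_1 D31207 (iv D29259) D29258
theorem F144796 : act 8 n31207 = n31207 := d42_2 F136004 D31207 (iv D31207)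
theorem F144797 : act 9 n31207 = n30876 := d43_2 (iv F136005) D31207 (iv D30876)
def n31208 : Q := act 6 n29259
theorem D31208 : act 6 n29259 = n31208 := rfl
theorem F144798 : act 0 n31208 = n30200 := d5_1 D31208 (iv D30200) (iv F136006)
theorem F144799 : act 1 n31208 = n29330 := d13_1 D31208 (iv F144720) F144717
theorem F144800 : act 2 n31208 = n29261 := d20_1 D31208 (iv D29261) (iv F136007)
theorem F144801 : act 3 n31208 = n29642 := d26_1 D31208 (iv D29642) (iv F136008)
theorem F144802 : act 5 n31208 = n29295 := d35_1 D31208 F136214 (iv F135806) F135807 (iv F136009)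
theorem F144803 : act 7 n31208 = n31208 := d39_2 D29259 D31208 (iv D31208) (iv D29259) F105589
theorem F144804 : act 8 n31208 = n31208 := d40_2 F136010 D31208 (iv D31208)
theorem F144805 : act 9 n31208 = n30877 := d41_2 (iv F136011) D31208 (iv D30877)
def n31209 : Q := act 6 n29260
theorem D31209 : act 6 n29260 = n31209 := rfl
theorem F144806 : act 0 n31209 = n30201 := d5_1 D31209 (iv D30201) (iv F136012)
theorem F144807 : act 1 n31209 = n31040 := d13_1 D31209 F143937 (iv F136013)
theorem F144808 : act 3 n31209 = n29359 := d26_1 D31209 (iv D29359) (iv F136014)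
theorem F144809 : act 4 n31209 = n29261 := d31_1 D31209 (iv D29261) (iv F136015)
theorem F144810 : act 7 n31209 = n31209 := d39_2 D29260 D31209 (iv D31209) (iv D29260) F105600
theorem F144811 : act 8 n31209 = n31209 := d40_2 F136016 D31209 (iv D31209)
theorem F144812 : act 9 n31209 = n30879 := d41_2 (iv F136017) D31209 (iv D30879)
def n31210 : Q := act 1 n29262
theorem D31210 : act 1 n29262 = n31210 := rfl
theorem F144813 : act 0 n31210 = n30109 := d0_1 D31210 F140383 F110989 (iv F133570) (iv F136024)
theorem F144814 : act 2 n31210 = n30064 := d9_2 D29262 D31210 F140172 F134828 (iv F105713)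
theorem F144815 : act 3 n31210 = n29821 := d10_2 (iv F136025) D31210 (iv D29821)
theorem F144816 : act 4 n31210 = n29656 := d11_2 (iv F136026) D31210 (iv D29656)
theorem F144817 : act 5 n31210 = n29759 := d12_2 (iv F136027) D31210 (iv D29759)
theorem F144818 : act 7 n31210 = n30066 := d14_2 (iv F136028) D31210 F140180
theorem F144819 : act 8 n31210 = n29266 := d15_2 (iv F136029) D31210 (iv D29266)
theorem F144820 : act 9 n31210 = n30065 := d16_2 (iv F136030) D31210 F140176
def n31211 : Q := act 6 n29262
theorem D31211 : act 6 n29262 = n31211 := rfl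
theorem F144821 : act 0 n31211 = n29276 := d5_1 D31211 (iv D29276) (iv F136024)
theorem F144822 : act 2 n31211 = n29263 := d20_1 D31211 (iv D29263) D29262
theorem F144823 : act 3 n31211 = n29822 := d26_1 D31211 (iv D29822) (iv F136025)
theorem F144824 : act 4 n31211 = n29657 := d31_1 D31211 (iv D29657) (iv F136026)
theorem F144825 : act 8 n31211 = n29267 := d40_2 (iv F136029) D31211 (iv D29267)
theorem F144826 : act 9 n31211 = n30106 := d41_2 (iv F136030) D31211 F140375
def n31212 : Q := act 5 n29263
theorem D31212 : act 5 n29263 = n31212 := rfl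
theorem F144827 : act 0 n31212 = n29277 := d4_1 D31212 (iv D29277) (iv F136031)
theorem F144828 : act 1 n31212 = n30202 := d12_1 D31212 (iv D30202) (iv F136032)
theorem F144829 : act 3 n31212 = n29264 := d25_1 D31212 (iv D29264) (iv F136033)
theorem F144830 : act 6 n31212 = n29761 := d35_2 D29263 D31212 (iv D29761) (iv D24043) (iv F105715)
theorem F144831 : act 9 n31212 = n30153 := d38_2 (iv F136036) D31212 (iv D30153)
def n31213 : Q := act 7 n29263
theorem D31213 : act 7 n29263 = n31213 := rfl
theorem F144832 : act 0 n31213 = n29278 := d6_1 D31213 (iv D29278) (iv F136031)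
theorem F144833 : act 1 n31213 = n30203 := d14_1 D31213 (iv D30203) (iv F136032)
theorem F144834 : act 3 n31213 = n29265 := d27_1 D31213 (iv D29265) (iv F136033)
theorem F144835 : act 4 n31213 = n29659 := d32_1 D31213 (iv D29659) (iv F136034)
theorem F144836 : act 6 n31213 = n30665 := d39_1 D31213 (iv D30665) (iv D25727) (iv F105716) D29263
theorem F144837 : act 8 n31213 = n29269 := d42_2 (iv F136035) D31213 (iv D29269)
theorem F144838 : act 9 n31213 = n30154 := d43_2 (iv F136036) D31213 (iv D30154)
def n31214 : Q := act 7 n29264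
theorem D31214 : act 7 n29264 = n31214 := rfl
theorem F144839 : act 0 n31214 = n29279 := d6_1 D31214 (iv D29279) (iv F136037)
theorem F144840 : act 1 n31214 = n30204 := d14_1 D31214 (iv D30204) (iv F136038)
theorem F144841 : act 2 n31214 = n29825 := d21_1 D31214 (iv D29825) (iv F136039)
theorem F144842 : act 4 n31214 = n29742 := d32_1 D31214 (iv D29742) (iv F136040)
theorem F144843 : act 5 n31214 = n29265 := d36_1 D31214 (iv D29265) D29264
theorem F144844 : act 9 n31214 = n30155 := d43_2 (iv F136042) D31214 (iv D30155)
def n31215 : Q := act 8 n29264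
theorem D31215 : act 8 n29264 = n31215 := rfl
theorem F144845 : act 0 n31215 = n29280 := d7_1 D31215 (iv D29280) (iv F136037)
theorem F144846 : act 1 n31215 = n30205 := d15_1 D31215 (iv D30205) (iv F136038)
theorem F144847 : act 2 n31215 = n29826 := d22_1 D31215 (iv D29826) (iv F136039)
theorem F144848 : act 4 n31215 = n29743 := d33_1 D31215 (iv D29743) (iv F136040)
theorem F144849 : act 5 n31215 = n29271 := d37_1 D31215 (iv D29271) (iv D23573) (iv F105723) D29264
theorem F144850 : act 6 n31215 = n29764 := d40_1 D31215 (iv D29764) (iv F136041)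
def n31216 : Q := act 6 n29266
theorem D31216 : act 6 n29266 = n31216 := rfl
theorem F144851 : act 0 n31216 = n29999 := d5_1 D31216 F139813 (iv F136050)
theorem F144852 : act 1 n31216 = n29267 := d13_1 D31216 (iv D29267) D29266
theorem F144853 : act 2 n31216 = n29711 := d20_1 D31216 F138422 (iv F136051)
theorem F144854 : act 3 n31216 = n29403 := d26_1 D31216 F136816 (iv F136052)
theorem F144855 : act 4 n31216 = n29669 := d31_1 D31216 (iv D29669) (iv F136053)
theorem F144856 : act 9 n31216 = n29360 := d41_2 (iv F136056) D31216 (iv D29360)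
theorem F144857 : act 5 n29394 = n31216 := d38_3 F144856 (iv F136567) D29394
def n31217 : Q := act 5 n29267
theorem D31217 : act 5 n29267 = n31217 := rfl
theorem F144858 : act 0 n31217 = n29281 := d4_1 D31217 (iv D29281) (iv F136057)
theorem F144859 : act 1 n31217 = n29394 := d12_1 D31217 F144857 F144852
theorem F144860 : act 2 n31217 = n29268 := d19_1 D31217 (iv D29268) (iv F136058)
theorem F144861 : act 3 n31217 = n29385 := d25_1 D31217 F136716 (iv F136059)
theorem F144862 : act 4 n31217 = n29377 := d30_1 D31217 F136663 F138232 (iv D29670) (iv F136060)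
theorem F144863 : act 6 n31217 = n31217 := d35_2 D29267 D31217 (iv D31217) (iv D29267) F105736
theorem F144864 : act 9 n31217 = n29361 := d38_2 (iv F136061) D31217 (iv D29361)
def n31218 : Q := act 7 n29267
theorem D31218 : act 7 n29267 = n31218 := rfl
theorem F144865 : act 0 n31218 = n29282 := d6_1 D31218 (iv D29282) (iv F136057)
theorem F144866 : act 2 n31218 = n29269 := d21_1 D31218 (iv D29269) (iv F136058)
theorem F144867 : act 3 n31218 = n29996 := d27_1 D31218 F139801 (iv F136059)
theorem F144868 : act 4 n31218 = n29671 := d32_1 D31218 (iv D29671) (iv F136060)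
theorem F144869 : act 6 n31218 = n29995 := d39_1 D31218 F139796 F109569 F134199 D29267
theorem F144870 : act 9 n31218 = n29362 := d43_2 (iv F136061) D31218 (iv D29362)
def n31219 : Q := act 7 n29268
theorem D31219 : act 7 n29268 = n31219 := rfl
theorem F144871 : act 0 n31219 = n29284 := d6_1 D31219 (iv D29284) (iv F136062)
theorem F144872 : act 1 n31219 = n30206 := d14_1 D31219 (iv D30206) (iv F136063)
theorem F144873 : act 3 n31219 = n29270 := d27_1 D31219 (iv D29270) (iv F136064)
theorem F144874 : act 4 n31219 = n30897 := d32_1 D31219 (iv D30897) (iv F136065)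
theorem F144875 : act 5 n31219 = n29269 := d36_1 D31219 (iv D29269) D29268
theorem F144876 : act 9 n31219 = n29363 := d43_2 (iv F136067) D31219 (iv D29363)
def n31220 : Q := act 8 n29268
theorem D31220 : act 8 n29268 = n31220 := rfl
theorem F144877 : act 0 n31220 = n29285 := d7_1 D31220 (iv D29285) (iv F136062)
theorem F144878 : act 1 n31220 = n30207 := d15_1 D31220 (iv D30207) (iv F136063)
theorem F144879 : act 3 n31220 = n29271 := d28_1 D31220 (iv D29271) (iv F136064)
theorem F144880 : act 4 n31220 = n30636 := d33_1 D31220 F142420 (iv F136065)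
theorem F144881 : act 6 n31220 = n31220 := d40_1 D31220 (iv D31220) F136066
def n31221 : Q := act 6 n29270
theorem D31221 : act 6 n29270 = n31221 := rfl
theorem F144882 : act 0 n31221 = n29286 := d5_1 D31221 (iv D29286) (iv F136074)
theorem F144883 : act 1 n31221 = n30208 := d13_1 D31221 (iv D30208) (iv F136075)
theorem F144884 : act 2 n31221 = n30365 := d20_1 D31221 F141369 (iv F136076)
theorem F144885 : act 4 n31221 = n29273 := d31_1 D31221 (iv D29273) (iv F136077)
theorem F144886 : act 5 n31221 = n30364 := d35_1 D31221 F141363 F134873 (iv F105754) (iv F136078)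
theorem F144887 : act 7 n31221 = n31221 := d39_2 D29270 D31221 (iv D31221) (iv D29270) F105748
theorem F144888 : act 9 n31221 = n29365 := d41_2 (iv F136079) D31221 (iv D29365)
def n31222 : Q := act 8 n29270
theorem D31222 : act 8 n29270 = n31222 := rfl
theorem F144889 : act 0 n31222 = n29287 := d7_1 D31222 (iv D29287) (iv F136074)
theorem F144890 : act 1 n31222 = n30209 := d15_1 D31222 (iv D30209) (iv F136075)
theorem F144891 : act 2 n31222 = n30192 := d22_1 D31222 F140726 (iv F136076)
theorem F144892 : act 4 n31222 = n29274 := d33_1 D31222 (iv D29274) (iv F136077)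
theorem F144893 : act 7 n31222 = n29271 := d42_1 D31222 (iv D29271) D29270
def n31223 : Q := act 9 n29271
theorem D31223 : act 9 n29271 = n31223 := rfl
theorem F144894 : act 0 n31223 = n29288 := d8_1 D31223 (iv D29288) (iv F136080)
theorem F144895 : act 1 n31223 = n30210 := d16_1 D31223 (iv D30210) (iv F136081)
theorem F144896 : act 2 n31223 = n29612 := d23_1 D31223 F137909 (iv F136082)
theorem F144897 : act 4 n31223 = n29275 := d34_1 D31223 (iv D29275) (iv F136083)
theorem F144898 : act 6 n31223 = n31223 := d41_1 D31223 (iv D31223) F136084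
theorem F144899 : act 8 n31223 = n29367 := d44_1 D31223 (iv D29367) (iv D23670) (iv F105749) D29271
def n31224 : Q := act 6 n29272
theorem D31224 : act 6 n29272 = n31224 := rfl
theorem F144900 : act 0 n31224 = n29292 := d5_1 D31224 (iv D29292) (iv F136085)
theorem F144901 : act 1 n31224 = n30211 := d13_1 D31224 (iv D30211) (iv F136086)
theorem F144902 : act 2 n31224 = n30640 := d20_1 D31224 F142436 (iv F136087)
theorem F144903 : act 3 n31224 = n29273 := d26_1 D31224 (iv D29273) (iv F136088)
theorem F144904 : act 4 n31224 = n30916 := d31_1 D31224 F143353 (iv F136089)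
theorem F144905 : act 5 n31224 = n31224 := d35_1 D31224 (iv D31224) F136090 F105775 (iv F136090)
theorem F144906 : act 7 n31224 = n31224 := d39_2 D29272 D31224 (iv D31224) (iv D29272) F105769
theorem F144907 : act 8 n31224 = n30638 := d40_2 (iv F136091) D31224 (iv D30638)
theorem F144908 : act 9 n31224 = n29368 := d41_2 (iv F136092) D31224 (iv D29368)
def n31225 : Q := act 8 n29273
theorem D31225 : act 8 n29273 = n31225 := rfl
theorem F144909 : act 0 n31225 = n29295 := d7_1 D31225 (iv D29295) (iv F136093)
theorem F144910 : act 1 n31225 = n30214 := d15_1 D31225 (iv D30214) (iv F136094)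
theorem F144911 : act 2 n31225 = n30193 := d22_1 D31225 (iv F144456) F144451
theorem F144912 : act 3 n31225 = n30638 := d28_1 D31225 (iv F144907) F144903
theorem F144913 : act 6 n31225 = n29274 := d40_1 D31225 (iv D29274) D29273
theorem F144914 : act 7 n31225 = n31225 := d42_1 D31225 (iv D31225) F136096
theorem F144915 : act 5 n30200 = n31225 := d35_5 F144913 F136102 F113523 (iv F113564) D30200
def n31226 : Q := act 9 n29274
theorem D31226 : act 9 n29274 = n31226 := rfl
theorem F144916 : act 0 n31226 = n29296 := d8_1 D31226 (iv D29296) (iv F136098)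
theorem F144917 : act 1 n31226 = n30215 := d16_1 D31226 (iv D30215) (iv F136099)
theorem F144918 : act 2 n31226 = n29613 := d23_1 D31226 F137914 (iv F136100)
theorem F144919 : act 3 n31226 = n30631 := d29_1 D31226 F142398 (iv F136101)
theorem F144920 : act 5 n31226 = n29611 := d38_1 D31226 F137903 (iv F136102)
theorem F144921 : act 7 n31226 = n29275 := d43_1 D31226 (iv D29275) (iv F136103)
theorem F144922 : act 8 n31226 = n29372 := d44_1 D31226 (iv D29372) (iv D23678) (iv F105780) D29274
def n31227 : Q := act 5 n29276
theorem D31227 : act 5 n29276 = n31227 := rfl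
theorem F144923 : act 1 n31227 = n30775 := d12_1 D31227 F142867 (iv F136111)
theorem F144924 : act 2 n31227 = n29277 := d19_1 D31227 (iv D29277) (iv F136112)
theorem F144925 : act 3 n31227 = n30796 := d25_1 D31227 (iv D30796) (iv F136113)
theorem F144926 : act 6 n31227 = n30744 := d35_2 D29276 D31227 (iv D30744) (iv D25862) (iv F105786)
theorem F144927 : act 9 n31227 = n30677 := d38_2 (iv F136116) D31227 (iv D30677)
def n31228 : Q := act 7 n29276
theorem D31228 : act 7 n29276 = n31228 := rfl
theorem F144928 : act 1 n31228 = n30788 := d14_1 D31228 F142901 (iv F136111)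
theorem F144929 : act 2 n31228 = n29278 := d21_1 D31228 (iv D29278) (iv F136112)
theorem F144930 : act 3 n31228 = n30785 := d27_1 D31228 F142891 (iv F136113)
theorem F144931 : act 4 n31228 = n29703 := d32_1 D31228 (iv D29703) (iv F136114)
theorem F144932 : act 6 n31228 = n30687 := d39_1 D31228 (iv D30687) (iv D25777) (iv F105787) D29276
theorem F144933 : act 8 n31228 = n29282 := d42_2 (iv F136115) D31228 (iv D29282)
theorem F144934 : act 9 n31228 = n30678 := d43_2 (iv F136116) D31228 (iv D30678)
def n31229 : Q := act 4 n29277
theorem D31229 : act 4 n29277 = n31229 := rfl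
theorem F144935 : act 1 n31229 = n29308 := d11_1 D31229 (iv D29308) (iv F136117)
theorem F144936 : act 3 n31229 = n30718 := d24_1 D31229 (iv D30718) F115960 (iv F105797) (iv F136118)
theorem F144937 : act 5 n31229 = n29704 := d30_2 D29277 D31229 (iv D29704) (iv D23994) (iv F105792)
theorem F144938 : act 6 n31229 = n30746 := d31_2 (iv F136119) D31229 (iv D30746)
theorem F144939 : act 9 n31229 = n30679 := d34_2 (iv F136120) D31229 (iv D30679)
def n31230 : Q := act 7 n29277
theorem D31230 : act 7 n29277 = n31230 := rfl
theorem F144940 : act 1 n31230 = n29309 := d14_1 D31230 (iv D29309) (iv F136117)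
theorem F144941 : act 3 n31230 = n29279 := d27_1 D31230 (iv D29279) (iv F136118)
theorem F144942 : act 5 n31230 = n29278 := d36_1 D31230 (iv D29278) D29277
theorem F144943 : act 9 n31230 = n30680 := d43_2 (iv F136120) D31230 (iv D30680)
def n31231 : Q := act 8 n29277
theorem D31231 : act 8 n29277 = n31231 := rfl
theorem F144944 : act 1 n31231 = n29310 := d15_1 D31231 (iv D29310) (iv F136117)
theorem F144945 : act 3 n31231 = n29280 := d28_1 D31231 (iv D29280) (iv F136118)
theorem F144946 : act 5 n31231 = n29285 := d37_1 D31231 (iv D29285) (iv D23587) (iv F105793) D29277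
theorem F144947 : act 6 n31231 = n30748 := d40_1 D31231 (iv D30748) (iv F136119)
def n31232 : Q := act 6 n29279
theorem D31232 : act 6 n29279 = n31232 := rfl
theorem F144948 : act 1 n31232 = n29311 := d13_1 D31232 (iv D29311) (iv F136127)
theorem F144949 : act 2 n31232 = n30798 := d20_1 D31232 (iv D30798) (iv F136128)
theorem F144950 : act 4 n31232 = n30720 := d31_1 D31232 (iv D30720) (iv F136129)
theorem F144951 : act 5 n31232 = n30691 := d35_1 D31232 (iv D30691) F115739 (iv F105803) (iv F136130)
theorem F144952 : act 7 n31232 = n30749 := d39_2 D29279 D31232 (iv D30749) (iv D25865) (iv F105798)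
theorem F144953 : act 9 n31232 = n30682 := d41_2 (iv F136131) D31232 (iv D30682)
def n31233 : Q := act 8 n29279
theorem D31233 : act 8 n29279 = n31233 := rfl
theorem F144954 : act 1 n31233 = n29312 := d15_1 D31233 (iv D29312) (iv F136127)
theorem F144955 : act 2 n31233 = n30799 := d22_1 D31233 (iv D30799) (iv F136128)
theorem F144956 : act 4 n31233 = n30721 := d33_1 D31233 (iv D30721) (iv F136129)
theorem F144957 : act 5 n31233 = n29287 := d37_1 D31233 (iv D29287) F105828 (iv F105804) (iv F136130)
theorem F144958 : act 7 n31233 = n29280 := d42_1 D31233 (iv D29280) D29279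
def n31234 : Q := act 9 n29280
theorem D31234 : act 9 n29280 = n31234 := rfl
theorem F144959 : act 1 n31234 = n29313 := d16_1 D31234 (iv D29313) (iv F136132)
theorem F144960 : act 2 n31234 = n30555 := d23_1 D31234 F142091 (iv F136133)
theorem F144961 : act 4 n31234 = n30553 := d34_1 D31234 F142080 (iv F136134)
theorem F144962 : act 5 n31234 = n29288 := d38_1 D31234 (iv D29288) (iv F136135)
theorem F144963 : act 6 n31234 = n30751 := d41_1 D31234 (iv D30751) (iv F136136)
theorem F144964 : act 8 n31234 = n30684 := d44_1 D31234 (iv D30684) (iv D25775) (iv F105799) D29280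
def n31235 : Q := act 4 n29281
theorem D31235 : act 4 n29281 = n31235 := rfl
theorem F144965 : act 0 n31235 = n29377 := d3_1 D31235 (iv F144862) F144858
theorem F144966 : act 1 n31235 = n30336 := d11_1 D31235 F141240 (iv F136137)
theorem F144967 : act 2 n31235 = n29283 := d18_1 D31235 (iv D29283) (iv F136138)
theorem F144968 : act 3 n31235 = n29367 := d24_1 D31235 F136608 (iv F136628) F136629 (iv F136139)
theorem F144969 : act 5 n31235 = n29720 := d30_2 D29281 D31235 (iv D29720) (iv D24006) (iv F105814)
theorem F144970 : act 6 n31235 = n31235 := d31_2 F136140 D31235 (iv D31235)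
theorem F144971 : act 9 n31235 = n29364 := d34_2 (iv F136141) D31235 F136590
def n31236 : Q := act 7 n29281
theorem D31236 : act 7 n29281 = n31236 := rfl
theorem F144972 : act 1 n31236 = n30911 := d14_1 D31236 F143337 (iv F136137)
theorem F144973 : act 2 n31236 = n29284 := d21_1 D31236 (iv D29284) (iv F136138)
theorem F144974 : act 3 n31236 = n30917 := d27_1 D31236 F143358 (iv F136139)
theorem F144975 : act 5 n31236 = n29282 := d36_1 D31236 (iv D29282) D29281
theorem F144976 : act 9 n31236 = n29373 := d43_2 (iv F136141) D31236 (iv D29373)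
def n31237 : Q := act 8 n29281
theorem D31237 : act 8 n29281 = n31237 := rfl
theorem F144977 : act 1 n31237 = n30900 := d15_1 D31237 F143300 (iv F136137)
theorem F144978 : act 2 n31237 = n29285 := d22_1 D31237 (iv D29285) (iv F136138)
theorem F144979 : act 3 n31237 = n30630 := d28_1 D31237 F142394 (iv F136139)
theorem F144980 : act 6 n31237 = n31237 := d40_1 D31237 (iv D31237) F136140
theorem F144981 : act 9 n31237 = n30636 := d44_2 (iv F136141) D31237 F142420 F117404 (iv F133567)
def n31238 : Q := act 7 n29283
theorem D31238 : act 7 n29283 = n31238 := rfl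
theorem F144982 : act 0 n31238 = n30897 := d6_1 D31238 (iv D30897) (iv F136148)
theorem F144983 : act 1 n31238 = n29317 := d14_1 D31238 (iv D29317) (iv F136149)
theorem F144984 : act 3 n31238 = n29290 := d27_1 D31238 (iv D29290) (iv F136150)
theorem F144985 : act 4 n31238 = n29284 := d32_1 D31238 (iv D29284) D29283
theorem F144986 : act 5 n31238 = n29723 := d36_1 D31238 (iv D29723) (iv F136151)
theorem F144987 : act 9 n31238 = n29374 := d43_2 (iv F136153) D31238 (iv D29374)
def n31239 : Q := act 8 n29283
theorem D31239 : act 8 n29283 = n31239 := rfl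
theorem F144988 : act 0 n31239 = n30636 := d7_1 D31239 F142420 (iv F136148)
theorem F144989 : act 1 n31239 = n29318 := d15_1 D31239 (iv D29318) (iv F136149)
theorem F144990 : act 3 n31239 = n29291 := d28_1 D31239 (iv D29291) (iv F136150)
theorem F144991 : act 4 n31239 = n29285 := d33_1 D31239 (iv D29285) D29283
theorem F144992 : act 6 n31239 = n31239 := d40_1 D31239 (iv D31239) F136152
def n31240 : Q := act 6 n29284
theorem D31240 : act 6 n29284 = n31240 := rfl
theorem F144993 : act 1 n31240 = n29319 := d13_1 D31240 (iv D29319) (iv F136154)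
theorem F144994 : act 3 n31240 = n29286 := d26_1 D31240 (iv D29286) (iv F136155)
theorem F144995 : act 5 n31240 = n30893 := d35_1 D31240 (iv D30893) F117155 (iv F105823) (iv F136156)
theorem F144996 : act 7 n31240 = n31240 := d39_2 D29284 D31240 (iv D31240) (iv D29284) F105818
theorem F144997 : act 9 n31240 = n29375 := d41_2 (iv F136157) D31240 (iv D29375)
def n31241 : Q := act 8 n29284
theorem D31241 : act 8 n29284 = n31241 := rfl
theorem F144998 : act 1 n31241 = n29320 := d15_1 D31241 (iv D29320) (iv F136154)
theorem F144999 : act 3 n31241 = n29287 := d28_1 D31241 (iv D29287) (iv F136155)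
theorem F145000 : act 7 n31241 = n29285 := d42_1 D31241 (iv D29285) D29284
def n31242 : Q := act 9 n29285
theorem D31242 : act 9 n29285 = n31242 := rfl
theorem F145001 : act 1 n31242 = n29321 := d16_1 D31242 (iv D29321) (iv F136158)
theorem F145002 : act 2 n31242 = n30636 := d23_1 D31242 (iv F144981) F144978
theorem F145003 : act 3 n31242 = n29288 := d29_1 D31242 (iv D29288) (iv F136159)
theorem F145004 : act 6 n31242 = n31242 := d41_1 D31242 (iv D31242) F136160
theorem F145005 : act 8 n31242 = n29377 := d44_1 D31242 (iv D29377) (iv D23686) (iv F105819) D29285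
def n31243 : Q := act 8 n29286
theorem D31243 : act 8 n29286 = n31243 := rfl
theorem F145006 : act 1 n31243 = n29322 := d15_1 D31243 (iv D29322) (iv F136161)
theorem F145007 : act 2 n31243 = n31151 := d22_1 D31243 (iv D31151) (iv F136162)
theorem F145008 : act 4 n31243 = n29295 := d33_1 D31243 (iv D29295) (iv F136163)
theorem F145009 : act 6 n31243 = n29287 := d40_1 D31243 (iv D29287) D29286
theorem F145010 : act 7 n31243 = n31243 := d42_1 D31243 (iv D31243) F136165
def n31244 : Q := act 9 n29287
theorem D31244 : act 9 n29287 = n31244 := rfl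
theorem F145011 : act 1 n31244 = n29323 := d16_1 D31244 (iv D29323) (iv F136167)
theorem F145012 : act 2 n31244 = n30626 := d23_1 D31244 F142377 (iv F136168)
theorem F145013 : act 4 n31244 = n29296 := d34_1 D31244 (iv D29296) (iv F136169)
theorem F145014 : act 7 n31244 = n29288 := d43_1 D31244 (iv D29288) (iv F136170)
theorem F145015 : act 8 n31244 = n29379 := d44_1 D31244 (iv D29379) (iv D23688) (iv F105829) D29287
def n31245 : Q := act 6 n29289
theorem D31245 : act 6 n29289 = n31245 := rfl
theorem F145016 : act 0 n31245 = n30640 := d5_1 D31245 F142436 (iv F136176)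
theorem F145017 : act 1 n31245 = n31245 := d13_1 D31245 (iv D31245) F136177
theorem F145018 : act 2 n31245 = n29292 := d20_1 D31245 (iv D29292) (iv F136178)
theorem F145019 : act 3 n31245 = n29624 := d26_1 D31245 F137978 (iv F136179)
theorem F145020 : act 4 n31245 = n30017 := d31_1 D31245 F139919 (iv F136180)
theorem F145021 : act 5 n31245 = n31245 := d35_1 D31245 (iv D31245) F136181 F105841 (iv F136181)
theorem F145022 : act 7 n31245 = n31245 := d39_2 D29289 D31245 (iv D31245) (iv D29289) F105836
theorem F145023 : act 8 n31245 = n29623 := d40_2 (iv F136182) D31245 (iv D29623)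
theorem F145024 : act 9 n31245 = n29380 := d41_2 (iv F136183) D31245 (iv D29380)
def n31246 : Q := act 6 n29290
theorem D31246 : act 6 n29290 = n31246 := rfl
theorem F145025 : act 0 n31246 = n30916 := d5_1 D31246 F143353 (iv F136184)
theorem F145026 : act 1 n31246 = n29324 := d13_1 D31246 (iv D29324) (iv F136185)
theorem F145027 : act 2 n31246 = n30017 := d20_1 D31246 F139919 (iv F136186)
theorem F145028 : act 4 n31246 = n29292 := d31_1 D31246 (iv D29292) (iv F136187)
theorem F145029 : act 5 n31246 = n29994 := d35_1 D31246 F139790 F109522 (iv F133722) (iv F136188)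
theorem F145030 : act 7 n31246 = n31246 := d39_2 D29290 D31246 (iv D31246) (iv D29290) F105845
theorem F145031 : act 9 n31246 = n29383 := d41_2 (iv F136189) D31246 (iv D29383)
def n31247 : Q := act 8 n29290
theorem D31247 : act 8 n29290 = n31247 := rfl
theorem F145032 : act 0 n31247 = n30637 := d7_1 D31247 F142424 (iv F136184)
theorem F145033 : act 1 n31247 = n29325 := d15_1 D31247 (iv D29325) (iv F136185)
theorem F145034 : act 2 n31247 = n29622 := d22_1 D31247 F137969 (iv F136186)
theorem F145035 : act 4 n31247 = n29293 := d33_1 D31247 (iv D29293) (iv F136187)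
theorem F145036 : act 7 n31247 = n29291 := d42_1 D31247 (iv D29291) D29290
def n31248 : Q := act 5 n29291
theorem D31248 : act 5 n29291 = n31248 := rfl
theorem F145037 : act 0 n31248 = n30570 := d4_1 D31248 F142160 (iv F136190)
theorem F145038 : act 1 n31248 = n29326 := d12_1 D31248 (iv D29326) (iv F136191)
theorem F145039 : act 2 n31248 = n29563 := d19_1 D31248 F137670 (iv F136192)
theorem F145040 : act 4 n31248 = n29561 := d30_1 D31248 (iv D29561) F107115 (iv F135611) (iv F136193)
theorem F145041 : act 8 n31248 = n29731 := d37_2 D29291 D31248 (iv D29731) (iv D24018) (iv F105844)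
def n31249 : Q := act 9 n29291
theorem D31249 : act 9 n29291 = n31249 := rfl
theorem F145042 : act 0 n31249 = n30630 := d8_1 D31249 F142395 (iv F136190)
theorem F145043 : act 1 n31249 = n29327 := d16_1 D31249 (iv D29327) (iv F136191)
theorem F145044 : act 2 n31249 = n29618 := d23_1 D31249 F137947 (iv F136192)
theorem F145045 : act 4 n31249 = n29294 := d34_1 D31249 (iv D29294) (iv F136193)
theorem F145046 : act 6 n31249 = n31249 := d41_1 D31249 (iv D31249) F136194
theorem F145047 : act 8 n31249 = n29385 := d44_1 D31249 (iv D29385) (iv D23694) (iv F105846) D29291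
def n31250 : Q := act 8 n29292
theorem D31250 : act 8 n29292 = n31250 := rfl
theorem F145048 : act 0 n31250 = n30638 := d7_1 D31250 (iv F144907) F144900
theorem F145049 : act 1 n31250 = n29328 := d15_1 D31250 (iv D29328) (iv F136195)
theorem F145050 : act 2 n31250 = n29623 := d22_1 D31250 (iv F145023) F145018
theorem F145051 : act 3 n31250 = n29295 := d28_1 D31250 (iv D29295) (iv F136196)
theorem F145052 : act 6 n31250 = n29293 := d40_1 D31250 (iv D29293) D29292
theorem F145053 : act 7 n31250 = n31250 := d42_1 D31250 (iv D31250) F136198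
theorem F145054 : act 5 n29642 = n31250 := d35_5 F145052 F136204 F107394 (iv F107491) D29642
def n31251 : Q := act 9 n29293
theorem D31251 : act 9 n29293 = n31251 := rfl
theorem F145055 : act 0 n31251 = n30631 := d8_1 D31251 F142398 (iv F136200)
theorem F145056 : act 1 n31251 = n29329 := d16_1 D31251 (iv D29329) (iv F136201)
theorem F145057 : act 2 n31251 = n29619 := d23_1 D31251 F137952 (iv F136202)
theorem F145058 : act 3 n31251 = n29296 := d29_1 D31251 (iv D29296) (iv F136203)
theorem F145059 : act 5 n31251 = n29617 := d38_1 D31251 F137941 (iv F136204)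
theorem F145060 : act 7 n31251 = n29294 := d43_1 D31251 (iv D29294) (iv F136205)
theorem F145061 : act 8 n31251 = n29387 := d44_1 D31251 (iv D29387) (iv D23696) (iv F105850) D29293
def n31252 : Q := act 9 n29295
theorem D31252 : act 9 n29295 = n31252 := rfl
theorem F145062 : act 1 n31252 = n29331 := d16_1 D31252 (iv D29331) (iv F136213)
theorem F145063 : act 2 n31252 = n30627 := d23_1 D31252 F144475 F144469
theorem F145064 : act 5 n31252 = n30877 := d38_1 D31252 (iv F144805) F144802
theorem F145065 : act 6 n31252 = n29296 := d41_1 D31252 (iv D29296) (iv F136214)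
theorem F145066 : act 7 n31252 = n31252 := d43_1 D31252 (iv D31252) F136215
theorem F145067 : act 8 n31252 = n29389 := d44_1 D31252 (iv D29389) (iv D23698) (iv F105857) D29295
def n31253 : Q := act 6 n29297
theorem D31253 : act 6 n29297 = n31253 := rfl
theorem F145068 : act 0 n31253 = n30242 := d5_1 D31253 (iv D30242) (iv F136221)
theorem F145069 : act 1 n31253 = n30943 := d13_1 D31253 F143453 F136228
theorem F145070 : act 2 n31253 = n29298 := d20_1 D31253 (iv D29298) D29297
theorem F145071 : act 3 n31253 = n31253 := d26_1 D31253 (iv D31253) F136222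
theorem F145072 : act 4 n31253 = n29301 := d31_1 D31253 (iv D29301) (iv F136223)
theorem F145073 : act 8 n31253 = n31253 := d40_2 F136226 D31253 (iv D31253)
theorem F145074 : act 9 n31253 = n29430 := d41_2 (iv F136227) D31253 (iv D29430)
def n31254 : Q := act 5 n29298
theorem D31254 : act 5 n29298 = n31254 := rfl
theorem F145075 : act 0 n31254 = n30243 := d4_1 D31254 (iv D30243) (iv F136229)
theorem F145076 : act 1 n31254 = n29484 := d12_1 D31254 (iv D29484) (iv F136230)
theorem F145077 : act 3 n31254 = n29299 := d25_1 D31254 (iv D29299) (iv F136231)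
theorem F145078 : act 6 n31254 = n29734 := d35_2 D29298 D31254 (iv D29734) (iv D24025) (iv F105866)
theorem F145079 : act 9 n31254 = n29431 := d38_2 (iv F136234) D31254 (iv D29431)
def n31255 : Q := act 7 n29298
theorem D31255 : act 7 n29298 = n31255 := rfl
theorem F145080 : act 0 n31255 = n30244 := d6_1 D31255 (iv D30244) (iv F136229)
theorem F145081 : act 1 n31255 = n29485 := d14_1 D31255 (iv D29485) (iv F136230)
theorem F145082 : act 3 n31255 = n29300 := d27_1 D31255 (iv D29300) (iv F136231)
theorem F145083 : act 4 n31255 = n29303 := d32_1 D31255 (iv D29303) (iv F136232)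
theorem F145084 : act 6 n31255 = n30705 := d39_1 D31255 (iv D30705) (iv D25830) (iv F105867) D29298
theorem F145085 : act 8 n31255 = n31255 := d42_2 F136233 D31255 (iv D31255)
theorem F145086 : act 9 n31255 = n29432 := d43_2 (iv F136234) D31255 (iv D29432)
def n31256 : Q := act 7 n29299
theorem D31256 : act 7 n29299 = n31256 := rfl
theorem F145087 : act 0 n31256 = n30245 := d6_1 D31256 (iv D30245) (iv F136235)
theorem F145088 : act 1 n31256 = n29486 := d14_1 D31256 (iv D29486) (iv F136236)
theorem F145089 : act 2 n31256 = n31256 := d21_1 D31256 (iv D31256) F136237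
theorem F145090 : act 4 n31256 = n29698 := d32_1 D31256 (iv D29698) (iv F136238)
theorem F145091 : act 5 n31256 = n29300 := d36_1 D31256 (iv D29300) D29299
theorem F145092 : act 9 n31256 = n29433 := d43_2 (iv F136240) D31256 (iv D29433)
def n31257 : Q := act 8 n29299
theorem D31257 : act 8 n29299 = n31257 := rfl
theorem F145093 : act 0 n31257 = n30246 := d7_1 D31257 (iv D30246) (iv F136235)
theorem F145094 : act 1 n31257 = n29487 := d15_1 D31257 (iv D29487) (iv F136236)
theorem F145095 : act 2 n31257 = n31257 := d22_1 D31257 (iv D31257) F136237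
theorem F145096 : act 4 n31257 = n29699 := d33_1 D31257 (iv D29699) (iv F136238)
theorem F145097 : act 5 n31257 = n31257 := d37_1 D31257 (iv D31257) (iv D29299) F105874 D29299
theorem F145098 : act 6 n31257 = n29737 := d40_1 D31257 (iv D29737) (iv F136239)
def n31258 : Q := act 5 n29301
theorem D31258 : act 5 n29301 = n31258 := rfl
theorem F145099 : act 0 n31258 = n30248 := d4_1 D31258 (iv D30248) (iv F136248)
theorem F145100 : act 1 n31258 = n30740 := d12_1 D31258 F142776 (iv F136249)
theorem F145101 : act 2 n31258 = n29302 := d19_1 D31258 (iv D29302) (iv F136250)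
theorem F145102 : act 3 n31258 = n29332 := d25_1 D31258 (iv D29332) (iv F136251)
theorem F145103 : act 6 n31258 = n29306 := d35_2 D29301 D31258 (iv D29306) (iv D23607) (iv F105886)
theorem F145104 : act 9 n31258 = n30674 := d38_2 (iv F136253) D31258 F142568
def n31259 : Q := act 7 n29301
theorem D31259 : act 7 n29301 = n31259 := rfl
theorem F145105 : act 0 n31259 = n30249 := d6_1 D31259 (iv D30249) (iv F136248)
theorem F145106 : act 1 n31259 = n30944 := d14_1 D31259 F143456 (iv F136249)
theorem F145107 : act 2 n31259 = n29303 := d21_1 D31259 (iv D29303) (iv F136250)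
theorem F145108 : act 3 n31259 = n29333 := d27_1 D31259 (iv D29333) (iv F136251)
theorem F145109 : act 6 n31259 = n30724 := d39_1 D31259 (iv D30724) (iv D25846) (iv F105887) D29301
theorem F145110 : act 8 n31259 = n31259 := d42_2 F136252 D31259 (iv D31259)
theorem F145111 : act 9 n31259 = n30717 := d43_2 (iv F136253) D31259 (iv D30717)
def n31260 : Q := act 4 n29302
theorem D31260 : act 4 n29302 = n31260 := rfl
theorem F145112 : act 0 n31260 = n30250 := d3_1 D31260 (iv D30250) (iv F136254)
theorem F145113 : act 1 n31260 = n30746 := d11_1 D31260 (iv D30746) (iv F136255)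
theorem F145114 : act 3 n31260 = n30679 := d24_1 D31260 (iv D30679) F115711 (iv F105898) (iv F136256)
theorem F145115 : act 6 n31260 = n29308 := d31_2 (iv F136257) D31260 (iv D29308)
theorem F145116 : act 9 n31260 = n30718 := d34_2 (iv F136258) D31260 (iv D30718)
def n31261 : Q := act 7 n29302
theorem D31261 : act 7 n29302 = n31261 := rfl
theorem F145117 : act 0 n31261 = n30251 := d6_1 D31261 (iv D30251) (iv F136254)
theorem F145118 : act 1 n31261 = n30747 := d14_1 D31261 (iv D30747) (iv F136255)
theorem F145119 : act 3 n31261 = n29304 := d27_1 D31261 (iv D29304) (iv F136256)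
theorem F145120 : act 5 n31261 = n29303 := d36_1 D31261 (iv D29303) D29302
theorem F145121 : act 9 n31261 = n30719 := d43_2 (iv F136258) D31261 (iv D30719)
def n31262 : Q := act 8 n29302
theorem D31262 : act 8 n29302 = n31262 := rfl
theorem F145122 : act 0 n31262 = n30252 := d7_1 D31262 (iv D30252) (iv F136254)
theorem F145123 : act 1 n31262 = n30748 := d15_1 D31262 (iv D30748) (iv F136255)
theorem F145124 : act 3 n31262 = n29305 := d28_1 D31262 (iv D29305) (iv F136256)
theorem F145125 : act 5 n31262 = n31262 := d37_1 D31262 (iv D31262) (iv D29302) F105893 D29302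
theorem F145126 : act 6 n31262 = n29310 := d40_1 D31262 (iv D29310) (iv F136257)
def n31263 : Q := act 6 n29304
theorem D31263 : act 6 n29304 = n31263 := rfl
theorem F145127 : act 0 n31263 = n30253 := d5_1 D31263 (iv D30253) (iv F136265)
theorem F145128 : act 1 n31263 = n30749 := d13_1 D31263 (iv D30749) (iv F136266)
theorem F145129 : act 2 n31263 = n29337 := d20_1 D31263 (iv D29337) (iv F136267)
theorem F145130 : act 4 n31263 = n30682 := d31_1 D31263 (iv D30682) (iv F136268)
theorem F145131 : act 5 n31263 = n30728 := d35_1 D31263 (iv D30728) F115985 (iv F105905) (iv F136269)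
theorem F145132 : act 7 n31263 = n29311 := d39_2 D29304 D31263 (iv D29311) (iv D23610) (iv F105899)
theorem F145133 : act 9 n31263 = n30720 := d41_2 (iv F136270) D31263 (iv D30720)
def n31264 : Q := act 8 n29304
theorem D31264 : act 8 n29304 = n31264 := rfl
theorem F145134 : act 0 n31264 = n30254 := d7_1 D31264 (iv D30254) (iv F136265)
theorem F145135 : act 1 n31264 = n30750 := d15_1 D31264 (iv D30750) (iv F136266)
theorem F145136 : act 2 n31264 = n29338 := d22_1 D31264 (iv D29338) (iv F136267)
theorem F145137 : act 4 n31264 = n30683 := d33_1 D31264 (iv D30683) (iv F136268)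
theorem F145138 : act 5 n31264 = n31264 := d37_1 D31264 (iv D31264) F136269 F105906 (iv F136269)
theorem F145139 : act 7 n31264 = n29305 := d42_1 D31264 (iv D29305) D29304
def n31265 : Q := act 9 n29305
theorem D31265 : act 9 n29305 = n31265 := rfl
theorem F145140 : act 0 n31265 = n30255 := d8_1 D31265 (iv D30255) (iv F136271)
theorem F145141 : act 1 n31265 = n30751 := d16_1 D31265 (iv D30751) (iv F136272)
theorem F145142 : act 2 n31265 = n29339 := d23_1 D31265 (iv D29339) (iv F136273)
theorem F145143 : act 4 n31265 = n30684 := d34_1 D31265 (iv D30684) (iv F136274)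
theorem F145144 : act 5 n31265 = n31265 := d38_1 D31265 (iv D31265) F136275
theorem F145145 : act 6 n31265 = n29313 := d41_1 D31265 (iv D29313) (iv F136276)
theorem F145146 : act 8 n31265 = n30553 := d44_1 D31265 F142080 (iv D25844) (iv F105900) D29305
def n31266 : Q := act 4 n29306
theorem D31266 : act 4 n29306 = n31266 := rfl
theorem F145147 : act 0 n31266 = n30258 := d3_1 D31266 (iv D30258) (iv F136277)
theorem F145148 : act 1 n31266 = n30779 := d11_1 D31266 F142872 (iv F136278)
theorem F145149 : act 2 n31266 = n29308 := d18_1 D31266 (iv D29308) (iv F136279)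
theorem F145150 : act 5 n31266 = n29784 := d30_2 D29306 D31266 (iv D29784) (iv D24060) (iv F105916)
theorem F145151 : act 9 n31266 = n30697 := d34_2 (iv F136281) D31266 F142647
def n31267 : Q := act 7 n29306
theorem D31267 : act 7 n29306 = n31267 := rfl
theorem F145152 : act 0 n31267 = n30259 := d6_1 D31267 (iv D30259) (iv F136277)
theorem F145153 : act 1 n31267 = n30781 := d14_1 D31267 F142877 (iv F136278)
theorem F145154 : act 2 n31267 = n29309 := d21_1 D31267 (iv D29309) (iv F136279)
theorem F145155 : act 3 n31267 = n29341 := d27_1 D31267 (iv D29341) (iv F136280)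
theorem F145156 : act 5 n31267 = n29307 := d36_1 D31267 (iv D29307) D29306
theorem F145157 : act 9 n31267 = n30699 := d43_2 (iv F136281) D31267 F142654
def n31268 : Q := act 8 n29306
theorem D31268 : act 8 n29306 = n31268 := rfl
theorem F145158 : act 0 n31268 = n30260 := d7_1 D31268 (iv D30260) (iv F136277)
theorem F145159 : act 1 n31268 = n30765 := d15_1 D31268 F142843 (iv F136278)
theorem F145160 : act 2 n31268 = n29310 := d22_1 D31268 (iv D29310) (iv F136279)
theorem F145161 : act 3 n31268 = n29342 := d28_1 D31268 (iv D29342) (iv F136280)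
theorem F145162 : act 5 n31268 = n29316 := d37_1 D31268 (iv D29316) (iv D23614) (iv F105917) D29306
theorem F145163 : act 9 n31268 = n30690 := d44_2 (iv F136281) D31268 (iv D30690) F115732 D25788
def n31269 : Q := act 7 n29308
theorem D31269 : act 7 n29308 = n31269 := rfl
theorem F145164 : act 0 n31269 = n30261 := d6_1 D31269 (iv D30261) (iv F136290)
theorem F145165 : act 4 n31269 = n29309 := d32_1 D31269 (iv D29309) D29308
theorem F145166 : act 5 n31269 = n29787 := d36_1 D31269 (iv D29787) (iv F136291)
theorem F145167 : act 9 n31269 = n30752 := d43_2 (iv F136292) D31269 (iv D30752)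
def n31270 : Q := act 8 n29308
theorem D31270 : act 8 n29308 = n31270 := rfl
theorem F145168 : act 0 n31270 = n30262 := d7_1 D31270 (iv D30262) (iv F136290)
theorem F145169 : act 4 n31270 = n29310 := d33_1 D31270 (iv D29310) D29308
def n31271 : Q := act 6 n29309
theorem D31271 : act 6 n29309 = n31271 := rfl
theorem F145170 : act 0 n31271 = n30263 := d5_1 D31271 (iv D30263) (iv F136293)
theorem F145171 : act 3 n31271 = n29311 := d26_1 D31271 (iv D29311) (iv F136294)
theorem F145172 : act 5 n31271 = n30763 := d35_1 D31271 (iv D30763) F116069 (iv F105925) (iv F136295)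
theorem F145173 : act 9 n31271 = n30753 := d41_2 (iv F136296) D31271 (iv D30753)
def n31272 : Q := act 8 n29309
theorem D31272 : act 8 n29309 = n31272 := rfl
theorem F145174 : act 0 n31272 = n30264 := d7_1 D31272 (iv D30264) (iv F136293)
theorem F145175 : act 3 n31272 = n29312 := d28_1 D31272 (iv D29312) (iv F136294)
theorem F145176 : act 5 n31272 = n29320 := d37_1 D31272 (iv D29320) F105963 (iv F105926) (iv F136295)
theorem F145177 : act 7 n31272 = n29310 := d42_1 D31272 (iv D29310) D29309
def n31273 : Q := act 9 n29310
theorem D31273 : act 9 n29310 = n31273 := rfl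
theorem F145178 : act 0 n31273 = n30265 := d8_1 D31273 (iv D30265) (iv F136297)
theorem F145179 : act 2 n31273 = n30690 := d23_1 D31273 (iv F145163) F145160
theorem F145180 : act 3 n31273 = n29313 := d29_1 D31273 (iv D29313) (iv F136298)
theorem F145181 : act 5 n31273 = n29321 := d38_1 D31273 (iv D29321) (iv F136299)
theorem F145182 : act 8 n31273 = n30686 := d44_1 D31273 F142611 F134865 (iv F105921) D29310
def n31274 : Q := act 8 n29311
theorem D31274 : act 8 n29311 = n31274 := rfl
theorem F145183 : act 0 n31274 = n30266 := d7_1 D31274 (iv D30266) (iv F136300)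
theorem F145184 : act 2 n31274 = n29347 := d22_1 D31274 (iv D29347) (iv F136301)
theorem F145185 : act 6 n31274 = n29312 := d40_1 D31274 (iv D29312) D29311
def n31275 : Q := act 9 n29312
theorem D31275 : act 9 n29312 = n31275 := rfl
theorem F145186 : act 0 n31275 = n30267 := d8_1 D31275 (iv D30267) (iv F136304)
theorem F145187 : act 2 n31275 = n29348 := d23_1 D31275 (iv D29348) (iv F136305)
theorem F145188 : act 5 n31275 = n29323 := d38_1 D31275 (iv D29323) (iv F136306)
theorem F145189 : act 7 n31275 = n29313 := d43_1 D31275 (iv D29313) (iv F136307)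
theorem F145190 : act 8 n31275 = n30755 := d44_1 D31275 (iv D30755) (iv D25875) (iv F105931) D29312
def n31276 : Q := act 7 n29314
theorem D31276 : act 7 n29314 = n31276 := rfl
theorem F145191 : act 0 n31276 = n30270 := d6_1 D31276 (iv D30270) (iv F136312)
theorem F145192 : act 1 n31276 = n30914 := d14_1 D31276 F143346 (iv F136313)
theorem F145193 : act 2 n31276 = n29317 := d21_1 D31276 (iv D29317) (iv F136314)
theorem F145194 : act 3 n31276 = n31276 := d27_1 D31276 (iv D31276) F136315
theorem F145195 : act 4 n31276 = n29315 := d32_1 D31276 (iv D29315) D29314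
theorem F145196 : act 5 n31276 = n29805 := d36_1 D31276 (iv D29805) (iv F136316)
theorem F145197 : act 9 n31276 = n29390 := d43_2 (iv F136318) D31276 (iv D29390)
def n31277 : Q := act 8 n29314
theorem D31277 : act 8 n29314 = n31277 := rfl
theorem F145198 : act 0 n31277 = n30271 := d7_1 D31277 (iv D30271) (iv F136312)
theorem F145199 : act 1 n31277 = n30904 := d15_1 D31277 F143312 (iv F136313)
theorem F145200 : act 2 n31277 = n29318 := d22_1 D31277 (iv D29318) (iv F136314)
theorem F145201 : act 3 n31277 = n31277 := d28_1 D31277 (iv D31277) F136315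
theorem F145202 : act 4 n31277 = n29316 := d33_1 D31277 (iv D29316) D29314
theorem F145203 : act 6 n31277 = n31277 := d40_1 D31277 (iv D31277) F136317
theorem F145204 : act 9 n31277 = n30892 := d44_2 (iv F136318) D31277 (iv D30892) F117152 (iv F134937)
def n31278 : Q := act 6 n29315
theorem D31278 : act 6 n29315 = n31278 := rfl
theorem F145205 : act 0 n31278 = n30272 := d5_1 D31278 (iv D30272) (iv F136319)
theorem F145206 : act 1 n31278 = n30915 := d13_1 D31278 F143348 (iv F136320)
theorem F145207 : act 2 n31278 = n29319 := d20_1 D31278 (iv D29319) (iv F136321)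
theorem F145208 : act 3 n31278 = n29349 := d26_1 D31278 (iv D29349) (iv F136322)
theorem F145209 : act 5 n31278 = n30898 := d35_1 D31278 (iv D30898) F117413 (iv F105954) (iv F136323)
theorem F145210 : act 7 n31278 = n31278 := d39_2 D29315 D31278 (iv D31278) (iv D29315) F105948
theorem F145211 : act 9 n31278 = n29391 := d41_2 (iv F136324) D31278 (iv D29391)
def n31279 : Q := act 8 n29315
theorem D31279 : act 8 n29315 = n31279 := rfl
theorem F145212 : act 0 n31279 = n30273 := d7_1 D31279 (iv D30273) (iv F136319)
theorem F145213 : act 1 n31279 = n30906 := d15_1 D31279 F143318 (iv F136320)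
theorem F145214 : act 2 n31279 = n29320 := d22_1 D31279 (iv D29320) (iv F136321)
theorem F145215 : act 3 n31279 = n29350 := d28_1 D31279 (iv D29350) (iv F136322)
theorem F145216 : act 7 n31279 = n29316 := d42_1 D31279 (iv D29316) D29315
theorem F145217 : act 9 n31279 = n30894 := d44_2 (iv F136324) D31279 (iv D30894) F117156 (iv F134879)
def n31280 : Q := act 6 n29317
theorem D31280 : act 6 n29317 = n31280 := rfl
theorem F145218 : act 0 n31280 = n30275 := d5_1 D31280 (iv D30275) (iv F136331)
theorem F145219 : act 3 n31280 = n29324 := d26_1 D31280 (iv D29324) (iv F136332)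
theorem F145220 : act 4 n31280 = n29319 := d31_1 D31280 (iv D29319) (iv F136333)
theorem F145221 : act 7 n31280 = n31280 := d39_2 D29317 D31280 (iv D31280) (iv D29317) F105959
theorem F145222 : act 9 n31280 = n29392 := d41_2 (iv F136335) D31280 (iv D29392)
def n31281 : Q := act 8 n29317
theorem D31281 : act 8 n29317 = n31281 := rfl
theorem F145223 : act 0 n31281 = n30276 := d7_1 D31281 (iv D30276) (iv F136331)
theorem F145224 : act 3 n31281 = n29325 := d28_1 D31281 (iv D29325) (iv F136332)
theorem F145225 : act 4 n31281 = n29320 := d33_1 D31281 (iv D29320) (iv F136333)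
theorem F145226 : act 7 n31281 = n29318 := d42_1 D31281 (iv D29318) D29317
def n31282 : Q := act 5 n29318
theorem D31282 : act 5 n29318 = n31282 := rfl
theorem F145227 : act 0 n31282 = n30277 := d4_1 D31282 (iv D30277) (iv F136336)
theorem F145228 : act 3 n31282 = n29326 := d25_1 D31282 (iv D29326) (iv F136337)
theorem F145229 : act 8 n31282 = n29812 := d37_2 D29318 D31282 (iv D29812) (iv D24085) (iv F105958)
def n31283 : Q := act 9 n29318
theorem D31283 : act 9 n29318 = n31283 := rfl
theorem F145230 : act 0 n31283 = n30278 := d8_1 D31283 (iv D30278) (iv F136336)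
theorem F145231 : act 2 n31283 = n30892 := d23_1 D31283 (iv F145204) F145200
theorem F145232 : act 3 n31283 = n29327 := d29_1 D31283 (iv D29327) (iv F136337)
theorem F145233 : act 4 n31283 = n29321 := d34_1 D31283 (iv D29321) (iv F136338)
theorem F145234 : act 6 n31283 = n31283 := d41_1 D31283 (iv D31283) F136339
theorem F145235 : act 8 n31283 = n29394 := d44_1 D31283 (iv D29394) (iv D23707) (iv F105960) D29318
def n31284 : Q := act 8 n29319
theorem D31284 : act 8 n29319 = n31284 := rfl
theorem F145236 : act 0 n31284 = n30279 := d7_1 D31284 (iv D30279) (iv F136340)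
theorem F145237 : act 3 n31284 = n29322 := d28_1 D31284 (iv D29322) (iv F136341)
theorem F145238 : act 6 n31284 = n29320 := d40_1 D31284 (iv D29320) D29319
theorem F145239 : act 7 n31284 = n31284 := d42_1 D31284 (iv D31284) F136343
def n31285 : Q := act 9 n29320
theorem D31285 : act 9 n29320 = n31285 := rfl
theorem F145240 : act 0 n31285 = n30280 := d8_1 D31285 (iv D30280) (iv F136345)
theorem F145241 : act 2 n31285 = n30894 := d23_1 D31285 (iv F145217) F145214
theorem F145242 : act 3 n31285 = n29323 := d29_1 D31285 (iv D29323) (iv F136346)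
theorem F145243 : act 7 n31285 = n29321 := d43_1 D31285 (iv D29321) (iv F136347)
theorem F145244 : act 8 n31285 = n29396 := d44_1 D31285 (iv D29396) (iv D23709) (iv F105964) D29320
def n31286 : Q := act 5 n29322
theorem D31286 : act 5 n29322 = n31286 := rfl
theorem F145245 : act 0 n31286 = n30281 := d4_1 D31286 (iv D30281) (iv F136353)
theorem F145246 : act 2 n31286 = n29352 := d19_1 D31286 (iv D29352) (iv F136354)
theorem F145247 : act 7 n31286 = n31286 := d36_2 F136357 D31286 (iv D31286)
theorem F145248 : act 8 n31286 = n30907 := d37_2 D29322 D31286 (iv D30907) (iv D26254) (iv F105971)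
def n31287 : Q := act 9 n29322
theorem D31287 : act 9 n29322 = n31287 := rfl
theorem F145249 : act 0 n31287 = n30282 := d8_1 D31287 (iv D30282) (iv F136353)
theorem F145250 : act 2 n31287 = n29353 := d23_1 D31287 (iv D29353) (iv F136354)
theorem F145251 : act 4 n31287 = n29331 := d34_1 D31287 (iv D29331) (iv F136355)
theorem F145252 : act 6 n31287 = n29323 := d41_1 D31287 (iv D29323) (iv F136356)
theorem F145253 : act 7 n31287 = n31287 := d43_1 D31287 (iv D31287) F136357
theorem F145254 : act 8 n31287 = n29398 := d44_1 D31287 (iv D29398) (iv D23711) (iv F105973) D29322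
def n31288 : Q := act 5 n29324
theorem D31288 : act 5 n29324 = n31288 := rfl
theorem F145255 : act 0 n31288 = n30283 := d4_1 D31288 (iv D30283) (iv F136363)
theorem F145256 : act 1 n31288 = n29994 := d12_1 D31288 (iv F145029) F145026
theorem F145257 : act 2 n31288 = n31288 := d19_1 D31288 (iv D31288) F136364
theorem F145258 : act 4 n31288 = n31288 := d30_1 D31288 (iv D31288) F136365 F105995 (iv F136365)
theorem F145259 : act 6 n31288 = n29816 := d35_2 D29324 D31288 (iv D29816) (iv D24091) (iv F105986)
theorem F145260 : act 7 n31288 = n31288 := d36_2 F136366 D31288 (iv D31288)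
theorem F145261 : act 9 n31288 = n29399 := d38_2 (iv F136367) D31288 (iv D29399)
def n31289 : Q := act 8 n29324
theorem D31289 : act 8 n29324 = n31289 := rfl
theorem F145262 : act 0 n31289 = n30284 := d7_1 D31289 (iv D30284) (iv F136363)
theorem F145263 : act 2 n31289 = n31289 := d22_1 D31289 (iv D31289) F136364
theorem F145264 : act 4 n31289 = n29328 := d33_1 D31289 (iv D29328) (iv F136365)
theorem F145265 : act 6 n31289 = n29325 := d40_1 D31289 (iv D29325) D29324
theorem F145266 : act 7 n31289 = n31289 := d42_1 D31289 (iv D31289) F136366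
def n31290 : Q := act 5 n29325
theorem D31290 : act 5 n29325 = n31290 := rfl
theorem F145267 : act 0 n31290 = n30285 := d4_1 D31290 (iv D30285) (iv F136368)
theorem F145268 : act 2 n31290 = n31290 := d19_1 D31290 (iv D31290) F136369
theorem F145269 : act 7 n31290 = n29326 := d36_2 (iv F136371) D31290 (iv D29326)
theorem F145270 : act 8 n31290 = n29817 := d37_2 D29325 D31290 (iv D29817) (iv D24092) (iv F105986)
def n31291 : Q := act 9 n29325
theorem D31291 : act 9 n29325 = n31291 := rfl
theorem F145271 : act 0 n31291 = n30286 := d8_1 D31291 (iv D30286) (iv F136368)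
theorem F145272 : act 2 n31291 = n31291 := d23_1 D31291 (iv D31291) F136369
theorem F145273 : act 4 n31291 = n29329 := d34_1 D31291 (iv D29329) (iv F136370)
theorem F145274 : act 7 n31291 = n29327 := d43_1 D31291 (iv D29327) (iv F136371)
theorem F145275 : act 8 n31291 = n29402 := d44_1 D31291 (iv D29402) (iv D23714) (iv F105987) D29325
def n31292 : Q := act 6 n29326
theorem D31292 : act 6 n29326 = n31292 := rfl
theorem F145276 : act 0 n31292 = n30287 := d5_1 D31292 (iv D30287) (iv F136372)
theorem F145277 : act 2 n31292 = n31292 := d20_1 D31292 (iv D31292) F136373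
theorem F145278 : act 5 n31292 = n31292 := d35_1 D31292 (iv D31292) (iv D29326) F105991 D29326
theorem F145279 : act 8 n31292 = n29818 := d40_2 (iv F136374) D31292 (iv D29818)
def n31293 : Q := act 9 n29326
theorem D31293 : act 9 n29326 = n31293 := rfl
theorem F145280 : act 0 n31293 = n30288 := d8_1 D31293 (iv D30288) (iv F136372)
theorem F145281 : act 2 n31293 = n31293 := d23_1 D31293 (iv D31293) F136373
theorem F145282 : act 5 n31293 = n29327 := d38_1 D31293 (iv D29327) D29326
def n31294 : Q := act 5 n29328
theorem D31294 : act 5 n29328 = n31294 := rfl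
theorem F145283 : act 0 n31294 = n30289 := d4_1 D31294 (iv D30289) (iv F136380)
theorem F145284 : act 1 n31294 = n29642 := d12_1 D31294 F145054 F145049
theorem F145285 : act 2 n31294 = n31294 := d19_1 D31294 (iv D31294) F136381
theorem F145286 : act 3 n31294 = n29330 := d25_1 D31294 (iv D29330) (iv F136382)
theorem F145287 : act 6 n31294 = n29639 := d35_2 (iv F136383) D31294 F138058 (iv F135897) F135896
theorem F145288 : act 7 n31294 = n31294 := d36_2 F136384 D31294 (iv D31294)
theorem F145289 : act 8 n31294 = n31294 := d37_2 D29328 D31294 (iv D31294) (iv D29328) F105995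
def n31295 : Q := act 9 n29328
theorem D31295 : act 9 n29328 = n31295 := rfl
theorem F145290 : act 0 n31295 = n30290 := d8_1 D31295 (iv D30290) (iv F136380)
theorem F145291 : act 2 n31295 = n31295 := d23_1 D31295 (iv D31295) F136381
theorem F145292 : act 3 n31295 = n29331 := d29_1 D31295 (iv D29331) (iv F136382)
theorem F145293 : act 6 n31295 = n29329 := d41_1 D31295 (iv D29329) (iv F136383)
theorem F145294 : act 7 n31295 = n31295 := d43_1 D31295 (iv D31295) F136384
theorem F145295 : act 8 n31295 = n29405 := d44_1 D31295 (iv D29405) (iv D23717) (iv F105997) D29328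
def n31296 : Q := act 4 n29330
theorem D31296 : act 4 n29330 = n31296 := rfl
theorem F145296 : act 0 n31296 = n30291 := d3_1 D31296 (iv D30291) (iv F136390)
theorem F145297 : act 2 n31296 = n29354 := d18_1 D31296 (iv D29354) (iv F136391)
theorem F145298 : act 7 n31296 = n31296 := d32_2 F136392 D31296 (iv D31296)
theorem F145299 : act 8 n31296 = n31296 := d33_2 F136393 D31296 (iv D31296)
def n31297 : Q := act 9 n29330
theorem D31297 : act 9 n29330 = n31297 := rfl
theorem F145300 : act 0 n31297 = n30292 := d8_1 D31297 (iv D30292) (iv F136390)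
theorem F145301 : act 1 n31297 = n30877 := d16_1 D31297 (iv F144805) F144799
theorem F145302 : act 2 n31297 = n29355 := d23_1 D31297 (iv D29355) (iv F136391)
theorem F145303 : act 5 n31297 = n29331 := d38_1 D31297 (iv D29331) D29330
theorem F145304 : act 6 n31297 = n30874 := d41_1 D31297 (iv F144723) F144720
theorem F145305 : act 7 n31297 = n31297 := d43_1 D31297 (iv D31297) F136392
def n31298 : Q := act 4 n29332
theorem D31298 : act 4 n29332 = n31298 := rfl
theorem F145306 : act 0 n31298 = n30295 := d3_1 D31298 (iv D30295) (iv F136399)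
theorem F145307 : act 1 n31298 = n30448 := d11_1 D31298 F141696 (iv F136400)
theorem F145308 : act 2 n31298 = n29334 := d18_1 D31298 (iv D29334) (iv F136401)
theorem F145309 : act 5 n31298 = n31298 := d30_2 D29332 D31298 (iv D31298) (iv D29332) F106023
theorem F145310 : act 6 n31298 = n29340 := d31_2 (iv F136402) D31298 (iv D29340)
theorem F145311 : act 9 n31298 = n30390 := d34_2 (iv F136403) D31298 F141477
theorem F145312 : act 8 n30464 = n31298 := d44_5 F145311 (iv D30390) F114556 D25533 D30464
def n31299 : Q := act 7 n29332
theorem D31299 : act 7 n29332 = n31299 := rfl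
theorem F145313 : act 0 n31299 = n30296 := d6_1 D31299 (iv D30296) (iv F136399)
theorem F145314 : act 1 n31299 = n30742 := d14_1 D31299 F142783 (iv F136400)
theorem F145315 : act 2 n31299 = n29335 := d21_1 D31299 (iv D29335) (iv F136401)
theorem F145316 : act 5 n31299 = n29333 := d36_1 D31299 (iv D29333) D29332
theorem F145317 : act 9 n31299 = n30676 := d43_2 (iv F136403) D31299 F142576
def n31300 : Q := act 8 n29332
theorem D31300 : act 8 n29332 = n31300 := rfl
theorem F145318 : act 0 n31300 = n30297 := d7_1 D31300 (iv D30297) (iv F136399)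
theorem F145319 : act 1 n31300 = n30730 := d15_1 D31300 F142750 (iv F136400)
theorem F145320 : act 2 n31300 = n29336 := d22_1 D31300 (iv D29336) (iv F136401)
theorem F145321 : act 4 n31300 = n30464 := d33_1 D31300 F145312 (iv D31298)
theorem F145322 : act 5 n31300 = n31300 := d37_1 D31300 (iv D31300) (iv D29332) F106024 D29332
theorem F145323 : act 6 n31300 = n29342 := d40_1 D31300 (iv D29342) (iv F136402)
theorem F145324 : act 9 n31300 = n30454 := d44_2 (iv F136403) D31300 (iv D30454) F114771 D25769
def n31301 : Q := act 7 n29334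
theorem D31301 : act 7 n29334 = n31301 := rfl
theorem F145325 : act 0 n31301 = n30298 := d6_1 D31301 (iv D30298) (iv F136411)
theorem F145326 : act 1 n31301 = n30995 := d14_1 D31301 F143682 (iv F136412)
theorem F145327 : act 3 n31301 = n30870 := d27_1 D31301 F143183 (iv F136413)
theorem F145328 : act 4 n31301 = n29335 := d32_1 D31301 (iv D29335) D29334
theorem F145329 : act 5 n31301 = n31301 := d36_1 D31301 (iv D31301) F136414
theorem F145330 : act 8 n31301 = n30577 := d42_2 F136417 D31301 F142187
theorem F145331 : act 9 n31301 = n30567 := d43_2 (iv F136416) D31301 F142148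
def n31302 : Q := act 6 n29335
theorem D31302 : act 6 n29335 = n31302 := rfl
theorem F145332 : act 0 n31302 = n30299 := d5_1 D31302 (iv D30299) (iv F136418)
theorem F145333 : act 1 n31302 = n31122 := d13_1 D31302 F144310 (iv F136419)
theorem F145334 : act 3 n31302 = n29337 := d26_1 D31302 (iv D29337) (iv F136420)
theorem F145335 : act 5 n31302 = n30809 := d35_1 D31302 (iv D30809) F116333 (iv F106035) (iv F136421)
theorem F145336 : act 7 n31302 = n29345 := d39_2 D29335 D31302 (iv D29345) (iv D23640) (iv F106029)
theorem F145337 : act 9 n31302 = n30800 := d41_2 (iv F136422) D31302 (iv D30800)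
def n31303 : Q := act 8 n29335
theorem D31303 : act 8 n29335 = n31303 := rfl
theorem F145338 : act 0 n31303 = n30300 := d7_1 D31303 (iv D30300) (iv F136418)
theorem F145339 : act 1 n31303 = n31060 := d15_1 D31303 F144043 (iv F136419)
theorem F145340 : act 3 n31303 = n29338 := d28_1 D31303 (iv D29338) (iv F136420)
theorem F145341 : act 4 n31303 = n30577 := d33_1 D31303 (iv F145330) F145328
theorem F145342 : act 5 n31303 = n31303 := d37_1 D31303 (iv D31303) F136421 F106036 (iv F136421)
theorem F145343 : act 7 n31303 = n29336 := d42_1 D31303 (iv D29336) D29335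
theorem F145344 : act 9 n31303 = n30558 := d44_2 (iv F136422) D31303 (iv D30558) F115057 (iv F135434)
def n31304 : Q := act 8 n29337
theorem D31304 : act 8 n29337 = n31304 := rfl
theorem F145345 : act 0 n31304 = n30301 := d7_1 D31304 (iv D30301) (iv F136430)
theorem F145346 : act 1 n31304 = n31123 := d15_1 D31304 (iv D31123) (iv F136431)
theorem F145347 : act 4 n31304 = n30866 := d33_1 D31304 F143172 (iv F136432)
theorem F145348 : act 6 n31304 = n29338 := d40_1 D31304 (iv D29338) D29337
theorem F145349 : act 7 n31304 = n29347 := d42_1 D31304 (iv D29347) (iv F136434)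
def n31305 : Q := act 9 n29338
theorem D31305 : act 9 n29338 = n31305 := rfl
theorem F145350 : act 0 n31305 = n30302 := d8_1 D31305 (iv D30302) (iv F136436)
theorem F145351 : act 1 n31305 = n31058 := d16_1 D31305 F144031 (iv F136437)
theorem F145352 : act 3 n31305 = n30558 := d29_1 D31305 (iv F145344) F145340
theorem F145353 : act 4 n31305 = n30871 := d34_1 D31305 (iv D30871) (iv F136438)
theorem F145354 : act 5 n31305 = n31305 := d38_1 D31305 (iv D31305) F136439
theorem F145355 : act 7 n31305 = n29339 := d43_1 D31305 (iv D29339) (iv F136440)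
theorem F145356 : act 8 n31305 = n30556 := d44_1 D31305 F142095 (iv D25955) (iv F106042) D29338
def n31306 : Q := act 3 n29340
theorem D31306 : act 3 n29340 = n31306 := rfl
theorem F145357 : act 0 n31306 = n30306 := d2_1 D31306 (iv D30306) (iv F136448)
theorem F145358 : act 1 n31306 = n30485 := d10_1 D31306 F141806 (iv F136449)
theorem F145359 : act 5 n31306 = n29356 := d25_2 (iv F136451) D31306 (iv D29356)
theorem F145360 : act 9 n31306 = n30409 := d29_2 (iv F136452) D31306 F141556
def n31307 : Q := act 7 n29340
theorem D31307 : act 7 n29340 = n31307 := rfl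
theorem F145361 : act 0 n31307 = n30307 := d6_1 D31307 (iv D30307) (iv F136448)
theorem F145362 : act 1 n31307 = n30487 := d14_1 D31307 F141814 (iv F136449)
theorem F145363 : act 2 n31307 = n29343 := d21_1 D31307 (iv D29343) (iv F136450)
theorem F145364 : act 4 n31307 = n29341 := d32_1 D31307 (iv D29341) D29340
theorem F145365 : act 5 n31307 = n29357 := d36_1 D31307 (iv D29357) (iv F136451)
theorem F145366 : act 9 n31307 = n30411 := d43_2 (iv F136452) D31307 F141565
def n31308 : Q := act 8 n29340
theorem D31308 : act 8 n29340 = n31308 := rfl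
theorem F145367 : act 0 n31308 = n30308 := d7_1 D31308 (iv D30308) (iv F136448)
theorem F145368 : act 1 n31308 = n30474 := d15_1 D31308 F141782 (iv F136449)
theorem F145369 : act 2 n31308 = n29344 := d22_1 D31308 (iv D29344) (iv F136450)
theorem F145370 : act 4 n31308 = n29342 := d33_1 D31308 (iv D29342) D29340
theorem F145371 : act 5 n31308 = n31308 := d37_1 D31308 (iv D31308) F136451 F106175 (iv F136451)
theorem F145372 : act 6 n31308 = n30464 := d40_1 D31308 F145312 F145310
theorem F145373 : act 9 n31308 = n30402 := d44_2 (iv F136452) D31308 (iv D30402) F114596 D25487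
def n31309 : Q := act 6 n29341
theorem D31309 : act 6 n29341 = n31309 := rfl
theorem F145374 : act 0 n31309 = n30309 := d5_1 D31309 (iv D30309) (iv F136453)
theorem F145375 : act 1 n31309 = n30783 := d13_1 D31309 F142882 (iv F136454)
theorem F145376 : act 2 n31309 = n29345 := d20_1 D31309 (iv D29345) (iv F136455)
theorem F145377 : act 5 n31309 = n30844 := d35_1 D31309 (iv D30844) F116474 (iv F106065) (iv F136456)
theorem F145378 : act 9 n31309 = n30700 := d41_2 (iv F136457) D31309 F142657
def n31310 : Q := act 8 n29341
theorem D31310 : act 8 n29341 = n31310 := rfl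
theorem F145379 : act 0 n31310 = n30310 := d7_1 D31310 (iv D30310) (iv F136453)
theorem F145380 : act 1 n31310 = n30767 := d15_1 D31310 F142849 (iv F136454)
theorem F145381 : act 2 n31310 = n29346 := d22_1 D31310 (iv D29346) (iv F136455)
theorem F145382 : act 5 n31310 = n29350 := d37_1 D31310 (iv D29350) F106111 (iv F106066) (iv F136456)
theorem F145383 : act 7 n31310 = n29342 := d42_1 D31310 (iv D29342) D29341
theorem F145384 : act 9 n31310 = n30692 := d44_2 (iv F136457) D31310 (iv D30692) F115740 D25790
def n31311 : Q := act 6 n29343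
theorem D31311 : act 6 n29343 = n31311 := rfl
theorem F145385 : act 0 n31311 = n30312 := d5_1 D31311 (iv D30312) (iv F136463)
theorem F145386 : act 1 n31311 = n31022 := d13_1 D31311 F143834 (iv F136464)
theorem F145387 : act 4 n31311 = n29345 := d31_1 D31311 (iv D29345) (iv F136465)
theorem F145388 : act 9 n31311 = n30839 := d41_2 (iv F136467) D31311 (iv D30839)
def n31312 : Q := act 8 n29343
theorem D31312 : act 8 n29343 = n31312 := rfl
theorem F145389 : act 0 n31312 = n30313 := d7_1 D31312 (iv D30313) (iv F136463)
theorem F145390 : act 1 n31312 = n31011 := d15_1 D31312 F143783 (iv F136464)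
theorem F145391 : act 3 n31312 = n30948 := d28_1 D31312 (iv F144742) F144739
theorem F145392 : act 4 n31312 = n29346 := d33_1 D31312 (iv D29346) (iv F136465)
theorem F145393 : act 5 n31312 = n31312 := d37_1 D31312 (iv D31312) F136466 F106186 (iv F136466)
theorem F145394 : act 7 n31312 = n29344 := d42_1 D31312 (iv D29344) D29343
theorem F145395 : act 9 n31312 = n30529 := d44_2 (iv F136467) D31312 (iv D30529) F114966 (iv F135424)
def n31313 : Q := act 8 n29345
theorem D31313 : act 8 n29345 = n31313 := rfl
theorem F145396 : act 0 n31313 = n30314 := d7_1 D31313 (iv D30314) (iv F136475)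
theorem F145397 : act 1 n31313 = n31130 := d15_1 D31313 F144346 (iv F136476)
theorem F145398 : act 3 n31313 = n29347 := d28_1 D31313 (iv D29347) (iv F136477)
theorem F145399 : act 6 n31313 = n29346 := d40_1 D31313 (iv D29346) D29345
theorem F145400 : act 9 n31313 = n31118 := d44_2 (iv F136479) D31313 (iv D31118) F122469 (iv F135426)
def n31314 : Q := act 5 n29347
theorem D31314 : act 5 n29347 = n31314 := rfl
theorem F145401 : act 0 n31314 = n30316 := d4_1 D31314 (iv D30316) (iv F136486)
theorem F145402 : act 1 n31314 = n31141 := d12_1 D31314 (iv D31141) (iv F136487)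
theorem F145403 : act 6 n31314 = n29352 := d35_2 (iv F136488) D31314 (iv D29352) F106138 (iv F106087)
theorem F145404 : act 8 n31314 = n30852 := d37_2 D29347 D31314 (iv D30852) (iv D26014) (iv F106083)
def n31315 : Q := act 9 n29347
theorem D31315 : act 9 n29347 = n31315 := rfl
theorem F145405 : act 0 n31315 = n30317 := d8_1 D31315 (iv D30317) (iv F136486)
theorem F145406 : act 1 n31315 = n31128 := d16_1 D31315 F144338 (iv F136487)
theorem F145407 : act 3 n31315 = n31118 := d29_1 D31315 (iv F145400) F145398
theorem F145408 : act 6 n31315 = n29348 := d41_1 D31315 (iv D29348) (iv F136488)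
theorem F145409 : act 8 n31315 = n30841 := d44_1 D31315 (iv D30841) (iv D26001) (iv F106084) D29347
def n31316 : Q := act 8 n29349
theorem D31316 : act 8 n29349 = n31316 := rfl
theorem F145410 : act 0 n31316 = n30319 := d7_1 D31316 (iv D30319) (iv F136495)
theorem F145411 : act 1 n31316 = n30908 := d15_1 D31316 F143325 (iv F136496)
theorem F145412 : act 2 n31316 = n29351 := d22_1 D31316 (iv D29351) (iv F136497)
theorem F145413 : act 4 n31316 = n31316 := d33_1 D31316 (iv D31316) F136498
theorem F145414 : act 6 n31316 = n29350 := d40_1 D31316 (iv D29350) D29349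
theorem F145415 : act 7 n31316 = n31316 := d42_1 D31316 (iv D31316) F136500
theorem F145416 : act 9 n31316 = n30895 := d44_2 (iv F136501) D31316 (iv D30895) F117164 (iv F134940)
def n31317 : Q := act 5 n29351
theorem D31317 : act 5 n29351 = n31317 := rfl
theorem F145417 : act 0 n31317 = n30321 := d4_1 D31317 (iv D30321) (iv F136508)
theorem F145418 : act 1 n31317 = n31156 := d12_1 D31317 F144434 (iv F136509)
theorem F145419 : act 3 n31317 = n29352 := d25_1 D31317 (iv D29352) (iv F136510)
theorem F145420 : act 7 n31317 = n31317 := d36_2 F136513 D31317 (iv D31317)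
theorem F145421 : act 8 n31317 = n30922 := d37_2 D29351 D31317 (iv D30922) (iv D26335) (iv F106121)
theorem F145422 : act 9 n31317 = n31152 := d38_2 (iv F136514) D31317 (iv D31152)
def n31318 : Q := act 4 n29352
theorem D31318 : act 4 n29352 = n31318 := rfl
theorem F145423 : act 0 n31318 = n30323 := d3_1 D31318 (iv D30323) (iv F136515)
theorem F145424 : act 1 n31318 = n31157 := d11_1 D31318 (iv D31157) (iv F136516)
theorem F145425 : act 5 n31318 = n29354 := d30_2 D29352 D31318 (iv D29354) (iv D23655) (iv F106137)
theorem F145426 : act 7 n31318 = n31318 := d32_2 F136517 D31318 (iv D31318)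
theorem F145427 : act 8 n31318 = n30924 := d33_2 (iv F136518) D31318 (iv D30924)
def n31319 : Q := act 9 n29352
theorem D31319 : act 9 n29352 = n31319 := rfl
theorem F145428 : act 0 n31319 = n30324 := d8_1 D31319 (iv D30324) (iv F136515)
theorem F145429 : act 1 n31319 = n31154 := d16_1 D31319 F144426 (iv F136516)
theorem F145430 : act 3 n31319 = n31152 := d29_1 D31319 (iv F145422) F145419
theorem F145431 : act 5 n31319 = n29353 := d38_1 D31319 (iv D29353) D29352
theorem F145432 : act 7 n31319 = n31319 := d43_1 D31319 (iv D31319) F136517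
def n31320 : Q := act 3 n29354
theorem D31320 : act 3 n29354 = n31320 := rfl
theorem F145433 : act 0 n31320 = n30325 := d2_1 D31320 (iv D30325) (iv F136526)
theorem F145434 : act 1 n31320 = n31098 := d10_1 D31320 F144484 F144477
theorem F145435 : act 4 n31320 = n31320 := d24_2 D29354 D31320 (iv D31320) (iv D29354) F106146
theorem F145436 : act 6 n31320 = n31096 := d26_2 F144768 D31320 F144772
theorem F145437 : act 7 n31320 = n31320 := d27_2 F136527 D31320 (iv D31320)
theorem F145438 : act 8 n31320 = n31320 := d28_2 F136528 D31320 (iv D31320)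
theorem F145439 : act 9 n31095 = n31320 := d41_0 F145436 (iv D31096) (iv F144171)
def n31321 : Q := act 9 n29354
theorem D31321 : act 9 n29354 = n31321 := rfl
theorem F145440 : act 0 n31321 = n30326 := d8_1 D31321 (iv D30326) (iv F136526)
theorem F145441 : act 1 n31321 = n31036 := d16_1 D31321 (iv F144483) F144477
theorem F145442 : act 3 n31321 = n31095 := d29_1 D31321 F145439 (iv D31320)
theorem F145443 : act 4 n31321 = n29355 := d34_1 D31321 (iv D29355) D29354
theorem F145444 : act 6 n31321 = n31034 := d41_1 D31321 (iv F144771) F144768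
theorem F145445 : act 7 n31321 = n31321 := d43_1 D31321 (iv D31321) F136527
theorem F145446 : act 8 n31033 = n31321 := d40_0 F145444 (iv D31034) D31033
def n31322 : Q := act 8 n29355
theorem D31322 : act 8 n29355 = n31322 := rfl
theorem F145447 : act 0 n31322 = n30327 := d7_1 D31322 (iv D30327) (iv F136529)
theorem F145448 : act 1 n31322 = n31035 := d15_1 D31322 F143911 (iv F136530)
theorem F145449 : act 3 n31322 = n31322 := d28_1 D31322 (iv D31322) F136531
theorem F145450 : act 4 n31322 = n31033 := d33_1 D31322 F145446 F145443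
theorem F145451 : act 5 n31322 = n29412 := d37_1 D31322 (iv D29412) F106525 (iv F106153) (iv F136532)
theorem F145452 : act 6 n31322 = n31032 := d40_1 D31322 F143896 (iv F136533)
theorem F145453 : act 7 n31322 = n31322 := d42_1 D31322 (iv D31322) F136534
theorem F145454 : act 9 n31322 = n31322 := d44_2 D29355 D31322 (iv D31322) (iv D29355) F106148
def n31323 : Q := act 7 n29356
theorem D31323 : act 7 n29356 = n31323 := rfl
theorem F145455 : act 0 n31323 = n30331 := d6_1 D31323 (iv D30331) (iv F136535)
theorem F145456 : act 1 n31323 = n30512 := d14_1 D31323 F141901 (iv F136536)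
theorem F145457 : act 3 n31323 = n29357 := d27_1 D31323 (iv D29357) D29356
theorem F145458 : act 4 n31323 = n29929 := d32_1 D31323 (iv D29929) (iv F136537)
theorem F145459 : act 8 n31323 = n31323 := d42_2 F136539 D31323 (iv D31323)
theorem F145460 : act 9 n31323 = n30430 := d43_2 (iv F136540) D31323 F141642
def n31324 : Q := act 6 n29357
theorem D31324 : act 6 n29357 = n31324 := rfl
theorem F145461 : act 0 n31324 = n30332 := d5_1 D31324 (iv D30332) (iv F136541)
theorem F145462 : act 1 n31324 = n30514 := d13_1 D31324 F141907 (iv F136542)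
theorem F145463 : act 2 n31324 = n29359 := d20_1 D31324 (iv D29359) (iv F136543)
theorem F145464 : act 4 n31324 = n29358 := d31_1 D31324 (iv D29358) (iv F136544)
theorem F145465 : act 7 n31324 = n31324 := d39_2 D29357 D31324 (iv D31324) (iv D29357) F106174
theorem F145466 : act 8 n31324 = n31324 := d40_2 F136545 D31324 (iv D31324)
theorem F145467 : act 9 n31324 = n30431 := d41_2 (iv F136546) D31324 F141646
def n31325 : Q := act 5 n29359
theorem D31325 : act 5 n29359 = n31325 := rfl
theorem F145468 : act 0 n31325 = n30333 := d4_1 D31325 (iv D30333) (iv F136555)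
theorem F145469 : act 1 n31325 = n31041 := d12_1 D31325 F143943 (iv F136556)
theorem F145470 : act 4 n31325 = n30885 := d30_1 D31325 (iv D30885) F116794 (iv F106191) (iv F136557)
theorem F145471 : act 7 n31325 = n31325 := d36_2 F136558 D31325 (iv D31325)
theorem F145472 : act 9 n31325 = n30882 := d38_2 (iv F136560) D31325 (iv D30882)
def n31326 : Q := act 7 n29360
theorem D31326 : act 7 n29360 = n31326 := rfl
theorem F145473 : act 0 n31326 = n29998 := d6_1 D31326 F139809 (iv F136561)
theorem F145474 : act 1 n31326 = n29362 := d14_1 D31326 (iv D29362) (iv F136562)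
theorem F145475 : act 2 n31326 = n29967 := d21_1 D31326 (iv D29967) (iv F136563)
theorem F145476 : act 3 n31326 = n29401 := d27_1 D31326 F136805 (iv F136564)
theorem F145477 : act 4 n31326 = n29952 := d32_1 D31326 (iv D29952) (iv F136565)
theorem F145478 : act 5 n31326 = n29393 := d36_1 D31326 F136759 F136567
theorem F145479 : act 6 n31326 = n29969 := d39_1 D31326 F139660 F109296 F134190 D29360
theorem F145480 : act 8 n31326 = n29968 := d42_2 (iv F136566) D31326 F139656
def n31327 : Q := act 7 n29361
theorem D31327 : act 7 n29361 = n31327 := rfl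
theorem F145481 : act 0 n31327 = n29373 := d6_1 D31327 (iv D29373) (iv F136568)
theorem F145482 : act 1 n31327 = n29393 := d14_1 D31327 F136759 (iv F136569)
theorem F145483 : act 2 n31327 = n29363 := d21_1 D31327 (iv D29363) (iv F136570)
theorem F145484 : act 3 n31327 = n29384 := d27_1 D31327 F136711 (iv F136571)
theorem F145485 : act 4 n31327 = n29376 := d32_1 D31327 F136659 (iv F136572)
theorem F145486 : act 5 n31327 = n29362 := d36_1 D31327 (iv D29362) D29361
theorem F145487 : act 8 n31327 = n29374 := d42_2 (iv F136574) D31327 (iv D29374)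
theorem F145488 : act 6 n30357 = n31327 := d45_4 F114373 (iv F141328) F141329 D30357 (iv D31327) F136574 (iv F136588) F136589 F106231 F84751 F84752 (iv F106275) (iv D23678) (iv F105177) (iv F135696) (iv F144489) F144490 (iv F144493) F141373 (iv F144530) F144526 F135740 F105209 F98969 (iv D17289) (iv D13404) (iv F133972) (iv F67258) (iv F84819) D23703 F106384 F87190 (iv F133047) (iv D19647) F70385 F55452 F44034 (iv D7390) (iv D5863) F22849 F22850 F17379 D4712 F23012 F23013 D5903 F130933 D5909 F28528 F23049 F23050 (iv F28383) (iv F34649) (iv F43272) (iv D9215) (iv F43180) (iv F54370) (iv F68922) (iv F84856) D23713 F106428 D29400 F136793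
def n31328 : Q := act 6 n29363
theorem D31328 : act 6 n29363 = n31328 := rfl
theorem F145489 : act 0 n31328 = n29375 := d5_1 D31328 (iv D29375) (iv F136581)
theorem F145490 : act 1 n31328 = n30334 := d13_1 D31328 (iv D30334) (iv F136582)
theorem F145491 : act 2 n31328 = n30357 := d20_1 D31328 F145488 F145483
theorem F145492 : act 3 n31328 = n29365 := d26_1 D31328 (iv D29365) (iv F136583)
theorem F145493 : act 4 n31328 = n30909 := d31_1 D31328 (iv D30909) (iv F136584)
theorem F145494 : act 5 n31328 = n30353 := d35_1 D31328 F141321 F134857 (iv F106221) (iv F136585)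
theorem F145495 : act 7 n31328 = n31328 := d39_2 D29363 D31328 (iv D31328) (iv D29363) F106216
def n31329 : Q := act 8 n29363
theorem D31329 : act 8 n29363 = n31329 := rfl
theorem F145496 : act 0 n31329 = n29376 := d7_1 D31329 (iv D29376) (iv F136581)
theorem F145497 : act 1 n31329 = n30335 := d15_1 D31329 (iv D30335) (iv F136582)
theorem F145498 : act 2 n31329 = n29374 := d22_1 D31329 (iv F145487) F145483
theorem F145499 : act 3 n31329 = n29366 := d28_1 D31329 (iv D29366) (iv F136583)
theorem F145500 : act 4 n31329 = n29373 := d33_1 D31329 F136645 (iv F136584)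
theorem F145501 : act 5 n31329 = n29974 := d37_1 D31329 F139685 F133669 (iv F106222) (iv F136585)
theorem F145502 : act 7 n31329 = n29364 := d42_1 D31329 (iv D29364) D29363
def n31330 : Q := act 8 n29365
theorem D31330 : act 8 n29365 = n31330 := rfl
theorem F145503 : act 0 n31330 = n29378 := d7_1 D31330 (iv D29378) (iv F136593)
theorem F145504 : act 1 n31330 = n30337 := d15_1 D31330 (iv D30337) (iv F136594)
theorem F145505 : act 2 n31330 = n30015 := d22_1 D31330 F139910 (iv F136595)
theorem F145506 : act 4 n31330 = n29371 := d33_1 D31330 (iv D29371) (iv F136596)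
theorem F145507 : act 5 n31330 = n30011 := d37_1 D31330 (iv D30011) F109793 D25442 (iv F136597)
theorem F145508 : act 6 n31330 = n29366 := d40_1 D31330 (iv D29366) D29365
theorem F145509 : act 7 n31330 = n31330 := d42_1 D31330 (iv D31330) F136598
def n31331 : Q := act 9 n29366
theorem D31331 : act 9 n29366 = n31331 := rfl
theorem F145510 : act 0 n31331 = n29379 := d8_1 D31331 (iv D29379) (iv F136599)
theorem F145511 : act 1 n31331 = n30338 := d16_1 D31331 (iv D30338) (iv F136600)
theorem F145512 : act 2 n31331 = n30021 := d23_1 D31331 (iv D30021) (iv F136601)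
theorem F145513 : act 4 n31331 = n29372 := d34_1 D31331 (iv D29372) (iv F136602)
theorem F145514 : act 5 n31331 = n30020 := d38_1 D31331 (iv D30020) (iv F136603)
theorem F145515 : act 7 n31331 = n29367 := d43_1 D31331 (iv D29367) (iv F136604)
def n31332 : Q := act 8 n29368
theorem D31332 : act 8 n29368 = n31332 := rfl
theorem F145516 : act 0 n31332 = n29386 := d7_1 D31332 (iv D29386) (iv F136611)
theorem F145517 : act 1 n31332 = n30339 := d15_1 D31332 (iv D30339) (iv F136612)
theorem F145518 : act 2 n31332 = n29408 := d22_1 D31332 F136845 (iv F136613)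
theorem F145519 : act 3 n31332 = n29371 := d28_1 D31332 (iv D29371) (iv F136614)
theorem F145520 : act 4 n31332 = n29397 := d33_1 D31332 F136780 (iv F136615)
theorem F145521 : act 6 n31332 = n29369 := d40_1 D31332 (iv D29369) D29368
theorem F145522 : act 7 n31332 = n31332 := d42_1 D31332 (iv D31332) F136617
theorem F145523 : act 5 n29406 = n31332 := d30_0 F145520 (iv D29397) F106417 D23719 D29406
def n31333 : Q := act 9 n29369
theorem D31333 : act 9 n29369 = n31333 := rfl
theorem F145524 : act 0 n31333 = n29387 := d8_1 D31333 (iv D29387) (iv F136618)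
theorem F145525 : act 1 n31333 = n30340 := d16_1 D31333 (iv D30340) (iv F136619)
theorem F145526 : act 2 n31333 = n30634 := d23_1 D31333 F142414 (iv F136620)
theorem F145527 : act 3 n31333 = n29372 := d29_1 D31333 (iv D29372) (iv F136621)
theorem F145528 : act 4 n31333 = n30917 := d34_1 D31333 (iv D30917) (iv F136622)
theorem F145529 : act 5 n31333 = n31333 := d38_1 D31333 (iv D31333) F136623
theorem F145530 : act 7 n31333 = n29370 := d43_1 D31333 (iv D29370) (iv F136624)
theorem F145531 : act 8 n31333 = n30631 := d44_1 D31333 F142398 (iv F136091) F136092 D29369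
def n31334 : Q := act 5 n29371
theorem D31334 : act 5 n29371 = n31334 := rfl
theorem F145532 : act 0 n31334 = n29388 := d4_1 D31334 (iv D29388) (iv F136633)
theorem F145533 : act 1 n31334 = n30341 := d12_1 D31334 (iv D30341) (iv F136634)
theorem F145534 : act 3 n31334 = n29406 := d25_1 D31334 F145523 F145519
theorem F145535 : act 4 n31334 = n30346 := d30_1 D31334 (iv D30346) (iv F139882) (iv F145507) F145506
theorem F145536 : act 6 n31334 = n31334 := d35_2 (iv F136635) D31334 (iv D31334) F136635 F106274
theorem F145537 : act 7 n31334 = n31334 := d36_2 F136636 D31334 (iv D31334)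
theorem F145538 : act 8 n31334 = n31334 := d37_2 D29371 D31334 (iv D31334) (iv D29371) F106270
def n31335 : Q := act 9 n29371
theorem D31335 : act 9 n29371 = n31335 := rfl
theorem F145539 : act 0 n31335 = n29389 := d8_1 D31335 (iv D29389) (iv F136633)
theorem F145540 : act 1 n31335 = n30342 := d16_1 D31335 (iv D30342) (iv F136634)
theorem F145541 : act 6 n31335 = n29372 := d41_1 D31335 (iv D29372) (iv F136635)
theorem F145542 : act 7 n31335 = n31335 := d43_1 D31335 (iv D31335) F136636
def n31336 : Q := act 6 n29373
theorem D31336 : act 6 n29373 = n31336 := rfl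
theorem F145543 : act 0 n31336 = n30357 := d5_1 D31336 F145488 F145481
theorem F145544 : act 1 n31336 = n30910 := d13_1 D31336 F143332 (iv F136641)
theorem F145545 : act 2 n31336 = n29375 := d20_1 D31336 (iv D29375) (iv F136642)
theorem F145546 : act 3 n31336 = n29397 := d26_1 D31336 F136778 (iv F136643)
theorem F145547 : act 5 n31336 = n29395 := d35_1 D31336 F136768 F134867 (iv F106297) (iv F136644)
theorem F145548 : act 7 n31336 = n31336 := d39_2 D29373 D31336 (iv D31336) (iv D29373) F106293
theorem F145549 : act 8 n31336 = n30909 := d40_2 (iv F136645) D31336 (iv D30909)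
def n31337 : Q := act 6 n29374
theorem D31337 : act 6 n29374 = n31337 := rfl
theorem F145550 : act 0 n31337 = n30909 := d5_1 D31337 (iv D30909) (iv F136646)
theorem F145551 : act 1 n31337 = n29392 := d13_1 D31337 (iv D29392) (iv F136647)
theorem F145552 : act 3 n31337 = n29383 := d26_1 D31337 (iv D29383) (iv F136648)
theorem F145553 : act 4 n31337 = n29375 := d31_1 D31337 (iv D29375) (iv F136649)
theorem F145554 : act 5 n31337 = n29992 := d35_1 D31337 F139781 F109508 (iv F133714) (iv F136650)
theorem F145555 : act 7 n31337 = n31337 := d39_2 D29374 D31337 (iv D31337) (iv D29374) F106302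
theorem F145556 : act 8 n31337 = n30357 := d40_2 F145487 D31337 F145488
def n31338 : Q := act 8 n29375
theorem D31338 : act 8 n29375 = n31338 := rfl
theorem F145557 : act 1 n31338 = n29395 := d15_1 D31338 (iv D29395) (iv F136651)
theorem F145558 : act 2 n31338 = n30909 := d22_1 D31338 (iv F145549) F145545
theorem F145559 : act 3 n31338 = n29378 := d28_1 D31338 (iv D29378) (iv F136652)
theorem F145560 : act 4 n31338 = n30357 := d33_1 D31338 (iv F145556) F145553
theorem F145561 : act 5 n31338 = n30910 := d37_1 D31338 (iv D30910) (iv F136748) F136750 (iv F136653)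
theorem F145562 : act 6 n31338 = n29376 := d40_1 D31338 (iv D29376) D29375
theorem F145563 : act 7 n31338 = n31338 := d42_1 D31338 (iv D31338) F136654
def n31339 : Q := act 9 n29376
theorem D31339 : act 9 n29376 = n31339 := rfl
theorem F145564 : act 1 n31339 = n29396 := d16_1 D31339 (iv D29396) (iv F136655)
theorem F145565 : act 2 n31339 = n30897 := d23_1 D31339 F143289 (iv F136656)
theorem F145566 : act 3 n31339 = n29379 := d29_1 D31339 (iv D29379) (iv F136657)
theorem F145567 : act 5 n31339 = n30890 := d38_1 D31339 F143261 (iv F136658)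
theorem F145568 : act 7 n31339 = n29377 := d43_1 D31339 (iv D29377) (iv F136659)
def n31340 : Q := act 9 n29378
theorem D31340 : act 9 n29378 = n31340 := rfl
theorem F145569 : act 1 n31340 = n29398 := d16_1 D31340 (iv D29398) (iv F136665)
theorem F145570 : act 2 n31340 = n30929 := d23_1 D31340 (iv D30929) (iv F136666)
theorem F145571 : act 4 n31340 = n29389 := d34_1 D31340 (iv D29389) (iv F136667)
theorem F145572 : act 5 n31340 = n30926 := d38_1 D31340 (iv D30926) (iv F136668)
theorem F145573 : act 6 n31340 = n29379 := d41_1 D31340 (iv D29379) (iv F136669)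
theorem F145574 : act 7 n31340 = n31340 := d43_1 D31340 (iv D31340) F136670
def n31341 : Q := act 9 n29381
theorem D31341 : act 9 n29381 = n31341 := rfl
theorem F145575 : act 0 n31341 = n30634 := d8_1 D31341 F142414 (iv F136683)
theorem F145576 : act 1 n31341 = n31341 := d16_1 D31341 (iv D31341) F136684
theorem F145577 : act 2 n31341 = n29387 := d23_1 D31341 (iv D29387) (iv F136685)
theorem F145578 : act 3 n31341 = n29621 := d29_1 D31341 (iv F144492) F144488
theorem F145579 : act 4 n31341 = n30018 := d34_1 D31341 (iv D30018) (iv F136686)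
theorem F145580 : act 5 n31341 = n31341 := d38_1 D31341 (iv D31341) F136687
theorem F145581 : act 6 n31341 = n30367 := d41_1 D31341 (iv D30367) (iv F136688)
theorem F145582 : act 7 n31341 = n29382 := d43_1 D31341 (iv D29382) (iv F136689)
theorem F145583 : act 8 n31341 = n29619 := d44_1 D31341 F137952 (iv F136182) F136183 D29381
def n31342 : Q := act 9 n29384
theorem D31342 : act 9 n29384 = n31342 := rfl
theorem F145584 : act 0 n31342 = n30917 := d8_1 D31342 (iv D30917) (iv F136705)
theorem F145585 : act 1 n31342 = n29402 := d16_1 D31342 (iv D29402) (iv F136706)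
theorem F145586 : act 2 n31342 = n30018 := d23_1 D31342 (iv D30018) (iv F136707)
theorem F145587 : act 4 n31342 = n29387 := d34_1 D31342 (iv D29387) (iv F136708)
theorem F145588 : act 5 n31342 = n29996 := d38_1 D31342 (iv D29996) (iv F136709)
theorem F145589 : act 6 n31342 = n30359 := d41_1 D31342 (iv D30359) (iv F136710)
theorem F145590 : act 7 n31342 = n29385 := d43_1 D31342 (iv D29385) (iv F136711)
def n31343 : Q := act 9 n29386
theorem D31343 : act 9 n29386 = n31343 := rfl
theorem F145591 : act 1 n31343 = n29405 := d16_1 D31343 (iv D29405) (iv F136718)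
theorem F145592 : act 2 n31343 = n30367 := d23_1 D31343 (iv D30367) (iv F136719)
theorem F145593 : act 3 n31343 = n29389 := d29_1 D31343 (iv D29389) (iv F136720)
theorem F145594 : act 4 n31343 = n30359 := d34_1 D31343 (iv D30359) (iv F136721)
theorem F145595 : act 5 n31343 = n30362 := d38_1 D31343 (iv D30362) F136724
theorem F145596 : act 6 n31343 = n29387 := d41_1 D31343 (iv D29387) (iv F136722)
theorem F145597 : act 7 n31343 = n31343 := d43_1 D31343 (iv D31343) F136723
def n31344 : Q := act 4 n29388
theorem D31344 : act 4 n29388 = n31344 := rfl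
theorem F145598 : act 0 n31344 = n30346 := d3_1 D31344 (iv F145535) F145532
theorem F145599 : act 1 n31344 = n29406 := d11_1 D31344 (iv D29406) (iv F136729)
theorem F145600 : act 2 n31344 = n30927 := d18_1 D31344 (iv F144551) F144549
theorem F145601 : act 3 n31344 = n30341 := d24_1 D31344 F141266 F114395 D25435 (iv F136730)
theorem F145602 : act 5 n31344 = n30339 := d30_2 D29388 D31344 F141255 (iv F136668) F136667
theorem F145603 : act 6 n31344 = n31344 := d31_2 F136731 D31344 (iv D31344)
theorem F145604 : act 7 n31344 = n31344 := d32_2 F136732 D31344 (iv D31344)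
theorem F145605 : act 8 n31344 = n31344 := d33_2 F136733 D31344 (iv D31344)
def n31345 : Q := act 9 n29388
theorem D31345 : act 9 n29388 = n31345 := rfl
theorem F145606 : act 1 n31345 = n29407 := d16_1 D31345 (iv D29407) (iv F136729)
theorem F145607 : act 3 n31345 = n30362 := d29_1 D31345 (iv D30362) (iv F136730)
theorem F145608 : act 5 n31345 = n29389 := d38_1 D31345 (iv D29389) D29388
theorem F145609 : act 6 n31345 = n31345 := d41_1 D31345 (iv D31345) F136731
theorem F145610 : act 7 n31345 = n31345 := d43_1 D31345 (iv D31345) F136732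
def n31346 : Q := act 6 n29390
theorem D31346 : act 6 n29390 = n31346 := rfl
theorem F145611 : act 0 n31346 = n30350 := d5_1 D31346 (iv D30350) (iv F136737)
theorem F145612 : act 1 n31346 = n30913 := d13_1 D31346 F143342 (iv F136738)
theorem F145613 : act 2 n31346 = n29392 := d20_1 D31346 (iv D29392) (iv F136739)
theorem F145614 : act 3 n31346 = n31346 := d26_1 D31346 (iv D31346) F136740
theorem F145615 : act 4 n31346 = n29391 := d31_1 D31346 (iv D29391) (iv F136741)
theorem F145616 : act 7 n31346 = n31346 := d39_2 D29390 D31346 (iv D31346) (iv D29390) F106385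
theorem F145617 : act 8 n31346 = n30896 := d40_2 (iv F136743) D31346 (iv D30896)
def n31347 : Q := act 5 n29392
theorem D31347 : act 5 n29392 = n31347 := rfl
theorem F145618 : act 0 n31347 = n30349 := d4_1 D31347 F141302 (iv F136751)
theorem F145619 : act 1 n31347 = n29992 := d12_1 D31347 (iv F145554) F145551
theorem F145620 : act 3 n31347 = n29399 := d25_1 D31347 (iv D29399) (iv F136752)
theorem F145621 : act 4 n31347 = n30912 := d30_1 D31347 (iv D30912) F117475 (iv F106405) (iv F136753)
theorem F145622 : act 6 n31347 = n29965 := d35_2 D29392 D31347 F139641 F133616 (iv F106398)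
theorem F145623 : act 7 n31347 = n31347 := d36_2 F136754 D31347 (iv D31347)
theorem F145624 : act 8 n29964 = n31347 := d40_0 F145622 (iv D29965) D29964
def n31348 : Q := act 8 n29392
theorem D31348 : act 8 n29392 = n31348 := rfl
theorem F145625 : act 0 n31348 = n30355 := d7_1 D31348 (iv D30355) (iv F136751)
theorem F145626 : act 1 n31348 = n30357 := d15_1 D31348 (iv F145556) F145551
theorem F145627 : act 2 n31348 = n30896 := d22_1 D31348 (iv F145617) F145613
theorem F145628 : act 3 n31348 = n29400 := d28_1 D31348 (iv D29400) (iv F136752)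
theorem F145629 : act 4 n31348 = n29395 := d33_1 D31348 (iv D29395) (iv F136753)
theorem F145630 : act 5 n31348 = n30343 := d37_1 D31348 (iv D30343) (iv F139636) F145624 (iv D31347)
theorem F145631 : act 6 n31348 = n29393 := d40_1 D31348 (iv D29393) D29392
theorem F145632 : act 7 n31348 = n31348 := d42_1 D31348 (iv D31348) F136754
def n31349 : Q := act 9 n29393
theorem D31349 : act 9 n29393 = n31349 := rfl
theorem F145633 : act 0 n31349 = n30356 := d8_1 D31349 (iv D30356) (iv F136755)
theorem F145634 : act 2 n31349 = n30891 := d23_1 D31349 F143265 (iv F136756)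
theorem F145635 : act 3 n31349 = n29402 := d29_1 D31349 (iv D29402) (iv F136757)
theorem F145636 : act 4 n31349 = n29396 := d34_1 D31349 (iv D29396) (iv F136758)
theorem F145637 : act 7 n31349 = n29394 := d43_1 D31349 (iv D29394) (iv F136759)
def n31350 : Q := act 9 n29395
theorem D31350 : act 9 n29395 = n31350 := rfl
theorem F145638 : act 0 n31350 = n30358 := d8_1 D31350 (iv D30358) (iv F136765)
theorem F145639 : act 2 n31350 = n30893 := d23_1 D31350 F143273 (iv F136766)
theorem F145640 : act 3 n31350 = n29398 := d29_1 D31350 (iv D29398) (iv F136767)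
theorem F145641 : act 6 n31350 = n29396 := d41_1 D31350 (iv D29396) (iv F136768)
theorem F145642 : act 7 n31350 = n31350 := d43_1 D31350 (iv D31350) F136769
def n31351 : Q := act 9 n29397
theorem D31351 : act 9 n29397 = n31351 := rfl
theorem F145643 : act 0 n31351 = n30359 := d8_1 D31351 (iv D30359) (iv F136775)
theorem F145644 : act 1 n31351 = n30926 := d16_1 D31351 (iv D30926) (iv F136776)
theorem F145645 : act 2 n31351 = n29409 := d23_1 D31351 (iv D29409) (iv F136777)
theorem F145646 : act 5 n31351 = n29398 := d38_1 D31351 (iv D29398) D29397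
theorem F145647 : act 6 n31351 = n30917 := d41_1 D31351 (iv D30917) (iv F136778)
theorem F145648 : act 7 n31351 = n31351 := d43_1 D31351 (iv D31351) F136779
def n31352 : Q := act 9 n29400
theorem D31352 : act 9 n29400 = n31352 := rfl
theorem F145649 : act 0 n31352 = n30360 := d8_1 D31352 (iv D30360) (iv F136793)
theorem F145650 : act 1 n31352 = n30359 := d16_1 D31352 (iv D30359) (iv F136794)
theorem F145651 : act 2 n31352 = n31352 := d23_1 D31352 (iv D31352) F136795
theorem F145652 : act 4 n31352 = n29405 := d34_1 D31352 (iv D29405) (iv F136796)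
theorem F145653 : act 5 n31352 = n30345 := d38_1 D31352 (iv D30345) (iv F136797)
theorem F145654 : act 6 n31352 = n29402 := d41_1 D31352 (iv D29402) (iv F136798)
theorem F145655 : act 7 n31352 = n31352 := d43_1 D31352 (iv D31352) F136799
def n31353 : Q := act 9 n29401
theorem D31353 : act 9 n29401 = n31353 := rfl
theorem F145656 : act 0 n31353 = n30019 := d8_1 D31353 (iv D30019) (iv F136800)
theorem F145657 : act 1 n31353 = n29996 := d16_1 D31353 (iv D29996) (iv F136801)
theorem F145658 : act 2 n31353 = n31353 := d23_1 D31353 (iv D31353) F136802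
theorem F145659 : act 4 n31353 = n31353 := d34_1 D31353 (iv D31353) F136803
theorem F145660 : act 5 n31353 = n29402 := d38_1 D31353 (iv D29402) D29401
theorem F145661 : act 6 n31353 = n29971 := d41_1 D31353 (iv D29971) (iv F136804)
theorem F145662 : act 7 n31353 = n29403 := d43_1 D31353 (iv D29403) (iv F136805)
def n31354 : Q := act 8 n29403
theorem D31354 : act 8 n29403 = n31354 := rfl
theorem F145663 : act 0 n31354 = n29899 := d7_1 D31354 F139265 (iv F136811)
theorem F145664 : act 1 n31354 = n29822 := d15_1 D31354 F138909 (iv F136812)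
theorem F145665 : act 2 n31354 = n31354 := d22_1 D31354 (iv D31354) F136813
theorem F145666 : act 4 n31354 = n31354 := d33_1 D31354 (iv D31354) F136814
theorem F145667 : act 6 n31354 = n29821 := d40_1 D31354 F138904 (iv F136816)
theorem F145668 : act 9 n31354 = n29897 := d44_2 D29403 D31354 (iv D29897) F133651 (iv F106437)
def n31355 : Q := act 9 n29404
theorem D31355 : act 9 n29404 = n31355 := rfl
theorem F145669 : act 0 n31355 = n30361 := d8_1 D31355 (iv D30361) (iv F136817)
theorem F145670 : act 1 n31355 = n30362 := d16_1 D31355 (iv D30362) (iv F136818)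
theorem F145671 : act 2 n31355 = n31355 := d23_1 D31355 (iv D31355) F136819
theorem F145672 : act 3 n31355 = n29407 := d29_1 D31355 (iv D29407) (iv F136820)
theorem F145673 : act 4 n31355 = n30348 := d34_1 D31355 (iv D30348) (iv F136821)
theorem F145674 : act 5 n31355 = n29405 := d38_1 D31355 (iv D29405) D29404
theorem F145675 : act 6 n31355 = n31355 := d41_1 D31355 (iv D31355) F136822
theorem F145676 : act 7 n31355 = n31355 := d43_1 D31355 (iv D31355) F136823
def n31356 : Q := act 9 n29406
theorem D31356 : act 9 n29406 = n31356 := rfl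
theorem F145677 : act 0 n31356 = n30362 := d8_1 D31356 (iv D30362) (iv F136830)
theorem F145678 : act 2 n31356 = n29411 := d23_1 D31356 (iv D29411) (iv F136831)
theorem F145679 : act 4 n31356 = n29407 := d34_1 D31356 (iv D29407) D29406
theorem F145680 : act 6 n31356 = n31356 := d41_1 D31356 (iv D31356) F136832
theorem F145681 : act 7 n31356 = n31356 := d43_1 D31356 (iv D31356) F136833
def n31357 : Q := act 8 n29407
theorem D31357 : act 8 n29407 = n31357 := rfl
theorem F145682 : act 0 n31357 = n30363 := d7_1 D31357 (iv D30363) (iv F136835)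
theorem F145683 : act 2 n31357 = n29412 := d22_1 D31357 (iv D29412) (iv F136836)
theorem F145684 : act 6 n31357 = n31357 := d40_1 D31357 (iv D31357) F136838
theorem F145685 : act 7 n31357 = n31357 := d42_1 D31357 (iv D31357) F136839
theorem F145686 : act 9 n31357 = n31357 := d44_2 D29407 D31357 (iv D31357) (iv D29407) F106457
def n31358 : Q := act 9 n29408
theorem D31358 : act 9 n29408 = n31358 := rfl
theorem F145687 : act 0 n31358 = n30367 := d8_1 D31358 (iv D30367) (iv F136840)
theorem F145688 : act 1 n31358 = n31105 := d16_1 D31358 F144229 (iv F136841)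
theorem F145689 : act 3 n31358 = n30635 := d29_1 D31358 (iv F144538) F144534
theorem F145690 : act 4 n31358 = n29409 := d34_1 D31358 (iv D29409) D29408
theorem F145691 : act 5 n31358 = n29411 := d38_1 D31358 (iv D29411) (iv F136842)
theorem F145692 : act 6 n31358 = n30634 := d41_1 D31358 F142414 (iv F136843)
theorem F145693 : act 7 n31358 = n31358 := d43_1 D31358 (iv D31358) F136844
theorem F145694 : act 8 n31358 = n30633 := d44_1 D31358 F142408 D30640 (iv F142438) (iv F136845)
def n31359 : Q := act 8 n29409
theorem D31359 : act 8 n29409 = n31359 := rfl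
theorem F145695 : act 0 n31359 = n30368 := d7_1 D31359 (iv D30368) (iv F136846)
theorem F145696 : act 1 n31359 = n31104 := d15_1 D31359 F144221 (iv F136847)
theorem F145697 : act 3 n31359 = n31151 := d28_1 D31359 (iv D31151) (iv F136848)
theorem F145698 : act 4 n31359 = n30633 := d33_1 D31359 (iv F145694) F145690
theorem F145699 : act 6 n31359 = n30632 := d40_1 D31359 F142402 (iv F136850)
theorem F145700 : act 7 n31359 = n31359 := d42_1 D31359 (iv D31359) F136851
theorem F145701 : act 9 n31359 = n30639 := d44_2 D29409 D31359 F142431 (iv D26360) (iv F106513)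
def n31360 : Q := act 2 n29410
theorem D31360 : act 2 n29410 = n31360 := rfl
theorem F145702 : act 0 n31360 = n30369 := d1_1 D31360 (iv D30369) (iv F136852)
theorem F145703 : act 1 n31360 = n31360 := d9_1 D31360 (iv D31360) (iv F144563) F144564 F144563
theorem F145704 : act 4 n31360 = n31360 := d18_2 F136853 D31360 (iv D31360)
theorem F145705 : act 6 n31360 = n31360 := d20_2 F136854 D31360 (iv D31360)
theorem F145706 : act 7 n31360 = n31360 := d21_2 F136855 D31360 (iv D31360)
theorem F145707 : act 8 n31360 = n31360 := d22_2 F136856 D31360 (iv D31360)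
def n31361 : Q := act 9 n29410
theorem D31361 : act 9 n29410 = n31361 := rfl
theorem F145708 : act 0 n31361 = n30370 := d8_1 D31361 (iv D30370) (iv F136852)
theorem F145709 : act 1 n31361 = n31106 := d16_1 D31361 (iv F144570) F144563
theorem F145710 : act 3 n31361 = n29411 := d29_1 D31361 (iv D29411) D29410
theorem F145711 : act 4 n31361 = n31361 := d34_1 D31361 (iv D31361) F136853
theorem F145712 : act 5 n31361 = n30635 := d38_1 D31361 (iv F144538) (iv F144539)
theorem F145713 : act 6 n31361 = n31361 := d41_1 D31361 (iv D31361) F136854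
theorem F145714 : act 7 n31361 = n31361 := d43_1 D31361 (iv D31361) F136855
theorem F145715 : act 8 n30655 = n31361 := d37_0 F145712 (iv D30635) F115377 D25713 D30655
def n31362 : Q := act 8 n29411
theorem D31362 : act 8 n29411 = n31362 := rfl
theorem F145716 : act 0 n31362 = n30371 := d7_1 D31362 (iv D30371) (iv F136857)
theorem F145717 : act 1 n31362 = n31111 := d15_1 D31362 F144596 F144589
theorem F145718 : act 3 n31362 = n30655 := d28_1 D31362 F145715 F145710
theorem F145719 : act 4 n31362 = n29412 := d33_1 D31362 (iv D29412) (iv F136858)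
theorem F145720 : act 5 n31362 = n30654 := d37_1 D31362 (iv D30654) (iv F142406) (iv F145694) F145691
theorem F145721 : act 6 n31362 = n31362 := d40_1 D31362 (iv D31362) F136859
theorem F145722 : act 7 n31362 = n31362 := d42_1 D31362 (iv D31362) F136860
theorem F145723 : act 9 n31362 = n31362 := d44_2 D29411 D31362 (iv D31362) (iv D29411) F106522
def n31363 : Q := act 1 n29413
theorem D31363 : act 1 n29413 = n31363 := rfl
theorem F145724 : act 0 n31363 = n30061 := d0_1 D31363 F140158 F110876 (iv F134795) (iv F136866)
theorem F145725 : act 2 n31363 = n30372 := d9_2 D29413 D31363 (iv D30372) (iv D25451) (iv F106529)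
theorem F145726 : act 3 n31363 = n31363 := d10_2 F136867 D31363 (iv D31363)
theorem F145727 : act 4 n31363 = n29738 := d11_2 (iv F136868) D31363 (iv D29738)
theorem F145728 : act 5 n31363 = n30702 := d12_2 (iv F136869) D31363 (iv D30702)
theorem F145729 : act 7 n31363 = n29732 := d14_2 (iv F136870) D31363 (iv D29732)
theorem F145730 : act 8 n31363 = n29417 := d15_2 (iv F136871) D31363 (iv D29417)
theorem F145731 : act 9 n31363 = n30241 := d16_2 (iv F136872) D31363 (iv D30241)
def n31364 : Q := act 6 n29413
theorem D31364 : act 6 n29413 = n31364 := rfl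
theorem F145732 : act 0 n31364 = n29430 := d5_1 D31364 (iv D29430) (iv F136866)
theorem F145733 : act 2 n31364 = n29414 := d20_1 D31364 (iv D29414) D29413
theorem F145734 : act 3 n31364 = n31364 := d26_1 D31364 (iv D31364) F136867
theorem F145735 : act 4 n31364 = n29739 := d31_1 D31364 (iv D29739) (iv F136868)
theorem F145736 : act 8 n31364 = n29418 := d40_2 (iv F136871) D31364 (iv D29418)
theorem F145737 : act 9 n31364 = n30242 := d41_2 (iv F136872) D31364 (iv D30242)
def n31365 : Q := act 5 n29414
theorem D31365 : act 5 n29414 = n31365 := rfl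
theorem F145738 : act 0 n31365 = n29431 := d4_1 D31365 (iv D29431) (iv F136873)
theorem F145739 : act 1 n31365 = n30374 := d12_1 D31365 (iv D30374) (iv F136874)
theorem F145740 : act 3 n31365 = n29415 := d25_1 D31365 (iv D29415) (iv F136875)
theorem F145741 : act 6 n31365 = n30704 := d35_2 D29414 D31365 (iv D30704) (iv D25830) (iv F106531)
theorem F145742 : act 9 n31365 = n30243 := d38_2 (iv F136878) D31365 (iv D30243)
def n31366 : Q := act 7 n29414
theorem D31366 : act 7 n29414 = n31366 := rfl
theorem F145743 : act 0 n31366 = n29432 := d6_1 D31366 (iv D29432) (iv F136873)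
theorem F145744 : act 1 n31366 = n30375 := d14_1 D31366 (iv D30375) (iv F136874)
theorem F145745 : act 3 n31366 = n29416 := d27_1 D31366 (iv D29416) (iv F136875)
theorem F145746 : act 4 n31366 = n29741 := d32_1 D31366 (iv D29741) (iv F136876)
theorem F145747 : act 6 n31366 = n29735 := d39_1 D31366 (iv D29735) (iv D24025) (iv F106532) D29414
theorem F145748 : act 8 n31366 = n29420 := d42_2 (iv F136877) D31366 (iv D29420)
theorem F145749 : act 9 n31366 = n30244 := d43_2 (iv F136878) D31366 (iv D30244)
def n31367 : Q := act 7 n29415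
theorem D31367 : act 7 n29415 = n31367 := rfl
theorem F145750 : act 0 n31367 = n29433 := d6_1 D31367 (iv D29433) (iv F136879)
theorem F145751 : act 1 n31367 = n30376 := d14_1 D31367 (iv D30376) (iv F136880)
theorem F145752 : act 2 n31367 = n31367 := d21_1 D31367 (iv D31367) F136881
theorem F145753 : act 4 n31367 = n29660 := d32_1 D31367 (iv D29660) (iv F136882)
theorem F145754 : act 5 n31367 = n29416 := d36_1 D31367 (iv D29416) D29415
theorem F145755 : act 9 n31367 = n30245 := d43_2 (iv F136884) D31367 (iv D30245)
def n31368 : Q := act 8 n29415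
theorem D31368 : act 8 n29415 = n31368 := rfl
theorem F145756 : act 0 n31368 = n29434 := d7_1 D31368 (iv D29434) (iv F136879)
theorem F145757 : act 1 n31368 = n29864 := d15_1 D31368 F139115 (iv F136880)
theorem F145758 : act 2 n31368 = n31368 := d22_1 D31368 (iv D31368) F136881
theorem F145759 : act 4 n31368 = n29661 := d33_1 D31368 (iv D29661) (iv F136882)
theorem F145760 : act 5 n31368 = n29422 := d37_1 D31368 (iv D29422) (iv D23739) (iv F106539) D29415
theorem F145761 : act 6 n31368 = n30707 := d40_1 D31368 (iv D30707) (iv F136883)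
theorem F145762 : act 9 n30303 = n31368 := d38_0 F145760 (iv F136929) (iv F141122)
def n31369 : Q := act 6 n29417
theorem D31369 : act 6 n29417 = n31369 := rfl
theorem F145763 : act 0 n31369 = n30050 := d5_1 D31369 F140106 (iv F136892)
theorem F145764 : act 1 n31369 = n29418 := d13_1 D31369 (iv D29418) D29417
theorem F145765 : act 2 n31369 = n30377 := d20_1 D31369 (iv D30377) (iv F136893)
theorem F145766 : act 3 n31369 = n31369 := d26_1 D31369 (iv D31369) F136894
theorem F145767 : act 4 n31369 = n30024 := d31_1 D31369 F139956 (iv F136895)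
theorem F145768 : act 9 n31369 = n31369 := d41_2 F136898 D31369 (iv D31369)
theorem F145769 : act 5 n30416 = n31369 := d30_0 F145767 (iv D30024) F110148 D25490 D30416
def n31370 : Q := act 7 n29418
theorem D31370 : act 7 n29418 = n31370 := rfl
theorem F145770 : act 0 n31370 = n29436 := d6_1 D31370 (iv D29436) (iv F136899)
theorem F145771 : act 2 n31370 = n29420 := d21_1 D31370 (iv D29420) (iv F136900)
theorem F145772 : act 3 n31370 = n31370 := d27_1 D31370 (iv D31370) F136901
theorem F145773 : act 4 n31370 = n30082 := d32_1 D31370 (iv D30082) (iv F136902)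
theorem F145774 : act 5 n31370 = n30491 := d36_1 D31370 (iv D30491) F136904
theorem F145775 : act 6 n31370 = n30075 := d39_1 D31370 (iv D30075) (iv D24593) (iv F106553) D29418
theorem F145776 : act 9 n31370 = n31370 := d43_2 F136903 D31370 (iv D31370)
def n31371 : Q := act 7 n29419
theorem D31371 : act 7 n29419 = n31371 := rfl
theorem F145777 : act 0 n31371 = n29438 := d6_1 D31371 (iv D29438) (iv F136905)
theorem F145778 : act 1 n31371 = n30381 := d14_1 D31371 (iv D30381) (iv F136906)
theorem F145779 : act 2 n31371 = n30491 := d21_1 D31371 (iv D30491) (iv F136907)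
theorem F145780 : act 3 n31371 = n29421 := d27_1 D31371 (iv D29421) (iv F136908)
theorem F145781 : act 4 n31371 = n30489 := d32_1 D31371 (iv D30489) (iv F136909)
theorem F145782 : act 5 n31371 = n29420 := d36_1 D31371 (iv D29420) D29419
theorem F145783 : act 9 n31371 = n31371 := d43_2 F136911 D31371 (iv D31371)
def n31372 : Q := act 8 n29419
theorem D31372 : act 8 n29419 = n31372 := rfl
theorem F145784 : act 0 n31372 = n29439 := d7_1 D31372 (iv D29439) (iv F136905)
theorem F145785 : act 1 n31372 = n29916 := d15_1 D31372 F139358 (iv F136906)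
theorem F145786 : act 2 n31372 = n30492 := d22_1 D31372 (iv D30492) (iv F136907)
theorem F145787 : act 3 n31372 = n29422 := d28_1 D31372 (iv D29422) (iv F136908)
theorem F145788 : act 4 n31372 = n30490 := d33_1 D31372 (iv D30490) (iv F136909)
theorem F145789 : act 6 n31372 = n31372 := d40_1 D31372 (iv D31372) F136910
theorem F145790 : act 9 n30328 = n31372 := d34_0 F145788 (iv F141827) (iv F141205)
def n31373 : Q := act 6 n29421
theorem D31373 : act 6 n29421 = n31373 := rfl
theorem F145791 : act 0 n31373 = n29440 := d5_1 D31373 (iv D29440) (iv F136918)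
theorem F145792 : act 1 n31373 = n30382 := d13_1 D31373 (iv D30382) (iv F136919)
theorem F145793 : act 2 n31373 = n31373 := d20_1 D31373 (iv D31373) F136920
theorem F145794 : act 4 n31373 = n29424 := d31_1 D31373 (iv D29424) (iv F136921)
theorem F145795 : act 5 n31373 = n30079 := d35_1 D31373 (iv D30079) F110700 (iv F106570) (iv F136922)
theorem F145796 : act 7 n31373 = n31373 := d39_2 D29421 D31373 (iv D31373) (iv D29421) F106564
theorem F145797 : act 9 n31373 = n31373 := d41_2 F136923 D31373 (iv D31373)
def n31374 : Q := act 8 n29421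
theorem D31374 : act 8 n29421 = n31374 := rfl
theorem F145798 : act 0 n31374 = n29441 := d7_1 D31374 (iv D29441) (iv F136918)
theorem F145799 : act 1 n31374 = n29917 := d15_1 D31374 F139363 (iv F136919)
theorem F145800 : act 2 n31374 = n31374 := d22_1 D31374 (iv D31374) F136920
theorem F145801 : act 4 n31374 = n29425 := d33_1 D31374 (iv D29425) (iv F136921)
theorem F145802 : act 7 n31374 = n29422 := d42_1 D31374 (iv D29422) D29421
theorem F145803 : act 9 n30329 = n31374 := d43_0 F145802 (iv F136929) D30329
def n31375 : Q := act 6 n29423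
theorem D31375 : act 6 n29423 = n31375 := rfl
theorem F145804 : act 0 n31375 = n29446 := d5_1 D31375 (iv D29446) (iv F136930)
theorem F145805 : act 1 n31375 = n30384 := d13_1 D31375 (iv D30384) (iv F136931)
theorem F145806 : act 2 n31375 = n30611 := d20_1 D31375 (iv D30611) (iv F136932)
theorem F145807 : act 3 n31375 = n29424 := d26_1 D31375 (iv D29424) (iv F136933)
theorem F145808 : act 4 n31375 = n30609 := d31_1 D31375 (iv D30609) (iv F136934)
theorem F145809 : act 5 n31375 = n31375 := d35_1 D31375 (iv D31375) F136935 F106592 (iv F136935)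
theorem F145810 : act 7 n31375 = n31375 := d39_2 D29423 D31375 (iv D31375) (iv D29423) F106587
theorem F145811 : act 8 n31375 = n30520 := d40_2 (iv F136936) D31375 F141932
theorem F145812 : act 9 n31375 = n31375 := d41_2 F136937 D31375 (iv D31375)
def n31376 : Q := act 8 n29424
theorem D31376 : act 8 n29424 = n31376 := rfl
theorem F145813 : act 0 n31376 = n29448 := d7_1 D31376 (iv D29448) (iv F136938)
theorem F145814 : act 1 n31376 = n29918 := d15_1 D31376 F139370 (iv F136939)
theorem F145815 : act 2 n31376 = n31376 := d22_1 D31376 (iv D31376) F136940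
theorem F145816 : act 3 n31376 = n30520 := d28_1 D31376 (iv F145811) F145807
theorem F145817 : act 6 n31376 = n29425 := d40_1 D31376 (iv D29425) D29424
theorem F145818 : act 7 n31376 = n31376 := d42_1 D31376 (iv D31376) F136942
theorem F145819 : act 5 n29928 = n31376 := d35_5 F145817 F136948 F133680 (iv F108895) D29928
theorem F145820 : act 9 n30330 = n31376 := d41_0 F145817 (iv F136950) D30330
def n31377 : Q := act 6 n29426
theorem D31377 : act 6 n29426 = n31377 := rfl
theorem F145821 : act 0 n31377 = n30703 := d5_1 D31377 (iv D30703) (iv F136951)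
theorem F145822 : act 1 n31377 = n30945 := d13_1 D31377 (iv D30945) F136958
theorem F145823 : act 2 n31377 = n29427 := d20_1 D31377 (iv D29427) D29426
theorem F145824 : act 3 n31377 = n31377 := d26_1 D31377 (iv D31377) F136952
theorem F145825 : act 4 n31377 = n29744 := d31_1 D31377 (iv D29744) (iv F136953)
theorem F145826 : act 8 n31377 = n31377 := d40_2 F136956 D31377 (iv D31377)
theorem F145827 : act 9 n31377 = n29733 := d41_2 (iv F136957) D31377 (iv D29733)
def n31378 : Q := act 5 n29427
theorem D31378 : act 5 n29427 = n31378 := rfl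
theorem F145828 : act 0 n31378 = n30704 := d4_1 D31378 (iv D30704) (iv F136959)
theorem F145829 : act 1 n31378 = n29464 := d12_1 D31378 (iv D29464) (iv F136960)
theorem F145830 : act 3 n31378 = n29428 := d25_1 D31378 (iv D29428) (iv F136961)
theorem F145831 : act 6 n31378 = n29431 := d35_2 D29427 D31378 (iv D29431) (iv D23751) (iv F106608)
theorem F145832 : act 9 n31378 = n29734 := d38_2 (iv F136964) D31378 (iv D29734)
def n31379 : Q := act 7 n29427
theorem D31379 : act 7 n29427 = n31379 := rfl
theorem F145833 : act 0 n31379 = n30705 := d6_1 D31379 (iv D30705) (iv F136959)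
theorem F145834 : act 1 n31379 = n29465 := d14_1 D31379 (iv D29465) (iv F136960)
theorem F145835 : act 3 n31379 = n29429 := d27_1 D31379 (iv D29429) (iv F136961)
theorem F145836 : act 4 n31379 = n29746 := d32_1 D31379 (iv D29746) (iv F136962)
theorem F145837 : act 6 n31379 = n30244 := d39_1 D31379 (iv D30244) (iv D25276) (iv F106609) D29427
theorem F145838 : act 8 n31379 = n31379 := d42_2 F136963 D31379 (iv D31379)
theorem F145839 : act 9 n31379 = n29735 := d43_2 (iv F136964) D31379 (iv D29735)
def n31380 : Q := act 7 n29428
theorem D31380 : act 7 n29428 = n31380 := rfl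
theorem F145840 : act 0 n31380 = n30706 := d6_1 D31380 (iv D30706) (iv F136965)
theorem F145841 : act 1 n31380 = n29466 := d14_1 D31380 (iv D29466) (iv F136966)
theorem F145842 : act 2 n31380 = n31380 := d21_1 D31380 (iv D31380) F136967
theorem F145843 : act 4 n31380 = n29683 := d32_1 D31380 (iv D29683) (iv F136968)
theorem F145844 : act 5 n31380 = n29429 := d36_1 D31380 (iv D29429) D29428
theorem F145845 : act 9 n31380 = n29736 := d43_2 (iv F136970) D31380 (iv D29736)
def n31381 : Q := act 8 n29428
theorem D31381 : act 8 n29428 = n31381 := rfl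
theorem F145846 : act 0 n31381 = n30707 := d7_1 D31381 (iv D30707) (iv F136965)
theorem F145847 : act 1 n31381 = n29467 := d15_1 D31381 (iv D29467) (iv F136966)
theorem F145848 : act 2 n31381 = n31381 := d22_1 D31381 (iv D31381) F136967
theorem F145849 : act 4 n31381 = n29684 := d33_1 D31381 (iv D29684) (iv F136968)
theorem F145850 : act 5 n31381 = n31381 := d37_1 D31381 (iv D31381) (iv D29428) F106616 D29428
theorem F145851 : act 6 n31381 = n29434 := d40_1 D31381 (iv D29434) (iv F136969)
def n31382 : Q := act 5 n29430
theorem D31382 : act 5 n29430 = n31382 := rfl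
theorem F145852 : act 1 n31382 = n30942 := d12_1 D31382 (iv D30942) (iv F136978)
theorem F145853 : act 2 n31382 = n29431 := d19_1 D31382 (iv D29431) (iv F136979)
theorem F145854 : act 3 n31382 = n31382 := d25_1 D31382 (iv D31382) F136980
def n31383 : Q := act 7 n29430
theorem D31383 : act 7 n29430 = n31383 := rfl
theorem F145855 : act 1 n31383 = n30941 := d14_1 D31383 F143449 (iv F136978)
theorem F145856 : act 2 n31383 = n29432 := d21_1 D31383 (iv D29432) (iv F136979)
theorem F145857 : act 3 n31383 = n31383 := d27_1 D31383 (iv D31383) F136980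
theorem F145858 : act 4 n31383 = n30717 := d32_1 D31383 (iv D30717) (iv F136981)
theorem F145859 : act 6 n31383 = n30710 := d39_1 D31383 (iv D30710) (iv D25834) (iv F106628) D29430
theorem F145860 : act 8 n31383 = n29436 := d42_2 (iv F136982) D31383 (iv D29436)
def n31384 : Q := act 4 n29431
theorem D31384 : act 4 n29431 = n31384 := rfl
theorem F145861 : act 1 n31384 = n29492 := d11_1 D31384 (iv D29492) (iv F136983)
theorem F145862 : act 3 n31384 = n29704 := d24_1 D31384 (iv D29704) F107861 (iv F106636) (iv F136984)
theorem F145863 : act 5 n31384 = n30718 := d30_2 D29431 D31384 (iv D30718) (iv D25841) (iv F106632)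
def n31385 : Q := act 7 n29431
theorem D31385 : act 7 n29431 = n31385 := rfl
theorem F145864 : act 1 n31385 = n29493 := d14_1 D31385 (iv D29493) (iv F136983)
theorem F145865 : act 3 n31385 = n29433 := d27_1 D31385 (iv D29433) (iv F136984)
theorem F145866 : act 5 n31385 = n29432 := d36_1 D31385 (iv D29432) D29431
def n31386 : Q := act 8 n29431
theorem D31386 : act 8 n29431 = n31386 := rfl
theorem F145867 : act 1 n31386 = n29494 := d15_1 D31386 (iv D29494) (iv F136983)
theorem F145868 : act 3 n31386 = n29434 := d28_1 D31386 (iv D29434) (iv F136984)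
theorem F145869 : act 5 n31386 = n29439 := d37_1 D31386 (iv D29439) (iv D23756) (iv F106633) D29431
def n31387 : Q := act 6 n29433
theorem D31387 : act 6 n29433 = n31387 := rfl
theorem F145870 : act 1 n31387 = n29495 := d13_1 D31387 (iv D29495) (iv F136990)
theorem F145871 : act 2 n31387 = n31387 := d20_1 D31387 (iv D31387) F136991
theorem F145872 : act 4 n31387 = n29707 := d31_1 D31387 (iv D29707) (iv F136992)
theorem F145873 : act 5 n31387 = n30714 := d35_1 D31387 (iv D30714) F115950 (iv F106640) (iv F136993)
def n31388 : Q := act 8 n29433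
theorem D31388 : act 8 n29433 = n31388 := rfl
theorem F145874 : act 1 n31388 = n29496 := d15_1 D31388 (iv D29496) (iv F136990)
theorem F145875 : act 2 n31388 = n31388 := d22_1 D31388 (iv D31388) F136991
theorem F145876 : act 4 n31388 = n29708 := d33_1 D31388 (iv D29708) (iv F136992)
theorem F145877 : act 5 n31388 = n29441 := d37_1 D31388 (iv D29441) F106664 (iv F106641) (iv F136993)
theorem F145878 : act 7 n31388 = n29434 := d42_1 D31388 (iv D29434) D29433
def n31389 : Q := act 9 n29434
theorem D31389 : act 9 n29434 = n31389 := rfl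
theorem F145879 : act 0 n31389 = n30303 := d8_1 D31389 F145762 F145756
theorem F145880 : act 1 n31389 = n29497 := d16_1 D31389 (iv D29497) (iv F136994)
theorem F145881 : act 2 n31389 = n31389 := d23_1 D31389 (iv D31389) F136995
theorem F145882 : act 4 n31389 = n29709 := d34_1 D31389 (iv D29709) (iv F136996)
theorem F145883 : act 5 n31389 = n29442 := d38_1 D31389 (iv D29442) (iv F136997)
def n31390 : Q := act 7 n29435
theorem D31390 : act 7 n29435 = n31390 := rfl
theorem F145884 : act 0 n31390 = n30491 := d6_1 D31390 (iv D30491) (iv F136998)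
theorem F145885 : act 1 n31390 = n30933 := d14_1 D31390 (iv D30933) (iv F136999)
theorem F145886 : act 2 n31390 = n29438 := d21_1 D31390 (iv D29438) (iv F137000)
theorem F145887 : act 3 n31390 = n31390 := d27_1 D31390 (iv D31390) F137001
theorem F145888 : act 4 n31390 = n29500 := d32_1 D31390 (iv D29500) (iv F137002)
theorem F145889 : act 5 n31390 = n29436 := d36_1 D31390 (iv D29436) D29435
theorem F145890 : act 9 n31390 = n31390 := d43_2 F137004 D31390 (iv D31390)
def n31391 : Q := act 8 n29435
theorem D31391 : act 8 n29435 = n31391 := rfl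
theorem F145891 : act 0 n31391 = n30492 := d7_1 D31391 (iv D30492) (iv F136998)
theorem F145892 : act 1 n31391 = n30934 := d15_1 D31391 (iv D30934) (iv F136999)
theorem F145893 : act 2 n31391 = n29439 := d22_1 D31391 (iv D29439) (iv F137000)
theorem F145894 : act 3 n31391 = n31391 := d28_1 D31391 (iv D31391) F137001
theorem F145895 : act 4 n31391 = n29501 := d33_1 D31391 (iv D29501) (iv F137002)
theorem F145896 : act 6 n31391 = n31391 := d40_1 D31391 (iv D31391) F137003
def n31392 : Q := act 7 n29437
theorem D31392 : act 7 n29437 = n31392 := rfl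
theorem F145897 : act 0 n31392 = n30489 := d6_1 D31392 (iv D30489) (iv F137011)
theorem F145898 : act 1 n31392 = n29511 := d14_1 D31392 (iv D29511) (iv F137012)
theorem F145899 : act 2 n31392 = n29500 := d21_1 D31392 (iv D29500) (iv F137013)
theorem F145900 : act 3 n31392 = n29444 := d27_1 D31392 (iv D29444) (iv F137014)
theorem F145901 : act 4 n31392 = n29438 := d32_1 D31392 (iv D29438) D29437
theorem F145902 : act 5 n31392 = n29499 := d36_1 D31392 (iv D29499) (iv F137015)
theorem F145903 : act 9 n31392 = n31392 := d43_2 F137017 D31392 (iv D31392)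
def n31393 : Q := act 8 n29437
theorem D31393 : act 8 n29437 = n31393 := rfl
theorem F145904 : act 0 n31393 = n30490 := d7_1 D31393 (iv D30490) (iv F137011)
theorem F145905 : act 1 n31393 = n29512 := d15_1 D31393 (iv D29512) (iv F137012)
theorem F145906 : act 2 n31393 = n29501 := d22_1 D31393 (iv D29501) (iv F137013)
theorem F145907 : act 3 n31393 = n29445 := d28_1 D31393 (iv D29445) (iv F137014)
theorem F145908 : act 4 n31393 = n29439 := d33_1 D31393 (iv D29439) D29437
theorem F145909 : act 6 n31393 = n31393 := d40_1 D31393 (iv D31393) F137016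
theorem F145910 : act 9 n30116 = n31393 := d29_0 F145907 (iv F137060) D30116
def n31394 : Q := act 6 n29438
theorem D31394 : act 6 n29438 = n31394 := rfl
theorem F145911 : act 1 n31394 = n29513 := d13_1 D31394 (iv D29513) (iv F137018)
theorem F145912 : act 3 n31394 = n29440 := d26_1 D31394 (iv D29440) (iv F137019)
theorem F145913 : act 5 n31394 = n30935 := d35_1 D31394 (iv D30935) F118559 (iv F106659) (iv F137020)
theorem F145914 : act 7 n31394 = n31394 := d39_2 D29438 D31394 (iv D31394) (iv D29438) F106654
theorem F145915 : act 9 n31394 = n31394 := d41_2 F137021 D31394 (iv D31394)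
def n31395 : Q := act 8 n29438
theorem D31395 : act 8 n29438 = n31395 := rfl
theorem F145916 : act 1 n31395 = n29514 := d15_1 D31395 (iv D29514) (iv F137018)
theorem F145917 : act 3 n31395 = n29441 := d28_1 D31395 (iv D29441) (iv F137019)
theorem F145918 : act 7 n31395 = n29439 := d42_1 D31395 (iv D29439) D29438
def n31396 : Q := act 9 n29439
theorem D31396 : act 9 n29439 = n31396 := rfl
theorem F145919 : act 0 n31396 = n30328 := d8_1 D31396 F145790 F145784
theorem F145920 : act 1 n31396 = n29515 := d16_1 D31396 (iv D29515) (iv F137022)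
theorem F145921 : act 3 n31396 = n29442 := d29_1 D31396 (iv D29442) (iv F137023)
theorem F145922 : act 4 n31396 = n30116 := d34_1 D31396 F145910 F145908
theorem F145923 : act 6 n31396 = n31396 := d41_1 D31396 (iv D31396) F137024
theorem F145924 : act 8 n31396 = n31396 := d44_1 D31396 (iv D31396) (iv D29439) F106655 D29439
def n31397 : Q := act 8 n29440
theorem D31397 : act 8 n29440 = n31397 := rfl
theorem F145925 : act 1 n31397 = n29516 := d15_1 D31397 (iv D29516) (iv F137025)
theorem F145926 : act 2 n31397 = n31397 := d22_1 D31397 (iv D31397) F137026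
theorem F145927 : act 4 n31397 = n29448 := d33_1 D31397 (iv D29448) (iv F137027)
theorem F145928 : act 6 n31397 = n29441 := d40_1 D31397 (iv D29441) D29440
theorem F145929 : act 7 n31397 = n31397 := d42_1 D31397 (iv D31397) F137029
def n31398 : Q := act 9 n29441
theorem D31398 : act 9 n29441 = n31398 := rfl
theorem F145930 : act 0 n31398 = n30329 := d8_1 D31398 F145803 F145798
theorem F145931 : act 1 n31398 = n29517 := d16_1 D31398 (iv D29517) (iv F137031)
theorem F145932 : act 2 n31398 = n31398 := d23_1 D31398 (iv D31398) F137032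
theorem F145933 : act 4 n31398 = n29449 := d34_1 D31398 (iv D29449) (iv F137033)
theorem F145934 : act 7 n31398 = n29442 := d43_1 D31398 (iv D29442) (iv F137034)
theorem F145935 : act 8 n31398 = n31398 := d44_1 D31398 (iv D31398) (iv D29441) F106665 D29441
def n31399 : Q := act 6 n29443
theorem D31399 : act 6 n29443 = n31399 := rfl
theorem F145936 : act 0 n31399 = n30611 := d5_1 D31399 (iv D30611) (iv F137041)
theorem F145937 : act 1 n31399 = n31399 := d13_1 D31399 (iv D31399) F137042
theorem F145938 : act 2 n31399 = n29446 := d20_1 D31399 (iv D29446) (iv F137043)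
theorem F145939 : act 3 n31399 = n31399 := d26_1 D31399 (iv D31399) F137044
theorem F145940 : act 4 n31399 = n29592 := d31_1 D31399 (iv D29592) (iv F137045)
theorem F145941 : act 5 n31399 = n31399 := d35_1 D31399 (iv D31399) F137046 F106678 (iv F137046)
theorem F145942 : act 7 n31399 = n31399 := d39_2 D29443 D31399 (iv D31399) (iv D29443) F106673
theorem F145943 : act 8 n31399 = n29608 := d40_2 (iv F137047) D31399 F137881
theorem F145944 : act 9 n31399 = n31399 := d41_2 F137048 D31399 (iv D31399)
def n31400 : Q := act 6 n29444
theorem D31400 : act 6 n29444 = n31400 := rfl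
theorem F145945 : act 0 n31400 = n30609 := d5_1 D31400 (iv D30609) (iv F137049)
theorem F145946 : act 1 n31400 = n29518 := d13_1 D31400 (iv D29518) (iv F137050)
theorem F145947 : act 2 n31400 = n29592 := d20_1 D31400 (iv D29592) (iv F137051)
theorem F145948 : act 4 n31400 = n29446 := d31_1 D31400 (iv D29446) (iv F137052)
theorem F145949 : act 5 n31400 = n29600 := d35_1 D31400 (iv D29600) F107268 (iv F107215) (iv F137053)
theorem F145950 : act 7 n31400 = n31400 := d39_2 D29444 D31400 (iv D31400) (iv D29444) F106682
theorem F145951 : act 9 n31400 = n31400 := d41_2 F137054 D31400 (iv D31400)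
def n31401 : Q := act 8 n29444
theorem D31401 : act 8 n29444 = n31401 := rfl
theorem F145952 : act 0 n31401 = n30610 := d7_1 D31401 (iv D30610) (iv F137049)
theorem F145953 : act 1 n31401 = n29519 := d15_1 D31401 (iv D29519) (iv F137050)
theorem F145954 : act 2 n31401 = n29593 := d22_1 D31401 (iv D29593) (iv F137051)
theorem F145955 : act 4 n31401 = n29447 := d33_1 D31401 (iv D29447) (iv F137052)
theorem F145956 : act 7 n31401 = n29445 := d42_1 D31401 (iv D29445) D29444
theorem F145957 : act 9 n29820 = n31401 := d43_0 F145956 (iv F137060) (iv F138897)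
def n31402 : Q := act 5 n29445
theorem D31402 : act 5 n29445 = n31402 := rfl
theorem F145958 : act 0 n31402 = n30572 := d4_1 D31402 F142167 (iv F137055)
theorem F145959 : act 1 n31402 = n29520 := d12_1 D31402 (iv D29520) (iv F137056)
theorem F145960 : act 2 n31402 = n29565 := d19_1 D31402 F137680 (iv F137057)
theorem F145961 : act 4 n31402 = n29731 := d30_1 D31402 (iv D29731) F107958 (iv F106690) (iv F137058)
theorem F145962 : act 8 n31402 = n29561 := d37_2 D29445 D31402 (iv D29561) F107116 (iv F135621)
theorem F145963 : act 9 n31402 = n30114 := d38_2 F137060 D31402 F140401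
def n31403 : Q := act 8 n29446
theorem D31403 : act 8 n29446 = n31403 := rfl
theorem F145964 : act 0 n31403 = n30520 := d7_1 D31403 (iv F145811) F145804
theorem F145965 : act 1 n31403 = n29522 := d15_1 D31403 (iv D29522) (iv F137061)
theorem F145966 : act 2 n31403 = n29608 := d22_1 D31403 (iv F145943) F145938
theorem F145967 : act 3 n31403 = n29448 := d28_1 D31403 (iv D29448) (iv F137062)
theorem F145968 : act 6 n31403 = n29447 := d40_1 D31403 (iv D29447) D29446
theorem F145969 : act 7 n31403 = n31403 := d42_1 D31403 (iv D31403) F137064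
theorem F145970 : act 5 n29525 = n31403 := d35_5 F145968 F137070 F133725 (iv F106988) (iv F137471)
theorem F145971 : act 9 n29524 = n31403 := d41_0 F145968 (iv F137072) (iv F137466)
def n31404 : Q := act 5 n29448
theorem D31404 : act 5 n29448 = n31404 := rfl
theorem F145972 : act 0 n31404 = n29928 := d4_1 D31404 F145819 F145813
theorem F145973 : act 1 n31404 = n29524 := d12_1 D31404 (iv D29524) (iv F137073)
theorem F145974 : act 2 n31404 = n31404 := d19_1 D31404 (iv D31404) F137074
theorem F145975 : act 3 n31404 = n29525 := d25_1 D31404 F145970 F145967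
theorem F145976 : act 6 n31404 = n29523 := d35_2 (iv F137075) D31404 F137461 F107974 (iv F106699)
theorem F145977 : act 7 n31404 = n31404 := d36_2 F137076 D31404 (iv D31404)
theorem F145978 : act 8 n31404 = n31404 := d37_2 D29448 D31404 (iv D31404) (iv D29448) F106694
theorem F145979 : act 9 n29522 = n31404 := d41_0 F145976 (iv D29523) (iv F137455)
def n31405 : Q := act 9 n29448
theorem D31405 : act 9 n29448 = n31405 := rfl
theorem F145980 : act 0 n31405 = n30330 := d8_1 D31405 F145820 F145813
theorem F145981 : act 1 n31405 = n29525 := d16_1 D31405 (iv D29525) (iv F137073)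
theorem F145982 : act 2 n31405 = n31405 := d23_1 D31405 (iv D31405) F137074
theorem F145983 : act 3 n31405 = n29524 := d29_1 D31405 F145971 F145967
theorem F145984 : act 5 n31405 = n29522 := d38_1 D31405 F145979 (iv D31404)
theorem F145985 : act 6 n31405 = n29449 := d41_1 D31405 (iv D29449) (iv F137075)
theorem F145986 : act 7 n31405 = n31405 := d43_1 D31405 (iv D31405) F137076
theorem F145987 : act 8 n31405 = n31405 := d44_1 D31405 (iv D31405) (iv D29448) F106696 D29448
def n31406 : Q := act 6 n29450
theorem D31406 : act 6 n29450 = n31406 := rfl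
theorem F145988 : act 0 n31406 = n30434 := d5_1 D31406 (iv D30434) (iv F137084)
theorem F145989 : act 1 n31406 = n30946 := d13_1 D31406 (iv D30946) (iv F137085)
theorem F145990 : act 2 n31406 = n29451 := d20_1 D31406 (iv D29451) D29450
theorem F145991 : act 3 n31406 = n31406 := d26_1 D31406 (iv D31406) F137086
theorem F145992 : act 4 n31406 = n29463 := d31_1 D31406 (iv D29463) (iv F137087)
theorem F145993 : act 8 n31406 = n31406 := d40_2 F137090 D31406 (iv D31406)
theorem F145994 : act 9 n31406 = n29680 := d41_2 (iv F137091) D31406 (iv D29680)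
def n31407 : Q := act 5 n29451
theorem D31407 : act 5 n29451 = n31407 := rfl
theorem F145995 : act 0 n31407 = n30435 := d4_1 D31407 (iv D30435) (iv F137092)
theorem F145996 : act 1 n31407 = n29745 := d12_1 D31407 (iv D29745) (iv F137093)
theorem F145997 : act 3 n31407 = n29452 := d25_1 D31407 (iv D29452) (iv F137094)
theorem F145998 : act 6 n31407 = n29696 := d35_2 D29451 D31407 (iv D29696) (iv D23989) (iv F106709)
theorem F145999 : act 9 n31407 = n29681 := d38_2 (iv F137097) D31407 (iv D29681)
def n31408 : Q := act 7 n29451
theorem D31408 : act 7 n29451 = n31408 := rfl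
theorem F146000 : act 0 n31408 = n30436 := d6_1 D31408 (iv D30436) (iv F137092)
theorem F146001 : act 1 n31408 = n29746 := d14_1 D31408 (iv D29746) (iv F137093)
theorem F146002 : act 3 n31408 = n29453 := d27_1 D31408 (iv D29453) (iv F137094)
theorem F146003 : act 4 n31408 = n29465 := d32_1 D31408 (iv D29465) (iv F137095)
theorem F146004 : act 6 n31408 = n30219 := d39_1 D31408 (iv D30219) (iv D25246) (iv F106710) D29451
theorem F146005 : act 8 n31408 = n31408 := d42_2 F137096 D31408 (iv D31408)
theorem F146006 : act 9 n31408 = n29682 := d43_2 (iv F137097) D31408 (iv D29682)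
def n31409 : Q := act 7 n29452
theorem D31409 : act 7 n29452 = n31409 := rfl
theorem F146007 : act 0 n31409 = n30437 := d6_1 D31409 (iv D30437) (iv F137098)
theorem F146008 : act 1 n31409 = n29747 := d14_1 D31409 (iv D29747) (iv F137099)
theorem F146009 : act 2 n31409 = n31409 := d21_1 D31409 (iv D31409) F137100
theorem F146010 : act 4 n31409 = n29736 := d32_1 D31409 (iv D29736) (iv F137101)
theorem F146011 : act 5 n31409 = n29453 := d36_1 D31409 (iv D29453) D29452
theorem F146012 : act 9 n31409 = n29683 := d43_2 (iv F137103) D31409 (iv D29683)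
def n31410 : Q := act 8 n29452
theorem D31410 : act 8 n29452 = n31410 := rfl
theorem F146013 : act 0 n31410 = n30438 := d7_1 D31410 (iv D30438) (iv F137098)
theorem F146014 : act 1 n31410 = n29748 := d15_1 D31410 (iv D29748) (iv F137099)
theorem F146015 : act 2 n31410 = n31410 := d22_1 D31410 (iv D31410) F137100
theorem F146016 : act 4 n31410 = n29737 := d33_1 D31410 (iv D29737) (iv F137101)
theorem F146017 : act 5 n31410 = n31410 := d37_1 D31410 (iv D31410) (iv D29452) F106717 D29452
theorem F146018 : act 6 n31410 = n29699 := d40_1 D31410 (iv D29699) (iv F137102)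
def n31411 : Q := act 1 n29454
theorem D31411 : act 1 n29454 = n31411 := rfl
theorem F146019 : act 2 n31411 = n30241 := d9_2 D29454 D31411 (iv D30241) (iv D25275) (iv F106728)
theorem F146020 : act 3 n31411 = n29526 := d10_2 (iv F137112) D31411 (iv D29526)
theorem F146021 : act 4 n31411 = n30216 := d11_2 (iv F137113) D31411 (iv D30216)
theorem F146022 : act 5 n31411 = n29476 := d12_2 (iv F137114) D31411 (iv D29476)
theorem F146023 : act 7 n31411 = n29462 := d14_2 (iv F137115) D31411 (iv D29462)
theorem F146024 : act 8 n31411 = n31411 := d15_2 F137116 D31411 (iv D31411)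
theorem F146025 : act 9 n31411 = n30372 := d16_2 (iv F137117) D31411 (iv D30372)
def n31412 : Q := act 6 n29454
theorem D31412 : act 6 n29454 = n31412 := rfl
theorem F146026 : act 0 n31412 = n30398 := d5_1 D31412 (iv D30398) (iv F137111)
theorem F146027 : act 2 n31412 = n29455 := d20_1 D31412 (iv D29455) D29454
theorem F146028 : act 3 n31412 = n29527 := d26_1 D31412 (iv D29527) (iv F137112)
theorem F146029 : act 4 n31412 = n30217 := d31_1 D31412 (iv D30217) (iv F137113)
theorem F146030 : act 8 n31412 = n31412 := d40_2 F137116 D31412 (iv D31412)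
theorem F146031 : act 9 n31412 = n30373 := d41_2 (iv F137117) D31412 (iv D30373)
def n31413 : Q := act 5 n29455
theorem D31413 : act 5 n29455 = n31413 := rfl
theorem F146032 : act 0 n31413 = n30399 := d4_1 D31413 (iv D30399) (iv F137118)
theorem F146033 : act 1 n31413 = n30243 := d12_1 D31413 (iv D30243) (iv F137119)
theorem F146034 : act 3 n31413 = n29456 := d25_1 D31413 (iv D29456) (iv F137120)
theorem F146035 : act 6 n31413 = n29478 := d35_2 D29455 D31413 (iv D29478) (iv D23788) (iv F106730)
theorem F146036 : act 9 n31413 = n30374 := d38_2 (iv F137123) D31413 (iv D30374)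
def n31414 : Q := act 7 n29455
theorem D31414 : act 7 n29455 = n31414 := rfl
theorem F146037 : act 0 n31414 = n30400 := d6_1 D31414 (iv D30400) (iv F137118)
theorem F146038 : act 1 n31414 = n30244 := d14_1 D31414 (iv D30244) (iv F137119)
theorem F146039 : act 3 n31414 = n29457 := d27_1 D31414 (iv D29457) (iv F137120)
theorem F146040 : act 4 n31414 = n30219 := d32_1 D31414 (iv D30219) (iv F137121)
theorem F146041 : act 6 n31414 = n29465 := d39_1 D31414 (iv D29465) (iv D23778) (iv F106731) D29455
theorem F146042 : act 8 n31414 = n31414 := d42_2 F137122 D31414 (iv D31414)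
theorem F146043 : act 9 n31414 = n30375 := d43_2 (iv F137123) D31414 (iv D30375)
def n31415 : Q := act 7 n29456
theorem D31415 : act 7 n29456 = n31415 := rfl
theorem F146044 : act 0 n31415 = n30401 := d6_1 D31415 (iv D30401) (iv F137124)
theorem F146045 : act 1 n31415 = n30245 := d14_1 D31415 (iv D30245) (iv F137125)
theorem F146046 : act 2 n31415 = n29530 := d21_1 D31415 (iv D29530) (iv F137126)
theorem F146047 : act 4 n31415 = n30666 := d32_1 D31415 (iv D30666) (iv F137127)
theorem F146048 : act 5 n31415 = n29457 := d36_1 D31415 (iv D29457) D29456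
theorem F146049 : act 9 n31415 = n30376 := d43_2 (iv F137129) D31415 (iv D30376)
def n31416 : Q := act 8 n29456
theorem D31416 : act 8 n29456 = n31416 := rfl
theorem F146050 : act 0 n31416 = n30402 := d7_1 D31416 (iv D30402) (iv F137124)
theorem F146051 : act 1 n31416 = n30246 := d15_1 D31416 (iv D30246) (iv F137125)
theorem F146052 : act 2 n31416 = n29531 := d22_1 D31416 (iv D29531) (iv F137126)
theorem F146053 : act 4 n31416 = n30311 := d33_1 D31416 F141143 (iv F137127)
theorem F146054 : act 5 n31416 = n31416 := d37_1 D31416 (iv D31416) (iv D29456) F106738 D29456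
theorem F146055 : act 6 n31416 = n29481 := d40_1 D31416 (iv D29481) (iv F137128)
theorem F146056 : act 9 n31416 = n30308 := d44_2 (iv F137129) D31416 (iv D30308) (iv F139116) F139115
def n31417 : Q := act 1 n29458
theorem D31417 : act 1 n29458 = n31417 := rfl
theorem F146057 : act 2 n31417 = n29732 := d9_2 D29458 D31417 (iv D29732) (iv D24024) (iv F106749)
theorem F146058 : act 3 n31417 = n29532 := d10_2 (iv F137138) D31417 (iv D29532)
theorem F146059 : act 4 n31417 = n29679 := d11_2 (iv F137139) D31417 (iv D29679)
theorem F146060 : act 5 n31417 = n29482 := d12_2 (iv F137140) D31417 (iv D29482)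
theorem F146061 : act 7 n31417 = n30372 := d14_2 (iv F137141) D31417 (iv D30372)
theorem F146062 : act 8 n31417 = n30035 := d15_2 (iv F137142) D31417 (iv D30035)
theorem F146063 : act 9 n31417 = n29462 := d16_2 (iv F137143) D31417 (iv D29462)
def n31418 : Q := act 6 n29458
theorem D31418 : act 6 n29458 = n31418 := rfl
theorem F146064 : act 0 n31418 = n30392 := d5_1 D31418 (iv D30392) (iv F137137)
theorem F146065 : act 2 n31418 = n29459 := d20_1 D31418 (iv D29459) D29458
theorem F146066 : act 3 n31418 = n29533 := d26_1 D31418 (iv D29533) (iv F137138)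
theorem F146067 : act 4 n31418 = n29680 := d31_1 D31418 (iv D29680) (iv F137139)
theorem F146068 : act 8 n31418 = n30036 := d40_2 (iv F137142) D31418 (iv D30036)
theorem F146069 : act 9 n31418 = n29463 := d41_2 (iv F137143) D31418 (iv D29463)
def n31419 : Q := act 5 n29459
theorem D31419 : act 5 n29459 = n31419 := rfl
theorem F146070 : act 0 n31419 = n30393 := d4_1 D31419 (iv D30393) (iv F137144)
theorem F146071 : act 1 n31419 = n29734 := d12_1 D31419 (iv D29734) (iv F137145)
theorem F146072 : act 3 n31419 = n29460 := d25_1 D31419 (iv D29460) (iv F137146)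
theorem F146073 : act 6 n31419 = n29484 := d35_2 D29459 D31419 (iv D29484) (iv D23792) (iv F106751)
theorem F146074 : act 9 n31419 = n29464 := d38_2 (iv F137149) D31419 (iv D29464)
def n31420 : Q := act 7 n29459
theorem D31420 : act 7 n29459 = n31420 := rfl
theorem F146075 : act 0 n31420 = n30394 := d6_1 D31420 (iv D30394) (iv F137144)
theorem F146076 : act 1 n31420 = n29735 := d14_1 D31420 (iv D29735) (iv F137145)
theorem F146077 : act 3 n31420 = n29461 := d27_1 D31420 (iv D29461) (iv F137146)
theorem F146078 : act 4 n31420 = n29682 := d32_1 D31420 (iv D29682) (iv F137147)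
theorem F146079 : act 6 n31420 = n30375 := d39_1 D31420 (iv D30375) (iv D25452) (iv F106752) D29459
theorem F146080 : act 8 n31420 = n30038 := d42_2 (iv F137148) D31420 (iv D30038)
theorem F146081 : act 9 n31420 = n29465 := d43_2 (iv F137149) D31420 (iv D29465)
def n31421 : Q := act 7 n29460
theorem D31421 : act 7 n29460 = n31421 := rfl
theorem F146082 : act 0 n31421 = n30395 := d6_1 D31421 (iv D30395) (iv F137150)
theorem F146083 : act 1 n31421 = n29736 := d14_1 D31421 (iv D29736) (iv F137151)
theorem F146084 : act 2 n31421 = n29536 := d21_1 D31421 (iv D29536) (iv F137152)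
theorem F146085 : act 4 n31421 = n29747 := d32_1 D31421 (iv D29747) (iv F137153)
theorem F146086 : act 5 n31421 = n29461 := d36_1 D31421 (iv D29461) D29460
theorem F146087 : act 9 n31421 = n29466 := d43_2 (iv F137155) D31421 (iv D29466)
def n31422 : Q := act 8 n29460
theorem D31422 : act 8 n29460 = n31422 := rfl
theorem F146088 : act 0 n31422 = n30396 := d7_1 D31422 (iv D30396) (iv F137150)
theorem F146089 : act 1 n31422 = n29737 := d15_1 D31422 (iv D29737) (iv F137151)
theorem F146090 : act 2 n31422 = n29537 := d22_1 D31422 (iv D29537) (iv F137152)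
theorem F146091 : act 4 n31422 = n29748 := d33_1 D31422 (iv D29748) (iv F137153)
theorem F146092 : act 5 n31422 = n30040 := d37_1 D31422 (iv D30040) (iv D24524) (iv F106759) D29460
theorem F146093 : act 6 n31422 = n29487 := d40_1 D31422 (iv D29487) (iv F137154)
def n31423 : Q := act 0 n29462
theorem D31423 : act 0 n29462 = n31423 := rfl
theorem F146094 : act 1 n31423 = n30439 := d0_2 D29462 D31423 (iv D30439) (iv D25518) (iv F106769)
theorem F146095 : act 2 n31423 = n30102 := d1_2 (iv F137163) D31423 F140356
theorem F146096 : act 3 n31423 = n29538 := d2_2 (iv F137164) D31423 (iv D29538)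
theorem F146097 : act 4 n31423 = n30110 := d3_2 (iv F137165) D31423 F140386
theorem F146098 : act 5 n31423 = n29488 := d4_2 (iv F137166) D31423 (iv D29488)
theorem F146099 : act 8 n31423 = n31423 := d7_2 F137167 D31423 (iv D31423)
def n31424 : Q := act 6 n29462
theorem D31424 : act 6 n29462 = n31424 := rfl
theorem F146100 : act 1 n31424 = n29463 := d13_1 D31424 (iv D29463) D29462
theorem F146101 : act 2 n31424 = n30945 := d20_1 D31424 (iv D30945) (iv F137163)
theorem F146102 : act 3 n31424 = n29539 := d26_1 D31424 (iv D29539) (iv F137164)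
theorem F146103 : act 4 n31424 = n30946 := d31_1 D31424 (iv D30946) (iv F137165)
theorem F146104 : act 8 n31424 = n31424 := d40_2 F137167 D31424 (iv D31424)
def n31425 : Q := act 5 n29463
theorem D31425 : act 5 n29463 = n31425 := rfl
theorem F146105 : act 0 n31425 = n30441 := d4_1 D31425 (iv D30441) (iv F137168)
theorem F146106 : act 2 n31425 = n29464 := d19_1 D31425 (iv D29464) (iv F137169)
theorem F146107 : act 3 n31425 = n29540 := d25_1 D31425 (iv D29540) (iv F137170)
theorem F146108 : act 6 n31425 = n29490 := d35_2 D29463 D31425 (iv D29490) (iv D23796) (iv F106771)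
def n31426 : Q := act 7 n29463
theorem D31426 : act 7 n29463 = n31426 := rfl
theorem F146109 : act 0 n31426 = n30442 := d6_1 D31426 (iv D30442) (iv F137168)
theorem F146110 : act 2 n31426 = n29465 := d21_1 D31426 (iv D29465) (iv F137169)
theorem F146111 : act 3 n31426 = n29541 := d27_1 D31426 (iv D29541) (iv F137170)
theorem F146112 : act 8 n31426 = n31426 := d42_2 F137171 D31426 (iv D31426)
def n31427 : Q := act 4 n29464
theorem D31427 : act 4 n29464 = n31427 := rfl
theorem F146113 : act 0 n31427 = n30443 := d3_1 D31427 (iv D30443) (iv F137172)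
theorem F146114 : act 3 n31427 = n29753 := d24_1 D31427 (iv D29753) F108042 (iv F106778) (iv F137173)
theorem F146115 : act 6 n31427 = n29492 := d31_2 (iv F137174) D31427 (iv D29492)
def n31428 : Q := act 7 n29464
theorem D31428 : act 7 n29464 = n31428 := rfl
theorem F146116 : act 0 n31428 = n30444 := d6_1 D31428 (iv D30444) (iv F137172)
theorem F146117 : act 3 n31428 = n29466 := d27_1 D31428 (iv D29466) (iv F137173)
theorem F146118 : act 5 n31428 = n29465 := d36_1 D31428 (iv D29465) D29464
def n31429 : Q := act 8 n29464
theorem D31429 : act 8 n29464 = n31429 := rfl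
theorem F146119 : act 0 n31429 = n30445 := d7_1 D31429 (iv D30445) (iv F137172)
theorem F146120 : act 3 n31429 = n29467 := d28_1 D31429 (iv D29467) (iv F137173)
theorem F146121 : act 5 n31429 = n31429 := d37_1 D31429 (iv D31429) (iv D29464) F106775 D29464
theorem F146122 : act 6 n31429 = n29494 := d40_1 D31429 (iv D29494) (iv F137174)
def n31430 : Q := act 6 n29466
theorem D31430 : act 6 n29466 = n31430 := rfl
theorem F146123 : act 0 n31430 = n30446 := d5_1 D31430 (iv D30446) (iv F137178)
theorem F146124 : act 2 n31430 = n29545 := d20_1 D31430 (iv D29545) (iv F137179)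
theorem F146125 : act 4 n31430 = n29756 := d31_1 D31430 (iv D29756) (iv F137180)
theorem F146126 : act 7 n31430 = n29495 := d39_2 D29466 D31430 (iv D29495) (iv D23799) (iv F106779)
def n31431 : Q := act 8 n29466
theorem D31431 : act 8 n29466 = n31431 := rfl
theorem F146127 : act 0 n31431 = n30447 := d7_1 D31431 (iv D30447) (iv F137178)
theorem F146128 : act 2 n31431 = n29546 := d22_1 D31431 (iv D29546) (iv F137179)
theorem F146129 : act 4 n31431 = n29757 := d33_1 D31431 (iv D29757) (iv F137180)
theorem F146130 : act 5 n31431 = n31431 := d37_1 D31431 (iv D31431) F137181 F106783 (iv F137181)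
theorem F146131 : act 7 n31431 = n29467 := d42_1 D31431 (iv D29467) D29466
def n31432 : Q := act 9 n29467
theorem D31432 : act 9 n29467 = n31432 := rfl
theorem F146132 : act 0 n31432 = n30448 := d8_1 D31432 (iv D30448) (iv F137182)
theorem F146133 : act 2 n31432 = n29547 := d23_1 D31432 (iv D29547) (iv F137183)
theorem F146134 : act 4 n31432 = n29758 := d34_1 D31432 (iv D29758) (iv F137184)
theorem F146135 : act 5 n31432 = n31432 := d38_1 D31432 (iv D31432) F137185
theorem F146136 : act 6 n31432 = n29497 := d41_1 D31432 (iv D29497) (iv F137186)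
def n31433 : Q := act 1 n29468
theorem D31433 : act 1 n29468 = n31433 := rfl
theorem F146137 : act 2 n31433 = n30433 := d9_2 D29468 D31433 (iv D30433) (iv D25514) (iv F106785)
theorem F146138 : act 3 n31433 = n29548 := d10_2 (iv F137188) D31433 (iv D29548)
theorem F146139 : act 4 n31433 = n30385 := d11_2 (iv F137189) D31433 (iv D30385)
theorem F146140 : act 5 n31433 = n30066 := d12_2 (iv F137190) D31433 F140180
theorem F146141 : act 7 n31433 = n29759 := d14_2 (iv F137191) D31433 (iv D29759)
theorem F146142 : act 8 n31433 = n31433 := d15_2 F137192 D31433 (iv D31433)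
theorem F146143 : act 9 n31433 = n30056 := d16_2 (iv F137193) D31433 F140132
def n31434 : Q := act 6 n29468
theorem D31434 : act 6 n29468 = n31434 := rfl
theorem F146144 : act 0 n31434 = n30450 := d5_1 D31434 (iv D30450) (iv F137187)
theorem F146145 : act 2 n31434 = n29469 := d20_1 D31434 (iv D29469) D29468
theorem F146146 : act 3 n31434 = n29549 := d26_1 D31434 (iv D29549) (iv F137188)
theorem F146147 : act 4 n31434 = n30386 := d31_1 D31434 (iv D30386) (iv F137189)
theorem F146148 : act 8 n31434 = n31434 := d40_2 F137192 D31434 (iv D31434)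
theorem F146149 : act 9 n31434 = n30084 := d41_2 (iv F137193) D31434 F140274
def n31435 : Q := act 5 n29469
theorem D31435 : act 5 n29469 = n31435 := rfl
theorem F146150 : act 0 n31435 = n30451 := d4_1 D31435 (iv D30451) (iv F137194)
theorem F146151 : act 1 n31435 = n30435 := d12_1 D31435 (iv D30435) (iv F137195)
theorem F146152 : act 3 n31435 = n29470 := d25_1 D31435 (iv D29470) (iv F137196)
theorem F146153 : act 6 n31435 = n30664 := d35_2 D29469 D31435 (iv D30664) (iv D25727) (iv F106787)
theorem F146154 : act 9 n31435 = n30156 := d38_2 (iv F137199) D31435 (iv D30156)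
def n31436 : Q := act 7 n29469
theorem D31436 : act 7 n29469 = n31436 := rfl
theorem F146155 : act 0 n31436 = n30452 := d6_1 D31436 (iv D30452) (iv F137194)
theorem F146156 : act 1 n31436 = n30436 := d14_1 D31436 (iv D30436) (iv F137195)
theorem F146157 : act 3 n31436 = n29471 := d27_1 D31436 (iv D29471) (iv F137196)
theorem F146158 : act 4 n31436 = n30388 := d32_1 D31436 (iv D30388) (iv F137197)
theorem F146159 : act 6 n31436 = n29762 := d39_1 D31436 (iv D29762) (iv D24043) (iv F106788) D29469
theorem F146160 : act 8 n31436 = n31436 := d42_2 F137198 D31436 (iv D31436)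
theorem F146161 : act 9 n31436 = n30157 := d43_2 (iv F137199) D31436 (iv D30157)
def n31437 : Q := act 7 n29470
theorem D31437 : act 7 n29470 = n31437 := rfl
theorem F146162 : act 0 n31437 = n30453 := d6_1 D31437 (iv D30453) (iv F137200)
theorem F146163 : act 1 n31437 = n30437 := d14_1 D31437 (iv D30437) (iv F137201)
theorem F146164 : act 2 n31437 = n29552 := d21_1 D31437 (iv D29552) (iv F137202)
theorem F146165 : act 4 n31437 = n29480 := d32_1 D31437 (iv D29480) (iv F137203)
theorem F146166 : act 5 n31437 = n29471 := d36_1 D31437 (iv D29471) D29470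
theorem F146167 : act 9 n31437 = n30158 := d43_2 (iv F137205) D31437 (iv D30158)
def n31438 : Q := act 8 n29470
theorem D31438 : act 8 n29470 = n31438 := rfl
theorem F146168 : act 0 n31438 = n30454 := d7_1 D31438 (iv D30454) (iv F137200)
theorem F146169 : act 1 n31438 = n30438 := d15_1 D31438 (iv D30438) (iv F137201)
theorem F146170 : act 2 n31438 = n29553 := d22_1 D31438 (iv D29553) (iv F137202)
theorem F146171 : act 4 n31438 = n29481 := d33_1 D31438 (iv D29481) (iv F137203)
theorem F146172 : act 5 n31438 = n31438 := d37_1 D31438 (iv D31438) (iv D29470) F106795 D29470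
theorem F146173 : act 6 n31438 = n30311 := d40_1 D31438 F141143 (iv F137204)
theorem F146174 : act 9 n31438 = n30297 := d44_2 (iv F137205) D31438 (iv D30297) (iv F138943) F138942
def n31439 : Q := act 1 n29472
theorem D31439 : act 1 n29472 = n31439 := rfl
theorem F146175 : act 2 n31439 = n30702 := d9_2 D29472 D31439 (iv D30702) (iv D25829) (iv F106806)
theorem F146176 : act 3 n31439 = n29554 := d10_2 (iv F137214) D31439 (iv D29554)
theorem F146177 : act 4 n31439 = n30449 := d11_2 (iv F137215) D31439 (iv D30449)
theorem F146178 : act 5 n31439 = n30372 := d12_2 (iv F137216) D31439 (iv D30372)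
theorem F146179 : act 7 n31439 = n29482 := d14_2 (iv F137217) D31439 (iv D29482)
theorem F146180 : act 8 n31439 = n31439 := d15_2 F137218 D31439 (iv D31439)
theorem F146181 : act 9 n31439 = n29476 := d16_2 (iv F137219) D31439 (iv D29476)
def n31440 : Q := act 6 n29472
theorem D31440 : act 6 n29472 = n31440 := rfl
theorem F146182 : act 0 n31440 = n30386 := d5_1 D31440 (iv D30386) (iv F137213)
theorem F146183 : act 2 n31440 = n29473 := d20_1 D31440 (iv D29473) D29472
theorem F146184 : act 3 n31440 = n29555 := d26_1 D31440 (iv D29555) (iv F137214)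
theorem F146185 : act 4 n31440 = n30450 := d31_1 D31440 (iv D30450) (iv F137215)
theorem F146186 : act 8 n31440 = n31440 := d40_2 F137218 D31440 (iv D31440)
theorem F146187 : act 9 n31440 = n29477 := d41_2 (iv F137219) D31440 (iv D29477)
def n31441 : Q := act 5 n29473
theorem D31441 : act 5 n29473 = n31441 := rfl
theorem F146188 : act 0 n31441 = n30387 := d4_1 D31441 (iv D30387) (iv F137220)
theorem F146189 : act 1 n31441 = n30704 := d12_1 D31441 (iv D30704) (iv F137221)
theorem F146190 : act 3 n31441 = n29474 := d25_1 D31441 (iv D29474) (iv F137222)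
theorem F146191 : act 6 n31441 = n30374 := d35_2 D29473 D31441 (iv D30374) (iv D25452) (iv F106808)
theorem F146192 : act 9 n31441 = n29478 := d38_2 (iv F137225) D31441 (iv D29478)
def n31442 : Q := act 7 n29473
theorem D31442 : act 7 n29473 = n31442 := rfl
theorem F146193 : act 0 n31442 = n30388 := d6_1 D31442 (iv D30388) (iv F137220)
theorem F146194 : act 1 n31442 = n30705 := d14_1 D31442 (iv D30705) (iv F137221)
theorem F146195 : act 3 n31442 = n29475 := d27_1 D31442 (iv D29475) (iv F137222)
theorem F146196 : act 4 n31442 = n30452 := d32_1 D31442 (iv D30452) (iv F137223)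
theorem F146197 : act 6 n31442 = n29485 := d39_1 D31442 (iv D29485) (iv D23792) (iv F106809) D29473
theorem F146198 : act 8 n31442 = n31442 := d42_2 F137224 D31442 (iv D31442)
theorem F146199 : act 9 n31442 = n29479 := d43_2 (iv F137225) D31442 (iv D29479)
def n31443 : Q := act 7 n29474
theorem D31443 : act 7 n29474 = n31443 := rfl
theorem F146200 : act 0 n31443 = n30389 := d6_1 D31443 (iv D30389) (iv F137226)
theorem F146201 : act 1 n31443 = n30706 := d14_1 D31443 (iv D30706) (iv F137227)
theorem F146202 : act 2 n31443 = n29558 := d21_1 D31443 (iv D29558) (iv F137228)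
theorem F146203 : act 4 n31443 = n30158 := d32_1 D31443 (iv D30158) (iv F137229)
theorem F146204 : act 5 n31443 = n29475 := d36_1 D31443 (iv D29475) D29474
theorem F146205 : act 9 n31443 = n29480 := d43_2 (iv F137231) D31443 (iv D29480)
def n31444 : Q := act 8 n29474
theorem D31444 : act 8 n29474 = n31444 := rfl
theorem F146206 : act 0 n31444 = n30390 := d7_1 D31444 (iv D30390) (iv F137226)
theorem F146207 : act 1 n31444 = n30707 := d15_1 D31444 (iv D30707) (iv F137227)
theorem F146208 : act 2 n31444 = n29559 := d22_1 D31444 (iv D29559) (iv F137228)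
theorem F146209 : act 4 n31444 = n29828 := d33_1 D31444 F138942 (iv F137229)
theorem F146210 : act 5 n31444 = n31444 := d37_1 D31444 (iv D31444) (iv D29474) F106816 D29474
theorem F146211 : act 6 n31444 = n29864 := d40_1 D31444 F139115 (iv F137230)
theorem F146212 : act 9 n30295 = n31444 := d41_0 F146211 F139116 (iv F141098)
def n31445 : Q := act 0 n29476
theorem D31445 : act 0 n29476 = n31445 := rfl
theorem F146213 : act 1 n31445 = n30455 := d0_2 D29476 D31445 (iv D30455) (iv D25528) (iv F106826)
theorem F146214 : act 2 n31445 = n30101 := d1_2 (iv F137239) D31445 F140352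
theorem F146215 : act 3 n31445 = n29560 := d2_2 (iv F137240) D31445 (iv D29560)
theorem F146216 : act 4 n31445 = n30098 := d3_2 (iv F137241) D31445 F140335
theorem F146217 : act 6 n31445 = n30170 := d5_2 F144671 D31445 (iv F144666)
theorem F146218 : act 7 n31445 = n29488 := d6_2 (iv F137242) D31445 (iv D29488)
theorem F146219 : act 8 n31445 = n29498 := d7_2 (iv F137243) D31445 (iv D29498)
def n31446 : Q := act 5 n29477
theorem D31446 : act 5 n29477 = n31446 := rfl
theorem F146220 : act 0 n31446 = n30457 := d4_1 D31446 (iv D30457) (iv F137244)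
theorem F146221 : act 2 n31446 = n29478 := d19_1 D31446 (iv D29478) (iv F137245)
theorem F146222 : act 3 n31446 = n29561 := d25_1 D31446 (iv D29561) (iv F137246)
def n31447 : Q := act 7 n29477
theorem D31447 : act 7 n29477 = n31447 := rfl
theorem F146223 : act 0 n31447 = n30458 := d6_1 D31447 (iv D30458) (iv F137244)
theorem F146224 : act 2 n31447 = n29479 := d21_1 D31447 (iv D29479) (iv F137245)
theorem F146225 : act 3 n31447 = n29562 := d27_1 D31447 (iv D29562) (iv F137246)
theorem F146226 : act 4 n31447 = n30671 := d32_1 D31447 (iv D30671) (iv F137247)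
theorem F146227 : act 6 n31447 = n29491 := d39_1 D31447 (iv D29491) (iv D23796) (iv F106829) D29477
theorem F146228 : act 8 n31447 = n29499 := d42_2 (iv F137248) D31447 (iv D29499)
def n31448 : Q := act 4 n29478
theorem D31448 : act 4 n29478 = n31448 := rfl
theorem F146229 : act 0 n31448 = n30459 := d3_1 D31448 (iv D30459) (iv F137249)
theorem F146230 : act 1 n31448 = n30711 := d11_1 D31448 (iv D30711) (iv F137250)
theorem F146231 : act 5 n31448 = n30672 := d30_2 D29478 D31448 (iv D30672) (iv D25766) (iv F106834)
def n31449 : Q := act 7 n29478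
theorem D31449 : act 7 n29478 = n31449 := rfl
theorem F146232 : act 0 n31449 = n30460 := d6_1 D31449 (iv D30460) (iv F137249)
theorem F146233 : act 1 n31449 = n30712 := d14_1 D31449 (iv D30712) (iv F137250)
theorem F146234 : act 3 n31449 = n29480 := d27_1 D31449 (iv D29480) (iv F137251)
theorem F146235 : act 5 n31449 = n29479 := d36_1 D31449 (iv D29479) D29478
def n31450 : Q := act 8 n29478
theorem D31450 : act 8 n29478 = n31450 := rfl
theorem F146236 : act 0 n31450 = n30461 := d7_1 D31450 (iv D30461) (iv F137249)
theorem F146237 : act 1 n31450 = n30713 := d15_1 D31450 (iv D30713) (iv F137250)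
theorem F146238 : act 3 n31450 = n29481 := d28_1 D31450 (iv D29481) (iv F137251)
theorem F146239 : act 5 n31450 = n29501 := d37_1 D31450 (iv D29501) (iv D23803) (iv F106835) D29478
def n31451 : Q := act 6 n29480
theorem D31451 : act 6 n29480 = n31451 := rfl
theorem F146240 : act 0 n31451 = n30462 := d5_1 D31451 (iv D30462) (iv F137258)
theorem F146241 : act 1 n31451 = n30714 := d13_1 D31451 (iv D30714) (iv F137259)
theorem F146242 : act 2 n31451 = n29566 := d20_1 D31451 (iv D29566) (iv F137260)
theorem F146243 : act 5 n31451 = n29495 := d35_1 D31451 (iv D29495) F106878 (iv F106843) (iv F137261)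
def n31452 : Q := act 8 n29480
theorem D31452 : act 8 n29480 = n31452 := rfl
theorem F146244 : act 0 n31452 = n30463 := d7_1 D31452 (iv D30463) (iv F137258)
theorem F146245 : act 1 n31452 = n30715 := d15_1 D31452 (iv D30715) (iv F137259)
theorem F146246 : act 2 n31452 = n29567 := d22_1 D31452 (iv D29567) (iv F137260)
theorem F146247 : act 5 n31452 = n29503 := d37_1 D31452 (iv D29503) F106909 (iv F106844) (iv F137261)
theorem F146248 : act 7 n31452 = n29481 := d42_1 D31452 (iv D29481) D29480
def n31453 : Q := act 9 n29481
theorem D31453 : act 9 n29481 = n31453 := rfl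
theorem F146249 : act 0 n31453 = n30464 := d8_1 D31453 (iv D30464) (iv F137262)
theorem F146250 : act 1 n31453 = n30716 := d16_1 D31453 (iv D30716) (iv F137263)
theorem F146251 : act 2 n31453 = n29568 := d23_1 D31453 (iv D29568) (iv F137264)
theorem F146252 : act 4 n31453 = n30297 := d34_1 D31453 (iv F146174) F146171
theorem F146253 : act 5 n31453 = n29504 := d38_1 D31453 (iv D29504) (iv F137265)
theorem F146254 : act 6 n31453 = n30308 := d41_1 D31453 (iv F146056) F146055
theorem F146255 : act 8 n31453 = n30295 := d44_1 D31453 F146212 (iv D31444) F137231 D29481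
def n31454 : Q := act 0 n29482
theorem D31454 : act 0 n29482 = n31454 := rfl
theorem F146256 : act 1 n31454 = n30465 := d0_2 D29482 D31454 (iv D30465) (iv D25534) (iv F106845)
theorem F146257 : act 2 n31454 = n30103 := d1_2 (iv F137266) D31454 F140360
theorem F146258 : act 3 n31454 = n29569 := d2_2 (iv F137267) D31454 (iv D29569)
theorem F146259 : act 4 n31454 = n30099 := d3_2 (iv F137268) D31454 F140341
theorem F146260 : act 8 n31454 = n31454 := d7_2 F137269 D31454 (iv D31454)
theorem F146261 : act 9 n31454 = n29488 := d8_2 (iv F137270) D31454 (iv D29488)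
def n31455 : Q := act 6 n29482
theorem D31455 : act 6 n29482 = n31455 := rfl
theorem F146262 : act 1 n31455 = n29483 := d13_1 D31455 (iv D29483) D29482
theorem F146263 : act 2 n31455 = n30943 := d20_1 D31455 F143453 (iv F137266)
theorem F146264 : act 3 n31455 = n29570 := d26_1 D31455 (iv D29570) (iv F137267)
theorem F146265 : act 4 n31455 = n30743 := d31_1 D31455 (iv D30743) (iv F137268)
theorem F146266 : act 8 n31455 = n31455 := d40_2 F137269 D31455 (iv D31455)
theorem F146267 : act 9 n31455 = n29489 := d41_2 (iv F137270) D31455 (iv D29489)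
def n31456 : Q := act 5 n29483
theorem D31456 : act 5 n29483 = n31456 := rfl
theorem F146268 : act 0 n31456 = n30467 := d4_1 D31456 (iv D30467) (iv F137271)
theorem F146269 : act 2 n31456 = n29484 := d19_1 D31456 (iv D29484) (iv F137272)
theorem F146270 : act 3 n31456 = n29571 := d25_1 D31456 (iv D29571) (iv F137273)
theorem F146271 : act 9 n31456 = n29490 := d38_2 (iv F137276) D31456 (iv D29490)
def n31457 : Q := act 7 n29483
theorem D31457 : act 7 n29483 = n31457 := rfl
theorem F146272 : act 0 n31457 = n30468 := d6_1 D31457 (iv D30468) (iv F137271)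
theorem F146273 : act 2 n31457 = n29485 := d21_1 D31457 (iv D29485) (iv F137272)
theorem F146274 : act 3 n31457 = n29572 := d27_1 D31457 (iv D29572) (iv F137273)
theorem F146275 : act 4 n31457 = n30745 := d32_1 D31457 (iv D30745) (iv F137274)
theorem F146276 : act 8 n31457 = n31457 := d42_2 F137275 D31457 (iv D31457)
theorem F146277 : act 9 n31457 = n29491 := d43_2 (iv F137276) D31457 (iv D29491)
def n31458 : Q := act 4 n29484
theorem D31458 : act 4 n29484 = n31458 := rfl
theorem F146278 : act 0 n31458 = n30469 := d3_1 D31458 (iv D30469) (iv F137277)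
theorem F146279 : act 3 n31458 = n29775 := d24_1 D31458 (iv D29775) F108112 (iv F106857) (iv F137278)
theorem F146280 : act 5 n31458 = n30746 := d30_2 D29484 D31458 (iv D30746) (iv D25863) (iv F106852)
theorem F146281 : act 9 n31458 = n29492 := d34_2 (iv F137279) D31458 (iv D29492)
def n31459 : Q := act 7 n29484
theorem D31459 : act 7 n29484 = n31459 := rfl
theorem F146282 : act 0 n31459 = n30470 := d6_1 D31459 (iv D30470) (iv F137277)
theorem F146283 : act 3 n31459 = n29486 := d27_1 D31459 (iv D29486) (iv F137278)
theorem F146284 : act 5 n31459 = n29485 := d36_1 D31459 (iv D29485) D29484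
theorem F146285 : act 9 n31459 = n29493 := d43_2 (iv F137279) D31459 (iv D29493)
def n31460 : Q := act 8 n29484
theorem D31460 : act 8 n29484 = n31460 := rfl
theorem F146286 : act 0 n31460 = n30471 := d7_1 D31460 (iv D30471) (iv F137277)
theorem F146287 : act 3 n31460 = n29487 := d28_1 D31460 (iv D29487) (iv F137278)
theorem F146288 : act 5 n31460 = n31460 := d37_1 D31460 (iv D31460) (iv D29484) F106853 D29484
def n31461 : Q := act 6 n29486
theorem D31461 : act 6 n29486 = n31461 := rfl
theorem F146289 : act 0 n31461 = n30472 := d5_1 D31461 (iv D30472) (iv F137285)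
theorem F146290 : act 2 n31461 = n29576 := d20_1 D31461 (iv D29576) (iv F137286)
theorem F146291 : act 4 n31461 = n29778 := d31_1 D31461 (iv D29778) (iv F137287)
theorem F146292 : act 9 n31461 = n29495 := d41_2 (iv F137289) D31461 (iv D29495)
def n31462 : Q := act 8 n29486
theorem D31462 : act 8 n29486 = n31462 := rfl
theorem F146293 : act 0 n31462 = n30473 := d7_1 D31462 (iv D30473) (iv F137285)
theorem F146294 : act 2 n31462 = n29577 := d22_1 D31462 (iv D29577) (iv F137286)
theorem F146295 : act 4 n31462 = n29779 := d33_1 D31462 (iv D29779) (iv F137287)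
theorem F146296 : act 5 n31462 = n31462 := d37_1 D31462 (iv D31462) F137288 F106862 (iv F137288)
theorem F146297 : act 7 n31462 = n29487 := d42_1 D31462 (iv D29487) D29486
def n31463 : Q := act 9 n29487
theorem D31463 : act 9 n29487 = n31463 := rfl
theorem F146298 : act 0 n31463 = n30474 := d8_1 D31463 (iv D30474) (iv F137290)
theorem F146299 : act 2 n31463 = n29578 := d23_1 D31463 (iv D29578) (iv F137291)
theorem F146300 : act 4 n31463 = n29780 := d34_1 D31463 (iv D29780) (iv F137292)
theorem F146301 : act 5 n31463 = n31463 := d38_1 D31463 (iv D31463) F137293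
theorem F146302 : act 8 n31463 = n29497 := d44_1 D31463 (iv D29497) (iv D23800) (iv F106858) D29487
def n31464 : Q := act 6 n29488
theorem D31464 : act 6 n29488 = n31464 := rfl
theorem F146303 : act 0 n31464 = n29489 := d5_1 D31464 (iv D29489) D29488
theorem F146304 : act 1 n31464 = n30475 := d13_1 D31464 (iv D30475) (iv F137294)
theorem F146305 : act 2 n31464 = n30091 := d20_1 D31464 F140306 (iv F137295)
theorem F146306 : act 3 n31464 = n29579 := d26_1 D31464 (iv D29579) (iv F137296)
theorem F146307 : act 4 n31464 = n30089 := d31_1 D31464 F140298 (iv F137297)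
theorem F146308 : act 8 n31464 = n29505 := d40_2 (iv F137298) D31464 (iv D29505)
def n31465 : Q := act 5 n29489
theorem D31465 : act 5 n29489 = n31465 := rfl
theorem F146309 : act 1 n31465 = n29490 := d12_1 D31465 (iv D29490) (iv F137299)
theorem F146310 : act 2 n31465 = n30942 := d19_1 D31465 (iv D30942) (iv F137300)
theorem F146311 : act 3 n31465 = n29580 := d25_1 D31465 (iv D29580) (iv F137301)
def n31466 : Q := act 7 n29489
theorem D31466 : act 7 n29489 = n31466 := rfl
theorem F146312 : act 1 n31466 = n29491 := d14_1 D31466 (iv D29491) (iv F137299)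
theorem F146313 : act 2 n31466 = n30941 := d21_1 D31466 F143449 (iv F137300)
theorem F146314 : act 3 n31466 = n29581 := d27_1 D31466 (iv D29581) (iv F137301)
theorem F146315 : act 4 n31466 = n30940 := d32_1 D31466 F143446 (iv F137302)
theorem F146316 : act 8 n31466 = n29507 := d42_2 (iv F137303) D31466 (iv D29507)
def n31467 : Q := act 4 n29490
theorem D31467 : act 4 n29490 = n31467 := rfl
theorem F146317 : act 0 n31467 = n30478 := d3_1 D31467 (iv D30478) (iv F137304)
theorem F146318 : act 2 n31467 = n29492 := d18_1 D31467 (iv D29492) (iv F137305)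
def n31468 : Q := act 7 n29490
theorem D31468 : act 7 n29490 = n31468 := rfl
theorem F146319 : act 0 n31468 = n30479 := d6_1 D31468 (iv D30479) (iv F137304)
theorem F146320 : act 2 n31468 = n29493 := d21_1 D31468 (iv D29493) (iv F137305)
theorem F146321 : act 3 n31468 = n29583 := d27_1 D31468 (iv D29583) (iv F137306)
theorem F146322 : act 5 n31468 = n29491 := d36_1 D31468 (iv D29491) D29490
def n31469 : Q := act 8 n29490
theorem D31469 : act 8 n29490 = n31469 := rfl
theorem F146323 : act 0 n31469 = n30480 := d7_1 D31469 (iv D30480) (iv F137304)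
theorem F146324 : act 2 n31469 = n29494 := d22_1 D31469 (iv D29494) (iv F137305)
theorem F146325 : act 3 n31469 = n29584 := d28_1 D31469 (iv D29584) (iv F137306)
theorem F146326 : act 5 n31469 = n29510 := d37_1 D31469 (iv D29510) (iv D23809) (iv F106869) D29490
def n31470 : Q := act 7 n29492
theorem D31470 : act 7 n29492 = n31470 := rfl
theorem F146327 : act 0 n31470 = n30481 := d6_1 D31470 (iv D30481) (iv F137311)
theorem F146328 : act 3 n31470 = n29787 := d27_1 D31470 (iv D29787) (iv F137312)
theorem F146329 : act 4 n31470 = n29493 := d32_1 D31470 (iv D29493) D29492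
def n31471 : Q := act 8 n29492
theorem D31471 : act 8 n29492 = n31471 := rfl
theorem F146330 : act 0 n31471 = n30482 := d7_1 D31471 (iv D30482) (iv F137311)
theorem F146331 : act 3 n31471 = n29788 := d28_1 D31471 (iv D29788) (iv F137312)
theorem F146332 : act 4 n31471 = n29494 := d33_1 D31471 (iv D29494) D29492
def n31472 : Q := act 6 n29493
theorem D31472 : act 6 n29493 = n31472 := rfl
theorem F146333 : act 0 n31472 = n30483 := d5_1 D31472 (iv D30483) (iv F137313)
theorem F146334 : act 3 n31472 = n29495 := d26_1 D31472 (iv D29495) (iv F137314)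
def n31473 : Q := act 8 n29493
theorem D31473 : act 8 n29493 = n31473 := rfl
theorem F146335 : act 0 n31473 = n30484 := d7_1 D31473 (iv D30484) (iv F137313)
theorem F146336 : act 3 n31473 = n29496 := d28_1 D31473 (iv D29496) (iv F137314)
theorem F146337 : act 5 n31473 = n29514 := d37_1 D31473 (iv D29514) F106938 (iv F106874) (iv F137315)
theorem F146338 : act 7 n31473 = n29494 := d42_1 D31473 (iv D29494) D29493
def n31474 : Q := act 9 n29494
theorem D31474 : act 9 n29494 = n31474 := rfl
theorem F146339 : act 0 n31474 = n30485 := d8_1 D31474 (iv D30485) (iv F137316)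
theorem F146340 : act 3 n31474 = n29497 := d29_1 D31474 (iv D29497) (iv F137317)
theorem F146341 : act 5 n31474 = n29515 := d38_1 D31474 (iv D29515) (iv F137318)
def n31475 : Q := act 8 n29495
theorem D31475 : act 8 n29495 = n31475 := rfl
theorem F146342 : act 0 n31475 = n30486 := d7_1 D31475 (iv D30486) (iv F137319)
theorem F146343 : act 2 n31475 = n29590 := d22_1 D31475 (iv D29590) (iv F137320)
theorem F146344 : act 4 n31475 = n29792 := d33_1 D31475 (iv D29792) (iv F137321)
theorem F146345 : act 6 n31475 = n29496 := d40_1 D31475 (iv D29496) D29495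
def n31476 : Q := act 9 n29496
theorem D31476 : act 9 n29496 = n31476 := rfl
theorem F146346 : act 0 n31476 = n30487 := d8_1 D31476 (iv D30487) (iv F137322)
theorem F146347 : act 2 n31476 = n29591 := d23_1 D31476 (iv D29591) (iv F137323)
theorem F146348 : act 4 n31476 = n29793 := d34_1 D31476 (iv D29793) (iv F137324)
theorem F146349 : act 5 n31476 = n29517 := d38_1 D31476 (iv D29517) (iv F137325)
theorem F146350 : act 7 n31476 = n29497 := d43_1 D31476 (iv D29497) (iv F137326)
def n31477 : Q := act 6 n29500
theorem D31477 : act 6 n29500 = n31477 := rfl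
theorem F146351 : act 0 n31477 = n30493 := d5_1 D31477 (iv D30493) (iv F137345)
theorem F146352 : act 1 n31477 = n30935 := d13_1 D31477 (iv D30935) (iv F137346)
theorem F146353 : act 3 n31477 = n29502 := d26_1 D31477 (iv D29502) (iv F137347)
theorem F146354 : act 5 n31477 = n29513 := d35_1 D31477 (iv D29513) F106938 (iv F106903) (iv F137348)
theorem F146355 : act 7 n31477 = n31477 := d39_2 D29500 D31477 (iv D31477) (iv D29500) F106897
theorem F146356 : act 9 n31477 = n31477 := d41_2 F137349 D31477 (iv D31477)
def n31478 : Q := act 8 n29500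
theorem D31478 : act 8 n29500 = n31478 := rfl
theorem F146357 : act 0 n31478 = n30494 := d7_1 D31478 (iv D30494) (iv F137345)
theorem F146358 : act 1 n31478 = n30936 := d15_1 D31478 (iv D30936) (iv F137346)
theorem F146359 : act 3 n31478 = n29503 := d28_1 D31478 (iv D29503) (iv F137347)
theorem F146360 : act 7 n31478 = n29501 := d42_1 D31478 (iv D29501) D29500
def n31479 : Q := act 9 n29501
theorem D31479 : act 9 n29501 = n31479 := rfl
theorem F146361 : act 0 n31479 = n30495 := d8_1 D31479 (iv D30495) (iv F137350)
theorem F146362 : act 1 n31479 = n30937 := d16_1 D31479 (iv D30937) (iv F137351)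
theorem F146363 : act 2 n31479 = n30116 := d23_1 D31479 F145910 F145906
theorem F146364 : act 3 n31479 = n29504 := d29_1 D31479 (iv D29504) (iv F137352)
theorem F146365 : act 6 n31479 = n31479 := d41_1 D31479 (iv D31479) F137353
theorem F146366 : act 8 n31479 = n31479 := d44_1 D31479 (iv D31479) (iv D29501) F106898 D29501
def n31480 : Q := act 8 n29502
theorem D31480 : act 8 n29502 = n31480 := rfl
theorem F146367 : act 0 n31480 = n30496 := d7_1 D31480 (iv D30496) (iv F137354)
theorem F146368 : act 1 n31480 = n30938 := d15_1 D31480 (iv D30938) (iv F137355)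
theorem F146369 : act 2 n31480 = n29594 := d22_1 D31480 (iv D29594) (iv F137356)
theorem F146370 : act 4 n31480 = n31480 := d33_1 D31480 (iv D31480) F137357
theorem F146371 : act 6 n31480 = n29503 := d40_1 D31480 (iv D29503) D29502
theorem F146372 : act 7 n31480 = n31480 := d42_1 D31480 (iv D31480) F137359
def n31481 : Q := act 9 n29503
theorem D31481 : act 9 n29503 = n31481 := rfl
theorem F146373 : act 0 n31481 = n30497 := d8_1 D31481 (iv D30497) (iv F137361)
theorem F146374 : act 1 n31481 = n30939 := d16_1 D31481 (iv D30939) (iv F137362)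
theorem F146375 : act 2 n31481 = n29595 := d23_1 D31481 (iv D29595) (iv F137363)
theorem F146376 : act 4 n31481 = n31481 := d34_1 D31481 (iv D31481) F137364
theorem F146377 : act 7 n31481 = n29504 := d43_1 D31481 (iv D29504) (iv F137365)
theorem F146378 : act 8 n31481 = n31481 := d44_1 D31481 (iv D31481) (iv D29503) F106910 D29503
def n31482 : Q := act 5 n29505
theorem D31482 : act 5 n29505 = n31482 := rfl
theorem F146379 : act 0 n31482 = n29506 := d4_1 D31482 (iv D29506) (iv F137372)
theorem F146380 : act 1 n31482 = n30498 := d12_1 D31482 (iv D30498) (iv F137373)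
theorem F146381 : act 2 n31482 = n30076 := d19_1 D31482 F140233 (iv F137374)
theorem F146382 : act 3 n31482 = n29596 := d25_1 D31482 (iv D29596) (iv F137375)
theorem F146383 : act 4 n31482 = n30074 := d30_1 D31482 (iv D30074) F110687 D24606 (iv F137376)
theorem F146384 : act 6 n31482 = n31482 := d35_2 D29505 D31482 (iv D31482) (iv D29505) F106918
theorem F146385 : act 9 n31482 = n31482 := d38_2 F137377 D31482 (iv D31482)
def n31483 : Q := act 7 n29505
theorem D31483 : act 7 n29505 = n31483 := rfl
theorem F146386 : act 0 n31483 = n29507 := d6_1 D31483 (iv D29507) (iv F137372)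
theorem F146387 : act 1 n31483 = n30499 := d14_1 D31483 (iv D30499) (iv F137373)
theorem F146388 : act 2 n31483 = n30090 := d21_1 D31483 (iv D30090) (iv F137374)
theorem F146389 : act 3 n31483 = n29597 := d27_1 D31483 (iv D29597) (iv F137375)
theorem F146390 : act 4 n31483 = n30088 := d32_1 D31483 (iv D30088) (iv F137376)
theorem F146391 : act 6 n31483 = n30169 := d39_1 D31483 (iv D30169) (iv F137336) F137337 D29505
theorem F146392 : act 9 n31483 = n31483 := d43_2 F137377 D31483 (iv D31483)
def n31484 : Q := act 7 n29506
theorem D31484 : act 7 n29506 = n31484 := rfl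
theorem F146393 : act 1 n31484 = n29509 := d14_1 D31484 (iv D29509) (iv F137378)
theorem F146394 : act 2 n31484 = n30933 := d21_1 D31484 (iv D30933) (iv F137379)
theorem F146395 : act 3 n31484 = n29598 := d27_1 D31484 (iv D29598) (iv F137380)
theorem F146396 : act 4 n31484 = n30931 := d32_1 D31484 (iv D30931) (iv F137381)
theorem F146397 : act 5 n31484 = n29507 := d36_1 D31484 (iv D29507) D29506
theorem F146398 : act 9 n31484 = n31484 := d43_2 F137383 D31484 (iv D31484)
def n31485 : Q := act 8 n29506
theorem D31485 : act 8 n29506 = n31485 := rfl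
theorem F146399 : act 1 n31485 = n29510 := d15_1 D31485 (iv D29510) (iv F137378)
theorem F146400 : act 2 n31485 = n30934 := d22_1 D31485 (iv D30934) (iv F137379)
theorem F146401 : act 3 n31485 = n29599 := d28_1 D31485 (iv D29599) (iv F137380)
theorem F146402 : act 4 n31485 = n30932 := d33_1 D31485 (iv D30932) (iv F137381)
theorem F146403 : act 6 n31485 = n31485 := d40_1 D31485 (iv D31485) F137382
def n31486 : Q := act 7 n29508
theorem D31486 : act 7 n29508 = n31486 := rfl
theorem F146404 : act 0 n31486 = n30503 := d6_1 D31486 (iv D30503) (iv F137389)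
theorem F146405 : act 1 n31486 = n30931 := d14_1 D31486 (iv D30931) (iv F137390)
theorem F146406 : act 2 n31486 = n29511 := d21_1 D31486 (iv D29511) (iv F137391)
theorem F146407 : act 3 n31486 = n31486 := d27_1 D31486 (iv D31486) F137392
theorem F146408 : act 4 n31486 = n29509 := d32_1 D31486 (iv D29509) D29508
theorem F146409 : act 5 n31486 = n30930 := d36_1 D31486 (iv D30930) (iv F137393)
theorem F146410 : act 9 n31486 = n31486 := d43_2 F137395 D31486 (iv D31486)
def n31487 : Q := act 8 n29508
theorem D31487 : act 8 n29508 = n31487 := rfl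
theorem F146411 : act 0 n31487 = n30504 := d7_1 D31487 (iv D30504) (iv F137389)
theorem F146412 : act 1 n31487 = n30932 := d15_1 D31487 (iv D30932) (iv F137390)
theorem F146413 : act 2 n31487 = n29512 := d22_1 D31487 (iv D29512) (iv F137391)
theorem F146414 : act 3 n31487 = n31487 := d28_1 D31487 (iv D31487) F137392
theorem F146415 : act 4 n31487 = n29510 := d33_1 D31487 (iv D29510) D29508
theorem F146416 : act 6 n31487 = n31487 := d40_1 D31487 (iv D31487) F137394
def n31488 : Q := act 6 n29509
theorem D31488 : act 6 n29509 = n31488 := rfl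
theorem F146417 : act 0 n31488 = n30505 := d5_1 D31488 (iv D30505) (iv F137396)
theorem F146418 : act 2 n31488 = n29513 := d20_1 D31488 (iv D29513) (iv F137397)
theorem F146419 : act 3 n31488 = n29600 := d26_1 D31488 (iv D29600) (iv F137398)
theorem F146420 : act 7 n31488 = n31488 := d39_2 D29509 D31488 (iv D31488) (iv D29509) F106926
theorem F146421 : act 9 n31488 = n31488 := d41_2 F137400 D31488 (iv D31488)
def n31489 : Q := act 8 n29509
theorem D31489 : act 8 n29509 = n31489 := rfl
theorem F146422 : act 0 n31489 = n30506 := d7_1 D31489 (iv D30506) (iv F137396)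
theorem F146423 : act 2 n31489 = n29514 := d22_1 D31489 (iv D29514) (iv F137397)
theorem F146424 : act 3 n31489 = n29601 := d28_1 D31489 (iv D29601) (iv F137398)
theorem F146425 : act 7 n31489 = n29510 := d42_1 D31489 (iv D29510) D29509
def n31490 : Q := act 9 n29510
theorem D31490 : act 9 n29510 = n31490 := rfl
theorem F146426 : act 0 n31490 = n30507 := d8_1 D31490 (iv D30507) (iv F137401)
theorem F146427 : act 2 n31490 = n29515 := d23_1 D31490 (iv D29515) (iv F137402)
theorem F146428 : act 3 n31490 = n29602 := d29_1 D31490 (iv D29602) (iv F137403)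
theorem F146429 : act 6 n31490 = n31490 := d41_1 D31490 (iv D31490) F137404
theorem F146430 : act 8 n31490 = n31490 := d44_1 D31490 (iv D31490) (iv D29510) F106927 D29510
def n31491 : Q := act 6 n29511
theorem D31491 : act 6 n29511 = n31491 := rfl
theorem F146431 : act 0 n31491 = n30508 := d5_1 D31491 (iv D30508) (iv F137405)
theorem F146432 : act 3 n31491 = n29518 := d26_1 D31491 (iv D29518) (iv F137406)
theorem F146433 : act 4 n31491 = n29513 := d31_1 D31491 (iv D29513) (iv F137407)
theorem F146434 : act 7 n31491 = n31491 := d39_2 D29511 D31491 (iv D31491) (iv D29511) F106934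
theorem F146435 : act 9 n31491 = n31491 := d41_2 F137408 D31491 (iv D31491)
def n31492 : Q := act 8 n29511
theorem D31492 : act 8 n29511 = n31492 := rfl
theorem F146436 : act 0 n31492 = n30509 := d7_1 D31492 (iv D30509) (iv F137405)
theorem F146437 : act 3 n31492 = n29519 := d28_1 D31492 (iv D29519) (iv F137406)
theorem F146438 : act 4 n31492 = n29514 := d33_1 D31492 (iv D29514) (iv F137407)
theorem F146439 : act 7 n31492 = n29512 := d42_1 D31492 (iv D29512) D29511
def n31493 : Q := act 5 n29512
theorem D31493 : act 5 n29512 = n31493 := rfl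
theorem F146440 : act 0 n31493 = n30510 := d4_1 D31493 (iv D30510) (iv F137409)
theorem F146441 : act 3 n31493 = n29520 := d25_1 D31493 (iv D29520) (iv F137410)
def n31494 : Q := act 9 n29512
theorem D31494 : act 9 n29512 = n31494 := rfl
theorem F146442 : act 0 n31494 = n29926 := d8_1 D31494 F139422 (iv F137409)
theorem F146443 : act 1 n31494 = n30116 := d16_1 D31494 F145910 F145905
theorem F146444 : act 3 n31494 = n29521 := d29_1 D31494 (iv D29521) (iv F137410)
theorem F146445 : act 4 n31494 = n29515 := d34_1 D31494 (iv D29515) (iv F137411)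
theorem F146446 : act 6 n31494 = n31494 := d41_1 D31494 (iv D31494) F137412
theorem F146447 : act 8 n31494 = n31494 := d44_1 D31494 (iv D31494) (iv D29512) F106935 D29512
def n31495 : Q := act 8 n29513
theorem D31495 : act 8 n29513 = n31495 := rfl
theorem F146448 : act 0 n31495 = n30511 := d7_1 D31495 (iv D30511) (iv F137413)
theorem F146449 : act 3 n31495 = n29516 := d28_1 D31495 (iv D29516) (iv F137414)
theorem F146450 : act 6 n31495 = n29514 := d40_1 D31495 (iv D29514) D29513
theorem F146451 : act 7 n31495 = n31495 := d42_1 D31495 (iv D31495) F137415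
def n31496 : Q := act 9 n29514
theorem D31496 : act 9 n29514 = n31496 := rfl
theorem F146452 : act 0 n31496 = n30512 := d8_1 D31496 (iv D30512) (iv F137417)
theorem F146453 : act 3 n31496 = n29517 := d29_1 D31496 (iv D29517) (iv F137418)
theorem F146454 : act 7 n31496 = n29515 := d43_1 D31496 (iv D29515) (iv F137419)
theorem F146455 : act 8 n31496 = n31496 := d44_1 D31496 (iv D31496) (iv D29514) F106939 D29514
def n31497 : Q := act 5 n29516
theorem D31497 : act 5 n29516 = n31497 := rfl
theorem F146456 : act 0 n31497 = n30513 := d4_1 D31497 (iv D30513) (iv F137424)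
theorem F146457 : act 2 n31497 = n29605 := d19_1 D31497 (iv D29605) (iv F137425)
theorem F146458 : act 7 n31497 = n31497 := d36_2 F137428 D31497 (iv D31497)
def n31498 : Q := act 9 n29516
theorem D31498 : act 9 n29516 = n31498 := rfl
theorem F146459 : act 0 n31498 = n30514 := d8_1 D31498 (iv D30514) (iv F137424)
theorem F146460 : act 2 n31498 = n29606 := d23_1 D31498 (iv D29606) (iv F137425)
theorem F146461 : act 4 n31498 = n29525 := d34_1 D31498 (iv D29525) (iv F137426)
theorem F146462 : act 6 n31498 = n29517 := d41_1 D31498 (iv D29517) (iv F137427)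
theorem F146463 : act 7 n31498 = n31498 := d43_1 D31498 (iv D31498) F137428
theorem F146464 : act 8 n31498 = n31498 := d44_1 D31498 (iv D31498) (iv D29516) F106947 D29516
def n31499 : Q := act 5 n29518
theorem D31499 : act 5 n29518 = n31499 := rfl
theorem F146465 : act 0 n31499 = n30515 := d4_1 D31499 (iv D30515) (iv F137434)
theorem F146466 : act 1 n31499 = n29600 := d12_1 D31499 (iv F145949) F145946
theorem F146467 : act 2 n31499 = n31499 := d19_1 D31499 (iv D31499) F137435
theorem F146468 : act 4 n31499 = n31499 := d30_1 D31499 (iv D31499) F137436 F106968 (iv F137436)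
theorem F146469 : act 6 n31499 = n29598 := d35_2 D29518 D31499 F137831 (iv F135885) F135884
theorem F146470 : act 7 n31499 = n31499 := d36_2 F137437 D31499 (iv D31499)
theorem F146471 : act 9 n31499 = n31499 := d38_2 F137438 D31499 (iv D31499)
def n31500 : Q := act 8 n29518
theorem D31500 : act 8 n29518 = n31500 := rfl
theorem F146472 : act 0 n31500 = n30516 := d7_1 D31500 (iv D30516) (iv F137434)
theorem F146473 : act 2 n31500 = n31500 := d22_1 D31500 (iv D31500) F137435
theorem F146474 : act 4 n31500 = n29522 := d33_1 D31500 (iv D29522) (iv F137436)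
theorem F146475 : act 6 n31500 = n29519 := d40_1 D31500 (iv D29519) D29518
theorem F146476 : act 7 n31500 = n31500 := d42_1 D31500 (iv D31500) F137437
def n31501 : Q := act 5 n29519
theorem D31501 : act 5 n29519 = n31501 := rfl
theorem F146477 : act 0 n31501 = n30517 := d4_1 D31501 (iv D30517) (iv F137439)
theorem F146478 : act 2 n31501 = n31501 := d19_1 D31501 (iv D31501) F137440
theorem F146479 : act 4 n31501 = n29817 := d30_1 D31501 (iv D29817) F108265 (iv F106974) (iv F137441)
theorem F146480 : act 7 n31501 = n29520 := d36_2 (iv F137442) D31501 (iv D29520)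
def n31502 : Q := act 9 n29519
theorem D31502 : act 9 n29519 = n31502 := rfl
theorem F146481 : act 0 n31502 = n29927 := d8_1 D31502 F139427 (iv F137439)
theorem F146482 : act 1 n31502 = n29820 := d16_1 D31502 F145957 F145953
theorem F146483 : act 2 n31502 = n31502 := d23_1 D31502 (iv D31502) F137440
theorem F146484 : act 4 n31502 = n29523 := d34_1 D31502 (iv D29523) (iv F137441)
theorem F146485 : act 7 n31502 = n29521 := d43_1 D31502 (iv D29521) (iv F137442)
theorem F146486 : act 8 n31502 = n31502 := d44_1 D31502 (iv D31502) (iv D29519) F106960 D29519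
def n31503 : Q := act 6 n29520
theorem D31503 : act 6 n29520 = n31503 := rfl
theorem F146487 : act 0 n31503 = n30518 := d5_1 D31503 (iv D30518) (iv F137443)
theorem F146488 : act 2 n31503 = n31503 := d20_1 D31503 (iv D31503) F137444
theorem F146489 : act 4 n31503 = n29818 := d31_1 D31503 (iv D29818) (iv F137445)
theorem F146490 : act 5 n31503 = n31503 := d35_1 D31503 (iv D31503) (iv D29520) F106964 D29520
def n31504 : Q := act 9 n29520
theorem D31504 : act 9 n29520 = n31504 := rfl
theorem F146491 : act 0 n31504 = n29880 := d8_1 D31504 F139193 (iv F137443)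
theorem F146492 : act 1 n31504 = n30114 := d16_1 D31504 (iv F145963) F145959
theorem F146493 : act 2 n31504 = n31504 := d23_1 D31504 (iv D31504) F137444
theorem F146494 : act 4 n31504 = n29819 := d34_1 D31504 (iv D29819) (iv F137445)
theorem F146495 : act 5 n31504 = n29521 := d38_1 D31504 (iv D29521) D29520
def n31505 : Q := act 4 n29524
theorem D31505 : act 4 n29524 = n31505 := rfl
theorem F146496 : act 0 n31505 = n30519 := d3_1 D31505 (iv D30519) (iv F137464)
theorem F146497 : act 2 n31505 = n29607 := d18_1 D31505 (iv D29607) (iv F137465)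
theorem F146498 : act 6 n31505 = n29820 := d31_2 (iv F137466) D31505 (iv D29820)
theorem F146499 : act 7 n31505 = n31505 := d32_2 F137467 D31505 (iv D31505)
theorem F146500 : act 8 n31505 = n31505 := d33_2 F137468 D31505 (iv D31505)
def n31506 : Q := act 0 n29526
theorem D31506 : act 0 n29526 = n31506 := rfl
theorem F146501 : act 1 n31506 = n30521 := d0_2 D29526 D31506 (iv D30521) (iv D25581) (iv F106991)
theorem F146502 : act 2 n31506 = n31506 := d1_2 F137474 D31506 (iv D31506)
theorem F146503 : act 4 n31506 = n31506 := d3_2 F137475 D31506 (iv D31506)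
theorem F146504 : act 5 n31506 = n29560 := d4_2 (iv F137476) D31506 (iv D29560)
theorem F146505 : act 7 n31506 = n29538 := d6_2 (iv F137477) D31506 (iv D29538)
theorem F146506 : act 8 n31506 = n31506 := d7_2 F137478 D31506 (iv D31506)
theorem F146507 : act 9 n31506 = n30950 := d8_2 (iv F137479) D31506 (iv D30950)
def n31507 : Q := act 6 n29526
theorem D31507 : act 6 n29526 = n31507 := rfl
theorem F146508 : act 1 n31507 = n29527 := d13_1 D31507 (iv D29527) D29526
theorem F146509 : act 2 n31507 = n31507 := d20_1 D31507 (iv D31507) F137474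
theorem F146510 : act 4 n31507 = n31507 := d31_1 D31507 (iv D31507) F137475
theorem F146511 : act 8 n31507 = n31507 := d40_2 F137478 D31507 (iv D31507)
theorem F146512 : act 9 n31507 = n30951 := d41_2 (iv F137479) D31507 (iv D30951)
def n31508 : Q := act 5 n29527
theorem D31508 : act 5 n29527 = n31508 := rfl
theorem F146513 : act 0 n31508 = n30523 := d4_1 D31508 (iv D30523) (iv F137480)
theorem F146514 : act 2 n31508 = n29528 := d19_1 D31508 (iv D29528) (iv F137481)
theorem F146515 : act 6 n31508 = n29561 := d35_2 D29527 D31508 (iv D29561) (iv D23847) (iv F106993)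
theorem F146516 : act 9 n31508 = n30952 := d38_2 (iv F137484) D31508 (iv D30952)
def n31509 : Q := act 7 n29527
theorem D31509 : act 7 n29527 = n31509 := rfl
theorem F146517 : act 0 n31509 = n30524 := d6_1 D31509 (iv D30524) (iv F137480)
theorem F146518 : act 2 n31509 = n29529 := d21_1 D31509 (iv D29529) (iv F137481)
theorem F146519 : act 4 n31509 = n31509 := d32_1 D31509 (iv D31509) F137482
theorem F146520 : act 6 n31509 = n29541 := d39_1 D31509 (iv D29541) (iv D23833) (iv F106994) D29527
theorem F146521 : act 8 n31509 = n31509 := d42_2 F137483 D31509 (iv D31509)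
theorem F146522 : act 9 n31509 = n30953 := d43_2 (iv F137484) D31509 (iv D30953)
def n31510 : Q := act 4 n29528
theorem D31510 : act 4 n29528 = n31510 := rfl
theorem F146523 : act 0 n31510 = n30525 := d3_1 D31510 (iv D30525) (iv F137485)
theorem F146524 : act 1 n31510 = n31510 := d11_1 D31510 (iv D31510) F137486
theorem F146525 : act 3 n31510 = n29863 := d24_1 D31510 F139109 F135400 (iv F107005) (iv F137487)
theorem F146526 : act 5 n31510 = n31510 := d30_2 D29528 D31510 (iv D31510) (iv D29528) F107000
theorem F146527 : act 6 n31510 = n29563 := d31_2 (iv F137488) D31510 (iv D29563)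
theorem F146528 : act 9 n31510 = n29860 := d34_2 (iv F137489) D31510 F139096
theorem F146529 : act 8 n30127 = n31510 := d44_5 F146528 (iv D29860) F108430 (iv F134461) D30127
def n31511 : Q := act 7 n29528
theorem D31511 : act 7 n29528 = n31511 := rfl
theorem F146530 : act 0 n31511 = n30526 := d6_1 D31511 (iv D30526) (iv F137485)
theorem F146531 : act 1 n31511 = n31511 := d14_1 D31511 (iv D31511) F137486
theorem F146532 : act 3 n31511 = n29530 := d27_1 D31511 (iv D29530) (iv F137487)
theorem F146533 : act 5 n31511 = n29529 := d36_1 D31511 (iv D29529) D29528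
theorem F146534 : act 9 n31511 = n30954 := d43_2 (iv F137489) D31511 (iv D30954)
def n31512 : Q := act 8 n29528
theorem D31512 : act 8 n29528 = n31512 := rfl
theorem F146535 : act 0 n31512 = n30527 := d7_1 D31512 (iv D30527) (iv F137485)
theorem F146536 : act 1 n31512 = n31512 := d15_1 D31512 (iv D31512) F137486
theorem F146537 : act 3 n31512 = n29531 := d28_1 D31512 (iv D29531) (iv F137487)
theorem F146538 : act 4 n31512 = n30127 := d33_1 D31512 F146529 (iv D31510)
theorem F146539 : act 5 n31512 = n31512 := d37_1 D31512 (iv D31512) (iv D29528) F107001 D29528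
theorem F146540 : act 6 n31512 = n29565 := d40_1 D31512 (iv D29565) (iv F137488)
theorem F146541 : act 9 n31512 = n30126 := d44_2 (iv F137489) D31512 F140469 (iv F139086) (iv F139087)
def n31513 : Q := act 6 n29530
theorem D31513 : act 6 n29530 = n31513 := rfl
theorem F146542 : act 0 n31513 = n30528 := d5_1 D31513 (iv D30528) (iv F137497)
theorem F146543 : act 1 n31513 = n31513 := d13_1 D31513 (iv D31513) F137498
theorem F146544 : act 4 n31513 = n31117 := d31_1 D31513 (iv D31117) (iv F137499)
theorem F146545 : act 5 n31513 = n29545 := d35_1 D31513 (iv D29545) F107057 (iv F107011) (iv F137500)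
theorem F146546 : act 7 n31513 = n29566 := d39_2 D29530 D31513 (iv D29566) (iv D23850) (iv F107006)
theorem F146547 : act 9 n31513 = n30955 := d41_2 (iv F137501) D31513 (iv D30955)
def n31514 : Q := act 8 n29530
theorem D31514 : act 8 n29530 = n31514 := rfl
theorem F146548 : act 0 n31514 = n30529 := d7_1 D31514 (iv D30529) (iv F137497)
theorem F146549 : act 1 n31514 = n31514 := d15_1 D31514 (iv D31514) F137498
theorem F146550 : act 4 n31514 = n30315 := d33_1 D31514 F141158 (iv F137499)
theorem F146551 : act 5 n31514 = n31514 := d37_1 D31514 (iv D31514) F137500 F107012 (iv F137500)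
theorem F146552 : act 7 n31514 = n29531 := d42_1 D31514 (iv D29531) D29530
theorem F146553 : act 9 n31514 = n30313 := d44_2 (iv F137501) D31514 (iv D30313) (iv F139127) F139126
def n31515 : Q := act 0 n29532
theorem D31515 : act 0 n29532 = n31515 := rfl
theorem F146554 : act 1 n31515 = n30530 := d0_2 D29532 D31515 (iv D30530) (iv D25587) (iv F107014)
theorem F146555 : act 2 n31515 = n31515 := d1_2 F137508 D31515 (iv D31515)
theorem F146556 : act 4 n31515 = n31515 := d3_2 F137509 D31515 (iv D31515)
theorem F146557 : act 5 n31515 = n29569 := d4_2 (iv F137510) D31515 (iv D29569)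
theorem F146558 : act 7 n31515 = n30950 := d6_2 (iv F137511) D31515 (iv D30950)
theorem F146559 : act 8 n31515 = n30956 := d7_2 (iv F137512) D31515 (iv D30956)
theorem F146560 : act 9 n31515 = n29538 := d8_2 (iv F137513) D31515 (iv D29538)
def n31516 : Q := act 6 n29532
theorem D31516 : act 6 n29532 = n31516 := rfl
theorem F146561 : act 1 n31516 = n29533 := d13_1 D31516 (iv D29533) D29532
theorem F146562 : act 2 n31516 = n31516 := d20_1 D31516 (iv D31516) F137508
theorem F146563 : act 4 n31516 = n31516 := d31_1 D31516 (iv D31516) F137509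
theorem F146564 : act 8 n31516 = n30957 := d40_2 (iv F137512) D31516 (iv D30957)
theorem F146565 : act 9 n31516 = n29539 := d41_2 (iv F137513) D31516 (iv D29539)
def n31517 : Q := act 5 n29533
theorem D31517 : act 5 n29533 = n31517 := rfl
theorem F146566 : act 0 n31517 = n30532 := d4_1 D31517 (iv D30532) (iv F137514)
theorem F146567 : act 2 n31517 = n29534 := d19_1 D31517 (iv D29534) (iv F137515)
theorem F146568 : act 6 n31517 = n29571 := d35_2 D29533 D31517 (iv D29571) (iv D23853) (iv F107016)
theorem F146569 : act 9 n31517 = n29540 := d38_2 (iv F137518) D31517 (iv D29540)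
def n31518 : Q := act 7 n29533
theorem D31518 : act 7 n29533 = n31518 := rfl
theorem F146570 : act 0 n31518 = n30533 := d6_1 D31518 (iv D30533) (iv F137514)
theorem F146571 : act 2 n31518 = n29535 := d21_1 D31518 (iv D29535) (iv F137515)
theorem F146572 : act 4 n31518 = n31518 := d32_1 D31518 (iv D31518) F137516
theorem F146573 : act 6 n31518 = n30953 := d39_1 D31518 (iv D30953) (iv D27104) (iv F107017) D29533
theorem F146574 : act 8 n31518 = n30959 := d42_2 (iv F137517) D31518 (iv D30959)
theorem F146575 : act 9 n31518 = n29541 := d43_2 (iv F137518) D31518 (iv D29541)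
def n31519 : Q := act 4 n29534
theorem D31519 : act 4 n29534 = n31519 := rfl
theorem F146576 : act 0 n31519 = n30534 := d3_1 D31519 (iv D30534) (iv F137519)
theorem F146577 : act 1 n31519 = n31519 := d11_1 D31519 (iv D31519) F137520
theorem F146578 : act 3 n31519 = n29835 := d24_1 D31519 (iv D29835) F108360 (iv F107028) (iv F137521)
theorem F146579 : act 5 n31519 = n31519 := d30_2 D29534 D31519 (iv D31519) (iv D29534) F107023
theorem F146580 : act 6 n31519 = n29573 := d31_2 (iv F137522) D31519 (iv D29573)
theorem F146581 : act 9 n31519 = n29542 := d34_2 (iv F137523) D31519 (iv D29542)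
theorem F146582 : act 8 n31067 = n31519 := d7_0 F146576 (iv F142002) (iv F144070)
def n31520 : Q := act 7 n29534
theorem D31520 : act 7 n29534 = n31520 := rfl
theorem F146583 : act 0 n31520 = n30535 := d6_1 D31520 (iv D30535) (iv F137519)
theorem F146584 : act 1 n31520 = n31520 := d14_1 D31520 (iv D31520) F137520
theorem F146585 : act 3 n31520 = n29536 := d27_1 D31520 (iv D29536) (iv F137521)
theorem F146586 : act 5 n31520 = n29535 := d36_1 D31520 (iv D29535) D29534
theorem F146587 : act 9 n31520 = n29543 := d43_2 (iv F137523) D31520 (iv D29543)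
def n31521 : Q := act 8 n29534
theorem D31521 : act 8 n29534 = n31521 := rfl
theorem F146588 : act 0 n31521 = n30536 := d7_1 D31521 (iv D30536) (iv F137519)
theorem F146589 : act 1 n31521 = n31521 := d15_1 D31521 (iv D31521) F137520
theorem F146590 : act 3 n31521 = n29537 := d28_1 D31521 (iv D29537) (iv F137521)
theorem F146591 : act 4 n31521 = n31067 := d33_1 D31521 F146582 (iv D31519)
theorem F146592 : act 5 n31521 = n30962 := d37_1 D31521 (iv D30962) (iv D27111) (iv F107024) D29534
theorem F146593 : act 6 n31521 = n29575 := d40_1 D31521 (iv D29575) (iv F137522)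
theorem F146594 : act 9 n31075 = n31521 := d38_0 F146592 (iv F143529) (iv F144099)
def n31522 : Q := act 6 n29536
theorem D31522 : act 6 n29536 = n31522 := rfl
theorem F146595 : act 0 n31522 = n30537 := d5_1 D31522 (iv D30537) (iv F137531)
theorem F146596 : act 1 n31522 = n31522 := d13_1 D31522 (iv D31522) F137532
theorem F146597 : act 4 n31522 = n29838 := d31_1 D31522 (iv D29838) (iv F137533)
theorem F146598 : act 5 n31522 = n30955 := d35_1 D31522 (iv D30955) F120828 (iv F107034) (iv F137534)
theorem F146599 : act 7 n31522 = n29576 := d39_2 D29536 D31522 (iv D29576) (iv D23856) (iv F107029)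
theorem F146600 : act 9 n31522 = n29545 := d41_2 (iv F137535) D31522 (iv D29545)
def n31523 : Q := act 8 n29536
theorem D31523 : act 8 n29536 = n31523 := rfl
theorem F146601 : act 0 n31523 = n30538 := d7_1 D31523 (iv D30538) (iv F137531)
theorem F146602 : act 1 n31523 = n31523 := d15_1 D31523 (iv D31523) F137532
theorem F146603 : act 4 n31523 = n29839 := d33_1 D31523 (iv D29839) (iv F137533)
theorem F146604 : act 5 n31523 = n30964 := d37_1 D31523 (iv D30964) F120856 (iv F107035) (iv F137534)
theorem F146605 : act 7 n31523 = n29537 := d42_1 D31523 (iv D29537) D29536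
def n31524 : Q := act 9 n29537
theorem D31524 : act 9 n29537 = n31524 := rfl
theorem F146606 : act 0 n31524 = n30539 := d8_1 D31524 (iv D30539) (iv F137536)
theorem F146607 : act 1 n31524 = n31524 := d16_1 D31524 (iv D31524) F137537
theorem F146608 : act 3 n31524 = n31075 := d29_1 D31524 F146594 F146590
theorem F146609 : act 4 n31524 = n29840 := d34_1 D31524 (iv D29840) (iv F137538)
theorem F146610 : act 5 n31524 = n30965 := d38_1 D31524 (iv D30965) (iv F137539)
theorem F146611 : act 6 n31524 = n29578 := d41_1 D31524 (iv D29578) (iv F137540)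
theorem F146612 : act 8 n31524 = n29547 := d44_1 D31524 (iv D29547) (iv D23837) (iv F107030) D29537
def n31525 : Q := act 6 n29538
theorem D31525 : act 6 n29538 = n31525 := rfl
theorem F146613 : act 0 n31525 = n29539 := d5_1 D31525 (iv D29539) D29538
theorem F146614 : act 1 n31525 = n30540 := d13_1 D31525 (iv D30540) (iv F137541)
theorem F146615 : act 2 n31525 = n31525 := d20_1 D31525 (iv D31525) F137542
theorem F146616 : act 4 n31525 = n31525 := d31_1 D31525 (iv D31525) F137543
theorem F146617 : act 8 n31525 = n31525 := d40_2 F137545 D31525 (iv D31525)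
def n31526 : Q := act 5 n29539
theorem D31526 : act 5 n29539 = n31526 := rfl
theorem F146618 : act 1 n31526 = n29540 := d12_1 D31526 (iv D29540) (iv F137546)
theorem F146619 : act 2 n31526 = n31526 := d19_1 D31526 (iv D31526) F137547
theorem F146620 : act 6 n31526 = n29580 := d35_2 D29539 D31526 (iv D29580) (iv D23859) (iv F107039)
def n31527 : Q := act 7 n29539
theorem D31527 : act 7 n29539 = n31527 := rfl
theorem F146621 : act 1 n31527 = n29541 := d14_1 D31527 (iv D29541) (iv F137546)
theorem F146622 : act 2 n31527 = n31527 := d21_1 D31527 (iv D31527) F137547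
theorem F146623 : act 4 n31527 = n31527 := d32_1 D31527 (iv D31527) F137548
theorem F146624 : act 8 n31527 = n31527 := d42_2 F137549 D31527 (iv D31527)
def n31528 : Q := act 4 n29540
theorem D31528 : act 4 n29540 = n31528 := rfl
theorem F146625 : act 0 n31528 = n30543 := d3_1 D31528 (iv D30543) (iv F137550)
theorem F146626 : act 2 n31528 = n29542 := d18_1 D31528 (iv D29542) (iv F137551)
theorem F146627 : act 5 n31528 = n31528 := d30_2 D29540 D31528 (iv D31528) (iv D29540) F107043
theorem F146628 : act 6 n31528 = n29582 := d31_2 (iv F137552) D31528 (iv D29582)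
def n31529 : Q := act 7 n29540
theorem D31529 : act 7 n29540 = n31529 := rfl
theorem F146629 : act 0 n31529 = n30544 := d6_1 D31529 (iv D30544) (iv F137550)
theorem F146630 : act 2 n31529 = n29543 := d21_1 D31529 (iv D29543) (iv F137551)
theorem F146631 : act 5 n31529 = n29541 := d36_1 D31529 (iv D29541) D29540
def n31530 : Q := act 8 n29540
theorem D31530 : act 8 n29540 = n31530 := rfl
theorem F146632 : act 0 n31530 = n30545 := d7_1 D31530 (iv D30545) (iv F137550)
theorem F146633 : act 2 n31530 = n29544 := d22_1 D31530 (iv D29544) (iv F137551)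
theorem F146634 : act 5 n31530 = n31530 := d37_1 D31530 (iv D31530) (iv D29540) F107044 D29540
theorem F146635 : act 6 n31530 = n29584 := d40_1 D31530 (iv D29584) (iv F137552)
def n31531 : Q := act 7 n29542
theorem D31531 : act 7 n29542 = n31531 := rfl
theorem F146636 : act 0 n31531 = n30546 := d6_1 D31531 (iv D30546) (iv F137557)
theorem F146637 : act 1 n31531 = n31531 := d14_1 D31531 (iv D31531) F137558
theorem F146638 : act 3 n31531 = n29847 := d27_1 D31531 (iv D29847) (iv F137559)
theorem F146639 : act 4 n31531 = n29543 := d32_1 D31531 (iv D29543) D29542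
theorem F146640 : act 5 n31531 = n31531 := d36_1 D31531 (iv D31531) F137560
def n31532 : Q := act 8 n29542
theorem D31532 : act 8 n29542 = n31532 := rfl
theorem F146641 : act 0 n31532 = n30547 := d7_1 D31532 (iv D30547) (iv F137557)
theorem F146642 : act 1 n31532 = n31532 := d15_1 D31532 (iv D31532) F137558
theorem F146643 : act 3 n31532 = n29848 := d28_1 D31532 (iv D29848) (iv F137559)
theorem F146644 : act 4 n31532 = n29544 := d33_1 D31532 (iv D29544) D29542
theorem F146645 : act 6 n31532 = n29586 := d40_1 D31532 (iv D29586) (iv F137561)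
theorem F146646 : act 9 n31532 = n31077 := d44_2 F146581 D31532 (iv D31077) (iv F144072) F146582
theorem F146647 : act 5 n31094 = n31532 := d38_3 F146646 F144105 D31094
def n31533 : Q := act 6 n29543
theorem D31533 : act 6 n29543 = n31533 := rfl
theorem F146648 : act 0 n31533 = n30548 := d5_1 D31533 (iv D30548) (iv F137562)
theorem F146649 : act 1 n31533 = n31533 := d13_1 D31533 (iv D31533) F137563
theorem F146650 : act 3 n31533 = n29545 := d26_1 D31533 (iv D29545) (iv F137564)
theorem F146651 : act 7 n31533 = n29587 := d39_2 D29543 D31533 (iv D29587) (iv D23863) (iv F107048)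
def n31534 : Q := act 8 n29543
theorem D31534 : act 8 n29543 = n31534 := rfl
theorem F146652 : act 0 n31534 = n30549 := d7_1 D31534 (iv D30549) (iv F137562)
theorem F146653 : act 1 n31534 = n31534 := d15_1 D31534 (iv D31534) F137563
theorem F146654 : act 3 n31534 = n29546 := d28_1 D31534 (iv D29546) (iv F137564)
theorem F146655 : act 5 n31534 = n31534 := d37_1 D31534 (iv D31534) F137565 F107053 (iv F137565)
theorem F146656 : act 7 n31534 = n29544 := d42_1 D31534 (iv D29544) D29543
def n31535 : Q := act 9 n29544
theorem D31535 : act 9 n29544 = n31535 := rfl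
theorem F146657 : act 0 n31535 = n30550 := d8_1 D31535 (iv D30550) (iv F137566)
theorem F146658 : act 1 n31535 = n31535 := d16_1 D31535 (iv D31535) F137567
theorem F146659 : act 3 n31535 = n29547 := d29_1 D31535 (iv D29547) (iv F137568)
theorem F146660 : act 4 n31535 = n31077 := d34_1 D31535 (iv F146646) F146644
theorem F146661 : act 5 n31535 = n31535 := d38_1 D31535 (iv D31535) F137569
theorem F146662 : act 6 n31535 = n29589 := d41_1 D31535 (iv D29589) (iv F137570)
theorem F146663 : act 8 n31535 = n31075 := d44_1 D31535 F146594 (iv D31521) F137523 D29544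
def n31536 : Q := act 8 n29545
theorem D31536 : act 8 n29545 = n31536 := rfl
theorem F146664 : act 0 n31536 = n30551 := d7_1 D31536 (iv D30551) (iv F137571)
theorem F146665 : act 1 n31536 = n31536 := d15_1 D31536 (iv D31536) F137572
theorem F146666 : act 4 n31536 = n29852 := d33_1 D31536 (iv D29852) (iv F137573)
theorem F146667 : act 6 n31536 = n29546 := d40_1 D31536 (iv D29546) D29545
theorem F146668 : act 7 n31536 = n29590 := d42_1 D31536 (iv D29590) (iv F137574)
def n31537 : Q := act 9 n29546
theorem D31537 : act 9 n29546 = n31537 := rfl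
theorem F146669 : act 0 n31537 = n30552 := d8_1 D31537 (iv D30552) (iv F137575)
theorem F146670 : act 1 n31537 = n31537 := d16_1 D31537 (iv D31537) F137576
theorem F146671 : act 4 n31537 = n29853 := d34_1 D31537 (iv D29853) (iv F137577)
theorem F146672 : act 5 n31537 = n31537 := d38_1 D31537 (iv D31537) F137578
theorem F146673 : act 7 n31537 = n29547 := d43_1 D31537 (iv D29547) (iv F137579)
def n31538 : Q := act 0 n29548
theorem D31538 : act 0 n29548 = n31538 := rfl
theorem F146674 : act 1 n31538 = n30125 := d0_2 D29548 D31538 F140457 (iv D25603) (iv F107063)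
theorem F146675 : act 2 n31538 = n31538 := d1_2 F137585 D31538 (iv D31538)
theorem F146676 : act 4 n31538 = n29609 := d3_2 (iv F137586) D31538 (iv D29609)
theorem F146677 : act 5 n31538 = n30034 := d4_2 (iv F137587) D31538 F140020
theorem F146678 : act 7 n31538 = n29854 := d6_2 (iv F137588) D31538 (iv D29854)
theorem F146679 : act 8 n31538 = n31538 := d7_2 F137589 D31538 (iv D31538)
theorem F146680 : act 9 n31538 = n30030 := d8_2 (iv F137590) D31538 F139995
theorem F146681 : act 6 n30146 = n31538 := d41_3 F146680 F140000 D30146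
def n31539 : Q := act 6 n29548
theorem D31539 : act 6 n29548 = n31539 := rfl
theorem F146682 : act 0 n31539 = n30146 := d5_1 D31539 F146681 (iv D31538)
theorem F146683 : act 1 n31539 = n29549 := d13_1 D31539 (iv D29549) D29548
theorem F146684 : act 2 n31539 = n31539 := d20_1 D31539 (iv D31539) F137585
theorem F146685 : act 4 n31539 = n29610 := d31_1 D31539 (iv D29610) (iv F137586)
theorem F146686 : act 8 n31539 = n31539 := d40_2 F137589 D31539 (iv D31539)
theorem F146687 : act 9 n31539 = n30045 := d41_2 (iv F137590) D31539 F140087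
def n31540 : Q := act 5 n29549
theorem D31540 : act 5 n29549 = n31540 := rfl
theorem F146688 : act 0 n31540 = n30553 := d4_1 D31540 (iv D30553) (iv F137591)
theorem F146689 : act 2 n31540 = n29550 := d19_1 D31540 (iv D29550) (iv F137592)
theorem F146690 : act 6 n31540 = n29772 := d35_2 D29549 D31540 F138697 F108202 (iv F135139)
theorem F146691 : act 9 n31540 = n29743 := d38_2 (iv F137595) D31540 F138574
theorem F146692 : act 8 n30255 = n31540 := d44_5 F146691 (iv D29743) F108007 D25284 D30255
def n31541 : Q := act 7 n29549
theorem D31541 : act 7 n29549 = n31541 := rfl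
theorem F146693 : act 0 n31541 = n30554 := d6_1 D31541 (iv D30554) (iv F137591)
theorem F146694 : act 2 n31541 = n29551 := d21_1 D31541 (iv D29551) (iv F137592)
theorem F146695 : act 4 n31541 = n29611 := d32_1 D31541 (iv D29611) (iv F137593)
theorem F146696 : act 6 n31541 = n29857 := d39_1 D31541 (iv D29857) (iv D24126) (iv F107066) D29549
theorem F146697 : act 8 n31541 = n31541 := d42_2 F137594 D31541 (iv D31541)
theorem F146698 : act 9 n31541 = n30085 := d43_2 (iv F137595) D31541 F140279
def n31542 : Q := act 4 n29550
theorem D31542 : act 4 n29550 = n31542 := rfl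
theorem F146699 : act 0 n31542 = n30555 := d3_1 D31542 (iv D30555) (iv F137596)
theorem F146700 : act 1 n31542 = n31542 := d11_1 D31542 (iv D31542) F137597
theorem F146701 : act 3 n31542 = n29563 := d24_1 D31542 (iv D29563) F107119 (iv F107077) (iv F137598)
theorem F146702 : act 5 n31542 = n29612 := d30_2 D29550 D31542 (iv D29612) (iv D23892) (iv F107072)
theorem F146703 : act 6 n31542 = n29863 := d31_2 (iv F137599) D31542 F139109
theorem F146704 : act 8 n31542 = n30131 := d33_2 F137601 D31542 F140494
theorem F146705 : act 9 n31542 = n29826 := d34_2 (iv F137600) D31542 F138930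
def n31543 : Q := act 7 n29550
theorem D31543 : act 7 n29550 = n31543 := rfl
theorem F146706 : act 0 n31543 = n30556 := d6_1 D31543 (iv D30556) (iv F137596)
theorem F146707 : act 1 n31543 = n31543 := d14_1 D31543 (iv D31543) F137597
theorem F146708 : act 3 n31543 = n29552 := d27_1 D31543 (iv D29552) (iv F137598)
theorem F146709 : act 5 n31543 = n29551 := d36_1 D31543 (iv D29551) D29550
theorem F146710 : act 8 n31543 = n30302 := d42_2 F137601 D31543 F141119
theorem F146711 : act 9 n31543 = n29832 := d43_2 (iv F137600) D31543 F138965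
def n31544 : Q := act 6 n29552
theorem D31544 : act 6 n29552 = n31544 := rfl
theorem F146712 : act 0 n31544 = n30557 := d5_1 D31544 (iv D30557) (iv F137609)
theorem F146713 : act 1 n31544 = n31544 := d13_1 D31544 (iv D31544) F137610
theorem F146714 : act 4 n31544 = n29566 := d31_1 D31544 (iv D29566) (iv F137611)
theorem F146715 : act 5 n31544 = n29861 := d35_1 D31544 (iv D29861) F108440 (iv F107083) (iv F137612)
theorem F146716 : act 7 n31544 = n31117 := d39_2 D29552 D31544 (iv D31117) (iv D27386) (iv F107078)
theorem F146717 : act 9 n31544 = n30181 := d41_2 (iv F137613) D31544 (iv D30181)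
def n31545 : Q := act 8 n29552
theorem D31545 : act 8 n29552 = n31545 := rfl
theorem F146718 : act 0 n31545 = n30558 := d7_1 D31545 (iv D30558) (iv F137609)
theorem F146719 : act 1 n31545 = n31545 := d15_1 D31545 (iv D31545) F137610
theorem F146720 : act 3 n31545 = n30302 := d28_1 D31545 (iv F146710) F146708
theorem F146721 : act 4 n31545 = n29567 := d33_1 D31545 (iv D29567) (iv F137611)
theorem F146722 : act 5 n31545 = n31545 := d37_1 D31545 (iv D31545) F137612 F107084 (iv F137612)
theorem F146723 : act 7 n31545 = n29553 := d42_1 D31545 (iv D29553) D29552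
theorem F146724 : act 9 n31545 = n30300 := d44_2 (iv F137613) D31545 (iv D30300) (iv F138955) F138954
def n31546 : Q := act 0 n29554
theorem D31546 : act 0 n29554 = n31546 := rfl
theorem F146725 : act 1 n31546 = n30559 := d0_2 D29554 D31546 (iv D30559) (iv D25609) (iv F107086)
theorem F146726 : act 2 n31546 = n31546 := d1_2 F137621 D31546 (iv D31546)
theorem F146727 : act 4 n31546 = n29616 := d3_2 (iv F137622) D31546 (iv D29616)
theorem F146728 : act 5 n31546 = n30950 := d4_2 (iv F137623) D31546 (iv D30950)
theorem F146729 : act 6 n31546 = n30176 := d5_2 F144706 D31546 (iv F144702)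
theorem F146730 : act 7 n31546 = n29569 := d6_2 (iv F137624) D31546 (iv D29569)
theorem F146731 : act 8 n31546 = n31546 := d7_2 F137625 D31546 (iv D31546)
theorem F146732 : act 9 n31546 = n29560 := d8_2 (iv F137626) D31546 (iv D29560)
def n31547 : Q := act 5 n29555
theorem D31547 : act 5 n29555 = n31547 := rfl
theorem F146733 : act 0 n31547 = n30561 := d4_1 D31547 (iv D30561) (iv F137627)
theorem F146734 : act 2 n31547 = n29556 := d19_1 D31547 (iv D29556) (iv F137628)
theorem F146735 : act 6 n31547 = n30952 := d35_2 D29555 D31547 (iv D30952) (iv D27104) (iv F107088)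
theorem F146736 : act 9 n31547 = n29561 := d38_2 (iv F137631) D31547 (iv D29561)
def n31548 : Q := act 7 n29555
theorem D31548 : act 7 n29555 = n31548 := rfl
theorem F146737 : act 0 n31548 = n30562 := d6_1 D31548 (iv D30562) (iv F137627)
theorem F146738 : act 2 n31548 = n29557 := d21_1 D31548 (iv D29557) (iv F137628)
theorem F146739 : act 4 n31548 = n29617 := d32_1 D31548 (iv D29617) (iv F137629)
theorem F146740 : act 6 n31548 = n29572 := d39_1 D31548 (iv D29572) (iv D23853) (iv F107089) D29555
theorem F146741 : act 8 n31548 = n31548 := d42_2 F137630 D31548 (iv D31548)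
theorem F146742 : act 9 n31548 = n29562 := d43_2 (iv F137631) D31548 (iv D29562)
def n31549 : Q := act 4 n29556
theorem D31549 : act 4 n29556 = n31549 := rfl
theorem F146743 : act 0 n31549 = n30563 := d3_1 D31549 (iv D30563) (iv F137632)
theorem F146744 : act 1 n31549 = n31549 := d11_1 D31549 (iv D31549) F137633
theorem F146745 : act 3 n31549 = n29826 := d24_1 D31549 F138930 F135399 (iv F107100) (iv F137634)
theorem F146746 : act 5 n31549 = n29618 := d30_2 D29556 D31549 (iv D29618) (iv D23898) (iv F107095)
theorem F146747 : act 6 n31549 = n29860 := d31_2 (iv F137635) D31549 F139096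
theorem F146748 : act 9 n31549 = n29563 := d34_2 (iv F137636) D31549 (iv D29563)
theorem F146749 : act 8 n29823 = n31549 := d44_5 F146748 (iv F137671) (iv D24782) (iv F111456) (iv F138915)
def n31550 : Q := act 7 n29556
theorem D31550 : act 7 n29556 = n31550 := rfl
theorem F146750 : act 0 n31550 = n30564 := d6_1 D31550 (iv D30564) (iv F137632)
theorem F146751 : act 1 n31550 = n31550 := d14_1 D31550 (iv D31550) F137633
theorem F146752 : act 3 n31550 = n29558 := d27_1 D31550 (iv D29558) (iv F137634)
theorem F146753 : act 5 n31550 = n29557 := d36_1 D31550 (iv D29557) D29556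
theorem F146754 : act 9 n31550 = n29564 := d43_2 (iv F137636) D31550 (iv D29564)
def n31551 : Q := act 8 n29556
theorem D31551 : act 8 n29556 = n31551 := rfl
theorem F146755 : act 0 n31551 = n30565 := d7_1 D31551 (iv D30565) (iv F137632)
theorem F146756 : act 1 n31551 = n31551 := d15_1 D31551 (iv D31551) F137633
theorem F146757 : act 3 n31551 = n29559 := d28_1 D31551 (iv D29559) (iv F137634)
theorem F146758 : act 4 n31551 = n29823 := d33_1 D31551 F146749 (iv D31549)
theorem F146759 : act 5 n31551 = n31551 := d37_1 D31551 (iv D31551) (iv D29556) F107096 D29556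
theorem F146760 : act 6 n31551 = n29858 := d40_1 D31551 (iv F139087) (iv F137635)
theorem F146761 : act 9 n31551 = n30128 := d44_2 (iv F137636) D31551 F140480 F137681 (iv D29565)
def n31552 : Q := act 6 n29558
theorem D31552 : act 6 n29558 = n31552 := rfl
theorem F146762 : act 0 n31552 = n30566 := d5_1 D31552 (iv D30566) (iv F137644)
theorem F146763 : act 1 n31552 = n31552 := d13_1 D31552 (iv D31552) F137645
theorem F146764 : act 4 n31552 = n30181 := d31_1 D31552 (iv D30181) (iv F137646)
theorem F146765 : act 5 n31552 = n29576 := d35_1 D31552 (iv D29576) F107154 (iv F107106) (iv F137647)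
theorem F146766 : act 7 n31552 = n30955 := d39_2 D29558 D31552 (iv D30955) (iv D27107) (iv F107101)
theorem F146767 : act 9 n31552 = n29566 := d41_2 (iv F137648) D31552 (iv D29566)
def n31553 : Q := act 8 n29558
theorem D31553 : act 8 n29558 = n31553 := rfl
theorem F146768 : act 0 n31553 = n30567 := d7_1 D31553 (iv D30567) (iv F137644)
theorem F146769 : act 1 n31553 = n31553 := d15_1 D31553 (iv D31553) F137645
theorem F146770 : act 4 n31553 = n29830 := d33_1 D31553 F138954 (iv F137646)
theorem F146771 : act 5 n31553 = n31553 := d37_1 D31553 (iv D31553) F137647 F107107 (iv F137647)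
theorem F146772 : act 7 n31553 = n29559 := d42_1 D31553 (iv D29559) D29558
theorem F146773 : act 9 n30298 = n31553 := d43_0 F146772 (iv F137654) D30298
def n31554 : Q := act 7 n29561
theorem D31554 : act 7 n29561 = n31554 := rfl
theorem F146774 : act 0 n31554 = n30571 := d6_1 D31554 (iv D30571) (iv F137661)
theorem F146775 : act 2 n31554 = n29564 := d21_1 D31554 (iv D29564) (iv F137662)
theorem F146776 : act 5 n31554 = n29562 := d36_1 D31554 (iv D29562) D29561
def n31555 : Q := act 7 n29563
theorem D31555 : act 7 n29563 = n31555 := rfl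
theorem F146777 : act 0 n31555 = n30573 := d6_1 D31555 (iv D30573) (iv F137668)
theorem F146778 : act 1 n31555 = n31555 := d14_1 D31555 (iv D31555) F137669
theorem F146779 : act 4 n31555 = n29564 := d32_1 D31555 (iv D29564) D29563
theorem F146780 : act 5 n31555 = n29622 := d36_1 D31555 (iv D29622) (iv F137670)
theorem F146781 : act 8 n31555 = n29905 := d42_2 F137671 D31555 F139296
def n31556 : Q := act 6 n29564
theorem D31556 : act 6 n29564 = n31556 := rfl
theorem F146782 : act 0 n31556 = n30574 := d5_1 D31556 (iv D30574) (iv F137672)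
theorem F146783 : act 1 n31556 = n31556 := d13_1 D31556 (iv D31556) F137673
theorem F146784 : act 3 n31556 = n29566 := d26_1 D31556 (iv D29566) (iv F137674)
theorem F146785 : act 5 n31556 = n29587 := d35_1 D31556 (iv D29587) F107181 (iv F107124) (iv F137675)
def n31557 : Q := act 8 n29564
theorem D31557 : act 8 n29564 = n31557 := rfl
theorem F146786 : act 0 n31557 = n30575 := d7_1 D31557 (iv D30575) (iv F137672)
theorem F146787 : act 1 n31557 = n31557 := d15_1 D31557 (iv D31557) F137673
theorem F146788 : act 3 n31557 = n29567 := d28_1 D31557 (iv D29567) (iv F137674)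
theorem F146789 : act 4 n31557 = n29905 := d33_1 D31557 (iv F146781) F146779
theorem F146790 : act 5 n31557 = n29593 := d37_1 D31557 (iv D29593) F107227 (iv F107125) (iv F137675)
theorem F146791 : act 7 n31557 = n29565 := d42_1 D31557 (iv D29565) D29564
theorem F146792 : act 9 n29904 = n31557 := d43_0 F146791 (iv F137681) (iv F139292)
def n31558 : Q := act 8 n29566
theorem D31558 : act 8 n29566 = n31558 := rfl
theorem F146793 : act 0 n31558 = n30576 := d7_1 D31558 (iv D30576) (iv F137682)
theorem F146794 : act 1 n31558 = n31558 := d15_1 D31558 (iv D31558) F137683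
theorem F146795 : act 6 n31558 = n29567 := d40_1 D31558 (iv D29567) D29566
def n31559 : Q := act 9 n29567
theorem D31559 : act 9 n29567 = n31559 := rfl
theorem F146796 : act 0 n31559 = n30577 := d8_1 D31559 (iv D30577) (iv F137685)
theorem F146797 : act 1 n31559 = n31559 := d16_1 D31559 (iv D31559) F137686
theorem F146798 : act 3 n31559 = n29904 := d29_1 D31559 F146792 F146788
theorem F146799 : act 4 n31559 = n30300 := d34_1 D31559 (iv F146724) F146721
theorem F146800 : act 5 n31559 = n29595 := d38_1 D31559 (iv D29595) (iv F137687)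
theorem F146801 : act 7 n31559 = n29568 := d43_1 D31559 (iv D29568) (iv F137688)
theorem F146802 : act 8 n31559 = n30298 := d44_1 D31559 F146773 (iv D31553) F137648 D29567
def n31560 : Q := act 6 n29569
theorem D31560 : act 6 n29569 = n31560 := rfl
theorem F146803 : act 0 n31560 = n29570 := d5_1 D31560 (iv D29570) D29569
theorem F146804 : act 1 n31560 = n30578 := d13_1 D31560 (iv D30578) (iv F137696)
theorem F146805 : act 2 n31560 = n31560 := d20_1 D31560 (iv D31560) F137697
theorem F146806 : act 4 n31560 = n29625 := d31_1 D31560 (iv D29625) (iv F137698)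
theorem F146807 : act 8 n31560 = n31560 := d40_2 F137699 D31560 (iv D31560)
theorem F146808 : act 9 n31560 = n29579 := d41_2 (iv F137700) D31560 (iv D29579)
def n31561 : Q := act 5 n29570
theorem D31561 : act 5 n29570 = n31561 := rfl
theorem F146809 : act 1 n31561 = n29571 := d12_1 D31561 (iv D29571) (iv F137701)
theorem F146810 : act 2 n31561 = n31561 := d19_1 D31561 (iv D31561) F137702
theorem F146811 : act 9 n31561 = n29580 := d38_2 (iv F137705) D31561 (iv D29580)
def n31562 : Q := act 7 n29570
theorem D31562 : act 7 n29570 = n31562 := rfl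
theorem F146812 : act 1 n31562 = n29572 := d14_1 D31562 (iv D29572) (iv F137701)
theorem F146813 : act 2 n31562 = n31562 := d21_1 D31562 (iv D31562) F137702
theorem F146814 : act 4 n31562 = n29627 := d32_1 D31562 (iv D29627) (iv F137703)
theorem F146815 : act 8 n31562 = n31562 := d42_2 F137704 D31562 (iv D31562)
theorem F146816 : act 9 n31562 = n29581 := d43_2 (iv F137705) D31562 (iv D29581)
def n31563 : Q := act 4 n29571
theorem D31563 : act 4 n29571 = n31563 := rfl
theorem F146817 : act 0 n31563 = n30581 := d3_1 D31563 (iv D30581) (iv F137706)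
theorem F146818 : act 2 n31563 = n29573 := d18_1 D31563 (iv D29573) (iv F137707)
theorem F146819 : act 5 n31563 = n29628 := d30_2 D29571 D31563 (iv D29628) (iv D23914) (iv F107138)
theorem F146820 : act 9 n31563 = n29582 := d34_2 (iv F137708) D31563 (iv D29582)
def n31564 : Q := act 7 n29571
theorem D31564 : act 7 n29571 = n31564 := rfl
theorem F146821 : act 0 n31564 = n30582 := d6_1 D31564 (iv D30582) (iv F137706)
theorem F146822 : act 2 n31564 = n29574 := d21_1 D31564 (iv D29574) (iv F137707)
theorem F146823 : act 5 n31564 = n29572 := d36_1 D31564 (iv D29572) D29571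
theorem F146824 : act 9 n31564 = n29583 := d43_2 (iv F137708) D31564 (iv D29583)
def n31565 : Q := act 8 n29571
theorem D31565 : act 8 n29571 = n31565 := rfl
theorem F146825 : act 0 n31565 = n30583 := d7_1 D31565 (iv D30583) (iv F137706)
theorem F146826 : act 2 n31565 = n29575 := d22_1 D31565 (iv D29575) (iv F137707)
theorem F146827 : act 5 n31565 = n31565 := d37_1 D31565 (iv D31565) (iv D29571) F107139 D29571
def n31566 : Q := act 7 n29573
theorem D31566 : act 7 n29573 = n31566 := rfl
theorem F146828 : act 0 n31566 = n30584 := d6_1 D31566 (iv D30584) (iv F137714)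
theorem F146829 : act 1 n31566 = n31566 := d14_1 D31566 (iv D31566) F137715
theorem F146830 : act 3 n31566 = n29873 := d27_1 D31566 (iv D29873) (iv F137716)
theorem F146831 : act 4 n31566 = n29574 := d32_1 D31566 (iv D29574) D29573
theorem F146832 : act 5 n31566 = n29631 := d36_1 D31566 (iv D29631) (iv F137717)
theorem F146833 : act 9 n31566 = n29585 := d43_2 (iv F137718) D31566 (iv D29585)
def n31567 : Q := act 8 n29573
theorem D31567 : act 8 n29573 = n31567 := rfl
theorem F146834 : act 0 n31567 = n30585 := d7_1 D31567 (iv D30585) (iv F137714)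
theorem F146835 : act 1 n31567 = n31567 := d15_1 D31567 (iv D31567) F137715
theorem F146836 : act 3 n31567 = n29874 := d28_1 D31567 (iv D29874) (iv F137716)
theorem F146837 : act 4 n31567 = n29575 := d33_1 D31567 (iv D29575) D29573
theorem F146838 : act 5 n31567 = n30996 := d37_1 D31567 F143688 F138022 (iv D29632) (iv F137717)
theorem F146839 : act 6 n31567 = n31067 := d40_1 D31567 F146582 F146580
theorem F146840 : act 9 n31043 = n31567 := d41_0 F146839 F144072 (iv F143953)
def n31568 : Q := act 6 n29574
theorem D31568 : act 6 n29574 = n31568 := rfl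
theorem F146841 : act 0 n31568 = n30586 := d5_1 D31568 (iv D30586) (iv F137719)
theorem F146842 : act 1 n31568 = n31568 := d13_1 D31568 (iv D31568) F137720
theorem F146843 : act 3 n31568 = n29576 := d26_1 D31568 (iv D29576) (iv F137721)
theorem F146844 : act 9 n31568 = n29587 := d41_2 (iv F137723) D31568 (iv D29587)
def n31569 : Q := act 8 n29574
theorem D31569 : act 8 n29574 = n31569 := rfl
theorem F146845 : act 0 n31569 = n30587 := d7_1 D31569 (iv D30587) (iv F137719)
theorem F146846 : act 1 n31569 = n31569 := d15_1 D31569 (iv D31569) F137720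
theorem F146847 : act 3 n31569 = n29577 := d28_1 D31569 (iv D29577) (iv F137721)
theorem F146848 : act 5 n31569 = n31569 := d37_1 D31569 (iv D31569) F137722 F107149 (iv F137722)
theorem F146849 : act 7 n31569 = n29575 := d42_1 D31569 (iv D29575) D29574
def n31570 : Q := act 9 n29575
theorem D31570 : act 9 n29575 = n31570 := rfl
theorem F146850 : act 0 n31570 = n30588 := d8_1 D31570 (iv D30588) (iv F137724)
theorem F146851 : act 1 n31570 = n31570 := d16_1 D31570 (iv D31570) F137725
theorem F146852 : act 3 n31570 = n29578 := d29_1 D31570 (iv D29578) (iv F137726)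
theorem F146853 : act 4 n31570 = n31043 := d34_1 D31570 F146840 F146837
theorem F146854 : act 5 n31570 = n31570 := d38_1 D31570 (iv D31570) F137727
theorem F146855 : act 6 n31570 = n31075 := d41_1 D31570 F146594 F146593
theorem F146856 : act 8 n31570 = n29589 := d44_1 D31570 (iv D29589) (iv D23864) (iv F107144) D29575
def n31571 : Q := act 8 n29576
theorem D31571 : act 8 n29576 = n31571 := rfl
theorem F146857 : act 0 n31571 = n30589 := d7_1 D31571 (iv D30589) (iv F137728)
theorem F146858 : act 1 n31571 = n31571 := d15_1 D31571 (iv D31571) F137729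
theorem F146859 : act 4 n31571 = n29878 := d33_1 D31571 (iv D29878) (iv F137730)
theorem F146860 : act 6 n31571 = n29577 := d40_1 D31571 (iv D29577) D29576
def n31572 : Q := act 9 n29577
theorem D31572 : act 9 n29577 = n31572 := rfl
theorem F146861 : act 0 n31572 = n30590 := d8_1 D31572 (iv D30590) (iv F137732)
theorem F146862 : act 1 n31572 = n31572 := d16_1 D31572 (iv D31572) F137733
theorem F146863 : act 4 n31572 = n29879 := d34_1 D31572 (iv D29879) (iv F137734)
theorem F146864 : act 5 n31572 = n31572 := d38_1 D31572 (iv D31572) F137735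
theorem F146865 : act 7 n31572 = n29578 := d43_1 D31572 (iv D29578) (iv F137736)
theorem F146866 : act 8 n31572 = n29591 := d44_1 D31572 (iv D29591) (iv D23866) (iv F107155) D29577
def n31573 : Q := act 5 n29579
theorem D31573 : act 5 n29579 = n31573 := rfl
theorem F146867 : act 0 n31573 = n29580 := d4_1 D31573 (iv D29580) (iv F137742)
theorem F146868 : act 1 n31573 = n30591 := d12_1 D31573 (iv D30591) (iv F137743)
theorem F146869 : act 2 n31573 = n31573 := d19_1 D31573 (iv D31573) F137744
def n31574 : Q := act 7 n29579
theorem D31574 : act 7 n29579 = n31574 := rfl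
theorem F146870 : act 0 n31574 = n29581 := d6_1 D31574 (iv D29581) (iv F137742)
theorem F146871 : act 1 n31574 = n30592 := d14_1 D31574 (iv D30592) (iv F137743)
theorem F146872 : act 2 n31574 = n31574 := d21_1 D31574 (iv D31574) F137744
theorem F146873 : act 4 n31574 = n29637 := d32_1 D31574 (iv D29637) (iv F137745)
theorem F146874 : act 6 n31574 = n30174 := d39_1 D31574 F140662 (iv F137658) F137659 D29579
theorem F146875 : act 8 n31574 = n29597 := d42_2 (iv F137746) D31574 (iv D29597)
def n31575 : Q := act 4 n29580
theorem D31575 : act 4 n29580 = n31575 := rfl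
theorem F146876 : act 1 n31575 = n29582 := d11_1 D31575 (iv D29582) (iv F137747)
theorem F146877 : act 2 n31575 = n31575 := d18_1 D31575 (iv D31575) F137748
theorem F146878 : act 5 n31575 = n29638 := d30_2 D29580 D31575 (iv D29638) (iv D23922) (iv F107166)
def n31576 : Q := act 7 n29580
theorem D31576 : act 7 n29580 = n31576 := rfl
theorem F146879 : act 1 n31576 = n29583 := d14_1 D31576 (iv D29583) (iv F137747)
theorem F146880 : act 2 n31576 = n31576 := d21_1 D31576 (iv D31576) F137748
theorem F146881 : act 5 n31576 = n29581 := d36_1 D31576 (iv D29581) D29580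
def n31577 : Q := act 8 n29580
theorem D31577 : act 8 n29580 = n31577 := rfl
theorem F146882 : act 1 n31577 = n29584 := d15_1 D31577 (iv D29584) (iv F137747)
theorem F146883 : act 2 n31577 = n31577 := d22_1 D31577 (iv D31577) F137748
theorem F146884 : act 5 n31577 = n29599 := d37_1 D31577 (iv D29599) (iv D23879) (iv F107167) D29580
def n31578 : Q := act 3 n29582
theorem D31578 : act 3 n29582 = n31578 := rfl
theorem F146885 : act 0 n31578 = n30596 := d2_1 D31578 (iv D30596) (iv F137753)
theorem F146886 : act 2 n31578 = n29883 := d17_1 D31578 (iv D29883) F108548 (iv F107176) (iv F137754)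
theorem F146887 : act 5 n31578 = n29640 := d25_2 (iv F137755) D31578 (iv D29640)
def n31579 : Q := act 7 n29582
theorem D31579 : act 7 n29582 = n31579 := rfl
theorem F146888 : act 0 n31579 = n30597 := d6_1 D31579 (iv D30597) (iv F137753)
theorem F146889 : act 2 n31579 = n29585 := d21_1 D31579 (iv D29585) (iv F137754)
theorem F146890 : act 4 n31579 = n29583 := d32_1 D31579 (iv D29583) D29582
theorem F146891 : act 5 n31579 = n29641 := d36_1 D31579 (iv D29641) (iv F137755)
def n31580 : Q := act 8 n29582
theorem D31580 : act 8 n29582 = n31580 := rfl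
theorem F146892 : act 0 n31580 = n30598 := d7_1 D31580 (iv D30598) (iv F137753)
theorem F146893 : act 2 n31580 = n29586 := d22_1 D31580 (iv D29586) (iv F137754)
theorem F146894 : act 4 n31580 = n29584 := d33_1 D31580 (iv D29584) D29582
theorem F146895 : act 5 n31580 = n31580 := d37_1 D31580 (iv D31580) F137755 F107488 (iv F137755)
def n31581 : Q := act 6 n29583
theorem D31581 : act 6 n29583 = n31581 := rfl
theorem F146896 : act 0 n31581 = n30599 := d5_1 D31581 (iv D30599) (iv F137756)
theorem F146897 : act 2 n31581 = n29587 := d20_1 D31581 (iv D29587) (iv F137757)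
def n31582 : Q := act 8 n29583
theorem D31582 : act 8 n29583 = n31582 := rfl
theorem F146898 : act 0 n31582 = n30600 := d7_1 D31582 (iv D30600) (iv F137756)
theorem F146899 : act 2 n31582 = n29588 := d22_1 D31582 (iv D29588) (iv F137757)
theorem F146900 : act 5 n31582 = n29601 := d37_1 D31582 (iv D29601) F107268 (iv F107173) (iv F137758)
theorem F146901 : act 7 n31582 = n29584 := d42_1 D31582 (iv D29584) D29583
def n31583 : Q := act 9 n29584
theorem D31583 : act 9 n29584 = n31583 := rfl
theorem F146902 : act 0 n31583 = n30601 := d8_1 D31583 (iv D30601) (iv F137759)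
theorem F146903 : act 2 n31583 = n29589 := d23_1 D31583 (iv D29589) (iv F137760)
theorem F146904 : act 5 n31583 = n29602 := d38_1 D31583 (iv D29602) (iv F137761)
def n31584 : Q := act 6 n29585
theorem D31584 : act 6 n29585 = n31584 := rfl
theorem F146905 : act 0 n31584 = n30602 := d5_1 D31584 (iv D30602) (iv F137762)
theorem F146906 : act 1 n31584 = n31584 := d13_1 D31584 (iv D31584) F137763
theorem F146907 : act 3 n31584 = n29889 := d26_1 D31584 (iv D29889) (iv F137764)
theorem F146908 : act 4 n31584 = n29587 := d31_1 D31584 (iv D29587) (iv F137765)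
def n31585 : Q := act 8 n29585
theorem D31585 : act 8 n29585 = n31585 := rfl
theorem F146909 : act 0 n31585 = n30603 := d7_1 D31585 (iv D30603) (iv F137762)
theorem F146910 : act 1 n31585 = n31585 := d15_1 D31585 (iv D31585) F137763
theorem F146911 : act 3 n31585 = n29890 := d28_1 D31585 (iv D29890) (iv F137764)
theorem F146912 : act 4 n31585 = n29588 := d33_1 D31585 (iv D29588) (iv F137765)
theorem F146913 : act 5 n31585 = n31585 := d37_1 D31585 (iv D31585) F137766 F107497 (iv F137766)
theorem F146914 : act 7 n31585 = n29586 := d42_1 D31585 (iv D29586) D29585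
def n31586 : Q := act 9 n29586
theorem D31586 : act 9 n29586 = n31586 := rfl
theorem F146915 : act 0 n31586 = n30604 := d8_1 D31586 (iv D30604) (iv F137767)
theorem F146916 : act 1 n31586 = n31586 := d16_1 D31586 (iv D31586) F137768
theorem F146917 : act 3 n31586 = n29891 := d29_1 D31586 (iv D29891) (iv F137769)
theorem F146918 : act 4 n31586 = n29589 := d34_1 D31586 (iv D29589) (iv F137770)
theorem F146919 : act 5 n31586 = n31586 := d38_1 D31586 (iv D31586) F137771
theorem F146920 : act 6 n31586 = n31077 := d41_1 D31586 (iv F146646) F146645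
theorem F146921 : act 8 n31586 = n31043 := d44_1 D31586 F146840 (iv D31567) F137718 D29586
def n31587 : Q := act 8 n29587
theorem D31587 : act 8 n29587 = n31587 := rfl
theorem F146922 : act 0 n31587 = n30605 := d7_1 D31587 (iv D30605) (iv F137772)
theorem F146923 : act 1 n31587 = n31587 := d15_1 D31587 (iv D31587) F137773
theorem F146924 : act 3 n31587 = n29590 := d28_1 D31587 (iv D29590) (iv F137774)
theorem F146925 : act 6 n31587 = n29588 := d40_1 D31587 (iv D29588) D29587
def n31588 : Q := act 9 n29588
theorem D31588 : act 9 n29588 = n31588 := rfl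
theorem F146926 : act 0 n31588 = n30606 := d8_1 D31588 (iv D30606) (iv F137775)
theorem F146927 : act 1 n31588 = n31588 := d16_1 D31588 (iv D31588) F137776
theorem F146928 : act 3 n31588 = n29591 := d29_1 D31588 (iv D29591) (iv F137777)
theorem F146929 : act 5 n31588 = n29604 := d38_1 D31588 (iv D29604) (iv F137778)
theorem F146930 : act 7 n31588 = n29589 := d43_1 D31588 (iv D29589) (iv F137779)
def n31589 : Q := act 5 n29590
theorem D31589 : act 5 n29590 = n31589 := rfl
theorem F146931 : act 0 n31589 = n30607 := d4_1 D31589 (iv D30607) (iv F137784)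
theorem F146932 : act 1 n31589 = n31589 := d12_1 D31589 (iv D31589) F137785
theorem F146933 : act 6 n31589 = n29605 := d35_2 (iv F137787) D31589 (iv D29605) F107294 (iv F107192)
def n31590 : Q := act 9 n29590
theorem D31590 : act 9 n29590 = n31590 := rfl
theorem F146934 : act 0 n31590 = n30608 := d8_1 D31590 (iv D30608) (iv F137784)
theorem F146935 : act 1 n31590 = n31590 := d16_1 D31590 (iv D31590) F137785
theorem F146936 : act 4 n31590 = n29895 := d34_1 D31590 (iv D29895) (iv F137786)
theorem F146937 : act 6 n31590 = n29591 := d41_1 D31590 (iv D29591) (iv F137787)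
def n31591 : Q := act 8 n29592
theorem D31591 : act 8 n29592 = n31591 := rfl
theorem F146938 : act 0 n31591 = n30612 := d7_1 D31591 (iv D30612) (iv F137793)
theorem F146939 : act 1 n31591 = n31591 := d15_1 D31591 (iv D31591) F137794
theorem F146940 : act 3 n31591 = n29594 := d28_1 D31591 (iv D29594) (iv F137795)
theorem F146941 : act 4 n31591 = n29608 := d33_1 D31591 (iv F145943) F145940
theorem F146942 : act 6 n31591 = n29593 := d40_1 D31591 (iv D29593) D29592
theorem F146943 : act 7 n31591 = n31591 := d42_1 D31591 (iv D31591) F137797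
theorem F146944 : act 9 n29607 = n31591 := d41_0 F146942 (iv F137804) (iv F137874)
def n31592 : Q := act 5 n29594
theorem D31592 : act 5 n29594 = n31592 := rfl
theorem F146945 : act 0 n31592 = n30613 := d4_1 D31592 (iv D30613) (iv F137805)
theorem F146946 : act 1 n31592 = n31592 := d12_1 D31592 (iv D31592) F137806
theorem F146947 : act 7 n31592 = n31592 := d36_2 F137809 D31592 (iv D31592)
theorem F146948 : act 8 n31592 = n29605 := d37_2 D29594 D31592 (iv D29605) (iv D23886) (iv F107238)
def n31593 : Q := act 9 n29594
theorem D31593 : act 9 n29594 = n31593 := rfl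
theorem F146949 : act 0 n31593 = n30614 := d8_1 D31593 (iv D30614) (iv F137805)
theorem F146950 : act 1 n31593 = n31593 := d16_1 D31593 (iv D31593) F137806
theorem F146951 : act 3 n31593 = n29607 := d29_1 D31593 F146944 F146940
theorem F146952 : act 4 n31593 = n31593 := d34_1 D31593 (iv D31593) F137807
theorem F146953 : act 6 n31593 = n29595 := d41_1 D31593 (iv D29595) (iv F137808)
theorem F146954 : act 7 n31593 = n31593 := d43_1 D31593 (iv D31593) F137809
theorem F146955 : act 8 n31593 = n31593 := d44_1 D31593 (iv D31593) (iv D29594) F107240 D29594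
def n31594 : Q := act 7 n29596
theorem D31594 : act 7 n29596 = n31594 := rfl
theorem F146956 : act 0 n31594 = n29598 := d6_1 D31594 (iv D29598) (iv F137816)
theorem F146957 : act 1 n31594 = n30615 := d14_1 D31594 (iv D30615) (iv F137817)
theorem F146958 : act 2 n31594 = n31594 := d21_1 D31594 (iv D31594) F137818
theorem F146959 : act 4 n31594 = n31594 := d32_1 D31594 (iv D31594) F137819
theorem F146960 : act 5 n31594 = n29597 := d36_1 D31594 (iv D29597) D29596
theorem F146961 : act 9 n31594 = n31594 := d43_2 F137821 D31594 (iv D31594)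
theorem F146962 : act 6 n30515 = n31594 := d35_0 F146960 F137826 F113310 D25573 D30515
def n31595 : Q := act 8 n29596
theorem D31595 : act 8 n29596 = n31595 := rfl
theorem F146963 : act 0 n31595 = n29599 := d7_1 D31595 (iv D29599) (iv F137816)
theorem F146964 : act 1 n31595 = n30616 := d15_1 D31595 (iv D30616) (iv F137817)
theorem F146965 : act 2 n31595 = n31595 := d22_1 D31595 (iv D31595) F137818
theorem F146966 : act 4 n31595 = n31595 := d33_1 D31595 (iv D31595) F137819
theorem F146967 : act 6 n31595 = n31595 := d40_1 D31595 (iv D31595) F137820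
def n31596 : Q := act 8 n29598
theorem D31596 : act 8 n29598 = n31596 := rfl
theorem F146968 : act 1 n31596 = n29601 := d15_1 D31596 (iv D29601) (iv F137828)
theorem F146969 : act 2 n31596 = n31596 := d22_1 D31596 (iv D31596) F137829
theorem F146970 : act 4 n31596 = n31596 := d33_1 D31596 (iv D31596) F137830
theorem F146971 : act 7 n31596 = n29599 := d42_1 D31596 (iv D29599) D29598
def n31597 : Q := act 9 n29599
theorem D31597 : act 9 n29599 = n31597 := rfl
theorem F146972 : act 1 n31597 = n29602 := d16_1 D31597 (iv D29602) (iv F137833)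
theorem F146973 : act 2 n31597 = n31597 := d23_1 D31597 (iv D31597) F137834
theorem F146974 : act 4 n31597 = n31597 := d34_1 D31597 (iv D31597) F137835
theorem F146975 : act 6 n31597 = n31597 := d41_1 D31597 (iv D31597) F137836
theorem F146976 : act 8 n31597 = n31597 := d44_1 D31597 (iv D31597) (iv D29599) F107260 D29599
def n31598 : Q := act 8 n29600
theorem D31598 : act 8 n29600 = n31598 := rfl
theorem F146977 : act 0 n31598 = n30620 := d7_1 D31598 (iv D30620) (iv F137837)
theorem F146978 : act 2 n31598 = n29603 := d22_1 D31598 (iv D29603) (iv F137838)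
theorem F146979 : act 4 n31598 = n31598 := d33_1 D31598 (iv D31598) F137839
theorem F146980 : act 6 n31598 = n29601 := d40_1 D31598 (iv D29601) D29600
theorem F146981 : act 7 n31598 = n31598 := d42_1 D31598 (iv D31598) F137840
def n31599 : Q := act 9 n29601
theorem D31599 : act 9 n29601 = n31599 := rfl
theorem F146982 : act 0 n31599 = n30621 := d8_1 D31599 (iv D30621) (iv F137842)
theorem F146983 : act 2 n31599 = n29604 := d23_1 D31599 (iv D29604) (iv F137843)
theorem F146984 : act 4 n31599 = n31599 := d34_1 D31599 (iv D31599) F137844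
theorem F146985 : act 7 n31599 = n29602 := d43_1 D31599 (iv D29602) (iv F137845)
theorem F146986 : act 8 n31599 = n31599 := d44_1 D31599 (iv D31599) (iv D29601) F107269 D29601
def n31600 : Q := act 5 n29603
theorem D31600 : act 5 n29603 = n31600 := rfl
theorem F146987 : act 0 n31600 = n30622 := d4_1 D31600 (iv D30622) (iv F137851)
theorem F146988 : act 1 n31600 = n31600 := d12_1 D31600 (iv D31600) F137852
theorem F146989 : act 3 n31600 = n29605 := d25_1 D31600 (iv D29605) (iv F137853)
theorem F146990 : act 7 n31600 = n31600 := d36_2 F137856 D31600 (iv D31600)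
def n31601 : Q := act 9 n29603
theorem D31601 : act 9 n29603 = n31601 := rfl
theorem F146991 : act 0 n31601 = n30623 := d8_1 D31601 (iv D30623) (iv F137851)
theorem F146992 : act 1 n31601 = n31601 := d16_1 D31601 (iv D31601) F137852
theorem F146993 : act 3 n31601 = n29606 := d29_1 D31601 (iv D29606) (iv F137853)
theorem F146994 : act 4 n31601 = n31601 := d34_1 D31601 (iv D31601) F137854
theorem F146995 : act 6 n31601 = n29604 := d41_1 D31601 (iv D29604) (iv F137855)
theorem F146996 : act 7 n31601 = n31601 := d43_1 D31601 (iv D31601) F137856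
theorem F146997 : act 8 n31601 = n31601 := d44_1 D31601 (iv D31601) (iv D29603) F107279 D29603
def n31602 : Q := act 4 n29605
theorem D31602 : act 4 n29605 = n31602 := rfl
theorem F146998 : act 0 n31602 = n30624 := d3_1 D31602 (iv D30624) (iv F137863)
theorem F146999 : act 1 n31602 = n31602 := d11_1 D31602 (iv D31602) F137864
theorem F147000 : act 5 n31602 = n29607 := d30_2 D29605 D31602 (iv D29607) (iv D23888) (iv F107293)
theorem F147001 : act 7 n31602 = n31602 := d32_2 F137865 D31602 (iv D31602)
def n31603 : Q := act 9 n29605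
theorem D31603 : act 9 n29605 = n31603 := rfl
theorem F147002 : act 0 n31603 = n30625 := d8_1 D31603 (iv D30625) (iv F137863)
theorem F147003 : act 1 n31603 = n31603 := d16_1 D31603 (iv D31603) F137864
theorem F147004 : act 5 n31603 = n29606 := d38_1 D31603 (iv D29606) D29605
theorem F147005 : act 7 n31603 = n31603 := d43_1 D31603 (iv D31603) F137865
def n31604 : Q := act 7 n29610
theorem D31604 : act 7 n29610 = n31604 := rfl
theorem F147006 : act 0 n31604 = n30152 := d6_1 D31604 F140593 (iv F137891)
theorem F147007 : act 1 n31604 = n29611 := d14_1 D31604 (iv D29611) (iv F137892)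
theorem F147008 : act 2 n31604 = n31604 := d21_1 D31604 (iv D31604) F137893
theorem F147009 : act 3 n31604 = n30629 := d27_1 D31604 (iv D30629) (iv F137894)
theorem F147010 : act 5 n31604 = n30215 := d36_1 D31604 F140831 F137897
theorem F147011 : act 6 n31604 = n29908 := d39_1 D31604 (iv D29908) (iv D24191) (iv F107316) D29610
theorem F147012 : act 8 n31604 = n31604 := d42_2 F137895 D31604 (iv D31604)
theorem F147013 : act 9 n31604 = n30132 := d43_2 (iv F137896) D31604 F140503
def n31605 : Q := act 7 n29612
theorem D31605 : act 7 n29612 = n31605 := rfl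
theorem F147014 : act 0 n31605 = n30626 := d6_1 D31605 (iv D30626) (iv F137904)
theorem F147015 : act 1 n31605 = n31605 := d14_1 D31605 (iv D31605) F137905
theorem F147016 : act 3 n31605 = n29622 := d27_1 D31605 (iv D29622) (iv F137906)
theorem F147017 : act 4 n31605 = n29613 := d32_1 D31605 (iv D29613) D29612
theorem F147018 : act 8 n31605 = n30021 := d42_2 (iv F137908) D31605 F139941
theorem F147019 : act 9 n31605 = n30192 := d43_2 (iv F137909) D31605 (iv D30192)
def n31606 : Q := act 6 n29613
theorem D31606 : act 6 n29613 = n31606 := rfl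
theorem F147020 : act 0 n31606 = n30627 := d5_1 D31606 (iv D30627) (iv F137910)
theorem F147021 : act 1 n31606 = n31606 := d13_1 D31606 (iv D31606) F137911
theorem F147022 : act 3 n31606 = n29614 := d26_1 D31606 (iv D29614) (iv F137912)
theorem F147023 : act 5 n31606 = n29913 := d35_1 D31606 (iv D29913) F108738 (iv F107332) (iv F137913)
theorem F147024 : act 7 n31606 = n31606 := d39_2 D29613 D31606 (iv D31606) (iv D29613) F107327
theorem F147025 : act 9 n31606 = n30193 := d41_2 (iv F137914) D31606 (iv D30193)
def n31607 : Q := act 8 n29614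
theorem D31607 : act 8 n29614 = n31607 := rfl
theorem F147026 : act 0 n31607 = n30628 := d7_1 D31607 (iv D30628) (iv F137915)
theorem F147027 : act 1 n31607 = n31607 := d15_1 D31607 (iv D31607) F137916
theorem F147028 : act 2 n31607 = n30635 := d22_1 D31607 (iv D30635) (iv F137917)
theorem F147029 : act 4 n31607 = n29624 := d33_1 D31607 (iv D29624) (iv F137918)
theorem F147030 : act 6 n31607 = n29615 := d40_1 D31607 (iv D29615) D29614
theorem F147031 : act 7 n31607 = n31607 := d42_1 D31607 (iv D31607) F137920
def n31608 : Q := act 7 n29618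
theorem D31608 : act 7 n29618 = n31608 := rfl
theorem F147032 : act 0 n31608 = n30632 := d6_1 D31608 (iv D30632) (iv F137942)
theorem F147033 : act 1 n31608 = n31608 := d14_1 D31608 (iv D31608) F137943
theorem F147034 : act 3 n31608 = n30192 := d27_1 D31608 (iv D30192) (iv F137944)
theorem F147035 : act 4 n31608 = n29619 := d32_1 D31608 (iv D29619) D29618
theorem F147036 : act 8 n31608 = n30018 := d42_2 (iv F137946) D31608 F139926
theorem F147037 : act 9 n31608 = n29622 := d43_2 (iv F137947) D31608 (iv D29622)
theorem F147038 : act 6 n30368 = n31608 := d40_3 F147036 F139925 D30368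
def n31609 : Q := act 6 n29619
theorem D31609 : act 6 n29619 = n31609 := rfl
theorem F147039 : act 0 n31609 = n30633 := d5_1 D31609 (iv D30633) (iv F137948)
theorem F147040 : act 1 n31609 = n31609 := d13_1 D31609 (iv D31609) F137949
theorem F147041 : act 3 n31609 = n29620 := d26_1 D31609 (iv D29620) (iv F137950)
theorem F147042 : act 4 n31609 = n30368 := d31_1 D31609 F147038 F147035
theorem F147043 : act 5 n31609 = n29633 := d35_1 D31609 (iv D29633) F107453 (iv F107366) (iv F137951)
theorem F147044 : act 7 n31609 = n31609 := d39_2 D29619 D31609 (iv D31609) (iv D29619) F107361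
theorem F147045 : act 8 n31609 = n30367 := d40_2 F145583 D31609 (iv F145581)
theorem F147046 : act 9 n31609 = n29623 := d41_2 (iv F137952) D31609 (iv D29623)
def n31610 : Q := act 8 n29620
theorem D31610 : act 8 n29620 = n31610 := rfl
theorem F147047 : act 0 n31610 = n30635 := d7_1 D31610 (iv D30635) (iv F137953)
theorem F147048 : act 1 n31610 = n31610 := d15_1 D31610 (iv D31610) F137954
theorem F147049 : act 2 n31610 = n30628 := d22_1 D31610 (iv D30628) (iv F137955)
theorem F147050 : act 3 n31610 = n30367 := d28_1 D31610 (iv F147045) F147041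
theorem F147051 : act 4 n31610 = n30194 := d33_1 D31610 (iv D30194) (iv F137956)
theorem F147052 : act 6 n31610 = n29621 := d40_1 D31610 (iv D29621) D29620
theorem F147053 : act 7 n31610 = n31610 := d42_1 D31610 (iv D31610) F137958
theorem F147054 : act 9 n31610 = n30366 := d44_2 (iv F137959) D31610 (iv F144530) F144531 (iv D29624)
theorem F147055 : act 5 n30370 = n31610 := d38_3 F147054 F141372 D30370
def n31611 : Q := act 6 n29622
theorem D31611 : act 6 n29622 = n31611 := rfl
theorem F147056 : act 0 n31611 = n30639 := d5_1 D31611 (iv D30639) (iv F137966)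
theorem F147057 : act 1 n31611 = n31611 := d13_1 D31611 (iv D31611) F137967
theorem F147058 : act 4 n31611 = n29623 := d31_1 D31611 (iv D29623) (iv F137968)
theorem F147059 : act 7 n31611 = n31611 := d39_2 D29622 D31611 (iv D31611) (iv D29622) F107398
theorem F147060 : act 8 n31611 = n30017 := d40_2 (iv F137969) D31611 F139919
theorem F147061 : act 9 n31611 = n30368 := d41_2 F147037 D31611 F147038
def n31612 : Q := act 5 n29625
theorem D31612 : act 5 n29625 = n31612 := rfl
theorem F147062 : act 0 n31612 = n29626 := d4_1 D31612 (iv D29626) (iv F137980)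
theorem F147063 : act 1 n31612 = n30642 := d12_1 D31612 (iv D30642) (iv F137981)
theorem F147064 : act 2 n31612 = n31612 := d19_1 D31612 (iv D31612) F137982
theorem F147065 : act 3 n31612 = n30872 := d25_1 D31612 (iv D30872) (iv F137983)
theorem F147066 : act 6 n31612 = n31612 := d35_2 D29625 D31612 (iv D31612) (iv D29625) F107427
theorem F147067 : act 9 n31612 = n29636 := d38_2 (iv F137985) D31612 (iv D29636)
def n31613 : Q := act 7 n29625
theorem D31613 : act 7 n29625 = n31613 := rfl
theorem F147068 : act 0 n31613 = n29627 := d6_1 D31613 (iv D29627) (iv F137980)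
theorem F147069 : act 1 n31613 = n30643 := d14_1 D31613 (iv D30643) (iv F137981)
theorem F147070 : act 2 n31613 = n31613 := d21_1 D31613 (iv D31613) F137982
theorem F147071 : act 3 n31613 = n30179 := d27_1 D31613 F140680 (iv F137983)
theorem F147072 : act 6 n31613 = n30177 := d39_1 D31613 F140672 (iv F137932) F137933 D29625
theorem F147073 : act 8 n31613 = n31613 := d42_2 F137984 D31613 (iv D31613)
theorem F147074 : act 9 n31613 = n29637 := d43_2 (iv F137985) D31613 (iv D29637)
def n31614 : Q := act 4 n29626
theorem D31614 : act 4 n29626 = n31614 := rfl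
theorem F147075 : act 1 n31614 = n29628 := d11_1 D31614 (iv D29628) (iv F137986)
theorem F147076 : act 2 n31614 = n31614 := d18_1 D31614 (iv D31614) F137987
theorem F147077 : act 6 n31614 = n31614 := d31_2 F137989 D31614 (iv D31614)
theorem F147078 : act 9 n31614 = n29638 := d34_2 (iv F137990) D31614 (iv D29638)
def n31615 : Q := act 7 n29626
theorem D31615 : act 7 n29626 = n31615 := rfl
theorem F147079 : act 1 n31615 = n29629 := d14_1 D31615 (iv D29629) (iv F137986)
theorem F147080 : act 2 n31615 = n31615 := d21_1 D31615 (iv D31615) F137987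
theorem F147081 : act 3 n31615 = n30874 := d27_1 D31615 (iv D30874) (iv F137988)
theorem F147082 : act 5 n31615 = n29627 := d36_1 D31615 (iv D29627) D29626
theorem F147083 : act 9 n31615 = n29639 := d43_2 (iv F137990) D31615 (iv D29639)
def n31616 : Q := act 8 n29626
theorem D31616 : act 8 n29626 = n31616 := rfl
theorem F147084 : act 1 n31616 = n29630 := d15_1 D31616 (iv D29630) (iv F137986)
theorem F147085 : act 2 n31616 = n31616 := d22_1 D31616 (iv D31616) F137987
theorem F147086 : act 3 n31616 = n30875 := d28_1 D31616 (iv D30875) (iv F137988)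
theorem F147087 : act 5 n31616 = n31616 := d37_1 D31616 (iv D31616) (iv D29626) F107433 D29626
theorem F147088 : act 6 n31616 = n31616 := d40_1 D31616 (iv D31616) F137989
theorem F147089 : act 9 n31616 = n31616 := d44_2 (iv F137990) D31616 (iv D31616) F137990 F107481
def n31617 : Q := act 3 n29628
theorem D31617 : act 3 n29628 = n31617 := rfl
theorem F147090 : act 0 n31617 = n30647 := d2_1 D31617 (iv D30647) (iv F137996)
theorem F147091 : act 2 n31617 = n29920 := d17_1 D31617 (iv D29920) F108837 (iv F107447) (iv F137997)
theorem F147092 : act 4 n31617 = n30427 := d24_2 D29628 D31617 F141630 (iv D26070) (iv F107437)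
theorem F147093 : act 6 n31617 = n31617 := d26_2 F137998 D31617 (iv D31617)
theorem F147094 : act 9 n31617 = n29640 := d29_2 (iv F137999) D31617 (iv D29640)
theorem F147095 : act 8 n30425 = n31617 := d33_0 F147092 (iv D30427) D30425
def n31618 : Q := act 7 n29628
theorem D31618 : act 7 n29628 = n31618 := rfl
theorem F147096 : act 0 n31618 = n30648 := d6_1 D31618 (iv D30648) (iv F137996)
theorem F147097 : act 2 n31618 = n29631 := d21_1 D31618 (iv D29631) (iv F137997)
theorem F147098 : act 4 n31618 = n29629 := d32_1 D31618 (iv D29629) D29628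
theorem F147099 : act 9 n31618 = n29641 := d43_2 (iv F137999) D31618 (iv D29641)
def n31619 : Q := act 8 n29628
theorem D31619 : act 8 n29628 = n31619 := rfl
theorem F147100 : act 0 n31619 = n30649 := d7_1 D31619 (iv D30649) (iv F137996)
theorem F147101 : act 2 n31619 = n29632 := d22_1 D31619 (iv D29632) (iv F137997)
theorem F147102 : act 3 n31619 = n30425 := d28_1 D31619 F147095 (iv D31617)
theorem F147103 : act 4 n31619 = n29630 := d33_1 D31619 (iv D29630) D29628
theorem F147104 : act 6 n31619 = n31619 := d40_1 D31619 (iv D31619) F137998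
theorem F147105 : act 9 n31619 = n31619 := d44_2 (iv F137999) D31619 (iv D31619) F137999 F107488
theorem F147106 : act 5 n30976 = n31619 := d19_0 F147101 (iv F138022) (iv F143583)
def n31620 : Q := act 6 n29629
theorem D31620 : act 6 n29629 = n31620 := rfl
theorem F147107 : act 0 n31620 = n30650 := d5_1 D31620 (iv D30650) (iv F138000)
theorem F147108 : act 2 n31620 = n29633 := d20_1 D31620 (iv D29633) (iv F138001)
theorem F147109 : act 3 n31620 = n30877 := d26_1 D31620 (iv D30877) (iv F138002)
theorem F147110 : act 7 n31620 = n31620 := d39_2 D29629 D31620 (iv D31620) (iv D29629) F107438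
theorem F147111 : act 9 n31620 = n29642 := d41_2 (iv F138004) D31620 (iv D29642)
def n31621 : Q := act 8 n29629
theorem D31621 : act 8 n29629 = n31621 := rfl
theorem F147112 : act 0 n31621 = n30651 := d7_1 D31621 (iv D30651) (iv F138000)
theorem F147113 : act 2 n31621 = n29634 := d22_1 D31621 (iv D29634) (iv F138001)
theorem F147114 : act 3 n31621 = n30878 := d28_1 D31621 (iv D30878) (iv F138002)
theorem F147115 : act 5 n31621 = n31621 := d37_1 D31621 (iv D31621) F138003 F107443 (iv F138003)
theorem F147116 : act 7 n31621 = n29630 := d42_1 D31621 (iv D29630) D29629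
theorem F147117 : act 9 n31621 = n31621 := d44_2 (iv F138004) D31621 (iv D31621) F138004 F107492
def n31622 : Q := act 6 n29631
theorem D31622 : act 6 n29631 = n31622 := rfl
theorem F147118 : act 0 n31622 = n30652 := d5_1 D31622 (iv D30652) (iv F138011)
theorem F147119 : act 1 n31622 = n31622 := d13_1 D31622 (iv D31622) F138012
theorem F147120 : act 3 n31622 = n29923 := d26_1 D31622 (iv D29923) (iv F138013)
theorem F147121 : act 4 n31622 = n29633 := d31_1 D31622 (iv D29633) (iv F138014)
theorem F147122 : act 7 n31622 = n31622 := d39_2 D29631 D31622 (iv D31622) (iv D29631) F107448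
theorem F147123 : act 9 n31622 = n29643 := d41_2 (iv F138015) D31622 (iv D29643)
def n31623 : Q := act 8 n29631
theorem D31623 : act 8 n29631 = n31623 := rfl
theorem F147124 : act 0 n31623 = n30653 := d7_1 D31623 (iv D30653) (iv F138011)
theorem F147125 : act 1 n31623 = n31623 := d15_1 D31623 (iv D31623) F138012
theorem F147126 : act 3 n31623 = n29924 := d28_1 D31623 (iv D29924) (iv F138013)
theorem F147127 : act 4 n31623 = n29634 := d33_1 D31623 (iv D29634) (iv F138014)
theorem F147128 : act 7 n31623 = n29632 := d42_1 D31623 (iv D29632) D29631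
theorem F147129 : act 9 n31623 = n31623 := d44_2 (iv F138015) D31623 (iv D31623) F138015 F107497
theorem F147130 : act 5 n31023 = n31623 := d36_3 F147128 (iv F138022) D31023
def n31624 : Q := act 8 n29633
theorem D31624 : act 8 n29633 = n31624 := rfl
theorem F147131 : act 0 n31624 = n30654 := d7_1 D31624 (iv D30654) (iv F138023)
theorem F147132 : act 1 n31624 = n31624 := d15_1 D31624 (iv D31624) F138024
theorem F147133 : act 3 n31624 = n29635 := d28_1 D31624 (iv D29635) (iv F138025)
theorem F147134 : act 5 n31624 = n30371 := d37_1 D31624 (iv D30371) (iv F141376) (iv F147045) F147043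
theorem F147135 : act 6 n31624 = n29634 := d40_1 D31624 (iv D29634) D29633
theorem F147136 : act 7 n31624 = n31624 := d42_1 D31624 (iv D31624) F138026
theorem F147137 : act 9 n31624 = n31624 := d44_2 (iv F138027) D31624 (iv D31624) F138027 F107502
def n31625 : Q := act 5 n29635
theorem D31625 : act 5 n29635 = n31625 := rfl
theorem F147138 : act 0 n31625 = n30655 := d4_1 D31625 (iv D30655) (iv F138034)
theorem F147139 : act 1 n31625 = n31625 := d12_1 D31625 (iv D31625) F138035
theorem F147140 : act 2 n31625 = n30881 := d19_1 D31625 (iv D30881) (iv F138036)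
theorem F147141 : act 3 n31625 = n30371 := d25_1 D31625 (iv F147134) F147133
theorem F147142 : act 4 n31625 = n31625 := d30_1 D31625 (iv D31625) F138037 F108876 (iv F138037)
theorem F147143 : act 6 n31625 = n31625 := d35_2 (iv F138038) D31625 (iv D31625) F138038 F107471
theorem F147144 : act 7 n31625 = n31625 := d36_2 F138039 D31625 (iv D31625)
theorem F147145 : act 8 n31625 = n30370 := d37_2 D29635 D31625 F147055 (iv D31610) F137957
theorem F147146 : act 9 n31625 = n31625 := d38_2 F138040 D31625 (iv D31625)
def n31626 : Q := act 4 n29636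
theorem D31626 : act 4 n29636 = n31626 := rfl
theorem F147147 : act 0 n31626 = n29638 := d3_1 D31626 (iv D29638) (iv F138041)
theorem F147148 : act 1 n31626 = n30656 := d11_1 D31626 (iv D30656) (iv F138042)
theorem F147149 : act 2 n31626 = n31626 := d18_1 D31626 (iv D31626) F138043
theorem F147150 : act 6 n31626 = n31626 := d31_2 F138044 D31626 (iv D31626)
theorem F147151 : act 8 n31626 = n31626 := d33_2 F138045 D31626 (iv D31626)
def n31627 : Q := act 7 n29636
theorem D31627 : act 7 n29636 = n31627 := rfl
theorem F147152 : act 0 n31627 = n29639 := d6_1 D31627 (iv D29639) (iv F138041)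
theorem F147153 : act 1 n31627 = n30657 := d14_1 D31627 (iv D30657) (iv F138042)
theorem F147154 : act 2 n31627 = n31627 := d21_1 D31627 (iv D31627) F138043
theorem F147155 : act 3 n31627 = n30178 := d27_1 D31627 (iv F144778) F144776
theorem F147156 : act 5 n31627 = n29637 := d36_1 D31627 (iv D29637) D29636
theorem F147157 : act 8 n31627 = n31627 := d42_2 F138045 D31627 (iv D31627)
theorem F147158 : act 6 n30289 = n31627 := d35_0 F147156 F138050 F113320 (iv F113941) D30289
def n31628 : Q := act 3 n29638
theorem D31628 : act 3 n29638 = n31628 := rfl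
theorem F147159 : act 1 n31628 = n29640 := d10_1 D31628 (iv D29640) (iv F138052)
theorem F147160 : act 6 n31628 = n31628 := d26_2 F138054 D31628 (iv D31628)
theorem F147161 : act 8 n31628 = n31628 := d28_2 F138055 D31628 (iv D31628)
def n31629 : Q := act 7 n29638
theorem D31629 : act 7 n29638 = n31629 := rfl
theorem F147162 : act 1 n31629 = n29641 := d14_1 D31629 (iv D29641) (iv F138052)
theorem F147163 : act 2 n31629 = n31629 := d21_1 D31629 (iv D31629) F138053
theorem F147164 : act 4 n31629 = n29639 := d32_1 D31629 (iv D29639) D29638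
theorem F147165 : act 8 n31629 = n31629 := d42_2 F138055 D31629 (iv D31629)
def n31630 : Q := act 7 n29640
theorem D31630 : act 7 n29640 = n31630 := rfl
theorem F147166 : act 0 n31630 = n30661 := d6_1 D31630 (iv D30661) (iv F138060)
theorem F147167 : act 2 n31630 = n29929 := d21_1 D31630 (iv D29929) (iv F138061)
theorem F147168 : act 3 n31630 = n29641 := d27_1 D31630 (iv D29641) D29640
theorem F147169 : act 8 n31630 = n31630 := d42_2 F138063 D31630 (iv D31630)
def n31631 : Q := act 6 n29641
theorem D31631 : act 6 n29641 = n31631 := rfl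
theorem F147170 : act 0 n31631 = n30662 := d5_1 D31631 (iv D30662) (iv F138064)
theorem F147171 : act 2 n31631 = n29643 := d20_1 D31631 (iv D29643) (iv F138065)
theorem F147172 : act 4 n31631 = n29642 := d31_1 D31631 (iv D29642) (iv F138066)
theorem F147173 : act 7 n31631 = n31631 := d39_2 D29641 D31631 (iv D31631) (iv D29641) F107487
theorem F147174 : act 8 n31631 = n31631 := d40_2 F138067 D31631 (iv D31631)
def n31632 : Q := act 5 n29643
theorem D31632 : act 5 n29643 = n31632 := rfl
theorem F147175 : act 0 n31632 = n30663 := d4_1 D31632 (iv D30663) (iv F138072)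
theorem F147176 : act 1 n31632 = n31632 := d12_1 D31632 (iv D31632) F138073
theorem F147177 : act 3 n31632 = n29931 := d25_1 D31632 (iv D29931) (iv F138074)
theorem F147178 : act 7 n31632 = n31632 := d36_2 F138076 D31632 (iv D31632)
def n31633 : Q := act 1 n29644
theorem D31633 : act 1 n29644 = n31633 := rfl
theorem F147179 : act 2 n31633 = n30056 := d9_2 D29644 D31633 F140132 F134834 (iv F107586)
theorem F147180 : act 3 n31633 = n31633 := d10_2 F138079 D31633 (iv D31633)
theorem F147181 : act 4 n31633 = n30391 := d11_2 (iv F138080) D31633 (iv D30391)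
theorem F147182 : act 5 n31633 = n29656 := d12_2 (iv F138081) D31633 (iv D29656)
theorem F147183 : act 7 n31633 = n30133 := d14_2 (iv F138082) D31633 (iv D30133)
theorem F147184 : act 8 n31633 = n30022 := d15_2 (iv F138083) D31633 (iv D30022)
theorem F147185 : act 9 n31633 = n30433 := d16_2 (iv F138084) D31633 (iv D30433)
def n31634 : Q := act 6 n29644
theorem D31634 : act 6 n29644 = n31634 := rfl
theorem F147186 : act 0 n31634 = n29680 := d5_1 D31634 (iv D29680) (iv F138078)
theorem F147187 : act 2 n31634 = n29645 := d20_1 D31634 (iv D29645) D29644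
theorem F147188 : act 3 n31634 = n31634 := d26_1 D31634 (iv D31634) F138079
theorem F147189 : act 4 n31634 = n30392 := d31_1 D31634 (iv D30392) (iv F138080)
theorem F147190 : act 8 n31634 = n30023 := d40_2 (iv F138083) D31634 (iv D30023)
theorem F147191 : act 9 n31634 = n30434 := d41_2 (iv F138084) D31634 (iv D30434)
def n31635 : Q := act 5 n29645
theorem D31635 : act 5 n29645 = n31635 := rfl
theorem F147192 : act 0 n31635 = n29681 := d4_1 D31635 (iv D29681) (iv F138085)
theorem F147193 : act 1 n31635 = n30156 := d12_1 D31635 (iv D30156) (iv F138086)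
theorem F147194 : act 3 n31635 = n29646 := d25_1 D31635 (iv D29646) (iv F138087)
theorem F147195 : act 6 n31635 = n29658 := d35_2 D29645 D31635 (iv D29658) (iv D23952) (iv F107588)
theorem F147196 : act 9 n31635 = n30435 := d38_2 (iv F138090) D31635 (iv D30435)
def n31636 : Q := act 7 n29645
theorem D31636 : act 7 n29645 = n31636 := rfl
theorem F147197 : act 0 n31636 = n29682 := d6_1 D31636 (iv D29682) (iv F138085)
theorem F147198 : act 1 n31636 = n30157 := d14_1 D31636 (iv D30157) (iv F138086)
theorem F147199 : act 3 n31636 = n29647 := d27_1 D31636 (iv D29647) (iv F138087)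
theorem F147200 : act 4 n31636 = n30394 := d32_1 D31636 (iv D30394) (iv F138088)
theorem F147201 : act 6 n31636 = n30136 := d39_1 D31636 (iv D30136) (iv D25099) (iv F107589) D29645
theorem F147202 : act 8 n31636 = n30025 := d42_2 (iv F138089) D31636 (iv D30025)
theorem F147203 : act 9 n31636 = n30436 := d43_2 (iv F138090) D31636 (iv D30436)
def n31637 : Q := act 7 n29646
theorem D31637 : act 7 n29646 = n31637 := rfl
theorem F147204 : act 0 n31637 = n29683 := d6_1 D31637 (iv D29683) (iv F138091)
theorem F147205 : act 1 n31637 = n30158 := d14_1 D31637 (iv D30158) (iv F138092)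
theorem F147206 : act 2 n31637 = n31637 := d21_1 D31637 (iv D31637) F138093
theorem F147207 : act 4 n31637 = n30706 := d32_1 D31637 (iv D30706) (iv F138094)
theorem F147208 : act 5 n31637 = n29647 := d36_1 D31637 (iv D29647) D29646
theorem F147209 : act 9 n31637 = n30437 := d43_2 (iv F138096) D31637 (iv D30437)
def n31638 : Q := act 8 n29646
theorem D31638 : act 8 n29646 = n31638 := rfl
theorem F147210 : act 0 n31638 = n29684 := d7_1 D31638 (iv D29684) (iv F138091)
theorem F147211 : act 1 n31638 = n29828 := d15_1 D31638 F138942 (iv F138092)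
theorem F147212 : act 2 n31638 = n31638 := d22_1 D31638 (iv D31638) F138093
theorem F147213 : act 4 n31638 = n30707 := d33_1 D31638 (iv D30707) (iv F138094)
theorem F147214 : act 5 n31638 = n29827 := d37_1 D31638 F138937 (iv D24484) (iv F107596) D29646
theorem F147215 : act 6 n31638 = n29661 := d40_1 D31638 (iv D29661) (iv F138095)
theorem F147216 : act 9 n30293 = n31638 := d41_0 F147215 (iv F138178) (iv F141090)
def n31639 : Q := act 1 n29648
theorem D31639 : act 1 n29648 = n31639 := rfl
theorem F147217 : act 0 n31639 = n30068 := d0_1 D31639 F140190 F138336 (iv D29689) (iv F138104)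
theorem F147218 : act 2 n31639 = n30065 := d9_2 D29648 D31639 F140176 F133797 (iv F107607)
theorem F147219 : act 3 n31639 = n31639 := d10_2 F138105 D31639 (iv D31639)
theorem F147220 : act 4 n31639 = n30066 := d11_2 (iv F138106) D31639 F140180
theorem F147221 : act 5 n31639 = n30133 := d12_2 (iv F138107) D31639 (iv D30133)
theorem F147222 : act 7 n31639 = n29656 := d14_2 (iv F138108) D31639 (iv D29656)
theorem F147223 : act 8 n31639 = n29662 := d15_2 (iv F138109) D31639 (iv D29662)
theorem F147224 : act 9 n31639 = n30064 := d16_2 (iv F138110) D31639 F140172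
def n31640 : Q := act 6 n29648
theorem D31640 : act 6 n29648 = n31640 := rfl
theorem F147225 : act 0 n31640 = n29690 := d5_1 D31640 (iv D29690) (iv F138104)
theorem F147226 : act 2 n31640 = n29649 := d20_1 D31640 (iv D29649) D29648
theorem F147227 : act 3 n31640 = n31640 := d26_1 D31640 (iv D31640) F138105
theorem F147228 : act 4 n31640 = n29798 := d31_1 D31640 F138802 (iv F138106)
theorem F147229 : act 8 n31640 = n29663 := d40_2 (iv F138109) D31640 (iv D29663)
theorem F147230 : act 9 n31640 = n29795 := d41_2 (iv F138110) D31640 F138788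
def n31641 : Q := act 5 n29649
theorem D31641 : act 5 n29649 = n31641 := rfl
theorem F147231 : act 0 n31641 = n29691 := d4_1 D31641 (iv D29691) (iv F138111)
theorem F147232 : act 1 n31641 = n30153 := d12_1 D31641 (iv D30153) (iv F138112)
theorem F147233 : act 3 n31641 = n29650 := d25_1 D31641 (iv D29650) (iv F138113)
theorem F147234 : act 6 n31641 = n30135 := d35_2 D29649 D31641 (iv D30135) (iv D25099) (iv F107609)
theorem F147235 : act 9 n31641 = n30202 := d38_2 (iv F138116) D31641 (iv D30202)
def n31642 : Q := act 7 n29649
theorem D31642 : act 7 n29649 = n31642 := rfl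
theorem F147236 : act 0 n31642 = n29692 := d6_1 D31642 (iv D29692) (iv F138111)
theorem F147237 : act 1 n31642 = n30154 := d14_1 D31642 (iv D30154) (iv F138112)
theorem F147238 : act 3 n31642 = n29651 := d27_1 D31642 (iv D29651) (iv F138113)
theorem F147239 : act 4 n31642 = n30665 := d32_1 D31642 (iv D30665) (iv F138114)
theorem F147240 : act 6 n31642 = n29659 := d39_1 D31642 (iv D29659) (iv D23952) (iv F107610) D29649
theorem F147241 : act 8 n31642 = n29665 := d42_2 (iv F138115) D31642 (iv D29665)
theorem F147242 : act 9 n31642 = n30203 := d43_2 (iv F138116) D31642 (iv D30203)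
def n31643 : Q := act 7 n29650
theorem D31643 : act 7 n29650 = n31643 := rfl
theorem F147243 : act 0 n31643 = n29693 := d6_1 D31643 (iv D29693) (iv F138117)
theorem F147244 : act 1 n31643 = n30155 := d14_1 D31643 (iv D30155) (iv F138118)
theorem F147245 : act 2 n31643 = n31643 := d21_1 D31643 (iv D31643) F138119
theorem F147246 : act 4 n31643 = n30220 := d32_1 D31643 (iv D30220) (iv F138120)
theorem F147247 : act 5 n31643 = n29651 := d36_1 D31643 (iv D29651) D29650
theorem F147248 : act 9 n31643 = n30204 := d43_2 (iv F138122) D31643 (iv D30204)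
def n31644 : Q := act 8 n29650
theorem D31644 : act 8 n29650 = n31644 := rfl
theorem F147249 : act 0 n31644 = n29694 := d7_1 D31644 (iv D29694) (iv F138117)
theorem F147250 : act 1 n31644 = n30129 := d15_1 D31644 F140484 (iv F138118)
theorem F147251 : act 2 n31644 = n31644 := d22_1 D31644 (iv D31644) F138119
theorem F147252 : act 4 n31644 = n30221 := d33_1 D31644 (iv D30221) (iv F138120)
theorem F147253 : act 5 n31644 = n29667 := d37_1 D31644 (iv D29667) (iv D23957) (iv F107617) D29650
theorem F147254 : act 6 n31644 = n30138 := d40_1 D31644 (iv D30138) (iv F138121)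
def n31645 : Q := act 1 n29652
theorem D31645 : act 1 n29652 = n31645 := rfl
theorem F147255 : act 0 n31645 = n30108 := d0_1 D31645 F140380 F110977 (iv F133581) (iv F138130)
theorem F147256 : act 2 n31645 = n30066 := d9_2 D29652 D31645 F140180 F134838 (iv F107628)
theorem F147257 : act 3 n31645 = n31645 := d10_2 F138131 D31645 (iv D31645)
theorem F147258 : act 4 n31645 = n30065 := d11_2 (iv F138132) D31645 F140176
theorem F147259 : act 5 n31645 = n30433 := d12_2 (iv F138133) D31645 (iv D30433)
theorem F147260 : act 7 n31645 = n30064 := d14_2 (iv F138134) D31645 F140172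
theorem F147261 : act 8 n31645 = n29932 := d15_2 (iv F138135) D31645 (iv D29932)
theorem F147262 : act 9 n31645 = n29656 := d16_2 (iv F138136) D31645 (iv D29656)
def n31646 : Q := act 6 n29652
theorem D31646 : act 6 n29652 = n31646 := rfl
theorem F147263 : act 0 n31646 = n29695 := d5_1 D31646 (iv D29695) (iv F138130)
theorem F147264 : act 2 n31646 = n29653 := d20_1 D31646 (iv D29653) D29652
theorem F147265 : act 3 n31646 = n31646 := d26_1 D31646 (iv D31646) F138131
theorem F147266 : act 4 n31646 = n30106 := d31_1 D31646 F140375 (iv F138132)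
theorem F147267 : act 8 n31646 = n29933 := d40_2 (iv F138135) D31646 (iv D29933)
theorem F147268 : act 9 n31646 = n29657 := d41_2 (iv F138136) D31646 (iv D29657)
def n31647 : Q := act 5 n29653
theorem D31647 : act 5 n29653 = n31647 := rfl
theorem F147269 : act 0 n31647 = n29696 := d4_1 D31647 (iv D29696) (iv F138137)
theorem F147270 : act 1 n31647 = n30664 := d12_1 D31647 (iv D30664) (iv F138138)
theorem F147271 : act 3 n31647 = n29654 := d25_1 D31647 (iv D29654) (iv F138139)
theorem F147272 : act 6 n31647 = n30435 := d35_2 D29653 D31647 (iv D30435) (iv D25515) (iv F107630)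
theorem F147273 : act 9 n31647 = n29658 := d38_2 (iv F138142) D31647 (iv D29658)
def n31648 : Q := act 7 n29653
theorem D31648 : act 7 n29653 = n31648 := rfl
theorem F147274 : act 0 n31648 = n29697 := d6_1 D31648 (iv D29697) (iv F138137)
theorem F147275 : act 1 n31648 = n30665 := d14_1 D31648 (iv D30665) (iv F138138)
theorem F147276 : act 3 n31648 = n29655 := d27_1 D31648 (iv D29655) (iv F138139)
theorem F147277 : act 4 n31648 = n30154 := d32_1 D31648 (iv D30154) (iv F138140)
theorem F147278 : act 6 n31648 = n30203 := d39_1 D31648 (iv D30203) (iv D25227) (iv F107631) D29653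
theorem F147279 : act 8 n31648 = n29935 := d42_2 (iv F138141) D31648 (iv D29935)
theorem F147280 : act 9 n31648 = n29659 := d43_2 (iv F138142) D31648 (iv D29659)
def n31649 : Q := act 7 n29654
theorem D31649 : act 7 n29654 = n31649 := rfl
theorem F147281 : act 0 n31649 = n29698 := d6_1 D31649 (iv D29698) (iv F138143)
theorem F147282 : act 1 n31649 = n30666 := d14_1 D31649 (iv D30666) (iv F138144)
theorem F147283 : act 2 n31649 = n31649 := d21_1 D31649 (iv D31649) F138145
theorem F147284 : act 4 n31649 = n30245 := d32_1 D31649 (iv D30245) (iv F138146)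
theorem F147285 : act 5 n31649 = n29655 := d36_1 D31649 (iv D29655) D29654
theorem F147286 : act 9 n31649 = n29660 := d43_2 (iv F138148) D31649 (iv D29660)
def n31650 : Q := act 8 n29654
theorem D31650 : act 8 n29654 = n31650 := rfl
theorem F147287 : act 0 n31650 = n29699 := d7_1 D31650 (iv D29699) (iv F138143)
theorem F147288 : act 1 n31650 = n30311 := d15_1 D31650 F141143 (iv F138144)
theorem F147289 : act 2 n31650 = n31650 := d22_1 D31650 (iv D31650) F138145
theorem F147290 : act 4 n31650 = n30246 := d33_1 D31650 (iv D30246) (iv F138146)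
theorem F147291 : act 5 n31650 = n29937 := d37_1 D31650 (iv D29937) (iv D24248) (iv F107638) D29654
theorem F147292 : act 6 n31650 = n30438 := d40_1 D31650 (iv D30438) (iv F138147)
theorem F147293 : act 9 n31650 = n30305 := d44_2 (iv F138148) D31650 (iv D30305) F138178 (iv D29661)
def n31651 : Q := act 0 n29656
theorem D31651 : act 0 n29656 = n31651 := rfl
theorem F147294 : act 1 n31651 = n29700 := d0_2 D29656 D31651 (iv D29700) (iv D23992) (iv F107648)
theorem F147295 : act 2 n31651 = n30033 := d1_2 (iv F138156) D31651 F140016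
theorem F147296 : act 3 n31651 = n31651 := d2_2 F138157 D31651 (iv D31651)
theorem F147297 : act 4 n31651 = n30109 := d3_2 F144816 D31651 (iv F144813)
theorem F147298 : act 7 n31651 = n30068 := d6_2 F147222 D31651 (iv F147217)
theorem F147299 : act 8 n31651 = n29668 := d7_2 (iv F138158) D31651 (iv D29668)
theorem F147300 : act 9 n31651 = n30108 := d8_2 F147262 D31651 (iv F147255)
def n31652 : Q := act 6 n29656
theorem D31652 : act 6 n29656 = n31652 := rfl
theorem F147301 : act 1 n31652 = n29657 := d13_1 D31652 (iv D29657) D29656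
theorem F147302 : act 2 n31652 = n29713 := d20_1 D31652 F138430 (iv F138156)
theorem F147303 : act 3 n31652 = n31652 := d26_1 D31652 (iv D31652) F138157
theorem F147304 : act 8 n31652 = n29669 := d40_2 (iv F138158) D31652 (iv D29669)
def n31653 : Q := act 5 n29657
theorem D31653 : act 5 n29657 = n31653 := rfl
theorem F147305 : act 0 n31653 = n29702 := d4_1 D31653 (iv D29702) (iv F138159)
theorem F147306 : act 2 n31653 = n29658 := d19_1 D31653 (iv D29658) (iv F138160)
theorem F147307 : act 3 n31653 = n31653 := d25_1 D31653 (iv D31653) F138161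
def n31654 : Q := act 7 n29657
theorem D31654 : act 7 n29657 = n31654 := rfl
theorem F147308 : act 0 n31654 = n29703 := d6_1 D31654 (iv D29703) (iv F138159)
theorem F147309 : act 2 n31654 = n29659 := d21_1 D31654 (iv D29659) (iv F138160)
theorem F147310 : act 3 n31654 = n31654 := d27_1 D31654 (iv D31654) F138161
theorem F147311 : act 8 n31654 = n29671 := d42_2 (iv F138162) D31654 (iv D29671)
def n31655 : Q := act 4 n29658
theorem D31655 : act 4 n29658 = n31655 := rfl
theorem F147312 : act 0 n31655 = n29704 := d3_1 D31655 (iv D29704) (iv F138163)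
theorem F147313 : act 1 n31655 = n30667 := d11_1 D31655 (iv D30667) (iv F138164)
def n31656 : Q := act 7 n29658
theorem D31656 : act 7 n29658 = n31656 := rfl
theorem F147314 : act 0 n31656 = n29705 := d6_1 D31656 (iv D29705) (iv F138163)
theorem F147315 : act 1 n31656 = n30668 := d14_1 D31656 (iv D30668) (iv F138164)
theorem F147316 : act 3 n31656 = n29660 := d27_1 D31656 (iv D29660) (iv F138165)
theorem F147317 : act 5 n31656 = n29659 := d36_1 D31656 (iv D29659) D29658
def n31657 : Q := act 8 n29658
theorem D31657 : act 8 n29658 = n31657 := rfl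
theorem F147318 : act 0 n31657 = n29706 := d7_1 D31657 (iv D29706) (iv F138163)
theorem F147319 : act 1 n31657 = n29765 := d15_1 D31657 F138667 (iv F138164)
theorem F147320 : act 3 n31657 = n29661 := d28_1 D31657 (iv D29661) (iv F138165)
theorem F147321 : act 5 n31657 = n29673 := d37_1 D31657 (iv D29673) (iv D23961) (iv F107654) D29658
theorem F147322 : act 9 n30256 = n31657 := d38_0 F147321 F138249 D30256
def n31658 : Q := act 6 n29660
theorem D31658 : act 6 n29660 = n31658 := rfl
theorem F147323 : act 0 n31658 = n29707 := d5_1 D31658 (iv D29707) (iv F138170)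
theorem F147324 : act 1 n31658 = n30669 := d13_1 D31658 (iv D30669) (iv F138171)
theorem F147325 : act 2 n31658 = n31658 := d20_1 D31658 (iv D31658) F138172
def n31659 : Q := act 8 n29660
theorem D31659 : act 8 n29660 = n31659 := rfl
theorem F147326 : act 0 n31659 = n29708 := d7_1 D31659 (iv D29708) (iv F138170)
theorem F147327 : act 1 n31659 = n29865 := d15_1 D31659 F139120 (iv F138171)
theorem F147328 : act 2 n31659 = n31659 := d22_1 D31659 (iv D31659) F138172
theorem F147329 : act 5 n31659 = n29674 := d37_1 D31659 (iv D29674) F107707 (iv F107662) (iv F138173)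
theorem F147330 : act 7 n31659 = n29661 := d42_1 D31659 (iv D29661) D29660
theorem F147331 : act 9 n30304 = n31659 := d43_0 F147330 (iv F138178) D30304
def n31660 : Q := act 6 n29662
theorem D31660 : act 6 n29662 = n31660 := rfl
theorem F147332 : act 0 n31660 = n29718 := d5_1 D31660 F138455 (iv F138179)
theorem F147333 : act 1 n31660 = n29663 := d13_1 D31660 (iv D29663) D29662
theorem F147334 : act 2 n31660 = n29801 := d20_1 D31660 F138817 (iv F138180)
theorem F147335 : act 3 n31660 = n31660 := d26_1 D31660 (iv D31660) F138181
theorem F147336 : act 4 n31660 = n29970 := d31_1 D31660 F139664 (iv F138182)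
theorem F147337 : act 5 n31660 = n29717 := d35_1 D31660 (iv D29717) F107901 (iv F133781) (iv F138183)
theorem F147338 : act 9 n31660 = n29944 := d41_2 (iv F138185) D31660 (iv D29944)
def n31661 : Q := act 5 n29663
theorem D31661 : act 5 n29663 = n31661 := rfl
theorem F147339 : act 0 n31661 = n29669 := d4_1 D31661 F138224 (iv F138186)
theorem F147340 : act 1 n31661 = n29717 := d12_1 D31661 (iv F147337) F147333
theorem F147341 : act 2 n31661 = n29664 := d19_1 D31661 (iv D29664) (iv F138187)
theorem F147342 : act 3 n31661 = n31661 := d25_1 D31661 (iv D31661) F138188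
theorem F147343 : act 4 n31661 = n29999 := d30_1 D31661 F139812 F114356 (iv F109568) (iv F138189)
theorem F147344 : act 6 n31661 = n29668 := d35_2 D29663 D31661 F138218 (iv D24497) (iv F107666)
theorem F147345 : act 9 n31661 = n29945 := d38_2 (iv F138190) D31661 (iv D29945)
def n31662 : Q := act 7 n29663
theorem D31662 : act 7 n29663 = n31662 := rfl
theorem F147346 : act 0 n31662 = n29710 := d6_1 D31662 (iv D29710) (iv F138186)
theorem F147347 : act 2 n31662 = n29665 := d21_1 D31662 (iv D29665) (iv F138187)
theorem F147348 : act 3 n31662 = n31662 := d27_1 D31662 (iv D31662) F138188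
theorem F147349 : act 4 n31662 = n29995 := d32_1 D31662 F139796 (iv F138189)
theorem F147350 : act 6 n31662 = n29671 := d39_1 D31662 (iv D29671) (iv D23960) (iv F107667) D29663
theorem F147351 : act 9 n31662 = n29946 := d43_2 (iv F138190) D31662 (iv D29946)
def n31663 : Q := act 4 n29664
theorem D31663 : act 4 n29664 = n31663 := rfl
theorem F147352 : act 0 n31663 = n29711 := d3_1 D31663 (iv D29711) (iv F138191)
theorem F147353 : act 1 n31663 = n29976 := d11_1 D31663 F139695 (iv F138192)
theorem F147354 : act 2 n31663 = n29999 := d18_1 D31663 (iv F147343) F147341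
theorem F147355 : act 3 n31663 = n31663 := d24_1 D31663 (iv D31663) F138193 F107677 (iv F138193)
theorem F147356 : act 5 n31663 = n30352 := d30_2 D29664 D31663 F141316 F134859 (iv F107672)
theorem F147357 : act 6 n31663 = n30032 := d31_2 (iv F138194) D31663 (iv D30032)
theorem F147358 : act 9 n31663 = n29947 := d34_2 (iv F138195) D31663 (iv D29947)
def n31664 : Q := act 7 n29664
theorem D31664 : act 7 n29664 = n31664 := rfl
theorem F147359 : act 0 n31664 = n29712 := d6_1 D31664 (iv D29712) (iv F138191)
theorem F147360 : act 1 n31664 = n29807 := d14_1 D31664 F138845 (iv F138192)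
theorem F147361 : act 3 n31664 = n29666 := d27_1 D31664 (iv D29666) (iv F138193)
theorem F147362 : act 5 n31664 = n29665 := d36_1 D31664 (iv D29665) D29664
theorem F147363 : act 6 n31664 = n29803 := d39_1 D31664 (iv D29803) F108210 (iv F133751) (iv F138194)
theorem F147364 : act 9 n31664 = n29948 := d43_2 (iv F138195) D31664 (iv D29948)
def n31665 : Q := act 8 n29664
theorem D31665 : act 8 n29664 = n31665 := rfl
theorem F147365 : act 0 n31665 = n29713 := d7_1 D31665 (iv D29713) (iv F138191)
theorem F147366 : act 1 n31665 = n30111 := d15_1 D31665 (iv D30111) (iv F138192)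
theorem F147367 : act 3 n31665 = n29667 := d28_1 D31665 (iv D29667) (iv F138193)
theorem F147368 : act 6 n31665 = n30033 := d40_1 D31665 (iv D30033) (iv F138194)
def n31666 : Q := act 8 n29666
theorem D31666 : act 8 n29666 = n31666 := rfl
theorem F147369 : act 0 n31666 = n29715 := d7_1 D31666 (iv D29715) (iv F138202)
theorem F147370 : act 1 n31666 = n29900 := d15_1 D31666 (iv D29900) (iv F138203)
theorem F147371 : act 2 n31666 = n31666 := d22_1 D31666 (iv D31666) F138204
theorem F147372 : act 4 n31666 = n31666 := d33_1 D31666 (iv D31666) F138205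
theorem F147373 : act 6 n31666 = n29898 := d40_1 D31666 (iv D29898) (iv F138207)
theorem F147374 : act 7 n31666 = n29667 := d42_1 D31666 (iv D29667) D29666
def n31667 : Q := act 9 n29667
theorem D31667 : act 9 n29667 = n31667 := rfl
theorem F147375 : act 0 n31667 = n29716 := d8_1 D31667 (iv D29716) (iv F138209)
theorem F147376 : act 1 n31667 = n30130 := d16_1 D31667 (iv D30130) (iv F138210)
theorem F147377 : act 2 n31667 = n31667 := d23_1 D31667 (iv D31667) F138211
theorem F147378 : act 4 n31667 = n31667 := d34_1 D31667 (iv D31667) F138212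
theorem F147379 : act 6 n31667 = n30034 := d41_1 D31667 (iv D30034) (iv F138213)
theorem F147380 : act 8 n31667 = n29951 := d44_1 D31667 (iv D29951) (iv D24261) (iv F107679) D29667
def n31668 : Q := act 7 n29669
theorem D31668 : act 7 n29669 = n31668 := rfl
theorem F147381 : act 1 n31668 = n29671 := d14_1 D31668 (iv D29671) (iv F138221)
theorem F147382 : act 2 n31668 = n29712 := d21_1 D31668 (iv D29712) (iv F138222)
theorem F147383 : act 3 n31668 = n31668 := d27_1 D31668 (iv D31668) F138223
theorem F147384 : act 5 n31668 = n29710 := d36_1 D31668 (iv D29710) (iv F138224)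
theorem F147385 : act 9 n31668 = n29952 := d43_2 (iv F138225) D31668 (iv D29952)
def n31669 : Q := act 7 n29670
theorem D31669 : act 7 n29670 = n31669 := rfl
theorem F147386 : act 0 n31669 = n29721 := d6_1 D31669 (iv D29721) (iv F138226)
theorem F147387 : act 1 n31669 = n29710 := d14_1 D31669 (iv D29710) (iv F138227)
theorem F147388 : act 2 n31669 = n29672 := d21_1 D31669 (iv D29672) (iv F138228)
theorem F147389 : act 3 n31669 = n31669 := d27_1 D31669 (iv D31669) F138229
theorem F147390 : act 4 n31669 = n30890 := d32_1 D31669 (iv D30890) F138232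
theorem F147391 : act 5 n31669 = n29671 := d36_1 D31669 (iv D29671) D29670
theorem F147392 : act 6 n31669 = n29719 := d39_1 D31669 (iv D29719) (iv D24005) (iv F107875) (iv F138230)
theorem F147393 : act 9 n31669 = n29953 := d43_2 (iv F138231) D31669 (iv D29953)
def n31670 : Q := act 8 n29670
theorem D31670 : act 8 n29670 = n31670 := rfl
theorem F147394 : act 0 n31670 = n29722 := d7_1 D31670 (iv D29722) (iv F138226)
theorem F147395 : act 1 n31670 = n29690 := d15_1 D31670 F138340 (iv F138227)
theorem F147396 : act 2 n31670 = n29673 := d22_1 D31670 (iv D29673) (iv F138228)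
theorem F147397 : act 3 n31670 = n31670 := d28_1 D31670 (iv D31670) F138229
theorem F147398 : act 4 n31670 = n30685 := d33_1 D31670 F142607 F138232
theorem F147399 : act 6 n31670 = n29689 := d40_1 D31670 F138334 (iv F138230)
theorem F147400 : act 9 n31670 = n30222 := d44_2 (iv F138231) D31670 F140858 F113752 F134057
def n31671 : Q := act 8 n29672
theorem D31671 : act 8 n29672 = n31671 := rfl
theorem F147401 : act 0 n31671 = n29726 := d7_1 D31671 (iv D29726) (iv F138237)
theorem F147402 : act 1 n31671 = n29766 := d15_1 D31671 F138674 (iv F138238)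
theorem F147403 : act 3 n31671 = n29674 := d28_1 D31671 (iv D29674) (iv F138239)
theorem F147404 : act 4 n31671 = n30757 := d33_1 D31671 F142822 (iv F138240)
theorem F147405 : act 6 n31671 = n29783 := d40_1 D31671 F138746 (iv F138242)
theorem F147406 : act 7 n31671 = n29673 := d42_1 D31671 (iv D29673) D29672
theorem F147407 : act 9 n31671 = n30257 := d44_2 (iv F138243) D31671 F140974 F113890 (iv F133589)
def n31672 : Q := act 1 n29675
theorem D31672 : act 1 n29675 = n31672 := rfl
theorem F147408 : act 2 n31672 = n29738 := d9_2 D29675 D31672 (iv D29738) (iv D24028) (iv F107762)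
theorem F147409 : act 3 n31672 = n31672 := d10_2 F138258 D31672 (iv D31672)
theorem F147410 : act 4 n31672 = n30372 := d11_2 (iv F138259) D31672 (iv D30372)
theorem F147411 : act 5 n31672 = n29689 := d12_2 (iv F138260) D31672 (iv D29689)
theorem F147412 : act 7 n31672 = n29679 := d14_2 (iv F138261) D31672 (iv D29679)
theorem F147413 : act 8 n31672 = n30031 := d15_2 (iv F138262) D31672 F140003
theorem F147414 : act 9 n31672 = n30216 := d16_2 (iv F138263) D31672 (iv D30216)
theorem F147415 : act 0 n30059 = n31672 := d7_3 F147413 F140002 D30059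
def n31673 : Q := act 6 n29675
theorem D31673 : act 6 n29675 = n31673 := rfl
theorem F147416 : act 0 n31673 = n30134 := d5_1 D31673 (iv D30134) (iv F138257)
theorem F147417 : act 2 n31673 = n29676 := d20_1 D31673 (iv D29676) D29675
theorem F147418 : act 3 n31673 = n31673 := d26_1 D31673 (iv D31673) F138258
theorem F147419 : act 4 n31673 = n30373 := d31_1 D31673 (iv D30373) (iv F138259)
theorem F147420 : act 8 n31673 = n30041 := d40_2 (iv F138262) D31673 (iv D30041)
theorem F147421 : act 9 n31673 = n30217 := d41_2 (iv F138263) D31673 (iv D30217)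
def n31674 : Q := act 5 n29676
theorem D31674 : act 5 n29676 = n31674 := rfl
theorem F147422 : act 0 n31674 = n30135 := d4_1 D31674 (iv D30135) (iv F138264)
theorem F147423 : act 1 n31674 = n29740 := d12_1 D31674 (iv D29740) (iv F138265)
theorem F147424 : act 3 n31674 = n29677 := d25_1 D31674 (iv D29677) (iv F138266)
theorem F147425 : act 6 n31674 = n29691 := d35_2 D29676 D31674 (iv D29691) (iv D23985) (iv F107764)
theorem F147426 : act 9 n31674 = n30218 := d38_2 (iv F138269) D31674 (iv D30218)
def n31675 : Q := act 7 n29676
theorem D31675 : act 7 n29676 = n31675 := rfl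
theorem F147427 : act 0 n31675 = n30136 := d6_1 D31675 (iv D30136) (iv F138264)
theorem F147428 : act 1 n31675 = n29741 := d14_1 D31675 (iv D29741) (iv F138265)
theorem F147429 : act 3 n31675 = n29678 := d27_1 D31675 (iv D29678) (iv F138266)
theorem F147430 : act 4 n31675 = n30375 := d32_1 D31675 (iv D30375) (iv F138267)
theorem F147431 : act 6 n31675 = n29682 := d39_1 D31675 (iv D29682) (iv D23978) (iv F107765) D29676
theorem F147432 : act 8 n31675 = n30043 := d42_2 (iv F138268) D31675 (iv D30043)
theorem F147433 : act 9 n31675 = n30219 := d43_2 (iv F138269) D31675 (iv D30219)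
def n31676 : Q := act 7 n29677
theorem D31676 : act 7 n29677 = n31676 := rfl
theorem F147434 : act 0 n31676 = n30137 := d6_1 D31676 (iv D30137) (iv F138270)
theorem F147435 : act 1 n31676 = n29742 := d14_1 D31676 (iv D29742) (iv F138271)
theorem F147436 : act 2 n31676 = n31676 := d21_1 D31676 (iv D31676) F138272
theorem F147437 : act 4 n31676 = n30204 := d32_1 D31676 (iv D30204) (iv F138273)
theorem F147438 : act 5 n31676 = n29678 := d36_1 D31676 (iv D29678) D29677
theorem F147439 : act 9 n31676 = n30220 := d43_2 (iv F138275) D31676 (iv D30220)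
def n31677 : Q := act 8 n29677
theorem D31677 : act 8 n29677 = n31677 := rfl
theorem F147440 : act 0 n31677 = n30138 := d7_1 D31677 (iv D30138) (iv F138270)
theorem F147441 : act 1 n31677 = n29743 := d15_1 D31677 (iv D29743) (iv F138271)
theorem F147442 : act 2 n31677 = n31677 := d22_1 D31677 (iv D31677) F138272
theorem F147443 : act 4 n31677 = n30205 := d33_1 D31677 (iv D30205) (iv F138273)
theorem F147444 : act 5 n31677 = n30045 := d37_1 D31677 (iv D30045) (iv D24528) (iv F107772) D29677
theorem F147445 : act 6 n31677 = n29694 := d40_1 D31677 (iv D29694) (iv F138274)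
def n31678 : Q := act 0 n29679
theorem D31678 : act 0 n29679 = n31678 := rfl
theorem F147446 : act 2 n31678 = n29749 := d1_2 (iv F138283) D31678 (iv D29749)
theorem F147447 : act 3 n31678 = n31678 := d2_2 F138284 D31678 (iv D31678)
theorem F147448 : act 5 n31678 = n29700 := d4_2 (iv F138285) D31678 (iv D29700)
theorem F147449 : act 7 n31678 = n30059 := d6_2 F147412 D31678 F147415
theorem F147450 : act 8 n31678 = n30046 := d7_2 (iv F138286) D31678 (iv D30046)
theorem F147451 : act 9 n31678 = n30110 := d8_2 (iv F138287) D31678 F140386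
def n31679 : Q := act 6 n29679
theorem D31679 : act 6 n29679 = n31679 := rfl
theorem F147452 : act 1 n31679 = n29680 := d13_1 D31679 (iv D29680) D29679
theorem F147453 : act 2 n31679 = n29750 := d20_1 D31679 (iv D29750) (iv F138283)
theorem F147454 : act 3 n31679 = n31679 := d26_1 D31679 (iv D31679) F138284
theorem F147455 : act 8 n31679 = n30047 := d40_2 (iv F138286) D31679 (iv D30047)
theorem F147456 : act 9 n31679 = n30946 := d41_2 (iv F138287) D31679 (iv D30946)
def n31680 : Q := act 5 n29680
theorem D31680 : act 5 n29680 = n31680 := rfl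
theorem F147457 : act 2 n31680 = n29681 := d19_1 D31680 (iv D29681) (iv F138288)
theorem F147458 : act 3 n31680 = n31680 := d25_1 D31680 (iv D31680) F138289
theorem F147459 : act 6 n31680 = n29702 := d35_2 D29680 D31680 (iv D29702) (iv D23993) (iv F107783)
def n31681 : Q := act 7 n29680
theorem D31681 : act 7 n29680 = n31681 := rfl
theorem F147460 : act 2 n31681 = n29682 := d21_1 D31681 (iv D29682) (iv F138288)
theorem F147461 : act 3 n31681 = n31681 := d27_1 D31681 (iv D31681) F138289
theorem F147462 : act 8 n31681 = n30049 := d42_2 (iv F138290) D31681 (iv D30049)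
def n31682 : Q := act 4 n29681
theorem D31682 : act 4 n29681 = n31682 := rfl
theorem F147463 : act 1 n31682 = n29753 := d11_1 D31682 (iv D29753) (iv F138291)
theorem F147464 : act 6 n31682 = n29704 := d31_2 (iv F138293) D31682 (iv D29704)
def n31683 : Q := act 7 n29681
theorem D31683 : act 7 n29681 = n31683 := rfl
theorem F147465 : act 1 n31683 = n29754 := d14_1 D31683 (iv D29754) (iv F138291)
theorem F147466 : act 3 n31683 = n29683 := d27_1 D31683 (iv D29683) (iv F138292)
theorem F147467 : act 5 n31683 = n29682 := d36_1 D31683 (iv D29682) D29681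
def n31684 : Q := act 8 n29681
theorem D31684 : act 8 n29681 = n31684 := rfl
theorem F147468 : act 1 n31684 = n29755 := d15_1 D31684 (iv D29755) (iv F138291)
theorem F147469 : act 3 n31684 = n29684 := d28_1 D31684 (iv D29684) (iv F138292)
theorem F147470 : act 5 n31684 = n30052 := d37_1 D31684 (iv D30052) (iv D24532) (iv F107787) D29681
theorem F147471 : act 6 n31684 = n29706 := d40_1 D31684 (iv D29706) (iv F138293)
def n31685 : Q := act 6 n29683
theorem D31685 : act 6 n29683 = n31685 := rfl
theorem F147472 : act 1 n31685 = n29756 := d13_1 D31685 (iv D29756) (iv F138297)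
theorem F147473 : act 2 n31685 = n31685 := d20_1 D31685 (iv D31685) F138298
theorem F147474 : act 7 n31685 = n29707 := d39_2 D29683 D31685 (iv D29707) (iv D23996) (iv F107790)
def n31686 : Q := act 8 n29683
theorem D31686 : act 8 n29683 = n31686 := rfl
theorem F147475 : act 1 n31686 = n29757 := d15_1 D31686 (iv D29757) (iv F138297)
theorem F147476 : act 2 n31686 = n31686 := d22_1 D31686 (iv D31686) F138298
theorem F147477 : act 5 n31686 = n30054 := d37_1 D31686 (iv D30054) F110425 (iv F107794) (iv F138299)
theorem F147478 : act 7 n31686 = n29684 := d42_1 D31686 (iv D29684) D29683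
def n31687 : Q := act 9 n29684
theorem D31687 : act 9 n29684 = n31687 := rfl
theorem F147479 : act 0 n31687 = n30293 := d8_1 D31687 F147216 F147210
theorem F147480 : act 1 n31687 = n29758 := d16_1 D31687 (iv D29758) (iv F138300)
theorem F147481 : act 2 n31687 = n31687 := d23_1 D31687 (iv D31687) F138301
theorem F147482 : act 5 n31687 = n30055 := d38_1 D31687 (iv D30055) (iv F138302)
theorem F147483 : act 6 n31687 = n29709 := d41_1 D31687 (iv D29709) (iv F138303)
def n31688 : Q := act 1 n29685
theorem D31688 : act 1 n29685 = n31688 := rfl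
theorem F147484 : act 2 n31688 = n29759 := d9_2 D29685 D31688 (iv D29759) (iv D24042) (iv F107796)
theorem F147485 : act 3 n31688 = n31688 := d10_2 F138305 D31688 (iv D31688)
theorem F147486 : act 4 n31688 = n30397 := d11_2 (iv F138306) D31688 (iv D30397)
theorem F147487 : act 5 n31688 = n30064 := d12_2 (iv F138307) D31688 F140172
theorem F147488 : act 7 n31688 = n30433 := d14_2 (iv F138308) D31688 (iv D30433)
theorem F147489 : act 8 n31688 = n31688 := d15_2 F138309 D31688 (iv D31688)
theorem F147490 : act 9 n31688 = n30133 := d16_2 (iv F138310) D31688 (iv D30133)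
def n31689 : Q := act 6 n29685
theorem D31689 : act 6 n29685 = n31689 := rfl
theorem F147491 : act 0 n31689 = n30217 := d5_1 D31689 (iv D30217) (iv F138304)
theorem F147492 : act 2 n31689 = n29686 := d20_1 D31689 (iv D29686) D29685
theorem F147493 : act 3 n31689 = n31689 := d26_1 D31689 (iv D31689) F138305
theorem F147494 : act 4 n31689 = n30398 := d31_1 D31689 (iv D30398) (iv F138306)
theorem F147495 : act 8 n31689 = n31689 := d40_2 F138309 D31689 (iv D31689)
theorem F147496 : act 9 n31689 = n30134 := d41_2 (iv F138310) D31689 (iv D30134)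
def n31690 : Q := act 5 n29686
theorem D31690 : act 5 n29686 = n31690 := rfl
theorem F147497 : act 0 n31690 = n30218 := d4_1 D31690 (iv D30218) (iv F138311)
theorem F147498 : act 1 n31690 = n29761 := d12_1 D31690 (iv D29761) (iv F138312)
theorem F147499 : act 3 n31690 = n29687 := d25_1 D31690 (iv D29687) (iv F138313)
theorem F147500 : act 6 n31690 = n30202 := d35_2 D29686 D31690 (iv D30202) (iv D25227) (iv F107798)
theorem F147501 : act 9 n31690 = n30135 := d38_2 (iv F138316) D31690 (iv D30135)
def n31691 : Q := act 7 n29686
theorem D31691 : act 7 n29686 = n31691 := rfl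
theorem F147502 : act 0 n31691 = n30219 := d6_1 D31691 (iv D30219) (iv F138311)
theorem F147503 : act 1 n31691 = n29762 := d14_1 D31691 (iv D29762) (iv F138312)
theorem F147504 : act 3 n31691 = n29688 := d27_1 D31691 (iv D29688) (iv F138313)
theorem F147505 : act 4 n31691 = n30400 := d32_1 D31691 (iv D30400) (iv F138314)
theorem F147506 : act 6 n31691 = n30436 := d39_1 D31691 (iv D30436) (iv D25515) (iv F107799) D29686
theorem F147507 : act 8 n31691 = n31691 := d42_2 F138315 D31691 (iv D31691)
theorem F147508 : act 9 n31691 = n30136 := d43_2 (iv F138316) D31691 (iv D30136)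
def n31692 : Q := act 7 n29687
theorem D31692 : act 7 n29687 = n31692 := rfl
theorem F147509 : act 0 n31692 = n30220 := d6_1 D31692 (iv D30220) (iv F138317)
theorem F147510 : act 1 n31692 = n29763 := d14_1 D31692 (iv D29763) (iv F138318)
theorem F147511 : act 2 n31692 = n31692 := d21_1 D31692 (iv D31692) F138319
theorem F147512 : act 4 n31692 = n29693 := d32_1 D31692 (iv D29693) (iv F138320)
theorem F147513 : act 5 n31692 = n29688 := d36_1 D31692 (iv D29688) D29687
theorem F147514 : act 9 n31692 = n30137 := d43_2 (iv F138322) D31692 (iv D30137)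
def n31693 : Q := act 8 n29687
theorem D31693 : act 8 n29687 = n31693 := rfl
theorem F147515 : act 0 n31693 = n30221 := d7_1 D31693 (iv D30221) (iv F138317)
theorem F147516 : act 1 n31693 = n29764 := d15_1 D31693 (iv D29764) (iv F138318)
theorem F147517 : act 2 n31693 = n31693 := d22_1 D31693 (iv D31693) F138319
theorem F147518 : act 4 n31693 = n29694 := d33_1 D31693 (iv D29694) (iv F138320)
theorem F147519 : act 5 n31693 = n31693 := d37_1 D31693 (iv D31693) (iv D29687) F107806 D29687
theorem F147520 : act 6 n31693 = n30205 := d40_1 D31693 (iv D30205) (iv F138321)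
def n31694 : Q := act 5 n29690
theorem D31694 : act 5 n29690 = n31694 := rfl
theorem F147521 : act 2 n31694 = n29691 := d19_1 D31694 (iv D29691) (iv F138337)
theorem F147522 : act 3 n31694 = n31694 := d25_1 D31694 (iv D31694) F138338
theorem F147523 : act 9 n31694 = n30223 := d38_2 (iv F138341) D31694 (iv D30223)
def n31695 : Q := act 7 n29690
theorem D31695 : act 7 n29690 = n31695 := rfl
theorem F147524 : act 2 n31695 = n29692 := d21_1 D31695 (iv D29692) (iv F138337)
theorem F147525 : act 3 n31695 = n31695 := d27_1 D31695 (iv D31695) F138338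
theorem F147526 : act 4 n31695 = n30687 := d32_1 D31695 (iv D30687) (iv F138339)
theorem F147527 : act 6 n31695 = n29703 := d39_1 D31695 (iv D29703) (iv D23993) (iv F107818) D29690
theorem F147528 : act 8 n31695 = n29710 := d42_2 (iv F138340) D31695 (iv D29710)
theorem F147529 : act 9 n31695 = n30224 := d43_2 (iv F138341) D31695 (iv D30224)
def n31696 : Q := act 4 n29691
theorem D31696 : act 4 n29691 = n31696 := rfl
theorem F147530 : act 1 n31696 = n29767 := d11_1 D31696 (iv D29767) (iv F138342)
theorem F147531 : act 5 n31696 = n30688 := d30_2 D29691 D31696 (iv D30688) (iv D25778) (iv F107823)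
theorem F147532 : act 9 n31696 = n30225 := d34_2 (iv F138344) D31696 (iv D30225)
def n31697 : Q := act 7 n29691
theorem D31697 : act 7 n29691 = n31697 := rfl
theorem F147533 : act 1 n31697 = n29768 := d14_1 D31697 (iv D29768) (iv F138342)
theorem F147534 : act 3 n31697 = n29693 := d27_1 D31697 (iv D29693) (iv F138343)
theorem F147535 : act 5 n31697 = n29692 := d36_1 D31697 (iv D29692) D29691
theorem F147536 : act 9 n31697 = n30226 := d43_2 (iv F138344) D31697 (iv D30226)
def n31698 : Q := act 8 n29691
theorem D31698 : act 8 n29691 = n31698 := rfl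
theorem F147537 : act 1 n31698 = n29769 := d15_1 D31698 (iv D29769) (iv F138342)
theorem F147538 : act 3 n31698 = n29694 := d28_1 D31698 (iv D29694) (iv F138343)
theorem F147539 : act 5 n31698 = n29713 := d37_1 D31698 (iv D29713) (iv D24000) (iv F107824) D29691
def n31699 : Q := act 6 n29693
theorem D31699 : act 6 n29693 = n31699 := rfl
theorem F147540 : act 1 n31699 = n29770 := d13_1 D31699 (iv D29770) (iv F138351)
theorem F147541 : act 2 n31699 = n31699 := d20_1 D31699 (iv D31699) F138352
theorem F147542 : act 5 n31699 = n29707 := d35_1 D31699 (iv D29707) F107867 (iv F107832) (iv F138353)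
theorem F147543 : act 9 n31699 = n30228 := d41_2 (iv F138354) D31699 (iv D30228)
def n31700 : Q := act 8 n29693
theorem D31700 : act 8 n29693 = n31700 := rfl
theorem F147544 : act 1 n31700 = n29771 := d15_1 D31700 (iv D29771) (iv F138351)
theorem F147545 : act 2 n31700 = n31700 := d22_1 D31700 (iv D31700) F138352
theorem F147546 : act 5 n31700 = n29715 := d37_1 D31700 (iv D29715) F107893 (iv F107833) (iv F138353)
theorem F147547 : act 7 n31700 = n29694 := d42_1 D31700 (iv D29694) D29693
def n31701 : Q := act 9 n29694
theorem D31701 : act 9 n29694 = n31701 := rfl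
theorem F147548 : act 1 n31701 = n29772 := d16_1 D31701 (iv D29772) (iv F138355)
theorem F147549 : act 2 n31701 = n31701 := d23_1 D31701 (iv D31701) F138356
theorem F147550 : act 5 n31701 = n29716 := d38_1 D31701 (iv D29716) (iv F138357)
theorem F147551 : act 8 n31701 = n30230 := d44_1 D31701 (iv D30230) (iv D25254) (iv F107828) D29694
def n31702 : Q := act 5 n29695
theorem D31702 : act 5 n29695 = n31702 := rfl
theorem F147552 : act 1 n31702 = n30787 := d12_1 D31702 (iv D30787) (iv F138358)
theorem F147553 : act 2 n31702 = n29696 := d19_1 D31702 (iv D29696) (iv F138359)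
theorem F147554 : act 3 n31702 = n31702 := d25_1 D31702 (iv D31702) F138360
theorem F147555 : act 9 n31702 = n29702 := d38_2 (iv F138363) D31702 (iv D29702)
def n31703 : Q := act 7 n29695
theorem D31703 : act 7 n29695 = n31703 := rfl
theorem F147556 : act 1 n31703 = n30786 := d14_1 D31703 F142896 (iv F138358)
theorem F147557 : act 2 n31703 = n29697 := d21_1 D31703 (iv D29697) (iv F138359)
theorem F147558 : act 3 n31703 = n31703 := d27_1 D31703 (iv D31703) F138360
theorem F147559 : act 4 n31703 = n30678 := d32_1 D31703 (iv D30678) (iv F138361)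
theorem F147560 : act 6 n31703 = n30224 := d39_1 D31703 (iv D30224) (iv D25250) (iv F107837) D29695
theorem F147561 : act 8 n31703 = n29955 := d42_2 (iv F138362) D31703 (iv D29955)
theorem F147562 : act 9 n31703 = n29703 := d43_2 (iv F138363) D31703 (iv D29703)
def n31704 : Q := act 4 n29696
theorem D31704 : act 4 n29696 = n31704 := rfl
theorem F147563 : act 1 n31704 = n29775 := d11_1 D31704 (iv D29775) (iv F138364)
theorem F147564 : act 5 n31704 = n30679 := d30_2 D29696 D31704 (iv D30679) (iv D25772) (iv F107842)
theorem F147565 : act 9 n31704 = n29704 := d34_2 (iv F138366) D31704 (iv D29704)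
def n31705 : Q := act 7 n29696
theorem D31705 : act 7 n29696 = n31705 := rfl
theorem F147566 : act 1 n31705 = n29776 := d14_1 D31705 (iv D29776) (iv F138364)
theorem F147567 : act 3 n31705 = n29698 := d27_1 D31705 (iv D29698) (iv F138365)
theorem F147568 : act 5 n31705 = n29697 := d36_1 D31705 (iv D29697) D29696
theorem F147569 : act 9 n31705 = n29705 := d43_2 (iv F138366) D31705 (iv D29705)
def n31706 : Q := act 8 n29696
theorem D31706 : act 8 n29696 = n31706 := rfl
theorem F147570 : act 1 n31706 = n29777 := d15_1 D31706 (iv D29777) (iv F138364)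
theorem F147571 : act 3 n31706 = n29699 := d28_1 D31706 (iv D29699) (iv F138365)
theorem F147572 : act 5 n31706 = n29958 := d37_1 D31706 (iv D29958) (iv D24282) (iv F107843) D29696
def n31707 : Q := act 6 n29698
theorem D31707 : act 6 n29698 = n31707 := rfl
theorem F147573 : act 1 n31707 = n29778 := d13_1 D31707 (iv D29778) (iv F138373)
theorem F147574 : act 2 n31707 = n31707 := d20_1 D31707 (iv D31707) F138374
theorem F147575 : act 5 n31707 = n30228 := d35_1 D31707 (iv D30228) F113739 (iv F107851) (iv F138375)
theorem F147576 : act 9 n31707 = n29707 := d41_2 (iv F138376) D31707 (iv D29707)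
def n31708 : Q := act 8 n29698
theorem D31708 : act 8 n29698 = n31708 := rfl
theorem F147577 : act 1 n31708 = n29779 := d15_1 D31708 (iv D29779) (iv F138373)
theorem F147578 : act 2 n31708 = n31708 := d22_1 D31708 (iv D31708) F138374
theorem F147579 : act 5 n31708 = n29960 := d37_1 D31708 (iv D29960) F109216 (iv F107852) (iv F138375)
theorem F147580 : act 7 n31708 = n29699 := d42_1 D31708 (iv D29699) D29698
def n31709 : Q := act 9 n29699
theorem D31709 : act 9 n29699 = n31709 := rfl
theorem F147581 : act 0 n31709 = n30305 := d8_1 D31709 (iv F147293) F147287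
theorem F147582 : act 1 n31709 = n29780 := d16_1 D31709 (iv D29780) (iv F138377)
theorem F147583 : act 2 n31709 = n31709 := d23_1 D31709 (iv D31709) F138378
theorem F147584 : act 5 n31709 = n29961 := d38_1 D31709 (iv D29961) (iv F138379)
theorem F147585 : act 8 n31709 = n29709 := d44_1 D31709 (iv D29709) (iv D23997) (iv F107847) D29699
def n31710 : Q := act 6 n29700
theorem D31710 : act 6 n29700 = n31710 := rfl
theorem F147586 : act 0 n31710 = n29701 := d5_1 D31710 (iv D29701) D29700
theorem F147587 : act 2 n31710 = n29781 := d20_1 D31710 (iv D29781) (iv F138380)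
theorem F147588 : act 3 n31710 = n31710 := d26_1 D31710 (iv D31710) F138381
theorem F147589 : act 4 n31710 = n29809 := d31_1 D31710 F138854 (iv F138382)
theorem F147590 : act 8 n31710 = n29717 := d40_2 (iv F138384) D31710 (iv D29717)
theorem F147591 : act 9 n31710 = n29806 := d41_2 (iv F138385) D31710 F138840
def n31711 : Q := act 5 n29701
theorem D31711 : act 5 n29701 = n31711 := rfl
theorem F147592 : act 1 n31711 = n29702 := d12_1 D31711 (iv D29702) (iv F138386)
theorem F147593 : act 2 n31711 = n29782 := d19_1 D31711 (iv D29782) (iv F138387)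
theorem F147594 : act 3 n31711 = n31711 := d25_1 D31711 (iv D31711) F138388
theorem F147595 : act 9 n31711 = n30787 := d38_2 (iv F138391) D31711 (iv D30787)
def n31712 : Q := act 7 n29701
theorem D31712 : act 7 n29701 = n31712 := rfl
theorem F147596 : act 1 n31712 = n29703 := d14_1 D31712 (iv D29703) (iv F138386)
theorem F147597 : act 2 n31712 = n29783 := d21_1 D31712 (iv D29783) (iv F138387)
theorem F147598 : act 3 n31712 = n31712 := d27_1 D31712 (iv D31712) F138388
theorem F147599 : act 4 n31712 = n30788 := d32_1 D31712 F142901 (iv F138389)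
theorem F147600 : act 8 n31712 = n29719 := d42_2 (iv F138390) D31712 (iv D29719)
theorem F147601 : act 9 n31712 = n30786 := d43_2 (iv F138391) D31712 F142896
def n31713 : Q := act 4 n29702
theorem D31713 : act 4 n29702 = n31713 := rfl
theorem F147602 : act 2 n31713 = n29704 := d18_1 D31713 (iv D29704) (iv F138392)
def n31714 : Q := act 7 n29702
theorem D31714 : act 7 n29702 = n31714 := rfl
theorem F147603 : act 2 n31714 = n29705 := d21_1 D31714 (iv D29705) (iv F138392)
theorem F147604 : act 3 n31714 = n31714 := d27_1 D31714 (iv D31714) F138393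
theorem F147605 : act 5 n31714 = n29703 := d36_1 D31714 (iv D29703) D29702
def n31715 : Q := act 8 n29702
theorem D31715 : act 8 n29702 = n31715 := rfl
theorem F147606 : act 2 n31715 = n29706 := d22_1 D31715 (iv D29706) (iv F138392)
theorem F147607 : act 3 n31715 = n31715 := d28_1 D31715 (iv D31715) F138393
theorem F147608 : act 5 n31715 = n29722 := d37_1 D31715 (iv D29722) (iv D24006) (iv F107859) D29702
def n31716 : Q := act 7 n29704
theorem D31716 : act 7 n29704 = n31716 := rfl
theorem F147609 : act 1 n31716 = n29787 := d14_1 D31716 (iv D29787) (iv F138397)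
theorem F147610 : act 4 n31716 = n29705 := d32_1 D31716 (iv D29705) D29704
def n31717 : Q := act 8 n29704
theorem D31717 : act 8 n29704 = n31717 := rfl
theorem F147611 : act 1 n31717 = n29788 := d15_1 D31717 (iv D29788) (iv F138397)
theorem F147612 : act 4 n31717 = n29706 := d33_1 D31717 (iv D29706) D29704
def n31718 : Q := act 6 n29705
theorem D31718 : act 6 n29705 = n31718 := rfl
theorem F147613 : act 1 n31718 = n29789 := d13_1 D31718 (iv D29789) (iv F138398)
theorem F147614 : act 3 n31718 = n29707 := d26_1 D31718 (iv D29707) (iv F138399)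
def n31719 : Q := act 8 n29705
theorem D31719 : act 8 n29705 = n31719 := rfl
theorem F147615 : act 1 n31719 = n29790 := d15_1 D31719 (iv D29790) (iv F138398)
theorem F147616 : act 3 n31719 = n29708 := d28_1 D31719 (iv D29708) (iv F138399)
theorem F147617 : act 5 n31719 = n29726 := d37_1 D31719 (iv D29726) F107920 (iv F107864) (iv F138400)
theorem F147618 : act 7 n31719 = n29706 := d42_1 D31719 (iv D29706) D29705
def n31720 : Q := act 9 n29706
theorem D31720 : act 9 n29706 = n31720 := rfl
theorem F147619 : act 0 n31720 = n30256 := d8_1 D31720 F147322 F147318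
theorem F147620 : act 1 n31720 = n29791 := d16_1 D31720 (iv D29791) (iv F138401)
theorem F147621 : act 3 n31720 = n29709 := d29_1 D31720 (iv D29709) (iv F138402)
theorem F147622 : act 5 n31720 = n29727 := d38_1 D31720 (iv D29727) (iv F138403)
def n31721 : Q := act 8 n29707
theorem D31721 : act 8 n29707 = n31721 := rfl
theorem F147623 : act 1 n31721 = n29792 := d15_1 D31721 (iv D29792) (iv F138404)
theorem F147624 : act 2 n31721 = n31721 := d22_1 D31721 (iv D31721) F138405
theorem F147625 : act 6 n31721 = n29708 := d40_1 D31721 (iv D29708) D29707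
def n31722 : Q := act 9 n29708
theorem D31722 : act 9 n29708 = n31722 := rfl
theorem F147626 : act 0 n31722 = n30304 := d8_1 D31722 F147331 F147326
theorem F147627 : act 1 n31722 = n29793 := d16_1 D31722 (iv D29793) (iv F138406)
theorem F147628 : act 2 n31722 = n31722 := d23_1 D31722 (iv D31722) F138407
theorem F147629 : act 5 n31722 = n29729 := d38_1 D31722 (iv D29729) (iv F138408)
theorem F147630 : act 7 n31722 = n29709 := d43_1 D31722 (iv D29709) (iv F138409)
def n31723 : Q := act 7 n29711
theorem D31723 : act 7 n29711 = n31723 := rfl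
theorem F147631 : act 1 n31723 = n29794 := d14_1 D31723 (iv D29794) (iv F138419)
theorem F147632 : act 3 n31723 = n31723 := d27_1 D31723 (iv D31723) F138420
theorem F147633 : act 4 n31723 = n29712 := d32_1 D31723 (iv D29712) D29711
theorem F147634 : act 5 n31723 = n30891 := d36_1 D31723 (iv D30891) (iv F138421)
theorem F147635 : act 9 n31723 = n29967 := d43_2 (iv F138423) D31723 (iv D29967)
def n31724 : Q := act 8 n29711
theorem D31724 : act 8 n29711 = n31724 := rfl
theorem F147636 : act 1 n31724 = n29795 := d15_1 D31724 (iv D29795) (iv F138419)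
theorem F147637 : act 3 n31724 = n31724 := d28_1 D31724 (iv D31724) F138420
theorem F147638 : act 4 n31724 = n29713 := d33_1 D31724 (iv D29713) D29711
theorem F147639 : act 6 n31724 = n30064 := d40_1 D31724 (iv D30064) (iv F138422)
def n31725 : Q := act 6 n29712
theorem D31725 : act 6 n29712 = n31725 := rfl
theorem F147640 : act 0 n31725 = n29803 := d5_1 D31725 (iv F147363) F147359
theorem F147641 : act 1 n31725 = n29796 := d13_1 D31725 (iv D29796) (iv F138424)
theorem F147642 : act 3 n31725 = n29714 := d26_1 D31725 (iv D29714) (iv F138425)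
theorem F147643 : act 5 n31725 = n29725 := d35_1 D31725 (iv D29725) F107920 (iv F107888) (iv F138426)
theorem F147644 : act 7 n31725 = n29801 := d39_2 D29712 D31725 F138817 (iv D24561) (iv F107883)
theorem F147645 : act 9 n31725 = n29968 := d41_2 (iv F138427) D31725 (iv D29968)
def n31726 : Q := act 8 n29712
theorem D31726 : act 8 n29712 = n31726 := rfl
theorem F147646 : act 1 n31726 = n29797 := d15_1 D31726 (iv D29797) (iv F138424)
theorem F147647 : act 3 n31726 = n29715 := d28_1 D31726 (iv D29715) (iv F138425)
theorem F147648 : act 7 n31726 = n29713 := d42_1 D31726 (iv D29713) D29712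
def n31727 : Q := act 9 n29713
theorem D31727 : act 9 n29713 = n31727 := rfl
theorem F147649 : act 1 n31727 = n29798 := d16_1 D31727 (iv D29798) (iv F138428)
theorem F147650 : act 3 n31727 = n29716 := d29_1 D31727 (iv D29716) (iv F138429)
theorem F147651 : act 6 n31727 = n30066 := d41_1 D31727 (iv D30066) (iv F138430)
theorem F147652 : act 8 n31727 = n29970 := d44_1 D31727 (iv D29970) (iv D24302) (iv F107884) D29713
def n31728 : Q := act 8 n29714
theorem D31728 : act 8 n29714 = n31728 := rfl
theorem F147653 : act 0 n31728 = n29898 := d7_1 D31728 (iv D29898) (iv F138431)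
theorem F147654 : act 1 n31728 = n29799 := d15_1 D31728 (iv D29799) (iv F138432)
theorem F147655 : act 2 n31728 = n31728 := d22_1 D31728 (iv D31728) F138433
theorem F147656 : act 4 n31728 = n31728 := d33_1 D31728 (iv D31728) F138434
theorem F147657 : act 6 n31728 = n29715 := d40_1 D31728 (iv D29715) D29714
theorem F147658 : act 7 n31728 = n29897 := d42_1 D31728 (iv D29897) (iv F138436)
def n31729 : Q := act 9 n29715
theorem D31729 : act 9 n29715 = n31729 := rfl
theorem F147659 : act 1 n31729 = n29800 := d16_1 D31729 (iv D29800) (iv F138438)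
theorem F147660 : act 2 n31729 = n31729 := d23_1 D31729 (iv D31729) F138439
theorem F147661 : act 4 n31729 = n31729 := d34_1 D31729 (iv D31729) F138440
theorem F147662 : act 7 n31729 = n29716 := d43_1 D31729 (iv D29716) (iv F138441)
theorem F147663 : act 8 n31729 = n29971 := d44_1 D31729 (iv D29971) (iv D24304) (iv F107894) D29715
def n31730 : Q := act 7 n29717
theorem D31730 : act 7 n29717 = n31730 := rfl
theorem F147664 : act 0 n31730 = n29719 := d6_1 D31730 (iv D29719) (iv F138447)
theorem F147665 : act 2 n31730 = n29725 := d21_1 D31730 F138490 (iv F138448)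
theorem F147666 : act 3 n31730 = n31730 := d27_1 D31730 (iv D31730) F138449
theorem F147667 : act 4 n31730 = n30000 := d32_1 D31730 F139817 (iv F138450)
theorem F147668 : act 6 n31730 = n29721 := d39_1 D31730 (iv D29721) F107909 (iv F133634) D29717
theorem F147669 : act 9 n31730 = n29972 := d43_2 (iv F138451) D31730 (iv D29972)
def n31731 : Q := act 4 n29718
theorem D31731 : act 4 n29718 = n31731 := rfl
theorem F147670 : act 0 n31731 = n29970 := d3_1 D31731 (iv F147336) F147332
theorem F147671 : act 1 n31731 = n29720 := d11_1 D31731 (iv D29720) (iv F138452)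
theorem F147672 : act 2 n31731 = n29802 := d18_1 D31731 (iv D29802) (iv F138453)
theorem F147673 : act 5 n31731 = n30336 := d30_2 D29718 D31731 F141240 F117472 (iv F134955)
theorem F147674 : act 6 n31731 = n30067 := d31_2 (iv F138455) D31731 (iv D30067)
theorem F147675 : act 9 n31731 = n29949 := d34_2 (iv F138456) D31731 F139555
theorem F147676 : act 3 n29951 = n31731 := d29_3 F147675 F139554 D29951
def n31732 : Q := act 7 n29718
theorem D31732 : act 7 n29718 = n31732 := rfl
theorem F147677 : act 1 n31732 = n29721 := d14_1 D31732 (iv D29721) (iv F138452)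
theorem F147678 : act 2 n31732 = n29803 := d21_1 D31732 (iv D29803) (iv F138453)
theorem F147679 : act 3 n31732 = n31732 := d27_1 D31732 (iv D31732) F138454
theorem F147680 : act 5 n31732 = n29719 := d36_1 D31732 (iv D29719) D29718
theorem F147681 : act 9 n31732 = n29973 := d43_2 (iv F138456) D31732 (iv D29973)
def n31733 : Q := act 8 n29718
theorem D31733 : act 8 n29718 = n31733 := rfl
theorem F147682 : act 1 n31733 = n29722 := d15_1 D31733 (iv D29722) (iv F138452)
theorem F147683 : act 2 n31733 = n29804 := d22_1 D31733 (iv D29804) (iv F138453)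
theorem F147684 : act 3 n31733 = n31733 := d28_1 D31733 (iv D31733) F138454
theorem F147685 : act 6 n31733 = n30068 := d40_1 D31733 (iv D30068) (iv F138455)
def n31734 : Q := act 7 n29720
theorem D31734 : act 7 n29720 = n31734 := rfl
theorem F147686 : act 0 n31734 = n30890 := d6_1 D31734 (iv D30890) (iv F138462)
theorem F147687 : act 2 n31734 = n29723 := d21_1 D31734 (iv D29723) (iv F138463)
theorem F147688 : act 3 n31734 = n30020 := d27_1 D31734 F139936 F138466
theorem F147689 : act 4 n31734 = n29721 := d32_1 D31734 (iv D29721) D29720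
theorem F147690 : act 6 n31734 = n30000 := d39_1 D31734 F139817 F109616 (iv F133837) (iv F138464)
theorem F147691 : act 9 n31734 = n29974 := d43_2 (iv F138465) D31734 (iv D29974)
def n31735 : Q := act 8 n29720
theorem D31735 : act 8 n29720 = n31735 := rfl
theorem F147692 : act 0 n31735 = n30685 := d7_1 D31735 F142607 (iv F138462)
theorem F147693 : act 2 n31735 = n29724 := d22_1 D31735 (iv D29724) (iv F138463)
theorem F147694 : act 3 n31735 = n30130 := d28_1 D31735 F140490 F138466
theorem F147695 : act 4 n31735 = n29722 := d33_1 D31735 (iv D29722) D29720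
theorem F147696 : act 6 n31735 = n30069 := d40_1 D31735 (iv D30069) (iv F138464)
theorem F147697 : act 9 n31735 = n30111 := d44_2 (iv F138465) D31735 (iv D30111) F110984 (iv F133713)
def n31736 : Q := act 8 n29721
theorem D31736 : act 8 n29721 = n31736 := rfl
theorem F147698 : act 2 n31736 = n29726 := d22_1 D31736 (iv D29726) (iv F138467)
theorem F147699 : act 3 n31736 = n31736 := d28_1 D31736 (iv D31736) F138468
theorem F147700 : act 7 n31736 = n29722 := d42_1 D31736 (iv D29722) D29721
def n31737 : Q := act 9 n29722
theorem D31737 : act 9 n29722 = n31737 := rfl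
theorem F147701 : act 0 n31737 = n30222 := d8_1 D31737 (iv F147400) F147394
theorem F147702 : act 2 n31737 = n29727 := d23_1 D31737 (iv D29727) (iv F138471)
theorem F147703 : act 3 n31737 = n31737 := d29_1 D31737 (iv D31737) F138472
theorem F147704 : act 4 n31737 = n30111 := d34_1 D31737 (iv F147697) F147695
theorem F147705 : act 6 n31737 = n30070 := d41_1 D31737 (iv D30070) (iv F138473)
theorem F147706 : act 8 n31737 = n29976 := d44_1 D31737 (iv D29976) (iv D24311) (iv F107910) D29722
def n31738 : Q := act 8 n29723
theorem D31738 : act 8 n29723 = n31738 := rfl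
theorem F147707 : act 0 n31738 = n30757 := d7_1 D31738 F142822 (iv F138474)
theorem F147708 : act 1 n31738 = n29811 := d15_1 D31738 (iv D29811) (iv F138475)
theorem F147709 : act 3 n31738 = n29730 := d28_1 D31738 (iv D29730) (iv F138476)
theorem F147710 : act 4 n31738 = n29726 := d33_1 D31738 (iv D29726) (iv F138477)
theorem F147711 : act 6 n31738 = n29814 := d40_1 D31738 F138875 (iv F138478)
theorem F147712 : act 7 n31738 = n29724 := d42_1 D31738 (iv D29724) D29723
theorem F147713 : act 9 n31738 = n29813 := d44_2 (iv F138479) D31738 (iv D29813) F108240 (iv F133715)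
def n31739 : Q := act 5 n29724
theorem D31739 : act 5 n29724 = n31739 := rfl
theorem F147714 : act 0 n31739 = n30756 := d4_1 D31739 (iv D30756) (iv F138480)
theorem F147715 : act 1 n31739 = n29812 := d12_1 D31739 (iv D29812) (iv F138481)
theorem F147716 : act 3 n31739 = n29731 := d25_1 D31739 (iv D29731) (iv F138482)
theorem F147717 : act 9 n31739 = n30113 := d38_2 (iv F138485) D31739 (iv D30113)
def n31740 : Q := act 8 n29725
theorem D31740 : act 8 n29725 = n31740 := rfl
theorem F147718 : act 0 n31740 = n29783 := d7_1 D31740 F138746 (iv F138486)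
theorem F147719 : act 1 n31740 = n29813 := d15_1 D31740 (iv D29813) (iv F138487)
theorem F147720 : act 3 n31740 = n29728 := d28_1 D31740 (iv D29728) (iv F138488)
theorem F147721 : act 4 n31740 = n29814 := d33_1 D31740 F138875 (iv F138489)
theorem F147722 : act 6 n31740 = n29726 := d40_1 D31740 (iv D29726) D29725
theorem F147723 : act 7 n31740 = n29781 := d42_1 D31740 F138738 (iv F138490)
theorem F147724 : act 9 n31740 = n29811 := d44_2 (iv F138491) D31740 (iv D29811) F108232 (iv F133637)
def n31741 : Q := act 9 n29726
theorem D31741 : act 9 n29726 = n31741 := rfl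
theorem F147725 : act 0 n31741 = n30257 := d8_1 D31741 (iv F147407) F147401
theorem F147726 : act 1 n31741 = n29814 := d16_1 D31741 (iv D29814) (iv F138492)
theorem F147727 : act 3 n31741 = n29729 := d29_1 D31741 (iv D29729) (iv F138493)
theorem F147728 : act 4 n31741 = n29813 := d34_1 D31741 (iv F147713) F147710
theorem F147729 : act 6 n31741 = n29811 := d41_1 D31741 (iv F147724) F147722
theorem F147730 : act 7 n31741 = n29727 := d43_1 D31741 (iv D29727) (iv F138494)
theorem F147731 : act 8 n31741 = n29810 := d44_1 D31741 F138861 (iv D24315) (iv F107921) D29726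
def n31742 : Q := act 5 n29728
theorem D31742 : act 5 n29728 = n31742 := rfl
theorem F147732 : act 0 n31742 = n29881 := d4_1 D31742 F139196 (iv F138501)
theorem F147733 : act 1 n31742 = n29815 := d12_1 D31742 (iv D29815) (iv F138502)
theorem F147734 : act 2 n31742 = n31742 := d19_1 D31742 (iv D31742) F138503
theorem F147735 : act 7 n31742 = n29819 := d36_2 (iv F138506) D31742 F138894
theorem F147736 : act 9 n31742 = n29817 := d38_2 (iv F138507) D31742 (iv D29817)
def n31743 : Q := act 5 n29730
theorem D31743 : act 5 n29730 = n31743 := rfl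
theorem F147737 : act 0 n31743 = n30792 := d4_1 D31743 F142913 (iv F138515)
theorem F147738 : act 1 n31743 = n29817 := d12_1 D31743 (iv D29817) (iv F138516)
theorem F147739 : act 2 n31743 = n29905 := d19_1 D31743 F139295 (iv F138517)
theorem F147740 : act 7 n31743 = n29731 := d36_2 (iv F138520) D31743 (iv D29731)
theorem F147741 : act 9 n31743 = n29815 := d38_2 (iv F138521) D31743 (iv D29815)
def n31744 : Q := act 6 n29731
theorem D31744 : act 6 n29731 = n31744 := rfl
theorem F147742 : act 0 n31744 = n30802 := d5_1 D31744 F142949 (iv F138522)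
theorem F147743 : act 1 n31744 = n29818 := d13_1 D31744 (iv D29818) (iv F138523)
theorem F147744 : act 2 n31744 = n30127 := d20_1 D31744 F140474 (iv F138524)
theorem F147745 : act 5 n31744 = n30072 := d35_1 D31744 (iv D30072) (iv D24586) (iv F107959) D29731
theorem F147746 : act 9 n31744 = n30105 := d41_2 (iv F138525) D31744 F140370
def n31745 : Q := act 0 n29732
theorem D31745 : act 0 n29732 = n31745 := rfl
theorem F147747 : act 1 n31745 = n30101 := d0_2 D29732 D31745 F140352 (iv D25833) (iv F107980)
theorem F147748 : act 3 n31745 = n31745 := d2_2 F138526 D31745 (iv D31745)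
theorem F147749 : act 4 n31745 = n29749 := d3_2 (iv F138527) D31745 (iv D29749)
theorem F147750 : act 5 n31745 = n30103 := d4_2 (iv F138528) D31745 F140360
theorem F147751 : act 7 n31745 = n30061 := d6_2 F145729 D31745 (iv F145724)
theorem F147752 : act 8 n31745 = n30060 := d7_2 (iv F138529) D31745 F140152
theorem F147753 : act 9 n31745 = n30102 := d8_2 (iv F138530) D31745 F140356
def n31746 : Q := act 6 n29732
theorem D31746 : act 6 n29732 = n31746 := rfl
theorem F147754 : act 1 n31746 = n29733 := d13_1 D31746 (iv D29733) D29732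
theorem F147755 : act 3 n31746 = n31746 := d26_1 D31746 (iv D31746) F138526
theorem F147756 : act 4 n31746 = n29750 := d31_1 D31746 (iv D29750) (iv F138527)
theorem F147757 : act 8 n31746 = n30073 := d40_2 (iv F138529) D31746 (iv D30073)
theorem F147758 : act 9 n31746 = n30945 := d41_2 (iv F138530) D31746 (iv D30945)
def n31747 : Q := act 5 n29733
theorem D31747 : act 5 n29733 = n31747 := rfl
theorem F147759 : act 0 n31747 = n30709 := d4_1 D31747 (iv D30709) (iv F138531)
theorem F147760 : act 2 n31747 = n29734 := d19_1 D31747 (iv D29734) (iv F138532)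
theorem F147761 : act 3 n31747 = n31747 := d25_1 D31747 (iv D31747) F138533
def n31748 : Q := act 7 n29733
theorem D31748 : act 7 n29733 = n31748 := rfl
theorem F147762 : act 0 n31748 = n30710 := d6_1 D31748 (iv D30710) (iv F138531)
theorem F147763 : act 2 n31748 = n29735 := d21_1 D31748 (iv D29735) (iv F138532)
theorem F147764 : act 3 n31748 = n31748 := d27_1 D31748 (iv D31748) F138533
theorem F147765 : act 4 n31748 = n29752 := d32_1 D31748 (iv D29752) (iv F138534)
theorem F147766 : act 8 n31748 = n30075 := d42_2 (iv F138535) D31748 (iv D30075)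
def n31749 : Q := act 4 n29734
theorem D31749 : act 4 n29734 = n31749 := rfl
theorem F147767 : act 0 n31749 = n30711 := d3_1 D31749 (iv D30711) (iv F138536)
theorem F147768 : act 5 n31749 = n29753 := d30_2 D29734 D31749 (iv D29753) (iv D24038) (iv F107986)
def n31750 : Q := act 7 n29734
theorem D31750 : act 7 n29734 = n31750 := rfl
theorem F147769 : act 0 n31750 = n30712 := d6_1 D31750 (iv D30712) (iv F138536)
theorem F147770 : act 3 n31750 = n29736 := d27_1 D31750 (iv D29736) (iv F138537)
theorem F147771 : act 5 n31750 = n29735 := d36_1 D31750 (iv D29735) D29734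
def n31751 : Q := act 8 n29734
theorem D31751 : act 8 n29734 = n31751 := rfl
theorem F147772 : act 0 n31751 = n30713 := d7_1 D31751 (iv D30713) (iv F138536)
theorem F147773 : act 3 n31751 = n29737 := d28_1 D31751 (iv D29737) (iv F138537)
theorem F147774 : act 5 n31751 = n30078 := d37_1 D31751 (iv D30078) (iv D24594) (iv F107987) D29734
def n31752 : Q := act 6 n29736
theorem D31752 : act 6 n29736 = n31752 := rfl
theorem F147775 : act 0 n31752 = n30714 := d5_1 D31752 (iv D30714) (iv F138542)
theorem F147776 : act 2 n31752 = n31752 := d20_1 D31752 (iv D31752) F138543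
def n31753 : Q := act 8 n29736
theorem D31753 : act 8 n29736 = n31753 := rfl
theorem F147777 : act 0 n31753 = n30715 := d7_1 D31753 (iv D30715) (iv F138542)
theorem F147778 : act 2 n31753 = n31753 := d22_1 D31753 (iv D31753) F138543
theorem F147779 : act 5 n31753 = n30080 := d37_1 D31753 (iv D30080) F110700 (iv F107993) (iv F138544)
theorem F147780 : act 7 n31753 = n29737 := d42_1 D31753 (iv D29737) D29736
def n31754 : Q := act 9 n29737
theorem D31754 : act 9 n29737 = n31754 := rfl
theorem F147781 : act 0 n31754 = n30716 := d8_1 D31754 (iv D30716) (iv F138545)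
theorem F147782 : act 2 n31754 = n31754 := d23_1 D31754 (iv D31754) F138546
theorem F147783 : act 5 n31754 = n30081 := d38_1 D31754 (iv D30081) (iv F138547)
def n31755 : Q := act 6 n29738
theorem D31755 : act 6 n29738 = n31755 := rfl
theorem F147784 : act 0 n31755 = n30052 := d5_1 D31755 F140114 (iv F138548)
theorem F147785 : act 1 n31755 = n29739 := d13_1 D31755 (iv D29739) D29738
theorem F147786 : act 3 n31755 = n29827 := d26_1 D31755 (iv D29827) (iv F138549)
theorem F147787 : act 8 n31755 = n30024 := d40_2 (iv F138552) D31755 F139956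
theorem F147788 : act 9 n31755 = n30247 := d41_2 (iv F138553) D31755 (iv D30247)
def n31756 : Q := act 5 n29739
theorem D31756 : act 5 n29739 = n31756 := rfl
theorem F147789 : act 0 n31756 = n30674 := d4_1 D31756 F142568 (iv F138554)
theorem F147790 : act 2 n31756 = n29740 := d19_1 D31756 (iv D29740) (iv F138555)
theorem F147791 : act 3 n31756 = n29828 := d25_1 D31756 (iv D29828) (iv F138556)
theorem F147792 : act 6 n31756 = n29765 := d35_2 D29739 D31756 (iv D29765) (iv D24047) (iv F107996)
theorem F147793 : act 8 n31756 = n30156 := d37_2 (iv F138557) D31756 (iv D30156) F113224 (iv F134989)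
theorem F147794 : act 9 n31756 = n30248 := d38_2 (iv F138558) D31756 (iv D30248)
def n31757 : Q := act 7 n29739
theorem D31757 : act 7 n29739 = n31757 := rfl
theorem F147795 : act 0 n31757 = n30717 := d6_1 D31757 (iv D30717) (iv F138554)
theorem F147796 : act 2 n31757 = n29741 := d21_1 D31757 (iv D29741) (iv F138555)
theorem F147797 : act 3 n31757 = n29829 := d27_1 D31757 (iv D29829) (iv F138556)
theorem F147798 : act 6 n31757 = n29752 := d39_1 D31757 (iv D29752) (iv D24037) (iv F107997) D29739
theorem F147799 : act 8 n31757 = n30082 := d42_2 (iv F138557) D31757 (iv D30082)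
theorem F147800 : act 9 n31757 = n30249 := d43_2 (iv F138558) D31757 (iv D30249)
def n31758 : Q := act 4 n29740
theorem D31758 : act 4 n29740 = n31758 := rfl
theorem F147801 : act 0 n31758 = n30718 := d3_1 D31758 (iv D30718) (iv F138559)
theorem F147802 : act 6 n31758 = n29767 := d31_2 (iv F138561) D31758 (iv D29767)
theorem F147803 : act 9 n31758 = n30250 := d34_2 (iv F138562) D31758 (iv D30250)
def n31759 : Q := act 7 n29740
theorem D31759 : act 7 n29740 = n31759 := rfl
theorem F147804 : act 0 n31759 = n30719 := d6_1 D31759 (iv D30719) (iv F138559)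
theorem F147805 : act 3 n31759 = n29742 := d27_1 D31759 (iv D29742) (iv F138560)
theorem F147806 : act 5 n31759 = n29741 := d36_1 D31759 (iv D29741) D29740
theorem F147807 : act 9 n31759 = n30251 := d43_2 (iv F138562) D31759 (iv D30251)
def n31760 : Q := act 8 n29740
theorem D31760 : act 8 n29740 = n31760 := rfl
theorem F147808 : act 0 n31760 = n30670 := d7_1 D31760 F142556 (iv F138559)
theorem F147809 : act 2 n31760 = n30156 := d22_1 D31760 (iv F147793) F147790
theorem F147810 : act 3 n31760 = n29743 := d28_1 D31760 (iv D29743) (iv F138560)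
theorem F147811 : act 5 n31760 = n30084 := d37_1 D31760 (iv D30084) (iv D24600) (iv F108002) D29740
theorem F147812 : act 6 n31760 = n29769 := d40_1 D31760 (iv D29769) (iv F138561)
def n31761 : Q := act 6 n29742
theorem D31761 : act 6 n29742 = n31761 := rfl
theorem F147813 : act 0 n31761 = n30720 := d5_1 D31761 (iv D30720) (iv F138568)
theorem F147814 : act 2 n31761 = n29831 := d20_1 D31761 (iv D29831) (iv F138569)
theorem F147815 : act 5 n31761 = n29756 := d35_1 D31761 (iv D29756) F108049 (iv F108011) (iv F138570)
theorem F147816 : act 7 n31761 = n29770 := d39_2 D29742 D31761 (iv D29770) (iv D24050) (iv F108006)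
theorem F147817 : act 9 n31761 = n30253 := d41_2 (iv F138571) D31761 (iv D30253)
def n31762 : Q := act 8 n29742
theorem D31762 : act 8 n29742 = n31762 := rfl
theorem F147818 : act 0 n31762 = n30721 := d7_1 D31762 (iv D30721) (iv F138568)
theorem F147819 : act 2 n31762 = n29832 := d22_1 D31762 (iv D29832) (iv F138569)
theorem F147820 : act 5 n31762 = n30085 := d37_1 D31762 (iv D30085) F110724 (iv F108012) (iv F138570)
theorem F147821 : act 7 n31762 = n29743 := d42_1 D31762 (iv D29743) D29742
def n31763 : Q := act 5 n29744
theorem D31763 : act 5 n29744 = n31763 := rfl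
theorem F147822 : act 0 n31763 = n30723 := d4_1 D31763 (iv D30723) (iv F138576)
theorem F147823 : act 1 n31763 = n30790 := d12_1 D31763 F142906 (iv F138577)
theorem F147824 : act 2 n31763 = n29745 := d19_1 D31763 (iv D29745) (iv F138578)
theorem F147825 : act 3 n31763 = n29833 := d25_1 D31763 (iv D29833) (iv F138579)
theorem F147826 : act 6 n31763 = n29773 := d35_2 D29744 D31763 (iv D29773) (iv D24053) (iv F108016)
theorem F147827 : act 9 n31763 = n29751 := d38_2 (iv F138581) D31763 (iv D29751)
def n31764 : Q := act 7 n29744
theorem D31764 : act 7 n29744 = n31764 := rfl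
theorem F147828 : act 0 n31764 = n30724 := d6_1 D31764 (iv D30724) (iv F138576)
theorem F147829 : act 1 n31764 = n30947 := d14_1 D31764 (iv D30947) (iv F138577)
theorem F147830 : act 2 n31764 = n29746 := d21_1 D31764 (iv D29746) (iv F138578)
theorem F147831 : act 3 n31764 = n29834 := d27_1 D31764 (iv D29834) (iv F138579)
theorem F147832 : act 6 n31764 = n30249 := d39_1 D31764 (iv D30249) (iv D25280) (iv F108017) D29744
theorem F147833 : act 8 n31764 = n31764 := d42_2 F138580 D31764 (iv D31764)
theorem F147834 : act 9 n31764 = n29752 := d43_2 (iv F138581) D31764 (iv D29752)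
def n31765 : Q := act 4 n29745
theorem D31765 : act 4 n29745 = n31765 := rfl
theorem F147835 : act 0 n31765 = n30725 := d3_1 D31765 (iv D30725) (iv F138582)
theorem F147836 : act 6 n31765 = n29775 := d31_2 (iv F138584) D31765 (iv D29775)
theorem F147837 : act 9 n31765 = n29753 := d34_2 (iv F138585) D31765 (iv D29753)
def n31766 : Q := act 7 n29745
theorem D31766 : act 7 n29745 = n31766 := rfl
theorem F147838 : act 0 n31766 = n30726 := d6_1 D31766 (iv D30726) (iv F138582)
theorem F147839 : act 3 n31766 = n29747 := d27_1 D31766 (iv D29747) (iv F138583)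
theorem F147840 : act 5 n31766 = n29746 := d36_1 D31766 (iv D29746) D29745
theorem F147841 : act 9 n31766 = n29754 := d43_2 (iv F138585) D31766 (iv D29754)
def n31767 : Q := act 8 n29745
theorem D31767 : act 8 n29745 = n31767 := rfl
theorem F147842 : act 0 n31767 = n30727 := d7_1 D31767 (iv D30727) (iv F138582)
theorem F147843 : act 3 n31767 = n29748 := d28_1 D31767 (iv D29748) (iv F138583)
theorem F147844 : act 5 n31767 = n31767 := d37_1 D31767 (iv D31767) (iv D29745) F108022 D29745
theorem F147845 : act 6 n31767 = n29777 := d40_1 D31767 (iv D29777) (iv F138584)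
def n31768 : Q := act 6 n29747
theorem D31768 : act 6 n29747 = n31768 := rfl
theorem F147846 : act 0 n31768 = n30728 := d5_1 D31768 (iv D30728) (iv F138591)
theorem F147847 : act 2 n31768 = n29838 := d20_1 D31768 (iv D29838) (iv F138592)
theorem F147848 : act 5 n31768 = n30253 := d35_1 D31768 (iv D30253) F113851 (iv F108031) (iv F138593)
theorem F147849 : act 7 n31768 = n29778 := d39_2 D29747 D31768 (iv D29778) (iv D24056) (iv F108026)
theorem F147850 : act 9 n31768 = n29756 := d41_2 (iv F138594) D31768 (iv D29756)
def n31769 : Q := act 8 n29747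
theorem D31769 : act 8 n29747 = n31769 := rfl
theorem F147851 : act 0 n31769 = n30729 := d7_1 D31769 (iv D30729) (iv F138591)
theorem F147852 : act 2 n31769 = n29839 := d22_1 D31769 (iv D29839) (iv F138592)
theorem F147853 : act 5 n31769 = n31769 := d37_1 D31769 (iv D31769) F138593 F108032 (iv F138593)
theorem F147854 : act 7 n31769 = n29748 := d42_1 D31769 (iv D29748) D29747
def n31770 : Q := act 9 n29748
theorem D31770 : act 9 n29748 = n31770 := rfl
theorem F147855 : act 0 n31770 = n30730 := d8_1 D31770 (iv D30730) (iv F138595)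
theorem F147856 : act 2 n31770 = n29840 := d23_1 D31770 (iv D29840) (iv F138596)
theorem F147857 : act 5 n31770 = n31770 := d38_1 D31770 (iv D31770) F138597
theorem F147858 : act 6 n31770 = n29780 := d41_1 D31770 (iv D29780) (iv F138598)
theorem F147859 : act 8 n31770 = n29758 := d44_1 D31770 (iv D29758) (iv D24041) (iv F108027) D29748
def n31771 : Q := act 6 n29749
theorem D31771 : act 6 n29749 = n31771 := rfl
theorem F147860 : act 0 n31771 = n29750 := d5_1 D31771 (iv D29750) D29749
theorem F147861 : act 1 n31771 = n30104 := d13_1 D31771 F140367 (iv F138599)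
theorem F147862 : act 3 n31771 = n29841 := d26_1 D31771 (iv D29841) (iv F138600)
theorem F147863 : act 8 n31771 = n30062 := d40_2 (iv F138603) D31771 (iv D30062)
theorem F147864 : act 9 n31771 = n30112 := d41_2 (iv F138604) D31771 (iv D30112)
def n31772 : Q := act 5 n29750
theorem D31772 : act 5 n29750 = n31772 := rfl
theorem F147865 : act 1 n31772 = n29751 := d12_1 D31772 (iv D29751) (iv F138605)
theorem F147866 : act 3 n31772 = n29842 := d25_1 D31772 (iv D29842) (iv F138606)
theorem F147867 : act 6 n31772 = n29782 := d35_2 D29750 D31772 (iv D29782) (iv D24059) (iv F108035)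
theorem F147868 : act 9 n31772 = n30790 := d38_2 (iv F138608) D31772 F142906
def n31773 : Q := act 7 n29750
theorem D31773 : act 7 n29750 = n31773 := rfl
theorem F147869 : act 1 n31773 = n29752 := d14_1 D31773 (iv D29752) (iv F138605)
theorem F147870 : act 3 n31773 = n29843 := d27_1 D31773 (iv D29843) (iv F138606)
theorem F147871 : act 8 n31773 = n30087 := d42_2 (iv F138607) D31773 (iv D30087)
theorem F147872 : act 9 n31773 = n30947 := d43_2 (iv F138608) D31773 (iv D30947)
def n31774 : Q := act 4 n29751
theorem D31774 : act 4 n29751 = n31774 := rfl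
theorem F147873 : act 0 n31774 = n30733 := d3_1 D31774 (iv D30733) (iv F138609)
theorem F147874 : act 2 n31774 = n29753 := d18_1 D31774 (iv D29753) (iv F138610)
theorem F147875 : act 6 n31774 = n29784 := d31_2 (iv F138612) D31774 (iv D29784)
def n31775 : Q := act 7 n29751
theorem D31775 : act 7 n29751 = n31775 := rfl
theorem F147876 : act 0 n31775 = n30734 := d6_1 D31775 (iv D30734) (iv F138609)
theorem F147877 : act 2 n31775 = n29754 := d21_1 D31775 (iv D29754) (iv F138610)
theorem F147878 : act 3 n31775 = n29845 := d27_1 D31775 (iv D29845) (iv F138611)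
theorem F147879 : act 5 n31775 = n29752 := d36_1 D31775 (iv D29752) D29751
def n31776 : Q := act 8 n29751
theorem D31776 : act 8 n29751 = n31776 := rfl
theorem F147880 : act 0 n31776 = n30735 := d7_1 D31776 (iv D30735) (iv F138609)
theorem F147881 : act 2 n31776 = n29755 := d22_1 D31776 (iv D29755) (iv F138610)
theorem F147882 : act 3 n31776 = n29846 := d28_1 D31776 (iv D29846) (iv F138611)
theorem F147883 : act 5 n31776 = n30089 := d37_1 D31776 (iv D30089) (iv D24606) (iv F108040) D29751
theorem F147884 : act 6 n31776 = n29786 := d40_1 D31776 (iv D29786) (iv F138612)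
def n31777 : Q := act 7 n29753
theorem D31777 : act 7 n29753 = n31777 := rfl
theorem F147885 : act 0 n31777 = n30736 := d6_1 D31777 (iv D30736) (iv F138617)
theorem F147886 : act 4 n31777 = n29754 := d32_1 D31777 (iv D29754) D29753
def n31778 : Q := act 8 n29753
theorem D31778 : act 8 n29753 = n31778 := rfl
theorem F147887 : act 0 n31778 = n30737 := d7_1 D31778 (iv D30737) (iv F138617)
theorem F147888 : act 4 n31778 = n29755 := d33_1 D31778 (iv D29755) D29753
theorem F147889 : act 6 n31778 = n29788 := d40_1 D31778 (iv D29788) (iv F138618)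
def n31779 : Q := act 6 n29754
theorem D31779 : act 6 n29754 = n31779 := rfl
theorem F147890 : act 0 n31779 = n30738 := d5_1 D31779 (iv D30738) (iv F138619)
theorem F147891 : act 3 n31779 = n29756 := d26_1 D31779 (iv D29756) (iv F138620)
theorem F147892 : act 7 n31779 = n29789 := d39_2 D29754 D31779 (iv D29789) (iv D24063) (iv F108043)
def n31780 : Q := act 8 n29754
theorem D31780 : act 8 n29754 = n31780 := rfl
theorem F147893 : act 0 n31780 = n30739 := d7_1 D31780 (iv D30739) (iv F138619)
theorem F147894 : act 3 n31780 = n29757 := d28_1 D31780 (iv D29757) (iv F138620)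
theorem F147895 : act 5 n31780 = n30093 := d37_1 D31780 (iv D30093) F110751 (iv F108046) (iv F138621)
theorem F147896 : act 7 n31780 = n29755 := d42_1 D31780 (iv D29755) D29754
def n31781 : Q := act 9 n29755
theorem D31781 : act 9 n29755 = n31781 := rfl
theorem F147897 : act 0 n31781 = n30740 := d8_1 D31781 (iv D30740) (iv F138622)
theorem F147898 : act 3 n31781 = n29758 := d29_1 D31781 (iv D29758) (iv F138623)
theorem F147899 : act 5 n31781 = n30094 := d38_1 D31781 (iv D30094) (iv F138624)
theorem F147900 : act 6 n31781 = n29791 := d41_1 D31781 (iv D29791) (iv F138625)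
def n31782 : Q := act 8 n29756
theorem D31782 : act 8 n29756 = n31782 := rfl
theorem F147901 : act 0 n31782 = n30741 := d7_1 D31782 (iv D30741) (iv F138626)
theorem F147902 : act 2 n31782 = n29852 := d22_1 D31782 (iv D29852) (iv F138627)
theorem F147903 : act 6 n31782 = n29757 := d40_1 D31782 (iv D29757) D29756
theorem F147904 : act 7 n31782 = n29792 := d42_1 D31782 (iv D29792) (iv F138628)
def n31783 : Q := act 9 n29757
theorem D31783 : act 9 n29757 = n31783 := rfl
theorem F147905 : act 0 n31783 = n30742 := d8_1 D31783 (iv D30742) (iv F138629)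
theorem F147906 : act 2 n31783 = n29853 := d23_1 D31783 (iv D29853) (iv F138630)
theorem F147907 : act 5 n31783 = n30096 := d38_1 D31783 (iv D30096) (iv F138631)
theorem F147908 : act 7 n31783 = n29758 := d43_1 D31783 (iv D29758) (iv F138632)
def n31784 : Q := act 0 n29759
theorem D31784 : act 0 n29759 = n31784 := rfl
theorem F147909 : act 1 n31784 = n30099 := d0_2 D29759 D31784 F140341 (iv D25861) (iv F108054)
theorem F147910 : act 3 n31784 = n29854 := d2_2 (iv F138637) D31784 (iv D29854)
theorem F147911 : act 4 n31784 = n30465 := d3_2 (iv F138638) D31784 (iv D30465)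
theorem F147912 : act 5 n31784 = n30109 := d4_2 F144817 D31784 (iv F144813)
theorem F147913 : act 8 n31784 = n31784 := d7_2 F138639 D31784 (iv D31784)
theorem F147914 : act 9 n31784 = n30097 := d8_2 (iv F138640) D31784 F140330
def n31785 : Q := act 6 n29759
theorem D31785 : act 6 n29759 = n31785 := rfl
theorem F147915 : act 1 n31785 = n29760 := d13_1 D31785 (iv D29760) D29759
theorem F147916 : act 3 n31785 = n29855 := d26_1 D31785 (iv D29855) (iv F138637)
theorem F147917 : act 4 n31785 = n30466 := d31_1 D31785 (iv D30466) (iv F138638)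
theorem F147918 : act 8 n31785 = n31785 := d40_2 F138639 D31785 (iv D31785)
theorem F147919 : act 9 n31785 = n30159 := d41_2 (iv F138640) D31785 (iv D30159)
def n31786 : Q := act 5 n29760
theorem D31786 : act 5 n29760 = n31786 := rfl
theorem F147920 : act 0 n31786 = n30744 := d4_1 D31786 (iv D30744) (iv F138641)
theorem F147921 : act 2 n31786 = n29761 := d19_1 D31786 (iv D29761) (iv F138642)
theorem F147922 : act 3 n31786 = n29856 := d25_1 D31786 (iv D29856) (iv F138643)
theorem F147923 : act 9 n31786 = n30160 := d38_2 (iv F138646) D31786 (iv D30160)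
def n31787 : Q := act 7 n29760
theorem D31787 : act 7 n29760 = n31787 := rfl
theorem F147924 : act 0 n31787 = n30745 := d6_1 D31787 (iv D30745) (iv F138641)
theorem F147925 : act 2 n31787 = n29762 := d21_1 D31787 (iv D29762) (iv F138642)
theorem F147926 : act 3 n31787 = n29857 := d27_1 D31787 (iv D29857) (iv F138643)
theorem F147927 : act 4 n31787 = n30468 := d32_1 D31787 (iv D30468) (iv F138644)
theorem F147928 : act 8 n31787 = n31787 := d42_2 F138645 D31787 (iv D31787)
theorem F147929 : act 9 n31787 = n30161 := d43_2 (iv F138646) D31787 (iv D30161)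
def n31788 : Q := act 4 n29761
theorem D31788 : act 4 n29761 = n31788 := rfl
theorem F147930 : act 0 n31788 = n30746 := d3_1 D31788 (iv D30746) (iv F138647)
theorem F147931 : act 3 n31788 = n29767 := d24_1 D31788 (iv D29767) F108085 (iv F108066) (iv F138648)
theorem F147932 : act 5 n31788 = n30469 := d30_2 D29761 D31788 (iv D30469) (iv D25536) (iv F108061)
theorem F147933 : act 9 n31788 = n30162 := d34_2 (iv F138649) D31788 (iv D30162)
def n31789 : Q := act 7 n29761
theorem D31789 : act 7 n29761 = n31789 := rfl
theorem F147934 : act 0 n31789 = n30747 := d6_1 D31789 (iv D30747) (iv F138647)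
theorem F147935 : act 3 n31789 = n29763 := d27_1 D31789 (iv D29763) (iv F138648)
theorem F147936 : act 5 n31789 = n29762 := d36_1 D31789 (iv D29762) D29761
theorem F147937 : act 9 n31789 = n30163 := d43_2 (iv F138649) D31789 (iv D30163)
def n31790 : Q := act 8 n29761
theorem D31790 : act 8 n29761 = n31790 := rfl
theorem F147938 : act 0 n31790 = n30748 := d7_1 D31790 (iv D30748) (iv F138647)
theorem F147939 : act 3 n31790 = n29764 := d28_1 D31790 (iv D29764) (iv F138648)
theorem F147940 : act 5 n31790 = n31790 := d37_1 D31790 (iv D31790) (iv D29761) F108062 D29761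
def n31791 : Q := act 6 n29763
theorem D31791 : act 6 n29763 = n31791 := rfl
theorem F147941 : act 0 n31791 = n30749 := d5_1 D31791 (iv D30749) (iv F138655)
theorem F147942 : act 2 n31791 = n29861 := d20_1 D31791 (iv D29861) (iv F138656)
theorem F147943 : act 4 n31791 = n29770 := d31_1 D31791 (iv D29770) (iv F138657)
theorem F147944 : act 9 n31791 = n30165 := d41_2 (iv F138659) D31791 (iv D30165)
def n31792 : Q := act 8 n29763
theorem D31792 : act 8 n29763 = n31792 := rfl
theorem F147945 : act 0 n31792 = n30750 := d7_1 D31792 (iv D30750) (iv F138655)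
theorem F147946 : act 2 n31792 = n29862 := d22_1 D31792 (iv D29862) (iv F138656)
theorem F147947 : act 4 n31792 = n29771 := d33_1 D31792 (iv D29771) (iv F138657)
theorem F147948 : act 5 n31792 = n31792 := d37_1 D31792 (iv D31792) F138658 F108071 (iv F138658)
theorem F147949 : act 7 n31792 = n29764 := d42_1 D31792 (iv D29764) D29763
def n31793 : Q := act 9 n29764
theorem D31793 : act 9 n29764 = n31793 := rfl
theorem F147950 : act 0 n31793 = n30751 := d8_1 D31793 (iv D30751) (iv F138660)
theorem F147951 : act 2 n31793 = n29863 := d23_1 D31793 (iv D29863) (iv F138661)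
theorem F147952 : act 4 n31793 = n29772 := d34_1 D31793 (iv D29772) (iv F138662)
theorem F147953 : act 5 n31793 = n31793 := d38_1 D31793 (iv D31793) F138663
theorem F147954 : act 8 n31793 = n30167 := d44_1 D31793 (iv D30167) (iv D25129) (iv F108067) D29764
def n31794 : Q := act 4 n29765
theorem D31794 : act 4 n29765 = n31794 := rfl
theorem F147955 : act 0 n31794 = n30697 := d3_1 D31794 F142647 (iv F138664)
theorem F147956 : act 2 n31794 = n29767 := d18_1 D31794 (iv D29767) (iv F138665)
theorem F147957 : act 5 n31794 = n30758 := d30_2 D29765 D31794 (iv D30758) (iv D25879) (iv F108081)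
theorem F147958 : act 8 n31794 = n30667 := d33_2 (iv F138667) D31794 (iv D30667)
theorem F147959 : act 9 n31794 = n30258 := d34_2 (iv F138668) D31794 (iv D30258)
def n31795 : Q := act 7 n29765
theorem D31795 : act 7 n29765 = n31795 := rfl
theorem F147960 : act 0 n31795 = n30699 := d6_1 D31795 F142654 (iv F138664)
theorem F147961 : act 2 n31795 = n29768 := d21_1 D31795 (iv D29768) (iv F138665)
theorem F147962 : act 3 n31795 = n29865 := d27_1 D31795 (iv D29865) (iv F138666)
theorem F147963 : act 5 n31795 = n29766 := d36_1 D31795 (iv D29766) D29765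
theorem F147964 : act 8 n31795 = n30668 := d42_2 (iv F138667) D31795 (iv D30668)
theorem F147965 : act 9 n31795 = n30259 := d43_2 (iv F138668) D31795 (iv D30259)
def n31796 : Q := act 7 n29767
theorem D31796 : act 7 n29767 = n31796 := rfl
theorem F147966 : act 0 n31796 = n30752 := d6_1 D31796 (iv D30752) (iv F138676)
theorem F147967 : act 4 n31796 = n29768 := d32_1 D31796 (iv D29768) D29767
theorem F147968 : act 5 n31796 = n30761 := d36_1 D31796 (iv D30761) (iv F138677)
theorem F147969 : act 9 n31796 = n30261 := d43_2 (iv F138678) D31796 (iv D30261)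
def n31797 : Q := act 8 n29767
theorem D31797 : act 8 n29767 = n31797 := rfl
theorem F147970 : act 0 n31797 = n30694 := d7_1 D31797 F142638 (iv F138676)
theorem F147971 : act 2 n31797 = n30667 := d22_1 D31797 (iv F147958) F147956
theorem F147972 : act 4 n31797 = n29769 := d33_1 D31797 (iv D29769) D29767
def n31798 : Q := act 6 n29768
theorem D31798 : act 6 n29768 = n31798 := rfl
theorem F147973 : act 0 n31798 = n30753 := d5_1 D31798 (iv D30753) (iv F138679)
theorem F147974 : act 3 n31798 = n29770 := d26_1 D31798 (iv D29770) (iv F138680)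
theorem F147975 : act 5 n31798 = n29789 := d35_1 D31798 (iv D29789) F108143 (iv F108090) (iv F138681)
theorem F147976 : act 9 n31798 = n30263 := d41_2 (iv F138682) D31798 (iv D30263)
def n31799 : Q := act 8 n29768
theorem D31799 : act 8 n29768 = n31799 := rfl
theorem F147977 : act 0 n31799 = n30695 := d7_1 D31799 F142642 (iv F138679)
theorem F147978 : act 2 n31799 = n30668 := d22_1 D31799 (iv F147964) F147961
theorem F147979 : act 3 n31799 = n29771 := d28_1 D31799 (iv D29771) (iv F138680)
theorem F147980 : act 5 n31799 = n29797 := d37_1 D31799 (iv D29797) F108184 (iv F108091) (iv F138681)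
theorem F147981 : act 7 n31799 = n29769 := d42_1 D31799 (iv D29769) D29768
def n31800 : Q := act 9 n29769
theorem D31800 : act 9 n29769 = n31800 := rfl
theorem F147982 : act 0 n31800 = n30686 := d8_1 D31800 F142611 (iv F138683)
theorem F147983 : act 2 n31800 = n30664 := d23_1 D31800 F142538 (iv F138684)
theorem F147984 : act 3 n31800 = n29772 := d29_1 D31800 (iv D29772) (iv F138685)
theorem F147985 : act 5 n31800 = n29798 := d38_1 D31800 (iv D29798) (iv F138686)
theorem F147986 : act 8 n31800 = n30265 := d44_1 D31800 (iv D30265) (iv D25291) (iv F108086) D29769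
def n31801 : Q := act 8 n29770
theorem D31801 : act 8 n29770 = n31801 := rfl
theorem F147987 : act 0 n31801 = n30754 := d7_1 D31801 (iv D30754) (iv F138687)
theorem F147988 : act 2 n31801 = n29868 := d22_1 D31801 (iv D29868) (iv F138688)
theorem F147989 : act 6 n31801 = n29771 := d40_1 D31801 (iv D29771) D29770
def n31802 : Q := act 9 n29771
theorem D31802 : act 9 n29771 = n31802 := rfl
theorem F147990 : act 0 n31802 = n30755 := d8_1 D31802 (iv D30755) (iv F138691)
theorem F147991 : act 2 n31802 = n29869 := d23_1 D31802 (iv D29869) (iv F138692)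
theorem F147992 : act 5 n31802 = n29800 := d38_1 D31802 (iv D29800) (iv F138693)
theorem F147993 : act 7 n31802 = n29772 := d43_1 D31802 (iv D29772) (iv F138694)
theorem F147994 : act 8 n31802 = n30267 := d44_1 D31802 (iv D30267) (iv D25293) (iv F108096) D29771
def n31803 : Q := act 4 n29773
theorem D31803 : act 4 n29773 = n31803 := rfl
theorem F147995 : act 0 n31803 = n30758 := d3_1 D31803 (iv D30758) (iv F138699)
theorem F147996 : act 1 n31803 = n30778 := d11_1 D31803 F142871 (iv F138700)
theorem F147997 : act 2 n31803 = n29775 := d18_1 D31803 (iv D29775) (iv F138701)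
theorem F147998 : act 5 n31803 = n30697 := d30_2 D29773 D31803 F142647 F115762 (iv F134697)
theorem F147999 : act 9 n31803 = n29784 := d34_2 (iv F138703) D31803 (iv D29784)
def n31804 : Q := act 7 n29773
theorem D31804 : act 7 n29773 = n31804 := rfl
theorem F148000 : act 0 n31804 = n30759 := d6_1 D31804 (iv D30759) (iv F138699)
theorem F148001 : act 1 n31804 = n30789 := d14_1 D31804 F142904 (iv F138700)
theorem F148002 : act 2 n31804 = n29776 := d21_1 D31804 (iv D29776) (iv F138701)
theorem F148003 : act 3 n31804 = n29871 := d27_1 D31804 (iv D29871) (iv F138702)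
theorem F148004 : act 5 n31804 = n29774 := d36_1 D31804 (iv D29774) D29773
theorem F148005 : act 9 n31804 = n29785 := d43_2 (iv F138703) D31804 (iv D29785)
def n31805 : Q := act 8 n29773
theorem D31805 : act 8 n29773 = n31805 := rfl
theorem F148006 : act 0 n31805 = n30760 := d7_1 D31805 (iv D30760) (iv F138699)
theorem F148007 : act 1 n31805 = n30277 := d15_1 D31805 F141033 (iv F138700)
theorem F148008 : act 2 n31805 = n29777 := d22_1 D31805 (iv D29777) (iv F138701)
theorem F148009 : act 3 n31805 = n29872 := d28_1 D31805 (iv D29872) (iv F138702)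
theorem F148010 : act 5 n31805 = n29978 := d37_1 D31805 (iv D29978) (iv D24332) (iv F108109) D29773
def n31806 : Q := act 7 n29775
theorem D31806 : act 7 n29775 = n31806 := rfl
theorem F148011 : act 0 n31806 = n30761 := d6_1 D31806 (iv D30761) (iv F138712)
theorem F148012 : act 4 n31806 = n29776 := d32_1 D31806 (iv D29776) D29775
theorem F148013 : act 5 n31806 = n30752 := d36_1 D31806 (iv D30752) (iv F138713)
theorem F148014 : act 9 n31806 = n29787 := d43_2 (iv F138714) D31806 (iv D29787)
def n31807 : Q := act 8 n29775
theorem D31807 : act 8 n29775 = n31807 := rfl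
theorem F148015 : act 0 n31807 = n30762 := d7_1 D31807 (iv D30762) (iv F138712)
theorem F148016 : act 4 n31807 = n29777 := d33_1 D31807 (iv D29777) D29775
def n31808 : Q := act 6 n29776
theorem D31808 : act 6 n29776 = n31808 := rfl
theorem F148017 : act 0 n31808 = n30763 := d5_1 D31808 (iv D30763) (iv F138715)
theorem F148018 : act 3 n31808 = n29778 := d26_1 D31808 (iv D29778) (iv F138716)
theorem F148019 : act 5 n31808 = n30263 := d35_1 D31808 (iv D30263) F113870 (iv F108117) (iv F138717)
theorem F148020 : act 9 n31808 = n29789 := d41_2 (iv F138718) D31808 (iv D29789)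
def n31809 : Q := act 8 n29776
theorem D31809 : act 8 n29776 = n31809 := rfl
theorem F148021 : act 0 n31809 = n30764 := d7_1 D31809 (iv D30764) (iv F138715)
theorem F148022 : act 3 n31809 = n29779 := d28_1 D31809 (iv D29779) (iv F138716)
theorem F148023 : act 5 n31809 = n29982 := d37_1 D31809 (iv D29982) F109448 (iv F108118) (iv F138717)
theorem F148024 : act 7 n31809 = n29777 := d42_1 D31809 (iv D29777) D29776
def n31810 : Q := act 9 n29777
theorem D31810 : act 9 n29777 = n31810 := rfl
theorem F148025 : act 0 n31810 = n30765 := d8_1 D31810 (iv D30765) (iv F138719)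
theorem F148026 : act 3 n31810 = n29780 := d29_1 D31810 (iv D29780) (iv F138720)
theorem F148027 : act 5 n31810 = n29983 := d38_1 D31810 (iv D29983) (iv F138721)
theorem F148028 : act 8 n31810 = n29791 := d44_1 D31810 (iv D29791) (iv D24064) (iv F108113) D29777
def n31811 : Q := act 8 n29778
theorem D31811 : act 8 n29778 = n31811 := rfl
theorem F148029 : act 0 n31811 = n30766 := d7_1 D31811 (iv D30766) (iv F138722)
theorem F148030 : act 2 n31811 = n29878 := d22_1 D31811 (iv D29878) (iv F138723)
theorem F148031 : act 6 n31811 = n29779 := d40_1 D31811 (iv D29779) D29778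
def n31812 : Q := act 9 n29779
theorem D31812 : act 9 n29779 = n31812 := rfl
theorem F148032 : act 0 n31812 = n30767 := d8_1 D31812 (iv D30767) (iv F138726)
theorem F148033 : act 2 n31812 = n29879 := d23_1 D31812 (iv D29879) (iv F138727)
theorem F148034 : act 5 n31812 = n29985 := d38_1 D31812 (iv D29985) (iv F138728)
theorem F148035 : act 7 n31812 = n29780 := d43_1 D31812 (iv D29780) (iv F138729)
theorem F148036 : act 8 n31812 = n29793 := d44_1 D31812 (iv D29793) (iv D24066) (iv F108123) D29779
def n31813 : Q := act 5 n29781
theorem D31813 : act 5 n29781 = n31813 := rfl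
theorem F148037 : act 0 n31813 = n29782 := d4_1 D31813 (iv D29782) (iv F138734)
theorem F148038 : act 1 n31813 = n30113 := d12_1 D31813 (iv D30113) (iv F138735)
theorem F148039 : act 3 n31813 = n29819 := d25_1 D31813 F138894 (iv F138736)
theorem F148040 : act 9 n31813 = n29812 := d38_2 (iv F138739) D31813 (iv D29812)
def n31814 : Q := act 4 n29782
theorem D31814 : act 4 n29782 = n31814 := rfl
theorem F148041 : act 1 n31814 = n29784 := d11_1 D31814 (iv D29784) (iv F138740)
theorem F148042 : act 5 n31814 = n30779 := d30_2 D29782 D31814 F142872 F116103 (iv F134961)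
theorem F148043 : act 9 n31814 = n30778 := d34_2 (iv F138742) D31814 F142871
def n31815 : Q := act 7 n29782
theorem D31815 : act 7 n29782 = n31815 := rfl
theorem F148044 : act 1 n31815 = n29785 := d14_1 D31815 (iv D29785) (iv F138740)
theorem F148045 : act 3 n31815 = n29881 := d27_1 D31815 (iv D29881) (iv F138741)
theorem F148046 : act 5 n31815 = n29783 := d36_1 D31815 (iv D29783) D29782
theorem F148047 : act 9 n31815 = n30789 := d43_2 (iv F138742) D31815 F142904
def n31816 : Q := act 8 n29782
theorem D31816 : act 8 n29782 = n31816 := rfl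
theorem F148048 : act 1 n31816 = n29786 := d15_1 D31816 (iv D29786) (iv F138740)
theorem F148049 : act 3 n31816 = n29882 := d28_1 D31816 (iv D29882) (iv F138741)
theorem F148050 : act 5 n31816 = n29804 := d37_1 D31816 (iv D29804) (iv D24079) (iv F108132) D29782
def n31817 : Q := act 3 n29784
theorem D31817 : act 3 n29784 = n31817 := rfl
theorem F148051 : act 0 n31817 = n30770 := d2_1 D31817 (iv D30770) (iv F138748)
theorem F148052 : act 4 n31817 = n29883 := d24_2 D29784 D31817 (iv D29883) (iv D24154) (iv F108135)
def n31818 : Q := act 7 n29784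
theorem D31818 : act 7 n29784 = n31818 := rfl
theorem F148053 : act 0 n31818 = n30771 := d6_1 D31818 (iv D30771) (iv F138748)
theorem F148054 : act 2 n31818 = n29787 := d21_1 D31818 (iv D29787) (iv F138749)
theorem F148055 : act 4 n31818 = n29785 := d32_1 D31818 (iv D29785) D29784
def n31819 : Q := act 8 n29784
theorem D31819 : act 8 n29784 = n31819 := rfl
theorem F148056 : act 0 n31819 = n30772 := d7_1 D31819 (iv D30772) (iv F138748)
theorem F148057 : act 2 n31819 = n29788 := d22_1 D31819 (iv D29788) (iv F138749)
theorem F148058 : act 4 n31819 = n29786 := d33_1 D31819 (iv D29786) D29784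
def n31820 : Q := act 6 n29785
theorem D31820 : act 6 n29785 = n31820 := rfl
theorem F148059 : act 0 n31820 = n30773 := d5_1 D31820 (iv D30773) (iv F138750)
theorem F148060 : act 2 n31820 = n29789 := d20_1 D31820 (iv D29789) (iv F138751)
theorem F148061 : act 3 n31820 = n29886 := d26_1 D31820 (iv D29886) (iv F138752)
def n31821 : Q := act 8 n29785
theorem D31821 : act 8 n29785 = n31821 := rfl
theorem F148062 : act 0 n31821 = n30774 := d7_1 D31821 (iv D30774) (iv F138750)
theorem F148063 : act 2 n31821 = n29790 := d22_1 D31821 (iv D29790) (iv F138751)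
theorem F148064 : act 3 n31821 = n29887 := d28_1 D31821 (iv D29887) (iv F138752)
theorem F148065 : act 5 n31821 = n29808 := d37_1 D31821 (iv D29808) F108223 (iv F108139) (iv F138753)
theorem F148066 : act 7 n31821 = n29786 := d42_1 D31821 (iv D29786) D29785
def n31822 : Q := act 9 n29786
theorem D31822 : act 9 n29786 = n31822 := rfl
theorem F148067 : act 0 n31822 = n30775 := d8_1 D31822 (iv D30775) (iv F138754)
theorem F148068 : act 2 n31822 = n29791 := d23_1 D31822 (iv D29791) (iv F138755)
theorem F148069 : act 3 n31822 = n29888 := d29_1 D31822 (iv D29888) (iv F138756)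
theorem F148070 : act 5 n31822 = n29809 := d38_1 D31822 (iv D29809) (iv F138757)
def n31823 : Q := act 6 n29787
theorem D31823 : act 6 n29787 = n31823 := rfl
theorem F148071 : act 0 n31823 = n30776 := d5_1 D31823 (iv D30776) (iv F138758)
theorem F148072 : act 4 n31823 = n29789 := d31_1 D31823 (iv D29789) (iv F138759)
def n31824 : Q := act 8 n29787
theorem D31824 : act 8 n29787 = n31824 := rfl
theorem F148073 : act 0 n31824 = n30777 := d7_1 D31824 (iv D30777) (iv F138758)
theorem F148074 : act 4 n31824 = n29790 := d33_1 D31824 (iv D29790) (iv F138759)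
theorem F148075 : act 7 n31824 = n29788 := d42_1 D31824 (iv D29788) D29787
def n31825 : Q := act 5 n29788
theorem D31825 : act 5 n29788 = n31825 := rfl
theorem F148076 : act 0 n31825 = n30778 := d4_1 D31825 (iv D30778) (iv F138760)
theorem F148077 : act 4 n31825 = n29812 := d30_1 D31825 (iv D29812) F108235 (iv F108146) (iv F138761)
def n31826 : Q := act 9 n29788
theorem D31826 : act 9 n29788 = n31826 := rfl
theorem F148078 : act 0 n31826 = n30779 := d8_1 D31826 (iv D30779) (iv F138760)
theorem F148079 : act 4 n31826 = n29791 := d34_1 D31826 (iv D29791) (iv F138761)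
def n31827 : Q := act 8 n29789
theorem D31827 : act 8 n29789 = n31827 := rfl
theorem F148080 : act 0 n31827 = n30780 := d7_1 D31827 (iv D30780) (iv F138762)
theorem F148081 : act 3 n31827 = n29792 := d28_1 D31827 (iv D29792) (iv F138763)
theorem F148082 : act 6 n31827 = n29790 := d40_1 D31827 (iv D29790) D29789
def n31828 : Q := act 9 n29790
theorem D31828 : act 9 n29790 = n31828 := rfl
theorem F148083 : act 0 n31828 = n30781 := d8_1 D31828 (iv D30781) (iv F138764)
theorem F148084 : act 3 n31828 = n29793 := d29_1 D31828 (iv D29793) (iv F138765)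
theorem F148085 : act 5 n31828 = n29814 := d38_1 D31828 (iv D29814) (iv F138766)
theorem F148086 : act 7 n31828 = n29791 := d43_1 D31828 (iv D29791) (iv F138767)
def n31829 : Q := act 5 n29792
theorem D31829 : act 5 n29792 = n31829 := rfl
theorem F148087 : act 0 n31829 = n30782 := d4_1 D31829 (iv D30782) (iv F138771)
theorem F148088 : act 2 n31829 = n29894 := d19_1 D31829 (iv D29894) (iv F138772)
theorem F148089 : act 6 n31829 = n29815 := d35_2 (iv F138773) D31829 (iv D29815) F108251 (iv F108151)
def n31830 : Q := act 9 n29792
theorem D31830 : act 9 n29792 = n31830 := rfl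
theorem F148090 : act 0 n31830 = n30783 := d8_1 D31830 (iv D30783) (iv F138771)
theorem F148091 : act 2 n31830 = n29895 := d23_1 D31830 (iv D29895) (iv F138772)
theorem F148092 : act 6 n31830 = n29793 := d41_1 D31830 (iv D29793) (iv F138773)
def n31831 : Q := act 6 n29794
theorem D31831 : act 6 n29794 = n31831 := rfl
theorem F148093 : act 0 n31831 = n29955 := d5_1 D31831 F139593 (iv F138778)
theorem F148094 : act 2 n31831 = n29935 := d20_1 D31831 F139466 (iv F138779)
theorem F148095 : act 3 n31831 = n31831 := d26_1 D31831 (iv D31831) F138780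
theorem F148096 : act 4 n31831 = n29796 := d31_1 D31831 (iv D29796) (iv F138781)
theorem F148097 : act 7 n31831 = n29933 := d39_2 D29794 D31831 (iv D29933) (iv F134179) (iv F108180)
theorem F148098 : act 9 n31831 = n29940 := d41_2 (iv F138783) D31831 F139498
def n31832 : Q := act 8 n29794
theorem D31832 : act 8 n29794 = n31832 := rfl
theorem F148099 : act 0 n31832 = n30224 := d7_1 D31832 F140864 (iv F138778)
theorem F148100 : act 2 n31832 = n30203 := d22_1 D31832 F140771 (iv F138779)
theorem F148101 : act 3 n31832 = n31832 := d28_1 D31832 (iv D31832) F138780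
theorem F148102 : act 4 n31832 = n29797 := d33_1 D31832 (iv D29797) (iv F138781)
theorem F148103 : act 7 n31832 = n29795 := d42_1 D31832 (iv D29795) D29794
def n31833 : Q := act 5 n29795
theorem D31833 : act 5 n29795 = n31833 := rfl
theorem F148104 : act 0 n31833 = n30223 := d4_1 D31833 (iv D30223) (iv F138784)
theorem F148105 : act 2 n31833 = n30202 := d19_1 D31833 (iv D30202) (iv F138785)
theorem F148106 : act 3 n31833 = n31833 := d25_1 D31833 (iv D31833) F138786
theorem F148107 : act 8 n31833 = n30903 := d37_2 D29795 D31833 (iv D30903) (iv D26250) (iv F108179)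
def n31834 : Q := act 8 n29796
theorem D31834 : act 8 n29796 = n31834 := rfl
theorem F148108 : act 0 n31834 = n30678 := d7_1 D31834 F142585 (iv F138789)
theorem F148109 : act 2 n31834 = n30154 := d22_1 D31834 F140601 (iv F138790)
theorem F148110 : act 3 n31834 = n29799 := d28_1 D31834 (iv D29799) (iv F138791)
theorem F148111 : act 6 n31834 = n29797 := d40_1 D31834 (iv D29797) D29796
theorem F148112 : act 7 n31834 = n30106 := d42_1 D31834 (iv D30106) (iv F138793)
def n31835 : Q := act 9 n29797
theorem D31835 : act 9 n29797 = n31835 := rfl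
theorem F148113 : act 0 n31835 = n30687 := d8_1 D31835 F142615 (iv F138795)
theorem F148114 : act 2 n31835 = n30665 := d23_1 D31835 F142542 (iv F138796)
theorem F148115 : act 3 n31835 = n29800 := d29_1 D31835 (iv D29800) (iv F138797)
theorem F148116 : act 7 n31835 = n29798 := d43_1 D31835 (iv D29798) (iv F138798)
theorem F148117 : act 8 n31835 = n29995 := d44_1 D31835 (iv D29995) (iv D24362) (iv F108185) D29797
def n31836 : Q := act 5 n29799
theorem D31836 : act 5 n29799 = n31836 := rfl
theorem F148118 : act 0 n31836 = n30784 := d4_1 D31836 (iv D30784) (iv F138804)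
theorem F148119 : act 2 n31836 = n29896 := d19_1 D31836 (iv D29896) (iv F138805)
theorem F148120 : act 7 n31836 = n30107 := d36_2 (iv F138808) D31836 (iv D30107)
theorem F148121 : act 8 n31836 = n29815 := d37_2 D29799 D31836 (iv D29815) (iv D24089) (iv F108192)
def n31837 : Q := act 9 n29799
theorem D31837 : act 9 n29799 = n31837 := rfl
theorem F148122 : act 0 n31837 = n30785 := d8_1 D31837 (iv D30785) (iv F138804)
theorem F148123 : act 2 n31837 = n29824 := d23_1 D31837 F138922 (iv F138805)
theorem F148124 : act 4 n31837 = n31837 := d34_1 D31837 (iv D31837) F138806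
theorem F148125 : act 6 n31837 = n29800 := d41_1 D31837 (iv D29800) (iv F138807)
theorem F148126 : act 7 n31837 = n29822 := d43_1 D31837 F138910 (iv F138808)
theorem F148127 : act 8 n31837 = n29996 := d44_1 D31837 (iv D29996) (iv D24364) (iv F108194) D29799
def n31838 : Q := act 4 n29801
theorem D31838 : act 4 n29801 = n31838 := rfl
theorem F148128 : act 0 n31838 = n29802 := d3_1 D31838 (iv D29802) (iv F138814)
theorem F148129 : act 1 n31838 = n29933 := d11_1 D31838 F139455 (iv F138815)
theorem F148130 : act 2 n31838 = n29970 := d18_1 D31838 (iv F147336) F147334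
theorem F148131 : act 3 n31838 = n31838 := d24_1 D31838 (iv D31838) F138816 F108648 (iv F138816)
theorem F148132 : act 5 n31838 = n29991 := d30_2 D29801 D31838 F139777 F109512 (iv F133638)
theorem F148133 : act 6 n31838 = n29932 := d31_2 (iv F138817) D31838 F139448
theorem F148134 : act 9 n31838 = n29938 := d34_2 (iv F138818) D31838 F139484
def n31839 : Q := act 8 n29801
theorem D31839 : act 8 n29801 = n31839 := rfl
theorem F148135 : act 0 n31839 = n29804 := d7_1 D31839 (iv D29804) (iv F138814)
theorem F148136 : act 1 n31839 = n30106 := d15_1 D31839 (iv D30106) (iv F138815)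
theorem F148137 : act 3 n31839 = n29897 := d28_1 D31839 (iv D29897) (iv F138816)
theorem F148138 : act 6 n31839 = n30065 := d40_1 D31839 (iv D30065) (iv F138817)
def n31840 : Q := act 7 n29802
theorem D31840 : act 7 n29802 = n31840 := rfl
theorem F148139 : act 1 n31840 = n29805 := d14_1 D31840 (iv D29805) (iv F138819)
theorem F148140 : act 3 n31840 = n31840 := d27_1 D31840 (iv D31840) F138820
theorem F148141 : act 4 n31840 = n29803 := d32_1 D31840 (iv D29803) D29802
theorem F148142 : act 5 n31840 = n30914 := d36_1 D31840 F143346 (iv F138821)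
theorem F148143 : act 9 n31840 = n29997 := d43_2 (iv F138823) D31840 (iv D29997)
def n31841 : Q := act 8 n29802
theorem D31841 : act 8 n29802 = n31841 := rfl
theorem F148144 : act 1 n31841 = n29806 := d15_1 D31841 (iv D29806) (iv F138819)
theorem F148145 : act 3 n31841 = n31841 := d28_1 D31841 (iv D31841) F138820
theorem F148146 : act 4 n31841 = n29804 := d33_1 D31841 (iv D29804) D29802
theorem F148147 : act 6 n31841 = n30108 := d40_1 D31841 (iv D30108) (iv F138822)
def n31842 : Q := act 8 n29803
theorem D31842 : act 8 n29803 = n31842 := rfl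
theorem F148148 : act 1 n31842 = n29808 := d15_1 D31842 (iv D29808) (iv F138824)
theorem F148149 : act 3 n31842 = n29898 := d28_1 D31842 (iv D29898) (iv F138825)
theorem F148150 : act 7 n31842 = n29804 := d42_1 D31842 (iv D29804) D29803
def n31843 : Q := act 9 n29804
theorem D31843 : act 9 n29804 = n31843 := rfl
theorem F148151 : act 1 n31843 = n29809 := d16_1 D31843 (iv D29809) (iv F138828)
theorem F148152 : act 3 n31843 = n29899 := d29_1 D31843 (iv D29899) (iv F138829)
theorem F148153 : act 6 n31843 = n30109 := d41_1 D31843 (iv D30109) (iv F138830)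
theorem F148154 : act 8 n31843 = n29999 := d44_1 D31843 (iv D29999) (iv D24370) (iv F108211) D29804
def n31844 : Q := act 6 n29805
theorem D31844 : act 6 n29805 = n31844 := rfl
theorem F148155 : act 0 n31844 = n30231 := d5_1 D31844 F140886 (iv F138831)
theorem F148156 : act 2 n31844 = n29810 := d20_1 D31844 (iv D29810) (iv F138832)
theorem F148157 : act 3 n31844 = n31844 := d26_1 D31844 (iv D31844) F138833
theorem F148158 : act 4 n31844 = n29807 := d31_1 D31844 (iv D29807) (iv F138834)
theorem F148159 : act 7 n31844 = n29976 := d39_2 D29805 D31844 F139696 (iv D24661) (iv F108218)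
theorem F148160 : act 9 n31844 = n29975 := d41_2 (iv F138835) D31844 F139690
def n31845 : Q := act 8 n29805
theorem D31845 : act 8 n29805 = n31845 := rfl
theorem F148161 : act 0 n31845 = n30786 := d7_1 D31845 (iv D30786) (iv F138831)
theorem F148162 : act 2 n31845 = n29811 := d22_1 D31845 (iv D29811) (iv F138832)
theorem F148163 : act 3 n31845 = n31845 := d28_1 D31845 (iv D31845) F138833
theorem F148164 : act 4 n31845 = n29808 := d33_1 D31845 (iv D29808) (iv F138834)
theorem F148165 : act 7 n31845 = n29806 := d42_1 D31845 (iv D29806) D29805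
def n31846 : Q := act 5 n29806
theorem D31846 : act 5 n29806 = n31846 := rfl
theorem F148166 : act 0 n31846 = n30787 := d4_1 D31846 (iv D30787) (iv F138836)
theorem F148167 : act 2 n31846 = n29812 := d19_1 D31846 (iv D29812) (iv F138837)
theorem F148168 : act 3 n31846 = n31846 := d25_1 D31846 (iv D31846) F138838
def n31847 : Q := act 8 n29807
theorem D31847 : act 8 n29807 = n31847 := rfl
theorem F148169 : act 0 n31847 = n30693 := d7_1 D31847 F142636 (iv F138841)
theorem F148170 : act 2 n31847 = n29813 := d22_1 D31847 (iv D29813) (iv F138842)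
theorem F148171 : act 3 n31847 = n29900 := d28_1 D31847 (iv D29900) (iv F138843)
theorem F148172 : act 6 n31847 = n29808 := d40_1 D31847 (iv D29808) D29807
theorem F148173 : act 7 n31847 = n30111 := d42_1 D31847 (iv D30111) (iv F138845)
def n31848 : Q := act 9 n29808
theorem D31848 : act 9 n29808 = n31848 := rfl
theorem F148174 : act 0 n31848 = n30788 := d8_1 D31848 (iv D30788) (iv F138847)
theorem F148175 : act 2 n31848 = n29814 := d23_1 D31848 (iv D29814) (iv F138848)
theorem F148176 : act 3 n31848 = n29901 := d29_1 D31848 (iv D29901) (iv F138849)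
theorem F148177 : act 7 n31848 = n29809 := d43_1 D31848 (iv D29809) (iv F138850)
theorem F148178 : act 8 n31848 = n30000 := d44_1 D31848 (iv D30000) (iv D24374) (iv F108224) D29808
def n31849 : Q := act 5 n29810
theorem D31849 : act 5 n29810 = n31849 := rfl
theorem F148179 : act 0 n31849 = n30268 := d4_1 D31849 F140999 (iv F138856)
theorem F148180 : act 1 n31849 = n29993 := d12_1 D31849 F139785 (iv F138857)
theorem F148181 : act 3 n31849 = n29816 := d25_1 D31849 (iv D29816) (iv F138858)
theorem F148182 : act 7 n31849 = n29966 := d36_2 (iv F138860) D31849 F139646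
theorem F148183 : act 9 n31849 = n29965 := d38_2 (iv F138861) D31849 F139641
def n31850 : Q := act 5 n29811
theorem D31850 : act 5 n29811 = n31850 := rfl
theorem F148184 : act 0 n31850 = n30789 := d4_1 D31850 (iv D30789) (iv F138862)
theorem F148185 : act 3 n31850 = n29817 := d25_1 D31850 (iv D29817) (iv F138863)
theorem F148186 : act 7 n31850 = n29812 := d36_2 (iv F138865) D31850 (iv D29812)
def n31851 : Q := act 6 n29812
theorem D31851 : act 6 n29812 = n31851 := rfl
theorem F148187 : act 0 n31851 = n30790 := d5_1 D31851 (iv D30790) (iv F138866)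
theorem F148188 : act 3 n31851 = n29818 := d26_1 D31851 (iv D29818) (iv F138867)
theorem F148189 : act 5 n31851 = n30112 := d35_1 D31851 (iv D30112) (iv D24668) (iv F108236) D29812
def n31852 : Q := act 5 n29813
theorem D31852 : act 5 n29813 = n31852 := rfl
theorem F148190 : act 0 n31852 = n30769 := d4_1 D31852 F142853 (iv F138868)
theorem F148191 : act 3 n31852 = n29815 := d25_1 D31852 (iv D29815) (iv F138869)
theorem F148192 : act 7 n31852 = n30113 := d36_2 (iv F138871) D31852 (iv D30113)
def n31853 : Q := act 4 n29815
theorem D31853 : act 4 n29815 = n31853 := rfl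
theorem F148193 : act 0 n31853 = n30791 := d3_1 D31853 (iv D30791) (iv F138876)
theorem F148194 : act 2 n31853 = n29904 := d18_1 D31853 (iv D29904) (iv F138877)
theorem F148195 : act 5 n31853 = n29820 := d30_2 D29815 D31853 (iv D29820) (iv D24097) (iv F108250)
theorem F148196 : act 7 n31853 = n30114 := d32_2 (iv F138878) D31853 (iv D30114)
def n31854 : Q := act 8 n29816
theorem D31854 : act 8 n29816 = n31854 := rfl
theorem F148197 : act 0 n31854 = n30318 := d7_1 D31854 (iv D30318) (iv F138879)
theorem F148198 : act 1 n31854 = n29985 := d15_1 D31854 F139742 (iv F138880)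
theorem F148199 : act 2 n31854 = n31854 := d22_1 D31854 (iv D31854) F138881
theorem F148200 : act 4 n31854 = n31854 := d33_1 D31854 (iv D31854) F138882
theorem F148201 : act 7 n31854 = n29961 := d42_1 D31854 F139623 (iv F138883)
theorem F148202 : act 9 n31854 = n29960 := d44_2 (iv F138884) D31854 (iv D29960) F109217 D24294
def n31855 : Q := act 6 n29817
theorem D31855 : act 6 n29817 = n31855 := rfl
theorem F148203 : act 0 n31855 = n30793 := d5_1 D31855 (iv D30793) (iv F138885)
theorem F148204 : act 2 n31855 = n31855 := d20_1 D31855 (iv D31855) F138886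
def n31856 : Q := act 7 n29818
theorem D31856 : act 7 n29818 = n31856 := rfl
theorem F148205 : act 0 n31856 = n30794 := d6_1 D31856 (iv D30794) (iv F138888)
theorem F148206 : act 2 n31856 = n31856 := d21_1 D31856 (iv D31856) F138889
theorem F148207 : act 5 n31856 = n30115 := d36_1 D31856 (iv D30115) (iv F138890)
def n31857 : Q := act 9 n29818
theorem D31857 : act 9 n29818 = n31857 := rfl
theorem F148208 : act 0 n31857 = n29842 := d8_1 D31857 F139016 (iv F138888)
theorem F148209 : act 1 n31857 = n30105 := d16_1 D31857 (iv F147746) F147743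
theorem F148210 : act 2 n31857 = n31857 := d23_1 D31857 (iv D31857) F138889
theorem F148211 : act 5 n31857 = n29841 := d38_1 D31857 F139012 (iv F138890)
theorem F148212 : act 6 n31857 = n29819 := d41_1 D31857 (iv D29819) D29818
theorem F148213 : act 8 n30182 = n31857 := d37_0 F148211 F139011 F133789 (iv F113392) D30182
def n31858 : Q := act 8 n29819
theorem D31858 : act 8 n29819 = n31858 := rfl
theorem F148214 : act 0 n31858 = n29882 := d7_1 D31858 (iv D29882) (iv F138891)
theorem F148215 : act 1 n31858 = n30107 := d15_1 D31858 F140379 (iv F138892)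
theorem F148216 : act 2 n31858 = n31858 := d22_1 D31858 (iv D31858) F138893
theorem F148217 : act 5 n31858 = n29897 := d37_1 D31858 (iv D29897) (iv D24177) (iv F133653) (iv F138894)
theorem F148218 : act 6 n31858 = n30182 := d40_1 D31858 F148213 F148212
def n31859 : Q := act 3 n29820
theorem D31859 : act 3 n29820 = n31859 := rfl
theorem F148219 : act 0 n31859 = n30795 := d2_1 D31859 (iv D30795) (iv F138895)
theorem F148220 : act 7 n31859 = n30116 := d27_2 (iv F138897) D31859 (iv D30116)
theorem F148221 : act 8 n31859 = n31859 := d28_2 F138898 D31859 (iv D31859)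
def n31860 : Q := act 5 n29822
theorem D31860 : act 5 n29822 = n31860 := rfl
theorem F148222 : act 0 n31860 = n30796 := d4_1 D31860 (iv D30796) (iv F138906)
theorem F148223 : act 2 n31860 = n29823 := d19_1 D31860 (iv D29823) (iv F138907)
theorem F148224 : act 6 n31860 = n29856 := d35_2 D29822 D31860 (iv D29856) (iv D24126) (iv F108295)
theorem F148225 : act 9 n31860 = n30107 := d38_2 (iv F138910) D31860 (iv D30107)
def n31861 : Q := act 7 n29823
theorem D31861 : act 7 n29823 = n31861 := rfl
theorem F148226 : act 0 n31861 = n30797 := d6_1 D31861 (iv D30797) (iv F138911)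
theorem F148227 : act 1 n31861 = n31861 := d14_1 D31861 (iv D31861) F138912
theorem F148228 : act 3 n31861 = n29825 := d27_1 D31861 (iv D29825) (iv F138913)
theorem F148229 : act 5 n31861 = n29824 := d36_1 D31861 (iv D29824) D29823
theorem F148230 : act 9 n31861 = n29896 := d43_2 (iv F138915) D31861 F139250
def n31862 : Q := act 6 n29825
theorem D31862 : act 6 n29825 = n31862 := rfl
theorem F148231 : act 0 n31862 = n30798 := d5_1 D31862 (iv D30798) (iv F138923)
theorem F148232 : act 1 n31862 = n31862 := d13_1 D31862 (iv D31862) F138924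
theorem F148233 : act 4 n31862 = n29831 := d31_1 D31862 (iv D29831) (iv F138925)
theorem F148234 : act 5 n31862 = n31117 := d35_1 D31862 (iv D31117) F122181 (iv F108313) (iv F138926)
theorem F148235 : act 7 n31862 = n29861 := d39_2 D29825 D31862 (iv D29861) (iv D24129) (iv F108308)
theorem F148236 : act 9 n31862 = n30180 := d41_2 (iv F138927) D31862 (iv D30180)
def n31863 : Q := act 8 n29825
theorem D31863 : act 8 n29825 = n31863 := rfl
theorem F148237 : act 0 n31863 = n30799 := d7_1 D31863 (iv D30799) (iv F138923)
theorem F148238 : act 1 n31863 = n31863 := d15_1 D31863 (iv D31863) F138924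
theorem F148239 : act 4 n31863 = n29832 := d33_1 D31863 (iv D29832) (iv F138925)
theorem F148240 : act 5 n31863 = n30192 := d37_1 D31863 F140726 F124221 (iv F108314) (iv F138926)
theorem F148241 : act 7 n31863 = n29826 := d42_1 D31863 (iv D29826) D29825
def n31864 : Q := act 7 n29827
theorem D31864 : act 7 n29827 = n31864 := rfl
theorem F148242 : act 0 n31864 = n30054 := d6_1 D31864 F140125 (iv F138933)
theorem F148243 : act 1 n31864 = n29829 := d14_1 D31864 (iv D29829) (iv F138934)
theorem F148244 : act 2 n31864 = n31864 := d21_1 D31864 (iv D31864) F138935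
theorem F148245 : act 4 n31864 = n31864 := d32_1 D31864 (iv D31864) F138936
theorem F148246 : act 6 n31864 = n29843 := d39_1 D31864 (iv D29843) (iv D24116) (iv F108319) D29827
theorem F148247 : act 8 n31864 = n30026 := d42_2 (iv F138937) D31864 (iv D30026)
theorem F148248 : act 9 n31864 = n30294 := d43_2 (iv F138938) D31864 (iv D30294)
def n31865 : Q := act 7 n29828
theorem D31865 : act 7 n29828 = n31865 := rfl
theorem F148249 : act 0 n31865 = n30676 := d6_1 D31865 F142576 (iv F138939)
theorem F148250 : act 2 n31865 = n29830 := d21_1 D31865 (iv D29830) (iv F138940)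
theorem F148251 : act 5 n31865 = n29829 := d36_1 D31865 (iv D29829) D29828
theorem F148252 : act 8 n31865 = n30158 := d42_2 (iv F138942) D31865 (iv D30158)
theorem F148253 : act 9 n31865 = n30296 := d43_2 (iv F138943) D31865 (iv D30296)
def n31866 : Q := act 6 n29830
theorem D31866 : act 6 n29830 = n31866 := rfl
theorem F148254 : act 0 n31866 = n30800 := d5_1 D31866 (iv D30800) (iv F138950)
theorem F148255 : act 1 n31866 = n31866 := d13_1 D31866 (iv D31866) F138951
theorem F148256 : act 3 n31866 = n29831 := d26_1 D31866 (iv D29831) (iv F138952)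
theorem F148257 : act 5 n31866 = n29849 := d35_1 D31866 (iv D29849) F108401 (iv F108336) (iv F138953)
theorem F148258 : act 7 n31866 = n29867 := d39_2 D29830 D31866 (iv D29867) (iv D24136) (iv F108330)
theorem F148259 : act 8 n31866 = n30181 := d40_2 (iv F138954) D31866 (iv D30181)
theorem F148260 : act 9 n31866 = n30299 := d41_2 (iv F138955) D31866 (iv D30299)
def n31867 : Q := act 8 n29831
theorem D31867 : act 8 n29831 = n31867 := rfl
theorem F148261 : act 0 n31867 = n30801 := d7_1 D31867 (iv D30801) (iv F138956)
theorem F148262 : act 1 n31867 = n31867 := d15_1 D31867 (iv D31867) F138957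
theorem F148263 : act 3 n31867 = n30181 := d28_1 D31867 (iv F148259) F148256
theorem F148264 : act 6 n31867 = n29832 := d40_1 D31867 (iv D29832) D29831
theorem F148265 : act 7 n31867 = n29868 := d42_1 D31867 (iv D29868) (iv F138959)
theorem F148266 : act 5 n30187 = n31867 := d35_5 F148264 F138964 F135404 (iv F113402) D30187
def n31868 : Q := act 4 n29833
theorem D31868 : act 4 n29833 = n31868 := rfl
theorem F148267 : act 0 n31868 = n30804 := d3_1 D31868 (iv D30804) (iv F138966)
theorem F148268 : act 1 n31868 = n30518 := d11_1 D31868 F141922 (iv F138967)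
theorem F148269 : act 2 n31868 = n29835 := d18_1 D31868 (iv D29835) (iv F138968)
theorem F148270 : act 5 n31868 = n31868 := d30_2 D29833 D31868 (iv D31868) (iv D29833) F108355
theorem F148271 : act 6 n31868 = n29870 := d31_2 (iv F138969) D31868 (iv D29870)
theorem F148272 : act 9 n31868 = n29844 := d34_2 (iv F138970) D31868 (iv D29844)
def n31869 : Q := act 7 n29833
theorem D31869 : act 7 n29833 = n31869 := rfl
theorem F148273 : act 0 n31869 = n30805 := d6_1 D31869 (iv D30805) (iv F138966)
theorem F148274 : act 1 n31869 = n30794 := d14_1 D31869 (iv D30794) (iv F138967)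
theorem F148275 : act 2 n31869 = n29836 := d21_1 D31869 (iv D29836) (iv F138968)
theorem F148276 : act 5 n31869 = n29834 := d36_1 D31869 (iv D29834) D29833
theorem F148277 : act 9 n31869 = n29845 := d43_2 (iv F138970) D31869 (iv D29845)
def n31870 : Q := act 8 n29833
theorem D31870 : act 8 n29833 = n31870 := rfl
theorem F148278 : act 0 n31870 = n30806 := d7_1 D31870 (iv D30806) (iv F138966)
theorem F148279 : act 1 n31870 = n30287 := d15_1 D31870 F141070 (iv F138967)
theorem F148280 : act 2 n31870 = n29837 := d22_1 D31870 (iv D29837) (iv F138968)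
theorem F148281 : act 5 n31870 = n31870 := d37_1 D31870 (iv D31870) (iv D29833) F108356 D29833
theorem F148282 : act 6 n31870 = n29872 := d40_1 D31870 (iv D29872) (iv F138969)
def n31871 : Q := act 7 n29835
theorem D31871 : act 7 n29835 = n31871 := rfl
theorem F148283 : act 0 n31871 = n30807 := d6_1 D31871 (iv D30807) (iv F138978)
theorem F148284 : act 1 n31871 = n31871 := d14_1 D31871 (iv D31871) F138979
theorem F148285 : act 4 n31871 = n29836 := d32_1 D31871 (iv D29836) D29835
theorem F148286 : act 5 n31871 = n31871 := d36_1 D31871 (iv D31871) F138980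
theorem F148287 : act 9 n31871 = n29847 := d43_2 (iv F138982) D31871 (iv D29847)
def n31872 : Q := act 8 n29835
theorem D31872 : act 8 n29835 = n31872 := rfl
theorem F148288 : act 0 n31872 = n30808 := d7_1 D31872 (iv D30808) (iv F138978)
theorem F148289 : act 1 n31872 = n31872 := d15_1 D31872 (iv D31872) F138979
theorem F148290 : act 3 n31872 = n31067 := d28_1 D31872 F146582 F146578
theorem F148291 : act 4 n31872 = n29837 := d33_1 D31872 (iv D29837) D29835
theorem F148292 : act 6 n31872 = n29874 := d40_1 D31872 (iv D29874) (iv F138981)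
theorem F148293 : act 5 n31004 = n31872 := d35_5 F148292 F139166 (iv D27286) (iv F121275) D31004
theorem F148294 : act 9 n31872 = n31012 := d38_2 (iv F143739) F148293 (iv D31012)
def n31873 : Q := act 6 n29836
theorem D31873 : act 6 n29836 = n31873 := rfl
theorem F148295 : act 0 n31873 = n30809 := d5_1 D31873 (iv D30809) (iv F138983)
theorem F148296 : act 1 n31873 = n31873 := d13_1 D31873 (iv D31873) F138984
theorem F148297 : act 3 n31873 = n29838 := d26_1 D31873 (iv D29838) (iv F138985)
theorem F148298 : act 5 n31873 = n30299 := d35_1 D31873 (iv D30299) F113972 (iv F108367) (iv F138986)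
theorem F148299 : act 7 n31873 = n29875 := d39_2 D29836 D31873 (iv D29875) (iv D24146) (iv F108361)
theorem F148300 : act 9 n31873 = n29849 := d41_2 (iv F138987) D31873 (iv D29849)
def n31874 : Q := act 8 n29836
theorem D31874 : act 8 n29836 = n31874 := rfl
theorem F148301 : act 0 n31874 = n30810 := d7_1 D31874 (iv D30810) (iv F138983)
theorem F148302 : act 1 n31874 = n31874 := d15_1 D31874 (iv D31874) F138984
theorem F148303 : act 3 n31874 = n29839 := d28_1 D31874 (iv D29839) (iv F138985)
theorem F148304 : act 5 n31874 = n31874 := d37_1 D31874 (iv D31874) F138986 F108368 (iv F138986)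
theorem F148305 : act 7 n31874 = n29837 := d42_1 D31874 (iv D29837) D29836
def n31875 : Q := act 9 n29837
theorem D31875 : act 9 n29837 = n31875 := rfl
theorem F148306 : act 0 n31875 = n30811 := d8_1 D31875 (iv D30811) (iv F138988)
theorem F148307 : act 1 n31875 = n31875 := d16_1 D31875 (iv D31875) F138989
theorem F148308 : act 3 n31875 = n29840 := d29_1 D31875 (iv D29840) (iv F138990)
theorem F148309 : act 4 n31875 = n31012 := d34_1 D31875 (iv F148294) F148291
theorem F148310 : act 5 n31875 = n31875 := d38_1 D31875 (iv D31875) F138991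
theorem F148311 : act 6 n31875 = n29877 := d41_1 D31875 (iv D29877) (iv F138992)
theorem F148312 : act 8 n31875 = n29851 := d44_1 D31875 (iv D29851) (iv D24121) (iv F108362) D29837
def n31876 : Q := act 8 n29838
theorem D31876 : act 8 n29838 = n31876 := rfl
theorem F148313 : act 0 n31876 = n30812 := d7_1 D31876 (iv D30812) (iv F138993)
theorem F148314 : act 1 n31876 = n31876 := d15_1 D31876 (iv D31876) F138994
theorem F148315 : act 6 n31876 = n29839 := d40_1 D31876 (iv D29839) D29838
theorem F148316 : act 7 n31876 = n29878 := d42_1 D31876 (iv D29878) (iv F138996)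
def n31877 : Q := act 9 n29839
theorem D31877 : act 9 n29839 = n31877 := rfl
theorem F148317 : act 0 n31877 = n30813 := d8_1 D31877 (iv D30813) (iv F138998)
theorem F148318 : act 1 n31877 = n31877 := d16_1 D31877 (iv D31877) F138999
theorem F148319 : act 5 n31877 = n31877 := d38_1 D31877 (iv D31877) F139000
theorem F148320 : act 7 n31877 = n29840 := d43_1 D31877 (iv D29840) (iv F139001)
theorem F148321 : act 8 n31877 = n29853 := d44_1 D31877 (iv D29853) (iv D24123) (iv F108373) D29839
def n31878 : Q := act 7 n29841
theorem D31878 : act 7 n29841 = n31878 := rfl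
theorem F148322 : act 0 n31878 = n29843 := d6_1 D31878 (iv D29843) (iv F139007)
theorem F148323 : act 1 n31878 = n30095 := d14_1 D31878 F140324 (iv F139008)
theorem F148324 : act 2 n31878 = n31878 := d21_1 D31878 (iv D31878) F139009
theorem F148325 : act 4 n31878 = n31878 := d32_1 D31878 (iv D31878) F139010
theorem F148326 : act 6 n31878 = n30054 := d39_1 D31878 F140125 F110430 (iv F133658) D29841
theorem F148327 : act 8 n31878 = n30053 := d42_2 (iv F139011) D31878 F140120
theorem F148328 : act 9 n31878 = n30115 := d43_2 (iv F139012) D31878 (iv D30115)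
def n31879 : Q := act 4 n29842
theorem D31879 : act 4 n29842 = n31879 := rfl
theorem F148329 : act 1 n31879 = n29844 := d11_1 D31879 (iv D29844) (iv F139013)
theorem F148330 : act 2 n31879 = n31879 := d18_1 D31879 (iv D31879) F139014
theorem F148331 : act 5 n31879 = n31879 := d30_2 D29842 D31879 (iv D31879) (iv D29842) F108385
theorem F148332 : act 6 n31879 = n29880 := d31_2 (iv F139015) D31879 (iv D29880)
theorem F148333 : act 9 n31879 = n30518 := d34_2 (iv F139016) D31879 F141922
def n31880 : Q := act 7 n29842
theorem D31880 : act 7 n29842 = n31880 := rfl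
theorem F148334 : act 1 n31880 = n29845 := d14_1 D31880 (iv D29845) (iv F139013)
theorem F148335 : act 2 n31880 = n31880 := d21_1 D31880 (iv D31880) F139014
theorem F148336 : act 5 n31880 = n29843 := d36_1 D31880 (iv D29843) D29842
theorem F148337 : act 9 n31880 = n30794 := d43_2 (iv F139016) D31880 (iv D30794)
def n31881 : Q := act 8 n29842
theorem D31881 : act 8 n29842 = n31881 := rfl
theorem F148338 : act 0 n31881 = n30182 := d7_1 D31881 F148213 F148208
theorem F148339 : act 1 n31881 = n29846 := d15_1 D31881 (iv D29846) (iv F139013)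
theorem F148340 : act 2 n31881 = n31881 := d22_1 D31881 (iv D31881) F139014
theorem F148341 : act 5 n31881 = n30118 := d37_1 D31881 (iv D30118) (iv D24701) (iv F108386) D29842
theorem F148342 : act 6 n31881 = n29882 := d40_1 D31881 (iv D29882) (iv F139015)
def n31882 : Q := act 3 n29844
theorem D31882 : act 3 n29844 = n31882 := rfl
theorem F148343 : act 0 n31882 = n30816 := d2_1 D31882 (iv D30816) (iv F139022)
theorem F148344 : act 5 n31882 = n31882 := d25_2 F139024 D31882 (iv D31882)
theorem F148345 : act 6 n31882 = n29883 := d26_2 (iv F139025) D31882 (iv D29883)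
def n31883 : Q := act 7 n29844
theorem D31883 : act 7 n29844 = n31883 := rfl
theorem F148346 : act 0 n31883 = n30817 := d6_1 D31883 (iv D30817) (iv F139022)
theorem F148347 : act 2 n31883 = n29847 := d21_1 D31883 (iv D29847) (iv F139023)
theorem F148348 : act 4 n31883 = n29845 := d32_1 D31883 (iv D29845) D29844
theorem F148349 : act 5 n31883 = n31883 := d36_1 D31883 (iv D31883) F139024
def n31884 : Q := act 8 n29844
theorem D31884 : act 8 n29844 = n31884 := rfl
theorem F148350 : act 0 n31884 = n30818 := d7_1 D31884 (iv D30818) (iv F139022)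
theorem F148351 : act 2 n31884 = n29848 := d22_1 D31884 (iv D29848) (iv F139023)
theorem F148352 : act 4 n31884 = n29846 := d33_1 D31884 (iv D29846) D29844
theorem F148353 : act 6 n31884 = n29885 := d40_1 D31884 (iv D29885) (iv F139025)
def n31885 : Q := act 6 n29845
theorem D31885 : act 6 n29845 = n31885 := rfl
theorem F148354 : act 0 n31885 = n30819 := d5_1 D31885 (iv D30819) (iv F139026)
theorem F148355 : act 2 n31885 = n29849 := d20_1 D31885 (iv D29849) (iv F139027)
theorem F148356 : act 7 n31885 = n29886 := d39_2 D29845 D31885 (iv D29886) (iv D24155) (iv F108389)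
def n31886 : Q := act 8 n29845
theorem D31886 : act 8 n29845 = n31886 := rfl
theorem F148357 : act 0 n31886 = n30820 := d7_1 D31886 (iv D30820) (iv F139026)
theorem F148358 : act 2 n31886 = n29850 := d22_1 D31886 (iv D29850) (iv F139027)
theorem F148359 : act 5 n31886 = n30119 := d37_1 D31886 (iv D30119) F111162 (iv F108393) (iv F139028)
theorem F148360 : act 7 n31886 = n29846 := d42_1 D31886 (iv D29846) D29845
def n31887 : Q := act 9 n29846
theorem D31887 : act 9 n29846 = n31887 := rfl
theorem F148361 : act 0 n31887 = n30821 := d8_1 D31887 (iv D30821) (iv F139029)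
theorem F148362 : act 2 n31887 = n29851 := d23_1 D31887 (iv D29851) (iv F139030)
theorem F148363 : act 5 n31887 = n30120 := d38_1 D31887 (iv D30120) (iv F139031)
theorem F148364 : act 6 n31887 = n29888 := d41_1 D31887 (iv D29888) (iv F139032)
def n31888 : Q := act 6 n29847
theorem D31888 : act 6 n29847 = n31888 := rfl
theorem F148365 : act 0 n31888 = n30822 := d5_1 D31888 (iv D30822) (iv F139033)
theorem F148366 : act 1 n31888 = n31888 := d13_1 D31888 (iv D31888) F139034
theorem F148367 : act 4 n31888 = n29849 := d31_1 D31888 (iv D29849) (iv F139035)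
theorem F148368 : act 7 n31888 = n29889 := d39_2 D29847 D31888 (iv D29889) (iv D24157) (iv F108397)
def n31889 : Q := act 8 n29847
theorem D31889 : act 8 n29847 = n31889 := rfl
theorem F148369 : act 0 n31889 = n30823 := d7_1 D31889 (iv D30823) (iv F139033)
theorem F148370 : act 1 n31889 = n31889 := d15_1 D31889 (iv D31889) F139034
theorem F148371 : act 4 n31889 = n29850 := d33_1 D31889 (iv D29850) (iv F139035)
theorem F148372 : act 7 n31889 = n29848 := d42_1 D31889 (iv D29848) D29847
theorem F148373 : act 5 n30190 = n31889 := d30_0 F148371 F139048 F135391 D25195 D30190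
def n31890 : Q := act 5 n29848
theorem D31890 : act 5 n29848 = n31890 := rfl
theorem F148374 : act 0 n31890 = n30824 := d4_1 D31890 (iv D30824) (iv F139037)
theorem F148375 : act 1 n31890 = n31890 := d12_1 D31890 (iv D31890) F139038
theorem F148376 : act 3 n31890 = n31094 := d25_1 D31890 F146647 F146643
theorem F148377 : act 4 n31890 = n30121 := d30_1 D31890 (iv D30121) F111176 (iv F108405) (iv F139039)
theorem F148378 : act 6 n31890 = n31890 := d35_2 (iv F139040) D31890 (iv D31890) F139040 F108563
theorem F148379 : act 7 n31890 = n30190 := d36_2 F148372 D31890 F148373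
theorem F148380 : act 8 n31890 = n31890 := d37_2 D29848 D31890 (iv D31890) (iv D29848) F108396
theorem F148381 : act 9 n31031 = n31890 := d34_0 F148377 F140437 (iv F143890)
def n31891 : Q := act 9 n29848
theorem D31891 : act 9 n29848 = n31891 := rfl
theorem F148382 : act 0 n31891 = n30825 := d8_1 D31891 (iv D30825) (iv F139037)
theorem F148383 : act 1 n31891 = n31891 := d16_1 D31891 (iv D31891) F139038
theorem F148384 : act 3 n31891 = n31077 := d29_1 D31891 (iv F146646) F146643
theorem F148385 : act 4 n31891 = n29851 := d34_1 D31891 (iv D29851) (iv F139039)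
theorem F148386 : act 5 n31891 = n31031 := d38_1 D31891 F148381 (iv D31890)
theorem F148387 : act 6 n31891 = n29891 := d41_1 D31891 (iv D29891) (iv F139040)
theorem F148388 : act 8 n31891 = n31012 := d44_1 D31891 (iv F148294) (iv D31872) F138982 D29848
def n31892 : Q := act 8 n29849
theorem D31892 : act 8 n29849 = n31892 := rfl
theorem F148389 : act 0 n31892 = n30826 := d7_1 D31892 (iv D30826) (iv F139041)
theorem F148390 : act 1 n31892 = n31892 := d15_1 D31892 (iv D31892) F139042
theorem F148391 : act 3 n31892 = n29852 := d28_1 D31892 (iv D29852) (iv F139043)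
theorem F148392 : act 5 n31892 = n30188 := d37_1 D31892 (iv D30188) (iv F140689) (iv F148259) F148257
theorem F148393 : act 6 n31892 = n29850 := d40_1 D31892 (iv D29850) D29849
theorem F148394 : act 7 n31892 = n29892 := d42_1 D31892 (iv D29892) (iv F139044)
def n31893 : Q := act 9 n29850
theorem D31893 : act 9 n29850 = n31893 := rfl
theorem F148395 : act 0 n31893 = n30827 := d8_1 D31893 (iv D30827) (iv F139045)
theorem F148396 : act 1 n31893 = n31893 := d16_1 D31893 (iv D31893) F139046
theorem F148397 : act 3 n31893 = n29853 := d29_1 D31893 (iv D29853) (iv F139047)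
theorem F148398 : act 5 n31893 = n30122 := d38_1 D31893 (iv D30122) (iv F139048)
theorem F148399 : act 7 n31893 = n29851 := d43_1 D31893 (iv D29851) (iv F139049)
def n31894 : Q := act 5 n29852
theorem D31894 : act 5 n29852 = n31894 := rfl
theorem F148400 : act 0 n31894 = n30828 := d4_1 D31894 (iv D30828) (iv F139055)
theorem F148401 : act 1 n31894 = n31894 := d12_1 D31894 (iv D31894) F139056
theorem F148402 : act 3 n31894 = n30188 := d25_1 D31894 (iv F148392) F148391
theorem F148403 : act 6 n31894 = n30123 := d35_2 (iv F139057) D31894 (iv D30123) F111195 (iv F108412)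
theorem F148404 : act 7 n31894 = n29894 := d36_2 (iv F139058) D31894 (iv D29894)
theorem F148405 : act 8 n31894 = n30187 := d37_2 D29852 D31894 F148266 (iv D31867) F138958
def n31895 : Q := act 9 n29852
theorem D31895 : act 9 n29852 = n31895 := rfl
theorem F148406 : act 0 n31895 = n30829 := d8_1 D31895 (iv D30829) (iv F139055)
theorem F148407 : act 1 n31895 = n31895 := d16_1 D31895 (iv D31895) F139056
theorem F148408 : act 6 n31895 = n29853 := d41_1 D31895 (iv D29853) (iv F139057)
theorem F148409 : act 7 n31895 = n29895 := d43_1 D31895 (iv D29895) (iv F139058)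
def n31896 : Q := act 6 n29854
theorem D31896 : act 6 n29854 = n31896 := rfl
theorem F148410 : act 0 n31896 = n29855 := d5_1 D31896 (iv D29855) D29854
theorem F148411 : act 1 n31896 = n30120 := d13_1 D31896 F140429 (iv F139063)
theorem F148412 : act 2 n31896 = n31896 := d20_1 D31896 (iv D31896) F139064
theorem F148413 : act 4 n31896 = n29906 := d31_1 D31896 (iv D29906) (iv F139065)
theorem F148414 : act 8 n31896 = n31896 := d40_2 F139067 D31896 (iv D31896)
theorem F148415 : act 9 n31896 = n30118 := d41_2 (iv F139068) D31896 F140420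
def n31897 : Q := act 5 n29855
theorem D31897 : act 5 n29855 = n31897 := rfl
theorem F148416 : act 1 n31897 = n29856 := d12_1 D31897 (iv D29856) (iv F139069)
theorem F148417 : act 2 n31897 = n31897 := d19_1 D31897 (iv D31897) F139070
theorem F148418 : act 9 n31897 = n30182 := d38_2 (iv F139073) D31897 (iv D30182)
def n31898 : Q := act 7 n29855
theorem D31898 : act 7 n29855 = n31898 := rfl
theorem F148419 : act 1 n31898 = n29857 := d14_1 D31898 (iv D29857) (iv F139069)
theorem F148420 : act 2 n31898 = n31898 := d21_1 D31898 (iv D31898) F139070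
theorem F148421 : act 4 n31898 = n29908 := d32_1 D31898 (iv D29908) (iv F139071)
theorem F148422 : act 8 n31898 = n31898 := d42_2 F139072 D31898 (iv D31898)
theorem F148423 : act 9 n31898 = n30183 := d43_2 (iv F139073) D31898 (iv D30183)
def n31899 : Q := act 4 n29856
theorem D31899 : act 4 n29856 = n31899 := rfl
theorem F148424 : act 0 n31899 = n30831 := d3_1 D31899 (iv D30831) (iv F139074)
theorem F148425 : act 2 n31899 = n29858 := d18_1 D31899 (iv D29858) (iv F139075)
theorem F148426 : act 5 n31899 = n29909 := d30_2 D29856 D31899 (iv D29909) (iv D24192) (iv F108424)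
theorem F148427 : act 9 n31899 = n30184 := d34_2 (iv F139076) D31899 (iv D30184)
theorem F148428 : act 8 n30952 = n31899 := d37_0 F148426 (iv F139317) (iv D27117) (iv F120816) D30952
def n31900 : Q := act 7 n29856
theorem D31900 : act 7 n29856 = n31900 := rfl
theorem F148429 : act 0 n31900 = n30832 := d6_1 D31900 (iv D30832) (iv F139074)
theorem F148430 : act 2 n31900 = n29859 := d21_1 D31900 (iv D29859) (iv F139075)
theorem F148431 : act 5 n31900 = n29857 := d36_1 D31900 (iv D29857) D29856
theorem F148432 : act 9 n31900 = n30185 := d43_2 (iv F139076) D31900 (iv D30185)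
def n31901 : Q := act 8 n29856
theorem D31901 : act 8 n29856 = n31901 := rfl
theorem F148433 : act 0 n31901 = n30833 := d7_1 D31901 (iv D30833) (iv F139074)
theorem F148434 : act 2 n31901 = n29860 := d22_1 D31901 (iv D29860) (iv F139075)
theorem F148435 : act 4 n31901 = n30952 := d33_1 D31901 F148428 (iv D31899)
theorem F148436 : act 5 n31901 = n31901 := d37_1 D31901 (iv D31901) (iv D29856) F108425 D29856
def n31902 : Q := act 7 n29858
theorem D31902 : act 7 n29858 = n31902 := rfl
theorem F148437 : act 0 n31902 = n30834 := d6_1 D31902 (iv D30834) (iv F139082)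
theorem F148438 : act 1 n31902 = n31902 := d14_1 D31902 (iv D31902) F139083
theorem F148439 : act 3 n31902 = n29866 := d27_1 D31902 (iv D29866) (iv F139084)
theorem F148440 : act 4 n31902 = n29859 := d32_1 D31902 (iv D29859) D29858
theorem F148441 : act 5 n31902 = n29912 := d36_1 D31902 (iv D29912) (iv F139085)
theorem F148442 : act 8 n31902 = n30954 := d42_2 F139087 D31902 (iv D30954)
theorem F148443 : act 9 n31902 = n30186 := d43_2 (iv F139086) D31902 (iv D30186)
def n31903 : Q := act 6 n29859
theorem D31903 : act 6 n29859 = n31903 := rfl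
theorem F148444 : act 0 n31903 = n30835 := d5_1 D31903 (iv D30835) (iv F139088)
theorem F148445 : act 1 n31903 = n31903 := d13_1 D31903 (iv D31903) F139089
theorem F148446 : act 3 n31903 = n29861 := d26_1 D31903 (iv D29861) (iv F139090)
theorem F148447 : act 9 n31903 = n30187 := d41_2 (iv F139092) D31903 (iv D30187)
def n31904 : Q := act 8 n29859
theorem D31904 : act 8 n29859 = n31904 := rfl
theorem F148448 : act 0 n31904 = n30836 := d7_1 D31904 (iv D30836) (iv F139088)
theorem F148449 : act 1 n31904 = n31904 := d15_1 D31904 (iv D31904) F139089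
theorem F148450 : act 3 n31904 = n29862 := d28_1 D31904 (iv D29862) (iv F139090)
theorem F148451 : act 4 n31904 = n30954 := d33_1 D31904 (iv F148442) F148440
theorem F148452 : act 5 n31904 = n31904 := d37_1 D31904 (iv D31904) F139091 F108435 (iv F139091)
theorem F148453 : act 7 n31904 = n29860 := d42_1 D31904 (iv D29860) D29859
def n31905 : Q := act 8 n29861
theorem D31905 : act 8 n29861 = n31905 := rfl
theorem F148454 : act 0 n31905 = n30837 := d7_1 D31905 (iv D30837) (iv F139098)
theorem F148455 : act 1 n31905 = n31905 := d15_1 D31905 (iv D31905) F139099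
theorem F148456 : act 4 n31905 = n29868 := d33_1 D31905 (iv D29868) (iv F139100)
theorem F148457 : act 6 n31905 = n29862 := d40_1 D31905 (iv D29862) D29861
def n31906 : Q := act 9 n29862
theorem D31906 : act 9 n29862 = n31906 := rfl
theorem F148458 : act 0 n31906 = n30838 := d8_1 D31906 (iv D30838) (iv F139102)
theorem F148459 : act 1 n31906 = n31906 := d16_1 D31906 (iv D31906) F139103
theorem F148460 : act 4 n31906 = n29869 := d34_1 D31906 (iv D29869) (iv F139104)
theorem F148461 : act 5 n31906 = n31906 := d38_1 D31906 (iv D31906) F139105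
theorem F148462 : act 7 n31906 = n29863 := d43_1 D31906 (iv D29863) (iv F139106)
theorem F148463 : act 8 n31906 = n30189 := d44_1 D31906 (iv D30189) (iv D25173) (iv F108441) D29862
def n31907 : Q := act 3 n29864
theorem D31907 : act 3 n29864 = n31907 := rfl
theorem F148464 : act 0 n31907 = n30409 := d2_1 D31907 F141556 (iv F139112)
theorem F148465 : act 5 n31907 = n29916 := d25_2 (iv F139114) D31907 (iv D29916)
theorem F148466 : act 8 n31907 = n30374 := d28_2 (iv F139115) D31907 F141401
theorem F148467 : act 9 n31907 = n30306 := d29_2 (iv F139116) D31907 (iv D30306)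
def n31908 : Q := act 7 n29864
theorem D31908 : act 7 n29864 = n31908 := rfl
theorem F148468 : act 0 n31908 = n30411 := d6_1 D31908 F141565 (iv F139112)
theorem F148469 : act 2 n31908 = n29866 := d21_1 D31908 (iv D29866) (iv F139113)
theorem F148470 : act 4 n31908 = n29865 := d32_1 D31908 (iv D29865) D29864
theorem F148471 : act 5 n31908 = n29917 := d36_1 D31908 (iv D29917) (iv F139114)
theorem F148472 : act 8 n31908 = n30376 := d42_2 (iv F139115) D31908 (iv D30376)
theorem F148473 : act 9 n31908 = n30307 := d43_2 (iv F139116) D31908 (iv D30307)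
def n31909 : Q := act 6 n29865
theorem D31909 : act 6 n29865 = n31909 := rfl
theorem F148474 : act 0 n31909 = n30700 := d5_1 D31909 F142657 (iv F139117)
theorem F148475 : act 2 n31909 = n29867 := d20_1 D31909 (iv D29867) (iv F139118)
theorem F148476 : act 5 n31909 = n29886 := d35_1 D31909 (iv D29886) F108552 (iv F108463) (iv F139119)
theorem F148477 : act 8 n31909 = n30669 := d40_2 (iv F139120) D31909 (iv D30669)
theorem F148478 : act 9 n31909 = n30309 := d41_2 (iv F139121) D31909 (iv D30309)
def n31910 : Q := act 6 n29866
theorem D31910 : act 6 n29866 = n31910 := rfl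
theorem F148479 : act 0 n31910 = n30839 := d5_1 D31910 (iv D30839) (iv F139122)
theorem F148480 : act 1 n31910 = n31910 := d13_1 D31910 (iv D31910) F139123
theorem F148481 : act 4 n31910 = n29867 := d31_1 D31910 (iv D29867) (iv F139124)
theorem F148482 : act 8 n31910 = n30955 := d40_2 (iv F139126) D31910 (iv D30955)
theorem F148483 : act 9 n31910 = n30312 := d41_2 (iv F139127) D31910 (iv D30312)
def n31911 : Q := act 5 n29868
theorem D31911 : act 5 n29868 = n31911 := rfl
theorem F148484 : act 0 n31911 = n30840 := d4_1 D31911 (iv D30840) (iv F139134)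
theorem F148485 : act 1 n31911 = n31911 := d12_1 D31911 (iv D31911) F139135
theorem F148486 : act 3 n31911 = n30180 := d25_1 D31911 F140685 (iv F139136)
theorem F148487 : act 6 n31911 = n29896 := d35_2 (iv F139137) D31911 (iv D29896) F108638 (iv F108485)
theorem F148488 : act 7 n31911 = n30187 := d36_2 F148265 D31911 F148266
theorem F148489 : act 8 n31911 = n29894 := d37_2 D29868 D31911 (iv D29894) (iv D24162) (iv F108481)
def n31912 : Q := act 9 n29868
theorem D31912 : act 9 n29868 = n31912 := rfl
theorem F148490 : act 0 n31912 = n30841 := d8_1 D31912 (iv D30841) (iv F139134)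
theorem F148491 : act 1 n31912 = n31912 := d16_1 D31912 (iv D31912) F139135
theorem F148492 : act 3 n31912 = n31117 := d29_1 D31912 F144284 (iv F139136)
theorem F148493 : act 6 n31912 = n29869 := d41_1 D31912 (iv D29869) (iv F139137)
theorem F148494 : act 8 n31912 = n30317 := d44_1 D31912 (iv D30317) (iv D25337) (iv F108482) D29868
def n31913 : Q := act 3 n29870
theorem D31913 : act 3 n29870 = n31913 := rfl
theorem F148495 : act 0 n31913 = n30842 := d2_1 D31913 (iv D30842) (iv F139144)
theorem F148496 : act 1 n31913 = n30510 := d10_1 D31913 F141896 (iv F139145)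
theorem F148497 : act 5 n31913 = n29920 := d25_2 (iv F139147) D31913 (iv D29920)
theorem F148498 : act 9 n31913 = n29883 := d29_2 (iv F139148) D31913 (iv D29883)
def n31914 : Q := act 7 n29870
theorem D31914 : act 7 n29870 = n31914 := rfl
theorem F148499 : act 0 n31914 = n30843 := d6_1 D31914 (iv D30843) (iv F139144)
theorem F148500 : act 1 n31914 = n30517 := d14_1 D31914 F141920 (iv F139145)
theorem F148501 : act 2 n31914 = n29873 := d21_1 D31914 (iv D29873) (iv F139146)
theorem F148502 : act 4 n31914 = n29871 := d32_1 D31914 (iv D29871) D29870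
theorem F148503 : act 5 n31914 = n29921 := d36_1 D31914 (iv D29921) (iv F139147)
theorem F148504 : act 9 n31914 = n29884 := d43_2 (iv F139148) D31914 (iv D29884)
def n31915 : Q := act 8 n29870
theorem D31915 : act 8 n29870 = n31915 := rfl
theorem F148505 : act 0 n31915 = n30568 := d7_1 D31915 F142152 (iv F139144)
theorem F148506 : act 1 n31915 = n30175 := d15_1 D31915 F140665 (iv F139145)
theorem F148507 : act 2 n31915 = n29874 := d22_1 D31915 (iv D29874) (iv F139146)
theorem F148508 : act 4 n31915 = n29872 := d33_1 D31915 (iv D29872) D29870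
theorem F148509 : act 5 n31915 = n30148 := d37_1 D31915 (iv D30148) F113177 (iv F134811) (iv F139147)
def n31916 : Q := act 6 n29871
theorem D31916 : act 6 n29871 = n31916 := rfl
theorem F148510 : act 0 n31916 = n30844 := d5_1 D31916 (iv D30844) (iv F139149)
theorem F148511 : act 1 n31916 = n30793 := d13_1 D31916 (iv D30793) (iv F139150)
theorem F148512 : act 2 n31916 = n29875 := d20_1 D31916 (iv D29875) (iv F139151)
theorem F148513 : act 5 n31916 = n30309 := d35_1 D31916 (iv D30309) F113998 (iv F108508) (iv F139152)
theorem F148514 : act 9 n31916 = n29886 := d41_2 (iv F139153) D31916 (iv D29886)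
def n31917 : Q := act 8 n29871
theorem D31917 : act 8 n29871 = n31917 := rfl
theorem F148515 : act 0 n31917 = n30845 := d7_1 D31917 (iv D30845) (iv F139149)
theorem F148516 : act 1 n31917 = n30285 := d15_1 D31917 F141063 (iv F139150)
theorem F148517 : act 2 n31917 = n29876 := d22_1 D31917 (iv D29876) (iv F139151)
theorem F148518 : act 5 n31917 = n30002 := d37_1 D31917 (iv D30002) F109715 (iv F108509) (iv F139152)
theorem F148519 : act 7 n31917 = n29872 := d42_1 D31917 (iv D29872) D29871
def n31918 : Q := act 9 n29872
theorem D31918 : act 9 n29872 = n31918 := rfl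
theorem F148520 : act 0 n31918 = n30846 := d8_1 D31918 (iv D30846) (iv F139154)
theorem F148521 : act 1 n31918 = n30288 := d16_1 D31918 (iv D30288) (iv F139155)
theorem F148522 : act 2 n31918 = n29877 := d23_1 D31918 (iv D29877) (iv F139156)
theorem F148523 : act 5 n31918 = n30003 := d38_1 D31918 (iv D30003) (iv F139157)
theorem F148524 : act 8 n31918 = n29888 := d44_1 D31918 (iv D29888) (iv D24156) (iv F108504) D29872
def n31919 : Q := act 6 n29873
theorem D31919 : act 6 n29873 = n31919 := rfl
theorem F148525 : act 0 n31919 = n30847 := d5_1 D31919 (iv D30847) (iv F139158)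
theorem F148526 : act 1 n31919 = n31919 := d13_1 D31919 (iv D31919) F139159
theorem F148527 : act 4 n31919 = n29875 := d31_1 D31919 (iv D29875) (iv F139160)
theorem F148528 : act 9 n31919 = n29889 := d41_2 (iv F139162) D31919 (iv D29889)
def n31920 : Q := act 8 n29873
theorem D31920 : act 8 n29873 = n31920 := rfl
theorem F148529 : act 0 n31920 = n30848 := d7_1 D31920 (iv D30848) (iv F139158)
theorem F148530 : act 1 n31920 = n31920 := d15_1 D31920 (iv D31920) F139159
theorem F148531 : act 4 n31920 = n29876 := d33_1 D31920 (iv D29876) (iv F139160)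
theorem F148532 : act 5 n31920 = n31061 := d37_1 D31920 F144048 F139409 (iv D29924) (iv F139161)
theorem F148533 : act 7 n31920 = n29874 := d42_1 D31920 (iv D29874) D29873
def n31921 : Q := act 9 n29874
theorem D31921 : act 9 n29874 = n31921 := rfl
theorem F148534 : act 0 n31921 = n30849 := d8_1 D31921 (iv D30849) (iv F139163)
theorem F148535 : act 1 n31921 = n31921 := d16_1 D31921 (iv D31921) F139164
theorem F148536 : act 3 n31921 = n31043 := d29_1 D31921 F146840 F146836
theorem F148537 : act 4 n31921 = n29877 := d34_1 D31921 (iv D29877) (iv F139165)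
theorem F148538 : act 5 n31921 = n30988 := d38_1 D31921 F143639 (iv F139166)
theorem F148539 : act 6 n31921 = n31012 := d41_1 D31921 (iv F148294) F148292
theorem F148540 : act 8 n31921 = n29891 := d44_1 D31921 (iv D29891) (iv D24158) (iv F108514) D29874
def n31922 : Q := act 8 n29875
theorem D31922 : act 8 n29875 = n31922 := rfl
theorem F148541 : act 0 n31922 = n30850 := d7_1 D31922 (iv D30850) (iv F139167)
theorem F148542 : act 1 n31922 = n31922 := d15_1 D31922 (iv D31922) F139168
theorem F148543 : act 3 n31922 = n29878 := d28_1 D31922 (iv D29878) (iv F139169)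
theorem F148544 : act 6 n31922 = n29876 := d40_1 D31922 (iv D29876) D29875
def n31923 : Q := act 9 n29876
theorem D31923 : act 9 n29876 = n31923 := rfl
theorem F148545 : act 0 n31923 = n30851 := d8_1 D31923 (iv D30851) (iv F139172)
theorem F148546 : act 1 n31923 = n31923 := d16_1 D31923 (iv D31923) F139173
theorem F148547 : act 3 n31923 = n29879 := d29_1 D31923 (iv D29879) (iv F139174)
theorem F148548 : act 5 n31923 = n30008 := d38_1 D31923 (iv D30008) (iv F139175)
theorem F148549 : act 7 n31923 = n29877 := d43_1 D31923 (iv D29877) (iv F139176)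
theorem F148550 : act 8 n31923 = n29893 := d44_1 D31923 (iv D29893) (iv D24160) (iv F108519) D29876
def n31924 : Q := act 5 n29878
theorem D31924 : act 5 n29878 = n31924 := rfl
theorem F148551 : act 0 n31924 = n30852 := d4_1 D31924 (iv D30852) (iv F139182)
theorem F148552 : act 1 n31924 = n31924 := d12_1 D31924 (iv D31924) F139183
theorem F148553 : act 6 n31924 = n30009 := d35_2 (iv F139184) D31924 (iv D30009) F109750 (iv F108530)
theorem F148554 : act 8 n31924 = n30316 := d37_2 D29878 D31924 (iv D30316) (iv D25337) (iv F108526)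
def n31925 : Q := act 9 n29878
theorem D31925 : act 9 n29878 = n31925 := rfl
theorem F148555 : act 0 n31925 = n30853 := d8_1 D31925 (iv D30853) (iv F139182)
theorem F148556 : act 1 n31925 = n31925 := d16_1 D31925 (iv D31925) F139183
theorem F148557 : act 6 n31925 = n29879 := d41_1 D31925 (iv D29879) (iv F139184)
theorem F148558 : act 8 n31925 = n29895 := d44_1 D31925 (iv D29895) (iv D24162) (iv F108527) D29878
def n31926 : Q := act 3 n29880
theorem D31926 : act 3 n29880 = n31926 := rfl
theorem F148559 : act 1 n31926 = n29883 := d10_1 D31926 (iv D29883) (iv F139190)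
theorem F148560 : act 5 n31926 = n29926 := d25_2 (iv F139192) D31926 (iv D29926)
theorem F148561 : act 9 n31926 = n30510 := d29_2 (iv F139193) D31926 F141896
def n31927 : Q := act 7 n29880
theorem D31927 : act 7 n29880 = n31927 := rfl
theorem F148562 : act 1 n31927 = n29884 := d14_1 D31927 (iv D29884) (iv F139190)
theorem F148563 : act 2 n31927 = n31927 := d21_1 D31927 (iv D31927) F139191
theorem F148564 : act 4 n31927 = n29881 := d32_1 D31927 (iv D29881) D29880
theorem F148565 : act 5 n31927 = n29927 := d36_1 D31927 (iv D29927) (iv F139192)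
theorem F148566 : act 9 n31927 = n30517 := d43_2 (iv F139193) D31927 F141920
def n31928 : Q := act 8 n29880
theorem D31928 : act 8 n29880 = n31928 := rfl
theorem F148567 : act 1 n31928 = n29885 := d15_1 D31928 (iv D29885) (iv F139190)
theorem F148568 : act 2 n31928 = n31928 := d22_1 D31928 (iv D31928) F139191
theorem F148569 : act 4 n31928 = n29882 := d33_1 D31928 (iv D29882) D29880
theorem F148570 : act 5 n31928 = n31928 := d37_1 D31928 (iv D31928) F139192 F108892 (iv F139192)
def n31929 : Q := act 6 n29881
theorem D31929 : act 6 n29881 = n31929 := rfl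
theorem F148571 : act 1 n31929 = n29886 := d13_1 D31929 (iv D29886) (iv F139194)
theorem F148572 : act 2 n31929 = n31929 := d20_1 D31929 (iv D31929) F139195
theorem F148573 : act 9 n31929 = n30793 := d41_2 (iv F139197) D31929 (iv D30793)
def n31930 : Q := act 8 n29881
theorem D31930 : act 8 n29881 = n31930 := rfl
theorem F148574 : act 1 n31930 = n29887 := d15_1 D31930 (iv D29887) (iv F139194)
theorem F148575 : act 2 n31930 = n31930 := d22_1 D31930 (iv D31930) F139195
theorem F148576 : act 5 n31930 = n29898 := d37_1 D31930 (iv D29898) F108659 (iv F108546) (iv F139196)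
theorem F148577 : act 7 n31930 = n29882 := d42_1 D31930 (iv D29882) D29881
def n31931 : Q := act 9 n29882
theorem D31931 : act 9 n29882 = n31931 := rfl
theorem F148578 : act 1 n31931 = n29888 := d16_1 D31931 (iv D29888) (iv F139198)
theorem F148579 : act 2 n31931 = n31931 := d23_1 D31931 (iv D31931) F139199
theorem F148580 : act 5 n31931 = n29899 := d38_1 D31931 (iv D29899) (iv F139200)
theorem F148581 : act 8 n31931 = n30288 := d44_1 D31931 (iv D30288) F113934 (iv F135017) D29882
def n31932 : Q := act 7 n29883
theorem D31932 : act 7 n29883 = n31932 := rfl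
theorem F148582 : act 0 n31932 = n30856 := d6_1 D31932 (iv D30856) (iv F139201)
theorem F148583 : act 3 n31932 = n29884 := d27_1 D31932 (iv D29884) D29883
theorem F148584 : act 5 n31932 = n29929 := d36_1 D31932 (iv D29929) (iv F139202)
def n31933 : Q := act 8 n29883
theorem D31933 : act 8 n29883 = n31933 := rfl
theorem F148585 : act 0 n31933 = n30857 := d7_1 D31933 (iv D30857) (iv F139201)
theorem F148586 : act 3 n31933 = n29885 := d28_1 D31933 (iv D29885) D29883
theorem F148587 : act 5 n31933 = n31933 := d37_1 D31933 (iv D31933) F139202 F108899 (iv F139202)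
def n31934 : Q := act 6 n29884
theorem D31934 : act 6 n29884 = n31934 := rfl
theorem F148588 : act 0 n31934 = n30858 := d5_1 D31934 (iv D30858) (iv F139203)
theorem F148589 : act 2 n31934 = n29889 := d20_1 D31934 (iv D29889) (iv F139204)
theorem F148590 : act 4 n31934 = n29886 := d31_1 D31934 (iv D29886) (iv F139205)
def n31935 : Q := act 8 n29884
theorem D31935 : act 8 n29884 = n31935 := rfl
theorem F148591 : act 0 n31935 = n30859 := d7_1 D31935 (iv D30859) (iv F139203)
theorem F148592 : act 2 n31935 = n29890 := d22_1 D31935 (iv D29890) (iv F139204)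
theorem F148593 : act 4 n31935 = n29887 := d33_1 D31935 (iv D29887) (iv F139205)
theorem F148594 : act 5 n31935 = n31935 := d37_1 D31935 (iv D31935) F139206 F108903 (iv F139206)
theorem F148595 : act 7 n31935 = n29885 := d42_1 D31935 (iv D29885) D29884
def n31936 : Q := act 9 n29885
theorem D31936 : act 9 n29885 = n31936 := rfl
theorem F148596 : act 0 n31936 = n30860 := d8_1 D31936 (iv D30860) (iv F139207)
theorem F148597 : act 2 n31936 = n29891 := d23_1 D31936 (iv D29891) (iv F139208)
theorem F148598 : act 4 n31936 = n29888 := d34_1 D31936 (iv D29888) (iv F139209)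
theorem F148599 : act 5 n31936 = n31936 := d38_1 D31936 (iv D31936) F139210
def n31937 : Q := act 8 n29886
theorem D31937 : act 8 n29886 = n31937 := rfl
theorem F148600 : act 0 n31937 = n30861 := d7_1 D31937 (iv D30861) (iv F139211)
theorem F148601 : act 2 n31937 = n29892 := d22_1 D31937 (iv D29892) (iv F139212)
theorem F148602 : act 6 n31937 = n29887 := d40_1 D31937 (iv D29887) D29886
def n31938 : Q := act 9 n29887
theorem D31938 : act 9 n29887 = n31938 := rfl
theorem F148603 : act 0 n31938 = n30862 := d8_1 D31938 (iv D30862) (iv F139213)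
theorem F148604 : act 2 n31938 = n29893 := d23_1 D31938 (iv D29893) (iv F139214)
theorem F148605 : act 5 n31938 = n29901 := d38_1 D31938 (iv D29901) (iv F139215)
theorem F148606 : act 7 n31938 = n29888 := d43_1 D31938 (iv D29888) (iv F139216)
def n31939 : Q := act 5 n29889
theorem D31939 : act 5 n29889 = n31939 := rfl
theorem F148607 : act 0 n31939 = n30863 := d4_1 D31939 (iv D30863) (iv F139220)
theorem F148608 : act 1 n31939 = n31939 := d12_1 D31939 (iv D31939) F139221
theorem F148609 : act 6 n31939 = n29931 := d35_2 D29889 D31939 (iv D29931) (iv D24228) (iv F108559)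
def n31940 : Q := act 8 n29889
theorem D31940 : act 8 n29889 = n31940 := rfl
theorem F148610 : act 0 n31940 = n30864 := d7_1 D31940 (iv D30864) (iv F139220)
theorem F148611 : act 1 n31940 = n31940 := d15_1 D31940 (iv D31940) F139221
theorem F148612 : act 4 n31940 = n29892 := d33_1 D31940 (iv D29892) (iv F139222)
theorem F148613 : act 6 n31940 = n29890 := d40_1 D31940 (iv D29890) D29889
def n31941 : Q := act 9 n29890
theorem D31941 : act 9 n29890 = n31941 := rfl
theorem F148614 : act 0 n31941 = n30865 := d8_1 D31941 (iv D30865) (iv F139223)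
theorem F148615 : act 1 n31941 = n31941 := d16_1 D31941 (iv D31941) F139224
theorem F148616 : act 4 n31941 = n29893 := d34_1 D31941 (iv D29893) (iv F139225)
theorem F148617 : act 5 n31941 = n31941 := d38_1 D31941 (iv D31941) F139226
theorem F148618 : act 7 n31941 = n29891 := d43_1 D31941 (iv D29891) (iv F139227)
def n31942 : Q := act 5 n29892
theorem D31942 : act 5 n29892 = n31942 := rfl
theorem F148619 : act 0 n31942 = n30866 := d4_1 D31942 (iv D30866) (iv F139232)
theorem F148620 : act 1 n31942 = n31942 := d12_1 D31942 (iv D31942) F139233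
theorem F148621 : act 3 n31942 = n29894 := d25_1 D31942 (iv D29894) (iv F139234)
theorem F148622 : act 6 n31942 = n29902 := d35_2 (iv F139235) D31942 (iv D29902) F108683 (iv F108570)
theorem F148623 : act 7 n31942 = n30188 := d36_2 F148394 D31942 (iv F148392)
theorem F148624 : act 8 n31942 = n30180 := d37_2 D29892 D31942 F140685 (iv F139132) F139131
theorem F148625 : act 4 n30301 = n31942 := d33_3 F148624 F140684 D30301
def n31943 : Q := act 9 n29892
theorem D31943 : act 9 n29892 = n31943 := rfl
theorem F148626 : act 0 n31943 = n30867 := d8_1 D31943 (iv D30867) (iv F139232)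
theorem F148627 : act 1 n31943 = n31943 := d16_1 D31943 (iv D31943) F139233
theorem F148628 : act 3 n31943 = n29895 := d29_1 D31943 (iv D29895) (iv F139234)
theorem F148629 : act 6 n31943 = n29893 := d41_1 D31943 (iv D29893) (iv F139235)
def n31944 : Q := act 4 n29894
theorem D31944 : act 4 n29894 = n31944 := rfl
theorem F148630 : act 0 n31944 = n30868 := d3_1 D31944 (iv D30868) (iv F139241)
theorem F148631 : act 1 n31944 = n31944 := d11_1 D31944 (iv D31944) F139242
theorem F148632 : act 6 n31944 = n29904 := d31_2 (iv F139243) D31944 (iv D29904)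
def n31945 : Q := act 9 n29894
theorem D31945 : act 9 n29894 = n31945 := rfl
theorem F148633 : act 0 n31945 = n30869 := d8_1 D31945 (iv D30869) (iv F139241)
theorem F148634 : act 1 n31945 = n31945 := d16_1 D31945 (iv D31945) F139242
theorem F148635 : act 5 n31945 = n29895 := d38_1 D31945 (iv D29895) D29894
theorem F148636 : act 6 n31945 = n29905 := d41_1 D31945 (iv D29905) (iv F139243)
def n31946 : Q := act 4 n29896
theorem D31946 : act 4 n29896 = n31946 := rfl
theorem F148637 : act 0 n31946 = n30870 := d3_1 D31946 (iv D30870) (iv F139247)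
theorem F148638 : act 1 n31946 = n31946 := d11_1 D31946 (iv D31946) F139248
theorem F148639 : act 3 n31946 = n30298 := d24_1 D31946 F141105 F113971 (iv F113353) (iv F139249)
theorem F148640 : act 5 n31946 = n31946 := d30_2 D29896 D31946 (iv D31946) (iv D29896) F108637
theorem F148641 : act 7 n31946 = n30128 := d32_2 (iv F139250) D31946 (iv D30128)
theorem F148642 : act 8 n31946 = n29904 := d33_2 (iv F139251) D31946 (iv D29904)
def n31947 : Q := act 9 n29898
theorem D31947 : act 9 n29898 = n31947 := rfl
theorem F148643 : act 1 n31947 = n29901 := d16_1 D31947 (iv D29901) (iv F139257)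
theorem F148644 : act 2 n31947 = n31947 := d23_1 D31947 (iv D31947) F139258
theorem F148645 : act 4 n31947 = n31947 := d34_1 D31947 (iv D31947) F139259
theorem F148646 : act 7 n31947 = n29899 := d43_1 D31947 (iv D29899) (iv F139260)
theorem F148647 : act 8 n31947 = n30019 := d44_1 D31947 (iv D30019) (iv D24445) (iv F108660) D29898
def n31948 : Q := act 5 n29900
theorem D31948 : act 5 n29900 = n31948 := rfl
theorem F148648 : act 0 n31948 = n30683 := d4_1 D31948 F142599 (iv F139266)
theorem F148649 : act 2 n31948 = n29902 := d19_1 D31948 (iv D29902) (iv F139267)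
theorem F148650 : act 7 n31948 = n30129 := d36_2 (iv F139270) D31948 (iv D30129)
theorem F148651 : act 8 n31948 = n30155 := d37_2 D29900 D31948 F140605 F113214 (iv F133670)
theorem F148652 : act 4 n30254 = n31948 := d33_3 F148651 F140604 D30254
def n31949 : Q := act 9 n29900
theorem D31949 : act 9 n29900 = n31949 := rfl
theorem F148653 : act 0 n31949 = n30701 := d8_1 D31949 (iv D30701) (iv F139266)
theorem F148654 : act 2 n31949 = n29903 := d23_1 D31949 (iv D29903) (iv F139267)
theorem F148655 : act 4 n31949 = n31949 := d34_1 D31949 (iv D31949) F139268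
theorem F148656 : act 6 n31949 = n29901 := d41_1 D31949 (iv D29901) (iv F139269)
theorem F148657 : act 7 n31949 = n30130 := d43_1 D31949 (iv D30130) (iv F139270)
theorem F148658 : act 8 n31949 = n30020 := d44_1 D31949 (iv D30020) (iv D24447) (iv F108669) D29900
def n31950 : Q := act 9 n29902
theorem D31950 : act 9 n29902 = n31950 := rfl
theorem F148659 : act 0 n31950 = n30871 := d8_1 D31950 (iv D30871) (iv F139276)
theorem F148660 : act 1 n31950 = n31950 := d16_1 D31950 (iv D31950) F139277
theorem F148661 : act 3 n31950 = n29905 := d29_1 D31950 (iv D29905) (iv F139278)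
theorem F148662 : act 4 n31950 = n30302 := d34_1 D31950 (iv D30302) F139281
theorem F148663 : act 5 n31950 = n29903 := d38_1 D31950 (iv D29903) D29902
theorem F148664 : act 7 n31950 = n30131 := d43_1 D31950 (iv D30131) (iv F139279)
def n31951 : Q := act 5 n29906
theorem D31951 : act 5 n29906 = n31951 := rfl
theorem F148665 : act 0 n31951 = n29907 := d4_1 D31951 (iv D29907) (iv F139297)
theorem F148666 : act 1 n31951 = n30872 := d12_1 D31951 (iv D30872) (iv F139298)
theorem F148667 : act 2 n31951 = n31951 := d19_1 D31951 (iv D31951) F139299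
theorem F148668 : act 3 n31951 = n30642 := d25_1 D31951 (iv D30642) (iv F139300)
theorem F148669 : act 6 n31951 = n31951 := d35_2 D29906 D31951 (iv D31951) (iv D29906) F108712
theorem F148670 : act 9 n31951 = n30195 := d38_2 (iv F139302) D31951 (iv D30195)
def n31952 : Q := act 7 n29906
theorem D31952 : act 7 n29906 = n31952 := rfl
theorem F148671 : act 0 n31952 = n29908 := d6_1 D31952 (iv D29908) (iv F139297)
theorem F148672 : act 1 n31952 = n30179 := d14_1 D31952 F140680 (iv F139298)
theorem F148673 : act 2 n31952 = n31952 := d21_1 D31952 (iv D31952) F139299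
theorem F148674 : act 3 n31952 = n30643 := d27_1 D31952 (iv D30643) (iv F139300)
theorem F148675 : act 6 n31952 = n30152 := d39_1 D31952 F140593 F137890 F137887 D29906
theorem F148676 : act 8 n31952 = n31952 := d42_2 F139301 D31952 (iv D31952)
theorem F148677 : act 9 n31952 = n30151 := d43_2 (iv F139302) D31952 F140589
def n31953 : Q := act 4 n29907
theorem D31953 : act 4 n29907 = n31953 := rfl
theorem F148678 : act 1 n31953 = n29909 := d11_1 D31953 (iv D29909) (iv F139303)
theorem F148679 : act 2 n31953 = n31953 := d18_1 D31953 (iv D31953) F139304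
theorem F148680 : act 6 n31953 = n31953 := d31_2 F139306 D31953 (iv D31953)
theorem F148681 : act 9 n31953 = n30196 := d34_2 (iv F139307) D31953 (iv D30196)
theorem F148682 : act 8 n30967 = n31953 := d15_0 F148678 (iv F139317) (iv F143551)
def n31954 : Q := act 7 n29907
theorem D31954 : act 7 n29907 = n31954 := rfl
theorem F148683 : act 1 n31954 = n29910 := d14_1 D31954 (iv D29910) (iv F139303)
theorem F148684 : act 2 n31954 = n31954 := d21_1 D31954 (iv D31954) F139304
theorem F148685 : act 3 n31954 = n30645 := d27_1 D31954 (iv D30645) (iv F139305)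
theorem F148686 : act 5 n31954 = n29908 := d36_1 D31954 (iv D29908) D29907
theorem F148687 : act 9 n31954 = n30197 := d43_2 (iv F139307) D31954 (iv D30197)
def n31955 : Q := act 8 n29907
theorem D31955 : act 8 n29907 = n31955 := rfl
theorem F148688 : act 1 n31955 = n29911 := d15_1 D31955 (iv D29911) (iv F139303)
theorem F148689 : act 2 n31955 = n31955 := d22_1 D31955 (iv D31955) F139304
theorem F148690 : act 3 n31955 = n30646 := d28_1 D31955 (iv D30646) (iv F139305)
theorem F148691 : act 4 n31955 = n30967 := d33_1 D31955 F148682 (iv D31953)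
theorem F148692 : act 5 n31955 = n31955 := d37_1 D31955 (iv D31955) (iv D29907) F108718 D29907
theorem F148693 : act 6 n31955 = n31955 := d40_1 D31955 (iv D31955) F139306
theorem F148694 : act 9 n31955 = n31955 := d44_2 (iv F139307) D31955 (iv D31955) F139307 F113554
def n31956 : Q := act 3 n29909
theorem D31956 : act 3 n29909 = n31956 := rfl
theorem F148695 : act 0 n31956 = n30427 := d2_1 D31956 F141630 (iv F139313)
theorem F148696 : act 2 n31956 = n29916 := d17_1 D31956 (iv D29916) F108777 (iv F108732) (iv F139314)
theorem F148697 : act 4 n31956 = n30647 := d24_2 D29909 D31956 (iv D30647) (iv D25706) (iv F108722)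
theorem F148698 : act 6 n31956 = n31956 := d26_2 F139315 D31956 (iv D31956)
theorem F148699 : act 8 n31956 = n30378 := d28_2 F139317 D31956 F141414
theorem F148700 : act 9 n31956 = n30198 := d29_2 (iv F139316) D31956 (iv D30198)
def n31957 : Q := act 7 n29909
theorem D31957 : act 7 n29909 = n31957 := rfl
theorem F148701 : act 0 n31957 = n30876 := d6_1 D31957 (iv D30876) (iv F139313)
theorem F148702 : act 2 n31957 = n29912 := d21_1 D31957 (iv D29912) (iv F139314)
theorem F148703 : act 4 n31957 = n29910 := d32_1 D31957 (iv D29910) D29909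
theorem F148704 : act 8 n31957 = n30969 := d42_2 F139317 D31957 (iv D30969)
theorem F148705 : act 9 n31957 = n30199 := d43_2 (iv F139316) D31957 (iv D30199)
def n31958 : Q := act 6 n29910
theorem D31958 : act 6 n29910 = n31958 := rfl
theorem F148706 : act 0 n31958 = n30877 := d5_1 D31958 (iv D30877) (iv F139318)
theorem F148707 : act 2 n31958 = n29913 := d20_1 D31958 (iv D29913) (iv F139319)
theorem F148708 : act 3 n31958 = n30650 := d26_1 D31958 (iv D30650) (iv F139320)
theorem F148709 : act 7 n31958 = n31958 := d39_2 D29910 D31958 (iv D31958) (iv D29910) F108723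
theorem F148710 : act 9 n31958 = n30200 := d41_2 (iv F139322) D31958 (iv D30200)
def n31959 : Q := act 8 n29910
theorem D31959 : act 8 n29910 = n31959 := rfl
theorem F148711 : act 0 n31959 = n30878 := d7_1 D31959 (iv D30878) (iv F139318)
theorem F148712 : act 2 n31959 = n29914 := d22_1 D31959 (iv D29914) (iv F139319)
theorem F148713 : act 3 n31959 = n30651 := d28_1 D31959 (iv D30651) (iv F139320)
theorem F148714 : act 4 n31959 = n30969 := d33_1 D31959 (iv F148704) F148703
theorem F148715 : act 5 n31959 = n31959 := d37_1 D31959 (iv D31959) F139321 F108728 (iv F139321)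
theorem F148716 : act 7 n31959 = n29911 := d42_1 D31959 (iv D29911) D29910
theorem F148717 : act 9 n31959 = n31959 := d44_2 (iv F139322) D31959 (iv D31959) F139322 F113565
def n31960 : Q := act 6 n29912
theorem D31960 : act 6 n29912 = n31960 := rfl
theorem F148718 : act 0 n31960 = n30879 := d5_1 D31960 (iv D30879) (iv F139330)
theorem F148719 : act 1 n31960 = n31960 := d13_1 D31960 (iv D31960) F139331
theorem F148720 : act 3 n31960 = n29919 := d26_1 D31960 (iv D29919) (iv F139332)
theorem F148721 : act 4 n31960 = n29913 := d31_1 D31960 (iv D29913) (iv F139333)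
theorem F148722 : act 7 n31960 = n31960 := d39_2 D29912 D31960 (iv D31960) (iv D29912) F108733
theorem F148723 : act 8 n31960 = n30970 := d40_2 (iv F139334) D31960 (iv D30970)
theorem F148724 : act 9 n31960 = n30201 := d41_2 (iv F139335) D31960 (iv D30201)
def n31961 : Q := act 8 n29913
theorem D31961 : act 8 n29913 = n31961 := rfl
theorem F148725 : act 0 n31961 = n30880 := d7_1 D31961 (iv D30880) (iv F139336)
theorem F148726 : act 1 n31961 = n31961 := d15_1 D31961 (iv D31961) F139337
theorem F148727 : act 3 n31961 = n29915 := d28_1 D31961 (iv D29915) (iv F139338)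
theorem F148728 : act 4 n31961 = n30970 := d33_1 D31961 (iv F148723) F148721
theorem F148729 : act 6 n31961 = n29914 := d40_1 D31961 (iv D29914) D29913
theorem F148730 : act 7 n31961 = n31961 := d42_1 D31961 (iv D31961) F139339
theorem F148731 : act 9 n31961 = n31961 := d44_2 (iv F139340) D31961 (iv D31961) F139340 F113573
def n31962 : Q := act 5 n29915
theorem D31962 : act 5 n29915 = n31962 := rfl
theorem F148732 : act 0 n31962 = n30881 := d4_1 D31962 (iv D30881) (iv F139348)
theorem F148733 : act 1 n31962 = n31962 := d12_1 D31962 (iv D31962) F139349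
theorem F148734 : act 2 n31962 = n30655 := d19_1 D31962 (iv D30655) (iv F139350)
theorem F148735 : act 4 n31962 = n31962 := d30_1 D31962 (iv D31962) F139351 F108815 (iv F139351)
theorem F148736 : act 6 n31962 = n31962 := d35_2 (iv F139352) D31962 (iv D31962) F139352 F108756
theorem F148737 : act 7 n31962 = n31962 := d36_2 F139353 D31962 (iv D31962)
theorem F148738 : act 9 n31962 = n31962 := d38_2 F139354 D31962 (iv D31962)
def n31963 : Q := act 7 n29916
theorem D31963 : act 7 n29916 = n31963 := rfl
theorem F148739 : act 0 n31963 = n30430 := d6_1 D31963 F141642 (iv F139355)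
theorem F148740 : act 3 n31963 = n29917 := d27_1 D31963 (iv D29917) D29916
theorem F148741 : act 4 n31963 = n30883 := d32_1 D31963 (iv D30883) (iv F139356)
theorem F148742 : act 8 n31963 = n30381 := d42_2 (iv F139358) D31963 (iv D30381)
theorem F148743 : act 9 n31963 = n30331 := d43_2 (iv F139359) D31963 (iv D30331)
def n31964 : Q := act 6 n29917
theorem D31964 : act 6 n29917 = n31964 := rfl
theorem F148744 : act 0 n31964 = n30431 := d5_1 D31964 F141646 (iv F139360)
theorem F148745 : act 2 n31964 = n29919 := d20_1 D31964 (iv D29919) (iv F139361)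
theorem F148746 : act 4 n31964 = n29918 := d31_1 D31964 (iv D29918) (iv F139362)
theorem F148747 : act 7 n31964 = n31964 := d39_2 D29917 D31964 (iv D31964) (iv D29917) F108778
theorem F148748 : act 8 n31964 = n30382 := d40_2 (iv F139363) D31964 (iv D30382)
theorem F148749 : act 9 n31964 = n30332 := d41_2 (iv F139364) D31964 (iv D30332)
def n31965 : Q := act 5 n29919
theorem D31965 : act 5 n29919 = n31965 := rfl
theorem F148750 : act 0 n31965 = n30882 := d4_1 D31965 (iv D30882) (iv F139372)
theorem F148751 : act 1 n31965 = n31965 := d12_1 D31965 (iv D31965) F139373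
theorem F148752 : act 4 n31965 = n29931 := d30_1 D31965 (iv D29931) F108910 (iv F108803) (iv F139374)
theorem F148753 : act 7 n31965 = n31965 := d36_2 F139375 D31965 (iv D31965)
theorem F148754 : act 9 n31965 = n30333 := d38_2 (iv F139377) D31965 (iv D30333)
def n31966 : Q := act 7 n29920
theorem D31966 : act 7 n29920 = n31966 := rfl
theorem F148755 : act 0 n31966 = n30883 := d6_1 D31966 (iv D30883) (iv F139378)
theorem F148756 : act 1 n31966 = n30509 := d14_1 D31966 F141895 (iv F139379)
theorem F148757 : act 3 n31966 = n29921 := d27_1 D31966 (iv D29921) D29920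
theorem F148758 : act 4 n31966 = n30430 := d32_1 D31966 F141642 (iv F139380)
theorem F148759 : act 8 n31966 = n30428 := d42_2 (iv F139382) D31966 (iv D30428)
theorem F148760 : act 9 n31966 = n29929 := d43_2 (iv F139383) D31966 (iv D29929)
def n31967 : Q := act 6 n29921
theorem D31967 : act 6 n29921 = n31967 := rfl
theorem F148761 : act 0 n31967 = n30884 := d5_1 D31967 (iv D30884) (iv F139384)
theorem F148762 : act 1 n31967 = n30516 := d13_1 D31967 F141916 (iv F139385)
theorem F148763 : act 2 n31967 = n29923 := d20_1 D31967 (iv D29923) (iv F139386)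
theorem F148764 : act 4 n31967 = n29922 := d31_1 D31967 (iv D29922) (iv F139387)
theorem F148765 : act 7 n31967 = n31967 := d39_2 D29921 D31967 (iv D31967) (iv D29921) F108838
theorem F148766 : act 8 n31967 = n30432 := d40_2 (iv F139388) D31967 (iv D30432)
theorem F148767 : act 9 n31967 = n29930 := d41_2 (iv F139389) D31967 (iv D29930)
def n31968 : Q := act 5 n29923
theorem D31968 : act 5 n29923 = n31968 := rfl
theorem F148768 : act 0 n31968 = n30885 := d4_1 D31968 (iv D30885) (iv F139398)
theorem F148769 : act 1 n31968 = n31968 := d12_1 D31968 (iv D31968) F139399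
theorem F148770 : act 4 n31968 = n30333 := d30_1 D31968 (iv D30333) F114103 (iv F108864) (iv F139400)
theorem F148771 : act 7 n31968 = n31968 := d36_2 F139401 D31968 (iv D31968)
theorem F148772 : act 9 n31968 = n29931 := d38_2 (iv F139402) D31968 (iv D29931)
def n31969 : Q := act 8 n29923
theorem D31969 : act 8 n29923 = n31969 := rfl
theorem F148773 : act 0 n31969 = n30886 := d7_1 D31969 (iv D30886) (iv F139398)
theorem F148774 : act 1 n31969 = n31969 := d15_1 D31969 (iv D31969) F139399
theorem F148775 : act 2 n31969 = n30432 := d22_1 D31969 (iv F148766) F148763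
theorem F148776 : act 4 n31969 = n29925 := d33_1 D31969 (iv D29925) (iv F139400)
theorem F148777 : act 6 n31969 = n29924 := d40_1 D31969 (iv D29924) D29923
theorem F148778 : act 7 n31969 = n31969 := d42_1 D31969 (iv D31969) F139401
theorem F148779 : act 9 n31969 = n31969 := d44_2 (iv F139402) D31969 (iv D31969) F139402 F108912
theorem F148780 : act 5 n31092 = n31969 := d35_5 F148777 (iv F139409) F121825 (iv F121861) D31092
def n31970 : Q := act 2 n29926
theorem D31970 : act 2 n29926 = n31970 := rfl
theorem F148781 : act 3 n31970 = n31970 := d17_2 D29926 D31970 (iv D31970) (iv D29926) F108890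
theorem F148782 : act 4 n31970 = n30507 := d18_2 (iv F139419) D31970 F141885
theorem F148783 : act 6 n31970 = n31970 := d20_2 F139420 D31970 (iv D31970)
theorem F148784 : act 8 n31970 = n31970 := d22_2 F139421 D31970 (iv D31970)
theorem F148785 : act 9 n31970 = n30504 := d23_2 (iv F139422) D31970 F141874
def n31971 : Q := act 7 n29926
theorem D31971 : act 7 n29926 = n31971 := rfl
theorem F148786 : act 1 n31971 = n29929 := d14_1 D31971 (iv D29929) (iv F139418)
theorem F148787 : act 3 n31971 = n29927 := d27_1 D31971 (iv D29927) D29926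
theorem F148788 : act 4 n31971 = n30512 := d32_1 D31971 F141901 (iv F139419)
theorem F148789 : act 8 n31971 = n31971 := d42_2 F139421 D31971 (iv D31971)
theorem F148790 : act 9 n31971 = n30509 := d43_2 (iv F139422) D31971 F141895
def n31972 : Q := act 6 n29927
theorem D31972 : act 6 n29927 = n31972 := rfl
theorem F148791 : act 1 n31972 = n29930 := d13_1 D31972 (iv D29930) (iv F139423)
theorem F148792 : act 2 n31972 = n31972 := d20_1 D31972 (iv D31972) F139424
theorem F148793 : act 4 n31972 = n29928 := d31_1 D31972 (iv D29928) (iv F139425)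
theorem F148794 : act 7 n31972 = n31972 := d39_2 D29927 D31972 (iv D31972) (iv D29927) F108891
theorem F148795 : act 8 n31972 = n31972 := d40_2 F139426 D31972 (iv D31972)
theorem F148796 : act 9 n31972 = n30516 := d41_2 (iv F139427) D31972 F141916
def n31973 : Q := act 6 n29929
theorem D31973 : act 6 n29929 = n31973 := rfl
theorem F148797 : act 0 n31973 = n30887 := d5_1 D31973 (iv D30887) (iv F139434)
theorem F148798 : act 3 n31973 = n29930 := d26_1 D31973 (iv D29930) (iv F139435)
theorem F148799 : act 7 n31973 = n31973 := d39_2 D29929 D31973 (iv D31973) (iv D29929) F108898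
theorem F148800 : act 8 n31973 = n31973 := d40_2 F139436 D31973 (iv D31973)
def n31974 : Q := act 5 n29930
theorem D31974 : act 5 n29930 = n31974 := rfl
theorem F148801 : act 0 n31974 = n30888 := d4_1 D31974 (iv D30888) (iv F139437)
theorem F148802 : act 2 n31974 = n29931 := d19_1 D31974 (iv D29931) (iv F139438)
theorem F148803 : act 7 n31974 = n31974 := d36_2 F139440 D31974 (iv D31974)
def n31975 : Q := act 8 n29931
theorem D31975 : act 8 n29931 = n31975 := rfl
theorem F148804 : act 0 n31975 = n30889 := d7_1 D31975 (iv D30889) (iv F139442)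
theorem F148805 : act 1 n31975 = n31975 := d15_1 D31975 (iv D31975) F139443
theorem F148806 : act 5 n31975 = n31975 := d37_1 D31975 (iv D31975) (iv D29931) F108912 D29931
theorem F148807 : act 7 n31975 = n31975 := d42_1 D31975 (iv D31975) F139444
def n31976 : Q := act 5 n29933
theorem D31976 : act 5 n29933 = n31976 := rfl
theorem F148808 : act 0 n31976 = n29954 := d4_1 D31976 (iv D29954) (iv F139452)
theorem F148809 : act 1 n31976 = n29991 := d12_1 D31976 (iv F148132) F148129
theorem F148810 : act 2 n31976 = n29934 := d19_1 D31976 (iv D29934) (iv F139453)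
theorem F148811 : act 3 n31976 = n31976 := d25_1 D31976 (iv D31976) F139454
theorem F148812 : act 4 n31976 = n29966 := d30_1 D31976 F139646 F133617 (iv F110935) (iv F139455)
theorem F148813 : act 6 n31976 = n31976 := d35_2 D29933 D31976 (iv D31976) (iv D29933) F109013
theorem F148814 : act 9 n31976 = n29939 := d38_2 (iv F139456) D31976 (iv D29939)
def n31977 : Q := act 4 n29934
theorem D31977 : act 4 n29934 = n31977 := rfl
theorem F148815 : act 0 n31977 = n29956 := d3_1 D31977 (iv D29956) (iv F139457)
theorem F148816 : act 1 n31977 = n30352 := d11_1 D31977 F141316 (iv F139458)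
theorem F148817 : act 2 n31977 = n29966 := d18_1 D31977 (iv F148812) F148810
theorem F148818 : act 3 n31977 = n31977 := d24_1 D31977 (iv D31977) F139459 F109024 (iv F139459)
theorem F148819 : act 5 n31977 = n29976 := d30_2 D29934 D31977 F139695 F133802 (iv F109019)
theorem F148820 : act 6 n31977 = n31977 := d31_2 F139460 D31977 (iv D31977)
theorem F148821 : act 9 n31977 = n29941 := d34_2 (iv F139461) D31977 (iv D29941)
def n31978 : Q := act 7 n29934
theorem D31978 : act 7 n29934 = n31978 := rfl
theorem F148822 : act 0 n31978 = n29957 := d6_1 D31978 (iv D29957) (iv F139457)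
theorem F148823 : act 1 n31978 = n30354 := d14_1 D31978 F141327 (iv F139458)
theorem F148824 : act 3 n31978 = n29936 := d27_1 D31978 (iv D29936) (iv F139459)
theorem F148825 : act 5 n31978 = n29935 := d36_1 D31978 (iv D29935) D29934
theorem F148826 : act 9 n31978 = n29942 := d43_2 (iv F139461) D31978 (iv D29942)
def n31979 : Q := act 8 n29934
theorem D31979 : act 8 n29934 = n31979 := rfl
theorem F148827 : act 0 n31979 = n29958 := d7_1 D31979 (iv D29958) (iv F139457)
theorem F148828 : act 1 n31979 = n30274 := d15_1 D31979 F141024 (iv F139458)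
theorem F148829 : act 3 n31979 = n29937 := d28_1 D31979 (iv D29937) (iv F139459)
theorem F148830 : act 6 n31979 = n31979 := d40_1 D31979 (iv D31979) F139460
theorem F148831 : act 9 n31979 = n30269 := d44_2 (iv F139461) D31979 (iv D30269) F113886 (iv F134699)
def n31980 : Q := act 6 n29936
theorem D31980 : act 6 n29936 = n31980 := rfl
theorem F148832 : act 0 n31980 = n29959 := d5_1 D31980 (iv D29959) (iv F139468)
theorem F148833 : act 1 n31980 = n30364 := d13_1 D31980 F141363 (iv F139469)
theorem F148834 : act 2 n31980 = n31980 := d20_1 D31980 (iv D31980) F139470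
theorem F148835 : act 4 n31980 = n31980 := d31_1 D31980 (iv D31980) F139471
theorem F148836 : act 5 n31980 = n30208 := d35_1 D31980 (iv D30208) F113665 (iv F109031) (iv F139472)
theorem F148837 : act 7 n31980 = n31980 := d39_2 D29936 D31980 (iv D31980) (iv D29936) F109025
theorem F148838 : act 9 n31980 = n29943 := d41_2 (iv F139473) D31980 (iv D29943)
def n31981 : Q := act 8 n29936
theorem D31981 : act 8 n29936 = n31981 := rfl
theorem F148839 : act 0 n31981 = n29960 := d7_1 D31981 (iv D29960) (iv F139468)
theorem F148840 : act 1 n31981 = n30320 := d15_1 D31981 F141175 (iv F139469)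
theorem F148841 : act 2 n31981 = n31981 := d22_1 D31981 (iv D31981) F139470
theorem F148842 : act 4 n31981 = n31981 := d33_1 D31981 (iv D31981) F139471
theorem F148843 : act 7 n31981 = n29937 := d42_1 D31981 (iv D29937) D29936
theorem F148844 : act 9 n31981 = n30318 := d44_2 (iv F139473) D31981 (iv D30318) F114034 (iv F134701)
def n31982 : Q := act 7 n29938
theorem D31982 : act 7 n29938 = n31982 := rfl
theorem F148845 : act 0 n31982 = n29997 := d6_1 D31982 (iv D29997) (iv F139480)
theorem F148846 : act 1 n31982 = n29940 := d14_1 D31982 (iv D29940) (iv F139481)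
theorem F148847 : act 2 n31982 = n29969 := d21_1 D31982 F139660 (iv F139482)
theorem F148848 : act 3 n31982 = n31982 := d27_1 D31982 (iv D31982) F139483
theorem F148849 : act 4 n31982 = n29968 := d32_1 D31982 F139656 (iv F139484)
theorem F148850 : act 5 n31982 = n29990 := d36_1 D31982 F139773 F139486
theorem F148851 : act 6 n31982 = n29967 := d39_1 D31982 (iv D29967) F109289 F134186 D29938
theorem F148852 : act 8 n31982 = n29952 := d42_2 (iv F139485) D31982 (iv D29952)
def n31983 : Q := act 7 n29939
theorem D31983 : act 7 n29939 = n31983 := rfl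
theorem F148853 : act 0 n31983 = n29962 := d6_1 D31983 (iv D29962) (iv F139487)
theorem F148854 : act 1 n31983 = n29990 := d14_1 D31983 F139773 (iv F139488)
theorem F148855 : act 2 n31983 = n29942 := d21_1 D31983 (iv D29942) (iv F139489)
theorem F148856 : act 3 n31983 = n31983 := d27_1 D31983 (iv D31983) F139490
theorem F148857 : act 4 n31983 = n29965 := d32_1 D31983 F139642 (iv F139491)
theorem F148858 : act 5 n31983 = n29940 := d36_1 D31983 (iv D29940) D29939
theorem F148859 : act 8 n31983 = n29963 := d42_2 (iv F139493) D31983 (iv D29963)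
theorem F148860 : act 6 n30912 = n31983 := d45_4 (iv F73486) (iv F93211) (iv F117475) D30912 (iv D31983) F139493 F134684 F90888 F71848 (iv D15715) (iv D12229) F132182 (iv F132361) F43240 (iv F54347) F132911 F46670 (iv F57777) (iv F73548) (iv D16192) (iv F73534) F73535 F57910 F57911 F133412 (iv D12539) (iv F132811) F53157 F42255 F33823 F27198 (iv D4524) F16198 F16199 (iv F22025) F22026 D4602 F22445 D4685 D5872 F28345 F23037 F17412 F17413 F12422 F12423 (iv D2514) (iv F12314) (iv F17253) F17254 (iv F22875) D5871 (iv F34579) D9195 D11746 F54382 F43270 (iv F54495) (iv F69019) (iv F87362) F87363 (iv D19278) F69011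
def n31984 : Q := act 7 n29941
theorem D31984 : act 7 n29941 = n31984 := rfl
theorem F148861 : act 0 n31984 = n29963 := d6_1 D31984 (iv D29963) (iv F139500)
theorem F148862 : act 1 n31984 = n30351 := d14_1 D31984 F141312 (iv F139501)
theorem F148863 : act 2 n31984 = n29965 := d21_1 D31984 F139642 (iv F139502)
theorem F148864 : act 3 n31984 = n31984 := d27_1 D31984 (iv D31984) F139503
theorem F148865 : act 4 n31984 = n29942 := d32_1 D31984 (iv D29942) D29941
theorem F148866 : act 5 n31984 = n29975 := d36_1 D31984 F139691 (iv F139504)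
theorem F148867 : act 8 n31984 = n29962 := d42_2 (iv F139506) D31984 (iv D29962)
def n31985 : Q := act 6 n29942
theorem D31985 : act 6 n29942 = n31985 := rfl
theorem F148868 : act 0 n31985 = n29964 := d5_1 D31985 (iv D29964) (iv F139507)
theorem F148869 : act 1 n31985 = n30353 := d13_1 D31985 F141321 (iv F139508)
theorem F148870 : act 2 n31985 = n30912 := d20_1 D31985 F148860 F148855
theorem F148871 : act 3 n31985 = n29943 := d26_1 D31985 (iv D29943) (iv F139509)
theorem F148872 : act 5 n31985 = n30334 := d35_1 D31985 (iv D30334) F114127 (iv F109052) (iv F139510)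
theorem F148873 : act 7 n31985 = n31985 := d39_2 D29942 D31985 (iv D31985) (iv D29942) F109047
theorem F148874 : act 8 n31985 = n30349 := d40_2 (iv F139511) D31985 (iv D30349)
def n31986 : Q := act 7 n29944
theorem D31986 : act 7 n29944 = n31986 := rfl
theorem F148875 : act 0 n31986 = n29973 := d6_1 D31986 (iv D29973) (iv F139519)
theorem F148876 : act 1 n31986 = n29946 := d14_1 D31986 (iv D29946) (iv F139520)
theorem F148877 : act 2 n31986 = n29968 := d21_1 D31986 F139656 (iv F139521)
theorem F148878 : act 3 n31986 = n31986 := d27_1 D31986 (iv D31986) F139522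
theorem F148879 : act 4 n31986 = n29969 := d32_1 D31986 F139660 (iv F139523)
theorem F148880 : act 5 n31986 = n29972 := d36_1 D31986 (iv D29972) (iv F139524)
theorem F148881 : act 6 n31986 = n29952 := d39_1 D31986 (iv D29952) (iv D24263) (iv F109069) D29944
theorem F148882 : act 8 n31986 = n29967 := d42_2 (iv F139525) D31986 (iv D29967)
def n31987 : Q := act 7 n29945
theorem D31987 : act 7 n29945 = n31987 := rfl
theorem F148883 : act 0 n31987 = n29952 := d6_1 D31987 (iv D29952) (iv F139526)
theorem F148884 : act 1 n31987 = n29972 := d14_1 D31987 (iv D29972) (iv F139527)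
theorem F148885 : act 2 n31987 = n29948 := d21_1 D31987 (iv D29948) (iv F139528)
theorem F148886 : act 3 n31987 = n31987 := d27_1 D31987 (iv D31987) F139529
theorem F148887 : act 4 n31987 = n29998 := d32_1 D31987 F139809 (iv F139530)
theorem F148888 : act 5 n31987 = n29946 := d36_1 D31987 (iv D29946) D29945
theorem F148889 : act 6 n31987 = n29973 := d39_1 D31987 (iv D29973) F109318 (iv F133633) (iv F139531)
theorem F148890 : act 8 n31987 = n29997 := d42_2 (iv F139532) D31987 (iv D29997)
def n31988 : Q := act 7 n29947
theorem D31988 : act 7 n29947 = n31988 := rfl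
theorem F148891 : act 0 n31988 = n29967 := d6_1 D31988 (iv D29967) (iv F139539)
theorem F148892 : act 1 n31988 = n29975 := d14_1 D31988 F139691 (iv F139540)
theorem F148893 : act 2 n31988 = n29998 := d21_1 D31988 F139809 (iv F139541)
theorem F148894 : act 3 n31988 = n31988 := d27_1 D31988 (iv D31988) F139542
theorem F148895 : act 4 n31988 = n29948 := d32_1 D31988 (iv D29948) D29947
theorem F148896 : act 5 n31988 = n30351 := d36_1 D31988 F141312 (iv F139543)
theorem F148897 : act 6 n31988 = n29997 := d39_1 D31988 (iv D29997) F109589 (iv F133846) (iv F139544)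
theorem F148898 : act 8 n31988 = n29973 := d42_2 F139545 D31988 (iv D29973)
def n31989 : Q := act 8 n29948
theorem D31989 : act 8 n29948 = n31989 := rfl
theorem F148899 : act 0 n31989 = n29969 := d7_1 D31989 (iv D29969) (iv F139546)
theorem F148900 : act 1 n31989 = n29974 := d15_1 D31989 F139685 (iv F139547)
theorem F148901 : act 2 n31989 = n29997 := d22_1 D31989 (iv F148890) F148885
theorem F148902 : act 3 n31989 = n29950 := d28_1 D31989 (iv D29950) (iv F139548)
theorem F148903 : act 4 n31989 = n29973 := d33_1 D31989 (iv F148898) F148895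
theorem F148904 : act 5 n31989 = n30335 := d37_1 D31989 (iv D30335) F114127 (iv F109085) (iv F139549)
theorem F148905 : act 6 n31989 = n29998 := d40_1 D31989 (iv D29998) (iv F139550)
theorem F148906 : act 7 n31989 = n29949 := d42_1 D31989 (iv D29949) D29948
def n31990 : Q := act 9 n29950
theorem D31990 : act 9 n29950 = n31990 := rfl
theorem F148907 : act 0 n31990 = n29971 := d8_1 D31990 (iv D29971) (iv F139558)
theorem F148908 : act 1 n31990 = n30020 := d16_1 D31990 (iv D30020) (iv F139559)
theorem F148909 : act 2 n31990 = n31990 := d23_1 D31990 (iv D31990) F139560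
theorem F148910 : act 4 n31990 = n31990 := d34_1 D31990 (iv D31990) F139561
theorem F148911 : act 5 n31990 = n30338 := d38_1 D31990 (iv D30338) (iv F139562)
theorem F148912 : act 6 n31990 = n30019 := d41_1 D31990 (iv D30019) (iv F139563)
theorem F148913 : act 7 n31990 = n29951 := d43_1 D31990 (iv D29951) (iv F139564)
def n31991 : Q := act 7 n29954
theorem D31991 : act 7 n29954 = n31991 := rfl
theorem F148914 : act 1 n31991 = n30270 := d14_1 D31991 (iv D30270) (iv F139583)
theorem F148915 : act 2 n31991 = n29957 := d21_1 D31991 (iv D29957) (iv F139584)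
theorem F148916 : act 3 n31991 = n31991 := d27_1 D31991 (iv D31991) F139585
theorem F148917 : act 4 n31991 = n30268 := d32_1 D31991 (iv D30268) (iv F139586)
theorem F148918 : act 5 n31991 = n29955 := d36_1 D31991 (iv D29955) D29954
theorem F148919 : act 9 n31991 = n29962 := d43_2 (iv F139588) D31991 (iv D29962)
def n31992 : Q := act 8 n29954
theorem D31992 : act 8 n29954 = n31992 := rfl
theorem F148920 : act 1 n31992 = n30271 := d15_1 D31992 (iv D30271) (iv F139583)
theorem F148921 : act 2 n31992 = n29958 := d22_1 D31992 (iv D29958) (iv F139584)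
theorem F148922 : act 3 n31992 = n31992 := d28_1 D31992 (iv D31992) F139585
theorem F148923 : act 4 n31992 = n30269 := d33_1 D31992 (iv D30269) (iv F139586)
theorem F148924 : act 6 n31992 = n31992 := d40_1 D31992 (iv D31992) F139587
def n31993 : Q := act 7 n29956
theorem D31993 : act 7 n29956 = n31993 := rfl
theorem F148925 : act 1 n31993 = n29979 := d14_1 D31993 (iv D29979) (iv F139595)
theorem F148926 : act 2 n31993 = n30268 := d21_1 D31993 (iv D30268) (iv F139596)
theorem F148927 : act 3 n31993 = n31993 := d27_1 D31993 (iv D31993) F139597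
theorem F148928 : act 4 n31993 = n29957 := d32_1 D31993 (iv D29957) D29956
theorem F148929 : act 5 n31993 = n30231 := d36_1 D31993 (iv D30231) (iv F139598)
theorem F148930 : act 9 n31993 = n29963 := d43_2 (iv F139600) D31993 (iv D29963)
def n31994 : Q := act 8 n29956
theorem D31994 : act 8 n29956 = n31994 := rfl
theorem F148931 : act 1 n31994 = n29980 := d15_1 D31994 (iv D29980) (iv F139595)
theorem F148932 : act 2 n31994 = n30269 := d22_1 D31994 (iv D30269) (iv F139596)
theorem F148933 : act 3 n31994 = n31994 := d28_1 D31994 (iv D31994) F139597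
theorem F148934 : act 4 n31994 = n29958 := d33_1 D31994 (iv D29958) D29956
theorem F148935 : act 6 n31994 = n31994 := d40_1 D31994 (iv D31994) F139599
def n31995 : Q := act 6 n29957
theorem D31995 : act 6 n29957 = n31995 := rfl
theorem F148936 : act 1 n31995 = n29981 := d13_1 D31995 (iv D29981) (iv F139601)
theorem F148937 : act 3 n31995 = n29959 := d26_1 D31995 (iv D29959) (iv F139602)
theorem F148938 : act 5 n31995 = n30232 := d35_1 D31995 (iv D30232) F113768 (iv F109211) (iv F139603)
theorem F148939 : act 7 n31995 = n31995 := d39_2 D29957 D31995 (iv D31995) (iv D29957) F109206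
theorem F148940 : act 9 n31995 = n29964 := d41_2 (iv F139604) D31995 (iv D29964)
def n31996 : Q := act 8 n29957
theorem D31996 : act 8 n29957 = n31996 := rfl
theorem F148941 : act 1 n31996 = n29982 := d15_1 D31996 (iv D29982) (iv F139601)
theorem F148942 : act 3 n31996 = n29960 := d28_1 D31996 (iv D29960) (iv F139602)
theorem F148943 : act 7 n31996 = n29958 := d42_1 D31996 (iv D29958) D29957
def n31997 : Q := act 9 n29958
theorem D31997 : act 9 n29958 = n31997 := rfl
theorem F148944 : act 0 n31997 = n30269 := d8_1 D31997 (iv F148831) F148827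
theorem F148945 : act 1 n31997 = n29983 := d16_1 D31997 (iv D29983) (iv F139605)
theorem F148946 : act 3 n31997 = n29961 := d29_1 D31997 (iv D29961) (iv F139606)
theorem F148947 : act 6 n31997 = n31997 := d41_1 D31997 (iv D31997) F139607
theorem F148948 : act 8 n31997 = n29966 := d44_1 D31997 (iv D29966) (iv D24292) (iv F109207) D29958
def n31998 : Q := act 8 n29959
theorem D31998 : act 8 n29959 = n31998 := rfl
theorem F148949 : act 1 n31998 = n29984 := d15_1 D31998 (iv D29984) (iv F139608)
theorem F148950 : act 2 n31998 = n31998 := d22_1 D31998 (iv D31998) F139609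
theorem F148951 : act 4 n31998 = n31998 := d33_1 D31998 (iv D31998) F139610
theorem F148952 : act 6 n31998 = n29960 := d40_1 D31998 (iv D29960) D29959
theorem F148953 : act 7 n31998 = n31998 := d42_1 D31998 (iv D31998) F139612
def n31999 : Q := act 6 n29962
theorem D31999 : act 6 n29962 = n31999 := rfl
theorem F148954 : act 0 n31999 = n30912 := d5_1 D31999 F148860 F148853
theorem F148955 : act 1 n31999 = n30350 := d13_1 D31999 (iv D30350) (iv F139624)
theorem F148956 : act 2 n31999 = n29964 := d20_1 D31999 (iv D29964) (iv F139625)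
theorem F148957 : act 3 n31999 = n31999 := d26_1 D31999 (iv D31999) F139626
theorem F148958 : act 4 n31999 = n30349 := d31_1 D31999 (iv D30349) (iv F139627)
theorem F148959 : act 5 n31999 = n29989 := d35_1 D31999 (iv D29989) F134861 (iv F109239) (iv F139628)
theorem F148960 : act 7 n31999 = n31999 := d39_2 D29962 D31999 (iv D31999) (iv D29962) F109235
def n32000 : Q := act 6 n29963
theorem D32000 : act 6 n29963 = n32000 := rfl
theorem F148961 : act 1 n32000 = n29989 := d13_1 D32000 (iv D29989) (iv F139629)
theorem F148962 : act 2 n32000 = n30349 := d20_1 D32000 (iv D30349) (iv F139630)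
theorem F148963 : act 3 n32000 = n32000 := d26_1 D32000 (iv D32000) F139631
theorem F148964 : act 4 n32000 = n29964 := d31_1 D32000 (iv D29964) (iv F139632)
theorem F148965 : act 5 n32000 = n30350 := d35_1 D32000 (iv D30350) F114333 (iv F134682) (iv F139633)
theorem F148966 : act 7 n32000 = n32000 := d39_2 D29963 D32000 (iv D32000) (iv D29963) F109244
theorem F148967 : act 8 n32000 = n30912 := d40_2 F148859 D32000 F148860
def n32001 : Q := act 9 n29969
theorem D32001 : act 9 n29969 = n32001 := rfl
theorem F148968 : act 1 n32001 = n29995 := d16_1 D32001 (iv D29995) (iv F139657)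
theorem F148969 : act 3 n32001 = n29971 := d29_1 D32001 (iv D29971) (iv F139658)
theorem F148970 : act 5 n32001 = n30344 := d38_1 D32001 (iv D30344) (iv F139659)
theorem F148971 : act 7 n32001 = n29970 := d43_1 D32001 (iv D29970) (iv F139660)
def n32002 : Q := act 6 n29977
theorem D32002 : act 6 n29977 = n32002 := rfl
theorem F148972 : act 0 n32002 = n30898 := d5_1 D32002 (iv D30898) (iv F139697)
theorem F148973 : act 1 n32002 = n30275 := d13_1 D32002 (iv D30275) (iv F139698)
theorem F148974 : act 2 n32002 = n29981 := d20_1 D32002 (iv D29981) (iv F139699)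
theorem F148975 : act 3 n32002 = n30001 := d26_1 D32002 (iv D30001) (iv F139700)
theorem F148976 : act 4 n32002 = n30232 := d31_1 D32002 (iv D30232) (iv F139701)
theorem F148977 : act 5 n32002 = n30272 := d35_1 D32002 (iv D30272) F113898 (iv F109439) (iv F139702)
theorem F148978 : act 7 n32002 = n32002 := d39_2 D29977 D32002 (iv D32002) (iv D29977) F109433
theorem F148979 : act 9 n32002 = n29986 := d41_2 (iv F139703) D32002 (iv D29986)
def n32003 : Q := act 8 n29977
theorem D32003 : act 8 n29977 = n32003 := rfl
theorem F148980 : act 0 n32003 = n30899 := d7_1 D32003 (iv D30899) (iv F139697)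
theorem F148981 : act 1 n32003 = n30276 := d15_1 D32003 (iv D30276) (iv F139698)
theorem F148982 : act 2 n32003 = n29982 := d22_1 D32003 (iv D29982) (iv F139699)
theorem F148983 : act 3 n32003 = n30002 := d28_1 D32003 (iv D30002) (iv F139700)
theorem F148984 : act 4 n32003 = n30233 := d33_1 D32003 (iv D30233) (iv F139701)
theorem F148985 : act 7 n32003 = n29978 := d42_1 D32003 (iv D29978) D29977
def n32004 : Q := act 9 n29978
theorem D32004 : act 9 n29978 = n32004 := rfl
theorem F148986 : act 0 n32004 = n30900 := d8_1 D32004 (iv D30900) (iv F139704)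
theorem F148987 : act 1 n32004 = n30278 := d16_1 D32004 (iv D30278) (iv F139705)
theorem F148988 : act 2 n32004 = n29983 := d23_1 D32004 (iv D29983) (iv F139706)
theorem F148989 : act 3 n32004 = n30003 := d29_1 D32004 (iv D30003) (iv F139707)
theorem F148990 : act 4 n32004 = n30234 := d34_1 D32004 (iv D30234) (iv F139708)
theorem F148991 : act 6 n32004 = n32004 := d41_1 D32004 (iv D32004) F139709
theorem F148992 : act 8 n32004 = n29988 := d44_1 D32004 (iv D29988) (iv D24345) (iv F109434) D29978
def n32005 : Q := act 6 n29979
theorem D32005 : act 6 n29979 = n32005 := rfl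
theorem F148993 : act 0 n32005 = n30901 := d5_1 D32005 (iv D30901) (iv F139710)
theorem F148994 : act 2 n32005 = n30232 := d20_1 D32005 (iv D30232) (iv F139711)
theorem F148995 : act 3 n32005 = n32005 := d26_1 D32005 (iv D32005) F139712
theorem F148996 : act 4 n32005 = n29981 := d31_1 D32005 (iv D29981) (iv F139713)
theorem F148997 : act 7 n32005 = n32005 := d39_2 D29979 D32005 (iv D32005) (iv D29979) F109444
theorem F148998 : act 9 n32005 = n29989 := d41_2 (iv F139715) D32005 (iv D29989)
def n32006 : Q := act 8 n29979
theorem D32006 : act 8 n29979 = n32006 := rfl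
theorem F148999 : act 0 n32006 = n30902 := d7_1 D32006 (iv D30902) (iv F139710)
theorem F149000 : act 2 n32006 = n30233 := d22_1 D32006 (iv D30233) (iv F139711)
theorem F149001 : act 3 n32006 = n32006 := d28_1 D32006 (iv D32006) F139712
theorem F149002 : act 4 n32006 = n29982 := d33_1 D32006 (iv D29982) (iv F139713)
theorem F149003 : act 7 n32006 = n29980 := d42_1 D32006 (iv D29980) D29979
def n32007 : Q := act 5 n29980
theorem D32007 : act 5 n29980 = n32007 := rfl
theorem F149004 : act 0 n32007 = n30903 := d4_1 D32007 (iv D30903) (iv F139716)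
theorem F149005 : act 2 n32007 = n30227 := d19_1 D32007 F140872 (iv F139717)
theorem F149006 : act 3 n32007 = n32007 := d25_1 D32007 (iv D32007) F139718
theorem F149007 : act 8 n32007 = n30223 := d37_2 D29980 D32007 (iv D30223) F113730 (iv F134864)
def n32008 : Q := act 9 n29980
theorem D32008 : act 9 n29980 = n32008 := rfl
theorem F149008 : act 0 n32008 = n30904 := d8_1 D32008 (iv D30904) (iv F139716)
theorem F149009 : act 2 n32008 = n30234 := d23_1 D32008 (iv D30234) (iv F139717)
theorem F149010 : act 3 n32008 = n32008 := d29_1 D32008 (iv D32008) F139718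
theorem F149011 : act 4 n32008 = n29983 := d34_1 D32008 (iv D29983) (iv F139719)
theorem F149012 : act 6 n32008 = n32008 := d41_1 D32008 (iv D32008) F139720
theorem F149013 : act 8 n32008 = n29991 := d44_1 D32008 (iv D29991) (iv D24347) (iv F109445) D29980
def n32009 : Q := act 8 n29981
theorem D32009 : act 8 n29981 = n32009 := rfl
theorem F149014 : act 0 n32009 = n30905 := d7_1 D32009 (iv D30905) (iv F139721)
theorem F149015 : act 3 n32009 = n29984 := d28_1 D32009 (iv D29984) (iv F139722)
theorem F149016 : act 6 n32009 = n29982 := d40_1 D32009 (iv D29982) D29981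
theorem F149017 : act 7 n32009 = n32009 := d42_1 D32009 (iv D32009) F139724
def n32010 : Q := act 9 n29982
theorem D32010 : act 9 n29982 = n32010 := rfl
theorem F149018 : act 0 n32010 = n30906 := d8_1 D32010 (iv D30906) (iv F139726)
theorem F149019 : act 3 n32010 = n29985 := d29_1 D32010 (iv D29985) (iv F139727)
theorem F149020 : act 7 n32010 = n29983 := d43_1 D32010 (iv D29983) (iv F139728)
theorem F149021 : act 8 n32010 = n29993 := d44_1 D32010 (iv D29993) (iv D24349) (iv F109449) D29982
def n32011 : Q := act 5 n29984
theorem D32011 : act 5 n29984 = n32011 := rfl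
theorem F149022 : act 0 n32011 = n30907 := d4_1 D32011 (iv D30907) (iv F139733)
theorem F149023 : act 2 n32011 = n30009 := d19_1 D32011 (iv D30009) (iv F139734)
theorem F149024 : act 7 n32011 = n32011 := d36_2 F139737 D32011 (iv D32011)
theorem F149025 : act 8 n32011 = n30281 := d37_2 D29984 D32011 (iv D30281) (iv D25306) (iv F109456)
def n32012 : Q := act 9 n29984
theorem D32012 : act 9 n29984 = n32012 := rfl
theorem F149026 : act 0 n32012 = n30908 := d8_1 D32012 (iv D30908) (iv F139733)
theorem F149027 : act 2 n32012 = n30010 := d23_1 D32012 (iv D30010) (iv F139734)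
theorem F149028 : act 4 n32012 = n32012 := d34_1 D32012 (iv D32012) F139735
theorem F149029 : act 6 n32012 = n29985 := d41_1 D32012 (iv D29985) (iv F139736)
theorem F149030 : act 7 n32012 = n32012 := d43_1 D32012 (iv D32012) F139737
theorem F149031 : act 8 n32012 = n29994 := d44_1 D32012 (iv D29994) (iv D24351) (iv F109458) D29984
def n32013 : Q := act 8 n29986
theorem D32013 : act 8 n29986 = n32013 := rfl
theorem F149032 : act 0 n32013 = n30910 := d7_1 D32013 (iv D30910) (iv F139743)
theorem F149033 : act 1 n32013 = n30355 := d15_1 D32013 (iv D30355) (iv F139744)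
theorem F149034 : act 2 n32013 = n29992 := d22_1 D32013 (iv D29992) (iv F139745)
theorem F149035 : act 3 n32013 = n30011 := d28_1 D32013 (iv D30011) (iv F139746)
theorem F149036 : act 4 n32013 = n30343 := d33_1 D32013 (iv D30343) (iv F139747)
theorem F149037 : act 6 n32013 = n29987 := d40_1 D32013 (iv D29987) D29986
theorem F149038 : act 7 n32013 = n32013 := d42_1 D32013 (iv D32013) F139749
def n32014 : Q := act 9 n29987
theorem D32014 : act 9 n29987 = n32014 := rfl
theorem F149039 : act 0 n32014 = n30911 := d8_1 D32014 (iv D30911) (iv F139750)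
theorem F149040 : act 1 n32014 = n30356 := d16_1 D32014 (iv D30356) (iv F139751)
theorem F149041 : act 2 n32014 = n29993 := d23_1 D32014 (iv D29993) (iv F139752)
theorem F149042 : act 3 n32014 = n30012 := d29_1 D32014 (iv D30012) (iv F139753)
theorem F149043 : act 4 n32014 = n30344 := d34_1 D32014 (iv D30344) (iv F139754)
theorem F149044 : act 5 n32014 = n30000 := d38_1 D32014 (iv D30000) (iv F139755)
theorem F149045 : act 7 n32014 = n29988 := d43_1 D32014 (iv D29988) (iv F139756)
def n32015 : Q := act 8 n29989
theorem D32015 : act 8 n29989 = n32015 := rfl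
theorem F149046 : act 0 n32015 = n30913 := d7_1 D32015 (iv D30913) (iv F139764)
theorem F149047 : act 1 n32015 = n30912 := d15_1 D32015 (iv F148967) F148961
theorem F149048 : act 2 n32015 = n30343 := d22_1 D32015 (iv D30343) (iv F139765)
theorem F149049 : act 3 n32015 = n32015 := d28_1 D32015 (iv D32015) F139766
theorem F149050 : act 4 n32015 = n29992 := d33_1 D32015 (iv D29992) (iv F139767)
theorem F149051 : act 6 n32015 = n29990 := d40_1 D32015 (iv D29990) D29989
theorem F149052 : act 7 n32015 = n32015 := d42_1 D32015 (iv D32015) F139768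
theorem F149053 : act 5 n30896 = n32015 := d35_5 F149051 (iv F148850) F148851 F139651 D30896
def n32016 : Q := act 9 n29990
theorem D32016 : act 9 n29990 = n32016 := rfl
theorem F149054 : act 0 n32016 = n30914 := d8_1 D32016 (iv D30914) (iv F139769)
theorem F149055 : act 2 n32016 = n30344 := d23_1 D32016 (iv D30344) (iv F139770)
theorem F149056 : act 3 n32016 = n32016 := d29_1 D32016 (iv D32016) F139771
theorem F149057 : act 4 n32016 = n29993 := d34_1 D32016 (iv D29993) (iv F139772)
theorem F149058 : act 7 n32016 = n29991 := d43_1 D32016 (iv D29991) (iv F139773)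
def n32017 : Q := act 9 n29992
theorem D32017 : act 9 n29992 = n32017 := rfl
theorem F149059 : act 0 n32017 = n30915 := d8_1 D32017 (iv D30915) (iv F139779)
theorem F149060 : act 3 n32017 = n29994 := d29_1 D32017 (iv D29994) (iv F139780)
theorem F149061 : act 6 n32017 = n29993 := d41_1 D32017 (iv D29993) (iv F139781)
theorem F149062 : act 7 n32017 = n32017 := d43_1 D32017 (iv D32017) F139782
def n32018 : Q := act 9 n29998
theorem D32018 : act 9 n29998 = n32018 := rfl
theorem F149063 : act 1 n32018 = n30000 := d16_1 D32018 (iv D30000) (iv F139806)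
theorem F149064 : act 3 n32018 = n30019 := d29_1 D32018 (iv D30019) (iv F139807)
theorem F149065 : act 5 n32018 = n30356 := d38_1 D32018 (iv D30356) (iv F139808)
theorem F149066 : act 7 n32018 = n29999 := d43_1 D32018 (iv D29999) (iv F139809)
def n32019 : Q := act 8 n30001
theorem D32019 : act 8 n30001 = n32019 := rfl
theorem F149067 : act 0 n32019 = n30918 := d7_1 D32019 (iv D30918) (iv F139818)
theorem F149068 : act 1 n32019 = n30284 := d15_1 D32019 (iv D30284) (iv F139819)
theorem F149069 : act 2 n32019 = n30007 := d22_1 D32019 (iv D30007) (iv F139820)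
theorem F149070 : act 4 n32019 = n30237 := d33_1 D32019 (iv D30237) (iv F139821)
theorem F149071 : act 6 n32019 = n30002 := d40_1 D32019 (iv D30002) D30001
theorem F149072 : act 7 n32019 = n32019 := d42_1 D32019 (iv D32019) F139823
def n32020 : Q := act 9 n30002
theorem D32020 : act 9 n30002 = n32020 := rfl
theorem F149073 : act 0 n32020 = n30919 := d8_1 D32020 (iv D30919) (iv F139825)
theorem F149074 : act 1 n32020 = n30286 := d16_1 D32020 (iv D30286) (iv F139826)
theorem F149075 : act 2 n32020 = n30008 := d23_1 D32020 (iv D30008) (iv F139827)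
theorem F149076 : act 4 n32020 = n30238 := d34_1 D32020 (iv D30238) (iv F139828)
theorem F149077 : act 7 n32020 = n30003 := d43_1 D32020 (iv D30003) (iv F139829)
theorem F149078 : act 8 n32020 = n30012 := d44_1 D32020 (iv D30012) (iv D24415) (iv F109716) D30002
def n32021 : Q := act 8 n30004
theorem D32021 : act 8 n30004 = n32021 := rfl
theorem F149079 : act 0 n32021 = n30920 := d7_1 D32021 (iv D30920) (iv F139836)
theorem F149080 : act 1 n32021 = n32021 := d15_1 D32021 (iv D32021) F139837
theorem F149081 : act 2 n32021 = n30237 := d22_1 D32021 (iv D30237) (iv F139838)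
theorem F149082 : act 3 n32021 = n32021 := d28_1 D32021 (iv D32021) F139839
theorem F149083 : act 4 n32021 = n30007 := d33_1 D32021 (iv D30007) (iv F139840)
theorem F149084 : act 6 n32021 = n30005 := d40_1 D32021 (iv D30005) D30004
theorem F149085 : act 7 n32021 = n32021 := d42_1 D32021 (iv D32021) F139842
theorem F149086 : act 5 n31113 = n32021 := d35_5 F149084 F139849 F122073 (iv F122143) D31113
def n32022 : Q := act 9 n30005
theorem D32022 : act 9 n30005 = n32022 := rfl
theorem F149087 : act 0 n32022 = n30921 := d8_1 D32022 (iv D30921) (iv F139844)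
theorem F149088 : act 1 n32022 = n32022 := d16_1 D32022 (iv D32022) F139845
theorem F149089 : act 2 n32022 = n30238 := d23_1 D32022 (iv D30238) (iv F139846)
theorem F149090 : act 3 n32022 = n32022 := d29_1 D32022 (iv D32022) F139847
theorem F149091 : act 4 n32022 = n30008 := d34_1 D32022 (iv D30008) (iv F139848)
theorem F149092 : act 5 n32022 = n31102 := d38_1 D32022 F144207 (iv F139849)
theorem F149093 : act 7 n32022 = n30006 := d43_1 D32022 (iv D30006) (iv F139850)
theorem F149094 : act 8 n32022 = n30014 := d44_1 D32022 (iv D30014) (iv D24418) (iv F109725) D30005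
def n32023 : Q := act 5 n30007
theorem D32023 : act 5 n30007 = n32023 := rfl
theorem F149095 : act 0 n32023 = n30922 := d4_1 D32023 (iv D30922) (iv F139859)
theorem F149096 : act 1 n32023 = n32023 := d12_1 D32023 (iv D32023) F139860
theorem F149097 : act 3 n32023 = n30009 := d25_1 D32023 (iv D30009) (iv F139861)
theorem F149098 : act 7 n32023 = n32023 := d36_2 F139863 D32023 (iv D32023)
theorem F149099 : act 8 n32023 = n30321 := d37_2 D30007 D32023 (iv D30321) (iv D25346) (iv F109735)
def n32024 : Q := act 9 n30007
theorem D32024 : act 9 n30007 = n32024 := rfl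
theorem F149100 : act 0 n32024 = n30923 := d8_1 D32024 (iv D30923) (iv F139859)
theorem F149101 : act 1 n32024 = n32024 := d16_1 D32024 (iv D32024) F139860
theorem F149102 : act 3 n32024 = n30010 := d29_1 D32024 (iv D30010) (iv F139861)
theorem F149103 : act 6 n32024 = n30008 := d41_1 D32024 (iv D30008) (iv F139862)
theorem F149104 : act 7 n32024 = n32024 := d43_1 D32024 (iv D32024) F139863
theorem F149105 : act 8 n32024 = n30016 := d44_1 D32024 (iv D30016) (iv D24420) (iv F109737) D30007
def n32025 : Q := act 4 n30009
theorem D32025 : act 4 n30009 = n32025 := rfl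
theorem F149106 : act 0 n32025 = n30924 := d3_1 D32025 (iv D30924) (iv F139869)
theorem F149107 : act 1 n32025 = n32025 := d11_1 D32025 (iv D32025) F139870
theorem F149108 : act 5 n32025 = n32025 := d30_2 D30009 D32025 (iv D32025) (iv D30009) F109749
theorem F149109 : act 7 n32025 = n32025 := d32_2 F139871 D32025 (iv D32025)

end Cfsg.Agent.Helper17.SP6TC
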