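import Cfsg.Agent.Helper17.SP6TC.Facts10

set_option autoImplicit false
set_option linter.all false

noncomputable section

namespace Cfsg.Agent.Helper17.SP6TC

theorem F149110 : act 8 n32025 = n30323 := d33_2 (iv F139872) D32025 (iv D30323)
def n32026 : Q := act 9 n30009
theorem D32026 : act 9 n30009 = n32026 := rfl
theorem F149111 : act 0 n32026 = n30925 := d8_1 D32026 (iv D30925) (iv F139869)
theorem F149112 : act 1 n32026 = n32026 := d16_1 D32026 (iv D32026) F139870
theorem F149113 : act 5 n32026 = n30010 := d38_1 D32026 (iv D30010) D30009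
theorem F149114 : act 7 n32026 = n32026 := d43_1 D32026 (iv D32026) F139871
def n32027 : Q := act 9 n30011
theorem D32027 : act 9 n30011 = n32027 := rfl
theorem F149115 : act 0 n32027 = n30926 := d8_1 D32027 (iv D30926) (iv F139879)
theorem F149116 : act 1 n32027 = n30360 := d16_1 D32027 (iv D30360) (iv F139880)
theorem F149117 : act 2 n32027 = n30016 := d23_1 D32027 (iv D30016) (iv F139881)
theorem F149118 : act 4 n32027 = n30347 := d34_1 D32027 (iv D30347) (iv F139882)
theorem F149119 : act 6 n32027 = n30012 := d41_1 D32027 (iv D30012) (iv F139883)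
theorem F149120 : act 7 n32027 = n32027 := d43_1 D32027 (iv D32027) F139884
def n32028 : Q := act 5 n30013
theorem D32028 : act 5 n30013 = n32028 := rfl
theorem F149121 : act 0 n32028 = n30927 := d4_1 D32028 (iv D30927) (iv F139891)
theorem F149122 : act 1 n32028 = n32028 := d12_1 D32028 (iv D32028) F139892
theorem F149123 : act 2 n32028 = n30346 := d19_1 D32028 (iv D30346) (iv F139893)
theorem F149124 : act 3 n32028 = n32028 := d25_1 D32028 (iv D32028) F139894
theorem F149125 : act 6 n32028 = n32028 := d35_2 (iv F139896) D32028 (iv D32028) F139896 F109813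
theorem F149126 : act 7 n32028 = n32028 := d36_2 F139897 D32028 (iv D32028)
theorem F149127 : act 8 n32028 = n32028 := d37_2 D30013 D32028 (iv D32028) (iv D30013) F109807
def n32029 : Q := act 9 n30013
theorem D32029 : act 9 n30013 = n32029 := rfl
theorem F149128 : act 0 n32029 = n30928 := d8_1 D32029 (iv D30928) (iv F139891)
theorem F149129 : act 1 n32029 = n32029 := d16_1 D32029 (iv D32029) F139892
theorem F149130 : act 2 n32029 = n30347 := d23_1 D32029 (iv D30347) (iv F139893)
theorem F149131 : act 3 n32029 = n32029 := d29_1 D32029 (iv D32029) F139894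
theorem F149132 : act 4 n32029 = n30016 := d34_1 D32029 (iv D30016) (iv F139895)
theorem F149133 : act 6 n32029 = n30014 := d41_1 D32029 (iv D30014) (iv F139896)
theorem F149134 : act 7 n32029 = n32029 := d43_1 D32029 (iv D32029) F139897
def n32030 : Q := act 9 n30015
theorem D32030 : act 9 n30015 = n32030 := rfl
theorem F149135 : act 0 n32030 = n30929 := d8_1 D32030 (iv D30929) (iv F139905)
theorem F149136 : act 1 n32030 = n32030 := d16_1 D32030 (iv D32030) F139906
theorem F149137 : act 3 n32030 = n30017 := d29_1 D32030 (iv D30017) (iv F139907)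
theorem F149138 : act 5 n32030 = n30016 := d38_1 D32030 (iv D30016) D30015
theorem F149139 : act 6 n32030 = n30021 := d41_1 D32030 (iv D30021) (iv F139908)
theorem F149140 : act 7 n32030 = n32030 := d43_1 D32030 (iv D32030) F139909
def n32031 : Q := act 0 n30022
theorem D32031 : act 0 n30022 = n32031 := rfl
theorem F149141 : act 1 n32031 = n30046 := d0_2 D30022 D32031 (iv D30046) (iv D24530) (iv F110139)
theorem F149142 : act 2 n32031 = n30029 := d1_2 (iv F139942) D32031 F139988
theorem F149143 : act 3 n32031 = n32031 := d2_2 F139943 D32031 (iv D32031)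
theorem F149144 : act 4 n32031 = n30412 := d3_2 (iv F139944) D32031 (iv D30412)
theorem F149145 : act 5 n32031 = n30028 := d4_2 (iv F139945) D32031 F139980
theorem F149146 : act 7 n32031 = n30057 := d6_2 (iv F139946) D32031 F140137
theorem F149147 : act 9 n32031 = n32031 := d8_2 F139947 D32031 (iv D32031)
theorem F149148 : act 6 n30140 = n32031 := d35_0 F149145 (iv D30028) F110165 D25103 D30140
def n32032 : Q := act 6 n30022
theorem D32032 : act 6 n30022 = n32032 := rfl
theorem F149149 : act 0 n32032 = n30140 := d5_1 D32032 F149148 (iv D32031)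
theorem F149150 : act 1 n32032 = n30023 := d13_1 D32032 (iv D30023) D30022
theorem F149151 : act 2 n32032 = n30042 := d20_1 D32032 F140067 (iv F139942)
theorem F149152 : act 3 n32032 = n32032 := d26_1 D32032 (iv D32032) F139943
theorem F149153 : act 4 n32032 = n30413 := d31_1 D32032 (iv D30413) (iv F139944)
theorem F149154 : act 5 n32032 = n30041 := d35_1 D32032 (iv D30041) F110388 (iv F134981) (iv F139945)
theorem F149155 : act 9 n32032 = n32032 := d41_2 F139947 D32032 (iv D32032)
def n32033 : Q := act 5 n30023
theorem D32033 : act 5 n30023 = n32033 := rfl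
theorem F149156 : act 0 n32033 = n30048 := d4_1 D32033 (iv D30048) (iv F139948)
theorem F149157 : act 1 n32033 = n30041 := d12_1 D32033 (iv F149154) F149150
theorem F149158 : act 2 n32033 = n30024 := d19_1 D32033 (iv D30024) (iv F139949)
theorem F149159 : act 3 n32033 = n32033 := d25_1 D32033 (iv D32033) F139950
theorem F149160 : act 6 n32033 = n30031 := d35_2 D30023 D32033 (iv D30031) (iv D24491) (iv F110142)
theorem F149161 : act 9 n32033 = n32033 := d38_2 F139952 D32033 (iv D32033)
theorem F149162 : act 4 n30377 = n32033 := d31_3 F149160 (iv F140008) D30377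
def n32034 : Q := act 7 n30023
theorem D32034 : act 7 n30023 = n32034 := rfl
theorem F149163 : act 0 n32034 = n30049 := d6_1 D32034 (iv D30049) (iv F139948)
theorem F149164 : act 2 n32034 = n30025 := d21_1 D32034 (iv D30025) (iv F139949)
theorem F149165 : act 3 n32034 = n32034 := d27_1 D32034 (iv D32034) F139950
theorem F149166 : act 4 n32034 = n30415 := d32_1 D32034 (iv D30415) (iv F139951)
theorem F149167 : act 6 n32034 = n30141 := d39_1 D32034 (iv D30141) (iv D25103) (iv F110143) D30023
theorem F149168 : act 9 n32034 = n32034 := d43_2 F139952 D32034 (iv D32034)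
def n32035 : Q := act 7 n30024
theorem D32035 : act 7 n30024 = n32035 := rfl
theorem F149169 : act 0 n32035 = n30051 := d6_1 D32035 (iv D30051) (iv F139953)
theorem F149170 : act 1 n32035 = n30082 := d14_1 D32035 (iv D30082) (iv F139954)
theorem F149171 : act 3 n32035 = n30026 := d27_1 D32035 (iv D30026) (iv F139955)
theorem F149172 : act 5 n32035 = n30025 := d36_1 D32035 (iv D30025) D30024
theorem F149173 : act 6 n32035 = n30087 := d39_1 D32035 (iv D30087) (iv D24605) (iv F133764) (iv F139956)
theorem F149174 : act 9 n32035 = n32035 := d43_2 F139957 D32035 (iv D32035)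
def n32036 : Q := act 8 n30029
theorem D32036 : act 8 n30029 = n32036 := rfl
theorem F149175 : act 0 n32036 = n30056 := d7_1 D32036 (iv D30056) (iv F139988)
theorem F149176 : act 1 n32036 = n30098 := d15_1 D32036 (iv D30098) (iv F139989)
theorem F149177 : act 3 n32036 = n30030 := d28_1 D32036 (iv D30030) (iv F139990)
theorem F149178 : act 4 n32036 = n30455 := d33_1 D32036 F141730 F139994
theorem F149179 : act 5 n32036 = n30033 := d37_1 D32036 (iv D30033) (iv D24498) (iv F110173) D30029
theorem F149180 : act 6 n32036 = n30144 := d40_1 D32036 (iv D30144) (iv F139991)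
theorem F149181 : act 7 n32036 = n30097 := d42_1 D32036 (iv D30097) (iv F139992)
def n32037 : Q := act 8 n30032
theorem D32037 : act 8 n30032 = n32037 := rfl
theorem F149182 : act 0 n32037 = n30064 := d7_1 D32037 (iv D30064) (iv F140009)
theorem F149183 : act 1 n32037 = n30070 := d15_1 D32037 F140204 (iv F140010)
theorem F149184 : act 2 n32037 = n30109 := d22_1 D32037 F140385 (iv F140011)
theorem F149185 : act 3 n32037 = n32037 := d28_1 D32037 (iv D32037) F140012
theorem F149186 : act 4 n32037 = n30033 := d33_1 D32037 (iv D30033) D30032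
theorem F149187 : act 7 n32037 = n30108 := d42_1 D32037 (iv D30108) (iv F140014)
theorem F149188 : act 9 n32037 = n30068 := d44_2 (iv F140015) D32037 (iv D30068) F110577 F111913
def n32038 : Q := act 9 n30033
theorem D32038 : act 9 n30033 = n32038 := rfl
theorem F149189 : act 0 n32038 = n30066 := d8_1 D32038 (iv D30066) (iv F140016)
theorem F149190 : act 1 n32038 = n30069 := d16_1 D32038 F140198 (iv F140017)
theorem F149191 : act 2 n32038 = n30108 := d23_1 D32038 (iv F147300) F147295
theorem F149192 : act 3 n32038 = n30034 := d29_1 D32038 (iv D30034) (iv F140018)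
theorem F149193 : act 4 n32038 = n30068 := d34_1 D32038 (iv F149188) F149186
theorem F149194 : act 7 n32038 = n30109 := d43_1 D32038 (iv D30109) (iv F140019)
theorem F149195 : act 8 n32038 = n30067 := d44_1 D32038 F140188 (iv D24861) (iv F110233) D30033
def n32039 : Q := act 0 n30035
theorem D32039 : act 0 n30035 = n32039 := rfl
theorem F149196 : act 1 n32039 = n30412 := d0_2 D30035 D32039 (iv D30412) (iv D25488) (iv F110362)
theorem F149197 : act 2 n32039 = n30060 := d1_2 (iv F140026) D32039 F140152
theorem F149198 : act 3 n32039 = n30956 := d2_2 (iv F140027) D32039 (iv D30956)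
theorem F149199 : act 4 n32039 = n30046 := d3_2 (iv F140028) D32039 (iv D30046)
theorem F149200 : act 5 n32039 = n32039 := d4_2 F140029 D32039 (iv D32039)
theorem F149201 : act 7 n32039 = n30058 := d6_2 (iv F140030) D32039 F140143
theorem F149202 : act 9 n32039 = n32039 := d8_2 F140031 D32039 (iv D32039)
def n32040 : Q := act 6 n30035
theorem D32040 : act 6 n30035 = n32040 := rfl
theorem F149203 : act 1 n32040 = n30036 := d13_1 D32040 (iv D30036) D30035
theorem F149204 : act 2 n32040 = n30073 := d20_1 D32040 (iv D30073) (iv F140026)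
theorem F149205 : act 3 n32040 = n30957 := d26_1 D32040 (iv D30957) (iv F140027)
theorem F149206 : act 4 n32040 = n30047 := d31_1 D32040 (iv D30047) (iv F140028)
theorem F149207 : act 9 n32040 = n32040 := d41_2 F140031 D32040 (iv D32040)
def n32041 : Q := act 5 n30036
theorem D32041 : act 5 n30036 = n32041 := rfl
theorem F149208 : act 0 n32041 = n30414 := d4_1 D32041 (iv D30414) (iv F140032)
theorem F149209 : act 2 n32041 = n30037 := d19_1 D32041 (iv D30037) (iv F140033)
theorem F149210 : act 3 n32041 = n30958 := d25_1 D32041 (iv D30958) (iv F140034)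
theorem F149211 : act 6 n32041 = n32041 := d35_2 D30036 D32041 (iv D32041) (iv D30036) F110365
theorem F149212 : act 9 n32041 = n32041 := d38_2 F140036 D32041 (iv D32041)
def n32042 : Q := act 7 n30036
theorem D32042 : act 7 n30036 = n32042 := rfl
theorem F149213 : act 0 n32042 = n30415 := d6_1 D32042 (iv D30415) (iv F140032)
theorem F149214 : act 2 n32042 = n30038 := d21_1 D32042 (iv D30038) (iv F140033)
theorem F149215 : act 3 n32042 = n30959 := d27_1 D32042 (iv D30959) (iv F140034)
theorem F149216 : act 4 n32042 = n30049 := d32_1 D32042 (iv D30049) (iv F140035)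
theorem F149217 : act 6 n32042 = n30379 := d39_1 D32042 (iv D30379) (iv D25456) (iv F110366) D30036
theorem F149218 : act 9 n32042 = n32042 := d43_2 F140036 D32042 (iv D32042)
def n32043 : Q := act 4 n30037
theorem D32043 : act 4 n30037 = n32043 := rfl
theorem F149219 : act 0 n32043 = n30416 := d3_1 D32043 (iv D30416) (iv F140037)
theorem F149220 : act 1 n32043 = n30076 := d11_1 D32043 (iv D30076) (iv F140038)
theorem F149221 : act 3 n32043 = n32043 := d24_1 D32043 (iv D32043) F140039 F110376 (iv F140039)
theorem F149222 : act 5 n32043 = n30050 := d30_2 D30037 D32043 (iv D30050) (iv D24532) (iv F110371)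
theorem F149223 : act 6 n32043 = n32043 := d31_2 F140040 D32043 (iv D32043)
theorem F149224 : act 9 n32043 = n32043 := d34_2 F140041 D32043 (iv D32043)
def n32044 : Q := act 7 n30037
theorem D32044 : act 7 n30037 = n32044 := rfl
theorem F149225 : act 0 n32044 = n30417 := d6_1 D32044 (iv D30417) (iv F140037)
theorem F149226 : act 1 n32044 = n30077 := d14_1 D32044 (iv D30077) (iv F140038)
theorem F149227 : act 3 n32044 = n30039 := d27_1 D32044 (iv D30039) (iv F140039)
theorem F149228 : act 5 n32044 = n30038 := d36_1 D32044 (iv D30038) D30037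
theorem F149229 : act 9 n32044 = n32044 := d43_2 F140041 D32044 (iv D32044)
def n32045 : Q := act 8 n30037
theorem D32045 : act 8 n30037 = n32045 := rfl
theorem F149230 : act 0 n32045 = n30418 := d7_1 D32045 (iv D30418) (iv F140037)
theorem F149231 : act 1 n32045 = n30078 := d15_1 D32045 (iv D30078) (iv F140038)
theorem F149232 : act 3 n32045 = n30040 := d28_1 D32045 (iv D30040) (iv F140039)
theorem F149233 : act 6 n32045 = n32045 := d40_1 D32045 (iv D32045) F140040
def n32046 : Q := act 6 n30039
theorem D32046 : act 6 n30039 = n32046 := rfl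
theorem F149234 : act 0 n32046 = n30419 := d5_1 D32046 (iv D30419) (iv F140048)
theorem F149235 : act 1 n32046 = n30079 := d13_1 D32046 (iv D30079) (iv F140049)
theorem F149236 : act 2 n32046 = n30963 := d20_1 D32046 (iv D30963) (iv F140050)
theorem F149237 : act 4 n32046 = n32046 := d31_1 D32046 (iv D32046) F140051
theorem F149238 : act 5 n32046 = n30382 := d35_1 D32046 (iv D30382) F114496 (iv F110383) (iv F140052)
theorem F149239 : act 7 n32046 = n32046 := d39_2 D30039 D32046 (iv D32046) (iv D30039) F110377
theorem F149240 : act 9 n32046 = n32046 := d41_2 F140053 D32046 (iv D32046)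
def n32047 : Q := act 8 n30039
theorem D32047 : act 8 n30039 = n32047 := rfl
theorem F149241 : act 0 n32047 = n30420 := d7_1 D32047 (iv D30420) (iv F140048)
theorem F149242 : act 1 n32047 = n30080 := d15_1 D32047 (iv D30080) (iv F140049)
theorem F149243 : act 2 n32047 = n30964 := d22_1 D32047 (iv D30964) (iv F140050)
theorem F149244 : act 4 n32047 = n32047 := d33_1 D32047 (iv D32047) F140051
theorem F149245 : act 7 n32047 = n30040 := d42_1 D32047 (iv D30040) D30039
def n32048 : Q := act 9 n30040
theorem D32048 : act 9 n30040 = n32048 := rfl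
theorem F149246 : act 0 n32048 = n30421 := d8_1 D32048 (iv D30421) (iv F140054)
theorem F149247 : act 1 n32048 = n30081 := d16_1 D32048 (iv D30081) (iv F140055)
theorem F149248 : act 2 n32048 = n30965 := d23_1 D32048 (iv D30965) (iv F140056)
theorem F149249 : act 4 n32048 = n32048 := d34_1 D32048 (iv D32048) F140057
theorem F149250 : act 6 n32048 = n32048 := d41_1 D32048 (iv D32048) F140058
theorem F149251 : act 8 n32048 = n32048 := d44_1 D32048 (iv D32048) (iv D30040) F110378 D30040
def n32049 : Q := act 7 n30041
theorem D32049 : act 7 n30041 = n32049 := rfl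
theorem F149252 : act 0 n32049 = n30141 := d6_1 D32049 (iv D30141) (iv F140059)
theorem F149253 : act 2 n32049 = n30043 := d21_1 D32049 (iv D30043) (iv F140060)
theorem F149254 : act 3 n32049 = n32049 := d27_1 D32049 (iv D32049) F140061
theorem F149255 : act 4 n32049 = n30379 := d32_1 D32049 (iv D30379) (iv F140062)
theorem F149256 : act 6 n32049 = n30049 := d39_1 D32049 (iv D30049) (iv D24531) (iv F110389) D30041
theorem F149257 : act 9 n32049 = n32049 := d43_2 F140063 D32049 (iv D32049)
def n32050 : Q := act 7 n30042
theorem D32050 : act 7 n30042 = n32050 := rfl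
theorem F149258 : act 0 n32050 = n30143 := d6_1 D32050 (iv D30143) (iv F140064)
theorem F149259 : act 1 n32050 = n30083 := d14_1 D32050 (iv D30083) (iv F140065)
theorem F149260 : act 3 n32050 = n30044 := d27_1 D32050 (iv D30044) (iv F140066)
theorem F149261 : act 4 n32050 = n30488 := d32_1 D32050 (iv D30488) F140069
theorem F149262 : act 5 n32050 = n30043 := d36_1 D32050 (iv D30043) D30042
theorem F149263 : act 6 n32050 = n30168 := d39_1 D32050 (iv D30168) (iv D25137) (iv F134983) (iv F140067)
theorem F149264 : act 9 n32050 = n32050 := d43_2 F140068 D32050 (iv D32050)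
def n32051 : Q := act 8 n30042
theorem D32051 : act 8 n30042 = n32051 := rfl
theorem F149265 : act 0 n32051 = n30144 := d7_1 D32051 (iv D30144) (iv F140064)
theorem F149266 : act 1 n32051 = n30084 := d15_1 D32051 (iv D30084) (iv F140065)
theorem F149267 : act 3 n32051 = n30045 := d28_1 D32051 (iv D30045) (iv F140066)
theorem F149268 : act 4 n32051 = n30456 := d33_1 D32051 F141733 F140069
theorem F149269 : act 6 n32051 = n30056 := d40_1 D32051 (iv D30056) (iv F140067)
def n32052 : Q := act 8 n30044
theorem D32052 : act 8 n30044 = n32052 := rfl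
theorem F149270 : act 0 n32052 = n30145 := d7_1 D32052 (iv D30145) (iv F140076)
theorem F149271 : act 1 n32052 = n30085 := d15_1 D32052 (iv D30085) (iv F140077)
theorem F149272 : act 2 n32052 = n32052 := d22_1 D32052 (iv D32052) F140078
theorem F149273 : act 4 n32052 = n30132 := d33_1 D32052 (iv D30132) (iv F140079)
theorem F149274 : act 6 n32052 = n30183 := d40_1 D32052 F140696 (iv F140081)
theorem F149275 : act 7 n32052 = n30045 := d42_1 D32052 (iv D30045) D30044
def n32053 : Q := act 6 n30046
theorem D32053 : act 6 n30046 = n32053 := rfl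
theorem F149276 : act 0 n32053 = n30047 := d5_1 D32053 (iv D30047) D30046
theorem F149277 : act 1 n32053 = n30140 := d13_1 D32053 F149148 F149141
theorem F149278 : act 2 n32053 = n30062 := d20_1 D32053 (iv D30062) (iv F140088)
theorem F149279 : act 3 n32053 = n32053 := d26_1 D32053 (iv D32053) F140089
theorem F149280 : act 5 n32053 = n30139 := d35_1 D32053 (iv D30139) (iv F139975) (iv F139979) (iv F140090)
theorem F149281 : act 9 n32053 = n32053 := d41_2 F140092 D32053 (iv D32053)
def n32054 : Q := act 5 n30047
theorem D32054 : act 5 n30047 = n32054 := rfl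
theorem F149282 : act 0 n32054 = n30139 := d4_1 D32054 (iv F149280) F149276
theorem F149283 : act 1 n32054 = n30048 := d12_1 D32054 (iv D30048) (iv F140093)
theorem F149284 : act 2 n32054 = n30086 := d19_1 D32054 (iv D30086) (iv F140094)
theorem F149285 : act 3 n32054 = n32054 := d25_1 D32054 (iv D32054) F140095
theorem F149286 : act 6 n32054 = n30057 := d35_2 D30047 D32054 (iv D30057) (iv D24547) (iv F110410)
theorem F149287 : act 9 n32054 = n32054 := d38_2 F140096 D32054 (iv D32054)
theorem F149288 : act 4 n30422 = n32054 := d31_3 F149286 (iv F140142) D30422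
def n32055 : Q := act 7 n30047
theorem D32055 : act 7 n30047 = n32055 := rfl
theorem F149289 : act 1 n32055 = n30049 := d14_1 D32055 (iv D30049) (iv F140093)
theorem F149290 : act 2 n32055 = n30087 := d21_1 D32055 (iv D30087) (iv F140094)
theorem F149291 : act 3 n32055 = n32055 := d27_1 D32055 (iv D32055) F140095
theorem F149292 : act 9 n32055 = n32055 := d43_2 F140096 D32055 (iv D32055)
def n32056 : Q := act 4 n30048
theorem D32056 : act 4 n30048 = n32056 := rfl
theorem F149293 : act 0 n32056 = n30377 := d3_1 D32056 F149162 F149156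
theorem F149294 : act 1 n32056 = n30422 := d11_1 D32056 F149288 F149283
theorem F149295 : act 2 n32056 = n30050 := d18_1 D32056 (iv D30050) (iv F140097)
theorem F149296 : act 6 n32056 = n30058 := d31_2 (iv F140099) D32056 (iv D30058)
theorem F149297 : act 9 n32056 = n32056 := d34_2 F140100 D32056 (iv D32056)
theorem F149298 : act 3 n30966 = n32056 := d26_3 F149296 (iv F140148) D30966
def n32057 : Q := act 7 n30048
theorem D32057 : act 7 n30048 = n32057 := rfl
theorem F149299 : act 2 n32057 = n30051 := d21_1 D32057 (iv D30051) (iv F140097)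
theorem F149300 : act 3 n32057 = n32057 := d27_1 D32057 (iv D32057) F140098
theorem F149301 : act 5 n32057 = n30049 := d36_1 D32057 (iv D30049) D30048
theorem F149302 : act 9 n32057 = n32057 := d43_2 F140100 D32057 (iv D32057)
def n32058 : Q := act 8 n30048
theorem D32058 : act 8 n30048 = n32058 := rfl
theorem F149303 : act 2 n32058 = n30052 := d22_1 D32058 (iv D30052) (iv F140097)
theorem F149304 : act 3 n32058 = n32058 := d28_1 D32058 (iv D32058) F140098
theorem F149305 : act 6 n32058 = n30059 := d40_1 D32058 (iv D30059) (iv F140099)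
def n32059 : Q := act 7 n30050
theorem D32059 : act 7 n30050 = n32059 := rfl
theorem F149306 : act 1 n32059 = n30090 := d14_1 D32059 (iv D30090) (iv F140104)
theorem F149307 : act 3 n32059 = n32059 := d27_1 D32059 (iv D32059) F140105
theorem F149308 : act 4 n32059 = n30051 := d32_1 D32059 (iv D30051) D30050
theorem F149309 : act 9 n32059 = n32059 := d43_2 F140107 D32059 (iv D32059)
def n32060 : Q := act 8 n30050
theorem D32060 : act 8 n30050 = n32060 := rfl
theorem F149310 : act 1 n32060 = n30091 := d15_1 D32060 (iv D30091) (iv F140104)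
theorem F149311 : act 3 n32060 = n32060 := d28_1 D32060 (iv D32060) F140105
theorem F149312 : act 4 n32060 = n30052 := d33_1 D32060 (iv D30052) D30050
theorem F149313 : act 6 n32060 = n30061 := d40_1 D32060 (iv D30061) (iv F140106)
def n32061 : Q := act 6 n30051
theorem D32061 : act 6 n30051 = n32061 := rfl
theorem F149314 : act 0 n32061 = n30087 := d5_1 D32061 (iv F149173) F149169
theorem F149315 : act 1 n32061 = n30092 := d13_1 D32061 (iv D30092) (iv F140108)
theorem F149316 : act 3 n32061 = n30053 := d26_1 D32061 (iv D30053) (iv F140109)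
theorem F149317 : act 5 n32061 = n30168 := d35_1 D32061 (iv F149263) F149262 F140074 (iv F140110)
theorem F149318 : act 7 n32061 = n30062 := d39_2 D30051 D32061 (iv D30062) (iv D24551) (iv F110417)
theorem F149319 : act 9 n32061 = n32061 := d41_2 F140111 D32061 (iv D32061)
def n32062 : Q := act 8 n30051
theorem D32062 : act 8 n30051 = n32062 := rfl
theorem F149320 : act 1 n32062 = n30093 := d15_1 D32062 (iv D30093) (iv F140108)
theorem F149321 : act 3 n32062 = n30054 := d28_1 D32062 (iv D30054) (iv F140109)
theorem F149322 : act 7 n32062 = n30052 := d42_1 D32062 (iv D30052) D30051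
def n32063 : Q := act 9 n30052
theorem D32063 : act 9 n30052 = n32063 := rfl
theorem F149323 : act 0 n32063 = n30247 := d8_1 D32063 (iv F147788) F147784
theorem F149324 : act 1 n32063 = n30094 := d16_1 D32063 (iv D30094) (iv F140112)
theorem F149325 : act 3 n32063 = n30055 := d29_1 D32063 (iv D30055) (iv F140113)
theorem F149326 : act 6 n32063 = n30063 := d41_1 D32063 (iv D30063) (iv F140114)
theorem F149327 : act 8 n32063 = n32063 := d44_1 D32063 (iv D32063) (iv D30052) F110418 D30052
def n32064 : Q := act 9 n30054
theorem D32064 : act 9 n30054 = n32064 := rfl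
theorem F149328 : act 0 n32064 = n30294 := d8_1 D32064 (iv F148248) F148242
theorem F149329 : act 1 n32064 = n30096 := d16_1 D32064 (iv D30096) (iv F140122)
theorem F149330 : act 2 n32064 = n32064 := d23_1 D32064 (iv D32064) F140123
theorem F149331 : act 4 n32064 = n32064 := d34_1 D32064 (iv D32064) F140124
theorem F149332 : act 6 n32064 = n30115 := d41_1 D32064 (iv F148328) F148326
theorem F149333 : act 7 n32064 = n30055 := d43_1 D32064 (iv D30055) (iv F140125)
theorem F149334 : act 8 n32064 = n32064 := d44_1 D32064 (iv D32064) (iv D30054) F110426 D30054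
def n32065 : Q := act 8 n30057
theorem D32065 : act 8 n30057 = n32065 := rfl
theorem F149335 : act 0 n32065 = n30133 := d7_1 D32065 F140507 (iv F140137)
theorem F149336 : act 1 n32065 = n30059 := d15_1 D32065 (iv D30059) (iv F140138)
theorem F149337 : act 2 n32065 = n30097 := d22_1 D32065 (iv D30097) (iv F140139)
theorem F149338 : act 3 n32065 = n32065 := d28_1 D32065 (iv D32065) F140140
theorem F149339 : act 4 n32065 = n30403 := d33_1 D32065 F141540 F140142
theorem F149340 : act 5 n32065 = n30068 := d37_1 D32065 (iv D30068) (iv D24567) (iv F110493) D30057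
def n32066 : Q := act 8 n30058
theorem D32066 : act 8 n30058 = n32066 := rfl
theorem F149341 : act 0 n32066 = n30372 := d7_1 D32066 F141395 (iv F140143)
theorem F149342 : act 1 n32066 = n30403 := d15_1 D32066 F141540 (iv F140144)
theorem F149343 : act 2 n32066 = n30061 := d22_1 D32066 (iv D30061) (iv F140145)
theorem F149344 : act 3 n32066 = n30950 := d28_1 D32066 F143475 F140148
theorem F149345 : act 4 n32066 = n30059 := d33_1 D32066 (iv D30059) D30058
def n32067 : Q := act 9 n30059
theorem D32067 : act 9 n30059 = n32067 := rfl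
theorem F149346 : act 0 n32067 = n30216 := d8_1 D32067 (iv F147414) (iv F147415)
theorem F149347 : act 2 n32067 = n30063 := d23_1 D32067 (iv D30063) (iv F140149)
theorem F149348 : act 3 n32067 = n32067 := d29_1 D32067 (iv D32067) F140150
theorem F149349 : act 5 n32067 = n30070 := d38_1 D32067 (iv D30070) (iv F140151)
theorem F149350 : act 7 n32067 = n30110 := d43_1 D32067 (iv F147451) F147449
theorem F149351 : act 8 n32067 = n32067 := d44_1 D32067 (iv D32067) (iv D30059) F110497 D30059
def n32068 : Q := act 6 n30060
theorem D32068 : act 6 n30060 = n32068 := rfl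
theorem F149352 : act 0 n32068 = n30073 := d5_1 D32068 (iv D30073) (iv F140152)
theorem F149353 : act 1 n32068 = n30100 := d13_1 D32068 (iv D30100) (iv F140153)
theorem F149354 : act 3 n32068 = n32068 := d26_1 D32068 (iv D32068) F140154
theorem F149355 : act 4 n32068 = n30062 := d31_1 D32068 (iv D30062) (iv F140155)
theorem F149356 : act 9 n32068 = n32068 := d41_2 F140157 D32068 (iv D32068)
theorem F149357 : act 5 n30500 = n32068 := d30_0 F149355 F140164 F113283 D25561 D30500
def n32069 : Q := act 5 n30061
theorem D32069 : act 5 n30061 = n32069 := rfl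
theorem F149358 : act 0 n32069 = n30702 := d4_1 D32069 (iv F145728) F145724
theorem F149359 : act 1 n32069 = n30102 := d12_1 D32069 (iv D30102) (iv F140158)
theorem F149360 : act 3 n32069 = n32069 := d25_1 D32069 (iv D32069) F140159
theorem F149361 : act 4 n32069 = n30071 := d30_1 D32069 (iv D30071) F110601 (iv F110513) (iv F140160)
theorem F149362 : act 7 n32069 = n30103 := d36_2 F147751 D32069 (iv F147750)
theorem F149363 : act 8 n32069 = n32069 := d37_2 D30061 D32069 (iv D32069) (iv D30061) F110505
theorem F149364 : act 9 n30101 = n32069 := d43_0 F149362 (iv D30103) (iv F140355)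
def n32070 : Q := act 9 n30061
theorem D32070 : act 9 n30061 = n32070 := rfl
theorem F149365 : act 0 n32070 = n30241 := d8_1 D32070 (iv F145731) F145724
theorem F149366 : act 1 n32070 = n30103 := d16_1 D32070 (iv D30103) (iv F140158)
theorem F149367 : act 3 n32070 = n32070 := d29_1 D32070 (iv D32070) F140159
theorem F149368 : act 4 n32070 = n30063 := d34_1 D32070 (iv D30063) (iv F140160)
theorem F149369 : act 5 n32070 = n30101 := d38_1 D32070 F149364 (iv D32069)
theorem F149370 : act 7 n32070 = n30102 := d43_1 D32070 (iv F147753) F147751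
theorem F149371 : act 8 n32070 = n32070 := d44_1 D32070 (iv D32070) (iv D30061) F110506 D30061
def n32071 : Q := act 5 n30069
theorem D32071 : act 5 n30069 = n32071 := rfl
theorem F149372 : act 0 n32071 = n30449 := d4_1 D32071 F141701 (iv F140193)
theorem F149373 : act 2 n32071 = n30071 := d19_1 D32071 (iv D30071) (iv F140194)
theorem F149374 : act 3 n32071 = n30125 := d25_1 D32071 F140460 (iv F140195)
theorem F149375 : act 7 n32071 = n30099 := d36_2 (iv F140197) D32071 F140344
theorem F149376 : act 8 n32071 = n32071 := d37_2 D30069 D32071 (iv D32071) (iv D30069) F110585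
theorem F149377 : act 9 n32071 = n30098 := d38_2 (iv F140198) D32071 F140338
theorem F149378 : act 6 n30172 = n32071 := d41_3 F149377 F140339 D30172
def n32072 : Q := act 6 n30071
theorem D32072 : act 6 n30071 = n32072 := rfl
theorem F149379 : act 0 n32072 = n30722 := d5_1 D32072 (iv D30722) (iv F140205)
theorem F149380 : act 1 n32072 = n30112 := d13_1 D32072 (iv D30112) (iv F140206)
theorem F149381 : act 2 n32072 = n30172 := d20_1 D32072 F149378 F149373
theorem F149382 : act 3 n32072 = n30072 := d26_1 D32072 (iv D30072) (iv F140207)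
theorem F149383 : act 8 n32072 = n32072 := d40_2 F140209 D32072 (iv D32072)
theorem F149384 : act 9 n32072 = n30104 := d41_2 (iv F140210) D32072 F140367
def n32073 : Q := act 7 n30072
theorem D32073 : act 7 n30072 = n32073 := rfl
theorem F149385 : act 0 n32073 = n30803 := d6_1 D32073 (iv D30803) (iv F140211)
theorem F149386 : act 1 n32073 = n30115 := d14_1 D32073 (iv D30115) (iv F140212)
theorem F149387 : act 2 n32073 = n30124 := d21_1 D32073 F140455 (iv F140213)
theorem F149388 : act 4 n32073 = n32073 := d32_1 D32073 (iv D32073) F140214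
theorem F149389 : act 6 n32073 = n30096 := d39_1 D32073 F140328 F110768 (iv F133840) D30072
theorem F149390 : act 8 n32073 = n32073 := d42_2 F140215 D32073 (iv D32073)
theorem F149391 : act 9 n32073 = n30095 := d43_2 (iv F140216) D32073 F140324
def n32074 : Q := act 5 n30073
theorem D32074 : act 5 n30073 = n32074 := rfl
theorem F149392 : act 0 n32074 = n30500 := d4_1 D32074 F149357 F149352
theorem F149393 : act 1 n32074 = n30074 := d12_1 D32074 (iv D30074) (iv F140217)
theorem F149394 : act 3 n32074 = n32074 := d25_1 D32074 (iv D32074) F140218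
theorem F149395 : act 4 n32074 = n30498 := d30_1 D32074 (iv D30498) F140285 (iv D30086) (iv F140219)
theorem F149396 : act 6 n32074 = n32074 := d35_2 D30073 D32074 (iv D32074) (iv D30073) F110682
theorem F149397 : act 9 n32074 = n32074 := d38_2 F140220 D32074 (iv D32074)
def n32075 : Q := act 7 n30073
theorem D32075 : act 7 n30073 = n32075 := rfl
theorem F149398 : act 1 n32075 = n30075 := d14_1 D32075 (iv D30075) (iv F140217)
theorem F149399 : act 3 n32075 = n32075 := d27_1 D32075 (iv D32075) F140218
theorem F149400 : act 4 n32075 = n30087 := d32_1 D32075 (iv D30087) (iv F140219)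
theorem F149401 : act 9 n32075 = n32075 := d43_2 F140220 D32075 (iv D32075)
def n32076 : Q := act 7 n30074
theorem D32076 : act 7 n30074 = n32076 := rfl
theorem F149402 : act 0 n32076 = n30931 := d6_1 D32076 (iv D30931) (iv F140221)
theorem F149403 : act 2 n32076 = n30077 := d21_1 D32076 (iv D30077) (iv F140222)
theorem F149404 : act 3 n32076 = n32076 := d27_1 D32076 (iv D32076) F140223
theorem F149405 : act 5 n32076 = n30075 := d36_1 D32076 (iv D30075) D30074
theorem F149406 : act 9 n32076 = n32076 := d43_2 F140225 D32076 (iv D32076)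
def n32077 : Q := act 8 n30074
theorem D32077 : act 8 n30074 = n32077 := rfl
theorem F149407 : act 0 n32077 = n30932 := d7_1 D32077 (iv D30932) (iv F140221)
theorem F149408 : act 2 n32077 = n30078 := d22_1 D32077 (iv D30078) (iv F140222)
theorem F149409 : act 3 n32077 = n32077 := d28_1 D32077 (iv D32077) F140223
theorem F149410 : act 6 n32077 = n32077 := d40_1 D32077 (iv D32077) F140224
def n32078 : Q := act 7 n30076
theorem D32078 : act 7 n30076 = n32078 := rfl
theorem F149411 : act 0 n32078 = n30933 := d6_1 D32078 (iv D30933) (iv F140231)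
theorem F149412 : act 3 n32078 = n32078 := d27_1 D32078 (iv D32078) F140232
theorem F149413 : act 4 n32078 = n30077 := d32_1 D32078 (iv D30077) D30076
theorem F149414 : act 5 n32078 = n30090 := d36_1 D32078 (iv D30090) (iv F140233)
theorem F149415 : act 9 n32078 = n32078 := d43_2 F140235 D32078 (iv D32078)
def n32079 : Q := act 8 n30076
theorem D32079 : act 8 n30076 = n32079 := rfl
theorem F149416 : act 0 n32079 = n30934 := d7_1 D32079 (iv D30934) (iv F140231)
theorem F149417 : act 3 n32079 = n32079 := d28_1 D32079 (iv D32079) F140232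
theorem F149418 : act 4 n32079 = n30078 := d33_1 D32079 (iv D30078) D30076
theorem F149419 : act 6 n32079 = n32079 := d40_1 D32079 (iv D32079) F140234
def n32080 : Q := act 6 n30077
theorem D32080 : act 6 n30077 = n32080 := rfl
theorem F149420 : act 0 n32080 = n30935 := d5_1 D32080 (iv D30935) (iv F140236)
theorem F149421 : act 3 n32080 = n30079 := d26_1 D32080 (iv D30079) (iv F140237)
theorem F149422 : act 7 n32080 = n32080 := d39_2 D30077 D32080 (iv D32080) (iv D30077) F110691
theorem F149423 : act 9 n32080 = n32080 := d41_2 F140239 D32080 (iv D32080)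
def n32081 : Q := act 8 n30077
theorem D32081 : act 8 n30077 = n32081 := rfl
theorem F149424 : act 0 n32081 = n30936 := d7_1 D32081 (iv D30936) (iv F140236)
theorem F149425 : act 3 n32081 = n30080 := d28_1 D32081 (iv D30080) (iv F140237)
theorem F149426 : act 7 n32081 = n30078 := d42_1 D32081 (iv D30078) D30077
def n32082 : Q := act 9 n30078
theorem D32082 : act 9 n30078 = n32082 := rfl
theorem F149427 : act 0 n32082 = n30937 := d8_1 D32082 (iv D30937) (iv F140240)
theorem F149428 : act 3 n32082 = n30081 := d29_1 D32082 (iv D30081) (iv F140241)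
theorem F149429 : act 6 n32082 = n32082 := d41_1 D32082 (iv D32082) F140242
theorem F149430 : act 8 n32082 = n32082 := d44_1 D32082 (iv D32082) (iv D30078) F110692 D30078
def n32083 : Q := act 8 n30079
theorem D32083 : act 8 n30079 = n32083 := rfl
theorem F149431 : act 0 n32083 = n30938 := d7_1 D32083 (iv D30938) (iv F140243)
theorem F149432 : act 2 n32083 = n32083 := d22_1 D32083 (iv D32083) F140244
theorem F149433 : act 4 n32083 = n32083 := d33_1 D32083 (iv D32083) F140245
theorem F149434 : act 6 n32083 = n30080 := d40_1 D32083 (iv D30080) D30079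
theorem F149435 : act 7 n32083 = n32083 := d42_1 D32083 (iv D32083) F140246
def n32084 : Q := act 9 n30080
theorem D32084 : act 9 n30080 = n32084 := rfl
theorem F149436 : act 0 n32084 = n30939 := d8_1 D32084 (iv D30939) (iv F140248)
theorem F149437 : act 2 n32084 = n32084 := d23_1 D32084 (iv D32084) F140249
theorem F149438 : act 4 n32084 = n32084 := d34_1 D32084 (iv D32084) F140250
theorem F149439 : act 7 n32084 = n30081 := d43_1 D32084 (iv D30081) (iv F140251)
theorem F149440 : act 8 n32084 = n32084 := d44_1 D32084 (iv D32084) (iv D30080) F110701 D30080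
def n32085 : Q := act 8 n30083
theorem D32085 : act 8 n30083 = n32085 := rfl
theorem F149441 : act 0 n32085 = n30671 := d7_1 D32085 F142559 (iv F140263)
theorem F149442 : act 2 n32085 = n30157 := d22_1 D32085 F140613 (iv F140264)
theorem F149443 : act 3 n32085 = n30085 := d28_1 D32085 (iv D30085) (iv F140265)
theorem F149444 : act 4 n32085 = n30458 := d33_1 D32085 F141739 (iv F140266)
theorem F149445 : act 6 n32085 = n30161 := d40_1 D32085 F140626 (iv F140268)
theorem F149446 : act 7 n32085 = n30084 := d42_1 D32085 (iv D30084) D30083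
def n32086 : Q := act 7 n30086
theorem D32086 : act 7 n30086 = n32086 := rfl
theorem F149447 : act 0 n32086 = n30168 := d6_1 D32086 (iv D30168) (iv F140280)
theorem F149448 : act 1 n32086 = n30088 := d14_1 D32086 (iv D30088) (iv F140281)
theorem F149449 : act 3 n32086 = n30117 := d27_1 D32086 (iv D30117) (iv F140282)
theorem F149450 : act 4 n32086 = n30499 := d32_1 D32086 (iv D30499) F140285
theorem F149451 : act 5 n32086 = n30087 := d36_1 D32086 (iv D30087) D30086
theorem F149452 : act 6 n32086 = n30143 := d39_1 D32086 (iv D30143) (iv F139991) F139992 (iv F140283)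
theorem F149453 : act 9 n32086 = n32086 := d43_2 F140284 D32086 (iv D32086)
def n32087 : Q := act 8 n30086
theorem D32087 : act 8 n30086 = n32087 := rfl
theorem F149454 : act 0 n32087 = n30159 := d7_1 D32087 F140620 (iv F140280)
theorem F149455 : act 1 n32087 = n30089 := d15_1 D32087 (iv D30089) (iv F140281)
theorem F149456 : act 3 n32087 = n30118 := d28_1 D32087 (iv D30118) (iv F140282)
theorem F149457 : act 4 n32087 = n30475 := d33_1 D32087 F141785 F140285
theorem F149458 : act 6 n32087 = n30097 := d40_1 D32087 (iv D30097) (iv F140283)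
def n32088 : Q := act 8 n30088
theorem D32088 : act 8 n30088 = n32088 := rfl
theorem F149459 : act 0 n32088 = n30940 := d7_1 D32088 (iv D30940) (iv F140289)
theorem F149460 : act 2 n32088 = n30093 := d22_1 D32088 (iv D30093) (iv F140290)
theorem F149461 : act 3 n32088 = n30119 := d28_1 D32088 (iv D30119) (iv F140291)
theorem F149462 : act 6 n32088 = n30171 := d40_1 D32088 (iv D30171) (iv F140293)
theorem F149463 : act 7 n32088 = n30089 := d42_1 D32088 (iv D30089) D30088
def n32089 : Q := act 9 n30089
theorem D32089 : act 9 n30089 = n32089 := rfl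
theorem F149464 : act 0 n32089 = n30743 := d8_1 D32089 F142788 (iv F140295)
theorem F149465 : act 2 n32089 = n30094 := d23_1 D32089 (iv D30094) (iv F140296)
theorem F149466 : act 3 n32089 = n30120 := d29_1 D32089 (iv D30120) (iv F140297)
theorem F149467 : act 6 n32089 = n30099 := d41_1 D32089 (iv D30099) (iv F140298)
theorem F149468 : act 8 n32089 = n32089 := d44_1 D32089 (iv D32089) (iv D30089) F110740 D30089
def n32090 : Q := act 6 n30090
theorem D32090 : act 6 n30090 = n32090 := rfl
theorem F149469 : act 0 n32090 = n30930 := d5_1 D32090 F143412 (iv F140299)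
theorem F149470 : act 2 n32090 = n30169 := d20_1 D32090 (iv F146391) F146388
theorem F149471 : act 3 n32090 = n32090 := d26_1 D32090 (iv D32090) F140300
theorem F149472 : act 4 n32090 = n30092 := d31_1 D32090 (iv D30092) (iv F140301)
theorem F149473 : act 7 n32090 = n30100 := d39_2 D30090 D32090 (iv D30100) (iv D24636) (iv F110747)
theorem F149474 : act 9 n32090 = n32090 := d41_2 F140302 D32090 (iv D32090)
theorem F149475 : act 5 n30503 = n32090 := d36_3 F149473 (iv F140351) D30503
def n32091 : Q := act 8 n30090
theorem D32091 : act 8 n30090 = n32091 := rfl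
theorem F149476 : act 0 n32091 = n30941 := d7_1 D32091 (iv D30941) (iv F140299)
theorem F149477 : act 3 n32091 = n32091 := d28_1 D32091 (iv D32091) F140300
theorem F149478 : act 4 n32091 = n30093 := d33_1 D32091 (iv D30093) (iv F140301)
theorem F149479 : act 7 n32091 = n30091 := d42_1 D32091 (iv D30091) D30090
def n32092 : Q := act 5 n30091
theorem D32092 : act 5 n30091 = n32092 := rfl
theorem F149480 : act 0 n32092 = n30942 := d4_1 D32092 (iv D30942) (iv F140303)
theorem F149481 : act 3 n32092 = n32092 := d25_1 D32092 (iv D32092) F140304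
def n32093 : Q := act 9 n30091
theorem D32093 : act 9 n30091 = n32093 := rfl
theorem F149482 : act 0 n32093 = n30943 := d8_1 D32093 (iv D30943) (iv F140303)
theorem F149483 : act 3 n32093 = n32093 := d29_1 D32093 (iv D32093) F140304
theorem F149484 : act 4 n32093 = n30094 := d34_1 D32093 (iv D30094) (iv F140305)
theorem F149485 : act 6 n32093 = n30103 := d41_1 D32093 (iv D30103) (iv F140306)
theorem F149486 : act 8 n32093 = n32093 := d44_1 D32093 (iv D32093) (iv D30091) F110748 D30091
def n32094 : Q := act 8 n30092
theorem D32094 : act 8 n30092 = n32094 := rfl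
theorem F149487 : act 0 n32094 = n30732 := d7_1 D32094 F142757 (iv F140307)
theorem F149488 : act 2 n32094 = n30171 := d22_1 D32094 (iv D30171) (iv F140308)
theorem F149489 : act 3 n32094 = n30095 := d28_1 D32094 (iv D30095) (iv F140309)
theorem F149490 : act 6 n32094 = n30093 := d40_1 D32094 (iv D30093) D30092
theorem F149491 : act 7 n32094 = n30104 := d42_1 D32094 (iv D30104) (iv F140311)
def n32095 : Q := act 9 n30093
theorem D32095 : act 9 n30093 = n32095 := rfl
theorem F149492 : act 0 n32095 = n30944 := d8_1 D32095 (iv D30944) (iv F140313)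
theorem F149493 : act 3 n32095 = n30096 := d29_1 D32095 (iv D30096) (iv F140314)
theorem F149494 : act 7 n32095 = n30094 := d43_1 D32095 (iv D30094) (iv F140315)
theorem F149495 : act 8 n32095 = n32095 := d44_1 D32095 (iv D32095) (iv D30093) F110752 D30093
def n32096 : Q := act 5 n30095
theorem D32096 : act 5 n30095 = n32096 := rfl
theorem F149496 : act 0 n32096 = n30815 := d4_1 D32096 F143004 (iv F140320)
theorem F149497 : act 2 n32096 = n30123 := d19_1 D32096 (iv D30123) (iv F140321)
theorem F149498 : act 7 n32096 = n30105 := d36_2 (iv F140324) D32096 (iv D30105)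
theorem F149499 : act 8 n32096 = n30185 := d37_2 D30095 D32096 F140700 F113396 (iv F133824)
def n32097 : Q := act 8 n30100
theorem D32097 : act 8 n30100 = n32097 := rfl
theorem F149500 : act 0 n32097 = n30708 := d7_1 D32097 F142689 (iv F140346)
theorem F149501 : act 2 n32097 = n30170 := d22_1 D32097 (iv D30170) (iv F140347)
theorem F149502 : act 3 n32097 = n32097 := d28_1 D32097 (iv D32097) F140348
theorem F149503 : act 4 n32097 = n30104 := d33_1 D32097 (iv D30104) (iv F140349)
theorem F149504 : act 6 n32097 = n30101 := d40_1 D32097 (iv D30101) D30100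
def n32098 : Q := act 6 n30102
theorem D32098 : act 6 n30102 = n32098 := rfl
theorem F149505 : act 0 n32098 = n30945 := d5_1 D32098 (iv D30945) (iv F140356)
theorem F149506 : act 3 n32098 = n32098 := d26_1 D32098 (iv D32098) F140357
theorem F149507 : act 4 n32098 = n30112 := d31_1 D32098 (iv D30112) (iv F140358)
theorem F149508 : act 8 n32098 = n32098 := d40_2 F140359 D32098 (iv D32098)
def n32099 : Q := act 5 n30104
theorem D32099 : act 5 n30104 = n32099 := rfl
theorem F149509 : act 0 n32099 = n30731 := d4_1 D32099 (iv D30731) (iv F140364)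
theorem F149510 : act 2 n32099 = n30164 := d19_1 D32099 F140632 (iv F140365)
theorem F149511 : act 3 n32099 = n30105 := d25_1 D32099 (iv D30105) (iv F140366)
theorem F149512 : act 6 n32099 = n30113 := d35_2 (iv F140367) D32099 (iv D30113) F111010 (iv F110884)
theorem F149513 : act 8 n32099 = n30160 := d37_2 D30104 D32099 (iv D30160) F113239 (iv F134445)
def n32100 : Q := act 4 n30105
theorem D32100 : act 4 n30105 = n32100 := rfl
theorem F149514 : act 0 n32100 = n30814 := d3_1 D32100 (iv D30814) (iv F140368)
theorem F149515 : act 2 n32100 = n30126 := d18_1 D32100 (iv D30126) (iv F140369)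
theorem F149516 : act 5 n32100 = n32100 := d30_2 D30105 D32100 (iv D32100) (iv D30105) F110892
theorem F149517 : act 6 n32100 = n30114 := d31_2 (iv F140370) D32100 (iv D30114)
theorem F149518 : act 8 n32100 = n30184 := d33_2 (iv F140371) D32100 (iv D30184)
def n32101 : Q := act 5 n30106
theorem D32101 : act 5 n30106 = n32101 := rfl
theorem F149519 : act 0 n32101 = n30677 := d4_1 D32101 (iv D30677) (iv F140372)
theorem F149520 : act 2 n32101 = n30153 := d19_1 D32101 (iv D30153) (iv F140373)
theorem F149521 : act 3 n32101 = n30107 := d25_1 D32101 (iv D30107) (iv F140374)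
theorem F149522 : act 6 n32101 = n30160 := d35_2 (iv F140375) D32101 (iv D30160) (iv D25125) (iv F133798)
theorem F149523 : act 8 n32101 = n30113 := d37_2 D30106 D32101 (iv D30113) (iv D24670) (iv F110935)
def n32102 : Q := act 4 n30107
theorem D32102 : act 4 n30107 = n32102 := rfl
theorem F149524 : act 0 n32102 = n30855 := d3_1 D32102 F143140 (iv F140376)
theorem F149525 : act 2 n32102 = n30128 := d18_1 D32102 (iv D30128) (iv F140377)
theorem F149526 : act 5 n32102 = n32102 := d30_2 D30107 D32102 (iv D32102) (iv D30107) F110945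
theorem F149527 : act 6 n32102 = n30184 := d31_2 (iv F140378) D32102 (iv D30184)
theorem F149528 : act 8 n32102 = n30114 := d33_2 (iv F140379) D32102 (iv D30114)
def n32103 : Q := act 5 n30108
theorem D32103 : act 5 n30108 = n32103 := rfl
theorem F149529 : act 0 n32103 = n30433 := d4_1 D32103 (iv F147259) F147255
theorem F149530 : act 1 n32103 = n30110 := d12_1 D32103 (iv D30110) (iv F140380)
theorem F149531 : act 3 n32103 = n32103 := d25_1 D32103 (iv D32103) F140381
theorem F149532 : act 4 n32103 = n30439 := d30_1 D32103 F141670 (iv F140333) F140334 (iv F140382)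
theorem F149533 : act 8 n32103 = n32103 := d37_2 D30108 D32103 (iv D32103) (iv D30108) F110963
def n32104 : Q := act 6 n30110
theorem D32104 : act 6 n30110 = n32104 := rfl
theorem F149534 : act 0 n32104 = n30946 := d5_1 D32104 (iv D30946) (iv F140386)
theorem F149535 : act 2 n32104 = n30112 := d20_1 D32104 (iv D30112) (iv F140387)
theorem F149536 : act 3 n32104 = n32104 := d26_1 D32104 (iv D32104) F140388
theorem F149537 : act 8 n32104 = n32104 := d40_2 F140389 D32104 (iv D32104)
def n32105 : Q := act 5 n30111
theorem D32105 : act 5 n30111 = n32105 := rfl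
theorem F149538 : act 0 n32105 = n30681 := d4_1 D32105 F142593 (iv F140390)
theorem F149539 : act 2 n32105 = n30113 := d19_1 D32105 (iv D30113) (iv F140391)
theorem F149540 : act 3 n32105 = n30129 := d25_1 D32105 (iv D30129) (iv F140392)
theorem F149541 : act 6 n32105 = n30164 := d35_2 (iv F140393) D32105 F140632 (iv F140339) F140338
theorem F149542 : act 8 n32105 = n30153 := d37_2 D30111 D32105 (iv D30153) F113205 (iv F133802)
def n32106 : Q := act 7 n30112
theorem D32106 : act 7 n30112 = n32106 := rfl
theorem F149543 : act 0 n32106 = n30947 := d6_1 D32106 (iv D30947) (iv F140394)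
theorem F149544 : act 3 n32106 = n30115 := d27_1 D32106 (iv D30115) (iv F140395)
theorem F149545 : act 8 n32106 = n32106 := d42_2 F140396 D32106 (iv D32106)
def n32107 : Q := act 4 n30113
theorem D32107 : act 4 n30113 = n32107 := rfl
theorem F149546 : act 0 n32107 = n30768 := d3_1 D32107 (iv D30768) (iv F140397)
def n32108 : Q := act 3 n30114
theorem D32108 : act 3 n30114 = n32108 := rfl
theorem F149547 : act 0 n32108 = n30854 := d2_1 D32108 (iv D30854) (iv F140399)
theorem F149548 : act 5 n32108 = n30116 := d25_2 (iv F140401) D32108 (iv D30116)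
def n32109 : Q := act 8 n30117
theorem D32109 : act 8 n30117 = n32109 := rfl
theorem F149549 : act 0 n32109 = n30183 := d7_1 D32109 F140696 (iv F140409)
theorem F149550 : act 1 n32109 = n30119 := d15_1 D32109 (iv D30119) (iv F140410)
theorem F149551 : act 2 n32109 = n32109 := d22_1 D32109 (iv D32109) F140411
theorem F149552 : act 4 n32109 = n30151 := d33_1 D32109 (iv D30151) (iv F140412)
theorem F149553 : act 6 n32109 = n30145 := d40_1 D32109 (iv D30145) (iv F140414)
theorem F149554 : act 7 n32109 = n30118 := d42_1 D32109 (iv D30118) D30117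
def n32110 : Q := act 9 n30119
theorem D32110 : act 9 n30119 = n32110 := rfl
theorem F149555 : act 0 n32110 = n30830 := d8_1 D32110 F143058 (iv F140421)
theorem F149556 : act 2 n32110 = n30122 := d23_1 D32110 (iv D30122) (iv F140422)
theorem F149557 : act 4 n32110 = n30179 := d34_1 D32110 (iv D30179) (iv F140423)
theorem F149558 : act 6 n32110 = n30173 := d41_1 D32110 (iv D30173) (iv F140424)
theorem F149559 : act 7 n32110 = n30120 := d43_1 D32110 (iv D30120) (iv F140425)
theorem F149560 : act 8 n32110 = n32110 := d44_1 D32110 (iv D32110) (iv D30119) F111163 D30119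
def n32111 : Q := act 4 n30123
theorem D32111 : act 4 n30123 = n32111 := rfl
theorem F149561 : act 0 n32111 = n30948 := d3_1 D32111 (iv D30948) (iv F140445)
theorem F149562 : act 1 n32111 = n32111 := d11_1 D32111 (iv D32111) F140446
theorem F149563 : act 3 n32111 = n30313 := d24_1 D32111 F141147 F114010 (iv F113409) (iv F140447)
theorem F149564 : act 5 n32111 = n32111 := d30_2 D30123 D32111 (iv D32111) (iv D30123) F111194
theorem F149565 : act 7 n32111 = n30126 := d32_2 (iv F140448) D32111 (iv D30126)
theorem F149566 : act 8 n32111 = n30186 := d33_2 (iv F140449) D32111 F140703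
def n32112 : Q := act 9 n30123
theorem D32112 : act 9 n30123 = n32112 := rfl
theorem F149567 : act 0 n32112 = n30949 := d8_1 D32112 (iv D30949) (iv F140445)
theorem F149568 : act 1 n32112 = n32112 := d16_1 D32112 (iv D32112) F140446
theorem F149569 : act 3 n32112 = n30189 := d29_1 D32112 (iv D30189) (iv F140447)
theorem F149570 : act 5 n32112 = n30124 := d38_1 D32112 (iv D30124) D30123
theorem F149571 : act 7 n32112 = n30127 := d43_1 D32112 (iv D30127) (iv F140448)
def n32113 : Q := act 9 n30129
theorem D32113 : act 9 n30129 = n32113 := rfl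
theorem F149572 : act 0 n32113 = n30684 := d8_1 D32113 (iv D30684) (iv F140481)
theorem F149573 : act 2 n32113 = n30131 := d23_1 D32113 (iv D30131) (iv F140482)
theorem F149574 : act 4 n32113 = n30255 := d34_1 D32113 (iv D30255) F140485
theorem F149575 : act 5 n32113 = n30130 := d38_1 D32113 (iv D30130) D30129
theorem F149576 : act 6 n32113 = n30167 := d41_1 D32113 (iv D30167) (iv F140483)
def n32114 : Q := act 6 n30133
theorem D32114 : act 6 n30133 = n32114 := rfl
theorem F149577 : act 1 n32114 = n30134 := d13_1 D32114 (iv D30134) D30133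
theorem F149578 : act 2 n32114 = n30159 := d20_1 D32114 (iv D30159) (iv F140504)
theorem F149579 : act 3 n32114 = n32114 := d26_1 D32114 (iv D32114) F140505
theorem F149580 : act 4 n32114 = n30404 := d31_1 D32114 (iv D30404) (iv F140506)
theorem F149581 : act 8 n32114 = n30139 := d40_2 (iv F140507) D32114 (iv D30139)
def n32115 : Q := act 5 n30134
theorem D32115 : act 5 n30134 = n32115 := rfl
theorem F149582 : act 2 n32115 = n30135 := d19_1 D32115 (iv D30135) (iv F140508)
theorem F149583 : act 3 n32115 = n32115 := d25_1 D32115 (iv D32115) F140509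
def n32116 : Q := act 7 n30134
theorem D32116 : act 7 n30134 = n32116 := rfl
theorem F149584 : act 2 n32116 = n30136 := d21_1 D32116 (iv D30136) (iv F140508)
theorem F149585 : act 3 n32116 = n32116 := d27_1 D32116 (iv D32116) F140509
theorem F149586 : act 4 n32116 = n30406 := d32_1 D32116 (iv D30406) (iv F140510)
theorem F149587 : act 8 n32116 = n30141 := d42_2 (iv F140511) D32116 (iv D30141)
def n32117 : Q := act 4 n30135
theorem D32117 : act 4 n30135 = n32117 := rfl
theorem F149588 : act 1 n32117 = n30162 := d11_1 D32117 (iv D30162) (iv F140512)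
theorem F149589 : act 3 n32117 = n30225 := d24_1 D32117 (iv D30225) F113732 (iv F113137) (iv F140513)
theorem F149590 : act 5 n32117 = n30407 := d30_2 D30135 D32117 (iv D30407) (iv D25484) (iv F113133)
def n32118 : Q := act 7 n30135
theorem D32118 : act 7 n30135 = n32118 := rfl
theorem F149591 : act 1 n32118 = n30163 := d14_1 D32118 (iv D30163) (iv F140512)
theorem F149592 : act 3 n32118 = n30137 := d27_1 D32118 (iv D30137) (iv F140513)
theorem F149593 : act 5 n32118 = n30136 := d36_1 D32118 (iv D30136) D30135
def n32119 : Q := act 8 n30135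
theorem D32119 : act 8 n30135 = n32119 := rfl
theorem F149594 : act 1 n32119 = n30164 := d15_1 D32119 (iv D30164) (iv F140512)
theorem F149595 : act 3 n32119 = n30138 := d28_1 D32119 (iv D30138) (iv F140513)
theorem F149596 : act 5 n32119 = n30144 := d37_1 D32119 (iv D30144) (iv D25104) (iv F113134) D30135
def n32120 : Q := act 6 n30137
theorem D32120 : act 6 n30137 = n32120 := rfl
theorem F149597 : act 1 n32120 = n30165 := d13_1 D32120 (iv D30165) (iv F140518)
theorem F149598 : act 2 n32120 = n32120 := d20_1 D32120 (iv D32120) F140519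
theorem F149599 : act 4 n32120 = n30228 := d31_1 D32120 (iv D30228) (iv F140520)
def n32121 : Q := act 8 n30137
theorem D32121 : act 8 n30137 = n32121 := rfl
theorem F149600 : act 1 n32121 = n30166 := d15_1 D32121 (iv D30166) (iv F140518)
theorem F149601 : act 2 n32121 = n32121 := d22_1 D32121 (iv D32121) F140519
theorem F149602 : act 4 n32121 = n30229 := d33_1 D32121 (iv D30229) (iv F140520)
theorem F149603 : act 5 n32121 = n30145 := d37_1 D32121 (iv D30145) F113160 (iv F113141) (iv F140521)
theorem F149604 : act 7 n32121 = n30138 := d42_1 D32121 (iv D30138) D30137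
def n32122 : Q := act 9 n30138
theorem D32122 : act 9 n30138 = n32122 := rfl
theorem F149605 : act 1 n32122 = n30167 := d16_1 D32122 (iv D30167) (iv F140522)
theorem F149606 : act 2 n32122 = n32122 := d23_1 D32122 (iv D32122) F140523
theorem F149607 : act 4 n32122 = n30230 := d34_1 D32122 (iv D30230) (iv F140524)
theorem F149608 : act 5 n32122 = n30146 := d38_1 D32122 (iv D30146) (iv F140525)
def n32123 : Q := act 7 n30139
theorem D32123 : act 7 n30139 = n32123 := rfl
theorem F149609 : act 1 n32123 = n30141 := d14_1 D32123 (iv D30141) (iv F140526)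
theorem F149610 : act 2 n32123 = n30168 := d21_1 D32123 (iv D30168) (iv F140527)
theorem F149611 : act 3 n32123 = n32123 := d27_1 D32123 (iv D32123) F140528
theorem F149612 : act 4 n32123 = n30424 := d32_1 D32123 (iv D30424) (iv F140529)
theorem F149613 : act 9 n32123 = n32123 := d43_2 F140530 D32123 (iv D32123)
def n32124 : Q := act 4 n30140
theorem D32124 : act 4 n30140 = n32124 := rfl
theorem F149614 : act 0 n32124 = n30413 := d3_1 D32124 (iv F149153) F149149
theorem F149615 : act 2 n32124 = n30142 := d18_1 D32124 (iv D30142) (iv F140531)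
theorem F149616 : act 5 n32124 = n30425 := d30_2 D30140 D32124 (iv D30425) (iv D25496) (iv F113148)
theorem F149617 : act 6 n32124 = n30412 := d31_2 (iv F149148) D32124 (iv F149144)
theorem F149618 : act 9 n32124 = n32124 := d34_2 F140533 D32124 (iv D32124)
theorem F149619 : act 3 n30976 = n32124 := d26_3 F149617 F141567 D30976
def n32125 : Q := act 7 n30140
theorem D32125 : act 7 n30140 = n32125 := rfl
theorem F149620 : act 2 n32125 = n30143 := d21_1 D32125 (iv D30143) (iv F140531)
theorem F149621 : act 3 n32125 = n32125 := d27_1 D32125 (iv D32125) F140532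
theorem F149622 : act 5 n32125 = n30141 := d36_1 D32125 (iv D30141) D30140
theorem F149623 : act 9 n32125 = n32125 := d43_2 F140533 D32125 (iv D32125)
def n32126 : Q := act 8 n30140
theorem D32126 : act 8 n30140 = n32126 := rfl
theorem F149624 : act 2 n32126 = n30144 := d22_1 D32126 (iv D30144) (iv F140531)
theorem F149625 : act 3 n32126 = n32126 := d28_1 D32126 (iv D32126) F140532
def n32127 : Q := act 7 n30142
theorem D32127 : act 7 n30142 = n32127 := rfl
theorem F149626 : act 0 n32127 = n30488 := d6_1 D32127 (iv D30488) (iv F140538)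
theorem F149627 : act 1 n32127 = n30169 := d14_1 D32127 (iv D30169) (iv F140539)
theorem F149628 : act 3 n32127 = n30147 := d27_1 D32127 (iv D30147) (iv F140540)
theorem F149629 : act 4 n32127 = n30143 := d32_1 D32127 (iv D30143) D30142
theorem F149630 : act 5 n32127 = n30428 := d36_1 D32127 (iv D30428) (iv F140541)
theorem F149631 : act 6 n32127 = n30499 := d39_1 D32127 (iv D30499) (iv D25560) (iv F114837) (iv F140542)
theorem F149632 : act 9 n32127 = n32127 := d43_2 F140543 D32127 (iv D32127)
def n32128 : Q := act 8 n30142
theorem D32128 : act 8 n30142 = n32128 := rfl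
theorem F149633 : act 0 n32128 = n30456 := d7_1 D32128 F141733 (iv F140538)
theorem F149634 : act 1 n32128 = n30170 := d15_1 D32128 (iv D30170) (iv F140539)
theorem F149635 : act 3 n32128 = n30148 := d28_1 D32128 (iv D30148) (iv F140540)
theorem F149636 : act 4 n32128 = n30144 := d33_1 D32128 (iv D30144) D30142
theorem F149637 : act 6 n32128 = n30455 := d40_1 D32128 F141730 (iv F140542)
def n32129 : Q := act 8 n30143
theorem D32129 : act 8 n30143 = n32129 := rfl
theorem F149638 : act 1 n32129 = n30171 := d15_1 D32129 (iv D30171) (iv F140544)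
theorem F149639 : act 3 n32129 = n30145 := d28_1 D32129 (iv D30145) (iv F140545)
theorem F149640 : act 7 n32129 = n30144 := d42_1 D32129 (iv D30144) D30143
def n32130 : Q := act 9 n30144
theorem D32130 : act 9 n30144 = n32130 := rfl
theorem F149641 : act 1 n32130 = n30172 := d16_1 D32130 (iv D30172) (iv F140548)
theorem F149642 : act 3 n32130 = n30146 := d29_1 D32130 (iv D30146) (iv F140549)
theorem F149643 : act 8 n32130 = n32130 := d44_1 D32130 (iv D32130) (iv D30144) F113152 D30144
def n32131 : Q := act 9 n30145
theorem D32131 : act 9 n30145 = n32131 := rfl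
theorem F149644 : act 1 n32131 = n30173 := d16_1 D32131 (iv D30173) (iv F140550)
theorem F149645 : act 2 n32131 = n32131 := d23_1 D32131 (iv D32131) F140551
theorem F149646 : act 4 n32131 = n30152 := d34_1 D32131 (iv D30152) (iv F140552)
theorem F149647 : act 7 n32131 = n30146 := d43_1 D32131 (iv D30146) (iv F140553)
theorem F149648 : act 8 n32131 = n32131 := d44_1 D32131 (iv D32131) (iv D30145) F113161 D30145
def n32132 : Q := act 8 n30147
theorem D32132 : act 8 n30147 = n32132 := rfl
theorem F149649 : act 0 n32132 = n30569 := d7_1 D32132 F142157 (iv F140558)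
theorem F149650 : act 1 n32132 = n30174 := d15_1 D32132 (iv D30174) (iv F140559)
theorem F149651 : act 2 n32132 = n31061 := d22_1 D32132 F144048 (iv F140560)
theorem F149652 : act 4 n32132 = n30149 := d33_1 D32132 (iv D30149) (iv F140561)
theorem F149653 : act 6 n32132 = n30592 := d40_1 D32132 F142246 (iv F140563)
theorem F149654 : act 7 n32132 = n30148 := d42_1 D32132 (iv D30148) D30147
def n32133 : Q := act 9 n30148
theorem D32133 : act 9 n30148 = n32133 := rfl
theorem F149655 : act 0 n32133 = n30560 := d8_1 D32133 F142115 (iv F140565)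
theorem F149656 : act 1 n32133 = n30176 := d16_1 D32133 (iv D30176) (iv F140566)
theorem F149657 : act 2 n32133 = n30988 := d23_1 D32133 F143639 (iv F140567)
theorem F149658 : act 4 n32133 = n30150 := d34_1 D32133 (iv D30150) (iv F140568)
theorem F149659 : act 6 n32133 = n30559 := d41_1 D32133 F142110 (iv F140569)
theorem F149660 : act 8 n32133 = n32133 := d44_1 D32133 (iv D32133) (iv D30148) F113178 D30148
def n32134 : Q := act 9 n30149
theorem D32134 : act 9 n30149 = n32134 := rfl
theorem F149661 : act 0 n32134 = n30629 := d8_1 D32134 F142390 (iv F140570)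
theorem F149662 : act 1 n32134 = n30177 := d16_1 D32134 (iv D30177) (iv F140571)
theorem F149663 : act 2 n32134 = n31102 := d23_1 D32134 F144207 (iv F140572)
theorem F149664 : act 3 n32134 = n30152 := d29_1 D32134 (iv D30152) (iv F140573)
theorem F149665 : act 5 n32134 = n30238 := d38_1 D32134 (iv D30238) (iv F140574)
theorem F149666 : act 6 n32134 = n30643 := d41_1 D32134 F142451 (iv F140575)
theorem F149667 : act 7 n32134 = n30150 := d43_1 D32134 (iv D30150) (iv F140576)
theorem F149668 : act 8 n32134 = n32134 := d44_1 D32134 (iv D32134) (iv D30149) F113182 D30149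
def n32135 : Q := act 5 n30151
theorem D32135 : act 5 n30151 = n32135 := rfl
theorem F149669 : act 0 n32135 = n30197 := d4_1 D32135 F140748 (iv F140584)
theorem F149670 : act 1 n32135 = n30178 := d12_1 D32135 (iv D30178) (iv F140585)
theorem F149671 : act 2 n32135 = n32135 := d19_1 D32135 (iv D32135) F140586
theorem F149672 : act 3 n32135 = n30657 := d25_1 D32135 F142513 (iv F140587)
theorem F149673 : act 6 n32135 = n30239 := d35_2 (iv F140588) D32135 (iv D30239) F113822 (iv F113192)
theorem F149674 : act 7 n32135 = n30195 := d36_2 (iv F140589) D32135 (iv D30195)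
theorem F149675 : act 8 n32135 = n32135 := d37_2 D30151 D32135 (iv D32135) (iv D30151) F113188
def n32136 : Q := act 4 n30153
theorem D32136 : act 4 n30153 = n32136 := rfl
theorem F149676 : act 0 n32136 = n30679 := d3_1 D32136 (iv D30679) (iv F140595)
theorem F149677 : act 3 n32136 = n30250 := d24_1 D32136 (iv D30250) F113846 (iv F113208) (iv F140596)
theorem F149678 : act 6 n32136 = n30162 := d31_2 (iv F140597) D32136 (iv D30162)
def n32137 : Q := act 7 n30153
theorem D32137 : act 7 n30153 = n32137 := rfl
theorem F149679 : act 0 n32137 = n30680 := d6_1 D32137 (iv D30680) (iv F140595)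
theorem F149680 : act 3 n32137 = n30155 := d27_1 D32137 (iv D30155) (iv F140596)
theorem F149681 : act 5 n32137 = n30154 := d36_1 D32137 (iv D30154) D30153
def n32138 : Q := act 6 n30155
theorem D32138 : act 6 n30155 = n32138 := rfl
theorem F149682 : act 0 n32138 = n30682 := d5_1 D32138 (iv D30682) (iv F140602)
theorem F149683 : act 2 n32138 = n30180 := d20_1 D32138 (iv D30180) (iv F140603)
theorem F149684 : act 4 n32138 = n30253 := d31_1 D32138 (iv D30253) (iv F140604)
theorem F149685 : act 5 n32138 = n30669 := d35_1 D32138 (iv D30669) F115560 (iv F113213) (iv F140605)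
theorem F149686 : act 7 n32138 = n30165 := d39_2 D30155 D32138 (iv D30165) (iv D25128) (iv F113209)
def n32139 : Q := act 4 n30156
theorem D32139 : act 4 n30156 = n32139 := rfl
theorem F149687 : act 0 n32139 = n30672 := d3_1 D32139 (iv D30672) (iv F140606)
theorem F149688 : act 5 n32139 = n30459 := d30_2 D30156 D32139 (iv D30459) (iv D25530) (iv F113223)
theorem F149689 : act 6 n32139 = n30667 := d31_2 (iv F140608) D32139 (iv D30667)
def n32140 : Q := act 7 n30156
theorem D32140 : act 7 n30156 = n32140 := rfl
theorem F149690 : act 0 n32140 = n30673 := d6_1 D32140 (iv D30673) (iv F140606)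
theorem F149691 : act 3 n32140 = n30158 := d27_1 D32140 (iv D30158) (iv F140607)
theorem F149692 : act 5 n32140 = n30157 := d36_1 D32140 (iv D30157) D30156
def n32141 : Q := act 6 n30158
theorem D32141 : act 6 n30158 = n32141 := rfl
theorem F149693 : act 0 n32141 = n30675 := d5_1 D32141 (iv D30675) (iv F140614)
theorem F149694 : act 2 n32141 = n30181 := d20_1 D32141 (iv D30181) (iv F140615)
theorem F149695 : act 5 n32141 = n30165 := d35_1 D32141 (iv D30165) F113246 (iv F113231) (iv F140616)
theorem F149696 : act 7 n32141 = n30669 := d39_2 D30158 D32141 (iv D30669) (iv D25734) (iv F113227)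
def n32142 : Q := act 5 n30159
theorem D32142 : act 5 n30159 = n32142 := rfl
theorem F149697 : act 1 n32142 = n30160 := d12_1 D32142 (iv D30160) (iv F140617)
theorem F149698 : act 3 n32142 = n30182 := d25_1 D32142 (iv D30182) (iv F140618)
def n32143 : Q := act 7 n30159
theorem D32143 : act 7 n30159 = n32143 := rfl
theorem F149699 : act 1 n32143 = n30161 := d14_1 D32143 (iv D30161) (iv F140617)
theorem F149700 : act 3 n32143 = n30183 := d27_1 D32143 (iv D30183) (iv F140618)
theorem F149701 : act 4 n32143 = n30477 := d32_1 D32143 (iv D30477) (iv F140619)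
theorem F149702 : act 8 n32143 = n30168 := d42_2 (iv F140620) D32143 (iv D30168)
def n32144 : Q := act 4 n30160
theorem D32144 : act 4 n30160 = n32144 := rfl
theorem F149703 : act 2 n32144 = n30162 := d18_1 D32144 (iv D30162) (iv F140621)
theorem F149704 : act 5 n32144 = n30478 := d30_2 D30160 D32144 (iv D30478) (iv D25542) (iv F113238)
def n32145 : Q := act 7 n30160
theorem D32145 : act 7 n30160 = n32145 := rfl
theorem F149705 : act 2 n32145 = n30163 := d21_1 D32145 (iv D30163) (iv F140621)
theorem F149706 : act 3 n32145 = n30185 := d27_1 D32145 (iv D30185) (iv F140622)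
theorem F149707 : act 5 n32145 = n30161 := d36_1 D32145 (iv D30161) D30160
def n32146 : Q := act 7 n30162
theorem D32146 : act 7 n30162 = n32146 := rfl
theorem F149708 : act 3 n32146 = n30261 := d27_1 D32146 (iv D30261) (iv F140627)
theorem F149709 : act 4 n32146 = n30163 := d32_1 D32146 (iv D30163) D30162
theorem F149710 : act 5 n32146 = n30481 := d36_1 D32146 (iv D30481) (iv F140628)
def n32147 : Q := act 8 n30162
theorem D32147 : act 8 n30162 = n32147 := rfl
theorem F149711 : act 3 n32147 = n30262 := d28_1 D32147 (iv D30262) (iv F140627)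
theorem F149712 : act 4 n32147 = n30164 := d33_1 D32147 (iv D30164) D30162
def n32148 : Q := act 6 n30163
theorem D32148 : act 6 n30163 = n32148 := rfl
theorem F149713 : act 3 n32148 = n30165 := d26_1 D32148 (iv D30165) (iv F140629)
def n32149 : Q := act 8 n30163
theorem D32149 : act 8 n30163 = n32149 := rfl
theorem F149714 : act 3 n32149 = n30166 := d28_1 D32149 (iv D30166) (iv F140629)
theorem F149715 : act 5 n32149 = n30171 := d37_1 D32149 (iv D30171) F113296 (iv F113243) (iv F140630)
theorem F149716 : act 7 n32149 = n30164 := d42_1 D32149 (iv D30164) D30163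
def n32150 : Q := act 9 n30164
theorem D32150 : act 9 n30164 = n32150 := rfl
theorem F149717 : act 3 n32150 = n30167 := d29_1 D32150 (iv D30167) (iv F140631)
theorem F149718 : act 5 n32150 = n30172 := d38_1 D32150 (iv D30172) (iv F140632)
def n32151 : Q := act 8 n30165
theorem D32151 : act 8 n30165 = n32151 := rfl
theorem F149719 : act 2 n32151 = n30188 := d22_1 D32151 (iv D30188) (iv F140633)
theorem F149720 : act 4 n32151 = n30266 := d33_1 D32151 (iv D30266) (iv F140634)
theorem F149721 : act 6 n32151 = n30166 := d40_1 D32151 (iv D30166) D30165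
def n32152 : Q := act 9 n30166
theorem D32152 : act 9 n30166 = n32152 := rfl
theorem F149722 : act 2 n32152 = n30189 := d23_1 D32152 (iv D30189) (iv F140635)
theorem F149723 : act 4 n32152 = n30267 := d34_1 D32152 (iv D30267) (iv F140636)
theorem F149724 : act 5 n32152 = n30173 := d38_1 D32152 (iv D30173) (iv F140637)
theorem F149725 : act 7 n32152 = n30167 := d43_1 D32152 (iv D30167) (iv F140638)
def n32153 : Q := act 8 n30169
theorem D32153 : act 8 n30169 = n32153 := rfl
theorem F149726 : act 3 n32153 = n30174 := d28_1 D32153 (iv D30174) (iv F140646)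
theorem F149727 : act 4 n32153 = n30171 := d33_1 D32153 (iv D30171) (iv F140647)
theorem F149728 : act 7 n32153 = n30170 := d42_1 D32153 (iv D30170) D30169
def n32154 : Q := act 5 n30170
theorem D32154 : act 5 n30170 = n32154 := rfl
theorem F149729 : act 3 n32154 = n30175 := d25_1 D32154 (iv D30175) (iv F140650)
theorem F149730 : act 8 n32154 = n30510 := d37_2 D30170 D32154 (iv D30510) (iv D25567) (iv F113293)
def n32155 : Q := act 9 n30170
theorem D32155 : act 9 n30170 = n32155 := rfl
theorem F149731 : act 3 n32155 = n30176 := d29_1 D32155 (iv D30176) (iv F140650)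
theorem F149732 : act 4 n32155 = n30172 := d34_1 D32155 (iv D30172) (iv F140651)
theorem F149733 : act 8 n32155 = n32155 := d44_1 D32155 (iv D32155) (iv D30170) F113294 D30170
def n32156 : Q := act 9 n30171
theorem D32156 : act 9 n30171 = n32156 := rfl
theorem F149734 : act 3 n32156 = n30173 := d29_1 D32156 (iv D30173) (iv F140652)
theorem F149735 : act 7 n32156 = n30172 := d43_1 D32156 (iv D30172) (iv F140653)
theorem F149736 : act 8 n32156 = n32156 := d44_1 D32156 (iv D32156) (iv D30171) F113297 D30171
def n32157 : Q := act 5 n30174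
theorem D32157 : act 5 n30174 = n32157 := rfl
theorem F149737 : act 2 n32157 = n32157 := d19_1 D32157 (iv D32157) F140660
theorem F149738 : act 4 n32157 = n30285 := d30_1 D32157 (iv D30285) F113931 (iv F113320) (iv F140661)
theorem F149739 : act 7 n32157 = n30175 := d36_2 (iv F140662) D32157 (iv D30175)
theorem F149740 : act 8 n32157 = n30517 := d37_2 D30174 D32157 (iv D30517) (iv D25574) (iv F113310)
def n32158 : Q := act 9 n30174
theorem D32158 : act 9 n30174 = n32158 := rfl
theorem F149741 : act 2 n32158 = n32158 := d23_1 D32158 (iv D32158) F140660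
theorem F149742 : act 4 n32158 = n30177 := d34_1 D32158 (iv D30177) (iv F140661)
theorem F149743 : act 7 n32158 = n30176 := d43_1 D32158 (iv D30176) (iv F140662)
theorem F149744 : act 8 n32158 = n32158 := d44_1 D32158 (iv D32158) (iv D30174) F113311 D30174
def n32159 : Q := act 6 n30175
theorem D32159 : act 6 n30175 = n32159 := rfl
theorem F149745 : act 2 n32159 = n32159 := d20_1 D32159 (iv D32159) F140663
theorem F149746 : act 4 n32159 = n30287 := d31_1 D32159 (iv D30287) (iv F140664)
theorem F149747 : act 8 n32159 = n30518 := d40_2 (iv F140665) D32159 (iv D30518)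
def n32160 : Q := act 9 n30175
theorem D32160 : act 9 n30175 = n32160 := rfl
theorem F149748 : act 2 n32160 = n32160 := d23_1 D32160 (iv D32160) F140663
theorem F149749 : act 4 n32160 = n30288 := d34_1 D32160 (iv D30288) (iv F140664)
theorem F149750 : act 5 n32160 = n30176 := d38_1 D32160 (iv D30176) D30175
def n32161 : Q := act 4 n30178
theorem D32161 : act 4 n30178 = n32161 := rfl
theorem F149751 : act 2 n32161 = n30190 := d18_1 D32161 (iv D30190) (iv F140674)
theorem F149752 : act 6 n32161 = n30291 := d31_2 (iv F140675) D32161 (iv D30291)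
theorem F149753 : act 8 n32161 = n32161 := d33_2 F140676 D32161 (iv D32161)
def n32162 : Q := act 9 n30178
theorem D32162 : act 9 n30178 = n32162 := rfl
theorem F149754 : act 0 n32162 = n30874 := d8_1 D32162 (iv F144723) F144716
theorem F149755 : act 2 n32162 = n30191 := d23_1 D32162 (iv D30191) (iv F140674)
theorem F149756 : act 5 n32162 = n30179 := d38_1 D32162 (iv D30179) D30178
theorem F149757 : act 6 n32162 = n30292 := d41_1 D32162 (iv D30292) (iv F140675)
theorem F149758 : act 7 n32162 = n30872 := d43_1 D32162 (iv F144780) F144778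
def n32163 : Q := act 4 n30182
theorem D32163 : act 4 n30182 = n32163 := rfl
theorem F149759 : act 1 n32163 = n30184 := d11_1 D32163 (iv D30184) (iv F140691)
theorem F149760 : act 2 n32163 = n32163 := d18_1 D32163 (iv D32163) F140692
theorem F149761 : act 5 n32163 = n30196 := d30_2 D30182 D32163 (iv D30196) (iv D25208) (iv F113391)
def n32164 : Q := act 7 n30182
theorem D32164 : act 7 n30182 = n32164 := rfl
theorem F149762 : act 1 n32164 = n30185 := d14_1 D32164 (iv D30185) (iv F140691)
theorem F149763 : act 2 n32164 = n32164 := d21_1 D32164 (iv D32164) F140692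
theorem F149764 : act 5 n32164 = n30183 := d36_1 D32164 (iv D30183) D30182
def n32165 : Q := act 3 n30184
theorem D32165 : act 3 n30184 = n32165 := rfl
theorem F149765 : act 2 n32165 = n30306 := d17_1 D32165 (iv D30306) F113995 (iv F113398) (iv F140697)
theorem F149766 : act 5 n32165 = n30198 := d25_2 (iv F140698) D32165 (iv D30198)
def n32166 : Q := act 7 n30184
theorem D32166 : act 7 n30184 = n32166 := rfl
theorem F149767 : act 2 n32166 = n30186 := d21_1 D32166 (iv D30186) (iv F140697)
theorem F149768 : act 4 n32166 = n30185 := d32_1 D32166 (iv D30185) D30184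
theorem F149769 : act 5 n32166 = n30199 := d36_1 D32166 (iv D30199) (iv F140698)
def n32167 : Q := act 6 n30185
theorem D32167 : act 6 n30185 = n32167 := rfl
theorem F149770 : act 2 n32167 = n30187 := d20_1 D32167 (iv D30187) (iv F140699)
def n32168 : Q := act 6 n30186
theorem D32168 : act 6 n30186 = n32168 := rfl
theorem F149771 : act 1 n32168 = n32168 := d13_1 D32168 (iv D32168) F140701
theorem F149772 : act 3 n32168 = n30312 := d26_1 D32168 (iv D30312) (iv F140702)
theorem F149773 : act 4 n32168 = n30187 := d31_1 D32168 (iv D30187) (iv F140703)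
def n32169 : Q := act 9 n30188
theorem D32169 : act 9 n30188 = n32169 := rfl
theorem F149774 : act 1 n32169 = n32169 := d16_1 D32169 (iv D32169) F140707
theorem F149775 : act 4 n32169 = n30317 := d34_1 D32169 (iv D30317) (iv F140708)
theorem F149776 : act 6 n32169 = n30189 := d41_1 D32169 (iv D30189) (iv F140709)
def n32170 : Q := act 3 n30190
theorem D32170 : act 3 n30190 = n32170 := rfl
theorem F149777 : act 0 n32170 = n31096 := d2_1 D32170 F144772 F144765
theorem F149778 : act 1 n32170 = n32170 := d10_1 D32170 (iv D32170) F140714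
theorem F149779 : act 4 n32170 = n32170 := d24_2 D30190 D32170 (iv D32170) (iv D30190) F113502
theorem F149780 : act 6 n32170 = n30325 := d26_2 (iv F140715) D32170 (iv D30325)
theorem F149781 : act 7 n32170 = n31094 := d27_2 F148379 D32170 (iv F148376)
theorem F149782 : act 8 n32170 = n32170 := d28_2 F140716 D32170 (iv D32170)
theorem F149783 : act 9 n31093 = n32170 := d43_0 F149781 (iv D31094) (iv F144163)
def n32171 : Q := act 9 n30190
theorem D32171 : act 9 n30190 = n32171 := rfl
theorem F149784 : act 0 n32171 = n31034 := d8_1 D32171 (iv F144771) F144765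
theorem F149785 : act 1 n32171 = n32171 := d16_1 D32171 (iv D32171) F140714
theorem F149786 : act 3 n32171 = n31093 := d29_1 D32171 F149783 (iv D32170)
theorem F149787 : act 4 n32171 = n30191 := d34_1 D32171 (iv D30191) D30190
theorem F149788 : act 6 n32171 = n30326 := d41_1 D32171 (iv D30326) (iv F140715)
theorem F149789 : act 7 n32171 = n31031 := d43_1 D32171 F148381 F148379
theorem F149790 : act 8 n31030 = n32171 := d42_0 F149789 (iv D31031) D31030
def n32172 : Q := act 8 n30191
theorem D32172 : act 8 n30191 = n32172 := rfl
theorem F149791 : act 0 n32172 = n31032 := d7_1 D32172 F143896 (iv F140717)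
theorem F149792 : act 1 n32172 = n32172 := d15_1 D32172 (iv D32172) F140718
theorem F149793 : act 3 n32172 = n32172 := d28_1 D32172 (iv D32172) F140719
theorem F149794 : act 4 n32172 = n31030 := d33_1 D32172 F149790 F149787
theorem F149795 : act 5 n32172 = n32172 := d37_1 D32172 (iv D32172) F140720 F113508 (iv F140720)
theorem F149796 : act 6 n32172 = n30327 := d40_1 D32172 (iv D30327) (iv F140721)
theorem F149797 : act 7 n32172 = n31029 := d42_1 D32172 (iv F143881) (iv F140722)
theorem F149798 : act 9 n32172 = n32172 := d44_2 D30191 D32172 (iv D32172) (iv D30191) F113504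
def n32173 : Q := act 6 n30192
theorem D32173 : act 6 n30192 = n32173 := rfl
theorem F149799 : act 0 n32173 = n31151 := d5_1 D32173 F144415 (iv F140723)
theorem F149800 : act 1 n32173 = n32173 := d13_1 D32173 (iv D32173) F140724
theorem F149801 : act 3 n32173 = n30368 := d26_1 D32173 F147038 F147034
theorem F149802 : act 4 n32173 = n30193 := d31_1 D32173 (iv D30193) (iv F140725)
theorem F149803 : act 7 n32173 = n32173 := d39_2 D30192 D32173 (iv D32173) (iv D30192) F113526
theorem F149804 : act 8 n32173 = n30365 := d40_2 (iv F140726) D32173 F141369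
def n32174 : Q := act 4 n30195
theorem D32174 : act 4 n30195 = n32174 := rfl
theorem F149805 : act 0 n32174 = n30196 := d3_1 D32174 (iv D30196) (iv F140736)
theorem F149806 : act 2 n32174 = n32174 := d18_1 D32174 (iv D32174) F140737
theorem F149807 : act 6 n32174 = n32174 := d31_2 F140739 D32174 (iv D32174)
theorem F149808 : act 8 n32174 = n32174 := d33_2 F140740 D32174 (iv D32174)
def n32175 : Q := act 3 n30196
theorem D32175 : act 3 n30196 = n32175 := rfl
theorem F149809 : act 1 n32175 = n30198 := d10_1 D32175 (iv D30198) (iv F140741)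
theorem F149810 : act 4 n32175 = n30658 := d24_2 D30196 D32175 (iv D30658) (iv D25716) (iv F113552)
theorem F149811 : act 6 n32175 = n32175 := d26_2 F140743 D32175 (iv D32175)
theorem F149812 : act 8 n32175 = n32175 := d28_2 F140744 D32175 (iv D32175)
def n32176 : Q := act 7 n30196
theorem D32176 : act 7 n30196 = n32176 := rfl
theorem F149813 : act 1 n32176 = n30199 := d14_1 D32176 (iv D30199) (iv F140741)
theorem F149814 : act 2 n32176 = n32176 := d21_1 D32176 (iv D32176) F140742
theorem F149815 : act 4 n32176 = n30197 := d32_1 D32176 (iv D30197) D30196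
theorem F149816 : act 8 n32176 = n32176 := d42_2 F140744 D32176 (iv D32176)
def n32177 : Q := act 6 n30197
theorem D32177 : act 6 n30197 = n32177 := rfl
theorem F149817 : act 0 n32177 = n30239 := d5_1 D32177 (iv F149673) F149669
theorem F149818 : act 1 n32177 = n30200 := d13_1 D32177 (iv D30200) (iv F140745)
theorem F149819 : act 2 n32177 = n32177 := d20_1 D32177 (iv D32177) F140746
theorem F149820 : act 3 n32177 = n30660 := d26_1 D32177 (iv D30660) (iv F140747)
theorem F149821 : act 5 n32177 = n30214 := d35_1 D32177 F140827 (iv F140501) F140502 (iv F140748)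
theorem F149822 : act 7 n32177 = n32177 := d39_2 D30197 D32177 (iv D32177) (iv D30197) F113553
theorem F149823 : act 8 n32177 = n32177 := d40_2 F140749 D32177 (iv D32177)
def n32178 : Q := act 7 n30198
theorem D32178 : act 7 n30198 = n32178 := rfl
theorem F149824 : act 2 n32178 = n30331 := d21_1 D32178 (iv D30331) (iv F140750)
theorem F149825 : act 3 n32178 = n30199 := d27_1 D32178 (iv D30199) D30198
theorem F149826 : act 4 n32178 = n30661 := d32_1 D32178 (iv D30661) (iv F140751)
theorem F149827 : act 8 n32178 = n32178 := d42_2 F140753 D32178 (iv D32178)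
def n32179 : Q := act 6 n30199
theorem D32179 : act 6 n30199 = n32179 := rfl
theorem F149828 : act 2 n32179 = n30201 := d20_1 D32179 (iv D30201) (iv F140754)
theorem F149829 : act 4 n32179 = n30200 := d31_1 D32179 (iv D30200) (iv F140755)
theorem F149830 : act 7 n32179 = n32179 := d39_2 D30199 D32179 (iv D32179) (iv D30199) F113560
theorem F149831 : act 8 n32179 = n32179 := d40_2 F140756 D32179 (iv D32179)
def n32180 : Q := act 5 n30201
theorem D32180 : act 5 n30201 = n32180 := rfl
theorem F149832 : act 1 n32180 = n32180 := d12_1 D32180 (iv D32180) F140761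
theorem F149833 : act 3 n32180 = n30333 := d25_1 D32180 (iv D30333) (iv F140762)
theorem F149834 : act 7 n32180 = n32180 := d36_2 F140764 D32180 (iv D32180)
def n32181 : Q := act 4 n30202
theorem D32181 : act 4 n30202 = n32181 := rfl
theorem F149835 : act 0 n32181 = n30225 := d3_1 D32181 (iv D30225) (iv F140766)
theorem F149836 : act 5 n32181 = n30667 := d30_2 D30202 D32181 (iv D30667) (iv D25732) (iv F113637)
def n32182 : Q := act 7 n30202
theorem D32182 : act 7 n30202 = n32182 := rfl
theorem F149837 : act 0 n32182 = n30226 := d6_1 D32182 (iv D30226) (iv F140766)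
theorem F149838 : act 3 n32182 = n30204 := d27_1 D32182 (iv D30204) (iv F140767)
theorem F149839 : act 5 n32182 = n30203 := d36_1 D32182 (iv D30203) D30202
def n32183 : Q := act 8 n30202
theorem D32183 : act 8 n30202 = n32183 := rfl
theorem F149840 : act 0 n32183 = n30227 := d7_1 D32183 (iv D30227) (iv F140766)
theorem F149841 : act 2 n32183 = n30903 := d22_1 D32183 (iv F148107) F148105
theorem F149842 : act 3 n32183 = n30205 := d28_1 D32183 (iv D30205) (iv F140767)
theorem F149843 : act 5 n32183 = n30207 := d37_1 D32183 (iv D30207) (iv D25232) (iv F113638) D30202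
def n32184 : Q := act 6 n30204
theorem D32184 : act 6 n30204 = n32184 := rfl
theorem F149844 : act 0 n32184 = n30228 := d5_1 D32184 (iv D30228) (iv F140772)
theorem F149845 : act 2 n32184 = n32184 := d20_1 D32184 (iv D32184) F140773
def n32185 : Q := act 8 n30204
theorem D32185 : act 8 n30204 = n32185 := rfl
theorem F149846 : act 0 n32185 = n30229 := d7_1 D32185 (iv D30229) (iv F140772)
theorem F149847 : act 2 n32185 = n32185 := d22_1 D32185 (iv D32185) F140773
theorem F149848 : act 5 n32185 = n30209 := d37_1 D32185 (iv D30209) F113665 (iv F113644) (iv F140774)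
theorem F149849 : act 7 n32185 = n30205 := d42_1 D32185 (iv D30205) D30204
def n32186 : Q := act 9 n30205
theorem D32186 : act 9 n30205 = n32186 := rfl
theorem F149850 : act 0 n32186 = n30230 := d8_1 D32186 (iv D30230) (iv F140775)
theorem F149851 : act 2 n32186 = n32186 := d23_1 D32186 (iv D32186) F140776
theorem F149852 : act 5 n32186 = n30210 := d38_1 D32186 (iv D30210) (iv F140777)
def n32187 : Q := act 6 n30206
theorem D32187 : act 6 n30206 = n32187 := rfl
theorem F149853 : act 0 n32187 = n30232 := d5_1 D32187 (iv D30232) (iv F140778)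
theorem F149854 : act 2 n32187 = n30901 := d20_1 D32187 (iv D30901) (iv F140779)
theorem F149855 : act 3 n32187 = n30208 := d26_1 D32187 (iv D30208) (iv F140780)
theorem F149856 : act 4 n32187 = n30898 := d31_1 D32187 (iv D30898) (iv F140781)
theorem F149857 : act 7 n32187 = n32187 := d39_2 D30206 D32187 (iv D32187) (iv D30206) F113656
theorem F149858 : act 9 n32187 = n30334 := d41_2 (iv F140783) D32187 (iv D30334)
def n32188 : Q := act 8 n30206
theorem D32188 : act 8 n30206 = n32188 := rfl
theorem F149859 : act 0 n32188 = n30233 := d7_1 D32188 (iv D30233) (iv F140778)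
theorem F149860 : act 2 n32188 = n30902 := d22_1 D32188 (iv D30902) (iv F140779)
theorem F149861 : act 3 n32188 = n30209 := d28_1 D32188 (iv D30209) (iv F140780)
theorem F149862 : act 4 n32188 = n30899 := d33_1 D32188 (iv D30899) (iv F140781)
theorem F149863 : act 7 n32188 = n30207 := d42_1 D32188 (iv D30207) D30206
def n32189 : Q := act 9 n30207
theorem D32189 : act 9 n30207 = n32189 := rfl
theorem F149864 : act 0 n32189 = n30234 := d8_1 D32189 (iv D30234) (iv F140784)
theorem F149865 : act 2 n32189 = n30904 := d23_1 D32189 (iv D30904) (iv F140785)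
theorem F149866 : act 3 n32189 = n30210 := d29_1 D32189 (iv D30210) (iv F140786)
theorem F149867 : act 4 n32189 = n30900 := d34_1 D32189 (iv D30900) (iv F140787)
theorem F149868 : act 6 n32189 = n32189 := d41_1 D32189 (iv D32189) F140788
theorem F149869 : act 8 n32189 = n30336 := d44_1 D32189 (iv D30336) (iv D25366) (iv F113657) D30207
def n32190 : Q := act 8 n30208
theorem D32190 : act 8 n30208 = n32190 := rfl
theorem F149870 : act 0 n32190 = n30235 := d7_1 D32190 (iv D30235) (iv F140789)
theorem F149871 : act 2 n32190 = n32190 := d22_1 D32190 (iv D32190) F140790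
theorem F149872 : act 4 n32190 = n30214 := d33_1 D32190 (iv D30214) (iv F140791)
theorem F149873 : act 6 n32190 = n30209 := d40_1 D32190 (iv D30209) D30208
theorem F149874 : act 7 n32190 = n32190 := d42_1 D32190 (iv D32190) F140792
def n32191 : Q := act 9 n30209
theorem D32191 : act 9 n30209 = n32191 := rfl
theorem F149875 : act 0 n32191 = n30236 := d8_1 D32191 (iv D30236) (iv F140794)
theorem F149876 : act 2 n32191 = n32191 := d23_1 D32191 (iv D32191) F140795
theorem F149877 : act 4 n32191 = n30215 := d34_1 D32191 (iv D30215) (iv F140796)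
theorem F149878 : act 7 n32191 = n30210 := d43_1 D32191 (iv D30210) (iv F140797)
theorem F149879 : act 8 n32191 = n30338 := d44_1 D32191 (iv D30338) (iv D25368) (iv F113666) D30209
def n32192 : Q := act 8 n30211
theorem D32192 : act 8 n30211 = n32192 := rfl
theorem F149880 : act 0 n32192 = n30237 := d7_1 D32192 (iv D30237) (iv F140803)
theorem F149881 : act 1 n32192 = n30638 := d15_1 D32192 (iv F144907) F144901
theorem F149882 : act 2 n32192 = n30920 := d22_1 D32192 (iv D30920) (iv F140804)
theorem F149883 : act 3 n32192 = n30214 := d28_1 D32192 (iv D30214) (iv F140805)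
theorem F149884 : act 4 n32192 = n30918 := d33_1 D32192 (iv D30918) (iv F140806)
theorem F149885 : act 6 n32192 = n30212 := d40_1 D32192 (iv D30212) D30211
theorem F149886 : act 7 n32192 = n32192 := d42_1 D32192 (iv D32192) F140808
theorem F149887 : act 5 n30660 = n32192 := d35_5 F149885 F140815 F115398 (iv F115492) D30660
def n32193 : Q := act 9 n30212
theorem D32193 : act 9 n30212 = n32193 := rfl
theorem F149888 : act 0 n32193 = n30238 := d8_1 D32193 (iv D30238) (iv F140810)
theorem F149889 : act 1 n32193 = n30631 := d16_1 D32193 F142398 (iv F140811)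
theorem F149890 : act 2 n32193 = n30921 := d23_1 D32193 (iv D30921) (iv F140812)
theorem F149891 : act 3 n32193 = n30215 := d29_1 D32193 (iv D30215) (iv F140813)
theorem F149892 : act 4 n32193 = n30919 := d34_1 D32193 (iv D30919) (iv F140814)
theorem F149893 : act 5 n32193 = n30629 := d38_1 D32193 F142390 (iv F140815)
theorem F149894 : act 7 n32193 = n30213 := d43_1 D32193 (iv D30213) (iv F140816)
theorem F149895 : act 8 n32193 = n30340 := d44_1 D32193 (iv D30340) (iv D25378) (iv F113694) D30212
def n32194 : Q := act 9 n30214
theorem D32194 : act 9 n30214 = n32194 := rfl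
theorem F149896 : act 0 n32194 = n30240 := d8_1 D32194 (iv D30240) (iv F140825)
theorem F149897 : act 2 n32194 = n32194 := d23_1 D32194 (iv D32194) F140826
theorem F149898 : act 6 n32194 = n30215 := d41_1 D32194 (iv D30215) (iv F140827)
theorem F149899 : act 7 n32194 = n32194 := d43_1 D32194 (iv D32194) F140828
theorem F149900 : act 8 n32194 = n30342 := d44_1 D32194 (iv D30342) (iv D25380) (iv F113702) D30214
def n32195 : Q := act 6 n30216
theorem D32195 : act 6 n30216 = n32195 := rfl
theorem F149901 : act 1 n32195 = n30217 := d13_1 D32195 (iv D30217) D30216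
theorem F149902 : act 2 n32195 = n30247 := d20_1 D32195 (iv D30247) (iv F140833)
theorem F149903 : act 3 n32195 = n32195 := d26_1 D32195 (iv D32195) F140834
theorem F149904 : act 8 n32195 = n32195 := d40_2 F140837 D32195 (iv D32195)
def n32196 : Q := act 5 n30217
theorem D32196 : act 5 n30217 = n32196 := rfl
theorem F149905 : act 2 n32196 = n30218 := d19_1 D32196 (iv D30218) (iv F140838)
theorem F149906 : act 3 n32196 = n32196 := d25_1 D32196 (iv D32196) F140839
theorem F149907 : act 6 n32196 = n30223 := d35_2 D30217 D32196 (iv D30223) (iv D25250) (iv F113711)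
def n32197 : Q := act 7 n30217
theorem D32197 : act 7 n30217 = n32197 := rfl
theorem F149908 : act 2 n32197 = n30219 := d21_1 D32197 (iv D30219) (iv F140838)
theorem F149909 : act 3 n32197 = n32197 := d27_1 D32197 (iv D32197) F140839
theorem F149910 : act 8 n32197 = n32197 := d42_2 F140840 D32197 (iv D32197)
def n32198 : Q := act 4 n30218
theorem D32198 : act 4 n30218 = n32198 := rfl
theorem F149911 : act 1 n32198 = n30250 := d11_1 D32198 (iv D30250) (iv F140841)
theorem F149912 : act 6 n32198 = n30225 := d31_2 (iv F140843) D32198 (iv D30225)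
def n32199 : Q := act 7 n30218
theorem D32199 : act 7 n30218 = n32199 := rfl
theorem F149913 : act 1 n32199 = n30251 := d14_1 D32199 (iv D30251) (iv F140841)
theorem F149914 : act 3 n32199 = n30220 := d27_1 D32199 (iv D30220) (iv F140842)
theorem F149915 : act 5 n32199 = n30219 := d36_1 D32199 (iv D30219) D30218
def n32200 : Q := act 8 n30218
theorem D32200 : act 8 n30218 = n32200 := rfl
theorem F149916 : act 1 n32200 = n30252 := d15_1 D32200 (iv D30252) (iv F140841)
theorem F149917 : act 3 n32200 = n30221 := d28_1 D32200 (iv D30221) (iv F140842)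
theorem F149918 : act 5 n32200 = n32200 := d37_1 D32200 (iv D32200) (iv D30218) F113715 D30218
theorem F149919 : act 6 n32200 = n30227 := d40_1 D32200 (iv D30227) (iv F140843)
def n32201 : Q := act 6 n30220
theorem D32201 : act 6 n30220 = n32201 := rfl
theorem F149920 : act 1 n32201 = n30253 := d13_1 D32201 (iv D30253) (iv F140847)
theorem F149921 : act 2 n32201 = n32201 := d20_1 D32201 (iv D32201) F140848
theorem F149922 : act 7 n32201 = n30228 := d39_2 D30220 D32201 (iv D30228) (iv D25253) (iv F113718)
def n32202 : Q := act 8 n30220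
theorem D32202 : act 8 n30220 = n32202 := rfl
theorem F149923 : act 1 n32202 = n30254 := d15_1 D32202 (iv D30254) (iv F140847)
theorem F149924 : act 2 n32202 = n32202 := d22_1 D32202 (iv D32202) F140848
theorem F149925 : act 5 n32202 = n32202 := d37_1 D32202 (iv D32202) F140849 F113722 (iv F140849)
theorem F149926 : act 7 n32202 = n30221 := d42_1 D32202 (iv D30221) D30220
def n32203 : Q := act 9 n30221
theorem D32203 : act 9 n30221 = n32203 := rfl
theorem F149927 : act 1 n32203 = n30255 := d16_1 D32203 (iv D30255) (iv F140850)
theorem F149928 : act 2 n32203 = n32203 := d23_1 D32203 (iv D32203) F140851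
theorem F149929 : act 5 n32203 = n32203 := d38_1 D32203 (iv D32203) F140852
theorem F149930 : act 6 n32203 = n30230 := d41_1 D32203 (iv D30230) (iv F140853)
def n32204 : Q := act 5 n30222
theorem D32204 : act 5 n30222 = n32204 := rfl
theorem F149931 : act 1 n32204 = n30223 := d12_1 D32204 (iv D30223) (iv F140854)
theorem F149932 : act 2 n32204 = n30256 := d19_1 D32204 (iv D30256) (iv F140855)
theorem F149933 : act 3 n32204 = n32204 := d25_1 D32204 (iv D32204) F140856
def n32205 : Q := act 7 n30222
theorem D32205 : act 7 n30222 = n32205 := rfl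
theorem F149934 : act 1 n32205 = n30224 := d14_1 D32205 (iv D30224) (iv F140854)
theorem F149935 : act 2 n32205 = n30257 := d21_1 D32205 (iv D30257) (iv F140855)
theorem F149936 : act 3 n32205 = n32205 := d27_1 D32205 (iv D32205) F140856
theorem F149937 : act 4 n32205 = n30693 := d32_1 D32205 (iv D30693) (iv F140857)
theorem F149938 : act 6 n32205 = n30786 := d39_1 D32205 F142896 F116178 (iv F134683) D30222
theorem F149939 : act 8 n32205 = n30231 := d42_2 (iv F140858) D32205 (iv D30231)
def n32206 : Q := act 4 n30223
theorem D32206 : act 4 n30223 = n32206 := rfl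
theorem F149940 : act 2 n32206 = n30225 := d18_1 D32206 (iv D30225) (iv F140859)
theorem F149941 : act 5 n32206 = n30694 := d30_2 D30223 D32206 (iv D30694) (iv D25784) (iv F113729)
def n32207 : Q := act 7 n30223
theorem D32207 : act 7 n30223 = n32207 := rfl
theorem F149942 : act 2 n32207 = n30226 := d21_1 D32207 (iv D30226) (iv F140859)
theorem F149943 : act 3 n32207 = n32207 := d27_1 D32207 (iv D32207) F140860
theorem F149944 : act 5 n32207 = n30224 := d36_1 D32207 (iv D30224) D30223
def n32208 : Q := act 7 n30225
theorem D32208 : act 7 n30225 = n32208 := rfl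
theorem F149945 : act 1 n32208 = n30261 := d14_1 D32208 (iv D30261) (iv F140865)
theorem F149946 : act 4 n32208 = n30226 := d32_1 D32208 (iv D30226) D30225
theorem F149947 : act 5 n32208 = n30696 := d36_1 D32208 (iv D30696) (iv F140866)
def n32209 : Q := act 8 n30225
theorem D32209 : act 8 n30225 = n32209 := rfl
theorem F149948 : act 1 n32209 = n30262 := d15_1 D32209 (iv D30262) (iv F140865)
theorem F149949 : act 4 n32209 = n30227 := d33_1 D32209 (iv D30227) D30225
def n32210 : Q := act 6 n30226
theorem D32210 : act 6 n30226 = n32210 := rfl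
theorem F149950 : act 1 n32210 = n30263 := d13_1 D32210 (iv D30263) (iv F140867)
theorem F149951 : act 3 n32210 = n30228 := d26_1 D32210 (iv D30228) (iv F140868)
def n32211 : Q := act 8 n30226
theorem D32211 : act 8 n30226 = n32211 := rfl
theorem F149952 : act 1 n32211 = n30264 := d15_1 D32211 (iv D30264) (iv F140867)
theorem F149953 : act 3 n32211 = n30229 := d28_1 D32211 (iv D30229) (iv F140868)
theorem F149954 : act 5 n32211 = n30233 := d37_1 D32211 (iv D30233) F113768 (iv F113736) (iv F140869)
theorem F149955 : act 7 n32211 = n30227 := d42_1 D32211 (iv D30227) D30226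
def n32212 : Q := act 9 n30227
theorem D32212 : act 9 n30227 = n32212 := rfl
theorem F149956 : act 1 n32212 = n30265 := d16_1 D32212 (iv D30265) (iv F140870)
theorem F149957 : act 3 n32212 = n30230 := d29_1 D32212 (iv D30230) (iv F140871)
theorem F149958 : act 5 n32212 = n30234 := d38_1 D32212 (iv D30234) (iv F140872)
def n32213 : Q := act 8 n30228
theorem D32213 : act 8 n30228 = n32213 := rfl
theorem F149959 : act 1 n32213 = n30266 := d15_1 D32213 (iv D30266) (iv F140873)
theorem F149960 : act 2 n32213 = n32213 := d22_1 D32213 (iv D32213) F140874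
theorem F149961 : act 6 n32213 = n30229 := d40_1 D32213 (iv D30229) D30228
def n32214 : Q := act 9 n30229
theorem D32214 : act 9 n30229 = n32214 := rfl
theorem F149962 : act 1 n32214 = n30267 := d16_1 D32214 (iv D30267) (iv F140875)
theorem F149963 : act 2 n32214 = n32214 := d23_1 D32214 (iv D32214) F140876
theorem F149964 : act 5 n32214 = n30236 := d38_1 D32214 (iv D30236) (iv F140877)
theorem F149965 : act 7 n32214 = n30230 := d43_1 D32214 (iv D30230) (iv F140878)
def n32215 : Q := act 8 n30232
theorem D32215 : act 8 n30232 = n32215 := rfl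
theorem F149966 : act 1 n32215 = n30279 := d15_1 D32215 (iv D30279) (iv F140888)
theorem F149967 : act 3 n32215 = n30235 := d28_1 D32215 (iv D30235) (iv F140889)
theorem F149968 : act 6 n32215 = n30233 := d40_1 D32215 (iv D30233) D30232
theorem F149969 : act 7 n32215 = n32215 := d42_1 D32215 (iv D32215) F140890
def n32216 : Q := act 9 n30233
theorem D32216 : act 9 n30233 = n32216 := rfl
theorem F149970 : act 1 n32216 = n30280 := d16_1 D32216 (iv D30280) (iv F140892)
theorem F149971 : act 3 n32216 = n30236 := d29_1 D32216 (iv D30236) (iv F140893)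
theorem F149972 : act 7 n32216 = n30234 := d43_1 D32216 (iv D30234) (iv F140894)
theorem F149973 : act 8 n32216 = n30344 := d44_1 D32216 (iv D30344) (iv D25391) (iv F113769) D30233
def n32217 : Q := act 5 n30235
theorem D32217 : act 5 n30235 = n32217 := rfl
theorem F149974 : act 1 n32217 = n30281 := d12_1 D32217 (iv D30281) (iv F140899)
theorem F149975 : act 2 n32217 = n32217 := d19_1 D32217 (iv D32217) F140900
theorem F149976 : act 7 n32217 = n32217 := d36_2 F140903 D32217 (iv D32217)
def n32218 : Q := act 9 n30235
theorem D32218 : act 9 n30235 = n32218 := rfl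
theorem F149977 : act 1 n32218 = n30282 := d16_1 D32218 (iv D30282) (iv F140899)
theorem F149978 : act 2 n32218 = n32218 := d23_1 D32218 (iv D32218) F140900
theorem F149979 : act 4 n32218 = n30240 := d34_1 D32218 (iv D30240) (iv F140901)
theorem F149980 : act 6 n32218 = n30236 := d41_1 D32218 (iv D30236) (iv F140902)
theorem F149981 : act 7 n32218 = n32218 := d43_1 D32218 (iv D32218) F140903
theorem F149982 : act 8 n32218 = n30345 := d44_1 D32218 (iv D30345) (iv D25393) (iv F113777) D30235
def n32219 : Q := act 5 n30237
theorem D32219 : act 5 n30237 = n32219 := rfl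
theorem F149983 : act 0 n32219 = n30660 := d4_1 D32219 F149887 F149880
theorem F149984 : act 1 n32219 = n30289 := d12_1 D32219 (iv D30289) (iv F140909)
theorem F149985 : act 2 n32219 = n31113 := d19_1 D32219 F149086 F149081
theorem F149986 : act 3 n32219 = n30239 := d25_1 D32219 (iv D30239) (iv F140910)
theorem F149987 : act 6 n32219 = n30657 := d35_2 (iv F140911) D32219 F142513 (iv F140575) F140574
theorem F149988 : act 7 n32219 = n32219 := d36_2 F140912 D32219 (iv D32219)
theorem F149989 : act 8 n32219 = n32219 := d37_2 D30237 D32219 (iv D32219) (iv D30237) F113810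
def n32220 : Q := act 9 n30237
theorem D32220 : act 9 n30237 = n32220 := rfl
theorem F149990 : act 1 n32220 = n30290 := d16_1 D32220 (iv D30290) (iv F140909)
theorem F149991 : act 3 n32220 = n30240 := d29_1 D32220 (iv D30240) (iv F140910)
theorem F149992 : act 6 n32220 = n30238 := d41_1 D32220 (iv D30238) (iv F140911)
theorem F149993 : act 7 n32220 = n32220 := d43_1 D32220 (iv D32220) F140912
theorem F149994 : act 8 n32220 = n30347 := d44_1 D32220 (iv D30347) (iv D25405) (iv F113812) D30237
def n32221 : Q := act 4 n30239
theorem D32221 : act 4 n30239 = n32221 := rfl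
theorem F149995 : act 1 n32221 = n30291 := d11_1 D32221 (iv D30291) (iv F140917)
theorem F149996 : act 2 n32221 = n32221 := d18_1 D32221 (iv D32221) F140918
theorem F149997 : act 7 n32221 = n32221 := d32_2 F140919 D32221 (iv D32221)
theorem F149998 : act 8 n32221 = n32221 := d33_2 F140920 D32221 (iv D32221)
def n32222 : Q := act 9 n30239
theorem D32222 : act 9 n30239 = n32222 := rfl
theorem F149999 : act 1 n32222 = n30292 := d16_1 D32222 (iv D30292) (iv F140917)
theorem F150000 : act 2 n32222 = n32222 := d23_1 D32222 (iv D32222) F140918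
theorem F150001 : act 5 n32222 = n30240 := d38_1 D32222 (iv D30240) D30239
theorem F150002 : act 7 n32222 = n32222 := d43_1 D32222 (iv D32222) F140919
def n32223 : Q := act 6 n30241
theorem D32223 : act 6 n30241 = n32223 := rfl
theorem F150003 : act 1 n32223 = n30242 := d13_1 D32223 (iv D30242) D30241
theorem F150004 : act 3 n32223 = n32223 := d26_1 D32223 (iv D32223) F140926
theorem F150005 : act 4 n32223 = n30247 := d31_1 D32223 (iv D30247) (iv F140927)
theorem F150006 : act 8 n32223 = n32223 := d40_2 F140930 D32223 (iv D32223)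
def n32224 : Q := act 5 n30242
theorem D32224 : act 5 n30242 = n32224 := rfl
theorem F150007 : act 2 n32224 = n30243 := d19_1 D32224 (iv D30243) (iv F140931)
theorem F150008 : act 3 n32224 = n32224 := d25_1 D32224 (iv D32224) F140932
theorem F150009 : act 6 n32224 = n30709 := d35_2 D30242 D32224 (iv D30709) (iv D25834) (iv F113830)
def n32225 : Q := act 7 n30242
theorem D32225 : act 7 n30242 = n32225 := rfl
theorem F150010 : act 2 n32225 = n30244 := d21_1 D32225 (iv D30244) (iv F140931)
theorem F150011 : act 3 n32225 = n32225 := d27_1 D32225 (iv D32225) F140932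
theorem F150012 : act 4 n32225 = n30249 := d32_1 D32225 (iv D30249) (iv F140933)
theorem F150013 : act 8 n32225 = n32225 := d42_2 F140934 D32225 (iv D32225)
def n32226 : Q := act 4 n30243
theorem D32226 : act 4 n30243 = n32226 := rfl
theorem F150014 : act 5 n32226 = n30250 := d30_2 D30243 D32226 (iv D30250) (iv D25281) (iv F113833)
theorem F150015 : act 6 n32226 = n30711 := d31_2 (iv F140936) D32226 (iv D30711)
def n32227 : Q := act 7 n30243
theorem D32227 : act 7 n30243 = n32227 := rfl
theorem F150016 : act 3 n32227 = n30245 := d27_1 D32227 (iv D30245) (iv F140935)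
theorem F150017 : act 5 n32227 = n30244 := d36_1 D32227 (iv D30244) D30243
def n32228 : Q := act 8 n30243
theorem D32228 : act 8 n30243 = n32228 := rfl
theorem F150018 : act 3 n32228 = n30246 := d28_1 D32228 (iv D30246) (iv F140935)
theorem F150019 : act 5 n32228 = n32228 := d37_1 D32228 (iv D32228) (iv D30243) F113834 D30243
theorem F150020 : act 6 n32228 = n30713 := d40_1 D32228 (iv D30713) (iv F140936)
def n32229 : Q := act 6 n30245
theorem D32229 : act 6 n30245 = n32229 := rfl
theorem F150021 : act 2 n32229 = n32229 := d20_1 D32229 (iv D32229) F140940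
theorem F150022 : act 7 n32229 = n30714 := d39_2 D30245 D32229 (iv D30714) (iv D25837) (iv F113836)
def n32230 : Q := act 8 n30245
theorem D32230 : act 8 n30245 = n32230 := rfl
theorem F150023 : act 2 n32230 = n32230 := d22_1 D32230 (iv D32230) F140940
theorem F150024 : act 5 n32230 = n32230 := d37_1 D32230 (iv D32230) F140941 F113839 (iv F140941)
theorem F150025 : act 7 n32230 = n30246 := d42_1 D32230 (iv D30246) D30245
def n32231 : Q := act 9 n30246
theorem D32231 : act 9 n30246 = n32231 := rfl
theorem F150026 : act 1 n32231 = n30308 := d16_1 D32231 (iv F146056) F146051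
theorem F150027 : act 2 n32231 = n32231 := d23_1 D32231 (iv D32231) F140942
theorem F150028 : act 4 n32231 = n30305 := d34_1 D32231 (iv F147293) F147290
theorem F150029 : act 5 n32231 = n32231 := d38_1 D32231 (iv D32231) F140943
theorem F150030 : act 6 n32231 = n30716 := d41_1 D32231 (iv D30716) (iv F140944)
theorem F150031 : act 8 n32231 = n30303 := d44_1 D32231 F145762 (iv D31368) F136884 D30246
def n32232 : Q := act 5 n30247
theorem D32232 : act 5 n30247 = n32232 := rfl
theorem F150032 : act 1 n32232 = n30248 := d12_1 D32232 (iv D30248) (iv F140945)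
theorem F150033 : act 3 n32232 = n30293 := d25_1 D32232 (iv D30293) (iv F140946)
theorem F150034 : act 6 n32232 = n30256 := d35_2 D30247 D32232 (iv D30256) (iv D25286) (iv F113841)
def n32233 : Q := act 7 n30247
theorem D32233 : act 7 n30247 = n32233 := rfl
theorem F150035 : act 1 n32233 = n30249 := d14_1 D32233 (iv D30249) (iv F140945)
theorem F150036 : act 3 n32233 = n30294 := d27_1 D32233 (iv D30294) (iv F140946)
theorem F150037 : act 6 n32233 = n30947 := d39_1 D32233 (iv D30947) (iv D26644) (iv F134694) D30247
theorem F150038 : act 8 n32233 = n32233 := d42_2 F140947 D32233 (iv D32233)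
def n32234 : Q := act 4 n30248
theorem D32234 : act 4 n30248 = n32234 := rfl
theorem F150039 : act 2 n32234 = n30250 := d18_1 D32234 (iv D30250) (iv F140948)
theorem F150040 : act 6 n32234 = n30258 := d31_2 (iv F140950) D32234 (iv D30258)
def n32235 : Q := act 7 n30248
theorem D32235 : act 7 n30248 = n32235 := rfl
theorem F150041 : act 2 n32235 = n30251 := d21_1 D32235 (iv D30251) (iv F140948)
theorem F150042 : act 3 n32235 = n30296 := d27_1 D32235 (iv D30296) (iv F140949)
theorem F150043 : act 5 n32235 = n30249 := d36_1 D32235 (iv D30249) D30248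
def n32236 : Q := act 8 n30248
theorem D32236 : act 8 n30248 = n32236 := rfl
theorem F150044 : act 2 n32236 = n30252 := d22_1 D32236 (iv D30252) (iv F140948)
theorem F150045 : act 3 n32236 = n30297 := d28_1 D32236 (iv D30297) (iv F140949)
theorem F150046 : act 5 n32236 = n32236 := d37_1 D32236 (iv D32236) (iv D30248) F113845 D30248
theorem F150047 : act 6 n32236 = n30260 := d40_1 D32236 (iv D30260) (iv F140950)
def n32237 : Q := act 7 n30250
theorem D32237 : act 7 n30250 = n32237 := rfl
theorem F150048 : act 4 n32237 = n30251 := d32_1 D32237 (iv D30251) D30250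
def n32238 : Q := act 8 n30250
theorem D32238 : act 8 n30250 = n32238 := rfl
theorem F150049 : act 4 n32238 = n30252 := d33_1 D32238 (iv D30252) D30250
theorem F150050 : act 6 n32238 = n30262 := d40_1 D32238 (iv D30262) (iv F140954)
def n32239 : Q := act 6 n30251
theorem D32239 : act 6 n30251 = n32239 := rfl
theorem F150051 : act 3 n32239 = n30253 := d26_1 D32239 (iv D30253) (iv F140955)
theorem F150052 : act 7 n32239 = n30263 := d39_2 D30251 D32239 (iv D30263) (iv D25290) (iv F113847)
def n32240 : Q := act 8 n30251
theorem D32240 : act 8 n30251 = n32240 := rfl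
theorem F150053 : act 3 n32240 = n30254 := d28_1 D32240 (iv D30254) (iv F140955)
theorem F150054 : act 5 n32240 = n32240 := d37_1 D32240 (iv D32240) F140956 F113849 (iv F140956)
theorem F150055 : act 7 n32240 = n30252 := d42_1 D32240 (iv D30252) D30251
def n32241 : Q := act 9 n30252
theorem D32241 : act 9 n30252 = n32241 := rfl
theorem F150056 : act 3 n32241 = n30255 := d29_1 D32241 (iv D30255) (iv F140957)
theorem F150057 : act 5 n32241 = n32241 := d38_1 D32241 (iv D32241) F140958
theorem F150058 : act 6 n32241 = n30265 := d41_1 D32241 (iv D30265) (iv F140959)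
def n32242 : Q := act 8 n30253
theorem D32242 : act 8 n30253 = n32242 := rfl
theorem F150059 : act 2 n32242 = n30301 := d22_1 D32242 (iv D30301) (iv F140960)
theorem F150060 : act 6 n32242 = n30254 := d40_1 D32242 (iv D30254) D30253
theorem F150061 : act 7 n32242 = n30266 := d42_1 D32242 (iv D30266) (iv F140961)
def n32243 : Q := act 9 n30254
theorem D32243 : act 9 n30254 = n32243 := rfl
theorem F150062 : act 2 n32243 = n30302 := d23_1 D32243 (iv D30302) (iv F140962)
theorem F150063 : act 5 n32243 = n32243 := d38_1 D32243 (iv D32243) F140963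
theorem F150064 : act 7 n32243 = n30255 := d43_1 D32243 (iv D30255) (iv F140964)
def n32244 : Q := act 4 n30256
theorem D32244 : act 4 n30256 = n32244 := rfl
theorem F150065 : act 1 n32244 = n30258 := d11_1 D32244 (iv D30258) (iv F140968)
theorem F150066 : act 5 n32244 = n30768 := d30_2 D30256 D32244 (iv D30768) (iv D25888) (iv F113860)
def n32245 : Q := act 7 n30256
theorem D32245 : act 7 n30256 = n32245 := rfl
theorem F150067 : act 1 n32245 = n30259 := d14_1 D32245 (iv D30259) (iv F140968)
theorem F150068 : act 3 n32245 = n30304 := d27_1 D32245 (iv D30304) (iv F140969)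
theorem F150069 : act 5 n32245 = n30257 := d36_1 D32245 (iv D30257) D30256
def n32246 : Q := act 8 n30256
theorem D32246 : act 8 n30256 = n32246 := rfl
theorem F150070 : act 1 n32246 = n30260 := d15_1 D32246 (iv D30260) (iv F140968)
theorem F150071 : act 3 n32246 = n30305 := d28_1 D32246 (iv D30305) (iv F140969)
theorem F150072 : act 5 n32246 = n30269 := d37_1 D32246 (iv D30269) (iv D25296) (iv F113861) D30256
def n32247 : Q := act 3 n30258
theorem D32247 : act 3 n30258 = n32247 := rfl
theorem F150073 : act 4 n32247 = n30306 := d24_2 D30258 D32247 (iv D30306) (iv D25329) (iv F113863)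
theorem F150074 : act 5 n32247 = n30770 := d25_2 (iv F140976) D32247 (iv D30770)
def n32248 : Q := act 7 n30258
theorem D32248 : act 7 n30258 = n32248 := rfl
theorem F150075 : act 2 n32248 = n30261 := d21_1 D32248 (iv D30261) (iv F140975)
theorem F150076 : act 4 n32248 = n30259 := d32_1 D32248 (iv D30259) D30258
theorem F150077 : act 5 n32248 = n30771 := d36_1 D32248 (iv D30771) (iv F140976)
def n32249 : Q := act 8 n30258
theorem D32249 : act 8 n30258 = n32249 := rfl
theorem F150078 : act 2 n32249 = n30262 := d22_1 D32249 (iv D30262) (iv F140975)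
theorem F150079 : act 4 n32249 = n30260 := d33_1 D32249 (iv D30260) D30258
def n32250 : Q := act 6 n30259
theorem D32250 : act 6 n30259 = n32250 := rfl
theorem F150080 : act 2 n32250 = n30263 := d20_1 D32250 (iv D30263) (iv F140977)
theorem F150081 : act 3 n32250 = n30309 := d26_1 D32250 (iv D30309) (iv F140978)
def n32251 : Q := act 8 n30259
theorem D32251 : act 8 n30259 = n32251 := rfl
theorem F150082 : act 2 n32251 = n30264 := d22_1 D32251 (iv D30264) (iv F140977)
theorem F150083 : act 3 n32251 = n30310 := d28_1 D32251 (iv D30310) (iv F140978)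
theorem F150084 : act 5 n32251 = n30273 := d37_1 D32251 (iv D30273) F113898 (iv F113867) (iv F140979)
theorem F150085 : act 7 n32251 = n30260 := d42_1 D32251 (iv D30260) D30259
def n32252 : Q := act 9 n30260
theorem D32252 : act 9 n30260 = n32252 := rfl
theorem F150086 : act 0 n32252 = n30690 := d8_1 D32252 (iv F145163) F145158
theorem F150087 : act 2 n32252 = n30265 := d23_1 D32252 (iv D30265) (iv F140980)
theorem F150088 : act 3 n32252 = n30311 := d29_1 D32252 (iv D30311) (iv F140981)
theorem F150089 : act 5 n32252 = n30274 := d38_1 D32252 (iv D30274) (iv F140982)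
theorem F150090 : act 8 n32252 = n30664 := d44_1 D32252 F142538 (iv F138667) F138668 D30260
def n32253 : Q := act 6 n30261
theorem D32253 : act 6 n30261 = n32253 := rfl
theorem F150091 : act 4 n32253 = n30263 := d31_1 D32253 (iv D30263) (iv F140983)
def n32254 : Q := act 8 n30261
theorem D32254 : act 8 n30261 = n32254 := rfl
theorem F150092 : act 4 n32254 = n30264 := d33_1 D32254 (iv D30264) (iv F140983)
theorem F150093 : act 7 n32254 = n30262 := d42_1 D32254 (iv D30262) D30261
def n32255 : Q := act 5 n30262
theorem D32255 : act 5 n30262 = n32255 := rfl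
theorem F150094 : act 4 n32255 = n30277 := d30_1 D32255 (iv D30277) F113908 (iv F113872) (iv F140985)
theorem F150095 : act 8 n32255 = n30778 := d37_2 D30262 D32255 (iv D30778) (iv D25894) (iv F113868)
def n32256 : Q := act 9 n30262
theorem D32256 : act 9 n30262 = n32256 := rfl
theorem F150096 : act 4 n32256 = n30265 := d34_1 D32256 (iv D30265) (iv F140985)
def n32257 : Q := act 8 n30263
theorem D32257 : act 8 n30263 = n32257 := rfl
theorem F150097 : act 3 n32257 = n30266 := d28_1 D32257 (iv D30266) (iv F140986)
theorem F150098 : act 6 n32257 = n30264 := d40_1 D32257 (iv D30264) D30263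
def n32258 : Q := act 9 n30264
theorem D32258 : act 9 n30264 = n32258 := rfl
theorem F150099 : act 3 n32258 = n30267 := d29_1 D32258 (iv D30267) (iv F140987)
theorem F150100 : act 5 n32258 = n30280 := d38_1 D32258 (iv D30280) (iv F140988)
theorem F150101 : act 7 n32258 = n30265 := d43_1 D32258 (iv D30265) (iv F140989)
def n32259 : Q := act 5 n30266
theorem D32259 : act 5 n30266 = n32259 := rfl
theorem F150102 : act 2 n32259 = n30316 := d19_1 D32259 (iv D30316) (iv F140992)
theorem F150103 : act 6 n32259 = n30281 := d35_2 (iv F140993) D32259 (iv D30281) F113920 (iv F113875)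
def n32260 : Q := act 9 n30266
theorem D32260 : act 9 n30266 = n32260 := rfl
theorem F150104 : act 2 n32260 = n30317 := d23_1 D32260 (iv D30317) (iv F140992)
theorem F150105 : act 6 n32260 = n30267 := d41_1 D32260 (iv D30267) (iv F140993)
def n32261 : Q := act 6 n30268
theorem D32261 : act 6 n30268 = n32261 := rfl
theorem F150106 : act 1 n32261 = n30272 := d13_1 D32261 (iv D30272) (iv F140997)
theorem F150107 : act 3 n32261 = n30283 := d26_1 D32261 F141054 (iv F140998)
theorem F150108 : act 5 n32261 = n30275 := d35_1 D32261 (iv D30275) F113905 (iv F134688) (iv F140999)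
theorem F150109 : act 7 n32261 = n32261 := d39_2 D30268 D32261 (iv D32261) (iv D30268) F113885
theorem F150110 : act 9 n32261 = n30349 := d41_2 (iv F141000) D32261 (iv D30349)
def n32262 : Q := act 8 n30268
theorem D32262 : act 8 n30268 = n32262 := rfl
theorem F150111 : act 1 n32262 = n30273 := d15_1 D32262 (iv D30273) (iv F140997)
theorem F150112 : act 3 n32262 = n30318 := d28_1 D32262 (iv D30318) (iv F140998)
theorem F150113 : act 7 n32262 = n30269 := d42_1 D32262 (iv D30269) D30268
def n32263 : Q := act 6 n30270
theorem D32263 : act 6 n30270 = n32263 := rfl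
theorem F150114 : act 2 n32263 = n30275 := d20_1 D32263 (iv D30275) (iv F141004)
theorem F150115 : act 3 n32263 = n32263 := d26_1 D32263 (iv D32263) F141005
theorem F150116 : act 4 n32263 = n30272 := d31_1 D32263 (iv D30272) (iv F141006)
theorem F150117 : act 7 n32263 = n32263 := d39_2 D30270 D32263 (iv D32263) (iv D30270) F113894
theorem F150118 : act 9 n32263 = n30350 := d41_2 (iv F141008) D32263 (iv D30350)
def n32264 : Q := act 8 n30270
theorem D32264 : act 8 n30270 = n32264 := rfl
theorem F150119 : act 2 n32264 = n30276 := d22_1 D32264 (iv D30276) (iv F141004)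
theorem F150120 : act 3 n32264 = n32264 := d28_1 D32264 (iv D32264) F141005
theorem F150121 : act 4 n32264 = n30273 := d33_1 D32264 (iv D30273) (iv F141006)
theorem F150122 : act 7 n32264 = n30271 := d42_1 D32264 (iv D30271) D30270
def n32265 : Q := act 5 n30271
theorem D32265 : act 5 n30271 = n32265 := rfl
theorem F150123 : act 2 n32265 = n30277 := d19_1 D32265 (iv D30277) (iv F141009)
theorem F150124 : act 3 n32265 = n32265 := d25_1 D32265 (iv D32265) F141010
theorem F150125 : act 8 n32265 = n30787 := d37_2 D30271 D32265 (iv D30787) (iv D25919) (iv F113893)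
def n32266 : Q := act 9 n30271
theorem D32266 : act 9 n30271 = n32266 := rfl
theorem F150126 : act 0 n32266 = n30892 := d8_1 D32266 (iv F145204) F145198
theorem F150127 : act 2 n32266 = n30278 := d23_1 D32266 (iv D30278) (iv F141009)
theorem F150128 : act 3 n32266 = n32266 := d29_1 D32266 (iv D32266) F141010
theorem F150129 : act 4 n32266 = n30274 := d34_1 D32266 (iv D30274) (iv F141011)
theorem F150130 : act 6 n32266 = n32266 := d41_1 D32266 (iv D32266) F141012
theorem F150131 : act 8 n32266 = n30352 := d44_1 D32266 (iv D30352) (iv D25415) (iv F113895) D30271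
def n32267 : Q := act 8 n30272
theorem D32267 : act 8 n30272 = n32267 := rfl
theorem F150132 : act 2 n32267 = n30279 := d22_1 D32267 (iv D30279) (iv F141013)
theorem F150133 : act 3 n32267 = n30319 := d28_1 D32267 (iv D30319) (iv F141014)
theorem F150134 : act 6 n32267 = n30273 := d40_1 D32267 (iv D30273) D30272
theorem F150135 : act 7 n32267 = n32267 := d42_1 D32267 (iv D32267) F141015
def n32268 : Q := act 9 n30273
theorem D32268 : act 9 n30273 = n32268 := rfl
theorem F150136 : act 0 n32268 = n30894 := d8_1 D32268 (iv F145217) F145212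
theorem F150137 : act 2 n32268 = n30280 := d23_1 D32268 (iv D30280) (iv F141017)
theorem F150138 : act 3 n32268 = n30320 := d29_1 D32268 (iv D30320) (iv F141018)
theorem F150139 : act 7 n32268 = n30274 := d43_1 D32268 (iv D30274) (iv F141019)
theorem F150140 : act 8 n32268 = n30354 := d44_1 D32268 (iv D30354) (iv D25417) (iv F113899) D30273
def n32269 : Q := act 8 n30275
theorem D32269 : act 8 n30275 = n32269 := rfl
theorem F150141 : act 3 n32269 = n30284 := d28_1 D32269 (iv D30284) (iv F141025)
theorem F150142 : act 4 n32269 = n30279 := d33_1 D32269 (iv D30279) (iv F141026)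
theorem F150143 : act 6 n32269 = n30276 := d40_1 D32269 (iv D30276) D30275
theorem F150144 : act 7 n32269 = n32269 := d42_1 D32269 (iv D32269) F141027
def n32270 : Q := act 5 n30276
theorem D32270 : act 5 n30276 = n32270 := rfl
theorem F150145 : act 3 n32270 = n30285 := d25_1 D32270 (iv D30285) (iv F141029)
theorem F150146 : act 7 n32270 = n30277 := d36_2 (iv F141031) D32270 (iv D30277)
theorem F150147 : act 8 n32270 = n30789 := d37_2 D30276 D32270 (iv D30789) (iv D25924) (iv F113905)
def n32271 : Q := act 9 n30276
theorem D32271 : act 9 n30276 = n32271 := rfl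
theorem F150148 : act 3 n32271 = n30286 := d29_1 D32271 (iv D30286) (iv F141029)
theorem F150149 : act 4 n32271 = n30280 := d34_1 D32271 (iv D30280) (iv F141030)
theorem F150150 : act 7 n32271 = n30278 := d43_1 D32271 (iv D30278) (iv F141031)
theorem F150151 : act 8 n32271 = n30356 := d44_1 D32271 (iv D30356) (iv D25420) (iv F113906) D30276
def n32272 : Q := act 6 n30277
theorem D32272 : act 6 n30277 = n32272 := rfl
theorem F150152 : act 3 n32272 = n30287 := d26_1 D32272 (iv D30287) (iv F141032)
theorem F150153 : act 5 n32272 = n32272 := d35_1 D32272 (iv D32272) (iv D30277) F113909 D30277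
theorem F150154 : act 8 n32272 = n30790 := d40_2 (iv F141033) D32272 (iv D30790)
def n32273 : Q := act 9 n30277
theorem D32273 : act 9 n30277 = n32273 := rfl
theorem F150155 : act 3 n32273 = n30288 := d29_1 D32273 (iv D30288) (iv F141032)
theorem F150156 : act 5 n32273 = n30278 := d38_1 D32273 (iv D30278) D30277
def n32274 : Q := act 5 n30279
theorem D32274 : act 5 n30279 = n32274 := rfl
theorem F150157 : act 3 n32274 = n30281 := d25_1 D32274 (iv D30281) (iv F141038)
theorem F150158 : act 7 n32274 = n32274 := d36_2 F141040 D32274 (iv D32274)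
def n32275 : Q := act 9 n30279
theorem D32275 : act 9 n30279 = n32275 := rfl
theorem F150159 : act 3 n32275 = n30282 := d29_1 D32275 (iv D30282) (iv F141038)
theorem F150160 : act 6 n32275 = n30280 := d41_1 D32275 (iv D30280) (iv F141039)
theorem F150161 : act 7 n32275 = n32275 := d43_1 D32275 (iv D32275) F141040
theorem F150162 : act 8 n32275 = n30358 := d44_1 D32275 (iv D30358) (iv D25423) (iv F113912) D30279
def n32276 : Q := act 4 n30281
theorem D32276 : act 4 n30281 = n32276 := rfl
theorem F150163 : act 2 n32276 = n30323 := d18_1 D32276 (iv D30323) (iv F141044)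
theorem F150164 : act 5 n32276 = n30291 := d30_2 D30281 D32276 (iv D30291) (iv D25314) (iv F113919)
theorem F150165 : act 7 n32276 = n32276 := d32_2 F141045 D32276 (iv D32276)
def n32277 : Q := act 9 n30281
theorem D32277 : act 9 n30281 = n32277 := rfl
theorem F150166 : act 2 n32277 = n30324 := d23_1 D32277 (iv D30324) (iv F141044)
theorem F150167 : act 5 n32277 = n30282 := d38_1 D32277 (iv D30282) D30281
theorem F150168 : act 7 n32277 = n32277 := d43_1 D32277 (iv D32277) F141045
def n32278 : Q := act 8 n30283
theorem D32278 : act 8 n30283 = n32278 := rfl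
theorem F150169 : act 1 n32278 = n30319 := d15_1 D32278 (iv D30319) (iv F141051)
theorem F150170 : act 2 n32278 = n32278 := d22_1 D32278 (iv D32278) F141052
theorem F150171 : act 4 n32278 = n32278 := d33_1 D32278 (iv D32278) F141053
theorem F150172 : act 6 n32278 = n30318 := d40_1 D32278 (iv D30318) (iv F141054)
theorem F150173 : act 7 n32278 = n32278 := d42_1 D32278 (iv D32278) F141055
def n32279 : Q := act 5 n30284
theorem D32279 : act 5 n30284 = n32279 := rfl
theorem F150174 : act 2 n32279 = n32279 := d19_1 D32279 (iv D32279) F141057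
theorem F150175 : act 7 n32279 = n32279 := d36_2 F141060 D32279 (iv D32279)
def n32280 : Q := act 9 n30284
theorem D32280 : act 9 n30284 = n32280 := rfl
theorem F150176 : act 2 n32280 = n32280 := d23_1 D32280 (iv D32280) F141057
theorem F150177 : act 4 n32280 = n30290 := d34_1 D32280 (iv D30290) (iv F141058)
theorem F150178 : act 6 n32280 = n30286 := d41_1 D32280 (iv D30286) (iv F141059)
theorem F150179 : act 7 n32280 = n32280 := d43_1 D32280 (iv D32280) F141060
theorem F150180 : act 8 n32280 = n30360 := d44_1 D32280 (iv D30360) (iv D25428) (iv F113929) D30284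
def n32281 : Q := act 6 n30285
theorem D32281 : act 6 n30285 = n32281 := rfl
theorem F150181 : act 2 n32281 = n32281 := d20_1 D32281 (iv D32281) F141061
theorem F150182 : act 8 n32281 = n30793 := d40_2 (iv F141063) D32281 (iv D30793)
def n32282 : Q := act 9 n30285
theorem D32282 : act 9 n30285 = n32282 := rfl
theorem F150183 : act 2 n32282 = n32282 := d23_1 D32282 (iv D32282) F141061
theorem F150184 : act 5 n32282 = n30286 := d38_1 D32282 (iv D30286) D30285
theorem F150185 : act 7 n32282 = n30288 := d43_1 D32282 (iv D30288) (iv F141062)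
def n32283 : Q := act 7 n30287
theorem D32283 : act 7 n30287 = n32283 := rfl
theorem F150186 : act 2 n32283 = n32283 := d21_1 D32283 (iv D32283) F141068
theorem F150187 : act 5 n32283 = n32283 := d36_1 D32283 (iv D32283) F141069
theorem F150188 : act 8 n32283 = n30794 := d42_2 (iv F141070) D32283 (iv D30794)
def n32284 : Q := act 9 n30287
theorem D32284 : act 9 n30287 = n32284 := rfl
theorem F150189 : act 2 n32284 = n32284 := d23_1 D32284 (iv D32284) F141068
theorem F150190 : act 5 n32284 = n32284 := d38_1 D32284 (iv D32284) F141069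
theorem F150191 : act 6 n32284 = n30288 := d41_1 D32284 (iv D30288) D30287
def n32285 : Q := act 4 n30289
theorem D32285 : act 4 n30289 = n32285 := rfl
theorem F150192 : act 2 n32285 = n32285 := d18_1 D32285 (iv D32285) F141073
theorem F150193 : act 7 n32285 = n32285 := d32_2 F141075 D32285 (iv D32285)
theorem F150194 : act 8 n32285 = n32285 := d33_2 F141076 D32285 (iv D32285)
def n32286 : Q := act 9 n30289
theorem D32286 : act 9 n30289 = n32286 := rfl
theorem F150195 : act 2 n32286 = n32286 := d23_1 D32286 (iv D32286) F141073
theorem F150196 : act 3 n32286 = n30292 := d29_1 D32286 (iv D30292) (iv F141074)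
theorem F150197 : act 5 n32286 = n30290 := d38_1 D32286 (iv D30290) D30289
theorem F150198 : act 7 n32286 = n32286 := d43_1 D32286 (iv D32286) F141075
def n32287 : Q := act 3 n30291
theorem D32287 : act 3 n30291 = n32287 := rfl
theorem F150199 : act 7 n32287 = n32287 := d27_2 F141083 D32287 (iv D32287)
theorem F150200 : act 8 n32287 = n32287 := d28_2 F141084 D32287 (iv D32287)
def n32288 : Q := act 9 n30291
theorem D32288 : act 9 n30291 = n32288 := rfl
theorem F150201 : act 2 n32288 = n30326 := d23_1 D32288 (iv D30326) (iv F141082)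
theorem F150202 : act 4 n32288 = n30292 := d34_1 D32288 (iv D30292) D30291
theorem F150203 : act 7 n32288 = n32288 := d43_1 D32288 (iv D32288) F141083
def n32289 : Q := act 8 n30292
theorem D32289 : act 8 n30292 = n32289 := rfl
theorem F150204 : act 2 n32289 = n30327 := d22_1 D32289 (iv D30327) (iv F141085)
theorem F150205 : act 5 n32289 = n30363 := d37_1 D32289 (iv D30363) F114408 (iv F113953) (iv F141086)
theorem F150206 : act 7 n32289 = n32289 := d42_1 D32289 (iv D32289) F141087
theorem F150207 : act 9 n32289 = n32289 := d44_2 D30292 D32289 (iv D32289) (iv D30292) F113949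
def n32290 : Q := act 4 n30293
theorem D32290 : act 4 n30293 = n32290 := rfl
theorem F150208 : act 1 n32290 = n30295 := d11_1 D32290 (iv D30295) (iv F141088)
theorem F150209 : act 2 n32290 = n32290 := d18_1 D32290 (iv D32290) F141089
theorem F150210 : act 5 n32290 = n32290 := d30_2 D30293 D32290 (iv D32290) (iv D30293) F113960
theorem F150211 : act 6 n32290 = n30303 := d31_2 (iv F141090) D32290 (iv D30303)
theorem F150212 : act 9 n32290 = n30707 := d34_2 (iv F147216) D32290 (iv F147213)
theorem F150213 : act 8 n30716 = n32290 := d44_5 F150212 (iv D30707) F115933 D25838 D30716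
def n32291 : Q := act 7 n30293
theorem D32291 : act 7 n30293 = n32291 := rfl
theorem F150214 : act 1 n32291 = n30296 := d14_1 D32291 (iv D30296) (iv F141088)
theorem F150215 : act 2 n32291 = n32291 := d21_1 D32291 (iv D32291) F141089
theorem F150216 : act 5 n32291 = n30294 := d36_1 D32291 (iv D30294) D30293
def n32292 : Q := act 8 n30293
theorem D32292 : act 8 n30293 = n32292 := rfl
theorem F150217 : act 1 n32292 = n30297 := d15_1 D32292 (iv D30297) (iv F141088)
theorem F150218 : act 2 n32292 = n32292 := d22_1 D32292 (iv D32292) F141089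
theorem F150219 : act 4 n32292 = n30716 := d33_1 D32292 F150213 (iv D32290)
theorem F150220 : act 5 n32292 = n32292 := d37_1 D32292 (iv D32292) (iv D30293) F113961 D30293
theorem F150221 : act 6 n32292 = n30305 := d40_1 D32292 (iv D30305) (iv F141090)
theorem F150222 : act 9 n32292 = n30438 := d44_2 (iv F147216) D32292 (iv D30438) (iv F138096) D31638
def n32293 : Q := act 3 n30295
theorem D32293 : act 3 n30295 = n32293 := rfl
theorem F150223 : act 5 n32293 = n32293 := d25_2 F141097 D32293 (iv D32293)
theorem F150224 : act 6 n32293 = n30306 := d26_2 (iv F141098) D32293 (iv D30306)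
def n32294 : Q := act 7 n30295
theorem D32294 : act 7 n30295 = n32294 := rfl
theorem F150225 : act 2 n32294 = n30298 := d21_1 D32294 (iv D30298) (iv F141096)
theorem F150226 : act 4 n32294 = n30296 := d32_1 D32294 (iv D30296) D30295
theorem F150227 : act 5 n32294 = n32294 := d36_1 D32294 (iv D32294) F141097
def n32295 : Q := act 6 n30296
theorem D32295 : act 6 n30296 = n32295 := rfl
theorem F150228 : act 2 n32295 = n30299 := d20_1 D32295 (iv D30299) (iv F141099)
theorem F150229 : act 7 n32295 = n30309 := d39_2 D30296 D32295 (iv D30309) (iv D25330) (iv F113963)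
def n32296 : Q := act 8 n30296
theorem D32296 : act 8 n30296 = n32296 := rfl
theorem F150230 : act 2 n32296 = n30300 := d22_1 D32296 (iv D30300) (iv F141099)
theorem F150231 : act 5 n32296 = n32296 := d37_1 D32296 (iv D32296) F141100 F113966 (iv F141100)
theorem F150232 : act 7 n32296 = n30297 := d42_1 D32296 (iv D30297) D30296
def n32297 : Q := act 6 n30298
theorem D32297 : act 6 n30298 = n32297 := rfl
theorem F150233 : act 1 n32297 = n32297 := d13_1 D32297 (iv D32297) F141104
theorem F150234 : act 4 n32297 = n30299 := d31_1 D32297 (iv D30299) (iv F141105)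
theorem F150235 : act 7 n32297 = n30312 := d39_2 D30298 D32297 (iv D30312) (iv D25332) (iv F113969)
def n32298 : Q := act 8 n30299
theorem D32298 : act 8 n30299 = n32298 := rfl
theorem F150236 : act 1 n32298 = n32298 := d15_1 D32298 (iv D32298) F141107
theorem F150237 : act 3 n32298 = n30301 := d28_1 D32298 (iv D30301) (iv F141108)
theorem F150238 : act 6 n32298 = n30300 := d40_1 D32298 (iv D30300) D30299
theorem F150239 : act 7 n32298 = n30314 := d42_1 D32298 (iv D30314) (iv F141109)
def n32299 : Q := act 5 n30301
theorem D32299 : act 5 n30301 = n32299 := rfl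
theorem F150240 : act 1 n32299 = n32299 := d12_1 D32299 (iv D32299) F141114
theorem F150241 : act 6 n32299 = n32299 := d35_2 (iv F141115) D32299 (iv D32299) F141115 F113980
theorem F150242 : act 7 n32299 = n30316 := d36_2 (iv F141116) D32299 (iv D30316)
def n32300 : Q := act 9 n30301
theorem D32300 : act 9 n30301 = n32300 := rfl
theorem F150243 : act 1 n32300 = n32300 := d16_1 D32300 (iv D32300) F141114
theorem F150244 : act 6 n32300 = n30302 := d41_1 D32300 (iv D30302) (iv F141115)
theorem F150245 : act 7 n32300 = n30317 := d43_1 D32300 (iv D30317) (iv F141116)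
def n32301 : Q := act 3 n30303
theorem D32301 : act 3 n30303 = n32301 := rfl
theorem F150246 : act 1 n32301 = n30306 := d10_1 D32301 (iv D30306) (iv F141120)
theorem F150247 : act 5 n32301 = n30328 := d25_2 (iv F141122) D32301 (iv D30328)
def n32302 : Q := act 7 n30303
theorem D32302 : act 7 n30303 = n32302 := rfl
theorem F150248 : act 1 n32302 = n30307 := d14_1 D32302 (iv D30307) (iv F141120)
theorem F150249 : act 2 n32302 = n32302 := d21_1 D32302 (iv D32302) F141121
theorem F150250 : act 4 n32302 = n30304 := d32_1 D32302 (iv D30304) D30303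
theorem F150251 : act 5 n32302 = n30329 := d36_1 D32302 (iv D30329) (iv F141122)
def n32303 : Q := act 6 n30304
theorem D32303 : act 6 n30304 = n32303 := rfl
theorem F150252 : act 1 n32303 = n30309 := d13_1 D32303 (iv D30309) (iv F141123)
theorem F150253 : act 2 n32303 = n32303 := d20_1 D32303 (iv D32303) F141124
theorem F150254 : act 5 n32303 = n30793 := d35_1 D32303 (iv D30793) (iv D25933) (iv F134705) (iv F141125)
def n32304 : Q := act 8 n30304
theorem D32304 : act 8 n30304 = n32304 := rfl
theorem F150255 : act 1 n32304 = n30310 := d15_1 D32304 (iv D30310) (iv F141123)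
theorem F150256 : act 2 n32304 = n32304 := d22_1 D32304 (iv D32304) F141124
theorem F150257 : act 5 n32304 = n30318 := d37_1 D32304 (iv D30318) F114033 (iv F113994) (iv F141125)
theorem F150258 : act 7 n32304 = n30305 := d42_1 D32304 (iv D30305) D30304
def n32305 : Q := act 7 n30306
theorem D32305 : act 7 n30306 = n32305 := rfl
theorem F150259 : act 3 n32305 = n30307 := d27_1 D32305 (iv D30307) D30306
theorem F150260 : act 5 n32305 = n30331 := d36_1 D32305 (iv D30331) (iv F141129)
def n32306 : Q := act 8 n30306
theorem D32306 : act 8 n30306 = n32306 := rfl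
theorem F150261 : act 3 n32306 = n30308 := d28_1 D32306 (iv D30308) D30306
theorem F150262 : act 5 n32306 = n32306 := d37_1 D32306 (iv D32306) F141129 F114094 (iv F141129)
def n32307 : Q := act 6 n30307
theorem D32307 : act 6 n30307 = n32307 := rfl
theorem F150263 : act 2 n32307 = n30312 := d20_1 D32307 (iv D30312) (iv F141130)
theorem F150264 : act 4 n32307 = n30309 := d31_1 D32307 (iv D30309) (iv F141131)
def n32308 : Q := act 8 n30307
theorem D32308 : act 8 n30307 = n32308 := rfl
theorem F150265 : act 2 n32308 = n30313 := d22_1 D32308 (iv D30313) (iv F141130)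
theorem F150266 : act 4 n32308 = n30310 := d33_1 D32308 (iv D30310) (iv F141131)
theorem F150267 : act 5 n32308 = n32308 := d37_1 D32308 (iv D32308) F141132 F114097 (iv F141132)
theorem F150268 : act 7 n32308 = n30308 := d42_1 D32308 (iv D30308) D30307
def n32309 : Q := act 8 n30309
theorem D32309 : act 8 n30309 = n32309 := rfl
theorem F150269 : act 2 n32309 = n30314 := d22_1 D32309 (iv D30314) (iv F141136)
theorem F150270 : act 6 n32309 = n30310 := d40_1 D32309 (iv D30310) D30309
def n32310 : Q := act 9 n30310
theorem D32310 : act 9 n30310 = n32310 := rfl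
theorem F150271 : act 0 n32310 = n30692 := d8_1 D32310 (iv F145384) F145379
theorem F150272 : act 2 n32310 = n30315 := d23_1 D32310 (iv D30315) (iv F141137)
theorem F150273 : act 5 n32310 = n30320 := d38_1 D32310 (iv D30320) (iv F141138)
theorem F150274 : act 7 n32310 = n30311 := d43_1 D32310 (iv D30311) (iv F141139)
theorem F150275 : act 8 n32310 = n30666 := d44_1 D32310 F142546 (iv F139120) F139121 D30310
def n32311 : Q := act 5 n30312
theorem D32311 : act 5 n30312 = n32311 := rfl
theorem F150276 : act 1 n32311 = n32311 := d12_1 D32311 (iv D32311) F141144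
theorem F150277 : act 6 n32311 = n30333 := d35_2 D30312 D32311 (iv D30333) (iv D25359) (iv F114003)
def n32312 : Q := act 8 n30312
theorem D32312 : act 8 n30312 = n32312 := rfl
theorem F150278 : act 1 n32312 = n32312 := d15_1 D32312 (iv D32312) F141144
theorem F150279 : act 4 n32312 = n30314 := d33_1 D32312 (iv D30314) (iv F141145)
theorem F150280 : act 6 n32312 = n30313 := d40_1 D32312 (iv D30313) D30312
def n32313 : Q := act 5 n30314
theorem D32313 : act 5 n30314 = n32313 := rfl
theorem F150281 : act 1 n32313 = n32313 := d12_1 D32313 (iv D32313) F141150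
theorem F150282 : act 3 n32313 = n30316 := d25_1 D32313 (iv D30316) (iv F141151)
theorem F150283 : act 6 n32313 = n30321 := d35_2 (iv F141152) D32313 (iv D30321) F114053 (iv F114011)
def n32314 : Q := act 9 n30314
theorem D32314 : act 9 n30314 = n32314 := rfl
theorem F150284 : act 0 n32314 = n31118 := d8_1 D32314 (iv F145400) F145396
theorem F150285 : act 1 n32314 = n32314 := d16_1 D32314 (iv D32314) F141150
theorem F150286 : act 3 n32314 = n30317 := d29_1 D32314 (iv D30317) (iv F141151)
theorem F150287 : act 6 n32314 = n30315 := d41_1 D32314 (iv D30315) (iv F141152)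
theorem F150288 : act 8 n32314 = n31117 := d44_1 D32314 F144284 (iv F139132) F139133 D30314
def n32315 : Q := act 4 n30316
theorem D32315 : act 4 n30316 = n32315 := rfl
theorem F150289 : act 1 n32315 = n32315 := d11_1 D32315 (iv D32315) F141159
theorem F150290 : act 6 n32315 = n30323 := d31_2 (iv F141160) D32315 (iv D30323)
def n32316 : Q := act 9 n30316
theorem D32316 : act 9 n30316 = n32316 := rfl
theorem F150291 : act 1 n32316 = n32316 := d16_1 D32316 (iv D32316) F141159
theorem F150292 : act 5 n32316 = n30317 := d38_1 D32316 (iv D30317) D30316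
theorem F150293 : act 6 n32316 = n30324 := d41_1 D32316 (iv D30324) (iv F141160)
def n32317 : Q := act 5 n30319
theorem D32317 : act 5 n30319 = n32317 := rfl
theorem F150294 : act 2 n32317 = n30321 := d19_1 D32317 (iv D30321) (iv F141167)
theorem F150295 : act 7 n32317 = n32317 := d36_2 F141170 D32317 (iv D32317)
def n32318 : Q := act 9 n30319
theorem D32318 : act 9 n30319 = n32318 := rfl
theorem F150296 : act 0 n32318 = n30895 := d8_1 D32318 (iv F145416) F145410
theorem F150297 : act 2 n32318 = n30322 := d23_1 D32318 (iv D30322) (iv F141167)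
theorem F150298 : act 4 n32318 = n32318 := d34_1 D32318 (iv D32318) F141168
theorem F150299 : act 6 n32318 = n30320 := d41_1 D32318 (iv D30320) (iv F141169)
theorem F150300 : act 7 n32318 = n32318 := d43_1 D32318 (iv D32318) F141170
theorem F150301 : act 8 n32318 = n30364 := d44_1 D32318 (iv D30364) (iv D25442) (iv F114042) D30319
def n32319 : Q := act 4 n30321
theorem D32319 : act 4 n30321 = n32319 := rfl
theorem F150302 : act 1 n32319 = n32319 := d11_1 D32319 (iv D32319) F141176
theorem F150303 : act 5 n32319 = n32319 := d30_2 D30321 D32319 (iv D32319) (iv D30321) F114052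
theorem F150304 : act 7 n32319 = n32319 := d32_2 F141178 D32319 (iv D32319)
def n32320 : Q := act 9 n30321
theorem D32320 : act 9 n30321 = n32320 := rfl
theorem F150305 : act 0 n32320 = n31152 := d8_1 D32320 (iv F145422) F145417
theorem F150306 : act 1 n32320 = n32320 := d16_1 D32320 (iv D32320) F141176
theorem F150307 : act 3 n32320 = n30324 := d29_1 D32320 (iv D30324) (iv F141177)
theorem F150308 : act 5 n32320 = n30322 := d38_1 D32320 (iv D30322) D30321
theorem F150309 : act 7 n32320 = n32320 := d43_1 D32320 (iv D32320) F141178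
def n32321 : Q := act 3 n30323
theorem D32321 : act 3 n30323 = n32321 := rfl
theorem F150310 : act 1 n32321 = n32321 := d10_1 D32321 (iv D32321) F141186
theorem F150311 : act 5 n32321 = n30325 := d25_2 (iv F141187) D32321 (iv D30325)
theorem F150312 : act 7 n32321 = n32321 := d27_2 F141188 D32321 (iv D32321)
def n32322 : Q := act 9 n30323
theorem D32322 : act 9 n30323 = n32322 := rfl
theorem F150313 : act 1 n32322 = n32322 := d16_1 D32322 (iv D32322) F141186
theorem F150314 : act 4 n32322 = n30324 := d34_1 D32322 (iv D30324) D30323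
theorem F150315 : act 5 n32322 = n30326 := d38_1 D32322 (iv D30326) (iv F141187)
theorem F150316 : act 7 n32322 = n32322 := d43_1 D32322 (iv D32322) F141188
def n32323 : Q := act 8 n30324
theorem D32323 : act 8 n30324 = n32323 := rfl
theorem F150317 : act 1 n32323 = n32323 := d15_1 D32323 (iv D32323) F141189
theorem F150318 : act 5 n32323 = n30368 := d37_1 D32323 (iv D30368) F114450 (iv F114066) (iv F141190)
theorem F150319 : act 7 n32323 = n32323 := d42_1 D32323 (iv D32323) F141191
def n32324 : Q := act 2 n30325
theorem D32324 : act 2 n30325 = n32324 := rfl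
theorem F150320 : act 4 n32324 = n32324 := d18_2 F141193 D32324 (iv D32324)
theorem F150321 : act 7 n32324 = n32324 := d21_2 F141194 D32324 (iv D32324)
theorem F150322 : act 8 n32324 = n32324 := d22_2 F141195 D32324 (iv D32324)
def n32325 : Q := act 9 n30325
theorem D32325 : act 9 n30325 = n32325 := rfl
theorem F150323 : act 0 n32325 = n31095 := d8_1 D32325 F145439 F145433
theorem F150324 : act 1 n32325 = n32325 := d16_1 D32325 (iv D32325) F141192
theorem F150325 : act 3 n32325 = n30326 := d29_1 D32325 (iv D30326) D30325
theorem F150326 : act 4 n32325 = n32325 := d34_1 D32325 (iv D32325) F141193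
theorem F150327 : act 6 n32325 = n31093 := d41_1 D32325 F149783 F149780
theorem F150328 : act 7 n32325 = n32325 := d43_1 D32325 (iv D32325) F141194
theorem F150329 : act 8 n31092 = n32325 := d40_0 F150327 (iv D31093) D31092
def n32326 : Q := act 8 n30326
theorem D32326 : act 8 n30326 = n32326 := rfl
theorem F150330 : act 0 n32326 = n31033 := d7_1 D32326 F145446 F145440
theorem F150331 : act 1 n32326 = n32326 := d15_1 D32326 (iv D32326) F141196
theorem F150332 : act 3 n32326 = n31092 := d28_1 D32326 F150329 F150325
theorem F150333 : act 4 n32326 = n30327 := d33_1 D32326 (iv D30327) (iv F141197)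
theorem F150334 : act 6 n32326 = n31030 := d40_1 D32326 F149790 F149788
theorem F150335 : act 7 n32326 = n32326 := d42_1 D32326 (iv D32326) F141198
theorem F150336 : act 9 n32326 = n32326 := d44_2 D30326 D32326 (iv D32326) (iv D30326) F114069
def n32327 : Q := act 2 n30328
theorem D32327 : act 2 n30328 = n32327 := rfl
theorem F150337 : act 3 n32327 = n32327 := d17_2 D30328 D32327 (iv D32327) (iv D30328) F114084
theorem F150338 : act 4 n32327 = n30495 := d18_2 (iv F141205) D32327 F141840
theorem F150339 : act 6 n32327 = n32327 := d20_2 F141206 D32327 (iv D32327)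
theorem F150340 : act 8 n32327 = n32327 := d22_2 F141207 D32327 (iv D32327)
theorem F150341 : act 9 n32327 = n30492 := d23_2 (iv F145790) D32327 (iv F145786)
def n32328 : Q := act 7 n30328
theorem D32328 : act 7 n30328 = n32328 := rfl
theorem F150342 : act 1 n32328 = n30331 := d14_1 D32328 (iv D30331) (iv F141204)
theorem F150343 : act 3 n32328 = n30329 := d27_1 D32328 (iv D30329) D30328
theorem F150344 : act 4 n32328 = n30795 := d32_1 D32328 F142919 (iv F141205)
theorem F150345 : act 8 n32328 = n32328 := d42_2 F141207 D32328 (iv D32328)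
def n32329 : Q := act 6 n30329
theorem D32329 : act 6 n30329 = n32329 := rfl
theorem F150346 : act 1 n32329 = n30332 := d13_1 D32329 (iv D30332) (iv F141208)
theorem F150347 : act 2 n32329 = n32329 := d20_1 D32329 (iv D32329) F141209
theorem F150348 : act 4 n32329 = n30330 := d31_1 D32329 (iv D30330) (iv F141210)
theorem F150349 : act 7 n32329 = n32329 := d39_2 D30329 D32329 (iv D32329) (iv D30329) F114085
theorem F150350 : act 8 n32329 = n32329 := d40_2 F141211 D32329 (iv D32329)
def n32330 : Q := act 6 n30331
theorem D32330 : act 6 n30331 = n32330 := rfl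
theorem F150351 : act 3 n32330 = n30332 := d26_1 D32330 (iv D30332) (iv F141218)
theorem F150352 : act 4 n32330 = n30887 := d31_1 D32330 (iv D30887) (iv F141219)
theorem F150353 : act 7 n32330 = n32330 := d39_2 D30331 D32330 (iv D32330) (iv D30331) F114093
theorem F150354 : act 8 n32330 = n32330 := d40_2 F141220 D32330 (iv D32330)
def n32331 : Q := act 5 n30332
theorem D32331 : act 5 n30332 = n32331 := rfl
theorem F150355 : act 2 n32331 = n30333 := d19_1 D32331 (iv D30333) (iv F141221)
theorem F150356 : act 7 n32331 = n32331 := d36_2 F141223 D32331 (iv D32331)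
def n32332 : Q := act 8 n30333
theorem D32332 : act 8 n30333 = n32332 := rfl
theorem F150357 : act 1 n32332 = n32332 := d15_1 D32332 (iv D32332) F141225
theorem F150358 : act 5 n32332 = n32332 := d37_1 D32332 (iv D32332) (iv D30333) F114105 D30333
theorem F150359 : act 7 n32332 = n32332 := d42_1 D32332 (iv D32332) F141226
def n32333 : Q := act 8 n30334
theorem D32333 : act 8 n30334 = n32333 := rfl
theorem F150360 : act 0 n32333 = n30343 := d7_1 D32333 (iv D30343) (iv F141227)
theorem F150361 : act 2 n32333 = n30913 := d22_1 D32333 (iv D30913) (iv F141228)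
theorem F150362 : act 3 n32333 = n30337 := d28_1 D32333 (iv D30337) (iv F141229)
theorem F150363 : act 4 n32333 = n30910 := d33_1 D32333 (iv D30910) (iv F141230)
theorem F150364 : act 5 n32333 = n30355 := d37_1 D32333 (iv D30355) (iv F141302) (iv F148874) F148872
theorem F150365 : act 6 n32333 = n30335 := d40_1 D32333 (iv D30335) D30334
theorem F150366 : act 7 n32333 = n32333 := d42_1 D32333 (iv D32333) F141231
def n32334 : Q := act 9 n30335
theorem D32334 : act 9 n30335 = n32334 := rfl
theorem F150367 : act 0 n32334 = n30344 := d8_1 D32334 (iv D30344) (iv F141232)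
theorem F150368 : act 2 n32334 = n30914 := d23_1 D32334 (iv D30914) (iv F141233)
theorem F150369 : act 3 n32334 = n30338 := d29_1 D32334 (iv D30338) (iv F141234)
theorem F150370 : act 4 n32334 = n30911 := d34_1 D32334 (iv D30911) (iv F141235)
theorem F150371 : act 7 n32334 = n30336 := d43_1 D32334 (iv D30336) (iv F141236)
def n32335 : Q := act 9 n30337
theorem D32335 : act 9 n30337 = n32335 := rfl
theorem F150372 : act 0 n32335 = n30345 := d8_1 D32335 (iv D30345) (iv F141242)
theorem F150373 : act 2 n32335 = n32335 := d23_1 D32335 (iv D32335) F141243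
theorem F150374 : act 4 n32335 = n30342 := d34_1 D32335 (iv D30342) (iv F141244)
theorem F150375 : act 5 n32335 = n30360 := d38_1 D32335 (iv D30360) (iv F141245)
theorem F150376 : act 6 n32335 = n30338 := d41_1 D32335 (iv D30338) (iv F141246)
theorem F150377 : act 7 n32335 = n32335 := d43_1 D32335 (iv D32335) F141247
def n32336 : Q := act 9 n30339
theorem D32336 : act 9 n30339 = n32336 := rfl
theorem F150378 : act 0 n32336 = n30347 := d8_1 D32336 (iv D30347) (iv F141252)
theorem F150379 : act 2 n32336 = n30928 := d23_1 D32336 (iv D30928) (iv F141253)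
theorem F150380 : act 3 n32336 = n30342 := d29_1 D32336 (iv D30342) (iv F141254)
theorem F150381 : act 4 n32336 = n30926 := d34_1 D32336 (iv D30926) (iv F141255)
theorem F150382 : act 6 n32336 = n30340 := d41_1 D32336 (iv D30340) (iv F141256)
theorem F150383 : act 7 n32336 = n32336 := d43_1 D32336 (iv D32336) F141257
def n32337 : Q := act 9 n30341
theorem D32337 : act 9 n30341 = n32337 := rfl
theorem F150384 : act 0 n32337 = n30348 := d8_1 D32337 (iv D30348) (iv F141264)
theorem F150385 : act 2 n32337 = n32337 := d23_1 D32337 (iv D32337) F141265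
theorem F150386 : act 4 n32337 = n30361 := d34_1 D32337 (iv D30361) (iv F141266)
theorem F150387 : act 5 n32337 = n30342 := d38_1 D32337 (iv D30342) D30341
theorem F150388 : act 6 n32337 = n32337 := d41_1 D32337 (iv D32337) F141267
theorem F150389 : act 7 n32337 = n32337 := d43_1 D32337 (iv D32337) F141268
def n32338 : Q := act 9 n30343
theorem D32338 : act 9 n30343 = n32338 := rfl
theorem F150390 : act 1 n32338 = n30358 := d16_1 D32338 (iv D30358) (iv F141274)
theorem F150391 : act 3 n32338 = n30345 := d29_1 D32338 (iv D30345) (iv F141275)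
theorem F150392 : act 6 n32338 = n30344 := d41_1 D32338 (iv D30344) (iv F141276)
theorem F150393 : act 7 n32338 = n32338 := d43_1 D32338 (iv D32338) F141277
def n32339 : Q := act 9 n30346
theorem D32339 : act 9 n30346 = n32339 := rfl
theorem F150394 : act 1 n32339 = n30361 := d16_1 D32339 (iv D30361) (iv F141286)
theorem F150395 : act 3 n32339 = n30348 := d29_1 D32339 (iv D30348) (iv F141287)
theorem F150396 : act 5 n32339 = n30347 := d38_1 D32339 (iv D30347) D30346
theorem F150397 : act 6 n32339 = n32339 := d41_1 D32339 (iv D32339) F141288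
theorem F150398 : act 7 n32339 = n32339 := d43_1 D32339 (iv D32339) F141289
def n32340 : Q := act 8 n30348
theorem D32340 : act 8 n30348 = n32340 := rfl
theorem F150399 : act 1 n32340 = n30363 := d15_1 D32340 (iv D30363) (iv F141295)
theorem F150400 : act 2 n32340 = n32340 := d22_1 D32340 (iv D32340) F141296
theorem F150401 : act 6 n32340 = n32340 := d40_1 D32340 (iv D32340) F141298
theorem F150402 : act 7 n32340 = n32340 := d42_1 D32340 (iv D32340) F141299
theorem F150403 : act 9 n32340 = n32340 := d44_2 D30348 D32340 (iv D32340) (iv D30348) F114309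
def n32341 : Q := act 8 n30350
theorem D32341 : act 8 n30350 = n32341 := rfl
theorem F150404 : act 0 n32341 = n30896 := d7_1 D32341 (iv F145617) F145611
theorem F150405 : act 2 n32341 = n30355 := d22_1 D32341 (iv D30355) (iv F141304)
theorem F150406 : act 3 n32341 = n32341 := d28_1 D32341 (iv D32341) F141305
theorem F150407 : act 4 n32341 = n30353 := d33_1 D32341 (iv D30353) (iv F141306)
theorem F150408 : act 5 n32341 = n30913 := d37_1 D32341 (iv D30913) D30912 (iv F148967) F148965
theorem F150409 : act 6 n32341 = n30351 := d40_1 D32341 (iv D30351) D30350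
theorem F150410 : act 7 n32341 = n32341 := d42_1 D32341 (iv D32341) F141307
def n32342 : Q := act 9 n30351
theorem D32342 : act 9 n30351 = n32342 := rfl
theorem F150411 : act 0 n32342 = n30891 := d8_1 D32342 F143265 (iv F141308)
theorem F150412 : act 2 n32342 = n30356 := d23_1 D32342 (iv D30356) (iv F141309)
theorem F150413 : act 3 n32342 = n32342 := d29_1 D32342 (iv D32342) F141310
theorem F150414 : act 4 n32342 = n30354 := d34_1 D32342 (iv D30354) (iv F141311)
theorem F150415 : act 7 n32342 = n30352 := d43_1 D32342 (iv D30352) (iv F141312)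
def n32343 : Q := act 9 n30353
theorem D32343 : act 9 n30353 = n32343 := rfl
theorem F150416 : act 0 n32343 = n30893 := d8_1 D32343 F143273 (iv F141318)
theorem F150417 : act 2 n32343 = n30358 := d23_1 D32343 (iv D30358) (iv F141319)
theorem F150418 : act 3 n32343 = n30364 := d29_1 D32343 (iv D30364) (iv F141320)
theorem F150419 : act 6 n32343 = n30354 := d41_1 D32343 (iv D30354) (iv F141321)
theorem F150420 : act 7 n32343 = n32343 := d43_1 D32343 (iv D32343) F141322
def n32344 : Q := act 9 n30355
theorem D32344 : act 9 n30355 = n32344 := rfl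
theorem F150421 : act 3 n32344 = n30360 := d29_1 D32344 (iv D30360) (iv F141328)
theorem F150422 : act 4 n32344 = n30358 := d34_1 D32344 (iv D30358) (iv F141329)
theorem F150423 : act 6 n32344 = n30356 := d41_1 D32344 (iv D30356) (iv F141330)
theorem F150424 : act 7 n32344 = n32344 := d43_1 D32344 (iv D32344) F141331
def n32345 : Q := act 9 n30357
theorem D32345 : act 9 n30357 = n32345 := rfl
theorem F150425 : act 3 n32345 = n30359 := d29_1 D32345 (iv D30359) (iv F141335)
theorem F150426 : act 5 n32345 = n30358 := d38_1 D32345 (iv D30358) D30357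
theorem F150427 : act 7 n32345 = n32345 := d43_1 D32345 (iv D32345) F141336
def n32346 : Q := act 8 n30359
theorem D32346 : act 8 n30359 = n32346 := rfl
theorem F150428 : act 2 n32346 = n30368 := d22_1 D32346 (iv D30368) (iv F141340)
theorem F150429 : act 7 n32346 = n32346 := d42_1 D32346 (iv D32346) F141342
def n32347 : Q := act 8 n30361
theorem D32347 : act 8 n30361 = n32347 := rfl
theorem F150430 : act 2 n32347 = n32347 := d22_1 D32347 (iv D32347) F141347
theorem F150431 : act 3 n32347 = n30363 := d28_1 D32347 (iv D30363) (iv F141348)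
theorem F150432 : act 6 n32347 = n32347 := d40_1 D32347 (iv D32347) F141350
theorem F150433 : act 7 n32347 = n32347 := d42_1 D32347 (iv D32347) F141351
theorem F150434 : act 9 n32347 = n32347 := d44_2 D30361 D32347 (iv D32347) (iv D30361) F114398
def n32348 : Q := act 8 n30362
theorem D32348 : act 8 n30362 = n32348 := rfl
theorem F150435 : act 2 n32348 = n30371 := d22_1 D32348 (iv D30371) (iv F141352)
theorem F150436 : act 4 n32348 = n30363 := d33_1 D32348 (iv D30363) (iv F141353)
theorem F150437 : act 6 n32348 = n32348 := d40_1 D32348 (iv D32348) F141354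
theorem F150438 : act 7 n32348 = n32348 := d42_1 D32348 (iv D32348) F141355
theorem F150439 : act 9 n32348 = n32348 := d44_2 D30362 D32348 (iv D32348) (iv D30362) F114406
def n32349 : Q := act 9 n30369
theorem D32349 : act 9 n30369 = n32349 := rfl
theorem F150440 : act 1 n32349 = n31042 := d16_1 D32349 (iv F144579) F144572
theorem F150441 : act 2 n32349 = n30370 := d23_1 D32349 (iv D30370) D30369
theorem F150442 : act 4 n32349 = n32349 := d34_1 D32349 (iv D32349) F141380
theorem F150443 : act 5 n32349 = n30628 := d38_1 D32349 (iv F144546) (iv F144547)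
theorem F150444 : act 6 n32349 = n32349 := d41_1 D32349 (iv D32349) F141381
theorem F150445 : act 7 n32349 = n32349 := d43_1 D32349 (iv D32349) F141382
theorem F150446 : act 8 n30881 = n32349 := d37_0 F150443 (iv D30628) F115335 D26077 D30881
def n32350 : Q := act 6 n30372
theorem D32350 : act 6 n30372 = n32350 := rfl
theorem F150447 : act 1 n32350 = n30373 := d13_1 D32350 (iv D30373) D30372
theorem F150448 : act 3 n32350 = n30951 := d26_1 D32350 (iv D30951) (iv F141394)
theorem F150449 : act 8 n32350 = n30377 := d40_2 (iv F141395) D32350 (iv D30377)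
def n32351 : Q := act 5 n30373
theorem D32351 : act 5 n30373 = n32351 := rfl
theorem F150450 : act 0 n32351 = n30405 := d4_1 D32351 (iv D30405) (iv F141396)
theorem F150451 : act 2 n32351 = n30374 := d19_1 D32351 (iv D30374) (iv F141397)
theorem F150452 : act 3 n32351 = n30952 := d25_1 D32351 (iv D30952) (iv F141398)
def n32352 : Q := act 7 n30373
theorem D32352 : act 7 n30373 = n32352 := rfl
theorem F150453 : act 0 n32352 = n30406 := d6_1 D32352 (iv D30406) (iv F141396)
theorem F150454 : act 2 n32352 = n30375 := d21_1 D32352 (iv D30375) (iv F141397)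
theorem F150455 : act 3 n32352 = n30953 := d27_1 D32352 (iv D30953) (iv F141398)
theorem F150456 : act 8 n32352 = n30379 := d42_2 (iv F141399) D32352 (iv D30379)
def n32353 : Q := act 4 n30374
theorem D32353 : act 4 n30374 = n32353 := rfl
theorem F150457 : act 0 n32353 = n30407 := d3_1 D32353 (iv D30407) (iv F141400)
theorem F150458 : act 3 n32353 = n30667 := d24_1 D32353 (iv D30667) F115554 (iv F114474) (iv F141401)
def n32354 : Q := act 7 n30374
theorem D32354 : act 7 n30374 = n32354 := rfl
theorem F150459 : act 0 n32354 = n30408 := d6_1 D32354 (iv D30408) (iv F141400)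
theorem F150460 : act 3 n32354 = n30376 := d27_1 D32354 (iv D30376) (iv F141401)
theorem F150461 : act 5 n32354 = n30375 := d36_1 D32354 (iv D30375) D30374
def n32355 : Q := act 6 n30376
theorem D32355 : act 6 n30376 = n32355 := rfl
theorem F150462 : act 0 n32355 = n30410 := d5_1 D32355 (iv D30410) (iv F141405)
theorem F150463 : act 2 n32355 = n30955 := d20_1 D32355 (iv D30955) (iv F141406)
theorem F150464 : act 4 n32355 = n30669 := d31_1 D32355 (iv D30669) (iv F141407)
def n32356 : Q := act 5 n30377
theorem D32356 : act 5 n30377 = n32356 := rfl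
theorem F150465 : act 1 n32356 = n30378 := d12_1 D32356 (iv D30378) (iv F141409)
theorem F150466 : act 2 n32356 = n30416 := d19_1 D32356 F145769 F145765
theorem F150467 : act 3 n32356 = n30967 := d25_1 D32356 (iv D30967) (iv F141410)
theorem F150468 : act 4 n32356 = n30414 := d30_1 D32356 (iv D30414) (iv F139951) D32033 (iv F149162)
theorem F150469 : act 6 n32356 = n32356 := d35_2 D30377 D32356 (iv D32356) (iv D30377) F114480
theorem F150470 : act 9 n32356 = n32356 := d38_2 F141411 D32356 (iv D32356)
def n32357 : Q := act 7 n30377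
theorem D32357 : act 7 n30377 = n32357 := rfl
theorem F150471 : act 1 n32357 = n30379 := d14_1 D32357 (iv D30379) (iv F141409)
theorem F150472 : act 3 n32357 = n30968 := d27_1 D32357 (iv D30968) (iv F141410)
theorem F150473 : act 9 n32357 = n32357 := d43_2 F141411 D32357 (iv D32357)
def n32358 : Q := act 4 n30378
theorem D32358 : act 4 n30378 = n32358 := rfl
theorem F150474 : act 0 n32358 = n30425 := d3_1 D32358 (iv D30425) (iv F141412)
theorem F150475 : act 1 n32358 = n30414 := d11_1 D32358 (iv F150468) F150465
theorem F150476 : act 2 n32358 = n30380 := d18_1 D32358 (iv D30380) (iv F141413)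
theorem F150477 : act 3 n32358 = n30649 := d24_1 D32358 F142475 (iv F139325) F139326 (iv F141414)
theorem F150478 : act 5 n32358 = n30413 := d30_2 D30378 D32358 (iv F149153) F149154 F140062
theorem F150479 : act 6 n32358 = n32358 := d31_2 F141415 D32358 (iv D32358)
theorem F150480 : act 8 n32358 = n30647 := d33_2 F148699 D32358 (iv F148697)
theorem F150481 : act 9 n32358 = n32358 := d34_2 F141416 D32358 (iv D32358)
def n32359 : Q := act 7 n30378
theorem D32359 : act 7 n30378 = n32359 := rfl
theorem F150482 : act 0 n32359 = n30426 := d6_1 D32359 (iv D30426) (iv F141412)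
theorem F150483 : act 2 n32359 = n30381 := d21_1 D32359 (iv D30381) (iv F141413)
theorem F150484 : act 3 n32359 = n30969 := d27_1 D32359 (iv D30969) (iv F141414)
theorem F150485 : act 5 n32359 = n30379 := d36_1 D32359 (iv D30379) D30378
theorem F150486 : act 9 n32359 = n32359 := d43_2 F141416 D32359 (iv D32359)
def n32360 : Q := act 7 n30380
theorem D32360 : act 7 n30380 = n32360 := rfl
theorem F150487 : act 0 n32360 = n30428 := d6_1 D32360 (iv D30428) (iv F141421)
theorem F150488 : act 1 n32360 = n30489 := d14_1 D32360 (iv D30489) (iv F141422)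
theorem F150489 : act 3 n32360 = n30383 := d27_1 D32360 (iv D30383) (iv F141423)
theorem F150490 : act 4 n32360 = n30381 := d32_1 D32360 (iv D30381) D30380
theorem F150491 : act 5 n32360 = n30488 := d36_1 D32360 (iv D30488) (iv F141424)
theorem F150492 : act 8 n32360 = n30883 := d42_2 (iv F141426) D32360 (iv D30883)
theorem F150493 : act 9 n32360 = n32360 := d43_2 F141427 D32360 (iv D32360)
def n32361 : Q := act 6 n30381
theorem D32361 : act 6 n30381 = n32361 := rfl
theorem F150494 : act 0 n32361 = n30429 := d5_1 D32361 (iv D30429) (iv F141428)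
theorem F150495 : act 3 n32361 = n30382 := d26_1 D32361 (iv D30382) (iv F141429)
theorem F150496 : act 7 n32361 = n32361 := d39_2 D30381 D32361 (iv D32361) (iv D30381) F114488
theorem F150497 : act 9 n32361 = n32361 := d41_2 F141431 D32361 (iv D32361)
def n32362 : Q := act 6 n30383
theorem D32362 : act 6 n30383 = n32362 := rfl
theorem F150498 : act 0 n32362 = n30432 := d5_1 D32362 (iv D30432) (iv F141437)
theorem F150499 : act 1 n32362 = n30609 := d13_1 D32362 (iv D30609) (iv F141438)
theorem F150500 : act 2 n32362 = n30886 := d20_1 D32362 F143245 (iv F141439)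
theorem F150501 : act 4 n32362 = n30384 := d31_1 D32362 (iv D30384) (iv F141440)
theorem F150502 : act 5 n32362 = n30617 := d35_1 D32362 (iv D30617) F115265 (iv F115212) (iv F141441)
theorem F150503 : act 7 n32362 = n32362 := d39_2 D30383 D32362 (iv D32362) (iv D30383) F114519
theorem F150504 : act 8 n32362 = n30884 := d40_2 (iv F141442) D32362 (iv D30884)
theorem F150505 : act 9 n32362 = n32362 := d41_2 F141443 D32362 (iv D32362)
def n32363 : Q := act 0 n30385
theorem D32363 : act 0 n30385 = n32363 := rfl
theorem F150506 : act 2 n32363 = n30439 := d1_2 (iv F141451) D32363 (iv D30439)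
theorem F150507 : act 3 n32363 = n30559 := d2_2 (iv F141452) D32363 (iv D30559)
theorem F150508 : act 5 n32363 = n30403 := d4_2 (iv F141453) D32363 (iv D30403)
theorem F150509 : act 7 n32363 = n30465 := d6_2 (iv F141454) D32363 (iv D30465)
theorem F150510 : act 8 n32363 = n32363 := d7_2 F141455 D32363 (iv D32363)
theorem F150511 : act 9 n32363 = n30455 := d8_2 (iv F141456) D32363 (iv D30455)
def n32364 : Q := act 6 n30385
theorem D32364 : act 6 n30385 = n32364 := rfl
theorem F150512 : act 1 n32364 = n30386 := d13_1 D32364 (iv D30386) D30385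
theorem F150513 : act 2 n32364 = n30440 := d20_1 D32364 (iv D30440) (iv F141451)
theorem F150514 : act 3 n32364 = n30560 := d26_1 D32364 (iv D30560) (iv F141452)
theorem F150515 : act 8 n32364 = n32364 := d40_2 F141455 D32364 (iv D32364)
theorem F150516 : act 9 n32364 = n30456 := d41_2 (iv F141456) D32364 (iv D30456)
def n32365 : Q := act 5 n30386
theorem D32365 : act 5 n30386 = n32365 := rfl
theorem F150517 : act 2 n32365 = n30387 := d19_1 D32365 (iv D30387) (iv F141457)
theorem F150518 : act 3 n32365 = n30561 := d25_1 D32365 (iv D30561) (iv F141458)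
theorem F150519 : act 6 n32365 = n30405 := d35_2 D30386 D32365 (iv D30405) (iv D25483) (iv F114544)
theorem F150520 : act 9 n32365 = n30457 := d38_2 (iv F141460) D32365 (iv D30457)
def n32366 : Q := act 7 n30386
theorem D32366 : act 7 n30386 = n32366 := rfl
theorem F150521 : act 2 n32366 = n30388 := d21_1 D32366 (iv D30388) (iv F141457)
theorem F150522 : act 3 n32366 = n30562 := d27_1 D32366 (iv D30562) (iv F141458)
theorem F150523 : act 6 n32366 = n30468 := d39_1 D32366 (iv D30468) (iv D25535) (iv F114545) D30386
theorem F150524 : act 8 n32366 = n32366 := d42_2 F141459 D32366 (iv D32366)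
theorem F150525 : act 9 n32366 = n30458 := d43_2 (iv F141460) D32366 (iv D30458)
def n32367 : Q := act 4 n30387
theorem D32367 : act 4 n30387 = n32367 := rfl
theorem F150526 : act 1 n32367 = n30443 := d11_1 D32367 (iv D30443) (iv F141461)
theorem F150527 : act 3 n32367 = n30672 := d24_1 D32367 (iv D30672) F115691 (iv F114554) (iv F141462)
theorem F150528 : act 6 n32367 = n30407 := d31_2 (iv F141463) D32367 (iv D30407)
theorem F150529 : act 9 n32367 = n30459 := d34_2 (iv F141464) D32367 (iv D30459)
def n32368 : Q := act 7 n30387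
theorem D32368 : act 7 n30387 = n32368 := rfl
theorem F150530 : act 1 n32368 = n30444 := d14_1 D32368 (iv D30444) (iv F141461)
theorem F150531 : act 3 n32368 = n30389 := d27_1 D32368 (iv D30389) (iv F141462)
theorem F150532 : act 5 n32368 = n30388 := d36_1 D32368 (iv D30388) D30387
theorem F150533 : act 9 n32368 = n30460 := d43_2 (iv F141464) D32368 (iv D30460)
def n32369 : Q := act 8 n30387
theorem D32369 : act 8 n30387 = n32369 := rfl
theorem F150534 : act 1 n32369 = n30445 := d15_1 D32369 (iv D30445) (iv F141461)
theorem F150535 : act 3 n32369 = n30390 := d28_1 D32369 (iv D30390) (iv F141462)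
theorem F150536 : act 5 n32369 = n32369 := d37_1 D32369 (iv D32369) (iv D30387) F114550 D30387
theorem F150537 : act 6 n32369 = n30409 := d40_1 D32369 (iv D30409) (iv F141463)
def n32370 : Q := act 6 n30389
theorem D32370 : act 6 n30389 = n32370 := rfl
theorem F150538 : act 1 n32370 = n30446 := d13_1 D32370 (iv D30446) (iv F141470)
theorem F150539 : act 2 n32370 = n30566 := d20_1 D32370 (iv D30566) (iv F141471)
theorem F150540 : act 4 n32370 = n30675 := d31_1 D32370 (iv D30675) (iv F141472)
theorem F150541 : act 5 n32370 = n30472 := d35_1 D32370 (iv D30472) F114806 (iv F114560) (iv F141473)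
theorem F150542 : act 7 n32370 = n30410 := d39_2 D30389 D32370 (iv D30410) (iv D25486) (iv F114555)
theorem F150543 : act 9 n32370 = n30462 := d41_2 (iv F141474) D32370 (iv D30462)
def n32371 : Q := act 8 n30389
theorem D32371 : act 8 n30389 = n32371 := rfl
theorem F150544 : act 1 n32371 = n30447 := d15_1 D32371 (iv D30447) (iv F141470)
theorem F150545 : act 2 n32371 = n30567 := d22_1 D32371 (iv D30567) (iv F141471)
theorem F150546 : act 4 n32371 = n30676 := d33_1 D32371 (iv D30676) (iv F141472)
theorem F150547 : act 5 n32371 = n32371 := d37_1 D32371 (iv D32371) F141473 F114561 (iv F141473)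
theorem F150548 : act 7 n32371 = n30390 := d42_1 D32371 (iv D30390) D30389
def n32372 : Q := act 0 n30391
theorem D32372 : act 0 n30391 = n32372 := rfl
theorem F150549 : act 2 n32372 = n30455 := d1_2 (iv F141480) D32372 (iv D30455)
theorem F150550 : act 3 n32372 = n30530 := d2_2 (iv F141481) D32372 (iv D30530)
theorem F150551 : act 5 n32372 = n30465 := d4_2 (iv F141482) D32372 (iv D30465)
theorem F150552 : act 7 n32372 = n30403 := d6_2 (iv F141483) D32372 (iv D30403)
theorem F150553 : act 8 n32372 = n30412 := d7_2 (iv F141484) D32372 (iv D30412)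
theorem F150554 : act 9 n32372 = n30439 := d8_2 (iv F141485) D32372 (iv D30439)
def n32373 : Q := act 6 n30391
theorem D32373 : act 6 n30391 = n32373 := rfl
theorem F150555 : act 1 n32373 = n30392 := d13_1 D32373 (iv D30392) D30391
theorem F150556 : act 2 n32373 = n30456 := d20_1 D32373 (iv D30456) (iv F141480)
theorem F150557 : act 3 n32373 = n30531 := d26_1 D32373 (iv D30531) (iv F141481)
theorem F150558 : act 8 n32373 = n30413 := d40_2 (iv F141484) D32373 (iv D30413)
theorem F150559 : act 9 n32373 = n30440 := d41_2 (iv F141485) D32373 (iv D30440)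
def n32374 : Q := act 5 n30392
theorem D32374 : act 5 n30392 = n32374 := rfl
theorem F150560 : act 2 n32374 = n30393 := d19_1 D32374 (iv D30393) (iv F141486)
theorem F150561 : act 3 n32374 = n30532 := d25_1 D32374 (iv D30532) (iv F141487)
theorem F150562 : act 6 n32374 = n30467 := d35_2 D30392 D32374 (iv D30467) (iv D25535) (iv F114564)
theorem F150563 : act 9 n32374 = n30441 := d38_2 (iv F141489) D32374 (iv D30441)
def n32375 : Q := act 7 n30392
theorem D32375 : act 7 n30392 = n32375 := rfl
theorem F150564 : act 2 n32375 = n30394 := d21_1 D32375 (iv D30394) (iv F141486)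
theorem F150565 : act 3 n32375 = n30533 := d27_1 D32375 (iv D30533) (iv F141487)
theorem F150566 : act 6 n32375 = n30406 := d39_1 D32375 (iv D30406) (iv D25483) (iv F114565) D30392
theorem F150567 : act 8 n32375 = n30415 := d42_2 (iv F141488) D32375 (iv D30415)
theorem F150568 : act 9 n32375 = n30442 := d43_2 (iv F141489) D32375 (iv D30442)
def n32376 : Q := act 4 n30393
theorem D32376 : act 4 n30393 = n32376 := rfl
theorem F150569 : act 1 n32376 = n30459 := d11_1 D32376 (iv D30459) (iv F141490)
theorem F150570 : act 3 n32376 = n30725 := d24_1 D32376 (iv D30725) F115978 (iv F114574) (iv F141491)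
theorem F150571 : act 6 n32376 = n30469 := d31_2 (iv F141492) D32376 (iv D30469)
theorem F150572 : act 9 n32376 = n30443 := d34_2 (iv F141493) D32376 (iv D30443)
def n32377 : Q := act 7 n30393
theorem D32377 : act 7 n30393 = n32377 := rfl
theorem F150573 : act 1 n32377 = n30460 := d14_1 D32377 (iv D30460) (iv F141490)
theorem F150574 : act 3 n32377 = n30395 := d27_1 D32377 (iv D30395) (iv F141491)
theorem F150575 : act 5 n32377 = n30394 := d36_1 D32377 (iv D30394) D30393
theorem F150576 : act 9 n32377 = n30444 := d43_2 (iv F141493) D32377 (iv D30444)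
def n32378 : Q := act 8 n30393
theorem D32378 : act 8 n30393 = n32378 := rfl
theorem F150577 : act 1 n32378 = n30461 := d15_1 D32378 (iv D30461) (iv F141490)
theorem F150578 : act 3 n32378 = n30396 := d28_1 D32378 (iv D30396) (iv F141491)
theorem F150579 : act 5 n32378 = n30418 := d37_1 D32378 (iv D30418) (iv D25490) (iv F114570) D30393
theorem F150580 : act 6 n32378 = n30471 := d40_1 D32378 (iv D30471) (iv F141492)
def n32379 : Q := act 6 n30395
theorem D32379 : act 6 n30395 = n32379 := rfl
theorem F150581 : act 1 n32379 = n30462 := d13_1 D32379 (iv D30462) (iv F141499)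
theorem F150582 : act 2 n32379 = n30537 := d20_1 D32379 (iv D30537) (iv F141500)
theorem F150583 : act 4 n32379 = n30728 := d31_1 D32379 (iv D30728) (iv F141501)
theorem F150584 : act 5 n32379 = n30410 := d35_1 D32379 (iv D30410) F114617 (iv F114580) (iv F141502)
theorem F150585 : act 7 n32379 = n30472 := d39_2 D30395 D32379 (iv D30472) (iv D25538) (iv F114575)
theorem F150586 : act 9 n32379 = n30446 := d41_2 (iv F141503) D32379 (iv D30446)
def n32380 : Q := act 8 n30395
theorem D32380 : act 8 n30395 = n32380 := rfl
theorem F150587 : act 1 n32380 = n30463 := d15_1 D32380 (iv D30463) (iv F141499)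
theorem F150588 : act 2 n32380 = n30538 := d22_1 D32380 (iv D30538) (iv F141500)
theorem F150589 : act 4 n32380 = n30729 := d33_1 D32380 (iv D30729) (iv F141501)
theorem F150590 : act 5 n32380 = n30420 := d37_1 D32380 (iv D30420) F114641 (iv F114581) (iv F141502)
theorem F150591 : act 7 n32380 = n30396 := d42_1 D32380 (iv D30396) D30395
def n32381 : Q := act 9 n30396
theorem D32381 : act 9 n30396 = n32381 := rfl
theorem F150592 : act 1 n32381 = n30464 := d16_1 D32381 (iv D30464) (iv F141504)
theorem F150593 : act 2 n32381 = n30539 := d23_1 D32381 (iv D30539) (iv F141505)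
theorem F150594 : act 4 n32381 = n30730 := d34_1 D32381 (iv D30730) (iv F141506)
theorem F150595 : act 5 n32381 = n30421 := d38_1 D32381 (iv D30421) (iv F141507)
theorem F150596 : act 6 n32381 = n30474 := d41_1 D32381 (iv D30474) (iv F141508)
theorem F150597 : act 8 n32381 = n30448 := d44_1 D32381 (iv D30448) (iv D25523) (iv F114576) D30396
def n32382 : Q := act 0 n30397
theorem D32382 : act 0 n30397 = n32382 := rfl
theorem F150598 : act 2 n32382 = n30465 := d1_2 (iv F141509) D32382 (iv D30465)
theorem F150599 : act 3 n32382 = n30521 := d2_2 (iv F141510) D32382 (iv D30521)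
theorem F150600 : act 5 n32382 = n30455 := d4_2 (iv F141511) D32382 (iv D30455)
theorem F150601 : act 7 n32382 = n30439 := d6_2 (iv F141512) D32382 (iv D30439)
theorem F150602 : act 8 n32382 = n32382 := d7_2 F141513 D32382 (iv D32382)
theorem F150603 : act 9 n32382 = n30403 := d8_2 (iv F141514) D32382 (iv D30403)
def n32383 : Q := act 6 n30397
theorem D32383 : act 6 n30397 = n32383 := rfl
theorem F150604 : act 1 n32383 = n30398 := d13_1 D32383 (iv D30398) D30397
theorem F150605 : act 2 n32383 = n30466 := d20_1 D32383 (iv D30466) (iv F141509)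
theorem F150606 : act 3 n32383 = n30522 := d26_1 D32383 (iv D30522) (iv F141510)
theorem F150607 : act 8 n32383 = n32383 := d40_2 F141513 D32383 (iv D32383)
theorem F150608 : act 9 n32383 = n30404 := d41_2 (iv F141514) D32383 (iv D30404)
def n32384 : Q := act 5 n30398
theorem D32384 : act 5 n30398 = n32384 := rfl
theorem F150609 : act 2 n32384 = n30399 := d19_1 D32384 (iv D30399) (iv F141515)
theorem F150610 : act 3 n32384 = n30523 := d25_1 D32384 (iv D30523) (iv F141516)
theorem F150611 : act 6 n32384 = n30457 := d35_2 D30398 D32384 (iv D30457) (iv D25529) (iv F114584)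
theorem F150612 : act 9 n32384 = n30405 := d38_2 (iv F141518) D32384 (iv D30405)
def n32385 : Q := act 7 n30398
theorem D32385 : act 7 n30398 = n32385 := rfl
theorem F150613 : act 2 n32385 = n30400 := d21_1 D32385 (iv D30400) (iv F141515)
theorem F150614 : act 3 n32385 = n30524 := d27_1 D32385 (iv D30524) (iv F141516)
theorem F150615 : act 6 n32385 = n30442 := d39_1 D32385 (iv D30442) (iv D25519) (iv F114585) D30398
theorem F150616 : act 8 n32385 = n32385 := d42_2 F141517 D32385 (iv D32385)
theorem F150617 : act 9 n32385 = n30406 := d43_2 (iv F141518) D32385 (iv D30406)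
def n32386 : Q := act 4 n30399
theorem D32386 : act 4 n30399 = n32386 := rfl
theorem F150618 : act 1 n32386 = n30469 := d11_1 D32386 (iv D30469) (iv F141519)
theorem F150619 : act 3 n32386 = n30688 := d24_1 D32386 (iv D30688) F115731 (iv F114594) (iv F141520)
theorem F150620 : act 6 n32386 = n30459 := d31_2 (iv F141521) D32386 (iv D30459)
theorem F150621 : act 9 n32386 = n30407 := d34_2 (iv F141522) D32386 (iv D30407)
def n32387 : Q := act 7 n30399
theorem D32387 : act 7 n30399 = n32387 := rfl
theorem F150622 : act 1 n32387 = n30470 := d14_1 D32387 (iv D30470) (iv F141519)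
theorem F150623 : act 3 n32387 = n30401 := d27_1 D32387 (iv D30401) (iv F141520)
theorem F150624 : act 5 n32387 = n30400 := d36_1 D32387 (iv D30400) D30399
theorem F150625 : act 9 n32387 = n30408 := d43_2 (iv F141522) D32387 (iv D30408)
def n32388 : Q := act 8 n30399
theorem D32388 : act 8 n30399 = n32388 := rfl
theorem F150626 : act 1 n32388 = n30471 := d15_1 D32388 (iv D30471) (iv F141519)
theorem F150627 : act 3 n32388 = n30402 := d28_1 D32388 (iv D30402) (iv F141520)
theorem F150628 : act 5 n32388 = n32388 := d37_1 D32388 (iv D32388) (iv D30399) F114590 D30399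
theorem F150629 : act 6 n32388 = n30461 := d40_1 D32388 (iv D30461) (iv F141521)
def n32389 : Q := act 6 n30401
theorem D32389 : act 6 n30401 = n32389 := rfl
theorem F150630 : act 1 n32389 = n30472 := d13_1 D32389 (iv D30472) (iv F141528)
theorem F150631 : act 2 n32389 = n30528 := d20_1 D32389 (iv D30528) (iv F141529)
theorem F150632 : act 4 n32389 = n30691 := d31_1 D32389 (iv D30691) (iv F141530)
theorem F150633 : act 5 n32389 = n30446 := d35_1 D32389 (iv D30446) F114753 (iv F114600) (iv F141531)
theorem F150634 : act 7 n32389 = n30462 := d39_2 D30401 D32389 (iv D30462) (iv D25532) (iv F114595)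
theorem F150635 : act 9 n32389 = n30410 := d41_2 (iv F141532) D32389 (iv D30410)
def n32390 : Q := act 8 n30401
theorem D32390 : act 8 n30401 = n32390 := rfl
theorem F150636 : act 1 n32390 = n30473 := d15_1 D32390 (iv D30473) (iv F141528)
theorem F150637 : act 2 n32390 = n30529 := d22_1 D32390 (iv D30529) (iv F141529)
theorem F150638 : act 4 n32390 = n30692 := d33_1 D32390 (iv D30692) (iv F141530)
theorem F150639 : act 5 n32390 = n32390 := d37_1 D32390 (iv D32390) F141531 F114601 (iv F141531)
theorem F150640 : act 7 n32390 = n30402 := d42_1 D32390 (iv D30402) D30401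
def n32391 : Q := act 6 n30403
theorem D32391 : act 6 n30403 = n32391 := rfl
theorem F150641 : act 0 n32391 = n30404 := d5_1 D32391 (iv D30404) D30403
theorem F150642 : act 2 n32391 = n30475 := d20_1 D32391 (iv D30475) (iv F141538)
theorem F150643 : act 3 n32391 = n30971 := d26_1 D32391 (iv D30971) (iv F141539)
theorem F150644 : act 8 n32391 = n30422 := d40_2 (iv F141540) D32391 (iv D30422)
def n32392 : Q := act 5 n30404
theorem D32392 : act 5 n30404 = n32392 := rfl
theorem F150645 : act 1 n32392 = n30405 := d12_1 D32392 (iv D30405) (iv F141541)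
theorem F150646 : act 2 n32392 = n30476 := d19_1 D32392 (iv D30476) (iv F141542)
theorem F150647 : act 3 n32392 = n30972 := d25_1 D32392 (iv D30972) (iv F141543)
def n32393 : Q := act 7 n30404
theorem D32393 : act 7 n30404 = n32393 := rfl
theorem F150648 : act 1 n32393 = n30406 := d14_1 D32393 (iv D30406) (iv F141541)
theorem F150649 : act 2 n32393 = n30477 := d21_1 D32393 (iv D30477) (iv F141542)
theorem F150650 : act 3 n32393 = n30973 := d27_1 D32393 (iv D30973) (iv F141543)
theorem F150651 : act 8 n32393 = n30424 := d42_2 (iv F141544) D32393 (iv D30424)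
def n32394 : Q := act 4 n30405
theorem D32394 : act 4 n30405 = n32394 := rfl
theorem F150652 : act 2 n32394 = n30407 := d18_1 D32394 (iv D30407) (iv F141545)
def n32395 : Q := act 7 n30405
theorem D32395 : act 7 n30405 = n32395 := rfl
theorem F150653 : act 2 n32395 = n30408 := d21_1 D32395 (iv D30408) (iv F141545)
theorem F150654 : act 3 n32395 = n30974 := d27_1 D32395 (iv D30974) (iv F141546)
theorem F150655 : act 5 n32395 = n30406 := d36_1 D32395 (iv D30406) D30405
def n32396 : Q := act 8 n30405
theorem D32396 : act 8 n30405 = n32396 := rfl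
theorem F150656 : act 2 n32396 = n30409 := d22_1 D32396 (iv D30409) (iv F141545)
theorem F150657 : act 3 n32396 = n30831 := d28_1 D32396 (iv F143061) (iv F141546)
theorem F150658 : act 5 n32396 = n30427 := d37_1 D32396 (iv D30427) (iv D25496) (iv F114608) D30405
def n32397 : Q := act 7 n30407
theorem D32397 : act 7 n30407 = n32397 := rfl
theorem F150659 : act 1 n32397 = n30481 := d14_1 D32397 (iv D30481) (iv F141550)
theorem F150660 : act 3 n32397 = n30696 := d27_1 D32397 (iv D30696) (iv F141551)
theorem F150661 : act 4 n32397 = n30408 := d32_1 D32397 (iv D30408) D30407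
def n32398 : Q := act 8 n30407
theorem D32398 : act 8 n30407 = n32398 := rfl
theorem F150662 : act 1 n32398 = n30482 := d15_1 D32398 (iv D30482) (iv F141550)
theorem F150663 : act 3 n32398 = n30697 := d28_1 D32398 (iv D30697) (iv F141551)
theorem F150664 : act 4 n32398 = n30409 := d33_1 D32398 (iv D30409) D30407
def n32399 : Q := act 6 n30408
theorem D32399 : act 6 n30408 = n32399 := rfl
theorem F150665 : act 1 n32399 = n30483 := d13_1 D32399 (iv D30483) (iv F141552)
theorem F150666 : act 3 n32399 = n30410 := d26_1 D32399 (iv D30410) (iv F141553)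
def n32400 : Q := act 8 n30408
theorem D32400 : act 8 n30408 = n32400 := rfl
theorem F150667 : act 1 n32400 = n30484 := d15_1 D32400 (iv D30484) (iv F141552)
theorem F150668 : act 3 n32400 = n30411 := d28_1 D32400 (iv D30411) (iv F141553)
theorem F150669 : act 5 n32400 = n30430 := d37_1 D32400 (iv D30430) F114668 (iv F114613) (iv F141554)
theorem F150670 : act 7 n32400 = n30409 := d42_1 D32400 (iv D30409) D30408
def n32401 : Q := act 8 n30410
theorem D32401 : act 8 n30410 = n32401 := rfl
theorem F150671 : act 1 n32401 = n30486 := d15_1 D32401 (iv D30486) (iv F141558)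
theorem F150672 : act 2 n32401 = n30839 := d22_1 D32401 F143088 (iv F141559)
theorem F150673 : act 4 n32401 = n30700 := d33_1 D32401 (iv D30700) (iv F141560)
theorem F150674 : act 6 n32401 = n30411 := d40_1 D32401 (iv D30411) D30410
def n32402 : Q := act 7 n30413
theorem D32402 : act 7 n30413 = n32402 := rfl
theorem F150675 : act 1 n32402 = n30415 := d14_1 D32402 (iv D30415) (iv F141571)
theorem F150676 : act 2 n32402 = n30488 := d21_1 D32402 (iv D30488) (iv F141572)
theorem F150677 : act 3 n32402 = n30977 := d27_1 D32402 (iv D30977) (iv F141573)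
theorem F150678 : act 6 n32402 = n30424 := d39_1 D32402 (iv D30424) (iv D25495) (iv F114625) D30413
theorem F150679 : act 9 n32402 = n32402 := d43_2 F141574 D32402 (iv D32402)
def n32403 : Q := act 7 n30414
theorem D32403 : act 7 n30414 = n32403 := rfl
theorem F150680 : act 2 n32403 = n30417 := d21_1 D32403 (iv D30417) (iv F141575)
theorem F150681 : act 3 n32403 = n30978 := d27_1 D32403 (iv D30978) (iv F141576)
theorem F150682 : act 5 n32403 = n30415 := d36_1 D32403 (iv D30415) D30414
theorem F150683 : act 9 n32403 = n32403 := d43_2 F141578 D32403 (iv D32403)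
def n32404 : Q := act 8 n30414
theorem D32404 : act 8 n30414 = n32404 := rfl
theorem F150684 : act 1 n32404 = n30647 := d15_1 D32404 (iv F150480) F150475
theorem F150685 : act 2 n32404 = n30418 := d22_1 D32404 (iv D30418) (iv F141575)
theorem F150686 : act 3 n32404 = n30644 := d28_1 D32404 (iv F142456) (iv F141576)
theorem F150687 : act 6 n32404 = n32404 := d40_1 D32404 (iv D32404) F141577
theorem F150688 : act 9 n30658 = n32404 := d29_0 F150686 F142455 D30658
def n32405 : Q := act 7 n30416
theorem D32405 : act 7 n30416 = n32405 := rfl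
theorem F150689 : act 1 n32405 = n30491 := d14_1 D32405 (iv D30491) (iv F141583)
theorem F150690 : act 3 n32405 = n32405 := d27_1 D32405 (iv D32405) F141584
theorem F150691 : act 4 n32405 = n30417 := d32_1 D32405 (iv D30417) D30416
theorem F150692 : act 9 n32405 = n32405 := d43_2 F141586 D32405 (iv D32405)
def n32406 : Q := act 8 n30416
theorem D32406 : act 8 n30416 = n32406 := rfl
theorem F150693 : act 1 n32406 = n30492 := d15_1 D32406 (iv D30492) (iv F141583)
theorem F150694 : act 3 n32406 = n32406 := d28_1 D32406 (iv D32406) F141584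
theorem F150695 : act 4 n32406 = n30418 := d33_1 D32406 (iv D30418) D30416
theorem F150696 : act 6 n32406 = n32406 := d40_1 D32406 (iv D32406) F141585
def n32407 : Q := act 6 n30417
theorem D32407 : act 6 n30417 = n32407 := rfl
theorem F150697 : act 1 n32407 = n30493 := d13_1 D32407 (iv D30493) (iv F141587)
theorem F150698 : act 3 n32407 = n30419 := d26_1 D32407 (iv D30419) (iv F141588)
theorem F150699 : act 5 n32407 = n30429 := d35_1 D32407 (iv D30429) F114668 (iv F114636) (iv F141589)
theorem F150700 : act 7 n32407 = n32407 := d39_2 D30417 D32407 (iv D32407) (iv D30417) F114632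
theorem F150701 : act 9 n32407 = n32407 := d41_2 F141590 D32407 (iv D32407)
def n32408 : Q := act 8 n30417
theorem D32408 : act 8 n30417 = n32408 := rfl
theorem F150702 : act 1 n32408 = n30494 := d15_1 D32408 (iv D30494) (iv F141587)
theorem F150703 : act 3 n32408 = n30420 := d28_1 D32408 (iv D30420) (iv F141588)
theorem F150704 : act 7 n32408 = n30418 := d42_1 D32408 (iv D30418) D30417
def n32409 : Q := act 9 n30418
theorem D32409 : act 9 n30418 = n32409 := rfl
theorem F150705 : act 1 n32409 = n30495 := d16_1 D32409 (iv D30495) (iv F141591)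
theorem F150706 : act 2 n32409 = n30658 := d23_1 D32409 F150688 F150685
theorem F150707 : act 3 n32409 = n30421 := d29_1 D32409 (iv D30421) (iv F141592)
theorem F150708 : act 6 n32409 = n32409 := d41_1 D32409 (iv D32409) F141593
theorem F150709 : act 8 n32409 = n32409 := d44_1 D32409 (iv D32409) (iv D30418) F114633 D30418
def n32410 : Q := act 8 n30419
theorem D32410 : act 8 n30419 = n32410 := rfl
theorem F150710 : act 1 n32410 = n30496 := d15_1 D32410 (iv D30496) (iv F141594)
theorem F150711 : act 2 n32410 = n30982 := d22_1 D32410 (iv D30982) (iv F141595)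
theorem F150712 : act 4 n32410 = n32410 := d33_1 D32410 (iv D32410) F141596
theorem F150713 : act 6 n32410 = n30420 := d40_1 D32410 (iv D30420) D30419
theorem F150714 : act 7 n32410 = n32410 := d42_1 D32410 (iv D32410) F141598
def n32411 : Q := act 9 n30420
theorem D32411 : act 9 n30420 = n32411 := rfl
theorem F150715 : act 1 n32411 = n30497 := d16_1 D32411 (iv D30497) (iv F141600)
theorem F150716 : act 2 n32411 = n30983 := d23_1 D32411 (iv D30983) (iv F141601)
theorem F150717 : act 4 n32411 = n32411 := d34_1 D32411 (iv D32411) F141602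
theorem F150718 : act 7 n32411 = n30421 := d43_1 D32411 (iv D30421) (iv F141603)
theorem F150719 : act 8 n32411 = n32411 := d44_1 D32411 (iv D32411) (iv D30420) F114642 D30420
def n32412 : Q := act 5 n30422
theorem D32412 : act 5 n30422 = n32412 := rfl
theorem F150720 : act 0 n32412 = n30423 := d4_1 D32412 (iv D30423) (iv F141609)
theorem F150721 : act 2 n32412 = n30498 := d19_1 D32412 (iv D30498) (iv F141610)
theorem F150722 : act 3 n32412 = n30984 := d25_1 D32412 (iv D30984) (iv F141611)
theorem F150723 : act 6 n32412 = n32412 := d35_2 D30422 D32412 (iv D32412) (iv D30422) F114649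
theorem F150724 : act 9 n32412 = n32412 := d38_2 F141612 D32412 (iv D32412)
def n32413 : Q := act 7 n30422
theorem D32413 : act 7 n30422 = n32413 := rfl
theorem F150725 : act 0 n32413 = n30424 := d6_1 D32413 (iv D30424) (iv F141609)
theorem F150726 : act 2 n32413 = n30499 := d21_1 D32413 (iv D30499) (iv F141610)
theorem F150727 : act 3 n32413 = n30985 := d27_1 D32413 (iv D30985) (iv F141611)
theorem F150728 : act 9 n32413 = n32413 := d43_2 F141612 D32413 (iv D32413)
def n32414 : Q := act 4 n30423
theorem D32414 : act 4 n30423 = n32414 := rfl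
theorem F150729 : act 1 n32414 = n30425 := d11_1 D32414 (iv D30425) (iv F141613)
theorem F150730 : act 2 n32414 = n30500 := d18_1 D32414 (iv D30500) (iv F141614)
theorem F150731 : act 6 n32414 = n32414 := d31_2 F141616 D32414 (iv D32414)
theorem F150732 : act 9 n32414 = n32414 := d34_2 F141617 D32414 (iv D32414)
def n32415 : Q := act 7 n30423
theorem D32415 : act 7 n30423 = n32415 := rfl
theorem F150733 : act 1 n32415 = n30426 := d14_1 D32415 (iv D30426) (iv F141613)
theorem F150734 : act 2 n32415 = n30501 := d21_1 D32415 (iv D30501) (iv F141614)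
theorem F150735 : act 3 n32415 = n30986 := d27_1 D32415 (iv D30986) (iv F141615)
theorem F150736 : act 5 n32415 = n30424 := d36_1 D32415 (iv D30424) D30423
theorem F150737 : act 9 n32415 = n32415 := d43_2 F141617 D32415 (iv D32415)
def n32416 : Q := act 8 n30423
theorem D32416 : act 8 n30423 = n32416 := rfl
theorem F150738 : act 1 n32416 = n30427 := d15_1 D32416 (iv D30427) (iv F141613)
theorem F150739 : act 2 n32416 = n30502 := d22_1 D32416 (iv D30502) (iv F141614)
theorem F150740 : act 3 n32416 = n30873 := d28_1 D32416 (iv F143195) (iv F141615)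
theorem F150741 : act 6 n32416 = n32416 := d40_1 D32416 (iv D32416) F141616
def n32417 : Q := act 7 n30425
theorem D32417 : act 7 n30425 = n32417 := rfl
theorem F150742 : act 2 n32417 = n30428 := d21_1 D32417 (iv D30428) (iv F141622)
theorem F150743 : act 4 n32417 = n30426 := d32_1 D32417 (iv D30426) D30425
theorem F150744 : act 9 n32417 = n32417 := d43_2 F141624 D32417 (iv D32417)
def n32418 : Q := act 6 n30426
theorem D32418 : act 6 n30426 = n32418 := rfl
theorem F150745 : act 2 n32418 = n30429 := d20_1 D32418 (iv D30429) (iv F141625)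
theorem F150746 : act 3 n32418 = n30987 := d26_1 D32418 (iv D30987) (iv F141626)
theorem F150747 : act 7 n32418 = n32418 := d39_2 D30426 D32418 (iv D32418) (iv D30426) F114657
theorem F150748 : act 9 n32418 = n32418 := d41_2 F141628 D32418 (iv D32418)
def n32419 : Q := act 8 n30426
theorem D32419 : act 8 n30426 = n32419 := rfl
theorem F150749 : act 2 n32419 = n30430 := d22_1 D32419 (iv D30430) (iv F141625)
theorem F150750 : act 3 n32419 = n30876 := d28_1 D32419 F143207 (iv F141626)
theorem F150751 : act 7 n32419 = n30427 := d42_1 D32419 (iv D30427) D30426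
def n32420 : Q := act 6 n30428
theorem D32420 : act 6 n30428 = n32420 := rfl
theorem F150752 : act 1 n32420 = n30508 := d13_1 D32420 (iv D30508) (iv F141632)
theorem F150753 : act 3 n32420 = n30432 := d26_1 D32420 (iv D30432) (iv F141633)
theorem F150754 : act 4 n32420 = n30429 := d31_1 D32420 (iv D30429) (iv F141634)
theorem F150755 : act 7 n32420 = n32420 := d39_2 D30428 D32420 (iv D32420) (iv D30428) F114664
theorem F150756 : act 9 n32420 = n32420 := d41_2 F141635 D32420 (iv D32420)
def n32421 : Q := act 8 n30429
theorem D32421 : act 8 n30429 = n32421 := rfl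
theorem F150757 : act 1 n32421 = n30511 := d15_1 D32421 (iv D30511) (iv F141636)
theorem F150758 : act 3 n32421 = n30431 := d28_1 D32421 (iv D30431) (iv F141637)
theorem F150759 : act 6 n32421 = n30430 := d40_1 D32421 (iv D30430) D30429
theorem F150760 : act 7 n32421 = n32421 := d42_1 D32421 (iv D32421) F141638
def n32422 : Q := act 5 n30431
theorem D32422 : act 5 n30431 = n32422 := rfl
theorem F150761 : act 1 n32422 = n30513 := d12_1 D32422 (iv D30513) (iv F141643)
theorem F150762 : act 2 n32422 = n30882 := d19_1 D32422 (iv D30882) (iv F141644)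
theorem F150763 : act 4 n32422 = n30888 := d30_1 D32422 (iv D30888) F116830 (iv F134814) (iv F141645)
theorem F150764 : act 7 n32422 = n32422 := d36_2 F141647 D32422 (iv D32422)
def n32423 : Q := act 5 n30432
theorem D32423 : act 5 n30432 = n32423 := rfl
theorem F150765 : act 0 n32423 = n30617 := d4_1 D32423 (iv F150502) F150498
theorem F150766 : act 1 n32423 = n30515 := d12_1 D32423 (iv D30515) (iv F141648)
theorem F150767 : act 2 n32423 = n31092 := d19_1 D32423 F148780 F148775
theorem F150768 : act 4 n32423 = n32423 := d30_1 D32423 (iv D32423) F141649 F114709 (iv F141649)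
theorem F150769 : act 6 n32423 = n30615 := d35_2 D30432 D32423 F142330 (iv F140563) F140562
theorem F150770 : act 7 n32423 = n32423 := d36_2 F141650 D32423 (iv D32423)
theorem F150771 : act 9 n32423 = n32423 := d38_2 F141651 D32423 (iv D32423)
def n32424 : Q := act 6 n30433
theorem D32424 : act 6 n30433 = n32424 := rfl
theorem F150772 : act 1 n32424 = n30434 := d13_1 D32424 (iv D30434) D30433
theorem F150773 : act 3 n32424 = n32424 := d26_1 D32424 (iv D32424) F141652
theorem F150774 : act 4 n32424 = n30440 := d31_1 D32424 (iv D30440) (iv F141653)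
theorem F150775 : act 8 n32424 = n32424 := d40_2 F141654 D32424 (iv D32424)
def n32425 : Q := act 5 n30434
theorem D32425 : act 5 n30434 = n32425 := rfl
theorem F150776 : act 2 n32425 = n30435 := d19_1 D32425 (iv D30435) (iv F141655)
theorem F150777 : act 3 n32425 = n32425 := d25_1 D32425 (iv D32425) F141656
def n32426 : Q := act 7 n30434
theorem D32426 : act 7 n30434 = n32426 := rfl
theorem F150778 : act 2 n32426 = n30436 := d21_1 D32426 (iv D30436) (iv F141655)
theorem F150779 : act 3 n32426 = n32426 := d27_1 D32426 (iv D32426) F141656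
theorem F150780 : act 4 n32426 = n30442 := d32_1 D32426 (iv D30442) (iv F141657)
theorem F150781 : act 8 n32426 = n32426 := d42_2 F141658 D32426 (iv D32426)
def n32427 : Q := act 4 n30435
theorem D32427 : act 4 n30435 = n32427 := rfl
theorem F150782 : act 3 n32427 = n30711 := d24_1 D32427 (iv D30711) F115945 (iv F114737) (iv F141659)
theorem F150783 : act 5 n32427 = n30443 := d30_2 D30435 D32427 (iv D30443) (iv D25520) (iv F114734)
def n32428 : Q := act 7 n30435
theorem D32428 : act 7 n30435 = n32428 := rfl
theorem F150784 : act 3 n32428 = n30437 := d27_1 D32428 (iv D30437) (iv F141659)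
theorem F150785 : act 5 n32428 = n30436 := d36_1 D32428 (iv D30436) D30435
def n32429 : Q := act 8 n30435
theorem D32429 : act 8 n30435 = n32429 := rfl
theorem F150786 : act 3 n32429 = n30438 := d28_1 D32429 (iv D30438) (iv F141659)
theorem F150787 : act 5 n32429 = n32429 := d37_1 D32429 (iv D32429) (iv D30435) F114735 D30435
def n32430 : Q := act 6 n30437
theorem D32430 : act 6 n30437 = n32430 := rfl
theorem F150788 : act 2 n32430 = n32430 := d20_1 D32430 (iv D32430) F141663
theorem F150789 : act 4 n32430 = n30714 := d31_1 D32430 (iv D30714) (iv F141664)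
def n32431 : Q := act 8 n30437
theorem D32431 : act 8 n30437 = n32431 := rfl
theorem F150790 : act 2 n32431 = n32431 := d22_1 D32431 (iv D32431) F141663
theorem F150791 : act 4 n32431 = n30715 := d33_1 D32431 (iv D30715) (iv F141664)
theorem F150792 : act 5 n32431 = n32431 := d37_1 D32431 (iv D32431) F141665 F114740 (iv F141665)
theorem F150793 : act 7 n32431 = n30438 := d42_1 D32431 (iv D30438) D30437
def n32432 : Q := act 6 n30439
theorem D32432 : act 6 n30439 = n32432 := rfl
theorem F150794 : act 0 n32432 = n30440 := d5_1 D32432 (iv D30440) D30439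
theorem F150795 : act 3 n32432 = n30540 := d26_1 D32432 (iv D30540) (iv F141669)
theorem F150796 : act 8 n32432 = n32432 := d40_2 F141671 D32432 (iv D32432)
def n32433 : Q := act 5 n30440
theorem D32433 : act 5 n30440 = n32433 := rfl
theorem F150797 : act 1 n32433 = n30441 := d12_1 D32433 (iv D30441) (iv F141672)
theorem F150798 : act 3 n32433 = n30541 := d25_1 D32433 (iv D30541) (iv F141673)
theorem F150799 : act 6 n32433 = n30476 := d35_2 D30440 D32433 (iv D30476) (iv D25541) (iv F114742)
def n32434 : Q := act 7 n30440
theorem D32434 : act 7 n30440 = n32434 := rfl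
theorem F150800 : act 1 n32434 = n30442 := d14_1 D32434 (iv D30442) (iv F141672)
theorem F150801 : act 3 n32434 = n30542 := d27_1 D32434 (iv D30542) (iv F141673)
theorem F150802 : act 8 n32434 = n32434 := d42_2 F141674 D32434 (iv D32434)
def n32435 : Q := act 4 n30441
theorem D32435 : act 4 n30441 = n32435 := rfl
theorem F150803 : act 2 n32435 = n30443 := d18_1 D32435 (iv D30443) (iv F141675)
theorem F150804 : act 6 n32435 = n30478 := d31_2 (iv F141677) D32435 (iv D30478)
def n32436 : Q := act 7 n30441
theorem D32436 : act 7 n30441 = n32436 := rfl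
theorem F150805 : act 2 n32436 = n30444 := d21_1 D32436 (iv D30444) (iv F141675)
theorem F150806 : act 3 n32436 = n30544 := d27_1 D32436 (iv D30544) (iv F141676)
theorem F150807 : act 5 n32436 = n30442 := d36_1 D32436 (iv D30442) D30441
def n32437 : Q := act 8 n30441
theorem D32437 : act 8 n30441 = n32437 := rfl
theorem F150808 : act 2 n32437 = n30445 := d22_1 D32437 (iv D30445) (iv F141675)
theorem F150809 : act 3 n32437 = n30545 := d28_1 D32437 (iv D30545) (iv F141676)
theorem F150810 : act 5 n32437 = n32437 := d37_1 D32437 (iv D32437) (iv D30441) F114746 D30441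
theorem F150811 : act 6 n32437 = n30480 := d40_1 D32437 (iv D30480) (iv F141677)
def n32438 : Q := act 7 n30443
theorem D32438 : act 7 n30443 = n32438 := rfl
theorem F150812 : act 3 n32438 = n30736 := d27_1 D32438 (iv D30736) (iv F141681)
theorem F150813 : act 4 n32438 = n30444 := d32_1 D32438 (iv D30444) D30443
def n32439 : Q := act 8 n30443
theorem D32439 : act 8 n30443 = n32439 := rfl
theorem F150814 : act 3 n32439 = n30737 := d28_1 D32439 (iv D30737) (iv F141681)
theorem F150815 : act 4 n32439 = n30445 := d33_1 D32439 (iv D30445) D30443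
theorem F150816 : act 6 n32439 = n30482 := d40_1 D32439 (iv D30482) (iv F141682)
def n32440 : Q := act 6 n30444
theorem D32440 : act 6 n30444 = n32440 := rfl
theorem F150817 : act 3 n32440 = n30446 := d26_1 D32440 (iv D30446) (iv F141683)
theorem F150818 : act 7 n32440 = n30483 := d39_2 D30444 D32440 (iv D30483) (iv D25545) (iv F114748)
def n32441 : Q := act 8 n30444
theorem D32441 : act 8 n30444 = n32441 := rfl
theorem F150819 : act 3 n32441 = n30447 := d28_1 D32441 (iv D30447) (iv F141683)
theorem F150820 : act 5 n32441 = n32441 := d37_1 D32441 (iv D32441) F141684 F114750 (iv F141684)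
theorem F150821 : act 7 n32441 = n30445 := d42_1 D32441 (iv D30445) D30444
def n32442 : Q := act 9 n30445
theorem D32442 : act 9 n30445 = n32442 := rfl
theorem F150822 : act 3 n32442 = n30448 := d29_1 D32442 (iv D30448) (iv F141685)
theorem F150823 : act 5 n32442 = n32442 := d38_1 D32442 (iv D32442) F141686
theorem F150824 : act 6 n32442 = n30485 := d41_1 D32442 (iv D30485) (iv F141687)
def n32443 : Q := act 8 n30446
theorem D32443 : act 8 n30446 = n32443 := rfl
theorem F150825 : act 2 n32443 = n30551 := d22_1 D32443 (iv D30551) (iv F141688)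
theorem F150826 : act 4 n32443 = n30741 := d33_1 D32443 (iv D30741) (iv F141689)
theorem F150827 : act 6 n32443 = n30447 := d40_1 D32443 (iv D30447) D30446
theorem F150828 : act 7 n32443 = n30486 := d42_1 D32443 (iv D30486) (iv F141690)
def n32444 : Q := act 9 n30447
theorem D32444 : act 9 n30447 = n32444 := rfl
theorem F150829 : act 2 n32444 = n30552 := d23_1 D32444 (iv D30552) (iv F141691)
theorem F150830 : act 4 n32444 = n30742 := d34_1 D32444 (iv D30742) (iv F141692)
theorem F150831 : act 5 n32444 = n32444 := d38_1 D32444 (iv D32444) F141693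
theorem F150832 : act 7 n32444 = n30448 := d43_1 D32444 (iv D30448) (iv F141694)
def n32445 : Q := act 5 n30450
theorem D32445 : act 5 n30450 = n32445 := rfl
theorem F150833 : act 2 n32445 = n30451 := d19_1 D32445 (iv D30451) (iv F141705)
theorem F150834 : act 3 n32445 = n30553 := d25_1 D32445 (iv D30553) (iv F141706)
theorem F150835 : act 6 n32445 = n30686 := d35_2 D30450 D32445 (iv D30686) (iv D25777) (iv F114759)
theorem F150836 : act 9 n32445 = n30670 := d38_2 (iv F141708) D32445 (iv D30670)
def n32446 : Q := act 7 n30450
theorem D32446 : act 7 n30450 = n32446 := rfl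
theorem F150837 : act 2 n32446 = n30452 := d21_1 D32446 (iv D30452) (iv F141705)
theorem F150838 : act 3 n32446 = n30554 := d27_1 D32446 (iv D30554) (iv F141706)
theorem F150839 : act 6 n32446 = n30745 := d39_1 D32446 (iv D30745) (iv D25862) (iv F114760) D30450
theorem F150840 : act 8 n32446 = n32446 := d42_2 F141707 D32446 (iv D32446)
theorem F150841 : act 9 n32446 = n30671 := d43_2 (iv F141708) D32446 (iv D30671)
def n32447 : Q := act 4 n30451
theorem D32447 : act 4 n30451 = n32447 := rfl
theorem F150842 : act 1 n32447 = n30725 := d11_1 D32447 (iv D30725) (iv F141709)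
theorem F150843 : act 3 n32447 = n30459 := d24_1 D32447 (iv D30459) F114784 (iv F114769) (iv F141710)
theorem F150844 : act 6 n32447 = n30688 := d31_2 (iv F141711) D32447 (iv D30688)
theorem F150845 : act 9 n32447 = n30672 := d34_2 (iv F141712) D32447 (iv D30672)
def n32448 : Q := act 7 n30451
theorem D32448 : act 7 n30451 = n32448 := rfl
theorem F150846 : act 1 n32448 = n30726 := d14_1 D32448 (iv D30726) (iv F141709)
theorem F150847 : act 3 n32448 = n30453 := d27_1 D32448 (iv D30453) (iv F141710)
theorem F150848 : act 5 n32448 = n30452 := d36_1 D32448 (iv D30452) D30451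
theorem F150849 : act 9 n32448 = n30673 := d43_2 (iv F141712) D32448 (iv D30673)
def n32449 : Q := act 8 n30451
theorem D32449 : act 8 n30451 = n32449 := rfl
theorem F150850 : act 1 n32449 = n30727 := d15_1 D32449 (iv D30727) (iv F141709)
theorem F150851 : act 3 n32449 = n30454 := d28_1 D32449 (iv D30454) (iv F141710)
theorem F150852 : act 5 n32449 = n32449 := d37_1 D32449 (iv D32449) (iv D30451) F114765 D30451
theorem F150853 : act 6 n32449 = n30690 := d40_1 D32449 (iv D30690) (iv F141711)
def n32450 : Q := act 6 n30453
theorem D32450 : act 6 n30453 = n32450 := rfl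
theorem F150854 : act 1 n32450 = n30728 := d13_1 D32450 (iv D30728) (iv F141718)
theorem F150855 : act 2 n32450 = n30557 := d20_1 D32450 (iv D30557) (iv F141719)
theorem F150856 : act 4 n32450 = n30462 := d31_1 D32450 (iv D30462) (iv F141720)
theorem F150857 : act 5 n32450 = n30749 := d35_1 D32450 (iv D30749) F116026 (iv F114775) (iv F141721)
theorem F150858 : act 7 n32450 = n30691 := d39_2 D30453 D32450 (iv D30691) (iv D25780) (iv F114770)
theorem F150859 : act 9 n32450 = n30675 := d41_2 (iv F141722) D32450 (iv D30675)
def n32451 : Q := act 8 n30453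
theorem D32451 : act 8 n30453 = n32451 := rfl
theorem F150860 : act 1 n32451 = n30729 := d15_1 D32451 (iv D30729) (iv F141718)
theorem F150861 : act 2 n32451 = n30558 := d22_1 D32451 (iv D30558) (iv F141719)
theorem F150862 : act 4 n32451 = n30463 := d33_1 D32451 (iv D30463) (iv F141720)
theorem F150863 : act 5 n32451 = n32451 := d37_1 D32451 (iv D32451) F141721 F114776 (iv F141721)
theorem F150864 : act 7 n32451 = n30454 := d42_1 D32451 (iv D30454) D30453
def n32452 : Q := act 5 n30456
theorem D32452 : act 5 n30456 = n32452 := rfl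
theorem F150865 : act 1 n32452 = n30457 := d12_1 D32452 (iv D30457) (iv F141731)
theorem F150866 : act 3 n32452 = n30568 := d25_1 D32452 (iv D30568) (iv F141732)
theorem F150867 : act 8 n32452 = n30842 := d37_2 (iv F141733) D32452 F143096 (iv F141426) F141424
def n32453 : Q := act 7 n30456
theorem D32453 : act 7 n30456 = n32453 := rfl
theorem F150868 : act 1 n32453 = n30458 := d14_1 D32453 (iv D30458) (iv F141731)
theorem F150869 : act 3 n32453 = n30569 := d27_1 D32453 (iv D30569) (iv F141732)
theorem F150870 : act 6 n32453 = n30477 := d39_1 D32453 (iv D30477) (iv D25541) (iv F114779) D30456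
theorem F150871 : act 8 n32453 = n30488 := d42_2 (iv F141733) D32453 (iv D30488)
def n32454 : Q := act 4 n30457
theorem D32454 : act 4 n30457 = n32454 := rfl
theorem F150872 : act 2 n32454 = n30459 := d18_1 D32454 (iv D30459) (iv F141734)
def n32455 : Q := act 7 n30457
theorem D32455 : act 7 n30457 = n32455 := rfl
theorem F150873 : act 2 n32455 = n30460 := d21_1 D32455 (iv D30460) (iv F141734)
theorem F150874 : act 3 n32455 = n30571 := d27_1 D32455 (iv D30571) (iv F141735)
theorem F150875 : act 5 n32455 = n30458 := d36_1 D32455 (iv D30458) D30457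
def n32456 : Q := act 8 n30457
theorem D32456 : act 8 n30457 = n32456 := rfl
theorem F150876 : act 1 n32456 = n30842 := d15_1 D32456 (iv F150867) F150865
theorem F150877 : act 2 n32456 = n30461 := d22_1 D32456 (iv D30461) (iv F141734)
theorem F150878 : act 3 n32456 = n30572 := d28_1 D32456 (iv D30572) (iv F141735)
theorem F150879 : act 5 n32456 = n30490 := d37_1 D32456 (iv D30490) (iv D25552) (iv F114783) D30457
theorem F150880 : act 9 n30854 = n32456 := d38_0 F150879 (iv F141827) (iv F143137)
def n32457 : Q := act 7 n30459
theorem D32457 : act 7 n30459 = n32457 := rfl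
theorem F150881 : act 4 n32457 = n30460 := d32_1 D32457 (iv D30460) D30459
def n32458 : Q := act 8 n30459
theorem D32458 : act 8 n30459 = n32458 := rfl
theorem F150882 : act 4 n32458 = n30461 := d33_1 D32458 (iv D30461) D30459
def n32459 : Q := act 6 n30460
theorem D32459 : act 6 n30460 = n32459 := rfl
theorem F150883 : act 3 n32459 = n30462 := d26_1 D32459 (iv D30462) (iv F141740)
theorem F150884 : act 5 n32459 = n30483 := d35_1 D32459 (iv D30483) F114823 (iv F114786) (iv F141741)
def n32460 : Q := act 8 n30460
theorem D32460 : act 8 n30460 = n32460 := rfl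
theorem F150885 : act 3 n32460 = n30463 := d28_1 D32460 (iv D30463) (iv F141740)
theorem F150886 : act 5 n32460 = n30494 := d37_1 D32460 (iv D30494) F114854 (iv F114787) (iv F141741)
theorem F150887 : act 7 n32460 = n30461 := d42_1 D32460 (iv D30461) D30460
def n32461 : Q := act 9 n30461
theorem D32461 : act 9 n30461 = n32461 := rfl
theorem F150888 : act 2 n32461 = n30854 := d23_1 D32461 F150880 F150877
theorem F150889 : act 3 n32461 = n30464 := d29_1 D32461 (iv D30464) (iv F141742)
theorem F150890 : act 5 n32461 = n30495 := d38_1 D32461 (iv D30495) (iv F141743)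
def n32462 : Q := act 8 n30462
theorem D32462 : act 8 n30462 = n32462 := rfl
theorem F150891 : act 2 n32462 = n30576 := d22_1 D32462 (iv D30576) (iv F141744)
theorem F150892 : act 6 n32462 = n30463 := d40_1 D32462 (iv D30463) D30462
def n32463 : Q := act 9 n30463
theorem D32463 : act 9 n30463 = n32463 := rfl
theorem F150893 : act 2 n32463 = n30577 := d23_1 D32463 (iv D30577) (iv F141746)
theorem F150894 : act 5 n32463 = n30497 := d38_1 D32463 (iv D30497) (iv F141747)
theorem F150895 : act 7 n32463 = n30464 := d43_1 D32463 (iv D30464) (iv F141748)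
def n32464 : Q := act 6 n30465
theorem D32464 : act 6 n30465 = n32464 := rfl
theorem F150896 : act 0 n32464 = n30466 := d5_1 D32464 (iv D30466) D30465
theorem F150897 : act 3 n32464 = n30578 := d26_1 D32464 (iv D30578) (iv F141751)
theorem F150898 : act 8 n32464 = n32464 := d40_2 F141752 D32464 (iv D32464)
theorem F150899 : act 9 n32464 = n30475 := d41_2 (iv F141753) D32464 (iv D30475)
def n32465 : Q := act 5 n30466
theorem D32465 : act 5 n30466 = n32465 := rfl
theorem F150900 : act 1 n32465 = n30467 := d12_1 D32465 (iv D30467) (iv F141754)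
theorem F150901 : act 3 n32465 = n30579 := d25_1 D32465 (iv D30579) (iv F141755)
theorem F150902 : act 9 n32465 = n30476 := d38_2 (iv F141757) D32465 (iv D30476)
def n32466 : Q := act 7 n30466
theorem D32466 : act 7 n30466 = n32466 := rfl
theorem F150903 : act 1 n32466 = n30468 := d14_1 D32466 (iv D30468) (iv F141754)
theorem F150904 : act 3 n32466 = n30580 := d27_1 D32466 (iv D30580) (iv F141755)
theorem F150905 : act 8 n32466 = n32466 := d42_2 F141756 D32466 (iv D32466)
theorem F150906 : act 9 n32466 = n30477 := d43_2 (iv F141757) D32466 (iv D30477)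
def n32467 : Q := act 4 n30467
theorem D32467 : act 4 n30467 = n32467 := rfl
theorem F150907 : act 2 n32467 = n30469 := d18_1 D32467 (iv D30469) (iv F141758)
theorem F150908 : act 9 n32467 = n30478 := d34_2 (iv F141760) D32467 (iv D30478)
def n32468 : Q := act 7 n30467
theorem D32468 : act 7 n30467 = n32468 := rfl
theorem F150909 : act 2 n32468 = n30470 := d21_1 D32468 (iv D30470) (iv F141758)
theorem F150910 : act 3 n32468 = n30582 := d27_1 D32468 (iv D30582) (iv F141759)
theorem F150911 : act 5 n32468 = n30468 := d36_1 D32468 (iv D30468) D30467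
theorem F150912 : act 9 n32468 = n30479 := d43_2 (iv F141760) D32468 (iv D30479)
def n32469 : Q := act 8 n30467
theorem D32469 : act 8 n30467 = n32469 := rfl
theorem F150913 : act 2 n32469 = n30471 := d22_1 D32469 (iv D30471) (iv F141758)
theorem F150914 : act 3 n32469 = n30583 := d28_1 D32469 (iv D30583) (iv F141759)
theorem F150915 : act 5 n32469 = n32469 := d37_1 D32469 (iv D32469) (iv D30467) F114797 D30467
def n32470 : Q := act 7 n30469
theorem D32470 : act 7 n30469 = n32470 := rfl
theorem F150916 : act 3 n32470 = n30761 := d27_1 D32470 (iv D30761) (iv F141765)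
theorem F150917 : act 4 n32470 = n30470 := d32_1 D32470 (iv D30470) D30469
theorem F150918 : act 9 n32470 = n30481 := d43_2 (iv F141766) D32470 (iv D30481)
def n32471 : Q := act 8 n30469
theorem D32471 : act 8 n30469 = n32471 := rfl
theorem F150919 : act 3 n32471 = n30762 := d28_1 D32471 (iv D30762) (iv F141765)
theorem F150920 : act 4 n32471 = n30471 := d33_1 D32471 (iv D30471) D30469
def n32472 : Q := act 6 n30470
theorem D32472 : act 6 n30470 = n32472 := rfl
theorem F150921 : act 3 n32472 = n30472 := d26_1 D32472 (iv D30472) (iv F141767)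
theorem F150922 : act 9 n32472 = n30483 := d41_2 (iv F141769) D32472 (iv D30483)
def n32473 : Q := act 8 n30470
theorem D32473 : act 8 n30470 = n32473 := rfl
theorem F150923 : act 3 n32473 = n30473 := d28_1 D32473 (iv D30473) (iv F141767)
theorem F150924 : act 5 n32473 = n32473 := d37_1 D32473 (iv D32473) F141768 F114802 (iv F141768)
theorem F150925 : act 7 n32473 = n30471 := d42_1 D32473 (iv D30471) D30470
def n32474 : Q := act 9 n30471
theorem D32474 : act 9 n30471 = n32474 := rfl
theorem F150926 : act 3 n32474 = n30474 := d29_1 D32474 (iv D30474) (iv F141770)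
theorem F150927 : act 5 n32474 = n32474 := d38_1 D32474 (iv D32474) F141771
theorem F150928 : act 8 n32474 = n30485 := d44_1 D32474 (iv D30485) (iv D25546) (iv F114800) D30471
def n32475 : Q := act 8 n30472
theorem D32475 : act 8 n30472 = n32475 := rfl
theorem F150929 : act 2 n32475 = n30589 := d22_1 D32475 (iv D30589) (iv F141772)
theorem F150930 : act 4 n32475 = n30766 := d33_1 D32475 (iv D30766) (iv F141773)
theorem F150931 : act 6 n32475 = n30473 := d40_1 D32475 (iv D30473) D30472
def n32476 : Q := act 9 n30473
theorem D32476 : act 9 n30473 = n32476 := rfl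
theorem F150932 : act 2 n32476 = n30590 := d23_1 D32476 (iv D30590) (iv F141775)
theorem F150933 : act 4 n32476 = n30767 := d34_1 D32476 (iv D30767) (iv F141776)
theorem F150934 : act 5 n32476 = n32476 := d38_1 D32476 (iv D32476) F141777
theorem F150935 : act 7 n32476 = n30474 := d43_1 D32476 (iv D30474) (iv F141778)
theorem F150936 : act 8 n32476 = n30487 := d44_1 D32476 (iv D30487) (iv D25548) (iv F114807) D30473
def n32477 : Q := act 5 n30475
theorem D32477 : act 5 n30475 = n32477 := rfl
theorem F150937 : act 0 n32477 = n30476 := d4_1 D32477 (iv D30476) (iv F141783)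
theorem F150938 : act 3 n32477 = n30591 := d25_1 D32477 (iv D30591) (iv F141784)
def n32478 : Q := act 7 n30475
theorem D32478 : act 7 n30475 = n32478 := rfl
theorem F150939 : act 0 n32478 = n30477 := d6_1 D32478 (iv D30477) (iv F141783)
theorem F150940 : act 3 n32478 = n30592 := d27_1 D32478 (iv D30592) (iv F141784)
theorem F150941 : act 8 n32478 = n30499 := d42_2 (iv F141785) D32478 (iv D30499)
def n32479 : Q := act 4 n30476
theorem D32479 : act 4 n30476 = n32479 := rfl
theorem F150942 : act 1 n32479 = n30478 := d11_1 D32479 (iv D30478) (iv F141786)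
def n32480 : Q := act 7 n30476
theorem D32480 : act 7 n30476 = n32480 := rfl
theorem F150943 : act 1 n32480 = n30479 := d14_1 D32480 (iv D30479) (iv F141786)
theorem F150944 : act 3 n32480 = n30594 := d27_1 D32480 (iv D30594) (iv F141787)
theorem F150945 : act 5 n32480 = n30477 := d36_1 D32480 (iv D30477) D30476
def n32481 : Q := act 8 n30476
theorem D32481 : act 8 n30476 = n32481 := rfl
theorem F150946 : act 1 n32481 = n30480 := d15_1 D32481 (iv D30480) (iv F141786)
theorem F150947 : act 3 n32481 = n30595 := d28_1 D32481 (iv D30595) (iv F141787)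
theorem F150948 : act 5 n32481 = n30502 := d37_1 D32481 (iv D30502) (iv D25561) (iv F114815) D30476
def n32482 : Q := act 3 n30478
theorem D32482 : act 3 n30478 = n32482 := rfl
theorem F150949 : act 2 n32482 = n30770 := d17_1 D32482 (iv D30770) F116089 (iv F114821) (iv F141791)
theorem F150950 : act 4 n32482 = n30596 := d24_2 D30478 D32482 (iv D30596) (iv D25638) (iv F114817)
def n32483 : Q := act 7 n30478
theorem D32483 : act 7 n30478 = n32483 := rfl
theorem F150951 : act 2 n32483 = n30481 := d21_1 D32483 (iv D30481) (iv F141791)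
theorem F150952 : act 4 n32483 = n30479 := d32_1 D32483 (iv D30479) D30478
def n32484 : Q := act 8 n30478
theorem D32484 : act 8 n30478 = n32484 := rfl
theorem F150953 : act 2 n32484 = n30482 := d22_1 D32484 (iv D30482) (iv F141791)
theorem F150954 : act 4 n32484 = n30480 := d33_1 D32484 (iv D30480) D30478
def n32485 : Q := act 6 n30479
theorem D32485 : act 6 n30479 = n32485 := rfl
theorem F150955 : act 2 n32485 = n30483 := d20_1 D32485 (iv D30483) (iv F141792)
theorem F150956 : act 3 n32485 = n30599 := d26_1 D32485 (iv D30599) (iv F141793)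
def n32486 : Q := act 8 n30479
theorem D32486 : act 8 n30479 = n32486 := rfl
theorem F150957 : act 2 n32486 = n30484 := d22_1 D32486 (iv D30484) (iv F141792)
theorem F150958 : act 3 n32486 = n30600 := d28_1 D32486 (iv D30600) (iv F141793)
theorem F150959 : act 5 n32486 = n30506 := d37_1 D32486 (iv D30506) F114886 (iv F114820) (iv F141794)
theorem F150960 : act 7 n32486 = n30480 := d42_1 D32486 (iv D30480) D30479
def n32487 : Q := act 9 n30480
theorem D32487 : act 9 n30480 = n32487 := rfl
theorem F150961 : act 2 n32487 = n30485 := d23_1 D32487 (iv D30485) (iv F141795)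
theorem F150962 : act 3 n32487 = n30601 := d29_1 D32487 (iv D30601) (iv F141796)
theorem F150963 : act 5 n32487 = n30507 := d38_1 D32487 (iv D30507) (iv F141797)
def n32488 : Q := act 6 n30481
theorem D32488 : act 6 n30481 = n32488 := rfl
theorem F150964 : act 3 n32488 = n30776 := d26_1 D32488 (iv D30776) (iv F141798)
theorem F150965 : act 4 n32488 = n30483 := d31_1 D32488 (iv D30483) (iv F141799)
def n32489 : Q := act 8 n30481
theorem D32489 : act 8 n30481 = n32489 := rfl
theorem F150966 : act 3 n32489 = n30777 := d28_1 D32489 (iv D30777) (iv F141798)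
theorem F150967 : act 4 n32489 = n30484 := d33_1 D32489 (iv D30484) (iv F141799)
theorem F150968 : act 7 n32489 = n30482 := d42_1 D32489 (iv D30482) D30481
def n32490 : Q := act 5 n30482
theorem D32490 : act 5 n30482 = n32490 := rfl
theorem F150969 : act 3 n32490 = n30778 := d25_1 D32490 (iv D30778) (iv F141800)
theorem F150970 : act 4 n32490 = n30510 := d30_1 D32490 (iv D30510) F114895 (iv F114825) (iv F141801)
def n32491 : Q := act 9 n30482
theorem D32491 : act 9 n30482 = n32491 := rfl
theorem F150971 : act 3 n32491 = n30779 := d29_1 D32491 (iv D30779) (iv F141800)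
theorem F150972 : act 4 n32491 = n30485 := d34_1 D32491 (iv D30485) (iv F141801)
def n32492 : Q := act 8 n30483
theorem D32492 : act 8 n30483 = n32492 := rfl
theorem F150973 : act 3 n32492 = n30486 := d28_1 D32492 (iv D30486) (iv F141802)
theorem F150974 : act 6 n32492 = n30484 := d40_1 D32492 (iv D30484) D30483
def n32493 : Q := act 9 n30484
theorem D32493 : act 9 n30484 = n32493 := rfl
theorem F150975 : act 3 n32493 = n30487 := d29_1 D32493 (iv D30487) (iv F141803)
theorem F150976 : act 5 n32493 = n30512 := d38_1 D32493 (iv D30512) (iv F141804)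
theorem F150977 : act 7 n32493 = n30485 := d43_1 D32493 (iv D30485) (iv F141805)
def n32494 : Q := act 5 n30486
theorem D32494 : act 5 n30486 = n32494 := rfl
theorem F150978 : act 2 n32494 = n30607 := d19_1 D32494 (iv D30607) (iv F141808)
theorem F150979 : act 6 n32494 = n30513 := d35_2 (iv F141810) D32494 (iv D30513) F114907 (iv F114830)
def n32495 : Q := act 9 n30486
theorem D32495 : act 9 n30486 = n32495 := rfl
theorem F150980 : act 2 n32495 = n30608 := d23_1 D32495 (iv D30608) (iv F141808)
theorem F150981 : act 4 n32495 = n30783 := d34_1 D32495 (iv D30783) (iv F141809)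
theorem F150982 : act 6 n32495 = n30487 := d41_1 D32495 (iv D30487) (iv F141810)
def n32496 : Q := act 6 n30489
theorem D32496 : act 6 n30489 = n32496 := rfl
theorem F150983 : act 2 n32496 = n30493 := d20_1 D32496 (iv D30493) (iv F141819)
theorem F150984 : act 3 n32496 = n30609 := d26_1 D32496 (iv D30609) (iv F141820)
theorem F150985 : act 5 n32496 = n30505 := d35_1 D32496 (iv D30505) F114886 (iv F114848) (iv F141821)
theorem F150986 : act 7 n32496 = n32496 := d39_2 D30489 D32496 (iv D32496) (iv D30489) F114844
theorem F150987 : act 9 n32496 = n32496 := d41_2 F141822 D32496 (iv D32496)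
def n32497 : Q := act 8 n30489
theorem D32497 : act 8 n30489 = n32497 := rfl
theorem F150988 : act 1 n32497 = n30883 := d15_1 D32497 (iv F150492) F150488
theorem F150989 : act 2 n32497 = n30494 := d22_1 D32497 (iv D30494) (iv F141819)
theorem F150990 : act 3 n32497 = n30610 := d28_1 D32497 (iv D30610) (iv F141820)
theorem F150991 : act 7 n32497 = n30490 := d42_1 D32497 (iv D30490) D30489
theorem F150992 : act 9 n30795 = n32497 := d43_0 F150991 (iv F141827) (iv F142919)
def n32498 : Q := act 6 n30491
theorem D32498 : act 6 n30491 = n32498 := rfl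
theorem F150993 : act 3 n32498 = n32498 := d26_1 D32498 (iv D32498) F141828
theorem F150994 : act 4 n32498 = n30493 := d31_1 D32498 (iv D30493) (iv F141829)
theorem F150995 : act 7 n32498 = n32498 := d39_2 D30491 D32498 (iv D32498) (iv D30491) F114851
theorem F150996 : act 9 n32498 = n32498 := d41_2 F141830 D32498 (iv D32498)
def n32499 : Q := act 8 n30491
theorem D32499 : act 8 n30491 = n32499 := rfl
theorem F150997 : act 3 n32499 = n32499 := d28_1 D32499 (iv D32499) F141828
theorem F150998 : act 4 n32499 = n30494 := d33_1 D32499 (iv D30494) (iv F141829)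
theorem F150999 : act 7 n32499 = n30492 := d42_1 D32499 (iv D30492) D30491
def n32500 : Q := act 5 n30492
theorem D32500 : act 5 n30492 = n32500 := rfl
theorem F151000 : act 3 n32500 = n32500 := d25_1 D32500 (iv D32500) F141831
def n32501 : Q := act 8 n30493
theorem D32501 : act 8 n30493 = n32501 := rfl
theorem F151001 : act 3 n32501 = n30496 := d28_1 D32501 (iv D30496) (iv F141834)
theorem F151002 : act 6 n32501 = n30494 := d40_1 D32501 (iv D30494) D30493
theorem F151003 : act 7 n32501 = n32501 := d42_1 D32501 (iv D32501) F141836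
def n32502 : Q := act 9 n30494
theorem D32502 : act 9 n30494 = n32502 := rfl
theorem F151004 : act 2 n32502 = n30795 := d23_1 D32502 F150992 F150989
theorem F151005 : act 3 n32502 = n30497 := d29_1 D32502 (iv D30497) (iv F141838)
theorem F151006 : act 7 n32502 = n30495 := d43_1 D32502 (iv D30495) (iv F141839)
theorem F151007 : act 8 n32502 = n32502 := d44_1 D32502 (iv D32502) (iv D30494) F114855 D30494
def n32503 : Q := act 5 n30496
theorem D32503 : act 5 n30496 = n32503 := rfl
theorem F151008 : act 2 n32503 = n30613 := d19_1 D32503 (iv D30613) (iv F141844)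
theorem F151009 : act 7 n32503 = n32503 := d36_2 F141847 D32503 (iv D32503)
theorem F151010 : act 8 n32503 = n30513 := d37_2 D30496 D32503 (iv D30513) (iv D25571) (iv F114860)
def n32504 : Q := act 9 n30496
theorem D32504 : act 9 n30496 = n32504 := rfl
theorem F151011 : act 2 n32504 = n30614 := d23_1 D32504 (iv D30614) (iv F141844)
theorem F151012 : act 4 n32504 = n32504 := d34_1 D32504 (iv D32504) F141845
theorem F151013 : act 6 n32504 = n30497 := d41_1 D32504 (iv D30497) (iv F141846)
theorem F151014 : act 7 n32504 = n32504 := d43_1 D32504 (iv D32504) F141847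
theorem F151015 : act 8 n32504 = n32504 := d44_1 D32504 (iv D32504) (iv D30496) F114862 D30496
def n32505 : Q := act 7 n30498
theorem D32505 : act 7 n30498 = n32505 := rfl
theorem F151016 : act 0 n32505 = n30501 := d6_1 D32505 (iv D30501) (iv F141852)
theorem F151017 : act 3 n32505 = n30615 := d27_1 D32505 (iv D30615) (iv F141853)
theorem F151018 : act 5 n32505 = n30499 := d36_1 D32505 (iv D30499) D30498
theorem F151019 : act 9 n32505 = n32505 := d43_2 F141855 D32505 (iv D32505)
def n32506 : Q := act 8 n30498
theorem D32506 : act 8 n30498 = n32506 := rfl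
theorem F151020 : act 0 n32506 = n30502 := d7_1 D32506 (iv D30502) (iv F141852)
theorem F151021 : act 3 n32506 = n30616 := d28_1 D32506 (iv D30616) (iv F141853)
theorem F151022 : act 6 n32506 = n32506 := d40_1 D32506 (iv D32506) F141854
def n32507 : Q := act 7 n30500
theorem D32507 : act 7 n30500 = n32507 := rfl
theorem F151023 : act 1 n32507 = n30503 := d14_1 D32507 (iv D30503) (iv F141859)
theorem F151024 : act 3 n32507 = n32507 := d27_1 D32507 (iv D32507) F141860
theorem F151025 : act 4 n32507 = n30501 := d32_1 D32507 (iv D30501) D30500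
theorem F151026 : act 9 n32507 = n32507 := d43_2 F141862 D32507 (iv D32507)
def n32508 : Q := act 8 n30500
theorem D32508 : act 8 n30500 = n32508 := rfl
theorem F151027 : act 1 n32508 = n30504 := d15_1 D32508 (iv D30504) (iv F141859)
theorem F151028 : act 3 n32508 = n32508 := d28_1 D32508 (iv D32508) F141860
theorem F151029 : act 4 n32508 = n30502 := d33_1 D32508 (iv D30502) D30500
theorem F151030 : act 6 n32508 = n32508 := d40_1 D32508 (iv D32508) F141861
def n32509 : Q := act 6 n30501
theorem D32509 : act 6 n30501 = n32509 := rfl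
theorem F151031 : act 1 n32509 = n30505 := d13_1 D32509 (iv D30505) (iv F141863)
theorem F151032 : act 3 n32509 = n30617 := d26_1 D32509 (iv D30617) (iv F141864)
theorem F151033 : act 7 n32509 = n32509 := d39_2 D30501 D32509 (iv D32509) (iv D30501) F114875
theorem F151034 : act 9 n32509 = n32509 := d41_2 F141866 D32509 (iv D32509)
def n32510 : Q := act 8 n30501
theorem D32510 : act 8 n30501 = n32510 := rfl
theorem F151035 : act 1 n32510 = n30506 := d15_1 D32510 (iv D30506) (iv F141863)
theorem F151036 : act 3 n32510 = n30618 := d28_1 D32510 (iv D30618) (iv F141864)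
theorem F151037 : act 7 n32510 = n30502 := d42_1 D32510 (iv D30502) D30501
def n32511 : Q := act 9 n30502
theorem D32511 : act 9 n30502 = n32511 := rfl
theorem F151038 : act 1 n32511 = n30507 := d16_1 D32511 (iv D30507) (iv F141867)
theorem F151039 : act 3 n32511 = n30619 := d29_1 D32511 (iv D30619) (iv F141868)
theorem F151040 : act 6 n32511 = n32511 := d41_1 D32511 (iv D32511) F141869
theorem F151041 : act 8 n32511 = n32511 := d44_1 D32511 (iv D32511) (iv D30502) F114876 D30502
def n32512 : Q := act 6 n30503
theorem D32512 : act 6 n30503 = n32512 := rfl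
theorem F151042 : act 2 n32512 = n30508 := d20_1 D32512 (iv D30508) (iv F141870)
theorem F151043 : act 3 n32512 = n32512 := d26_1 D32512 (iv D32512) F141871
theorem F151044 : act 4 n32512 = n30505 := d31_1 D32512 (iv D30505) (iv F141872)
theorem F151045 : act 7 n32512 = n32512 := d39_2 D30503 D32512 (iv D32512) (iv D30503) F114882
theorem F151046 : act 9 n32512 = n32512 := d41_2 F141873 D32512 (iv D32512)
def n32513 : Q := act 8 n30503
theorem D32513 : act 8 n30503 = n32513 := rfl
theorem F151047 : act 2 n32513 = n30509 := d22_1 D32513 (iv D30509) (iv F141870)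
theorem F151048 : act 3 n32513 = n32513 := d28_1 D32513 (iv D32513) F141871
theorem F151049 : act 4 n32513 = n30506 := d33_1 D32513 (iv D30506) (iv F141872)
theorem F151050 : act 7 n32513 = n30504 := d42_1 D32513 (iv D30504) D30503
def n32514 : Q := act 5 n30504
theorem D32514 : act 5 n30504 = n32514 := rfl
theorem F151051 : act 2 n32514 = n30510 := d19_1 D32514 (iv D30510) (iv F141874)
theorem F151052 : act 3 n32514 = n32514 := d25_1 D32514 (iv D32514) F141875
def n32515 : Q := act 8 n30505
theorem D32515 : act 8 n30505 = n32515 := rfl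
theorem F151053 : act 2 n32515 = n30511 := d22_1 D32515 (iv D30511) (iv F141878)
theorem F151054 : act 3 n32515 = n30620 := d28_1 D32515 (iv D30620) (iv F141879)
theorem F151055 : act 6 n32515 = n30506 := d40_1 D32515 (iv D30506) D30505
theorem F151056 : act 7 n32515 = n32515 := d42_1 D32515 (iv D32515) F141880
def n32516 : Q := act 9 n30506
theorem D32516 : act 9 n30506 = n32516 := rfl
theorem F151057 : act 2 n32516 = n30512 := d23_1 D32516 (iv D30512) (iv F141882)
theorem F151058 : act 3 n32516 = n30621 := d29_1 D32516 (iv D30621) (iv F141883)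
theorem F151059 : act 7 n32516 = n30507 := d43_1 D32516 (iv D30507) (iv F141884)
theorem F151060 : act 8 n32516 = n32516 := d44_1 D32516 (iv D32516) (iv D30506) F114887 D30506
def n32517 : Q := act 5 n30508
theorem D32517 : act 5 n30508 = n32517 := rfl
theorem F151061 : act 3 n32517 = n30515 := d25_1 D32517 (iv D30515) (iv F141889)
theorem F151062 : act 7 n32517 = n32517 := d36_2 F141891 D32517 (iv D32517)
theorem F151063 : act 9 n32517 = n32517 := d38_2 F141892 D32517 (iv D32517)
def n32518 : Q := act 8 n30508
theorem D32518 : act 8 n30508 = n32518 := rfl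
theorem F151064 : act 3 n32518 = n30516 := d28_1 D32518 (iv D30516) (iv F141889)
theorem F151065 : act 4 n32518 = n30511 := d33_1 D32518 (iv D30511) (iv F141890)
theorem F151066 : act 6 n32518 = n30509 := d40_1 D32518 (iv D30509) D30508
theorem F151067 : act 7 n32518 = n32518 := d42_1 D32518 (iv D32518) F141891
def n32519 : Q := act 5 n30509
theorem D32519 : act 5 n30509 = n32519 := rfl
theorem F151068 : act 3 n32519 = n30517 := d25_1 D32519 (iv D30517) (iv F141893)
theorem F151069 : act 7 n32519 = n30510 := d36_2 (iv F141895) D32519 (iv D30510)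
def n32520 : Q := act 6 n30510
theorem D32520 : act 6 n30510 = n32520 := rfl
theorem F151070 : act 3 n32520 = n30518 := d26_1 D32520 (iv D30518) (iv F141896)
theorem F151071 : act 5 n32520 = n32520 := d35_1 D32520 (iv D32520) (iv D30510) F114896 D30510
def n32521 : Q := act 5 n30511
theorem D32521 : act 5 n30511 = n32521 := rfl
theorem F151072 : act 3 n32521 = n30513 := d25_1 D32521 (iv D30513) (iv F141897)
theorem F151073 : act 7 n32521 = n32521 := d36_2 F141899 D32521 (iv D32521)
def n32522 : Q := act 9 n30511
theorem D32522 : act 9 n30511 = n32522 := rfl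
theorem F151074 : act 3 n32522 = n30514 := d29_1 D32522 (iv D30514) (iv F141897)
theorem F151075 : act 6 n32522 = n30512 := d41_1 D32522 (iv D30512) (iv F141898)
theorem F151076 : act 7 n32522 = n32522 := d43_1 D32522 (iv D32522) F141899
theorem F151077 : act 8 n32522 = n32522 := d44_1 D32522 (iv D32522) (iv D30511) F114899 D30511
def n32523 : Q := act 4 n30513
theorem D32523 : act 4 n30513 = n32523 := rfl
theorem F151078 : act 1 n32523 = n30888 := d11_1 D32523 (iv F150763) F150761
theorem F151079 : act 2 n32523 = n30624 := d18_1 D32523 (iv D30624) (iv F141903)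
theorem F151080 : act 5 n32523 = n30519 := d30_2 D30513 D32523 (iv D30519) (iv D25579) (iv F114906)
theorem F151081 : act 7 n32523 = n32523 := d32_2 F141904 D32523 (iv D32523)
def n32524 : Q := act 9 n30513
theorem D32524 : act 9 n30513 = n32524 := rfl
theorem F151082 : act 2 n32524 = n30625 := d23_1 D32524 (iv D30625) (iv F141903)
theorem F151083 : act 5 n32524 = n30514 := d38_1 D32524 (iv D30514) D30513
theorem F151084 : act 7 n32524 = n32524 := d43_1 D32524 (iv D32524) F141904
def n32525 : Q := act 8 n30515
theorem D32525 : act 8 n30515 = n32525 := rfl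
theorem F151085 : act 2 n32525 = n32525 := d22_1 D32525 (iv D32525) F141910
theorem F151086 : act 4 n32525 = n32525 := d33_1 D32525 (iv D32525) F141911
theorem F151087 : act 7 n32525 = n32525 := d42_1 D32525 (iv D32525) F141912
def n32526 : Q := act 5 n30516
theorem D32526 : act 5 n30516 = n32526 := rfl
theorem F151088 : act 2 n32526 = n32526 := d19_1 D32526 (iv D32526) F141914
theorem F151089 : act 7 n32526 = n32526 := d36_2 F141917 D32526 (iv D32526)
def n32527 : Q := act 6 n30517
theorem D32527 : act 6 n30517 = n32527 := rfl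
theorem F151090 : act 2 n32527 = n32527 := d20_1 D32527 (iv D32527) F141918
theorem F151091 : act 4 n32527 = n30793 := d31_1 D32527 (iv D30793) (iv F141919)
def n32528 : Q := act 7 n30518
theorem D32528 : act 7 n30518 = n32528 := rfl
theorem F151092 : act 2 n32528 = n32528 := d21_1 D32528 (iv D32528) F141921
theorem F151093 : act 4 n32528 = n30794 := d32_1 D32528 (iv D30794) (iv F141922)
theorem F151094 : act 5 n32528 = n32528 := d36_1 D32528 (iv D32528) F141923
def n32529 : Q := act 3 n30519
theorem D32529 : act 3 n30519 = n32529 := rfl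
theorem F151095 : act 1 n32529 = n30887 := d10_1 D32529 F143249 (iv F141924)
theorem F151096 : act 6 n32529 = n30795 := d26_2 (iv F141926) D32529 (iv D30795)
theorem F151097 : act 7 n32529 = n32529 := d27_2 F141927 D32529 (iv D32529)
theorem F151098 : act 8 n32529 = n32529 := d28_2 F141928 D32529 (iv D32529)
def n32530 : Q := act 9 n30519
theorem D32530 : act 9 n30519 = n32530 := rfl
theorem F151099 : act 1 n32530 = n30884 := d16_1 D32530 F143239 (iv F141924)
theorem F151100 : act 2 n32530 = n30612 := d23_1 D32530 (iv F142317) (iv F141925)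
theorem F151101 : act 4 n32530 = n30520 := d34_1 D32530 (iv D30520) D30519
theorem F151102 : act 6 n32530 = n30610 := d41_1 D32530 (iv F142304) (iv F141926)
theorem F151103 : act 7 n32530 = n32530 := d43_1 D32530 (iv D32530) F141927
theorem F151104 : act 8 n30609 = n32530 := d40_0 F151102 (iv D30610) D30609
def n32531 : Q := act 6 n30521
theorem D32531 : act 6 n30521 = n32531 := rfl
theorem F151105 : act 0 n32531 = n30522 := d5_1 D32531 (iv D30522) D30521
theorem F151106 : act 2 n32531 = n31004 := d20_1 D32531 (iv D31004) (iv F141934)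
theorem F151107 : act 4 n32531 = n32531 := d31_1 D32531 (iv D32531) F141935
theorem F151108 : act 8 n32531 = n32531 := d40_2 F141938 D32531 (iv D32531)
theorem F151109 : act 9 n32531 = n30971 := d41_2 (iv F141939) D32531 (iv D30971)
def n32532 : Q := act 5 n30522
theorem D32532 : act 5 n30522 = n32532 := rfl
theorem F151110 : act 1 n32532 = n30523 := d12_1 D32532 (iv D30523) (iv F141940)
theorem F151111 : act 2 n32532 = n30808 := d19_1 D32532 (iv F142975) (iv F141941)
theorem F151112 : act 6 n32532 = n30568 := d35_2 D30522 D32532 (iv D30568) (iv D25616) (iv F114945)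
theorem F151113 : act 9 n32532 = n30972 := d38_2 (iv F141944) D32532 (iv D30972)
theorem F151114 : act 4 n30806 = n32532 := d31_3 F151112 F142151 (iv F142966)
theorem F151115 : act 8 n30804 = n32532 := d40_0 F151112 F142152 (iv F142959)
def n32533 : Q := act 7 n30522
theorem D32533 : act 7 n30522 = n32533 := rfl
theorem F151116 : act 1 n32533 = n30524 := d14_1 D32533 (iv D30524) (iv F141940)
theorem F151117 : act 2 n32533 = n31005 := d21_1 D32533 (iv D31005) (iv F141941)
theorem F151118 : act 4 n32533 = n32533 := d32_1 D32533 (iv D32533) F141942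
theorem F151119 : act 6 n32533 = n30542 := d39_1 D32533 (iv D30542) (iv D25594) (iv F114946) D30522
theorem F151120 : act 8 n32533 = n32533 := d42_2 F141943 D32533 (iv D32533)
theorem F151121 : act 9 n32533 = n30973 := d43_2 (iv F141944) D32533 (iv D30973)
def n32534 : Q := act 4 n30523
theorem D32534 : act 4 n30523 = n32534 := rfl
theorem F151122 : act 1 n32534 = n30806 := d11_1 D32534 F151114 F151110
theorem F151123 : act 2 n32534 = n30525 := d18_1 D32534 (iv D30525) (iv F141945)
theorem F151124 : act 5 n32534 = n32534 := d30_2 D30523 D32534 (iv D32534) (iv D30523) F114950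
theorem F151125 : act 6 n32534 = n30570 := d31_2 (iv F141946) D32534 (iv D30570)
theorem F151126 : act 9 n32534 = n30833 := d34_2 (iv F141947) D32534 F143065
theorem F151127 : act 8 n30802 = n32534 := d44_5 F151126 (iv D30833) (iv F135926) F135925 (iv F142950)
def n32535 : Q := act 7 n30523
theorem D32535 : act 7 n30523 = n32535 := rfl
theorem F151128 : act 2 n32535 = n30526 := d21_1 D32535 (iv D30526) (iv F141945)
theorem F151129 : act 5 n32535 = n30524 := d36_1 D32535 (iv D30524) D30523
theorem F151130 : act 9 n32535 = n30974 := d43_2 (iv F141947) D32535 (iv D30974)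
def n32536 : Q := act 8 n30523
theorem D32536 : act 8 n30523 = n32536 := rfl
theorem F151131 : act 1 n32536 = n30804 := d15_1 D32536 F151115 F151110
theorem F151132 : act 2 n32536 = n30527 := d22_1 D32536 (iv D30527) (iv F141945)
theorem F151133 : act 4 n32536 = n30802 := d33_1 D32536 F151127 (iv D32534)
theorem F151134 : act 5 n32536 = n32536 := d37_1 D32536 (iv D32536) (iv D30523) F114951 D30523
theorem F151135 : act 6 n32536 = n30572 := d40_1 D32536 (iv D30572) (iv F141946)
theorem F151136 : act 9 n32536 = n30814 := d44_2 (iv F141947) D32536 (iv F144729) F144730 (iv F143061)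
def n32537 : Q := act 7 n30525
theorem D32537 : act 7 n30525 = n32537 := rfl
theorem F151137 : act 1 n32537 = n31007 := d14_1 D32537 (iv D31007) (iv F141953)
theorem F151138 : act 3 n32537 = n30838 := d27_1 D32537 F143085 (iv F141954)
theorem F151139 : act 4 n32537 = n30526 := d32_1 D32537 (iv D30526) D30525
theorem F151140 : act 5 n32537 = n32537 := d36_1 D32537 (iv D32537) F141955
theorem F151141 : act 8 n32537 = n30949 := d42_2 F141958 D32537 F143471
theorem F151142 : act 9 n32537 = n30836 := d43_2 (iv F141957) D32537 F143078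
def n32538 : Q := act 6 n30526
theorem D32538 : act 6 n30526 = n32538 := rfl
theorem F151143 : act 1 n32538 = n31008 := d13_1 D32538 (iv D31008) (iv F141959)
theorem F151144 : act 3 n32538 = n30528 := d26_1 D32538 (iv D30528) (iv F141960)
theorem F151145 : act 5 n32538 = n30548 := d35_1 D32538 (iv D30548) F115018 (iv F114960) (iv F141961)
theorem F151146 : act 7 n32538 = n30574 := d39_2 D30526 D32538 (iv D30574) (iv D25620) (iv F114955)
theorem F151147 : act 9 n32538 = n30975 := d41_2 (iv F141962) D32538 (iv D30975)
def n32539 : Q := act 8 n30526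
theorem D32539 : act 8 n30526 = n32539 := rfl
theorem F151148 : act 1 n32539 = n31009 := d15_1 D32539 (iv D31009) (iv F141959)
theorem F151149 : act 3 n32539 = n30529 := d28_1 D32539 (iv D30529) (iv F141960)
theorem F151150 : act 4 n32539 = n30949 := d33_1 D32539 (iv F151141) F151139
theorem F151151 : act 5 n32539 = n32539 := d37_1 D32539 (iv D32539) F141961 F114961 (iv F141961)
theorem F151152 : act 7 n32539 = n30527 := d42_1 D32539 (iv D30527) D30526
theorem F151153 : act 9 n32539 = n30948 := d44_2 (iv F141962) D32539 (iv F144742) F144743 F143071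
def n32540 : Q := act 8 n30528
theorem D32540 : act 8 n30528 = n32540 := rfl
theorem F151154 : act 1 n32540 = n31010 := d15_1 D32540 (iv D31010) (iv F141969)
theorem F151155 : act 4 n32540 = n31118 := d33_1 D32540 (iv D31118) (iv F141970)
theorem F151156 : act 6 n32540 = n30529 := d40_1 D32540 (iv D30529) D30528
theorem F151157 : act 7 n32540 = n30576 := d42_1 D32540 (iv D30576) (iv F141972)
def n32541 : Q := act 6 n30530
theorem D32541 : act 6 n30530 = n32541 := rfl
theorem F151158 : act 0 n32541 = n30531 := d5_1 D32541 (iv D30531) D30530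
theorem F151159 : act 2 n32541 = n30996 := d20_1 D32541 (iv D30996) (iv F141978)
theorem F151160 : act 4 n32541 = n32541 := d31_1 D32541 (iv D32541) F141979
theorem F151161 : act 8 n32541 = n30976 := d40_2 (iv F141982) D32541 (iv D30976)
theorem F151162 : act 9 n32541 = n30540 := d41_2 (iv F141983) D32541 (iv D30540)
def n32542 : Q := act 5 n30531
theorem D32542 : act 5 n30531 = n32542 := rfl
theorem F151163 : act 1 n32542 = n30532 := d12_1 D32542 (iv D30532) (iv F141984)
theorem F151164 : act 2 n32542 = n30585 := d19_1 D32542 F142217 (iv F141985)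
theorem F151165 : act 6 n32542 = n30579 := d35_2 D30531 D32542 (iv D30579) (iv D25626) (iv F114973)
theorem F151166 : act 8 n32542 = n30581 := d37_2 (iv F141987) D32542 F142202 D30649 (iv F142478)
theorem F151167 : act 9 n32542 = n30541 := d38_2 (iv F141988) D32542 (iv D30541)
theorem F151168 : act 4 n30583 = n32542 := d33_3 F151166 (iv D30581) D30583
def n32543 : Q := act 7 n30531
theorem D32543 : act 7 n30531 = n32543 := rfl
theorem F151169 : act 1 n32543 = n30533 := d14_1 D32543 (iv D30533) (iv F141984)
theorem F151170 : act 2 n32543 = n30997 := d21_1 D32543 (iv D30997) (iv F141985)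
theorem F151171 : act 4 n32543 = n32543 := d32_1 D32543 (iv D32543) F141986
theorem F151172 : act 6 n32543 = n30973 := d39_1 D32543 (iv D30973) (iv D27138) (iv F114974) D30531
theorem F151173 : act 8 n32543 = n30977 := d42_2 (iv F141987) D32543 (iv D30977)
theorem F151174 : act 9 n32543 = n30542 := d43_2 (iv F141988) D32543 (iv D30542)
def n32544 : Q := act 4 n30532
theorem D32544 : act 4 n30532 = n32544 := rfl
theorem F151175 : act 1 n32544 = n30583 := d11_1 D32544 F151168 F151163
theorem F151176 : act 2 n32544 = n30534 := d18_1 D32544 (iv D30534) (iv F141989)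
theorem F151177 : act 5 n32544 = n32544 := d30_2 D30532 D32544 (iv D32544) (iv D30532) F114978
theorem F151178 : act 6 n32544 = n30581 := d31_2 (iv F141990) D32544 (iv D30581)
theorem F151179 : act 9 n32544 = n30543 := d34_2 (iv F141991) D32544 (iv D30543)
theorem F151180 : act 8 n30579 = n32544 := d40_0 F151178 (iv F151166) F151165
def n32545 : Q := act 7 n30532
theorem D32545 : act 7 n30532 = n32545 := rfl
theorem F151181 : act 2 n32545 = n30535 := d21_1 D32545 (iv D30535) (iv F141989)
theorem F151182 : act 5 n32545 = n30533 := d36_1 D32545 (iv D30533) D30532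
theorem F151183 : act 9 n32545 = n30544 := d43_2 (iv F141991) D32545 (iv D30544)
def n32546 : Q := act 8 n30532
theorem D32546 : act 8 n30532 = n32546 := rfl
theorem F151184 : act 1 n32546 = n30581 := d15_1 D32546 (iv F151166) F151163
theorem F151185 : act 2 n32546 = n30536 := d22_1 D32546 (iv D30536) (iv F141989)
theorem F151186 : act 4 n32546 = n30579 := d33_1 D32546 F151180 (iv D32544)
theorem F151187 : act 5 n32546 = n30644 := d37_1 D32546 (iv F142456) (iv D27149) (iv F114979) D30532
theorem F151188 : act 6 n32546 = n30583 := d40_1 D32546 (iv D30583) (iv F141990)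
theorem F151189 : act 9 n30593 = n32546 := d38_0 F151187 F142455 (iv F142249)
def n32547 : Q := act 7 n30534
theorem D32547 : act 7 n30534 = n32547 := rfl
theorem F151190 : act 1 n32547 = n30999 := d14_1 D32547 (iv D30999) (iv F141997)
theorem F151191 : act 3 n32547 = n30807 := d27_1 D32547 (iv D30807) (iv F141998)
theorem F151192 : act 4 n32547 = n30535 := d32_1 D32547 (iv D30535) D30534
theorem F151193 : act 5 n32547 = n32547 := d36_1 D32547 (iv D32547) F141999
theorem F151194 : act 8 n32547 = n31069 := d42_2 F142002 D32547 (iv D31069)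
theorem F151195 : act 9 n32547 = n30546 := d43_2 (iv F142001) D32547 (iv D30546)
def n32548 : Q := act 6 n30535
theorem D32548 : act 6 n30535 = n32548 := rfl
theorem F151196 : act 1 n32548 = n31000 := d13_1 D32548 (iv D31000) (iv F142003)
theorem F151197 : act 3 n32548 = n30537 := d26_1 D32548 (iv D30537) (iv F142004)
theorem F151198 : act 5 n32548 = n30975 := d35_1 D32548 (iv D30975) F120984 (iv F114988) (iv F142005)
theorem F151199 : act 7 n32548 = n30586 := d39_2 D30535 D32548 (iv D30586) (iv D25630) (iv F114983)
theorem F151200 : act 9 n32548 = n30548 := d41_2 (iv F142006) D32548 (iv D30548)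
def n32549 : Q := act 8 n30535
theorem D32549 : act 8 n30535 = n32549 := rfl
theorem F151201 : act 1 n32549 = n31001 := d15_1 D32549 (iv D31001) (iv F142003)
theorem F151202 : act 3 n32549 = n30538 := d28_1 D32549 (iv D30538) (iv F142004)
theorem F151203 : act 4 n32549 = n31069 := d33_1 D32549 (iv F151194) F151192
theorem F151204 : act 5 n32549 = n30981 := d37_1 D32549 (iv D30981) F121021 (iv F114989) (iv F142005)
theorem F151205 : act 7 n32549 = n30536 := d42_1 D32549 (iv D30536) D30535
theorem F151206 : act 9 n31078 = n32549 := d43_0 F151205 (iv F142012) D31078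
def n32550 : Q := act 8 n30537
theorem D32550 : act 8 n30537 = n32550 := rfl
theorem F151207 : act 1 n32550 = n31002 := d15_1 D32550 (iv D31002) (iv F142013)
theorem F151208 : act 4 n32550 = n30812 := d33_1 D32550 (iv D30812) (iv F142014)
theorem F151209 : act 6 n32550 = n30538 := d40_1 D32550 (iv D30538) D30537
theorem F151210 : act 7 n32550 = n30589 := d42_1 D32550 (iv D30589) (iv F142016)
def n32551 : Q := act 9 n30538
theorem D32551 : act 9 n30538 = n32551 := rfl
theorem F151211 : act 1 n32551 = n31003 := d16_1 D32551 (iv D31003) (iv F142018)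
theorem F151212 : act 3 n32551 = n31078 := d29_1 D32551 F151206 F151202
theorem F151213 : act 4 n32551 = n30813 := d34_1 D32551 (iv D30813) (iv F142019)
theorem F151214 : act 5 n32551 = n30983 := d38_1 D32551 (iv D30983) (iv F142020)
theorem F151215 : act 7 n32551 = n30539 := d43_1 D32551 (iv D30539) (iv F142021)
theorem F151216 : act 8 n32551 = n30552 := d44_1 D32551 (iv D30552) (iv D25601) (iv F114994) D30538
def n32552 : Q := act 5 n30540
theorem D32552 : act 5 n30540 = n32552 := rfl
theorem F151217 : act 0 n32552 = n30541 := d4_1 D32552 (iv D30541) (iv F142028)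
theorem F151218 : act 2 n32552 = n31043 := d19_1 D32552 (iv D31043) (iv F142029)
theorem F151219 : act 6 n32552 = n30591 := d35_2 D30540 D32552 (iv D30591) (iv D25635) (iv F115001)
def n32553 : Q := act 7 n30540
theorem D32553 : act 7 n30540 = n32553 := rfl
theorem F151220 : act 0 n32553 = n30542 := d6_1 D32553 (iv D30542) (iv F142028)
theorem F151221 : act 2 n32553 = n31044 := d21_1 D32553 (iv D31044) (iv F142029)
theorem F151222 : act 4 n32553 = n32553 := d32_1 D32553 (iv D32553) F142030
theorem F151223 : act 8 n32553 = n32553 := d42_2 F142031 D32553 (iv D32553)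
def n32554 : Q := act 4 n30541
theorem D32554 : act 4 n30541 = n32554 := rfl
theorem F151224 : act 1 n32554 = n30543 := d11_1 D32554 (iv D30543) (iv F142032)
theorem F151225 : act 2 n32554 = n30588 := d18_1 D32554 F142229 (iv F142033)
theorem F151226 : act 5 n32554 = n32554 := d30_2 D30541 D32554 (iv D32554) (iv D30541) F115005
theorem F151227 : act 6 n32554 = n30593 := d31_2 (iv F142034) D32554 (iv D30593)
theorem F151228 : act 9 n32554 = n30583 := d34_2 F151167 D32554 F151168
theorem F151229 : act 8 n30601 = n32554 := d44_5 F151228 (iv D30583) F115132 D25640 D30601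
def n32555 : Q := act 7 n30541
theorem D32555 : act 7 n30541 = n32555 := rfl
theorem F151230 : act 1 n32555 = n30544 := d14_1 D32555 (iv D30544) (iv F142032)
theorem F151231 : act 2 n32555 = n31045 := d21_1 D32555 (iv D31045) (iv F142033)
theorem F151232 : act 5 n32555 = n30542 := d36_1 D32555 (iv D30542) D30541
def n32556 : Q := act 8 n30541
theorem D32556 : act 8 n30541 = n32556 := rfl
theorem F151233 : act 1 n32556 = n30545 := d15_1 D32556 (iv D30545) (iv F142032)
theorem F151234 : act 2 n32556 = n30604 := d22_1 D32556 F142283 (iv F142033)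
theorem F151235 : act 4 n32556 = n30601 := d33_1 D32556 F151229 (iv D32554)
theorem F151236 : act 5 n32556 = n32556 := d37_1 D32556 (iv D32556) (iv D30541) F115006 D30541
theorem F151237 : act 6 n32556 = n30595 := d40_1 D32556 (iv D30595) (iv F142034)
theorem F151238 : act 9 n32556 = n30598 := d44_2 F151167 D32556 (iv D30598) (iv F142203) (iv F151166)
def n32557 : Q := act 3 n30543
theorem D32557 : act 3 n30543 = n32557 := rfl
theorem F151239 : act 2 n32557 = n30816 := d17_1 D32557 (iv D30816) F116360 (iv F115013) (iv F142039)
theorem F151240 : act 5 n32557 = n32557 := d25_2 F142040 D32557 (iv D32557)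
theorem F151241 : act 6 n32557 = n30596 := d26_2 (iv F142041) D32557 (iv D30596)
def n32558 : Q := act 7 n30543
theorem D32558 : act 7 n30543 = n32558 := rfl
theorem F151242 : act 2 n32558 = n30546 := d21_1 D32558 (iv D30546) (iv F142039)
theorem F151243 : act 4 n32558 = n30544 := d32_1 D32558 (iv D30544) D30543
theorem F151244 : act 5 n32558 = n32558 := d36_1 D32558 (iv D32558) F142040
def n32559 : Q := act 8 n30543
theorem D32559 : act 8 n30543 = n32559 := rfl
theorem F151245 : act 1 n32559 = n30601 := d15_1 D32559 F151229 F151224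
theorem F151246 : act 2 n32559 = n30547 := d22_1 D32559 (iv D30547) (iv F142039)
theorem F151247 : act 4 n32559 = n30545 := d33_1 D32559 (iv D30545) D30543
theorem F151248 : act 6 n32559 = n30598 := d40_1 D32559 (iv D30598) (iv F142041)
theorem F151249 : act 9 n32559 = n30595 := d44_2 F151179 D32559 (iv D30595) (iv F142195) F151180
theorem F151250 : act 5 n30619 = n32559 := d38_3 F151249 F142255 D30619
def n32560 : Q := act 6 n30544
theorem D32560 : act 6 n30544 = n32560 := rfl
theorem F151251 : act 2 n32560 = n30548 := d20_1 D32560 (iv D30548) (iv F142042)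
theorem F151252 : act 7 n32560 = n30599 := d39_2 D30544 D32560 (iv D30599) (iv D25639) (iv F115008)
def n32561 : Q := act 8 n30544
theorem D32561 : act 8 n30544 = n32561 := rfl
theorem F151253 : act 2 n32561 = n30549 := d22_1 D32561 (iv D30549) (iv F142042)
theorem F151254 : act 5 n32561 = n32561 := d37_1 D32561 (iv D32561) F142043 F115011 (iv F142043)
theorem F151255 : act 7 n32561 = n30545 := d42_1 D32561 (iv D30545) D30544
def n32562 : Q := act 9 n30545
theorem D32562 : act 9 n30545 = n32562 := rfl
theorem F151256 : act 1 n32562 = n30598 := d16_1 D32562 (iv F151238) F151233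
theorem F151257 : act 2 n32562 = n30550 := d23_1 D32562 (iv D30550) (iv F142044)
theorem F151258 : act 4 n32562 = n30595 := d34_1 D32562 (iv F151249) F151247
theorem F151259 : act 5 n32562 = n32562 := d38_1 D32562 (iv D32562) F142045
theorem F151260 : act 6 n32562 = n30601 := d41_1 D32562 (iv D30601) (iv F142046)
theorem F151261 : act 8 n32562 = n30593 := d44_1 D32562 F151189 (iv D32546) F141991 D30545
def n32563 : Q := act 6 n30546
theorem D32563 : act 6 n30546 = n32563 := rfl
theorem F151262 : act 1 n32563 = n31049 := d13_1 D32563 (iv D31049) (iv F142047)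
theorem F151263 : act 3 n32563 = n30822 := d26_1 D32563 (iv D30822) (iv F142048)
theorem F151264 : act 4 n32563 = n30548 := d31_1 D32563 (iv D30548) (iv F142049)
theorem F151265 : act 7 n32563 = n30602 := d39_2 D30546 D32563 (iv D30602) (iv D25641) (iv F115015)
def n32564 : Q := act 8 n30546
theorem D32564 : act 8 n30546 = n32564 := rfl
theorem F151266 : act 1 n32564 = n31050 := d15_1 D32564 (iv D31050) (iv F142047)
theorem F151267 : act 3 n32564 = n30823 := d28_1 D32564 (iv D30823) (iv F142048)
theorem F151268 : act 4 n32564 = n30549 := d33_1 D32564 (iv D30549) (iv F142049)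
theorem F151269 : act 7 n32564 = n30547 := d42_1 D32564 (iv D30547) D30546
theorem F151270 : act 9 n32564 = n31080 := d44_2 F151195 D32564 (iv D31080) (iv F144080) (iv F151194)
theorem F151271 : act 5 n31096 = n32564 := d38_3 F151270 F144111 D31096
def n32565 : Q := act 8 n30548
theorem D32565 : act 8 n30548 = n32565 := rfl
theorem F151272 : act 1 n32565 = n31051 := d15_1 D32565 (iv D31051) (iv F142057)
theorem F151273 : act 3 n32565 = n30551 := d28_1 D32565 (iv D30551) (iv F142058)
theorem F151274 : act 6 n32565 = n30549 := d40_1 D32565 (iv D30549) D30548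
theorem F151275 : act 7 n32565 = n30605 := d42_1 D32565 (iv D30605) (iv F142059)
def n32566 : Q := act 9 n30549
theorem D32566 : act 9 n30549 = n32566 := rfl
theorem F151276 : act 1 n32566 = n31052 := d16_1 D32566 (iv D31052) (iv F142060)
theorem F151277 : act 3 n32566 = n30552 := d29_1 D32566 (iv D30552) (iv F142061)
theorem F151278 : act 4 n32566 = n31080 := d34_1 D32566 (iv F151270) F151268
theorem F151279 : act 5 n32566 = n32566 := d38_1 D32566 (iv D32566) F142062
theorem F151280 : act 7 n32566 = n30550 := d43_1 D32566 (iv D30550) (iv F142063)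
theorem F151281 : act 8 n32566 = n31078 := d44_1 D32566 F151206 (iv D32549) F142006 D30549
def n32567 : Q := act 5 n30551
theorem D32567 : act 5 n30551 = n32567 := rfl
theorem F151282 : act 1 n32567 = n31053 := d12_1 D32567 (iv D31053) (iv F142070)
theorem F151283 : act 6 n32567 = n32567 := d35_2 (iv F142072) D32567 (iv D32567) F142072 F115028
theorem F151284 : act 7 n32567 = n30607 := d36_2 (iv F142073) D32567 (iv D30607)
def n32568 : Q := act 9 n30551
theorem D32568 : act 9 n30551 = n32568 := rfl
theorem F151285 : act 1 n32568 = n31054 := d16_1 D32568 (iv D31054) (iv F142070)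
theorem F151286 : act 4 n32568 = n30829 := d34_1 D32568 (iv D30829) (iv F142071)
theorem F151287 : act 6 n32568 = n30552 := d41_1 D32568 (iv D30552) (iv F142072)
theorem F151288 : act 7 n32568 = n30608 := d43_1 D32568 (iv D30608) (iv F142073)
def n32569 : Q := act 7 n30553
theorem D32569 : act 7 n30553 = n32569 := rfl
theorem F151289 : act 2 n32569 = n30556 := d21_1 D32569 (iv D30556) (iv F142078)
theorem F151290 : act 5 n32569 = n30554 := d36_1 D32569 (iv D30554) D30553
theorem F151291 : act 9 n32569 = n30721 := d43_2 (iv F142080) D32569 F142720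
def n32570 : Q := act 7 n30555
theorem D32570 : act 7 n30555 = n32570 := rfl
theorem F151292 : act 1 n32570 = n31056 := d14_1 D32570 (iv D31056) (iv F142086)
theorem F151293 : act 3 n32570 = n30573 := d27_1 D32570 (iv D30573) (iv F142087)
theorem F151294 : act 4 n32570 = n30556 := d32_1 D32570 (iv D30556) D30555
theorem F151295 : act 5 n32570 = n30626 := d36_1 D32570 (iv D30626) (iv F142088)
theorem F151296 : act 8 n32570 = n30871 := d42_2 (iv F142090) D32570 F143188
theorem F151297 : act 9 n32570 = n30799 := d43_2 (iv F142091) D32570 F142937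
def n32571 : Q := act 6 n30556
theorem D32571 : act 6 n30556 = n32571 := rfl
theorem F151298 : act 1 n32571 = n31057 := d13_1 D32571 (iv D31057) (iv F142092)
theorem F151299 : act 3 n32571 = n30557 := d26_1 D32571 (iv D30557) (iv F142093)
theorem F151300 : act 5 n32571 = n30835 := d35_1 D32571 (iv D30835) F116407 (iv F115051) (iv F142094)
theorem F151301 : act 7 n32571 = n30841 := d39_2 D30556 D32571 F143095 F116456 (iv F135419)
theorem F151302 : act 9 n32571 = n30801 := d41_2 (iv F142095) D32571 F142945
def n32572 : Q := act 8 n30557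
theorem D32572 : act 8 n30557 = n32572 := rfl
theorem F151303 : act 1 n32572 = n31059 := d15_1 D32572 (iv D31059) (iv F142096)
theorem F151304 : act 4 n32572 = n30576 := d33_1 D32572 (iv D30576) (iv F142097)
theorem F151305 : act 6 n32572 = n30558 := d40_1 D32572 (iv D30558) D30557
theorem F151306 : act 7 n32572 = n31118 := d42_1 D32572 (iv D31118) (iv F142099)
def n32573 : Q := act 5 n30560
theorem D32573 : act 5 n30560 = n32573 := rfl
theorem F151307 : act 1 n32573 = n30561 := d12_1 D32573 (iv D30561) (iv F142111)
theorem F151308 : act 2 n32573 = n30849 := d19_1 D32573 F143120 (iv F142112)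
theorem F151309 : act 4 n32573 = n30846 := d30_1 D32573 F143108 (iv F140821) F140822 (iv F142113)
theorem F151310 : act 6 n32573 = n30972 := d35_2 D30560 D32573 (iv D30972) (iv D27138) (iv F115064)
theorem F151311 : act 9 n32573 = n30568 := d38_2 (iv F142115) D32573 (iv D30568)
theorem F151312 : act 8 n30860 = n32573 := d44_5 F151311 F142152 F116472 D26023 D30860
def n32574 : Q := act 7 n30560
theorem D32574 : act 7 n30560 = n32574 := rfl
theorem F151313 : act 1 n32574 = n30562 := d14_1 D32574 (iv D30562) (iv F142111)
theorem F151314 : act 2 n32574 = n30989 := d21_1 D32574 (iv D30989) (iv F142112)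
theorem F151315 : act 4 n32574 = n30629 := d32_1 D32574 (iv D30629) (iv F142113)
theorem F151316 : act 6 n32574 = n30580 := d39_1 D32574 (iv D30580) (iv D25626) (iv F115065) D30560
theorem F151317 : act 8 n32574 = n32574 := d42_2 F142114 D32574 (iv D32574)
theorem F151318 : act 9 n32574 = n30569 := d43_2 (iv F142115) D32574 (iv D30569)
def n32575 : Q := act 4 n30561
theorem D32575 : act 4 n30561 = n32575 := rfl
theorem F151319 : act 1 n32575 = n30846 := d11_1 D32575 (iv F151309) F151307
theorem F151320 : act 2 n32575 = n30563 := d18_1 D32575 (iv D30563) (iv F142116)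
theorem F151321 : act 5 n32575 = n30630 := d30_2 D30561 D32575 (iv D30630) (iv D25684) (iv F115069)
theorem F151322 : act 6 n32575 = n30833 := d31_2 (iv F142117) D32575 F143065
theorem F151323 : act 9 n32575 = n30570 := d34_2 (iv F142118) D32575 (iv D30570)
theorem F151324 : act 8 n30796 = n32575 := d44_5 F151323 (iv F142161) F116464 D26020 (iv F142924)
def n32576 : Q := act 7 n30561
theorem D32576 : act 7 n30561 = n32576 := rfl
theorem F151325 : act 2 n32576 = n30564 := d21_1 D32576 (iv D30564) (iv F142116)
theorem F151326 : act 5 n32576 = n30562 := d36_1 D32576 (iv D30562) D30561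
theorem F151327 : act 9 n32576 = n30571 := d43_2 (iv F142118) D32576 (iv D30571)
def n32577 : Q := act 8 n30561
theorem D32577 : act 8 n30561 = n32577 := rfl
theorem F151328 : act 1 n32577 = n30860 := d15_1 D32577 F151312 F151307
theorem F151329 : act 2 n32577 = n30565 := d22_1 D32577 (iv D30565) (iv F142116)
theorem F151330 : act 4 n32577 = n30796 := d33_1 D32577 F151324 (iv D32575)
theorem F151331 : act 5 n32577 = n32577 := d37_1 D32577 (iv D32577) (iv D30561) F115070 D30561
theorem F151332 : act 6 n32577 = n30831 := d40_1 D32577 (iv F143061) (iv F142117)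
theorem F151333 : act 9 n32577 = n30855 := d44_2 (iv F142118) D32577 (iv D30855) F142168 (iv D30572)
def n32578 : Q := act 7 n30563
theorem D32578 : act 7 n30563 = n32578 := rfl
theorem F151334 : act 1 n32578 = n30991 := d14_1 D32578 (iv D30991) (iv F142124)
theorem F151335 : act 3 n32578 = n30799 := d27_1 D32578 F142937 (iv F142125)
theorem F151336 : act 4 n32578 = n30564 := d32_1 D32578 (iv D30564) D30563
theorem F151337 : act 5 n32578 = n30632 := d36_1 D32578 (iv D30632) (iv F142126)
theorem F151338 : act 8 n32578 = n30797 := d42_2 F142129 D32578 (iv D30797)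
theorem F151339 : act 9 n32578 = n30573 := d43_2 (iv F142128) D32578 (iv D30573)
def n32579 : Q := act 6 n30564
theorem D32579 : act 6 n30564 = n32579 := rfl
theorem F151340 : act 1 n32579 = n30992 := d13_1 D32579 (iv D30992) (iv F142130)
theorem F151341 : act 3 n32579 = n30566 := d26_1 D32579 (iv D30566) (iv F142131)
theorem F151342 : act 5 n32579 = n30586 := d35_1 D32579 (iv D30586) F115143 (iv F115079) (iv F142132)
theorem F151343 : act 7 n32579 = n30975 := d39_2 D30564 D32579 (iv D30975) (iv D27142) (iv F115074)
theorem F151344 : act 9 n32579 = n30574 := d41_2 (iv F142133) D32579 (iv D30574)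
def n32580 : Q := act 8 n30564
theorem D32580 : act 8 n30564 = n32580 := rfl
theorem F151345 : act 1 n32580 = n30993 := d15_1 D32580 (iv D30993) (iv F142130)
theorem F151346 : act 3 n32580 = n30567 := d28_1 D32580 (iv D30567) (iv F142131)
theorem F151347 : act 4 n32580 = n30797 := d33_1 D32580 (iv F151338) F151336
theorem F151348 : act 5 n32580 = n32580 := d37_1 D32580 (iv D32580) F142132 F115080 (iv F142132)
theorem F151349 : act 7 n32580 = n30565 := d42_1 D32580 (iv D30565) D30564
theorem F151350 : act 9 n32580 = n30870 := d44_2 (iv F142133) D32580 F143184 F142181 (iv D30575)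
def n32581 : Q := act 8 n30566
theorem D32581 : act 8 n30566 = n32581 := rfl
theorem F151351 : act 1 n32581 = n30994 := d15_1 D32581 (iv D30994) (iv F142140)
theorem F151352 : act 4 n32581 = n30800 := d33_1 D32581 F142942 (iv F142141)
theorem F151353 : act 6 n32581 = n30567 := d40_1 D32581 (iv D30567) D30566
theorem F151354 : act 7 n32581 = n30839 := d42_1 D32581 F143088 (iv F142143)
def n32582 : Q := act 7 n30568
theorem D32582 : act 7 n30568 = n32582 := rfl
theorem F151355 : act 1 n32582 = n30571 := d14_1 D32582 (iv D30571) (iv F142149)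
theorem F151356 : act 2 n32582 = n30848 := d21_1 D32582 F143116 (iv F142150)
theorem F151357 : act 4 n32582 = n30845 := d32_1 D32582 F143106 (iv F142151)
theorem F151358 : act 5 n32582 = n30569 := d36_1 D32582 (iv D30569) D30568
theorem F151359 : act 8 n32582 = n30843 := d42_2 (iv F142152) D32582 (iv D30843)
def n32583 : Q := act 3 n30570
theorem D32583 : act 3 n30570 = n32583 := rfl
theorem F151360 : act 1 n32583 = n30760 := d10_1 D32583 F142831 (iv F142158)
theorem F151361 : act 5 n32583 = n30636 := d25_2 (iv F142160) D32583 (iv D30636)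
theorem F151362 : act 8 n32583 = n30756 := d28_2 F142161 D32583 F142817
def n32584 : Q := act 7 n30570
theorem D32584 : act 7 n30570 = n32584 := rfl
theorem F151363 : act 1 n32584 = n30845 := d14_1 D32584 F143106 (iv F142158)
theorem F151364 : act 2 n32584 = n30573 := d21_1 D32584 (iv D30573) (iv F142159)
theorem F151365 : act 4 n32584 = n30571 := d32_1 D32584 (iv D30571) D30570
theorem F151366 : act 5 n32584 = n30637 := d36_1 D32584 (iv D30637) (iv F142160)
theorem F151367 : act 8 n32584 = n30792 := d42_2 F142161 D32584 F142914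
def n32585 : Q := act 6 n30571
theorem D32585 : act 6 n30571 = n32585 := rfl
theorem F151368 : act 2 n32585 = n30574 := d20_1 D32585 (iv D30574) (iv F142162)
theorem F151369 : act 5 n32585 = n30599 := d35_1 D32585 (iv D30599) F115172 (iv F115101) (iv F142163)
def n32586 : Q := act 8 n30571
theorem D32586 : act 8 n30571 = n32586 := rfl
theorem F151370 : act 1 n32586 = n30843 := d15_1 D32586 (iv F151359) F151355
theorem F151371 : act 2 n32586 = n30575 := d22_1 D32586 (iv D30575) (iv F142162)
theorem F151372 : act 4 n32586 = n30792 := d33_1 D32586 (iv F151367) F151365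
theorem F151373 : act 5 n32586 = n30610 := d37_1 D32586 (iv D30610) F115221 (iv F115102) (iv F142163)
theorem F151374 : act 7 n32586 = n30572 := d42_1 D32586 (iv D30572) D30571
theorem F151375 : act 9 n30791 = n32586 := d43_0 F151374 (iv F142168) (iv F142910)
def n32587 : Q := act 6 n30573
theorem D32587 : act 6 n30573 = n32587 := rfl
theorem F151376 : act 1 n32587 = n31063 := d13_1 D32587 (iv D31063) (iv F142169)
theorem F151377 : act 4 n32587 = n30574 := d31_1 D32587 (iv D30574) (iv F142170)
theorem F151378 : act 8 n32587 = n30869 := d40_2 (iv F142172) D32587 F143180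
def n32588 : Q := act 8 n30574
theorem D32588 : act 8 n30574 = n32588 := rfl
theorem F151379 : act 1 n32588 = n31064 := d15_1 D32588 (iv D31064) (iv F142173)
theorem F151380 : act 3 n32588 = n30576 := d28_1 D32588 (iv D30576) (iv F142174)
theorem F151381 : act 4 n32588 = n30869 := d33_1 D32588 (iv F151378) F151377
theorem F151382 : act 6 n32588 = n30575 := d40_1 D32588 (iv D30575) D30574
theorem F151383 : act 9 n30868 = n32588 := d41_0 F151382 (iv F142181) (iv F143177)
def n32589 : Q := act 5 n30576
theorem D32589 : act 5 n30576 = n32589 := rfl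
theorem F151384 : act 1 n32589 = n31065 := d12_1 D32589 (iv D31065) (iv F142182)
theorem F151385 : act 6 n32589 = n30613 := d35_2 (iv F142183) D32589 (iv D30613) F115246 (iv F115117)
theorem F151386 : act 8 n32589 = n30607 := d37_2 D30576 D32589 (iv D30607) (iv D25646) (iv F115115)
def n32590 : Q := act 9 n30576
theorem D32590 : act 9 n30576 = n32590 := rfl
theorem F151387 : act 1 n32590 = n31066 := d16_1 D32590 (iv D31066) (iv F142182)
theorem F151388 : act 3 n32590 = n30868 := d29_1 D32590 F151383 F151380
theorem F151389 : act 6 n32590 = n30577 := d41_1 D32590 (iv D30577) (iv F142183)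
def n32591 : Q := act 5 n30578
theorem D32591 : act 5 n30578 = n32591 := rfl
theorem F151390 : act 0 n32591 = n30579 := d4_1 D32591 (iv D30579) (iv F142188)
theorem F151391 : act 2 n32591 = n31067 := d19_1 D32591 (iv D31067) (iv F142189)
theorem F151392 : act 9 n32591 = n30591 := d38_2 (iv F142192) D32591 (iv D30591)
def n32592 : Q := act 7 n30578
theorem D32592 : act 7 n30578 = n32592 := rfl
theorem F151393 : act 0 n32592 = n30580 := d6_1 D32592 (iv D30580) (iv F142188)
theorem F151394 : act 2 n32592 = n31068 := d21_1 D32592 (iv D31068) (iv F142189)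
theorem F151395 : act 4 n32592 = n30643 := d32_1 D32592 (iv D30643) (iv F142190)
theorem F151396 : act 8 n32592 = n32592 := d42_2 F142191 D32592 (iv D32592)
theorem F151397 : act 9 n32592 = n30592 := d43_2 (iv F142192) D32592 (iv D30592)
def n32593 : Q := act 7 n30579
theorem D32593 : act 7 n30579 = n32593 := rfl
theorem F151398 : act 1 n32593 = n30582 := d14_1 D32593 (iv D30582) (iv F142193)
theorem F151399 : act 2 n32593 = n31069 := d21_1 D32593 (iv D31069) (iv F142194)
theorem F151400 : act 5 n32593 = n30580 := d36_1 D32593 (iv D30580) D30579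
theorem F151401 : act 9 n32593 = n30594 := d43_2 (iv F142195) D32593 (iv D30594)
def n32594 : Q := act 3 n30581
theorem D32594 : act 3 n30581 = n32594 := rfl
theorem F151402 : act 2 n32594 = n30842 := d17_1 D32594 (iv D30842) F116470 (iv F115138) (iv F142201)
theorem F151403 : act 5 n32594 = n30647 := d25_2 (iv F142202) D32594 (iv D30647)
theorem F151404 : act 9 n32594 = n30596 := d29_2 (iv F142203) D32594 (iv D30596)
def n32595 : Q := act 7 n30581
theorem D32595 : act 7 n30581 = n32595 := rfl
theorem F151405 : act 2 n32595 = n30584 := d21_1 D32595 (iv D30584) (iv F142201)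
theorem F151406 : act 4 n32595 = n30582 := d32_1 D32595 (iv D30582) D30581
theorem F151407 : act 5 n32595 = n30648 := d36_1 D32595 (iv D30648) (iv F142202)
theorem F151408 : act 9 n32595 = n30597 := d43_2 (iv F142203) D32595 (iv D30597)
def n32596 : Q := act 6 n30582
theorem D32596 : act 6 n30582 = n32596 := rfl
theorem F151409 : act 2 n32596 = n30586 := d20_1 D32596 (iv D30586) (iv F142204)
theorem F151410 : act 9 n32596 = n30599 := d41_2 (iv F142206) D32596 (iv D30599)
def n32597 : Q := act 8 n30582
theorem D32597 : act 8 n30582 = n32597 := rfl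
theorem F151411 : act 2 n32597 = n30587 := d22_1 D32597 (iv D30587) (iv F142204)
theorem F151412 : act 5 n32597 = n32597 := d37_1 D32597 (iv D32597) F142205 F115135 (iv F142205)
theorem F151413 : act 7 n32597 = n30583 := d42_1 D32597 (iv D30583) D30582
def n32598 : Q := act 6 n30584
theorem D32598 : act 6 n30584 = n32598 := rfl
theorem F151414 : act 1 n32598 = n31071 := d13_1 D32598 (iv D31071) (iv F142209)
theorem F151415 : act 3 n32598 = n30847 := d26_1 D32598 (iv D30847) (iv F142210)
theorem F151416 : act 4 n32598 = n30586 := d31_1 D32598 (iv D30586) (iv F142211)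
theorem F151417 : act 9 n32598 = n30602 := d41_2 (iv F142213) D32598 (iv D30602)
def n32599 : Q := act 8 n30584
theorem D32599 : act 8 n30584 = n32599 := rfl
theorem F151418 : act 1 n32599 = n30998 := d15_1 D32599 F143701 (iv F142209)
theorem F151419 : act 3 n32599 = n30848 := d28_1 D32599 (iv D30848) (iv F142210)
theorem F151420 : act 4 n32599 = n30587 := d33_1 D32599 (iv D30587) (iv F142211)
theorem F151421 : act 5 n32599 = n30997 := d37_1 D32599 F143694 F142496 (iv D30653) (iv F142212)
theorem F151422 : act 7 n32599 = n30585 := d42_1 D32599 (iv D30585) D30584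
theorem F151423 : act 9 n31045 = n32599 := d43_0 F151422 (iv F142219) D31045
def n32600 : Q := act 8 n30586
theorem D32600 : act 8 n30586 = n32600 := rfl
theorem F151424 : act 1 n32600 = n31072 := d15_1 D32600 (iv D31072) (iv F142220)
theorem F151425 : act 3 n32600 = n30589 := d28_1 D32600 (iv D30589) (iv F142221)
theorem F151426 : act 6 n32600 = n30587 := d40_1 D32600 (iv D30587) D30586
def n32601 : Q := act 9 n30587
theorem D32601 : act 9 n30587 = n32601 := rfl
theorem F151427 : act 1 n32601 = n31046 := d16_1 D32601 F143966 (iv F142223)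
theorem F151428 : act 3 n32601 = n30590 := d29_1 D32601 (iv D30590) (iv F142224)
theorem F151429 : act 4 n32601 = n31045 := d34_1 D32601 F151423 F151420
theorem F151430 : act 5 n32601 = n32601 := d38_1 D32601 (iv D32601) F142225
theorem F151431 : act 7 n32601 = n30588 := d43_1 D32601 (iv D30588) (iv F142226)
theorem F151432 : act 8 n32601 = n30606 := d44_1 D32601 (iv D30606) (iv D25644) (iv F115144) D30587
def n32602 : Q := act 5 n30589
theorem D32602 : act 5 n30589 = n32602 := rfl
theorem F151433 : act 1 n32602 = n31073 := d12_1 D32602 (iv D31073) (iv F142233)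
theorem F151434 : act 6 n32602 = n32602 := d35_2 (iv F142235) D32602 (iv D32602) F142235 F115153
def n32603 : Q := act 9 n30589
theorem D32603 : act 9 n30589 = n32603 := rfl
theorem F151435 : act 1 n32603 = n31074 := d16_1 D32603 (iv D31074) (iv F142233)
theorem F151436 : act 4 n32603 = n30853 := d34_1 D32603 (iv D30853) (iv F142234)
theorem F151437 : act 6 n32603 = n30590 := d41_1 D32603 (iv D30590) (iv F142235)
theorem F151438 : act 8 n32603 = n30608 := d44_1 D32603 (iv D30608) (iv D25646) (iv F115150) D30589
def n32604 : Q := act 4 n30591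
theorem D32604 : act 4 n30591 = n32604 := rfl
theorem F151439 : act 0 n32604 = n30593 := d3_1 D32604 (iv D30593) (iv F142241)
theorem F151440 : act 2 n32604 = n31075 := d18_1 D32604 (iv D31075) (iv F142242)
theorem F151441 : act 5 n32604 = n30656 := d30_2 D30591 D32604 (iv D30656) (iv D25714) (iv F115161)
def n32605 : Q := act 7 n30591
theorem D32605 : act 7 n30591 = n32605 := rfl
theorem F151442 : act 0 n32605 = n30594 := d6_1 D32605 (iv D30594) (iv F142241)
theorem F151443 : act 2 n32605 = n31076 := d21_1 D32605 (iv D31076) (iv F142242)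
theorem F151444 : act 5 n32605 = n30592 := d36_1 D32605 (iv D30592) D30591
def n32606 : Q := act 8 n30591
theorem D32606 : act 8 n30591 = n32606 := rfl
theorem F151445 : act 0 n32606 = n30595 := d7_1 D32606 (iv D30595) (iv F142241)
theorem F151446 : act 2 n32606 = n31077 := d22_1 D32606 (iv D31077) (iv F142242)
theorem F151447 : act 5 n32606 = n30616 := d37_1 D32606 (iv D30616) (iv D25659) (iv F115162) D30591
def n32607 : Q := act 3 n30593
theorem D32607 : act 3 n30593 = n32607 := rfl
theorem F151448 : act 1 n32607 = n30596 := d10_1 D32607 (iv D30596) (iv F142247)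
theorem F151449 : act 5 n32607 = n30658 := d25_2 (iv F142249) D32607 (iv D30658)
def n32608 : Q := act 7 n30593
theorem D32608 : act 7 n30593 = n32608 := rfl
theorem F151450 : act 1 n32608 = n30597 := d14_1 D32608 (iv D30597) (iv F142247)
theorem F151451 : act 2 n32608 = n31078 := d21_1 D32608 (iv D31078) (iv F142248)
theorem F151452 : act 4 n32608 = n30594 := d32_1 D32608 (iv D30594) D30593
theorem F151453 : act 5 n32608 = n30659 := d36_1 D32608 (iv D30659) (iv F142249)
def n32609 : Q := act 6 n30594
theorem D32609 : act 6 n30594 = n32609 := rfl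
theorem F151454 : act 1 n32609 = n30599 := d13_1 D32609 (iv D30599) (iv F142250)
theorem F151455 : act 2 n32609 = n31079 := d20_1 D32609 (iv D31079) (iv F142251)
def n32610 : Q := act 8 n30594
theorem D32610 : act 8 n30594 = n32610 := rfl
theorem F151456 : act 1 n32610 = n30600 := d15_1 D32610 (iv D30600) (iv F142250)
theorem F151457 : act 2 n32610 = n31080 := d22_1 D32610 (iv D31080) (iv F142251)
theorem F151458 : act 5 n32610 = n30618 := d37_1 D32610 (iv D30618) F115265 (iv F115168) (iv F142252)
theorem F151459 : act 7 n32610 = n30595 := d42_1 D32610 (iv D30595) D30594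
def n32611 : Q := act 7 n30596
theorem D32611 : act 7 n30596 = n32611 := rfl
theorem F151460 : act 2 n32611 = n30856 := d21_1 D32611 (iv D30856) (iv F142256)
theorem F151461 : act 3 n32611 = n30597 := d27_1 D32611 (iv D30597) D30596
theorem F151462 : act 5 n32611 = n30661 := d36_1 D32611 (iv D30661) (iv F142257)
def n32612 : Q := act 8 n30596
theorem D32612 : act 8 n30596 = n32612 := rfl
theorem F151463 : act 2 n32612 = n30857 := d22_1 D32612 (iv D30857) (iv F142256)
theorem F151464 : act 3 n32612 = n30598 := d28_1 D32612 (iv D30598) D30596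
theorem F151465 : act 5 n32612 = n32612 := d37_1 D32612 (iv D32612) F142257 F115496 (iv F142257)
def n32613 : Q := act 6 n30597
theorem D32613 : act 6 n30597 = n32613 := rfl
theorem F151466 : act 2 n32613 = n30602 := d20_1 D32613 (iv D30602) (iv F142258)
theorem F151467 : act 4 n32613 = n30599 := d31_1 D32613 (iv D30599) (iv F142259)
def n32614 : Q := act 8 n30597
theorem D32614 : act 8 n30597 = n32614 := rfl
theorem F151468 : act 2 n32614 = n30603 := d22_1 D32614 (iv D30603) (iv F142258)
theorem F151469 : act 4 n32614 = n30600 := d33_1 D32614 (iv D30600) (iv F142259)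
theorem F151470 : act 5 n32614 = n32614 := d37_1 D32614 (iv D32614) F142260 F115499 (iv F142260)
theorem F151471 : act 7 n32614 = n30598 := d42_1 D32614 (iv D30598) D30597
def n32615 : Q := act 8 n30599
theorem D32615 : act 8 n30599 = n32615 := rfl
theorem F151472 : act 2 n32615 = n30605 := d22_1 D32615 (iv D30605) (iv F142264)
theorem F151473 : act 6 n32615 = n30600 := d40_1 D32615 (iv D30600) D30599
def n32616 : Q := act 9 n30600
theorem D32616 : act 9 n30600 = n32616 := rfl
theorem F151474 : act 2 n32616 = n30606 := d23_1 D32616 (iv D30606) (iv F142265)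
theorem F151475 : act 5 n32616 = n30621 := d38_1 D32616 (iv D30621) (iv F142266)
theorem F151476 : act 7 n32616 = n30601 := d43_1 D32616 (iv D30601) (iv F142267)
def n32617 : Q := act 5 n30602
theorem D32617 : act 5 n30602 = n32617 := rfl
theorem F151477 : act 1 n32617 = n31083 := d12_1 D32617 (iv D31083) (iv F142270)
theorem F151478 : act 3 n32617 = n30863 := d25_1 D32617 (iv D30863) (iv F142271)
theorem F151479 : act 6 n32617 = n30663 := d35_2 D30602 D32617 (iv D30663) (iv D25721) (iv F115178)
def n32618 : Q := act 8 n30602
theorem D32618 : act 8 n30602 = n32618 := rfl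
theorem F151480 : act 1 n32618 = n31084 := d15_1 D32618 (iv D31084) (iv F142270)
theorem F151481 : act 3 n32618 = n30864 := d28_1 D32618 (iv D30864) (iv F142271)
theorem F151482 : act 4 n32618 = n30605 := d33_1 D32618 (iv D30605) (iv F142272)
theorem F151483 : act 6 n32618 = n30603 := d40_1 D32618 (iv D30603) D30602
def n32619 : Q := act 9 n30603
theorem D32619 : act 9 n30603 = n32619 := rfl
theorem F151484 : act 1 n32619 = n31048 := d16_1 D32619 F143976 (iv F142273)
theorem F151485 : act 3 n32619 = n30865 := d29_1 D32619 (iv D30865) (iv F142274)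
theorem F151486 : act 4 n32619 = n30606 := d34_1 D32619 (iv D30606) (iv F142275)
theorem F151487 : act 5 n32619 = n32619 := d38_1 D32619 (iv D32619) F142276
theorem F151488 : act 7 n32619 = n30604 := d43_1 D32619 (iv D30604) (iv F142277)
theorem F151489 : act 8 n32619 = n31045 := d44_1 D32619 F151423 (iv D32599) F142213 D30603
def n32620 : Q := act 5 n30605
theorem D32620 : act 5 n30605 = n32620 := rfl
theorem F151490 : act 1 n32620 = n31085 := d12_1 D32620 (iv D31085) (iv F142284)
theorem F151491 : act 3 n32620 = n30607 := d25_1 D32620 (iv D30607) (iv F142285)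
theorem F151492 : act 6 n32620 = n30622 := d35_2 (iv F142286) D32620 (iv D30622) F115285 (iv F115187)
def n32621 : Q := act 9 n30605
theorem D32621 : act 9 n30605 = n32621 := rfl
theorem F151493 : act 1 n32621 = n31086 := d16_1 D32621 (iv D31086) (iv F142284)
theorem F151494 : act 3 n32621 = n30608 := d29_1 D32621 (iv D30608) (iv F142285)
theorem F151495 : act 6 n32621 = n30606 := d41_1 D32621 (iv D30606) (iv F142286)
def n32622 : Q := act 4 n30607
theorem D32622 : act 4 n30607 = n32622 := rfl
theorem F151496 : act 1 n32622 = n31087 := d11_1 D32622 (iv D31087) (iv F142291)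
theorem F151497 : act 5 n32622 = n30868 := d30_2 D30607 D32622 (iv D30868) (iv D26032) (iv F115193)
theorem F151498 : act 6 n32622 = n30624 := d31_2 (iv F142292) D32622 (iv D30624)
def n32623 : Q := act 9 n30607
theorem D32623 : act 9 n30607 = n32623 := rfl
theorem F151499 : act 1 n32623 = n31088 := d16_1 D32623 (iv D31088) (iv F142291)
theorem F151500 : act 5 n32623 = n30608 := d38_1 D32623 (iv D30608) D30607
theorem F151501 : act 6 n32623 = n30625 := d41_1 D32623 (iv D30625) (iv F142292)
def n32624 : Q := act 5 n30612
theorem D32624 : act 5 n30612 = n32624 := rfl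
theorem F151502 : act 1 n32624 = n31089 := d12_1 D32624 (iv D31089) (iv F142312)
theorem F151503 : act 3 n32624 = n30613 := d25_1 D32624 (iv D30613) (iv F142313)
theorem F151504 : act 4 n32624 = n30625 := d30_1 D32624 F142371 F115295 (iv F115305) (iv F142314)
theorem F151505 : act 7 n32624 = n32624 := d36_2 F142316 D32624 (iv D32624)
theorem F151506 : act 8 n32624 = n30622 := d37_2 D30612 D32624 (iv D30622) (iv D25666) (iv F115236)
theorem F151507 : act 9 n32624 = n30624 := d38_2 F142317 D32624 F142368
def n32625 : Q := act 4 n30613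
theorem D32625 : act 4 n30613 = n32625 := rfl
theorem F151508 : act 1 n32625 = n31090 := d11_1 D32625 (iv D31090) (iv F142318)
theorem F151509 : act 5 n32625 = n32625 := d30_2 D30613 D32625 (iv D32625) (iv D30613) F115245
theorem F151510 : act 7 n32625 = n32625 := d32_2 F142319 D32625 (iv D32625)
theorem F151511 : act 8 n32625 = n30624 := d33_2 (iv F142320) D32625 (iv D30624)
def n32626 : Q := act 9 n30613
theorem D32626 : act 9 n30613 = n32626 := rfl
theorem F151512 : act 1 n32626 = n31091 := d16_1 D32626 (iv D31091) (iv F142318)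
theorem F151513 : act 3 n32626 = n30624 := d29_1 D32626 (iv F151507) F151503
theorem F151514 : act 5 n32626 = n30614 := d38_1 D32626 (iv D30614) D30613
theorem F151515 : act 7 n32626 = n32626 := d43_1 D32626 (iv D32626) F142319
def n32627 : Q := act 8 n30615
theorem D32627 : act 8 n30615 = n32627 := rfl
theorem F151516 : act 0 n32627 = n30618 := d7_1 D32627 (iv D30618) (iv F142327)
theorem F151517 : act 2 n32627 = n31093 := d22_1 D32627 (iv D31093) (iv F142328)
theorem F151518 : act 4 n32627 = n32627 := d33_1 D32627 (iv D32627) F142329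
theorem F151519 : act 7 n32627 = n30616 := d42_1 D32627 (iv D30616) D30615
def n32628 : Q := act 9 n30616
theorem D32628 : act 9 n30616 = n32628 := rfl
theorem F151520 : act 0 n32628 = n30619 := d8_1 D32628 (iv D30619) (iv F142332)
theorem F151521 : act 2 n32628 = n31094 := d23_1 D32628 (iv D31094) (iv F142333)
theorem F151522 : act 4 n32628 = n32628 := d34_1 D32628 (iv D32628) F142334
theorem F151523 : act 6 n32628 = n32628 := d41_1 D32628 (iv D32628) F142335
theorem F151524 : act 8 n32628 = n32628 := d44_1 D32628 (iv D32628) (iv D30616) F115257 D30616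
def n32629 : Q := act 8 n30617
theorem D32629 : act 8 n30617 = n32629 := rfl
theorem F151525 : act 1 n32629 = n30620 := d15_1 D32629 (iv D30620) (iv F142336)
theorem F151526 : act 2 n32629 = n31095 := d22_1 D32629 (iv D31095) (iv F142337)
theorem F151527 : act 4 n32629 = n32629 := d33_1 D32629 (iv D32629) F142338
theorem F151528 : act 6 n32629 = n30618 := d40_1 D32629 (iv D30618) D30617
theorem F151529 : act 7 n32629 = n32629 := d42_1 D32629 (iv D32629) F142339
def n32630 : Q := act 9 n30618
theorem D32630 : act 9 n30618 = n32630 := rfl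
theorem F151530 : act 1 n32630 = n30621 := d16_1 D32630 (iv D30621) (iv F142341)
theorem F151531 : act 2 n32630 = n31096 := d23_1 D32630 (iv D31096) (iv F142342)
theorem F151532 : act 4 n32630 = n32630 := d34_1 D32630 (iv D32630) F142343
theorem F151533 : act 7 n32630 = n30619 := d43_1 D32630 (iv D30619) (iv F142344)
theorem F151534 : act 8 n32630 = n32630 := d44_1 D32630 (iv D32630) (iv D30618) F115266 D30618
def n32631 : Q := act 5 n30620
theorem D32631 : act 5 n30620 = n32631 := rfl
theorem F151535 : act 2 n32631 = n30622 := d19_1 D32631 (iv D30622) (iv F142350)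
theorem F151536 : act 7 n32631 = n32631 := d36_2 F142353 D32631 (iv D32631)
def n32632 : Q := act 9 n30620
theorem D32632 : act 9 n30620 = n32632 := rfl
theorem F151537 : act 2 n32632 = n30623 := d23_1 D32632 (iv D30623) (iv F142350)
theorem F151538 : act 4 n32632 = n32632 := d34_1 D32632 (iv D32632) F142351
theorem F151539 : act 6 n32632 = n30621 := d41_1 D32632 (iv D30621) (iv F142352)
theorem F151540 : act 7 n32632 = n32632 := d43_1 D32632 (iv D32632) F142353
theorem F151541 : act 8 n32632 = n32632 := d44_1 D32632 (iv D32632) (iv D30620) F115274 D30620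
def n32633 : Q := act 4 n30622
theorem D32633 : act 4 n30622 = n32633 := rfl
theorem F151542 : act 1 n32633 = n31099 := d11_1 D32633 (iv D31099) (iv F142358)
theorem F151543 : act 5 n32633 = n32633 := d30_2 D30622 D32633 (iv D32633) (iv D30622) F115284
theorem F151544 : act 7 n32633 = n32633 := d32_2 F142360 D32633 (iv D32633)
theorem F151545 : act 8 n32633 = n30625 := d33_2 F151506 D32633 (iv F151504)
def n32634 : Q := act 9 n30622
theorem D32634 : act 9 n30622 = n32634 := rfl
theorem F151546 : act 1 n32634 = n31100 := d16_1 D32634 (iv D31100) (iv F142358)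
theorem F151547 : act 3 n32634 = n30625 := d29_1 D32634 (iv D30625) (iv F142359)
theorem F151548 : act 5 n32634 = n30623 := d38_1 D32634 (iv D30623) D30622
theorem F151549 : act 7 n32634 = n32634 := d43_1 D32634 (iv D32634) F142360
def n32635 : Q := act 6 n30626
theorem D32635 : act 6 n30626 = n32635 := rfl
theorem F151550 : act 1 n32635 = n31101 := d13_1 D32635 (iv D31101) (iv F142373)
theorem F151551 : act 3 n32635 = n30639 := d26_1 D32635 (iv D30639) (iv F142374)
theorem F151552 : act 4 n32635 = n30627 := d31_1 D32635 (iv D30627) (iv F142375)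
theorem F151553 : act 7 n32635 = n32635 := d39_2 D30626 D32635 (iv D32635) (iv D30626) F115322
theorem F151554 : act 8 n32635 = n30929 := d40_2 (iv F142376) D32635 F143407
theorem F151555 : act 9 n32635 = n31151 := d41_2 (iv F142377) D32635 F144415
def n32636 : Q := act 7 n30630
theorem D32636 : act 7 n30630 = n32636 := rfl
theorem F151556 : act 1 n32636 = n30919 := d14_1 D32636 F143363 (iv F142391)
theorem F151557 : act 2 n32636 = n30632 := d21_1 D32636 (iv D30632) (iv F142392)
theorem F151558 : act 4 n32636 = n30631 := d32_1 D32636 (iv D30631) D30630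
theorem F151559 : act 8 n32636 = n30917 := d42_2 (iv F142394) D32636 F143358
theorem F151560 : act 9 n32636 = n30637 := d43_2 (iv F142395) D32636 (iv D30637)
def n32637 : Q := act 6 n30631
theorem D32637 : act 6 n30631 = n32637 := rfl
theorem F151561 : act 2 n32637 = n30633 := d20_1 D32637 (iv D30633) (iv F142396)
theorem F151562 : act 5 n32637 = n30650 := d35_1 D32637 (iv D30650) F115449 (iv F115359) (iv F142397)
theorem F151563 : act 7 n32637 = n32637 := d39_2 D30631 D32637 (iv D32637) (iv D30631) F115356
theorem F151564 : act 9 n32637 = n30638 := d41_2 (iv F142398) D32637 (iv D30638)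
def n32638 : Q := act 7 n30636
theorem D32638 : act 7 n30636 = n32638 := rfl
theorem F151565 : act 1 n32638 = n30899 := d14_1 D32638 F143296 (iv F142418)
theorem F151566 : act 3 n32638 = n30637 := d27_1 D32638 (iv D30637) D30636
theorem F151567 : act 8 n32638 = n30897 := d42_2 (iv F142420) D32638 (iv D30897)
def n32639 : Q := act 6 n30637
theorem D32639 : act 6 n30637 = n32639 := rfl
theorem F151568 : act 1 n32639 = n30918 := d13_1 D32639 F143360 (iv F142421)
theorem F151569 : act 2 n32639 = n30639 := d20_1 D32639 (iv D30639) (iv F142422)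
theorem F151570 : act 4 n32639 = n30638 := d31_1 D32639 (iv D30638) (iv F142423)
theorem F151571 : act 7 n32639 = n32639 := d39_2 D30637 D32639 (iv D32639) (iv D30637) F115402
theorem F151572 : act 8 n32639 = n30916 := d40_2 (iv F142424) D32639 F143353
def n32640 : Q := act 5 n30639
theorem D32640 : act 5 n30639 = n32640 := rfl
theorem F151573 : act 1 n32640 = n31107 := d12_1 D32640 (iv D31107) (iv F142428)
theorem F151574 : act 4 n32640 = n30663 := d30_1 D32640 (iv D30663) F115505 (iv F115417) (iv F142429)
theorem F151575 : act 7 n32640 = n32640 := d36_2 F142430 D32640 (iv D32640)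
theorem F151576 : act 8 n32640 = n30925 := d37_2 (iv F142431) D32640 F143389 F117718 (iv F117801)
def n32641 : Q := act 4 n30642
theorem D32641 : act 4 n30642 = n32641 := rfl
theorem F151577 : act 0 n32641 = n30644 := d3_1 D32641 (iv D30644) (iv F142444)
theorem F151578 : act 2 n32641 = n30962 := d18_1 D32641 F143527 (iv F142445)
theorem F151579 : act 6 n32641 = n32641 := d31_2 F142446 D32641 (iv D32641)
theorem F151580 : act 9 n32641 = n30656 := d34_2 (iv F142447) D32641 (iv D30656)
theorem F151581 : act 8 n30958 = n32641 := d22_0 F151578 (iv D30962) (iv F143504)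
def n32642 : Q := act 7 n30642
theorem D32642 : act 7 n30642 = n32642 := rfl
theorem F151582 : act 0 n32642 = n30645 := d6_1 D32642 (iv D30645) (iv F142444)
theorem F151583 : act 2 n32642 = n31108 := d21_1 D32642 (iv D31108) (iv F142445)
theorem F151584 : act 5 n32642 = n30643 := d36_1 D32642 (iv D30643) D30642
theorem F151585 : act 9 n32642 = n30657 := d43_2 (iv F142447) D32642 (iv D30657)
def n32643 : Q := act 8 n30642
theorem D32643 : act 8 n30642 = n32643 := rfl
theorem F151586 : act 0 n32643 = n30646 := d7_1 D32643 (iv D30646) (iv F142444)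
theorem F151587 : act 2 n32643 = n30960 := d22_1 D32643 (iv F143518) (iv F142445)
theorem F151588 : act 4 n32643 = n30958 := d33_1 D32643 F151581 (iv D32641)
theorem F151589 : act 5 n32643 = n32643 := d37_1 D32643 (iv D32643) (iv D30642) F115435 D30642
theorem F151590 : act 6 n32643 = n32643 := d40_1 D32643 (iv D32643) F142446
theorem F151591 : act 9 n32643 = n32643 := d44_2 (iv F142447) D32643 (iv D32643) F142447 F115482
def n32644 : Q := act 7 n30644
theorem D32644 : act 7 n30644 = n32644 := rfl
theorem F151592 : act 1 n32644 = n30648 := d14_1 D32644 (iv D30648) (iv F142452)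
theorem F151593 : act 2 n32644 = n30981 := d21_1 D32644 F143608 (iv F142453)
theorem F151594 : act 4 n32644 = n30645 := d32_1 D32644 (iv D30645) D30644
theorem F151595 : act 8 n32644 = n30978 := d42_2 F142456 D32644 (iv D30978)
theorem F151596 : act 9 n32644 = n30659 := d43_2 (iv F142455) D32644 (iv D30659)
def n32645 : Q := act 6 n30645
theorem D32645 : act 6 n30645 = n32645 := rfl
theorem F151597 : act 1 n32645 = n30650 := d13_1 D32645 (iv D30650) (iv F142457)
theorem F151598 : act 2 n32645 = n31109 := d20_1 D32645 (iv D31109) (iv F142458)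
theorem F151599 : act 7 n32645 = n32645 := d39_2 D30645 D32645 (iv D32645) (iv D30645) F115439
theorem F151600 : act 9 n32645 = n30660 := d41_2 (iv F142460) D32645 (iv D30660)
def n32646 : Q := act 8 n30645
theorem D32646 : act 8 n30645 = n32646 := rfl
theorem F151601 : act 1 n32646 = n30651 := d15_1 D32646 (iv D30651) (iv F142457)
theorem F151602 : act 2 n32646 = n30979 := d22_1 D32646 F143598 (iv F142458)
theorem F151603 : act 4 n32646 = n30978 := d33_1 D32646 (iv F151595) F151594
theorem F151604 : act 5 n32646 = n32646 := d37_1 D32646 (iv D32646) F142459 F115443 (iv F142459)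
theorem F151605 : act 7 n32646 = n30646 := d42_1 D32646 (iv D30646) D30645
theorem F151606 : act 9 n32646 = n32646 := d44_2 (iv F142460) D32646 (iv D32646) F142460 F115493
def n32647 : Q := act 7 n30647
theorem D32647 : act 7 n30647 = n32647 := rfl
theorem F151607 : act 2 n32647 = n30883 := d21_1 D32647 (iv D30883) (iv F142467)
theorem F151608 : act 3 n32647 = n30648 := d27_1 D32647 (iv D30648) D30647
theorem F151609 : act 9 n32647 = n30661 := d43_2 (iv F142469) D32647 (iv D30661)
def n32648 : Q := act 6 n30648
theorem D32648 : act 6 n30648 = n32648 := rfl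
theorem F151610 : act 2 n32648 = n30652 := d20_1 D32648 (iv D30652) (iv F142470)
theorem F151611 : act 4 n32648 = n30650 := d31_1 D32648 (iv D30650) (iv F142471)
theorem F151612 : act 7 n32648 = n32648 := d39_2 D30648 D32648 (iv D32648) (iv D30648) F115446
theorem F151613 : act 9 n32648 = n30662 := d41_2 (iv F142472) D32648 (iv D30662)
def n32649 : Q := act 8 n30648
theorem D32649 : act 8 n30648 = n32649 := rfl
theorem F151614 : act 1 n32649 = n30978 := d15_1 D32649 (iv F151595) F151592
theorem F151615 : act 2 n32649 = n30653 := d22_1 D32649 (iv D30653) (iv F142470)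
theorem F151616 : act 4 n32649 = n30651 := d33_1 D32649 (iv D30651) (iv F142471)
theorem F151617 : act 7 n32649 = n30649 := d42_1 D32649 (iv D30649) D30648
theorem F151618 : act 9 n32649 = n32649 := d44_2 (iv F142472) D32649 (iv D32649) F142472 F115499
theorem F151619 : act 5 n30977 = n32649 := d36_3 F151617 (iv F142478) D30977
def n32650 : Q := act 8 n30650
theorem D32650 : act 8 n30650 = n32650 := rfl
theorem F151620 : act 2 n32650 = n30654 := d22_1 D32650 (iv D30654) (iv F142479)
theorem F151621 : act 6 n32650 = n30651 := d40_1 D32650 (iv D30651) D30650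
theorem F151622 : act 7 n32650 = n32650 := d42_1 D32650 (iv D32650) F142480
theorem F151623 : act 9 n32650 = n32650 := d44_2 (iv F142481) D32650 (iv D32650) F142481 F115502
def n32651 : Q := act 5 n30652
theorem D32651 : act 5 n30652 = n32651 := rfl
theorem F151624 : act 1 n32651 = n31110 := d12_1 D32651 (iv D31110) (iv F142486)
theorem F151625 : act 3 n32651 = n30885 := d25_1 D32651 (iv D30885) (iv F142487)
theorem F151626 : act 7 n32651 = n32651 := d36_2 F142489 D32651 (iv D32651)
theorem F151627 : act 9 n32651 = n30663 := d38_2 (iv F142490) D32651 (iv D30663)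
def n32652 : Q := act 8 n30652
theorem D32652 : act 8 n30652 = n32652 := rfl
theorem F151628 : act 1 n32652 = n31024 := d15_1 D32652 F143847 (iv F142486)
theorem F151629 : act 3 n32652 = n30886 := d28_1 D32652 (iv D30886) (iv F142487)
theorem F151630 : act 4 n32652 = n30654 := d33_1 D32652 (iv D30654) (iv F142488)
theorem F151631 : act 6 n32652 = n30653 := d40_1 D32652 (iv D30653) D30652
theorem F151632 : act 7 n32652 = n32652 := d42_1 D32652 (iv D32652) F142489
theorem F151633 : act 9 n32652 = n32652 := d44_2 (iv F142490) D32652 (iv D32652) F142490 F115507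
theorem F151634 : act 5 n31033 = n32652 := d35_5 F151631 (iv F142496) F121404 (iv F121459) D31033
def n32653 : Q := act 3 n30656
theorem D32653 : act 3 n30656 = n32653 := rfl
theorem F151635 : act 0 n32653 = n30658 := d2_1 D32653 (iv D30658) (iv F142507)
theorem F151636 : act 6 n32653 = n32653 := d26_2 F142509 D32653 (iv D32653)
theorem F151637 : act 8 n32653 = n32653 := d28_2 F142510 D32653 (iv D32653)
def n32654 : Q := act 7 n30656
theorem D32654 : act 7 n30656 = n32654 := rfl
theorem F151638 : act 0 n32654 = n30659 := d6_1 D32654 (iv D30659) (iv F142507)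
theorem F151639 : act 2 n32654 = n31112 := d21_1 D32654 (iv D31112) (iv F142508)
theorem F151640 : act 4 n32654 = n30657 := d32_1 D32654 (iv D30657) D30656
theorem F151641 : act 8 n32654 = n32654 := d42_2 F142510 D32654 (iv D32654)
def n32655 : Q := act 7 n30658
theorem D32655 : act 7 n30658 = n32655 := rfl
theorem F151642 : act 1 n32655 = n30661 := d14_1 D32655 (iv D30661) (iv F142515)
theorem F151643 : act 3 n32655 = n30659 := d27_1 D32655 (iv D30659) D30658
theorem F151644 : act 8 n32655 = n32655 := d42_2 F142517 D32655 (iv D32655)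
def n32656 : Q := act 6 n30659
theorem D32656 : act 6 n30659 = n32656 := rfl
theorem F151645 : act 1 n32656 = n30662 := d13_1 D32656 (iv D30662) (iv F142518)
theorem F151646 : act 2 n32656 = n31114 := d20_1 D32656 (iv D31114) (iv F142519)
theorem F151647 : act 4 n32656 = n30660 := d31_1 D32656 (iv D30660) (iv F142520)
theorem F151648 : act 7 n32656 = n32656 := d39_2 D30659 D32656 (iv D32656) (iv D30659) F115488
theorem F151649 : act 8 n32656 = n32656 := d40_2 F142521 D32656 (iv D32656)
def n32657 : Q := act 6 n30661
theorem D32657 : act 6 n30661 = n32657 := rfl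
theorem F151650 : act 2 n32657 = n30887 := d20_1 D32657 (iv D30887) (iv F142526)
theorem F151651 : act 3 n32657 = n30662 := d26_1 D32657 (iv D30662) (iv F142527)
theorem F151652 : act 7 n32657 = n32657 := d39_2 D30661 D32657 (iv D32657) (iv D30661) F115495
theorem F151653 : act 8 n32657 = n32657 := d40_2 F142528 D32657 (iv D32657)
def n32658 : Q := act 5 n30662
theorem D32658 : act 5 n30662 = n32658 := rfl
theorem F151654 : act 2 n32658 = n30663 := d19_1 D32658 (iv D30663) (iv F142529)
theorem F151655 : act 7 n32658 = n32658 := d36_2 F142531 D32658 (iv D32658)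
def n32659 : Q := act 8 n30663
theorem D32659 : act 8 n30663 = n32659 := rfl
theorem F151656 : act 1 n32659 = n31116 := d15_1 D32659 (iv D31116) (iv F142533)
theorem F151657 : act 3 n32659 = n30889 := d28_1 D32659 (iv D30889) (iv F142534)
theorem F151658 : act 4 n32659 = n30925 := d33_1 D32659 (iv F151576) F151574
theorem F151659 : act 5 n32659 = n32659 := d37_1 D32659 (iv D32659) (iv D30663) F115507 D30663
theorem F151660 : act 7 n32659 = n32659 := d42_1 D32659 (iv D32659) F142535
theorem F151661 : act 9 n30924 = n32659 := d34_0 F151658 (iv D30925) D30924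
def n32660 : Q := act 4 n30664
theorem D32660 : act 4 n30664 = n32660 := rfl
theorem F151662 : act 0 n32660 = n30688 := d3_1 D32660 (iv D30688) (iv F142536)
theorem F151663 : act 9 n32660 = n30667 := d34_2 (iv F142538) D32660 (iv D30667)
def n32661 : Q := act 7 n30664
theorem D32661 : act 7 n30664 = n32661 := rfl
theorem F151664 : act 0 n32661 = n30689 := d6_1 D32661 (iv D30689) (iv F142536)
theorem F151665 : act 3 n32661 = n30666 := d27_1 D32661 (iv D30666) (iv F142537)
theorem F151666 : act 5 n32661 = n30665 := d36_1 D32661 (iv D30665) D30664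
theorem F151667 : act 9 n32661 = n30668 := d43_2 (iv F142538) D32661 (iv D30668)
def n32662 : Q := act 6 n30666
theorem D32662 : act 6 n30666 = n32662 := rfl
theorem F151668 : act 0 n32662 = n30691 := d5_1 D32662 (iv D30691) (iv F142543)
theorem F151669 : act 2 n32662 = n31117 := d20_1 D32662 (iv D31117) (iv F142544)
theorem F151670 : act 9 n32662 = n30669 := d41_2 (iv F142546) D32662 (iv D30669)
def n32663 : Q := act 7 n30667
theorem D32663 : act 7 n30667 = n32663 := rfl
theorem F151671 : act 0 n32663 = n30696 := d6_1 D32663 (iv D30696) (iv F142547)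
theorem F151672 : act 4 n32663 = n30668 := d32_1 D32663 (iv D30668) D30667
def n32664 : Q := act 6 n30668
theorem D32664 : act 6 n30668 = n32664 := rfl
theorem F151673 : act 0 n32664 = n30698 := d5_1 D32664 (iv D30698) (iv F142548)
theorem F151674 : act 3 n32664 = n30669 := d26_1 D32664 (iv D30669) (iv F142549)
def n32665 : Q := act 4 n30670
theorem D32665 : act 4 n30670 = n32665 := rfl
theorem F151675 : act 2 n32665 = n30672 := d18_1 D32665 (iv D30672) (iv F142553)
theorem F151676 : act 6 n32665 = n30694 := d31_2 (iv F142555) D32665 (iv D30694)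
theorem F151677 : act 8 n32665 = n30718 := d33_2 (iv F142556) D32665 (iv D30718)
def n32666 : Q := act 7 n30670
theorem D32666 : act 7 n30670 = n32666 := rfl
theorem F151678 : act 2 n32666 = n30673 := d21_1 D32666 (iv D30673) (iv F142553)
theorem F151679 : act 3 n32666 = n30721 := d27_1 D32666 F142720 (iv F142554)
theorem F151680 : act 5 n32666 = n30671 := d36_1 D32666 (iv D30671) D30670
theorem F151681 : act 8 n32666 = n30719 := d42_2 (iv F142556) D32666 (iv D30719)
def n32667 : Q := act 7 n30672
theorem D32667 : act 7 n30672 = n32667 := rfl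
theorem F151682 : act 1 n32667 = n30736 := d14_1 D32667 (iv D30736) (iv F142560)
theorem F151683 : act 4 n32667 = n30673 := d32_1 D32667 (iv D30673) D30672
def n32668 : Q := act 8 n30672
theorem D32668 : act 8 n30672 = n32668 := rfl
theorem F151684 : act 1 n32668 = n30737 := d15_1 D32668 (iv D30737) (iv F142560)
theorem F151685 : act 2 n32668 = n30718 := d22_1 D32668 (iv F151677) F151675
theorem F151686 : act 4 n32668 = n30674 := d33_1 D32668 (iv D30674) D30672
theorem F151687 : act 6 n32668 = n30697 := d40_1 D32668 (iv D30697) (iv F142561)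
def n32669 : Q := act 6 n30673
theorem D32669 : act 6 n30673 = n32669 := rfl
theorem F151688 : act 1 n32669 = n30738 := d13_1 D32669 (iv D30738) (iv F142562)
theorem F151689 : act 3 n32669 = n30675 := d26_1 D32669 (iv D30675) (iv F142563)
theorem F151690 : act 7 n32669 = n30698 := d39_2 D30673 D32669 (iv D30698) (iv D25787) (iv F115692)
def n32670 : Q := act 8 n30673
theorem D32670 : act 8 n30673 = n32670 := rfl
theorem F151691 : act 1 n32670 = n30739 := d15_1 D32670 (iv D30739) (iv F142562)
theorem F151692 : act 2 n32670 = n30719 := d22_1 D32670 (iv F151681) F151678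
theorem F151693 : act 3 n32670 = n30676 := d28_1 D32670 (iv D30676) (iv F142563)
theorem F151694 : act 5 n32670 = n30717 := d37_1 D32670 F142711 F118223 (iv F115695) (iv F142564)
theorem F151695 : act 7 n32670 = n30674 := d42_1 D32670 (iv D30674) D30673
def n32671 : Q := act 8 n30675
theorem D32671 : act 8 n30675 = n32671 := rfl
theorem F151696 : act 1 n32671 = n30741 := d15_1 D32671 (iv D30741) (iv F142570)
theorem F151697 : act 2 n32671 = n30800 := d22_1 D32671 F142942 (iv F142571)
theorem F151698 : act 6 n32671 = n30676 := d40_1 D32671 (iv D30676) D30675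
theorem F151699 : act 7 n32671 = n30700 := d42_1 D32671 (iv D30700) (iv F142572)
theorem F151700 : act 5 n30819 = n32671 := d36_3 F151699 (iv F142658) (iv F143014)
def n32672 : Q := act 4 n30677
theorem D32672 : act 4 n30677 = n32672 := rfl
theorem F151701 : act 1 n32672 = n30772 := d11_1 D32672 F142858 (iv F142577)
theorem F151702 : act 2 n32672 = n30679 := d18_1 D32672 (iv D30679) (iv F142578)
theorem F151703 : act 8 n32672 = n30768 := d33_2 (iv F142580) D32672 (iv D30768)
def n32673 : Q := act 7 n30677
theorem D32673 : act 7 n30677 = n32673 := rfl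
theorem F151704 : act 1 n32673 = n30774 := d14_1 D32673 F142864 (iv F142577)
theorem F151705 : act 2 n32673 = n30680 := d21_1 D32673 (iv D30680) (iv F142578)
theorem F151706 : act 3 n32673 = n30784 := d27_1 D32673 F142885 (iv F142579)
theorem F151707 : act 5 n32673 = n30678 := d36_1 D32673 (iv D30678) D30677
theorem F151708 : act 8 n32673 = n30769 := d42_2 (iv F142580) D32673 (iv D30769)
def n32674 : Q := act 7 n30679
theorem D32674 : act 7 n30679 = n32674 := rfl
theorem F151709 : act 1 n32674 = n30752 := d14_1 D32674 (iv D30752) (iv F142586)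
theorem F151710 : act 4 n32674 = n30680 := d32_1 D32674 (iv D30680) D30679
def n32675 : Q := act 8 n30679
theorem D32675 : act 8 n30679 = n32675 := rfl
theorem F151711 : act 1 n32675 = n30694 := d15_1 D32675 F142638 (iv F142586)
theorem F151712 : act 2 n32675 = n30768 := d22_1 D32675 (iv F151703) F151702
theorem F151713 : act 4 n32675 = n30681 := d33_1 D32675 (iv D30681) D30679
def n32676 : Q := act 6 n30680
theorem D32676 : act 6 n30680 = n32676 := rfl
theorem F151714 : act 1 n32676 = n30753 := d13_1 D32676 (iv D30753) (iv F142587)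
theorem F151715 : act 3 n32676 = n30682 := d26_1 D32676 (iv D30682) (iv F142588)
theorem F151716 : act 5 n32676 = n30698 := d35_1 D32676 (iv D30698) F115759 (iv F115714) (iv F142589)
def n32677 : Q := act 8 n30680
theorem D32677 : act 8 n30680 = n32677 := rfl
theorem F151717 : act 1 n32677 = n30695 := d15_1 D32677 F142642 (iv F142587)
theorem F151718 : act 2 n32677 = n30769 := d22_1 D32677 (iv F151708) F151705
theorem F151719 : act 3 n32677 = n30683 := d28_1 D32677 (iv D30683) (iv F142588)
theorem F151720 : act 5 n32677 = n30693 := d37_1 D32677 F142636 F115795 (iv F115715) (iv F142589)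
theorem F151721 : act 7 n32677 = n30681 := d42_1 D32677 (iv D30681) D30680
def n32678 : Q := act 9 n30681
theorem D32678 : act 9 n30681 = n32678 := rfl
theorem F151722 : act 1 n32678 = n30686 := d16_1 D32678 F142611 (iv F142590)
theorem F151723 : act 2 n32678 = n30756 := d23_1 D32678 F142818 (iv F142591)
theorem F151724 : act 3 n32678 = n30684 := d29_1 D32678 (iv D30684) (iv F142592)
theorem F151725 : act 5 n32678 = n30685 := d38_1 D32678 F142608 (iv F142593)
def n32679 : Q := act 8 n30682
theorem D32679 : act 8 n30682 = n32679 := rfl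
theorem F151726 : act 1 n32679 = n30754 := d15_1 D32679 (iv D30754) (iv F142594)
theorem F151727 : act 2 n32679 = n30866 := d22_1 D32679 F143172 (iv F142595)
theorem F151728 : act 5 n32679 = n30861 := d37_1 D32679 (iv D30861) F142658 (iv D30700) (iv F142596)
theorem F151729 : act 6 n32679 = n30683 := d40_1 D32679 (iv D30683) D30682
def n32680 : Q := act 9 n30683
theorem D32680 : act 9 n30683 = n32680 := rfl
theorem F151730 : act 1 n32680 = n30755 := d16_1 D32680 (iv D30755) (iv F142597)
theorem F151731 : act 2 n32680 = n30871 := d23_1 D32680 (iv D30871) (iv F142598)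
theorem F151732 : act 5 n32680 = n30701 := d38_1 D32680 (iv D30701) (iv F142599)
theorem F151733 : act 7 n32680 = n30684 := d43_1 D32680 (iv D30684) (iv F142600)
def n32681 : Q := act 7 n30685
theorem D32681 : act 7 n30685 = n32681 := rfl
theorem F151734 : act 1 n32681 = n30687 := d14_1 D32681 (iv D30687) (iv F142604)
theorem F151735 : act 2 n32681 = n30757 := d21_1 D32681 (iv D30757) (iv F142605)
theorem F151736 : act 3 n32681 = n30701 := d27_1 D32681 F142663 (iv F142606)
theorem F151737 : act 6 n32681 = n30788 := d39_1 D32681 F142901 F116188 (iv F134750) D30685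
theorem F151738 : act 8 n32681 = n30890 := d42_2 (iv F142607) D32681 (iv D30890)
theorem F151739 : act 9 n32681 = n30693 := d43_2 (iv F142608) D32681 (iv D30693)
def n32682 : Q := act 4 n30686
theorem D32682 : act 4 n30686 = n32682 := rfl
theorem F151740 : act 2 n32682 = n30688 := d18_1 D32682 (iv D30688) (iv F142609)
theorem F151741 : act 9 n32682 = n30694 := d34_2 (iv F142611) D32682 (iv D30694)
def n32683 : Q := act 7 n30686
theorem D32683 : act 7 n30686 = n32683 := rfl
theorem F151742 : act 2 n32683 = n30689 := d21_1 D32683 (iv D30689) (iv F142609)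
theorem F151743 : act 3 n32683 = n30755 := d27_1 D32683 F142815 (iv F142610)
theorem F151744 : act 5 n32683 = n30687 := d36_1 D32683 (iv D30687) D30686
theorem F151745 : act 9 n32683 = n30695 := d43_2 (iv F142611) D32683 (iv D30695)
def n32684 : Q := act 7 n30688
theorem D32684 : act 7 n30688 = n32684 := rfl
theorem F151746 : act 1 n32684 = n30761 := d14_1 D32684 (iv D30761) (iv F142616)
theorem F151747 : act 4 n32684 = n30689 := d32_1 D32684 (iv D30689) D30688
theorem F151748 : act 9 n32684 = n30696 := d43_2 (iv F142617) D32684 (iv D30696)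
def n32685 : Q := act 8 n30688
theorem D32685 : act 8 n30688 = n32685 := rfl
theorem F151749 : act 1 n32685 = n30762 := d15_1 D32685 (iv D30762) (iv F142616)
theorem F151750 : act 4 n32685 = n30690 := d33_1 D32685 (iv D30690) D30688
def n32686 : Q := act 6 n30689
theorem D32686 : act 6 n30689 = n32686 := rfl
theorem F151751 : act 1 n32686 = n30763 := d13_1 D32686 (iv D30763) (iv F142618)
theorem F151752 : act 3 n32686 = n30691 := d26_1 D32686 (iv D30691) (iv F142619)
theorem F151753 : act 9 n32686 = n30698 := d41_2 (iv F142621) D32686 (iv D30698)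
def n32687 : Q := act 8 n30689
theorem D32687 : act 8 n30689 = n32687 := rfl
theorem F151754 : act 1 n32687 = n30764 := d15_1 D32687 (iv D30764) (iv F142618)
theorem F151755 : act 3 n32687 = n30692 := d28_1 D32687 (iv D30692) (iv F142619)
theorem F151756 : act 5 n32687 = n30894 := d37_1 D32687 (iv D30894) F117155 (iv F115735) (iv F142620)
theorem F151757 : act 7 n32687 = n30690 := d42_1 D32687 (iv D30690) D30689
def n32688 : Q := act 8 n30691
theorem D32688 : act 8 n30691 = n32688 := rfl
theorem F151758 : act 1 n32688 = n30766 := d15_1 D32688 (iv D30766) (iv F142625)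
theorem F151759 : act 2 n32688 = n31118 := d22_1 D32688 (iv D31118) (iv F142626)
theorem F151760 : act 6 n32688 = n30692 := d40_1 D32688 (iv D30692) D30691
def n32689 : Q := act 3 n30694
theorem D32689 : act 3 n30694 = n32689 := rfl
theorem F151761 : act 4 n32689 = n30748 := d24_2 D30694 D32689 F142797 F116028 F135161
theorem F151762 : act 8 n32689 = n30746 := d28_2 (iv F142638) D32689 F142794
def n32690 : Q := act 7 n30694
theorem D32690 : act 7 n30694 = n32690 := rfl
theorem F151763 : act 2 n32690 = n30696 := d21_1 D32690 (iv D30696) (iv F142637)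
theorem F151764 : act 4 n32690 = n30695 := d32_1 D32690 (iv D30695) D30694
theorem F151765 : act 8 n32690 = n30752 := d42_2 (iv F142638) D32690 (iv D30752)
def n32691 : Q := act 6 n30695
theorem D32691 : act 6 n30695 = n32691 := rfl
theorem F151766 : act 2 n32691 = n30698 := d20_1 D32691 (iv D30698) (iv F142639)
theorem F151767 : act 3 n32691 = n30754 := d26_1 D32691 F142812 (iv F142640)
theorem F151768 : act 8 n32691 = n30753 := d40_2 (iv F142642) D32691 (iv D30753)
def n32692 : Q := act 6 n30696
theorem D32692 : act 6 n30696 = n32692 := rfl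
theorem F151769 : act 1 n32692 = n30776 := d13_1 D32692 (iv D30776) (iv F142643)
theorem F151770 : act 4 n32692 = n30698 := d31_1 D32692 (iv D30698) (iv F142644)
def n32693 : Q := act 8 n30696
theorem D32693 : act 8 n30696 = n32693 := rfl
theorem F151771 : act 1 n32693 = n30777 := d15_1 D32693 (iv D30777) (iv F142643)
theorem F151772 : act 2 n32693 = n30752 := d22_1 D32693 (iv F151765) F151763
theorem F151773 : act 4 n32693 = n30699 := d33_1 D32693 (iv D30699) (iv F142644)
theorem F151774 : act 7 n32693 = n30697 := d42_1 D32693 (iv D30697) D30696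
def n32694 : Q := act 8 n30698
theorem D32694 : act 8 n30698 = n32694 := rfl
theorem F151775 : act 1 n32694 = n30780 := d15_1 D32694 (iv D30780) (iv F142648)
theorem F151776 : act 2 n32694 = n30753 := d22_1 D32694 (iv F151768) F151766
theorem F151777 : act 3 n32694 = n30700 := d28_1 D32694 (iv D30700) (iv F142649)
theorem F151778 : act 6 n32694 = n30699 := d40_1 D32694 (iv D30699) D30698
theorem F151779 : act 5 n30773 = n32694 := d35_5 F151778 F142653 F134793 (iv F116092) D30773
def n32695 : Q := act 6 n30702
theorem D32695 : act 6 n30702 = n32695 := rfl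
theorem F151780 : act 1 n32695 = n30703 := d13_1 D32695 (iv D30703) D30702
theorem F151781 : act 3 n32695 = n32695 := d26_1 D32695 (iv D32695) F142665
theorem F151782 : act 4 n32695 = n30722 := d31_1 D32695 (iv D30722) (iv F142666)
theorem F151783 : act 8 n32695 = n32695 := d40_2 F142668 D32695 (iv D32695)
theorem F151784 : act 9 n32695 = n30708 := d41_2 (iv F142669) D32695 (iv D30708)
def n32696 : Q := act 5 n30703
theorem D32696 : act 5 n30703 = n32696 := rfl
theorem F151785 : act 2 n32696 = n30704 := d19_1 D32696 (iv D30704) (iv F142670)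
theorem F151786 : act 3 n32696 = n32696 := d25_1 D32696 (iv D32696) F142671
theorem F151787 : act 9 n32696 = n30709 := d38_2 (iv F142674) D32696 (iv D30709)
def n32697 : Q := act 7 n30703
theorem D32697 : act 7 n30703 = n32697 := rfl
theorem F151788 : act 2 n32697 = n30705 := d21_1 D32697 (iv D30705) (iv F142670)
theorem F151789 : act 3 n32697 = n32697 := d27_1 D32697 (iv D32697) F142671
theorem F151790 : act 4 n32697 = n30724 := d32_1 D32697 (iv D30724) (iv F142672)
theorem F151791 : act 8 n32697 = n32697 := d42_2 F142673 D32697 (iv D32697)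
theorem F151792 : act 9 n32697 = n30710 := d43_2 (iv F142674) D32697 (iv D30710)
def n32698 : Q := act 4 n30704
theorem D32698 : act 4 n30704 = n32698 := rfl
theorem F151793 : act 5 n32698 = n30725 := d30_2 D30704 D32698 (iv D30725) (iv D25847) (iv F115929)
theorem F151794 : act 9 n32698 = n30711 := d34_2 (iv F142676) D32698 (iv D30711)
def n32699 : Q := act 7 n30704
theorem D32699 : act 7 n30704 = n32699 := rfl
theorem F151795 : act 3 n32699 = n30706 := d27_1 D32699 (iv D30706) (iv F142675)
theorem F151796 : act 5 n32699 = n30705 := d36_1 D32699 (iv D30705) D30704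
theorem F151797 : act 9 n32699 = n30712 := d43_2 (iv F142676) D32699 (iv D30712)
def n32700 : Q := act 8 n30704
theorem D32700 : act 8 n30704 = n32700 := rfl
theorem F151798 : act 3 n32700 = n30707 := d28_1 D32700 (iv D30707) (iv F142675)
theorem F151799 : act 5 n32700 = n32700 := d37_1 D32700 (iv D32700) (iv D30704) F115930 D30704
def n32701 : Q := act 6 n30706
theorem D32701 : act 6 n30706 = n32701 := rfl
theorem F151800 : act 2 n32701 = n32701 := d20_1 D32701 (iv D32701) F142681
theorem F151801 : act 9 n32701 = n30714 := d41_2 (iv F142683) D32701 (iv D30714)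
def n32702 : Q := act 8 n30706
theorem D32702 : act 8 n30706 = n32702 := rfl
theorem F151802 : act 2 n32702 = n32702 := d22_1 D32702 (iv D32702) F142681
theorem F151803 : act 5 n32702 = n32702 := d37_1 D32702 (iv D32702) F142682 F115936 (iv F142682)
theorem F151804 : act 7 n32702 = n30707 := d42_1 D32702 (iv D30707) D30706
def n32703 : Q := act 5 n30708
theorem D32703 : act 5 n30708 = n32703 := rfl
theorem F151805 : act 1 n32703 = n30709 := d12_1 D32703 (iv D30709) (iv F142686)
theorem F151806 : act 3 n32703 = n32703 := d25_1 D32703 (iv D32703) F142687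
def n32704 : Q := act 7 n30708
theorem D32704 : act 7 n30708 = n32704 := rfl
theorem F151807 : act 1 n32704 = n30710 := d14_1 D32704 (iv D30710) (iv F142686)
theorem F151808 : act 3 n32704 = n32704 := d27_1 D32704 (iv D32704) F142687
theorem F151809 : act 4 n32704 = n30732 := d32_1 D32704 (iv D30732) (iv F142688)
theorem F151810 : act 6 n32704 = n30941 := d39_1 D32704 F143449 F118630 (iv F134775) D30708
theorem F151811 : act 8 n32704 = n30930 := d42_2 (iv F142689) D32704 (iv D30930)
def n32705 : Q := act 4 n30709
theorem D32705 : act 4 n30709 = n32705 := rfl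
theorem F151812 : act 2 n32705 = n30711 := d18_1 D32705 (iv D30711) (iv F142690)
theorem F151813 : act 5 n32705 = n30733 := d30_2 D30709 D32705 (iv D30733) (iv D25853) (iv F115943)
def n32706 : Q := act 7 n30709
theorem D32706 : act 7 n30709 = n32706 := rfl
theorem F151814 : act 2 n32706 = n30712 := d21_1 D32706 (iv D30712) (iv F142690)
theorem F151815 : act 3 n32706 = n32706 := d27_1 D32706 (iv D32706) F142691
theorem F151816 : act 5 n32706 = n30710 := d36_1 D32706 (iv D30710) D30709
def n32707 : Q := act 8 n30709
theorem D32707 : act 8 n30709 = n32707 := rfl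
theorem F151817 : act 2 n32707 = n30713 := d22_1 D32707 (iv D30713) (iv F142690)
theorem F151818 : act 3 n32707 = n32707 := d28_1 D32707 (iv D32707) F142691
theorem F151819 : act 5 n32707 = n30932 := d37_1 D32707 (iv D30932) (iv D26536) (iv F115944) D30709
def n32708 : Q := act 7 n30711
theorem D32708 : act 7 n30711 = n32708 := rfl
theorem F151820 : act 4 n32708 = n30712 := d32_1 D32708 (iv D30712) D30711
theorem F151821 : act 5 n32708 = n30736 := d36_1 D32708 (iv D30736) (iv F142696)
def n32709 : Q := act 8 n30711
theorem D32709 : act 8 n30711 = n32709 := rfl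
theorem F151822 : act 4 n32709 = n30713 := d33_1 D32709 (iv D30713) D30711
def n32710 : Q := act 6 n30712
theorem D32710 : act 6 n30712 = n32710 := rfl
theorem F151823 : act 3 n32710 = n30714 := d26_1 D32710 (iv D30714) (iv F142697)
def n32711 : Q := act 8 n30712
theorem D32711 : act 8 n30712 = n32711 := rfl
theorem F151824 : act 3 n32711 = n30715 := d28_1 D32711 (iv D30715) (iv F142697)
theorem F151825 : act 5 n32711 = n30936 := d37_1 D32711 (iv D30936) F118559 (iv F115948) (iv F142698)
theorem F151826 : act 7 n32711 = n30713 := d42_1 D32711 (iv D30713) D30712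
def n32712 : Q := act 9 n30713
theorem D32712 : act 9 n30713 = n32712 := rfl
theorem F151827 : act 3 n32712 = n30716 := d29_1 D32712 (iv D30716) (iv F142699)
theorem F151828 : act 5 n32712 = n30937 := d38_1 D32712 (iv D30937) (iv F142700)
def n32713 : Q := act 8 n30714
theorem D32713 : act 8 n30714 = n32713 := rfl
theorem F151829 : act 2 n32713 = n32713 := d22_1 D32713 (iv D32713) F142701
theorem F151830 : act 6 n32713 = n30715 := d40_1 D32713 (iv D30715) D30714
def n32714 : Q := act 9 n30715
theorem D32714 : act 9 n30715 = n32714 := rfl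
theorem F151831 : act 2 n32714 = n32714 := d23_1 D32714 (iv D32714) F142702
theorem F151832 : act 5 n32714 = n30939 := d38_1 D32714 (iv D30939) (iv F142703)
theorem F151833 : act 7 n32714 = n30716 := d43_1 D32714 (iv D30716) (iv F142704)
def n32715 : Q := act 7 n30718
theorem D32715 : act 7 n30718 = n32715 := rfl
theorem F151834 : act 4 n32715 = n30719 := d32_1 D32715 (iv D30719) D30718
def n32716 : Q := act 6 n30719
theorem D32716 : act 6 n30719 = n32716 := rfl
theorem F151835 : act 3 n32716 = n30720 := d26_1 D32716 (iv D30720) (iv F142713)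
theorem F151836 : act 5 n32716 = n30738 := d35_1 D32716 (iv D30738) F116004 (iv F115963) (iv F142714)
theorem F151837 : act 7 n32716 = n30753 := d39_2 D30719 D32716 (iv D30753) (iv D25872) (iv F115961)
def n32717 : Q := act 8 n30720
theorem D32717 : act 8 n30720 = n32717 := rfl
theorem F151838 : act 2 n32717 = n30801 := d22_1 D32717 (iv D30801) (iv F142715)
theorem F151839 : act 6 n32717 = n30721 := d40_1 D32717 (iv D30721) D30720
theorem F151840 : act 7 n32717 = n30754 := d42_1 D32717 (iv D30754) (iv F142717)
def n32718 : Q := act 5 n30722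
theorem D32718 : act 5 n30722 = n32718 := rfl
theorem F151841 : act 1 n32718 = n30723 := d12_1 D32718 (iv D30723) (iv F142721)
theorem F151842 : act 3 n32718 = n30802 := d25_1 D32718 (iv D30802) (iv F142722)
theorem F151843 : act 6 n32718 = n30756 := d35_2 D30722 D32718 (iv D30756) (iv D25878) (iv F115971)
theorem F151844 : act 9 n32718 = n30731 := d38_2 (iv F142724) D32718 (iv D30731)
def n32719 : Q := act 7 n30722
theorem D32719 : act 7 n30722 = n32719 := rfl
theorem F151845 : act 1 n32719 = n30724 := d14_1 D32719 (iv D30724) (iv F142721)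
theorem F151846 : act 3 n32719 = n30803 := d27_1 D32719 (iv D30803) (iv F142722)
theorem F151847 : act 6 n32719 = n30944 := d39_1 D32719 F143456 F118637 (iv F134755) D30722
theorem F151848 : act 8 n32719 = n32719 := d42_2 F142723 D32719 (iv D32719)
theorem F151849 : act 9 n32719 = n30732 := d43_2 (iv F142724) D32719 (iv D30732)
def n32720 : Q := act 4 n30723
theorem D32720 : act 4 n30723 = n32720 := rfl
theorem F151850 : act 2 n32720 = n30725 := d18_1 D32720 (iv D30725) (iv F142725)
theorem F151851 : act 6 n32720 = n30758 := d31_2 (iv F142727) D32720 (iv D30758)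
theorem F151852 : act 9 n32720 = n30733 := d34_2 (iv F142728) D32720 (iv D30733)
def n32721 : Q := act 7 n30723
theorem D32721 : act 7 n30723 = n32721 := rfl
theorem F151853 : act 2 n32721 = n30726 := d21_1 D32721 (iv D30726) (iv F142725)
theorem F151854 : act 3 n32721 = n30805 := d27_1 D32721 (iv D30805) (iv F142726)
theorem F151855 : act 5 n32721 = n30724 := d36_1 D32721 (iv D30724) D30723
theorem F151856 : act 9 n32721 = n30734 := d43_2 (iv F142728) D32721 (iv D30734)
def n32722 : Q := act 8 n30723
theorem D32722 : act 8 n30723 = n32722 := rfl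
theorem F151857 : act 2 n32722 = n30727 := d22_1 D32722 (iv D30727) (iv F142725)
theorem F151858 : act 3 n32722 = n30806 := d28_1 D32722 (iv D30806) (iv F142726)
theorem F151859 : act 5 n32722 = n32722 := d37_1 D32722 (iv D32722) (iv D30723) F115976 D30723
theorem F151860 : act 6 n32722 = n30760 := d40_1 D32722 (iv D30760) (iv F142727)
def n32723 : Q := act 7 n30725
theorem D32723 : act 7 n30725 = n32723 := rfl
theorem F151861 : act 4 n32723 = n30726 := d32_1 D32723 (iv D30726) D30725
theorem F151862 : act 9 n32723 = n30736 := d43_2 (iv F142734) D32723 (iv D30736)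
def n32724 : Q := act 8 n30725
theorem D32724 : act 8 n30725 = n32724 := rfl
theorem F151863 : act 4 n32724 = n30727 := d33_1 D32724 (iv D30727) D30725
theorem F151864 : act 6 n32724 = n30762 := d40_1 D32724 (iv D30762) (iv F142733)
def n32725 : Q := act 6 n30726
theorem D32725 : act 6 n30726 = n32725 := rfl
theorem F151865 : act 3 n32725 = n30728 := d26_1 D32725 (iv D30728) (iv F142735)
theorem F151866 : act 7 n32725 = n30763 := d39_2 D30726 D32725 (iv D30763) (iv D25882) (iv F115979)
theorem F151867 : act 9 n32725 = n30738 := d41_2 (iv F142737) D32725 (iv D30738)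
def n32726 : Q := act 8 n30726
theorem D32726 : act 8 n30726 = n32726 := rfl
theorem F151868 : act 3 n32726 = n30729 := d28_1 D32726 (iv D30729) (iv F142735)
theorem F151869 : act 5 n32726 = n32726 := d37_1 D32726 (iv D32726) F142736 F115982 (iv F142736)
theorem F151870 : act 7 n32726 = n30727 := d42_1 D32726 (iv D30727) D30726
def n32727 : Q := act 9 n30727
theorem D32727 : act 9 n30727 = n32727 := rfl
theorem F151871 : act 3 n32727 = n30730 := d29_1 D32727 (iv D30730) (iv F142738)
theorem F151872 : act 5 n32727 = n32727 := d38_1 D32727 (iv D32727) F142739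
theorem F151873 : act 6 n32727 = n30765 := d41_1 D32727 (iv D30765) (iv F142740)
theorem F151874 : act 8 n32727 = n30740 := d44_1 D32727 (iv D30740) (iv D25857) (iv F115980) D30727
def n32728 : Q := act 8 n30728
theorem D32728 : act 8 n30728 = n32728 := rfl
theorem F151875 : act 2 n32728 = n30812 := d22_1 D32728 (iv D30812) (iv F142741)
theorem F151876 : act 6 n32728 = n30729 := d40_1 D32728 (iv D30729) D30728
theorem F151877 : act 7 n32728 = n30766 := d42_1 D32728 (iv D30766) (iv F142742)
def n32729 : Q := act 9 n30729
theorem D32729 : act 9 n30729 = n32729 := rfl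
theorem F151878 : act 2 n32729 = n30813 := d23_1 D32729 (iv D30813) (iv F142744)
theorem F151879 : act 5 n32729 = n32729 := d38_1 D32729 (iv D32729) F142745
theorem F151880 : act 7 n32729 = n30730 := d43_1 D32729 (iv D30730) (iv F142746)
theorem F151881 : act 8 n32729 = n30742 := d44_1 D32729 (iv D30742) (iv D25859) (iv F115986) D30729
def n32730 : Q := act 4 n30731
theorem D32730 : act 4 n30731 = n32730 := rfl
theorem F151882 : act 1 n32730 = n30733 := d11_1 D32730 (iv D30733) (iv F142751)
theorem F151883 : act 6 n32730 = n30768 := d31_2 (iv F142753) D32730 (iv D30768)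
def n32731 : Q := act 7 n30731
theorem D32731 : act 7 n30731 = n32731 := rfl
theorem F151884 : act 1 n32731 = n30734 := d14_1 D32731 (iv D30734) (iv F142751)
theorem F151885 : act 3 n32731 = n30815 := d27_1 D32731 (iv D30815) (iv F142752)
theorem F151886 : act 5 n32731 = n30732 := d36_1 D32731 (iv D30732) D30731
def n32732 : Q := act 3 n30733
theorem D32732 : act 3 n30733 = n32732 := rfl
theorem F151887 : act 4 n32732 = n30816 := d24_2 D30733 D32732 (iv D30816) (iv D25970) (iv F115997)
theorem F151888 : act 6 n32732 = n30770 := d26_2 (iv F142759) D32732 (iv D30770)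
def n32733 : Q := act 7 n30733
theorem D32733 : act 7 n30733 = n32733 := rfl
theorem F151889 : act 2 n32733 = n30736 := d21_1 D32733 (iv D30736) (iv F142758)
theorem F151890 : act 4 n32733 = n30734 := d32_1 D32733 (iv D30734) D30733
def n32734 : Q := act 8 n30733
theorem D32734 : act 8 n30733 = n32734 := rfl
theorem F151891 : act 2 n32734 = n30737 := d22_1 D32734 (iv D30737) (iv F142758)
theorem F151892 : act 4 n32734 = n30735 := d33_1 D32734 (iv D30735) D30733
theorem F151893 : act 6 n32734 = n30772 := d40_1 D32734 (iv D30772) (iv F142759)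
def n32735 : Q := act 6 n30734
theorem D32735 : act 6 n30734 = n32735 := rfl
theorem F151894 : act 2 n32735 = n30738 := d20_1 D32735 (iv D30738) (iv F142760)
theorem F151895 : act 3 n32735 = n30819 := d26_1 D32735 (iv D30819) (iv F142761)
theorem F151896 : act 7 n32735 = n30773 := d39_2 D30734 D32735 (iv D30773) (iv D25891) (iv F115998)
def n32736 : Q := act 8 n30734
theorem D32736 : act 8 n30734 = n32736 := rfl
theorem F151897 : act 2 n32736 = n30739 := d22_1 D32736 (iv D30739) (iv F142760)
theorem F151898 : act 3 n32736 = n30820 := d28_1 D32736 (iv D30820) (iv F142761)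
theorem F151899 : act 5 n32736 = n30940 := d37_1 D32736 (iv D30940) F118620 (iv F116001) (iv F142762)
theorem F151900 : act 7 n32736 = n30735 := d42_1 D32736 (iv D30735) D30734
def n32737 : Q := act 9 n30735
theorem D32737 : act 9 n30735 = n32737 := rfl
theorem F151901 : act 1 n32737 = n30744 := d16_1 D32737 (iv F144612) F144607
theorem F151902 : act 2 n32737 = n30740 := d23_1 D32737 (iv D30740) (iv F142763)
theorem F151903 : act 3 n32737 = n30821 := d29_1 D32737 (iv D30821) (iv F142764)
theorem F151904 : act 5 n32737 = n30743 := d38_1 D32737 F142788 (iv F142765)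
theorem F151905 : act 6 n32737 = n30775 := d41_1 D32737 (iv D30775) (iv F142766)
def n32738 : Q := act 6 n30736
theorem D32738 : act 6 n30736 = n32738 := rfl
theorem F151906 : act 4 n32738 = n30738 := d31_1 D32738 (iv D30738) (iv F142767)
theorem F151907 : act 7 n32738 = n30776 := d39_2 D30736 D32738 (iv D30776) (iv D25893) (iv F116002)
def n32739 : Q := act 8 n30736
theorem D32739 : act 8 n30736 = n32739 := rfl
theorem F151908 : act 4 n32739 = n30739 := d33_1 D32739 (iv D30739) (iv F142767)
theorem F151909 : act 7 n32739 = n30737 := d42_1 D32739 (iv D30737) D30736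
def n32740 : Q := act 5 n30737
theorem D32740 : act 5 n30737 = n32740 := rfl
theorem F151910 : act 4 n32740 = n30942 := d30_1 D32740 (iv D30942) F118629 (iv F116006) (iv F142768)
def n32741 : Q := act 9 n30737
theorem D32741 : act 9 n30737 = n32741 := rfl
theorem F151911 : act 4 n32741 = n30740 := d34_1 D32741 (iv D30740) (iv F142768)
theorem F151912 : act 6 n32741 = n30779 := d41_1 D32741 (iv D30779) (iv F142769)
def n32742 : Q := act 8 n30738
theorem D32742 : act 8 n30738 = n32742 := rfl
theorem F151913 : act 3 n32742 = n30741 := d28_1 D32742 (iv D30741) (iv F142770)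
theorem F151914 : act 6 n32742 = n30739 := d40_1 D32742 (iv D30739) D30738
theorem F151915 : act 7 n32742 = n30780 := d42_1 D32742 (iv D30780) (iv F142771)
def n32743 : Q := act 9 n30739
theorem D32743 : act 9 n30739 = n32743 := rfl
theorem F151916 : act 3 n32743 = n30742 := d29_1 D32743 (iv D30742) (iv F142772)
theorem F151917 : act 5 n32743 = n30944 := d38_1 D32743 (iv D30944) (iv F142773)
theorem F151918 : act 7 n32743 = n30740 := d43_1 D32743 (iv D30740) (iv F142774)
def n32744 : Q := act 5 n30741
theorem D32744 : act 5 n30741 = n32744 := rfl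
theorem F151919 : act 1 n32744 = n30819 := d12_1 D32744 F151700 F151696
theorem F151920 : act 2 n32744 = n30828 := d19_1 D32744 (iv D30828) (iv F142778)
theorem F151921 : act 6 n32744 = n30815 := d35_2 (iv F142779) D32744 F143004 F134781 (iv F116011)
theorem F151922 : act 7 n32744 = n30782 := d36_2 (iv F142780) D32744 (iv D30782)
def n32745 : Q := act 9 n30741
theorem D32745 : act 9 n30741 = n32745 := rfl
theorem F151923 : act 2 n32745 = n30829 := d23_1 D32745 (iv D30829) (iv F142778)
theorem F151924 : act 6 n32745 = n30742 := d41_1 D32745 (iv D30742) (iv F142779)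
theorem F151925 : act 7 n32745 = n30783 := d43_1 D32745 (iv D30783) (iv F142780)
def n32746 : Q := act 7 n30743
theorem D32746 : act 7 n30743 = n32746 := rfl
theorem F151926 : act 1 n32746 = n30745 := d14_1 D32746 (iv D30745) (iv F142784)
theorem F151927 : act 2 n32746 = n30944 := d21_1 D32746 F143456 (iv F142785)
theorem F151928 : act 3 n32746 = n30830 := d27_1 D32746 (iv D30830) (iv F142786)
theorem F151929 : act 8 n32746 = n32746 := d42_2 F142787 D32746 (iv D32746)
theorem F151930 : act 9 n32746 = n30940 := d43_2 (iv F142788) D32746 F143446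
def n32747 : Q := act 4 n30744
theorem D32747 : act 4 n30744 = n32747 := rfl
theorem F151931 : act 2 n32747 = n30746 := d18_1 D32747 (iv D30746) (iv F142789)
def n32748 : Q := act 7 n30744
theorem D32748 : act 7 n30744 = n32748 := rfl
theorem F151932 : act 2 n32748 = n30747 := d21_1 D32748 (iv D30747) (iv F142789)
theorem F151933 : act 3 n32748 = n30832 := d27_1 D32748 (iv D30832) (iv F142790)
theorem F151934 : act 5 n32748 = n30745 := d36_1 D32748 (iv D30745) D30744
def n32749 : Q := act 8 n30744
theorem D32749 : act 8 n30744 = n32749 := rfl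
theorem F151935 : act 2 n32749 = n30748 := d22_1 D32749 (iv D30748) (iv F142789)
theorem F151936 : act 3 n32749 = n30833 := d28_1 D32749 (iv D30833) (iv F142790)
theorem F151937 : act 5 n32749 = n32749 := d37_1 D32749 (iv D32749) (iv D30744) F116020 D30744
def n32750 : Q := act 7 n30746
theorem D32750 : act 7 n30746 = n32750 := rfl
theorem F151938 : act 3 n32750 = n30752 := d27_1 D32750 (iv D30752) (iv F142794)
theorem F151939 : act 4 n32750 = n30747 := d32_1 D32750 (iv D30747) D30746
def n32751 : Q := act 6 n30747
theorem D32751 : act 6 n30747 = n32751 := rfl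
theorem F151940 : act 3 n32751 = n30749 := d26_1 D32751 (iv D30749) (iv F142795)
def n32752 : Q := act 8 n30747
theorem D32752 : act 8 n30747 = n32752 := rfl
theorem F151941 : act 3 n32752 = n30750 := d28_1 D32752 (iv D30750) (iv F142795)
theorem F151942 : act 5 n32752 = n32752 := d37_1 D32752 (iv D32752) F142796 F116023 (iv F142796)
theorem F151943 : act 7 n32752 = n30748 := d42_1 D32752 (iv D30748) D30747
def n32753 : Q := act 9 n30748
theorem D32753 : act 9 n30748 = n32753 := rfl
theorem F151944 : act 3 n32753 = n30751 := d29_1 D32753 (iv D30751) (iv F142797)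
theorem F151945 : act 5 n32753 = n32753 := d38_1 D32753 (iv D32753) F142798
def n32754 : Q := act 8 n30749
theorem D32754 : act 8 n30749 = n32754 := rfl
theorem F151946 : act 2 n32754 = n30837 := d22_1 D32754 (iv D30837) (iv F142799)
theorem F151947 : act 4 n32754 = n30754 := d33_1 D32754 (iv D30754) (iv F142800)
theorem F151948 : act 6 n32754 = n30750 := d40_1 D32754 (iv D30750) D30749
def n32755 : Q := act 9 n30750
theorem D32755 : act 9 n30750 = n32755 := rfl
theorem F151949 : act 2 n32755 = n30838 := d23_1 D32755 (iv D30838) (iv F142801)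
theorem F151950 : act 4 n32755 = n30755 := d34_1 D32755 (iv D30755) (iv F142802)
theorem F151951 : act 5 n32755 = n32755 := d38_1 D32755 (iv D32755) F142803
theorem F151952 : act 7 n32755 = n30751 := d43_1 D32755 (iv D30751) (iv F142804)
def n32756 : Q := act 6 n30752
theorem D32756 : act 6 n30752 = n32756 := rfl
theorem F151953 : act 4 n32756 = n30753 := d31_1 D32756 (iv D30753) (iv F142808)
def n32757 : Q := act 5 n30754
theorem D32757 : act 5 n30754 = n32757 := rfl
theorem F151954 : act 1 n32757 = n30861 := d12_1 D32757 (iv F151728) F151726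
theorem F151955 : act 2 n32757 = n30840 := d19_1 D32757 (iv D30840) (iv F142811)
theorem F151956 : act 6 n32757 = n30784 := d35_2 (iv F142812) D32757 (iv D30784) F116147 (iv F116049)
theorem F151957 : act 8 n32757 = n30782 := d37_2 D30754 D32757 (iv D30782) (iv D25898) (iv F116047)
def n32758 : Q := act 9 n30754
theorem D32758 : act 9 n30754 = n32758 := rfl
theorem F151958 : act 2 n32758 = n30841 := d23_1 D32758 (iv D30841) (iv F142811)
theorem F151959 : act 6 n32758 = n30755 := d41_1 D32758 (iv D30755) (iv F142812)
def n32759 : Q := act 4 n30756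
theorem D32759 : act 4 n30756 = n32759 := rfl
theorem F151960 : act 1 n32759 = n30758 := d11_1 D32759 (iv D30758) (iv F142816)
theorem F151961 : act 9 n32759 = n30768 := d34_2 (iv F142818) D32759 (iv D30768)
def n32760 : Q := act 7 n30756
theorem D32760 : act 7 n30756 = n32760 := rfl
theorem F151962 : act 1 n32760 = n30759 := d14_1 D32760 (iv D30759) (iv F142816)
theorem F151963 : act 3 n32760 = n30792 := d27_1 D32760 F142914 (iv F142817)
theorem F151964 : act 5 n32760 = n30757 := d36_1 D32760 (iv D30757) D30756
theorem F151965 : act 9 n32760 = n30769 := d43_2 (iv F142818) D32760 (iv D30769)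
def n32761 : Q := act 3 n30758
theorem D32761 : act 3 n30758 = n32761 := rfl
theorem F151966 : act 4 n32761 = n30842 := d24_2 D30758 D32761 (iv D30842) (iv D26006) (iv F116061)
theorem F151967 : act 9 n32761 = n30770 := d29_2 (iv F142825) D32761 (iv D30770)
def n32762 : Q := act 7 n30758
theorem D32762 : act 7 n30758 = n32762 := rfl
theorem F151968 : act 2 n32762 = n30761 := d21_1 D32762 (iv D30761) (iv F142824)
theorem F151969 : act 4 n32762 = n30759 := d32_1 D32762 (iv D30759) D30758
theorem F151970 : act 9 n32762 = n30771 := d43_2 (iv F142825) D32762 (iv D30771)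
def n32763 : Q := act 8 n30758
theorem D32763 : act 8 n30758 = n32763 := rfl
theorem F151971 : act 2 n32763 = n30762 := d22_1 D32763 (iv D30762) (iv F142824)
theorem F151972 : act 4 n32763 = n30760 := d33_1 D32763 (iv D30760) D30758
def n32764 : Q := act 6 n30759
theorem D32764 : act 6 n30759 = n32764 := rfl
theorem F151973 : act 2 n32764 = n30763 := d20_1 D32764 (iv D30763) (iv F142826)
theorem F151974 : act 3 n32764 = n30844 := d26_1 D32764 (iv D30844) (iv F142827)
theorem F151975 : act 9 n32764 = n30773 := d41_2 (iv F142829) D32764 (iv D30773)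
def n32765 : Q := act 8 n30759
theorem D32765 : act 8 n30759 = n32765 := rfl
theorem F151976 : act 2 n32765 = n30764 := d22_1 D32765 (iv D30764) (iv F142826)
theorem F151977 : act 3 n32765 = n30845 := d28_1 D32765 (iv D30845) (iv F142827)
theorem F151978 : act 5 n32765 = n30899 := d37_1 D32765 (iv D30899) F117413 (iv F116065) (iv F142828)
theorem F151979 : act 7 n32765 = n30760 := d42_1 D32765 (iv D30760) D30759
def n32766 : Q := act 9 n30760
theorem D32766 : act 9 n30760 = n32766 := rfl
theorem F151980 : act 2 n32766 = n30765 := d23_1 D32766 (iv D30765) (iv F142830)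
theorem F151981 : act 3 n32766 = n30846 := d29_1 D32766 (iv D30846) (iv F142831)
theorem F151982 : act 5 n32766 = n30900 := d38_1 D32766 (iv D30900) (iv F142832)
theorem F151983 : act 8 n32766 = n30775 := d44_1 D32766 (iv D30775) (iv D25892) (iv F116062) D30760
def n32767 : Q := act 6 n30761
theorem D32767 : act 6 n30761 = n32767 := rfl
theorem F151984 : act 4 n32767 = n30763 := d31_1 D32767 (iv D30763) (iv F142833)
theorem F151985 : act 9 n32767 = n30776 := d41_2 (iv F142834) D32767 (iv D30776)
def n32768 : Q := act 8 n30761
theorem D32768 : act 8 n30761 = n32768 := rfl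
theorem F151986 : act 4 n32768 = n30764 := d33_1 D32768 (iv D30764) (iv F142833)
theorem F151987 : act 7 n32768 = n30762 := d42_1 D32768 (iv D30762) D30761
def n32769 : Q := act 5 n30762
theorem D32769 : act 5 n30762 = n32769 := rfl
theorem F151988 : act 4 n32769 = n30903 := d30_1 D32769 (iv D30903) F117422 (iv F116072) (iv F142835)
def n32770 : Q := act 9 n30762
theorem D32770 : act 9 n30762 = n32770 := rfl
theorem F151989 : act 4 n32770 = n30765 := d34_1 D32770 (iv D30765) (iv F142835)
theorem F151990 : act 8 n32770 = n30779 := d44_1 D32770 (iv D30779) (iv D25894) (iv F116067) D30762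
def n32771 : Q := act 8 n30763
theorem D32771 : act 8 n30763 = n32771 := rfl
theorem F151991 : act 3 n32771 = n30766 := d28_1 D32771 (iv D30766) (iv F142836)
theorem F151992 : act 6 n32771 = n30764 := d40_1 D32771 (iv D30764) D30763
def n32772 : Q := act 9 n30764
theorem D32772 : act 9 n30764 = n32772 := rfl
theorem F151993 : act 3 n32772 = n30767 := d29_1 D32772 (iv D30767) (iv F142838)
theorem F151994 : act 5 n32772 = n30906 := d38_1 D32772 (iv D30906) (iv F142839)
theorem F151995 : act 7 n32772 = n30765 := d43_1 D32772 (iv D30765) (iv F142840)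
theorem F151996 : act 8 n32772 = n30781 := d44_1 D32772 (iv D30781) (iv D25896) (iv F116070) D30764
def n32773 : Q := act 5 n30766
theorem D32773 : act 5 n30766 = n32773 := rfl
theorem F151997 : act 2 n32773 = n30852 := d19_1 D32773 (iv D30852) (iv F142844)
theorem F151998 : act 6 n32773 = n30907 := d35_2 (iv F142845) D32773 (iv D30907) F117434 (iv F116076)
def n32774 : Q := act 9 n30766
theorem D32774 : act 9 n30766 = n32774 := rfl
theorem F151999 : act 2 n32774 = n30853 := d23_1 D32774 (iv D30853) (iv F142844)
theorem F152000 : act 6 n32774 = n30767 := d41_1 D32774 (iv D30767) (iv F142845)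
theorem F152001 : act 8 n32774 = n30783 := d44_1 D32774 (iv D30783) (iv D25898) (iv F116074) D30766
def n32775 : Q := act 3 n30768
theorem D32775 : act 3 n30768 = n32775 := rfl
theorem F152002 : act 1 n32775 = n30770 := d10_1 D32775 (iv D30770) (iv F142850)
theorem F152003 : act 4 n32775 = n30854 := d24_2 D30768 D32775 (iv D30854) (iv D26018) (iv F116085)
def n32776 : Q := act 7 n30768
theorem D32776 : act 7 n30768 = n32776 := rfl
theorem F152004 : act 1 n32776 = n30771 := d14_1 D32776 (iv D30771) (iv F142850)
theorem F152005 : act 4 n32776 = n30769 := d32_1 D32776 (iv D30769) D30768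
def n32777 : Q := act 6 n30769
theorem D32777 : act 6 n30769 = n32777 := rfl
theorem F152006 : act 1 n32777 = n30773 := d13_1 D32777 (iv D30773) (iv F142851)
theorem F152007 : act 3 n32777 = n30782 := d26_1 D32777 F142880 (iv F142852)
theorem F152008 : act 5 n32777 = n30780 := d35_1 D32777 F142874 F116100 (iv F134772) (iv F142853)
def n32778 : Q := act 7 n30770
theorem D32778 : act 7 n30770 = n32778 := rfl
theorem F152009 : act 3 n32778 = n30771 := d27_1 D32778 (iv D30771) D30770
theorem F152010 : act 4 n32778 = n30856 := d32_1 D32778 (iv D30856) (iv F142854)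
def n32779 : Q := act 8 n30770
theorem D32779 : act 8 n30770 = n32779 := rfl
theorem F152011 : act 3 n32779 = n30772 := d28_1 D32779 (iv D30772) D30770
theorem F152012 : act 4 n32779 = n30857 := d33_1 D32779 (iv D30857) (iv F142854)
def n32780 : Q := act 6 n30771
theorem D32780 : act 6 n30771 = n32780 := rfl
theorem F152013 : act 2 n32780 = n30776 := d20_1 D32780 (iv D30776) (iv F142855)
theorem F152014 : act 4 n32780 = n30773 := d31_1 D32780 (iv D30773) (iv F142856)
def n32781 : Q := act 8 n30771
theorem D32781 : act 8 n30771 = n32781 := rfl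
theorem F152015 : act 2 n32781 = n30777 := d22_1 D32781 (iv D30777) (iv F142855)
theorem F152016 : act 4 n32781 = n30774 := d33_1 D32781 (iv D30774) (iv F142856)
theorem F152017 : act 7 n32781 = n30772 := d42_1 D32781 (iv D30772) D30771
def n32782 : Q := act 5 n30772
theorem D32782 : act 5 n30772 = n32782 := rfl
theorem F152018 : act 2 n32782 = n30778 := d19_1 D32782 (iv D30778) (iv F142857)
theorem F152019 : act 4 n32782 = n30787 := d30_1 D32782 (iv D30787) F116177 (iv F116095) (iv F142858)
def n32783 : Q := act 9 n30772
theorem D32783 : act 9 n30772 = n32783 := rfl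
theorem F152020 : act 2 n32783 = n30779 := d23_1 D32783 (iv D30779) (iv F142857)
theorem F152021 : act 4 n32783 = n30775 := d34_1 D32783 (iv D30775) (iv F142858)
def n32784 : Q := act 8 n30773
theorem D32784 : act 8 n30773 = n32784 := rfl
theorem F152022 : act 2 n32784 = n30780 := d22_1 D32784 (iv D30780) (iv F142859)
theorem F152023 : act 3 n32784 = n30861 := d28_1 D32784 (iv D30861) (iv F142860)
theorem F152024 : act 6 n32784 = n30774 := d40_1 D32784 (iv D30774) D30773
def n32785 : Q := act 9 n30774
theorem D32785 : act 9 n30774 = n32785 := rfl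
theorem F152025 : act 2 n32785 = n30781 := d23_1 D32785 (iv D30781) (iv F142861)
theorem F152026 : act 3 n32785 = n30862 := d29_1 D32785 (iv D30862) (iv F142862)
theorem F152027 : act 5 n32785 = n30788 := d38_1 D32785 (iv D30788) (iv F142863)
theorem F152028 : act 7 n32785 = n30775 := d43_1 D32785 (iv D30775) (iv F142864)
def n32786 : Q := act 5 n30776
theorem D32786 : act 5 n30776 = n32786 := rfl
def n32787 : Q := act 8 n30776
theorem D32787 : act 8 n30776 = n32787 := rfl
theorem F152029 : act 4 n32787 = n30780 := d33_1 D32787 (iv D30780) (iv F142868)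
theorem F152030 : act 6 n32787 = n30777 := d40_1 D32787 (iv D30777) D30776
def n32788 : Q := act 5 n30777
theorem D32788 : act 5 n30777 = n32788 := rfl
theorem F152031 : act 4 n32788 = n30789 := d30_1 D32788 (iv D30789) F116195 (iv F116100) (iv F142869)
theorem F152032 : act 7 n32788 = n30778 := d36_2 (iv F142870) D32788 (iv D30778)
def n32789 : Q := act 9 n30777
theorem D32789 : act 9 n30777 = n32789 := rfl
theorem F152033 : act 4 n32789 = n30781 := d34_1 D32789 (iv D30781) (iv F142869)
theorem F152034 : act 7 n32789 = n30779 := d43_1 D32789 (iv D30779) (iv F142870)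
def n32790 : Q := act 6 n30778
theorem D32790 : act 6 n30778 = n32790 := rfl
theorem F152035 : act 4 n32790 = n30790 := d31_1 D32790 (iv D30790) (iv F142871)
def n32791 : Q := act 9 n30780
theorem D32791 : act 9 n30780 = n32791 := rfl
theorem F152036 : act 3 n32791 = n30783 := d29_1 D32791 (iv D30783) (iv F142873)
theorem F152037 : act 6 n32791 = n30781 := d41_1 D32791 (iv D30781) (iv F142874)
def n32792 : Q := act 4 n30782
theorem D32792 : act 4 n30782 = n32792 := rfl
theorem F152038 : act 1 n32792 = n30858 := d11_1 D32792 F143147 (iv F142878)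
theorem F152039 : act 2 n32792 = n30868 := d18_1 D32792 (iv D30868) (iv F142879)
theorem F152040 : act 6 n32792 = n30791 := d31_2 (iv F142880) D32792 (iv D30791)
def n32793 : Q := act 9 n30782
theorem D32793 : act 9 n30782 = n32793 := rfl
theorem F152041 : act 1 n32793 = n30844 := d16_1 D32793 F143103 (iv F142878)
theorem F152042 : act 2 n32793 = n30869 := d23_1 D32793 (iv D30869) (iv F142879)
theorem F152043 : act 5 n32793 = n30783 := d38_1 D32793 (iv D30783) D30782
theorem F152044 : act 6 n32793 = n30792 := d41_1 D32793 (iv D30792) (iv F142880)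
def n32794 : Q := act 4 n30784
theorem D32794 : act 4 n30784 = n32794 := rfl
theorem F152045 : act 1 n32794 = n30859 := d11_1 D32794 F143149 (iv F142883)
theorem F152046 : act 2 n32794 = n30870 := d18_1 D32794 (iv D30870) (iv F142884)
theorem F152047 : act 5 n32794 = n32794 := d30_2 D30784 D32794 (iv D32794) (iv D30784) F116146
theorem F152048 : act 7 n32794 = n30855 := d32_2 (iv F142885) D32794 F143140
theorem F152049 : act 8 n32794 = n30791 := d33_2 (iv F142886) D32794 (iv D30791)
def n32795 : Q := act 9 n30784
theorem D32795 : act 9 n30784 = n32795 := rfl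
theorem F152050 : act 1 n32795 = n30862 := d16_1 D32795 (iv D30862) (iv F142883)
theorem F152051 : act 2 n32795 = n30797 := d23_1 D32795 F142928 (iv F142884)
theorem F152052 : act 5 n32795 = n30785 := d38_1 D32795 (iv D30785) D30784
theorem F152053 : act 7 n32795 = n30796 := d43_1 D32795 F142924 (iv F142885)
def n32796 : Q := act 5 n30786
theorem D32796 : act 5 n30786 = n32796 := rfl
theorem F152054 : act 2 n32796 = n30789 := d19_1 D32796 (iv D30789) (iv F142893)
theorem F152055 : act 3 n32796 = n32796 := d25_1 D32796 (iv D32796) F142894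
theorem F152056 : act 7 n32796 = n30787 := d36_2 (iv F142896) D32796 (iv D30787)
def n32797 : Q := act 6 n30787
theorem D32797 : act 6 n30787 = n32797 := rfl
theorem F152057 : act 2 n32797 = n30790 := d20_1 D32797 (iv D30790) (iv F142897)
theorem F152058 : act 3 n32797 = n32797 := d26_1 D32797 (iv D32797) F142898
theorem F152059 : act 5 n32797 = n30946 := d35_1 D32797 (iv D30946) (iv D26636) (iv F116178) D30787
def n32798 : Q := act 6 n30789
theorem D32798 : act 6 n30789 = n32798 := rfl
theorem F152060 : act 3 n32798 = n30793 := d26_1 D32798 (iv D30793) (iv F142903)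
def n32799 : Q := act 7 n30790
theorem D32799 : act 7 n30790 = n32799 := rfl
theorem F152061 : act 3 n32799 = n30794 := d27_1 D32799 (iv D30794) (iv F142905)
theorem F152062 : act 5 n32799 = n30947 := d36_1 D32799 (iv D30947) (iv F142906)
def n32800 : Q := act 3 n30791
theorem D32800 : act 3 n30791 = n32800 := rfl
theorem F152063 : act 1 n32800 = n30856 := d10_1 D32800 F143142 (iv F142907)
theorem F152064 : act 5 n32800 = n30795 := d25_2 (iv F142909) D32800 (iv D30795)
theorem F152065 : act 7 n32800 = n30854 := d27_2 (iv F142910) D32800 (iv D30854)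
def n32801 : Q := act 7 n30793
theorem D32801 : act 7 n30793 = n32801 := rfl
theorem F152066 : act 2 n32801 = n32801 := d21_1 D32801 (iv D32801) F142915
theorem F152067 : act 6 n32801 = n30794 := d39_1 D32801 (iv D30794) (iv D25935) (iv F116224) D30793
def n32802 : Q := act 6 n30797
theorem D32802 : act 6 n30797 = n32802 := rfl
theorem F152068 : act 1 n32802 = n31124 := d13_1 D32802 (iv D31124) (iv F142925)
theorem F152069 : act 3 n32802 = n30798 := d26_1 D32802 (iv D30798) (iv F142926)
theorem F152070 : act 5 n32802 = n30841 := d35_1 D32802 F143095 F116455 F135167 (iv F142927)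
theorem F152071 : act 7 n32802 = n30835 := d39_2 D30797 D32802 (iv D30835) (iv D25985) (iv F116260)
theorem F152072 : act 9 n32802 = n30840 := d41_2 (iv F142928) D32802 F143091
def n32803 : Q := act 8 n30798
theorem D32803 : act 8 n30798 = n32803 := rfl
theorem F152073 : act 1 n32803 = n31121 := d15_1 D32803 F144305 (iv F142929)
theorem F152074 : act 4 n32803 = n30801 := d33_1 D32803 (iv D30801) (iv F142930)
theorem F152075 : act 6 n32803 = n30799 := d40_1 D32803 (iv D30799) D30798
theorem F152076 : act 7 n32803 = n30837 := d42_1 D32803 (iv D30837) (iv F142932)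
def n32804 : Q := act 7 n30802
theorem D32804 : act 7 n30802 = n32804 := rfl
theorem F152077 : act 1 n32804 = n30805 := d14_1 D32804 (iv D30805) (iv F142947)
theorem F152078 : act 2 n32804 = n30949 := d21_1 D32804 F143471 (iv F142948)
theorem F152079 : act 5 n32804 = n30803 := d36_1 D32804 (iv D30803) D30802
theorem F152080 : act 9 n32804 = n30815 := d43_2 (iv F142950) D32804 (iv D30815)
def n32805 : Q := act 3 n30804
theorem D32805 : act 3 n30804 = n32805 := rfl
theorem F152081 : act 5 n32805 = n32805 := d25_2 F142958 D32805 (iv D32805)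
theorem F152082 : act 6 n32805 = n30842 := d26_2 (iv F142959) D32805 (iv D30842)
theorem F152083 : act 9 n32805 = n30816 := d29_2 (iv F142960) D32805 (iv D30816)
def n32806 : Q := act 7 n30804
theorem D32806 : act 7 n30804 = n32806 := rfl
theorem F152084 : act 2 n32806 = n30807 := d21_1 D32806 (iv D30807) (iv F142957)
theorem F152085 : act 4 n32806 = n30805 := d32_1 D32806 (iv D30805) D30804
theorem F152086 : act 5 n32806 = n32806 := d36_1 D32806 (iv D32806) F142958
theorem F152087 : act 9 n32806 = n30817 := d43_2 (iv F142960) D32806 (iv D30817)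
def n32807 : Q := act 6 n30805
theorem D32807 : act 6 n30805 = n32807 := rfl
theorem F152088 : act 2 n32807 = n30809 := d20_1 D32807 (iv D30809) (iv F142961)
theorem F152089 : act 7 n32807 = n30844 := d39_2 D30805 D32807 (iv D30844) (iv D26007) (iv F116321)
theorem F152090 : act 9 n32807 = n30819 := d41_2 (iv F142963) D32807 (iv D30819)
def n32808 : Q := act 8 n30805
theorem D32808 : act 8 n30805 = n32808 := rfl
theorem F152091 : act 2 n32808 = n30810 := d22_1 D32808 (iv D30810) (iv F142961)
theorem F152092 : act 5 n32808 = n32808 := d37_1 D32808 (iv D32808) F142962 F116325 (iv F142962)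
theorem F152093 : act 7 n32808 = n30806 := d42_1 D32808 (iv D30806) D30805
def n32809 : Q := act 9 n30806
theorem D32809 : act 9 n30806 = n32809 := rfl
theorem F152094 : act 1 n32809 = n30833 := d16_1 D32809 (iv F151126) F151122
theorem F152095 : act 2 n32809 = n30811 := d23_1 D32809 (iv D30811) (iv F142964)
theorem F152096 : act 4 n32809 = n30972 := d34_1 D32809 (iv F151113) (iv F151114)
theorem F152097 : act 5 n32809 = n32809 := d38_1 D32809 (iv D32809) F142965
theorem F152098 : act 6 n32809 = n30846 := d41_1 D32809 (iv D30846) (iv F142966)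
theorem F152099 : act 8 n32809 = n30821 := d44_1 D32809 (iv D30821) (iv D25972) (iv F116322) D30806
def n32810 : Q := act 6 n30807
theorem D32810 : act 6 n30807 = n32810 := rfl
theorem F152100 : act 1 n32810 = n31133 := d13_1 D32810 (iv D31133) (iv F142967)
theorem F152101 : act 4 n32810 = n30809 := d31_1 D32810 (iv D30809) (iv F142968)
theorem F152102 : act 7 n32810 = n30847 := d39_2 D30807 D32810 (iv D30847) (iv D26009) (iv F116329)
theorem F152103 : act 9 n32810 = n30822 := d41_2 (iv F142970) D32810 (iv D30822)
def n32811 : Q := act 8 n30807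
theorem D32811 : act 8 n30807 = n32811 := rfl
theorem F152104 : act 1 n32811 = n31006 := d15_1 D32811 F143751 (iv F142967)
theorem F152105 : act 3 n32811 = n31069 := d28_1 D32811 (iv F151194) F151191
theorem F152106 : act 4 n32811 = n30810 := d33_1 D32811 (iv D30810) (iv F142968)
theorem F152107 : act 7 n32811 = n30808 := d42_1 D32811 (iv D30808) D30807
theorem F152108 : act 5 n31005 = n32811 := d36_3 F152107 (iv F142975) D31005
theorem F152109 : act 9 n31014 = n32811 := d43_0 F152107 F142976 D31014
def n32812 : Q := act 8 n30809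
theorem D32812 : act 8 n30809 = n32812 := rfl
theorem F152110 : act 1 n32812 = n31134 := d15_1 D32812 (iv D31134) (iv F142977)
theorem F152111 : act 3 n32812 = n30812 := d28_1 D32812 (iv D30812) (iv F142978)
theorem F152112 : act 6 n32812 = n30810 := d40_1 D32812 (iv D30810) D30809
theorem F152113 : act 7 n32812 = n30850 := d42_1 D32812 (iv D30850) (iv F142979)
def n32813 : Q := act 9 n30810
theorem D32813 : act 9 n30810 = n32813 := rfl
theorem F152114 : act 1 n32813 = n31015 := d16_1 D32813 F143801 (iv F142981)
theorem F152115 : act 3 n32813 = n30813 := d29_1 D32813 (iv D30813) (iv F142982)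
theorem F152116 : act 4 n32813 = n31014 := d34_1 D32813 F152109 F152106
theorem F152117 : act 5 n32813 = n32813 := d38_1 D32813 (iv D32813) F142983
theorem F152118 : act 7 n32813 = n30811 := d43_1 D32813 (iv D30811) (iv F142984)
theorem F152119 : act 8 n32813 = n30827 := d44_1 D32813 (iv D30827) (iv D25976) (iv F116334) D30810
def n32814 : Q := act 5 n30812
theorem D32814 : act 5 n30812 = n32814 := rfl
theorem F152120 : act 1 n32814 = n31135 := d12_1 D32814 (iv D31135) (iv F142991)
theorem F152121 : act 6 n32814 = n32814 := d35_2 (iv F142992) D32814 (iv D32814) F142992 F116343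
theorem F152122 : act 7 n32814 = n30852 := d36_2 (iv F142993) D32814 (iv D30852)
def n32815 : Q := act 9 n30812
theorem D32815 : act 9 n30812 = n32815 := rfl
theorem F152123 : act 1 n32815 = n31136 := d16_1 D32815 (iv D31136) (iv F142991)
theorem F152124 : act 6 n32815 = n30813 := d41_1 D32815 (iv D30813) (iv F142992)
theorem F152125 : act 7 n32815 = n30853 := d43_1 D32815 (iv D30853) (iv F142993)
theorem F152126 : act 8 n32815 = n30829 := d44_1 D32815 (iv D30829) (iv D25978) (iv F116341) D30812
def n32816 : Q := act 3 n30814
theorem D32816 : act 3 n30814 = n32816 := rfl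
theorem F152127 : act 1 n32816 = n30816 := d10_1 D32816 (iv D30816) (iv F142998)
theorem F152128 : act 5 n32816 = n32816 := d25_2 F143000 D32816 (iv D32816)
theorem F152129 : act 6 n32816 = n30854 := d26_2 (iv F143001) D32816 (iv D30854)
def n32817 : Q := act 7 n30814
theorem D32817 : act 7 n30814 = n32817 := rfl
theorem F152130 : act 1 n32817 = n30817 := d14_1 D32817 (iv D30817) (iv F142998)
theorem F152131 : act 2 n32817 = n30948 := d21_1 D32817 F143468 (iv F142999)
theorem F152132 : act 4 n32817 = n30815 := d32_1 D32817 (iv D30815) D30814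
theorem F152133 : act 5 n32817 = n32817 := d36_1 D32817 (iv D32817) F143000
def n32818 : Q := act 7 n30816
theorem D32818 : act 7 n30816 = n32818 := rfl
theorem F152134 : act 3 n32818 = n30817 := d27_1 D32818 (iv D30817) D30816
theorem F152135 : act 5 n32818 = n32818 := d36_1 D32818 (iv D32818) F143005
def n32819 : Q := act 8 n30816
theorem D32819 : act 8 n30816 = n32819 := rfl
theorem F152136 : act 3 n32819 = n30818 := d28_1 D32819 (iv D30818) D30816
theorem F152137 : act 6 n32819 = n30857 := d40_1 D32819 (iv D30857) (iv F143006)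
def n32820 : Q := act 6 n30817
theorem D32820 : act 6 n30817 = n32820 := rfl
theorem F152138 : act 2 n32820 = n30822 := d20_1 D32820 (iv D30822) (iv F143007)
theorem F152139 : act 4 n32820 = n30819 := d31_1 D32820 (iv D30819) (iv F143008)
theorem F152140 : act 7 n32820 = n30858 := d39_2 D30817 D32820 (iv D30858) (iv D26022) (iv F116362)
def n32821 : Q := act 8 n30817
theorem D32821 : act 8 n30817 = n32821 := rfl
theorem F152141 : act 2 n32821 = n30823 := d22_1 D32821 (iv D30823) (iv F143007)
theorem F152142 : act 4 n32821 = n30820 := d33_1 D32821 (iv D30820) (iv F143008)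
theorem F152143 : act 7 n32821 = n30818 := d42_1 D32821 (iv D30818) D30817
def n32822 : Q := act 9 n30818
theorem D32822 : act 9 n30818 = n32822 := rfl
theorem F152144 : act 1 n32822 = n30831 := d16_1 D32822 (iv F144730) F144725
theorem F152145 : act 2 n32822 = n30825 := d23_1 D32822 (iv D30825) (iv F143010)
theorem F152146 : act 4 n32822 = n30821 := d34_1 D32822 (iv D30821) (iv F143011)
theorem F152147 : act 5 n32822 = n30873 := d38_1 D32822 (iv F144786) F144783
theorem F152148 : act 6 n32822 = n30860 := d41_1 D32822 (iv D30860) (iv F143012)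
theorem F152149 : act 8 n32822 = n30972 := d44_1 D32822 (iv F151113) (iv F151115) F142960 D30818
def n32823 : Q := act 8 n30819
theorem D32823 : act 8 n30819 = n32823 := rfl
theorem F152150 : act 2 n32823 = n30826 := d22_1 D32823 (iv D30826) (iv F143013)
theorem F152151 : act 6 n32823 = n30820 := d40_1 D32823 (iv D30820) D30819
theorem F152152 : act 7 n32823 = n30861 := d42_1 D32823 (iv D30861) (iv F143014)
def n32824 : Q := act 9 n30820
theorem D32824 : act 9 n30820 = n32824 := rfl
theorem F152153 : act 1 n32824 = n30832 := d16_1 D32824 (iv F144736) F144732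
theorem F152154 : act 2 n32824 = n30827 := d23_1 D32824 (iv D30827) (iv F143015)
theorem F152155 : act 5 n32824 = n30830 := d38_1 D32824 F143058 (iv F143016)
theorem F152156 : act 7 n32824 = n30821 := d43_1 D32824 (iv D30821) (iv F143017)
def n32825 : Q := act 5 n30822
theorem D32825 : act 5 n30822 = n32825 := rfl
theorem F152157 : act 1 n32825 = n31138 := d12_1 D32825 (iv D31138) (iv F143022)
theorem F152158 : act 6 n32825 = n32825 := d35_2 D30822 D32825 (iv D32825) (iv D30822) F116370
theorem F152159 : act 7 n32825 = n30863 := d36_2 (iv F143024) D32825 (iv D30863)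
def n32826 : Q := act 8 n30822
theorem D32826 : act 8 n30822 = n32826 := rfl
theorem F152160 : act 1 n32826 = n31139 := d15_1 D32826 (iv D31139) (iv F143022)
theorem F152161 : act 4 n32826 = n30826 := d33_1 D32826 (iv D30826) (iv F143023)
theorem F152162 : act 6 n32826 = n30823 := d40_1 D32826 (iv D30823) D30822
theorem F152163 : act 7 n32826 = n30864 := d42_1 D32826 (iv D30864) (iv F143024)
def n32827 : Q := act 9 n30823
theorem D32827 : act 9 n30823 = n32827 := rfl
theorem F152164 : act 1 n32827 = n31017 := d16_1 D32827 F143811 (iv F143025)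
theorem F152165 : act 3 n32827 = n31080 := d29_1 D32827 (iv F151270) F151267
theorem F152166 : act 4 n32827 = n30827 := d34_1 D32827 (iv D30827) (iv F143026)
theorem F152167 : act 5 n32827 = n31034 := d38_1 D32827 (iv F144771) F144767
theorem F152168 : act 7 n32827 = n30825 := d43_1 D32827 (iv D30825) (iv F143027)
theorem F152169 : act 8 n32827 = n31014 := d44_1 D32827 F152109 (iv D32811) F142970 D30823
def n32828 : Q := act 9 n30826
theorem D32828 : act 9 n30826 = n32828 := rfl
theorem F152170 : act 1 n32828 = n31140 := d16_1 D32828 (iv D31140) (iv F143040)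
theorem F152171 : act 3 n32828 = n30829 := d29_1 D32828 (iv D30829) (iv F143041)
theorem F152172 : act 6 n32828 = n30827 := d41_1 D32828 (iv D30827) (iv F143042)
theorem F152173 : act 7 n32828 = n30867 := d43_1 D32828 (iv D30867) (iv F143043)
def n32829 : Q := act 4 n30828
theorem D32829 : act 4 n30828 = n32829 := rfl
theorem F152174 : act 1 n32829 = n31137 := d11_1 D32829 F144371 (iv F143048)
theorem F152175 : act 6 n32829 = n30948 := d31_2 (iv F143049) D32829 (iv D30948)
theorem F152176 : act 7 n32829 = n30868 := d32_2 (iv F143050) D32829 (iv D30868)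
def n32830 : Q := act 9 n30828
theorem D32830 : act 9 n30828 = n32830 := rfl
theorem F152177 : act 1 n32830 = n31132 := d16_1 D32830 F144353 (iv F143048)
theorem F152178 : act 5 n32830 = n30829 := d38_1 D32830 (iv D30829) D30828
theorem F152179 : act 6 n32830 = n30949 := d41_1 D32830 (iv D30949) (iv F143049)
theorem F152180 : act 7 n32830 = n30869 := d43_1 D32830 (iv D30869) (iv F143050)
def n32831 : Q := act 7 n30831
theorem D32831 : act 7 n30831 = n32831 := rfl
theorem F152181 : act 2 n32831 = n30834 := d21_1 D32831 (iv D30834) (iv F143059)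
theorem F152182 : act 4 n32831 = n30832 := d32_1 D32831 (iv D30832) D30831
theorem F152183 : act 5 n32831 = n30876 := d36_1 D32831 (iv D30876) (iv F143060)
theorem F152184 : act 8 n32831 = n30974 := d42_2 F143061 D32831 (iv D30974)
def n32832 : Q := act 6 n30832
theorem D32832 : act 6 n30832 = n32832 := rfl
theorem F152185 : act 2 n32832 = n30835 := d20_1 D32832 (iv D30835) (iv F143062)
def n32833 : Q := act 8 n30832
theorem D32833 : act 8 n30832 = n32833 := rfl
theorem F152186 : act 2 n32833 = n30836 := d22_1 D32833 (iv D30836) (iv F143062)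
theorem F152187 : act 4 n32833 = n30974 := d33_1 D32833 (iv F152184) F152182
theorem F152188 : act 5 n32833 = n32833 := d37_1 D32833 (iv D32833) F143063 F116401 (iv F143063)
theorem F152189 : act 7 n32833 = n30833 := d42_1 D32833 (iv D30833) D30832
def n32834 : Q := act 6 n30834
theorem D32834 : act 6 n30834 = n32834 := rfl
theorem F152190 : act 1 n32834 = n31019 := d13_1 D32834 F143819 (iv F143067)
theorem F152191 : act 3 n32834 = n30839 := d26_1 D32834 (iv D30839) (iv F143068)
theorem F152192 : act 4 n32834 = n30835 := d31_1 D32834 (iv D30835) (iv F143069)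
theorem F152193 : act 8 n32834 = n30975 := d40_2 (iv F143071) D32834 (iv D30975)
def n32835 : Q := act 8 n30835
theorem D32835 : act 8 n30835 = n32835 := rfl
theorem F152194 : act 1 n32835 = n31018 := d15_1 D32835 F143815 (iv F143072)
theorem F152195 : act 3 n32835 = n30837 := d28_1 D32835 (iv D30837) (iv F143073)
theorem F152196 : act 4 n32835 = n30975 := d33_1 D32835 (iv F152193) F152192
theorem F152197 : act 6 n32835 = n30836 := d40_1 D32835 (iv D30836) D30835
def n32836 : Q := act 5 n30837
theorem D32836 : act 5 n30837 = n32836 := rfl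
theorem F152198 : act 1 n32836 = n31131 := d12_1 D32836 (iv D31131) (iv F143079)
theorem F152199 : act 6 n32836 = n32836 := d35_2 (iv F143081) D32836 (iv D32836) F143081 F116415
def n32837 : Q := act 9 n30837
theorem D32837 : act 9 n30837 = n32837 := rfl
theorem F152200 : act 1 n32837 = n31127 := d16_1 D32837 F144334 (iv F143079)
theorem F152201 : act 4 n32837 = n30841 := d34_1 D32837 (iv D30841) (iv F143080)
theorem F152202 : act 6 n32837 = n30838 := d41_1 D32837 (iv D30838) (iv F143081)
def n32838 : Q := act 5 n30839
theorem D32838 : act 5 n30839 = n32838 := rfl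
theorem F152203 : act 1 n32838 = n31021 := d12_1 D32838 (iv D31021) (iv F143086)
theorem F152204 : act 4 n32838 = n30863 := d30_1 D32838 (iv D30863) F116531 (iv F116444) (iv F143087)
theorem F152205 : act 6 n32838 = n30882 := d35_2 D30839 D32838 (iv D30882) (iv D26088) (iv F116439)
def n32839 : Q := act 4 n30840
theorem D32839 : act 4 n30840 = n32839 := rfl
theorem F152206 : act 1 n32839 = n31125 := d11_1 D32839 F144325 (iv F143089)
theorem F152207 : act 6 n32839 = n30870 := d31_2 (iv F143091) D32839 (iv D30870)
theorem F152208 : act 8 n32839 = n30868 := d33_2 (iv F143092) D32839 (iv D30868)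
def n32840 : Q := act 7 n30842
theorem D32840 : act 7 n30842 = n32840 := rfl
theorem F152209 : act 3 n32840 = n30843 := d27_1 D32840 (iv D30843) D30842
theorem F152210 : act 5 n32840 = n30883 := d36_1 D32840 (iv D30883) (iv F143096)
theorem F152211 : act 9 n32840 = n30856 := d43_2 (iv F143097) D32840 (iv D30856)
def n32841 : Q := act 6 n30843
theorem D32841 : act 6 n30843 = n32841 := rfl
theorem F152212 : act 2 n32841 = n30847 := d20_1 D32841 (iv D30847) (iv F143098)
theorem F152213 : act 4 n32841 = n30844 := d31_1 D32841 (iv D30844) (iv F143099)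
theorem F152214 : act 9 n32841 = n30858 := d41_2 (iv F143101) D32841 (iv D30858)
def n32842 : Q := act 8 n30844
theorem D32842 : act 8 n30844 = n32842 := rfl
theorem F152215 : act 2 n32842 = n30850 := d22_1 D32842 (iv D30850) (iv F143102)
theorem F152216 : act 6 n32842 = n30845 := d40_1 D32842 (iv D30845) D30844
def n32843 : Q := act 9 n30845
theorem D32843 : act 9 n30845 = n32843 := rfl
theorem F152217 : act 2 n32843 = n30851 := d23_1 D32843 (iv D30851) (iv F143104)
theorem F152218 : act 5 n32843 = n30919 := d38_1 D32843 (iv D30919) (iv F143105)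
theorem F152219 : act 7 n32843 = n30846 := d43_1 D32843 (iv D30846) (iv F143106)
theorem F152220 : act 8 n32843 = n30862 := d44_1 D32843 (iv D30862) (iv D26025) (iv F116475) D30845
def n32844 : Q := act 5 n30847
theorem D32844 : act 5 n30847 = n32844 := rfl
theorem F152221 : act 1 n32844 = n31142 := d12_1 D32844 (iv D31142) (iv F143110)
theorem F152222 : act 6 n32844 = n30885 := d35_2 D30847 D32844 (iv D30885) (iv D26099) (iv F116480)
theorem F152223 : act 9 n32844 = n30863 := d38_2 (iv F143112) D32844 (iv D30863)
def n32845 : Q := act 8 n30847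
theorem D32845 : act 8 n30847 = n32845 := rfl
theorem F152224 : act 1 n32845 = n31062 := d15_1 D32845 F144053 (iv F143110)
theorem F152225 : act 4 n32845 = n30850 := d33_1 D32845 (iv D30850) (iv F143111)
theorem F152226 : act 6 n32845 = n30848 := d40_1 D32845 (iv D30848) D30847
theorem F152227 : act 5 n31079 = n32845 := d35_5 F152226 F143115 F121717 (iv F121789) D31079
def n32846 : Q := act 9 n30848
theorem D32846 : act 9 n30848 = n32846 := rfl
theorem F152228 : act 1 n32846 = n30990 := d16_1 D32846 F143652 (iv F143113)
theorem F152229 : act 3 n32846 = n31045 := d29_1 D32846 F151423 F151419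
theorem F152230 : act 4 n32846 = n30851 := d34_1 D32846 (iv D30851) (iv F143114)
theorem F152231 : act 5 n32846 = n30989 := d38_1 D32846 F143645 (iv F143115)
theorem F152232 : act 7 n32846 = n30849 := d43_1 D32846 (iv D30849) (iv F143116)
theorem F152233 : act 8 n32846 = n30865 := d44_1 D32846 (iv D30865) (iv D26028) (iv F116481) D30848
def n32847 : Q := act 5 n30850
theorem D32847 : act 5 n30850 = n32847 := rfl
theorem F152234 : act 1 n32847 = n31143 := d12_1 D32847 (iv D31143) (iv F143123)
theorem F152235 : act 3 n32847 = n30852 := d25_1 D32847 (iv D30852) (iv F143124)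
theorem F152236 : act 6 n32847 = n30922 := d35_2 (iv F143125) D32847 (iv D30922) F117706 (iv F116490)
def n32848 : Q := act 9 n30850
theorem D32848 : act 9 n30850 = n32848 := rfl
theorem F152237 : act 1 n32848 = n31144 := d16_1 D32848 (iv D31144) (iv F143123)
theorem F152238 : act 3 n32848 = n30853 := d29_1 D32848 (iv D30853) (iv F143124)
theorem F152239 : act 6 n32848 = n30851 := d41_1 D32848 (iv D30851) (iv F143125)
theorem F152240 : act 8 n32848 = n30867 := d44_1 D32848 (iv D30867) (iv D26030) (iv F116487) D30850
def n32849 : Q := act 4 n30852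
theorem D32849 : act 4 n30852 = n32849 := rfl
theorem F152241 : act 1 n32849 = n31145 := d11_1 D32849 (iv D31145) (iv F143131)
theorem F152242 : act 6 n32849 = n30924 := d31_2 (iv F143132) D32849 (iv D30924)
def n32850 : Q := act 9 n30852
theorem D32850 : act 9 n30852 = n32850 := rfl
theorem F152243 : act 1 n32850 = n31146 := d16_1 D32850 (iv D31146) (iv F143131)
theorem F152244 : act 5 n32850 = n30853 := d38_1 D32850 (iv D30853) D30852
theorem F152245 : act 6 n32850 = n30925 := d41_1 D32850 (iv D30925) (iv F143132)
def n32851 : Q := act 8 n30854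
theorem D32851 : act 8 n30854 = n32851 := rfl
theorem F152246 : act 1 n32851 = n30857 := d15_1 D32851 (iv D30857) (iv F143136)
theorem F152247 : act 3 n32851 = n30855 := d28_1 D32851 (iv D30855) D30854
theorem F152248 : act 5 n32851 = n32851 := d37_1 D32851 (iv D32851) F143137 F116818 (iv F143137)
def n32852 : Q := act 6 n30856
theorem D32852 : act 6 n30856 = n32852 := rfl
theorem F152249 : act 3 n32852 = n30858 := d26_1 D32852 (iv D30858) (iv F143142)
def n32853 : Q := act 8 n30856
theorem D32853 : act 8 n30856 = n32853 := rfl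
theorem F152250 : act 3 n32853 = n30859 := d28_1 D32853 (iv D30859) (iv F143142)
theorem F152251 : act 5 n32853 = n32853 := d37_1 D32853 (iv D32853) F143143 F116828 (iv F143143)
theorem F152252 : act 7 n32853 = n30857 := d42_1 D32853 (iv D30857) D30856
def n32854 : Q := act 9 n30857
theorem D32854 : act 9 n30857 = n32854 := rfl
theorem F152253 : act 3 n32854 = n30860 := d29_1 D32854 (iv D30860) (iv F143144)
theorem F152254 : act 5 n32854 = n32854 := d38_1 D32854 (iv D32854) F143145
def n32855 : Q := act 5 n30858
theorem D32855 : act 5 n30858 = n32855 := rfl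
theorem F152255 : act 2 n32855 = n30863 := d19_1 D32855 (iv D30863) (iv F143146)
theorem F152256 : act 6 n32855 = n30888 := d35_2 D30858 D32855 (iv D30888) (iv D26108) (iv F116520)
def n32856 : Q := act 8 n30858
theorem D32856 : act 8 n30858 = n32856 := rfl
theorem F152257 : act 2 n32856 = n30864 := d22_1 D32856 (iv D30864) (iv F143146)
theorem F152258 : act 4 n32856 = n30861 := d33_1 D32856 (iv D30861) (iv F143147)
theorem F152259 : act 6 n32856 = n30859 := d40_1 D32856 (iv D30859) D30858
def n32857 : Q := act 9 n30859
theorem D32857 : act 9 n30859 = n32857 := rfl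
theorem F152260 : act 2 n32857 = n30865 := d23_1 D32857 (iv D30865) (iv F143148)
theorem F152261 : act 4 n32857 = n30862 := d34_1 D32857 (iv D30862) (iv F143149)
theorem F152262 : act 5 n32857 = n32857 := d38_1 D32857 (iv D32857) F143150
theorem F152263 : act 7 n32857 = n30860 := d43_1 D32857 (iv D30860) (iv F143151)
def n32858 : Q := act 9 n30861
theorem D32858 : act 9 n30861 = n32858 := rfl
theorem F152264 : act 2 n32858 = n30867 := d23_1 D32858 (iv D30867) (iv F143155)
theorem F152265 : act 6 n32858 = n30862 := d41_1 D32858 (iv D30862) (iv F143156)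
def n32859 : Q := act 8 n30863
theorem D32859 : act 8 n30863 = n32859 := rfl
theorem F152266 : act 1 n32859 = n31147 := d15_1 D32859 (iv D31147) (iv F143160)
theorem F152267 : act 6 n32859 = n30889 := d40_1 D32859 (iv D30889) (iv F143161)
def n32860 : Q := act 5 n30864
theorem D32860 : act 5 n30864 = n32860 := rfl
theorem F152268 : act 1 n32860 = n31148 := d12_1 D32860 (iv D31148) (iv F143162)
theorem F152269 : act 6 n32860 = n32860 := d35_2 (iv F143164) D32860 (iv D32860) F143164 F116534
def n32861 : Q := act 9 n30864
theorem D32861 : act 9 n30864 = n32861 := rfl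
theorem F152270 : act 1 n32861 = n31149 := d16_1 D32861 (iv D31149) (iv F143162)
theorem F152271 : act 4 n32861 = n30867 := d34_1 D32861 (iv D30867) (iv F143163)
theorem F152272 : act 6 n32861 = n30865 := d41_1 D32861 (iv D30865) (iv F143164)
def n32862 : Q := act 9 n30866
theorem D32862 : act 9 n30866 = n32862 := rfl
theorem F152273 : act 1 n32862 = n31126 := d16_1 D32862 (iv D31126) (iv F143169)
theorem F152274 : act 3 n32862 = n30869 := d29_1 D32862 (iv D30869) (iv F143170)
theorem F152275 : act 5 n32862 = n30867 := d38_1 D32862 (iv D30867) D30866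
theorem F152276 : act 6 n32862 = n30871 := d41_1 D32862 (iv D30871) (iv F143171)
def n32863 : Q := act 4 n30872
theorem D32863 : act 4 n30872 = n32863 := rfl
theorem F152277 : act 0 n32863 = n30873 := d3_1 D32863 (iv D30873) (iv F143189)
theorem F152278 : act 2 n32863 = n31031 := d18_1 D32863 F143890 (iv F143190)
theorem F152279 : act 6 n32863 = n32863 := d31_2 F143191 D32863 (iv D32863)
theorem F152280 : act 8 n30984 = n32863 := d22_0 F152278 (iv D31031) (iv F143620)
def n32864 : Q := act 8 n30872
theorem D32864 : act 8 n30872 = n32864 := rfl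
theorem F152281 : act 0 n32864 = n30875 := d7_1 D32864 (iv D30875) (iv F143189)
theorem F152282 : act 2 n32864 = n31029 := d22_1 D32864 (iv F143881) (iv F143190)
theorem F152283 : act 4 n32864 = n30984 := d33_1 D32864 F152280 (iv D32863)
theorem F152284 : act 5 n32864 = n32864 := d37_1 D32864 (iv D32864) (iv D30872) F116685 D30872
theorem F152285 : act 6 n32864 = n32864 := d40_1 D32864 (iv D32864) F143191
theorem F152286 : act 9 n32864 = n32864 := d44_2 F144780 D32864 (iv D32864) (iv F144780) F144779
def n32865 : Q := act 7 n30873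
theorem D32865 : act 7 n30873 = n32865 := rfl
theorem F152287 : act 1 n32865 = n30876 := d14_1 D32865 (iv D30876) (iv F143192)
theorem F152288 : act 2 n32865 = n31034 := d21_1 D32865 F143905 (iv F143193)
theorem F152289 : act 4 n32865 = n30874 := d32_1 D32865 (iv D30874) D30873
theorem F152290 : act 8 n32865 = n30986 := d42_2 F143195 D32865 (iv D30986)
def n32866 : Q := act 8 n30874
theorem D32866 : act 8 n30874 = n32866 := rfl
theorem F152291 : act 1 n32866 = n30878 := d15_1 D32866 (iv D30878) (iv F143196)
theorem F152292 : act 2 n32866 = n31032 := d22_1 D32866 F143896 (iv F143197)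
theorem F152293 : act 4 n32866 = n30986 := d33_1 D32866 (iv F152290) F152289
theorem F152294 : act 5 n32866 = n32866 := d37_1 D32866 (iv D32866) F143198 F116691 (iv F143198)
theorem F152295 : act 7 n32866 = n30875 := d42_1 D32866 (iv D30875) D30874
theorem F152296 : act 9 n32866 = n32866 := d44_2 F144723 D32866 (iv D32866) (iv F144723) F144722
def n32867 : Q := act 6 n30876
theorem D32867 : act 6 n30876 = n32867 := rfl
theorem F152297 : act 2 n32867 = n30879 := d20_1 D32867 (iv D30879) (iv F143205)
theorem F152298 : act 4 n32867 = n30877 := d31_1 D32867 (iv D30877) (iv F143206)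
theorem F152299 : act 7 n32867 = n32867 := d39_2 D30876 D32867 (iv D32867) (iv D30876) F116693
theorem F152300 : act 8 n32867 = n30987 := d40_2 (iv F143207) D32867 (iv D30987)
def n32868 : Q := act 8 n30877
theorem D32868 : act 8 n30877 = n32868 := rfl
theorem F152301 : act 2 n32868 = n30880 := d22_1 D32868 (iv D30880) (iv F143208)
theorem F152302 : act 4 n32868 = n30987 := d33_1 D32868 (iv F152300) F152298
theorem F152303 : act 6 n32868 = n30878 := d40_1 D32868 (iv D30878) D30877
theorem F152304 : act 7 n32868 = n32868 := d42_1 D32868 (iv D32868) F143209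
theorem F152305 : act 9 n32868 = n32868 := d44_2 F144805 D32868 (iv D32868) (iv F144805) F144804
def n32869 : Q := act 5 n30879
theorem D32869 : act 5 n30879 = n32869 := rfl
theorem F152306 : act 1 n32869 = n31039 := d12_1 D32869 (iv D31039) (iv F143215)
theorem F152307 : act 3 n32869 = n30882 := d25_1 D32869 (iv D30882) (iv F143216)
theorem F152308 : act 7 n32869 = n32869 := d36_2 F143218 D32869 (iv D32869)
def n32870 : Q := act 5 n30880
theorem D32870 : act 5 n30880 = n32870 := rfl
theorem F152309 : act 1 n32870 = n31038 := d12_1 D32870 (iv D31038) (iv F143220)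
theorem F152310 : act 3 n32870 = n30881 := d25_1 D32870 (iv D30881) (iv F143221)
theorem F152311 : act 6 n32870 = n32870 := d35_2 (iv F143223) D32870 (iv D32870) F143223 F116713
theorem F152312 : act 7 n32870 = n32870 := d36_2 F143224 D32870 (iv D32870)
theorem F152313 : act 9 n32870 = n32870 := d38_2 F143225 D32870 (iv D32870)
def n32871 : Q := act 8 n30882
theorem D32871 : act 8 n30882 = n32871 := rfl
theorem F152314 : act 1 n32871 = n31027 := d15_1 D32871 F143866 (iv F143231)
theorem F152315 : act 4 n32871 = n30889 := d33_1 D32871 (iv D30889) (iv F143232)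
theorem F152316 : act 5 n32871 = n30982 := d37_1 D32871 (iv D30982) F121030 (iv F135538) D30882
theorem F152317 : act 7 n32871 = n32871 := d42_1 D32871 (iv D32871) F143233
def n32872 : Q := act 6 n30883
theorem D32872 : act 6 n30883 = n32872 := rfl
theorem F152318 : act 3 n32872 = n30884 := d26_1 D32872 (iv D30884) (iv F143234)
theorem F152319 : act 7 n32872 = n32872 := d39_2 D30883 D32872 (iv D32872) (iv D30883) F116781
theorem F152320 : act 9 n32872 = n30887 := d41_2 (iv F143235) D32872 (iv D30887)
def n32873 : Q := act 5 n30884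
theorem D32873 : act 5 n30884 = n32873 := rfl
theorem F152321 : act 2 n32873 = n30885 := d19_1 D32873 (iv D30885) (iv F143236)
theorem F152322 : act 7 n32873 = n32873 := d36_2 F143238 D32873 (iv D32873)
theorem F152323 : act 9 n32873 = n30888 := d38_2 (iv F143239) D32873 (iv D30888)
def n32874 : Q := act 8 n30885
theorem D32874 : act 8 n30885 = n32874 := rfl
theorem F152324 : act 1 n32874 = n31097 := d15_1 D32874 F144180 (iv F143240)
theorem F152325 : act 5 n32874 = n31095 := d37_1 D32874 (iv D31095) F143248 (iv D30886) D30885
theorem F152326 : act 7 n32874 = n32874 := d42_1 D32874 (iv D32874) F143241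
def n32875 : Q := act 5 n30887
theorem D32875 : act 5 n30887 = n32875 := rfl
theorem F152327 : act 3 n32875 = n30888 := d25_1 D32875 (iv D30888) (iv F143249)
theorem F152328 : act 7 n32875 = n32875 := d36_2 F143250 D32875 (iv D32875)
def n32876 : Q := act 8 n30888
theorem D32876 : act 8 n30888 = n32876 := rfl
theorem F152329 : act 2 n32876 = n30889 := d22_1 D32876 (iv D30889) (iv F143252)
theorem F152330 : act 5 n32876 = n32876 := d37_1 D32876 (iv D32876) (iv D30888) F116832 D30888
theorem F152331 : act 7 n32876 = n32876 := d42_1 D32876 (iv D32876) F143253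
def n32877 : Q := act 9 n30889
theorem D32877 : act 9 n30889 = n32877 := rfl
theorem F152332 : act 1 n32877 = n31150 := d16_1 D32877 (iv D31150) (iv F143254)
theorem F152333 : act 3 n32877 = n30924 := d29_1 D32877 F151661 F151657
theorem F152334 : act 5 n32877 = n32877 := d38_1 D32877 (iv D32877) F143255
theorem F152335 : act 7 n32877 = n32877 := d43_1 D32877 (iv D32877) F143256
def n32878 : Q := act 6 n30891
theorem D32878 : act 6 n30891 = n32878 := rfl
theorem F152336 : act 1 n32878 = n30901 := d13_1 D32878 (iv D30901) (iv F143262)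
theorem F152337 : act 3 n32878 = n32878 := d26_1 D32878 (iv D32878) F143263
theorem F152338 : act 4 n32878 = n30893 := d31_1 D32878 (iv D30893) (iv F143264)
theorem F152339 : act 7 n32878 = n32878 := d39_2 D30891 D32878 (iv D32878) (iv D30891) F117151
theorem F152340 : act 9 n32878 = n30896 := d41_2 (iv F143265) D32878 (iv D30896)
def n32879 : Q := act 8 n30891
theorem D32879 : act 8 n30891 = n32879 := rfl
theorem F152341 : act 1 n32879 = n30902 := d15_1 D32879 (iv D30902) (iv F143262)
theorem F152342 : act 3 n32879 = n32879 := d28_1 D32879 (iv D32879) F143263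
theorem F152343 : act 4 n32879 = n30894 := d33_1 D32879 (iv D30894) (iv F143264)
theorem F152344 : act 7 n32879 = n30892 := d42_1 D32879 (iv D30892) D30891
def n32880 : Q := act 5 n30892
theorem D32880 : act 5 n30892 = n32880 := rfl
theorem F152345 : act 1 n32880 = n30903 := d12_1 D32880 (iv D30903) (iv F143266)
theorem F152346 : act 3 n32880 = n32880 := d25_1 D32880 (iv D32880) F143267
def n32881 : Q := act 8 n30893
theorem D32881 : act 8 n30893 = n32881 := rfl
theorem F152347 : act 1 n32881 = n30905 := d15_1 D32881 (iv D30905) (iv F143270)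
theorem F152348 : act 3 n32881 = n30895 := d28_1 D32881 (iv D30895) (iv F143271)
theorem F152349 : act 6 n32881 = n30894 := d40_1 D32881 (iv D30894) D30893
theorem F152350 : act 7 n32881 = n32881 := d42_1 D32881 (iv D32881) F143272
def n32882 : Q := act 5 n30895
theorem D32882 : act 5 n30895 = n32882 := rfl
theorem F152351 : act 1 n32882 = n30907 := d12_1 D32882 (iv D30907) (iv F143277)
theorem F152352 : act 2 n32882 = n31152 := d19_1 D32882 (iv D31152) (iv F143278)
theorem F152353 : act 7 n32882 = n32882 := d36_2 F143281 D32882 (iv D32882)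
def n32883 : Q := act 6 n30897
theorem D32883 : act 6 n30897 = n32883 := rfl
theorem F152354 : act 1 n32883 = n30898 := d13_1 D32883 (iv D30898) (iv F143286)
theorem F152355 : act 3 n32883 = n30916 := d26_1 D32883 F143353 (iv F143287)
theorem F152356 : act 5 n32883 = n30915 := d35_1 D32883 F143348 F117489 (iv F134877) (iv F143288)
theorem F152357 : act 7 n32883 = n32883 := d39_2 D30897 D32883 (iv D32883) (iv D30897) F117403
theorem F152358 : act 9 n32883 = n30909 := d41_2 (iv F143289) D32883 (iv D30909)
def n32884 : Q := act 8 n30898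
theorem D32884 : act 8 n30898 = n32884 := rfl
theorem F152359 : act 2 n32884 = n30905 := d22_1 D32884 (iv D30905) (iv F143290)
theorem F152360 : act 3 n32884 = n30918 := d28_1 D32884 (iv D30918) (iv F143291)
theorem F152361 : act 6 n32884 = n30899 := d40_1 D32884 (iv D30899) D30898
theorem F152362 : act 7 n32884 = n32884 := d42_1 D32884 (iv D32884) F143292
def n32885 : Q := act 9 n30899
theorem D32885 : act 9 n30899 = n32885 := rfl
theorem F152363 : act 2 n32885 = n30906 := d23_1 D32885 (iv D30906) (iv F143294)
theorem F152364 : act 3 n32885 = n30919 := d29_1 D32885 (iv D30919) (iv F143295)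
theorem F152365 : act 7 n32885 = n30900 := d43_1 D32885 (iv D30900) (iv F143296)
theorem F152366 : act 8 n32885 = n30911 := d44_1 D32885 (iv D30911) (iv D26265) (iv F117414) D30899
def n32886 : Q := act 5 n30901
theorem D32886 : act 5 n30901 = n32886 := rfl
theorem F152367 : act 3 n32886 = n32886 := d25_1 D32886 (iv D32886) F143301
theorem F152368 : act 7 n32886 = n32886 := d36_2 F143303 D32886 (iv D32886)
theorem F152369 : act 9 n32886 = n30912 := d38_2 (iv F143304) D32886 (iv D30912)
def n32887 : Q := act 8 n30901
theorem D32887 : act 8 n30901 = n32887 := rfl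
theorem F152370 : act 3 n32887 = n32887 := d28_1 D32887 (iv D32887) F143301
theorem F152371 : act 4 n32887 = n30905 := d33_1 D32887 (iv D30905) (iv F143302)
theorem F152372 : act 6 n32887 = n30902 := d40_1 D32887 (iv D30902) D30901
theorem F152373 : act 7 n32887 = n32887 := d42_1 D32887 (iv D32887) F143303
def n32888 : Q := act 5 n30902
theorem D32888 : act 5 n30902 = n32888 := rfl
theorem F152374 : act 3 n32888 = n32888 := d25_1 D32888 (iv D32888) F143305
theorem F152375 : act 7 n32888 = n30903 := d36_2 (iv F143307) D32888 (iv D30903)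
def n32889 : Q := act 9 n30902
theorem D32889 : act 9 n30902 = n32889 := rfl
theorem F152376 : act 3 n32889 = n32889 := d29_1 D32889 (iv D32889) F143305
theorem F152377 : act 4 n32889 = n30906 := d34_1 D32889 (iv D30906) (iv F143306)
theorem F152378 : act 7 n32889 = n30904 := d43_1 D32889 (iv D30904) (iv F143307)
theorem F152379 : act 8 n32889 = n30914 := d44_1 D32889 (iv D30914) (iv D26268) (iv F117420) D30902
def n32890 : Q := act 6 n30903
theorem D32890 : act 6 n30903 = n32890 := rfl
theorem F152380 : act 3 n32890 = n32890 := d26_1 D32890 (iv D32890) F143308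
theorem F152381 : act 5 n32890 = n32890 := d35_1 D32890 (iv D32890) (iv D30903) F117423 D30903
def n32891 : Q := act 9 n30903
theorem D32891 : act 9 n30903 = n32891 := rfl
theorem F152382 : act 3 n32891 = n32891 := d29_1 D32891 (iv D32891) F143308
theorem F152383 : act 5 n32891 = n30904 := d38_1 D32891 (iv D30904) D30903
def n32892 : Q := act 5 n30905
theorem D32892 : act 5 n30905 = n32892 := rfl
theorem F152384 : act 3 n32892 = n30907 := d25_1 D32892 (iv D30907) (iv F143313)
theorem F152385 : act 7 n32892 = n32892 := d36_2 F143315 D32892 (iv D32892)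
def n32893 : Q := act 9 n30905
theorem D32893 : act 9 n30905 = n32893 := rfl
theorem F152386 : act 3 n32893 = n30908 := d29_1 D32893 (iv D30908) (iv F143313)
theorem F152387 : act 6 n32893 = n30906 := d41_1 D32893 (iv D30906) (iv F143314)
theorem F152388 : act 7 n32893 = n32893 := d43_1 D32893 (iv D32893) F143315
theorem F152389 : act 8 n32893 = n30915 := d44_1 D32893 (iv D30915) (iv D26271) (iv F117426) D30905
def n32894 : Q := act 4 n30907
theorem D32894 : act 4 n30907 = n32894 := rfl
theorem F152390 : act 2 n32894 = n30924 := d18_1 D32894 (iv D30924) (iv F143319)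
theorem F152391 : act 5 n32894 = n32894 := d30_2 D30907 D32894 (iv D32894) (iv D30907) F117433
theorem F152392 : act 7 n32894 = n32894 := d32_2 F143320 D32894 (iv D32894)
def n32895 : Q := act 9 n30907
theorem D32895 : act 9 n30907 = n32895 := rfl
theorem F152393 : act 2 n32895 = n30925 := d23_1 D32895 (iv D30925) (iv F143319)
theorem F152394 : act 5 n32895 = n30908 := d38_1 D32895 (iv D30908) D30907
theorem F152395 : act 7 n32895 = n32895 := d43_1 D32895 (iv D32895) F143320
def n32896 : Q := act 9 n30910
theorem D32896 : act 9 n30910 = n32896 := rfl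
theorem F152396 : act 2 n32896 = n30915 := d23_1 D32896 (iv D30915) (iv F143330)
theorem F152397 : act 3 n32896 = n30926 := d29_1 D32896 (iv D30926) (iv F143331)
theorem F152398 : act 6 n32896 = n30911 := d41_1 D32896 (iv D30911) (iv F143332)
theorem F152399 : act 7 n32896 = n32896 := d43_1 D32896 (iv D32896) F143333
def n32897 : Q := act 9 n30913
theorem D32897 : act 9 n30913 = n32897 := rfl
theorem F152400 : act 3 n32897 = n32897 := d29_1 D32897 (iv D32897) F143340
theorem F152401 : act 4 n32897 = n30915 := d34_1 D32897 (iv D30915) (iv F143341)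
theorem F152402 : act 6 n32897 = n30914 := d41_1 D32897 (iv D30914) (iv F143342)
theorem F152403 : act 7 n32897 = n32897 := d43_1 D32897 (iv D32897) F143343
def n32898 : Q := act 5 n30918
theorem D32898 : act 5 n30918 = n32898 := rfl
theorem F152404 : act 2 n32898 = n30922 := d19_1 D32898 (iv D30922) (iv F143359)
theorem F152405 : act 7 n32898 = n32898 := d36_2 F143361 D32898 (iv D32898)
def n32899 : Q := act 9 n30918
theorem D32899 : act 9 n30918 = n32899 := rfl
theorem F152406 : act 2 n32899 = n30923 := d23_1 D32899 (iv D30923) (iv F143359)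
theorem F152407 : act 6 n32899 = n30919 := d41_1 D32899 (iv D30919) (iv F143360)
theorem F152408 : act 7 n32899 = n32899 := d43_1 D32899 (iv D32899) F143361
theorem F152409 : act 8 n32899 = n30926 := d44_1 D32899 (iv D30926) (iv D26353) (iv F117681) D30918
def n32900 : Q := act 9 n30920
theorem D32900 : act 9 n30920 = n32900 := rfl
theorem F152410 : act 1 n32900 = n31103 := d16_1 D32900 F144215 (iv F143365)
theorem F152411 : act 3 n32900 = n32900 := d29_1 D32900 (iv D32900) F143366
theorem F152412 : act 4 n32900 = n30923 := d34_1 D32900 (iv D30923) (iv F143367)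
theorem F152413 : act 5 n32900 = n31109 := d38_1 D32900 F144249 F143370
theorem F152414 : act 6 n32900 = n30921 := d41_1 D32900 (iv D30921) (iv F143368)
theorem F152415 : act 7 n32900 = n32900 := d43_1 D32900 (iv D32900) F143369
theorem F152416 : act 8 n32900 = n30928 := d44_1 D32900 (iv D30928) (iv D26355) (iv F117692) D30920
def n32901 : Q := act 4 n30922
theorem D32901 : act 4 n30922 = n32901 := rfl
theorem F152417 : act 1 n32901 = n31115 := d11_1 D32901 F144274 (iv F143377)
theorem F152418 : act 5 n32901 = n31114 := d30_2 D30922 D32901 F144269 F143370 F143367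
theorem F152419 : act 7 n32901 = n32901 := d32_2 F143379 D32901 (iv D32901)
def n32902 : Q := act 9 n30922
theorem D32902 : act 9 n30922 = n32902 := rfl
theorem F152420 : act 1 n32902 = n31158 := d16_1 D32902 (iv D31158) (iv F143377)
theorem F152421 : act 3 n32902 = n30925 := d29_1 D32902 (iv D30925) (iv F143378)
theorem F152422 : act 5 n32902 = n30923 := d38_1 D32902 (iv D30923) D30922
theorem F152423 : act 7 n32902 = n32902 := d43_1 D32902 (iv D32902) F143379
def n32903 : Q := act 9 n30927
theorem D32903 : act 9 n30927 = n32903 := rfl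
theorem F152424 : act 1 n32903 = n31159 := d16_1 D32903 (iv D31159) (iv F143394)
theorem F152425 : act 3 n32903 = n32903 := d29_1 D32903 (iv D32903) F143395
theorem F152426 : act 5 n32903 = n30928 := d38_1 D32903 (iv D30928) D30927
theorem F152427 : act 6 n32903 = n32903 := d41_1 D32903 (iv D32903) F143396
theorem F152428 : act 7 n32903 = n32903 := d43_1 D32903 (iv D32903) F143397
def n32904 : Q := act 6 n30931
theorem D32904 : act 6 n30931 = n32904 := rfl
theorem F152429 : act 2 n32904 = n30935 := d20_1 D32904 (iv D30935) (iv F143414)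
theorem F152430 : act 3 n32904 = n32904 := d26_1 D32904 (iv D32904) F143415
theorem F152431 : act 7 n32904 = n32904 := d39_2 D30931 D32904 (iv D32904) (iv D30931) F118548
theorem F152432 : act 9 n32904 = n32904 := d41_2 F143417 D32904 (iv D32904)
def n32905 : Q := act 8 n30931
theorem D32905 : act 8 n30931 = n32905 := rfl
theorem F152433 : act 2 n32905 = n30936 := d22_1 D32905 (iv D30936) (iv F143414)
theorem F152434 : act 3 n32905 = n32905 := d28_1 D32905 (iv D32905) F143415
theorem F152435 : act 7 n32905 = n30932 := d42_1 D32905 (iv D30932) D30931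
def n32906 : Q := act 9 n30932
theorem D32906 : act 9 n30932 = n32906 := rfl
theorem F152436 : act 2 n32906 = n30937 := d23_1 D32906 (iv D30937) (iv F143418)
theorem F152437 : act 3 n32906 = n32906 := d29_1 D32906 (iv D32906) F143419
theorem F152438 : act 6 n32906 = n32906 := d41_1 D32906 (iv D32906) F143420
theorem F152439 : act 8 n32906 = n32906 := d44_1 D32906 (iv D32906) (iv D30932) F118549 D30932
def n32907 : Q := act 6 n30933
theorem D32907 : act 6 n30933 = n32907 := rfl
theorem F152440 : act 3 n32907 = n32907 := d26_1 D32907 (iv D32907) F143421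
theorem F152441 : act 4 n32907 = n30935 := d31_1 D32907 (iv D30935) (iv F143422)
theorem F152442 : act 7 n32907 = n32907 := d39_2 D30933 D32907 (iv D32907) (iv D30933) F118556
theorem F152443 : act 9 n32907 = n32907 := d41_2 F143424 D32907 (iv D32907)
def n32908 : Q := act 8 n30933
theorem D32908 : act 8 n30933 = n32908 := rfl
theorem F152444 : act 3 n32908 = n32908 := d28_1 D32908 (iv D32908) F143421
theorem F152445 : act 4 n32908 = n30936 := d33_1 D32908 (iv D30936) (iv F143422)
theorem F152446 : act 7 n32908 = n30934 := d42_1 D32908 (iv D30934) D30933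
def n32909 : Q := act 5 n30934
theorem D32909 : act 5 n30934 = n32909 := rfl
theorem F152447 : act 3 n32909 = n32909 := d25_1 D32909 (iv D32909) F143425
theorem F152448 : act 8 n32909 = n30942 := d37_2 D30934 D32909 (iv D30942) (iv D26561) (iv F118555)
def n32910 : Q := act 9 n30934
theorem D32910 : act 9 n30934 = n32910 := rfl
theorem F152449 : act 3 n32910 = n32910 := d29_1 D32910 (iv D32910) F143425
theorem F152450 : act 4 n32910 = n30937 := d34_1 D32910 (iv D30937) (iv F143426)
theorem F152451 : act 6 n32910 = n32910 := d41_1 D32910 (iv D32910) F143427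
theorem F152452 : act 8 n32910 = n32910 := d44_1 D32910 (iv D32910) (iv D30934) F118557 D30934
def n32911 : Q := act 8 n30935
theorem D32911 : act 8 n30935 = n32911 := rfl
theorem F152453 : act 3 n32911 = n30938 := d28_1 D32911 (iv D30938) (iv F143428)
theorem F152454 : act 6 n32911 = n30936 := d40_1 D32911 (iv D30936) D30935
theorem F152455 : act 7 n32911 = n32911 := d42_1 D32911 (iv D32911) F143429
def n32912 : Q := act 9 n30936
theorem D32912 : act 9 n30936 = n32912 := rfl
theorem F152456 : act 3 n32912 = n30939 := d29_1 D32912 (iv D30939) (iv F143431)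
theorem F152457 : act 7 n32912 = n30937 := d43_1 D32912 (iv D30937) (iv F143432)
theorem F152458 : act 8 n32912 = n32912 := d44_1 D32912 (iv D32912) (iv D30936) F118560 D30936
def n32913 : Q := act 5 n30938
theorem D32913 : act 5 n30938 = n32913 := rfl
theorem F152459 : act 2 n32913 = n32913 := d19_1 D32913 (iv D32913) F143436
theorem F152460 : act 7 n32913 = n32913 := d36_2 F143439 D32913 (iv D32913)
def n32914 : Q := act 9 n30938
theorem D32914 : act 9 n30938 = n32914 := rfl
theorem F152461 : act 2 n32914 = n32914 := d23_1 D32914 (iv D32914) F143436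
theorem F152462 : act 4 n32914 = n32914 := d34_1 D32914 (iv D32914) F143437
theorem F152463 : act 6 n32914 = n30939 := d41_1 D32914 (iv D30939) (iv F143438)
theorem F152464 : act 7 n32914 = n32914 := d43_1 D32914 (iv D32914) F143439
theorem F152465 : act 8 n32914 = n32914 := d44_1 D32914 (iv D32914) (iv D30938) F118566 D30938
def n32915 : Q := act 5 n30941
theorem D32915 : act 5 n30941 = n32915 := rfl
theorem F152466 : act 3 n32915 = n32915 := d25_1 D32915 (iv D32915) F143447
theorem F152467 : act 7 n32915 = n30942 := d36_2 (iv F143449) D32915 (iv D30942)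
def n32916 : Q := act 9 n30941
theorem D32916 : act 9 n30941 = n32916 := rfl
theorem F152468 : act 3 n32916 = n32916 := d29_1 D32916 (iv D32916) F143447
theorem F152469 : act 4 n32916 = n30944 := d34_1 D32916 (iv D30944) (iv F143448)
theorem F152470 : act 7 n32916 = n30943 := d43_1 D32916 (iv D30943) (iv F143449)
theorem F152471 : act 8 n32916 = n32916 := d44_1 D32916 (iv D32916) (iv D30941) F118627 D30941
def n32917 : Q := act 6 n30942
theorem D32917 : act 6 n30942 = n32917 := rfl
theorem F152472 : act 3 n32917 = n32917 := d26_1 D32917 (iv D32917) F143450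
theorem F152473 : act 5 n32917 = n30945 := d35_1 D32917 (iv D30945) (iv D26601) (iv F118630) D30942
def n32918 : Q := act 9 n30942
theorem D32918 : act 9 n30942 = n32918 := rfl
theorem F152474 : act 3 n32918 = n32918 := d29_1 D32918 (iv D32918) F143450
theorem F152475 : act 5 n32918 = n30943 := d38_1 D32918 (iv D30943) D30942
def n32919 : Q := act 7 n30945
theorem D32919 : act 7 n30945 = n32919 := rfl
theorem F152476 : act 3 n32919 = n32919 := d27_1 D32919 (iv D32919) F143458
theorem F152477 : act 4 n32919 = n30947 := d32_1 D32919 (iv D30947) (iv F143459)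
theorem F152478 : act 8 n32919 = n32919 := d42_2 F143460 D32919 (iv D32919)
def n32920 : Q := act 7 n30946
theorem D32920 : act 7 n30946 = n32920 := rfl
theorem F152479 : act 2 n32920 = n30947 := d21_1 D32920 (iv D30947) (iv F143461)
theorem F152480 : act 3 n32920 = n32920 := d27_1 D32920 (iv D32920) F143462
theorem F152481 : act 8 n32920 = n32920 := d42_2 F143463 D32920 (iv D32920)
def n32921 : Q := act 6 n30950
theorem D32921 : act 6 n30950 = n32921 := rfl
theorem F152482 : act 0 n32921 = n30951 := d5_1 D32921 (iv D30951) D30950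
theorem F152483 : act 1 n32921 = n30971 := d13_1 D32921 (iv D30971) (iv F143472)
theorem F152484 : act 2 n32921 = n32921 := d20_1 D32921 (iv D32921) F143473
theorem F152485 : act 4 n32921 = n32921 := d31_1 D32921 (iv D32921) F143474
theorem F152486 : act 8 n32921 = n30966 := d40_2 (iv F143475) D32921 (iv D30966)
def n32922 : Q := act 5 n30951
theorem D32922 : act 5 n30951 = n32922 := rfl
theorem F152487 : act 1 n32922 = n30952 := d12_1 D32922 (iv D30952) (iv F143476)
theorem F152488 : act 2 n32922 = n32922 := d19_1 D32922 (iv D32922) F143477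
def n32923 : Q := act 7 n30951
theorem D32923 : act 7 n30951 = n32923 := rfl
theorem F152489 : act 1 n32923 = n30953 := d14_1 D32923 (iv D30953) (iv F143476)
theorem F152490 : act 2 n32923 = n32923 := d21_1 D32923 (iv D32923) F143477
theorem F152491 : act 4 n32923 = n32923 := d32_1 D32923 (iv D32923) F143478
theorem F152492 : act 8 n32923 = n30968 := d42_2 (iv F143479) D32923 (iv D30968)
def n32924 : Q := act 7 n30952
theorem D32924 : act 7 n30952 = n32924 := rfl
theorem F152493 : act 0 n32924 = n30974 := d6_1 D32924 (iv D30974) (iv F143480)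
theorem F152494 : act 2 n32924 = n30954 := d21_1 D32924 (iv D30954) (iv F143481)
theorem F152495 : act 5 n32924 = n30953 := d36_1 D32924 (iv D30953) D30952
def n32925 : Q := act 6 n30954
theorem D32925 : act 6 n30954 = n32925 := rfl
theorem F152496 : act 0 n32925 = n30975 := d5_1 D32925 (iv D30975) (iv F143486)
theorem F152497 : act 1 n32925 = n32925 := d13_1 D32925 (iv D32925) F143487
theorem F152498 : act 3 n32925 = n30955 := d26_1 D32925 (iv D30955) (iv F143488)
def n32926 : Q := act 6 n30956
theorem D32926 : act 6 n30956 = n32926 := rfl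
theorem F152499 : act 0 n32926 = n30957 := d5_1 D32926 (iv D30957) D30956
theorem F152500 : act 1 n32926 = n30976 := d13_1 D32926 (iv D30976) (iv F143493)
theorem F152501 : act 2 n32926 = n32926 := d20_1 D32926 (iv D32926) F143494
theorem F152502 : act 4 n32926 = n32926 := d31_1 D32926 (iv D32926) F143495
theorem F152503 : act 9 n32926 = n32926 := d41_2 F143498 D32926 (iv D32926)
def n32927 : Q := act 5 n30957
theorem D32927 : act 5 n30957 = n32927 := rfl
theorem F152504 : act 1 n32927 = n30958 := d12_1 D32927 (iv D30958) (iv F143499)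
theorem F152505 : act 2 n32927 = n32927 := d19_1 D32927 (iv D32927) F143500
theorem F152506 : act 6 n32927 = n32927 := d35_2 D30957 D32927 (iv D32927) (iv D30957) F120835
theorem F152507 : act 9 n32927 = n32927 := d38_2 F143502 D32927 (iv D32927)
def n32928 : Q := act 7 n30957
theorem D32928 : act 7 n30957 = n32928 := rfl
theorem F152508 : act 1 n32928 = n30959 := d14_1 D32928 (iv D30959) (iv F143499)
theorem F152509 : act 2 n32928 = n32928 := d21_1 D32928 (iv D32928) F143500
theorem F152510 : act 4 n32928 = n32928 := d32_1 D32928 (iv D32928) F143501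
theorem F152511 : act 6 n32928 = n30968 := d39_1 D32928 (iv D30968) (iv D27116) (iv F120836) D30957
theorem F152512 : act 9 n32928 = n32928 := d43_2 F143502 D32928 (iv D32928)
def n32929 : Q := act 7 n30958
theorem D32929 : act 7 n30958 = n32929 := rfl
theorem F152513 : act 0 n32929 = n30978 := d6_1 D32929 (iv D30978) (iv F143503)
theorem F152514 : act 2 n32929 = n30961 := d21_1 D32929 (iv D30961) (iv F143504)
theorem F152515 : act 5 n32929 = n30959 := d36_1 D32929 (iv D30959) D30958
theorem F152516 : act 9 n32929 = n32929 := d43_2 F143506 D32929 (iv D32929)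
def n32930 : Q := act 7 n30960
theorem D32930 : act 7 n30960 = n32930 := rfl
theorem F152517 : act 0 n32930 = n30979 := d6_1 D32930 (iv D30979) (iv F143512)
theorem F152518 : act 1 n32930 = n32930 := d14_1 D32930 (iv D32930) F143513
theorem F152519 : act 3 n32930 = n32930 := d27_1 D32930 (iv D32930) F143514
theorem F152520 : act 4 n32930 = n30961 := d32_1 D32930 (iv D30961) D30960
theorem F152521 : act 5 n32930 = n32930 := d36_1 D32930 (iv D32930) F143515
theorem F152522 : act 8 n32930 = n31108 := d42_2 F143518 D32930 (iv D31108)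
theorem F152523 : act 9 n32930 = n32930 := d43_2 F143517 D32930 (iv D32930)
def n32931 : Q := act 6 n30961
theorem D32931 : act 6 n30961 = n32931 := rfl
theorem F152524 : act 0 n32931 = n30980 := d5_1 D32931 (iv D30980) (iv F143519)
theorem F152525 : act 1 n32931 = n32931 := d13_1 D32931 (iv D32931) F143520
theorem F152526 : act 3 n32931 = n30963 := d26_1 D32931 (iv D30963) (iv F143521)
theorem F152527 : act 5 n32931 = n30970 := d35_1 D32931 (iv D30970) F120888 (iv F120851) (iv F143522)
theorem F152528 : act 7 n32931 = n32931 := d39_2 D30961 D32931 (iv D32931) (iv D30961) F120845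
theorem F152529 : act 9 n32931 = n32931 := d41_2 F143523 D32931 (iv D32931)
def n32932 : Q := act 8 n30961
theorem D32932 : act 8 n30961 = n32932 := rfl
theorem F152530 : act 0 n32932 = n30981 := d7_1 D32932 (iv D30981) (iv F143519)
theorem F152531 : act 1 n32932 = n32932 := d15_1 D32932 (iv D32932) F143520
theorem F152532 : act 3 n32932 = n30964 := d28_1 D32932 (iv D30964) (iv F143521)
theorem F152533 : act 4 n32932 = n31108 := d33_1 D32932 (iv F152522) F152520
theorem F152534 : act 7 n32932 = n30962 := d42_1 D32932 (iv D30962) D30961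
theorem F152535 : act 9 n31112 = n32932 := d43_0 F152534 (iv F143529) D31112
def n32933 : Q := act 8 n30963
theorem D32933 : act 8 n30963 = n32933 := rfl
theorem F152536 : act 0 n32933 = n30982 := d7_1 D32933 (iv D30982) (iv F143530)
theorem F152537 : act 1 n32933 = n32933 := d15_1 D32933 (iv D32933) F143531
theorem F152538 : act 4 n32933 = n32933 := d33_1 D32933 (iv D32933) F143532
theorem F152539 : act 6 n32933 = n30964 := d40_1 D32933 (iv D30964) D30963
theorem F152540 : act 7 n32933 = n32933 := d42_1 D32933 (iv D32933) F143534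
def n32934 : Q := act 9 n30964
theorem D32934 : act 9 n30964 = n32934 := rfl
theorem F152541 : act 0 n32934 = n30983 := d8_1 D32934 (iv D30983) (iv F143536)
theorem F152542 : act 1 n32934 = n32934 := d16_1 D32934 (iv D32934) F143537
theorem F152543 : act 3 n32934 = n31112 := d29_1 D32934 F152535 F152532
theorem F152544 : act 4 n32934 = n32934 := d34_1 D32934 (iv D32934) F143538
theorem F152545 : act 7 n32934 = n30965 := d43_1 D32934 (iv D30965) (iv F143539)
theorem F152546 : act 8 n32934 = n32934 := d44_1 D32934 (iv D32934) (iv D30964) F120857 D30964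
def n32935 : Q := act 5 n30966
theorem D32935 : act 5 n30966 = n32935 := rfl
theorem F152547 : act 0 n32935 = n30967 := d4_1 D32935 (iv D30967) (iv F143546)
theorem F152548 : act 1 n32935 = n30984 := d12_1 D32935 (iv D30984) (iv F143547)
theorem F152549 : act 2 n32935 = n32935 := d19_1 D32935 (iv D32935) F143548
theorem F152550 : act 6 n32935 = n32935 := d35_2 D30966 D32935 (iv D32935) (iv D30966) F120865
theorem F152551 : act 9 n32935 = n32935 := d38_2 F143550 D32935 (iv D32935)
def n32936 : Q := act 7 n30966
theorem D32936 : act 7 n30966 = n32936 := rfl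
theorem F152552 : act 0 n32936 = n30968 := d6_1 D32936 (iv D30968) (iv F143546)
theorem F152553 : act 1 n32936 = n30985 := d14_1 D32936 (iv D30985) (iv F143547)
theorem F152554 : act 2 n32936 = n32936 := d21_1 D32936 (iv D32936) F143548
theorem F152555 : act 4 n32936 = n32936 := d32_1 D32936 (iv D32936) F143549
theorem F152556 : act 9 n32936 = n32936 := d43_2 F143550 D32936 (iv D32936)
def n32937 : Q := act 7 n30967
theorem D32937 : act 7 n30967 = n32937 := rfl
theorem F152557 : act 1 n32937 = n30969 := d14_1 D32937 (iv D30969) (iv F143551)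
theorem F152558 : act 2 n32937 = n32937 := d21_1 D32937 (iv D32937) F143552
theorem F152559 : act 5 n32937 = n30968 := d36_1 D32937 (iv D30968) D30967
theorem F152560 : act 9 n32937 = n32937 := d43_2 F143554 D32937 (iv D32937)
def n32938 : Q := act 6 n30969
theorem D32938 : act 6 n30969 = n32938 := rfl
theorem F152561 : act 0 n32938 = n30987 := d5_1 D32938 (iv D30987) (iv F143559)
theorem F152562 : act 2 n32938 = n30970 := d20_1 D32938 (iv D30970) (iv F143560)
theorem F152563 : act 7 n32938 = n32938 := d39_2 D30969 D32938 (iv D32938) (iv D30969) F120873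
theorem F152564 : act 9 n32938 = n32938 := d41_2 F143562 D32938 (iv D32938)
def n32939 : Q := act 5 n30971
theorem D32939 : act 5 n30971 = n32939 := rfl
theorem F152565 : act 0 n32939 = n30972 := d4_1 D32939 (iv D30972) (iv F143568)
theorem F152566 : act 2 n32939 = n31012 := d19_1 D32939 (iv D31012) (iv F143569)
def n32940 : Q := act 7 n30971
theorem D32940 : act 7 n30971 = n32940 := rfl
theorem F152567 : act 0 n32940 = n30973 := d6_1 D32940 (iv D30973) (iv F143568)
theorem F152568 : act 2 n32940 = n31013 := d21_1 D32940 (iv D31013) (iv F143569)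
theorem F152569 : act 4 n32940 = n32940 := d32_1 D32940 (iv D32940) F143570
theorem F152570 : act 8 n32940 = n30985 := d42_2 (iv F143571) D32940 (iv D30985)
def n32941 : Q := act 7 n30972
theorem D32941 : act 7 n30972 = n32941 := rfl
theorem F152571 : act 1 n32941 = n30974 := d14_1 D32941 (iv D30974) (iv F143572)
theorem F152572 : act 2 n32941 = n31014 := d21_1 D32941 (iv D31014) (iv F143573)
theorem F152573 : act 5 n32941 = n30973 := d36_1 D32941 (iv D30973) D30972
def n32942 : Q := act 6 n30974
theorem D32942 : act 6 n30974 = n32942 := rfl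
theorem F152574 : act 2 n32942 = n30975 := d20_1 D32942 (iv D30975) (iv F143578)
def n32943 : Q := act 7 n30976
theorem D32943 : act 7 n30976 = n32943 := rfl
theorem F152575 : act 0 n32943 = n30977 := d6_1 D32943 (iv D30977) (iv F143582)
theorem F152576 : act 2 n32943 = n31023 := d21_1 D32943 (iv D31023) (iv F143583)
theorem F152577 : act 4 n32943 = n32943 := d32_1 D32943 (iv D32943) F143584
theorem F152578 : act 6 n32943 = n30985 := d39_1 D32943 (iv D30985) (iv D27157) (iv F121000) D30976
theorem F152579 : act 9 n32943 = n32943 := d43_2 F143585 D32943 (iv D32943)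
def n32944 : Q := act 6 n30978
theorem D32944 : act 6 n30978 = n32944 := rfl
theorem F152580 : act 2 n32944 = n30980 := d20_1 D32944 (iv D30980) (iv F143591)
theorem F152581 : act 5 n32944 = n30987 := d35_1 D32944 (iv D30987) F121058 (iv F121011) (iv F143592)
theorem F152582 : act 7 n32944 = n32944 := d39_2 D30978 D32944 (iv D32944) (iv D30978) F121007
theorem F152583 : act 9 n32944 = n32944 := d41_2 F143593 D32944 (iv D32944)
def n32945 : Q := act 6 n30979
theorem D32945 : act 6 n30979 = n32945 := rfl
theorem F152584 : act 1 n32945 = n31025 := d13_1 D32945 (iv D31025) (iv F143594)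
theorem F152585 : act 3 n32945 = n32945 := d26_1 D32945 (iv D32945) F143595
theorem F152586 : act 4 n32945 = n30980 := d31_1 D32945 (iv D30980) (iv F143596)
theorem F152587 : act 7 n32945 = n32945 := d39_2 D30979 D32945 (iv D32945) (iv D30979) F121016
theorem F152588 : act 8 n32945 = n31109 := d40_2 (iv F143598) D32945 (iv D31109)
theorem F152589 : act 9 n32945 = n32945 := d41_2 F143599 D32945 (iv D32945)
def n32946 : Q := act 8 n30980
theorem D32946 : act 8 n30980 = n32946 := rfl
theorem F152590 : act 1 n32946 = n31026 := d15_1 D32946 (iv D31026) (iv F143600)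
theorem F152591 : act 3 n32946 = n30982 := d28_1 D32946 (iv D30982) (iv F143601)
theorem F152592 : act 4 n32946 = n31109 := d33_1 D32946 (iv F152588) F152586
theorem F152593 : act 6 n32946 = n30981 := d40_1 D32946 (iv D30981) D30980
theorem F152594 : act 7 n32946 = n32946 := d42_1 D32946 (iv D32946) F143603
theorem F152595 : act 9 n31114 = n32946 := d41_0 F152593 (iv F143609) D31114
def n32947 : Q := act 9 n30982
theorem D32947 : act 9 n30982 = n32947 := rfl
theorem F152596 : act 1 n32947 = n31028 := d16_1 D32947 (iv D31028) (iv F143610)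
theorem F152597 : act 3 n32947 = n31114 := d29_1 D32947 F152595 F152591
theorem F152598 : act 4 n32947 = n32947 := d34_1 D32947 (iv D32947) F143611
theorem F152599 : act 6 n32947 = n30983 := d41_1 D32947 (iv D30983) (iv F143612)
theorem F152600 : act 7 n32947 = n32947 := d43_1 D32947 (iv D32947) F143613
theorem F152601 : act 8 n32947 = n32947 := d44_1 D32947 (iv D32947) (iv D30982) F121032 D30982
def n32948 : Q := act 7 n30984
theorem D32948 : act 7 n30984 = n32948 := rfl
theorem F152602 : act 0 n32948 = n30986 := d6_1 D32948 (iv D30986) (iv F143619)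
theorem F152603 : act 2 n32948 = n31030 := d21_1 D32948 (iv D31030) (iv F143620)
theorem F152604 : act 5 n32948 = n30985 := d36_1 D32948 (iv D30985) D30984
theorem F152605 : act 9 n32948 = n32948 := d43_2 F143622 D32948 (iv D32948)
def n32949 : Q := act 6 n30986
theorem D32949 : act 6 n30986 = n32949 := rfl
theorem F152606 : act 1 n32949 = n30987 := d13_1 D32949 (iv D30987) (iv F143627)
theorem F152607 : act 2 n32949 = n31033 := d20_1 D32949 (iv D31033) (iv F143628)
theorem F152608 : act 7 n32949 = n32949 := d39_2 D30986 D32949 (iv D32949) (iv D30986) F121047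
theorem F152609 : act 9 n32949 = n32949 := d41_2 F143630 D32949 (iv D32949)
def n32950 : Q := act 7 n30988
theorem D32950 : act 7 n30988 = n32950 := rfl
theorem F152610 : act 0 n32950 = n30989 := d6_1 D32950 (iv D30989) (iv F143634)
theorem F152611 : act 1 n32950 = n32950 := d14_1 D32950 (iv D32950) F143635
theorem F152612 : act 3 n32950 = n31044 := d27_1 D32950 (iv D31044) (iv F143636)
theorem F152613 : act 4 n32950 = n31102 := d32_1 D32950 (iv D31102) (iv F143637)
theorem F152614 : act 6 n32950 = n31068 := d39_1 D32950 (iv D31068) (iv D27294) (iv F121152) D30988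
theorem F152615 : act 8 n32950 = n32950 := d42_2 F143638 D32950 (iv D32950)
theorem F152616 : act 9 n32950 = n31061 := d43_2 (iv F143639) D32950 (iv D31061)
def n32951 : Q := act 6 n30990
theorem D32951 : act 6 n30990 = n32951 := rfl
theorem F152617 : act 0 n32951 = n32951 := d5_1 D32951 (iv D32951) F143646
theorem F152618 : act 2 n32951 = n30992 := d20_1 D32951 (iv D30992) (iv F143647)
theorem F152619 : act 3 n32951 = n31047 := d26_1 D32951 (iv D31047) (iv F143648)
theorem F152620 : act 4 n32951 = n31144 := d31_1 D32951 F144396 (iv F143649)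
theorem F152621 : act 5 n32951 = n31070 := d35_1 D32951 (iv D31070) F121758 (iv F121171) (iv F143650)
theorem F152622 : act 7 n32951 = n31016 := d39_2 D30990 D32951 (iv D31016) (iv D27218) (iv F121164)
theorem F152623 : act 8 n32951 = n31149 := d40_2 (iv F143651) D32951 F144409
theorem F152624 : act 9 n32951 = n31062 := d41_2 (iv F143652) D32951 (iv D31062)
def n32952 : Q := act 6 n30991
theorem D32952 : act 6 n30991 = n32952 := rfl
theorem F152625 : act 0 n32952 = n32952 := d5_1 D32952 (iv D32952) F143653
theorem F152626 : act 2 n32952 = n31144 := d20_1 D32952 F144396 (iv F143654)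
theorem F152627 : act 3 n32952 = n31121 := d26_1 D32952 (iv D31121) (iv F143655)
theorem F152628 : act 4 n32952 = n30992 := d31_1 D32952 (iv D30992) (iv F143656)
theorem F152629 : act 7 n32952 = n31018 := d39_2 D30991 D32952 (iv D31018) (iv D27220) (iv F121178)
theorem F152630 : act 8 n32952 = n31124 := d40_2 (iv F143658) D32952 (iv D31124)
theorem F152631 : act 9 n32952 = n31063 := d41_2 (iv F143659) D32952 (iv D31063)
def n32953 : Q := act 8 n30992
theorem D32953 : act 8 n30992 = n32953 := rfl
theorem F152632 : act 0 n32953 = n32953 := d7_1 D32953 (iv D32953) F143660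
theorem F152633 : act 2 n32953 = n31149 := d22_1 D32953 (iv F152623) F152618
theorem F152634 : act 3 n32953 = n30994 := d28_1 D32953 (iv D30994) (iv F143661)
theorem F152635 : act 4 n32953 = n31124 := d33_1 D32953 (iv F152630) F152628
theorem F152636 : act 6 n32953 = n30993 := d40_1 D32953 (iv D30993) D30992
theorem F152637 : act 7 n32953 = n31019 := d42_1 D32953 (iv D31019) (iv F143663)
theorem F152638 : act 9 n32953 = n31125 := d44_2 (iv F143664) D32953 F144326 F144063 (iv D31064)
def n32954 : Q := act 5 n30994
theorem D32954 : act 5 n30994 = n32954 := rfl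
theorem F152639 : act 0 n32954 = n32954 := d4_1 D32954 (iv D32954) F143672
theorem F152640 : act 2 n32954 = n31053 := d19_1 D32954 (iv D31053) (iv F143673)
theorem F152641 : act 4 n32954 = n31138 := d30_1 D32954 (iv D31138) F123413 (iv F135503) (iv F143674)
theorem F152642 : act 6 n32954 = n32954 := d35_2 (iv F143675) D32954 (iv D32954) F143675 F121201
theorem F152643 : act 7 n32954 = n31021 := d36_2 (iv F143676) D32954 (iv D31021)
theorem F152644 : act 8 n32954 = n31073 := d37_2 D30994 D32954 (iv D31073) (iv D27301) (iv F121195)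
def n32955 : Q := act 9 n30994
theorem D32955 : act 9 n30994 = n32955 := rfl
theorem F152645 : act 0 n32955 = n32955 := d8_1 D32955 (iv D32955) F143672
theorem F152646 : act 2 n32955 = n31054 := d23_1 D32955 (iv D31054) (iv F143673)
theorem F152647 : act 3 n32955 = n31125 := d29_1 D32955 (iv F152638) F152634
theorem F152648 : act 4 n32955 = n31122 := d34_1 D32955 (iv D31122) (iv F143674)
theorem F152649 : act 6 n32955 = n30995 := d41_1 D32955 (iv D30995) (iv F143675)
theorem F152650 : act 7 n32955 = n31022 := d43_1 D32955 (iv D31022) (iv F143676)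
theorem F152651 : act 8 n32955 = n31066 := d44_1 D32955 (iv D31066) (iv D27292) (iv F121197) D30994
def n32956 : Q := act 7 n30996
theorem D32956 : act 7 n30996 = n32956 := rfl
theorem F152652 : act 0 n32956 = n30997 := d6_1 D32956 (iv D30997) (iv F143684)
theorem F152653 : act 1 n32956 = n32956 := d14_1 D32956 (iv D32956) F143685
theorem F152654 : act 3 n32956 = n31061 := d27_1 D32956 (iv D31061) (iv F143686)
theorem F152655 : act 4 n32956 = n32956 := d32_1 D32956 (iv D32956) F143687
theorem F152656 : act 6 n32956 = n31013 := d39_1 D32956 (iv D31013) (iv D27214) (iv F121214) D30996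
theorem F152657 : act 8 n32956 = n31023 := d42_2 (iv F143688) D32956 (iv D31023)
theorem F152658 : act 9 n32956 = n31044 := d43_2 (iv F143689) D32956 (iv D31044)
def n32957 : Q := act 6 n30998
theorem D32957 : act 6 n30998 = n32957 := rfl
theorem F152659 : act 0 n32957 = n32957 := d5_1 D32957 (iv D32957) F143696
theorem F152660 : act 2 n32957 = n31000 := d20_1 D32957 (iv D31000) (iv F143697)
theorem F152661 : act 3 n32957 = n31062 := d26_1 D32957 (iv D31062) (iv F143698)
theorem F152662 : act 4 n32957 = n31072 := d31_1 D32957 F144090 (iv F143699)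
theorem F152663 : act 5 n32957 = n31016 := d35_1 D32957 (iv D31016) F121355 (iv F121233) (iv F143700)
theorem F152664 : act 7 n32957 = n31070 := d39_2 D30998 D32957 (iv D31070) (iv D27297) (iv F121225)
theorem F152665 : act 8 n32957 = n31071 := d40_2 (iv F143701) D32957 (iv D31071)
theorem F152666 : act 9 n32957 = n31047 := d41_2 (iv F143702) D32957 (iv D31047)
def n32958 : Q := act 6 n30999
theorem D32958 : act 6 n30999 = n32958 := rfl
theorem F152667 : act 0 n32958 = n32958 := d5_1 D32958 (iv D32958) F143703
theorem F152668 : act 2 n32958 = n31072 := d20_1 D32958 F144090 (iv F143704)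
theorem F152669 : act 3 n32958 = n31133 := d26_1 D32958 (iv D31133) (iv F143705)
theorem F152670 : act 4 n32958 = n31000 := d31_1 D32958 (iv D31000) (iv F143706)
theorem F152671 : act 7 n32958 = n31071 := d39_2 D30999 D32958 (iv D31071) (iv D27298) (iv F121240)
theorem F152672 : act 8 n32958 = n31070 := d40_2 (iv F143708) D32958 (iv D31070)
theorem F152673 : act 9 n32958 = n31049 := d41_2 (iv F143709) D32958 (iv D31049)
def n32959 : Q := act 8 n31000
theorem D32959 : act 8 n31000 = n32959 := rfl
theorem F152674 : act 0 n32959 = n32959 := d7_1 D32959 (iv D32959) F143710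
theorem F152675 : act 2 n32959 = n31071 := d22_1 D32959 (iv F152665) F152660
theorem F152676 : act 3 n32959 = n31002 := d28_1 D32959 (iv D31002) (iv F143711)
theorem F152677 : act 4 n32959 = n31070 := d33_1 D32959 (iv F152672) F152670
theorem F152678 : act 6 n32959 = n31001 := d40_1 D32959 (iv D31001) D31000
theorem F152679 : act 7 n32959 = n31072 := d42_1 D32959 (iv D31072) (iv F143713)
theorem F152680 : act 9 n31081 = n32959 := d41_0 F152678 (iv F143721) D31081
def n32960 : Q := act 5 n31002
theorem D32960 : act 5 n31002 = n32960 := rfl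
theorem F152681 : act 0 n32960 = n32960 := d4_1 D32960 (iv D32960) F143722
theorem F152682 : act 2 n32960 = n31065 := d19_1 D32960 (iv D31065) (iv F143723)
theorem F152683 : act 6 n32960 = n31027 := d35_2 (iv F143725) D32960 (iv D31027) F121434 (iv F121263)
theorem F152684 : act 7 n32960 = n31073 := d36_2 (iv F143726) D32960 (iv D31073)
theorem F152685 : act 8 n32960 = n31021 := d37_2 D31002 D32960 (iv D31021) (iv D27225) (iv F121257)
theorem F152686 : act 4 n31147 = n32960 := d33_3 F152685 F143829 D31147
def n32961 : Q := act 9 n31002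
theorem D32961 : act 9 n31002 = n32961 := rfl
theorem F152687 : act 0 n32961 = n32961 := d8_1 D32961 (iv D32961) F143722
theorem F152688 : act 2 n32961 = n31066 := d23_1 D32961 (iv D31066) (iv F143723)
theorem F152689 : act 3 n32961 = n31081 := d29_1 D32961 F152680 F152676
theorem F152690 : act 4 n32961 = n31136 := d34_1 D32961 (iv D31136) (iv F143724)
theorem F152691 : act 6 n32961 = n31003 := d41_1 D32961 (iv D31003) (iv F143725)
theorem F152692 : act 7 n32961 = n31074 := d43_1 D32961 (iv D31074) (iv F143726)
theorem F152693 : act 8 n32961 = n31054 := d44_1 D32961 (iv D31054) (iv D27274) (iv F121259) D31002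
def n32962 : Q := act 7 n31004
theorem D32962 : act 7 n31004 = n32962 := rfl
theorem F152694 : act 0 n32962 = n31005 := d6_1 D32962 (iv D31005) (iv F143734)
theorem F152695 : act 1 n32962 = n32962 := d14_1 D32962 (iv D32962) F143735
theorem F152696 : act 3 n32962 = n31068 := d27_1 D32962 (iv D31068) (iv F143736)
theorem F152697 : act 4 n32962 = n32962 := d32_1 D32962 (iv D32962) F143737
theorem F152698 : act 6 n32962 = n31044 := d39_1 D32962 (iv D31044) (iv D27263) (iv F121276) D31004
theorem F152699 : act 8 n32962 = n32962 := d42_2 F143738 D32962 (iv D32962)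
theorem F152700 : act 9 n32962 = n31013 := d43_2 (iv F143739) D32962 (iv D31013)
def n32963 : Q := act 6 n31006
theorem D32963 : act 6 n31006 = n32963 := rfl
theorem F152701 : act 0 n32963 = n32963 := d5_1 D32963 (iv D32963) F143746
theorem F152702 : act 2 n32963 = n31008 := d20_1 D32963 (iv D31008) (iv F143747)
theorem F152703 : act 3 n32963 = n31070 := d26_1 D32963 (iv D31070) (iv F143748)
theorem F152704 : act 4 n32963 = n31134 := d31_1 D32963 F144360 (iv F143749)
theorem F152705 : act 5 n32963 = n31047 := d35_1 D32963 (iv D31047) F121608 (iv F121295) (iv F143750)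
theorem F152706 : act 7 n32963 = n31062 := d39_2 D31006 D32963 (iv D31062) (iv D27288) (iv F121287)
theorem F152707 : act 8 n32963 = n31133 := d40_2 (iv F143751) D32963 (iv D31133)
theorem F152708 : act 9 n32963 = n31016 := d41_2 (iv F143752) D32963 (iv D31016)
def n32964 : Q := act 6 n31007
theorem D32964 : act 6 n31007 = n32964 := rfl
theorem F152709 : act 0 n32964 = n32964 := d5_1 D32964 (iv D32964) F143753
theorem F152710 : act 2 n32964 = n31134 := d20_1 D32964 F144360 (iv F143754)
theorem F152711 : act 3 n32964 = n31127 := d26_1 D32964 (iv D31127) (iv F143755)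
theorem F152712 : act 4 n32964 = n31008 := d31_1 D32964 (iv D31008) (iv F143756)
theorem F152713 : act 7 n32964 = n31063 := d39_2 D31007 D32964 (iv D31063) (iv D27289) (iv F121302)
theorem F152714 : act 8 n32964 = n31132 := d40_2 (iv F143758) D32964 (iv D31132)
theorem F152715 : act 9 n32964 = n31018 := d41_2 (iv F143759) D32964 (iv D31018)
def n32965 : Q := act 8 n31008
theorem D32965 : act 8 n31008 = n32965 := rfl
theorem F152716 : act 0 n32965 = n32965 := d7_1 D32965 (iv D32965) F143760
theorem F152717 : act 2 n32965 = n31133 := d22_1 D32965 (iv F152707) F152702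
theorem F152718 : act 3 n32965 = n31010 := d28_1 D32965 (iv D31010) (iv F143761)
theorem F152719 : act 4 n32965 = n31132 := d33_1 D32965 (iv F152714) F152712
theorem F152720 : act 6 n32965 = n31009 := d40_1 D32965 (iv D31009) D31008
theorem F152721 : act 7 n32965 = n31064 := d42_1 D32965 (iv D31064) (iv F143763)
theorem F152722 : act 9 n31137 = n32965 := d43_0 F152721 (iv F144063) (iv F144372)
def n32966 : Q := act 5 n31010
theorem D32966 : act 5 n31010 = n32966 := rfl
theorem F152723 : act 0 n32966 = n32966 := d4_1 D32966 (iv D32966) F143772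
theorem F152724 : act 2 n32966 = n31073 := d19_1 D32966 (iv D31073) (iv F143773)
theorem F152725 : act 6 n32966 = n32966 := d35_2 (iv F143775) D32966 (iv D32966) F143775 F121325
theorem F152726 : act 7 n32966 = n31065 := d36_2 (iv F143776) D32966 (iv D31065)
theorem F152727 : act 8 n32966 = n31053 := d37_2 D31010 D32966 (iv D31053) (iv D27274) (iv F121319)
def n32967 : Q := act 9 n31010
theorem D32967 : act 9 n31010 = n32967 := rfl
theorem F152728 : act 0 n32967 = n32967 := d8_1 D32967 (iv D32967) F143772
theorem F152729 : act 2 n32967 = n31074 := d23_1 D32967 (iv D31074) (iv F143773)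
theorem F152730 : act 3 n32967 = n31137 := d29_1 D32967 F152722 F152718
theorem F152731 : act 4 n32967 = n31130 := d34_1 D32967 (iv D31130) (iv F143774)
theorem F152732 : act 6 n32967 = n31011 := d41_1 D32967 (iv D31011) (iv F143775)
theorem F152733 : act 7 n32967 = n31066 := d43_1 D32967 (iv D31066) (iv F143776)
theorem F152734 : act 8 n32967 = n31022 := d44_1 D32967 (iv D31022) (iv D27225) (iv F121321) D31010
def n32968 : Q := act 7 n31012
theorem D32968 : act 7 n31012 = n32968 := rfl
theorem F152735 : act 0 n32968 = n31014 := d6_1 D32968 (iv D31014) (iv F143784)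
theorem F152736 : act 1 n32968 = n32968 := d14_1 D32968 (iv D32968) F143785
theorem F152737 : act 3 n32968 = n31076 := d27_1 D32968 (iv D31076) (iv F143786)
theorem F152738 : act 5 n32968 = n31013 := d36_1 D32968 (iv D31013) D31012
def n32969 : Q := act 6 n31014
theorem D32969 : act 6 n31014 = n32969 := rfl
theorem F152739 : act 1 n32969 = n31016 := d13_1 D32969 (iv D31016) (iv F143792)
theorem F152740 : act 3 n32969 = n31079 := d26_1 D32969 (iv D31079) (iv F143793)
def n32970 : Q := act 6 n31015
theorem D32970 : act 6 n31015 = n32970 := rfl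
theorem F152741 : act 0 n32970 = n32970 := d5_1 D32970 (iv D32970) F143795
theorem F152742 : act 2 n32970 = n31018 := d20_1 D32970 (iv D31018) (iv F143796)
theorem F152743 : act 3 n32970 = n31136 := d26_1 D32970 F144366 (iv F143797)
theorem F152744 : act 4 n32970 = n31016 := d31_1 D32970 (iv D31016) (iv F143798)
theorem F152745 : act 7 n32970 = n31144 := d39_2 D31015 D32970 F144396 F123597 (iv F121349)
theorem F152746 : act 8 n32970 = n31140 := d40_2 (iv F143800) D32970 F144383
theorem F152747 : act 9 n32970 = n31134 := d41_2 (iv F143801) D32970 F144360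
def n32971 : Q := act 8 n31016
theorem D32971 : act 8 n31016 = n32971 := rfl
theorem F152748 : act 0 n32971 = n32971 := d7_1 D32971 (iv D32971) F143802
theorem F152749 : act 2 n32971 = n31019 := d22_1 D32971 (iv D31019) (iv F143803)
theorem F152750 : act 3 n32971 = n31082 := d28_1 D32971 (iv D31082) (iv F143804)
theorem F152751 : act 4 n32971 = n31140 := d33_1 D32971 (iv F152746) F152744
theorem F152752 : act 6 n32971 = n31017 := d40_1 D32971 (iv D31017) D31016
theorem F152753 : act 7 n32971 = n31149 := d42_1 D32971 (iv F152623) F152622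
theorem F152754 : act 9 n32971 = n31139 := d44_2 F152708 D32971 (iv D31139) (iv F144357) (iv F152707)
def n32972 : Q := act 5 n31018
theorem D32972 : act 5 n31018 = n32972 := rfl
theorem F152755 : act 0 n32972 = n32972 := d4_1 D32972 (iv D32972) F143812
theorem F152756 : act 3 n32972 = n31131 := d25_1 D32972 (iv D31131) (iv F143813)
theorem F152757 : act 6 n32972 = n32972 := d35_2 D31018 D32972 (iv D32972) (iv D31018) F121366
def n32973 : Q := act 5 n31019
theorem D32973 : act 5 n31019 = n32973 := rfl
theorem F152758 : act 0 n32973 = n32973 := d4_1 D32973 (iv D32973) F143816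
theorem F152759 : act 3 n32973 = n31021 := d25_1 D32973 (iv D31021) (iv F143817)
theorem F152760 : act 6 n32973 = n31039 := d35_2 (iv F143819) D32973 (iv D31039) F121518 (iv F121378)
def n32974 : Q := act 9 n31019
theorem D32974 : act 9 n31019 = n32974 := rfl
theorem F152761 : act 0 n32974 = n32974 := d8_1 D32974 (iv D32974) F143816
theorem F152762 : act 2 n32974 = n31139 := d23_1 D32974 (iv F152754) F152749
theorem F152763 : act 3 n32974 = n31022 := d29_1 D32974 (iv D31022) (iv F143817)
theorem F152764 : act 4 n32974 = n31119 := d34_1 D32974 F144293 (iv F143818)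
theorem F152765 : act 6 n32974 = n31020 := d41_1 D32974 (iv D31020) (iv F143819)
theorem F152766 : act 7 n32974 = n31125 := d43_1 D32974 (iv F152638) F152637
theorem F152767 : act 8 n32974 = n31137 := d44_1 D32974 F152722 (iv D32965) F143764 D31019
def n32975 : Q := act 9 n31021
theorem D32975 : act 9 n31021 = n32975 := rfl
theorem F152768 : act 0 n32975 = n32975 := d8_1 D32975 (iv D32975) F143827
theorem F152769 : act 2 n32975 = n31088 := d23_1 D32975 (iv D31088) (iv F143828)
theorem F152770 : act 4 n32975 = n31142 := d34_1 D32975 F144390 (iv F143829)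
theorem F152771 : act 5 n32975 = n31022 := d38_1 D32975 (iv D31022) D31021
theorem F152772 : act 6 n32975 = n31041 := d41_1 D32975 (iv D31041) (iv F143830)
def n32976 : Q := act 5 n31025
theorem D32976 : act 5 n31025 = n32976 := rfl
theorem F152773 : act 0 n32976 = n32976 := d4_1 D32976 (iv D32976) F143849
theorem F152774 : act 2 n32976 = n31111 := d19_1 D32976 (iv D31111) (iv F143850)
theorem F152775 : act 3 n32976 = n32976 := d25_1 D32976 (iv D32976) F143851
theorem F152776 : act 4 n32976 = n31038 := d30_1 D32976 (iv D31038) F121495 (iv F121422) (iv F143852)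
theorem F152777 : act 6 n32976 = n32976 := d35_2 D31025 D32976 (iv D32976) (iv D31025) F121417
theorem F152778 : act 7 n32976 = n32976 := d36_2 F143853 D32976 (iv D32976)
theorem F152779 : act 8 n32976 = n31159 := d37_2 (iv F143854) D32976 F144446 (iv F144214) F144212
theorem F152780 : act 9 n32976 = n32976 := d38_2 F143855 D32976 (iv D32976)
def n32977 : Q := act 5 n31026
theorem D32977 : act 5 n31026 = n32977 := rfl
theorem F152781 : act 0 n32977 = n32977 := d4_1 D32977 (iv D32977) F143856
theorem F152782 : act 2 n32977 = n31110 := d19_1 D32977 (iv D31110) (iv F143857)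
theorem F152783 : act 3 n32977 = n31027 := d25_1 D32977 (iv D31027) (iv F143858)
theorem F152784 : act 4 n32977 = n31158 := d30_1 D32977 F144442 (iv F144211) F144212 (iv F143859)
theorem F152785 : act 7 n32977 = n32977 := d36_2 F143861 D32977 (iv D32977)
theorem F152786 : act 8 n32977 = n31039 := d37_2 D31026 D32977 (iv D31039) (iv D27249) (iv F121422)
theorem F152787 : act 9 n32977 = n31115 := d38_2 F143862 D32977 (iv D31115)
def n32978 : Q := act 9 n31027
theorem D32978 : act 9 n31027 = n32978 := rfl
theorem F152788 : act 0 n32978 = n32978 := d8_1 D32978 (iv D32978) F143863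
theorem F152789 : act 2 n32978 = n31091 := d23_1 D32978 (iv D31091) (iv F143864)
theorem F152790 : act 3 n32978 = n31115 := d29_1 D32978 (iv F152787) F152783
theorem F152791 : act 4 n32978 = n31150 := d34_1 D32978 (iv D31150) F143867
theorem F152792 : act 5 n32978 = n31028 := d38_1 D32978 (iv D31028) D31027
theorem F152793 : act 7 n32978 = n32978 := d43_1 D32978 (iv D32978) F143865
def n32979 : Q := act 5 n31036
theorem D32979 : act 5 n31036 = n32979 := rfl
theorem F152794 : act 0 n32979 = n32979 := d4_1 D32979 (iv D32979) F143913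
theorem F152795 : act 2 n32979 = n31039 := d19_1 D32979 (iv D31039) (iv F143914)
theorem F152796 : act 3 n32979 = n31097 := d25_1 D32979 (iv D31097) (iv F143915)
theorem F152797 : act 4 n32979 = n31154 := d30_1 D32979 (iv D31154) (iv F135680) F135681 (iv F143916)
theorem F152798 : act 7 n32979 = n32979 := d36_2 F143918 D32979 (iv D32979)
theorem F152799 : act 8 n32979 = n31110 := d37_2 D31036 D32979 (iv D31110) (iv F143847) F143845
theorem F152800 : act 9 n32979 = n31157 := d38_2 F144483 D32979 (iv F144479)
def n32980 : Q := act 4 n31039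
theorem D32980 : act 4 n31039 = n32980 := rfl
theorem F152801 : act 0 n32980 = n32980 := d3_1 D32980 (iv D32980) F143931
theorem F152802 : act 2 n32980 = n31154 := d18_1 D32980 (iv F152797) F152795
theorem F152803 : act 3 n32980 = n31107 := d24_1 D32980 F144238 F122158 (iv F135552) (iv F143932)
theorem F152804 : act 5 n32980 = n31101 := d30_2 D31039 D32980 F144198 F122006 (iv F135550)
theorem F152805 : act 7 n32980 = n32980 := d32_2 F143933 D32980 (iv D32980)
theorem F152806 : act 8 n32980 = n31158 := d33_2 F152786 D32980 (iv F152784)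
theorem F152807 : act 9 n31153 = n32980 := d44_0 F152806 (iv D31158) F144436 (iv D31156) (iv F144422)
def n32981 : Q := act 9 n31039
theorem D32981 : act 9 n31039 = n32981 := rfl
theorem F152808 : act 0 n32981 = n32981 := d8_1 D32981 (iv D32981) F143931
theorem F152809 : act 2 n32981 = n31157 := d23_1 D32981 (iv F152800) F152795
theorem F152810 : act 3 n32981 = n31041 := d29_1 D32981 (iv D31041) (iv F143932)
theorem F152811 : act 4 n32981 = n31153 := d34_1 D32981 F152807 (iv D32980)
theorem F152812 : act 5 n32981 = n31040 := d38_1 D32981 (iv D31040) D31039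
theorem F152813 : act 7 n32981 = n32981 := d43_1 D32981 (iv D32981) F143933
theorem F152814 : act 8 n31155 = n32981 := d33_0 F152811 F144422 D31155
def n32982 : Q := act 8 n31041
theorem D32982 : act 8 n31041 = n32982 := rfl
theorem F152815 : act 0 n32982 = n32982 := d7_1 D32982 (iv D32982) F143940
theorem F152816 : act 2 n32982 = n31099 := d22_1 D32982 F144190 (iv F143941)
theorem F152817 : act 3 n32982 = n31155 := d28_1 D32982 F152814 F152810
theorem F152818 : act 4 n32982 = n31097 := d33_1 D32982 F144180 (iv F143942)
theorem F152819 : act 5 n32982 = n32982 := d37_1 D32982 (iv D32982) F143943 F121532 (iv F143943)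
theorem F152820 : act 7 n32982 = n32982 := d42_1 D32982 (iv D32982) F143944
def n32983 : Q := act 7 n31043
theorem D32983 : act 7 n31043 = n32983 := rfl
theorem F152821 : act 0 n32983 = n31045 := d6_1 D32983 (iv D31045) (iv F143951)
theorem F152822 : act 1 n32983 = n32983 := d14_1 D32983 (iv D32983) F143952
theorem F152823 : act 5 n32983 = n31044 := d36_1 D32983 (iv D31044) D31043
def n32984 : Q := act 6 n31045
theorem D32984 : act 6 n31045 = n32984 := rfl
theorem F152824 : act 1 n32984 = n31047 := d13_1 D32984 (iv D31047) (iv F143958)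
theorem F152825 : act 7 n32984 = n31079 := d39_2 D31045 D32984 (iv D31079) (iv D27306) (iv F121595)
def n32985 : Q := act 6 n31046
theorem D32985 : act 6 n31046 = n32985 := rfl
theorem F152826 : act 0 n32985 = n32985 := d5_1 D32985 (iv D32985) F143960
theorem F152827 : act 2 n32985 = n31049 := d20_1 D32985 (iv D31049) (iv F143961)
theorem F152828 : act 3 n32985 = n31074 := d26_1 D32985 F144095 (iv F143962)
theorem F152829 : act 4 n32985 = n31047 := d31_1 D32985 (iv D31047) (iv F143963)
theorem F152830 : act 7 n32985 = n31081 := d39_2 D31046 D32985 (iv D31081) (iv D27308) (iv F121603)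
theorem F152831 : act 8 n32985 = n31086 := d40_2 (iv F143965) D32985 F144131
theorem F152832 : act 9 n32985 = n31072 := d41_2 (iv F143966) D32985 F144090
def n32986 : Q := act 8 n31047
theorem D32986 : act 8 n31047 = n32986 := rfl
theorem F152833 : act 0 n32986 = n32986 := d7_1 D32986 (iv D32986) F143967
theorem F152834 : act 2 n32986 = n31051 := d22_1 D32986 (iv D31051) (iv F143968)
theorem F152835 : act 3 n32986 = n31149 := d28_1 D32986 (iv F152623) F152619
theorem F152836 : act 4 n32986 = n31086 := d33_1 D32986 (iv F152831) F152829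
theorem F152837 : act 6 n32986 = n31048 := d40_1 D32986 (iv D31048) D31047
theorem F152838 : act 7 n32986 = n31082 := d42_1 D32986 (iv D31082) (iv F143969)
theorem F152839 : act 9 n32986 = n31084 := d44_2 F152666 D32986 (iv D31084) (iv F144087) (iv F152665)
def n32987 : Q := act 5 n31049
theorem D32987 : act 5 n31049 = n32987 := rfl
theorem F152840 : act 0 n32987 = n32987 := d4_1 D32987 (iv D32987) F143977
theorem F152841 : act 3 n32987 = n31138 := d25_1 D32987 (iv D31138) (iv F143978)
theorem F152842 : act 6 n32987 = n32987 := d35_2 D31049 D32987 (iv D32987) (iv D31049) F121619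
theorem F152843 : act 7 n32987 = n31083 := d36_2 (iv F143980) D32987 (iv D31083)
def n32988 : Q := act 8 n31049
theorem D32988 : act 8 n31049 = n32988 := rfl
theorem F152844 : act 0 n32988 = n32988 := d7_1 D32988 (iv D32988) F143977
theorem F152845 : act 2 n32988 = n31086 := d22_1 D32988 (iv F152831) F152827
theorem F152846 : act 3 n32988 = n31139 := d28_1 D32988 (iv D31139) (iv F143978)
theorem F152847 : act 4 n32988 = n31051 := d33_1 D32988 (iv D31051) (iv F143979)
theorem F152848 : act 6 n32988 = n31050 := d40_1 D32988 (iv D31050) D31049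
theorem F152849 : act 7 n32988 = n31084 := d42_1 D32988 (iv D31084) (iv F143980)
theorem F152850 : act 9 n32988 = n31082 := d44_2 F152673 D32988 (iv D31082) (iv F144083) (iv F152672)
def n32989 : Q := act 5 n31051
theorem D32989 : act 5 n31051 = n32989 := rfl
theorem F152851 : act 0 n32989 = n32989 := d4_1 D32989 (iv D32989) F143988
theorem F152852 : act 3 n32989 = n31053 := d25_1 D32989 (iv D31053) (iv F143989)
theorem F152853 : act 6 n32989 = n32989 := d35_2 (iv F143990) D32989 (iv D32989) F143990 F121632
theorem F152854 : act 7 n32989 = n31085 := d36_2 (iv F143991) D32989 (iv D31085)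
def n32990 : Q := act 9 n31051
theorem D32990 : act 9 n31051 = n32990 := rfl
theorem F152855 : act 0 n32990 = n32990 := d8_1 D32990 (iv D32990) F143988
theorem F152856 : act 2 n32990 = n31084 := d23_1 D32990 (iv F152839) F152834
theorem F152857 : act 3 n32990 = n31054 := d29_1 D32990 (iv D31054) (iv F143989)
theorem F152858 : act 4 n32990 = n31082 := d34_1 D32990 (iv F152850) F152847
theorem F152859 : act 6 n32990 = n31052 := d41_1 D32990 (iv D31052) (iv F143990)
theorem F152860 : act 7 n32990 = n31086 := d43_1 D32990 (iv D31086) (iv F143991)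
theorem F152861 : act 8 n32990 = n31081 := d44_1 D32990 F152680 (iv D32959) F143714 D31051
def n32991 : Q := act 4 n31053
theorem D32991 : act 4 n31053 = n32991 := rfl
theorem F152862 : act 0 n32991 = n32991 := d3_1 D32991 (iv D32991) F143999
theorem F152863 : act 2 n32991 = n31138 := d18_1 D32991 (iv F152641) F152640
theorem F152864 : act 5 n32991 = n31137 := d30_2 D31053 D32991 F144371 F135507 (iv F121642)
theorem F152865 : act 6 n32991 = n32991 := d31_2 F144000 D32991 (iv D32991)
theorem F152866 : act 7 n32991 = n31087 := d32_2 (iv F144001) D32991 (iv D31087)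
def n32992 : Q := act 9 n31053
theorem D32992 : act 9 n31053 = n32992 := rfl
theorem F152867 : act 0 n32992 = n32992 := d8_1 D32992 (iv D32992) F143999
theorem F152868 : act 5 n32992 = n31054 := d38_1 D32992 (iv D31054) D31053
theorem F152869 : act 6 n32992 = n32992 := d41_1 D32992 (iv D32992) F144000
theorem F152870 : act 7 n32992 = n31088 := d43_1 D32992 (iv D31088) (iv F144001)
def n32993 : Q := act 6 n31055
theorem D32993 : act 6 n31055 = n32993 := rfl
theorem F152871 : act 0 n32993 = n32993 := d5_1 D32993 (iv D32993) F144006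
theorem F152872 : act 2 n32993 = n31057 := d20_1 D32993 (iv D31057) (iv F144007)
theorem F152873 : act 3 n32993 = n31132 := d26_1 D32993 (iv D31132) (iv F144008)
theorem F152874 : act 4 n32993 = n31128 := d31_1 D32993 F144337 (iv F144009)
theorem F152875 : act 5 n32993 = n31140 := d35_1 D32993 F144383 F135517 (iv F121672) (iv F144010)
theorem F152876 : act 7 n32993 = n31126 := d39_2 D31055 D32993 F144331 F122954 (iv F135459)
theorem F152877 : act 8 n32993 = n31127 := d40_2 (iv F144011) D32993 (iv D31127)
theorem F152878 : act 9 n32993 = n31120 := d41_2 (iv F144012) D32993 F144299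
def n32994 : Q := act 6 n31056
theorem D32994 : act 6 n31056 = n32994 := rfl
theorem F152879 : act 0 n32994 = n32994 := d5_1 D32994 (iv D32994) F144013
theorem F152880 : act 2 n32994 = n31128 := d20_1 D32994 F144337 (iv F144014)
theorem F152881 : act 3 n32994 = n31063 := d26_1 D32994 (iv D31063) (iv F144015)
theorem F152882 : act 4 n32994 = n31057 := d31_1 D32994 (iv D31057) (iv F144016)
theorem F152883 : act 7 n32994 = n31127 := d39_2 D31056 D32994 (iv D31127) (iv D27584) (iv F121679)
theorem F152884 : act 8 n32994 = n31126 := d40_2 (iv F144018) D32994 F144331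
theorem F152885 : act 9 n32994 = n31121 := d41_2 (iv F144019) D32994 (iv D31121)
def n32995 : Q := act 8 n31057
theorem D32995 : act 8 n31057 = n32995 := rfl
theorem F152886 : act 0 n32995 = n32995 := d7_1 D32995 (iv D32995) F144020
theorem F152887 : act 2 n32995 = n31127 := d22_1 D32995 (iv F152877) F152872
theorem F152888 : act 3 n32995 = n31059 := d28_1 D32995 (iv D31059) (iv F144021)
theorem F152889 : act 4 n32995 = n31126 := d33_1 D32995 (iv F152884) F152882
theorem F152890 : act 6 n32995 = n31058 := d40_1 D32995 (iv D31058) D31057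
theorem F152891 : act 7 n32995 = n31128 := d42_1 D32995 (iv D31128) (iv F144023)
theorem F152892 : act 9 n32995 = n31123 := d44_2 (iv F144024) D32995 (iv D31123) F122844 (iv F135495)
def n32996 : Q := act 5 n31059
theorem D32996 : act 5 n31059 = n32996 := rfl
theorem F152893 : act 0 n32996 = n32996 := d4_1 D32996 (iv D32996) F144032
theorem F152894 : act 2 n32996 = n31135 := d19_1 D32996 (iv D31135) (iv F144033)
theorem F152895 : act 6 n32996 = n32996 := d35_2 (iv F144035) D32996 (iv D32996) F144035 F121702
theorem F152896 : act 7 n32996 = n31129 := d36_2 (iv F144036) D32996 (iv D31129)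
theorem F152897 : act 8 n32996 = n31131 := d37_2 D31059 D32996 (iv D31131) F135497 (iv F121696)
def n32997 : Q := act 9 n31059
theorem D32997 : act 9 n31059 = n32997 := rfl
theorem F152898 : act 0 n32997 = n32997 := d8_1 D32997 (iv D32997) F144032
theorem F152899 : act 2 n32997 = n31136 := d23_1 D32997 (iv D31136) (iv F144033)
theorem F152900 : act 3 n32997 = n31123 := d29_1 D32997 (iv F152892) F152888
theorem F152901 : act 4 n32997 = n31066 := d34_1 D32997 (iv D31066) (iv F144034)
theorem F152902 : act 6 n32997 = n31060 := d41_1 D32997 (iv D31060) (iv F144035)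
theorem F152903 : act 7 n32997 = n31130 := d43_1 D32997 (iv D31130) (iv F144036)
theorem F152904 : act 8 n32997 = n31122 := d44_1 D32997 (iv D31122) (iv D27545) (iv F121698) D31059
def n32998 : Q := act 5 n31063
theorem D32998 : act 5 n31063 = n32998 := rfl
theorem F152905 : act 0 n32998 = n32998 := d4_1 D32998 (iv D32998) F144054
theorem F152906 : act 2 n32998 = n31143 := d19_1 D32998 (iv D31143) (iv F144055)
theorem F152907 : act 4 n32998 = n31083 := d30_1 D32998 (iv D31083) F121804 (iv F121731) (iv F144056)
theorem F152908 : act 6 n32998 = n31107 := d35_2 D31063 D32998 (iv D31107) (iv D27366) (iv F121727)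
theorem F152909 : act 8 n32998 = n31146 := d37_2 (iv F144057) D32998 F144401 F123603 (iv F135515)
def n32999 : Q := act 5 n31064
theorem D32999 : act 5 n31064 = n32999 := rfl
theorem F152910 : act 0 n32999 = n32999 := d4_1 D32999 (iv D32999) F144058
theorem F152911 : act 2 n32999 = n31142 := d19_1 D32999 (iv D31142) (iv F144059)
theorem F152912 : act 3 n32999 = n31065 := d25_1 D32999 (iv D31065) (iv F144060)
theorem F152913 : act 4 n32999 = n31088 := d30_1 D32999 F144137 F121820 (iv F135515) (iv F144061)
theorem F152914 : act 6 n32999 = n31089 := d35_2 (iv F144062) D32999 (iv D31089) F121846 (iv F121736)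
theorem F152915 : act 8 n32999 = n31085 := d37_2 D31064 D32999 (iv D31085) (iv D27313) (iv F121731)
theorem F152916 : act 9 n32999 = n31087 := d38_2 F144063 D32999 F144134
def n33000 : Q := act 4 n31065
theorem D33000 : act 4 n31065 = n33000 := rfl
theorem F152917 : act 0 n33000 = n33000 := d3_1 D33000 (iv D33000) F144064
theorem F152918 : act 2 n33000 = n31147 := d18_1 D33000 F152686 F152682
theorem F152919 : act 6 n33000 = n31090 := d31_2 (iv F144065) D33000 (iv D31090)
theorem F152920 : act 8 n33000 = n31087 := d33_2 (iv F144066) D33000 (iv D31087)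
def n33001 : Q := act 9 n31065
theorem D33001 : act 9 n31065 = n33001 := rfl
theorem F152921 : act 0 n33001 = n33001 := d8_1 D33001 (iv D33001) F144064
theorem F152922 : act 3 n33001 = n31087 := d29_1 D33001 (iv F152916) F152912
theorem F152923 : act 5 n33001 = n31066 := d38_1 D33001 (iv D31066) D31065
theorem F152924 : act 6 n33001 = n31091 := d41_1 D33001 (iv D31091) (iv F144065)
def n33002 : Q := act 7 n31067
theorem D33002 : act 7 n31067 = n33002 := rfl
theorem F152925 : act 0 n33002 = n31069 := d6_1 D33002 (iv D31069) (iv F144070)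
theorem F152926 : act 1 n33002 = n33002 := d14_1 D33002 (iv D33002) F144071
theorem F152927 : act 5 n33002 = n31068 := d36_1 D33002 (iv D31068) D31067
theorem F152928 : act 9 n33002 = n31076 := d43_2 (iv F144072) D33002 (iv D31076)
def n33003 : Q := act 6 n31069
theorem D33003 : act 6 n31069 = n33003 := rfl
theorem F152929 : act 1 n33003 = n31070 := d13_1 D33003 (iv D31070) (iv F144078)
theorem F152930 : act 9 n33003 = n31079 := d41_2 (iv F144080) D33003 (iv D31079)
def n33004 : Q := act 5 n31071
theorem D33004 : act 5 n31071 = n33004 := rfl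
theorem F152931 : act 0 n33004 = n33004 := d4_1 D33004 (iv D33004) F144084
theorem F152932 : act 3 n33004 = n31142 := d25_1 D33004 (iv D31142) (iv F144085)
theorem F152933 : act 6 n33004 = n31110 := d35_2 D31071 D33004 (iv D31110) (iv D27373) (iv F121763)
theorem F152934 : act 9 n33004 = n31083 := d38_2 (iv F144087) D33004 (iv D31083)
def n33005 : Q := act 5 n31072
theorem D33005 : act 5 n31072 = n33005 := rfl
theorem F152935 : act 0 n33005 = n33005 := d4_1 D33005 (iv D33005) F144088
theorem F152936 : act 3 n33005 = n31073 := d25_1 D33005 (iv D31073) (iv F144089)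
theorem F152937 : act 6 n33005 = n33005 := d35_2 (iv F144090) D33005 (iv D33005) F144090 F121770
def n33006 : Q := act 4 n31073
theorem D33006 : act 4 n31073 = n33006 := rfl
theorem F152938 : act 0 n33006 = n33006 := d3_1 D33006 (iv D33006) F144091
theorem F152939 : act 5 n33006 = n31145 := d30_2 D31073 D33006 (iv D31145) (iv D27746) (iv F121773)
theorem F152940 : act 6 n33006 = n33006 := d31_2 F144092 D33006 (iv D33006)
theorem F152941 : act 7 n33006 = n31147 := d32_2 F152684 D33006 F152686
theorem F152942 : act 8 n33006 = n31138 := d33_2 F152644 D33006 (iv F152641)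
def n33007 : Q := act 9 n31073
theorem D33007 : act 9 n31073 = n33007 := rfl
theorem F152943 : act 0 n33007 = n33007 := d8_1 D33007 (iv D33007) F144091
theorem F152944 : act 5 n33007 = n31074 := d38_1 D33007 (iv D31074) D31073
theorem F152945 : act 6 n33007 = n33007 := d41_1 D33007 (iv D33007) F144092
def n33008 : Q := act 7 n31075
theorem D33008 : act 7 n31075 = n33008 := rfl
theorem F152946 : act 0 n33008 = n31078 := d6_1 D33008 (iv D31078) (iv F144097)
theorem F152947 : act 1 n33008 = n33008 := d14_1 D33008 (iv D33008) F144098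
theorem F152948 : act 4 n33008 = n31076 := d32_1 D33008 (iv D31076) D31075
theorem F152949 : act 5 n33008 = n31112 := d36_1 D33008 (iv D31112) (iv F144099)
def n33009 : Q := act 6 n31076
theorem D33009 : act 6 n31076 = n33009 := rfl
theorem F152950 : act 0 n33009 = n31079 := d5_1 D33009 (iv D31079) (iv F144100)
theorem F152951 : act 1 n33009 = n33009 := d13_1 D33009 (iv D33009) F144101
def n33010 : Q := act 8 n31076
theorem D33010 : act 8 n31076 = n33010 := rfl
theorem F152952 : act 0 n33010 = n31080 := d7_1 D33010 (iv D31080) (iv F144100)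
theorem F152953 : act 1 n33010 = n33010 := d15_1 D33010 (iv D33010) F144101
theorem F152954 : act 5 n33010 = n31093 := d37_1 D33010 (iv D31093) F121861 (iv F121785) (iv F144102)
theorem F152955 : act 7 n33010 = n31077 := d42_1 D33010 (iv D31077) D31076
def n33011 : Q := act 6 n31078
theorem D33011 : act 6 n31078 = n33011 := rfl
theorem F152956 : act 1 n33011 = n31081 := d13_1 D33011 (iv D31081) (iv F144106)
theorem F152957 : act 4 n33011 = n31079 := d31_1 D33011 (iv D31079) (iv F144107)
def n33012 : Q := act 8 n31079
theorem D33012 : act 8 n31079 = n33012 := rfl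
theorem F152958 : act 1 n33012 = n31082 := d15_1 D33012 (iv D31082) (iv F144109)
theorem F152959 : act 6 n33012 = n31080 := d40_1 D33012 (iv D31080) D31079
def n33013 : Q := act 5 n31081
theorem D33013 : act 5 n31081 = n33013 := rfl
theorem F152960 : act 0 n33013 = n33013 := d4_1 D33013 (iv D33013) F144113
theorem F152961 : act 2 n33013 = n31083 := d19_1 D33013 (iv D31083) (iv F144114)
theorem F152962 : act 4 n33013 = n31143 := d30_1 D33013 (iv D31143) (iv F144051) F144052 (iv F144115)
theorem F152963 : act 6 n33013 = n31115 := d35_2 D31081 D33013 (iv D31115) (iv D27380) (iv F121795)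
def n33014 : Q := act 5 n31082
theorem D33014 : act 5 n31082 = n33014 := rfl
theorem F152964 : act 0 n33014 = n33014 := d4_1 D33014 (iv D33014) F144116
theorem F152965 : act 2 n33014 = n31085 := d19_1 D33014 (iv D31085) (iv F144117)
theorem F152966 : act 6 n33014 = n31097 := d35_2 (iv F144118) D33014 (iv D31097) F121881 (iv F121800)
theorem F152967 : act 8 n33014 = n31142 := d37_2 D31082 D33014 (iv D31142) (iv F144053) F144052
def n33015 : Q := act 8 n31083
theorem D33015 : act 8 n31083 = n33015 := rfl
theorem F152968 : act 0 n33015 = n33015 := d7_1 D33015 (iv D33015) F144119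
theorem F152969 : act 3 n33015 = n31147 := d28_1 D33015 (iv D31147) (iv F144120)
theorem F152970 : act 4 n33015 = n31146 := d33_1 D33015 (iv F152909) F152907
theorem F152971 : act 6 n33015 = n31116 := d40_1 D33015 (iv D31116) (iv F144121)
theorem F152972 : act 9 n31145 = n33015 := d41_0 F152971 (iv F144281) (iv F144399)
def n33016 : Q := act 5 n31084
theorem D33016 : act 5 n31084 = n33016 := rfl
theorem F152973 : act 0 n33016 = n33016 := d4_1 D33016 (iv D33016) F144122
theorem F152974 : act 3 n33016 = n31148 := d25_1 D33016 (iv D31148) (iv F144123)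
theorem F152975 : act 6 n33016 = n33016 := d35_2 (iv F144125) D33016 (iv D33016) F144125 F121808
def n33017 : Q := act 4 n31085
theorem D33017 : act 4 n31085 = n33017 := rfl
theorem F152976 : act 0 n33017 = n33017 := d3_1 D33017 (iv D33017) F144126
theorem F152977 : act 6 n33017 = n31099 := d31_2 (iv F144128) D33017 (iv D31099)
theorem F152978 : act 8 n33017 = n31088 := d33_2 F152915 D33017 (iv F152913)
def n33018 : Q := act 9 n31085
theorem D33018 : act 9 n31085 = n33018 := rfl
theorem F152979 : act 0 n33018 = n33018 := d8_1 D33018 (iv D33018) F144126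
theorem F152980 : act 3 n33018 = n31088 := d29_1 D33018 (iv D31088) (iv F144127)
theorem F152981 : act 5 n33018 = n31086 := d38_1 D33018 (iv D31086) D31085
theorem F152982 : act 6 n33018 = n31100 := d41_1 D33018 (iv D31100) (iv F144128)
def n33019 : Q := act 3 n31090
theorem D33019 : act 3 n31090 = n33019 := rfl
theorem F152983 : act 0 n33019 = n33019 := d2_1 D33019 (iv D33019) F144146
theorem F152984 : act 4 n33019 = n31100 := d24_2 D31090 D33019 F144192 (iv F144142) F144141
theorem F152985 : act 5 n33019 = n33019 := d25_2 F144148 D33019 (iv D33019)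
theorem F152986 : act 7 n33019 = n33019 := d27_2 F144149 D33019 (iv D33019)
theorem F152987 : act 8 n33019 = n31091 := d28_2 (iv F144150) D33019 F144152
theorem F152988 : act 9 n31099 = n33019 := d44_0 F152987 (iv D31091) F121851 D27333 (iv F144190)
def n33020 : Q := act 9 n31090
theorem D33020 : act 9 n31090 = n33020 := rfl
theorem F152989 : act 0 n33020 = n33020 := d8_1 D33020 (iv D33020) F144146
theorem F152990 : act 2 n33020 = n31150 := d23_1 D33020 (iv D31150) (iv F144147)
theorem F152991 : act 3 n33020 = n31099 := d29_1 D33020 F152988 (iv D33019)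
theorem F152992 : act 4 n33020 = n31091 := d34_1 D33020 (iv D31091) D31090
theorem F152993 : act 5 n33020 = n33020 := d38_1 D33020 (iv D33020) F144148
theorem F152994 : act 7 n33020 = n33020 := d43_1 D33020 (iv D33020) F144149
theorem F152995 : act 8 n33020 = n31100 := d44_1 D33020 (iv D31100) (iv F144144) F144145 (iv F144150)
def n33021 : Q := act 9 n31097
theorem D33021 : act 9 n31097 = n33021 := rfl
theorem F152996 : act 0 n33021 = n33021 := d8_1 D33021 (iv D33021) F144177
theorem F152997 : act 2 n33021 = n31100 := d23_1 D33021 (iv D31100) (iv F144178)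
theorem F152998 : act 3 n33021 = n31157 := d29_1 D33021 (iv F152800) F152796
theorem F152999 : act 5 n33021 = n31098 := d38_1 D33021 (iv D31098) D31097
theorem F153000 : act 7 n33021 = n33021 := d43_1 D33021 (iv D33021) F144179
theorem F153001 : act 8 n33021 = n31150 := d44_1 D33021 (iv D31150) (iv D27863) (iv F124055) (iv F144180)
def n33022 : Q := act 5 n31104
theorem D33022 : act 5 n31104 = n33022 := rfl
theorem F153002 : act 0 n33022 = n33022 := d4_1 D33022 (iv D33022) F144216
theorem F153003 : act 2 n33022 = n31158 := d19_1 D33022 F144442 (iv F144217)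
theorem F153004 : act 3 n33022 = n31153 := d25_1 D33022 (iv D31153) (iv F144218)
theorem F153005 : act 4 n33022 = n31110 := d30_1 D33022 (iv D31110) F122122 (iv F122050) (iv F144219)
theorem F153006 : act 7 n33022 = n33022 := d36_2 F144220 D33022 (iv D33022)
theorem F153007 : act 8 n33022 = n31154 := d37_2 (iv F144221) D33022 (iv D31154) (iv D28078) (iv F124897)
theorem F153008 : act 9 n33022 = n31107 := d38_2 (iv F144222) D33022 (iv D31107)
def n33023 : Q := act 6 n31108
theorem D33023 : act 6 n31108 = n33023 := rfl
theorem F153009 : act 0 n33023 = n31109 := d5_1 D33023 (iv D31109) (iv F144241)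
theorem F153010 : act 1 n33023 = n33023 := d13_1 D33023 (iv D33023) F144242
theorem F153011 : act 3 n33023 = n33023 := d26_1 D33023 (iv D33023) F144243
theorem F153012 : act 7 n33023 = n33023 := d39_2 D31108 D33023 (iv D33023) (iv D31108) F122104
theorem F153013 : act 9 n33023 = n31113 := d41_2 (iv F144245) D33023 (iv D31113)
def n33024 : Q := act 6 n31112
theorem D33024 : act 6 n31112 = n33024 := rfl
theorem F153014 : act 0 n33024 = n31114 := d5_1 D33024 (iv D31114) (iv F144259)
theorem F153015 : act 1 n33024 = n33024 := d13_1 D33024 (iv D33024) F144260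
theorem F153016 : act 4 n33024 = n31113 := d31_1 D33024 (iv D31113) (iv F144261)
theorem F153017 : act 7 n33024 = n33024 := d39_2 D31112 D33024 (iv D33024) (iv D31112) F122138
theorem F153018 : act 8 n33024 = n33024 := d40_2 F144262 D33024 (iv D33024)
def n33025 : Q := act 8 n31115
theorem D33025 : act 8 n31115 = n33025 := rfl
theorem F153019 : act 0 n33025 = n33025 := d7_1 D33025 (iv D33025) F144272
theorem F153020 : act 2 n33025 = n31116 := d22_1 D33025 (iv D31116) (iv F144273)
theorem F153021 : act 4 n33025 = n31156 := d33_1 D33025 (iv F144436) (iv F144274)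
theorem F153022 : act 5 n33025 = n33025 := d37_1 D33025 (iv D33025) (iv D31115) F122156 D31115
theorem F153023 : act 7 n33025 = n33025 := d42_1 D33025 (iv D33025) F144275
theorem F153024 : act 9 n33025 = n31155 := d44_2 F152787 D33025 F152814 (iv D32981) (iv F152786)
def n33026 : Q := act 5 n31118
theorem D33026 : act 5 n31118 = n33026 := rfl
theorem F153025 : act 1 n33026 = n31129 := d12_1 D33026 (iv D31129) (iv F144285)
theorem F153026 : act 6 n33026 = n31152 := d35_2 (iv F144286) D33026 (iv D31152) F124609 (iv F122471)
def n33027 : Q := act 5 n31121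
theorem D33027 : act 5 n31121 = n33027 := rfl
theorem F153027 : act 0 n33027 = n33027 := d4_1 D33027 (iv D33027) F144301
theorem F153028 : act 2 n33027 = n31141 := d19_1 D33027 (iv D31141) (iv F144302)
theorem F153029 : act 6 n33027 = n31153 := d35_2 D31121 D33027 (iv D31153) F124909 (iv F135483)
theorem F153030 : act 7 n33027 = n31131 := d36_2 (iv F144304) D33027 (iv D31131)
theorem F153031 : act 8 n33027 = n31129 := d37_2 (iv F144305) D33027 (iv D31129) (iv D27587) (iv F122896)
def n33028 : Q := act 5 n31123
theorem D33028 : act 5 n31123 = n33028 := rfl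
theorem F153032 : act 0 n33028 = n33028 := d4_1 D33028 (iv D33028) F144312
theorem F153033 : act 2 n33028 = n31131 := d19_1 D33028 (iv D31131) (iv F144313)
theorem F153034 : act 4 n33028 = n31148 := d30_1 D33028 (iv D31148) F123643 (iv F135462) (iv F144314)
theorem F153035 : act 6 n33028 = n33028 := d35_2 (iv F144315) D33028 (iv D33028) F144315 F122848
theorem F153036 : act 7 n33028 = n31141 := d36_2 (iv F144316) D33028 (iv D31141)
theorem F153037 : act 8 n33028 = n31135 := d37_2 D31123 D33028 (iv D31135) (iv D27678) (iv F122842)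
def n33029 : Q := act 5 n31125
theorem D33029 : act 5 n31125 = n33029 := rfl
theorem F153038 : act 0 n33029 = n33029 := d4_1 D33029 (iv D33029) F144323
theorem F153039 : act 2 n33029 = n31148 := d19_1 D33029 (iv D31148) (iv F144324)
theorem F153040 : act 4 n33029 = n31131 := d30_1 D33029 (iv D31131) F123022 (iv F122940) (iv F144325)
theorem F153041 : act 6 n33029 = n33029 := d35_2 D31125 D33029 (iv D33029) (iv D31125) F122935
def n33030 : Q := act 5 n31127
theorem D33030 : act 5 n31127 = n33030 := rfl
theorem F153042 : act 0 n33030 = n33030 := d4_1 D33030 (iv D33030) F144332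
theorem F153043 : act 6 n33030 = n33030 := d35_2 D31127 D33030 (iv D33030) (iv D31127) F122976
theorem F153044 : act 9 n33030 = n31131 := d38_2 (iv F144334) D33030 (iv D31131)
def n33031 : Q := act 5 n31128
theorem D33031 : act 5 n31128 = n33031 := rfl
theorem F153045 : act 0 n33031 = n33031 := d4_1 D33031 (iv D33031) F144335
theorem F153046 : act 3 n33031 = n31129 := d25_1 D33031 (iv D31129) (iv F144336)
theorem F153047 : act 6 n33031 = n31154 := d35_2 (iv F144337) D33031 (iv D31154) F124996 (iv F122983)
theorem F153048 : act 9 n33031 = n31141 := d38_2 (iv F144338) D33031 (iv D31141)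
def n33032 : Q := act 4 n31129
theorem D33032 : act 4 n31129 = n33032 := rfl
theorem F153049 : act 0 n33032 = n33032 := d3_1 D33032 (iv D33032) F144339
theorem F153050 : act 2 n33032 = n31145 := d18_1 D33032 (iv D31145) (iv F144340)
theorem F153051 : act 6 n33032 = n31155 := d31_2 (iv F144341) D33032 (iv D31155)
def n33033 : Q := act 9 n31129
theorem D33033 : act 9 n31129 = n33033 := rfl
theorem F153052 : act 0 n33033 = n33033 := d8_1 D33033 (iv D33033) F144339
theorem F153053 : act 2 n33033 = n31146 := d23_1 D33033 (iv D31146) (iv F144340)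
theorem F153054 : act 3 n33033 = n31141 := d29_1 D33033 (iv F153048) F153046
theorem F153055 : act 5 n33033 = n31130 := d38_1 D33033 (iv D31130) D31129
theorem F153056 : act 6 n33033 = n31156 := d41_1 D33033 (iv D31156) (iv F144341)
theorem F153057 : act 8 n31143 = n33033 := d40_0 F153056 (iv F144436) (iv F144393)
def n33034 : Q := act 5 n31133
theorem D33034 : act 5 n31133 = n33034 := rfl
theorem F153058 : act 0 n33034 = n33034 := d4_1 D33034 (iv D33034) F144354
theorem F153059 : act 6 n33034 = n33034 := d35_2 D31133 D33034 (iv D33034) (iv D31133) F123369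
theorem F153060 : act 7 n33034 = n31142 := d36_2 (iv F144356) D33034 (iv D31142)
theorem F153061 : act 9 n33034 = n31138 := d38_2 (iv F144357) D33034 (iv D31138)
def n33035 : Q := act 5 n31134
theorem D33035 : act 5 n31134 = n33035 := rfl
theorem F153062 : act 0 n33035 = n33035 := d4_1 D33035 (iv D33035) F144358
theorem F153063 : act 3 n33035 = n31135 := d25_1 D33035 (iv D31135) (iv F144359)
theorem F153064 : act 6 n33035 = n33035 := d35_2 (iv F144360) D33035 (iv D33035) F144360 F123377
theorem F153065 : act 7 n33035 = n31143 := d36_2 (iv F144361) D33035 (iv D31143)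
def n33036 : Q := act 4 n31135
theorem D33036 : act 4 n31135 = n33036 := rfl
theorem F153066 : act 0 n33036 = n33036 := d3_1 D33036 (iv D33036) F144362
theorem F153067 : act 5 n33036 = n31147 := d30_2 D31135 D33036 F152686 (iv D32960) F143724
theorem F153068 : act 6 n33036 = n33036 := d31_2 F144363 D33036 (iv D33036)
theorem F153069 : act 7 n33036 = n31145 := d32_2 (iv F144364) D33036 (iv D31145)
theorem F153070 : act 8 n33036 = n31148 := d33_2 F153037 D33036 (iv F153034)
def n33037 : Q := act 9 n31135
theorem D33037 : act 9 n31135 = n33037 := rfl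
theorem F153071 : act 0 n33037 = n33037 := d8_1 D33037 (iv D33037) F144362
theorem F153072 : act 5 n33037 = n31136 := d38_1 D33037 (iv D31136) D31135
theorem F153073 : act 6 n33037 = n33037 := d41_1 D33037 (iv D33037) F144363
theorem F153074 : act 7 n33037 = n31146 := d43_1 D33037 (iv D31146) (iv F144364)
def n33038 : Q := act 5 n31139
theorem D33038 : act 5 n31139 = n33038 := rfl
theorem F153075 : act 0 n33038 = n33038 := d4_1 D33038 (iv D33038) F144376
theorem F153076 : act 4 n33038 = n31141 := d30_1 D33038 (iv D31141) (iv F144297) F144298 (iv F144377)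
theorem F153077 : act 6 n33038 = n31157 := d35_2 (iv F144378) D33038 (iv F144479) F144480 F143923
theorem F153078 : act 7 n33038 = n31148 := d36_2 (iv F144379) D33038 (iv D31148)
theorem F153079 : act 8 n33038 = n31145 := d37_2 D31139 D33038 (iv F152939) F152942 (iv D31138)
def n33039 : Q := act 9 n31143
theorem D33039 : act 9 n31143 = n33039 := rfl
theorem F153080 : act 0 n33039 = n33039 := d8_1 D33039 (iv D33039) F144391
theorem F153081 : act 3 n33039 = n31146 := d29_1 D33039 (iv D31146) (iv F144392)
theorem F153082 : act 5 n33039 = n31144 := d38_1 D33039 (iv D31144) D31143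
theorem F153083 : act 6 n33039 = n31158 := d41_1 D33039 (iv D31158) (iv F144393)
def n33040 : Q := act 3 n31145
theorem D33040 : act 3 n31145 = n33040 := rfl
theorem F153084 : act 0 n33040 = n33040 := d2_1 D33040 (iv D33040) F144398
theorem F153085 : act 6 n33040 = n31150 := d26_2 (iv F144399) D33040 F144411
theorem F153086 : act 9 n33040 = n31147 := d29_2 (iv F152972) D33040 (iv F152969)
def n33041 : Q := act 9 n31148
theorem D33041 : act 9 n31148 = n33041 := rfl
theorem F153087 : act 0 n33041 = n33041 := d8_1 D33041 (iv D33041) F144405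
theorem F153088 : act 5 n33041 = n31149 := d38_1 D33041 (iv D31149) D31148
theorem F153089 : act 6 n33041 = n33041 := d41_1 D33041 (iv D33041) F144406
def n33042 : Q := act 5 n31151
theorem D33042 : act 5 n31151 = n33042 := rfl
theorem F153090 : act 1 n33042 = n31153 := d12_1 D33042 (iv D31153) (iv F144414)
theorem F153091 : act 7 n33042 = n33042 := d36_2 F144416 D33042 (iv D33042)
theorem F153092 : act 8 n33042 = n31152 := d37_2 D31151 D33042 (iv D31152) (iv D27982) (iv F124534)
def n33043 : Q := act 4 n31152
theorem D33043 : act 4 n31152 = n33043 := rfl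
theorem F153093 : act 1 n33043 = n31155 := d11_1 D33043 (iv D31155) (iv F144417)
theorem F153094 : act 5 n33043 = n33043 := d30_2 D31152 D33043 (iv D33043) (iv D31152) F124608
theorem F153095 : act 7 n33043 = n33043 := d32_2 F144418 D33043 (iv D33043)
def n33044 : Q := act 8 n31165
theorem D33044 : act 8 n31165 = n33044 := rfl
theorem F153096 : act 0 n33044 = n31171 := d7_1 D33044 (iv D31171) (iv F144494)
theorem F153097 : act 1 n33044 = n33044 := d15_1 D33044 (iv D33044) F144495
theorem F153098 : act 2 n33044 = n31170 := d22_1 D33044 F144537 (iv F144496)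
theorem F153099 : act 3 n33044 = n31167 := d28_1 D33044 (iv D31167) (iv F144497)
theorem F153100 : act 4 n33044 = n31169 := d33_1 D33044 F144530 (iv F144498)
theorem F153101 : act 6 n33044 = n31166 := d40_1 D33044 (iv D31166) D31165
theorem F153102 : act 7 n33044 = n33044 := d42_1 D33044 (iv D33044) F144500
theorem F153103 : act 9 n33044 = n31607 := d44_2 (iv F144501) D33044 (iv D31607) F137921 D30194
theorem F153104 : act 5 n33044 = n31360 := d45_3 (iv F136678) (iv F144527) (iv F153100) F145705 F145706 F145707 (iv D31360) (iv D29410) (iv D23732) (iv D18772) F67294 F53187 (iv D9015) (iv F42241) (iv F53136) D14714 F67224 F54367 (iv F131967) (iv D11968) F44033 (iv F55452) D15373 F70393 (iv F86995) D24312 F133715 (iv F109606) F109607 F87448 (iv F133343) F73270 (iv D12517) (iv F57583) F57581 (iv F133958) F54462 F54463 F44901 (iv F56589) (iv D12235) (iv F56540) (iv F71806) (iv F90904) F90905 (iv F134058) (iv D20061) F133266 (iv F109107) F109108 (iv F134172) (iv F134398) F106309 (iv F136659) (iv D29376) (iv F136642) F136643 (iv F136622) F136623 (iv F145521)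 F145522 (iv D31332) F136611
def n33045 : Q := act 5 n31167
theorem D33045 : act 5 n31167 = n33045 := rfl
theorem F153105 : act 0 n33045 = n31172 := d4_1 D33045 (iv D31172) (iv F144510)
theorem F153106 : act 1 n33045 = n33045 := d12_1 D33045 (iv D33045) F144511
theorem F153107 : act 2 n33045 = n31334 := d19_1 D33045 (iv D31334) (iv F144512)
theorem F153108 : act 3 n33045 = n31360 := d25_1 D33045 (iv F153104) F153099
theorem F153109 : act 4 n33045 = n32028 := d30_1 D33045 (iv D32028) F139895 D30015 (iv F144513)
theorem F153110 : act 6 n33045 = n33045 := d35_2 (iv F144514) D33045 (iv D33045) F144514 F135717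
theorem F153111 : act 7 n33045 = n33045 := d36_2 F144515 D33045 (iv D33045)
theorem F153112 : act 8 n33045 = n33045 := d37_2 D31167 D33045 (iv D33045) (iv D31167) F135711
def n33046 : Q := act 9 n31167
theorem D33046 : act 9 n31167 = n33046 := rfl
theorem F153113 : act 0 n33046 = n31173 := d8_1 D33046 (iv D31173) (iv F144510)
theorem F153114 : act 1 n33046 = n33046 := d16_1 D33046 (iv D33046) F144511
theorem F153115 : act 2 n33046 = n31335 := d23_1 D33046 (iv D31335) (iv F144512)
theorem F153116 : act 3 n33046 = n31607 := d29_1 D33046 (iv F153103) F153099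
theorem F153117 : act 4 n33046 = n32030 := d34_1 D33046 (iv D32030) (iv F144513)
theorem F153118 : act 6 n33046 = n31168 := d41_1 D33046 (iv D31168) (iv F144514)
theorem F153119 : act 7 n33046 = n33046 := d43_1 D33046 (iv D33046) F144515
theorem F153120 : act 8 n33046 = n31606 := d44_1 D33046 F147025 (iv F144456) F144457 D31167
def n33047 : Q := act 9 n31172
theorem D33047 : act 9 n31172 = n33047 := rfl
theorem F153121 : act 1 n33047 = n31176 := d16_1 D33047 (iv D31176) (iv F144548)
theorem F153122 : act 2 n33047 = n31345 := d23_1 D33047 (iv D31345) (iv F144549)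
theorem F153123 : act 3 n33047 = n32349 := d29_1 D33047 (iv D32349) (iv F144550)
theorem F153124 : act 4 n33047 = n32903 := d34_1 D33047 (iv D32903) (iv F144551)
theorem F153125 : act 5 n33047 = n31173 := d38_1 D33047 (iv D31173) D31172
theorem F153126 : act 6 n33047 = n33047 := d41_1 D33047 (iv D33047) F144552
theorem F153127 : act 7 n33047 = n33047 := d43_1 D33047 (iv D33047) F144553
theorem F153128 : act 8 n32870 = n33047 := d37_0 F153125 F144561 F142380 D30880 D32870
def n33048 : Q := act 4 n31179
theorem D33048 : act 4 n31179 = n33048 := rfl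
theorem F153129 : act 0 n33048 = n32144 := d3_1 D33048 (iv D32144) (iv F144606)
theorem F153130 : act 1 n33048 = n32734 := d11_1 D33048 F151892 (iv F144607)
theorem F153131 : act 2 n33048 = n31181 := d18_1 D33048 (iv D31181) (iv F144608)
theorem F153132 : act 5 n33048 = n31467 := d30_2 D31179 D33048 (iv D31467) (iv D29490) (iv F135814)
theorem F153133 : act 6 n33048 = n32672 := d31_2 (iv F144610) D33048 (iv D32672)
theorem F153134 : act 8 n33048 = n32730 := d33_2 (iv F144611) D33048 (iv D32730)
theorem F153135 : act 9 n33048 = n32747 := d34_2 (iv F144612) D33048 (iv D32747)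
def n33049 : Q := act 7 n31179
theorem D33049 : act 7 n31179 = n33049 := rfl
theorem F153136 : act 0 n33049 = n32145 := d6_1 D33049 (iv D32145) (iv F144606)
theorem F153137 : act 1 n33049 = n32736 := d14_1 D33049 F151900 (iv F144607)
theorem F153138 : act 2 n33049 = n31182 := d21_1 D33049 (iv D31182) (iv F144608)
theorem F153139 : act 3 n33049 = n31198 := d27_1 D33049 (iv D31198) (iv F144609)
theorem F153140 : act 5 n33049 = n31180 := d36_1 D33049 (iv D31180) D31179
theorem F153141 : act 8 n33049 = n32731 := d42_2 (iv F144611) D33049 (iv D32731)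
theorem F153142 : act 9 n33049 = n32748 := d43_2 (iv F144612) D33049 (iv D32748)
def n33050 : Q := act 7 n31181
theorem D33050 : act 7 n31181 = n33050 := rfl
theorem F153143 : act 0 n33050 = n32146 := d6_1 D33050 (iv D32146) (iv F144621)
theorem F153144 : act 1 n33050 = n32715 := d14_1 D33050 (iv D32715) (iv F144622)
theorem F153145 : act 3 n33050 = n31269 := d27_1 D33050 (iv D31269) (iv F144623)
theorem F153146 : act 4 n33050 = n31182 := d32_1 D33050 (iv D31182) D31181
theorem F153147 : act 5 n33050 = n31470 := d36_1 D33050 (iv D31470) (iv F144624)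
theorem F153148 : act 9 n33050 = n32750 := d43_2 (iv F144626) D33050 (iv D32750)
def n33051 : Q := act 8 n31181
theorem D33051 : act 8 n31181 = n33051 := rfl
theorem F153149 : act 0 n33051 = n32147 := d7_1 D33051 (iv D32147) (iv F144621)
theorem F153150 : act 1 n33051 = n32665 := d15_1 D33051 F151677 (iv F144622)
theorem F153151 : act 2 n33051 = n32730 := d22_1 D33051 (iv F153134) F153131
theorem F153152 : act 3 n33051 = n31270 := d28_1 D33051 (iv D31270) (iv F144623)
theorem F153153 : act 4 n33051 = n31183 := d33_1 D33051 (iv D31183) D31181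
theorem F153154 : act 6 n33051 = n32675 := d40_1 D33051 (iv D32675) (iv F144625)
def n33052 : Q := act 6 n31182
theorem D33052 : act 6 n31182 = n33052 := rfl
theorem F153155 : act 0 n33052 = n32148 := d5_1 D33052 (iv D32148) (iv F144627)
theorem F153156 : act 1 n33052 = n32716 := d13_1 D33052 (iv D32716) (iv F144628)
theorem F153157 : act 3 n33052 = n31184 := d26_1 D33052 (iv D31184) (iv F144629)
theorem F153158 : act 5 n33052 = n32669 := d35_1 D33052 (iv D32669) F142564 (iv F135826) (iv F144630)
theorem F153159 : act 7 n33052 = n32676 := d39_2 D31182 D33052 (iv D32676) (iv D30680) (iv F135820)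
theorem F153160 : act 9 n33052 = n32751 := d41_2 (iv F144631) D33052 (iv D32751)
def n33053 : Q := act 8 n31182
theorem D33053 : act 8 n31182 = n33053 := rfl
theorem F153161 : act 0 n33053 = n32149 := d7_1 D33053 (iv D32149) (iv F144627)
theorem F153162 : act 1 n33053 = n32666 := d15_1 D33053 F151681 (iv F144628)
theorem F153163 : act 2 n33053 = n32731 := d22_1 D33053 (iv F153141) F153138
theorem F153164 : act 3 n33053 = n31185 := d28_1 D33053 (iv D31185) (iv F144629)
theorem F153165 : act 5 n33053 = n31189 := d37_1 D33053 (iv D31189) F135860 (iv F135827) (iv F144630)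
theorem F153166 : act 7 n33053 = n31183 := d42_1 D33053 (iv D31183) D31182
def n33054 : Q := act 9 n31183
theorem D33054 : act 9 n31183 = n33054 := rfl
theorem F153167 : act 0 n33054 = n32150 := d8_1 D33054 (iv D32150) (iv F144632)
theorem F153168 : act 1 n33054 = n32445 := d16_1 D33054 F150836 (iv F144633)
theorem F153169 : act 2 n33054 = n32718 := d23_1 D33054 F151844 (iv F144634)
theorem F153170 : act 3 n33054 = n31186 := d29_1 D33054 (iv D31186) (iv F144635)
theorem F153171 : act 5 n33054 = n31190 := d38_1 D33054 (iv D31190) (iv F144636)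
theorem F153172 : act 6 n33054 = n32678 := d41_1 D33054 (iv D32678) (iv F144637)
theorem F153173 : act 8 n33054 = n32753 := d44_1 D33054 (iv D32753) (iv D30748) (iv F135821) D31183
def n33055 : Q := act 8 n31184
theorem D33055 : act 8 n31184 = n33055 := rfl
theorem F153174 : act 0 n33055 = n32151 := d7_1 D33055 (iv D32151) (iv F144638)
theorem F153175 : act 1 n33055 = n32717 := d15_1 D33055 (iv D32717) (iv F144639)
theorem F153176 : act 2 n33055 = n31201 := d22_1 D33055 (iv D31201) (iv F144640)
theorem F153177 : act 4 n33055 = n31274 := d33_1 D33055 (iv D31274) (iv F144641)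
theorem F153178 : act 5 n33055 = n32823 := d37_1 D33055 (iv D32823) F151700 (iv D32671) (iv F144642)
theorem F153179 : act 6 n33055 = n31185 := d40_1 D33055 (iv D31185) D31184
theorem F153180 : act 7 n33055 = n32679 := d42_1 D33055 (iv D32679) (iv F144643)
def n33056 : Q := act 9 n31185
theorem D33056 : act 9 n31185 = n33056 := rfl
theorem F153181 : act 0 n33056 = n32152 := d8_1 D33056 (iv D32152) (iv F144645)
theorem F153182 : act 1 n33056 = n32569 := d16_1 D33056 F151291 (iv F144646)
theorem F153183 : act 2 n33056 = n31202 := d23_1 D33056 (iv D31202) (iv F144647)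
theorem F153184 : act 4 n33056 = n31275 := d34_1 D33056 (iv D31275) (iv F144648)
theorem F153185 : act 5 n33056 = n31191 := d38_1 D33056 (iv D31191) (iv F144649)
theorem F153186 : act 7 n33056 = n31186 := d43_1 D33056 (iv D31186) (iv F144650)
theorem F153187 : act 8 n33056 = n32755 := d44_1 D33056 (iv D32755) (iv D30750) (iv F135834) D31185
def n33057 : Q := act 8 n31187
theorem D33057 : act 8 n31187 = n33057 := rfl
theorem F153188 : act 0 n33057 = n32153 := d7_1 D33057 (iv D32153) (iv F144658)
theorem F153189 : act 1 n33057 = n31447 := d15_1 D33057 F146228 (iv F144659)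
theorem F153190 : act 2 n33057 = n32704 := d22_1 D33057 F151811 (iv F144660)
theorem F153191 : act 3 n33057 = n31192 := d28_1 D33057 (iv D31192) (iv F144661)
theorem F153192 : act 4 n33057 = n31189 := d33_1 D33057 (iv D31189) (iv F144662)
theorem F153193 : act 6 n33057 = n31466 := d40_1 D33057 F146316 (iv F144664)
theorem F153194 : act 7 n33057 = n31188 := d42_1 D33057 (iv D31188) D31187
def n33058 : Q := act 5 n31188
theorem D33058 : act 5 n31188 = n33058 := rfl
theorem F153195 : act 0 n33058 = n32154 := d4_1 D33058 (iv D32154) (iv F144666)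
theorem F153196 : act 1 n33058 = n31446 := d12_1 D33058 (iv D31446) (iv F144667)
theorem F153197 : act 2 n33058 = n32703 := d19_1 D33058 (iv D32703) (iv F144668)
theorem F153198 : act 3 n33058 = n31193 := d25_1 D33058 (iv D31193) (iv F144669)
theorem F153199 : act 8 n33058 = n31493 := d37_2 D31188 D33058 (iv D31493) (iv D29512) (iv F135853)
def n33059 : Q := act 9 n31188
theorem D33059 : act 9 n31188 = n33059 := rfl
theorem F153200 : act 0 n33059 = n32155 := d8_1 D33059 (iv D32155) (iv F144666)
theorem F153201 : act 1 n33059 = n31440 := d16_1 D33059 F146187 (iv F144667)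
theorem F153202 : act 2 n33059 = n32695 := d23_1 D33059 F151784 (iv F144668)
theorem F153203 : act 3 n33059 = n31194 := d29_1 D33059 (iv D31194) (iv F144669)
theorem F153204 : act 4 n33059 = n31190 := d34_1 D33059 (iv D31190) (iv F144670)
theorem F153205 : act 6 n33059 = n31439 := d41_1 D33059 F146181 (iv F144671)
theorem F153206 : act 8 n33059 = n33059 := d44_1 D33059 (iv D33059) (iv D31188) F135855 D31188
def n33060 : Q := act 9 n31189
theorem D33060 : act 9 n31189 = n33060 := rfl
theorem F153207 : act 0 n33060 = n32156 := d8_1 D33060 (iv D32156) (iv F144672)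
theorem F153208 : act 1 n33060 = n32446 := d16_1 D33060 F150841 (iv F144673)
theorem F153209 : act 2 n33060 = n32719 := d23_1 D33060 F151849 (iv F144674)
theorem F153210 : act 3 n33060 = n31191 := d29_1 D33060 (iv D31191) (iv F144675)
theorem F153211 : act 6 n33060 = n32746 := d41_1 D33060 F151930 (iv F144676)
theorem F153212 : act 7 n33060 = n31190 := d43_1 D33060 (iv D31190) (iv F144677)
theorem F153213 : act 8 n33060 = n33060 := d44_1 D33060 (iv D33060) (iv D31189) F135862 D31189
def n33061 : Q := act 5 n31192
theorem D33061 : act 5 n31192 = n33061 := rfl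
theorem F153214 : act 0 n33061 = n32157 := d4_1 D33061 (iv D32157) (iv F144691)
theorem F153215 : act 1 n33061 = n31554 := d12_1 D33061 F146776 (iv F144692)
theorem F153216 : act 2 n33061 = n33061 := d19_1 D33061 (iv D33061) F144693
theorem F153217 : act 4 n33061 = n31290 := d30_1 D33061 (iv D31290) F136370 (iv F135896) (iv F144694)
theorem F153218 : act 7 n33061 = n31193 := d36_2 (iv F144696) D33061 (iv D31193)
theorem F153219 : act 8 n33061 = n31501 := d37_2 D31192 D33061 (iv D31501) (iv D29519) (iv F135884)
def n33062 : Q := act 9 n31192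
theorem D33062 : act 9 n31192 = n33062 := rfl
theorem F153220 : act 0 n33062 = n32158 := d8_1 D33062 (iv D32158) (iv F144691)
theorem F153221 : act 1 n33062 = n31548 := d16_1 D33062 F146742 (iv F144692)
theorem F153222 : act 2 n33062 = n33062 := d23_1 D33062 (iv D33062) F144693
theorem F153223 : act 4 n33062 = n31195 := d34_1 D33062 (iv D31195) (iv F144694)
theorem F153224 : act 6 n33062 = n31562 := d41_1 D33062 F146816 (iv F144695)
theorem F153225 : act 7 n33062 = n31194 := d43_1 D33062 (iv D31194) (iv F144696)
theorem F153226 : act 8 n33062 = n33062 := d44_1 D33062 (iv D33062) (iv D31192) F135886 D31192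
def n33063 : Q := act 6 n31193
theorem D33063 : act 6 n31193 = n33063 := rfl
theorem F153227 : act 0 n33063 = n32159 := d5_1 D33063 (iv D32159) (iv F144697)
theorem F153228 : act 1 n33063 = n31508 := d13_1 D33063 F146515 (iv F144698)
theorem F153229 : act 2 n33063 = n33063 := d20_1 D33063 (iv D33063) F144699
theorem F153230 : act 4 n33063 = n31292 := d31_1 D33063 (iv D31292) (iv F144700)
theorem F153231 : act 5 n33063 = n31507 := d35_1 D33063 (iv D31507) F137476 (iv F135891) D31193
theorem F153232 : act 8 n33063 = n31503 := d40_2 (iv F144701) D33063 (iv D31503)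
theorem F153233 : act 9 n32922 = n33063 := d38_0 F153231 F146512 D32922
def n33064 : Q := act 9 n31193
theorem D33064 : act 9 n31193 = n33064 := rfl
theorem F153234 : act 0 n33064 = n32160 := d8_1 D33064 (iv D32160) (iv F144697)
theorem F153235 : act 1 n33064 = n31547 := d16_1 D33064 F146736 (iv F144698)
theorem F153236 : act 2 n33064 = n33064 := d23_1 D33064 (iv D33064) F144699
theorem F153237 : act 4 n33064 = n31293 := d34_1 D33064 (iv D31293) (iv F144700)
theorem F153238 : act 5 n33064 = n31194 := d38_1 D33064 (iv D31194) D31193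
theorem F153239 : act 6 n33064 = n32922 := d41_1 D33064 F153233 (iv D33063)
def n33065 : Q := act 4 n31196
theorem D33065 : act 4 n31196 = n33065 := rfl
theorem F153240 : act 0 n33065 = n32161 := d3_1 D33065 (iv D32161) (iv F144716)
theorem F153241 : act 1 n33065 = n31207 := d11_1 D33065 F144795 (iv F144717)
theorem F153242 : act 2 n33065 = n31203 := d18_1 D33065 (iv D31203) (iv F144718)
theorem F153243 : act 5 n33065 = n32821 := d30_2 D31196 D33065 F152142 F143016 (iv F135910)
theorem F153244 : act 6 n33065 = n31296 := d31_2 (iv F144720) D33065 (iv D31296)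
theorem F153245 : act 7 n33065 = n31205 := d32_2 (iv F144721) D33065 (iv D31205)
theorem F153246 : act 8 n33065 = n33065 := d33_2 F144722 D33065 (iv D33065)
theorem F153247 : act 9 n33065 = n32865 := d34_2 (iv F144723) D33065 F152289
def n33066 : Q := act 3 n31197
theorem D33066 : act 3 n31197 = n33066 := rfl
theorem F153248 : act 0 n33066 = n32165 := d2_1 D33066 (iv D32165) (iv F144724)
theorem F153249 : act 1 n33066 = n32819 := d10_1 D33066 F152136 (iv F144725)
theorem F153250 : act 2 n33066 = n31306 := d17_1 D33066 (iv D31306) F136450 (iv F135936) (iv F144726)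
theorem F153251 : act 5 n33066 = n31206 := d25_2 (iv F144727) D33066 (iv D31206)
theorem F153252 : act 6 n33066 = n32851 := d26_2 (iv F144728) D33066 F152247
theorem F153253 : act 8 n33066 = n32816 := d28_2 (iv F144729) D33066 (iv D32816)
theorem F153254 : act 9 n33066 = n32396 := d29_2 (iv F144730) D33066 F150657
def n33067 : Q := act 7 n31197
theorem D33067 : act 7 n31197 = n33067 := rfl
theorem F153255 : act 0 n33067 = n32166 := d6_1 D33067 (iv D32166) (iv F144724)
theorem F153256 : act 1 n33067 = n32821 := d14_1 D33067 F152143 (iv F144725)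
theorem F153257 : act 2 n33067 = n31199 := d21_1 D33067 (iv D31199) (iv F144726)
theorem F153258 : act 4 n33067 = n31198 := d32_1 D33067 (iv D31198) D31197
theorem F153259 : act 5 n33067 = n31207 := d36_1 D33067 (iv D31207) (iv F144727)
theorem F153260 : act 8 n33067 = n32817 := d42_2 (iv F144729) D33067 (iv D32817)
theorem F153261 : act 9 n33067 = n32831 := d43_2 (iv F144730) D33067 (iv D32831)
def n33068 : Q := act 6 n31198
theorem D33068 : act 6 n31198 = n33068 := rfl
theorem F153262 : act 0 n33068 = n32167 := d5_1 D33068 (iv D32167) (iv F144731)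
theorem F153263 : act 1 n33068 = n32823 := d13_1 D33068 F152151 (iv F144732)
theorem F153264 : act 2 n33068 = n31200 := d20_1 D33068 (iv D31200) (iv F144733)
theorem F153265 : act 5 n33068 = n32717 := d35_1 D33068 F151839 F142719 (iv F135931) (iv F144734)
theorem F153266 : act 7 n33068 = n32757 := d39_2 D31198 D33068 F151956 F142885 (iv F135924)
theorem F153267 : act 8 n33068 = n32744 := d40_2 (iv F144735) D33068 F151921
theorem F153268 : act 9 n33068 = n32832 := d41_2 (iv F144736) D33068 (iv D32832)
def n33069 : Q := act 6 n31199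
theorem D33069 : act 6 n31199 = n33069 := rfl
theorem F153269 : act 0 n33069 = n32168 := d5_1 D33069 (iv D32168) (iv F144737)
theorem F153270 : act 1 n33069 = n32974 := d13_1 D33069 F152765 (iv F144738)
theorem F153271 : act 3 n33069 = n31311 := d26_1 D33069 (iv D31311) (iv F144739)
theorem F153272 : act 4 n33069 = n31200 := d31_1 D33069 (iv D31200) (iv F144740)
theorem F153273 : act 7 n33069 = n32839 := d39_2 D31199 D33069 F152207 F143183 (iv F135938)
theorem F153274 : act 8 n33069 = n32829 := d40_2 (iv F144742) D33069 F152175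
theorem F153275 : act 9 n33069 = n32834 := d41_2 (iv F144743) D33069 (iv D32834)
def n33070 : Q := act 9 n31201
theorem D33070 : act 9 n31201 = n33070 := rfl
theorem F153276 : act 0 n33070 = n32169 := d8_1 D33070 (iv D32169) (iv F144751)
theorem F153277 : act 1 n33070 = n32993 := d16_1 D33070 F152878 (iv F144752)
theorem F153278 : act 3 n33070 = n32830 := d29_1 D33070 (iv D32830) (iv F144753)
theorem F153279 : act 4 n33070 = n31315 := d34_1 D33070 (iv D31315) (iv F144754)
theorem F153280 : act 5 n33070 = n32828 := d38_1 D33070 (iv D32828) (iv F144755)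
theorem F153281 : act 6 n33070 = n31202 := d41_1 D33070 (iv D31202) (iv F144756)
theorem F153282 : act 7 n33070 = n32862 := d43_1 D33070 (iv D32862) (iv F144757)
theorem F153283 : act 8 n33070 = n32837 := d44_1 D33070 (iv D32837) (iv D30837) (iv F135952) D31201
def n33071 : Q := act 4 n31204
theorem D33071 : act 4 n31204 = n33071 := rfl
theorem F153284 : act 0 n33071 = n31205 := d3_1 D33071 (iv D31205) (iv F144773)
theorem F153285 : act 1 n33071 = n32174 := d11_1 D33071 (iv D32174) (iv F144774)
theorem F153286 : act 2 n33071 = n31890 := d18_1 D33071 F148377 (iv F144775)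
theorem F153287 : act 5 n33071 = n31884 := d30_2 D31204 D33071 F148352 F139031 (iv F135991)
theorem F153288 : act 6 n33071 = n33071 := d31_2 F144777 D33071 (iv D33071)
theorem F153289 : act 7 n33071 = n32161 := d32_2 (iv F144778) D33071 (iv D32161)
theorem F153290 : act 8 n33071 = n33071 := d33_2 F144779 D33071 (iv D33071)
theorem F153291 : act 9 n33071 = n32863 := d34_2 (iv F144780) D33071 (iv D32863)
def n33072 : Q := act 3 n31205
theorem D33072 : act 3 n31205 = n33072 := rfl
theorem F153292 : act 1 n33072 = n31206 := d10_1 D33072 (iv D31206) (iv F144781)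
theorem F153293 : act 2 n33072 = n32511 := d17_1 D33072 F151039 F142346 (iv F143029) (iv F144782)
theorem F153294 : act 4 n33072 = n31628 := d24_2 D31205 D33072 (iv D31628) (iv D29638) (iv F135997)
theorem F153295 : act 5 n33072 = n32819 := d25_2 (iv F144783) D33072 F152136
theorem F153296 : act 6 n33072 = n33072 := d26_2 F144784 D33072 (iv D33072)
theorem F153297 : act 8 n33072 = n33072 := d28_2 F144785 D33072 (iv D33072)
theorem F153298 : act 9 n33072 = n32416 := d29_2 (iv F144786) D33072 F150740
def n33073 : Q := act 7 n31206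
theorem D33073 : act 7 n31206 = n33073 := rfl
theorem F153299 : act 0 n33073 = n32178 := d6_1 D33073 (iv D32178) (iv F144787)
theorem F153300 : act 2 n33073 = n31323 := d21_1 D33073 (iv D31323) (iv F144788)
theorem F153301 : act 3 n33073 = n31207 := d27_1 D33073 (iv D31207) D31206
theorem F153302 : act 4 n33073 = n31630 := d32_1 D33073 (iv D31630) (iv F144789)
theorem F153303 : act 8 n33073 = n33073 := d42_2 F144791 D33073 (iv D33073)
theorem F153304 : act 9 n33073 = n32419 := d43_2 (iv F144792) D33073 F150751
def n33074 : Q := act 6 n31207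
theorem D33074 : act 6 n31207 = n33074 := rfl
theorem F153305 : act 0 n33074 = n32179 := d5_1 D33074 (iv D32179) (iv F144793)
theorem F153306 : act 1 n33074 = n31296 := d13_1 D33074 (iv F153244) F153241
theorem F153307 : act 2 n33074 = n31209 := d20_1 D33074 (iv D31209) (iv F144794)
theorem F153308 : act 4 n33074 = n31208 := d31_1 D33074 (iv D31208) (iv F144795)
theorem F153309 : act 7 n33074 = n33074 := d39_2 D31207 D33074 (iv D33074) (iv D31207) F136003
theorem F153310 : act 8 n33074 = n33074 := d40_2 F144796 D33074 (iv D33074)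
theorem F153311 : act 9 n33074 = n32867 := d41_2 (iv F144797) D33074 (iv D32867)
def n33075 : Q := act 5 n31209
theorem D33075 : act 5 n31209 = n33075 := rfl
theorem F153312 : act 0 n33075 = n32180 := d4_1 D33075 (iv D32180) (iv F144806)
theorem F153313 : act 1 n33075 = n32981 := d12_1 D33075 F152812 (iv F144807)
theorem F153314 : act 3 n33075 = n31325 := d25_1 D33075 (iv D31325) (iv F144808)
theorem F153315 : act 4 n33075 = n33042 := d30_1 D33075 (iv D33042) (iv F144471) (iv F144474) (iv F144809)
theorem F153316 : act 7 n33075 = n33075 := d36_2 F144810 D33075 (iv D33075)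
theorem F153317 : act 9 n33075 = n32869 := d38_2 (iv F144812) D33075 (iv D32869)
theorem F153318 : act 8 n33043 = n33075 := d33_0 F153315 F153092 D33043
def n33076 : Q := act 6 n31210
theorem D33076 : act 6 n31210 = n33076 := rfl
theorem F153319 : act 0 n33076 = n31843 := d5_1 D33076 F148153 (iv F144813)
theorem F153320 : act 1 n33076 = n31211 := d13_1 D33076 (iv D31211) D31210
theorem F153321 : act 2 n33076 = n31724 := d20_1 D33076 F147639 (iv F144814)
theorem F153322 : act 3 n33076 = n31354 := d26_1 D33076 F145667 (iv F144815)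
theorem F153323 : act 4 n33076 = n31652 := d31_1 D33076 (iv D31652) (iv F144816)
theorem F153324 : act 8 n33076 = n31216 := d40_2 (iv F144819) D33076 (iv D31216)
theorem F153325 : act 9 n33076 = n31839 := d41_2 (iv F144820) D33076 F148138
def n33077 : Q := act 5 n31211
theorem D33077 : act 5 n31211 = n33077 := rfl
theorem F153326 : act 0 n33077 = n31227 := d4_1 D33077 (iv D31227) (iv F144821)
theorem F153327 : act 2 n33077 = n31212 := d19_1 D33077 (iv D31212) (iv F144822)
theorem F153328 : act 3 n33077 = n31860 := d25_1 D33077 (iv D31860) (iv F144823)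
theorem F153329 : act 6 n33077 = n31786 := d35_2 D31211 D33077 (iv D31786) (iv D29760) (iv F136027)
theorem F153330 : act 9 n33077 = n32101 := d38_2 (iv F144826) D33077 (iv D32101)
def n33078 : Q := act 7 n31211
theorem D33078 : act 7 n31211 = n33078 := rfl
theorem F153331 : act 0 n33078 = n31228 := d6_1 D33078 (iv D31228) (iv F144821)
theorem F153332 : act 2 n33078 = n31213 := d21_1 D33078 (iv D31213) (iv F144822)
theorem F153333 : act 3 n33078 = n31837 := d27_1 D33078 F148126 (iv F144823)
theorem F153334 : act 4 n33078 = n31654 := d32_1 D33078 (iv D31654) (iv F144824)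
theorem F153335 : act 6 n33078 = n31835 := d39_1 D33078 F148116 F138802 (iv F136028) D31211
theorem F153336 : act 8 n33078 = n31218 := d42_2 (iv F144825) D33078 (iv D31218)
theorem F153337 : act 9 n33078 = n31834 := d43_2 (iv F144826) D33078 F148112
def n33079 : Q := act 4 n31212
theorem D33079 : act 4 n31212 = n33079 := rfl
theorem F153338 : act 0 n33079 = n31229 := d3_1 D33079 (iv D31229) (iv F144827)
theorem F153339 : act 1 n33079 = n32181 := d11_1 D33079 (iv D32181) (iv F144828)
theorem F153340 : act 3 n33079 = n31758 := d24_1 D33079 (iv D31758) F138560 (iv F136040) (iv F144829)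
theorem F153341 : act 5 n33079 = n31655 := d30_2 D31212 D33079 (iv D31655) (iv D29658) (iv F136034)
theorem F153342 : act 6 n33079 = n31788 := d31_2 (iv F144830) D33079 (iv D31788)
theorem F153343 : act 9 n33079 = n32136 := d34_2 (iv F144831) D33079 (iv D32136)
def n33080 : Q := act 7 n31212
theorem D33080 : act 7 n31212 = n33080 := rfl
theorem F153344 : act 0 n33080 = n31230 := d6_1 D33080 (iv D31230) (iv F144827)
theorem F153345 : act 1 n33080 = n32182 := d14_1 D33080 (iv D32182) (iv F144828)
theorem F153346 : act 3 n33080 = n31214 := d27_1 D33080 (iv D31214) (iv F144829)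
theorem F153347 : act 5 n33080 = n31213 := d36_1 D33080 (iv D31213) D31212
theorem F153348 : act 9 n33080 = n32137 := d43_2 (iv F144831) D33080 (iv D32137)
def n33081 : Q := act 8 n31212
theorem D33081 : act 8 n31212 = n33081 := rfl
theorem F153349 : act 0 n33081 = n31231 := d7_1 D33081 (iv D31231) (iv F144827)
theorem F153350 : act 1 n33081 = n32183 := d15_1 D33081 (iv D32183) (iv F144828)
theorem F153351 : act 3 n33081 = n31215 := d28_1 D33081 (iv D31215) (iv F144829)
theorem F153352 : act 5 n33081 = n31220 := d37_1 D33081 (iv D31220) (iv D29268) (iv F136035) D31212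
theorem F153353 : act 6 n33081 = n31790 := d40_1 D33081 (iv D31790) (iv F144830)
def n33082 : Q := act 6 n31214
theorem D33082 : act 6 n31214 = n33082 := rfl
theorem F153354 : act 0 n33082 = n31232 := d5_1 D33082 (iv D31232) (iv F144839)
theorem F153355 : act 1 n33082 = n32184 := d13_1 D33082 (iv D32184) (iv F144840)
theorem F153356 : act 2 n33082 = n31862 := d20_1 D33082 (iv D31862) (iv F144841)
theorem F153357 : act 4 n33082 = n31761 := d31_1 D33082 (iv D31761) (iv F144842)
theorem F153358 : act 5 n33082 = n32662 := d35_1 D33082 (iv D32662) F142545 (iv F136047) (iv F144843)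
theorem F153359 : act 7 n33082 = n31791 := d39_2 D31214 D33082 (iv D31791) (iv D29763) (iv F136041)
theorem F153360 : act 9 n33082 = n32138 := d41_2 (iv F144844) D33082 (iv D32138)
def n33083 : Q := act 8 n31214
theorem D33083 : act 8 n31214 = n33083 := rfl
theorem F153361 : act 0 n33083 = n31233 := d7_1 D33083 (iv D31233) (iv F144839)
theorem F153362 : act 1 n33083 = n32185 := d15_1 D33083 (iv D32185) (iv F144840)
theorem F153363 : act 2 n33083 = n31863 := d22_1 D33083 (iv D31863) (iv F144841)
theorem F153364 : act 4 n33083 = n31762 := d33_1 D33083 (iv D31762) (iv F144842)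
theorem F153365 : act 5 n33083 = n31222 := d37_1 D33083 (iv D31222) F136078 (iv F136048) (iv F144843)
theorem F153366 : act 7 n33083 = n31215 := d42_1 D33083 (iv D31215) D31214
def n33084 : Q := act 9 n31215
theorem D33084 : act 9 n31215 = n33084 := rfl
theorem F153367 : act 0 n33084 = n31234 := d8_1 D33084 (iv D31234) (iv F144845)
theorem F153368 : act 1 n33084 = n32186 := d16_1 D33084 (iv D32186) (iv F144846)
theorem F153369 : act 2 n33084 = n31542 := d23_1 D33084 F146705 (iv F144847)
theorem F153370 : act 4 n33084 = n31540 := d34_1 D33084 F146691 (iv F144848)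
theorem F153371 : act 5 n33084 = n31223 := d38_1 D33084 (iv D31223) (iv F144849)
theorem F153372 : act 6 n33084 = n31793 := d41_1 D33084 (iv D31793) (iv F144850)
theorem F153373 : act 8 n33084 = n32113 := d44_1 D33084 (iv D32113) F140484 (iv F136042) D31215
def n33085 : Q := act 7 n31216
theorem D33085 : act 7 n31216 = n33085 := rfl
theorem F153374 : act 0 n33085 = n32018 := d6_1 D33085 F149066 (iv F144851)
theorem F153375 : act 1 n33085 = n31218 := d14_1 D33085 (iv D31218) (iv F144852)
theorem F153376 : act 2 n33085 = n31723 := d21_1 D33085 (iv D31723) (iv F144853)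
theorem F153377 : act 3 n33085 = n31353 := d27_1 D33085 F145662 (iv F144854)
theorem F153378 : act 4 n33085 = n31668 := d32_1 D33085 (iv D31668) (iv F144855)
theorem F153379 : act 5 n33085 = n31349 := d36_1 D33085 F145637 F144857
theorem F153380 : act 6 n33085 = n32001 := d39_1 D33085 F148971 F139664 (iv F136055) D31216
theorem F153381 : act 9 n33085 = n31326 := d43_2 (iv F144856) D33085 (iv D31326)
def n33086 : Q := act 7 n31217
theorem D33086 : act 7 n31217 = n33086 := rfl
theorem F153382 : act 0 n33086 = n31236 := d6_1 D33086 (iv D31236) (iv F144858)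
theorem F153383 : act 1 n33086 = n31349 := d14_1 D33086 F145637 (iv F144859)
theorem F153384 : act 2 n33086 = n31219 := d21_1 D33086 (iv D31219) (iv F144860)
theorem F153385 : act 3 n33086 = n31342 := d27_1 D33086 F145590 (iv F144861)
theorem F153386 : act 4 n33086 = n31339 := d32_1 D33086 F145568 (iv F144862)
theorem F153387 : act 5 n33086 = n31218 := d36_1 D33086 (iv D31218) D31217
theorem F153388 : act 9 n33086 = n31327 := d43_2 (iv F144864) D33086 (iv D31327)
theorem F153389 : act 6 n32345 = n33086 := d41_3 F153388 (iv F145488) D32345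
def n33087 : Q := act 8 n31217
theorem D33087 : act 8 n31217 = n33087 := rfl
theorem F153390 : act 0 n33087 = n31237 := d7_1 D33087 (iv D31237) (iv F144858)
theorem F153391 : act 1 n33087 = n31283 := d15_1 D33087 F145235 (iv F144859)
theorem F153392 : act 2 n33087 = n31220 := d22_1 D33087 (iv D31220) (iv F144860)
theorem F153393 : act 3 n33087 = n31249 := d28_1 D33087 F145047 (iv F144861)
theorem F153394 : act 4 n33087 = n31242 := d33_1 D33087 F145005 (iv F144862)
theorem F153395 : act 6 n33087 = n33087 := d40_1 D33087 (iv D33087) F144863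
theorem F153396 : act 9 n33087 = n31239 := d44_2 (iv F144864) D33087 (iv D31239) F136153 (iv F136574)
def n33088 : Q := act 6 n31219
theorem D33088 : act 6 n31219 = n33088 := rfl
theorem F153397 : act 0 n33088 = n31240 := d5_1 D33088 (iv D31240) (iv F144871)
theorem F153398 : act 1 n33088 = n32187 := d13_1 D33088 (iv D32187) (iv F144872)
theorem F153399 : act 2 n33088 = n32345 := d20_1 D33088 F153389 F153384
theorem F153400 : act 3 n33088 = n31221 := d26_1 D33088 (iv D31221) (iv F144873)
theorem F153401 : act 4 n33088 = n32883 := d31_1 D33088 (iv D32883) (iv F144874)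
theorem F153402 : act 5 n33088 = n32343 := d35_1 D33088 F150419 F141326 (iv F136072) (iv F144875)
theorem F153403 : act 7 n33088 = n33088 := d39_2 D31219 D33088 (iv D33088) (iv D31219) F136066
theorem F153404 : act 9 n33088 = n31328 := d41_2 (iv F144876) D33088 (iv D31328)
def n33089 : Q := act 8 n31219
theorem D33089 : act 8 n31219 = n33089 := rfl
theorem F153405 : act 0 n33089 = n31241 := d7_1 D33089 (iv D31241) (iv F144871)
theorem F153406 : act 1 n33089 = n32188 := d15_1 D33089 (iv D32188) (iv F144872)
theorem F153407 : act 3 n33089 = n31222 := d28_1 D33089 (iv D31222) (iv F144873)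
theorem F153408 : act 4 n33089 = n32638 := d33_1 D33089 F151567 (iv F144874)
theorem F153409 : act 7 n33089 = n31220 := d42_1 D33089 (iv D31220) D31219
def n33090 : Q := act 9 n31220
theorem D33090 : act 9 n31220 = n33090 := rfl
theorem F153410 : act 0 n33090 = n31242 := d8_1 D33090 (iv D31242) (iv F144877)
theorem F153411 : act 1 n33090 = n32189 := d16_1 D33090 (iv D32189) (iv F144878)
theorem F153412 : act 2 n33090 = n31239 := d23_1 D33090 (iv F153396) F153392
theorem F153413 : act 3 n33090 = n31223 := d29_1 D33090 (iv D31223) (iv F144879)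
theorem F153414 : act 4 n33090 = n31237 := d34_1 D33090 F144981 (iv F144880)
theorem F153415 : act 6 n33090 = n33090 := d41_1 D33090 (iv D33090) F144881
theorem F153416 : act 8 n33090 = n31235 := d44_1 D33090 F144971 (iv D29364) (iv F136067) D31220
def n33091 : Q := act 8 n31221
theorem D33091 : act 8 n31221 = n33091 := rfl
theorem F153417 : act 0 n33091 = n31243 := d7_1 D33091 (iv D31243) (iv F144882)
theorem F153418 : act 1 n33091 = n32190 := d15_1 D33091 (iv D32190) (iv F144883)
theorem F153419 : act 2 n33091 = n32173 := d22_1 D33091 F149804 (iv F144884)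
theorem F153420 : act 4 n33091 = n31225 := d33_1 D33091 (iv D31225) (iv F144885)
theorem F153421 : act 6 n33091 = n31222 := d40_1 D33091 (iv D31222) D31221
theorem F153422 : act 7 n33091 = n33091 := d42_1 D33091 (iv D33091) F144887
def n33092 : Q := act 9 n31222
theorem D33092 : act 9 n31222 = n33092 := rfl
theorem F153423 : act 0 n33092 = n31244 := d8_1 D33092 (iv D31244) (iv F144889)
theorem F153424 : act 1 n33092 = n32191 := d16_1 D33092 (iv D32191) (iv F144890)
theorem F153425 : act 2 n33092 = n31605 := d23_1 D33092 F147019 (iv F144891)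
theorem F153426 : act 4 n33092 = n31226 := d34_1 D33092 (iv D31226) (iv F144892)
theorem F153427 : act 7 n33092 = n31223 := d43_1 D33092 (iv D31223) (iv F144893)
theorem F153428 : act 8 n33092 = n31331 := d44_1 D33092 (iv D31331) (iv D29366) (iv F136079) D31222
def n33093 : Q := act 9 n31225
theorem D33093 : act 9 n31225 = n33093 := rfl
theorem F153429 : act 0 n33093 = n31252 := d8_1 D33093 (iv D31252) (iv F144909)
theorem F153430 : act 1 n33093 = n32194 := d16_1 D33093 (iv D32194) (iv F144910)
theorem F153431 : act 2 n33093 = n31606 := d23_1 D33093 F147025 (iv F144911)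
theorem F153432 : act 3 n33093 = n32637 := d29_1 D33093 F151564 (iv F144912)
theorem F153433 : act 5 n33093 = n31958 := d38_1 D33093 F148710 F144915
theorem F153434 : act 6 n33093 = n31226 := d41_1 D33093 (iv D31226) (iv F144913)
theorem F153435 : act 7 n33093 = n33093 := d43_1 D33093 (iv D33093) F144914
theorem F153436 : act 8 n33093 = n31335 := d44_1 D33093 (iv D31335) (iv D29371) (iv F136097) D31225
def n33094 : Q := act 4 n31227
theorem D33094 : act 4 n31227 = n33094 := rfl
theorem F153437 : act 1 n33094 = n32783 := d11_1 D33094 F152021 (iv F144923)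
theorem F153438 : act 2 n33094 = n31229 := d18_1 D33094 (iv D31229) (iv F144924)
theorem F153439 : act 5 n33094 = n31713 := d30_2 D31227 D33094 (iv D31713) (iv D29702) (iv F136114)
theorem F153440 : act 6 n33094 = n32747 := d31_2 (iv F144926) D33094 (iv D32747)
theorem F153441 : act 9 n33094 = n32672 := d34_2 (iv F144927) D33094 (iv D32672)
def n33095 : Q := act 7 n31227
theorem D33095 : act 7 n31227 = n33095 := rfl
theorem F153442 : act 1 n33095 = n32785 := d14_1 D33095 F152028 (iv F144923)
theorem F153443 : act 2 n33095 = n31230 := d21_1 D33095 (iv D31230) (iv F144924)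
theorem F153444 : act 3 n33095 = n32795 := d27_1 D33095 F152053 (iv F144925)
theorem F153445 : act 5 n33095 = n31228 := d36_1 D33095 (iv D31228) D31227
theorem F153446 : act 9 n33095 = n32673 := d43_2 (iv F144927) D33095 (iv D32673)
def n33096 : Q := act 8 n31227
theorem D33096 : act 8 n31227 = n33096 := rfl
theorem F153447 : act 1 n33096 = n32766 := d15_1 D33096 F151983 (iv F144923)
theorem F153448 : act 2 n33096 = n31231 := d22_1 D33096 (iv D31231) (iv F144924)
theorem F153449 : act 3 n33096 = n32575 := d28_1 D33096 (iv F151324) (iv F144925)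
theorem F153450 : act 5 n33096 = n31237 := d37_1 D33096 (iv D31237) (iv D29281) (iv F136115) D31227
theorem F153451 : act 6 n33096 = n32749 := d40_1 D33096 (iv D32749) (iv F144926)
theorem F153452 : act 9 n33096 = n32583 := d44_2 (iv F144927) D33096 F151362 F142818 (iv F142580)
def n33097 : Q := act 7 n31229
theorem D33097 : act 7 n31229 = n33097 := rfl
theorem F153453 : act 1 n33097 = n31269 := d14_1 D33097 (iv D31269) (iv F144935)
theorem F153454 : act 3 n33097 = n32715 := d27_1 D33097 (iv D32715) (iv F144936)
theorem F153455 : act 4 n33097 = n31230 := d32_1 D33097 (iv D31230) D31229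
theorem F153456 : act 5 n33097 = n31716 := d36_1 D33097 (iv D31716) (iv F144937)
theorem F153457 : act 9 n33097 = n32674 := d43_2 (iv F144939) D33097 (iv D32674)
def n33098 : Q := act 8 n31229
theorem D33098 : act 8 n31229 = n33098 := rfl
theorem F153458 : act 1 n33098 = n31270 := d15_1 D33098 (iv D31270) (iv F144935)
theorem F153459 : act 3 n33098 = n32665 := d28_1 D33098 F151677 (iv F144936)
theorem F153460 : act 4 n33098 = n31231 := d33_1 D33098 (iv D31231) D31229
theorem F153461 : act 6 n33098 = n32689 := d40_1 D33098 F151762 (iv F144938)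
def n33099 : Q := act 6 n31230
theorem D33099 : act 6 n31230 = n33099 := rfl
theorem F153462 : act 1 n33099 = n31271 := d13_1 D33099 (iv D31271) (iv F144940)
theorem F153463 : act 3 n33099 = n31232 := d26_1 D33099 (iv D31232) (iv F144941)
theorem F153464 : act 5 n33099 = n32686 := d35_1 D33099 (iv D32686) F142620 (iv F136124) (iv F144942)
theorem F153465 : act 7 n33099 = n32751 := d39_2 D31230 D33099 (iv D32751) (iv D30747) (iv F136119)
theorem F153466 : act 9 n33099 = n32676 := d41_2 (iv F144943) D33099 (iv D32676)
def n33100 : Q := act 8 n31230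
theorem D33100 : act 8 n31230 = n33100 := rfl
theorem F153467 : act 1 n33100 = n31272 := d15_1 D33100 (iv D31272) (iv F144940)
theorem F153468 : act 3 n33100 = n31233 := d28_1 D33100 (iv D31233) (iv F144941)
theorem F153469 : act 5 n33100 = n31241 := d37_1 D33100 (iv D31241) F136156 (iv F136125) (iv F144942)
theorem F153470 : act 7 n33100 = n31231 := d42_1 D33100 (iv D31231) D31230
def n33101 : Q := act 9 n31231
theorem D33101 : act 9 n31231 = n33101 := rfl
theorem F153471 : act 1 n33101 = n31273 := d16_1 D33101 (iv D31273) (iv F144944)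
theorem F153472 : act 2 n33101 = n32583 := d23_1 D33101 (iv F153452) F153448
theorem F153473 : act 3 n33101 = n31234 := d29_1 D33101 (iv D31234) (iv F144945)
theorem F153474 : act 5 n33101 = n31242 := d38_1 D33101 (iv D31242) (iv F144946)
theorem F153475 : act 6 n33101 = n32753 := d41_1 D33101 (iv D32753) (iv F144947)
theorem F153476 : act 8 n33101 = n32678 := d44_1 D33101 (iv D32678) (iv D30681) (iv F136120) D31231
def n33102 : Q := act 8 n31232
theorem D33102 : act 8 n31232 = n33102 := rfl
theorem F153477 : act 1 n33102 = n31274 := d15_1 D33102 (iv D31274) (iv F144948)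
theorem F153478 : act 2 n33102 = n32803 := d22_1 D33102 (iv D32803) (iv F144949)
theorem F153479 : act 4 n33102 = n32717 := d33_1 D33102 (iv D32717) (iv F144950)
theorem F153480 : act 6 n33102 = n31233 := d40_1 D33102 (iv D31233) D31232
theorem F153481 : act 7 n33102 = n32754 := d42_1 D33102 (iv D32754) (iv F144952)
def n33103 : Q := act 9 n31233
theorem D33103 : act 9 n31233 = n33103 := rfl
theorem F153482 : act 1 n33103 = n31275 := d16_1 D33103 (iv D31275) (iv F144954)
theorem F153483 : act 2 n33103 = n32570 := d23_1 D33103 F151297 (iv F144955)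
theorem F153484 : act 4 n33103 = n32569 := d34_1 D33103 F151291 (iv F144956)
theorem F153485 : act 5 n33103 = n31244 := d38_1 D33103 (iv D31244) (iv F144957)
theorem F153486 : act 7 n33103 = n31234 := d43_1 D33103 (iv D31234) (iv F144958)
theorem F153487 : act 8 n33103 = n32680 := d44_1 D33103 (iv D32680) (iv D30683) (iv F136131) D31233
def n33104 : Q := act 7 n31235
theorem D33104 : act 7 n31235 = n33104 := rfl
theorem F153488 : act 0 n33104 = n31339 := d6_1 D33104 F145568 (iv F144965)
theorem F153489 : act 1 n33104 = n32334 := d14_1 D33104 F150371 (iv F144966)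
theorem F153490 : act 2 n33104 = n31238 := d21_1 D33104 (iv D31238) (iv F144967)
theorem F153491 : act 3 n33104 = n31331 := d27_1 D33104 F145515 (iv F144968)
theorem F153492 : act 4 n33104 = n31236 := d32_1 D33104 (iv D31236) D31235
theorem F153493 : act 5 n33104 = n31734 := d36_1 D33104 (iv D31734) (iv F144969)
theorem F153494 : act 9 n33104 = n31329 := d43_2 (iv F144971) D33104 F145502
def n33105 : Q := act 6 n31236
theorem D33105 : act 6 n31236 = n33105 := rfl
theorem F153495 : act 0 n33105 = n32345 := d5_1 D33105 F153389 F153382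
theorem F153496 : act 1 n33105 = n32896 := d13_1 D33105 F152398 (iv F144972)
theorem F153497 : act 2 n33105 = n31240 := d20_1 D33105 (iv D31240) (iv F144973)
theorem F153498 : act 3 n33105 = n31351 := d26_1 D33105 F145647 (iv F144974)
theorem F153499 : act 5 n33105 = n31350 := d35_1 D33105 F145641 F136773 (iv F136146) (iv F144975)
theorem F153500 : act 7 n33105 = n33105 := d39_2 D31236 D33105 (iv D33105) (iv D31236) F136140
theorem F153501 : act 9 n33105 = n31336 := d41_2 (iv F144976) D33105 (iv D31336)
def n33106 : Q := act 8 n31236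
theorem D33106 : act 8 n31236 = n33106 := rfl
theorem F153502 : act 1 n33106 = n32885 := d15_1 D33106 F152366 (iv F144972)
theorem F153503 : act 2 n33106 = n31241 := d22_1 D33106 (iv D31241) (iv F144973)
theorem F153504 : act 3 n33106 = n32636 := d28_1 D33106 F151559 (iv F144974)
theorem F153505 : act 7 n33106 = n31237 := d42_1 D33106 (iv D31237) D31236
theorem F153506 : act 9 n33106 = n32638 := d44_2 (iv F144976) D33106 F151567 F143289 (iv F136645)
def n33107 : Q := act 6 n31238
theorem D33107 : act 6 n31238 = n33107 := rfl
theorem F153507 : act 0 n33107 = n32883 := d5_1 D33107 (iv D32883) (iv F144982)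
theorem F153508 : act 1 n33107 = n31280 := d13_1 D33107 (iv D31280) (iv F144983)
theorem F153509 : act 3 n33107 = n31246 := d26_1 D33107 (iv D31246) (iv F144984)
theorem F153510 : act 4 n33107 = n31240 := d31_1 D33107 (iv D31240) (iv F144985)
theorem F153511 : act 5 n33107 = n32017 := d35_1 D33107 F149061 F139785 (iv F138478) (iv F144986)
theorem F153512 : act 7 n33107 = n33107 := d39_2 D31238 D33107 (iv D33107) (iv D31238) F136152
theorem F153513 : act 9 n33107 = n31337 := d41_2 (iv F144987) D33107 (iv D31337)
def n33108 : Q := act 8 n31238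
theorem D33108 : act 8 n31238 = n33108 := rfl
theorem F153514 : act 0 n33108 = n32638 := d7_1 D33108 F151567 (iv F144982)
theorem F153515 : act 1 n33108 = n31281 := d15_1 D33108 (iv D31281) (iv F144983)
theorem F153516 : act 3 n33108 = n31247 := d28_1 D33108 (iv D31247) (iv F144984)
theorem F153517 : act 4 n33108 = n31241 := d33_1 D33108 (iv D31241) (iv F144985)
theorem F153518 : act 7 n33108 = n31239 := d42_1 D33108 (iv D31239) D31238
def n33109 : Q := act 5 n31239
theorem D33109 : act 5 n31239 = n33109 := rfl
theorem F153519 : act 0 n33109 = n32583 := d4_1 D33109 F151361 (iv F144988)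
theorem F153520 : act 1 n33109 = n31282 := d12_1 D33109 (iv D31282) (iv F144989)
theorem F153521 : act 3 n33109 = n31248 := d25_1 D33109 (iv D31248) (iv F144990)
theorem F153522 : act 8 n33109 = n31739 := d37_2 D31239 D33109 (iv D31739) (iv D29724) (iv F136151)
def n33110 : Q := act 8 n31240
theorem D33110 : act 8 n31240 = n33110 := rfl
theorem F153523 : act 1 n33110 = n31284 := d15_1 D33110 (iv D31284) (iv F144993)
theorem F153524 : act 3 n33110 = n31243 := d28_1 D33110 (iv D31243) (iv F144994)
theorem F153525 : act 6 n33110 = n31241 := d40_1 D33110 (iv D31241) D31240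
theorem F153526 : act 7 n33110 = n33110 := d42_1 D33110 (iv D33110) F144996
def n33111 : Q := act 9 n31241
theorem D33111 : act 9 n31241 = n33111 := rfl
theorem F153527 : act 1 n33111 = n31285 := d16_1 D33111 (iv D31285) (iv F144998)
theorem F153528 : act 2 n33111 = n32638 := d23_1 D33111 (iv F153506) F153503
theorem F153529 : act 3 n33111 = n31244 := d29_1 D33111 (iv D31244) (iv F144999)
theorem F153530 : act 7 n33111 = n31242 := d43_1 D33111 (iv D31242) (iv F145000)
theorem F153531 : act 8 n33111 = n31339 := d44_1 D33111 (iv D31339) (iv D29376) (iv F136157) D31241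
def n33112 : Q := act 5 n31243
theorem D33112 : act 5 n31243 = n33112 := rfl
theorem F153532 : act 1 n33112 = n31286 := d12_1 D33112 (iv D31286) (iv F145006)
theorem F153533 : act 2 n33112 = n33042 := d19_1 D33112 (iv D33042) (iv F145007)
theorem F153534 : act 7 n33112 = n33112 := d36_2 F145010 D33112 (iv D33112)
theorem F153535 : act 8 n33112 = n32882 := d37_2 D31243 D33112 (iv D32882) (iv D30895) (iv F136164)
def n33113 : Q := act 9 n31243
theorem D33113 : act 9 n31243 = n33113 := rfl
theorem F153536 : act 1 n33113 = n31287 := d16_1 D33113 (iv D31287) (iv F145006)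
theorem F153537 : act 2 n33113 = n32635 := d23_1 D33113 F151555 (iv F145007)
theorem F153538 : act 4 n33113 = n31252 := d34_1 D33113 (iv D31252) (iv F145008)
theorem F153539 : act 6 n33113 = n31244 := d41_1 D33113 (iv D31244) (iv F145009)
theorem F153540 : act 7 n33113 = n33113 := d43_1 D33113 (iv D33113) F145010
theorem F153541 : act 8 n33113 = n31340 := d44_1 D33113 (iv D31340) (iv D29378) (iv F136166) D31243
def n33114 : Q := act 8 n31246
theorem D33114 : act 8 n31246 = n33114 := rfl
theorem F153542 : act 0 n33114 = n32639 := d7_1 D33114 F151572 (iv F145025)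
theorem F153543 : act 1 n33114 = n31289 := d15_1 D33114 (iv D31289) (iv F145026)
theorem F153544 : act 2 n33114 = n31611 := d22_1 D33114 F147060 (iv F145027)
theorem F153545 : act 4 n33114 = n31250 := d33_1 D33114 (iv D31250) (iv F145028)
theorem F153546 : act 6 n33114 = n31247 := d40_1 D33114 (iv D31247) D31246
theorem F153547 : act 7 n33114 = n33114 := d42_1 D33114 (iv D33114) F145030
theorem F153548 : act 9 n33114 = n32346 := d44_2 (iv F145031) D33114 (iv D32346) (iv D30359) (iv F136704)
def n33115 : Q := act 5 n31247
theorem D33115 : act 5 n31247 = n33115 := rfl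
theorem F153549 : act 0 n33115 = n32584 := d4_1 D33115 F151366 (iv F145032)
theorem F153550 : act 1 n33115 = n31290 := d12_1 D33115 (iv D31290) (iv F145033)
theorem F153551 : act 2 n33115 = n31555 := d19_1 D33115 F146780 (iv F145034)
theorem F153552 : act 4 n33115 = n31554 := d30_1 D33115 F146776 F137665 (iv F136204) (iv F145035)
theorem F153553 : act 7 n33115 = n31248 := d36_2 (iv F145036) D33115 (iv D31248)
theorem F153554 : act 8 n33115 = n31743 := d37_2 D31247 D33115 (iv D31743) (iv D29730) (iv F136188)
def n33116 : Q := act 9 n31247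
theorem D33116 : act 9 n31247 = n33116 := rfl
theorem F153555 : act 0 n33116 = n32636 := d8_1 D33116 F151560 (iv F145032)
theorem F153556 : act 1 n33116 = n31291 := d16_1 D33116 (iv D31291) (iv F145033)
theorem F153557 : act 2 n33116 = n31608 := d23_1 D33116 F147037 (iv F145034)
theorem F153558 : act 4 n33116 = n31251 := d34_1 D33116 (iv D31251) (iv F145035)
theorem F153559 : act 6 n33116 = n32346 := d41_1 D33116 (iv F153548) F153546
theorem F153560 : act 7 n33116 = n31249 := d43_1 D33116 (iv D31249) (iv F145036)
theorem F153561 : act 8 n33116 = n31342 := d44_1 D33116 (iv D31342) (iv D29384) (iv F136189) D31247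
def n33117 : Q := act 6 n31248
theorem D33117 : act 6 n31248 = n33117 := rfl
theorem F153562 : act 0 n33117 = n32534 := d5_1 D33117 F151125 (iv F145037)
theorem F153563 : act 1 n33117 = n31292 := d13_1 D33117 (iv D31292) (iv F145038)
theorem F153564 : act 2 n33117 = n31510 := d20_1 D33117 F146527 (iv F145039)
theorem F153565 : act 4 n33117 = n31508 := d31_1 D33117 F146515 (iv F145040)
theorem F153566 : act 5 n33117 = n33117 := d35_1 D33117 (iv D33117) (iv D31248) F136194 D31248
theorem F153567 : act 8 n33117 = n31744 := d40_2 (iv F145041) D33117 (iv D31744)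
theorem F153568 : act 9 n31901 = n33117 := d44_0 F153567 F147746 F140371 (iv F139076) D31901
def n33118 : Q := act 9 n31248
theorem D33118 : act 9 n31248 = n33118 := rfl
theorem F153569 : act 0 n33118 = n32575 := d8_1 D33118 F151323 (iv F145037)
theorem F153570 : act 1 n33118 = n31293 := d16_1 D33118 (iv D31293) (iv F145038)
theorem F153571 : act 2 n33118 = n31549 := d23_1 D33118 F146748 (iv F145039)
theorem F153572 : act 4 n33118 = n31547 := d34_1 D33118 F146736 (iv F145040)
theorem F153573 : act 5 n33118 = n31249 := d38_1 D33118 (iv D31249) D31248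
theorem F153574 : act 6 n33118 = n31901 := d41_1 D33118 F153568 (iv D33117)
theorem F153575 : act 8 n33118 = n31860 := d44_1 D33118 F148225 F140379 (iv F138525) (iv F145041)
def n33119 : Q := act 9 n31250
theorem D33119 : act 9 n31250 = n33119 := rfl
theorem F153576 : act 0 n33119 = n32637 := d8_1 D33119 F151564 (iv F145048)
theorem F153577 : act 1 n33119 = n31295 := d16_1 D33119 (iv D31295) (iv F145049)
theorem F153578 : act 2 n33119 = n31609 := d23_1 D33119 F147046 (iv F145050)
theorem F153579 : act 3 n33119 = n31252 := d29_1 D33119 (iv D31252) (iv F145051)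
theorem F153580 : act 4 n33119 = n32346 := d34_1 D33119 (iv F153548) F153545
theorem F153581 : act 5 n33119 = n31620 := d38_1 D33119 F147111 F145054
theorem F153582 : act 6 n33119 = n31251 := d41_1 D33119 (iv D31251) (iv F145052)
theorem F153583 : act 7 n33119 = n33119 := d43_1 D33119 (iv D33119) F145053
theorem F153584 : act 8 n33119 = n31343 := d44_1 D33119 (iv D31343) (iv D29386) (iv F136199) D31250
def n33120 : Q := act 5 n31253
theorem D33120 : act 5 n31253 = n33120 := rfl
theorem F153585 : act 0 n33120 = n32224 := d4_1 D33120 (iv D32224) (iv F145068)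
theorem F153586 : act 1 n33120 = n32918 := d12_1 D33120 F152475 (iv F145069)
theorem F153587 : act 2 n33120 = n31254 := d19_1 D33120 (iv D31254) (iv F145070)
theorem F153588 : act 3 n33120 = n33120 := d25_1 D33120 (iv D33120) F145071
theorem F153589 : act 6 n33120 = n31747 := d35_2 D31253 D33120 (iv D31747) (iv D29733) (iv F136224)
theorem F153590 : act 9 n33120 = n31382 := d38_2 (iv F145074) D33120 (iv D31382)
def n33121 : Q := act 7 n31253
theorem D33121 : act 7 n31253 = n33121 := rfl
theorem F153591 : act 0 n33121 = n32225 := d6_1 D33121 (iv D32225) (iv F145068)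
theorem F153592 : act 1 n33121 = n32916 := d14_1 D33121 F152470 (iv F145069)
theorem F153593 : act 2 n33121 = n31255 := d21_1 D33121 (iv D31255) (iv F145070)
theorem F153594 : act 3 n33121 = n33121 := d27_1 D33121 (iv D33121) F145071
theorem F153595 : act 4 n33121 = n31259 := d32_1 D33121 (iv D31259) (iv F145072)
theorem F153596 : act 6 n33121 = n32697 := d39_1 D33121 (iv D32697) (iv D30703) (iv F136225) D31253
theorem F153597 : act 8 n33121 = n33121 := d42_2 F145073 D33121 (iv D33121)
theorem F153598 : act 9 n33121 = n31383 := d43_2 (iv F145074) D33121 (iv D31383)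
def n33122 : Q := act 4 n31254
theorem D33122 : act 4 n31254 = n33122 := rfl
theorem F153599 : act 0 n33122 = n32226 := d3_1 D33122 (iv D32226) (iv F145075)
theorem F153600 : act 1 n33122 = n31458 := d11_1 D33122 (iv D31458) (iv F145076)
theorem F153601 : act 3 n33122 = n31704 := d24_1 D33122 (iv D31704) F138365 (iv F136238) (iv F145077)
theorem F153602 : act 5 n33122 = n31260 := d30_2 D31254 D33122 (iv D31260) (iv D29302) (iv F136232)
theorem F153603 : act 6 n33122 = n31749 := d31_2 (iv F145078) D33122 (iv D31749)
theorem F153604 : act 9 n33122 = n31384 := d34_2 (iv F145079) D33122 (iv D31384)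
def n33123 : Q := act 7 n31254
theorem D33123 : act 7 n31254 = n33123 := rfl
theorem F153605 : act 0 n33123 = n32227 := d6_1 D33123 (iv D32227) (iv F145075)
theorem F153606 : act 1 n33123 = n31459 := d14_1 D33123 (iv D31459) (iv F145076)
theorem F153607 : act 3 n33123 = n31256 := d27_1 D33123 (iv D31256) (iv F145077)
theorem F153608 : act 5 n33123 = n31255 := d36_1 D33123 (iv D31255) D31254
theorem F153609 : act 9 n33123 = n31385 := d43_2 (iv F145079) D33123 (iv D31385)
def n33124 : Q := act 8 n31254
theorem D33124 : act 8 n31254 = n33124 := rfl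
theorem F153610 : act 0 n33124 = n32228 := d7_1 D33124 (iv D32228) (iv F145075)
theorem F153611 : act 1 n33124 = n31460 := d15_1 D33124 (iv D31460) (iv F145076)
theorem F153612 : act 3 n33124 = n31257 := d28_1 D33124 (iv D31257) (iv F145077)
theorem F153613 : act 5 n33124 = n33124 := d37_1 D33124 (iv D33124) (iv D31254) F136233 D31254
theorem F153614 : act 6 n33124 = n31751 := d40_1 D33124 (iv D31751) (iv F145078)
def n33125 : Q := act 6 n31256
theorem D33125 : act 6 n31256 = n33125 := rfl
theorem F153615 : act 0 n33125 = n32229 := d5_1 D33125 (iv D32229) (iv F145087)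
theorem F153616 : act 1 n33125 = n31461 := d13_1 D33125 (iv D31461) (iv F145088)
theorem F153617 : act 2 n33125 = n33125 := d20_1 D33125 (iv D33125) F145089
theorem F153618 : act 4 n33125 = n31707 := d31_1 D33125 (iv D31707) (iv F145090)
theorem F153619 : act 5 n33125 = n32701 := d35_1 D33125 (iv D32701) F142682 (iv F136245) (iv F145091)
theorem F153620 : act 7 n33125 = n31752 := d39_2 D31256 D33125 (iv D31752) (iv D29736) (iv F136239)
theorem F153621 : act 9 n33125 = n31387 := d41_2 (iv F145092) D33125 (iv D31387)
def n33126 : Q := act 8 n31256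
theorem D33126 : act 8 n31256 = n33126 := rfl
theorem F153622 : act 0 n33126 = n32230 := d7_1 D33126 (iv D32230) (iv F145087)
theorem F153623 : act 1 n33126 = n31462 := d15_1 D33126 (iv D31462) (iv F145088)
theorem F153624 : act 2 n33126 = n33126 := d22_1 D33126 (iv D33126) F145089
theorem F153625 : act 4 n33126 = n31708 := d33_1 D33126 (iv D31708) (iv F145090)
theorem F153626 : act 5 n33126 = n33126 := d37_1 D33126 (iv D33126) F145091 F136246 (iv F145091)
theorem F153627 : act 7 n33126 = n31257 := d42_1 D33126 (iv D31257) D31256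
def n33127 : Q := act 9 n31257
theorem D33127 : act 9 n31257 = n33127 := rfl
theorem F153628 : act 0 n33127 = n32231 := d8_1 D33127 (iv D32231) (iv F145093)
theorem F153629 : act 1 n33127 = n31463 := d16_1 D33127 (iv D31463) (iv F145094)
theorem F153630 : act 2 n33127 = n33127 := d23_1 D33127 (iv D33127) F145095
theorem F153631 : act 4 n33127 = n31709 := d34_1 D33127 (iv D31709) (iv F145096)
theorem F153632 : act 5 n33127 = n33127 := d38_1 D33127 (iv D33127) F145097
theorem F153633 : act 6 n33127 = n31754 := d41_1 D33127 (iv D31754) (iv F145098)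
theorem F153634 : act 8 n33127 = n31389 := d44_1 D33127 (iv D31389) (iv D29434) (iv F136240) D31257
def n33128 : Q := act 4 n31258
theorem D33128 : act 4 n31258 = n33128 := rfl
theorem F153635 : act 0 n33128 = n32234 := d3_1 D33128 (iv D32234) (iv F145099)
theorem F153636 : act 1 n33128 = n32741 := d11_1 D33128 F151911 (iv F145100)
theorem F153637 : act 2 n33128 = n31260 := d18_1 D33128 (iv D31260) (iv F145101)
theorem F153638 : act 6 n33128 = n31266 := d31_2 (iv F145103) D33128 (iv D31266)
theorem F153639 : act 9 n33128 = n32668 := d34_2 (iv F145104) D33128 F151686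
def n33129 : Q := act 7 n31258
theorem D33129 : act 7 n31258 = n33129 := rfl
theorem F153640 : act 0 n33129 = n32235 := d6_1 D33129 (iv D32235) (iv F145099)
theorem F153641 : act 1 n33129 = n32743 := d14_1 D33129 F151918 (iv F145100)
theorem F153642 : act 2 n33129 = n31261 := d21_1 D33129 (iv D31261) (iv F145101)
theorem F153643 : act 3 n33129 = n31299 := d27_1 D33129 (iv D31299) (iv F145102)
theorem F153644 : act 5 n33129 = n31259 := d36_1 D33129 (iv D31259) D31258
theorem F153645 : act 9 n33129 = n32670 := d43_2 (iv F145104) D33129 F151695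
def n33130 : Q := act 8 n31258
theorem D33130 : act 8 n31258 = n33130 := rfl
theorem F153646 : act 0 n33130 = n32236 := d7_1 D33130 (iv D32236) (iv F145099)
theorem F153647 : act 1 n33130 = n32727 := d15_1 D33130 F151874 (iv F145100)
theorem F153648 : act 2 n33130 = n31262 := d22_1 D33130 (iv D31262) (iv F145101)
theorem F153649 : act 3 n33130 = n31300 := d28_1 D33130 (iv D31300) (iv F145102)
theorem F153650 : act 5 n33130 = n33130 := d37_1 D33130 (iv D33130) (iv D31258) F136252 D31258
theorem F153651 : act 6 n33130 = n31268 := d40_1 D33130 (iv D31268) (iv F145103)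
theorem F153652 : act 9 n33130 = n32449 := d44_2 (iv F145104) D33130 (iv D32449) F141712 D30674
def n33131 : Q := act 7 n31260
theorem D33131 : act 7 n31260 = n33131 := rfl
theorem F153653 : act 0 n33131 = n32237 := d6_1 D33131 (iv D32237) (iv F145112)
theorem F153654 : act 1 n33131 = n32750 := d14_1 D33131 (iv D32750) (iv F145113)
theorem F153655 : act 3 n33131 = n32674 := d27_1 D33131 (iv D32674) (iv F145114)
theorem F153656 : act 4 n33131 = n31261 := d32_1 D33131 (iv D31261) D31260
theorem F153657 : act 9 n33131 = n32715 := d43_2 (iv F145116) D33131 (iv D32715)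
def n33132 : Q := act 8 n31260
theorem D33132 : act 8 n31260 = n33132 := rfl
theorem F153658 : act 0 n33132 = n32238 := d7_1 D33132 (iv D32238) (iv F145112)
theorem F153659 : act 1 n33132 = n32689 := d15_1 D33132 F151762 (iv F145113)
theorem F153660 : act 3 n33132 = n32675 := d28_1 D33132 (iv D32675) (iv F145114)
theorem F153661 : act 4 n33132 = n31262 := d33_1 D33132 (iv D31262) D31260
theorem F153662 : act 6 n33132 = n31270 := d40_1 D33132 (iv D31270) (iv F145115)
def n33133 : Q := act 6 n31261
theorem D33133 : act 6 n31261 = n33133 := rfl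
theorem F153663 : act 0 n33133 = n32239 := d5_1 D33133 (iv D32239) (iv F145117)
theorem F153664 : act 1 n33133 = n32751 := d13_1 D33133 (iv D32751) (iv F145118)
theorem F153665 : act 3 n33133 = n31263 := d26_1 D33133 (iv D31263) (iv F145119)
theorem F153666 : act 5 n33133 = n32725 := d35_1 D33133 (iv D32725) F142736 (iv F136262) (iv F145120)
theorem F153667 : act 7 n33133 = n31271 := d39_2 D31261 D33133 (iv D31271) (iv D29309) (iv F136257)
theorem F153668 : act 9 n33133 = n32716 := d41_2 (iv F145121) D33133 (iv D32716)
def n33134 : Q := act 8 n31261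
theorem D33134 : act 8 n31261 = n33134 := rfl
theorem F153669 : act 0 n33134 = n32240 := d7_1 D33134 (iv D32240) (iv F145117)
theorem F153670 : act 1 n33134 = n32752 := d15_1 D33134 (iv D32752) (iv F145118)
theorem F153671 : act 3 n33134 = n31264 := d28_1 D33134 (iv D31264) (iv F145119)
theorem F153672 : act 5 n33134 = n33134 := d37_1 D33134 (iv D33134) F145120 F136263 (iv F145120)
theorem F153673 : act 7 n33134 = n31262 := d42_1 D33134 (iv D31262) D31261
def n33135 : Q := act 9 n31262
theorem D33135 : act 9 n31262 = n33135 := rfl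
theorem F153674 : act 0 n33135 = n32241 := d8_1 D33135 (iv D32241) (iv F145122)
theorem F153675 : act 1 n33135 = n32753 := d16_1 D33135 (iv D32753) (iv F145123)
theorem F153676 : act 2 n33135 = n32449 := d23_1 D33135 (iv F153652) F153648
theorem F153677 : act 3 n33135 = n31265 := d29_1 D33135 (iv D31265) (iv F145124)
theorem F153678 : act 5 n33135 = n33135 := d38_1 D33135 (iv D33135) F145125
theorem F153679 : act 6 n33135 = n31273 := d41_1 D33135 (iv D31273) (iv F145126)
theorem F153680 : act 8 n33135 = n32445 := d44_1 D33135 F150836 F142556 (iv F136258) D31262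
def n33136 : Q := act 8 n31263
theorem D33136 : act 8 n31263 = n33136 := rfl
theorem F153681 : act 0 n33136 = n32242 := d7_1 D33136 (iv D32242) (iv F145127)
theorem F153682 : act 1 n33136 = n32754 := d15_1 D33136 (iv D32754) (iv F145128)
theorem F153683 : act 2 n33136 = n31304 := d22_1 D33136 (iv D31304) (iv F145129)
theorem F153684 : act 4 n33136 = n32679 := d33_1 D33136 (iv D32679) (iv F145130)
theorem F153685 : act 6 n33136 = n31264 := d40_1 D33136 (iv D31264) D31263
theorem F153686 : act 7 n33136 = n31274 := d42_1 D33136 (iv D31274) (iv F145132)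
def n33137 : Q := act 9 n31264
theorem D33137 : act 9 n31264 = n33137 := rfl
theorem F153687 : act 0 n33137 = n32243 := d8_1 D33137 (iv D32243) (iv F145134)
theorem F153688 : act 1 n33137 = n32755 := d16_1 D33137 (iv D32755) (iv F145135)
theorem F153689 : act 2 n33137 = n31305 := d23_1 D33137 (iv D31305) (iv F145136)
theorem F153690 : act 4 n33137 = n32680 := d34_1 D33137 (iv D32680) (iv F145137)
theorem F153691 : act 5 n33137 = n33137 := d38_1 D33137 (iv D33137) F145138
theorem F153692 : act 7 n33137 = n31265 := d43_1 D33137 (iv D31265) (iv F145139)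
theorem F153693 : act 8 n33137 = n32569 := d44_1 D33137 F151291 (iv D30721) (iv F136270) D31264
def n33138 : Q := act 3 n31266
theorem D33138 : act 3 n31266 = n33138 := rfl
theorem F153694 : act 0 n33138 = n32247 := d2_1 D33138 (iv D32247) (iv F145147)
theorem F153695 : act 1 n33138 = n32491 := d10_1 D33138 F150971 (iv F145148)
theorem F153696 : act 4 n33138 = n31306 := d24_2 D31266 D33138 (iv D31306) (iv D29340) (iv F136280)
theorem F153697 : act 5 n33138 = n31817 := d25_2 (iv F145150) D33138 (iv D31817)
theorem F153698 : act 9 n33138 = n32398 := d29_2 (iv F145151) D33138 F150663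
def n33139 : Q := act 7 n31266
theorem D33139 : act 7 n31266 = n33139 := rfl
theorem F153699 : act 0 n33139 = n32248 := d6_1 D33139 (iv D32248) (iv F145147)
theorem F153700 : act 1 n33139 = n32789 := d14_1 D33139 F152034 (iv F145148)
theorem F153701 : act 2 n33139 = n31269 := d21_1 D33139 (iv D31269) (iv F145149)
theorem F153702 : act 4 n33139 = n31267 := d32_1 D33139 (iv D31267) D31266
theorem F153703 : act 5 n33139 = n31818 := d36_1 D33139 (iv D31818) (iv F145150)
theorem F153704 : act 9 n33139 = n32693 := d43_2 (iv F145151) D33139 F151774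
def n33140 : Q := act 8 n31266
theorem D33140 : act 8 n31266 = n33140 := rfl
theorem F153705 : act 0 n33140 = n32249 := d7_1 D33140 (iv D32249) (iv F145147)
theorem F153706 : act 1 n33140 = n32770 := d15_1 D33140 F151990 (iv F145148)
theorem F153707 : act 2 n33140 = n31270 := d22_1 D33140 (iv D31270) (iv F145149)
theorem F153708 : act 4 n33140 = n31268 := d33_1 D33140 (iv D31268) D31266
theorem F153709 : act 9 n33140 = n32685 := d44_2 (iv F145151) D33140 (iv D32685) F142617 D30697
def n33141 : Q := act 6 n31267
theorem D33141 : act 6 n31267 = n33141 := rfl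
theorem F153710 : act 0 n33141 = n32250 := d5_1 D33141 (iv D32250) (iv F145152)
theorem F153711 : act 1 n33141 = n32791 := d13_1 D33141 F152037 (iv F145153)
theorem F153712 : act 2 n33141 = n31271 := d20_1 D33141 (iv D31271) (iv F145154)
theorem F153713 : act 3 n33141 = n31309 := d26_1 D33141 (iv D31309) (iv F145155)
theorem F153714 : act 5 n33141 = n32764 := d35_1 D33141 (iv D32764) F142828 (iv F136287) (iv F145156)
theorem F153715 : act 9 n33141 = n32694 := d41_2 (iv F145157) D33141 F151778
def n33142 : Q := act 8 n31267
theorem D33142 : act 8 n31267 = n33142 := rfl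
theorem F153716 : act 0 n33142 = n32251 := d7_1 D33142 (iv D32251) (iv F145152)
theorem F153717 : act 1 n33142 = n32772 := d15_1 D33142 F151996 (iv F145153)
theorem F153718 : act 2 n33142 = n31272 := d22_1 D33142 (iv D31272) (iv F145154)
theorem F153719 : act 3 n33142 = n31310 := d28_1 D33142 (iv D31310) (iv F145155)
theorem F153720 : act 5 n33142 = n31279 := d37_1 D33142 (iv D31279) F136323 (iv F136288) (iv F145156)
theorem F153721 : act 7 n33142 = n31268 := d42_1 D33142 (iv D31268) D31267
theorem F153722 : act 9 n33142 = n32687 := d44_2 (iv F145157) D33142 (iv D32687) F142621 D30699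
def n33143 : Q := act 6 n31269
theorem D33143 : act 6 n31269 = n33143 := rfl
theorem F153723 : act 0 n33143 = n32253 := d5_1 D33143 (iv D32253) (iv F145164)
theorem F153724 : act 4 n33143 = n31271 := d31_1 D33143 (iv D31271) (iv F145165)
theorem F153725 : act 9 n33143 = n32756 := d41_2 (iv F145167) D33143 (iv D32756)
def n33144 : Q := act 8 n31269
theorem D33144 : act 8 n31269 = n33144 := rfl
theorem F153726 : act 0 n33144 = n32254 := d7_1 D33144 (iv D32254) (iv F145164)
theorem F153727 : act 4 n33144 = n31272 := d33_1 D33144 (iv D31272) (iv F145165)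
theorem F153728 : act 7 n33144 = n31270 := d42_1 D33144 (iv D31270) D31269
def n33145 : Q := act 5 n31270
theorem D33145 : act 5 n31270 = n33145 := rfl
theorem F153729 : act 0 n33145 = n32255 := d4_1 D33145 (iv D32255) (iv F145168)
theorem F153730 : act 4 n33145 = n31282 := d30_1 D33145 (iv D31282) F136338 (iv F136299) (iv F145169)
theorem F153731 : act 8 n33145 = n31825 := d37_2 D31270 D33145 (iv D31825) (iv D29788) (iv F136291)
def n33146 : Q := act 9 n31270
theorem D33146 : act 9 n31270 = n33146 := rfl
theorem F153732 : act 0 n33146 = n32256 := d8_1 D33146 (iv D32256) (iv F145168)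
theorem F153733 : act 2 n33146 = n32685 := d23_1 D33146 (iv F153709) F153707
theorem F153734 : act 4 n33146 = n31273 := d34_1 D33146 (iv D31273) (iv F145169)
theorem F153735 : act 8 n33146 = n32682 := d44_1 D33146 F151741 F142638 (iv F136292) D31270
def n33147 : Q := act 8 n31271
theorem D33147 : act 8 n31271 = n33147 := rfl
theorem F153736 : act 0 n33147 = n32257 := d7_1 D33147 (iv D32257) (iv F145170)
theorem F153737 : act 3 n33147 = n31274 := d28_1 D33147 (iv D31274) (iv F145171)
theorem F153738 : act 6 n33147 = n31272 := d40_1 D33147 (iv D31272) D31271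
def n33148 : Q := act 9 n31272
theorem D33148 : act 9 n31272 = n33148 := rfl
theorem F153739 : act 0 n33148 = n32258 := d8_1 D33148 (iv D32258) (iv F145174)
theorem F153740 : act 2 n33148 = n32687 := d23_1 D33148 (iv F153722) F153718
theorem F153741 : act 3 n33148 = n31275 := d29_1 D33148 (iv D31275) (iv F145175)
theorem F153742 : act 5 n33148 = n31285 := d38_1 D33148 (iv D31285) (iv F145176)
theorem F153743 : act 7 n33148 = n31273 := d43_1 D33148 (iv D31273) (iv F145177)
theorem F153744 : act 8 n33148 = n32683 := d44_1 D33148 F151745 F142642 (iv F136296) D31272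
def n33149 : Q := act 5 n31274
theorem D33149 : act 5 n31274 = n33149 := rfl
theorem F153745 : act 0 n33149 = n32259 := d4_1 D33149 (iv D32259) (iv F145183)
theorem F153746 : act 2 n33149 = n31314 := d19_1 D33149 (iv D31314) (iv F145184)
theorem F153747 : act 6 n33149 = n31286 := d35_2 (iv F145185) D33149 (iv D31286) F136356 (iv F136306)
theorem F153748 : act 8 n33149 = n32773 := d37_2 D31274 D33149 (iv D32773) (iv D30766) (iv F136302)
def n33150 : Q := act 9 n31274
theorem D33150 : act 9 n31274 = n33150 := rfl
theorem F153749 : act 0 n33150 = n32260 := d8_1 D33150 (iv D32260) (iv F145183)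
theorem F153750 : act 2 n33150 = n31315 := d23_1 D33150 (iv D31315) (iv F145184)
theorem F153751 : act 6 n33150 = n31275 := d41_1 D33150 (iv D31275) (iv F145185)
theorem F153752 : act 8 n33150 = n32758 := d44_1 D33150 (iv D32758) (iv D30754) (iv F136303) D31274
def n33151 : Q := act 6 n31276
theorem D33151 : act 6 n31276 = n33151 := rfl
theorem F153753 : act 0 n33151 = n32263 := d5_1 D33151 (iv D32263) (iv F145191)
theorem F153754 : act 1 n33151 = n32897 := d13_1 D33151 F152402 (iv F145192)
theorem F153755 : act 2 n33151 = n31280 := d20_1 D33151 (iv D31280) (iv F145193)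
theorem F153756 : act 3 n33151 = n33151 := d26_1 D33151 (iv D33151) F145194
theorem F153757 : act 4 n33151 = n31278 := d31_1 D33151 (iv D31278) (iv F145195)
theorem F153758 : act 7 n33151 = n33151 := d39_2 D31276 D33151 (iv D33151) (iv D31276) F136317
theorem F153759 : act 9 n33151 = n31346 := d41_2 (iv F145197) D33151 (iv D31346)
def n33152 : Q := act 8 n31276
theorem D33152 : act 8 n31276 = n33152 := rfl
theorem F153760 : act 0 n33152 = n32264 := d7_1 D33152 (iv D32264) (iv F145191)
theorem F153761 : act 1 n33152 = n32889 := d15_1 D33152 F152379 (iv F145192)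
theorem F153762 : act 2 n33152 = n31281 := d22_1 D33152 (iv D31281) (iv F145193)
theorem F153763 : act 3 n33152 = n33152 := d28_1 D33152 (iv D33152) F145194
theorem F153764 : act 4 n33152 = n31279 := d33_1 D33152 (iv D31279) (iv F145195)
theorem F153765 : act 7 n33152 = n31277 := d42_1 D33152 (iv D31277) D31276
theorem F153766 : act 9 n33152 = n32879 := d44_2 (iv F145197) D33152 (iv D32879) F143265 (iv F136743)
def n33153 : Q := act 5 n31277
theorem D33153 : act 5 n31277 = n33153 := rfl
theorem F153767 : act 0 n33153 = n32265 := d4_1 D33153 (iv D32265) (iv F145198)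
theorem F153768 : act 1 n33153 = n32891 := d12_1 D33153 F152383 (iv F145199)
theorem F153769 : act 2 n33153 = n31282 := d19_1 D33153 (iv D31282) (iv F145200)
theorem F153770 : act 3 n33153 = n33153 := d25_1 D33153 (iv D33153) F145201
theorem F153771 : act 8 n33153 = n31846 := d37_2 D31277 D33153 (iv D31846) (iv D29806) (iv F136316)
theorem F153772 : act 9 n33153 = n32880 := d38_2 (iv F145204) D33153 (iv D32880)
def n33154 : Q := act 8 n31278
theorem D33154 : act 8 n31278 = n33154 := rfl
theorem F153773 : act 0 n33154 = n32267 := d7_1 D33154 (iv D32267) (iv F145205)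
theorem F153774 : act 1 n33154 = n32893 := d15_1 D33154 F152389 (iv F145206)
theorem F153775 : act 2 n33154 = n31284 := d22_1 D33154 (iv D31284) (iv F145207)
theorem F153776 : act 3 n33154 = n31316 := d28_1 D33154 (iv D31316) (iv F145208)
theorem F153777 : act 6 n33154 = n31279 := d40_1 D33154 (iv D31279) D31278
theorem F153778 : act 7 n33154 = n33154 := d42_1 D33154 (iv D33154) F145210
theorem F153779 : act 9 n33154 = n32881 := d44_2 (iv F145211) D33154 (iv D32881) F143273 (iv F136750)
def n33155 : Q := act 5 n31280
theorem D33155 : act 5 n31280 = n33155 := rfl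
theorem F153780 : act 0 n33155 = n32261 := d4_1 D33155 F150108 (iv F145218)
theorem F153781 : act 1 n33155 = n32017 := d12_1 D33155 (iv F153511) F153508
theorem F153782 : act 3 n33155 = n31288 := d25_1 D33155 (iv D31288) (iv F145219)
theorem F153783 : act 4 n33155 = n32886 := d30_1 D33155 (iv D32886) F143302 (iv F136342) (iv F145220)
theorem F153784 : act 6 n33155 = n31849 := d35_2 D31280 D33155 (iv D31849) (iv D29810) (iv F136334)
theorem F153785 : act 7 n33155 = n33155 := d36_2 F145221 D33155 (iv D33155)
theorem F153786 : act 9 n33155 = n31347 := d38_2 (iv F145222) D33155 (iv D31347)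
def n33156 : Q := act 8 n31280
theorem D33156 : act 8 n31280 = n33156 := rfl
theorem F153787 : act 0 n33156 = n32269 := d7_1 D33156 (iv D32269) (iv F145218)
theorem F153788 : act 3 n33156 = n31289 := d28_1 D33156 (iv D31289) (iv F145219)
theorem F153789 : act 4 n33156 = n31284 := d33_1 D33156 (iv D31284) (iv F145220)
theorem F153790 : act 6 n33156 = n31281 := d40_1 D33156 (iv D31281) D31280
theorem F153791 : act 7 n33156 = n33156 := d42_1 D33156 (iv D33156) F145221
def n33157 : Q := act 5 n31281
theorem D33157 : act 5 n31281 = n33157 := rfl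
theorem F153792 : act 0 n33157 = n32270 := d4_1 D33157 (iv D32270) (iv F145223)
theorem F153793 : act 3 n33157 = n31290 := d25_1 D33157 (iv D31290) (iv F145224)
theorem F153794 : act 7 n33157 = n31282 := d36_2 (iv F145226) D33157 (iv D31282)
theorem F153795 : act 8 n33157 = n31850 := d37_2 D31281 D33157 (iv D31850) (iv D29811) (iv F136334)
def n33158 : Q := act 9 n31281
theorem D33158 : act 9 n31281 = n33158 := rfl
theorem F153796 : act 0 n33158 = n32271 := d8_1 D33158 (iv D32271) (iv F145223)
theorem F153797 : act 2 n33158 = n32879 := d23_1 D33158 (iv F153766) F153762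
theorem F153798 : act 3 n33158 = n31291 := d29_1 D33158 (iv D31291) (iv F145224)
theorem F153799 : act 4 n33158 = n31285 := d34_1 D33158 (iv D31285) (iv F145225)
theorem F153800 : act 7 n33158 = n31283 := d43_1 D33158 (iv D31283) (iv F145226)
theorem F153801 : act 8 n33158 = n31349 := d44_1 D33158 (iv D31349) (iv D29393) (iv F136335) D31281
def n33159 : Q := act 6 n31282
theorem D33159 : act 6 n31282 = n33159 := rfl
theorem F153802 : act 0 n33159 = n32272 := d5_1 D33159 (iv D32272) (iv F145227)
theorem F153803 : act 3 n33159 = n31292 := d26_1 D33159 (iv D31292) (iv F145228)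
theorem F153804 : act 5 n33159 = n33159 := d35_1 D33159 (iv D33159) (iv D31282) F136339 D31282
theorem F153805 : act 8 n33159 = n31851 := d40_2 (iv F145229) D33159 (iv D31851)
def n33160 : Q := act 9 n31282
theorem D33160 : act 9 n31282 = n33160 := rfl
theorem F153806 : act 0 n33160 = n32273 := d8_1 D33160 (iv D32273) (iv F145227)
theorem F153807 : act 2 n33160 = n32880 := d23_1 D33160 (iv F153772) F153769
theorem F153808 : act 3 n33160 = n31293 := d29_1 D33160 (iv D31293) (iv F145228)
theorem F153809 : act 5 n33160 = n31283 := d38_1 D33160 (iv D31283) D31282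
def n33161 : Q := act 5 n31284
theorem D33161 : act 5 n31284 = n33161 := rfl
theorem F153810 : act 0 n33161 = n32274 := d4_1 D33161 (iv D32274) (iv F145236)
theorem F153811 : act 3 n33161 = n31286 := d25_1 D33161 (iv D31286) (iv F145237)
theorem F153812 : act 7 n33161 = n33161 := d36_2 F145239 D33161 (iv D33161)
theorem F153813 : act 8 n33161 = n32892 := d37_2 D31284 D33161 (iv D32892) (iv D30905) (iv F136342)
def n33162 : Q := act 9 n31284
theorem D33162 : act 9 n31284 = n33162 := rfl
theorem F153814 : act 0 n33162 = n32275 := d8_1 D33162 (iv D32275) (iv F145236)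
theorem F153815 : act 2 n33162 = n32881 := d23_1 D33162 (iv F153779) F153775
theorem F153816 : act 3 n33162 = n31287 := d29_1 D33162 (iv D31287) (iv F145237)
theorem F153817 : act 6 n33162 = n31285 := d41_1 D33162 (iv D31285) (iv F145238)
theorem F153818 : act 7 n33162 = n33162 := d43_1 D33162 (iv D33162) F145239
theorem F153819 : act 8 n33162 = n31350 := d44_1 D33162 (iv D31350) (iv D29395) (iv F136344) D31284
def n33163 : Q := act 4 n31286
theorem D33163 : act 4 n31286 = n33163 := rfl
theorem F153820 : act 0 n33163 = n32276 := d3_1 D33163 (iv D32276) (iv F145245)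
theorem F153821 : act 2 n33163 = n31318 := d18_1 D33163 (iv D31318) (iv F145246)
theorem F153822 : act 5 n33163 = n31296 := d30_2 D31286 D33163 (iv D31296) (iv D29330) (iv F136355)
theorem F153823 : act 7 n33163 = n33163 := d32_2 F145247 D33163 (iv D33163)
theorem F153824 : act 8 n33163 = n32894 := d33_2 (iv F145248) D33163 (iv D32894)
def n33164 : Q := act 9 n31286
theorem D33164 : act 9 n31286 = n33164 := rfl
theorem F153825 : act 0 n33164 = n32277 := d8_1 D33164 (iv D32277) (iv F145245)
theorem F153826 : act 2 n33164 = n31319 := d23_1 D33164 (iv D31319) (iv F145246)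
theorem F153827 : act 5 n33164 = n31287 := d38_1 D33164 (iv D31287) D31286
theorem F153828 : act 7 n33164 = n33164 := d43_1 D33164 (iv D33164) F145247
def n33165 : Q := act 8 n31288
theorem D33165 : act 8 n31288 = n33165 := rfl
theorem F153829 : act 0 n33165 = n32278 := d7_1 D33165 (iv D32278) (iv F145255)
theorem F153830 : act 1 n33165 = n32012 := d15_1 D33165 F149031 (iv F145256)
theorem F153831 : act 2 n33165 = n33165 := d22_1 D33165 (iv D33165) F145257
theorem F153832 : act 4 n33165 = n33165 := d33_1 D33165 (iv D33165) F145258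
theorem F153833 : act 6 n33165 = n31854 := d40_1 D33165 (iv D31854) (iv F145259)
theorem F153834 : act 7 n33165 = n33165 := d42_1 D33165 (iv D33165) F145260
theorem F153835 : act 9 n33165 = n31998 := d44_2 (iv F145261) D33165 (iv D31998) F139613 F136792
def n33166 : Q := act 5 n31289
theorem D33166 : act 5 n31289 = n33166 := rfl
theorem F153836 : act 0 n33166 = n32279 := d4_1 D33166 (iv D32279) (iv F145262)
theorem F153837 : act 2 n33166 = n33166 := d19_1 D33166 (iv D33166) F145263
theorem F153838 : act 7 n33166 = n33166 := d36_2 F145266 D33166 (iv D33166)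
def n33167 : Q := act 9 n31289
theorem D33167 : act 9 n31289 = n33167 := rfl
theorem F153839 : act 0 n33167 = n32280 := d8_1 D33167 (iv D32280) (iv F145262)
theorem F153840 : act 1 n33167 = n32346 := d16_1 D33167 (iv F153548) F153543
theorem F153841 : act 2 n33167 = n33167 := d23_1 D33167 (iv D33167) F145263
theorem F153842 : act 4 n33167 = n31295 := d34_1 D33167 (iv D31295) (iv F145264)
theorem F153843 : act 6 n33167 = n31291 := d41_1 D33167 (iv D31291) (iv F145265)
theorem F153844 : act 7 n33167 = n33167 := d43_1 D33167 (iv D33167) F145266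
theorem F153845 : act 8 n33167 = n31352 := d44_1 D33167 (iv D31352) (iv D29400) (iv F136367) D31289
def n33168 : Q := act 6 n31290
theorem D33168 : act 6 n31290 = n33168 := rfl
theorem F153846 : act 0 n33168 = n32281 := d5_1 D33168 (iv D32281) (iv F145267)
theorem F153847 : act 2 n33168 = n33168 := d20_1 D33168 (iv D33168) F145268
theorem F153848 : act 8 n33168 = n31855 := d40_2 (iv F145270) D33168 (iv D31855)
def n33169 : Q := act 9 n31290
theorem D33169 : act 9 n31290 = n33169 := rfl
theorem F153849 : act 0 n33169 = n32282 := d8_1 D33169 (iv D32282) (iv F145267)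
theorem F153850 : act 2 n33169 = n33169 := d23_1 D33169 (iv D33169) F145268
theorem F153851 : act 5 n33169 = n31291 := d38_1 D33169 (iv D31291) D31290
theorem F153852 : act 7 n33169 = n31293 := d43_1 D33169 (iv D31293) (iv F145269)
def n33170 : Q := act 7 n31292
theorem D33170 : act 7 n31292 = n33170 := rfl
theorem F153853 : act 0 n33170 = n32283 := d6_1 D33170 (iv D32283) (iv F145276)
theorem F153854 : act 2 n33170 = n33170 := d21_1 D33170 (iv D33170) F145277
theorem F153855 : act 5 n33170 = n33170 := d36_1 D33170 (iv D33170) F145278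
theorem F153856 : act 8 n33170 = n31856 := d42_2 (iv F145279) D33170 (iv D31856)
def n33171 : Q := act 9 n31292
theorem D33171 : act 9 n31292 = n33171 := rfl
theorem F153857 : act 0 n33171 = n32284 := d8_1 D33171 (iv D32284) (iv F145276)
theorem F153858 : act 1 n33171 = n31901 := d16_1 D33171 F153568 F153563
theorem F153859 : act 2 n33171 = n33171 := d23_1 D33171 (iv D33171) F145277
theorem F153860 : act 4 n33171 = n32922 := d34_1 D33171 F153233 F153230
theorem F153861 : act 5 n33171 = n33171 := d38_1 D33171 (iv D33171) F145278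
theorem F153862 : act 6 n33171 = n31293 := d41_1 D33171 (iv D31293) D31292
theorem F153863 : act 8 n33171 = n31897 := d44_1 D33171 F148418 F148213 (iv D31857) (iv F145279)
def n33172 : Q := act 8 n31293
theorem D33172 : act 8 n31293 = n33172 := rfl
theorem F153864 : act 0 n33172 = n31931 := d7_1 D33172 F148581 (iv F145280)
theorem F153865 : act 1 n33172 = n31860 := d15_1 D33172 (iv F153575) F153570
theorem F153866 : act 2 n33172 = n33172 := d22_1 D33172 (iv D33172) F145281
theorem F153867 : act 5 n33172 = n31354 := d37_1 D33172 (iv D31354) F136815 (iv F136379) (iv F145282)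
theorem F153868 : act 6 n33172 = n31897 := d40_1 D33172 (iv F153863) F153862
theorem F153869 : act 9 n33172 = n31858 := d44_2 D31293 D33172 (iv D31858) (iv D29819) (iv F136374)
def n33173 : Q := act 4 n31294
theorem D33173 : act 4 n31294 = n33173 := rfl
theorem F153870 : act 0 n33173 = n32285 := d3_1 D33173 (iv D32285) (iv F145283)
theorem F153871 : act 1 n33173 = n31631 := d11_1 D33173 F147172 (iv F145284)
theorem F153872 : act 2 n33173 = n33173 := d18_1 D33173 (iv D33173) F145285
theorem F153873 : act 6 n33173 = n31629 := d31_2 (iv F145287) D33173 F147164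
theorem F153874 : act 7 n33173 = n33173 := d32_2 F145288 D33173 (iv D33173)
theorem F153875 : act 8 n33173 = n33173 := d33_2 F145289 D33173 (iv D33173)
def n33174 : Q := act 9 n31294
theorem D33174 : act 9 n31294 = n33174 := rfl
theorem F153876 : act 0 n33174 = n32286 := d8_1 D33174 (iv D32286) (iv F145283)
theorem F153877 : act 1 n33174 = n31620 := d16_1 D33174 F147111 (iv F145284)
theorem F153878 : act 2 n33174 = n33174 := d23_1 D33174 (iv D33174) F145285
theorem F153879 : act 3 n33174 = n31297 := d29_1 D33174 (iv D31297) (iv F145286)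
theorem F153880 : act 5 n33174 = n31295 := d38_1 D33174 (iv D31295) D31294
theorem F153881 : act 6 n33174 = n31615 := d41_1 D33174 F147083 (iv F145287)
theorem F153882 : act 7 n33174 = n33174 := d43_1 D33174 (iv D33174) F145288
def n33175 : Q := act 3 n31296
theorem D33175 : act 3 n31296 = n33175 := rfl
theorem F153883 : act 0 n33175 = n32287 := d2_1 D33175 (iv D32287) (iv F145296)
theorem F153884 : act 7 n33175 = n33175 := d27_2 F145298 D33175 (iv D33175)
theorem F153885 : act 8 n33175 = n33175 := d28_2 F145299 D33175 (iv D33175)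
def n33176 : Q := act 9 n31296
theorem D33176 : act 9 n31296 = n33176 := rfl
theorem F153886 : act 0 n33176 = n32288 := d8_1 D33176 (iv D32288) (iv F145296)
theorem F153887 : act 1 n33176 = n32867 := d16_1 D33176 (iv F153311) F153306
theorem F153888 : act 2 n33176 = n31321 := d23_1 D33176 (iv D31321) (iv F145297)
theorem F153889 : act 4 n33176 = n31297 := d34_1 D33176 (iv D31297) D31296
theorem F153890 : act 6 n33176 = n32865 := d41_1 D33176 (iv F153247) F153244
theorem F153891 : act 7 n33176 = n33176 := d43_1 D33176 (iv D33176) F145298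
theorem F153892 : act 8 n32949 = n33176 := d40_0 F153890 F152290 D32949
def n33177 : Q := act 8 n31297
theorem D33177 : act 8 n31297 = n33177 := rfl
theorem F153893 : act 0 n33177 = n32289 := d7_1 D33177 (iv D32289) (iv F145300)
theorem F153894 : act 1 n33177 = n32868 := d15_1 D33177 (iv D32868) (iv F145301)
theorem F153895 : act 2 n33177 = n31322 := d22_1 D33177 (iv D31322) (iv F145302)
theorem F153896 : act 4 n33177 = n32949 := d33_1 D33177 F153892 F153889
theorem F153897 : act 5 n33177 = n31357 := d37_1 D33177 (iv D31357) F136837 (iv F136398) (iv F145303)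
theorem F153898 : act 6 n33177 = n32866 := d40_1 D33177 (iv D32866) (iv F145304)
theorem F153899 : act 7 n33177 = n33177 := d42_1 D33177 (iv D33177) F145305
theorem F153900 : act 9 n33177 = n33177 := d44_2 D31297 D33177 (iv D33177) (iv D31297) F136393
def n33178 : Q := act 3 n31298
theorem D33178 : act 3 n31298 = n33178 := rfl
theorem F153901 : act 0 n33178 = n32293 := d2_1 D33178 (iv D32293) (iv F145306)
theorem F153902 : act 1 n33178 = n32442 := d10_1 D33178 F150822 (iv F145307)
theorem F153903 : act 2 n33178 = n32851 := d17_1 D33178 F152247 F143139 (iv F136413) (iv F145308)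
theorem F153904 : act 5 n33178 = n33178 := d25_2 F145309 D33178 (iv D33178)
theorem F153905 : act 6 n33178 = n31306 := d26_2 (iv F145310) D33178 (iv D31306)
theorem F153906 : act 8 n33178 = n32461 := d28_2 F145312 D33178 F150889
theorem F153907 : act 9 n33178 = n32369 := d29_2 (iv F145311) D33178 F150535
def n33179 : Q := act 7 n31298
theorem D33179 : act 7 n31298 = n33179 := rfl
theorem F153908 : act 0 n33179 = n32294 := d6_1 D33179 (iv D32294) (iv F145306)
theorem F153909 : act 1 n33179 = n32444 := d14_1 D33179 F150832 (iv F145307)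
theorem F153910 : act 2 n33179 = n31301 := d21_1 D33179 (iv D31301) (iv F145308)
theorem F153911 : act 4 n33179 = n31299 := d32_1 D33179 (iv D31299) D31298
theorem F153912 : act 5 n33179 = n33179 := d36_1 D33179 (iv D33179) F145309
theorem F153913 : act 8 n33179 = n32463 := d42_2 F145312 D33179 F150895
theorem F153914 : act 9 n33179 = n32371 := d43_2 (iv F145311) D33179 F150548
def n33180 : Q := act 6 n31299
theorem D33180 : act 6 n31299 = n33180 := rfl
theorem F153915 : act 0 n33180 = n32295 := d5_1 D33180 (iv D32295) (iv F145313)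
theorem F153916 : act 1 n33180 = n32745 := d13_1 D33180 F151924 (iv F145314)
theorem F153917 : act 2 n33180 = n31302 := d20_1 D33180 (iv D31302) (iv F145315)
theorem F153918 : act 5 n33180 = n32807 := d35_1 D33180 (iv D32807) F142962 (iv F136408) (iv F145316)
theorem F153919 : act 7 n33180 = n31309 := d39_2 D31299 D33180 (iv D31309) (iv D29341) (iv F136402)
theorem F153920 : act 9 n33180 = n32671 := d41_2 (iv F145317) D33180 F151698
def n33181 : Q := act 8 n31299
theorem D33181 : act 8 n31299 = n33181 := rfl
theorem F153921 : act 0 n33181 = n32296 := d7_1 D33181 (iv D32296) (iv F145313)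
theorem F153922 : act 1 n33181 = n32729 := d15_1 D33181 F151881 (iv F145314)
theorem F153923 : act 2 n33181 = n31303 := d22_1 D33181 (iv D31303) (iv F145315)
theorem F153924 : act 4 n33181 = n32463 := d33_1 D33181 (iv F153913) F153911
theorem F153925 : act 5 n33181 = n33181 := d37_1 D33181 (iv D33181) F145316 F136409 (iv F145316)
theorem F153926 : act 7 n33181 = n31300 := d42_1 D33181 (iv D31300) D31299
theorem F153927 : act 9 n33181 = n32451 := d44_2 (iv F145317) D33181 (iv D32451) F141722 D30676
def n33182 : Q := act 6 n31301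
theorem D33182 : act 6 n31301 = n33182 := rfl
theorem F153928 : act 0 n33182 = n32297 := d5_1 D33182 (iv D32297) (iv F145325)
theorem F153929 : act 1 n33182 = n32955 := d13_1 D33182 F152649 (iv F145326)
theorem F153930 : act 3 n33182 = n32839 := d26_1 D33182 F152207 (iv F145327)
theorem F153931 : act 4 n33182 = n31302 := d31_1 D33182 (iv D31302) (iv F145328)
theorem F153932 : act 7 n33182 = n31311 := d39_2 D31301 D33182 (iv D31311) (iv D29343) (iv F136415)
theorem F153933 : act 8 n33182 = n32590 := d40_2 (iv F145330) D33182 F151389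
theorem F153934 : act 9 n33182 = n32581 := d41_2 (iv F145331) D33182 F151353
def n33183 : Q := act 8 n31302
theorem D33183 : act 8 n31302 = n33183 := rfl
theorem F153935 : act 0 n33183 = n32298 := d7_1 D33183 (iv D32298) (iv F145332)
theorem F153936 : act 1 n33183 = n32997 := d15_1 D33183 F152904 (iv F145333)
theorem F153937 : act 3 n33183 = n31304 := d28_1 D33183 (iv D31304) (iv F145334)
theorem F153938 : act 4 n33183 = n32590 := d33_1 D33183 (iv F153933) F153931
theorem F153939 : act 6 n33183 = n31303 := d40_1 D33183 (iv D31303) D31302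
theorem F153940 : act 7 n33183 = n31313 := d42_1 D33183 (iv D31313) (iv F145336)
theorem F153941 : act 9 n33183 = n32572 := d44_2 (iv F145337) D33183 (iv D32572) F142100 (iv F142942)
def n33184 : Q := act 5 n31304
theorem D33184 : act 5 n31304 = n33184 := rfl
theorem F153942 : act 0 n33184 = n32299 := d4_1 D33184 (iv D32299) (iv F145345)
theorem F153943 : act 1 n33184 = n33028 := d12_1 D33184 (iv D33028) (iv F145346)
theorem F153944 : act 4 n33184 = n32860 := d30_1 D33184 (iv D32860) F143163 D30866 (iv F145347)
theorem F153945 : act 6 n33184 = n33184 := d35_2 (iv F145348) D33184 (iv D33184) F145348 F136439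
theorem F153946 : act 7 n33184 = n31314 := d36_2 (iv F145349) D33184 (iv D31314)
theorem F153947 : act 8 n33184 = n32814 := d37_2 D31304 D33184 (iv D32814) (iv D30812) (iv F136433)
def n33185 : Q := act 9 n31304
theorem D33185 : act 9 n31304 = n33185 := rfl
theorem F153948 : act 0 n33185 = n32300 := d8_1 D33185 (iv D32300) (iv F145345)
theorem F153949 : act 1 n33185 = n32995 := d16_1 D33185 F152892 (iv F145346)
theorem F153950 : act 3 n33185 = n32572 := d29_1 D33185 (iv F153941) F153937
theorem F153951 : act 4 n33185 = n32862 := d34_1 D33185 (iv D32862) (iv F145347)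
theorem F153952 : act 6 n33185 = n31305 := d41_1 D33185 (iv D31305) (iv F145348)
theorem F153953 : act 7 n33185 = n31315 := d43_1 D33185 (iv D31315) (iv F145349)
theorem F153954 : act 8 n33185 = n32571 := d44_1 D33185 F151302 (iv D30801) (iv F136435) D31304
def n33186 : Q := act 7 n31306
theorem D33186 : act 7 n31306 = n33186 := rfl
theorem F153955 : act 0 n33186 = n32305 := d6_1 D33186 (iv D32305) (iv F145357)
theorem F153956 : act 1 n33186 = n32493 := d14_1 D33186 F150977 (iv F145358)
theorem F153957 : act 3 n33186 = n31307 := d27_1 D33186 (iv D31307) D31306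
theorem F153958 : act 5 n33186 = n31323 := d36_1 D33186 (iv D31323) (iv F145359)
theorem F153959 : act 9 n33186 = n32400 := d43_2 (iv F145360) D33186 F150670
def n33187 : Q := act 8 n31306
theorem D33187 : act 8 n31306 = n33187 := rfl
theorem F153960 : act 0 n33187 = n32306 := d7_1 D33187 (iv D32306) (iv F145357)
theorem F153961 : act 1 n33187 = n32474 := d15_1 D33187 F150928 (iv F145358)
theorem F153962 : act 2 n33187 = n32816 := d22_1 D33187 (iv F153253) F153250
theorem F153963 : act 3 n33187 = n31308 := d28_1 D33187 (iv D31308) D31306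
theorem F153964 : act 5 n33187 = n33187 := d37_1 D33187 (iv D33187) F145359 F136539 (iv F145359)
theorem F153965 : act 6 n33187 = n32461 := d40_1 D33187 (iv F153906) F153905
theorem F153966 : act 9 n33187 = n32388 := d44_2 (iv F145360) D33187 (iv D32388) F141522 D30409
def n33188 : Q := act 6 n31307
theorem D33188 : act 6 n31307 = n33188 := rfl
theorem F153967 : act 0 n33188 = n32307 := d5_1 D33188 (iv D32307) (iv F145361)
theorem F153968 : act 1 n33188 = n32495 := d13_1 D33188 F150982 (iv F145362)
theorem F153969 : act 2 n33188 = n31311 := d20_1 D33188 (iv D31311) (iv F145363)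
theorem F153970 : act 4 n33188 = n31309 := d31_1 D33188 (iv D31309) (iv F145364)
theorem F153971 : act 9 n33188 = n32401 := d41_2 (iv F145366) D33188 F150674
def n33189 : Q := act 8 n31307
theorem D33189 : act 8 n31307 = n33189 := rfl
theorem F153972 : act 0 n33189 = n32308 := d7_1 D33189 (iv D32308) (iv F145361)
theorem F153973 : act 1 n33189 = n32476 := d15_1 D33189 F150936 (iv F145362)
theorem F153974 : act 2 n33189 = n31312 := d22_1 D33189 (iv D31312) (iv F145363)
theorem F153975 : act 4 n33189 = n31310 := d33_1 D33189 (iv D31310) (iv F145364)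
theorem F153976 : act 5 n33189 = n33189 := d37_1 D33189 (iv D33189) F145365 F136545 (iv F145365)
theorem F153977 : act 7 n33189 = n31308 := d42_1 D33189 (iv D31308) D31307
theorem F153978 : act 9 n33189 = n32390 := d44_2 (iv F145366) D33189 (iv D32390) F141532 D30411
def n33190 : Q := act 8 n31309
theorem D33190 : act 8 n31309 = n33190 := rfl
theorem F153979 : act 0 n33190 = n32309 := d7_1 D33190 (iv D32309) (iv F145374)
theorem F153980 : act 1 n33190 = n32774 := d15_1 D33190 F152001 (iv F145375)
theorem F153981 : act 2 n33190 = n31313 := d22_1 D33190 (iv D31313) (iv F145376)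
theorem F153982 : act 6 n33190 = n31310 := d40_1 D33190 (iv D31310) D31309
theorem F153983 : act 9 n33190 = n32688 := d44_2 (iv F145378) D33190 (iv D32688) F142627 D30700
def n33191 : Q := act 5 n31311
theorem D33191 : act 5 n31311 = n33191 := rfl
theorem F153984 : act 0 n33191 = n32311 := d4_1 D33191 (iv D32311) (iv F145385)
theorem F153985 : act 1 n33191 = n32975 := d12_1 D33191 F152771 (iv F145386)
theorem F153986 : act 4 n33191 = n32844 := d30_1 D33191 (iv D32844) F143111 (iv F136478) (iv F145387)
theorem F153987 : act 6 n33191 = n31325 := d35_2 D31311 D33191 (iv D31325) (iv D29359) (iv F136466)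
theorem F153988 : act 9 n33191 = n32838 := d38_2 (iv F145388) D33191 (iv D32838)
def n33192 : Q := act 8 n31311
theorem D33192 : act 8 n31311 = n33192 := rfl
theorem F153989 : act 0 n33192 = n32312 := d7_1 D33192 (iv D32312) (iv F145385)
theorem F153990 : act 1 n33192 = n32967 := d15_1 D33192 F152734 (iv F145386)
theorem F153991 : act 3 n33192 = n32829 := d28_1 D33192 (iv F153274) F153271
theorem F153992 : act 4 n33192 = n31313 := d33_1 D33192 (iv D31313) (iv F145387)
theorem F153993 : act 6 n33192 = n31312 := d40_1 D33192 (iv D31312) D31311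
theorem F153994 : act 7 n33192 = n32590 := d42_1 D33192 (iv F153933) F153932
theorem F153995 : act 9 n33192 = n32540 := d44_2 (iv F145388) D33192 (iv D32540) F141973 (iv F143088)
def n33193 : Q := act 5 n31313
theorem D33193 : act 5 n31313 = n33193 := rfl
theorem F153996 : act 0 n33193 = n32313 := d4_1 D33193 (iv D32313) (iv F145396)
theorem F153997 : act 1 n33193 = n33033 := d12_1 D33193 F153055 (iv F145397)
theorem F153998 : act 3 n33193 = n31314 := d25_1 D33193 (iv D31314) (iv F145398)
theorem F153999 : act 6 n33193 = n31317 := d35_2 (iv F145399) D33193 (iv D31317) F136512 (iv F136483)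
theorem F154000 : act 8 n33193 = n32847 := d37_2 D31313 D33193 (iv D32847) (iv D30850) (iv F136478)
theorem F154001 : act 9 n33193 = n33026 := d38_2 (iv F145400) D33193 (iv D33026)
def n33194 : Q := act 4 n31314
theorem D33194 : act 4 n31314 = n33194 := rfl
theorem F154002 : act 0 n33194 = n32315 := d3_1 D33194 (iv D32315) (iv F145401)
theorem F154003 : act 1 n33194 = n33038 := d11_1 D33194 F153076 (iv F145402)
theorem F154004 : act 5 n33194 = n32826 := d30_2 D31314 D33194 F152161 (iv F144755) F144754
theorem F154005 : act 6 n33194 = n31318 := d31_2 (iv F145403) D33194 (iv D31318)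
theorem F154006 : act 7 n33194 = n32860 := d32_2 F153946 D33194 (iv F153944)
theorem F154007 : act 8 n33194 = n32849 := d33_2 (iv F145404) D33194 (iv D32849)
def n33195 : Q := act 9 n31314
theorem D33195 : act 9 n31314 = n33195 := rfl
theorem F154008 : act 0 n33195 = n32316 := d8_1 D33195 (iv D32316) (iv F145401)
theorem F154009 : act 1 n33195 = n33031 := d16_1 D33195 F153048 (iv F145402)
theorem F154010 : act 3 n33195 = n33026 := d29_1 D33195 (iv F154001) F153998
theorem F154011 : act 5 n33195 = n31315 := d38_1 D33195 (iv D31315) D31314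
theorem F154012 : act 6 n33195 = n31319 := d41_1 D33195 (iv D31319) (iv F145403)
def n33196 : Q := act 5 n31316
theorem D33196 : act 5 n31316 = n33196 := rfl
theorem F154013 : act 0 n33196 = n32317 := d4_1 D33196 (iv D32317) (iv F145410)
theorem F154014 : act 1 n33196 = n32895 := d12_1 D33196 F152394 (iv F145411)
theorem F154015 : act 2 n33196 = n31317 := d19_1 D33196 (iv D31317) (iv F145412)
theorem F154016 : act 7 n33196 = n33196 := d36_2 F145415 D33196 (iv D33196)
theorem F154017 : act 8 n33196 = n32898 := d37_2 D31316 D33196 (iv D32898) (iv D30918) (iv F136499)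
theorem F154018 : act 9 n33196 = n32882 := d38_2 (iv F145416) D33196 (iv D32882)
def n33197 : Q := act 4 n31317
theorem D33197 : act 4 n31317 = n33197 := rfl
theorem F154019 : act 0 n33197 = n32319 := d3_1 D33197 (iv D32319) (iv F145417)
theorem F154020 : act 1 n33197 = n33025 := d11_1 D33197 F153021 (iv F145418)
theorem F154021 : act 5 n33197 = n33197 := d30_2 D31317 D33197 (iv D33197) (iv D31317) F136511
theorem F154022 : act 7 n33197 = n33197 := d32_2 F145420 D33197 (iv D33197)
theorem F154023 : act 8 n33197 = n32901 := d33_2 (iv F145421) D33197 (iv D32901)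
theorem F154024 : act 9 n33197 = n33043 := d34_2 (iv F145422) D33197 (iv D33043)
def n33198 : Q := act 3 n31318
theorem D33198 : act 3 n31318 = n33198 := rfl
theorem F154025 : act 0 n33198 = n32321 := d2_1 D33198 (iv D32321) (iv F145423)
theorem F154026 : act 1 n33198 = n33021 := d10_1 D33198 F152998 (iv F145424)
theorem F154027 : act 5 n33198 = n31320 := d25_2 (iv F145425) D33198 (iv D31320)
theorem F154028 : act 7 n33198 = n33198 := d27_2 F145426 D33198 (iv D33198)
theorem F154029 : act 8 n33198 = n32877 := d28_2 (iv F145427) D33198 F152333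
theorem F154030 : act 9 n32874 = n33198 := d44_0 F154029 (iv D32877) (iv D30889) (iv F143242) D32874
def n33199 : Q := act 9 n31318
theorem D33199 : act 9 n31318 = n33199 := rfl
theorem F154031 : act 0 n33199 = n32322 := d8_1 D33199 (iv D32322) (iv F145423)
theorem F154032 : act 1 n33199 = n32979 := d16_1 D33199 F152800 (iv F145424)
theorem F154033 : act 3 n33199 = n32874 := d29_1 D33199 F154030 (iv D33198)
theorem F154034 : act 4 n33199 = n31319 := d34_1 D33199 (iv D31319) D31318
theorem F154035 : act 5 n33199 = n31321 := d38_1 D33199 (iv D31321) (iv F145425)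
theorem F154036 : act 7 n33199 = n33199 := d43_1 D33199 (iv D33199) F145426
theorem F154037 : act 8 n33199 = n32651 := d44_1 D33199 F151627 D32659 (iv F151661) (iv F145427)
def n33200 : Q := act 8 n31319
theorem D33200 : act 8 n31319 = n33200 := rfl
theorem F154038 : act 0 n33200 = n32323 := d7_1 D33200 (iv D32323) (iv F145428)
theorem F154039 : act 1 n33200 = n33022 := d15_1 D33200 F153007 (iv F145429)
theorem F154040 : act 3 n33200 = n33042 := d28_1 D33200 F153092 (iv F145430)
theorem F154041 : act 4 n33200 = n32651 := d33_1 D33200 (iv F154037) F154034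
theorem F154042 : act 5 n33200 = n31359 := d37_1 D33200 (iv D31359) F136849 (iv F136525) (iv F145431)
theorem F154043 : act 7 n33200 = n33200 := d42_1 D33200 (iv D33200) F145432
theorem F154044 : act 9 n33200 = n32640 := d44_2 D31319 D33200 F151576 (iv D30925) (iv F136518)
def n33201 : Q := act 2 n31320
theorem D33201 : act 2 n31320 = n33201 := rfl
theorem F154045 : act 0 n33201 = n32324 := d1_1 D33201 (iv D32324) (iv F145433)
theorem F154046 : act 1 n33201 = n32632 := d9_1 D33201 F151537 F142361 (iv F144182) (iv F145434)
theorem F154047 : act 4 n33201 = n33201 := d18_2 F145435 D33201 (iv D33201)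
theorem F154048 : act 6 n33201 = n32630 := d20_2 (iv F145436) D33201 F151531
theorem F154049 : act 7 n33201 = n33201 := d21_2 F145437 D33201 (iv D33201)
theorem F154050 : act 8 n33201 = n33201 := d22_2 F145438 D33201 (iv D33201)
theorem F154051 : act 9 n33201 = n32629 := d23_2 F145439 D33201 F151526
def n33202 : Q := act 6 n31323
theorem D33202 : act 6 n31323 = n33202 := rfl
theorem F154052 : act 0 n33202 = n32330 := d5_1 D33202 (iv D32330) (iv F145455)
theorem F154053 : act 1 n33202 = n32522 := d13_1 D33202 F151075 (iv F145456)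
theorem F154054 : act 3 n33202 = n31324 := d26_1 D33202 (iv D31324) (iv F145457)
theorem F154055 : act 4 n33202 = n31973 := d31_1 D33202 (iv D31973) (iv F145458)
theorem F154056 : act 7 n33202 = n33202 := d39_2 D31323 D33202 (iv D33202) (iv D31323) F136538
theorem F154057 : act 8 n33202 = n33202 := d40_2 F145459 D33202 (iv D33202)
theorem F154058 : act 9 n33202 = n32421 := d41_2 (iv F145460) D33202 F150759
def n33203 : Q := act 5 n31324
theorem D33203 : act 5 n31324 = n33203 := rfl
theorem F154059 : act 0 n33203 = n32331 := d4_1 D33203 (iv D32331) (iv F145461)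
theorem F154060 : act 1 n33203 = n32524 := d12_1 D33203 F151083 (iv F145462)
theorem F154061 : act 2 n33203 = n31325 := d19_1 D33203 (iv D31325) (iv F145463)
theorem F154062 : act 4 n33203 = n32873 := d30_1 D33203 (iv D32873) F143237 (iv F136551) (iv F145464)
theorem F154063 : act 7 n33203 = n33203 := d36_2 F145465 D33203 (iv D33203)
theorem F154064 : act 9 n33203 = n32422 := d38_2 (iv F145467) D33203 (iv D32422)
def n33204 : Q := act 8 n31325
theorem D33204 : act 8 n31325 = n33204 := rfl
theorem F154065 : act 0 n33204 = n32332 := d7_1 D33204 (iv D32332) (iv F145468)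
theorem F154066 : act 1 n33204 = n32982 := d15_1 D33204 (iv D32982) (iv F145469)
theorem F154067 : act 3 n33204 = n33043 := d28_1 D33204 F153318 F153314
theorem F154068 : act 4 n33204 = n32874 := d33_1 D33204 (iv D32874) (iv F145470)
theorem F154069 : act 5 n33204 = n33204 := d37_1 D33204 (iv D33204) (iv D31325) F136559 D31325
theorem F154070 : act 7 n33204 = n33204 := d42_1 D33204 (iv D33204) F145471
def n33205 : Q := act 8 n31328
theorem D33205 : act 8 n31328 = n33205 := rfl
theorem F154071 : act 0 n33205 = n31338 := d7_1 D33205 (iv D31338) (iv F145489)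
theorem F154072 : act 1 n33205 = n32333 := d15_1 D33205 (iv D32333) (iv F145490)
theorem F154073 : act 2 n33205 = n31337 := d22_1 D33205 F145556 (iv F145491)
theorem F154074 : act 3 n33205 = n31330 := d28_1 D33205 (iv D31330) (iv F145492)
theorem F154075 : act 4 n33205 = n31336 := d33_1 D33205 F145549 (iv F145493)
theorem F154076 : act 5 n33205 = n32013 := d37_1 D33205 (iv D32013) F139748 D30353 (iv F145494)
theorem F154077 : act 6 n33205 = n31329 := d40_1 D33205 (iv D31329) D31328
theorem F154078 : act 7 n33205 = n33205 := d42_1 D33205 (iv D33205) F145495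
def n33206 : Q := act 9 n31330
theorem D33206 : act 9 n31330 = n33206 := rfl
theorem F154079 : act 0 n33206 = n31340 := d8_1 D33206 (iv D31340) (iv F145503)
theorem F154080 : act 1 n33206 = n32335 := d16_1 D33206 (iv D32335) (iv F145504)
theorem F154081 : act 2 n33206 = n32030 := d23_1 D33206 (iv D32030) (iv F145505)
theorem F154082 : act 4 n33206 = n31335 := d34_1 D33206 (iv D31335) (iv F145506)
theorem F154083 : act 5 n33206 = n32027 := d38_1 D33206 (iv D32027) (iv F145507)
theorem F154084 : act 6 n33206 = n31331 := d41_1 D33206 (iv D31331) (iv F145508)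
theorem F154085 : act 7 n33206 = n33206 := d43_1 D33206 (iv D33206) F145509
def n33207 : Q := act 9 n31332
theorem D33207 : act 9 n31332 = n33207 := rfl
theorem F154086 : act 0 n33207 = n31343 := d8_1 D33207 (iv D31343) (iv F145516)
theorem F154087 : act 1 n33207 = n32336 := d16_1 D33207 (iv D32336) (iv F145517)
theorem F154088 : act 2 n33207 = n31358 := d23_1 D33207 (iv D31358) (iv F145518)
theorem F154089 : act 3 n33207 = n31335 := d29_1 D33207 (iv D31335) (iv F145519)
theorem F154090 : act 4 n33207 = n31351 := d34_1 D33207 (iv D31351) (iv F145520)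
theorem F154091 : act 5 n33207 = n31356 := d38_1 D33207 (iv D31356) F145523
theorem F154092 : act 6 n33207 = n31333 := d41_1 D33207 (iv D31333) (iv F145521)
theorem F154093 : act 7 n33207 = n33207 := d43_1 D33207 (iv D33207) F145522
theorem F154094 : act 8 n33207 = n32637 := d44_1 D33207 F151564 (iv F144907) F144908 D31332
def n33208 : Q := act 9 n31334
theorem D33208 : act 9 n31334 = n33208 := rfl
theorem F154095 : act 0 n33208 = n31345 := d8_1 D33208 (iv D31345) (iv F145532)
theorem F154096 : act 1 n33208 = n32337 := d16_1 D33208 (iv D32337) (iv F145533)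
theorem F154097 : act 3 n33208 = n31356 := d29_1 D33208 (iv D31356) (iv F145534)
theorem F154098 : act 4 n33208 = n32339 := d34_1 D33208 (iv D32339) (iv F145535)
theorem F154099 : act 5 n33208 = n31335 := d38_1 D33208 (iv D31335) D31334
theorem F154100 : act 6 n33208 = n33208 := d41_1 D33208 (iv D33208) F145536
theorem F154101 : act 7 n33208 = n33208 := d43_1 D33208 (iv D33208) F145537
def n33209 : Q := act 9 n31338
theorem D33209 : act 9 n31338 = n33209 := rfl
theorem F154102 : act 1 n33209 = n31350 := d16_1 D33209 (iv D31350) (iv F145557)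
theorem F154103 : act 2 n33209 = n32883 := d23_1 D33209 F152358 (iv F145558)
theorem F154104 : act 3 n33209 = n31340 := d29_1 D33209 (iv D31340) (iv F145559)
theorem F154105 : act 4 n33209 = n32345 := d34_1 D33209 (iv D32345) (iv F145560)
theorem F154106 : act 5 n33209 = n32896 := d38_1 D33209 (iv D32896) (iv F145561)
theorem F154107 : act 6 n33209 = n31339 := d41_1 D33209 (iv D31339) (iv F145562)
theorem F154108 : act 7 n33209 = n33209 := d43_1 D33209 (iv D33209) F145563
def n33210 : Q := act 9 n31344
theorem D33210 : act 9 n31344 = n33210 := rfl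
theorem F154109 : act 0 n33210 = n32339 := d8_1 D33210 (iv D32339) (iv F145598)
theorem F154110 : act 1 n33210 = n31356 := d16_1 D33210 (iv D31356) (iv F145599)
theorem F154111 : act 2 n33210 = n32903 := d23_1 D33210 (iv D32903) (iv F145600)
theorem F154112 : act 3 n33210 = n32337 := d29_1 D33210 (iv D32337) (iv F145601)
theorem F154113 : act 4 n33210 = n31345 := d34_1 D33210 (iv D31345) D31344
theorem F154114 : act 5 n33210 = n32336 := d38_1 D33210 (iv D32336) (iv F145602)
theorem F154115 : act 6 n33210 = n33210 := d41_1 D33210 (iv D33210) F145603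
theorem F154116 : act 7 n33210 = n33210 := d43_1 D33210 (iv D33210) F145604
def n33211 : Q := act 8 n31345
theorem D33211 : act 8 n31345 = n33211 := rfl
theorem F154117 : act 1 n33211 = n31357 := d15_1 D33211 (iv D31357) (iv F145606)
theorem F154118 : act 2 n33211 = n32870 := d22_1 D33211 F153128 F153122
theorem F154119 : act 3 n33211 = n32348 := d28_1 D33211 (iv D32348) (iv F145607)
theorem F154120 : act 5 n33211 = n32868 := d37_1 D33211 (iv D32868) (iv F145064) F145067 (iv F145608)
theorem F154121 : act 6 n33211 = n33211 := d40_1 D33211 (iv D33211) F145609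
theorem F154122 : act 7 n33211 = n33211 := d42_1 D33211 (iv D33211) F145610
theorem F154123 : act 9 n33211 = n33211 := d44_2 D31345 D33211 (iv D33211) (iv D31345) F136733
def n33212 : Q := act 5 n31346
theorem D33212 : act 5 n31346 = n33212 := rfl
theorem F154124 : act 0 n33212 = n32000 := d4_1 D33212 F148965 (iv F145611)
theorem F154125 : act 1 n33212 = n32341 := d12_1 D33212 F150408 (iv F145612)
theorem F154126 : act 2 n33212 = n31347 := d19_1 D33212 (iv D31347) (iv F145613)
theorem F154127 : act 3 n33212 = n33212 := d25_1 D33212 (iv D33212) F145614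
theorem F154128 : act 4 n33212 = n31985 := d30_1 D33212 F148872 F141230 (iv F136748) (iv F145615)
theorem F154129 : act 6 n33212 = n31984 := d35_2 D31346 D33212 F148866 F139690 (iv F136742)
theorem F154130 : act 7 n33212 = n33212 := d36_2 F145616 D33212 (iv D33212)
theorem F154131 : act 8 n33212 = n31999 := d37_2 (iv F145617) D33212 F148959 D32015 (iv F149053)
def n33213 : Q := act 9 n31348
theorem D33213 : act 9 n31348 = n33213 := rfl
theorem F154132 : act 0 n33213 = n32344 := d8_1 D33213 (iv D32344) (iv F145625)
theorem F154133 : act 1 n33213 = n32345 := d16_1 D33213 (iv D32345) (iv F145626)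
theorem F154134 : act 2 n33213 = n32878 := d23_1 D33213 F152340 (iv F145627)
theorem F154135 : act 3 n33213 = n31352 := d29_1 D33213 (iv D31352) (iv F145628)
theorem F154136 : act 4 n33213 = n31350 := d34_1 D33213 (iv D31350) (iv F145629)
theorem F154137 : act 5 n33213 = n32338 := d38_1 D33213 (iv D32338) (iv F145630)
theorem F154138 : act 6 n33213 = n31349 := d41_1 D33213 (iv D31349) (iv F145631)
theorem F154139 : act 7 n33213 = n33213 := d43_1 D33213 (iv D33213) F145632
def n33214 : Q := act 8 n31351
theorem D33214 : act 8 n31351 = n33214 := rfl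
theorem F154140 : act 0 n33214 = n32346 := d7_1 D33214 (iv D32346) (iv F145643)
theorem F154141 : act 1 n33214 = n32899 := d15_1 D33214 F152409 (iv F145644)
theorem F154142 : act 2 n33214 = n31359 := d22_1 D33214 (iv D31359) (iv F145645)
theorem F154143 : act 4 n33214 = n32637 := d33_1 D33214 (iv F154094) F154090
theorem F154144 : act 6 n33214 = n32636 := d40_1 D33214 F151559 (iv F145647)
theorem F154145 : act 7 n33214 = n33214 := d42_1 D33214 (iv D33214) F145648
theorem F154146 : act 9 n33214 = n32639 := d44_2 D31351 D33214 F151572 (iv D30916) (iv F136780)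
def n33215 : Q := act 8 n31353
theorem D33215 : act 8 n31353 = n33215 := rfl
theorem F154147 : act 0 n33215 = n31947 := d7_1 D33215 F148647 (iv F145656)
theorem F154148 : act 1 n33215 = n31837 := d15_1 D33215 F148127 (iv F145657)
theorem F154149 : act 2 n33215 = n33215 := d22_1 D33215 (iv D33215) F145658
theorem F154150 : act 4 n33215 = n33215 := d33_1 D33215 (iv D33215) F145659
theorem F154151 : act 6 n33215 = n31729 := d40_1 D33215 F147663 (iv F145661)
theorem F154152 : act 7 n33215 = n31354 := d42_1 D33215 (iv D31354) (iv F145662)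
theorem F154153 : act 9 n33215 = n31728 := d44_2 D31353 D33215 (iv D31728) F138437 (iv F136806)
def n33216 : Q := act 8 n31355
theorem D33216 : act 8 n31355 = n33216 := rfl
theorem F154154 : act 0 n33216 = n32347 := d7_1 D33216 (iv D32347) (iv F145669)
theorem F154155 : act 1 n33216 = n32348 := d15_1 D33216 (iv D32348) (iv F145670)
theorem F154156 : act 2 n33216 = n33216 := d22_1 D33216 (iv D33216) F145671
theorem F154157 : act 3 n33216 = n31357 := d28_1 D33216 (iv D31357) (iv F145672)
theorem F154158 : act 4 n33216 = n32340 := d33_1 D33216 (iv D32340) (iv F145673)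
theorem F154159 : act 6 n33216 = n33216 := d40_1 D33216 (iv D33216) F145675
theorem F154160 : act 7 n33216 = n33216 := d42_1 D33216 (iv D33216) F145676
theorem F154161 : act 9 n33216 = n33216 := d44_2 D31355 D33216 (iv D33216) (iv D31355) F136824
def n33217 : Q := act 8 n31356
theorem D33217 : act 8 n31356 = n33217 := rfl
theorem F154162 : act 0 n33217 = n32348 := d7_1 D33217 (iv D32348) (iv F145677)
theorem F154163 : act 2 n33217 = n31362 := d22_1 D33217 (iv D31362) (iv F145678)
theorem F154164 : act 4 n33217 = n31357 := d33_1 D33217 (iv D31357) (iv F145679)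
theorem F154165 : act 5 n33217 = n32650 := d37_1 D33217 (iv D32650) (iv F151562) (iv F154094) F154091
theorem F154166 : act 6 n33217 = n33217 := d40_1 D33217 (iv D33217) F145680
theorem F154167 : act 7 n33217 = n33217 := d42_1 D33217 (iv D33217) F145681
theorem F154168 : act 9 n33217 = n33217 := d44_2 D31356 D33217 (iv D33217) (iv D31356) F136834
def n33218 : Q := act 9 n31360
theorem D33218 : act 9 n31360 = n33218 := rfl
theorem F154169 : act 0 n33218 = n32349 := d8_1 D33218 (iv D32349) (iv F145702)
theorem F154170 : act 1 n33218 = n33218 := d16_1 D33218 (iv D33218) F145703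
theorem F154171 : act 2 n33218 = n31361 := d23_1 D33218 (iv D31361) D31360
theorem F154172 : act 4 n33218 = n33218 := d34_1 D33218 (iv D33218) F145704
theorem F154173 : act 5 n33218 = n31607 := d38_1 D33218 (iv F153103) F153104
theorem F154174 : act 6 n33218 = n33218 := d41_1 D33218 (iv D33218) F145705
theorem F154175 : act 7 n33218 = n33218 := d43_1 D33218 (iv D33218) F145706
theorem F154176 : act 8 n31962 = n33218 := d37_0 F154173 (iv D31607) F137919 D29915 D31962
def n33219 : Q := act 6 n31363
theorem D33219 : act 6 n31363 = n33219 := rfl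
theorem F154177 : act 0 n33219 = n32060 := d5_1 D33219 F149313 (iv F145724)
theorem F154178 : act 1 n33219 = n31364 := d13_1 D33219 (iv D31364) D31363
theorem F154179 : act 2 n33219 = n32350 := d20_1 D33219 (iv D32350) (iv F145725)
theorem F154180 : act 3 n33219 = n33219 := d26_1 D33219 (iv D33219) F145726
theorem F154181 : act 4 n33219 = n31755 := d31_1 D33219 (iv D31755) (iv F145727)
theorem F154182 : act 8 n33219 = n31369 := d40_2 (iv F145730) D33219 (iv D31369)
theorem F154183 : act 9 n33219 = n32223 := d41_2 (iv F145731) D33219 (iv D32223)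
def n33220 : Q := act 5 n31364
theorem D33220 : act 5 n31364 = n33220 := rfl
theorem F154184 : act 0 n33220 = n31382 := d4_1 D33220 (iv D31382) (iv F145732)
theorem F154185 : act 2 n33220 = n31365 := d19_1 D33220 (iv D31365) (iv F145733)
theorem F154186 : act 3 n33220 = n33220 := d25_1 D33220 (iv D33220) F145734
theorem F154187 : act 6 n33220 = n32696 := d35_2 D31364 D33220 (iv D32696) (iv D30703) (iv F136869)
theorem F154188 : act 8 n33220 = n32500 := d37_2 (iv F145736) D33220 (iv D32500) (iv D30492) F136904
theorem F154189 : act 9 n33220 = n32224 := d38_2 (iv F145737) D33220 (iv D32224)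
def n33221 : Q := act 7 n31364
theorem D33221 : act 7 n31364 = n33221 := rfl
theorem F154190 : act 0 n33221 = n31383 := d6_1 D33221 (iv D31383) (iv F145732)
theorem F154191 : act 2 n33221 = n31366 := d21_1 D33221 (iv D31366) (iv F145733)
theorem F154192 : act 3 n33221 = n33221 := d27_1 D33221 (iv D33221) F145734
theorem F154193 : act 4 n33221 = n31757 := d32_1 D33221 (iv D31757) (iv F145735)
theorem F154194 : act 6 n33221 = n31748 := d39_1 D33221 (iv D31748) (iv D29733) (iv F136870) D31364
theorem F154195 : act 8 n33221 = n31370 := d42_2 (iv F145736) D33221 (iv D31370)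
theorem F154196 : act 9 n33221 = n32225 := d43_2 (iv F145737) D33221 (iv D32225)
def n33222 : Q := act 4 n31365
theorem D33222 : act 4 n31365 = n33222 := rfl
theorem F154197 : act 0 n33222 = n31384 := d3_1 D33222 (iv D31384) (iv F145738)
theorem F154198 : act 1 n33222 = n32353 := d11_1 D33222 (iv D32353) (iv F145739)
theorem F154199 : act 3 n33222 = n31655 := d24_1 D33222 (iv D31655) F138165 (iv F136882) (iv F145740)
theorem F154200 : act 5 n33222 = n31758 := d30_2 D31365 D33222 (iv D31758) (iv D29740) (iv F136876)
theorem F154201 : act 6 n33222 = n32698 := d31_2 (iv F145741) D33222 (iv D32698)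
theorem F154202 : act 9 n33222 = n32226 := d34_2 (iv F145742) D33222 (iv D32226)
def n33223 : Q := act 7 n31365
theorem D33223 : act 7 n31365 = n33223 := rfl
theorem F154203 : act 0 n33223 = n31385 := d6_1 D33223 (iv D31385) (iv F145738)
theorem F154204 : act 1 n33223 = n32354 := d14_1 D33223 (iv D32354) (iv F145739)
theorem F154205 : act 3 n33223 = n31367 := d27_1 D33223 (iv D31367) (iv F145740)
theorem F154206 : act 5 n33223 = n31366 := d36_1 D33223 (iv D31366) D31365
theorem F154207 : act 9 n33223 = n32227 := d43_2 (iv F145742) D33223 (iv D32227)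
def n33224 : Q := act 8 n31365
theorem D33224 : act 8 n31365 = n33224 := rfl
theorem F154208 : act 0 n33224 = n31386 := d7_1 D33224 (iv D31386) (iv F145738)
theorem F154209 : act 1 n33224 = n31907 := d15_1 D33224 F148466 (iv F145739)
theorem F154210 : act 2 n33224 = n32500 := d22_1 D33224 (iv F154188) F154185
theorem F154211 : act 3 n33224 = n31368 := d28_1 D33224 (iv D31368) (iv F145740)
theorem F154212 : act 5 n33224 = n31372 := d37_1 D33224 (iv D31372) (iv D29419) (iv F136877) D31365
theorem F154213 : act 6 n33224 = n32700 := d40_1 D33224 (iv D32700) (iv F145741)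
theorem F154214 : act 9 n32301 = n33224 := d38_0 F154212 (iv F145790) (iv F150247)
def n33225 : Q := act 6 n31367
theorem D33225 : act 6 n31367 = n33225 := rfl
theorem F154215 : act 0 n33225 = n31387 := d5_1 D33225 (iv D31387) (iv F145750)
theorem F154216 : act 1 n33225 = n32355 := d13_1 D33225 (iv D32355) (iv F145751)
theorem F154217 : act 2 n33225 = n33225 := d20_1 D33225 (iv D33225) F145752
theorem F154218 : act 4 n33225 = n31658 := d31_1 D33225 (iv D31658) (iv F145753)
theorem F154219 : act 5 n33225 = n31752 := d35_1 D33225 (iv D31752) F138544 (iv F136889) (iv F145754)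
theorem F154220 : act 7 n33225 = n32701 := d39_2 D31367 D33225 (iv D32701) (iv D30706) (iv F136883)
theorem F154221 : act 9 n33225 = n32229 := d41_2 (iv F145755) D33225 (iv D32229)
def n33226 : Q := act 8 n31367
theorem D33226 : act 8 n31367 = n33226 := rfl
theorem F154222 : act 0 n33226 = n31388 := d7_1 D33226 (iv D31388) (iv F145750)
theorem F154223 : act 1 n33226 = n31908 := d15_1 D33226 F148472 (iv F145751)
theorem F154224 : act 2 n33226 = n33226 := d22_1 D33226 (iv D33226) F145752
theorem F154225 : act 4 n33226 = n31659 := d33_1 D33226 (iv D31659) (iv F145753)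
theorem F154226 : act 5 n33226 = n31374 := d37_1 D33226 (iv D31374) F136922 (iv F136890) (iv F145754)
theorem F154227 : act 7 n33226 = n31368 := d42_1 D33226 (iv D31368) D31367
theorem F154228 : act 9 n32302 = n33226 := d43_0 F154227 (iv F145762) D32302
def n33227 : Q := act 7 n31369
theorem D33227 : act 7 n31369 = n33227 := rfl
theorem F154229 : act 0 n33227 = n32059 := d6_1 D33227 (iv D32059) (iv F145763)
theorem F154230 : act 1 n33227 = n31370 := d14_1 D33227 (iv D31370) (iv F145764)
theorem F154231 : act 2 n33227 = n32357 := d21_1 D33227 (iv D32357) (iv F145765)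
theorem F154232 : act 3 n33227 = n33227 := d27_1 D33227 (iv D33227) F145766
theorem F154233 : act 4 n33227 = n32035 := d32_1 D33227 (iv D32035) (iv F145767)
theorem F154234 : act 5 n33227 = n32405 := d36_1 D33227 (iv D32405) F145769
theorem F154235 : act 6 n33227 = n32075 := d39_1 D33227 (iv D32075) (iv D30073) (iv F136897) D31369
theorem F154236 : act 9 n33227 = n33227 := d43_2 F145768 D33227 (iv D33227)
def n33228 : Q := act 6 n31371
theorem D33228 : act 6 n31371 = n33228 := rfl
theorem F154237 : act 0 n33228 = n31394 := d5_1 D33228 (iv D31394) (iv F145777)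
theorem F154238 : act 1 n33228 = n32361 := d13_1 D33228 (iv D32361) (iv F145778)
theorem F154239 : act 2 n33228 = n32498 := d20_1 D33228 (iv D32498) (iv F145779)
theorem F154240 : act 3 n33228 = n31373 := d26_1 D33228 (iv D31373) (iv F145780)
theorem F154241 : act 4 n33228 = n32496 := d31_1 D33228 (iv D32496) (iv F145781)
theorem F154242 : act 5 n33228 = n32080 := d35_1 D33228 (iv D32080) F140238 (iv F136916) (iv F145782)
theorem F154243 : act 7 n33228 = n33228 := d39_2 D31371 D33228 (iv D33228) (iv D31371) F136910
theorem F154244 : act 9 n33228 = n33228 := d41_2 F145783 D33228 (iv D33228)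
def n33229 : Q := act 8 n31371
theorem D33229 : act 8 n31371 = n33229 := rfl
theorem F154245 : act 0 n33229 = n31395 := d7_1 D33229 (iv D31395) (iv F145777)
theorem F154246 : act 1 n33229 = n31963 := d15_1 D33229 F148742 (iv F145778)
theorem F154247 : act 2 n33229 = n32499 := d22_1 D33229 (iv D32499) (iv F145779)
theorem F154248 : act 3 n33229 = n31374 := d28_1 D33229 (iv D31374) (iv F145780)
theorem F154249 : act 4 n33229 = n32497 := d33_1 D33229 (iv D32497) (iv F145781)
theorem F154250 : act 7 n33229 = n31372 := d42_1 D33229 (iv D31372) D31371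
theorem F154251 : act 9 n32328 = n33229 := d43_0 F154250 (iv F145790) D32328
def n33230 : Q := act 8 n31373
theorem D33230 : act 8 n31373 = n33230 := rfl
theorem F154252 : act 0 n33230 = n31397 := d7_1 D33230 (iv D31397) (iv F145791)
theorem F154253 : act 1 n33230 = n31964 := d15_1 D33230 F148748 (iv F145792)
theorem F154254 : act 2 n33230 = n33230 := d22_1 D33230 (iv D33230) F145793
theorem F154255 : act 4 n33230 = n31376 := d33_1 D33230 (iv D31376) (iv F145794)
theorem F154256 : act 6 n33230 = n31374 := d40_1 D33230 (iv D31374) D31373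
theorem F154257 : act 7 n33230 = n33230 := d42_1 D33230 (iv D33230) F145796
theorem F154258 : act 9 n32329 = n33230 := d41_0 F154256 (iv F145803) D32329
def n33231 : Q := act 5 n31377
theorem D33231 : act 5 n31377 = n33231 := rfl
theorem F154259 : act 0 n33231 = n32696 := d4_1 D33231 (iv D32696) (iv F145821)
theorem F154260 : act 1 n33231 = n32917 := d12_1 D33231 F152473 (iv F145822)
theorem F154261 : act 2 n33231 = n31378 := d19_1 D33231 (iv D31378) (iv F145823)
theorem F154262 : act 3 n33231 = n33231 := d25_1 D33231 (iv D33231) F145824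
theorem F154263 : act 6 n33231 = n31382 := d35_2 D31377 D33231 (iv D31382) (iv D29430) (iv F136954)
theorem F154264 : act 9 n33231 = n31747 := d38_2 (iv F145827) D33231 (iv D31747)
def n33232 : Q := act 7 n31377
theorem D33232 : act 7 n31377 = n33232 := rfl
theorem F154265 : act 0 n33232 = n32697 := d6_1 D33232 (iv D32697) (iv F145821)
theorem F154266 : act 1 n33232 = n32919 := d14_1 D33232 (iv D32919) (iv F145822)
theorem F154267 : act 2 n33232 = n31379 := d21_1 D33232 (iv D31379) (iv F145823)
theorem F154268 : act 3 n33232 = n33232 := d27_1 D33232 (iv D33232) F145824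
theorem F154269 : act 4 n33232 = n31764 := d32_1 D33232 (iv D31764) (iv F145825)
theorem F154270 : act 6 n33232 = n32225 := d39_1 D33232 (iv D32225) (iv D30242) (iv F136955) D31377
theorem F154271 : act 8 n33232 = n33232 := d42_2 F145826 D33232 (iv D33232)
theorem F154272 : act 9 n33232 = n31748 := d43_2 (iv F145827) D33232 (iv D31748)
def n33233 : Q := act 4 n31378
theorem D33233 : act 4 n31378 = n33233 := rfl
theorem F154273 : act 0 n33233 = n32698 := d3_1 D33233 (iv D32698) (iv F145828)
theorem F154274 : act 1 n33233 = n31427 := d11_1 D33233 (iv D31427) (iv F145829)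
theorem F154275 : act 3 n33233 = n31682 := d24_1 D33233 (iv D31682) F138292 (iv F136968) (iv F145830)
theorem F154276 : act 5 n33233 = n31765 := d30_2 D31378 D33233 (iv D31765) (iv D29745) (iv F136962)
theorem F154277 : act 6 n33233 = n31384 := d31_2 (iv F145831) D33233 (iv D31384)
theorem F154278 : act 9 n33233 = n31749 := d34_2 (iv F145832) D33233 (iv D31749)
def n33234 : Q := act 7 n31378
theorem D33234 : act 7 n31378 = n33234 := rfl
theorem F154279 : act 0 n33234 = n32699 := d6_1 D33234 (iv D32699) (iv F145828)
theorem F154280 : act 1 n33234 = n31428 := d14_1 D33234 (iv D31428) (iv F145829)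
theorem F154281 : act 3 n33234 = n31380 := d27_1 D33234 (iv D31380) (iv F145830)
theorem F154282 : act 5 n33234 = n31379 := d36_1 D33234 (iv D31379) D31378
theorem F154283 : act 9 n33234 = n31750 := d43_2 (iv F145832) D33234 (iv D31750)
def n33235 : Q := act 8 n31378
theorem D33235 : act 8 n31378 = n33235 := rfl
theorem F154284 : act 0 n33235 = n32700 := d7_1 D33235 (iv D32700) (iv F145828)
theorem F154285 : act 1 n33235 = n31429 := d15_1 D33235 (iv D31429) (iv F145829)
theorem F154286 : act 3 n33235 = n31381 := d28_1 D33235 (iv D31381) (iv F145830)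
theorem F154287 : act 5 n33235 = n33235 := d37_1 D33235 (iv D33235) (iv D31378) F136963 D31378
theorem F154288 : act 6 n33235 = n31386 := d40_1 D33235 (iv D31386) (iv F145831)
def n33236 : Q := act 6 n31380
theorem D33236 : act 6 n31380 = n33236 := rfl
theorem F154289 : act 0 n33236 = n32701 := d5_1 D33236 (iv D32701) (iv F145840)
theorem F154290 : act 1 n33236 = n31430 := d13_1 D33236 (iv D31430) (iv F145841)
theorem F154291 : act 2 n33236 = n33236 := d20_1 D33236 (iv D33236) F145842
theorem F154292 : act 4 n33236 = n31685 := d31_1 D33236 (iv D31685) (iv F145843)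
theorem F154293 : act 5 n33236 = n32229 := d35_1 D33236 (iv D32229) F140941 (iv F136975) (iv F145844)
theorem F154294 : act 7 n33236 = n31387 := d39_2 D31380 D33236 (iv D31387) (iv D29433) (iv F136969)
theorem F154295 : act 9 n33236 = n31752 := d41_2 (iv F145845) D33236 (iv D31752)
def n33237 : Q := act 8 n31380
theorem D33237 : act 8 n31380 = n33237 := rfl
theorem F154296 : act 0 n33237 = n32702 := d7_1 D33237 (iv D32702) (iv F145840)
theorem F154297 : act 1 n33237 = n31431 := d15_1 D33237 (iv D31431) (iv F145841)
theorem F154298 : act 2 n33237 = n33237 := d22_1 D33237 (iv D33237) F145842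
theorem F154299 : act 4 n33237 = n31686 := d33_1 D33237 (iv D31686) (iv F145843)
theorem F154300 : act 5 n33237 = n33237 := d37_1 D33237 (iv D33237) F145844 F136976 (iv F145844)
theorem F154301 : act 7 n33237 = n31381 := d42_1 D33237 (iv D31381) D31380
def n33238 : Q := act 9 n31381
theorem D33238 : act 9 n31381 = n33238 := rfl
theorem F154302 : act 0 n33238 = n32290 := d8_1 D33238 F150212 (iv F145846)
theorem F154303 : act 1 n33238 = n31432 := d16_1 D33238 (iv D31432) (iv F145847)
theorem F154304 : act 2 n33238 = n33238 := d23_1 D33238 (iv D33238) F145848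
theorem F154305 : act 4 n33238 = n31687 := d34_1 D33238 (iv D31687) (iv F145849)
theorem F154306 : act 5 n33238 = n33238 := d38_1 D33238 (iv D33238) F145850
theorem F154307 : act 6 n33238 = n31389 := d41_1 D33238 (iv D31389) (iv F145851)
theorem F154308 : act 8 n33238 = n31754 := d44_1 D33238 (iv D31754) (iv D29737) (iv F136970) D31381
def n33239 : Q := act 4 n31382
theorem D33239 : act 4 n31382 = n33239 := rfl
theorem F154309 : act 1 n33239 = n32740 := d11_1 D33239 F151910 (iv F145852)
theorem F154310 : act 2 n33239 = n31384 := d18_1 D33239 (iv D31384) (iv F145853)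
theorem F154311 : act 5 n33239 = n32668 := d30_2 D31382 D33239 F151686 F142568 (iv F136981)
def n33240 : Q := act 7 n31382
theorem D33240 : act 7 n31382 = n33240 := rfl
theorem F154312 : act 1 n33240 = n32915 := d14_1 D33240 F152467 (iv F145852)
theorem F154313 : act 2 n33240 = n31385 := d21_1 D33240 (iv D31385) (iv F145853)
theorem F154314 : act 3 n33240 = n33240 := d27_1 D33240 (iv D33240) F145854
theorem F154315 : act 5 n33240 = n31383 := d36_1 D33240 (iv D31383) D31382
def n33241 : Q := act 8 n31382
theorem D33241 : act 8 n31382 = n33241 := rfl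
theorem F154316 : act 0 n33241 = n32500 := d7_1 D33241 (iv F154188) F154184
theorem F154317 : act 1 n33241 = n32909 := d15_1 D33241 F152448 (iv F145852)
theorem F154318 : act 2 n33241 = n31386 := d22_1 D33241 (iv D31386) (iv F145853)
theorem F154319 : act 3 n33241 = n33241 := d28_1 D33241 (iv D33241) F145854
theorem F154320 : act 5 n33241 = n31391 := d37_1 D33241 (iv D31391) (iv D29435) (iv F136982) D31382
def n33242 : Q := act 7 n31384
theorem D33242 : act 7 n31384 = n33242 := rfl
theorem F154321 : act 1 n33242 = n31470 := d14_1 D33242 (iv D31470) (iv F145861)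
theorem F154322 : act 3 n33242 = n31716 := d27_1 D33242 (iv D31716) (iv F145862)
theorem F154323 : act 4 n33242 = n31385 := d32_1 D33242 (iv D31385) D31384
theorem F154324 : act 5 n33242 = n32715 := d36_1 D33242 (iv D32715) (iv F145863)
def n33243 : Q := act 8 n31384
theorem D33243 : act 8 n31384 = n33243 := rfl
theorem F154325 : act 1 n33243 = n31471 := d15_1 D33243 (iv D31471) (iv F145861)
theorem F154326 : act 3 n33243 = n31717 := d28_1 D33243 (iv D31717) (iv F145862)
theorem F154327 : act 4 n33243 = n31386 := d33_1 D33243 (iv D31386) D31384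
def n33244 : Q := act 6 n31385
theorem D33244 : act 6 n31385 = n33244 := rfl
theorem F154328 : act 1 n33244 = n31472 := d13_1 D33244 (iv D31472) (iv F145864)
theorem F154329 : act 3 n33244 = n31387 := d26_1 D33244 (iv D31387) (iv F145865)
theorem F154330 : act 5 n33244 = n32710 := d35_1 D33244 (iv D32710) F142698 (iv F136988) (iv F145866)
def n33245 : Q := act 8 n31385
theorem D33245 : act 8 n31385 = n33245 := rfl
theorem F154331 : act 1 n33245 = n31473 := d15_1 D33245 (iv D31473) (iv F145864)
theorem F154332 : act 3 n33245 = n31388 := d28_1 D33245 (iv D31388) (iv F145865)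
theorem F154333 : act 5 n33245 = n31395 := d37_1 D33245 (iv D31395) F137020 (iv F136989) (iv F145866)
theorem F154334 : act 7 n33245 = n31386 := d42_1 D33245 (iv D31386) D31385
def n33246 : Q := act 9 n31386
theorem D33246 : act 9 n31386 = n33246 := rfl
theorem F154335 : act 0 n33246 = n32301 := d8_1 D33246 F154214 F154208
theorem F154336 : act 1 n33246 = n31474 := d16_1 D33246 (iv D31474) (iv F145867)
theorem F154337 : act 3 n33246 = n31389 := d29_1 D33246 (iv D31389) (iv F145868)
theorem F154338 : act 5 n33246 = n31396 := d38_1 D33246 (iv D31396) (iv F145869)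
def n33247 : Q := act 8 n31387
theorem D33247 : act 8 n31387 = n33247 := rfl
theorem F154339 : act 1 n33247 = n31475 := d15_1 D33247 (iv D31475) (iv F145870)
theorem F154340 : act 2 n33247 = n33247 := d22_1 D33247 (iv D33247) F145871
theorem F154341 : act 4 n33247 = n31721 := d33_1 D33247 (iv D31721) (iv F145872)
theorem F154342 : act 6 n33247 = n31388 := d40_1 D33247 (iv D31388) D31387
def n33248 : Q := act 9 n31388
theorem D33248 : act 9 n31388 = n33248 := rfl
theorem F154343 : act 0 n33248 = n32302 := d8_1 D33248 F154228 F154222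
theorem F154344 : act 1 n33248 = n31476 := d16_1 D33248 (iv D31476) (iv F145874)
theorem F154345 : act 2 n33248 = n33248 := d23_1 D33248 (iv D33248) F145875
theorem F154346 : act 4 n33248 = n31722 := d34_1 D33248 (iv D31722) (iv F145876)
theorem F154347 : act 5 n33248 = n31398 := d38_1 D33248 (iv D31398) (iv F145877)
theorem F154348 : act 7 n33248 = n31389 := d43_1 D33248 (iv D31389) (iv F145878)
def n33249 : Q := act 6 n31390
theorem D33249 : act 6 n31390 = n33249 := rfl
theorem F154349 : act 0 n33249 = n32498 := d5_1 D33249 (iv D32498) (iv F145884)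
theorem F154350 : act 1 n33249 = n32907 := d13_1 D33249 (iv D32907) (iv F145885)
theorem F154351 : act 2 n33249 = n31394 := d20_1 D33249 (iv D31394) (iv F145886)
theorem F154352 : act 3 n33249 = n33249 := d26_1 D33249 (iv D33249) F145887
theorem F154353 : act 4 n33249 = n31477 := d31_1 D33249 (iv D31477) (iv F145888)
theorem F154354 : act 5 n33249 = n32904 := d35_1 D33249 (iv D32904) F143416 (iv F137009) (iv F145889)
theorem F154355 : act 7 n33249 = n33249 := d39_2 D31390 D33249 (iv D33249) (iv D31390) F137003
theorem F154356 : act 9 n33249 = n33249 := d41_2 F145890 D33249 (iv D33249)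
def n33250 : Q := act 8 n31390
theorem D33250 : act 8 n31390 = n33250 := rfl
theorem F154357 : act 0 n33250 = n32499 := d7_1 D33250 (iv D32499) (iv F145884)
theorem F154358 : act 1 n33250 = n32908 := d15_1 D33250 (iv D32908) (iv F145885)
theorem F154359 : act 2 n33250 = n31395 := d22_1 D33250 (iv D31395) (iv F145886)
theorem F154360 : act 3 n33250 = n33250 := d28_1 D33250 (iv D33250) F145887
theorem F154361 : act 4 n33250 = n31478 := d33_1 D33250 (iv D31478) (iv F145888)
theorem F154362 : act 7 n33250 = n31391 := d42_1 D33250 (iv D31391) D31390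
def n33251 : Q := act 9 n31391
theorem D33251 : act 9 n31391 = n33251 := rfl
theorem F154363 : act 0 n33251 = n32327 := d8_1 D33251 F150341 (iv F145891)
theorem F154364 : act 1 n33251 = n32910 := d16_1 D33251 (iv D32910) (iv F145892)
theorem F154365 : act 2 n33251 = n31396 := d23_1 D33251 (iv D31396) (iv F145893)
theorem F154366 : act 3 n33251 = n33251 := d29_1 D33251 (iv D33251) F145894
theorem F154367 : act 4 n33251 = n31479 := d34_1 D33251 (iv D31479) (iv F145895)
theorem F154368 : act 6 n33251 = n33251 := d41_1 D33251 (iv D33251) F145896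
theorem F154369 : act 8 n33251 = n33251 := d44_1 D33251 (iv D33251) (iv D31391) F137004 D31391
def n33252 : Q := act 6 n31392
theorem D33252 : act 6 n31392 = n33252 := rfl
theorem F154370 : act 0 n33252 = n32496 := d5_1 D33252 (iv D32496) (iv F145897)
theorem F154371 : act 1 n33252 = n31491 := d13_1 D33252 (iv D31491) (iv F145898)
theorem F154372 : act 2 n33252 = n31477 := d20_1 D33252 (iv D31477) (iv F145899)
theorem F154373 : act 3 n33252 = n31400 := d26_1 D33252 (iv D31400) (iv F145900)
theorem F154374 : act 4 n33252 = n31394 := d31_1 D33252 (iv D31394) (iv F145901)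
theorem F154375 : act 5 n33252 = n31488 := d35_1 D33252 (iv D31488) F137399 (iv F137343) (iv F145902)
theorem F154376 : act 7 n33252 = n33252 := d39_2 D31392 D33252 (iv D33252) (iv D31392) F137016
theorem F154377 : act 9 n33252 = n33252 := d41_2 F145903 D33252 (iv D33252)
def n33253 : Q := act 8 n31392
theorem D33253 : act 8 n31392 = n33253 := rfl
theorem F154378 : act 0 n33253 = n32497 := d7_1 D33253 (iv D32497) (iv F145897)
theorem F154379 : act 1 n33253 = n31492 := d15_1 D33253 (iv D31492) (iv F145898)
theorem F154380 : act 2 n33253 = n31478 := d22_1 D33253 (iv D31478) (iv F145899)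
theorem F154381 : act 3 n33253 = n31401 := d28_1 D33253 (iv D31401) (iv F145900)
theorem F154382 : act 4 n33253 = n31395 := d33_1 D33253 (iv D31395) (iv F145901)
theorem F154383 : act 7 n33253 = n31393 := d42_1 D33253 (iv D31393) D31392
theorem F154384 : act 9 n31859 = n33253 := d43_0 F154383 (iv F145910) (iv F148220)
def n33254 : Q := act 5 n31393
theorem D33254 : act 5 n31393 = n33254 := rfl
theorem F154385 : act 0 n33254 = n32456 := d4_1 D33254 F150879 (iv F145904)
theorem F154386 : act 1 n33254 = n31493 := d12_1 D33254 (iv D31493) (iv F145905)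
theorem F154387 : act 2 n33254 = n31450 := d19_1 D33254 F146239 (iv F145906)
theorem F154388 : act 3 n33254 = n31402 := d25_1 D33254 (iv D31402) (iv F145907)
theorem F154389 : act 8 n33254 = n31446 := d37_2 D31393 D33254 (iv D31446) F137248 (iv F137015)
theorem F154390 : act 9 n33254 = n32108 := d38_2 F145910 D33254 F149548
def n33255 : Q := act 8 n31394
theorem D33255 : act 8 n31394 = n33255 := rfl
theorem F154391 : act 1 n33255 = n31495 := d15_1 D33255 (iv D31495) (iv F145911)
theorem F154392 : act 3 n33255 = n31397 := d28_1 D33255 (iv D31397) (iv F145912)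
theorem F154393 : act 6 n33255 = n31395 := d40_1 D33255 (iv D31395) D31394
theorem F154394 : act 7 n33255 = n33255 := d42_1 D33255 (iv D33255) F145914
def n33256 : Q := act 9 n31395
theorem D33256 : act 9 n31395 = n33256 := rfl
theorem F154395 : act 0 n33256 = n32328 := d8_1 D33256 F154251 F154245
theorem F154396 : act 1 n33256 = n31496 := d16_1 D33256 (iv D31496) (iv F145916)
theorem F154397 : act 3 n33256 = n31398 := d29_1 D33256 (iv D31398) (iv F145917)
theorem F154398 : act 4 n33256 = n31859 := d34_1 D33256 F154384 F154382
theorem F154399 : act 7 n33256 = n31396 := d43_1 D33256 (iv D31396) (iv F145918)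
theorem F154400 : act 8 n33256 = n33256 := d44_1 D33256 (iv D33256) (iv D31395) F137021 D31395
def n33257 : Q := act 5 n31397
theorem D33257 : act 5 n31397 = n33257 := rfl
theorem F154401 : act 1 n33257 = n31497 := d12_1 D33257 (iv D31497) (iv F145925)
theorem F154402 : act 2 n33257 = n33257 := d19_1 D33257 (iv D33257) F145926
theorem F154403 : act 7 n33257 = n33257 := d36_2 F145929 D33257 (iv D33257)
theorem F154404 : act 8 n33257 = n32913 := d37_2 D31397 D33257 (iv D32913) (iv D30938) (iv F137028)
def n33258 : Q := act 9 n31397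
theorem D33258 : act 9 n31397 = n33258 := rfl
theorem F154405 : act 0 n33258 = n32329 := d8_1 D33258 F154258 F154252
theorem F154406 : act 1 n33258 = n31498 := d16_1 D33258 (iv D31498) (iv F145925)
theorem F154407 : act 2 n33258 = n33258 := d23_1 D33258 (iv D33258) F145926
theorem F154408 : act 4 n33258 = n31405 := d34_1 D33258 (iv D31405) (iv F145927)
theorem F154409 : act 6 n33258 = n31398 := d41_1 D33258 (iv D31398) (iv F145928)
theorem F154410 : act 7 n33258 = n33258 := d43_1 D33258 (iv D33258) F145929
theorem F154411 : act 8 n33258 = n33258 := d44_1 D33258 (iv D33258) (iv D31397) F137030 D31397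
def n33259 : Q := act 8 n31400
theorem D33259 : act 8 n31400 = n33259 := rfl
theorem F154412 : act 0 n33259 = n32530 := d7_1 D33259 (iv F151104) (iv F145945)
theorem F154413 : act 1 n33259 = n31500 := d15_1 D33259 (iv D31500) (iv F145946)
theorem F154414 : act 2 n33259 = n31591 := d22_1 D33259 (iv D31591) (iv F145947)
theorem F154415 : act 4 n33259 = n31403 := d33_1 D33259 (iv D31403) (iv F145948)
theorem F154416 : act 6 n33259 = n31401 := d40_1 D33259 (iv D31401) D31400
theorem F154417 : act 7 n33259 = n33259 := d42_1 D33259 (iv D33259) F145950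
theorem F154418 : act 9 n31505 = n33259 := d41_0 F154416 (iv F145957) (iv F146498)
def n33260 : Q := act 5 n31401
theorem D33260 : act 5 n31401 = n33260 := rfl
theorem F154419 : act 0 n33260 = n32586 := d4_1 D33260 F151373 (iv F145952)
theorem F154420 : act 1 n33260 = n31501 := d12_1 D33260 (iv D31501) (iv F145953)
theorem F154421 : act 2 n33260 = n31557 := d19_1 D33260 F146790 (iv F145954)
theorem F154422 : act 4 n33260 = n31743 := d30_1 D33260 (iv D31743) F138518 (iv F137070) (iv F145955)
theorem F154423 : act 7 n33260 = n31402 := d36_2 (iv F145956) D33260 (iv D31402)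
theorem F154424 : act 8 n33260 = n31554 := d37_2 D31401 D33260 F146776 F137667 (iv F137053)
theorem F154425 : act 9 n33260 = n31853 := d38_2 F145957 D33260 F148195
def n33261 : Q := act 6 n31402
theorem D33261 : act 6 n31402 = n33261 := rfl
theorem F154426 : act 0 n33261 = n32536 := d5_1 D33261 F151135 (iv F145958)
theorem F154427 : act 1 n33261 = n31503 := d13_1 D33261 (iv D31503) (iv F145959)
theorem F154428 : act 2 n33261 = n31512 := d20_1 D33261 F146540 (iv F145960)
theorem F154429 : act 4 n33261 = n31744 := d31_1 D33261 (iv D31744) (iv F145961)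
theorem F154430 : act 5 n33261 = n33261 := d35_1 D33261 (iv D33261) (iv D31402) F137059 D31402
theorem F154431 : act 8 n33261 = n31508 := d40_2 (iv F145962) D33261 F146515
theorem F154432 : act 9 n33261 = n32100 := d41_2 (iv F145963) D33261 F149517
def n33262 : Q := act 4 n31404
theorem D33262 : act 4 n31404 = n33262 := rfl
theorem F154433 : act 0 n33262 = n31972 := d3_1 D33262 F148793 (iv F145972)
theorem F154434 : act 1 n33262 = n31505 := d11_1 D33262 (iv D31505) (iv F145973)
theorem F154435 : act 2 n33262 = n33262 := d18_1 D33262 (iv D33262) F145974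
theorem F154436 : act 6 n33262 = n31502 := d31_2 (iv F145976) D33262 F146484
theorem F154437 : act 7 n33262 = n33262 := d32_2 F145977 D33262 (iv D33262)
theorem F154438 : act 8 n33262 = n33262 := d33_2 F145978 D33262 (iv D33262)
theorem F154439 : act 9 n33262 = n31500 := d34_2 F145979 D33262 F146474
def n33263 : Q := act 5 n31406
theorem D33263 : act 5 n31406 = n33263 := rfl
theorem F154440 : act 0 n33263 = n32425 := d4_1 D33263 (iv D32425) (iv F145988)
theorem F154441 : act 1 n33263 = n32797 := d12_1 D33263 F152059 (iv F145989)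
theorem F154442 : act 2 n33263 = n31407 := d19_1 D33263 (iv D31407) (iv F145990)
theorem F154443 : act 3 n33263 = n33263 := d25_1 D33263 (iv D33263) F145991
theorem F154444 : act 6 n33263 = n31702 := d35_2 D31406 D33263 (iv D31702) (iv D29695) (iv F137088)
theorem F154445 : act 9 n33263 = n31680 := d38_2 (iv F145994) D33263 (iv D31680)
def n33264 : Q := act 7 n31406
theorem D33264 : act 7 n31406 = n33264 := rfl
theorem F154446 : act 0 n33264 = n32426 := d6_1 D33264 (iv D32426) (iv F145988)
theorem F154447 : act 1 n33264 = n32920 := d14_1 D33264 (iv D32920) (iv F145989)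
theorem F154448 : act 2 n33264 = n31408 := d21_1 D33264 (iv D31408) (iv F145990)
theorem F154449 : act 3 n33264 = n33264 := d27_1 D33264 (iv D33264) F145991
theorem F154450 : act 4 n33264 = n31426 := d32_1 D33264 (iv D31426) (iv F145992)
theorem F154451 : act 6 n33264 = n32197 := d39_1 D33264 (iv D32197) (iv D30217) (iv F137089) D31406
theorem F154452 : act 8 n33264 = n33264 := d42_2 F145993 D33264 (iv D33264)
theorem F154453 : act 9 n33264 = n31681 := d43_2 (iv F145994) D33264 (iv D31681)
def n33265 : Q := act 4 n31407
theorem D33265 : act 4 n31407 = n33265 := rfl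
theorem F154454 : act 0 n33265 = n32427 := d3_1 D33265 (iv D32427) (iv F145995)
theorem F154455 : act 1 n33265 = n31765 := d11_1 D33265 (iv D31765) (iv F145996)
theorem F154456 : act 3 n33265 = n31749 := d24_1 D33265 (iv D31749) F138537 (iv F137101) (iv F145997)
theorem F154457 : act 5 n33265 = n31427 := d30_2 D31407 D33265 (iv D31427) (iv D29464) (iv F137095)
theorem F154458 : act 6 n33265 = n31704 := d31_2 (iv F145998) D33265 (iv D31704)
theorem F154459 : act 9 n33265 = n31682 := d34_2 (iv F145999) D33265 (iv D31682)
def n33266 : Q := act 7 n31407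
theorem D33266 : act 7 n31407 = n33266 := rfl
theorem F154460 : act 0 n33266 = n32428 := d6_1 D33266 (iv D32428) (iv F145995)
theorem F154461 : act 1 n33266 = n31766 := d14_1 D33266 (iv D31766) (iv F145996)
theorem F154462 : act 3 n33266 = n31409 := d27_1 D33266 (iv D31409) (iv F145997)
theorem F154463 : act 5 n33266 = n31408 := d36_1 D33266 (iv D31408) D31407
theorem F154464 : act 9 n33266 = n31683 := d43_2 (iv F145999) D33266 (iv D31683)
def n33267 : Q := act 8 n31407
theorem D33267 : act 8 n31407 = n33267 := rfl
theorem F154465 : act 0 n33267 = n32429 := d7_1 D33267 (iv D32429) (iv F145995)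
theorem F154466 : act 1 n33267 = n31767 := d15_1 D33267 (iv D31767) (iv F145996)
theorem F154467 : act 3 n33267 = n31410 := d28_1 D33267 (iv D31410) (iv F145997)
theorem F154468 : act 5 n33267 = n33267 := d37_1 D33267 (iv D33267) (iv D31407) F137096 D31407
theorem F154469 : act 6 n33267 = n31706 := d40_1 D33267 (iv D31706) (iv F145998)
def n33268 : Q := act 6 n31409
theorem D33268 : act 6 n31409 = n33268 := rfl
theorem F154470 : act 0 n33268 = n32430 := d5_1 D33268 (iv D32430) (iv F146007)
theorem F154471 : act 1 n33268 = n31768 := d13_1 D33268 (iv D31768) (iv F146008)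
theorem F154472 : act 2 n33268 = n33268 := d20_1 D33268 (iv D33268) F146009
theorem F154473 : act 4 n33268 = n31752 := d31_1 D33268 (iv D31752) (iv F146010)
theorem F154474 : act 5 n33268 = n32201 := d35_1 D33268 (iv D32201) F140849 (iv F137108) (iv F146011)
theorem F154475 : act 7 n33268 = n31707 := d39_2 D31409 D33268 (iv D31707) (iv D29698) (iv F137102)
theorem F154476 : act 9 n33268 = n31685 := d41_2 (iv F146012) D33268 (iv D31685)
def n33269 : Q := act 8 n31409
theorem D33269 : act 8 n31409 = n33269 := rfl
theorem F154477 : act 0 n33269 = n32431 := d7_1 D33269 (iv D32431) (iv F146007)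
theorem F154478 : act 1 n33269 = n31769 := d15_1 D33269 (iv D31769) (iv F146008)
theorem F154479 : act 2 n33269 = n33269 := d22_1 D33269 (iv D33269) F146009
theorem F154480 : act 4 n33269 = n31753 := d33_1 D33269 (iv D31753) (iv F146010)
theorem F154481 : act 5 n33269 = n33269 := d37_1 D33269 (iv D33269) F146011 F137109 (iv F146011)
theorem F154482 : act 7 n33269 = n31410 := d42_1 D33269 (iv D31410) D31409
def n33270 : Q := act 9 n31410
theorem D33270 : act 9 n31410 = n33270 := rfl
theorem F154483 : act 0 n33270 = n32292 := d8_1 D33270 F150222 (iv F146013)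
theorem F154484 : act 1 n33270 = n31770 := d16_1 D33270 (iv D31770) (iv F146014)
theorem F154485 : act 2 n33270 = n33270 := d23_1 D33270 (iv D33270) F146015
theorem F154486 : act 4 n33270 = n31754 := d34_1 D33270 (iv D31754) (iv F146016)
theorem F154487 : act 5 n33270 = n33270 := d38_1 D33270 (iv D33270) F146017
theorem F154488 : act 6 n33270 = n31709 := d41_1 D33270 (iv D31709) (iv F146018)
theorem F154489 : act 8 n33270 = n31687 := d44_1 D33270 (iv D31687) (iv D29684) (iv F137103) D31410
def n33271 : Q := act 0 n31411
theorem D33271 : act 0 n31411 = n33271 := rfl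
theorem F154490 : act 1 n33271 = n32382 := d0_2 D31411 D33271 (iv D32382) (iv D30397) (iv F137111)
theorem F154491 : act 2 n33271 = n32070 := d1_2 (iv F146019) D33271 F149365
theorem F154492 : act 3 n33271 = n31506 := d2_2 (iv F146020) D33271 (iv D31506)
theorem F154493 : act 4 n33271 = n32067 := d3_2 (iv F146021) D33271 F149346
theorem F154494 : act 5 n33271 = n31445 := d4_2 (iv F146022) D33271 (iv D31445)
theorem F154495 : act 7 n33271 = n31423 := d6_2 (iv F146023) D33271 (iv D31423)
theorem F154496 : act 8 n33271 = n33271 := d7_2 F146024 D33271 (iv D33271)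
theorem F154497 : act 9 n33271 = n32066 := d8_2 (iv F146025) D33271 F149341
def n33272 : Q := act 6 n31411
theorem D33272 : act 6 n31411 = n33272 := rfl
theorem F154498 : act 1 n33272 = n31412 := d13_1 D33272 (iv D31412) D31411
theorem F154499 : act 2 n33272 = n32223 := d20_1 D33272 (iv D32223) (iv F146019)
theorem F154500 : act 3 n33272 = n31507 := d26_1 D33272 (iv D31507) (iv F146020)
theorem F154501 : act 4 n33272 = n32195 := d31_1 D33272 (iv D32195) (iv F146021)
theorem F154502 : act 8 n33272 = n33272 := d40_2 F146024 D33272 (iv D33272)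
theorem F154503 : act 9 n33272 = n32350 := d41_2 (iv F146025) D33272 (iv D32350)
def n33273 : Q := act 5 n31412
theorem D33273 : act 5 n31412 = n33273 := rfl
theorem F154504 : act 0 n33273 = n32384 := d4_1 D33273 (iv D32384) (iv F146026)
theorem F154505 : act 2 n33273 = n31413 := d19_1 D33273 (iv D31413) (iv F146027)
theorem F154506 : act 3 n33273 = n31508 := d25_1 D33273 (iv D31508) (iv F146028)
theorem F154507 : act 6 n33273 = n31446 := d35_2 D31412 D33273 (iv D31446) (iv D29477) (iv F137114)
theorem F154508 : act 9 n33273 = n32351 := d38_2 (iv F146031) D33273 (iv D32351)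
def n33274 : Q := act 7 n31412
theorem D33274 : act 7 n31412 = n33274 := rfl
theorem F154509 : act 0 n33274 = n32385 := d6_1 D33274 (iv D32385) (iv F146026)
theorem F154510 : act 2 n33274 = n31414 := d21_1 D33274 (iv D31414) (iv F146027)
theorem F154511 : act 3 n33274 = n31509 := d27_1 D33274 (iv D31509) (iv F146028)
theorem F154512 : act 4 n33274 = n32197 := d32_1 D33274 (iv D32197) (iv F146029)
theorem F154513 : act 6 n33274 = n31426 := d39_1 D33274 (iv D31426) (iv D29463) (iv F137115) D31412
theorem F154514 : act 8 n33274 = n33274 := d42_2 F146030 D33274 (iv D33274)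
theorem F154515 : act 9 n33274 = n32352 := d43_2 (iv F146031) D33274 (iv D32352)
def n33275 : Q := act 4 n31413
theorem D33275 : act 4 n31413 = n33275 := rfl
theorem F154516 : act 0 n33275 = n32386 := d3_1 D33275 (iv D32386) (iv F146032)
theorem F154517 : act 1 n33275 = n32226 := d11_1 D33275 (iv D32226) (iv F146033)
theorem F154518 : act 3 n33275 = n32660 := d24_1 D33275 (iv D32660) F142537 (iv F137127) (iv F146034)
theorem F154519 : act 5 n33275 = n32198 := d30_2 D31413 D33275 (iv D32198) (iv D30218) (iv F137121)
theorem F154520 : act 6 n33275 = n31448 := d31_2 (iv F146035) D33275 (iv D31448)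
theorem F154521 : act 9 n33275 = n32353 := d34_2 (iv F146036) D33275 (iv D32353)
def n33276 : Q := act 7 n31413
theorem D33276 : act 7 n31413 = n33276 := rfl
theorem F154522 : act 0 n33276 = n32387 := d6_1 D33276 (iv D32387) (iv F146032)
theorem F154523 : act 1 n33276 = n32227 := d14_1 D33276 (iv D32227) (iv F146033)
theorem F154524 : act 3 n33276 = n31415 := d27_1 D33276 (iv D31415) (iv F146034)
theorem F154525 : act 5 n33276 = n31414 := d36_1 D33276 (iv D31414) D31413
theorem F154526 : act 9 n33276 = n32354 := d43_2 (iv F146036) D33276 (iv D32354)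
def n33277 : Q := act 8 n31413
theorem D33277 : act 8 n31413 = n33277 := rfl
theorem F154527 : act 0 n33277 = n32388 := d7_1 D33277 (iv D32388) (iv F146032)
theorem F154528 : act 1 n33277 = n32228 := d15_1 D33277 (iv D32228) (iv F146033)
theorem F154529 : act 3 n33277 = n31416 := d28_1 D33277 (iv D31416) (iv F146034)
theorem F154530 : act 5 n33277 = n33277 := d37_1 D33277 (iv D33277) (iv D31413) F137122 D31413
theorem F154531 : act 6 n33277 = n31450 := d40_1 D33277 (iv D31450) (iv F146035)
theorem F154532 : act 9 n33277 = n32306 := d44_2 (iv F146036) D33277 (iv D32306) (iv F148467) F148466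
def n33278 : Q := act 6 n31415
theorem D33278 : act 6 n31415 = n33278 := rfl
theorem F154533 : act 0 n33278 = n32389 := d5_1 D33278 (iv D32389) (iv F146044)
theorem F154534 : act 1 n33278 = n32229 := d13_1 D33278 (iv D32229) (iv F146045)
theorem F154535 : act 2 n33278 = n31513 := d20_1 D33278 (iv D31513) (iv F146046)
theorem F154536 : act 4 n33278 = n32662 := d31_1 D33278 (iv D32662) (iv F146047)
theorem F154537 : act 5 n33278 = n31430 := d35_1 D33278 (iv D31430) F137181 (iv F137134) (iv F146048)
theorem F154538 : act 7 n33278 = n31451 := d39_2 D31415 D33278 (iv D31451) (iv D29480) (iv F137128)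
theorem F154539 : act 9 n33278 = n32355 := d41_2 (iv F146049) D33278 (iv D32355)
def n33279 : Q := act 8 n31415
theorem D33279 : act 8 n31415 = n33279 := rfl
theorem F154540 : act 0 n33279 = n32390 := d7_1 D33279 (iv D32390) (iv F146044)
theorem F154541 : act 1 n33279 = n32230 := d15_1 D33279 (iv D32230) (iv F146045)
theorem F154542 : act 2 n33279 = n31514 := d22_1 D33279 (iv D31514) (iv F146046)
theorem F154543 : act 4 n33279 = n32310 := d33_1 D33279 F150275 (iv F146047)
theorem F154544 : act 5 n33279 = n33279 := d37_1 D33279 (iv D33279) F146048 F137135 (iv F146048)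
theorem F154545 : act 7 n33279 = n31416 := d42_1 D33279 (iv D31416) D31415
theorem F154546 : act 9 n33279 = n32308 := d44_2 (iv F146049) D33279 (iv D32308) (iv F148473) F148472
def n33280 : Q := act 0 n31417
theorem D33280 : act 0 n31417 = n33280 := rfl
theorem F154547 : act 1 n33280 = n32372 := d0_2 D31417 D33280 (iv D32372) (iv D30391) (iv F137137)
theorem F154548 : act 2 n33280 = n31745 := d1_2 (iv F146057) D33280 (iv D31745)
theorem F154549 : act 3 n33280 = n31515 := d2_2 (iv F146058) D33280 (iv D31515)
theorem F154550 : act 4 n33280 = n31678 := d3_2 (iv F146059) D33280 (iv D31678)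
theorem F154551 : act 5 n33280 = n31454 := d4_2 (iv F146060) D33280 (iv D31454)
theorem F154552 : act 7 n33280 = n32066 := d6_2 (iv F146061) D33280 F149341
theorem F154553 : act 8 n33280 = n32039 := d7_2 (iv F146062) D33280 (iv D32039)
theorem F154554 : act 9 n33280 = n31423 := d8_2 (iv F146063) D33280 (iv D31423)
def n33281 : Q := act 6 n31417
theorem D33281 : act 6 n31417 = n33281 := rfl
theorem F154555 : act 1 n33281 = n31418 := d13_1 D33281 (iv D31418) D31417
theorem F154556 : act 2 n33281 = n31746 := d20_1 D33281 (iv D31746) (iv F146057)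
theorem F154557 : act 3 n33281 = n31516 := d26_1 D33281 (iv D31516) (iv F146058)
theorem F154558 : act 4 n33281 = n31679 := d31_1 D33281 (iv D31679) (iv F146059)
theorem F154559 : act 8 n33281 = n32040 := d40_2 (iv F146062) D33281 (iv D32040)
theorem F154560 : act 9 n33281 = n31424 := d41_2 (iv F146063) D33281 (iv D31424)
def n33282 : Q := act 5 n31418
theorem D33282 : act 5 n31418 = n33282 := rfl
theorem F154561 : act 0 n33282 = n32374 := d4_1 D33282 (iv D32374) (iv F146064)
theorem F154562 : act 2 n33282 = n31419 := d19_1 D33282 (iv D31419) (iv F146065)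
theorem F154563 : act 3 n33282 = n31517 := d25_1 D33282 (iv D31517) (iv F146066)
theorem F154564 : act 6 n33282 = n31456 := d35_2 D31418 D33282 (iv D31456) (iv D29483) (iv F137140)
theorem F154565 : act 9 n33282 = n31425 := d38_2 (iv F146069) D33282 (iv D31425)
def n33283 : Q := act 7 n31418
theorem D33283 : act 7 n31418 = n33283 := rfl
theorem F154566 : act 0 n33283 = n32375 := d6_1 D33283 (iv D32375) (iv F146064)
theorem F154567 : act 2 n33283 = n31420 := d21_1 D33283 (iv D31420) (iv F146065)
theorem F154568 : act 3 n33283 = n31518 := d27_1 D33283 (iv D31518) (iv F146066)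
theorem F154569 : act 4 n33283 = n31681 := d32_1 D33283 (iv D31681) (iv F146067)
theorem F154570 : act 6 n33283 = n32352 := d39_1 D33283 (iv D32352) (iv D30373) (iv F137141) D31418
theorem F154571 : act 8 n33283 = n32042 := d42_2 (iv F146068) D33283 (iv D32042)
theorem F154572 : act 9 n33283 = n31426 := d43_2 (iv F146069) D33283 (iv D31426)
def n33284 : Q := act 4 n31419
theorem D33284 : act 4 n31419 = n33284 := rfl
theorem F154573 : act 0 n33284 = n32376 := d3_1 D33284 (iv D32376) (iv F146070)
theorem F154574 : act 1 n33284 = n31749 := d11_1 D33284 (iv D31749) (iv F146071)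
theorem F154575 : act 3 n33284 = n31765 := d24_1 D33284 (iv D31765) F138583 (iv F137153) (iv F146072)
theorem F154576 : act 5 n33284 = n31682 := d30_2 D31419 D33284 (iv D31682) (iv D29681) (iv F137147)
theorem F154577 : act 6 n33284 = n31458 := d31_2 (iv F146073) D33284 (iv D31458)
theorem F154578 : act 9 n33284 = n31427 := d34_2 (iv F146074) D33284 (iv D31427)
def n33285 : Q := act 7 n31419
theorem D33285 : act 7 n31419 = n33285 := rfl
theorem F154579 : act 0 n33285 = n32377 := d6_1 D33285 (iv D32377) (iv F146070)
theorem F154580 : act 1 n33285 = n31750 := d14_1 D33285 (iv D31750) (iv F146071)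
theorem F154581 : act 3 n33285 = n31421 := d27_1 D33285 (iv D31421) (iv F146072)
theorem F154582 : act 5 n33285 = n31420 := d36_1 D33285 (iv D31420) D31419
theorem F154583 : act 9 n33285 = n31428 := d43_2 (iv F146074) D33285 (iv D31428)
def n33286 : Q := act 8 n31419
theorem D33286 : act 8 n31419 = n33286 := rfl
theorem F154584 : act 0 n33286 = n32378 := d7_1 D33286 (iv D32378) (iv F146070)
theorem F154585 : act 1 n33286 = n31751 := d15_1 D33286 (iv D31751) (iv F146071)
theorem F154586 : act 3 n33286 = n31422 := d28_1 D33286 (iv D31422) (iv F146072)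
theorem F154587 : act 5 n33286 = n32045 := d37_1 D33286 (iv D32045) (iv D30037) (iv F137148) D31419
theorem F154588 : act 6 n33286 = n31460 := d40_1 D33286 (iv D31460) (iv F146073)
def n33287 : Q := act 6 n31421
theorem D33287 : act 6 n31421 = n33287 := rfl
theorem F154589 : act 0 n33287 = n32379 := d5_1 D33287 (iv D32379) (iv F146082)
theorem F154590 : act 1 n33287 = n31752 := d13_1 D33287 (iv D31752) (iv F146083)
theorem F154591 : act 2 n33287 = n31522 := d20_1 D33287 (iv D31522) (iv F146084)
theorem F154592 : act 4 n33287 = n31768 := d31_1 D33287 (iv D31768) (iv F146085)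
theorem F154593 : act 5 n33287 = n32355 := d35_1 D33287 (iv D32355) F141408 (iv F137160) (iv F146086)
theorem F154594 : act 7 n33287 = n31461 := d39_2 D31421 D33287 (iv D31461) (iv D29486) (iv F137154)
theorem F154595 : act 9 n33287 = n31430 := d41_2 (iv F146087) D33287 (iv D31430)
def n33288 : Q := act 8 n31421
theorem D33288 : act 8 n31421 = n33288 := rfl
theorem F154596 : act 0 n33288 = n32380 := d7_1 D33288 (iv D32380) (iv F146082)
theorem F154597 : act 1 n33288 = n31753 := d15_1 D33288 (iv D31753) (iv F146083)
theorem F154598 : act 2 n33288 = n31523 := d22_1 D33288 (iv D31523) (iv F146084)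
theorem F154599 : act 4 n33288 = n31769 := d33_1 D33288 (iv D31769) (iv F146085)
theorem F154600 : act 5 n33288 = n32047 := d37_1 D33288 (iv D32047) F140052 (iv F137161) (iv F146086)
theorem F154601 : act 7 n33288 = n31422 := d42_1 D33288 (iv D31422) D31421
def n33289 : Q := act 9 n31422
theorem D33289 : act 9 n31422 = n33289 := rfl
theorem F154602 : act 0 n33289 = n32381 := d8_1 D33289 (iv D32381) (iv F146088)
theorem F154603 : act 1 n33289 = n31754 := d16_1 D33289 (iv D31754) (iv F146089)
theorem F154604 : act 2 n33289 = n31524 := d23_1 D33289 (iv D31524) (iv F146090)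
theorem F154605 : act 4 n33289 = n31770 := d34_1 D33289 (iv D31770) (iv F146091)
theorem F154606 : act 5 n33289 = n32048 := d38_1 D33289 (iv D32048) (iv F146092)
theorem F154607 : act 6 n33289 = n31463 := d41_1 D33289 (iv D31463) (iv F146093)
theorem F154608 : act 8 n33289 = n31432 := d44_1 D33289 (iv D31432) (iv D29467) (iv F137155) D31422
def n33290 : Q := act 6 n31423
theorem D33290 : act 6 n31423 = n33290 := rfl
theorem F154609 : act 0 n33290 = n31424 := d5_1 D33290 (iv D31424) D31423
theorem F154610 : act 1 n33290 = n32432 := d13_1 D33290 (iv D32432) (iv F146094)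
theorem F154611 : act 2 n33290 = n32098 := d20_1 D33290 (iv D32098) (iv F146095)
theorem F154612 : act 3 n33290 = n31525 := d26_1 D33290 (iv D31525) (iv F146096)
theorem F154613 : act 4 n33290 = n32104 := d31_1 D33290 (iv D32104) (iv F146097)
theorem F154614 : act 8 n33290 = n33290 := d40_2 F146099 D33290 (iv D33290)
def n33291 : Q := act 5 n31424
theorem D33291 : act 5 n31424 = n33291 := rfl
theorem F154615 : act 1 n33291 = n31425 := d12_1 D33291 (iv D31425) (iv F146100)
theorem F154616 : act 2 n33291 = n32917 := d19_1 D33291 F152473 (iv F146101)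
theorem F154617 : act 3 n33291 = n31526 := d25_1 D33291 (iv D31526) (iv F146102)
theorem F154618 : act 6 n33291 = n31465 := d35_2 D31424 D33291 (iv D31465) (iv D29489) (iv F137166)
def n33292 : Q := act 7 n31424
theorem D33292 : act 7 n31424 = n33292 := rfl
theorem F154619 : act 1 n33292 = n31426 := d14_1 D33292 (iv D31426) (iv F146100)
theorem F154620 : act 2 n33292 = n32919 := d21_1 D33292 (iv D32919) (iv F146101)
theorem F154621 : act 3 n33292 = n31527 := d27_1 D33292 (iv D31527) (iv F146102)
theorem F154622 : act 4 n33292 = n32920 := d32_1 D33292 (iv D32920) (iv F146103)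
theorem F154623 : act 8 n33292 = n33292 := d42_2 F146104 D33292 (iv D33292)
def n33293 : Q := act 4 n31425
theorem D33293 : act 4 n31425 = n33293 := rfl
theorem F154624 : act 0 n33293 = n32435 := d3_1 D33293 (iv D32435) (iv F146105)
theorem F154625 : act 2 n33293 = n31427 := d18_1 D33293 (iv D31427) (iv F146106)
theorem F154626 : act 6 n33293 = n31467 := d31_2 (iv F146108) D33293 (iv D31467)
def n33294 : Q := act 7 n31425
theorem D33294 : act 7 n31425 = n33294 := rfl
theorem F154627 : act 0 n33294 = n32436 := d6_1 D33294 (iv D32436) (iv F146105)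
theorem F154628 : act 2 n33294 = n31428 := d21_1 D33294 (iv D31428) (iv F146106)
theorem F154629 : act 3 n33294 = n31529 := d27_1 D33294 (iv D31529) (iv F146107)
theorem F154630 : act 5 n33294 = n31426 := d36_1 D33294 (iv D31426) D31425
def n33295 : Q := act 8 n31425
theorem D33295 : act 8 n31425 = n33295 := rfl
theorem F154631 : act 0 n33295 = n32437 := d7_1 D33295 (iv D32437) (iv F146105)
theorem F154632 : act 2 n33295 = n31429 := d22_1 D33295 (iv D31429) (iv F146106)
theorem F154633 : act 3 n33295 = n31530 := d28_1 D33295 (iv D31530) (iv F146107)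
theorem F154634 : act 5 n33295 = n33295 := d37_1 D33295 (iv D33295) (iv D31425) F137171 D31425
theorem F154635 : act 6 n33295 = n31469 := d40_1 D33295 (iv D31469) (iv F146108)
def n33296 : Q := act 7 n31427
theorem D33296 : act 7 n31427 = n33296 := rfl
theorem F154636 : act 0 n33296 = n32438 := d6_1 D33296 (iv D32438) (iv F146113)
theorem F154637 : act 3 n33296 = n31777 := d27_1 D33296 (iv D31777) (iv F146114)
theorem F154638 : act 4 n33296 = n31428 := d32_1 D33296 (iv D31428) D31427
def n33297 : Q := act 8 n31427
theorem D33297 : act 8 n31427 = n33297 := rfl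
theorem F154639 : act 0 n33297 = n32439 := d7_1 D33297 (iv D32439) (iv F146113)
theorem F154640 : act 3 n33297 = n31778 := d28_1 D33297 (iv D31778) (iv F146114)
theorem F154641 : act 4 n33297 = n31429 := d33_1 D33297 (iv D31429) D31427
theorem F154642 : act 6 n33297 = n31471 := d40_1 D33297 (iv D31471) (iv F146115)
def n33298 : Q := act 6 n31428
theorem D33298 : act 6 n31428 = n33298 := rfl
theorem F154643 : act 0 n33298 = n32440 := d5_1 D33298 (iv D32440) (iv F146116)
theorem F154644 : act 3 n33298 = n31430 := d26_1 D33298 (iv D31430) (iv F146117)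
theorem F154645 : act 7 n33298 = n31472 := d39_2 D31428 D33298 (iv D31472) (iv D29493) (iv F137174)
def n33299 : Q := act 8 n31428
theorem D33299 : act 8 n31428 = n33299 := rfl
theorem F154646 : act 0 n33299 = n32441 := d7_1 D33299 (iv D32441) (iv F146116)
theorem F154647 : act 3 n33299 = n31431 := d28_1 D33299 (iv D31431) (iv F146117)
theorem F154648 : act 5 n33299 = n33299 := d37_1 D33299 (iv D33299) F146118 F137177 (iv F146118)
theorem F154649 : act 7 n33299 = n31429 := d42_1 D33299 (iv D31429) D31428
def n33300 : Q := act 9 n31429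
theorem D33300 : act 9 n31429 = n33300 := rfl
theorem F154650 : act 0 n33300 = n32442 := d8_1 D33300 (iv D32442) (iv F146119)
theorem F154651 : act 3 n33300 = n31432 := d29_1 D33300 (iv D31432) (iv F146120)
theorem F154652 : act 5 n33300 = n33300 := d38_1 D33300 (iv D33300) F146121
theorem F154653 : act 6 n33300 = n31474 := d41_1 D33300 (iv D31474) (iv F146122)
def n33301 : Q := act 8 n31430
theorem D33301 : act 8 n31430 = n33301 := rfl
theorem F154654 : act 0 n33301 = n32443 := d7_1 D33301 (iv D32443) (iv F146123)
theorem F154655 : act 2 n33301 = n31536 := d22_1 D33301 (iv D31536) (iv F146124)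
theorem F154656 : act 4 n33301 = n31782 := d33_1 D33301 (iv D31782) (iv F146125)
theorem F154657 : act 6 n33301 = n31431 := d40_1 D33301 (iv D31431) D31430
theorem F154658 : act 7 n33301 = n31475 := d42_1 D33301 (iv D31475) (iv F146126)
def n33302 : Q := act 9 n31431
theorem D33302 : act 9 n31431 = n33302 := rfl
theorem F154659 : act 0 n33302 = n32444 := d8_1 D33302 (iv D32444) (iv F146127)
theorem F154660 : act 2 n33302 = n31537 := d23_1 D33302 (iv D31537) (iv F146128)
theorem F154661 : act 4 n33302 = n31783 := d34_1 D33302 (iv D31783) (iv F146129)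
theorem F154662 : act 5 n33302 = n33302 := d38_1 D33302 (iv D33302) F146130
theorem F154663 : act 7 n33302 = n31432 := d43_1 D33302 (iv D31432) (iv F146131)
def n33303 : Q := act 0 n31433
theorem D33303 : act 0 n31433 = n33303 := rfl
theorem F154664 : act 1 n33303 = n32071 := d0_2 D31433 D33303 F149372 (iv D30449) (iv F137187)
theorem F154665 : act 2 n33303 = n32103 := d1_2 (iv F146137) D33303 F149529
theorem F154666 : act 3 n33303 = n31538 := d2_2 (iv F146138) D33303 (iv D31538)
theorem F154667 : act 4 n33303 = n32363 := d3_2 (iv F146139) D33303 (iv D32363)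
theorem F154668 : act 5 n33303 = n32038 := d4_2 (iv F146140) D33303 F149189
theorem F154669 : act 7 n33303 = n31784 := d6_2 (iv F146141) D33303 (iv D31784)
theorem F154670 : act 8 n33303 = n33303 := d7_2 F146142 D33303 (iv D33303)
theorem F154671 : act 9 n33303 = n32036 := d8_2 (iv F146143) D33303 F149175
theorem F154672 : act 6 n32130 = n33303 := d41_3 F154671 F149180 D32130
def n33304 : Q := act 6 n31433
theorem D33304 : act 6 n31433 = n33304 := rfl
theorem F154673 : act 0 n33304 = n32130 := d5_1 D33304 F154672 (iv D33303)
theorem F154674 : act 1 n33304 = n31434 := d13_1 D33304 (iv D31434) D31433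
theorem F154675 : act 2 n33304 = n32424 := d20_1 D33304 (iv D32424) (iv F146137)
theorem F154676 : act 3 n33304 = n31539 := d26_1 D33304 (iv D31539) (iv F146138)
theorem F154677 : act 4 n33304 = n32364 := d31_1 D33304 (iv D32364) (iv F146139)
theorem F154678 : act 8 n33304 = n33304 := d40_2 F146142 D33304 (iv D33304)
theorem F154679 : act 9 n33304 = n32051 := d41_2 (iv F146143) D33304 F149269
def n33305 : Q := act 5 n31434
theorem D33305 : act 5 n31434 = n33305 := rfl
theorem F154680 : act 0 n33305 = n32445 := d4_1 D33305 (iv D32445) (iv F146144)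
theorem F154681 : act 2 n33305 = n31435 := d19_1 D33305 (iv D31435) (iv F146145)
theorem F154682 : act 3 n33305 = n31540 := d25_1 D33305 (iv D31540) (iv F146146)
theorem F154683 : act 6 n33305 = n31800 := d35_2 D31434 D33305 F147985 F138802 (iv F137190)
theorem F154684 : act 9 n33305 = n31760 := d38_2 (iv F146149) D33305 F147811
theorem F154685 : act 8 n32241 = n33305 := d44_5 F154684 (iv D31760) F138562 D30252 D32241
def n33306 : Q := act 7 n31434
theorem D33306 : act 7 n31434 = n33306 := rfl
theorem F154686 : act 0 n33306 = n32446 := d6_1 D33306 (iv D32446) (iv F146144)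
theorem F154687 : act 2 n33306 = n31436 := d21_1 D33306 (iv D31436) (iv F146145)
theorem F154688 : act 3 n33306 = n31541 := d27_1 D33306 (iv D31541) (iv F146146)
theorem F154689 : act 4 n33306 = n32366 := d32_1 D33306 (iv D32366) (iv F146147)
theorem F154690 : act 6 n33306 = n31787 := d39_1 D33306 (iv D31787) (iv D29760) (iv F137191) D31434
theorem F154691 : act 8 n33306 = n33306 := d42_2 F146148 D33306 (iv D33306)
theorem F154692 : act 9 n33306 = n32085 := d43_2 (iv F146149) D33306 F149446
def n33307 : Q := act 4 n31435
theorem D33307 : act 4 n31435 = n33307 := rfl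
theorem F154693 : act 0 n33307 = n32447 := d3_1 D33307 (iv D32447) (iv F146150)
theorem F154694 : act 1 n33307 = n32427 := d11_1 D33307 (iv D32427) (iv F146151)
theorem F154695 : act 3 n33307 = n31448 := d24_1 D33307 (iv D31448) F137251 (iv F137203) (iv F146152)
theorem F154696 : act 5 n33307 = n32367 := d30_2 D31435 D33307 (iv D32367) (iv D30387) (iv F137197)
theorem F154697 : act 6 n33307 = n32660 := d31_2 (iv F146153) D33307 (iv D32660)
theorem F154698 : act 9 n33307 = n32139 := d34_2 (iv F146154) D33307 (iv D32139)
def n33308 : Q := act 7 n31435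
theorem D33308 : act 7 n31435 = n33308 := rfl
theorem F154699 : act 0 n33308 = n32448 := d6_1 D33308 (iv D32448) (iv F146150)
theorem F154700 : act 1 n33308 = n32428 := d14_1 D33308 (iv D32428) (iv F146151)
theorem F154701 : act 3 n33308 = n31437 := d27_1 D33308 (iv D31437) (iv F146152)
theorem F154702 : act 5 n33308 = n31436 := d36_1 D33308 (iv D31436) D31435
theorem F154703 : act 9 n33308 = n32140 := d43_2 (iv F146154) D33308 (iv D32140)
def n33309 : Q := act 8 n31435
theorem D33309 : act 8 n31435 = n33309 := rfl
theorem F154704 : act 0 n33309 = n32449 := d7_1 D33309 (iv D32449) (iv F146150)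
theorem F154705 : act 1 n33309 = n32429 := d15_1 D33309 (iv D32429) (iv F146151)
theorem F154706 : act 2 n33309 = n32241 := d22_1 D33309 F154685 F154681
theorem F154707 : act 3 n33309 = n31438 := d28_1 D33309 (iv D31438) (iv F146152)
theorem F154708 : act 5 n33309 = n33309 := d37_1 D33309 (iv D33309) (iv D31435) F137198 D31435
theorem F154709 : act 6 n33309 = n32252 := d40_1 D33309 F150090 (iv F146153)
theorem F154710 : act 9 n33309 = n32236 := d44_2 (iv F146154) D33309 (iv D32236) (iv F147794) F147793
def n33310 : Q := act 6 n31437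
theorem D33310 : act 6 n31437 = n33310 := rfl
theorem F154711 : act 0 n33310 = n32450 := d5_1 D33310 (iv D32450) (iv F146162)
theorem F154712 : act 1 n33310 = n32430 := d13_1 D33310 (iv D32430) (iv F146163)
theorem F154713 : act 2 n33310 = n31544 := d20_1 D33310 (iv D31544) (iv F146164)
theorem F154714 : act 4 n33310 = n31451 := d31_1 D33310 (iv D31451) (iv F146165)
theorem F154715 : act 5 n33310 = n31791 := d35_1 D33310 (iv D31791) F138658 (iv F137210) (iv F146166)
theorem F154716 : act 7 n33310 = n32662 := d39_2 D31437 D33310 (iv D32662) (iv D30666) (iv F137204)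
theorem F154717 : act 9 n33310 = n32141 := d41_2 (iv F146167) D33310 (iv D32141)
def n33311 : Q := act 8 n31437
theorem D33311 : act 8 n31437 = n33311 := rfl
theorem F154718 : act 0 n33311 = n32451 := d7_1 D33311 (iv D32451) (iv F146162)
theorem F154719 : act 1 n33311 = n32431 := d15_1 D33311 (iv D32431) (iv F146163)
theorem F154720 : act 2 n33311 = n31545 := d22_1 D33311 (iv D31545) (iv F146164)
theorem F154721 : act 4 n33311 = n31452 := d33_1 D33311 (iv D31452) (iv F146165)
theorem F154722 : act 5 n33311 = n33311 := d37_1 D33311 (iv D33311) F146166 F137211 (iv F146166)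
theorem F154723 : act 7 n33311 = n31438 := d42_1 D33311 (iv D31438) D31437
theorem F154724 : act 9 n33311 = n32296 := d44_2 (iv F146167) D33311 (iv D32296) (iv F148253) F148252
def n33312 : Q := act 0 n31439
theorem D33312 : act 0 n31439 = n33312 := rfl
theorem F154725 : act 1 n33312 = n32363 := d0_2 D31439 D33312 (iv D32363) (iv D30385) (iv F137213)
theorem F154726 : act 2 n33312 = n32069 := d1_2 (iv F146175) D33312 F149358
theorem F154727 : act 3 n33312 = n31546 := d2_2 (iv F146176) D33312 (iv D31546)
theorem F154728 : act 4 n33312 = n32071 := d3_2 (iv F146177) D33312 F149372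
theorem F154729 : act 5 n33312 = n32066 := d4_2 (iv F146178) D33312 F149341
theorem F154730 : act 6 n33312 = n32155 := d5_2 F153205 D33312 (iv F153200)
theorem F154731 : act 7 n33312 = n31454 := d6_2 (iv F146179) D33312 (iv D31454)
theorem F154732 : act 8 n33312 = n33312 := d7_2 F146180 D33312 (iv D33312)
theorem F154733 : act 9 n33312 = n31445 := d8_2 (iv F146181) D33312 (iv D31445)
def n33313 : Q := act 5 n31440
theorem D33313 : act 5 n31440 = n33313 := rfl
theorem F154734 : act 0 n33313 = n32365 := d4_1 D33313 (iv D32365) (iv F146182)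
theorem F154735 : act 2 n33313 = n31441 := d19_1 D33313 (iv D31441) (iv F146183)
theorem F154736 : act 3 n33313 = n31547 := d25_1 D33313 (iv D31547) (iv F146184)
theorem F154737 : act 6 n33313 = n32351 := d35_2 D31440 D33313 (iv D32351) (iv D30373) (iv F137216)
theorem F154738 : act 9 n33313 = n31446 := d38_2 (iv F146187) D33313 (iv D31446)
def n33314 : Q := act 7 n31440
theorem D33314 : act 7 n31440 = n33314 := rfl
theorem F154739 : act 0 n33314 = n32366 := d6_1 D33314 (iv D32366) (iv F146182)
theorem F154740 : act 2 n33314 = n31442 := d21_1 D33314 (iv D31442) (iv F146183)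
theorem F154741 : act 3 n33314 = n31548 := d27_1 D33314 (iv D31548) (iv F146184)
theorem F154742 : act 4 n33314 = n32446 := d32_1 D33314 (iv D32446) (iv F146185)
theorem F154743 : act 6 n33314 = n31457 := d39_1 D33314 (iv D31457) (iv D29483) (iv F137217) D31440
theorem F154744 : act 8 n33314 = n33314 := d42_2 F146186 D33314 (iv D33314)
theorem F154745 : act 9 n33314 = n31447 := d43_2 (iv F146187) D33314 (iv D31447)
def n33315 : Q := act 4 n31441
theorem D33315 : act 4 n31441 = n33315 := rfl
theorem F154746 : act 0 n33315 = n32367 := d3_1 D33315 (iv D32367) (iv F146188)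
theorem F154747 : act 1 n33315 = n32698 := d11_1 D33315 (iv D32698) (iv F146189)
theorem F154748 : act 3 n33315 = n32139 := d24_1 D33315 (iv D32139) F140607 (iv F137229) (iv F146190)
theorem F154749 : act 5 n33315 = n32447 := d30_2 D31441 D33315 (iv D32447) (iv D30451) (iv F137223)
theorem F154750 : act 6 n33315 = n32353 := d31_2 (iv F146191) D33315 (iv D32353)
theorem F154751 : act 9 n33315 = n31448 := d34_2 (iv F146192) D33315 (iv D31448)
def n33316 : Q := act 7 n31441
theorem D33316 : act 7 n31441 = n33316 := rfl
theorem F154752 : act 0 n33316 = n32368 := d6_1 D33316 (iv D32368) (iv F146188)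
theorem F154753 : act 1 n33316 = n32699 := d14_1 D33316 (iv D32699) (iv F146189)
theorem F154754 : act 3 n33316 = n31443 := d27_1 D33316 (iv D31443) (iv F146190)
theorem F154755 : act 5 n33316 = n31442 := d36_1 D33316 (iv D31442) D31441
theorem F154756 : act 9 n33316 = n31449 := d43_2 (iv F146192) D33316 (iv D31449)
def n33317 : Q := act 8 n31441
theorem D33317 : act 8 n31441 = n33317 := rfl
theorem F154757 : act 0 n33317 = n32369 := d7_1 D33317 (iv D32369) (iv F146188)
theorem F154758 : act 1 n33317 = n32700 := d15_1 D33317 (iv D32700) (iv F146189)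
theorem F154759 : act 3 n33317 = n31444 := d28_1 D33317 (iv D31444) (iv F146190)
theorem F154760 : act 5 n33317 = n33317 := d37_1 D33317 (iv D33317) (iv D31441) F137224 D31441
theorem F154761 : act 6 n33317 = n31907 := d40_1 D33317 F148466 (iv F146191)
theorem F154762 : act 9 n32293 = n33317 := d41_0 F154761 F148467 (iv F150224)
def n33318 : Q := act 6 n31443
theorem D33318 : act 6 n31443 = n33318 := rfl
theorem F154763 : act 0 n33318 = n32370 := d5_1 D33318 (iv D32370) (iv F146200)
theorem F154764 : act 1 n33318 = n32701 := d13_1 D33318 (iv D32701) (iv F146201)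
theorem F154765 : act 2 n33318 = n31552 := d20_1 D33318 (iv D31552) (iv F146202)
theorem F154766 : act 4 n33318 = n32141 := d31_1 D33318 (iv D32141) (iv F146203)
theorem F154767 : act 5 n33318 = n31461 := d35_1 D33318 (iv D31461) F137288 (iv F137236) (iv F146204)
theorem F154768 : act 7 n33318 = n32355 := d39_2 D31443 D33318 (iv D32355) (iv D30376) (iv F137230)
theorem F154769 : act 9 n33318 = n31451 := d41_2 (iv F146205) D33318 (iv D31451)
def n33319 : Q := act 8 n31443
theorem D33319 : act 8 n31443 = n33319 := rfl
theorem F154770 : act 0 n33319 = n32371 := d7_1 D33319 (iv D32371) (iv F146200)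
theorem F154771 : act 1 n33319 = n32702 := d15_1 D33319 (iv D32702) (iv F146201)
theorem F154772 : act 2 n33319 = n31553 := d22_1 D33319 (iv D31553) (iv F146202)
theorem F154773 : act 4 n33319 = n31865 := d33_1 D33319 F148252 (iv F146203)
theorem F154774 : act 5 n33319 = n33319 := d37_1 D33319 (iv D33319) F146204 F137237 (iv F146204)
theorem F154775 : act 7 n33319 = n31444 := d42_1 D33319 (iv D31444) D31443
theorem F154776 : act 9 n32294 = n33319 := d43_0 F154775 (iv F146212) D32294
def n33320 : Q := act 4 n31446
theorem D33320 : act 4 n31446 = n33320 := rfl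
theorem F154777 : act 0 n33320 = n32454 := d3_1 D33320 (iv D32454) (iv F146220)
theorem F154778 : act 2 n33320 = n31448 := d18_1 D33320 (iv D31448) (iv F146221)
theorem F154779 : act 5 n33320 = n32665 := d30_2 D31446 D33320 (iv D32665) (iv D30670) (iv F137247)
def n33321 : Q := act 7 n31446
theorem D33321 : act 7 n31446 = n33321 := rfl
theorem F154780 : act 0 n33321 = n32455 := d6_1 D33321 (iv D32455) (iv F146220)
theorem F154781 : act 2 n33321 = n31449 := d21_1 D33321 (iv D31449) (iv F146221)
theorem F154782 : act 3 n33321 = n31554 := d27_1 D33321 (iv D31554) (iv F146222)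
theorem F154783 : act 5 n33321 = n31447 := d36_1 D33321 (iv D31447) D31446
def n33322 : Q := act 7 n31448
theorem D33322 : act 7 n31448 = n33322 := rfl
theorem F154784 : act 0 n33322 = n32457 := d6_1 D33322 (iv D32457) (iv F146229)
theorem F154785 : act 1 n33322 = n32708 := d14_1 D33322 (iv D32708) (iv F146230)
theorem F154786 : act 4 n33322 = n31449 := d32_1 D33322 (iv D31449) D31448
theorem F154787 : act 5 n33322 = n32667 := d36_1 D33322 (iv D32667) (iv F146231)
def n33323 : Q := act 8 n31448
theorem D33323 : act 8 n31448 = n33323 := rfl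
theorem F154788 : act 0 n33323 = n32458 := d7_1 D33323 (iv D32458) (iv F146229)
theorem F154789 : act 1 n33323 = n32709 := d15_1 D33323 (iv D32709) (iv F146230)
theorem F154790 : act 4 n33323 = n31450 := d33_1 D33323 (iv D31450) D31448
def n33324 : Q := act 6 n31449
theorem D33324 : act 6 n31449 = n33324 := rfl
theorem F154791 : act 0 n33324 = n32459 := d5_1 D33324 (iv D32459) (iv F146232)
theorem F154792 : act 1 n33324 = n32710 := d13_1 D33324 (iv D32710) (iv F146233)
theorem F154793 : act 3 n33324 = n31451 := d26_1 D33324 (iv D31451) (iv F146234)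
theorem F154794 : act 5 n33324 = n31472 := d35_1 D33324 (iv D31472) F137315 (iv F137256) (iv F146235)
def n33325 : Q := act 8 n31449
theorem D33325 : act 8 n31449 = n33325 := rfl
theorem F154795 : act 0 n33325 = n32460 := d7_1 D33325 (iv D32460) (iv F146232)
theorem F154796 : act 1 n33325 = n32711 := d15_1 D33325 (iv D32711) (iv F146233)
theorem F154797 : act 3 n33325 = n31452 := d28_1 D33325 (iv D31452) (iv F146234)
theorem F154798 : act 5 n33325 = n31478 := d37_1 D33325 (iv D31478) F137348 (iv F137257) (iv F146235)
theorem F154799 : act 7 n33325 = n31450 := d42_1 D33325 (iv D31450) D31449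
def n33326 : Q := act 9 n31450
theorem D33326 : act 9 n31450 = n33326 := rfl
theorem F154800 : act 0 n33326 = n32461 := d8_1 D33326 (iv D32461) (iv F146236)
theorem F154801 : act 1 n33326 = n32712 := d16_1 D33326 (iv D32712) (iv F146237)
theorem F154802 : act 2 n33326 = n32108 := d23_1 D33326 (iv F154390) F154387
theorem F154803 : act 3 n33326 = n31453 := d29_1 D33326 (iv D31453) (iv F146238)
theorem F154804 : act 5 n33326 = n31479 := d38_1 D33326 (iv D31479) (iv F146239)
theorem F154805 : act 6 n33326 = n32306 := d41_1 D33326 (iv F154532) F154531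
theorem F154806 : act 8 n33326 = n32293 := d44_1 D33326 F154762 (iv D33317) F146192 D31450
def n33327 : Q := act 8 n31451
theorem D33327 : act 8 n31451 = n33327 := rfl
theorem F154807 : act 0 n33327 = n32462 := d7_1 D33327 (iv D32462) (iv F146240)
theorem F154808 : act 1 n33327 = n32713 := d15_1 D33327 (iv D32713) (iv F146241)
theorem F154809 : act 2 n33327 = n31558 := d22_1 D33327 (iv D31558) (iv F146242)
theorem F154810 : act 6 n33327 = n31452 := d40_1 D33327 (iv D31452) D31451
def n33328 : Q := act 9 n31452
theorem D33328 : act 9 n31452 = n33328 := rfl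
theorem F154811 : act 0 n33328 = n32463 := d8_1 D33328 (iv D32463) (iv F146244)
theorem F154812 : act 1 n33328 = n32714 := d16_1 D33328 (iv D32714) (iv F146245)
theorem F154813 : act 2 n33328 = n31559 := d23_1 D33328 (iv D31559) (iv F146246)
theorem F154814 : act 4 n33328 = n32296 := d34_1 D33328 (iv F154724) F154721
theorem F154815 : act 5 n33328 = n31481 := d38_1 D33328 (iv D31481) (iv F146247)
theorem F154816 : act 7 n33328 = n31453 := d43_1 D33328 (iv D31453) (iv F146248)
theorem F154817 : act 8 n33328 = n32294 := d44_1 D33328 F154776 (iv D33319) F146205 D31452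
def n33329 : Q := act 6 n31454
theorem D33329 : act 6 n31454 = n33329 := rfl
theorem F154818 : act 0 n33329 = n31455 := d5_1 D33329 (iv D31455) D31454
theorem F154819 : act 1 n33329 = n32464 := d13_1 D33329 (iv D32464) (iv F146256)
theorem F154820 : act 2 n33329 = n32093 := d20_1 D33329 F149485 (iv F146257)
theorem F154821 : act 3 n33329 = n31560 := d26_1 D33329 (iv D31560) (iv F146258)
theorem F154822 : act 4 n33329 = n32089 := d31_1 D33329 F149467 (iv F146259)
theorem F154823 : act 8 n33329 = n33329 := d40_2 F146260 D33329 (iv D33329)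
theorem F154824 : act 9 n33329 = n31464 := d41_2 (iv F146261) D33329 (iv D31464)
def n33330 : Q := act 5 n31455
theorem D33330 : act 5 n31455 = n33330 := rfl
theorem F154825 : act 1 n33330 = n31456 := d12_1 D33330 (iv D31456) (iv F146262)
theorem F154826 : act 2 n33330 = n32918 := d19_1 D33330 F152475 (iv F146263)
theorem F154827 : act 3 n33330 = n31561 := d25_1 D33330 (iv D31561) (iv F146264)
theorem F154828 : act 9 n33330 = n31465 := d38_2 (iv F146267) D33330 (iv D31465)
def n33331 : Q := act 7 n31455
theorem D33331 : act 7 n31455 = n33331 := rfl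
theorem F154829 : act 1 n33331 = n31457 := d14_1 D33331 (iv D31457) (iv F146262)
theorem F154830 : act 2 n33331 = n32916 := d21_1 D33331 F152470 (iv F146263)
theorem F154831 : act 3 n33331 = n31562 := d27_1 D33331 (iv D31562) (iv F146264)
theorem F154832 : act 4 n33331 = n32746 := d32_1 D33331 (iv D32746) (iv F146265)
theorem F154833 : act 8 n33331 = n33331 := d42_2 F146266 D33331 (iv D33331)
theorem F154834 : act 9 n33331 = n31466 := d43_2 (iv F146267) D33331 (iv D31466)
def n33332 : Q := act 4 n31456
theorem D33332 : act 4 n31456 = n33332 := rfl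
theorem F154835 : act 0 n33332 = n32467 := d3_1 D33332 (iv D32467) (iv F146268)
theorem F154836 : act 2 n33332 = n31458 := d18_1 D33332 (iv D31458) (iv F146269)
theorem F154837 : act 5 n33332 = n32747 := d30_2 D31456 D33332 (iv D32747) (iv D30744) (iv F137274)
theorem F154838 : act 9 n33332 = n31467 := d34_2 (iv F146271) D33332 (iv D31467)
def n33333 : Q := act 7 n31456
theorem D33333 : act 7 n31456 = n33333 := rfl
theorem F154839 : act 0 n33333 = n32468 := d6_1 D33333 (iv D32468) (iv F146268)
theorem F154840 : act 2 n33333 = n31459 := d21_1 D33333 (iv D31459) (iv F146269)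
theorem F154841 : act 3 n33333 = n31564 := d27_1 D33333 (iv D31564) (iv F146270)
theorem F154842 : act 5 n33333 = n31457 := d36_1 D33333 (iv D31457) D31456
theorem F154843 : act 9 n33333 = n31468 := d43_2 (iv F146271) D33333 (iv D31468)
def n33334 : Q := act 8 n31456
theorem D33334 : act 8 n31456 = n33334 := rfl
theorem F154844 : act 0 n33334 = n32469 := d7_1 D33334 (iv D32469) (iv F146268)
theorem F154845 : act 2 n33334 = n31460 := d22_1 D33334 (iv D31460) (iv F146269)
theorem F154846 : act 3 n33334 = n31565 := d28_1 D33334 (iv D31565) (iv F146270)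
theorem F154847 : act 5 n33334 = n33334 := d37_1 D33334 (iv D33334) (iv D31456) F137275 D31456
def n33335 : Q := act 7 n31458
theorem D33335 : act 7 n31458 = n33335 := rfl
theorem F154848 : act 0 n33335 = n32470 := d6_1 D33335 (iv D32470) (iv F146278)
theorem F154849 : act 3 n33335 = n31806 := d27_1 D33335 (iv D31806) (iv F146279)
theorem F154850 : act 4 n33335 = n31459 := d32_1 D33335 (iv D31459) D31458
theorem F154851 : act 5 n33335 = n32750 := d36_1 D33335 (iv D32750) (iv F146280)
theorem F154852 : act 9 n33335 = n31470 := d43_2 (iv F146281) D33335 (iv D31470)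
def n33336 : Q := act 8 n31458
theorem D33336 : act 8 n31458 = n33336 := rfl
theorem F154853 : act 0 n33336 = n32471 := d7_1 D33336 (iv D32471) (iv F146278)
theorem F154854 : act 3 n33336 = n31807 := d28_1 D33336 (iv D31807) (iv F146279)
theorem F154855 : act 4 n33336 = n31460 := d33_1 D33336 (iv D31460) D31458
def n33337 : Q := act 6 n31459
theorem D33337 : act 6 n31459 = n33337 := rfl
theorem F154856 : act 0 n33337 = n32472 := d5_1 D33337 (iv D32472) (iv F146282)
theorem F154857 : act 3 n33337 = n31461 := d26_1 D33337 (iv D31461) (iv F146283)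
theorem F154858 : act 9 n33337 = n31472 := d41_2 (iv F146285) D33337 (iv D31472)
def n33338 : Q := act 8 n31459
theorem D33338 : act 8 n31459 = n33338 := rfl
theorem F154859 : act 0 n33338 = n32473 := d7_1 D33338 (iv D32473) (iv F146282)
theorem F154860 : act 3 n33338 = n31462 := d28_1 D33338 (iv D31462) (iv F146283)
theorem F154861 : act 5 n33338 = n33338 := d37_1 D33338 (iv D33338) F146284 F137283 (iv F146284)
theorem F154862 : act 7 n33338 = n31460 := d42_1 D33338 (iv D31460) D31459
def n33339 : Q := act 9 n31460
theorem D33339 : act 9 n31460 = n33339 := rfl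
theorem F154863 : act 0 n33339 = n32474 := d8_1 D33339 (iv D32474) (iv F146286)
theorem F154864 : act 3 n33339 = n31463 := d29_1 D33339 (iv D31463) (iv F146287)
theorem F154865 : act 5 n33339 = n33339 := d38_1 D33339 (iv D33339) F146288
theorem F154866 : act 8 n33339 = n31474 := d44_1 D33339 (iv D31474) (iv D29494) (iv F137279) D31460
def n33340 : Q := act 8 n31461
theorem D33340 : act 8 n31461 = n33340 := rfl
theorem F154867 : act 0 n33340 = n32475 := d7_1 D33340 (iv D32475) (iv F146289)
theorem F154868 : act 2 n33340 = n31571 := d22_1 D33340 (iv D31571) (iv F146290)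
theorem F154869 : act 4 n33340 = n31811 := d33_1 D33340 (iv D31811) (iv F146291)
theorem F154870 : act 6 n33340 = n31462 := d40_1 D33340 (iv D31462) D31461
def n33341 : Q := act 9 n31462
theorem D33341 : act 9 n31462 = n33341 := rfl
theorem F154871 : act 0 n33341 = n32476 := d8_1 D33341 (iv D32476) (iv F146293)
theorem F154872 : act 2 n33341 = n31572 := d23_1 D33341 (iv D31572) (iv F146294)
theorem F154873 : act 4 n33341 = n31812 := d34_1 D33341 (iv D31812) (iv F146295)
theorem F154874 : act 5 n33341 = n33341 := d38_1 D33341 (iv D33341) F146296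
theorem F154875 : act 7 n33341 = n31463 := d43_1 D33341 (iv D31463) (iv F146297)
theorem F154876 : act 8 n33341 = n31476 := d44_1 D33341 (iv D31476) (iv D29496) (iv F137289) D31462
def n33342 : Q := act 5 n31464
theorem D33342 : act 5 n31464 = n33342 := rfl
theorem F154877 : act 0 n33342 = n31465 := d4_1 D33342 (iv D31465) (iv F146303)
theorem F154878 : act 1 n33342 = n32477 := d12_1 D33342 (iv D32477) (iv F146304)
theorem F154879 : act 2 n33342 = n32092 := d19_1 D33342 (iv D32092) (iv F146305)
theorem F154880 : act 3 n33342 = n31573 := d25_1 D33342 (iv D31573) (iv F146306)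
def n33343 : Q := act 7 n31464
theorem D33343 : act 7 n31464 = n33343 := rfl
theorem F154881 : act 0 n33343 = n31466 := d6_1 D33343 (iv D31466) (iv F146303)
theorem F154882 : act 1 n33343 = n32478 := d14_1 D33343 (iv D32478) (iv F146304)
theorem F154883 : act 2 n33343 = n32091 := d21_1 D33343 F149479 (iv F146305)
theorem F154884 : act 3 n33343 = n31574 := d27_1 D33343 (iv D31574) (iv F146306)
theorem F154885 : act 4 n33343 = n32088 := d32_1 D33343 F149463 (iv F146307)
theorem F154886 : act 6 n33343 = n32153 := d39_1 D33343 F149728 (iv F146217) F146218 D31464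
theorem F154887 : act 8 n33343 = n31483 := d42_2 (iv F146308) D33343 (iv D31483)
def n33344 : Q := act 4 n31465
theorem D33344 : act 4 n31465 = n33344 := rfl
theorem F154888 : act 1 n33344 = n31467 := d11_1 D33344 (iv D31467) (iv F146309)
theorem F154889 : act 2 n33344 = n32740 := d18_1 D33344 F151910 (iv F146310)
theorem F154890 : act 5 n33344 = n32734 := d30_2 D31465 D33344 F151892 F142765 (iv F137302)
def n33345 : Q := act 7 n31465
theorem D33345 : act 7 n31465 = n33345 := rfl
theorem F154891 : act 1 n33345 = n31468 := d14_1 D33345 (iv D31468) (iv F146309)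
theorem F154892 : act 2 n33345 = n32915 := d21_1 D33345 F152467 (iv F146310)
theorem F154893 : act 3 n33345 = n31576 := d27_1 D33345 (iv D31576) (iv F146311)
theorem F154894 : act 5 n33345 = n31466 := d36_1 D33345 (iv D31466) D31465
def n33346 : Q := act 8 n31465
theorem D33346 : act 8 n31465 = n33346 := rfl
theorem F154895 : act 1 n33346 = n31469 := d15_1 D33346 (iv D31469) (iv F146309)
theorem F154896 : act 2 n33346 = n32909 := d22_1 D33346 F152448 (iv F146310)
theorem F154897 : act 3 n33346 = n31577 := d28_1 D33346 (iv D31577) (iv F146311)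
theorem F154898 : act 5 n33346 = n31485 := d37_1 D33346 (iv D31485) (iv D29506) (iv F137303) D31465
def n33347 : Q := act 3 n31467
theorem D33347 : act 3 n31467 = n33347 := rfl
theorem F154899 : act 0 n33347 = n32482 := d2_1 D33347 (iv D32482) (iv F146317)
theorem F154900 : act 2 n33347 = n31817 := d17_1 D33347 (iv D31817) F138749 (iv F137312) (iv F146318)
theorem F154901 : act 4 n33347 = n31578 := d24_2 D31467 D33347 (iv D31578) (iv D29582) (iv F137306)
def n33348 : Q := act 7 n31467
theorem D33348 : act 7 n31467 = n33348 := rfl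
theorem F154902 : act 0 n33348 = n32483 := d6_1 D33348 (iv D32483) (iv F146317)
theorem F154903 : act 2 n33348 = n31470 := d21_1 D33348 (iv D31470) (iv F146318)
theorem F154904 : act 4 n33348 = n31468 := d32_1 D33348 (iv D31468) D31467
def n33349 : Q := act 8 n31467
theorem D33349 : act 8 n31467 = n33349 := rfl
theorem F154905 : act 0 n33349 = n32484 := d7_1 D33349 (iv D32484) (iv F146317)
theorem F154906 : act 2 n33349 = n31471 := d22_1 D33349 (iv D31471) (iv F146318)
theorem F154907 : act 4 n33349 = n31469 := d33_1 D33349 (iv D31469) D31467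
def n33350 : Q := act 6 n31468
theorem D33350 : act 6 n31468 = n33350 := rfl
theorem F154908 : act 0 n33350 = n32485 := d5_1 D33350 (iv D32485) (iv F146319)
theorem F154909 : act 2 n33350 = n31472 := d20_1 D33350 (iv D31472) (iv F146320)
theorem F154910 : act 3 n33350 = n31581 := d26_1 D33350 (iv D31581) (iv F146321)
def n33351 : Q := act 8 n31468
theorem D33351 : act 8 n31468 = n33351 := rfl
theorem F154911 : act 0 n33351 = n32486 := d7_1 D33351 (iv D32486) (iv F146319)
theorem F154912 : act 2 n33351 = n31473 := d22_1 D33351 (iv D31473) (iv F146320)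
theorem F154913 : act 3 n33351 = n31582 := d28_1 D33351 (iv D31582) (iv F146321)
theorem F154914 : act 5 n33351 = n31489 := d37_1 D33351 (iv D31489) F137399 (iv F137310) (iv F146322)
theorem F154915 : act 7 n33351 = n31469 := d42_1 D33351 (iv D31469) D31468
def n33352 : Q := act 9 n31469
theorem D33352 : act 9 n31469 = n33352 := rfl
theorem F154916 : act 0 n33352 = n32487 := d8_1 D33352 (iv D32487) (iv F146323)
theorem F154917 : act 2 n33352 = n31474 := d23_1 D33352 (iv D31474) (iv F146324)
theorem F154918 : act 3 n33352 = n31583 := d29_1 D33352 (iv D31583) (iv F146325)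
theorem F154919 : act 5 n33352 = n31490 := d38_1 D33352 (iv D31490) (iv F146326)
def n33353 : Q := act 6 n31470
theorem D33353 : act 6 n31470 = n33353 := rfl
theorem F154920 : act 0 n33353 = n32488 := d5_1 D33353 (iv D32488) (iv F146327)
theorem F154921 : act 3 n33353 = n31823 := d26_1 D33353 (iv D31823) (iv F146328)
theorem F154922 : act 4 n33353 = n31472 := d31_1 D33353 (iv D31472) (iv F146329)
def n33354 : Q := act 8 n31470
theorem D33354 : act 8 n31470 = n33354 := rfl
theorem F154923 : act 0 n33354 = n32489 := d7_1 D33354 (iv D32489) (iv F146327)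
theorem F154924 : act 3 n33354 = n31824 := d28_1 D33354 (iv D31824) (iv F146328)
theorem F154925 : act 4 n33354 = n31473 := d33_1 D33354 (iv D31473) (iv F146329)
theorem F154926 : act 7 n33354 = n31471 := d42_1 D33354 (iv D31471) D31470
def n33355 : Q := act 5 n31471
theorem D33355 : act 5 n31471 = n33355 := rfl
theorem F154927 : act 0 n33355 = n32490 := d4_1 D33355 (iv D32490) (iv F146330)
theorem F154928 : act 3 n33355 = n31825 := d25_1 D33355 (iv D31825) (iv F146331)
theorem F154929 : act 4 n33355 = n31493 := d30_1 D33355 (iv D31493) F137411 (iv F137318) (iv F146332)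
def n33356 : Q := act 9 n31471
theorem D33356 : act 9 n31471 = n33356 := rfl
theorem F154930 : act 0 n33356 = n32491 := d8_1 D33356 (iv D32491) (iv F146330)
theorem F154931 : act 3 n33356 = n31826 := d29_1 D33356 (iv D31826) (iv F146331)
theorem F154932 : act 4 n33356 = n31474 := d34_1 D33356 (iv D31474) (iv F146332)
def n33357 : Q := act 8 n31472
theorem D33357 : act 8 n31472 = n33357 := rfl
theorem F154933 : act 0 n33357 = n32492 := d7_1 D33357 (iv D32492) (iv F146333)
theorem F154934 : act 3 n33357 = n31475 := d28_1 D33357 (iv D31475) (iv F146334)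
theorem F154935 : act 6 n33357 = n31473 := d40_1 D33357 (iv D31473) D31472
def n33358 : Q := act 9 n31473
theorem D33358 : act 9 n31473 = n33358 := rfl
theorem F154936 : act 0 n33358 = n32493 := d8_1 D33358 (iv D32493) (iv F146335)
theorem F154937 : act 3 n33358 = n31476 := d29_1 D33358 (iv D31476) (iv F146336)
theorem F154938 : act 5 n33358 = n31496 := d38_1 D33358 (iv D31496) (iv F146337)
theorem F154939 : act 7 n33358 = n31474 := d43_1 D33358 (iv D31474) (iv F146338)
def n33359 : Q := act 5 n31475
theorem D33359 : act 5 n31475 = n33359 := rfl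
theorem F154940 : act 0 n33359 = n32494 := d4_1 D33359 (iv D32494) (iv F146342)
theorem F154941 : act 2 n33359 = n31589 := d19_1 D33359 (iv D31589) (iv F146343)
theorem F154942 : act 6 n33359 = n31497 := d35_2 (iv F146345) D33359 (iv D31497) F137427 (iv F137325)
def n33360 : Q := act 9 n31475
theorem D33360 : act 9 n31475 = n33360 := rfl
theorem F154943 : act 0 n33360 = n32495 := d8_1 D33360 (iv D32495) (iv F146342)
theorem F154944 : act 2 n33360 = n31590 := d23_1 D33360 (iv D31590) (iv F146343)
theorem F154945 : act 4 n33360 = n31830 := d34_1 D33360 (iv D31830) (iv F146344)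
theorem F154946 : act 6 n33360 = n31476 := d41_1 D33360 (iv D31476) (iv F146345)
def n33361 : Q := act 8 n31477
theorem D33361 : act 8 n31477 = n33361 := rfl
theorem F154947 : act 0 n33361 = n32501 := d7_1 D33361 (iv D32501) (iv F146351)
theorem F154948 : act 1 n33361 = n32911 := d15_1 D33361 (iv D32911) (iv F146352)
theorem F154949 : act 3 n33361 = n31480 := d28_1 D33361 (iv D31480) (iv F146353)
theorem F154950 : act 6 n33361 = n31478 := d40_1 D33361 (iv D31478) D31477
theorem F154951 : act 7 n33361 = n33361 := d42_1 D33361 (iv D33361) F146355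
def n33362 : Q := act 9 n31478
theorem D33362 : act 9 n31478 = n33362 := rfl
theorem F154952 : act 0 n33362 = n32502 := d8_1 D33362 (iv D32502) (iv F146357)
theorem F154953 : act 1 n33362 = n32912 := d16_1 D33362 (iv D32912) (iv F146358)
theorem F154954 : act 2 n33362 = n31859 := d23_1 D33362 F154384 F154380
theorem F154955 : act 3 n33362 = n31481 := d29_1 D33362 (iv D31481) (iv F146359)
theorem F154956 : act 7 n33362 = n31479 := d43_1 D33362 (iv D31479) (iv F146360)
theorem F154957 : act 8 n33362 = n33362 := d44_1 D33362 (iv D33362) (iv D31478) F137349 D31478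
def n33363 : Q := act 5 n31480
theorem D33363 : act 5 n31480 = n33363 := rfl
theorem F154958 : act 0 n33363 = n32503 := d4_1 D33363 (iv D32503) (iv F146367)
theorem F154959 : act 1 n33363 = n32913 := d12_1 D33363 (iv D32913) (iv F146368)
theorem F154960 : act 2 n33363 = n31592 := d19_1 D33363 (iv D31592) (iv F146369)
theorem F154961 : act 7 n33363 = n33363 := d36_2 F146372 D33363 (iv D33363)
theorem F154962 : act 8 n33363 = n31497 := d37_2 D31480 D33363 (iv D31497) (iv D29516) (iv F137358)
def n33364 : Q := act 9 n31480
theorem D33364 : act 9 n31480 = n33364 := rfl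
theorem F154963 : act 0 n33364 = n32504 := d8_1 D33364 (iv D32504) (iv F146367)
theorem F154964 : act 1 n33364 = n32914 := d16_1 D33364 (iv D32914) (iv F146368)
theorem F154965 : act 2 n33364 = n31593 := d23_1 D33364 (iv D31593) (iv F146369)
theorem F154966 : act 4 n33364 = n33364 := d34_1 D33364 (iv D33364) F146370
theorem F154967 : act 6 n33364 = n31481 := d41_1 D33364 (iv D31481) (iv F146371)
theorem F154968 : act 7 n33364 = n33364 := d43_1 D33364 (iv D33364) F146372
theorem F154969 : act 8 n33364 = n33364 := d44_1 D33364 (iv D33364) (iv D31480) F137360 D31480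
def n33365 : Q := act 7 n31482
theorem D33365 : act 7 n31482 = n33365 := rfl
theorem F154970 : act 0 n33365 = n31484 := d6_1 D33365 (iv D31484) (iv F146379)
theorem F154971 : act 1 n33365 = n32505 := d14_1 D33365 (iv D32505) (iv F146380)
theorem F154972 : act 2 n33365 = n32078 := d21_1 D33365 (iv D32078) (iv F146381)
theorem F154973 : act 3 n33365 = n31594 := d27_1 D33365 (iv D31594) (iv F146382)
theorem F154974 : act 4 n33365 = n32076 := d32_1 D33365 (iv D32076) (iv F146383)
theorem F154975 : act 5 n33365 = n31483 := d36_1 D33365 (iv D31483) D31482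
theorem F154976 : act 9 n33365 = n33365 := d43_2 F146385 D33365 (iv D33365)
theorem F154977 : act 6 n32517 = n33365 := d35_0 F154975 F146391 F140648 D30508 D32517
def n33366 : Q := act 8 n31482
theorem D33366 : act 8 n31482 = n33366 := rfl
theorem F154978 : act 0 n33366 = n31485 := d7_1 D33366 (iv D31485) (iv F146379)
theorem F154979 : act 1 n33366 = n32506 := d15_1 D33366 (iv D32506) (iv F146380)
theorem F154980 : act 2 n33366 = n32079 := d22_1 D33366 (iv D32079) (iv F146381)
theorem F154981 : act 3 n33366 = n31595 := d28_1 D33366 (iv D31595) (iv F146382)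
theorem F154982 : act 4 n33366 = n32077 := d33_1 D33366 (iv D32077) (iv F146383)
theorem F154983 : act 6 n33366 = n33366 := d40_1 D33366 (iv D33366) F146384
def n33367 : Q := act 6 n31484
theorem D33367 : act 6 n31484 = n33367 := rfl
theorem F154984 : act 0 n33367 = n32517 := d5_1 D33367 F154977 F154970
theorem F154985 : act 1 n33367 = n31488 := d13_1 D33367 (iv D31488) (iv F146393)
theorem F154986 : act 2 n33367 = n32907 := d20_1 D33367 (iv D32907) (iv F146394)
theorem F154987 : act 3 n33367 = n31499 := d26_1 D33367 F146469 (iv F146395)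
theorem F154988 : act 4 n33367 = n32904 := d31_1 D33367 (iv D32904) (iv F146396)
theorem F154989 : act 5 n33367 = n31491 := d35_1 D33367 (iv D31491) (iv F144663) F144664 (iv F146397)
theorem F154990 : act 7 n33367 = n33367 := d39_2 D31484 D33367 (iv D33367) (iv D31484) F137382
theorem F154991 : act 9 n33367 = n33367 := d41_2 F146398 D33367 (iv D33367)
def n33368 : Q := act 8 n31484
theorem D33368 : act 8 n31484 = n33368 := rfl
theorem F154992 : act 1 n33368 = n31489 := d15_1 D33368 (iv D31489) (iv F146393)
theorem F154993 : act 2 n33368 = n32908 := d22_1 D33368 (iv D32908) (iv F146394)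
theorem F154994 : act 3 n33368 = n31596 := d28_1 D33368 (iv D31596) (iv F146395)
theorem F154995 : act 4 n33368 = n32905 := d33_1 D33368 (iv D32905) (iv F146396)
theorem F154996 : act 7 n33368 = n31485 := d42_1 D33368 (iv D31485) D31484
def n33369 : Q := act 9 n31485
theorem D33369 : act 9 n31485 = n33369 := rfl
theorem F154997 : act 1 n33369 = n31490 := d16_1 D33369 (iv D31490) (iv F146399)
theorem F154998 : act 2 n33369 = n32910 := d23_1 D33369 (iv D32910) (iv F146400)
theorem F154999 : act 3 n33369 = n31597 := d29_1 D33369 (iv D31597) (iv F146401)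
theorem F155000 : act 4 n33369 = n32906 := d34_1 D33369 (iv D32906) (iv F146402)
theorem F155001 : act 6 n33369 = n33369 := d41_1 D33369 (iv D33369) F146403
theorem F155002 : act 8 n33369 = n33369 := d44_1 D33369 (iv D33369) (iv D31485) F137383 D31485
def n33370 : Q := act 6 n31486
theorem D33370 : act 6 n31486 = n33370 := rfl
theorem F155003 : act 0 n33370 = n32512 := d5_1 D33370 (iv D32512) (iv F146404)
theorem F155004 : act 1 n33370 = n32904 := d13_1 D33370 (iv D32904) (iv F146405)
theorem F155005 : act 2 n33370 = n31491 := d20_1 D33370 (iv D31491) (iv F146406)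
theorem F155006 : act 3 n33370 = n33370 := d26_1 D33370 (iv D33370) F146407
theorem F155007 : act 4 n33370 = n31488 := d31_1 D33370 (iv D31488) (iv F146408)
theorem F155008 : act 5 n33370 = n32907 := d35_1 D33370 (iv D32907) F143423 (iv F143412) (iv F146409)
theorem F155009 : act 7 n33370 = n33370 := d39_2 D31486 D33370 (iv D33370) (iv D31486) F137394
theorem F155010 : act 9 n33370 = n33370 := d41_2 F146410 D33370 (iv D33370)
def n33371 : Q := act 8 n31486
theorem D33371 : act 8 n31486 = n33371 := rfl
theorem F155011 : act 0 n33371 = n32513 := d7_1 D33371 (iv D32513) (iv F146404)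
theorem F155012 : act 1 n33371 = n32905 := d15_1 D33371 (iv D32905) (iv F146405)
theorem F155013 : act 2 n33371 = n31492 := d22_1 D33371 (iv D31492) (iv F146406)
theorem F155014 : act 3 n33371 = n33371 := d28_1 D33371 (iv D33371) F146407
theorem F155015 : act 4 n33371 = n31489 := d33_1 D33371 (iv D31489) (iv F146408)
theorem F155016 : act 7 n33371 = n31487 := d42_1 D33371 (iv D31487) D31486
def n33372 : Q := act 5 n31487
theorem D33372 : act 5 n31487 = n33372 := rfl
theorem F155017 : act 0 n33372 = n32514 := d4_1 D33372 (iv D32514) (iv F146411)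
theorem F155018 : act 1 n33372 = n32707 := d12_1 D33372 F151819 (iv F146412)
theorem F155019 : act 2 n33372 = n31493 := d19_1 D33372 (iv D31493) (iv F146413)
theorem F155020 : act 3 n33372 = n33372 := d25_1 D33372 (iv D33372) F146414
theorem F155021 : act 8 n33372 = n32703 := d37_2 D31487 D33372 (iv D32703) F142689 (iv F137393)
def n33373 : Q := act 9 n31487
theorem D33373 : act 9 n31487 = n33373 := rfl
theorem F155022 : act 0 n33373 = n31970 := d8_1 D33373 F148785 (iv F146411)
theorem F155023 : act 1 n33373 = n32906 := d16_1 D33373 (iv D32906) (iv F146412)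
theorem F155024 : act 2 n33373 = n31494 := d23_1 D33373 (iv D31494) (iv F146413)
theorem F155025 : act 3 n33373 = n33373 := d29_1 D33373 (iv D33373) F146414
theorem F155026 : act 4 n33373 = n31490 := d34_1 D33373 (iv D31490) (iv F146415)
theorem F155027 : act 6 n33373 = n33373 := d41_1 D33373 (iv D33373) F146416
theorem F155028 : act 8 n33373 = n33373 := d44_1 D33373 (iv D33373) (iv D31487) F137395 D31487
def n33374 : Q := act 8 n31488
theorem D33374 : act 8 n31488 = n33374 := rfl
theorem F155029 : act 0 n33374 = n32515 := d7_1 D33374 (iv D32515) (iv F146417)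
theorem F155030 : act 2 n33374 = n31495 := d22_1 D33374 (iv D31495) (iv F146418)
theorem F155031 : act 3 n33374 = n31598 := d28_1 D33374 (iv D31598) (iv F146419)
theorem F155032 : act 6 n33374 = n31489 := d40_1 D33374 (iv D31489) D31488
theorem F155033 : act 7 n33374 = n33374 := d42_1 D33374 (iv D33374) F146420
def n33375 : Q := act 9 n31489
theorem D33375 : act 9 n31489 = n33375 := rfl
theorem F155034 : act 0 n33375 = n32516 := d8_1 D33375 (iv D32516) (iv F146422)
theorem F155035 : act 2 n33375 = n31496 := d23_1 D33375 (iv D31496) (iv F146423)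
theorem F155036 : act 3 n33375 = n31599 := d29_1 D33375 (iv D31599) (iv F146424)
theorem F155037 : act 7 n33375 = n31490 := d43_1 D33375 (iv D31490) (iv F146425)
theorem F155038 : act 8 n33375 = n33375 := d44_1 D33375 (iv D33375) (iv D31489) F137400 D31489
def n33376 : Q := act 8 n31491
theorem D33376 : act 8 n31491 = n33376 := rfl
theorem F155039 : act 0 n33376 = n32518 := d7_1 D33376 (iv D32518) (iv F146431)
theorem F155040 : act 3 n33376 = n31500 := d28_1 D33376 (iv D31500) (iv F146432)
theorem F155041 : act 4 n33376 = n31495 := d33_1 D33376 (iv D31495) (iv F146433)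
theorem F155042 : act 6 n33376 = n31492 := d40_1 D33376 (iv D31492) D31491
theorem F155043 : act 7 n33376 = n33376 := d42_1 D33376 (iv D33376) F146434
def n33377 : Q := act 5 n31492
theorem D33377 : act 5 n31492 = n33377 := rfl
theorem F155044 : act 0 n33377 = n32519 := d4_1 D33377 (iv D32519) (iv F146436)
theorem F155045 : act 3 n33377 = n31501 := d25_1 D33377 (iv D31501) (iv F146437)
theorem F155046 : act 7 n33377 = n31493 := d36_2 (iv F146439) D33377 (iv D31493)
def n33378 : Q := act 9 n31492
theorem D33378 : act 9 n31492 = n33378 := rfl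
theorem F155047 : act 0 n33378 = n31971 := d8_1 D33378 F148790 (iv F146436)
theorem F155048 : act 1 n33378 = n31859 := d16_1 D33378 F154384 F154379
theorem F155049 : act 3 n33378 = n31502 := d29_1 D33378 (iv D31502) (iv F146437)
theorem F155050 : act 4 n33378 = n31496 := d34_1 D33378 (iv D31496) (iv F146438)
theorem F155051 : act 7 n33378 = n31494 := d43_1 D33378 (iv D31494) (iv F146439)
theorem F155052 : act 8 n33378 = n33378 := d44_1 D33378 (iv D33378) (iv D31492) F137408 D31492
def n33379 : Q := act 6 n31493
theorem D33379 : act 6 n31493 = n33379 := rfl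
theorem F155053 : act 0 n33379 = n32520 := d5_1 D33379 (iv D32520) (iv F146440)
theorem F155054 : act 3 n33379 = n31503 := d26_1 D33379 (iv D31503) (iv F146441)
theorem F155055 : act 5 n33379 = n33379 := d35_1 D33379 (iv D33379) (iv D31493) F137412 D31493
def n33380 : Q := act 9 n31493
theorem D33380 : act 9 n31493 = n33380 := rfl
theorem F155056 : act 0 n33380 = n31926 := d8_1 D33380 F148561 (iv F146440)
theorem F155057 : act 1 n33380 = n32108 := d16_1 D33380 (iv F154390) F154386
theorem F155058 : act 3 n33380 = n31504 := d29_1 D33380 (iv D31504) (iv F146441)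
theorem F155059 : act 5 n33380 = n31494 := d38_1 D33380 (iv D31494) D31493
def n33381 : Q := act 5 n31495
theorem D33381 : act 5 n31495 = n33381 := rfl
theorem F155060 : act 0 n33381 = n32521 := d4_1 D33381 (iv D32521) (iv F146448)
theorem F155061 : act 3 n33381 = n31497 := d25_1 D33381 (iv D31497) (iv F146449)
theorem F155062 : act 7 n33381 = n33381 := d36_2 F146451 D33381 (iv D33381)
def n33382 : Q := act 9 n31495
theorem D33382 : act 9 n31495 = n33382 := rfl
theorem F155063 : act 0 n33382 = n32522 := d8_1 D33382 (iv D32522) (iv F146448)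
theorem F155064 : act 3 n33382 = n31498 := d29_1 D33382 (iv D31498) (iv F146449)
theorem F155065 : act 6 n33382 = n31496 := d41_1 D33382 (iv D31496) (iv F146450)
theorem F155066 : act 7 n33382 = n33382 := d43_1 D33382 (iv D33382) F146451
theorem F155067 : act 8 n33382 = n33382 := d44_1 D33382 (iv D33382) (iv D31495) F137416 D31495
def n33383 : Q := act 4 n31497
theorem D33383 : act 4 n31497 = n33383 := rfl
theorem F155068 : act 0 n33383 = n32523 := d3_1 D33383 (iv D32523) (iv F146456)
theorem F155069 : act 2 n33383 = n31602 := d18_1 D33383 (iv D31602) (iv F146457)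
theorem F155070 : act 5 n33383 = n31505 := d30_2 D31497 D33383 (iv D31505) (iv D29524) (iv F137426)
theorem F155071 : act 7 n33383 = n33383 := d32_2 F146458 D33383 (iv D33383)
def n33384 : Q := act 9 n31497
theorem D33384 : act 9 n31497 = n33384 := rfl
theorem F155072 : act 0 n33384 = n32524 := d8_1 D33384 (iv D32524) (iv F146456)
theorem F155073 : act 2 n33384 = n31603 := d23_1 D33384 (iv D31603) (iv F146457)
theorem F155074 : act 5 n33384 = n31498 := d38_1 D33384 (iv D31498) D31497
theorem F155075 : act 7 n33384 = n33384 := d43_1 D33384 (iv D33384) F146458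
def n33385 : Q := act 8 n31499
theorem D33385 : act 8 n31499 = n33385 := rfl
theorem F155076 : act 0 n33385 = n32525 := d7_1 D33385 (iv D32525) (iv F146465)
theorem F155077 : act 1 n33385 = n31598 := d15_1 D33385 (iv D31598) (iv F146466)
theorem F155078 : act 2 n33385 = n33385 := d22_1 D33385 (iv D33385) F146467
theorem F155079 : act 4 n33385 = n33385 := d33_1 D33385 (iv D33385) F146468
theorem F155080 : act 6 n33385 = n31596 := d40_1 D33385 (iv D31596) (iv F146469)
theorem F155081 : act 7 n33385 = n33385 := d42_1 D33385 (iv D33385) F146470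
def n33386 : Q := act 5 n31500
theorem D33386 : act 5 n31500 = n33386 := rfl
theorem F155082 : act 0 n33386 = n32526 := d4_1 D33386 (iv D32526) (iv F146472)
theorem F155083 : act 2 n33386 = n33386 := d19_1 D33386 (iv D33386) F146473
theorem F155084 : act 7 n33386 = n33386 := d36_2 F146476 D33386 (iv D33386)
def n33387 : Q := act 6 n31501
theorem D33387 : act 6 n31501 = n33387 := rfl
theorem F155085 : act 0 n33387 = n32527 := d5_1 D33387 (iv D32527) (iv F146477)
theorem F155086 : act 2 n33387 = n33387 := d20_1 D33387 (iv D33387) F146478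
theorem F155087 : act 4 n33387 = n31855 := d31_1 D33387 (iv D31855) (iv F146479)
def n33388 : Q := act 9 n31501
theorem D33388 : act 9 n31501 = n33388 := rfl
theorem F155088 : act 0 n33388 = n31927 := d8_1 D33388 F148566 (iv F146477)
theorem F155089 : act 1 n33388 = n31853 := d16_1 D33388 (iv F154425) F154420
theorem F155090 : act 2 n33388 = n33388 := d23_1 D33388 (iv D33388) F146478
theorem F155091 : act 4 n33388 = n31742 := d34_1 D33388 F147736 (iv F146479)
theorem F155092 : act 5 n33388 = n31502 := d38_1 D33388 (iv D31502) D31501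
theorem F155093 : act 7 n33388 = n31504 := d43_1 D33388 (iv D31504) (iv F146480)
def n33389 : Q := act 7 n31503
theorem D33389 : act 7 n31503 = n33389 := rfl
theorem F155094 : act 0 n33389 = n32528 := d6_1 D33389 (iv D32528) (iv F146487)
theorem F155095 : act 2 n33389 = n33389 := d21_1 D33389 (iv D33389) F146488
theorem F155096 : act 4 n33389 = n31856 := d32_1 D33389 (iv D31856) (iv F146489)
theorem F155097 : act 5 n33389 = n33389 := d36_1 D33389 (iv D33389) F146490
def n33390 : Q := act 9 n31503
theorem D33390 : act 9 n31503 = n33390 := rfl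
theorem F155098 : act 0 n33390 = n31879 := d8_1 D33390 F148333 (iv F146487)
theorem F155099 : act 1 n33390 = n32100 := d16_1 D33390 (iv F154432) F154427
theorem F155100 : act 2 n33390 = n33390 := d23_1 D33390 (iv D33390) F146488
theorem F155101 : act 4 n33390 = n31857 := d34_1 D33390 (iv D31857) (iv F146489)
theorem F155102 : act 5 n33390 = n33390 := d38_1 D33390 (iv D33390) F146490
theorem F155103 : act 6 n33390 = n31504 := d41_1 D33390 (iv D31504) D31503
theorem F155104 : act 8 n32163 = n33390 := d33_0 F155101 (iv F148213) D32163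
def n33391 : Q := act 8 n31504
theorem D33391 : act 8 n31504 = n33391 := rfl
theorem F155105 : act 0 n33391 = n31928 := d7_1 D33391 (iv D31928) (iv F146491)
theorem F155106 : act 1 n33391 = n32102 := d15_1 D33391 F149528 (iv F146492)
theorem F155107 : act 2 n33391 = n33391 := d22_1 D33391 (iv D33391) F146493
theorem F155108 : act 4 n33391 = n31858 := d33_1 D33391 (iv D31858) (iv F146494)
theorem F155109 : act 5 n33391 = n33391 := d37_1 D33391 (iv D33391) F146495 F137451 (iv F146495)
theorem F155110 : act 6 n33391 = n32163 := d40_1 D33391 F155104 F155103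
def n33392 : Q := act 3 n31505
theorem D33392 : act 3 n31505 = n33392 := rfl
theorem F155111 : act 0 n33392 = n32529 := d2_1 D33392 (iv D32529) (iv F146496)
theorem F155112 : act 6 n33392 = n31859 := d26_2 (iv F146498) D33392 (iv D31859)
theorem F155113 : act 7 n33392 = n33392 := d27_2 F146499 D33392 (iv D33392)
theorem F155114 : act 8 n33392 = n33392 := d28_2 F146500 D33392 (iv D33392)
def n33393 : Q := act 6 n31506
theorem D33393 : act 6 n31506 = n33393 := rfl
theorem F155115 : act 0 n33393 = n31507 := d5_1 D33393 (iv D31507) D31506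
theorem F155116 : act 1 n33393 = n32531 := d13_1 D33393 (iv D32531) (iv F146501)
theorem F155117 : act 2 n33393 = n33393 := d20_1 D33393 (iv D33393) F146502
theorem F155118 : act 4 n33393 = n33393 := d31_1 D33393 (iv D33393) F146503
theorem F155119 : act 5 n33393 = n32159 := d35_1 D33393 (iv D32159) (iv D30175) (iv F137658) (iv F146504)
theorem F155120 : act 8 n33393 = n33393 := d40_2 F146506 D33393 (iv D33393)
theorem F155121 : act 9 n33393 = n32921 := d41_2 (iv F146507) D33393 (iv D32921)
def n33394 : Q := act 7 n31507
theorem D33394 : act 7 n31507 = n33394 := rfl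
theorem F155122 : act 1 n33394 = n31509 := d14_1 D33394 (iv D31509) (iv F146508)
theorem F155123 : act 2 n33394 = n33394 := d21_1 D33394 (iv D33394) F146509
theorem F155124 : act 4 n33394 = n33394 := d32_1 D33394 (iv D33394) F146510
theorem F155125 : act 6 n33394 = n31527 := d39_1 D33394 (iv D31527) (iv D29539) (iv F137477) D31507
theorem F155126 : act 8 n33394 = n33394 := d42_2 F146511 D33394 (iv D33394)
theorem F155127 : act 9 n33394 = n32923 := d43_2 (iv F146512) D33394 (iv D32923)
def n33395 : Q := act 7 n31508
theorem D33395 : act 7 n31508 = n33395 := rfl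
theorem F155128 : act 0 n33395 = n32535 := d6_1 D33395 (iv D32535) (iv F146513)
theorem F155129 : act 2 n33395 = n31511 := d21_1 D33395 (iv D31511) (iv F146514)
theorem F155130 : act 5 n33395 = n31509 := d36_1 D33395 (iv D31509) D31508
theorem F155131 : act 9 n33395 = n32924 := d43_2 (iv F146516) D33395 (iv D32924)
def n33396 : Q := act 7 n31510
theorem D33396 : act 7 n31510 = n33396 := rfl
theorem F155132 : act 0 n33396 = n32537 := d6_1 D33396 (iv D32537) (iv F146523)
theorem F155133 : act 1 n33396 = n33396 := d14_1 D33396 (iv D33396) F146524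
theorem F155134 : act 3 n33396 = n31906 := d27_1 D33396 F148462 (iv F146525)
theorem F155135 : act 4 n33396 = n31511 := d32_1 D33396 (iv D31511) D31510
theorem F155136 : act 5 n33396 = n33396 := d36_1 D33396 (iv D33396) F146526
theorem F155137 : act 8 n33396 = n32112 := d42_2 F146529 D33396 F149571
theorem F155138 : act 9 n33396 = n31904 := d43_2 (iv F146528) D33396 F148453
def n33397 : Q := act 6 n31511
theorem D33397 : act 6 n31511 = n33397 := rfl
theorem F155139 : act 0 n33397 = n32538 := d5_1 D33397 (iv D32538) (iv F146530)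
theorem F155140 : act 1 n33397 = n33397 := d13_1 D33397 (iv D33397) F146531
theorem F155141 : act 3 n33397 = n31513 := d26_1 D33397 (iv D31513) (iv F146532)
theorem F155142 : act 5 n33397 = n31533 := d35_1 D33397 (iv D31533) F137565 (iv F137494) (iv F146533)
theorem F155143 : act 7 n33397 = n31556 := d39_2 D31511 D33397 (iv D31556) (iv D29564) (iv F137488)
theorem F155144 : act 9 n33397 = n32925 := d41_2 (iv F146534) D33397 (iv D32925)
def n33398 : Q := act 8 n31511
theorem D33398 : act 8 n31511 = n33398 := rfl
theorem F155145 : act 0 n33398 = n32539 := d7_1 D33398 (iv D32539) (iv F146530)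
theorem F155146 : act 1 n33398 = n33398 := d15_1 D33398 (iv D33398) F146531
theorem F155147 : act 3 n33398 = n31514 := d28_1 D33398 (iv D31514) (iv F146532)
theorem F155148 : act 4 n33398 = n32112 := d33_1 D33398 (iv F155137) F155135
theorem F155149 : act 5 n33398 = n33398 := d37_1 D33398 (iv D33398) F146533 F137495 (iv F146533)
theorem F155150 : act 7 n33398 = n31512 := d42_1 D33398 (iv D31512) D31511
theorem F155151 : act 9 n33398 = n32111 := d44_2 (iv F146534) D33398 F149566 (iv F148443) F148442
def n33399 : Q := act 8 n31513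
theorem D33399 : act 8 n31513 = n33399 := rfl
theorem F155152 : act 0 n33399 = n32540 := d7_1 D33399 (iv D32540) (iv F146542)
theorem F155153 : act 1 n33399 = n33399 := d15_1 D33399 (iv D33399) F146543
theorem F155154 : act 4 n33399 = n32314 := d33_1 D33399 F150288 (iv F146544)
theorem F155155 : act 6 n33399 = n31514 := d40_1 D33399 (iv D31514) D31513
theorem F155156 : act 7 n33399 = n31558 := d42_1 D33399 (iv D31558) (iv F146546)
theorem F155157 : act 9 n33399 = n32312 := d44_2 (iv F146547) D33399 (iv D32312) (iv F148483) F148482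
def n33400 : Q := act 6 n31515
theorem D33400 : act 6 n31515 = n33400 := rfl
theorem F155158 : act 0 n33400 = n31516 := d5_1 D33400 (iv D31516) D31515
theorem F155159 : act 1 n33400 = n32541 := d13_1 D33400 (iv D32541) (iv F146554)
theorem F155160 : act 2 n33400 = n33400 := d20_1 D33400 (iv D33400) F146555
theorem F155161 : act 4 n33400 = n33400 := d31_1 D33400 (iv D33400) F146556
theorem F155162 : act 8 n33400 = n32926 := d40_2 (iv F146559) D33400 (iv D32926)
theorem F155163 : act 9 n33400 = n31525 := d41_2 (iv F146560) D33400 (iv D31525)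
def n33401 : Q := act 5 n31516
theorem D33401 : act 5 n31516 = n33401 := rfl
theorem F155164 : act 1 n33401 = n31517 := d12_1 D33401 (iv D31517) (iv F146561)
theorem F155165 : act 2 n33401 = n33401 := d19_1 D33401 (iv D33401) F146562
theorem F155166 : act 6 n33401 = n31561 := d35_2 D31516 D33401 (iv D31561) (iv D29570) (iv F137510)
theorem F155167 : act 9 n33401 = n31526 := d38_2 (iv F146565) D33401 (iv D31526)
def n33402 : Q := act 7 n31516
theorem D33402 : act 7 n31516 = n33402 := rfl
theorem F155168 : act 1 n33402 = n31518 := d14_1 D33402 (iv D31518) (iv F146561)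
theorem F155169 : act 2 n33402 = n33402 := d21_1 D33402 (iv D33402) F146562
theorem F155170 : act 4 n33402 = n33402 := d32_1 D33402 (iv D33402) F146563
theorem F155171 : act 6 n33402 = n32923 := d39_1 D33402 (iv D32923) (iv D30951) (iv F137511) D31516
theorem F155172 : act 8 n33402 = n32928 := d42_2 (iv F146564) D33402 (iv D32928)
theorem F155173 : act 9 n33402 = n31527 := d43_2 (iv F146565) D33402 (iv D31527)
def n33403 : Q := act 4 n31517
theorem D33403 : act 4 n31517 = n33403 := rfl
theorem F155174 : act 0 n33403 = n32544 := d3_1 D33403 (iv D32544) (iv F146566)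
theorem F155175 : act 2 n33403 = n31519 := d18_1 D33403 (iv D31519) (iv F146567)
theorem F155176 : act 5 n33403 = n33403 := d30_2 D31517 D33403 (iv D33403) (iv D31517) F137516
theorem F155177 : act 6 n33403 = n31563 := d31_2 (iv F146568) D33403 (iv D31563)
theorem F155178 : act 9 n33403 = n31528 := d34_2 (iv F146569) D33403 (iv D31528)
theorem F155179 : act 8 n32591 = n33403 := d22_0 F155175 (iv F146582) (iv F151391)
def n33404 : Q := act 7 n31517
theorem D33404 : act 7 n31517 = n33404 := rfl
theorem F155180 : act 0 n33404 = n32545 := d6_1 D33404 (iv D32545) (iv F146566)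
theorem F155181 : act 2 n33404 = n31520 := d21_1 D33404 (iv D31520) (iv F146567)
theorem F155182 : act 5 n33404 = n31518 := d36_1 D33404 (iv D31518) D31517
theorem F155183 : act 9 n33404 = n31529 := d43_2 (iv F146569) D33404 (iv D31529)
def n33405 : Q := act 8 n31517
theorem D33405 : act 8 n31517 = n33405 := rfl
theorem F155184 : act 0 n33405 = n32546 := d7_1 D33405 (iv D32546) (iv F146566)
theorem F155185 : act 2 n33405 = n31521 := d22_1 D33405 (iv D31521) (iv F146567)
theorem F155186 : act 4 n33405 = n32591 := d33_1 D33405 F155179 (iv D33403)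
theorem F155187 : act 5 n33405 = n32641 := d37_1 D33405 (iv F151581) (iv D30958) (iv F137517) D31517
theorem F155188 : act 6 n33405 = n31565 := d40_1 D33405 (iv D31565) (iv F146568)
theorem F155189 : act 9 n32604 = n33405 := d38_0 F155187 F151580 (iv F151441)
def n33406 : Q := act 7 n31519
theorem D33406 : act 7 n31519 = n33406 := rfl
theorem F155190 : act 0 n33406 = n32547 := d6_1 D33406 (iv D32547) (iv F146576)
theorem F155191 : act 1 n33406 = n33406 := d14_1 D33406 (iv D33406) F146577
theorem F155192 : act 3 n33406 = n31871 := d27_1 D33406 (iv D31871) (iv F146578)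
theorem F155193 : act 4 n33406 = n31520 := d32_1 D33406 (iv D31520) D31519
theorem F155194 : act 5 n33406 = n33406 := d36_1 D33406 (iv D33406) F146579
theorem F155195 : act 8 n33406 = n33002 := d42_2 F146582 D33406 (iv D33002)
theorem F155196 : act 9 n33406 = n31531 := d43_2 (iv F146581) D33406 (iv D31531)
def n33407 : Q := act 6 n31520
theorem D33407 : act 6 n31520 = n33407 := rfl
theorem F155197 : act 0 n33407 = n32548 := d5_1 D33407 (iv D32548) (iv F146583)
theorem F155198 : act 1 n33407 = n33407 := d13_1 D33407 (iv D33407) F146584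
theorem F155199 : act 3 n33407 = n31522 := d26_1 D33407 (iv D31522) (iv F146585)
theorem F155200 : act 5 n33407 = n32925 := d35_1 D33407 (iv D32925) F143489 (iv F137528) (iv F146586)
theorem F155201 : act 7 n33407 = n31568 := d39_2 D31520 D33407 (iv D31568) (iv D29574) (iv F137522)
theorem F155202 : act 9 n33407 = n31533 := d41_2 (iv F146587) D33407 (iv D31533)
def n33408 : Q := act 8 n31520
theorem D33408 : act 8 n31520 = n33408 := rfl
theorem F155203 : act 0 n33408 = n32549 := d7_1 D33408 (iv D32549) (iv F146583)
theorem F155204 : act 1 n33408 = n33408 := d15_1 D33408 (iv D33408) F146584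
theorem F155205 : act 3 n33408 = n31523 := d28_1 D33408 (iv D31523) (iv F146585)
theorem F155206 : act 4 n33408 = n33002 := d33_1 D33408 (iv F155195) F155193
theorem F155207 : act 5 n33408 = n32932 := d37_1 D33408 (iv D32932) F143522 (iv F137529) (iv F146586)
theorem F155208 : act 7 n33408 = n31521 := d42_1 D33408 (iv D31521) D31520
theorem F155209 : act 9 n33008 = n33408 := d43_0 F155208 (iv F146594) D33008
def n33409 : Q := act 8 n31522
theorem D33409 : act 8 n31522 = n33409 := rfl
theorem F155210 : act 0 n33409 = n32550 := d7_1 D33409 (iv D32550) (iv F146595)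
theorem F155211 : act 1 n33409 = n33409 := d15_1 D33409 (iv D33409) F146596
theorem F155212 : act 4 n33409 = n31876 := d33_1 D33409 (iv D31876) (iv F146597)
theorem F155213 : act 6 n33409 = n31523 := d40_1 D33409 (iv D31523) D31522
theorem F155214 : act 7 n33409 = n31571 := d42_1 D33409 (iv D31571) (iv F146599)
def n33410 : Q := act 9 n31523
theorem D33410 : act 9 n31523 = n33410 := rfl
theorem F155215 : act 0 n33410 = n32551 := d8_1 D33410 (iv D32551) (iv F146601)
theorem F155216 : act 1 n33410 = n33410 := d16_1 D33410 (iv D33410) F146602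
theorem F155217 : act 3 n33410 = n33008 := d29_1 D33410 F155209 F155205
theorem F155218 : act 4 n33410 = n31877 := d34_1 D33410 (iv D31877) (iv F146603)
theorem F155219 : act 5 n33410 = n32934 := d38_1 D33410 (iv D32934) (iv F146604)
theorem F155220 : act 7 n33410 = n31524 := d43_1 D33410 (iv D31524) (iv F146605)
theorem F155221 : act 8 n33410 = n31537 := d44_1 D33410 (iv D31537) (iv D29546) (iv F137535) D31523
def n33411 : Q := act 5 n31525
theorem D33411 : act 5 n31525 = n33411 := rfl
theorem F155222 : act 0 n33411 = n31526 := d4_1 D33411 (iv D31526) (iv F146613)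
theorem F155223 : act 1 n33411 = n32552 := d12_1 D33411 (iv D32552) (iv F146614)
theorem F155224 : act 2 n33411 = n33411 := d19_1 D33411 (iv D33411) F146615
theorem F155225 : act 6 n33411 = n31573 := d35_2 D31525 D33411 (iv D31573) (iv D29579) (iv F137544)
def n33412 : Q := act 7 n31525
theorem D33412 : act 7 n31525 = n33412 := rfl
theorem F155226 : act 0 n33412 = n31527 := d6_1 D33412 (iv D31527) (iv F146613)
theorem F155227 : act 1 n33412 = n32553 := d14_1 D33412 (iv D32553) (iv F146614)
theorem F155228 : act 2 n33412 = n33412 := d21_1 D33412 (iv D33412) F146615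
theorem F155229 : act 4 n33412 = n33412 := d32_1 D33412 (iv D33412) F146616
theorem F155230 : act 8 n33412 = n33412 := d42_2 F146617 D33412 (iv D33412)
def n33413 : Q := act 4 n31526
theorem D33413 : act 4 n31526 = n33413 := rfl
theorem F155231 : act 1 n33413 = n31528 := d11_1 D33413 (iv D31528) (iv F146618)
theorem F155232 : act 2 n33413 = n33413 := d18_1 D33413 (iv D33413) F146619
theorem F155233 : act 5 n33413 = n33413 := d30_2 D31526 D33413 (iv D33413) (iv D31526) F137548
theorem F155234 : act 6 n33413 = n31575 := d31_2 (iv F146620) D33413 (iv D31575)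
def n33414 : Q := act 7 n31526
theorem D33414 : act 7 n31526 = n33414 := rfl
theorem F155235 : act 1 n33414 = n31529 := d14_1 D33414 (iv D31529) (iv F146618)
theorem F155236 : act 2 n33414 = n33414 := d21_1 D33414 (iv D33414) F146619
theorem F155237 : act 5 n33414 = n31527 := d36_1 D33414 (iv D31527) D31526
def n33415 : Q := act 8 n31526
theorem D33415 : act 8 n31526 = n33415 := rfl
theorem F155238 : act 1 n33415 = n31530 := d15_1 D33415 (iv D31530) (iv F146618)
theorem F155239 : act 2 n33415 = n33415 := d22_1 D33415 (iv D33415) F146619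
theorem F155240 : act 5 n33415 = n33415 := d37_1 D33415 (iv D33415) (iv D31526) F137549 D31526
theorem F155241 : act 6 n33415 = n31577 := d40_1 D33415 (iv D31577) (iv F146620)
def n33416 : Q := act 3 n31528
theorem D33416 : act 3 n31528 = n33416 := rfl
theorem F155242 : act 0 n33416 = n32557 := d2_1 D33416 (iv D32557) (iv F146625)
theorem F155243 : act 2 n33416 = n31882 := d17_1 D33416 (iv D31882) F139023 (iv F137559) (iv F146626)
theorem F155244 : act 5 n33416 = n33416 := d25_2 F146627 D33416 (iv D33416)
theorem F155245 : act 6 n33416 = n31578 := d26_2 (iv F146628) D33416 (iv D31578)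
def n33417 : Q := act 7 n31528
theorem D33417 : act 7 n31528 = n33417 := rfl
theorem F155246 : act 0 n33417 = n32558 := d6_1 D33417 (iv D32558) (iv F146625)
theorem F155247 : act 2 n33417 = n31531 := d21_1 D33417 (iv D31531) (iv F146626)
theorem F155248 : act 4 n33417 = n31529 := d32_1 D33417 (iv D31529) D31528
theorem F155249 : act 5 n33417 = n33417 := d36_1 D33417 (iv D33417) F146627
def n33418 : Q := act 8 n31528
theorem D33418 : act 8 n31528 = n33418 := rfl
theorem F155250 : act 0 n33418 = n32559 := d7_1 D33418 (iv D32559) (iv F146625)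
theorem F155251 : act 2 n33418 = n31532 := d22_1 D33418 (iv D31532) (iv F146626)
theorem F155252 : act 4 n33418 = n31530 := d33_1 D33418 (iv D31530) D31528
theorem F155253 : act 6 n33418 = n31580 := d40_1 D33418 (iv D31580) (iv F146628)
theorem F155254 : act 9 n33418 = n32606 := d44_2 F155178 D33418 (iv D32606) (iv F151392) F155179
theorem F155255 : act 5 n32628 = n33418 := d38_3 F155254 F151447 D32628
def n33419 : Q := act 6 n31529
theorem D33419 : act 6 n31529 = n33419 := rfl
theorem F155256 : act 0 n33419 = n32560 := d5_1 D33419 (iv D32560) (iv F146629)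
theorem F155257 : act 2 n33419 = n31533 := d20_1 D33419 (iv D31533) (iv F146630)
theorem F155258 : act 7 n33419 = n31581 := d39_2 D31529 D33419 (iv D31581) (iv D29583) (iv F137552)
def n33420 : Q := act 8 n31529
theorem D33420 : act 8 n31529 = n33420 := rfl
theorem F155259 : act 0 n33420 = n32561 := d7_1 D33420 (iv D32561) (iv F146629)
theorem F155260 : act 2 n33420 = n31534 := d22_1 D33420 (iv D31534) (iv F146630)
theorem F155261 : act 5 n33420 = n33420 := d37_1 D33420 (iv D33420) F146631 F137556 (iv F146631)
theorem F155262 : act 7 n33420 = n31530 := d42_1 D33420 (iv D31530) D31529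
def n33421 : Q := act 9 n31530
theorem D33421 : act 9 n31530 = n33421 := rfl
theorem F155263 : act 0 n33421 = n32562 := d8_1 D33421 (iv D32562) (iv F146632)
theorem F155264 : act 2 n33421 = n31535 := d23_1 D33421 (iv D31535) (iv F146633)
theorem F155265 : act 4 n33421 = n32606 := d34_1 D33421 (iv F155254) F155252
theorem F155266 : act 5 n33421 = n33421 := d38_1 D33421 (iv D33421) F146634
theorem F155267 : act 6 n33421 = n31583 := d41_1 D33421 (iv D31583) (iv F146635)
theorem F155268 : act 8 n33421 = n32604 := d44_1 D33421 F155189 (iv D33405) F146569 D31530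
def n33422 : Q := act 6 n31531
theorem D33422 : act 6 n31531 = n33422 := rfl
theorem F155269 : act 0 n33422 = n32563 := d5_1 D33422 (iv D32563) (iv F146636)
theorem F155270 : act 1 n33422 = n33422 := d13_1 D33422 (iv D33422) F146637
theorem F155271 : act 3 n33422 = n31888 := d26_1 D33422 (iv D31888) (iv F146638)
theorem F155272 : act 4 n33422 = n31533 := d31_1 D33422 (iv D31533) (iv F146639)
theorem F155273 : act 7 n33422 = n31584 := d39_2 D31531 D33422 (iv D31584) (iv D29585) (iv F137561)
def n33423 : Q := act 8 n31531
theorem D33423 : act 8 n31531 = n33423 := rfl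
theorem F155274 : act 0 n33423 = n32564 := d7_1 D33423 (iv D32564) (iv F146636)
theorem F155275 : act 1 n33423 = n33423 := d15_1 D33423 (iv D33423) F146637
theorem F155276 : act 3 n33423 = n31889 := d28_1 D33423 (iv D31889) (iv F146638)
theorem F155277 : act 4 n33423 = n31534 := d33_1 D33423 (iv D31534) (iv F146639)
theorem F155278 : act 7 n33423 = n31532 := d42_1 D33423 (iv D31532) D31531
theorem F155279 : act 9 n33423 = n33010 := d44_2 F155196 D33423 (iv D33010) (iv F152928) (iv F155195)
theorem F155280 : act 5 n32170 = n33423 := d38_3 F155279 F152954 F149783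
def n33424 : Q := act 8 n31533
theorem D33424 : act 8 n31533 = n33424 := rfl
theorem F155281 : act 0 n33424 = n32565 := d7_1 D33424 (iv D32565) (iv F146648)
theorem F155282 : act 1 n33424 = n33424 := d15_1 D33424 (iv D33424) F146649
theorem F155283 : act 3 n33424 = n31536 := d28_1 D33424 (iv D31536) (iv F146650)
theorem F155284 : act 6 n33424 = n31534 := d40_1 D33424 (iv D31534) D31533
theorem F155285 : act 7 n33424 = n31587 := d42_1 D33424 (iv D31587) (iv F146651)
def n33425 : Q := act 9 n31534
theorem D33425 : act 9 n31534 = n33425 := rfl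
theorem F155286 : act 0 n33425 = n32566 := d8_1 D33425 (iv D32566) (iv F146652)
theorem F155287 : act 1 n33425 = n33425 := d16_1 D33425 (iv D33425) F146653
theorem F155288 : act 3 n33425 = n31537 := d29_1 D33425 (iv D31537) (iv F146654)
theorem F155289 : act 4 n33425 = n33010 := d34_1 D33425 (iv F155279) F155277
theorem F155290 : act 5 n33425 = n33425 := d38_1 D33425 (iv D33425) F146655
theorem F155291 : act 7 n33425 = n31535 := d43_1 D33425 (iv D31535) (iv F146656)
theorem F155292 : act 8 n33425 = n33008 := d44_1 D33425 F155209 (iv D33408) F146587 D31534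
def n33426 : Q := act 5 n31536
theorem D33426 : act 5 n31536 = n33426 := rfl
theorem F155293 : act 0 n33426 = n32567 := d4_1 D33426 (iv D32567) (iv F146664)
theorem F155294 : act 1 n33426 = n33426 := d12_1 D33426 (iv D33426) F146665
theorem F155295 : act 6 n33426 = n33426 := d35_2 (iv F146667) D33426 (iv D33426) F146667 F137578
theorem F155296 : act 7 n33426 = n31589 := d36_2 (iv F146668) D33426 (iv D31589)
def n33427 : Q := act 9 n31536
theorem D33427 : act 9 n31536 = n33427 := rfl
theorem F155297 : act 0 n33427 = n32568 := d8_1 D33427 (iv D32568) (iv F146664)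
theorem F155298 : act 1 n33427 = n33427 := d16_1 D33427 (iv D33427) F146665
theorem F155299 : act 4 n33427 = n31895 := d34_1 D33427 (iv D31895) (iv F146666)
theorem F155300 : act 6 n33427 = n31537 := d41_1 D33427 (iv D31537) (iv F146667)
theorem F155301 : act 7 n33427 = n31590 := d43_1 D33427 (iv D31590) (iv F146668)
def n33428 : Q := act 5 n31539
theorem D33428 : act 5 n31539 = n33428 := rfl
theorem F155302 : act 0 n33428 = n32122 := d4_1 D33428 F149608 (iv F146682)
theorem F155303 : act 1 n33428 = n31540 := d12_1 D33428 (iv D31540) (iv F146683)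
theorem F155304 : act 2 n33428 = n33428 := d19_1 D33428 (iv D33428) F146684
theorem F155305 : act 4 n33428 = n32186 := d30_1 D33428 F149852 F140800 F137897 (iv F146685)
theorem F155306 : act 6 n33428 = n31701 := d35_2 D31539 D33428 F147550 F138445 (iv F137587)
theorem F155307 : act 9 n33428 = n31677 := d38_2 (iv F146687) D33428 F147444
theorem F155308 : act 8 n32203 = n33428 := d44_5 F155307 (iv D31677) F138275 D30221 D32203
def n33429 : Q := act 7 n31539
theorem D33429 : act 7 n31539 = n33429 := rfl
theorem F155309 : act 0 n33429 = n32131 := d6_1 D33429 F149647 (iv F146682)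
theorem F155310 : act 1 n33429 = n31541 := d14_1 D33429 (iv D31541) (iv F146683)
theorem F155311 : act 2 n33429 = n33429 := d21_1 D33429 (iv D33429) F146684
theorem F155312 : act 4 n33429 = n31604 := d32_1 D33429 (iv D31604) (iv F146685)
theorem F155313 : act 6 n33429 = n31898 := d39_1 D33429 (iv D31898) (iv D29855) (iv F137588) D31539
theorem F155314 : act 8 n33429 = n33429 := d42_2 F146686 D33429 (iv D33429)
theorem F155315 : act 9 n33429 = n32052 := d43_2 (iv F146687) D33429 F149275
def n33430 : Q := act 7 n31540
theorem D33430 : act 7 n31540 = n33430 := rfl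
theorem F155316 : act 0 n33430 = n32569 := d6_1 D33430 (iv D32569) (iv F146688)
theorem F155317 : act 2 n33430 = n31543 := d21_1 D33430 (iv D31543) (iv F146689)
theorem F155318 : act 5 n33430 = n31541 := d36_1 D33430 (iv D31541) D31540
theorem F155319 : act 8 n33430 = n32243 := d42_2 F146692 D33430 F150064
theorem F155320 : act 9 n33430 = n31762 := d43_2 (iv F146691) D33430 F147821
def n33431 : Q := act 7 n31542
theorem D33431 : act 7 n31542 = n33431 := rfl
theorem F155321 : act 0 n33431 = n32570 := d6_1 D33431 (iv D32570) (iv F146699)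
theorem F155322 : act 1 n33431 = n33431 := d14_1 D33431 (iv D33431) F146700
theorem F155323 : act 3 n33431 = n31555 := d27_1 D33431 (iv D31555) (iv F146701)
theorem F155324 : act 4 n33431 = n31543 := d32_1 D33431 (iv D31543) D31542
theorem F155325 : act 5 n33431 = n31605 := d36_1 D33431 (iv D31605) (iv F146702)
theorem F155326 : act 8 n33431 = n31950 := d42_2 (iv F146704) D33431 F148664
theorem F155327 : act 9 n33431 = n31863 := d43_2 (iv F146705) D33431 F148241
def n33432 : Q := act 6 n31543
theorem D33432 : act 6 n31543 = n33432 := rfl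
theorem F155328 : act 0 n33432 = n32571 := d5_1 D33432 (iv D32571) (iv F146706)
theorem F155329 : act 1 n33432 = n33432 := d13_1 D33432 (iv D33432) F146707
theorem F155330 : act 3 n33432 = n31544 := d26_1 D33432 (iv D31544) (iv F146708)
theorem F155331 : act 5 n33432 = n31903 := d35_1 D33432 (iv D31903) F139091 (iv F137606) (iv F146709)
theorem F155332 : act 7 n33432 = n31912 := d39_2 D31543 D33432 F148493 F139142 (iv F137599)
theorem F155333 : act 8 n33432 = n32300 := d40_2 (iv F146710) D33432 F150244
theorem F155334 : act 9 n33432 = n31867 := d41_2 (iv F146711) D33432 F148264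
def n33433 : Q := act 8 n31544
theorem D33433 : act 8 n31544 = n33433 := rfl
theorem F155335 : act 0 n33433 = n32572 := d7_1 D33433 (iv D32572) (iv F146712)
theorem F155336 : act 1 n33433 = n33433 := d15_1 D33433 (iv D33433) F146713
theorem F155337 : act 3 n33433 = n32300 := d28_1 D33433 (iv F155333) F155330
theorem F155338 : act 4 n33433 = n31558 := d33_1 D33433 (iv D31558) (iv F146714)
theorem F155339 : act 6 n33433 = n31545 := d40_1 D33433 (iv D31545) D31544
theorem F155340 : act 7 n33433 = n32314 := d42_1 D33433 F150288 (iv F146716)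
theorem F155341 : act 9 n33433 = n32298 := d44_2 (iv F146717) D33433 (iv D32298) (iv F148260) F148259
def n33434 : Q := act 7 n31547
theorem D33434 : act 7 n31547 = n33434 := rfl
theorem F155342 : act 0 n33434 = n32576 := d6_1 D33434 (iv D32576) (iv F146733)
theorem F155343 : act 2 n33434 = n31550 := d21_1 D33434 (iv D31550) (iv F146734)
theorem F155344 : act 5 n33434 = n31548 := d36_1 D33434 (iv D31548) D31547
theorem F155345 : act 9 n33434 = n31554 := d43_2 (iv F146736) D33434 (iv D31554)
def n33435 : Q := act 8 n31547
theorem D33435 : act 8 n31547 = n33435 := rfl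
theorem F155346 : act 0 n33435 = n32577 := d7_1 D33435 (iv D32577) (iv F146733)
theorem F155347 : act 2 n33435 = n31551 := d22_1 D33435 (iv D31551) (iv F146734)
theorem F155348 : act 4 n33435 = n31860 := d33_1 D33435 (iv F153575) F153572
theorem F155349 : act 5 n33435 = n33435 := d37_1 D33435 (iv D33435) (iv D31547) F137630 D31547
theorem F155350 : act 6 n33435 = n31899 := d40_1 D33435 (iv F148428) (iv F146735)
theorem F155351 : act 9 n33435 = n32102 := d44_2 (iv F146736) D33435 F149528 (iv F145963) F145962
def n33436 : Q := act 7 n31549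
theorem D33436 : act 7 n31549 = n33436 := rfl
theorem F155352 : act 0 n33436 = n32578 := d6_1 D33436 (iv D32578) (iv F146743)
theorem F155353 : act 1 n33436 = n33436 := d14_1 D33436 (iv D33436) F146744
theorem F155354 : act 3 n33436 = n31863 := d27_1 D33436 F148241 (iv F146745)
theorem F155355 : act 4 n33436 = n31550 := d32_1 D33436 (iv D31550) D31549
theorem F155356 : act 5 n33436 = n31608 := d36_1 D33436 (iv D31608) (iv F146746)
theorem F155357 : act 8 n33436 = n31861 := d42_2 F146749 D33436 (iv D31861)
theorem F155358 : act 9 n33436 = n31555 := d43_2 (iv F146748) D33436 (iv D31555)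
def n33437 : Q := act 6 n31550
theorem D33437 : act 6 n31550 = n33437 := rfl
theorem F155359 : act 0 n33437 = n32579 := d5_1 D33437 (iv D32579) (iv F146750)
theorem F155360 : act 1 n33437 = n33437 := d13_1 D33437 (iv D33437) F146751
theorem F155361 : act 3 n33437 = n31552 := d26_1 D33437 (iv D31552) (iv F146752)
theorem F155362 : act 5 n33437 = n31568 := d35_1 D33437 (iv D31568) F137722 (iv F137641) (iv F146753)
theorem F155363 : act 7 n33437 = n32925 := d39_2 D31550 D33437 (iv D32925) (iv D30954) (iv F137635)
theorem F155364 : act 9 n33437 = n31556 := d41_2 (iv F146754) D33437 (iv D31556)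
def n33438 : Q := act 8 n31550
theorem D33438 : act 8 n31550 = n33438 := rfl
theorem F155365 : act 0 n33438 = n32580 := d7_1 D33438 (iv D32580) (iv F146750)
theorem F155366 : act 1 n33438 = n33438 := d15_1 D33438 (iv D33438) F146751
theorem F155367 : act 3 n33438 = n31553 := d28_1 D33438 (iv D31553) (iv F146752)
theorem F155368 : act 4 n33438 = n31861 := d33_1 D33438 (iv F155357) F155355
theorem F155369 : act 5 n33438 = n33438 := d37_1 D33438 (iv D33438) F146753 F137642 (iv F146753)
theorem F155370 : act 7 n33438 = n31551 := d42_1 D33438 (iv D31551) D31550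
theorem F155371 : act 9 n33438 = n31946 := d44_2 (iv F146754) D33438 F148642 F146792 (iv D31557)
def n33439 : Q := act 8 n31552
theorem D33439 : act 8 n31552 = n33439 := rfl
theorem F155372 : act 0 n33439 = n32581 := d7_1 D33439 (iv D32581) (iv F146762)
theorem F155373 : act 1 n33439 = n33439 := d15_1 D33439 (iv D33439) F146763
theorem F155374 : act 4 n33439 = n31866 := d33_1 D33439 F148259 (iv F146764)
theorem F155375 : act 6 n33439 = n31553 := d40_1 D33439 (iv D31553) D31552
theorem F155376 : act 7 n33439 = n31910 := d42_1 D33439 F148482 (iv F146766)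
theorem F155377 : act 9 n32297 = n33439 := d43_0 F155376 F148483 (iv F150235)
def n33440 : Q := act 6 n31554
theorem D33440 : act 6 n31554 = n33440 := rfl
theorem F155378 : act 0 n33440 = n32585 := d5_1 D33440 (iv D32585) (iv F146774)
theorem F155379 : act 2 n33440 = n31556 := d20_1 D33440 (iv D31556) (iv F146775)
theorem F155380 : act 5 n33440 = n31581 := d35_1 D33440 (iv D31581) F137758 (iv F137666) (iv F146776)
def n33441 : Q := act 6 n31555
theorem D33441 : act 6 n31555 = n33441 := rfl
theorem F155381 : act 0 n33441 = n32587 := d5_1 D33441 (iv D32587) (iv F146777)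
theorem F155382 : act 1 n33441 = n33441 := d13_1 D33441 (iv D33441) F146778
theorem F155383 : act 4 n33441 = n31556 := d31_1 D33441 (iv D31556) (iv F146779)
theorem F155384 : act 8 n33441 = n31945 := d40_2 (iv F146781) D33441 F148636
def n33442 : Q := act 8 n31556
theorem D33442 : act 8 n31556 = n33442 := rfl
theorem F155385 : act 0 n33442 = n32588 := d7_1 D33442 (iv D32588) (iv F146782)
theorem F155386 : act 1 n33442 = n33442 := d15_1 D33442 (iv D33442) F146783
theorem F155387 : act 3 n33442 = n31558 := d28_1 D33442 (iv D31558) (iv F146784)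
theorem F155388 : act 4 n33442 = n31945 := d33_1 D33442 (iv F155384) F155383
theorem F155389 : act 6 n33442 = n31557 := d40_1 D33442 (iv D31557) D31556
theorem F155390 : act 9 n31944 = n33442 := d41_0 F155389 (iv F146792) (iv F148632)
def n33443 : Q := act 5 n31558
theorem D33443 : act 5 n31558 = n33443 := rfl
theorem F155391 : act 0 n33443 = n32589 := d4_1 D33443 (iv D32589) (iv F146793)
theorem F155392 : act 1 n33443 = n33443 := d12_1 D33443 (iv D33443) F146794
theorem F155393 : act 6 n33443 = n31592 := d35_2 (iv F146795) D33443 (iv D31592) F137808 (iv F137687)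
theorem F155394 : act 8 n33443 = n31589 := d37_2 D31558 D33443 (iv D31589) (iv D29590) (iv F137684)
def n33444 : Q := act 9 n31558
theorem D33444 : act 9 n31558 = n33444 := rfl
theorem F155395 : act 0 n33444 = n32590 := d8_1 D33444 (iv D32590) (iv F146793)
theorem F155396 : act 1 n33444 = n33444 := d16_1 D33444 (iv D33444) F146794
theorem F155397 : act 3 n33444 = n31944 := d29_1 D33444 F155390 F155387
theorem F155398 : act 4 n33444 = n32298 := d34_1 D33444 (iv F155341) F155338
theorem F155399 : act 6 n33444 = n31559 := d41_1 D33444 (iv D31559) (iv F146795)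
theorem F155400 : act 7 n33444 = n32312 := d43_1 D33444 (iv F155157) F155156
theorem F155401 : act 8 n33444 = n32297 := d44_1 D33444 F155377 (iv D33439) F146767 D31558
def n33445 : Q := act 5 n31560
theorem D33445 : act 5 n31560 = n33445 := rfl
theorem F155402 : act 0 n33445 = n31561 := d4_1 D33445 (iv D31561) (iv F146803)
theorem F155403 : act 1 n33445 = n32591 := d12_1 D33445 (iv D32591) (iv F146804)
theorem F155404 : act 2 n33445 = n33445 := d19_1 D33445 (iv D33445) F146805
theorem F155405 : act 9 n33445 = n31573 := d38_2 (iv F146808) D33445 (iv D31573)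
def n33446 : Q := act 7 n31560
theorem D33446 : act 7 n31560 = n33446 := rfl
theorem F155406 : act 0 n33446 = n31562 := d6_1 D33446 (iv D31562) (iv F146803)
theorem F155407 : act 1 n33446 = n32592 := d14_1 D33446 (iv D32592) (iv F146804)
theorem F155408 : act 2 n33446 = n33446 := d21_1 D33446 (iv D33446) F146805
theorem F155409 : act 4 n33446 = n31613 := d32_1 D33446 (iv D31613) (iv F146806)
theorem F155410 : act 6 n33446 = n32158 := d39_1 D33446 F149743 (iv F146729) F146730 D31560
theorem F155411 : act 8 n33446 = n33446 := d42_2 F146807 D33446 (iv D33446)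
theorem F155412 : act 9 n33446 = n31574 := d43_2 (iv F146808) D33446 (iv D31574)
def n33447 : Q := act 4 n31561
theorem D33447 : act 4 n31561 = n33447 := rfl
theorem F155413 : act 1 n33447 = n31563 := d11_1 D33447 (iv D31563) (iv F146809)
theorem F155414 : act 2 n33447 = n33447 := d18_1 D33447 (iv D33447) F146810
theorem F155415 : act 5 n33447 = n31614 := d30_2 D31561 D33447 (iv D31614) (iv D29626) (iv F137703)
theorem F155416 : act 9 n33447 = n31575 := d34_2 (iv F146811) D33447 (iv D31575)
def n33448 : Q := act 7 n31561
theorem D33448 : act 7 n31561 = n33448 := rfl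
theorem F155417 : act 1 n33448 = n31564 := d14_1 D33448 (iv D31564) (iv F146809)
theorem F155418 : act 2 n33448 = n33448 := d21_1 D33448 (iv D33448) F146810
theorem F155419 : act 5 n33448 = n31562 := d36_1 D33448 (iv D31562) D31561
theorem F155420 : act 9 n33448 = n31576 := d43_2 (iv F146811) D33448 (iv D31576)
def n33449 : Q := act 8 n31561
theorem D33449 : act 8 n31561 = n33449 := rfl
theorem F155421 : act 1 n33449 = n31565 := d15_1 D33449 (iv D31565) (iv F146809)
theorem F155422 : act 2 n33449 = n33449 := d22_1 D33449 (iv D33449) F146810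
theorem F155423 : act 5 n33449 = n33449 := d37_1 D33449 (iv D33449) (iv D31561) F137704 D31561
def n33450 : Q := act 3 n31563
theorem D33450 : act 3 n31563 = n33450 := rfl
theorem F155424 : act 0 n33450 = n32594 := d2_1 D33450 (iv D32594) (iv F146817)
theorem F155425 : act 2 n33450 = n31913 := d17_1 D33450 (iv D31913) F139146 (iv F137716) (iv F146818)
theorem F155426 : act 5 n33450 = n31617 := d25_2 (iv F146819) D33450 (iv D31617)
theorem F155427 : act 9 n33450 = n31578 := d29_2 (iv F146820) D33450 (iv D31578)
def n33451 : Q := act 7 n31563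
theorem D33451 : act 7 n31563 = n33451 := rfl
theorem F155428 : act 0 n33451 = n32595 := d6_1 D33451 (iv D32595) (iv F146817)
theorem F155429 : act 2 n33451 = n31566 := d21_1 D33451 (iv D31566) (iv F146818)
theorem F155430 : act 4 n33451 = n31564 := d32_1 D33451 (iv D31564) D31563
theorem F155431 : act 5 n33451 = n31618 := d36_1 D33451 (iv D31618) (iv F146819)
theorem F155432 : act 9 n33451 = n31579 := d43_2 (iv F146820) D33451 (iv D31579)
def n33452 : Q := act 8 n31563
theorem D33452 : act 8 n31563 = n33452 := rfl
theorem F155433 : act 0 n33452 = n32542 := d7_1 D33452 F151166 (iv F146817)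
theorem F155434 : act 2 n33452 = n31567 := d22_1 D33452 (iv D31567) (iv F146818)
theorem F155435 : act 4 n33452 = n31565 := d33_1 D33452 (iv D31565) D31563
theorem F155436 : act 5 n33452 = n32541 := d37_1 D33452 F151161 F147106 (iv D31619) (iv F146819)
theorem F155437 : act 6 n33452 = n32591 := d40_1 D33452 F155179 F155177
theorem F155438 : act 9 n32552 = n33452 := d41_0 F155437 F151392 (iv F151219)
def n33453 : Q := act 6 n31564
theorem D33453 : act 6 n31564 = n33453 := rfl
theorem F155439 : act 0 n33453 = n32596 := d5_1 D33453 (iv D32596) (iv F146821)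
theorem F155440 : act 2 n33453 = n31568 := d20_1 D33453 (iv D31568) (iv F146822)
theorem F155441 : act 9 n33453 = n31581 := d41_2 (iv F146824) D33453 (iv D31581)
def n33454 : Q := act 8 n31564
theorem D33454 : act 8 n31564 = n33454 := rfl
theorem F155442 : act 0 n33454 = n32597 := d7_1 D33454 (iv D32597) (iv F146821)
theorem F155443 : act 2 n33454 = n31569 := d22_1 D33454 (iv D31569) (iv F146822)
theorem F155444 : act 5 n33454 = n33454 := d37_1 D33454 (iv D33454) F146823 F137712 (iv F146823)
theorem F155445 : act 7 n33454 = n31565 := d42_1 D33454 (iv D31565) D31564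
def n33455 : Q := act 9 n31565
theorem D33455 : act 9 n31565 = n33455 := rfl
theorem F155446 : act 0 n33455 = n32554 := d8_1 D33455 F151228 (iv F146825)
theorem F155447 : act 2 n33455 = n31570 := d23_1 D33455 (iv D31570) (iv F146826)
theorem F155448 : act 4 n33455 = n32552 := d34_1 D33455 F155438 F155435
theorem F155449 : act 5 n33455 = n33455 := d38_1 D33455 (iv D33455) F146827
theorem F155450 : act 6 n33455 = n32604 := d41_1 D33455 F155189 F155188
theorem F155451 : act 8 n33455 = n31583 := d44_1 D33455 (iv D31583) (iv D29584) (iv F137708) D31565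
def n33456 : Q := act 6 n31566
theorem D33456 : act 6 n31566 = n33456 := rfl
theorem F155452 : act 0 n33456 = n32598 := d5_1 D33456 (iv D32598) (iv F146828)
theorem F155453 : act 1 n33456 = n33456 := d13_1 D33456 (iv D33456) F146829
theorem F155454 : act 3 n33456 = n31919 := d26_1 D33456 (iv D31919) (iv F146830)
theorem F155455 : act 4 n33456 = n31568 := d31_1 D33456 (iv D31568) (iv F146831)
theorem F155456 : act 9 n33456 = n31584 := d41_2 (iv F146833) D33456 (iv D31584)
def n33457 : Q := act 8 n31566
theorem D33457 : act 8 n31566 = n33457 := rfl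
theorem F155457 : act 0 n33457 = n32599 := d7_1 D33457 (iv D32599) (iv F146828)
theorem F155458 : act 1 n33457 = n33457 := d15_1 D33457 (iv D33457) F146829
theorem F155459 : act 3 n33457 = n31920 := d28_1 D33457 (iv D31920) (iv F146830)
theorem F155460 : act 4 n33457 = n31569 := d33_1 D33457 (iv D31569) (iv F146831)
theorem F155461 : act 5 n33457 = n32956 := d37_1 D33457 F152657 F147130 (iv D31623) (iv F146832)
theorem F155462 : act 7 n33457 = n31567 := d42_1 D33457 (iv D31567) D31566
theorem F155463 : act 9 n32983 = n33457 := d43_0 F155462 (iv F146840) D32983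
def n33458 : Q := act 8 n31568
theorem D33458 : act 8 n31568 = n33458 := rfl
theorem F155464 : act 0 n33458 = n32600 := d7_1 D33458 (iv D32600) (iv F146841)
theorem F155465 : act 1 n33458 = n33458 := d15_1 D33458 (iv D33458) F146842
theorem F155466 : act 3 n33458 = n31571 := d28_1 D33458 (iv D31571) (iv F146843)
theorem F155467 : act 6 n33458 = n31569 := d40_1 D33458 (iv D31569) D31568
def n33459 : Q := act 9 n31569
theorem D33459 : act 9 n31569 = n33459 := rfl
theorem F155468 : act 0 n33459 = n32601 := d8_1 D33459 (iv D32601) (iv F146845)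
theorem F155469 : act 1 n33459 = n33459 := d16_1 D33459 (iv D33459) F146846
theorem F155470 : act 3 n33459 = n31572 := d29_1 D33459 (iv D31572) (iv F146847)
theorem F155471 : act 4 n33459 = n32983 := d34_1 D33459 F155463 F155460
theorem F155472 : act 5 n33459 = n33459 := d38_1 D33459 (iv D33459) F146848
theorem F155473 : act 7 n33459 = n31570 := d43_1 D33459 (iv D31570) (iv F146849)
theorem F155474 : act 8 n33459 = n31588 := d44_1 D33459 (iv D31588) (iv D29588) (iv F137723) D31569
def n33460 : Q := act 5 n31571
theorem D33460 : act 5 n31571 = n33460 := rfl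
theorem F155475 : act 0 n33460 = n32602 := d4_1 D33460 (iv D32602) (iv F146857)
theorem F155476 : act 1 n33460 = n33460 := d12_1 D33460 (iv D33460) F146858
theorem F155477 : act 6 n33460 = n33460 := d35_2 (iv F146860) D33460 (iv D33460) F146860 F137735
def n33461 : Q := act 9 n31571
theorem D33461 : act 9 n31571 = n33461 := rfl
theorem F155478 : act 0 n33461 = n32603 := d8_1 D33461 (iv D32603) (iv F146857)
theorem F155479 : act 1 n33461 = n33461 := d16_1 D33461 (iv D33461) F146858
theorem F155480 : act 4 n33461 = n31925 := d34_1 D33461 (iv D31925) (iv F146859)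
theorem F155481 : act 6 n33461 = n31572 := d41_1 D33461 (iv D31572) (iv F146860)
theorem F155482 : act 8 n33461 = n31590 := d44_1 D33461 (iv D31590) (iv D29590) (iv F137731) D31571
def n33462 : Q := act 4 n31573
theorem D33462 : act 4 n31573 = n33462 := rfl
theorem F155483 : act 0 n33462 = n31575 := d3_1 D33462 (iv D31575) (iv F146867)
theorem F155484 : act 1 n33462 = n32604 := d11_1 D33462 (iv D32604) (iv F146868)
theorem F155485 : act 2 n33462 = n33462 := d18_1 D33462 (iv D33462) F146869
theorem F155486 : act 5 n33462 = n31626 := d30_2 D31573 D33462 (iv D31626) (iv D29636) (iv F137745)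
def n33463 : Q := act 7 n31573
theorem D33463 : act 7 n31573 = n33463 := rfl
theorem F155487 : act 0 n33463 = n31576 := d6_1 D33463 (iv D31576) (iv F146867)
theorem F155488 : act 1 n33463 = n32605 := d14_1 D33463 (iv D32605) (iv F146868)
theorem F155489 : act 2 n33463 = n33463 := d21_1 D33463 (iv D33463) F146869
theorem F155490 : act 5 n33463 = n31574 := d36_1 D33463 (iv D31574) D31573
def n33464 : Q := act 8 n31573
theorem D33464 : act 8 n31573 = n33464 := rfl
theorem F155491 : act 0 n33464 = n31577 := d7_1 D33464 (iv D31577) (iv F146867)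
theorem F155492 : act 1 n33464 = n32606 := d15_1 D33464 (iv D32606) (iv F146868)
theorem F155493 : act 2 n33464 = n33464 := d22_1 D33464 (iv D33464) F146869
theorem F155494 : act 5 n33464 = n31595 := d37_1 D33464 (iv D31595) (iv D29596) (iv F137746) D31573
def n33465 : Q := act 3 n31575
theorem D33465 : act 3 n31575 = n33465 := rfl
theorem F155495 : act 1 n33465 = n31578 := d10_1 D33465 (iv D31578) (iv F146876)
theorem F155496 : act 5 n33465 = n31628 := d25_2 (iv F146878) D33465 (iv D31628)
def n33466 : Q := act 7 n31575
theorem D33466 : act 7 n31575 = n33466 := rfl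
theorem F155497 : act 1 n33466 = n31579 := d14_1 D33466 (iv D31579) (iv F146876)
theorem F155498 : act 2 n33466 = n33466 := d21_1 D33466 (iv D33466) F146877
theorem F155499 : act 4 n33466 = n31576 := d32_1 D33466 (iv D31576) D31575
theorem F155500 : act 5 n33466 = n31629 := d36_1 D33466 (iv D31629) (iv F146878)
def n33467 : Q := act 8 n31575
theorem D33467 : act 8 n31575 = n33467 := rfl
theorem F155501 : act 1 n33467 = n31580 := d15_1 D33467 (iv D31580) (iv F146876)
theorem F155502 : act 2 n33467 = n33467 := d22_1 D33467 (iv D33467) F146877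
theorem F155503 : act 4 n33467 = n31577 := d33_1 D33467 (iv D31577) D31575
theorem F155504 : act 5 n33467 = n33467 := d37_1 D33467 (iv D33467) F146878 F138055 (iv F146878)
def n33468 : Q := act 6 n31576
theorem D33468 : act 6 n31576 = n33468 := rfl
theorem F155505 : act 1 n33468 = n31581 := d13_1 D33468 (iv D31581) (iv F146879)
theorem F155506 : act 2 n33468 = n33468 := d20_1 D33468 (iv D33468) F146880
def n33469 : Q := act 8 n31576
theorem D33469 : act 8 n31576 = n33469 := rfl
theorem F155507 : act 1 n33469 = n31582 := d15_1 D33469 (iv D31582) (iv F146879)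
theorem F155508 : act 2 n33469 = n33469 := d22_1 D33469 (iv D33469) F146880
theorem F155509 : act 5 n33469 = n31596 := d37_1 D33469 (iv D31596) F137831 (iv F137752) (iv F146881)
theorem F155510 : act 7 n33469 = n31577 := d42_1 D33469 (iv D31577) D31576
def n33470 : Q := act 9 n31577
theorem D33470 : act 9 n31577 = n33470 := rfl
theorem F155511 : act 1 n33470 = n31583 := d16_1 D33470 (iv D31583) (iv F146882)
theorem F155512 : act 2 n33470 = n33470 := d23_1 D33470 (iv D33470) F146883
theorem F155513 : act 5 n33470 = n31597 := d38_1 D33470 (iv D31597) (iv F146884)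
def n33471 : Q := act 7 n31578
theorem D33471 : act 7 n31578 = n33471 := rfl
theorem F155514 : act 0 n33471 = n32611 := d6_1 D33471 (iv D32611) (iv F146885)
theorem F155515 : act 2 n33471 = n31932 := d21_1 D33471 (iv D31932) (iv F146886)
theorem F155516 : act 3 n33471 = n31579 := d27_1 D33471 (iv D31579) D31578
theorem F155517 : act 5 n33471 = n31630 := d36_1 D33471 (iv D31630) (iv F146887)
def n33472 : Q := act 8 n31578
theorem D33472 : act 8 n31578 = n33472 := rfl
theorem F155518 : act 0 n33472 = n32612 := d7_1 D33472 (iv D32612) (iv F146885)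
theorem F155519 : act 2 n33472 = n31933 := d22_1 D33472 (iv D31933) (iv F146886)
theorem F155520 : act 3 n33472 = n31580 := d28_1 D33472 (iv D31580) D31578
theorem F155521 : act 5 n33472 = n33472 := d37_1 D33472 (iv D33472) F146887 F138063 (iv F146887)
def n33473 : Q := act 6 n31579
theorem D33473 : act 6 n31579 = n33473 := rfl
theorem F155522 : act 0 n33473 = n32613 := d5_1 D33473 (iv D32613) (iv F146888)
theorem F155523 : act 2 n33473 = n31584 := d20_1 D33473 (iv D31584) (iv F146889)
theorem F155524 : act 4 n33473 = n31581 := d31_1 D33473 (iv D31581) (iv F146890)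
def n33474 : Q := act 8 n31579
theorem D33474 : act 8 n31579 = n33474 := rfl
theorem F155525 : act 0 n33474 = n32614 := d7_1 D33474 (iv D32614) (iv F146888)
theorem F155526 : act 2 n33474 = n31585 := d22_1 D33474 (iv D31585) (iv F146889)
theorem F155527 : act 4 n33474 = n31582 := d33_1 D33474 (iv D31582) (iv F146890)
theorem F155528 : act 5 n33474 = n33474 := d37_1 D33474 (iv D33474) F146891 F138067 (iv F146891)
theorem F155529 : act 7 n33474 = n31580 := d42_1 D33474 (iv D31580) D31579
def n33475 : Q := act 9 n31580
theorem D33475 : act 9 n31580 = n33475 := rfl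
theorem F155530 : act 0 n33475 = n32556 := d8_1 D33475 F151238 (iv F146892)
theorem F155531 : act 2 n33475 = n31586 := d23_1 D33475 (iv D31586) (iv F146893)
theorem F155532 : act 4 n33475 = n31583 := d34_1 D33475 (iv D31583) (iv F146894)
theorem F155533 : act 5 n33475 = n33475 := d38_1 D33475 (iv D33475) F146895
theorem F155534 : act 6 n33475 = n32606 := d41_1 D33475 (iv F155254) F155253
theorem F155535 : act 8 n33475 = n32552 := d44_1 D33475 F155438 (iv D33452) F146820 D31580
def n33476 : Q := act 8 n31581
theorem D33476 : act 8 n31581 = n33476 := rfl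
theorem F155536 : act 0 n33476 = n32615 := d7_1 D33476 (iv D32615) (iv F146896)
theorem F155537 : act 2 n33476 = n31587 := d22_1 D33476 (iv D31587) (iv F146897)
theorem F155538 : act 6 n33476 = n31582 := d40_1 D33476 (iv D31582) D31581
def n33477 : Q := act 9 n31582
theorem D33477 : act 9 n31582 = n33477 := rfl
theorem F155539 : act 0 n33477 = n32616 := d8_1 D33477 (iv D32616) (iv F146898)
theorem F155540 : act 2 n33477 = n31588 := d23_1 D33477 (iv D31588) (iv F146899)
theorem F155541 : act 5 n33477 = n31599 := d38_1 D33477 (iv D31599) (iv F146900)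
theorem F155542 : act 7 n33477 = n31583 := d43_1 D33477 (iv D31583) (iv F146901)
def n33478 : Q := act 5 n31584
theorem D33478 : act 5 n31584 = n33478 := rfl
theorem F155543 : act 0 n33478 = n32617 := d4_1 D33478 (iv D32617) (iv F146905)
theorem F155544 : act 1 n33478 = n33478 := d12_1 D33478 (iv D33478) F146906
theorem F155545 : act 3 n33478 = n31939 := d25_1 D33478 (iv D31939) (iv F146907)
theorem F155546 : act 6 n33478 = n31632 := d35_2 D31584 D33478 (iv D31632) (iv D29643) (iv F137766)
def n33479 : Q := act 8 n31584
theorem D33479 : act 8 n31584 = n33479 := rfl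
theorem F155547 : act 0 n33479 = n32618 := d7_1 D33479 (iv D32618) (iv F146905)
theorem F155548 : act 1 n33479 = n33479 := d15_1 D33479 (iv D33479) F146906
theorem F155549 : act 3 n33479 = n31940 := d28_1 D33479 (iv D31940) (iv F146907)
theorem F155550 : act 4 n33479 = n31587 := d33_1 D33479 (iv D31587) (iv F146908)
theorem F155551 : act 6 n33479 = n31585 := d40_1 D33479 (iv D31585) D31584
def n33480 : Q := act 9 n31585
theorem D33480 : act 9 n31585 = n33480 := rfl
theorem F155552 : act 0 n33480 = n32619 := d8_1 D33480 (iv D32619) (iv F146909)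
theorem F155553 : act 1 n33480 = n33480 := d16_1 D33480 (iv D33480) F146910
theorem F155554 : act 3 n33480 = n31941 := d29_1 D33480 (iv D31941) (iv F146911)
theorem F155555 : act 4 n33480 = n31588 := d34_1 D33480 (iv D31588) (iv F146912)
theorem F155556 : act 5 n33480 = n33480 := d38_1 D33480 (iv D33480) F146913
theorem F155557 : act 7 n33480 = n31586 := d43_1 D33480 (iv D31586) (iv F146914)
theorem F155558 : act 8 n33480 = n32983 := d44_1 D33480 F155463 (iv D33457) F146833 D31585
def n33481 : Q := act 5 n31587
theorem D33481 : act 5 n31587 = n33481 := rfl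
theorem F155559 : act 0 n33481 = n32620 := d4_1 D33481 (iv D32620) (iv F146922)
theorem F155560 : act 1 n33481 = n33481 := d12_1 D33481 (iv D33481) F146923
theorem F155561 : act 3 n33481 = n31589 := d25_1 D33481 (iv D31589) (iv F146924)
theorem F155562 : act 6 n33481 = n31600 := d35_2 (iv F146925) D33481 (iv D31600) F137855 (iv F137778)
def n33482 : Q := act 9 n31587
theorem D33482 : act 9 n31587 = n33482 := rfl
theorem F155563 : act 0 n33482 = n32621 := d8_1 D33482 (iv D32621) (iv F146922)
theorem F155564 : act 1 n33482 = n33482 := d16_1 D33482 (iv D33482) F146923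
theorem F155565 : act 3 n33482 = n31590 := d29_1 D33482 (iv D31590) (iv F146924)
theorem F155566 : act 6 n33482 = n31588 := d41_1 D33482 (iv D31588) (iv F146925)
def n33483 : Q := act 4 n31589
theorem D33483 : act 4 n31589 = n33483 := rfl
theorem F155567 : act 0 n33483 = n32622 := d3_1 D33483 (iv D32622) (iv F146931)
theorem F155568 : act 1 n33483 = n33483 := d11_1 D33483 (iv D33483) F146932
theorem F155569 : act 5 n33483 = n31944 := d30_2 D31589 D33483 (iv D31944) (iv D29894) (iv F137786)
theorem F155570 : act 6 n33483 = n31602 := d31_2 (iv F146933) D33483 (iv D31602)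
def n33484 : Q := act 9 n31589
theorem D33484 : act 9 n31589 = n33484 := rfl
theorem F155571 : act 0 n33484 = n32623 := d8_1 D33484 (iv D32623) (iv F146931)
theorem F155572 : act 1 n33484 = n33484 := d16_1 D33484 (iv D33484) F146932
theorem F155573 : act 5 n33484 = n31590 := d38_1 D33484 (iv D31590) D31589
theorem F155574 : act 6 n33484 = n31603 := d41_1 D33484 (iv D31603) (iv F146933)
def n33485 : Q := act 5 n31591
theorem D33485 : act 5 n31591 = n33485 := rfl
theorem F155575 : act 0 n33485 = n32624 := d4_1 D33485 (iv D32624) (iv F146938)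
theorem F155576 : act 1 n33485 = n33485 := d12_1 D33485 (iv D33485) F146939
theorem F155577 : act 3 n33485 = n31592 := d25_1 D33485 (iv D31592) (iv F146940)
theorem F155578 : act 4 n33485 = n31603 := d30_1 D33485 F147004 F137868 (iv F137880) (iv F146941)
theorem F155579 : act 7 n33485 = n33485 := d36_2 F146943 D33485 (iv D33485)
theorem F155580 : act 8 n33485 = n31600 := d37_2 D31591 D33485 (iv D31600) (iv D29603) (iv F137796)
theorem F155581 : act 9 n33485 = n31602 := d38_2 F146944 D33485 F147000
def n33486 : Q := act 4 n31592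
theorem D33486 : act 4 n31592 = n33486 := rfl
theorem F155582 : act 0 n33486 = n32625 := d3_1 D33486 (iv D32625) (iv F146945)
theorem F155583 : act 1 n33486 = n33486 := d11_1 D33486 (iv D33486) F146946
theorem F155584 : act 5 n33486 = n33486 := d30_2 D31592 D33486 (iv D33486) (iv D31592) F137807
theorem F155585 : act 7 n33486 = n33486 := d32_2 F146947 D33486 (iv D33486)
theorem F155586 : act 8 n33486 = n31602 := d33_2 (iv F146948) D33486 (iv D31602)
def n33487 : Q := act 9 n31592
theorem D33487 : act 9 n31592 = n33487 := rfl
theorem F155587 : act 0 n33487 = n32626 := d8_1 D33487 (iv D32626) (iv F146945)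
theorem F155588 : act 1 n33487 = n33487 := d16_1 D33487 (iv D33487) F146946
theorem F155589 : act 3 n33487 = n31602 := d29_1 D33487 (iv F155581) F155577
theorem F155590 : act 5 n33487 = n31593 := d38_1 D33487 (iv D31593) D31592
theorem F155591 : act 7 n33487 = n33487 := d43_1 D33487 (iv D33487) F146947
def n33488 : Q := act 8 n31594
theorem D33488 : act 8 n31594 = n33488 := rfl
theorem F155592 : act 0 n33488 = n31596 := d7_1 D33488 (iv D31596) (iv F146956)
theorem F155593 : act 1 n33488 = n32627 := d15_1 D33488 (iv D32627) (iv F146957)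
theorem F155594 : act 2 n33488 = n33488 := d22_1 D33488 (iv D33488) F146958
theorem F155595 : act 4 n33488 = n33488 := d33_1 D33488 (iv D33488) F146959
theorem F155596 : act 6 n33488 = n32525 := d40_1 D33488 (iv D32525) F146962
theorem F155597 : act 7 n33488 = n31595 := d42_1 D33488 (iv D31595) D31594
def n33489 : Q := act 9 n31595
theorem D33489 : act 9 n31595 = n33489 := rfl
theorem F155598 : act 0 n33489 = n31597 := d8_1 D33489 (iv D31597) (iv F146963)
theorem F155599 : act 1 n33489 = n32628 := d16_1 D33489 (iv D32628) (iv F146964)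
theorem F155600 : act 2 n33489 = n33489 := d23_1 D33489 (iv D33489) F146965
theorem F155601 : act 4 n33489 = n33489 := d34_1 D33489 (iv D33489) F146966
theorem F155602 : act 6 n33489 = n33489 := d41_1 D33489 (iv D33489) F146967
theorem F155603 : act 8 n33489 = n33489 := d44_1 D33489 (iv D33489) (iv D31595) F137821 D31595
def n33490 : Q := act 9 n31596
theorem D33490 : act 9 n31596 = n33490 := rfl
theorem F155604 : act 1 n33490 = n31599 := d16_1 D33490 (iv D31599) (iv F146968)
theorem F155605 : act 2 n33490 = n33490 := d23_1 D33490 (iv D33490) F146969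
theorem F155606 : act 4 n33490 = n33490 := d34_1 D33490 (iv D33490) F146970
theorem F155607 : act 7 n33490 = n31597 := d43_1 D33490 (iv D31597) (iv F146971)
theorem F155608 : act 8 n33490 = n33490 := d44_1 D33490 (iv D33490) (iv D31596) F137832 D31596
def n33491 : Q := act 5 n31598
theorem D33491 : act 5 n31598 = n33491 := rfl
theorem F155609 : act 0 n33491 = n32631 := d4_1 D33491 (iv D32631) (iv F146977)
theorem F155610 : act 2 n33491 = n31600 := d19_1 D33491 (iv D31600) (iv F146978)
theorem F155611 : act 7 n33491 = n33491 := d36_2 F146981 D33491 (iv D33491)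
def n33492 : Q := act 9 n31598
theorem D33492 : act 9 n31598 = n33492 := rfl
theorem F155612 : act 0 n33492 = n32632 := d8_1 D33492 (iv D32632) (iv F146977)
theorem F155613 : act 2 n33492 = n31601 := d23_1 D33492 (iv D31601) (iv F146978)
theorem F155614 : act 4 n33492 = n33492 := d34_1 D33492 (iv D33492) F146979
theorem F155615 : act 6 n33492 = n31599 := d41_1 D33492 (iv D31599) (iv F146980)
theorem F155616 : act 7 n33492 = n33492 := d43_1 D33492 (iv D33492) F146981
theorem F155617 : act 8 n33492 = n33492 := d44_1 D33492 (iv D33492) (iv D31598) F137841 D31598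
def n33493 : Q := act 4 n31600
theorem D33493 : act 4 n31600 = n33493 := rfl
theorem F155618 : act 0 n33493 = n32633 := d3_1 D33493 (iv D32633) (iv F146987)
theorem F155619 : act 1 n33493 = n33493 := d11_1 D33493 (iv D33493) F146988
theorem F155620 : act 5 n33493 = n33493 := d30_2 D31600 D33493 (iv D33493) (iv D31600) F137854
theorem F155621 : act 7 n33493 = n33493 := d32_2 F146990 D33493 (iv D33493)
theorem F155622 : act 8 n33493 = n31603 := d33_2 F155580 D33493 (iv F155578)
def n33494 : Q := act 9 n31600
theorem D33494 : act 9 n31600 = n33494 := rfl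
theorem F155623 : act 0 n33494 = n32634 := d8_1 D33494 (iv D32634) (iv F146987)
theorem F155624 : act 1 n33494 = n33494 := d16_1 D33494 (iv D33494) F146988
theorem F155625 : act 3 n33494 = n31603 := d29_1 D33494 (iv D31603) (iv F146989)
theorem F155626 : act 5 n33494 = n31601 := d38_1 D33494 (iv D31601) D31600
theorem F155627 : act 7 n33494 = n33494 := d43_1 D33494 (iv D33494) F146990
def n33495 : Q := act 6 n31605
theorem D33495 : act 6 n31605 = n33495 := rfl
theorem F155628 : act 0 n33495 = n32635 := d5_1 D33495 (iv D32635) (iv F147014)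
theorem F155629 : act 1 n33495 = n33495 := d13_1 D33495 (iv D33495) F147015
theorem F155630 : act 3 n33495 = n31611 := d26_1 D33495 (iv D31611) (iv F147016)
theorem F155631 : act 4 n33495 = n31606 := d31_1 D33495 (iv D31606) (iv F147017)
theorem F155632 : act 7 n33495 = n33495 := d39_2 D31605 D33495 (iv D33495) (iv D31605) F137907
theorem F155633 : act 8 n33495 = n32030 := d40_2 (iv F147018) D33495 F149139
theorem F155634 : act 9 n33495 = n32173 := d41_2 (iv F147019) D33495 (iv D32173)
def n33496 : Q := act 5 n31611
theorem D33496 : act 5 n31611 = n33496 := rfl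
theorem F155635 : act 0 n33496 = n32640 := d4_1 D33496 (iv D32640) (iv F147056)
theorem F155636 : act 1 n33496 = n33496 := d12_1 D33496 (iv D33496) F147057
theorem F155637 : act 4 n33496 = n31632 := d30_1 D33496 (iv D31632) F138075 (iv F137973) (iv F147058)
theorem F155638 : act 7 n33496 = n33496 := d36_2 F147059 D33496 (iv D33496)
theorem F155639 : act 8 n33496 = n32026 := d37_2 (iv F147060) D33496 F149113 F139878 (iv F139918)
theorem F155640 : act 9 n33496 = n32323 := d38_2 (iv F147061) D33496 F150318
def n33497 : Q := act 4 n31612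
theorem D33497 : act 4 n31612 = n33497 := rfl
theorem F155641 : act 0 n33497 = n31614 := d3_1 D33497 (iv D31614) (iv F147062)
theorem F155642 : act 1 n33497 = n32641 := d11_1 D33497 (iv D32641) (iv F147063)
theorem F155643 : act 2 n33497 = n33497 := d18_1 D33497 (iv D33497) F147064
theorem F155644 : act 6 n33497 = n33497 := d31_2 F147066 D33497 (iv D33497)
theorem F155645 : act 9 n33497 = n31626 := d34_2 (iv F147067) D33497 (iv D31626)
theorem F155646 : act 8 n32927 = n33497 := d15_0 F155642 (iv F151581) (iv F152504)
def n33498 : Q := act 7 n31612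
theorem D33498 : act 7 n31612 = n33498 := rfl
theorem F155647 : act 0 n33498 = n31615 := d6_1 D33498 (iv D31615) (iv F147062)
theorem F155648 : act 1 n33498 = n32642 := d14_1 D33498 (iv D32642) (iv F147063)
theorem F155649 : act 2 n33498 = n33498 := d21_1 D33498 (iv D33498) F147064
theorem F155650 : act 3 n33498 = n32162 := d27_1 D33498 F149758 (iv F147065)
theorem F155651 : act 5 n33498 = n31613 := d36_1 D33498 (iv D31613) D31612
theorem F155652 : act 9 n33498 = n31627 := d43_2 (iv F147067) D33498 (iv D31627)
theorem F155653 : act 6 n32286 = n33498 := d41_3 F155652 (iv F147158) D32286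
def n33499 : Q := act 8 n31612
theorem D33499 : act 8 n31612 = n33499 := rfl
theorem F155654 : act 0 n33499 = n31616 := d7_1 D33499 (iv D31616) (iv F147062)
theorem F155655 : act 1 n33499 = n32643 := d15_1 D33499 (iv D32643) (iv F147063)
theorem F155656 : act 2 n33499 = n33499 := d22_1 D33499 (iv D33499) F147064
theorem F155657 : act 3 n33499 = n32864 := d28_1 D33499 (iv D32864) (iv F147065)
theorem F155658 : act 4 n33499 = n32927 := d33_1 D33499 F155646 (iv D33497)
theorem F155659 : act 5 n33499 = n33499 := d37_1 D33499 (iv D33499) (iv D31612) F137984 D31612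
theorem F155660 : act 6 n33499 = n33499 := d40_1 D33499 (iv D33499) F147066
theorem F155661 : act 9 n33499 = n33499 := d44_2 (iv F147067) D33499 (iv D33499) F147067 F138045
def n33500 : Q := act 3 n31614
theorem D33500 : act 3 n31614 = n33500 := rfl
theorem F155662 : act 1 n33500 = n31617 := d10_1 D33500 (iv D31617) (iv F147075)
theorem F155663 : act 4 n33500 = n32416 := d24_2 D31614 D33500 F150740 (iv D30873) (iv F137988)
theorem F155664 : act 6 n33500 = n33500 := d26_2 F147077 D33500 (iv D33500)
theorem F155665 : act 9 n33500 = n31628 := d29_2 (iv F147078) D33500 (iv D31628)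
theorem F155666 : act 2 n32508 = n33500 := d18_3 F155663 F150739 (iv F151029)
theorem F155667 : act 8 n32414 = n33500 := d33_0 F155663 (iv D32416) D32414
def n33501 : Q := act 7 n31614
theorem D33501 : act 7 n31614 = n33501 := rfl
theorem F155668 : act 1 n33501 = n31618 := d14_1 D33501 (iv D31618) (iv F147075)
theorem F155669 : act 2 n33501 = n33501 := d21_1 D33501 (iv D33501) F147076
theorem F155670 : act 4 n33501 = n31615 := d32_1 D33501 (iv D31615) D31614
theorem F155671 : act 9 n33501 = n31629 := d43_2 (iv F147078) D33501 (iv D31629)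
def n33502 : Q := act 8 n31614
theorem D33502 : act 8 n31614 = n33502 := rfl
theorem F155672 : act 0 n33502 = n32927 := d7_1 D33502 F155646 F155641
theorem F155673 : act 1 n33502 = n31619 := d15_1 D33502 (iv D31619) (iv F147075)
theorem F155674 : act 2 n33502 = n33502 := d22_1 D33502 (iv D33502) F147076
theorem F155675 : act 3 n33502 = n32414 := d28_1 D33502 F155667 (iv D33500)
theorem F155676 : act 4 n33502 = n31616 := d33_1 D33502 (iv D31616) D31614
theorem F155677 : act 6 n33502 = n33502 := d40_1 D33502 (iv D33502) F147077
theorem F155678 : act 9 n33502 = n33502 := d44_2 (iv F147078) D33502 (iv D33502) F147078 F138055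
theorem F155679 : act 5 n33502 = n32926 := d45_3 (iv F143200) (iv F147086) (iv F155676) (iv D32926) F143497 (iv F143475) F143473 (iv F149344) F149345 F140151 (iv F138473) (iv F147700) (iv D31736) F138467 F107919 F85954 F68039 F53741 (iv D11608) (iv F53266) F53264 (iv F67387) (iv F84053) (iv F134423) (iv D14828) F53554 (iv F53538) (iv D11567) (iv D9065) (iv D7161) (iv D5686) F22172 (iv F22322) (iv D4579) F20215 (iv F18315) (iv F23580) F23581 (iv F28988) F28989 D6317 (iv F35991) (iv F44505) (iv F53621) D14843 D18929 D23947 F107625 F85785 F85786 (iv F92822) (iv F134873) (iv F141363) F141364 (iv F150301) F150297 F141181 F114063 (iv F114072) (iv F140721) F140722 F143881 F143875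
def n33503 : Q := act 8 n31615
theorem D33503 : act 8 n31615 = n33503 := rfl
theorem F155680 : act 1 n33503 = n31621 := d15_1 D33503 (iv D31621) (iv F147079)
theorem F155681 : act 2 n33503 = n33503 := d22_1 D33503 (iv D33503) F147080
theorem F155682 : act 3 n33503 = n32866 := d28_1 D33503 (iv D32866) (iv F147081)
theorem F155683 : act 5 n33503 = n33503 := d37_1 D33503 (iv D33503) F147082 F137994 (iv F147082)
theorem F155684 : act 7 n33503 = n31616 := d42_1 D33503 (iv D31616) D31615
theorem F155685 : act 9 n33503 = n33503 := d44_2 (iv F147083) D33503 (iv D33503) F147083 F138059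
def n33504 : Q := act 7 n31617
theorem D33504 : act 7 n31617 = n33504 := rfl
theorem F155686 : act 0 n33504 = n32647 := d6_1 D33504 (iv D32647) (iv F147090)
theorem F155687 : act 2 n33504 = n31966 := d21_1 D33504 (iv D31966) (iv F147091)
theorem F155688 : act 3 n33504 = n31618 := d27_1 D33504 (iv D31618) D31617
theorem F155689 : act 4 n33504 = n32419 := d32_1 D33504 F150751 (iv F147092)
theorem F155690 : act 8 n33504 = n32417 := d42_2 F147095 D33504 (iv D32417)
theorem F155691 : act 9 n33504 = n31630 := d43_2 (iv F147094) D33504 (iv D31630)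
def n33505 : Q := act 6 n31618
theorem D33505 : act 6 n31618 = n33505 := rfl
theorem F155692 : act 0 n33505 = n32648 := d5_1 D33505 (iv D32648) (iv F147096)
theorem F155693 : act 2 n33505 = n31622 := d20_1 D33505 (iv D31622) (iv F147097)
theorem F155694 : act 4 n33505 = n31620 := d31_1 D33505 (iv D31620) (iv F147098)
theorem F155695 : act 7 n33505 = n33505 := d39_2 D31618 D33505 (iv D33505) (iv D31618) F137998
theorem F155696 : act 9 n33505 = n31631 := d41_2 (iv F147099) D33505 (iv D31631)
def n33506 : Q := act 8 n31618
theorem D33506 : act 8 n31618 = n33506 := rfl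
theorem F155697 : act 0 n33506 = n32649 := d7_1 D33506 (iv D32649) (iv F147096)
theorem F155698 : act 2 n33506 = n31623 := d22_1 D33506 (iv D31623) (iv F147097)
theorem F155699 : act 3 n33506 = n32417 := d28_1 D33506 (iv F155690) F155688
theorem F155700 : act 4 n33506 = n31621 := d33_1 D33506 (iv D31621) (iv F147098)
theorem F155701 : act 7 n33506 = n31619 := d42_1 D33506 (iv D31619) D31618
theorem F155702 : act 9 n33506 = n33506 := d44_2 (iv F147099) D33506 (iv D33506) F147099 F138067
theorem F155703 : act 5 n32943 = n33506 := d36_3 F155701 (iv F147106) D32943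
def n33507 : Q := act 8 n31620
theorem D33507 : act 8 n31620 = n33507 := rfl
theorem F155704 : act 0 n33507 = n32650 := d7_1 D33507 (iv D32650) (iv F147107)
theorem F155705 : act 2 n33507 = n31624 := d22_1 D33507 (iv D31624) (iv F147108)
theorem F155706 : act 3 n33507 = n32868 := d28_1 D33507 (iv D32868) (iv F147109)
theorem F155707 : act 5 n33507 = n32348 := d37_1 D33507 (iv D32348) (iv F145595) (iv F153584) F153581
theorem F155708 : act 6 n33507 = n31621 := d40_1 D33507 (iv D31621) D31620
theorem F155709 : act 7 n33507 = n33507 := d42_1 D33507 (iv D33507) F147110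
theorem F155710 : act 9 n33507 = n33507 := d44_2 (iv F147111) D33507 (iv D33507) F147111 F138071
def n33508 : Q := act 5 n31622
theorem D33508 : act 5 n31622 = n33508 := rfl
theorem F155711 : act 0 n33508 = n32651 := d4_1 D33508 (iv D32651) (iv F147118)
theorem F155712 : act 1 n33508 = n33508 := d12_1 D33508 (iv D33508) F147119
theorem F155713 : act 3 n33508 = n31968 := d25_1 D33508 (iv D31968) (iv F147120)
theorem F155714 : act 4 n33508 = n32323 := d30_1 D33508 F150318 (iv F147042) F147043 (iv F147121)
theorem F155715 : act 7 n33508 = n33508 := d36_2 F147122 D33508 (iv D33508)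
theorem F155716 : act 9 n33508 = n31632 := d38_2 (iv F147123) D33508 (iv D31632)
theorem F155717 : act 8 n32322 = n33508 := d33_0 F155714 (iv D32323) (iv F150314)
def n33509 : Q := act 8 n31622
theorem D33509 : act 8 n31622 = n33509 := rfl
theorem F155718 : act 0 n33509 = n32652 := d7_1 D33509 (iv D32652) (iv F147118)
theorem F155719 : act 1 n33509 = n33509 := d15_1 D33509 (iv D33509) F147119
theorem F155720 : act 3 n33509 = n31969 := d28_1 D33509 (iv D31969) (iv F147120)
theorem F155721 : act 4 n33509 = n31624 := d33_1 D33509 (iv D31624) (iv F147121)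
theorem F155722 : act 5 n33509 = n32326 := d37_1 D33509 (iv D32326) (iv F150315) F155717 (iv D33508)
theorem F155723 : act 6 n33509 = n31623 := d40_1 D33509 (iv D31623) D31622
theorem F155724 : act 7 n33509 = n33509 := d42_1 D33509 (iv D33509) F147122
theorem F155725 : act 9 n33509 = n33509 := d44_2 (iv F147123) D33509 (iv D33509) F147123 F138077
def n33510 : Q := act 3 n31626
theorem D33510 : act 3 n31626 = n33510 := rfl
theorem F155726 : act 0 n33510 = n31628 := d2_1 D33510 (iv D31628) (iv F147147)
theorem F155727 : act 1 n33510 = n32653 := d10_1 D33510 (iv D32653) (iv F147148)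
theorem F155728 : act 6 n33510 = n33510 := d26_2 F147150 D33510 (iv D33510)
theorem F155729 : act 8 n33510 = n33510 := d28_2 F147151 D33510 (iv D33510)
def n33511 : Q := act 7 n31626
theorem D33511 : act 7 n31626 = n33511 := rfl
theorem F155730 : act 0 n33511 = n31629 := d6_1 D33511 (iv D31629) (iv F147147)
theorem F155731 : act 1 n33511 = n32654 := d14_1 D33511 (iv D32654) (iv F147148)
theorem F155732 : act 2 n33511 = n33511 := d21_1 D33511 (iv D33511) F147149
theorem F155733 : act 4 n33511 = n31627 := d32_1 D33511 (iv D31627) D31626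
theorem F155734 : act 8 n33511 = n33511 := d42_2 F147151 D33511 (iv D33511)
theorem F155735 : act 6 n32285 = n33511 := d31_0 F155733 (iv F147158) D32285
def n33512 : Q := act 2 n31628
theorem D33512 : act 2 n31628 = n33512 := rfl
theorem F155736 : act 1 n33512 = n31970 := d9_1 D33512 (iv D31970) F139418 (iv F138061) (iv F147159)
theorem F155737 : act 3 n33512 = n33512 := d17_2 D31628 D33512 (iv D33512) (iv D31628) F138053
theorem F155738 : act 4 n33512 = n32511 := d18_2 F153294 D33512 (iv F153293)
theorem F155739 : act 6 n33512 = n33512 := d20_2 F147160 D33512 (iv D33512)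
theorem F155740 : act 8 n33512 = n33512 := d22_2 F147161 D33512 (iv D33512)
theorem F155741 : act 9 n33512 = n32508 := d23_2 F155665 D33512 F155666
def n33513 : Q := act 7 n31628
theorem D33513 : act 7 n31628 = n33513 := rfl
theorem F155742 : act 1 n33513 = n31630 := d14_1 D33513 (iv D31630) (iv F147159)
theorem F155743 : act 3 n33513 = n31629 := d27_1 D33513 (iv D31629) D31628
theorem F155744 : act 8 n33513 = n33513 := d42_2 F147161 D33513 (iv D33513)
def n33514 : Q := act 6 n31630
theorem D33514 : act 6 n31630 = n33514 := rfl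
theorem F155745 : act 0 n33514 = n32657 := d5_1 D33514 (iv D32657) (iv F147166)
theorem F155746 : act 2 n33514 = n31973 := d20_1 D33514 (iv D31973) (iv F147167)
theorem F155747 : act 3 n33514 = n31631 := d26_1 D33514 (iv D31631) (iv F147168)
theorem F155748 : act 7 n33514 = n33514 := d39_2 D31630 D33514 (iv D33514) (iv D31630) F138062
theorem F155749 : act 8 n33514 = n33514 := d40_2 F147169 D33514 (iv D33514)
def n33515 : Q := act 5 n31631
theorem D33515 : act 5 n31631 = n33515 := rfl
theorem F155750 : act 0 n33515 = n32658 := d4_1 D33515 (iv D32658) (iv F147170)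
theorem F155751 : act 2 n33515 = n31632 := d19_1 D33515 (iv D31632) (iv F147171)
theorem F155752 : act 7 n33515 = n33515 := d36_2 F147173 D33515 (iv D33515)
def n33516 : Q := act 8 n31632
theorem D33516 : act 8 n31632 = n33516 := rfl
theorem F155753 : act 0 n33516 = n32659 := d7_1 D33516 (iv D32659) (iv F147175)
theorem F155754 : act 1 n33516 = n33516 := d15_1 D33516 (iv D33516) F147176
theorem F155755 : act 3 n33516 = n31975 := d28_1 D33516 (iv D31975) (iv F147177)
theorem F155756 : act 4 n33516 = n32026 := d33_1 D33516 (iv F155639) F155637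
theorem F155757 : act 5 n33516 = n33516 := d37_1 D33516 (iv D33516) (iv D31632) F138077 D31632
theorem F155758 : act 7 n33516 = n33516 := d42_1 D33516 (iv D33516) F147178
theorem F155759 : act 9 n33516 = n32025 := d44_2 F155716 D33516 F149110 D32322 F155717
def n33517 : Q := act 0 n31633
theorem D33517 : act 0 n31633 = n33517 := rfl
theorem F155760 : act 1 n33517 = n31678 := d0_2 D31633 D33517 (iv D31678) (iv D29679) (iv F138078)
theorem F155761 : act 2 n33517 = n32036 := d1_2 (iv F147179) D33517 F149175
theorem F155762 : act 3 n33517 = n33517 := d2_2 F147180 D33517 (iv D33517)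
theorem F155763 : act 4 n33517 = n32372 := d3_2 (iv F147181) D33517 (iv D32372)
theorem F155764 : act 5 n33517 = n31651 := d4_2 (iv F147182) D33517 (iv D31651)
theorem F155765 : act 7 n33517 = n32065 := d6_2 (iv F147183) D33517 F149335
theorem F155766 : act 8 n33517 = n32031 := d7_2 (iv F147184) D33517 (iv D32031)
theorem F155767 : act 9 n33517 = n32103 := d8_2 (iv F147185) D33517 F149529
theorem F155768 : act 6 n32126 = n33517 := d40_3 F155766 (iv F149148) D32126
def n33518 : Q := act 6 n31633
theorem D33518 : act 6 n31633 = n33518 := rfl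
theorem F155769 : act 0 n33518 = n32126 := d5_1 D33518 F155768 (iv D33517)
theorem F155770 : act 1 n33518 = n31634 := d13_1 D33518 (iv D31634) D31633
theorem F155771 : act 2 n33518 = n32051 := d20_1 D33518 F149269 (iv F147179)
theorem F155772 : act 3 n33518 = n33518 := d26_1 D33518 (iv D33518) F147180
theorem F155773 : act 4 n33518 = n32373 := d31_1 D33518 (iv D32373) (iv F147181)
theorem F155774 : act 8 n33518 = n32032 := d40_2 (iv F147184) D33518 (iv D32032)
theorem F155775 : act 9 n33518 = n32424 := d41_2 (iv F147185) D33518 (iv D32424)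
def n33519 : Q := act 5 n31634
theorem D33519 : act 5 n31634 = n33519 := rfl
theorem F155776 : act 0 n33519 = n31680 := d4_1 D33519 (iv D31680) (iv F147186)
theorem F155777 : act 2 n33519 = n31635 := d19_1 D33519 (iv D31635) (iv F147187)
theorem F155778 : act 3 n33519 = n33519 := d25_1 D33519 (iv D33519) F147188
theorem F155779 : act 6 n33519 = n31653 := d35_2 D31634 D33519 (iv D31653) (iv D29657) (iv F138081)
theorem F155780 : act 9 n33519 = n32425 := d38_2 (iv F147191) D33519 (iv D32425)
def n33520 : Q := act 7 n31634
theorem D33520 : act 7 n31634 = n33520 := rfl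
theorem F155781 : act 0 n33520 = n31681 := d6_1 D33520 (iv D31681) (iv F147186)
theorem F155782 : act 2 n33520 = n31636 := d21_1 D33520 (iv D31636) (iv F147187)
theorem F155783 : act 3 n33520 = n33520 := d27_1 D33520 (iv D33520) F147188
theorem F155784 : act 4 n33520 = n32375 := d32_1 D33520 (iv D32375) (iv F147189)
theorem F155785 : act 6 n33520 = n32116 := d39_1 D33520 (iv D32116) (iv D30134) (iv F138082) D31634
theorem F155786 : act 8 n33520 = n32034 := d42_2 (iv F147190) D33520 (iv D32034)
theorem F155787 : act 9 n33520 = n32426 := d43_2 (iv F147191) D33520 (iv D32426)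
def n33521 : Q := act 4 n31635
theorem D33521 : act 4 n31635 = n33521 := rfl
theorem F155788 : act 0 n33521 = n31682 := d3_1 D33521 (iv D31682) (iv F147192)
theorem F155789 : act 1 n33521 = n32139 := d11_1 D33521 (iv D32139) (iv F147193)
theorem F155790 : act 3 n33521 = n32698 := d24_1 D33521 (iv D32698) F142675 (iv F138094) (iv F147194)
theorem F155791 : act 5 n33521 = n32376 := d30_2 D31635 D33521 (iv D32376) (iv D30393) (iv F138088)
theorem F155792 : act 6 n33521 = n31655 := d31_2 (iv F147195) D33521 (iv D31655)
theorem F155793 : act 9 n33521 = n32427 := d34_2 (iv F147196) D33521 (iv D32427)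
def n33522 : Q := act 7 n31635
theorem D33522 : act 7 n31635 = n33522 := rfl
theorem F155794 : act 0 n33522 = n31683 := d6_1 D33522 (iv D31683) (iv F147192)
theorem F155795 : act 1 n33522 = n32140 := d14_1 D33522 (iv D32140) (iv F147193)
theorem F155796 : act 3 n33522 = n31637 := d27_1 D33522 (iv D31637) (iv F147194)
theorem F155797 : act 5 n33522 = n31636 := d36_1 D33522 (iv D31636) D31635
theorem F155798 : act 9 n33522 = n32428 := d43_2 (iv F147196) D33522 (iv D32428)
def n33523 : Q := act 8 n31635
theorem D33523 : act 8 n31635 = n33523 := rfl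
theorem F155799 : act 0 n33523 = n31684 := d7_1 D33523 (iv D31684) (iv F147192)
theorem F155800 : act 1 n33523 = n31756 := d15_1 D33523 F147793 (iv F147193)
theorem F155801 : act 3 n33523 = n31638 := d28_1 D33523 (iv D31638) (iv F147194)
theorem F155802 : act 5 n33523 = n31755 := d37_1 D33523 F147787 (iv D30024) (iv F138089) D31635
theorem F155803 : act 6 n33523 = n31657 := d40_1 D33523 (iv D31657) (iv F147195)
theorem F155804 : act 9 n32232 = n33523 := d41_0 F155803 (iv F147322) (iv F150034)
def n33524 : Q := act 6 n31637
theorem D33524 : act 6 n31637 = n33524 := rfl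
theorem F155805 : act 0 n33524 = n31685 := d5_1 D33524 (iv D31685) (iv F147204)
theorem F155806 : act 1 n33524 = n32141 := d13_1 D33524 (iv D32141) (iv F147205)
theorem F155807 : act 2 n33524 = n33524 := d20_1 D33524 (iv D33524) F147206
theorem F155808 : act 4 n33524 = n32701 := d31_1 D33524 (iv D32701) (iv F147207)
theorem F155809 : act 5 n33524 = n32120 := d35_1 D33524 (iv D32120) F140521 (iv F138101) (iv F147208)
theorem F155810 : act 7 n33524 = n31658 := d39_2 D31637 D33524 (iv D31658) (iv D29660) (iv F138095)
theorem F155811 : act 9 n33524 = n32430 := d41_2 (iv F147209) D33524 (iv D32430)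
def n33525 : Q := act 8 n31637
theorem D33525 : act 8 n31637 = n33525 := rfl
theorem F155812 : act 0 n33525 = n31686 := d7_1 D33525 (iv D31686) (iv F147204)
theorem F155813 : act 1 n33525 = n31865 := d15_1 D33525 F148252 (iv F147205)
theorem F155814 : act 2 n33525 = n33525 := d22_1 D33525 (iv D33525) F147206
theorem F155815 : act 4 n33525 = n32702 := d33_1 D33525 (iv D32702) (iv F147207)
theorem F155816 : act 5 n33525 = n31864 := d37_1 D33525 F148247 F139968 (iv F138102) (iv F147208)
theorem F155817 : act 7 n33525 = n31638 := d42_1 D33525 (iv D31638) D31637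
theorem F155818 : act 9 n32291 = n33525 := d43_0 F155817 (iv F147216) D32291
def n33526 : Q := act 6 n31639
theorem D33526 : act 6 n31639 = n33526 := rfl
theorem F155819 : act 0 n33526 = n31733 := d5_1 D33526 F147685 (iv F147217)
theorem F155820 : act 1 n33526 = n31640 := d13_1 D33526 (iv D31640) D31639
theorem F155821 : act 2 n33526 = n31839 := d20_1 D33526 F148138 (iv F147218)
theorem F155822 : act 3 n33526 = n33526 := d26_1 D33526 (iv D33526) F147219
theorem F155823 : act 4 n33526 = n31727 := d31_1 D33526 F147651 (iv F147220)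
theorem F155824 : act 8 n33526 = n31660 := d40_2 (iv F147223) D33526 (iv D31660)
theorem F155825 : act 9 n33526 = n31724 := d41_2 (iv F147224) D33526 F147639
def n33527 : Q := act 5 n31640
theorem D33527 : act 5 n31640 = n33527 := rfl
theorem F155826 : act 0 n33527 = n31694 := d4_1 D33527 (iv D31694) (iv F147225)
theorem F155827 : act 2 n33527 = n31641 := d19_1 D33527 (iv D31641) (iv F147226)
theorem F155828 : act 3 n33527 = n33527 := d25_1 D33527 (iv D33527) F147227
theorem F155829 : act 6 n33527 = n32115 := d35_2 D31640 D33527 (iv D32115) (iv D30134) (iv F138107)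
theorem F155830 : act 9 n33527 = n31833 := d38_2 (iv F147230) D33527 (iv D31833)
def n33528 : Q := act 7 n31640
theorem D33528 : act 7 n31640 = n33528 := rfl
theorem F155831 : act 0 n33528 = n31695 := d6_1 D33528 (iv D31695) (iv F147225)
theorem F155832 : act 2 n33528 = n31642 := d21_1 D33528 (iv D31642) (iv F147226)
theorem F155833 : act 3 n33528 = n33528 := d27_1 D33528 (iv D33528) F147227
theorem F155834 : act 4 n33528 = n31835 := d32_1 D33528 F148116 (iv F147228)
theorem F155835 : act 6 n33528 = n31654 := d39_1 D33528 (iv D31654) (iv D29657) (iv F138108) D31640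
theorem F155836 : act 8 n33528 = n31662 := d42_2 (iv F147229) D33528 (iv D31662)
theorem F155837 : act 9 n33528 = n31832 := d43_2 (iv F147230) D33528 F148103
def n33529 : Q := act 4 n31641
theorem D33529 : act 4 n31641 = n33529 := rfl
theorem F155838 : act 0 n33529 = n31696 := d3_1 D33529 (iv D31696) (iv F147231)
theorem F155839 : act 1 n33529 = n32136 := d11_1 D33529 (iv D32136) (iv F147232)
theorem F155840 : act 3 n33529 = n32198 := d24_1 D33529 (iv D32198) F140842 (iv F138120) (iv F147233)
theorem F155841 : act 5 n33529 = n32660 := d30_2 D31641 D33529 (iv D32660) (iv D30664) (iv F138114)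
theorem F155842 : act 6 n33529 = n32117 := d31_2 (iv F147234) D33529 (iv D32117)
theorem F155843 : act 9 n33529 = n32181 := d34_2 (iv F147235) D33529 (iv D32181)
def n33530 : Q := act 7 n31641
theorem D33530 : act 7 n31641 = n33530 := rfl
theorem F155844 : act 0 n33530 = n31697 := d6_1 D33530 (iv D31697) (iv F147231)
theorem F155845 : act 1 n33530 = n32137 := d14_1 D33530 (iv D32137) (iv F147232)
theorem F155846 : act 3 n33530 = n31643 := d27_1 D33530 (iv D31643) (iv F147233)
theorem F155847 : act 5 n33530 = n31642 := d36_1 D33530 (iv D31642) D31641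
theorem F155848 : act 9 n33530 = n32182 := d43_2 (iv F147235) D33530 (iv D32182)
def n33531 : Q := act 8 n31641
theorem D33531 : act 8 n31641 = n33531 := rfl
theorem F155849 : act 0 n33531 = n31698 := d7_1 D33531 (iv D31698) (iv F147231)
theorem F155850 : act 1 n33531 = n32105 := d15_1 D33531 F149542 (iv F147232)
theorem F155851 : act 3 n33531 = n31644 := d28_1 D33531 (iv D31644) (iv F147233)
theorem F155852 : act 5 n33531 = n31665 := d37_1 D33531 (iv D31665) (iv D29664) (iv F138115) D31641
theorem F155853 : act 6 n33531 = n32119 := d40_1 D33531 (iv D32119) (iv F147234)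
def n33532 : Q := act 6 n31643
theorem D33532 : act 6 n31643 = n33532 := rfl
theorem F155854 : act 0 n33532 = n31699 := d5_1 D33532 (iv D31699) (iv F147243)
theorem F155855 : act 1 n33532 = n32138 := d13_1 D33532 (iv D32138) (iv F147244)
theorem F155856 : act 2 n33532 = n33532 := d20_1 D33532 (iv D33532) F147245
theorem F155857 : act 4 n33532 = n32201 := d31_1 D33532 (iv D32201) (iv F147246)
theorem F155858 : act 5 n33532 = n31658 := d35_1 D33532 (iv D31658) F138173 (iv F138127) (iv F147247)
theorem F155859 : act 7 n33532 = n32120 := d39_2 D31643 D33532 (iv D32120) (iv D30137) (iv F138121)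
theorem F155860 : act 9 n33532 = n32184 := d41_2 (iv F147248) D33532 (iv D32184)
def n33533 : Q := act 8 n31643
theorem D33533 : act 8 n31643 = n33533 := rfl
theorem F155861 : act 0 n33533 = n31700 := d7_1 D33533 (iv D31700) (iv F147243)
theorem F155862 : act 1 n33533 = n31948 := d15_1 D33533 F148651 (iv F147244)
theorem F155863 : act 2 n33533 = n33533 := d22_1 D33533 (iv D33533) F147245
theorem F155864 : act 4 n33533 = n32202 := d33_1 D33533 (iv D32202) (iv F147246)
theorem F155865 : act 5 n33533 = n31666 := d37_1 D33533 (iv D31666) F138206 (iv F138128) (iv F147247)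
theorem F155866 : act 7 n33533 = n31644 := d42_1 D33533 (iv D31644) D31643
def n33534 : Q := act 9 n31644
theorem D33534 : act 9 n31644 = n33534 := rfl
theorem F155867 : act 0 n33534 = n31701 := d8_1 D33534 (iv D31701) (iv F147249)
theorem F155868 : act 1 n33534 = n32113 := d16_1 D33534 (iv D32113) (iv F147250)
theorem F155869 : act 2 n33534 = n33534 := d23_1 D33534 (iv D33534) F147251
theorem F155870 : act 4 n33534 = n32203 := d34_1 D33534 (iv D32203) (iv F147252)
theorem F155871 : act 5 n33534 = n31667 := d38_1 D33534 (iv D31667) (iv F147253)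
theorem F155872 : act 6 n33534 = n32122 := d41_1 D33534 (iv D32122) (iv F147254)
theorem F155873 : act 8 n33534 = n32186 := d44_1 D33534 (iv D32186) (iv D30205) (iv F138122) D31644
def n33535 : Q := act 6 n31645
theorem D33535 : act 6 n31645 = n33535 := rfl
theorem F155874 : act 0 n33535 = n31841 := d5_1 D33535 F148147 (iv F147255)
theorem F155875 : act 1 n33535 = n31646 := d13_1 D33535 (iv D31646) D31645
theorem F155876 : act 2 n33535 = n31727 := d20_1 D33535 F147651 (iv F147256)
theorem F155877 : act 3 n33535 = n33535 := d26_1 D33535 (iv D33535) F147257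
theorem F155878 : act 4 n33535 = n31839 := d31_1 D33535 F148138 (iv F147258)
theorem F155879 : act 8 n33535 = n31838 := d40_2 (iv F147261) D33535 F148133
theorem F155880 : act 9 n33535 = n31652 := d41_2 (iv F147262) D33535 (iv D31652)
def n33536 : Q := act 5 n31646
theorem D33536 : act 5 n31646 = n33536 := rfl
theorem F155881 : act 0 n33536 = n31702 := d4_1 D33536 (iv D31702) (iv F147263)
theorem F155882 : act 2 n33536 = n31647 := d19_1 D33536 (iv D31647) (iv F147264)
theorem F155883 : act 3 n33536 = n33536 := d25_1 D33536 (iv D33536) F147265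
theorem F155884 : act 6 n33536 = n32425 := d35_2 D31646 D33536 (iv D32425) (iv D30434) (iv F138133)
theorem F155885 : act 9 n33536 = n31653 := d38_2 (iv F147268) D33536 (iv D31653)
def n33537 : Q := act 7 n31646
theorem D33537 : act 7 n31646 = n33537 := rfl
theorem F155886 : act 0 n33537 = n31703 := d6_1 D33537 (iv D31703) (iv F147263)
theorem F155887 : act 2 n33537 = n31648 := d21_1 D33537 (iv D31648) (iv F147264)
theorem F155888 : act 3 n33537 = n33537 := d27_1 D33537 (iv D33537) F147265
theorem F155889 : act 4 n33537 = n31834 := d32_1 D33537 F148112 (iv F147266)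
theorem F155890 : act 6 n33537 = n31832 := d39_1 D33537 F148103 F138788 (iv F138134) D31646
theorem F155891 : act 8 n33537 = n31831 := d42_2 (iv F147267) D33537 F148097
theorem F155892 : act 9 n33537 = n31654 := d43_2 (iv F147268) D33537 (iv D31654)
def n33538 : Q := act 4 n31647
theorem D33538 : act 4 n31647 = n33538 := rfl
theorem F155893 : act 0 n33538 = n31704 := d3_1 D33538 (iv D31704) (iv F147269)
theorem F155894 : act 1 n33538 = n32660 := d11_1 D33538 (iv D32660) (iv F147270)
theorem F155895 : act 3 n33538 = n32226 := d24_1 D33538 (iv D32226) F140935 (iv F138146) (iv F147271)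
theorem F155896 : act 5 n33538 = n32136 := d30_2 D31647 D33538 (iv D32136) (iv D30153) (iv F138140)
theorem F155897 : act 6 n33538 = n32427 := d31_2 (iv F147272) D33538 (iv D32427)
theorem F155898 : act 9 n33538 = n31655 := d34_2 (iv F147273) D33538 (iv D31655)
def n33539 : Q := act 7 n31647
theorem D33539 : act 7 n31647 = n33539 := rfl
theorem F155899 : act 0 n33539 = n31705 := d6_1 D33539 (iv D31705) (iv F147269)
theorem F155900 : act 1 n33539 = n32661 := d14_1 D33539 (iv D32661) (iv F147270)
theorem F155901 : act 3 n33539 = n31649 := d27_1 D33539 (iv D31649) (iv F147271)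
theorem F155902 : act 5 n33539 = n31648 := d36_1 D33539 (iv D31648) D31647
theorem F155903 : act 9 n33539 = n31656 := d43_2 (iv F147273) D33539 (iv D31656)
def n33540 : Q := act 8 n31647
theorem D33540 : act 8 n31647 = n33540 := rfl
theorem F155904 : act 0 n33540 = n31706 := d7_1 D33540 (iv D31706) (iv F147269)
theorem F155905 : act 1 n33540 = n32252 := d15_1 D33540 F150090 (iv F147270)
theorem F155906 : act 3 n33540 = n31650 := d28_1 D33540 (iv D31650) (iv F147271)
theorem F155907 : act 5 n33540 = n31979 := d37_1 D33540 (iv D31979) (iv D29934) (iv F138141) D31647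
theorem F155908 : act 6 n33540 = n32429 := d40_1 D33540 (iv D32429) (iv F147272)
theorem F155909 : act 9 n33540 = n32246 := d44_2 (iv F147273) D33540 (iv D32246) F147322 (iv D31657)
def n33541 : Q := act 6 n31649
theorem D33541 : act 6 n31649 = n33541 := rfl
theorem F155910 : act 0 n33541 = n31707 := d5_1 D33541 (iv D31707) (iv F147281)
theorem F155911 : act 1 n33541 = n32662 := d13_1 D33541 (iv D32662) (iv F147282)
theorem F155912 : act 2 n33541 = n33541 := d20_1 D33541 (iv D33541) F147283
theorem F155913 : act 4 n33541 = n32229 := d31_1 D33541 (iv D32229) (iv F147284)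
theorem F155914 : act 5 n33541 = n32184 := d35_1 D33541 (iv D32184) F140774 (iv F138153) (iv F147285)
theorem F155915 : act 7 n33541 = n32430 := d39_2 D31649 D33541 (iv D32430) (iv D30437) (iv F138147)
theorem F155916 : act 9 n33541 = n31658 := d41_2 (iv F147286) D33541 (iv D31658)
def n33542 : Q := act 8 n31649
theorem D33542 : act 8 n31649 = n33542 := rfl
theorem F155917 : act 0 n33542 = n31708 := d7_1 D33542 (iv D31708) (iv F147281)
theorem F155918 : act 1 n33542 = n32310 := d15_1 D33542 F150275 (iv F147282)
theorem F155919 : act 2 n33542 = n33542 := d22_1 D33542 (iv D33542) F147283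
theorem F155920 : act 4 n33542 = n32230 := d33_1 D33542 (iv D32230) (iv F147284)
theorem F155921 : act 5 n33542 = n31981 := d37_1 D33542 (iv D31981) F139472 (iv F138154) (iv F147285)
theorem F155922 : act 7 n33542 = n31650 := d42_1 D33542 (iv D31650) D31649
theorem F155923 : act 9 n33542 = n32304 := d44_2 (iv F147286) D33542 (iv D32304) F147331 (iv D31659)
def n33543 : Q := act 6 n31651
theorem D33543 : act 6 n31651 = n33543 := rfl
theorem F155924 : act 0 n33543 = n31652 := d5_1 D33543 (iv D31652) D31651
theorem F155925 : act 1 n33543 = n31710 := d13_1 D33543 (iv D31710) (iv F147294)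
theorem F155926 : act 2 n33543 = n31665 := d20_1 D33543 F147368 (iv F147295)
theorem F155927 : act 3 n33543 = n33543 := d26_1 D33543 (iv D33543) F147296
theorem F155928 : act 4 n33543 = n31843 := d31_1 D33543 F148153 (iv F147297)
theorem F155929 : act 8 n33543 = n31661 := d40_2 (iv F147299) D33543 F147344
theorem F155930 : act 9 n33543 = n31841 := d41_2 (iv F147300) D33543 F148147
def n33544 : Q := act 5 n31652
theorem D33544 : act 5 n31652 = n33544 := rfl
theorem F155931 : act 1 n33544 = n31653 := d12_1 D33544 (iv D31653) (iv F147301)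
theorem F155932 : act 2 n33544 = n31698 := d19_1 D33544 F147539 (iv F147302)
theorem F155933 : act 3 n33544 = n33544 := d25_1 D33544 (iv D33544) F147303
theorem F155934 : act 8 n33544 = n31694 := d37_2 (iv F147304) D33544 (iv D31694) F138340 (iv F138224)
def n33545 : Q := act 7 n31652
theorem D33545 : act 7 n31652 = n33545 := rfl
theorem F155935 : act 1 n33545 = n31654 := d14_1 D33545 (iv D31654) (iv F147301)
theorem F155936 : act 2 n33545 = n31726 := d21_1 D33545 F147648 (iv F147302)
theorem F155937 : act 3 n33545 = n33545 := d27_1 D33545 (iv D33545) F147303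
theorem F155938 : act 8 n33545 = n31668 := d42_2 (iv F147304) D33545 (iv D31668)
def n33546 : Q := act 4 n31653
theorem D33546 : act 4 n31653 = n33546 := rfl
theorem F155939 : act 0 n33546 = n31713 := d3_1 D33546 (iv D31713) (iv F147305)
theorem F155940 : act 2 n33546 = n31655 := d18_1 D33546 (iv D31655) (iv F147306)
def n33547 : Q := act 7 n31653
theorem D33547 : act 7 n31653 = n33547 := rfl
theorem F155941 : act 0 n33547 = n31714 := d6_1 D33547 (iv D31714) (iv F147305)
theorem F155942 : act 2 n33547 = n31656 := d21_1 D33547 (iv D31656) (iv F147306)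
theorem F155943 : act 3 n33547 = n33547 := d27_1 D33547 (iv D33547) F147307
theorem F155944 : act 5 n33547 = n31654 := d36_1 D33547 (iv D31654) D31653
def n33548 : Q := act 8 n31653
theorem D33548 : act 8 n31653 = n33548 := rfl
theorem F155945 : act 0 n33548 = n31715 := d7_1 D33548 (iv D31715) (iv F147305)
theorem F155946 : act 1 n33548 = n31694 := d15_1 D33548 (iv F155934) F155931
theorem F155947 : act 2 n33548 = n31657 := d22_1 D33548 (iv D31657) (iv F147306)
theorem F155948 : act 3 n33548 = n33548 := d28_1 D33548 (iv D33548) F147307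
theorem F155949 : act 5 n33548 = n31670 := d37_1 D33548 (iv D31670) (iv D29670) (iv F138162) D31653
theorem F155950 : act 9 n32204 = n33548 := d38_0 F155949 F147400 D32204
def n33549 : Q := act 7 n31655
theorem D33549 : act 7 n31655 = n33549 := rfl
theorem F155951 : act 0 n33549 = n31716 := d6_1 D33549 (iv D31716) (iv F147312)
theorem F155952 : act 1 n33549 = n32663 := d14_1 D33549 (iv D32663) (iv F147313)
theorem F155953 : act 4 n33549 = n31656 := d32_1 D33549 (iv D31656) D31655
def n33550 : Q := act 8 n31655
theorem D33550 : act 8 n31655 = n33550 := rfl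
theorem F155954 : act 0 n33550 = n31717 := d7_1 D33550 (iv D31717) (iv F147312)
theorem F155955 : act 1 n33550 = n31794 := d15_1 D33550 F147958 (iv F147313)
theorem F155956 : act 4 n33550 = n31657 := d33_1 D33550 (iv D31657) D31655
theorem F155957 : act 5 n32759 = n33550 := d30_0 F155956 F147321 F138247 D30756 D32759
theorem F155958 : act 9 n32244 = n33550 := d34_0 F155956 (iv F147322) D32244
def n33551 : Q := act 6 n31656
theorem D33551 : act 6 n31656 = n33551 := rfl
theorem F155959 : act 0 n33551 = n31718 := d5_1 D33551 (iv D31718) (iv F147314)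
theorem F155960 : act 1 n33551 = n32664 := d13_1 D33551 (iv D32664) (iv F147315)
theorem F155961 : act 3 n33551 = n31658 := d26_1 D33551 (iv D31658) (iv F147316)
def n33552 : Q := act 8 n31656
theorem D33552 : act 8 n31656 = n33552 := rfl
theorem F155962 : act 0 n33552 = n31719 := d7_1 D33552 (iv D31719) (iv F147314)
theorem F155963 : act 1 n33552 = n31795 := d15_1 D33552 F147964 (iv F147315)
theorem F155964 : act 3 n33552 = n31659 := d28_1 D33552 (iv D31659) (iv F147316)
theorem F155965 : act 5 n33552 = n31671 := d37_1 D33552 (iv D31671) F138241 (iv F138169) (iv F147317)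
theorem F155966 : act 7 n33552 = n31657 := d42_1 D33552 (iv D31657) D31656
theorem F155967 : act 9 n32245 = n33552 := d43_0 F155966 (iv F147322) D32245
def n33553 : Q := act 8 n31658
theorem D33553 : act 8 n31658 = n33553 := rfl
theorem F155968 : act 0 n33553 = n31721 := d7_1 D33553 (iv D31721) (iv F147323)
theorem F155969 : act 1 n33553 = n31909 := d15_1 D33553 F148477 (iv F147324)
theorem F155970 : act 2 n33553 = n33553 := d22_1 D33553 (iv D33553) F147325
theorem F155971 : act 6 n33553 = n31659 := d40_1 D33553 (iv D31659) D31658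
theorem F155972 : act 5 n31929 = n33553 := d35_5 F155971 F147329 F138254 (iv F139196) D31929
theorem F155973 : act 9 n32303 = n33553 := d41_0 F155971 (iv F147331) D32303
def n33554 : Q := act 7 n31660
theorem D33554 : act 7 n31660 = n33554 := rfl
theorem F155974 : act 0 n33554 = n31732 := d6_1 D33554 (iv D31732) (iv F147332)
theorem F155975 : act 1 n33554 = n31662 := d14_1 D33554 (iv D31662) (iv F147333)
theorem F155976 : act 2 n33554 = n31725 := d21_1 D33554 F147644 (iv F147334)
theorem F155977 : act 3 n33554 = n33554 := d27_1 D33554 (iv D33554) F147335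
theorem F155978 : act 4 n33554 = n32001 := d32_1 D33554 F148971 (iv F147336)
theorem F155979 : act 5 n33554 = n31730 := d36_1 D33554 (iv D31730) (iv F147337)
theorem F155980 : act 6 n33554 = n31668 := d39_1 D33554 (iv D31668) (iv D29669) (iv F138184) D31660
theorem F155981 : act 9 n33554 = n31986 := d43_2 (iv F147338) D33554 (iv D31986)
def n33555 : Q := act 7 n31661
theorem D33555 : act 7 n31661 = n33555 := rfl
theorem F155982 : act 0 n33555 = n31668 := d6_1 D33555 (iv D31668) (iv F147339)
theorem F155983 : act 1 n33555 = n31730 := d14_1 D33555 (iv D31730) (iv F147340)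
theorem F155984 : act 2 n33555 = n31664 := d21_1 D33555 (iv D31664) (iv F147341)
theorem F155985 : act 3 n33555 = n33555 := d27_1 D33555 (iv D33555) F147342
theorem F155986 : act 4 n33555 = n32018 := d32_1 D33555 F149066 (iv F147343)
theorem F155987 : act 5 n33555 = n31662 := d36_1 D33555 (iv D31662) D31661
theorem F155988 : act 6 n33555 = n31732 := d39_1 D33555 (iv D31732) F138455 (iv F138219) (iv F147344)
theorem F155989 : act 9 n33555 = n31987 := d43_2 (iv F147345) D33555 (iv D31987)
def n33556 : Q := act 7 n31663
theorem D33556 : act 7 n31663 = n33556 := rfl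
theorem F155990 : act 0 n33556 = n31723 := d6_1 D33556 (iv D31723) (iv F147352)
theorem F155991 : act 1 n33556 = n31844 := d14_1 D33556 F148159 (iv F147353)
theorem F155992 : act 2 n33556 = n32018 := d21_1 D33556 F149066 (iv F147354)
theorem F155993 : act 3 n33556 = n33556 := d27_1 D33556 (iv D33556) F147355
theorem F155994 : act 4 n33556 = n31664 := d32_1 D33556 (iv D31664) D31663
theorem F155995 : act 5 n33556 = n32342 := d36_1 D33556 F150415 (iv F147356)
theorem F155996 : act 6 n33556 = n31840 := d39_1 D33556 (iv D31840) F138822 (iv F140014) (iv F147357)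
theorem F155997 : act 9 n33556 = n31988 := d43_2 (iv F147358) D33556 (iv D31988)
def n33557 : Q := act 8 n31663
theorem D33557 : act 8 n31663 = n33557 := rfl
theorem F155998 : act 0 n33557 = n31724 := d7_1 D33557 (iv D31724) (iv F147352)
theorem F155999 : act 1 n33557 = n31737 := d15_1 D33557 F147706 (iv F147353)
theorem F156000 : act 2 n33557 = n31843 := d22_1 D33557 F148154 (iv F147354)
theorem F156001 : act 3 n33557 = n33557 := d28_1 D33557 (iv D33557) F147355
theorem F156002 : act 4 n33557 = n31665 := d33_1 D33557 (iv D31665) D31663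
theorem F156003 : act 6 n33557 = n32037 := d40_1 D33557 (iv D32037) (iv F147357)
theorem F156004 : act 9 n33557 = n31733 := d44_2 (iv F147358) D33557 (iv D31733) F138456 F139545
def n33558 : Q := act 8 n31664
theorem D33558 : act 8 n31664 = n33558 := rfl
theorem F156005 : act 0 n33558 = n31726 := d7_1 D33558 (iv D31726) (iv F147359)
theorem F156006 : act 1 n33558 = n31847 := d15_1 D33558 (iv D31847) (iv F147360)
theorem F156007 : act 3 n33558 = n31666 := d28_1 D33558 (iv D31666) (iv F147361)
theorem F156008 : act 6 n33558 = n31842 := d40_1 D33558 (iv D31842) (iv F147363)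
theorem F156009 : act 7 n33558 = n31665 := d42_1 D33558 (iv D31665) D31664
def n33559 : Q := act 9 n31665
theorem D33559 : act 9 n31665 = n33559 := rfl
theorem F156010 : act 0 n33559 = n31727 := d8_1 D33559 (iv D31727) (iv F147365)
theorem F156011 : act 1 n33559 = n31735 := d16_1 D33559 F147697 (iv F147366)
theorem F156012 : act 2 n33559 = n31841 := d23_1 D33559 (iv F155930) F155926
theorem F156013 : act 3 n33559 = n31667 := d29_1 D33559 (iv D31667) (iv F147367)
theorem F156014 : act 4 n33559 = n31733 := d34_1 D33559 (iv F156004) F156002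
theorem F156015 : act 6 n33559 = n32038 := d41_1 D33559 (iv D32038) (iv F147368)
theorem F156016 : act 8 n33559 = n31731 := d44_1 D33559 F147675 (iv D29949) (iv F138195) D31665
def n33560 : Q := act 9 n31666
theorem D33560 : act 9 n31666 = n33560 := rfl
theorem F156017 : act 0 n33560 = n31729 := d8_1 D33560 (iv D31729) (iv F147369)
theorem F156018 : act 1 n33560 = n31949 := d16_1 D33560 (iv D31949) (iv F147370)
theorem F156019 : act 2 n33560 = n33560 := d23_1 D33560 (iv D33560) F147371
theorem F156020 : act 4 n33560 = n33560 := d34_1 D33560 (iv D33560) F147372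
theorem F156021 : act 6 n33560 = n31947 := d41_1 D33560 (iv D31947) (iv F147373)
theorem F156022 : act 7 n33560 = n31667 := d43_1 D33560 (iv D31667) (iv F147374)
theorem F156023 : act 8 n33560 = n31990 := d44_1 D33560 (iv D31990) (iv D29950) (iv F138208) D31666
def n33561 : Q := act 8 n31669
theorem D33561 : act 8 n31669 = n33561 := rfl
theorem F156024 : act 0 n33561 = n31736 := d7_1 D33561 (iv D31736) (iv F147386)
theorem F156025 : act 1 n33561 = n31695 := d15_1 D33561 F147528 (iv F147387)
theorem F156026 : act 2 n33561 = n31671 := d22_1 D33561 (iv D31671) (iv F147388)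
theorem F156027 : act 3 n33561 = n33561 := d28_1 D33561 (iv D33561) F147389
theorem F156028 : act 4 n33561 = n32681 := d33_1 D33561 F151738 (iv F147390)
theorem F156029 : act 6 n33561 = n31712 := d40_1 D33561 F147600 (iv F147392)
theorem F156030 : act 7 n33561 = n31670 := d42_1 D33561 (iv D31670) D31669
theorem F156031 : act 9 n33561 = n32205 := d44_2 (iv F147393) D33561 F149939 F140887 (iv F139582)
def n33562 : Q := act 6 n31672
theorem D33562 : act 6 n31672 = n33562 := rfl
theorem F156032 : act 0 n33562 = n32058 := d5_1 D33562 F149305 F147415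
theorem F156033 : act 1 n33562 = n31673 := d13_1 D33562 (iv D31673) D31672
theorem F156034 : act 2 n33562 = n31755 := d20_1 D33562 (iv D31755) (iv F147408)
theorem F156035 : act 3 n33562 = n33562 := d26_1 D33562 (iv D33562) F147409
theorem F156036 : act 4 n33562 = n32350 := d31_1 D33562 (iv D32350) (iv F147410)
theorem F156037 : act 8 n33562 = n32033 := d40_2 (iv F147413) D33562 F149160
theorem F156038 : act 9 n33562 = n32195 := d41_2 (iv F147414) D33562 (iv D32195)
def n33563 : Q := act 5 n31673
theorem D33563 : act 5 n31673 = n33563 := rfl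
theorem F156039 : act 0 n33563 = n32115 := d4_1 D33563 (iv D32115) (iv F147416)
theorem F156040 : act 2 n33563 = n31674 := d19_1 D33563 (iv D31674) (iv F147417)
theorem F156041 : act 3 n33563 = n33563 := d25_1 D33563 (iv D33563) F147418
theorem F156042 : act 6 n33563 = n31694 := d35_2 D31673 D33563 (iv D31694) (iv D29690) (iv F138260)
theorem F156043 : act 9 n33563 = n32196 := d38_2 (iv F147421) D33563 (iv D32196)
def n33564 : Q := act 7 n31673
theorem D33564 : act 7 n31673 = n33564 := rfl
theorem F156044 : act 0 n33564 = n32116 := d6_1 D33564 (iv D32116) (iv F147416)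
theorem F156045 : act 2 n33564 = n31675 := d21_1 D33564 (iv D31675) (iv F147417)
theorem F156046 : act 3 n33564 = n33564 := d27_1 D33564 (iv D33564) F147418
theorem F156047 : act 4 n33564 = n32352 := d32_1 D33564 (iv D32352) (iv F147419)
theorem F156048 : act 6 n33564 = n31681 := d39_1 D33564 (iv D31681) (iv D29680) (iv F138261) D31673
theorem F156049 : act 8 n33564 = n32049 := d42_2 (iv F147420) D33564 (iv D32049)
theorem F156050 : act 9 n33564 = n32197 := d43_2 (iv F147421) D33564 (iv D32197)
def n33565 : Q := act 4 n31674
theorem D33565 : act 4 n31674 = n33565 := rfl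
theorem F156051 : act 0 n33565 = n32117 := d3_1 D33565 (iv D32117) (iv F147422)
theorem F156052 : act 1 n33565 = n31758 := d11_1 D33565 (iv D31758) (iv F147423)
theorem F156053 : act 3 n33565 = n32181 := d24_1 D33565 (iv D32181) F140767 (iv F138273) (iv F147424)
theorem F156054 : act 5 n33565 = n32353 := d30_2 D31674 D33565 (iv D32353) (iv D30374) (iv F138267)
theorem F156055 : act 6 n33565 = n31696 := d31_2 (iv F147425) D33565 (iv D31696)
theorem F156056 : act 9 n33565 = n32198 := d34_2 (iv F147426) D33565 (iv D32198)
def n33566 : Q := act 7 n31674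
theorem D33566 : act 7 n31674 = n33566 := rfl
theorem F156057 : act 0 n33566 = n32118 := d6_1 D33566 (iv D32118) (iv F147422)
theorem F156058 : act 1 n33566 = n31759 := d14_1 D33566 (iv D31759) (iv F147423)
theorem F156059 : act 3 n33566 = n31676 := d27_1 D33566 (iv D31676) (iv F147424)
theorem F156060 : act 5 n33566 = n31675 := d36_1 D33566 (iv D31675) D31674
theorem F156061 : act 9 n33566 = n32199 := d43_2 (iv F147426) D33566 (iv D32199)
def n33567 : Q := act 8 n31674
theorem D33567 : act 8 n31674 = n33567 := rfl
theorem F156062 : act 0 n33567 = n32119 := d7_1 D33567 (iv D32119) (iv F147422)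
theorem F156063 : act 1 n33567 = n31760 := d15_1 D33567 (iv D31760) (iv F147423)
theorem F156064 : act 3 n33567 = n31677 := d28_1 D33567 (iv D31677) (iv F147424)
theorem F156065 : act 5 n33567 = n32051 := d37_1 D33567 (iv D32051) (iv D30042) (iv F138268) D31674
theorem F156066 : act 6 n33567 = n31698 := d40_1 D33567 (iv D31698) (iv F147425)
def n33568 : Q := act 6 n31676
theorem D33568 : act 6 n31676 = n33568 := rfl
theorem F156067 : act 0 n33568 = n32120 := d5_1 D33568 (iv D32120) (iv F147434)
theorem F156068 : act 1 n33568 = n31761 := d13_1 D33568 (iv D31761) (iv F147435)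
theorem F156069 : act 2 n33568 = n33568 := d20_1 D33568 (iv D33568) F147436
theorem F156070 : act 4 n33568 = n32184 := d31_1 D33568 (iv D32184) (iv F147437)
theorem F156071 : act 5 n33568 = n31685 := d35_1 D33568 (iv D31685) F138299 (iv F138280) (iv F147438)
theorem F156072 : act 7 n33568 = n31699 := d39_2 D31676 D33568 (iv D31699) (iv D29693) (iv F138274)
theorem F156073 : act 9 n33568 = n32201 := d41_2 (iv F147439) D33568 (iv D32201)
def n33569 : Q := act 8 n31676
theorem D33569 : act 8 n31676 = n33569 := rfl
theorem F156074 : act 0 n33569 = n32121 := d7_1 D33569 (iv D32121) (iv F147434)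
theorem F156075 : act 1 n33569 = n31762 := d15_1 D33569 (iv D31762) (iv F147435)
theorem F156076 : act 2 n33569 = n33569 := d22_1 D33569 (iv D33569) F147436
theorem F156077 : act 4 n33569 = n32185 := d33_1 D33569 (iv D32185) (iv F147437)
theorem F156078 : act 5 n33569 = n32052 := d37_1 D33569 (iv D32052) F140080 (iv F138281) (iv F147438)
theorem F156079 : act 7 n33569 = n31677 := d42_1 D33569 (iv D31677) D31676
def n33570 : Q := act 6 n31678
theorem D33570 : act 6 n31678 = n33570 := rfl
theorem F156080 : act 0 n33570 = n31679 := d5_1 D33570 (iv D31679) D31678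
theorem F156081 : act 1 n33570 = n32126 := d13_1 D33570 F155768 F155760
theorem F156082 : act 2 n33570 = n31771 := d20_1 D33570 (iv D31771) (iv F147446)
theorem F156083 : act 3 n33570 = n33570 := d26_1 D33570 (iv D33570) F147447
theorem F156084 : act 8 n33570 = n32053 := d40_2 (iv F147450) D33570 (iv D32053)
theorem F156085 : act 9 n33570 = n32104 := d41_2 (iv F147451) D33570 (iv D32104)
def n33571 : Q := act 5 n31679
theorem D33571 : act 5 n31679 = n33571 := rfl
theorem F156086 : act 1 n33571 = n31680 := d12_1 D33571 (iv D31680) (iv F147452)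
theorem F156087 : act 2 n33571 = n31772 := d19_1 D33571 (iv D31772) (iv F147453)
theorem F156088 : act 3 n33571 = n33571 := d25_1 D33571 (iv D33571) F147454
theorem F156089 : act 6 n33571 = n31711 := d35_2 D31679 D33571 (iv D31711) (iv D29701) (iv F138285)
theorem F156090 : act 9 n33571 = n32797 := d38_2 (iv F147456) D33571 F152059
def n33572 : Q := act 7 n31679
theorem D33572 : act 7 n31679 = n33572 := rfl
theorem F156091 : act 1 n33572 = n31681 := d14_1 D33572 (iv D31681) (iv F147452)
theorem F156092 : act 2 n33572 = n31773 := d21_1 D33572 (iv D31773) (iv F147453)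
theorem F156093 : act 3 n33572 = n33572 := d27_1 D33572 (iv D33572) F147454
theorem F156094 : act 8 n33572 = n32055 := d42_2 (iv F147455) D33572 (iv D32055)
theorem F156095 : act 9 n33572 = n32920 := d43_2 (iv F147456) D33572 (iv D32920)
def n33573 : Q := act 4 n31680
theorem D33573 : act 4 n31680 = n33573 := rfl
theorem F156096 : act 2 n33573 = n31682 := d18_1 D33573 (iv D31682) (iv F147457)
theorem F156097 : act 6 n33573 = n31713 := d31_2 (iv F147459) D33573 (iv D31713)
def n33574 : Q := act 7 n31680
theorem D33574 : act 7 n31680 = n33574 := rfl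
theorem F156098 : act 2 n33574 = n31683 := d21_1 D33574 (iv D31683) (iv F147457)
theorem F156099 : act 3 n33574 = n33574 := d27_1 D33574 (iv D33574) F147458
theorem F156100 : act 5 n33574 = n31681 := d36_1 D33574 (iv D31681) D31680
def n33575 : Q := act 8 n31680
theorem D33575 : act 8 n31680 = n33575 := rfl
theorem F156101 : act 2 n33575 = n31684 := d22_1 D33575 (iv D31684) (iv F147457)
theorem F156102 : act 3 n33575 = n33575 := d28_1 D33575 (iv D33575) F147458
theorem F156103 : act 5 n33575 = n32058 := d37_1 D33575 (iv D32058) (iv D30048) (iv F138290) D31680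
theorem F156104 : act 6 n33575 = n31715 := d40_1 D33575 (iv D31715) (iv F147459)
def n33576 : Q := act 7 n31682
theorem D33576 : act 7 n31682 = n33576 := rfl
theorem F156105 : act 1 n33576 = n31777 := d14_1 D33576 (iv D31777) (iv F147463)
theorem F156106 : act 4 n33576 = n31683 := d32_1 D33576 (iv D31683) D31682
def n33577 : Q := act 8 n31682
theorem D33577 : act 8 n31682 = n33577 := rfl
theorem F156107 : act 1 n33577 = n31778 := d15_1 D33577 (iv D31778) (iv F147463)
theorem F156108 : act 4 n33577 = n31684 := d33_1 D33577 (iv D31684) D31682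
theorem F156109 : act 6 n33577 = n31717 := d40_1 D33577 (iv D31717) (iv F147464)
def n33578 : Q := act 6 n31683
theorem D33578 : act 6 n31683 = n33578 := rfl
theorem F156110 : act 1 n33578 = n31779 := d13_1 D33578 (iv D31779) (iv F147465)
theorem F156111 : act 3 n33578 = n31685 := d26_1 D33578 (iv D31685) (iv F147466)
theorem F156112 : act 7 n33578 = n31718 := d39_2 D31683 D33578 (iv D31718) (iv D29705) (iv F138293)
def n33579 : Q := act 8 n31683
theorem D33579 : act 8 n31683 = n33579 := rfl
theorem F156113 : act 1 n33579 = n31780 := d15_1 D33579 (iv D31780) (iv F147465)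
theorem F156114 : act 3 n33579 = n31686 := d28_1 D33579 (iv D31686) (iv F147466)
theorem F156115 : act 5 n33579 = n32062 := d37_1 D33579 (iv D32062) F140110 (iv F138296) (iv F147467)
theorem F156116 : act 7 n33579 = n31684 := d42_1 D33579 (iv D31684) D31683
def n33580 : Q := act 9 n31684
theorem D33580 : act 9 n31684 = n33580 := rfl
theorem F156117 : act 0 n33580 = n32232 := d8_1 D33580 F155804 F155799
theorem F156118 : act 1 n33580 = n31781 := d16_1 D33580 (iv D31781) (iv F147468)
theorem F156119 : act 3 n33580 = n31687 := d29_1 D33580 (iv D31687) (iv F147469)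
theorem F156120 : act 5 n33580 = n32063 := d38_1 D33580 (iv D32063) (iv F147470)
theorem F156121 : act 6 n33580 = n31720 := d41_1 D33580 (iv D31720) (iv F147471)
def n33581 : Q := act 8 n31685
theorem D33581 : act 8 n31685 = n33581 := rfl
theorem F156122 : act 1 n33581 = n31782 := d15_1 D33581 (iv D31782) (iv F147472)
theorem F156123 : act 2 n33581 = n33581 := d22_1 D33581 (iv D33581) F147473
theorem F156124 : act 6 n33581 = n31686 := d40_1 D33581 (iv D31686) D31685
theorem F156125 : act 7 n33581 = n31721 := d42_1 D33581 (iv D31721) (iv F147474)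
def n33582 : Q := act 9 n31686
theorem D33582 : act 9 n31686 = n33582 := rfl
theorem F156126 : act 0 n33582 = n32291 := d8_1 D33582 F155818 F155812
theorem F156127 : act 1 n33582 = n31783 := d16_1 D33582 (iv D31783) (iv F147475)
theorem F156128 : act 2 n33582 = n33582 := d23_1 D33582 (iv D33582) F147476
theorem F156129 : act 5 n33582 = n32064 := d38_1 D33582 (iv D32064) (iv F147477)
theorem F156130 : act 7 n33582 = n31687 := d43_1 D33582 (iv D31687) (iv F147478)
def n33583 : Q := act 0 n31688
theorem D33583 : act 0 n31688 = n33583 := rfl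
theorem F156131 : act 1 n33583 = n32067 := d0_2 D31688 D33583 F149346 (iv D30216) (iv F138304)
theorem F156132 : act 2 n33583 = n31784 := d1_2 (iv F147484) D33583 (iv D31784)
theorem F156133 : act 3 n33583 = n33583 := d2_2 F147485 D33583 (iv D33583)
theorem F156134 : act 4 n33583 = n32382 := d3_2 (iv F147486) D33583 (iv D32382)
theorem F156135 : act 5 n33583 = n32037 := d4_2 (iv F147487) D33583 F149182
theorem F156136 : act 7 n33583 = n32103 := d6_2 (iv F147488) D33583 F149529
theorem F156137 : act 8 n33583 = n33583 := d7_2 F147489 D33583 (iv D33583)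
theorem F156138 : act 9 n33583 = n32065 := d8_2 (iv F147490) D33583 F149335
def n33584 : Q := act 6 n31688
theorem D33584 : act 6 n31688 = n33584 := rfl
theorem F156139 : act 1 n33584 = n31689 := d13_1 D33584 (iv D31689) D31688
theorem F156140 : act 2 n33584 = n31785 := d20_1 D33584 (iv D31785) (iv F147484)
theorem F156141 : act 3 n33584 = n33584 := d26_1 D33584 (iv D33584) F147485
theorem F156142 : act 4 n33584 = n32383 := d31_1 D33584 (iv D32383) (iv F147486)
theorem F156143 : act 8 n33584 = n33584 := d40_2 F147489 D33584 (iv D33584)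
theorem F156144 : act 9 n33584 = n32114 := d41_2 (iv F147490) D33584 (iv D32114)
def n33585 : Q := act 5 n31689
theorem D33585 : act 5 n31689 = n33585 := rfl
theorem F156145 : act 0 n33585 = n32196 := d4_1 D33585 (iv D32196) (iv F147491)
theorem F156146 : act 2 n33585 = n31690 := d19_1 D33585 (iv D31690) (iv F147492)
theorem F156147 : act 3 n33585 = n33585 := d25_1 D33585 (iv D33585) F147493
theorem F156148 : act 6 n33585 = n31833 := d35_2 D31689 D33585 (iv D31833) F138788 (iv F138307)
theorem F156149 : act 9 n33585 = n32115 := d38_2 (iv F147496) D33585 (iv D32115)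
theorem F156150 : act 8 n32890 = n33585 := d40_0 F156148 F148107 D32890
def n33586 : Q := act 7 n31689
theorem D33586 : act 7 n31689 = n33586 := rfl
theorem F156151 : act 0 n33586 = n32197 := d6_1 D33586 (iv D32197) (iv F147491)
theorem F156152 : act 2 n33586 = n31691 := d21_1 D33586 (iv D31691) (iv F147492)
theorem F156153 : act 3 n33586 = n33586 := d27_1 D33586 (iv D33586) F147493
theorem F156154 : act 4 n33586 = n32385 := d32_1 D33586 (iv D32385) (iv F147494)
theorem F156155 : act 6 n33586 = n32426 := d39_1 D33586 (iv D32426) (iv D30434) (iv F138308) D31689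
theorem F156156 : act 8 n33586 = n33586 := d42_2 F147495 D33586 (iv D33586)
theorem F156157 : act 9 n33586 = n32116 := d43_2 (iv F147496) D33586 (iv D32116)
def n33587 : Q := act 4 n31690
theorem D33587 : act 4 n31690 = n33587 := rfl
theorem F156158 : act 0 n33587 = n32198 := d3_1 D33587 (iv D32198) (iv F147497)
theorem F156159 : act 1 n33587 = n31788 := d11_1 D33587 (iv D31788) (iv F147498)
theorem F156160 : act 3 n33587 = n31696 := d24_1 D33587 (iv D31696) F138343 (iv F138320) (iv F147499)
theorem F156161 : act 5 n33587 = n32386 := d30_2 D31690 D33587 (iv D32386) (iv D30399) (iv F138314)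
theorem F156162 : act 6 n33587 = n32181 := d31_2 (iv F147500) D33587 (iv D32181)
theorem F156163 : act 9 n33587 = n32117 := d34_2 (iv F147501) D33587 (iv D32117)
def n33588 : Q := act 7 n31690
theorem D33588 : act 7 n31690 = n33588 := rfl
theorem F156164 : act 0 n33588 = n32199 := d6_1 D33588 (iv D32199) (iv F147497)
theorem F156165 : act 1 n33588 = n31789 := d14_1 D33588 (iv D31789) (iv F147498)
theorem F156166 : act 3 n33588 = n31692 := d27_1 D33588 (iv D31692) (iv F147499)
theorem F156167 : act 5 n33588 = n31691 := d36_1 D33588 (iv D31691) D31690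
theorem F156168 : act 9 n33588 = n32118 := d43_2 (iv F147501) D33588 (iv D32118)
def n33589 : Q := act 8 n31690
theorem D33589 : act 8 n31690 = n33589 := rfl
theorem F156169 : act 0 n33589 = n32200 := d7_1 D33589 (iv D32200) (iv F147497)
theorem F156170 : act 1 n33589 = n31790 := d15_1 D33589 (iv D31790) (iv F147498)
theorem F156171 : act 2 n33589 = n32890 := d22_1 D33589 F156150 F156146
theorem F156172 : act 3 n33589 = n31693 := d28_1 D33589 (iv D31693) (iv F147499)
theorem F156173 : act 5 n33589 = n33589 := d37_1 D33589 (iv D33589) (iv D31690) F138315 D31690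
theorem F156174 : act 6 n33589 = n32183 := d40_1 D33589 (iv D32183) (iv F147500)
def n33590 : Q := act 6 n31692
theorem D33590 : act 6 n31692 = n33590 := rfl
theorem F156175 : act 0 n33590 = n32201 := d5_1 D33590 (iv D32201) (iv F147509)
theorem F156176 : act 1 n33590 = n31791 := d13_1 D33590 (iv D31791) (iv F147510)
theorem F156177 : act 2 n33590 = n33590 := d20_1 D33590 (iv D33590) F147511
theorem F156178 : act 4 n33590 = n31699 := d31_1 D33590 (iv D31699) (iv F147512)
theorem F156179 : act 5 n33590 = n32430 := d35_1 D33590 (iv D32430) F141665 (iv F138327) (iv F147513)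
theorem F156180 : act 7 n33590 = n32184 := d39_2 D31692 D33590 (iv D32184) (iv D30204) (iv F138321)
theorem F156181 : act 9 n33590 = n32120 := d41_2 (iv F147514) D33590 (iv D32120)
def n33591 : Q := act 8 n31692
theorem D33591 : act 8 n31692 = n33591 := rfl
theorem F156182 : act 0 n33591 = n32202 := d7_1 D33591 (iv D32202) (iv F147509)
theorem F156183 : act 1 n33591 = n31792 := d15_1 D33591 (iv D31792) (iv F147510)
theorem F156184 : act 2 n33591 = n33591 := d22_1 D33591 (iv D33591) F147511
theorem F156185 : act 4 n33591 = n31700 := d33_1 D33591 (iv D31700) (iv F147512)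
theorem F156186 : act 5 n33591 = n33591 := d37_1 D33591 (iv D33591) F147513 F138328 (iv F147513)
theorem F156187 : act 7 n33591 = n31693 := d42_1 D33591 (iv D31693) D31692
def n33592 : Q := act 9 n31693
theorem D33592 : act 9 n31693 = n33592 := rfl
theorem F156188 : act 0 n33592 = n32203 := d8_1 D33592 (iv D32203) (iv F147515)
theorem F156189 : act 1 n33592 = n31793 := d16_1 D33592 (iv D31793) (iv F147516)
theorem F156190 : act 2 n33592 = n33592 := d23_1 D33592 (iv D33592) F147517
theorem F156191 : act 4 n33592 = n31701 := d34_1 D33592 (iv D31701) (iv F147518)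
theorem F156192 : act 5 n33592 = n33592 := d38_1 D33592 (iv D33592) F147519
theorem F156193 : act 6 n33592 = n32186 := d41_1 D33592 (iv D32186) (iv F147520)
theorem F156194 : act 8 n33592 = n32122 := d44_1 D33592 (iv D32122) (iv D30138) (iv F138322) D31693
def n33593 : Q := act 4 n31694
theorem D33593 : act 4 n31694 = n33593 := rfl
theorem F156195 : act 2 n33593 = n31696 := d18_1 D33593 (iv D31696) (iv F147521)
theorem F156196 : act 5 n33593 = n32682 := d30_2 D31694 D33593 (iv D32682) (iv D30686) (iv F138339)
theorem F156197 : act 9 n33593 = n32206 := d34_2 (iv F147523) D33593 (iv D32206)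
def n33594 : Q := act 7 n31694
theorem D33594 : act 7 n31694 = n33594 := rfl
theorem F156198 : act 2 n33594 = n31697 := d21_1 D33594 (iv D31697) (iv F147521)
theorem F156199 : act 3 n33594 = n33594 := d27_1 D33594 (iv D33594) F147522
theorem F156200 : act 5 n33594 = n31695 := d36_1 D33594 (iv D31695) D31694
theorem F156201 : act 9 n33594 = n32207 := d43_2 (iv F147523) D33594 (iv D32207)
def n33595 : Q := act 7 n31696
theorem D33595 : act 7 n31696 = n33595 := rfl
theorem F156202 : act 1 n33595 = n31796 := d14_1 D33595 (iv D31796) (iv F147530)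
theorem F156203 : act 4 n33595 = n31697 := d32_1 D33595 (iv D31697) D31696
theorem F156204 : act 5 n33595 = n32684 := d36_1 D33595 (iv D32684) (iv F147531)
theorem F156205 : act 9 n33595 = n32208 := d43_2 (iv F147532) D33595 (iv D32208)
def n33596 : Q := act 8 n31696
theorem D33596 : act 8 n31696 = n33596 := rfl
theorem F156206 : act 1 n33596 = n31797 := d15_1 D33596 (iv D31797) (iv F147530)
theorem F156207 : act 4 n33596 = n31698 := d33_1 D33596 (iv D31698) D31696
def n33597 : Q := act 6 n31697
theorem D33597 : act 6 n31697 = n33597 := rfl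
theorem F156208 : act 1 n33597 = n31798 := d13_1 D33597 (iv D31798) (iv F147533)
theorem F156209 : act 3 n33597 = n31699 := d26_1 D33597 (iv D31699) (iv F147534)
theorem F156210 : act 5 n33597 = n31718 := d35_1 D33597 (iv D31718) F138400 (iv F138348) (iv F147535)
theorem F156211 : act 9 n33597 = n32210 := d41_2 (iv F147536) D33597 (iv D32210)
def n33598 : Q := act 8 n31697
theorem D33598 : act 8 n31697 = n33598 := rfl
theorem F156212 : act 1 n33598 = n31799 := d15_1 D33598 (iv D31799) (iv F147533)
theorem F156213 : act 3 n33598 = n31700 := d28_1 D33598 (iv D31700) (iv F147534)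
theorem F156214 : act 5 n33598 = n31726 := d37_1 D33598 (iv D31726) F138426 (iv F138349) (iv F147535)
theorem F156215 : act 7 n33598 = n31698 := d42_1 D33598 (iv D31698) D31697
def n33599 : Q := act 9 n31698
theorem D33599 : act 9 n31698 = n33599 := rfl
theorem F156216 : act 1 n33599 = n31800 := d16_1 D33599 (iv D31800) (iv F147537)
theorem F156217 : act 3 n33599 = n31701 := d29_1 D33599 (iv D31701) (iv F147538)
theorem F156218 : act 5 n33599 = n31727 := d38_1 D33599 (iv D31727) (iv F147539)
theorem F156219 : act 8 n33599 = n32212 := d44_1 D33599 (iv D32212) (iv D30227) (iv F138344) D31698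
def n33600 : Q := act 8 n31699
theorem D33600 : act 8 n31699 = n33600 := rfl
theorem F156220 : act 1 n33600 = n31801 := d15_1 D33600 (iv D31801) (iv F147540)
theorem F156221 : act 2 n33600 = n33600 := d22_1 D33600 (iv D33600) F147541
theorem F156222 : act 6 n33600 = n31700 := d40_1 D33600 (iv D31700) D31699
def n33601 : Q := act 9 n31700
theorem D33601 : act 9 n31700 = n33601 := rfl
theorem F156223 : act 1 n33601 = n31802 := d16_1 D33601 (iv D31802) (iv F147544)
theorem F156224 : act 2 n33601 = n33601 := d23_1 D33601 (iv D33601) F147545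
theorem F156225 : act 5 n33601 = n31729 := d38_1 D33601 (iv D31729) (iv F147546)
theorem F156226 : act 7 n33601 = n31701 := d43_1 D33601 (iv D31701) (iv F147547)
theorem F156227 : act 8 n33601 = n32214 := d44_1 D33601 (iv D32214) (iv D30229) (iv F138354) D31700
def n33602 : Q := act 4 n31702
theorem D33602 : act 4 n31702 = n33602 := rfl
theorem F156228 : act 1 n33602 = n32782 := d11_1 D33602 F152019 (iv F147552)
theorem F156229 : act 2 n33602 = n31704 := d18_1 D33602 (iv D31704) (iv F147553)
theorem F156230 : act 5 n33602 = n32672 := d30_2 D31702 D33602 (iv D32672) (iv D30677) (iv F138361)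
theorem F156231 : act 9 n33602 = n31713 := d34_2 (iv F147555) D33602 (iv D31713)
def n33603 : Q := act 7 n31702
theorem D33603 : act 7 n31702 = n33603 := rfl
theorem F156232 : act 1 n33603 = n32796 := d14_1 D33603 F152056 (iv F147552)
theorem F156233 : act 2 n33603 = n31705 := d21_1 D33603 (iv D31705) (iv F147553)
theorem F156234 : act 3 n33603 = n33603 := d27_1 D33603 (iv D33603) F147554
theorem F156235 : act 5 n33603 = n31703 := d36_1 D33603 (iv D31703) D31702
theorem F156236 : act 9 n33603 = n31714 := d43_2 (iv F147555) D33603 (iv D31714)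
def n33604 : Q := act 8 n31702
theorem D33604 : act 8 n31702 = n33604 := rfl
theorem F156237 : act 1 n33604 = n32265 := d15_1 D33604 F150125 (iv F147552)
theorem F156238 : act 2 n33604 = n31706 := d22_1 D33604 (iv D31706) (iv F147553)
theorem F156239 : act 3 n33604 = n33604 := d28_1 D33604 (iv D33604) F147554
theorem F156240 : act 5 n33604 = n31992 := d37_1 D33604 (iv D31992) (iv D29954) (iv F138362) D31702
def n33605 : Q := act 7 n31704
theorem D33605 : act 7 n31704 = n33605 := rfl
theorem F156241 : act 1 n33605 = n31806 := d14_1 D33605 (iv D31806) (iv F147563)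
theorem F156242 : act 4 n33605 = n31705 := d32_1 D33605 (iv D31705) D31704
theorem F156243 : act 5 n33605 = n32674 := d36_1 D33605 (iv D32674) (iv F147564)
theorem F156244 : act 9 n33605 = n31716 := d43_2 (iv F147565) D33605 (iv D31716)
def n33606 : Q := act 8 n31704
theorem D33606 : act 8 n31704 = n33606 := rfl
theorem F156245 : act 1 n33606 = n31807 := d15_1 D33606 (iv D31807) (iv F147563)
theorem F156246 : act 4 n33606 = n31706 := d33_1 D33606 (iv D31706) D31704
def n33607 : Q := act 6 n31705
theorem D33607 : act 6 n31705 = n33607 := rfl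
theorem F156247 : act 1 n33607 = n31808 := d13_1 D33607 (iv D31808) (iv F147566)
theorem F156248 : act 3 n33607 = n31707 := d26_1 D33607 (iv D31707) (iv F147567)
theorem F156249 : act 5 n33607 = n32210 := d35_1 D33607 (iv D32210) F140869 (iv F138370) (iv F147568)
theorem F156250 : act 9 n33607 = n31718 := d41_2 (iv F147569) D33607 (iv D31718)
def n33608 : Q := act 8 n31705
theorem D33608 : act 8 n31705 = n33608 := rfl
theorem F156251 : act 1 n33608 = n31809 := d15_1 D33608 (iv D31809) (iv F147566)
theorem F156252 : act 3 n33608 = n31708 := d28_1 D33608 (iv D31708) (iv F147567)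
theorem F156253 : act 5 n33608 = n31996 := d37_1 D33608 (iv D31996) F139603 (iv F138371) (iv F147568)
theorem F156254 : act 7 n33608 = n31706 := d42_1 D33608 (iv D31706) D31705
def n33609 : Q := act 9 n31706
theorem D33609 : act 9 n31706 = n33609 := rfl
theorem F156255 : act 0 n33609 = n32246 := d8_1 D33609 (iv F155909) F155904
theorem F156256 : act 1 n33609 = n31810 := d16_1 D33609 (iv D31810) (iv F147570)
theorem F156257 : act 3 n33609 = n31709 := d29_1 D33609 (iv D31709) (iv F147571)
theorem F156258 : act 5 n33609 = n31997 := d38_1 D33609 (iv D31997) (iv F147572)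
theorem F156259 : act 8 n33609 = n31720 := d44_1 D33609 (iv D31720) (iv D29706) (iv F138366) D31706
def n33610 : Q := act 8 n31707
theorem D33610 : act 8 n31707 = n33610 := rfl
theorem F156260 : act 1 n33610 = n31811 := d15_1 D33610 (iv D31811) (iv F147573)
theorem F156261 : act 2 n33610 = n33610 := d22_1 D33610 (iv D33610) F147574
theorem F156262 : act 6 n33610 = n31708 := d40_1 D33610 (iv D31708) D31707
def n33611 : Q := act 9 n31708
theorem D33611 : act 9 n31708 = n33611 := rfl
theorem F156263 : act 0 n33611 = n32304 := d8_1 D33611 (iv F155923) F155917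
theorem F156264 : act 1 n33611 = n31812 := d16_1 D33611 (iv D31812) (iv F147577)
theorem F156265 : act 2 n33611 = n33611 := d23_1 D33611 (iv D33611) F147578
theorem F156266 : act 5 n33611 = n31854 := d38_1 D33611 F148202 (iv F147579)
theorem F156267 : act 7 n33611 = n31709 := d43_1 D33611 (iv D31709) (iv F147580)
theorem F156268 : act 8 n33611 = n31722 := d44_1 D33611 (iv D31722) (iv D29708) (iv F138376) D31708
def n33612 : Q := act 5 n31710
theorem D33612 : act 5 n31710 = n33612 := rfl
theorem F156269 : act 0 n33612 = n31711 := d4_1 D33612 (iv D31711) (iv F147586)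
theorem F156270 : act 2 n33612 = n31813 := d19_1 D33612 (iv D31813) (iv F147587)
theorem F156271 : act 3 n33612 = n33612 := d25_1 D33612 (iv D33612) F147588
theorem F156272 : act 9 n33612 = n31846 := d38_2 (iv F147591) D33612 (iv D31846)
def n33613 : Q := act 7 n31710
theorem D33613 : act 7 n31710 = n33613 := rfl
theorem F156273 : act 0 n33613 = n31712 := d6_1 D33613 (iv D31712) (iv F147586)
theorem F156274 : act 2 n33613 = n31740 := d21_1 D33613 F147723 (iv F147587)
theorem F156275 : act 3 n33613 = n33613 := d27_1 D33613 (iv D33613) F147588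
theorem F156276 : act 4 n33613 = n31848 := d32_1 D33613 F148177 (iv F147589)
theorem F156277 : act 6 n33613 = n31736 := d39_1 D33613 F147700 F138473 (iv F138383) D31710
theorem F156278 : act 8 n33613 = n31730 := d42_2 (iv F147590) D33613 (iv D31730)
theorem F156279 : act 9 n33613 = n31845 := d43_2 (iv F147591) D33613 F148165
def n33614 : Q := act 4 n31711
theorem D33614 : act 4 n31711 = n33614 := rfl
theorem F156280 : act 1 n33614 = n31713 := d11_1 D33614 (iv D31713) (iv F147592)
theorem F156281 : act 2 n33614 = n31814 := d18_1 D33614 (iv D31814) (iv F147593)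
theorem F156282 : act 5 n33614 = n32783 := d30_2 D31711 D33614 F152021 F142867 (iv F138389)
theorem F156283 : act 9 n33614 = n32782 := d34_2 (iv F147595) D33614 F152019
def n33615 : Q := act 7 n31711
theorem D33615 : act 7 n31711 = n33615 := rfl
theorem F156284 : act 1 n33615 = n31714 := d14_1 D33615 (iv D31714) (iv F147592)
theorem F156285 : act 2 n33615 = n31815 := d21_1 D33615 (iv D31815) (iv F147593)
theorem F156286 : act 3 n33615 = n33615 := d27_1 D33615 (iv D33615) F147594
theorem F156287 : act 5 n33615 = n31712 := d36_1 D33615 (iv D31712) D31711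
theorem F156288 : act 9 n33615 = n32796 := d43_2 (iv F147595) D33615 F152056
def n33616 : Q := act 8 n31711
theorem D33616 : act 8 n31711 = n33616 := rfl
theorem F156289 : act 1 n33616 = n31715 := d15_1 D33616 (iv D31715) (iv F147592)
theorem F156290 : act 2 n33616 = n31816 := d22_1 D33616 (iv D31816) (iv F147593)
theorem F156291 : act 3 n33616 = n33616 := d28_1 D33616 (iv D33616) F147594
theorem F156292 : act 5 n33616 = n31733 := d37_1 D33616 (iv D31733) (iv D29718) (iv F138390) D31711
def n33617 : Q := act 3 n31713
theorem D33617 : act 3 n31713 = n33617 := rfl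
theorem F156293 : act 4 n33617 = n33617 := d24_2 D31713 D33617 (iv D33617) (iv D31713) F138393
def n33618 : Q := act 7 n31713
theorem D33618 : act 7 n31713 = n33618 := rfl
theorem F156294 : act 2 n33618 = n31716 := d21_1 D33618 (iv D31716) (iv F147602)
theorem F156295 : act 4 n33618 = n31714 := d32_1 D33618 (iv D31714) D31713
def n33619 : Q := act 8 n31713
theorem D33619 : act 8 n31713 = n33619 := rfl
theorem F156296 : act 2 n33619 = n31717 := d22_1 D33619 (iv D31717) (iv F147602)
theorem F156297 : act 4 n33619 = n31715 := d33_1 D33619 (iv D31715) D31713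
def n33620 : Q := act 6 n31714
theorem D33620 : act 6 n31714 = n33620 := rfl
theorem F156298 : act 2 n33620 = n31718 := d20_1 D33620 (iv D31718) (iv F147603)
theorem F156299 : act 3 n33620 = n33620 := d26_1 D33620 (iv D33620) F147604
def n33621 : Q := act 8 n31714
theorem D33621 : act 8 n31714 = n33621 := rfl
theorem F156300 : act 2 n33621 = n31719 := d22_1 D33621 (iv D31719) (iv F147603)
theorem F156301 : act 3 n33621 = n33621 := d28_1 D33621 (iv D33621) F147604
theorem F156302 : act 5 n33621 = n31736 := d37_1 D33621 (iv D31736) F138469 (iv F138396) (iv F147605)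
theorem F156303 : act 7 n33621 = n31715 := d42_1 D33621 (iv D31715) D31714
def n33622 : Q := act 9 n31715
theorem D33622 : act 9 n31715 = n33622 := rfl
theorem F156304 : act 0 n33622 = n32204 := d8_1 D33622 F155950 F155945
theorem F156305 : act 2 n33622 = n31720 := d23_1 D33622 (iv D31720) (iv F147606)
theorem F156306 : act 3 n33622 = n33622 := d29_1 D33622 (iv D33622) F147607
theorem F156307 : act 5 n33622 = n31737 := d38_1 D33622 (iv D31737) (iv F147608)
def n33623 : Q := act 6 n31716
theorem D33623 : act 6 n31716 = n33623 := rfl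
theorem F156308 : act 1 n33623 = n31823 := d13_1 D33623 (iv D31823) (iv F147609)
theorem F156309 : act 4 n33623 = n31718 := d31_1 D33623 (iv D31718) (iv F147610)
def n33624 : Q := act 8 n31716
theorem D33624 : act 8 n31716 = n33624 := rfl
theorem F156310 : act 1 n33624 = n31824 := d15_1 D33624 (iv D31824) (iv F147609)
theorem F156311 : act 4 n33624 = n31719 := d33_1 D33624 (iv D31719) (iv F147610)
theorem F156312 : act 7 n33624 = n31717 := d42_1 D33624 (iv D31717) D31716
def n33625 : Q := act 5 n31717
theorem D33625 : act 5 n31717 = n33625 := rfl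
theorem F156313 : act 0 n33625 = n32759 := d4_1 D33625 F155957 F155954
theorem F156314 : act 1 n33625 = n31825 := d12_1 D33625 (iv D31825) (iv F147611)
theorem F156315 : act 4 n33625 = n31739 := d30_1 D33625 (iv D31739) F138483 (iv F138403) (iv F147612)
theorem F156316 : act 9 n32107 = n33625 := d34_0 F156315 F147717 D32107
def n33626 : Q := act 9 n31717
theorem D33626 : act 9 n31717 = n33626 := rfl
theorem F156317 : act 0 n33626 = n32244 := d8_1 D33626 F155958 F155954
theorem F156318 : act 1 n33626 = n31826 := d16_1 D33626 (iv D31826) (iv F147611)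
theorem F156319 : act 4 n33626 = n31720 := d34_1 D33626 (iv D31720) (iv F147612)
theorem F156320 : act 5 n33626 = n32107 := d38_1 D33626 F156316 (iv D33625)
def n33627 : Q := act 8 n31718
theorem D33627 : act 8 n31718 = n33627 := rfl
theorem F156321 : act 1 n33627 = n31827 := d15_1 D33627 (iv D31827) (iv F147613)
theorem F156322 : act 3 n33627 = n31721 := d28_1 D33627 (iv D31721) (iv F147614)
theorem F156323 : act 6 n33627 = n31719 := d40_1 D33627 (iv D31719) D31718
def n33628 : Q := act 9 n31719
theorem D33628 : act 9 n31719 = n33628 := rfl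
theorem F156324 : act 0 n33628 = n32245 := d8_1 D33628 F155967 F155962
theorem F156325 : act 1 n33628 = n31828 := d16_1 D33628 (iv D31828) (iv F147615)
theorem F156326 : act 3 n33628 = n31722 := d29_1 D33628 (iv D31722) (iv F147616)
theorem F156327 : act 5 n33628 = n31741 := d38_1 D33628 (iv D31741) (iv F147617)
theorem F156328 : act 7 n33628 = n31720 := d43_1 D33628 (iv D31720) (iv F147618)
def n33629 : Q := act 5 n31721
theorem D33629 : act 5 n31721 = n33629 := rfl
theorem F156329 : act 0 n33629 = n31929 := d4_1 D33629 F155972 F155968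
theorem F156330 : act 1 n33629 = n31829 := d12_1 D33629 (iv D31829) (iv F147623)
theorem F156331 : act 2 n33629 = n33629 := d19_1 D33629 (iv D33629) F147624
theorem F156332 : act 6 n33629 = n31742 := d35_2 (iv F147625) D33629 (iv D31742) F138505 (iv F138408)
theorem F156333 : act 9 n31855 = n33629 := d41_0 F156332 F147736 D31855
def n33630 : Q := act 9 n31721
theorem D33630 : act 9 n31721 = n33630 := rfl
theorem F156334 : act 0 n33630 = n32303 := d8_1 D33630 F155973 F155968
theorem F156335 : act 1 n33630 = n31830 := d16_1 D33630 (iv D31830) (iv F147623)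
theorem F156336 : act 2 n33630 = n33630 := d23_1 D33630 (iv D33630) F147624
theorem F156337 : act 5 n33630 = n31855 := d38_1 D33630 F156333 (iv D33629)
theorem F156338 : act 6 n33630 = n31722 := d41_1 D33630 (iv D31722) (iv F147625)
def n33631 : Q := act 6 n31723
theorem D33631 : act 6 n31723 = n33631 := rfl
theorem F156339 : act 0 n33631 = n31840 := d5_1 D33631 (iv F155996) F155990
theorem F156340 : act 1 n33631 = n31831 := d13_1 D33631 (iv D31831) (iv F147631)
theorem F156341 : act 2 n33631 = n32001 := d20_1 D33631 (iv F153380) F153376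
theorem F156342 : act 3 n33631 = n33631 := d26_1 D33631 (iv D33631) F147632
theorem F156343 : act 4 n33631 = n31725 := d31_1 D33631 (iv D31725) (iv F147633)
theorem F156344 : act 7 n33631 = n31838 := d39_2 D31723 D33631 F148133 F139450 (iv F138422)
theorem F156345 : act 9 n33631 = n31982 := d41_2 (iv F147635) D33631 F148851
theorem F156346 : act 5 n32016 = n33631 := d38_3 F156345 F148850 D32016
def n33632 : Q := act 8 n31723
theorem D33632 : act 8 n31723 = n33632 := rfl
theorem F156347 : act 1 n33632 = n31832 := d15_1 D33632 (iv D31832) (iv F147631)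
theorem F156348 : act 3 n33632 = n33632 := d28_1 D33632 (iv D33632) F147632
theorem F156349 : act 4 n33632 = n31726 := d33_1 D33632 (iv D31726) (iv F147633)
theorem F156350 : act 7 n33632 = n31724 := d42_1 D33632 (iv D31724) D31723
def n33633 : Q := act 5 n31724
theorem D33633 : act 5 n31724 = n33633 := rfl
theorem F156351 : act 1 n33633 = n31833 := d12_1 D33633 (iv D31833) (iv F147636)
theorem F156352 : act 3 n33633 = n33633 := d25_1 D33633 (iv D33633) F147637
theorem F156353 : act 8 n33633 = n32880 := d37_2 D31724 D33633 (iv D32880) (iv D30892) (iv F138421)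
def n33634 : Q := act 8 n31725
theorem D33634 : act 8 n31725 = n33634 := rfl
theorem F156354 : act 0 n33634 = n31842 := d7_1 D33634 (iv D31842) (iv F147640)
theorem F156355 : act 1 n33634 = n31834 := d15_1 D33634 (iv D31834) (iv F147641)
theorem F156356 : act 3 n33634 = n31728 := d28_1 D33634 (iv D31728) (iv F147642)
theorem F156357 : act 6 n33634 = n31726 := d40_1 D33634 (iv D31726) D31725
theorem F156358 : act 7 n33634 = n31839 := d42_1 D33634 (iv D31839) (iv F147644)
def n33635 : Q := act 9 n31726
theorem D33635 : act 9 n31726 = n33635 := rfl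
theorem F156359 : act 1 n33635 = n31835 := d16_1 D33635 (iv D31835) (iv F147646)
theorem F156360 : act 3 n33635 = n31729 := d29_1 D33635 (iv D31729) (iv F147647)
theorem F156361 : act 7 n33635 = n31727 := d43_1 D33635 (iv D31727) (iv F147648)
theorem F156362 : act 8 n33635 = n32001 := d44_1 D33635 (iv D32001) (iv D29969) (iv F138427) D31726
def n33636 : Q := act 5 n31728
theorem D33636 : act 5 n31728 = n33636 := rfl
theorem F156363 : act 0 n33636 = n31930 := d4_1 D33636 F148576 (iv F147653)
theorem F156364 : act 1 n33636 = n31836 := d12_1 D33636 (iv D31836) (iv F147654)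
theorem F156365 : act 2 n33636 = n33636 := d19_1 D33636 (iv D33636) F147655
theorem F156366 : act 7 n33636 = n31858 := d36_2 (iv F147658) D33636 F148217
theorem F156367 : act 8 n33636 = n31742 := d37_2 D31728 D33636 (iv D31742) (iv D29728) (iv F138435)
def n33637 : Q := act 7 n31731
theorem D33637 : act 7 n31731 = n33637 := rfl
theorem F156368 : act 0 n33637 = n32001 := d6_1 D33637 F148971 (iv F147670)
theorem F156369 : act 1 n33637 = n31734 := d14_1 D33637 (iv D31734) (iv F147671)
theorem F156370 : act 2 n33637 = n31840 := d21_1 D33637 (iv D31840) (iv F147672)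
theorem F156371 : act 3 n33637 = n31990 := d27_1 D33637 F148913 F147676
theorem F156372 : act 4 n33637 = n31732 := d32_1 D33637 (iv D31732) D31731
theorem F156373 : act 5 n33637 = n32334 := d36_1 D33637 F150371 (iv F147673)
theorem F156374 : act 6 n33637 = n32018 := d39_1 D33637 F149066 F139813 (iv F140187) (iv F147674)
theorem F156375 : act 9 n33637 = n31989 := d43_2 (iv F147675) D33637 F148906
def n33638 : Q := act 8 n31732
theorem D33638 : act 8 n31732 = n33638 := rfl
theorem F156376 : act 1 n33638 = n31736 := d15_1 D33638 (iv D31736) (iv F147677)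
theorem F156377 : act 2 n33638 = n31842 := d22_1 D33638 (iv D31842) (iv F147678)
theorem F156378 : act 3 n33638 = n33638 := d28_1 D33638 (iv D33638) F147679
theorem F156379 : act 7 n33638 = n31733 := d42_1 D33638 (iv D31733) D31732
def n33639 : Q := act 8 n31734
theorem D33639 : act 8 n31734 = n33639 := rfl
theorem F156380 : act 0 n33639 = n32681 := d7_1 D33639 F151738 (iv F147686)
theorem F156381 : act 2 n33639 = n31738 := d22_1 D33639 (iv D31738) (iv F147687)
theorem F156382 : act 3 n33639 = n31949 := d28_1 D33639 F148658 (iv F147688)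
theorem F156383 : act 4 n33639 = n31736 := d33_1 D33639 (iv D31736) (iv F147689)
theorem F156384 : act 6 n33639 = n31848 := d40_1 D33639 F148178 (iv F147690)
theorem F156385 : act 7 n33639 = n31735 := d42_1 D33639 (iv D31735) D31734
theorem F156386 : act 9 n33639 = n31847 := d44_2 (iv F147691) D33639 (iv D31847) F138846 (iv F139685)
def n33640 : Q := act 5 n31735
theorem D33640 : act 5 n31735 = n33640 := rfl
theorem F156387 : act 0 n33640 = n32678 := d4_1 D33640 F151725 (iv F147692)
theorem F156388 : act 2 n33640 = n31739 := d19_1 D33640 (iv D31739) (iv F147693)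
theorem F156389 : act 3 n33640 = n32113 := d25_1 D33640 F149575 (iv F147694)
theorem F156390 : act 6 n33640 = n32150 := d35_2 (iv F147696) D33640 F149718 F149378 (iv D32071)
theorem F156391 : act 9 n33640 = n32105 := d38_2 (iv F147697) D33640 (iv D32105)
def n33641 : Q := act 9 n31736
theorem D33641 : act 9 n31736 = n33641 := rfl
theorem F156392 : act 0 n33641 = n32205 := d8_1 D33641 (iv F156031) F156024
theorem F156393 : act 2 n33641 = n31741 := d23_1 D33641 (iv D31741) (iv F147698)
theorem F156394 : act 3 n33641 = n33641 := d29_1 D33641 (iv D33641) F147699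
theorem F156395 : act 4 n33641 = n31847 := d34_1 D33641 (iv F156386) F156383
theorem F156396 : act 6 n33641 = n31845 := d41_1 D33641 (iv F156279) F156277
theorem F156397 : act 7 n33641 = n31737 := d43_1 D33641 (iv D31737) (iv F147700)
theorem F156398 : act 8 n33641 = n31844 := d44_1 D33641 F148160 (iv D29975) (iv F138470) D31736
def n33642 : Q := act 5 n31738
theorem D33642 : act 5 n31738 = n33642 := rfl
theorem F156399 : act 0 n33642 = n32760 := d4_1 D33642 F151964 (iv F147707)
theorem F156400 : act 1 n33642 = n31850 := d12_1 D33642 (iv D31850) (iv F147708)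
theorem F156401 : act 3 n33642 = n31743 := d25_1 D33642 (iv D31743) (iv F147709)
theorem F156402 : act 7 n33642 = n31739 := d36_2 (iv F147712) D33642 (iv D31739)
theorem F156403 : act 9 n33642 = n31852 := d38_2 (iv F147713) D33642 (iv D31852)
def n33643 : Q := act 6 n31739
theorem D33643 : act 6 n31739 = n33643 := rfl
theorem F156404 : act 0 n33643 = n32718 := d5_1 D33643 F151843 (iv F147714)
theorem F156405 : act 1 n33643 = n31851 := d13_1 D33643 (iv D31851) (iv F147715)
theorem F156406 : act 2 n33643 = n32150 := d20_1 D33643 (iv F156390) F156388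
theorem F156407 : act 3 n33643 = n31744 := d26_1 D33643 (iv D31744) (iv F147716)
theorem F156408 : act 5 n33643 = n32072 := d35_1 D33643 (iv D32072) (iv D30071) (iv F138484) D31739
theorem F156409 : act 9 n33643 = n32099 := d41_2 (iv F147717) D33643 F149512
def n33644 : Q := act 5 n31740
theorem D33644 : act 5 n31740 = n33644 := rfl
theorem F156410 : act 0 n33644 = n31815 := d4_1 D33644 F148046 (iv F147718)
theorem F156411 : act 1 n33644 = n31852 := d12_1 D33644 (iv D31852) (iv F147719)
theorem F156412 : act 3 n33644 = n31742 := d25_1 D33644 (iv D31742) (iv F147720)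
theorem F156413 : act 7 n33644 = n31813 := d36_2 (iv F147723) D33644 (iv D31813)
theorem F156414 : act 9 n33644 = n31850 := d38_2 (iv F147724) D33644 (iv D31850)
def n33645 : Q := act 6 n31743
theorem D33645 : act 6 n31743 = n33645 := rfl
theorem F156415 : act 0 n33645 = n32793 := d5_1 D33645 F152044 (iv F147737)
theorem F156416 : act 1 n33645 = n31855 := d13_1 D33645 (iv D31855) (iv F147738)
theorem F156417 : act 2 n33645 = n31945 := d20_1 D33645 F148636 (iv F147739)
theorem F156418 : act 5 n33645 = n31830 := d35_1 D33645 F148092 F138776 (iv F138519) D31743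
theorem F156419 : act 9 n33645 = n31829 := d41_2 (iv F147741) D33645 F148089
def n33646 : Q := act 7 n31744
theorem D33646 : act 7 n31744 = n33646 := rfl
theorem F156420 : act 0 n33646 = n32804 := d6_1 D33646 (iv D32804) (iv F147742)
theorem F156421 : act 1 n33646 = n31856 := d14_1 D33646 (iv D31856) (iv F147743)
theorem F156422 : act 2 n33646 = n32112 := d21_1 D33646 F149571 (iv F147744)
theorem F156423 : act 5 n33646 = n32073 := d36_1 D33646 (iv D32073) (iv F147745)
theorem F156424 : act 9 n33646 = n32096 := d43_2 (iv F147746) D33646 F149498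
def n33647 : Q := act 6 n31745
theorem D33647 : act 6 n31745 = n33647 := rfl
theorem F156425 : act 0 n33647 = n31746 := d5_1 D33647 (iv D31746) D31745
theorem F156426 : act 1 n33647 = n32097 := d13_1 D33647 F149504 (iv F147747)
theorem F156427 : act 3 n33647 = n33647 := d26_1 D33647 (iv D33647) F147748
theorem F156428 : act 4 n33647 = n31771 := d31_1 D33647 (iv D31771) (iv F147749)
theorem F156429 : act 8 n33647 = n32068 := d40_2 (iv F147752) D33647 (iv D32068)
theorem F156430 : act 9 n33647 = n32098 := d41_2 (iv F147753) D33647 (iv D32098)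
def n33648 : Q := act 5 n31746
theorem D33648 : act 5 n31746 = n33648 := rfl
theorem F156431 : act 1 n33648 = n31747 := d12_1 D33648 (iv D31747) (iv F147754)
theorem F156432 : act 3 n33648 = n33648 := d25_1 D33648 (iv D33648) F147755
theorem F156433 : act 6 n33648 = n32918 := d35_2 D31746 D33648 F152475 F143453 (iv F138528)
theorem F156434 : act 9 n33648 = n32917 := d38_2 (iv F147758) D33648 F152473
def n33649 : Q := act 7 n31746
theorem D33649 : act 7 n31746 = n33649 := rfl
theorem F156435 : act 1 n33649 = n31748 := d14_1 D33649 (iv D31748) (iv F147754)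
theorem F156436 : act 3 n33649 = n33649 := d27_1 D33649 (iv D33649) F147755
theorem F156437 : act 4 n33649 = n31773 := d32_1 D33649 (iv D31773) (iv F147756)
theorem F156438 : act 8 n33649 = n32075 := d42_2 (iv F147757) D33649 (iv D32075)
theorem F156439 : act 9 n33649 = n32919 := d43_2 (iv F147758) D33649 (iv D32919)
def n33650 : Q := act 4 n31747
theorem D33650 : act 4 n31747 = n33650 := rfl
theorem F156440 : act 0 n33650 = n32705 := d3_1 D33650 (iv D32705) (iv F147759)
theorem F156441 : act 2 n33650 = n31749 := d18_1 D33650 (iv D31749) (iv F147760)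
theorem F156442 : act 5 n33650 = n31774 := d30_2 D31747 D33650 (iv D31774) (iv D29751) (iv F138534)
def n33651 : Q := act 7 n31747
theorem D33651 : act 7 n31747 = n33651 := rfl
theorem F156443 : act 0 n33651 = n32706 := d6_1 D33651 (iv D32706) (iv F147759)
theorem F156444 : act 2 n33651 = n31750 := d21_1 D33651 (iv D31750) (iv F147760)
theorem F156445 : act 3 n33651 = n33651 := d27_1 D33651 (iv D33651) F147761
theorem F156446 : act 5 n33651 = n31748 := d36_1 D33651 (iv D31748) D31747
def n33652 : Q := act 8 n31747
theorem D33652 : act 8 n31747 = n33652 := rfl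
theorem F156447 : act 0 n33652 = n32707 := d7_1 D33652 (iv D32707) (iv F147759)
theorem F156448 : act 2 n33652 = n31751 := d22_1 D33652 (iv D31751) (iv F147760)
theorem F156449 : act 3 n33652 = n33652 := d28_1 D33652 (iv D33652) F147761
theorem F156450 : act 5 n33652 = n32077 := d37_1 D33652 (iv D32077) (iv D30074) (iv F138535) D31747
def n33653 : Q := act 7 n31749
theorem D33653 : act 7 n31749 = n33653 := rfl
theorem F156451 : act 0 n33653 = n32708 := d6_1 D33653 (iv D32708) (iv F147767)
theorem F156452 : act 4 n33653 = n31750 := d32_1 D33653 (iv D31750) D31749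
theorem F156453 : act 5 n33653 = n31777 := d36_1 D33653 (iv D31777) (iv F147768)
def n33654 : Q := act 8 n31749
theorem D33654 : act 8 n31749 = n33654 := rfl
theorem F156454 : act 0 n33654 = n32709 := d7_1 D33654 (iv D32709) (iv F147767)
theorem F156455 : act 4 n33654 = n31751 := d33_1 D33654 (iv D31751) D31749
def n33655 : Q := act 6 n31750
theorem D33655 : act 6 n31750 = n33655 := rfl
theorem F156456 : act 0 n33655 = n32710 := d5_1 D33655 (iv D32710) (iv F147769)
theorem F156457 : act 3 n33655 = n31752 := d26_1 D33655 (iv D31752) (iv F147770)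
def n33656 : Q := act 8 n31750
theorem D33656 : act 8 n31750 = n33656 := rfl
theorem F156458 : act 0 n33656 = n32711 := d7_1 D33656 (iv D32711) (iv F147769)
theorem F156459 : act 3 n33656 = n31753 := d28_1 D33656 (iv D31753) (iv F147770)
theorem F156460 : act 5 n33656 = n32081 := d37_1 D33656 (iv D32081) F140238 (iv F138541) (iv F147771)
theorem F156461 : act 7 n33656 = n31751 := d42_1 D33656 (iv D31751) D31750
def n33657 : Q := act 9 n31751
theorem D33657 : act 9 n31751 = n33657 := rfl
theorem F156462 : act 0 n33657 = n32712 := d8_1 D33657 (iv D32712) (iv F147772)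
theorem F156463 : act 3 n33657 = n31754 := d29_1 D33657 (iv D31754) (iv F147773)
theorem F156464 : act 5 n33657 = n32082 := d38_1 D33657 (iv D32082) (iv F147774)
def n33658 : Q := act 8 n31752
theorem D33658 : act 8 n31752 = n33658 := rfl
theorem F156465 : act 0 n33658 = n32713 := d7_1 D33658 (iv D32713) (iv F147775)
theorem F156466 : act 2 n33658 = n33658 := d22_1 D33658 (iv D33658) F147776
theorem F156467 : act 6 n33658 = n31753 := d40_1 D33658 (iv D31753) D31752
def n33659 : Q := act 9 n31753
theorem D33659 : act 9 n31753 = n33659 := rfl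
theorem F156468 : act 0 n33659 = n32714 := d8_1 D33659 (iv D32714) (iv F147777)
theorem F156469 : act 2 n33659 = n33659 := d23_1 D33659 (iv D33659) F147778
theorem F156470 : act 5 n33659 = n32084 := d38_1 D33659 (iv D32084) (iv F147779)
theorem F156471 : act 7 n33659 = n31754 := d43_1 D33659 (iv D31754) (iv F147780)
def n33660 : Q := act 7 n31755
theorem D33660 : act 7 n31755 = n33660 := rfl
theorem F156472 : act 0 n33660 = n32062 := d6_1 D33660 F149322 (iv F147784)
theorem F156473 : act 1 n33660 = n31757 := d14_1 D33660 (iv D31757) (iv F147785)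
theorem F156474 : act 3 n33660 = n31864 := d27_1 D33660 (iv D31864) (iv F147786)
theorem F156475 : act 6 n33660 = n31773 := d39_1 D33660 (iv D31773) (iv D29750) (iv F138551) D31755
theorem F156476 : act 8 n33660 = n32035 := d42_2 (iv F147787) D33660 (iv D32035)
theorem F156477 : act 9 n33660 = n32233 := d43_2 (iv F147788) D33660 (iv D32233)
def n33661 : Q := act 4 n31756
theorem D33661 : act 4 n31756 = n33661 := rfl
theorem F156478 : act 0 n33661 = n32668 := d3_1 D33661 F151686 (iv F147789)
theorem F156479 : act 2 n33661 = n31758 := d18_1 D33661 (iv D31758) (iv F147790)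
theorem F156480 : act 6 n33661 = n31794 := d31_2 (iv F147792) D33661 (iv D31794)
theorem F156481 : act 8 n33661 = n32139 := d33_2 (iv F147793) D33661 (iv D32139)
theorem F156482 : act 9 n33661 = n32234 := d34_2 (iv F147794) D33661 (iv D32234)
def n33662 : Q := act 7 n31756
theorem D33662 : act 7 n31756 = n33662 := rfl
theorem F156483 : act 0 n33662 = n32670 := d6_1 D33662 F151695 (iv F147789)
theorem F156484 : act 2 n33662 = n31759 := d21_1 D33662 (iv D31759) (iv F147790)
theorem F156485 : act 3 n33662 = n31865 := d27_1 D33662 (iv D31865) (iv F147791)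
theorem F156486 : act 5 n33662 = n31757 := d36_1 D33662 (iv D31757) D31756
theorem F156487 : act 8 n33662 = n32140 := d42_2 (iv F147793) D33662 (iv D32140)
theorem F156488 : act 9 n33662 = n32235 := d43_2 (iv F147794) D33662 (iv D32235)
def n33663 : Q := act 7 n31758
theorem D33663 : act 7 n31758 = n33663 := rfl
theorem F156489 : act 0 n33663 = n32715 := d6_1 D33663 (iv D32715) (iv F147801)
theorem F156490 : act 4 n33663 = n31759 := d32_1 D33663 (iv D31759) D31758
theorem F156491 : act 9 n33663 = n32237 := d43_2 (iv F147803) D33663 (iv D32237)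
def n33664 : Q := act 8 n31758
theorem D33664 : act 8 n31758 = n33664 := rfl
theorem F156492 : act 0 n33664 = n32665 := d7_1 D33664 F151677 (iv F147801)
theorem F156493 : act 2 n33664 = n32139 := d22_1 D33664 (iv F156481) F156479
theorem F156494 : act 4 n33664 = n31760 := d33_1 D33664 (iv D31760) D31758
theorem F156495 : act 6 n33664 = n31797 := d40_1 D33664 (iv D31797) (iv F147802)
theorem F156496 : act 5 n32454 = n33664 := d30_0 F156494 F147811 F140273 D30457 D32454
def n33665 : Q := act 6 n31759
theorem D33665 : act 6 n31759 = n33665 := rfl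
theorem F156497 : act 0 n33665 = n32716 := d5_1 D33665 (iv D32716) (iv F147804)
theorem F156498 : act 3 n33665 = n31761 := d26_1 D33665 (iv D31761) (iv F147805)
theorem F156499 : act 5 n33665 = n31779 := d35_1 D33665 (iv D31779) F138621 (iv F138565) (iv F147806)
theorem F156500 : act 7 n33665 = n31798 := d39_2 D31759 D33665 (iv D31798) (iv D29768) (iv F138561)
theorem F156501 : act 9 n33665 = n32239 := d41_2 (iv F147807) D33665 (iv D32239)
def n33666 : Q := act 8 n31759
theorem D33666 : act 8 n31759 = n33666 := rfl
theorem F156502 : act 0 n33666 = n32666 := d7_1 D33666 F151681 (iv F147804)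
theorem F156503 : act 2 n33666 = n32140 := d22_1 D33666 (iv F156487) F156484
theorem F156504 : act 3 n33666 = n31762 := d28_1 D33666 (iv D31762) (iv F147805)
theorem F156505 : act 5 n33666 = n32085 := d37_1 D33666 (iv D32085) F140267 (iv F138566) (iv F147806)
theorem F156506 : act 7 n33666 = n31760 := d42_1 D33666 (iv D31760) D31759
def n33667 : Q := act 8 n31761
theorem D33667 : act 8 n31761 = n33667 := rfl
theorem F156507 : act 0 n33667 = n32717 := d7_1 D33667 (iv D32717) (iv F147813)
theorem F156508 : act 2 n33667 = n31867 := d22_1 D33667 (iv D31867) (iv F147814)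
theorem F156509 : act 6 n33667 = n31762 := d40_1 D33667 (iv D31762) D31761
theorem F156510 : act 7 n33667 = n31801 := d42_1 D33667 (iv D31801) (iv F147816)
theorem F156511 : act 5 n32167 = n33667 := d35_5 F156509 F147820 F140278 (iv F140700) D32167
def n33668 : Q := act 4 n31763
theorem D33668 : act 4 n31763 = n33668 := rfl
theorem F156512 : act 0 n33668 = n32720 := d3_1 D33668 (iv D32720) (iv F147822)
theorem F156513 : act 1 n33668 = n32790 := d11_1 D33668 F152035 (iv F147823)
theorem F156514 : act 2 n33668 = n31765 := d18_1 D33668 (iv D31765) (iv F147824)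
theorem F156515 : act 6 n33668 = n31803 := d31_2 (iv F147826) D33668 (iv D31803)
theorem F156516 : act 9 n33668 = n31774 := d34_2 (iv F147827) D33668 (iv D31774)
def n33669 : Q := act 7 n31763
theorem D33669 : act 7 n31763 = n33669 := rfl
theorem F156517 : act 0 n33669 = n32721 := d6_1 D33669 (iv D32721) (iv F147822)
theorem F156518 : act 1 n33669 = n32799 := d14_1 D33669 (iv D32799) (iv F147823)
theorem F156519 : act 2 n33669 = n31766 := d21_1 D33669 (iv D31766) (iv F147824)
theorem F156520 : act 3 n33669 = n31869 := d27_1 D33669 (iv D31869) (iv F147825)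
theorem F156521 : act 5 n33669 = n31764 := d36_1 D33669 (iv D31764) D31763
theorem F156522 : act 9 n33669 = n31775 := d43_2 (iv F147827) D33669 (iv D31775)
def n33670 : Q := act 8 n31763
theorem D33670 : act 8 n31763 = n33670 := rfl
theorem F156523 : act 0 n33670 = n32722 := d7_1 D33670 (iv D32722) (iv F147822)
theorem F156524 : act 1 n33670 = n32272 := d15_1 D33670 F150154 (iv F147823)
theorem F156525 : act 2 n33670 = n31767 := d22_1 D33670 (iv D31767) (iv F147824)
theorem F156526 : act 3 n33670 = n31870 := d28_1 D33670 (iv D31870) (iv F147825)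
theorem F156527 : act 5 n33670 = n33670 := d37_1 D33670 (iv D33670) (iv D31763) F138580 D31763
theorem F156528 : act 6 n33670 = n31805 := d40_1 D33670 (iv D31805) (iv F147826)
def n33671 : Q := act 7 n31765
theorem D33671 : act 7 n31765 = n33671 := rfl
theorem F156529 : act 0 n33671 = n32723 := d6_1 D33671 (iv D32723) (iv F147835)
theorem F156530 : act 4 n33671 = n31766 := d32_1 D33671 (iv D31766) D31765
theorem F156531 : act 9 n33671 = n31777 := d43_2 (iv F147837) D33671 (iv D31777)
def n33672 : Q := act 8 n31765
theorem D33672 : act 8 n31765 = n33672 := rfl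
theorem F156532 : act 0 n33672 = n32724 := d7_1 D33672 (iv D32724) (iv F147835)
theorem F156533 : act 4 n33672 = n31767 := d33_1 D33672 (iv D31767) D31765
theorem F156534 : act 6 n33672 = n31807 := d40_1 D33672 (iv D31807) (iv F147836)
def n33673 : Q := act 6 n31766
theorem D33673 : act 6 n31766 = n33673 := rfl
theorem F156535 : act 0 n33673 = n32725 := d5_1 D33673 (iv D32725) (iv F147838)
theorem F156536 : act 3 n33673 = n31768 := d26_1 D33673 (iv D31768) (iv F147839)
theorem F156537 : act 5 n33673 = n32239 := d35_1 D33673 (iv D32239) F140956 (iv F138588) (iv F147840)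
theorem F156538 : act 7 n33673 = n31808 := d39_2 D31766 D33673 (iv D31808) (iv D29776) (iv F138584)
theorem F156539 : act 9 n33673 = n31779 := d41_2 (iv F147841) D33673 (iv D31779)
def n33674 : Q := act 8 n31766
theorem D33674 : act 8 n31766 = n33674 := rfl
theorem F156540 : act 0 n33674 = n32726 := d7_1 D33674 (iv D32726) (iv F147838)
theorem F156541 : act 3 n33674 = n31769 := d28_1 D33674 (iv D31769) (iv F147839)
theorem F156542 : act 5 n33674 = n33674 := d37_1 D33674 (iv D33674) F147840 F138589 (iv F147840)
theorem F156543 : act 7 n33674 = n31767 := d42_1 D33674 (iv D31767) D31766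
def n33675 : Q := act 9 n31767
theorem D33675 : act 9 n31767 = n33675 := rfl
theorem F156544 : act 0 n33675 = n32727 := d8_1 D33675 (iv D32727) (iv F147842)
theorem F156545 : act 3 n33675 = n31770 := d29_1 D33675 (iv D31770) (iv F147843)
theorem F156546 : act 5 n33675 = n33675 := d38_1 D33675 (iv D33675) F147844
theorem F156547 : act 6 n33675 = n31810 := d41_1 D33675 (iv D31810) (iv F147845)
theorem F156548 : act 8 n33675 = n31781 := d44_1 D33675 (iv D31781) (iv D29755) (iv F138585) D31767
def n33676 : Q := act 8 n31768
theorem D33676 : act 8 n31768 = n33676 := rfl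
theorem F156549 : act 0 n33676 = n32728 := d7_1 D33676 (iv D32728) (iv F147846)
theorem F156550 : act 2 n33676 = n31876 := d22_1 D33676 (iv D31876) (iv F147847)
theorem F156551 : act 6 n33676 = n31769 := d40_1 D33676 (iv D31769) D31768
theorem F156552 : act 7 n33676 = n31811 := d42_1 D33676 (iv D31811) (iv F147849)
def n33677 : Q := act 9 n31769
theorem D33677 : act 9 n31769 = n33677 := rfl
theorem F156553 : act 0 n33677 = n32729 := d8_1 D33677 (iv D32729) (iv F147851)
theorem F156554 : act 2 n33677 = n31877 := d23_1 D33677 (iv D31877) (iv F147852)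
theorem F156555 : act 5 n33677 = n33677 := d38_1 D33677 (iv D33677) F147853
theorem F156556 : act 7 n33677 = n31770 := d43_1 D33677 (iv D31770) (iv F147854)
theorem F156557 : act 8 n33677 = n31783 := d44_1 D33677 (iv D31783) (iv D29757) (iv F138594) D31769
def n33678 : Q := act 5 n31771
theorem D33678 : act 5 n31771 = n33678 := rfl
theorem F156558 : act 0 n33678 = n31772 := d4_1 D33678 (iv D31772) (iv F147860)
theorem F156559 : act 1 n33678 = n32099 := d12_1 D33678 (iv D32099) (iv F147861)
theorem F156560 : act 3 n33678 = n31857 := d25_1 D33678 F148211 (iv F147862)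
theorem F156561 : act 6 n33678 = n31813 := d35_2 D31771 D33678 (iv D31813) (iv D29781) (iv F138601)
theorem F156562 : act 8 n33678 = n32142 := d37_2 (iv F147863) D33678 (iv D32142) F140620 (iv F140164)
theorem F156563 : act 9 n33678 = n31851 := d38_2 (iv F147864) D33678 F148189
def n33679 : Q := act 7 n31771
theorem D33679 : act 7 n31771 = n33679 := rfl
theorem F156564 : act 0 n33679 = n31773 := d6_1 D33679 (iv D31773) (iv F147860)
theorem F156565 : act 1 n33679 = n32094 := d14_1 D33679 F149491 (iv F147861)
theorem F156566 : act 3 n33679 = n31878 := d27_1 D33679 (iv D31878) (iv F147862)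
theorem F156567 : act 6 n33679 = n32062 := d39_1 D33679 F149322 F140114 (iv F138602) D31771
theorem F156568 : act 8 n33679 = n32061 := d42_2 (iv F147863) D33679 F149318
theorem F156569 : act 9 n33679 = n32106 := d43_2 (iv F147864) D33679 (iv D32106)
def n33680 : Q := act 4 n31772
theorem D33680 : act 4 n31772 = n33680 := rfl
theorem F156570 : act 1 n33680 = n31774 := d11_1 D33680 (iv D31774) (iv F147865)
theorem F156571 : act 6 n33680 = n31814 := d31_2 (iv F147867) D33680 (iv D31814)
theorem F156572 : act 9 n33680 = n32790 := d34_2 (iv F147868) D33680 F152035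
def n33681 : Q := act 7 n31772
theorem D33681 : act 7 n31772 = n33681 := rfl
theorem F156573 : act 1 n33681 = n31775 := d14_1 D33681 (iv D31775) (iv F147865)
theorem F156574 : act 3 n33681 = n31880 := d27_1 D33681 (iv D31880) (iv F147866)
theorem F156575 : act 5 n33681 = n31773 := d36_1 D33681 (iv D31773) D31772
theorem F156576 : act 9 n33681 = n32799 := d43_2 (iv F147868) D33681 (iv D32799)
def n33682 : Q := act 8 n31772
theorem D33682 : act 8 n31772 = n33682 := rfl
theorem F156577 : act 0 n33682 = n32142 := d7_1 D33682 (iv F156562) F156558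
theorem F156578 : act 1 n33682 = n31776 := d15_1 D33682 (iv D31776) (iv F147865)
theorem F156579 : act 3 n33682 = n31881 := d28_1 D33682 (iv D31881) (iv F147866)
theorem F156580 : act 5 n33682 = n32087 := d37_1 D33682 (iv D32087) (iv D30086) (iv F138607) D31772
theorem F156581 : act 6 n33682 = n31816 := d40_1 D33682 (iv D31816) (iv F147867)
def n33683 : Q := act 3 n31774
theorem D33683 : act 3 n31774 = n33683 := rfl
theorem F156582 : act 0 n33683 = n32732 := d2_1 D33683 (iv D32732) (iv F147873)
theorem F156583 : act 4 n33683 = n31882 := d24_2 D31774 D33683 (iv D31882) (iv D29844) (iv F138611)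
theorem F156584 : act 6 n33683 = n31817 := d26_2 (iv F147875) D33683 (iv D31817)
def n33684 : Q := act 7 n31774
theorem D33684 : act 7 n31774 = n33684 := rfl
theorem F156585 : act 0 n33684 = n32733 := d6_1 D33684 (iv D32733) (iv F147873)
theorem F156586 : act 2 n33684 = n31777 := d21_1 D33684 (iv D31777) (iv F147874)
theorem F156587 : act 4 n33684 = n31775 := d32_1 D33684 (iv D31775) D31774
def n33685 : Q := act 8 n31774
theorem D33685 : act 8 n31774 = n33685 := rfl
theorem F156588 : act 0 n33685 = n32734 := d7_1 D33685 (iv D32734) (iv F147873)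
theorem F156589 : act 2 n33685 = n31778 := d22_1 D33685 (iv D31778) (iv F147874)
theorem F156590 : act 4 n33685 = n31776 := d33_1 D33685 (iv D31776) D31774
theorem F156591 : act 6 n33685 = n31819 := d40_1 D33685 (iv D31819) (iv F147875)
def n33686 : Q := act 6 n31775
theorem D33686 : act 6 n31775 = n33686 := rfl
theorem F156592 : act 0 n33686 = n32735 := d5_1 D33686 (iv D32735) (iv F147876)
theorem F156593 : act 2 n33686 = n31779 := d20_1 D33686 (iv D31779) (iv F147877)
theorem F156594 : act 3 n33686 = n31885 := d26_1 D33686 (iv D31885) (iv F147878)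
theorem F156595 : act 7 n33686 = n31820 := d39_2 D31775 D33686 (iv D31820) (iv D29785) (iv F138612)
def n33687 : Q := act 8 n31775
theorem D33687 : act 8 n31775 = n33687 := rfl
theorem F156596 : act 0 n33687 = n32736 := d7_1 D33687 (iv D32736) (iv F147876)
theorem F156597 : act 2 n33687 = n31780 := d22_1 D33687 (iv D31780) (iv F147877)
theorem F156598 : act 3 n33687 = n31886 := d28_1 D33687 (iv D31886) (iv F147878)
theorem F156599 : act 5 n33687 = n32088 := d37_1 D33687 (iv D32088) F140292 (iv F138616) (iv F147879)
theorem F156600 : act 7 n33687 = n31776 := d42_1 D33687 (iv D31776) D31775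
def n33688 : Q := act 9 n31776
theorem D33688 : act 9 n31776 = n33688 := rfl
theorem F156601 : act 0 n33688 = n32737 := d8_1 D33688 (iv D32737) (iv F147880)
theorem F156602 : act 2 n33688 = n31781 := d23_1 D33688 (iv D31781) (iv F147881)
theorem F156603 : act 3 n33688 = n31887 := d29_1 D33688 (iv D31887) (iv F147882)
theorem F156604 : act 5 n33688 = n32089 := d38_1 D33688 (iv D32089) (iv F147883)
theorem F156605 : act 6 n33688 = n31822 := d41_1 D33688 (iv D31822) (iv F147884)
def n33689 : Q := act 6 n31777
theorem D33689 : act 6 n31777 = n33689 := rfl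
theorem F156606 : act 0 n33689 = n32738 := d5_1 D33689 (iv D32738) (iv F147885)
theorem F156607 : act 4 n33689 = n31779 := d31_1 D33689 (iv D31779) (iv F147886)
theorem F156608 : act 7 n33689 = n31823 := d39_2 D31777 D33689 (iv D31823) (iv D29787) (iv F138618)
def n33690 : Q := act 8 n31777
theorem D33690 : act 8 n31777 = n33690 := rfl
theorem F156609 : act 0 n33690 = n32739 := d7_1 D33690 (iv D32739) (iv F147885)
theorem F156610 : act 4 n33690 = n31780 := d33_1 D33690 (iv D31780) (iv F147886)
theorem F156611 : act 7 n33690 = n31778 := d42_1 D33690 (iv D31778) D31777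
def n33691 : Q := act 5 n31778
theorem D33691 : act 5 n31778 = n33691 := rfl
theorem F156612 : act 0 n33691 = n32740 := d4_1 D33691 (iv D32740) (iv F147887)
theorem F156613 : act 4 n33691 = n32092 := d30_1 D33691 (iv D32092) F140305 (iv F138624) (iv F147888)
def n33692 : Q := act 9 n31778
theorem D33692 : act 9 n31778 = n33692 := rfl
theorem F156614 : act 0 n33692 = n32741 := d8_1 D33692 (iv D32741) (iv F147887)
theorem F156615 : act 4 n33692 = n31781 := d34_1 D33692 (iv D31781) (iv F147888)
theorem F156616 : act 6 n33692 = n31826 := d41_1 D33692 (iv D31826) (iv F147889)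
def n33693 : Q := act 8 n31779
theorem D33693 : act 8 n31779 = n33693 := rfl
theorem F156617 : act 0 n33693 = n32742 := d7_1 D33693 (iv D32742) (iv F147890)
theorem F156618 : act 3 n33693 = n31782 := d28_1 D33693 (iv D31782) (iv F147891)
theorem F156619 : act 6 n33693 = n31780 := d40_1 D33693 (iv D31780) D31779
theorem F156620 : act 7 n33693 = n31827 := d42_1 D33693 (iv D31827) (iv F147892)
def n33694 : Q := act 9 n31780
theorem D33694 : act 9 n31780 = n33694 := rfl
theorem F156621 : act 0 n33694 = n32743 := d8_1 D33694 (iv D32743) (iv F147893)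
theorem F156622 : act 3 n33694 = n31783 := d29_1 D33694 (iv D31783) (iv F147894)
theorem F156623 : act 5 n33694 = n32095 := d38_1 D33694 (iv D32095) (iv F147895)
theorem F156624 : act 7 n33694 = n31781 := d43_1 D33694 (iv D31781) (iv F147896)
def n33695 : Q := act 5 n31782
theorem D33695 : act 5 n31782 = n33695 := rfl
theorem F156625 : act 0 n33695 = n32744 := d4_1 D33695 (iv D32744) (iv F147901)
theorem F156626 : act 2 n33695 = n31894 := d19_1 D33695 (iv D31894) (iv F147902)
theorem F156627 : act 6 n33695 = n32096 := d35_2 (iv F147903) D33695 (iv D32096) F140323 (iv F138631)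
theorem F156628 : act 7 n33695 = n31829 := d36_2 (iv F147904) D33695 (iv D31829)
theorem F156629 : act 8 n33695 = n32167 := d37_2 D31782 D33695 F156511 (iv D33667) F147815
def n33696 : Q := act 9 n31782
theorem D33696 : act 9 n31782 = n33696 := rfl
theorem F156630 : act 0 n33696 = n32745 := d8_1 D33696 (iv D32745) (iv F147901)
theorem F156631 : act 2 n33696 = n31895 := d23_1 D33696 (iv D31895) (iv F147902)
theorem F156632 : act 6 n33696 = n31783 := d41_1 D33696 (iv D31783) (iv F147903)
theorem F156633 : act 7 n33696 = n31830 := d43_1 D33696 (iv D31830) (iv F147904)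
def n33697 : Q := act 6 n31784
theorem D33697 : act 6 n31784 = n33697 := rfl
theorem F156634 : act 0 n33697 = n31785 := d5_1 D33697 (iv D31785) D31784
theorem F156635 : act 1 n33697 = n32089 := d13_1 D33697 F149467 (iv F147909)
theorem F156636 : act 3 n33697 = n31896 := d26_1 D33697 (iv D31896) (iv F147910)
theorem F156637 : act 4 n33697 = n32464 := d31_1 D33697 (iv D32464) (iv F147911)
theorem F156638 : act 8 n33697 = n33697 := d40_2 F147913 D33697 (iv D33697)
theorem F156639 : act 9 n33697 = n32087 := d41_2 (iv F147914) D33697 F149458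
def n33698 : Q := act 5 n31785
theorem D33698 : act 5 n31785 = n33698 := rfl
theorem F156640 : act 1 n33698 = n31786 := d12_1 D33698 (iv D31786) (iv F147915)
theorem F156641 : act 3 n33698 = n31897 := d25_1 D33698 (iv D31897) (iv F147916)
theorem F156642 : act 9 n33698 = n32142 := d38_2 (iv F147919) D33698 (iv D32142)
def n33699 : Q := act 7 n31785
theorem D33699 : act 7 n31785 = n33699 := rfl
theorem F156643 : act 1 n33699 = n31787 := d14_1 D33699 (iv D31787) (iv F147915)
theorem F156644 : act 3 n33699 = n31898 := d27_1 D33699 (iv D31898) (iv F147916)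
theorem F156645 : act 4 n33699 = n32466 := d32_1 D33699 (iv D32466) (iv F147917)
theorem F156646 : act 8 n33699 = n33699 := d42_2 F147918 D33699 (iv D33699)
theorem F156647 : act 9 n33699 = n32143 := d43_2 (iv F147919) D33699 (iv D32143)
def n33700 : Q := act 4 n31786
theorem D33700 : act 4 n31786 = n33700 := rfl
theorem F156648 : act 0 n33700 = n32747 := d3_1 D33700 (iv D32747) (iv F147920)
theorem F156649 : act 2 n33700 = n31788 := d18_1 D33700 (iv D31788) (iv F147921)
theorem F156650 : act 5 n33700 = n32467 := d30_2 D31786 D33700 (iv D32467) (iv D30467) (iv F138644)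
theorem F156651 : act 9 n33700 = n32144 := d34_2 (iv F147923) D33700 (iv D32144)
def n33701 : Q := act 7 n31786
theorem D33701 : act 7 n31786 = n33701 := rfl
theorem F156652 : act 0 n33701 = n32748 := d6_1 D33701 (iv D32748) (iv F147920)
theorem F156653 : act 2 n33701 = n31789 := d21_1 D33701 (iv D31789) (iv F147921)
theorem F156654 : act 3 n33701 = n31900 := d27_1 D33701 (iv D31900) (iv F147922)
theorem F156655 : act 5 n33701 = n31787 := d36_1 D33701 (iv D31787) D31786
theorem F156656 : act 9 n33701 = n32145 := d43_2 (iv F147923) D33701 (iv D32145)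
def n33702 : Q := act 8 n31786
theorem D33702 : act 8 n31786 = n33702 := rfl
theorem F156657 : act 0 n33702 = n32749 := d7_1 D33702 (iv D32749) (iv F147920)
theorem F156658 : act 2 n33702 = n31790 := d22_1 D33702 (iv D31790) (iv F147921)
theorem F156659 : act 3 n33702 = n31901 := d28_1 D33702 (iv D31901) (iv F147922)
theorem F156660 : act 5 n33702 = n33702 := d37_1 D33702 (iv D33702) (iv D31786) F138645 D31786
def n33703 : Q := act 7 n31788
theorem D33703 : act 7 n31788 = n33703 := rfl
theorem F156661 : act 0 n33703 = n32750 := d6_1 D33703 (iv D32750) (iv F147930)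
theorem F156662 : act 3 n33703 = n31796 := d27_1 D33703 (iv D31796) (iv F147931)
theorem F156663 : act 4 n33703 = n31789 := d32_1 D33703 (iv D31789) D31788
theorem F156664 : act 5 n33703 = n32470 := d36_1 D33703 (iv D32470) (iv F147932)
theorem F156665 : act 9 n33703 = n32146 := d43_2 (iv F147933) D33703 (iv D32146)
def n33704 : Q := act 8 n31788
theorem D33704 : act 8 n31788 = n33704 := rfl
theorem F156666 : act 0 n33704 = n32689 := d7_1 D33704 F151762 (iv F147930)
theorem F156667 : act 3 n33704 = n31797 := d28_1 D33704 (iv D31797) (iv F147931)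
theorem F156668 : act 4 n33704 = n31790 := d33_1 D33704 (iv D31790) D31788
def n33705 : Q := act 6 n31789
theorem D33705 : act 6 n31789 = n33705 := rfl
theorem F156669 : act 0 n33705 = n32751 := d5_1 D33705 (iv D32751) (iv F147934)
theorem F156670 : act 3 n33705 = n31791 := d26_1 D33705 (iv D31791) (iv F147935)
theorem F156671 : act 9 n33705 = n32148 := d41_2 (iv F147937) D33705 (iv D32148)
def n33706 : Q := act 8 n31789
theorem D33706 : act 8 n31789 = n33706 := rfl
theorem F156672 : act 0 n33706 = n32752 := d7_1 D33706 (iv D32752) (iv F147934)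
theorem F156673 : act 3 n33706 = n31792 := d28_1 D33706 (iv D31792) (iv F147935)
theorem F156674 : act 5 n33706 = n33706 := d37_1 D33706 (iv D33706) F147936 F138653 (iv F147936)
theorem F156675 : act 7 n33706 = n31790 := d42_1 D33706 (iv D31790) D31789
def n33707 : Q := act 9 n31790
theorem D33707 : act 9 n31790 = n33707 := rfl
theorem F156676 : act 0 n33707 = n32753 := d8_1 D33707 (iv D32753) (iv F147938)
theorem F156677 : act 3 n33707 = n31793 := d29_1 D33707 (iv D31793) (iv F147939)
theorem F156678 : act 5 n33707 = n33707 := d38_1 D33707 (iv D33707) F147940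
theorem F156679 : act 8 n33707 = n32150 := d44_1 D33707 (iv D32150) (iv D30164) (iv F138649) D31790
def n33708 : Q := act 8 n31791
theorem D33708 : act 8 n31791 = n33708 := rfl
theorem F156680 : act 0 n33708 = n32754 := d7_1 D33708 (iv D32754) (iv F147941)
theorem F156681 : act 2 n33708 = n31905 := d22_1 D33708 (iv D31905) (iv F147942)
theorem F156682 : act 4 n33708 = n31801 := d33_1 D33708 (iv D31801) (iv F147943)
theorem F156683 : act 6 n33708 = n31792 := d40_1 D33708 (iv D31792) D31791
def n33709 : Q := act 9 n31792
theorem D33709 : act 9 n31792 = n33709 := rfl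
theorem F156684 : act 0 n33709 = n32755 := d8_1 D33709 (iv D32755) (iv F147945)
theorem F156685 : act 2 n33709 = n31906 := d23_1 D33709 (iv D31906) (iv F147946)
theorem F156686 : act 4 n33709 = n31802 := d34_1 D33709 (iv D31802) (iv F147947)
theorem F156687 : act 5 n33709 = n33709 := d38_1 D33709 (iv D33709) F147948
theorem F156688 : act 7 n33709 = n31793 := d43_1 D33709 (iv D31793) (iv F147949)
theorem F156689 : act 8 n33709 = n32152 := d44_1 D33709 (iv D32152) (iv D30166) (iv F138659) D31792
def n33710 : Q := act 3 n31794
theorem D33710 : act 3 n31794 = n33710 := rfl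
theorem F156690 : act 0 n33710 = n32398 := d2_1 D33710 F150663 (iv F147955)
theorem F156691 : act 4 n33710 = n31907 := d24_2 D31794 D33710 (iv D31907) (iv D29864) (iv F138666)
theorem F156692 : act 5 n33710 = n32761 := d25_2 (iv F147957) D33710 (iv D32761)
theorem F156693 : act 8 n33710 = n32353 := d28_2 (iv F147958) D33710 F150458
theorem F156694 : act 9 n33710 = n32247 := d29_2 (iv F147959) D33710 (iv D32247)
def n33711 : Q := act 7 n31794
theorem D33711 : act 7 n31794 = n33711 := rfl
theorem F156695 : act 0 n33711 = n32693 := d6_1 D33711 F151774 (iv F147955)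
theorem F156696 : act 2 n33711 = n31796 := d21_1 D33711 (iv D31796) (iv F147956)
theorem F156697 : act 4 n33711 = n31795 := d32_1 D33711 (iv D31795) D31794
theorem F156698 : act 5 n33711 = n32762 := d36_1 D33711 (iv D32762) (iv F147957)
theorem F156699 : act 8 n33711 = n32663 := d42_2 (iv F147958) D33711 (iv D32663)
theorem F156700 : act 9 n33711 = n32248 := d43_2 (iv F147959) D33711 (iv D32248)
def n33712 : Q := act 6 n31795
theorem D33712 : act 6 n31795 = n33712 := rfl
theorem F156701 : act 0 n33712 = n32694 := d5_1 D33712 F151778 (iv F147960)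
theorem F156702 : act 2 n33712 = n31798 := d20_1 D33712 (iv D31798) (iv F147961)
theorem F156703 : act 3 n33712 = n31909 := d26_1 D33712 (iv D31909) (iv F147962)
theorem F156704 : act 5 n33712 = n31820 := d35_1 D33712 (iv D31820) F138753 (iv F138673) (iv F147963)
theorem F156705 : act 8 n33712 = n32664 := d40_2 (iv F147964) D33712 (iv D32664)
theorem F156706 : act 9 n33712 = n32250 := d41_2 (iv F147965) D33712 (iv D32250)
def n33713 : Q := act 6 n31796
theorem D33713 : act 6 n31796 = n33713 := rfl
theorem F156707 : act 0 n33713 = n32756 := d5_1 D33713 (iv D32756) (iv F147966)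
theorem F156708 : act 4 n33713 = n31798 := d31_1 D33713 (iv D31798) (iv F147967)
theorem F156709 : act 9 n33713 = n32253 := d41_2 (iv F147969) D33713 (iv D32253)
def n33714 : Q := act 8 n31796
theorem D33714 : act 8 n31796 = n33714 := rfl
theorem F156710 : act 0 n33714 = n32690 := d7_1 D33714 F151765 (iv F147966)
theorem F156711 : act 2 n33714 = n32663 := d22_1 D33714 (iv F156699) F156696
theorem F156712 : act 4 n33714 = n31799 := d33_1 D33714 (iv D31799) (iv F147967)
theorem F156713 : act 7 n33714 = n31797 := d42_1 D33714 (iv D31797) D31796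
def n33715 : Q := act 5 n31797
theorem D33715 : act 5 n31797 = n33715 := rfl
theorem F156714 : act 0 n33715 = n32206 := d4_1 D33715 F149941 (iv F147970)
theorem F156715 : act 2 n33715 = n32181 := d19_1 D33715 F149836 (iv F147971)
theorem F156716 : act 4 n33715 = n31833 := d30_1 D33715 (iv D31833) F138787 (iv F138686) (iv F147972)
theorem F156717 : act 8 n33715 = n32769 := d37_2 D31797 D33715 (iv D32769) (iv D30762) (iv F138677)
def n33716 : Q := act 9 n31797
theorem D33716 : act 9 n31797 = n33716 := rfl
theorem F156718 : act 0 n33716 = n32682 := d8_1 D33716 F151741 (iv F147970)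
theorem F156719 : act 2 n33716 = n32660 := d23_1 D33716 F151663 (iv F147971)
theorem F156720 : act 4 n33716 = n31800 := d34_1 D33716 (iv D31800) (iv F147972)
theorem F156721 : act 8 n33716 = n32256 := d44_1 D33716 (iv D32256) (iv D30262) (iv F138678) D31797
def n33717 : Q := act 8 n31798
theorem D33717 : act 8 n31798 = n33717 := rfl
theorem F156722 : act 0 n33717 = n32691 := d7_1 D33717 F151768 (iv F147973)
theorem F156723 : act 2 n33717 = n32664 := d22_1 D33717 (iv F156705) F156702
theorem F156724 : act 3 n33717 = n31801 := d28_1 D33717 (iv D31801) (iv F147974)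
theorem F156725 : act 6 n33717 = n31799 := d40_1 D33717 (iv D31799) D31798
def n33718 : Q := act 9 n31799
theorem D33718 : act 9 n31799 = n33718 := rfl
theorem F156726 : act 0 n33718 = n32683 := d8_1 D33718 F151745 (iv F147977)
theorem F156727 : act 2 n33718 = n32661 := d23_1 D33718 F151667 (iv F147978)
theorem F156728 : act 3 n33718 = n31802 := d29_1 D33718 (iv D31802) (iv F147979)
theorem F156729 : act 5 n33718 = n31835 := d38_1 D33718 (iv D31835) (iv F147980)
theorem F156730 : act 7 n33718 = n31800 := d43_1 D33718 (iv D31800) (iv F147981)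
theorem F156731 : act 8 n33718 = n32258 := d44_1 D33718 (iv D32258) (iv D30264) (iv F138682) D31799
def n33719 : Q := act 5 n31801
theorem D33719 : act 5 n31801 = n33719 := rfl
theorem F156732 : act 0 n33719 = n32757 := d4_1 D33719 (iv D32757) (iv F147987)
theorem F156733 : act 2 n33719 = n31911 := d19_1 D33719 (iv D31911) (iv F147988)
theorem F156734 : act 6 n33719 = n31836 := d35_2 (iv F147989) D33719 (iv D31836) F138807 (iv F138693)
theorem F156735 : act 7 n33719 = n32167 := d36_2 F156510 D33719 F156511
theorem F156736 : act 8 n33719 = n31829 := d37_2 D31801 D33719 (iv D31829) (iv D29792) (iv F138689)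
def n33720 : Q := act 9 n31801
theorem D33720 : act 9 n31801 = n33720 := rfl
theorem F156737 : act 0 n33720 = n32758 := d8_1 D33720 (iv D32758) (iv F147987)
theorem F156738 : act 2 n33720 = n31912 := d23_1 D33720 (iv D31912) (iv F147988)
theorem F156739 : act 6 n33720 = n31802 := d41_1 D33720 (iv D31802) (iv F147989)
theorem F156740 : act 8 n33720 = n32260 := d44_1 D33720 (iv D32260) (iv D30266) (iv F138690) D31801
def n33721 : Q := act 3 n31803
theorem D33721 : act 3 n31803 = n33721 := rfl
theorem F156741 : act 0 n33721 = n32761 := d2_1 D33721 (iv D32761) (iv F147995)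
theorem F156742 : act 1 n33721 = n32490 := d10_1 D33721 F150969 (iv F147996)
theorem F156743 : act 4 n33721 = n31913 := d24_2 D31803 D33721 (iv D31913) (iv D29870) (iv F138702)
theorem F156744 : act 5 n33721 = n32398 := d25_2 (iv F147998) D33721 F150663
theorem F156745 : act 9 n33721 = n31817 := d29_2 (iv F147999) D33721 (iv D31817)
def n33722 : Q := act 7 n31803
theorem D33722 : act 7 n31803 = n33722 := rfl
theorem F156746 : act 0 n33722 = n32762 := d6_1 D33722 (iv D32762) (iv F147995)
theorem F156747 : act 1 n33722 = n32788 := d14_1 D33722 F152032 (iv F147996)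
theorem F156748 : act 2 n33722 = n31806 := d21_1 D33722 (iv D31806) (iv F147997)
theorem F156749 : act 4 n33722 = n31804 := d32_1 D33722 (iv D31804) D31803
theorem F156750 : act 5 n33722 = n32693 := d36_1 D33722 F151774 (iv F147998)
theorem F156751 : act 9 n33722 = n31818 := d43_2 (iv F147999) D33722 (iv D31818)
def n33723 : Q := act 8 n31803
theorem D33723 : act 8 n31803 = n33723 := rfl
theorem F156752 : act 0 n33723 = n32763 := d7_1 D33723 (iv D32763) (iv F147995)
theorem F156753 : act 1 n33723 = n32255 := d15_1 D33723 F150095 (iv F147996)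
theorem F156754 : act 2 n33723 = n31807 := d22_1 D33723 (iv D31807) (iv F147997)
theorem F156755 : act 4 n33723 = n31805 := d33_1 D33723 (iv D31805) D31803
theorem F156756 : act 5 n33723 = n32209 := d37_1 D33723 (iv D32209) F140866 D30697 (iv F147998)
def n33724 : Q := act 6 n31804
theorem D33724 : act 6 n31804 = n33724 := rfl
theorem F156757 : act 0 n33724 = n32764 := d5_1 D33724 (iv D32764) (iv F148000)
theorem F156758 : act 1 n33724 = n32798 := d13_1 D33724 (iv D32798) (iv F148001)
theorem F156759 : act 2 n33724 = n31808 := d20_1 D33724 (iv D31808) (iv F148002)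
theorem F156760 : act 3 n33724 = n31916 := d26_1 D33724 (iv D31916) (iv F148003)
theorem F156761 : act 5 n33724 = n32250 := d35_1 D33724 (iv D32250) F140979 (iv F138709) (iv F148004)
theorem F156762 : act 9 n33724 = n31820 := d41_2 (iv F148005) D33724 (iv D31820)
def n33725 : Q := act 8 n31804
theorem D33725 : act 8 n31804 = n33725 := rfl
theorem F156763 : act 0 n33725 = n32765 := d7_1 D33725 (iv D32765) (iv F148000)
theorem F156764 : act 1 n33725 = n32270 := d15_1 D33725 F150147 (iv F148001)
theorem F156765 : act 2 n33725 = n31809 := d22_1 D33725 (iv D31809) (iv F148002)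
theorem F156766 : act 3 n33725 = n31917 := d28_1 D33725 (iv D31917) (iv F148003)
theorem F156767 : act 5 n33725 = n32003 := d37_1 D33725 (iv D32003) F139702 (iv F138710) (iv F148004)
theorem F156768 : act 7 n33725 = n31805 := d42_1 D33725 (iv D31805) D31804
def n33726 : Q := act 9 n31805
theorem D33726 : act 9 n31805 = n33726 := rfl
theorem F156769 : act 0 n33726 = n32766 := d8_1 D33726 (iv D32766) (iv F148006)
theorem F156770 : act 1 n33726 = n32273 := d16_1 D33726 (iv D32273) (iv F148007)
theorem F156771 : act 2 n33726 = n31810 := d23_1 D33726 (iv D31810) (iv F148008)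
theorem F156772 : act 3 n33726 = n31918 := d29_1 D33726 (iv D31918) (iv F148009)
theorem F156773 : act 5 n33726 = n32004 := d38_1 D33726 (iv D32004) (iv F148010)
theorem F156774 : act 8 n33726 = n31822 := d44_1 D33726 (iv D31822) (iv D29786) (iv F138703) D31805
def n33727 : Q := act 6 n31806
theorem D33727 : act 6 n31806 = n33727 := rfl
theorem F156775 : act 0 n33727 = n32767 := d5_1 D33727 (iv D32767) (iv F148011)
theorem F156776 : act 4 n33727 = n31808 := d31_1 D33727 (iv D31808) (iv F148012)
theorem F156777 : act 9 n33727 = n31823 := d41_2 (iv F148014) D33727 (iv D31823)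
def n33728 : Q := act 8 n31806
theorem D33728 : act 8 n31806 = n33728 := rfl
theorem F156778 : act 0 n33728 = n32768 := d7_1 D33728 (iv D32768) (iv F148011)
theorem F156779 : act 4 n33728 = n31809 := d33_1 D33728 (iv D31809) (iv F148012)
theorem F156780 : act 7 n33728 = n31807 := d42_1 D33728 (iv D31807) D31806
def n33729 : Q := act 5 n31807
theorem D33729 : act 5 n31807 = n33729 := rfl
theorem F156781 : act 0 n33729 = n32769 := d4_1 D33729 (iv D32769) (iv F148015)
theorem F156782 : act 2 n33729 = n32209 := d19_1 D33729 (iv F156756) F156754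
theorem F156783 : act 4 n33729 = n32007 := d30_1 D33729 (iv D32007) F139719 (iv F138721) (iv F148016)
theorem F156784 : act 8 n33729 = n32206 := d37_2 D31807 D33729 F149941 F142638 (iv F138713)
def n33730 : Q := act 9 n31807
theorem D33730 : act 9 n31807 = n33730 := rfl
theorem F156785 : act 0 n33730 = n32770 := d8_1 D33730 (iv D32770) (iv F148015)
theorem F156786 : act 4 n33730 = n31810 := d34_1 D33730 (iv D31810) (iv F148016)
theorem F156787 : act 8 n33730 = n31826 := d44_1 D33730 (iv D31826) (iv D29788) (iv F138714) D31807
def n33731 : Q := act 8 n31808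
theorem D33731 : act 8 n31808 = n33731 := rfl
theorem F156788 : act 0 n33731 = n32771 := d7_1 D33731 (iv D32771) (iv F148017)
theorem F156789 : act 3 n33731 = n31811 := d28_1 D33731 (iv D31811) (iv F148018)
theorem F156790 : act 6 n33731 = n31809 := d40_1 D33731 (iv D31809) D31808
def n33732 : Q := act 9 n31809
theorem D33732 : act 9 n31809 = n33732 := rfl
theorem F156791 : act 0 n33732 = n32772 := d8_1 D33732 (iv D32772) (iv F148021)
theorem F156792 : act 3 n33732 = n31812 := d29_1 D33732 (iv D31812) (iv F148022)
theorem F156793 : act 5 n33732 = n32010 := d38_1 D33732 (iv D32010) (iv F148023)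
theorem F156794 : act 7 n33732 = n31810 := d43_1 D33732 (iv D31810) (iv F148024)
theorem F156795 : act 8 n33732 = n31828 := d44_1 D33732 (iv D31828) (iv D29790) (iv F138718) D31809
def n33733 : Q := act 5 n31811
theorem D33733 : act 5 n31811 = n33733 := rfl
theorem F156796 : act 0 n33733 = n32773 := d4_1 D33733 (iv D32773) (iv F148029)
theorem F156797 : act 2 n33733 = n31924 := d19_1 D33733 (iv D31924) (iv F148030)
theorem F156798 : act 6 n33733 = n32011 := d35_2 (iv F148031) D33733 (iv D32011) F139736 (iv F138728)
theorem F156799 : act 8 n33733 = n32259 := d37_2 D31811 D33733 (iv D32259) (iv D30266) (iv F138724)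
def n33734 : Q := act 9 n31811
theorem D33734 : act 9 n31811 = n33734 := rfl
theorem F156800 : act 0 n33734 = n32774 := d8_1 D33734 (iv D32774) (iv F148029)
theorem F156801 : act 2 n33734 = n31925 := d23_1 D33734 (iv D31925) (iv F148030)
theorem F156802 : act 6 n33734 = n31812 := d41_1 D33734 (iv D31812) (iv F148031)
theorem F156803 : act 8 n33734 = n31830 := d44_1 D33734 (iv D31830) (iv D29792) (iv F138725) D31811
def n33735 : Q := act 4 n31813
theorem D33735 : act 4 n31813 = n33735 := rfl
theorem F156804 : act 0 n33735 = n31814 := d3_1 D33735 (iv D31814) (iv F148037)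
theorem F156805 : act 1 n33735 = n32107 := d11_1 D33735 (iv D32107) (iv F148038)
theorem F156806 : act 5 n33735 = n31826 := d30_2 D31813 D33735 F148079 F138770 (iv F138737)
theorem F156807 : act 9 n33735 = n31825 := d34_2 (iv F148040) D33735 F148077
def n33736 : Q := act 8 n31813
theorem D33736 : act 8 n31813 = n33736 := rfl
theorem F156808 : act 0 n33736 = n31816 := d7_1 D33736 (iv D31816) (iv F148037)
theorem F156809 : act 1 n33736 = n32101 := d15_1 D33736 F149523 (iv F148038)
theorem F156810 : act 3 n33736 = n31858 := d28_1 D33736 (iv D31858) (iv F148039)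
theorem F156811 : act 5 n33736 = n31839 := d37_1 D33736 (iv D31839) (iv D29801) (iv F138738) D31813
theorem F156812 : act 6 n33736 = n32142 := d40_1 D33736 (iv F156562) F156561
def n33737 : Q := act 3 n31814
theorem D33737 : act 3 n31814 = n33737 := rfl
theorem F156813 : act 1 n33737 = n31817 := d10_1 D33737 (iv D31817) (iv F148041)
theorem F156814 : act 4 n33737 = n31926 := d24_2 D31814 D33737 (iv D31926) (iv D29880) (iv F138741)
theorem F156815 : act 5 n33737 = n32491 := d25_2 (iv F148042) D33737 F150971
theorem F156816 : act 9 n33737 = n32490 := d29_2 (iv F148043) D33737 F150969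
def n33738 : Q := act 7 n31814
theorem D33738 : act 7 n31814 = n33738 := rfl
theorem F156817 : act 1 n33738 = n31818 := d14_1 D33738 (iv D31818) (iv F148041)
theorem F156818 : act 4 n33738 = n31815 := d32_1 D33738 (iv D31815) D31814
theorem F156819 : act 5 n33738 = n32789 := d36_1 D33738 F152034 (iv F148042)
theorem F156820 : act 9 n33738 = n32788 := d43_2 (iv F148043) D33738 F152032
def n33739 : Q := act 8 n31814
theorem D33739 : act 8 n31814 = n33739 := rfl
theorem F156821 : act 1 n33739 = n31819 := d15_1 D33739 (iv D31819) (iv F148041)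
theorem F156822 : act 4 n33739 = n31816 := d33_1 D33739 (iv D31816) D31814
def n33740 : Q := act 6 n31815
theorem D33740 : act 6 n31815 = n33740 := rfl
theorem F156823 : act 1 n33740 = n31820 := d13_1 D33740 (iv D31820) (iv F148044)
theorem F156824 : act 3 n33740 = n31929 := d26_1 D33740 (iv D31929) (iv F148045)
theorem F156825 : act 9 n33740 = n32798 := d41_2 (iv F148047) D33740 (iv D32798)
def n33741 : Q := act 8 n31815
theorem D33741 : act 8 n31815 = n33741 := rfl
theorem F156826 : act 1 n33741 = n31821 := d15_1 D33741 (iv D31821) (iv F148044)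
theorem F156827 : act 3 n33741 = n31930 := d28_1 D33741 (iv D31930) (iv F148045)
theorem F156828 : act 5 n33741 = n31842 := d37_1 D33741 (iv D31842) F138826 (iv F138746) (iv F148046)
theorem F156829 : act 7 n33741 = n31816 := d42_1 D33741 (iv D31816) D31815
def n33742 : Q := act 9 n31816
theorem D33742 : act 9 n31816 = n33742 := rfl
theorem F156830 : act 1 n33742 = n31822 := d16_1 D33742 (iv D31822) (iv F148048)
theorem F156831 : act 3 n33742 = n31931 := d29_1 D33742 (iv D31931) (iv F148049)
theorem F156832 : act 5 n33742 = n31843 := d38_1 D33742 (iv D31843) (iv F148050)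
theorem F156833 : act 8 n33742 = n32273 := d44_1 D33742 (iv D32273) F141033 (iv F138742) D31816
def n33743 : Q := act 7 n31817
theorem D33743 : act 7 n31817 = n33743 := rfl
theorem F156834 : act 0 n33743 = n32778 := d6_1 D33743 (iv D32778) (iv F148051)
theorem F156835 : act 3 n33743 = n31818 := d27_1 D33743 (iv D31818) D31817
theorem F156836 : act 4 n33743 = n31932 := d32_1 D33743 (iv D31932) (iv F148052)
def n33744 : Q := act 8 n31817
theorem D33744 : act 8 n31817 = n33744 := rfl
theorem F156837 : act 0 n33744 = n32779 := d7_1 D33744 (iv D32779) (iv F148051)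
theorem F156838 : act 3 n33744 = n31819 := d28_1 D33744 (iv D31819) D31817
theorem F156839 : act 4 n33744 = n31933 := d33_1 D33744 (iv D31933) (iv F148052)
def n33745 : Q := act 6 n31818
theorem D33745 : act 6 n31818 = n33745 := rfl
theorem F156840 : act 0 n33745 = n32780 := d5_1 D33745 (iv D32780) (iv F148053)
theorem F156841 : act 2 n33745 = n31823 := d20_1 D33745 (iv D31823) (iv F148054)
theorem F156842 : act 4 n33745 = n31820 := d31_1 D33745 (iv D31820) (iv F148055)
def n33746 : Q := act 8 n31818
theorem D33746 : act 8 n31818 = n33746 := rfl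
theorem F156843 : act 0 n33746 = n32781 := d7_1 D33746 (iv D32781) (iv F148053)
theorem F156844 : act 2 n33746 = n31824 := d22_1 D33746 (iv D31824) (iv F148054)
theorem F156845 : act 4 n33746 = n31821 := d33_1 D33746 (iv D31821) (iv F148055)
theorem F156846 : act 7 n33746 = n31819 := d42_1 D33746 (iv D31819) D31818
def n33747 : Q := act 5 n31819
theorem D33747 : act 5 n31819 = n33747 := rfl
theorem F156847 : act 0 n33747 = n32782 := d4_1 D33747 (iv D32782) (iv F148056)
theorem F156848 : act 2 n33747 = n31825 := d19_1 D33747 (iv D31825) (iv F148057)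
theorem F156849 : act 4 n33747 = n31846 := d30_1 D33747 (iv D31846) F138839 (iv F138757) (iv F148058)
def n33748 : Q := act 9 n31819
theorem D33748 : act 9 n31819 = n33748 := rfl
theorem F156850 : act 0 n33748 = n32783 := d8_1 D33748 (iv D32783) (iv F148056)
theorem F156851 : act 2 n33748 = n31826 := d23_1 D33748 (iv D31826) (iv F148057)
theorem F156852 : act 4 n33748 = n31822 := d34_1 D33748 (iv D31822) (iv F148058)
def n33749 : Q := act 8 n31820
theorem D33749 : act 8 n31820 = n33749 := rfl
theorem F156853 : act 0 n33749 = n32784 := d7_1 D33749 (iv D32784) (iv F148059)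
theorem F156854 : act 2 n33749 = n31827 := d22_1 D33749 (iv D31827) (iv F148060)
theorem F156855 : act 3 n33749 = n31937 := d28_1 D33749 (iv D31937) (iv F148061)
theorem F156856 : act 6 n33749 = n31821 := d40_1 D33749 (iv D31821) D31820
def n33750 : Q := act 9 n31821
theorem D33750 : act 9 n31821 = n33750 := rfl
theorem F156857 : act 0 n33750 = n32785 := d8_1 D33750 (iv D32785) (iv F148062)
theorem F156858 : act 2 n33750 = n31828 := d23_1 D33750 (iv D31828) (iv F148063)
theorem F156859 : act 3 n33750 = n31938 := d29_1 D33750 (iv D31938) (iv F148064)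
theorem F156860 : act 5 n33750 = n31848 := d38_1 D33750 (iv D31848) (iv F148065)
theorem F156861 : act 7 n33750 = n31822 := d43_1 D33750 (iv D31822) (iv F148066)
def n33751 : Q := act 5 n31823
theorem D33751 : act 5 n31823 = n33751 := rfl
theorem F156862 : act 0 n33751 = n32786 := d4_1 D33751 (iv D32786) (iv F148071)
def n33752 : Q := act 8 n31823
theorem D33752 : act 8 n31823 = n33752 := rfl
theorem F156863 : act 0 n33752 = n32787 := d7_1 D33752 (iv D32787) (iv F148071)
theorem F156864 : act 4 n33752 = n31827 := d33_1 D33752 (iv D31827) (iv F148072)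
theorem F156865 : act 6 n33752 = n31824 := d40_1 D33752 (iv D31824) D31823
def n33753 : Q := act 5 n31824
theorem D33753 : act 5 n31824 = n33753 := rfl
theorem F156866 : act 0 n33753 = n32788 := d4_1 D33753 (iv D32788) (iv F148073)
theorem F156867 : act 4 n33753 = n31850 := d30_1 D33753 (iv D31850) F138864 (iv F138766) (iv F148074)
theorem F156868 : act 7 n33753 = n31825 := d36_2 (iv F148075) D33753 (iv D31825)
def n33754 : Q := act 9 n31824
theorem D33754 : act 9 n31824 = n33754 := rfl
theorem F156869 : act 0 n33754 = n32789 := d8_1 D33754 (iv D32789) (iv F148073)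
theorem F156870 : act 4 n33754 = n31828 := d34_1 D33754 (iv D31828) (iv F148074)
theorem F156871 : act 7 n33754 = n31826 := d43_1 D33754 (iv D31826) (iv F148075)
def n33755 : Q := act 6 n31825
theorem D33755 : act 6 n31825 = n33755 := rfl
theorem F156872 : act 0 n33755 = n32790 := d5_1 D33755 (iv D32790) (iv F148076)
theorem F156873 : act 4 n33755 = n31851 := d31_1 D33755 (iv D31851) (iv F148077)
def n33756 : Q := act 5 n31827
theorem D33756 : act 5 n31827 = n33756 := rfl
theorem F156874 : act 0 n33756 = n32777 := d4_1 D33756 F152008 (iv F148080)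
theorem F156875 : act 3 n33756 = n31829 := d25_1 D33756 (iv D31829) (iv F148081)
theorem F156876 : act 6 n33756 = n31852 := d35_2 (iv F148082) D33756 (iv D31852) F138870 (iv F138766)
def n33757 : Q := act 9 n31827
theorem D33757 : act 9 n31827 = n33757 := rfl
theorem F156877 : act 0 n33757 = n32791 := d8_1 D33757 (iv D32791) (iv F148080)
theorem F156878 : act 3 n33757 = n31830 := d29_1 D33757 (iv D31830) (iv F148081)
theorem F156879 : act 6 n33757 = n31828 := d41_1 D33757 (iv D31828) (iv F148082)
def n33758 : Q := act 4 n31829
theorem D33758 : act 4 n31829 = n33758 := rfl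
theorem F156880 : act 0 n33758 = n32792 := d3_1 D33758 (iv D32792) (iv F148087)
theorem F156881 : act 2 n33758 = n31944 := d18_1 D33758 (iv D31944) (iv F148088)
theorem F156882 : act 6 n33758 = n31853 := d31_2 (iv F148089) D33758 (iv D31853)
def n33759 : Q := act 5 n31831
theorem D33759 : act 5 n31831 = n33759 := rfl
theorem F156883 : act 0 n33759 = n31991 := d4_1 D33759 F148918 (iv F148093)
theorem F156884 : act 1 n33759 = n32016 := d12_1 D33759 F156346 F156340
theorem F156885 : act 2 n33759 = n31978 := d19_1 D33759 F148825 (iv F148094)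
theorem F156886 : act 3 n33759 = n33759 := d25_1 D33759 (iv D33759) F148095
theorem F156887 : act 4 n33759 = n31849 := d30_1 D33759 (iv D31849) F138859 (iv F138792) (iv F148096)
theorem F156888 : act 6 n33759 = n32886 := d35_2 D31831 D33759 (iv D32886) (iv D30901) (iv F138782)
theorem F156889 : act 7 n33759 = n31976 := d36_2 (iv F148097) D33759 (iv D31976)
theorem F156890 : act 9 n33759 = n31983 := d38_2 (iv F148098) D33759 F148858
def n33760 : Q := act 5 n31832
theorem D33760 : act 5 n31832 = n33760 := rfl
theorem F156891 : act 0 n33760 = n32207 := d4_1 D33760 F149944 (iv F148099)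
theorem F156892 : act 2 n33760 = n32182 := d19_1 D33760 F149839 (iv F148100)
theorem F156893 : act 3 n33760 = n33760 := d25_1 D33760 (iv D33760) F148101
theorem F156894 : act 7 n33760 = n31833 := d36_2 (iv F148103) D33760 (iv D31833)
theorem F156895 : act 8 n33760 = n32888 := d37_2 D31832 D33760 (iv D32888) (iv D30902) (iv F138782)
def n33761 : Q := act 5 n31834
theorem D33761 : act 5 n31834 = n33761 := rfl
theorem F156896 : act 0 n33761 = n32673 := d4_1 D33761 F151707 (iv F148108)
theorem F156897 : act 2 n33761 = n32137 := d19_1 D33761 F149681 (iv F148109)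
theorem F156898 : act 3 n33761 = n31836 := d25_1 D33761 (iv D31836) (iv F148110)
theorem F156899 : act 7 n33761 = n32101 := d36_2 (iv F148112) D33761 (iv D32101)
theorem F156900 : act 8 n33761 = n31852 := d37_2 D31834 D33761 (iv D31852) (iv D29813) (iv F138792)
def n33762 : Q := act 4 n31836
theorem D33762 : act 4 n31836 = n33762 := rfl
theorem F156901 : act 0 n33762 = n32794 := d3_1 D33762 (iv D32794) (iv F148118)
theorem F156902 : act 2 n33762 = n31946 := d18_1 D33762 (iv D31946) (iv F148119)
theorem F156903 : act 5 n33762 = n33762 := d30_2 D31836 D33762 (iv D33762) (iv D31836) F138806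
theorem F156904 : act 7 n33762 = n32102 := d32_2 (iv F148120) D33762 (iv D32102)
theorem F156905 : act 8 n33762 = n31853 := d33_2 (iv F148121) D33762 (iv D31853)
def n33763 : Q := act 9 n31836
theorem D33763 : act 9 n31836 = n33763 := rfl
theorem F156906 : act 0 n33763 = n32795 := d8_1 D33763 (iv D32795) (iv F148118)
theorem F156907 : act 2 n33763 = n31861 := d23_1 D33763 F148230 (iv F148119)
theorem F156908 : act 5 n33763 = n31837 := d38_1 D33763 (iv D31837) D31836
theorem F156909 : act 7 n33763 = n31860 := d43_1 D33763 F148225 (iv F148120)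
def n33764 : Q := act 8 n31840
theorem D33764 : act 8 n31840 = n33764 := rfl
theorem F156910 : act 1 n33764 = n31845 := d15_1 D33764 (iv D31845) (iv F148139)
theorem F156911 : act 3 n33764 = n33764 := d28_1 D33764 (iv D33764) F148140
theorem F156912 : act 4 n33764 = n31842 := d33_1 D33764 (iv D31842) (iv F148141)
theorem F156913 : act 7 n33764 = n31841 := d42_1 D33764 (iv D31841) D31840
def n33765 : Q := act 5 n31841
theorem D33765 : act 5 n31841 = n33765 := rfl
theorem F156914 : act 1 n33765 = n31846 := d12_1 D33765 (iv D31846) (iv F148144)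
theorem F156915 : act 3 n33765 = n33765 := d25_1 D33765 (iv D33765) F148145
theorem F156916 : act 8 n33765 = n32891 := d37_2 D31841 D33765 F152383 F143312 (iv F138821)
def n33766 : Q := act 9 n31842
theorem D33766 : act 9 n31842 = n33766 := rfl
theorem F156917 : act 1 n33766 = n31848 := d16_1 D33766 (iv D31848) (iv F148148)
theorem F156918 : act 3 n33766 = n31947 := d29_1 D33766 (iv D31947) (iv F148149)
theorem F156919 : act 7 n33766 = n31843 := d43_1 D33766 (iv D31843) (iv F148150)
theorem F156920 : act 8 n33766 = n32018 := d44_1 D33766 (iv D32018) (iv D29998) (iv F138827) D31842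
def n33767 : Q := act 5 n31844
theorem D33767 : act 5 n31844 = n33767 := rfl
theorem F156921 : act 0 n33767 = n31993 := d4_1 D33767 F148929 (iv F148155)
theorem F156922 : act 1 n33767 = n32342 := d12_1 D33767 (iv F155995) F155991
theorem F156923 : act 2 n33767 = n31849 := d19_1 D33767 (iv D31849) (iv F148156)
theorem F156924 : act 3 n33767 = n33767 := d25_1 D33767 (iv D33767) F148157
theorem F156925 : act 4 n33767 = n31978 := d30_1 D33767 F148825 F139465 (iv F138844) (iv F148158)
theorem F156926 : act 7 n33767 = n31977 := d36_2 (iv F148159) D33767 F148819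
theorem F156927 : act 9 n33767 = n31984 := d38_2 (iv F148160) D33767 F148866
def n33768 : Q := act 5 n31845
theorem D33768 : act 5 n31845 = n33768 := rfl
theorem F156928 : act 0 n33768 = n32796 := d4_1 D33768 (iv D32796) (iv F148161)
theorem F156929 : act 2 n33768 = n31850 := d19_1 D33768 (iv D31850) (iv F148162)
theorem F156930 : act 3 n33768 = n33768 := d25_1 D33768 (iv D33768) F148163
theorem F156931 : act 7 n33768 = n31846 := d36_2 (iv F148165) D33768 (iv D31846)
def n33769 : Q := act 6 n31846
theorem D33769 : act 6 n31846 = n33769 := rfl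
theorem F156932 : act 0 n33769 = n32797 := d5_1 D33769 (iv D32797) (iv F148166)
theorem F156933 : act 2 n33769 = n31851 := d20_1 D33769 (iv D31851) (iv F148167)
theorem F156934 : act 3 n33769 = n33769 := d26_1 D33769 (iv D33769) F148168
theorem F156935 : act 5 n33769 = n32104 := d35_1 D33769 (iv D32104) (iv D30110) (iv F138840) D31846
def n33770 : Q := act 5 n31847
theorem D33770 : act 5 n31847 = n33770 := rfl
theorem F156936 : act 0 n33770 = n32677 := d4_1 D33770 F151720 (iv F148169)
theorem F156937 : act 2 n33770 = n31852 := d19_1 D33770 (iv D31852) (iv F148170)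
theorem F156938 : act 3 n33770 = n31948 := d25_1 D33770 (iv D31948) (iv F148171)
theorem F156939 : act 7 n33770 = n32105 := d36_2 (iv F148173) D33770 (iv D32105)
theorem F156940 : act 8 n33770 = n32137 := d37_2 D31847 D33770 F149681 F140601 (iv F138844)
def n33771 : Q := act 8 n31849
theorem D33771 : act 8 n31849 = n33771 := rfl
theorem F156941 : act 0 n33771 = n32262 := d7_1 D33771 (iv D32262) (iv F148179)
theorem F156942 : act 1 n33771 = n32010 := d15_1 D33771 F149021 (iv F148180)
theorem F156943 : act 3 n33771 = n31854 := d28_1 D33771 (iv D31854) (iv F148181)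
theorem F156944 : act 7 n33771 = n31997 := d42_1 D33771 F148948 (iv F148182)
theorem F156945 : act 9 n33771 = n31996 := d44_2 (iv F148183) D33771 (iv D31996) F139604 D29965
def n33772 : Q := act 6 n31850
theorem D33772 : act 6 n31850 = n33772 := rfl
theorem F156946 : act 0 n33772 = n32798 := d5_1 D33772 (iv D32798) (iv F148184)
theorem F156947 : act 3 n33772 = n31855 := d26_1 D33772 (iv D31855) (iv F148185)
def n33773 : Q := act 7 n31851
theorem D33773 : act 7 n31851 = n33773 := rfl
theorem F156948 : act 0 n33773 = n32799 := d6_1 D33773 (iv D32799) (iv F148187)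
theorem F156949 : act 3 n33773 = n31856 := d27_1 D33773 (iv D31856) (iv F148188)
theorem F156950 : act 5 n33773 = n32106 := d36_1 D33773 (iv D32106) (iv F148189)
def n33774 : Q := act 4 n31852
theorem D33774 : act 4 n31852 = n33774 := rfl
theorem F156951 : act 0 n33774 = n32776 := d3_1 D33774 F152005 (iv F148190)
theorem F156952 : act 7 n33774 = n32107 := d32_2 (iv F148192) D33774 (iv D32107)
def n33775 : Q := act 3 n31853
theorem D33775 : act 3 n31853 = n33775 := rfl
theorem F156953 : act 0 n33775 = n32800 := d2_1 D33775 (iv D32800) (iv F148193)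
theorem F156954 : act 5 n33775 = n31859 := d25_2 (iv F148195) D33775 (iv D31859)
theorem F156955 : act 7 n33775 = n32108 := d27_2 (iv F148196) D33775 (iv D32108)
def n33776 : Q := act 7 n31855
theorem D33776 : act 7 n31855 = n33776 := rfl
theorem F156956 : act 0 n33776 = n32801 := d6_1 D33776 (iv D32801) (iv F148203)
theorem F156957 : act 2 n33776 = n33776 := d21_1 D33776 (iv D33776) F148204
theorem F156958 : act 6 n33776 = n31856 := d39_1 D33776 (iv D31856) (iv D29818) (iv F138887) D31855
def n33777 : Q := act 9 n31856
theorem D33777 : act 9 n31856 = n33777 := rfl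
theorem F156959 : act 0 n33777 = n31880 := d8_1 D33777 F148337 (iv F148205)
theorem F156960 : act 1 n33777 = n32096 := d16_1 D33777 (iv F156424) F156421
theorem F156961 : act 2 n33777 = n33777 := d23_1 D33777 (iv D33777) F148206
theorem F156962 : act 5 n33777 = n31878 := d38_1 D33777 F148328 (iv F148207)
theorem F156963 : act 7 n33777 = n31857 := d43_1 D33777 (iv D31857) D31856
theorem F156964 : act 8 n32164 = n33777 := d42_0 F156963 (iv F148213) D32164
def n33778 : Q := act 6 n31861
theorem D33778 : act 6 n31861 = n33778 := rfl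
theorem F156965 : act 0 n33778 = n32802 := d5_1 D33778 (iv D32802) (iv F148226)
theorem F156966 : act 1 n33778 = n33778 := d13_1 D33778 (iv D33778) F148227
theorem F156967 : act 3 n33778 = n31862 := d26_1 D33778 (iv D31862) (iv F148228)
theorem F156968 : act 5 n33778 = n31912 := d35_1 D33778 F148493 F139141 (iv F138920) (iv F148229)
theorem F156969 : act 7 n33778 = n31903 := d39_2 D31861 D33778 (iv D31903) (iv D29859) (iv F138914)
theorem F156970 : act 9 n33778 = n31911 := d41_2 (iv F148230) D33778 F148487
def n33779 : Q := act 8 n31862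
theorem D33779 : act 8 n31862 = n33779 := rfl
theorem F156971 : act 0 n33779 = n32803 := d7_1 D33779 (iv D32803) (iv F148231)
theorem F156972 : act 1 n33779 = n33779 := d15_1 D33779 (iv D33779) F148232
theorem F156973 : act 4 n33779 = n31867 := d33_1 D33779 (iv D31867) (iv F148233)
theorem F156974 : act 6 n33779 = n31863 := d40_1 D33779 (iv D31863) D31862
theorem F156975 : act 7 n33779 = n31905 := d42_1 D33779 (iv D31905) (iv F148235)
def n33780 : Q := act 6 n31865
theorem D33780 : act 6 n31865 = n33780 := rfl
theorem F156976 : act 0 n33780 = n32671 := d5_1 D33780 F151698 (iv F148249)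
theorem F156977 : act 2 n33780 = n31866 := d20_1 D33780 (iv D31866) (iv F148250)
theorem F156978 : act 5 n33780 = n31885 := d35_1 D33780 (iv D31885) F139028 (iv F138947) (iv F148251)
theorem F156979 : act 7 n33780 = n31909 := d39_2 D31865 D33780 (iv D31909) (iv D29865) (iv F138941)
theorem F156980 : act 8 n33780 = n32141 := d40_2 (iv F148252) D33780 (iv D32141)
theorem F156981 : act 9 n33780 = n32295 := d41_2 (iv F148253) D33780 (iv D32295)
def n33781 : Q := act 3 n31868
theorem D33781 : act 3 n31868 = n33781 := rfl
theorem F156982 : act 0 n33781 = n32805 := d2_1 D33781 (iv D32805) (iv F148267)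
theorem F156983 : act 1 n33781 = n32520 := d10_1 D33781 F151070 (iv F148268)
theorem F156984 : act 5 n33781 = n33781 := d25_2 F148270 D33781 (iv D33781)
theorem F156985 : act 6 n33781 = n31913 := d26_2 (iv F148271) D33781 (iv D31913)
theorem F156986 : act 9 n33781 = n31882 := d29_2 (iv F148272) D33781 (iv D31882)
def n33782 : Q := act 7 n31868
theorem D33782 : act 7 n31868 = n33782 := rfl
theorem F156987 : act 0 n33782 = n32806 := d6_1 D33782 (iv D32806) (iv F148267)
theorem F156988 : act 1 n33782 = n32528 := d14_1 D33782 (iv D32528) (iv F148268)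
theorem F156989 : act 2 n33782 = n31871 := d21_1 D33782 (iv D31871) (iv F148269)
theorem F156990 : act 4 n33782 = n31869 := d32_1 D33782 (iv D31869) D31868
theorem F156991 : act 5 n33782 = n33782 := d36_1 D33782 (iv D33782) F148270
theorem F156992 : act 9 n33782 = n31883 := d43_2 (iv F148272) D33782 (iv D31883)
def n33783 : Q := act 8 n31868
theorem D33783 : act 8 n31868 = n33783 := rfl
theorem F156993 : act 0 n33783 = n32532 := d7_1 D33783 (iv F151115) (iv F148267)
theorem F156994 : act 1 n33783 = n32159 := d15_1 D33783 F149747 (iv F148268)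
theorem F156995 : act 2 n33783 = n31872 := d22_1 D33783 (iv D31872) (iv F148269)
theorem F156996 : act 4 n33783 = n31870 := d33_1 D33783 (iv D31870) D31868
theorem F156997 : act 6 n33783 = n31915 := d40_1 D33783 (iv D31915) (iv F148271)
theorem F156998 : act 5 n32531 = n33783 := d35_5 F156997 F148509 F140569 (iv F141936) D32531
theorem F156999 : act 9 n33783 = n32939 := d38_2 (iv F151109) F156998 (iv D32939)
def n33784 : Q := act 6 n31869
theorem D33784 : act 6 n31869 = n33784 := rfl
theorem F157000 : act 0 n33784 = n32807 := d5_1 D33784 (iv D32807) (iv F148273)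
theorem F157001 : act 1 n33784 = n32801 := d13_1 D33784 F152067 (iv F148274)
theorem F157002 : act 2 n33784 = n31873 := d20_1 D33784 (iv D31873) (iv F148275)
theorem F157003 : act 5 n33784 = n32295 := d35_1 D33784 (iv D32295) F141100 (iv F138975) (iv F148276)
theorem F157004 : act 7 n33784 = n31916 := d39_2 D31869 D33784 (iv D31916) (iv D29871) (iv F138969)
theorem F157005 : act 9 n33784 = n31885 := d41_2 (iv F148277) D33784 (iv D31885)
def n33785 : Q := act 8 n31869
theorem D33785 : act 8 n31869 = n33785 := rfl
theorem F157006 : act 0 n33785 = n32808 := d7_1 D33785 (iv D32808) (iv F148273)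
theorem F157007 : act 1 n33785 = n32283 := d15_1 D33785 F150188 (iv F148274)
theorem F157008 : act 2 n33785 = n31874 := d22_1 D33785 (iv D31874) (iv F148275)
theorem F157009 : act 5 n33785 = n33785 := d37_1 D33785 (iv D33785) F148276 F138976 (iv F148276)
theorem F157010 : act 7 n33785 = n31870 := d42_1 D33785 (iv D31870) D31869
def n33786 : Q := act 9 n31870
theorem D33786 : act 9 n31870 = n33786 := rfl
theorem F157011 : act 0 n33786 = n32809 := d8_1 D33786 (iv D32809) (iv F148278)
theorem F157012 : act 1 n33786 = n32284 := d16_1 D33786 (iv D32284) (iv F148279)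
theorem F157013 : act 2 n33786 = n31875 := d23_1 D33786 (iv D31875) (iv F148280)
theorem F157014 : act 4 n33786 = n32939 := d34_1 D33786 (iv F156999) F156996
theorem F157015 : act 5 n33786 = n33786 := d38_1 D33786 (iv D33786) F148281
theorem F157016 : act 6 n33786 = n31918 := d41_1 D33786 (iv D31918) (iv F148282)
theorem F157017 : act 8 n33786 = n31887 := d44_1 D33786 (iv D31887) (iv D29846) (iv F138970) D31870
def n33787 : Q := act 6 n31871
theorem D33787 : act 6 n31871 = n33787 := rfl
theorem F157018 : act 0 n33787 = n32810 := d5_1 D33787 (iv D32810) (iv F148283)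
theorem F157019 : act 1 n33787 = n33787 := d13_1 D33787 (iv D33787) F148284
theorem F157020 : act 4 n33787 = n31873 := d31_1 D33787 (iv D31873) (iv F148285)
theorem F157021 : act 7 n33787 = n31919 := d39_2 D31871 D33787 (iv D31919) (iv D29873) (iv F138981)
theorem F157022 : act 9 n33787 = n31888 := d41_2 (iv F148287) D33787 (iv D31888)
def n33788 : Q := act 8 n31871
theorem D33788 : act 8 n31871 = n33788 := rfl
theorem F157023 : act 0 n33788 = n32811 := d7_1 D33788 (iv D32811) (iv F148283)
theorem F157024 : act 1 n33788 = n33788 := d15_1 D33788 (iv D33788) F148284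
theorem F157025 : act 3 n33788 = n33002 := d28_1 D33788 (iv F155195) F155192
theorem F157026 : act 4 n33788 = n31874 := d33_1 D33788 (iv D31874) (iv F148285)
theorem F157027 : act 7 n33788 = n31872 := d42_1 D33788 (iv D31872) D31871
theorem F157028 : act 5 n32962 = n33788 := d36_3 F157027 (iv F148293) D32962
theorem F157029 : act 9 n32968 = n33788 := d43_0 F157027 F148294 D32968
def n33789 : Q := act 8 n31873
theorem D33789 : act 8 n31873 = n33789 := rfl
theorem F157030 : act 0 n33789 = n32812 := d7_1 D33789 (iv D32812) (iv F148295)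
theorem F157031 : act 1 n33789 = n33789 := d15_1 D33789 (iv D33789) F148296
theorem F157032 : act 3 n33789 = n31876 := d28_1 D33789 (iv D31876) (iv F148297)
theorem F157033 : act 6 n33789 = n31874 := d40_1 D33789 (iv D31874) D31873
theorem F157034 : act 7 n33789 = n31922 := d42_1 D33789 (iv D31922) (iv F148299)
def n33790 : Q := act 9 n31874
theorem D33790 : act 9 n31874 = n33790 := rfl
theorem F157035 : act 0 n33790 = n32813 := d8_1 D33790 (iv D32813) (iv F148301)
theorem F157036 : act 1 n33790 = n33790 := d16_1 D33790 (iv D33790) F148302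
theorem F157037 : act 3 n33790 = n31877 := d29_1 D33790 (iv D31877) (iv F148303)
theorem F157038 : act 4 n33790 = n32968 := d34_1 D33790 F157029 F157026
theorem F157039 : act 5 n33790 = n33790 := d38_1 D33790 (iv D33790) F148304
theorem F157040 : act 7 n33790 = n31875 := d43_1 D33790 (iv D31875) (iv F148305)
theorem F157041 : act 8 n33790 = n31893 := d44_1 D33790 (iv D31893) (iv D29850) (iv F138987) D31874
def n33791 : Q := act 5 n31876
theorem D33791 : act 5 n31876 = n33791 := rfl
theorem F157042 : act 0 n33791 = n32814 := d4_1 D33791 (iv D32814) (iv F148313)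
theorem F157043 : act 1 n33791 = n33791 := d12_1 D33791 (iv D33791) F148314
theorem F157044 : act 6 n33791 = n33791 := d35_2 (iv F148315) D33791 (iv D33791) F148315 F139000
theorem F157045 : act 7 n33791 = n31924 := d36_2 (iv F148316) D33791 (iv D31924)
theorem F157046 : act 8 n33791 = n32299 := d37_2 D31876 D33791 (iv D32299) (iv D30301) (iv F138995)
def n33792 : Q := act 9 n31876
theorem D33792 : act 9 n31876 = n33792 := rfl
theorem F157047 : act 0 n33792 = n32815 := d8_1 D33792 (iv D32815) (iv F148313)
theorem F157048 : act 1 n33792 = n33792 := d16_1 D33792 (iv D33792) F148314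
theorem F157049 : act 6 n33792 = n31877 := d41_1 D33792 (iv D31877) (iv F148315)
theorem F157050 : act 7 n33792 = n31925 := d43_1 D33792 (iv D31925) (iv F148316)
theorem F157051 : act 8 n33792 = n31895 := d44_1 D33792 (iv D31895) (iv D29852) (iv F138997) D31876
def n33793 : Q := act 3 n31879
theorem D33793 : act 3 n31879 = n33793 := rfl
theorem F157052 : act 1 n33793 = n31882 := d10_1 D33793 (iv D31882) (iv F148329)
theorem F157053 : act 5 n33793 = n33793 := d25_2 F148331 D33793 (iv D33793)
theorem F157054 : act 6 n33793 = n31926 := d26_2 (iv F148332) D33793 (iv D31926)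
theorem F157055 : act 9 n33793 = n32520 := d29_2 (iv F148333) D33793 F151070
def n33794 : Q := act 7 n31879
theorem D33794 : act 7 n31879 = n33794 := rfl
theorem F157056 : act 1 n33794 = n31883 := d14_1 D33794 (iv D31883) (iv F148329)
theorem F157057 : act 2 n33794 = n33794 := d21_1 D33794 (iv D33794) F148330
theorem F157058 : act 4 n33794 = n31880 := d32_1 D33794 (iv D31880) D31879
theorem F157059 : act 5 n33794 = n33794 := d36_1 D33794 (iv D33794) F148331
theorem F157060 : act 9 n33794 = n32528 := d43_2 (iv F148333) D33794 (iv D32528)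
def n33795 : Q := act 8 n31879
theorem D33795 : act 8 n31879 = n33795 := rfl
theorem F157061 : act 0 n33795 = n32163 := d7_1 D33795 F155104 F155098
theorem F157062 : act 1 n33795 = n31884 := d15_1 D33795 (iv D31884) (iv F148329)
theorem F157063 : act 2 n33795 = n33795 := d22_1 D33795 (iv D33795) F148330
theorem F157064 : act 4 n33795 = n31881 := d33_1 D33795 (iv D31881) D31879
theorem F157065 : act 6 n33795 = n31928 := d40_1 D33795 (iv D31928) (iv F148332)
theorem F157066 : act 5 n32174 = n33795 := d30_0 F157064 F148341 F140419 D30195 D32174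
def n33796 : Q := act 6 n31880
theorem D33796 : act 6 n31880 = n33796 := rfl
theorem F157067 : act 1 n33796 = n31885 := d13_1 D33796 (iv D31885) (iv F148334)
theorem F157068 : act 2 n33796 = n33796 := d20_1 D33796 (iv D33796) F148335
theorem F157069 : act 7 n33796 = n31929 := d39_2 D31880 D33796 (iv D31929) (iv D29881) (iv F139015)
theorem F157070 : act 9 n33796 = n32801 := d41_2 (iv F148337) D33796 F152067
def n33797 : Q := act 8 n31880
theorem D33797 : act 8 n31880 = n33797 := rfl
theorem F157071 : act 0 n33797 = n32164 := d7_1 D33797 F156964 F156959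
theorem F157072 : act 1 n33797 = n31886 := d15_1 D33797 (iv D31886) (iv F148334)
theorem F157073 : act 2 n33797 = n33797 := d22_1 D33797 (iv D33797) F148335
theorem F157074 : act 5 n33797 = n32109 := d37_1 D33797 (iv D32109) F140413 (iv F139020) (iv F148336)
theorem F157075 : act 7 n33797 = n31881 := d42_1 D33797 (iv D31881) D31880
def n33798 : Q := act 9 n31881
theorem D33798 : act 9 n31881 = n33798 := rfl
theorem F157076 : act 0 n33798 = n31897 := d8_1 D33798 F148418 (iv F148338)
theorem F157077 : act 1 n33798 = n31887 := d16_1 D33798 (iv D31887) (iv F148339)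
theorem F157078 : act 2 n33798 = n33798 := d23_1 D33798 (iv D33798) F148340
theorem F157079 : act 5 n33798 = n31896 := d38_1 D33798 F148415 (iv F148341)
theorem F157080 : act 6 n33798 = n31931 := d41_1 D33798 (iv D31931) (iv F148342)
theorem F157081 : act 8 n33798 = n32284 := d44_1 D33798 (iv D32284) F141070 (iv F139016) D31881
def n33799 : Q := act 7 n31882
theorem D33799 : act 7 n31882 = n33799 := rfl
theorem F157082 : act 0 n33799 = n32818 := d6_1 D33799 (iv D32818) (iv F148343)
theorem F157083 : act 3 n33799 = n31883 := d27_1 D33799 (iv D31883) D31882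
theorem F157084 : act 5 n33799 = n33799 := d36_1 D33799 (iv D33799) F148344
def n33800 : Q := act 8 n31882
theorem D33800 : act 8 n31882 = n33800 := rfl
theorem F157085 : act 0 n33800 = n32819 := d7_1 D33800 (iv D32819) (iv F148343)
theorem F157086 : act 3 n33800 = n31884 := d28_1 D33800 (iv D31884) D31882
theorem F157087 : act 6 n33800 = n31933 := d40_1 D33800 (iv D31933) (iv F148345)
def n33801 : Q := act 6 n31883
theorem D33801 : act 6 n31883 = n33801 := rfl
theorem F157088 : act 0 n33801 = n32820 := d5_1 D33801 (iv D32820) (iv F148346)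
theorem F157089 : act 2 n33801 = n31888 := d20_1 D33801 (iv D31888) (iv F148347)
theorem F157090 : act 4 n33801 = n31885 := d31_1 D33801 (iv D31885) (iv F148348)
theorem F157091 : act 7 n33801 = n31934 := d39_2 D31883 D33801 (iv D31934) (iv D29884) (iv F139025)
def n33802 : Q := act 8 n31883
theorem D33802 : act 8 n31883 = n33802 := rfl
theorem F157092 : act 0 n33802 = n32821 := d7_1 D33802 (iv D32821) (iv F148346)
theorem F157093 : act 2 n33802 = n31889 := d22_1 D33802 (iv D31889) (iv F148347)
theorem F157094 : act 4 n33802 = n31886 := d33_1 D33802 (iv D31886) (iv F148348)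
theorem F157095 : act 7 n33802 = n31884 := d42_1 D33802 (iv D31884) D31883
theorem F157096 : act 5 n32161 = n33802 := d36_3 F157095 (iv F153287) F153289
def n33803 : Q := act 9 n31884
theorem D33803 : act 9 n31884 = n33803 := rfl
theorem F157097 : act 0 n33803 = n32822 := d8_1 D33803 (iv D32822) (iv F148350)
theorem F157098 : act 2 n33803 = n31891 := d23_1 D33803 (iv D31891) (iv F148351)
theorem F157099 : act 4 n33803 = n31887 := d34_1 D33803 (iv D31887) (iv F148352)
theorem F157100 : act 5 n33803 = n32863 := d38_1 D33803 (iv F153291) F153287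
theorem F157101 : act 6 n33803 = n31936 := d41_1 D33803 (iv D31936) (iv F148353)
theorem F157102 : act 8 n33803 = n32939 := d44_1 D33803 (iv F156999) (iv D33783) F148272 D31884
def n33804 : Q := act 8 n31885
theorem D33804 : act 8 n31885 = n33804 := rfl
theorem F157103 : act 0 n33804 = n32823 := d7_1 D33804 (iv D32823) (iv F148354)
theorem F157104 : act 2 n33804 = n31892 := d22_1 D33804 (iv D31892) (iv F148355)
theorem F157105 : act 5 n33804 = n32151 := d37_1 D33804 (iv D32151) (iv F149695) (iv F156980) F156978
theorem F157106 : act 6 n33804 = n31886 := d40_1 D33804 (iv D31886) D31885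
theorem F157107 : act 7 n33804 = n31937 := d42_1 D33804 (iv D31937) (iv F148356)
def n33805 : Q := act 9 n31886
theorem D33805 : act 9 n31886 = n33805 := rfl
theorem F157108 : act 0 n33805 = n32824 := d8_1 D33805 (iv D32824) (iv F148357)
theorem F157109 : act 2 n33805 = n31893 := d23_1 D33805 (iv D31893) (iv F148358)
theorem F157110 : act 5 n33805 = n32110 := d38_1 D33805 (iv D32110) (iv F148359)
theorem F157111 : act 7 n33805 = n31887 := d43_1 D33805 (iv D31887) (iv F148360)
def n33806 : Q := act 5 n31888
theorem D33806 : act 5 n31888 = n33806 := rfl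
theorem F157112 : act 0 n33806 = n32825 := d4_1 D33806 (iv D32825) (iv F148365)
theorem F157113 : act 1 n33806 = n33806 := d12_1 D33806 (iv D33806) F148366
theorem F157114 : act 6 n33806 = n33806 := d35_2 D31888 D33806 (iv D33806) (iv D31888) F139036
theorem F157115 : act 7 n33806 = n31939 := d36_2 (iv F148368) D33806 (iv D31939)
def n33807 : Q := act 8 n31888
theorem D33807 : act 8 n31888 = n33807 := rfl
theorem F157116 : act 0 n33807 = n32826 := d7_1 D33807 (iv D32826) (iv F148365)
theorem F157117 : act 1 n33807 = n33807 := d15_1 D33807 (iv D33807) F148366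
theorem F157118 : act 4 n33807 = n31892 := d33_1 D33807 (iv D31892) (iv F148367)
theorem F157119 : act 6 n33807 = n31889 := d40_1 D33807 (iv D31889) D31888
theorem F157120 : act 7 n33807 = n31940 := d42_1 D33807 (iv D31940) (iv F148368)
theorem F157121 : act 5 n32315 = n33807 := d35_5 F157119 (iv F148373) F140715 (iv F141187) (iv F150290)
def n33808 : Q := act 9 n31889
theorem D33808 : act 9 n31889 = n33808 := rfl
theorem F157122 : act 0 n33808 = n32827 := d8_1 D33808 (iv D32827) (iv F148369)
theorem F157123 : act 1 n33808 = n33808 := d16_1 D33808 (iv D33808) F148370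
theorem F157124 : act 3 n33808 = n33010 := d29_1 D33808 (iv F155279) F155276
theorem F157125 : act 4 n33808 = n31893 := d34_1 D33808 (iv D31893) (iv F148371)
theorem F157126 : act 5 n33808 = n32171 := d38_1 D33808 (iv D32171) F148373
theorem F157127 : act 7 n33808 = n31891 := d43_1 D33808 (iv D31891) (iv F148372)
theorem F157128 : act 8 n33808 = n32968 := d44_1 D33808 F157029 (iv D33788) F148287 D31889
def n33809 : Q := act 9 n31892
theorem D33809 : act 9 n31892 = n33809 := rfl
theorem F157129 : act 0 n33809 = n32828 := d8_1 D33809 (iv D32828) (iv F148389)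
theorem F157130 : act 1 n33809 = n33809 := d16_1 D33809 (iv D33809) F148390
theorem F157131 : act 3 n33809 = n31895 := d29_1 D33809 (iv D31895) (iv F148391)
theorem F157132 : act 5 n33809 = n32169 := d38_1 D33809 (iv D32169) (iv F148392)
theorem F157133 : act 6 n33809 = n31893 := d41_1 D33809 (iv D31893) (iv F148393)
theorem F157134 : act 7 n33809 = n31943 := d43_1 D33809 (iv D31943) (iv F148394)
def n33810 : Q := act 4 n31894
theorem D33810 : act 4 n31894 = n33810 := rfl
theorem F157135 : act 0 n33810 = n32829 := d3_1 D33810 (iv D32829) (iv F148400)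
theorem F157136 : act 1 n33810 = n33810 := d11_1 D33810 (iv D33810) F148401
theorem F157137 : act 3 n33810 = n32312 := d24_1 D33810 F150279 F141151 (iv F140708) (iv F148402)
theorem F157138 : act 6 n33810 = n32111 := d31_2 (iv F148403) D33810 (iv D32111)
theorem F157139 : act 7 n33810 = n31944 := d32_2 (iv F148404) D33810 (iv D31944)
theorem F157140 : act 8 n33810 = n32168 := d33_2 (iv F148405) D33810 F149773
def n33811 : Q := act 9 n31894
theorem D33811 : act 9 n31894 = n33811 := rfl
theorem F157141 : act 0 n33811 = n32830 := d8_1 D33811 (iv D32830) (iv F148400)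
theorem F157142 : act 1 n33811 = n33811 := d16_1 D33811 (iv D33811) F148401
theorem F157143 : act 3 n33811 = n32169 := d29_1 D33811 (iv D32169) (iv F148402)
theorem F157144 : act 5 n33811 = n31895 := d38_1 D33811 (iv D31895) D31894
theorem F157145 : act 6 n33811 = n32112 := d41_1 D33811 (iv D32112) (iv F148403)
theorem F157146 : act 7 n33811 = n31945 := d43_1 D33811 (iv D31945) (iv F148404)
def n33812 : Q := act 7 n31896
theorem D33812 : act 7 n31896 = n33812 := rfl
theorem F157147 : act 0 n33812 = n31898 := d6_1 D33812 (iv D31898) (iv F148410)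
theorem F157148 : act 1 n33812 = n32110 := d14_1 D33812 F149559 (iv F148411)
theorem F157149 : act 2 n33812 = n33812 := d21_1 D33812 (iv D33812) F148412
theorem F157150 : act 4 n33812 = n31952 := d32_1 D33812 (iv D31952) (iv F148413)
theorem F157151 : act 6 n33812 = n32131 := d39_1 D33812 F149647 F146681 F146678 D31896
theorem F157152 : act 8 n33812 = n33812 := d42_2 F148414 D33812 (iv D33812)
theorem F157153 : act 9 n33812 = n32109 := d43_2 (iv F148415) D33812 F149554
def n33813 : Q := act 4 n31897
theorem D33813 : act 4 n31897 = n33813 := rfl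
theorem F157154 : act 1 n33813 = n31899 := d11_1 D33813 (iv D31899) (iv F148416)
theorem F157155 : act 2 n33813 = n33813 := d18_1 D33813 (iv D33813) F148417
theorem F157156 : act 5 n33813 = n31953 := d30_2 D31897 D33813 (iv D31953) (iv D29907) (iv F139071)
theorem F157157 : act 8 n33813 = n32922 := d33_2 F153863 D33813 (iv F153860)
theorem F157158 : act 9 n33813 = n32163 := d34_2 (iv F148418) D33813 (iv D32163)
def n33814 : Q := act 7 n31897
theorem D33814 : act 7 n31897 = n33814 := rfl
theorem F157159 : act 1 n33814 = n31900 := d14_1 D33814 (iv D31900) (iv F148416)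
theorem F157160 : act 2 n33814 = n33814 := d21_1 D33814 (iv D33814) F148417
theorem F157161 : act 5 n33814 = n31898 := d36_1 D33814 (iv D31898) D31897
theorem F157162 : act 9 n33814 = n32164 := d43_2 (iv F148418) D33814 (iv D32164)
def n33815 : Q := act 3 n31899
theorem D33815 : act 3 n31899 = n33815 := rfl
theorem F157163 : act 0 n33815 = n32396 := d2_1 D33815 F150657 (iv F148424)
theorem F157164 : act 2 n33815 = n31907 := d17_1 D33815 (iv D31907) F139113 (iv F139084) (iv F148425)
theorem F157165 : act 5 n33815 = n31956 := d25_2 (iv F148426) D33815 (iv D31956)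
theorem F157166 : act 8 n33815 = n32351 := d28_2 F148428 D33815 F150452
theorem F157167 : act 9 n33815 = n32165 := d29_2 (iv F148427) D33815 (iv D32165)
def n33816 : Q := act 7 n31899
theorem D33816 : act 7 n31899 = n33816 := rfl
theorem F157168 : act 0 n33816 = n32831 := d6_1 D33816 (iv D32831) (iv F148424)
theorem F157169 : act 2 n33816 = n31902 := d21_1 D33816 (iv D31902) (iv F148425)
theorem F157170 : act 4 n33816 = n31900 := d32_1 D33816 (iv D31900) D31899
theorem F157171 : act 5 n33816 = n31957 := d36_1 D33816 (iv D31957) (iv F148426)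
theorem F157172 : act 8 n33816 = n32924 := d42_2 F148428 D33816 (iv D32924)
theorem F157173 : act 9 n33816 = n32166 := d43_2 (iv F148427) D33816 (iv D32166)
def n33817 : Q := act 6 n31900
theorem D33817 : act 6 n31900 = n33817 := rfl
theorem F157174 : act 0 n33817 = n32832 := d5_1 D33817 (iv D32832) (iv F148429)
theorem F157175 : act 2 n33817 = n31903 := d20_1 D33817 (iv D31903) (iv F148430)
theorem F157176 : act 9 n33817 = n32167 := d41_2 (iv F148432) D33817 (iv D32167)
def n33818 : Q := act 8 n31900
theorem D33818 : act 8 n31900 = n33818 := rfl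
theorem F157177 : act 0 n33818 = n32833 := d7_1 D33818 (iv D32833) (iv F148429)
theorem F157178 : act 2 n33818 = n31904 := d22_1 D33818 (iv D31904) (iv F148430)
theorem F157179 : act 4 n33818 = n32924 := d33_1 D33818 (iv F157172) F157170
theorem F157180 : act 5 n33818 = n33818 := d37_1 D33818 (iv D33818) F148431 F139080 (iv F148431)
theorem F157181 : act 7 n33818 = n31901 := d42_1 D33818 (iv D31901) D31900
def n33819 : Q := act 6 n31902
theorem D33819 : act 6 n31902 = n33819 := rfl
theorem F157182 : act 0 n33819 = n32834 := d5_1 D33819 (iv D32834) (iv F148437)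
theorem F157183 : act 1 n33819 = n33819 := d13_1 D33819 (iv D33819) F148438
theorem F157184 : act 3 n33819 = n31910 := d26_1 D33819 (iv D31910) (iv F148439)
theorem F157185 : act 4 n33819 = n31903 := d31_1 D33819 (iv D31903) (iv F148440)
theorem F157186 : act 8 n33819 = n32925 := d40_2 (iv F148442) D33819 (iv D32925)
theorem F157187 : act 9 n33819 = n32168 := d41_2 (iv F148443) D33819 (iv D32168)
def n33820 : Q := act 8 n31903
theorem D33820 : act 8 n31903 = n33820 := rfl
theorem F157188 : act 0 n33820 = n32835 := d7_1 D33820 (iv D32835) (iv F148444)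
theorem F157189 : act 1 n33820 = n33820 := d15_1 D33820 (iv D33820) F148445
theorem F157190 : act 3 n33820 = n31905 := d28_1 D33820 (iv D31905) (iv F148446)
theorem F157191 : act 4 n33820 = n32925 := d33_1 D33820 (iv F157186) F157185
theorem F157192 : act 6 n33820 = n31904 := d40_1 D33820 (iv D31904) D31903
def n33821 : Q := act 5 n31905
theorem D33821 : act 5 n31905 = n33821 := rfl
theorem F157193 : act 0 n33821 = n32836 := d4_1 D33821 (iv D32836) (iv F148454)
theorem F157194 : act 1 n33821 = n33821 := d12_1 D33821 (iv D33821) F148455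
theorem F157195 : act 6 n33821 = n33821 := d35_2 (iv F148457) D33821 (iv D33821) F148457 F139105
def n33822 : Q := act 9 n31905
theorem D33822 : act 9 n31905 = n33822 := rfl
theorem F157196 : act 0 n33822 = n32837 := d8_1 D33822 (iv D32837) (iv F148454)
theorem F157197 : act 1 n33822 = n33822 := d16_1 D33822 (iv D33822) F148455
theorem F157198 : act 4 n33822 = n31912 := d34_1 D33822 (iv D31912) (iv F148456)
theorem F157199 : act 6 n33822 = n31906 := d41_1 D33822 (iv D31906) (iv F148457)
theorem F157200 : act 8 n33822 = n32169 := d44_1 D33822 (iv D32169) (iv D30188) (iv F139101) D31905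
def n33823 : Q := act 7 n31907
theorem D33823 : act 7 n31907 = n33823 := rfl
theorem F157201 : act 0 n33823 = n32400 := d6_1 D33823 F150670 (iv F148464)
theorem F157202 : act 3 n33823 = n31908 := d27_1 D33823 (iv D31908) D31907
theorem F157203 : act 5 n33823 = n31963 := d36_1 D33823 (iv D31963) (iv F148465)
theorem F157204 : act 8 n33823 = n32354 := d42_2 (iv F148466) D33823 (iv D32354)
theorem F157205 : act 9 n33823 = n32305 := d43_2 (iv F148467) D33823 (iv D32305)
def n33824 : Q := act 6 n31908
theorem D33824 : act 6 n31908 = n33824 := rfl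
theorem F157206 : act 0 n33824 = n32401 := d5_1 D33824 F150674 (iv F148468)
theorem F157207 : act 2 n33824 = n31910 := d20_1 D33824 (iv D31910) (iv F148469)
theorem F157208 : act 4 n33824 = n31909 := d31_1 D33824 (iv D31909) (iv F148470)
theorem F157209 : act 8 n33824 = n32355 := d40_2 (iv F148472) D33824 (iv D32355)
theorem F157210 : act 9 n33824 = n32307 := d41_2 (iv F148473) D33824 (iv D32307)
def n33825 : Q := act 5 n31910
theorem D33825 : act 5 n31910 = n33825 := rfl
theorem F157211 : act 0 n33825 = n32838 := d4_1 D33825 (iv D32838) (iv F148479)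
theorem F157212 : act 1 n33825 = n33825 := d12_1 D33825 (iv D33825) F148480
theorem F157213 : act 4 n33825 = n31939 := d30_1 D33825 (iv D31939) F139222 (iv F139131) (iv F148481)
theorem F157214 : act 6 n33825 = n31965 := d35_2 D31910 D33825 (iv D31965) (iv D29919) (iv F139125)
theorem F157215 : act 9 n33825 = n32311 := d38_2 (iv F148483) D33825 (iv D32311)
def n33826 : Q := act 4 n31911
theorem D33826 : act 4 n31911 = n33826 := rfl
theorem F157216 : act 0 n33826 = n32839 := d3_1 D33826 (iv D32839) (iv F148484)
theorem F157217 : act 1 n33826 = n33826 := d11_1 D33826 (iv D33826) F148485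
theorem F157218 : act 3 n33826 = n32297 := d24_1 D33826 F150234 F141108 (iv F140684) (iv F148486)
theorem F157219 : act 6 n33826 = n31946 := d31_2 (iv F148487) D33826 (iv D31946)
theorem F157220 : act 7 n33826 = n32168 := d32_2 (iv F148488) D33826 F149773
theorem F157221 : act 8 n33826 = n31944 := d33_2 (iv F148489) D33826 (iv D31944)
def n33827 : Q := act 7 n31913
theorem D33827 : act 7 n31913 = n33827 := rfl
theorem F157222 : act 0 n33827 = n32840 := d6_1 D33827 (iv D32840) (iv F148495)
theorem F157223 : act 1 n33827 = n32519 := d14_1 D33827 F151069 (iv F148496)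
theorem F157224 : act 3 n33827 = n31914 := d27_1 D33827 (iv D31914) D31913
theorem F157225 : act 5 n33827 = n31966 := d36_1 D33827 (iv D31966) (iv F148497)
theorem F157226 : act 9 n33827 = n31932 := d43_2 (iv F148498) D33827 (iv D31932)
def n33828 : Q := act 8 n31913
theorem D33828 : act 8 n31913 = n33828 := rfl
theorem F157227 : act 0 n33828 = n32452 := d7_1 D33828 F150867 (iv F148495)
theorem F157228 : act 1 n33828 = n32154 := d15_1 D33828 F149730 (iv F148496)
theorem F157229 : act 3 n33828 = n31915 := d28_1 D33828 (iv D31915) D31913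
theorem F157230 : act 5 n33828 = n32128 := d37_1 D33828 (iv D32128) F140541 (iv F139382) (iv F148497)
def n33829 : Q := act 6 n31914
theorem D33829 : act 6 n31914 = n33829 := rfl
theorem F157231 : act 0 n33829 = n32841 := d5_1 D33829 (iv D32841) (iv F148499)
theorem F157232 : act 1 n33829 = n32527 := d13_1 D33829 (iv D32527) (iv F148500)
theorem F157233 : act 2 n33829 = n31919 := d20_1 D33829 (iv D31919) (iv F148501)
theorem F157234 : act 4 n33829 = n31916 := d31_1 D33829 (iv D31916) (iv F148502)
theorem F157235 : act 9 n33829 = n31934 := d41_2 (iv F148504) D33829 (iv D31934)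
def n33830 : Q := act 8 n31914
theorem D33830 : act 8 n31914 = n33830 := rfl
theorem F157236 : act 0 n33830 = n32582 := d7_1 D33830 F151359 (iv F148499)
theorem F157237 : act 1 n33830 = n32157 := d15_1 D33830 F149740 (iv F148500)
theorem F157238 : act 2 n33830 = n31920 := d22_1 D33830 (iv D31920) (iv F148501)
theorem F157239 : act 4 n33830 = n31917 := d33_1 D33830 (iv D31917) (iv F148502)
theorem F157240 : act 5 n33830 = n32132 := d37_1 D33830 (iv D32132) F140562 (iv F139388) (iv F148503)
theorem F157241 : act 7 n33830 = n31915 := d42_1 D33830 (iv D31915) D31914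
def n33831 : Q := act 9 n31915
theorem D33831 : act 9 n31915 = n33831 := rfl
theorem F157242 : act 0 n33831 = n32573 := d8_1 D33831 F151311 (iv F148505)
theorem F157243 : act 1 n33831 = n32160 := d16_1 D33831 (iv D32160) (iv F148506)
theorem F157244 : act 2 n33831 = n31921 := d23_1 D33831 (iv D31921) (iv F148507)
theorem F157245 : act 4 n33831 = n31918 := d34_1 D33831 (iv D31918) (iv F148508)
theorem F157246 : act 5 n33831 = n32133 := d38_1 D33831 (iv D32133) (iv F148509)
theorem F157247 : act 6 n33831 = n32939 := d41_1 D33831 (iv F156999) F156997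
theorem F157248 : act 8 n33831 = n31936 := d44_1 D33831 (iv D31936) (iv D29885) (iv F139148) D31915
def n33832 : Q := act 8 n31916
theorem D33832 : act 8 n31916 = n33832 := rfl
theorem F157249 : act 0 n33832 = n32842 := d7_1 D33832 (iv D32842) (iv F148510)
theorem F157250 : act 1 n33832 = n32281 := d15_1 D33832 F150182 (iv F148511)
theorem F157251 : act 2 n33832 = n31922 := d22_1 D33832 (iv D31922) (iv F148512)
theorem F157252 : act 6 n33832 = n31917 := d40_1 D33832 (iv D31917) D31916
def n33833 : Q := act 9 n31917
theorem D33833 : act 9 n31917 = n33833 := rfl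
theorem F157253 : act 0 n33833 = n32843 := d8_1 D33833 (iv D32843) (iv F148515)
theorem F157254 : act 1 n33833 = n32282 := d16_1 D33833 (iv D32282) (iv F148516)
theorem F157255 : act 2 n33833 = n31923 := d23_1 D33833 (iv D31923) (iv F148517)
theorem F157256 : act 5 n33833 = n32020 := d38_1 D33833 (iv D32020) (iv F148518)
theorem F157257 : act 7 n33833 = n31918 := d43_1 D33833 (iv D31918) (iv F148519)
theorem F157258 : act 8 n33833 = n31938 := d44_1 D33833 (iv D31938) (iv D29887) (iv F139153) D31917
def n33834 : Q := act 5 n31919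
theorem D33834 : act 5 n31919 = n33834 := rfl
theorem F157259 : act 0 n33834 = n32844 := d4_1 D33834 (iv D32844) (iv F148525)
theorem F157260 : act 1 n33834 = n33834 := d12_1 D33834 (iv D33834) F148526
theorem F157261 : act 4 n33834 = n32311 := d30_1 D33834 (iv D32311) F141145 (iv F139170) (iv F148527)
theorem F157262 : act 6 n33834 = n31968 := d35_2 D31919 D33834 (iv D31968) (iv D29923) (iv F139161)
theorem F157263 : act 9 n33834 = n31939 := d38_2 (iv F148528) D33834 (iv D31939)
def n33835 : Q := act 8 n31919
theorem D33835 : act 8 n31919 = n33835 := rfl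
theorem F157264 : act 0 n33835 = n32845 := d7_1 D33835 (iv D32845) (iv F148525)
theorem F157265 : act 1 n33835 = n33835 := d15_1 D33835 (iv D33835) F148526
theorem F157266 : act 4 n33835 = n31922 := d33_1 D33835 (iv D31922) (iv F148527)
theorem F157267 : act 6 n33835 = n31920 := d40_1 D33835 (iv D31920) D31919
theorem F157268 : act 5 n33009 = n33835 := d35_5 F157267 F148532 F144047 (iv F144102) D33009
def n33836 : Q := act 9 n31920
theorem D33836 : act 9 n31920 = n33836 := rfl
theorem F157269 : act 0 n33836 = n32846 := d8_1 D33836 (iv D32846) (iv F148529)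
theorem F157270 : act 1 n33836 = n33836 := d16_1 D33836 (iv D33836) F148530
theorem F157271 : act 3 n33836 = n32983 := d29_1 D33836 F155463 F155459
theorem F157272 : act 4 n33836 = n31923 := d34_1 D33836 (iv D31923) (iv F148531)
theorem F157273 : act 5 n33836 = n32950 := d38_1 D33836 F152616 (iv F148532)
theorem F157274 : act 7 n33836 = n31921 := d43_1 D33836 (iv D31921) (iv F148533)
theorem F157275 : act 8 n33836 = n31941 := d44_1 D33836 (iv D31941) (iv D29890) (iv F139162) D31920
def n33837 : Q := act 5 n31922
theorem D33837 : act 5 n31922 = n33837 := rfl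
theorem F157276 : act 0 n33837 = n32847 := d4_1 D33837 (iv D32847) (iv F148541)
theorem F157277 : act 1 n33837 = n33837 := d12_1 D33837 (iv D33837) F148542
theorem F157278 : act 3 n33837 = n31924 := d25_1 D33837 (iv D31924) (iv F148543)
theorem F157279 : act 6 n33837 = n32023 := d35_2 (iv F148544) D33837 (iv D32023) F139862 (iv F139175)
theorem F157280 : act 8 n33837 = n32313 := d37_2 D31922 D33837 (iv D32313) (iv D30314) (iv F139170)
def n33838 : Q := act 9 n31922
theorem D33838 : act 9 n31922 = n33838 := rfl
theorem F157281 : act 0 n33838 = n32848 := d8_1 D33838 (iv D32848) (iv F148541)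
theorem F157282 : act 1 n33838 = n33838 := d16_1 D33838 (iv D33838) F148542
theorem F157283 : act 3 n33838 = n31925 := d29_1 D33838 (iv D31925) (iv F148543)
theorem F157284 : act 6 n33838 = n31923 := d41_1 D33838 (iv D31923) (iv F148544)
theorem F157285 : act 8 n33838 = n31943 := d44_1 D33838 (iv D31943) (iv D29892) (iv F139171) D31922
def n33839 : Q := act 4 n31924
theorem D33839 : act 4 n31924 = n33839 := rfl
theorem F157286 : act 0 n33839 = n32849 := d3_1 D33839 (iv D32849) (iv F148551)
theorem F157287 : act 1 n33839 = n33839 := d11_1 D33839 (iv D33839) F148552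
theorem F157288 : act 6 n33839 = n32025 := d31_2 (iv F148553) D33839 (iv D32025)
theorem F157289 : act 8 n33839 = n32315 := d33_2 (iv F148554) D33839 (iv D32315)
def n33840 : Q := act 9 n31924
theorem D33840 : act 9 n31924 = n33840 := rfl
theorem F157290 : act 0 n33840 = n32850 := d8_1 D33840 (iv D32850) (iv F148551)
theorem F157291 : act 1 n33840 = n33840 := d16_1 D33840 (iv D33840) F148552
theorem F157292 : act 5 n33840 = n31925 := d38_1 D33840 (iv D31925) D31924
theorem F157293 : act 6 n33840 = n32026 := d41_1 D33840 (iv D32026) (iv F148553)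
def n33841 : Q := act 2 n31926
theorem D33841 : act 2 n31926 = n33841 := rfl
theorem F157294 : act 3 n33841 = n33841 := d17_2 D31926 D33841 (iv D33841) (iv D31926) F139191
theorem F157295 : act 5 n33841 = n31970 := d19_2 (iv F148560) D33841 (iv D31970)
theorem F157296 : act 9 n33841 = n32514 := d23_2 (iv F148561) D33841 F151051
def n33842 : Q := act 7 n31926
theorem D33842 : act 7 n31926 = n33842 := rfl
theorem F157297 : act 1 n33842 = n31932 := d14_1 D33842 (iv D31932) (iv F148559)
theorem F157298 : act 3 n33842 = n31927 := d27_1 D33842 (iv D31927) D31926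
theorem F157299 : act 5 n33842 = n31971 := d36_1 D33842 (iv D31971) (iv F148560)
theorem F157300 : act 9 n33842 = n32519 := d43_2 (iv F148561) D33842 F151069
def n33843 : Q := act 8 n31926
theorem D33843 : act 8 n31926 = n33843 := rfl
theorem F157301 : act 1 n33843 = n31933 := d15_1 D33843 (iv D31933) (iv F148559)
theorem F157302 : act 3 n33843 = n31928 := d28_1 D33843 (iv D31928) D31926
theorem F157303 : act 5 n33843 = n33843 := d37_1 D33843 (iv D33843) F148560 F139421 (iv F148560)
def n33844 : Q := act 6 n31927
theorem D33844 : act 6 n31927 = n33844 := rfl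
theorem F157304 : act 1 n33844 = n31934 := d13_1 D33844 (iv D31934) (iv F148562)
theorem F157305 : act 2 n33844 = n33844 := d20_1 D33844 (iv D33844) F148563
theorem F157306 : act 4 n33844 = n31929 := d31_1 D33844 (iv D31929) (iv F148564)
theorem F157307 : act 9 n33844 = n32527 := d41_2 (iv F148566) D33844 (iv D32527)
def n33845 : Q := act 8 n31927
theorem D33845 : act 8 n31927 = n33845 := rfl
theorem F157308 : act 1 n33845 = n31935 := d15_1 D33845 (iv D31935) (iv F148562)
theorem F157309 : act 2 n33845 = n33845 := d22_1 D33845 (iv D33845) F148563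
theorem F157310 : act 4 n33845 = n31930 := d33_1 D33845 (iv D31930) (iv F148564)
theorem F157311 : act 5 n33845 = n33845 := d37_1 D33845 (iv D33845) F148565 F139426 (iv F148565)
theorem F157312 : act 7 n33845 = n31928 := d42_1 D33845 (iv D31928) D31927
def n33846 : Q := act 9 n31928
theorem D33846 : act 9 n31928 = n33846 := rfl
theorem F157313 : act 1 n33846 = n31936 := d16_1 D33846 (iv D31936) (iv F148567)
theorem F157314 : act 2 n33846 = n33846 := d23_1 D33846 (iv D33846) F148568
theorem F157315 : act 4 n33846 = n31931 := d34_1 D33846 (iv D31931) (iv F148569)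
theorem F157316 : act 5 n33846 = n33846 := d38_1 D33846 (iv D33846) F148570
theorem F157317 : act 8 n33846 = n32160 := d44_1 D33846 (iv D32160) F140665 (iv F139193) D31928
def n33847 : Q := act 8 n31929
theorem D33847 : act 8 n31929 = n33847 := rfl
theorem F157318 : act 1 n33847 = n31937 := d15_1 D33847 (iv D31937) (iv F148571)
theorem F157319 : act 2 n33847 = n33847 := d22_1 D33847 (iv D33847) F148572
theorem F157320 : act 6 n33847 = n31930 := d40_1 D33847 (iv D31930) D31929
def n33848 : Q := act 9 n31930
theorem D33848 : act 9 n31930 = n33848 := rfl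
theorem F157321 : act 1 n33848 = n31938 := d16_1 D33848 (iv D31938) (iv F148574)
theorem F157322 : act 2 n33848 = n33848 := d23_1 D33848 (iv D33848) F148575
theorem F157323 : act 5 n33848 = n31947 := d38_1 D33848 (iv D31947) (iv F148576)
theorem F157324 : act 7 n33848 = n31931 := d43_1 D33848 (iv D31931) (iv F148577)
theorem F157325 : act 8 n33848 = n32282 := d44_1 D33848 (iv D32282) F141063 (iv F139197) D31930
def n33849 : Q := act 6 n31932
theorem D33849 : act 6 n31932 = n33849 := rfl
theorem F157326 : act 0 n33849 = n32852 := d5_1 D33849 (iv D32852) (iv F148582)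
theorem F157327 : act 3 n33849 = n31934 := d26_1 D33849 (iv D31934) (iv F148583)
def n33850 : Q := act 8 n31932
theorem D33850 : act 8 n31932 = n33850 := rfl
theorem F157328 : act 0 n33850 = n32853 := d7_1 D33850 (iv D32853) (iv F148582)
theorem F157329 : act 3 n33850 = n31935 := d28_1 D33850 (iv D31935) (iv F148583)
theorem F157330 : act 5 n33850 = n33850 := d37_1 D33850 (iv D33850) F148584 F139436 (iv F148584)
theorem F157331 : act 7 n33850 = n31933 := d42_1 D33850 (iv D31933) D31932
def n33851 : Q := act 9 n31933
theorem D33851 : act 9 n31933 = n33851 := rfl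
theorem F157332 : act 0 n33851 = n32854 := d8_1 D33851 (iv D32854) (iv F148585)
theorem F157333 : act 3 n33851 = n31936 := d29_1 D33851 (iv D31936) (iv F148586)
theorem F157334 : act 5 n33851 = n33851 := d38_1 D33851 (iv D33851) F148587
def n33852 : Q := act 5 n31934
theorem D33852 : act 5 n31934 = n33852 := rfl
theorem F157335 : act 0 n33852 = n32855 := d4_1 D33852 (iv D32855) (iv F148588)
theorem F157336 : act 2 n33852 = n31939 := d19_1 D33852 (iv D31939) (iv F148589)
theorem F157337 : act 6 n33852 = n31974 := d35_2 D31934 D33852 (iv D31974) (iv D29930) (iv F139206)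
def n33853 : Q := act 8 n31934
theorem D33853 : act 8 n31934 = n33853 := rfl
theorem F157338 : act 0 n33853 = n32856 := d7_1 D33853 (iv D32856) (iv F148588)
theorem F157339 : act 2 n33853 = n31940 := d22_1 D33853 (iv D31940) (iv F148589)
theorem F157340 : act 4 n33853 = n31937 := d33_1 D33853 (iv D31937) (iv F148590)
theorem F157341 : act 6 n33853 = n31935 := d40_1 D33853 (iv D31935) D31934
def n33854 : Q := act 9 n31935
theorem D33854 : act 9 n31935 = n33854 := rfl
theorem F157342 : act 0 n33854 = n32857 := d8_1 D33854 (iv D32857) (iv F148591)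
theorem F157343 : act 2 n33854 = n31941 := d23_1 D33854 (iv D31941) (iv F148592)
theorem F157344 : act 4 n33854 = n31938 := d34_1 D33854 (iv D31938) (iv F148593)
theorem F157345 : act 5 n33854 = n33854 := d38_1 D33854 (iv D33854) F148594
theorem F157346 : act 7 n33854 = n31936 := d43_1 D33854 (iv D31936) (iv F148595)
def n33855 : Q := act 5 n31937
theorem D33855 : act 5 n31937 = n33855 := rfl
theorem F157347 : act 0 n33855 = n32679 := d4_1 D33855 F151728 (iv F148600)
theorem F157348 : act 2 n33855 = n31942 := d19_1 D33855 (iv D31942) (iv F148601)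
theorem F157349 : act 6 n33855 = n31948 := d35_2 (iv F148602) D33855 (iv D31948) F139269 (iv F139215)
theorem F157350 : act 7 n33855 = n32151 := d36_2 F157107 D33855 (iv F157105)
theorem F157351 : act 8 n33855 = n32138 := d37_2 D31937 D33855 F149685 (iv F148477) F148476
theorem F157352 : act 4 n32242 = n33855 := d33_3 F157351 F149684 D32242
def n33856 : Q := act 9 n31937
theorem D33856 : act 9 n31937 = n33856 := rfl
theorem F157353 : act 0 n33856 = n32858 := d8_1 D33856 (iv D32858) (iv F148600)
theorem F157354 : act 2 n33856 = n31943 := d23_1 D33856 (iv D31943) (iv F148601)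
theorem F157355 : act 6 n33856 = n31938 := d41_1 D33856 (iv D31938) (iv F148602)
def n33857 : Q := act 8 n31939
theorem D33857 : act 8 n31939 = n33857 := rfl
theorem F157356 : act 0 n33857 = n32859 := d7_1 D33857 (iv D32859) (iv F148607)
theorem F157357 : act 1 n33857 = n33857 := d15_1 D33857 (iv D33857) F148608
theorem F157358 : act 6 n33857 = n31975 := d40_1 D33857 (iv D31975) (iv F148609)
def n33858 : Q := act 5 n31940
theorem D33858 : act 5 n31940 = n33858 := rfl
theorem F157359 : act 0 n33858 = n32860 := d4_1 D33858 (iv D32860) (iv F148610)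
theorem F157360 : act 1 n33858 = n33858 := d12_1 D33858 (iv D33858) F148611
theorem F157361 : act 4 n33858 = n32299 := d30_1 D33858 (iv D32299) F148625 (iv D31942) (iv F148612)
theorem F157362 : act 6 n33858 = n33858 := d35_2 (iv F148613) D33858 (iv D33858) F148613 F139226
theorem F157363 : act 7 n33858 = n32315 := d36_2 F157120 D33858 F157121
def n33859 : Q := act 9 n31940
theorem D33859 : act 9 n31940 = n33859 := rfl
theorem F157364 : act 0 n33859 = n32861 := d8_1 D33859 (iv D32861) (iv F148610)
theorem F157365 : act 1 n33859 = n33859 := d16_1 D33859 (iv D33859) F148611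
theorem F157366 : act 4 n33859 = n31943 := d34_1 D33859 (iv D31943) (iv F148612)
theorem F157367 : act 6 n33859 = n31941 := d41_1 D33859 (iv D31941) (iv F148613)
def n33860 : Q := act 9 n31942
theorem D33860 : act 9 n31942 = n33860 := rfl
theorem F157368 : act 0 n33860 = n32862 := d8_1 D33860 (iv D32862) (iv F148619)
theorem F157369 : act 1 n33860 = n33860 := d16_1 D33860 (iv D33860) F148620
theorem F157370 : act 3 n33860 = n31945 := d29_1 D33860 (iv D31945) (iv F148621)
theorem F157371 : act 4 n33860 = n32300 := d34_1 D33860 (iv D32300) F148625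
theorem F157372 : act 5 n33860 = n31943 := d38_1 D33860 (iv D31943) D31942
theorem F157373 : act 6 n33860 = n31950 := d41_1 D33860 (iv D31950) (iv F148622)
theorem F157374 : act 7 n33860 = n32169 := d43_1 D33860 (iv D32169) (iv F148623)
def n33861 : Q := act 9 n31948
theorem D33861 : act 9 n31948 = n33861 := rfl
theorem F157375 : act 0 n33861 = n32680 := d8_1 D33861 (iv D32680) (iv F148648)
theorem F157376 : act 2 n33861 = n31950 := d23_1 D33861 (iv D31950) (iv F148649)
theorem F157377 : act 4 n33861 = n32243 := d34_1 D33861 (iv D32243) F148652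
theorem F157378 : act 5 n33861 = n31949 := d38_1 D33861 (iv D31949) D31948
theorem F157379 : act 7 n33861 = n32113 := d43_1 D33861 (iv D32113) (iv F148650)
def n33862 : Q := act 4 n31951
theorem D33862 : act 4 n31951 = n33862 := rfl
theorem F157380 : act 0 n33862 = n31953 := d3_1 D33862 (iv D31953) (iv F148665)
theorem F157381 : act 1 n33862 = n32863 := d11_1 D33862 (iv D32863) (iv F148666)
theorem F157382 : act 2 n33862 = n33862 := d18_1 D33862 (iv D33862) F148667
theorem F157383 : act 6 n33862 = n33862 := d31_2 F148669 D33862 (iv D33862)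
theorem F157384 : act 9 n33862 = n32174 := d34_2 (iv F148670) D33862 (iv D32174)
theorem F157385 : act 8 n32935 = n33862 := d15_0 F157381 (iv F152280) (iv F152548)
def n33863 : Q := act 7 n31951
theorem D33863 : act 7 n31951 = n33863 := rfl
theorem F157386 : act 0 n33863 = n31954 := d6_1 D33863 (iv D31954) (iv F148665)
theorem F157387 : act 1 n33863 = n32162 := d14_1 D33863 F149758 (iv F148666)
theorem F157388 : act 2 n33863 = n33863 := d21_1 D33863 (iv D33863) F148667
theorem F157389 : act 3 n33863 = n32642 := d27_1 D33863 (iv D32642) (iv F148668)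
theorem F157390 : act 5 n33863 = n31952 := d36_1 D33863 (iv D31952) D31951
theorem F157391 : act 9 n33863 = n32135 := d43_2 (iv F148670) D33863 F149674
theorem F157392 : act 6 n32222 = n33863 := d41_3 F157391 F149673 D32222
def n33864 : Q := act 8 n31951
theorem D33864 : act 8 n31951 = n33864 := rfl
theorem F157393 : act 0 n33864 = n31955 := d7_1 D33864 (iv D31955) (iv F148665)
theorem F157394 : act 1 n33864 = n32864 := d15_1 D33864 (iv D32864) (iv F148666)
theorem F157395 : act 2 n33864 = n33864 := d22_1 D33864 (iv D33864) F148667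
theorem F157396 : act 3 n33864 = n32643 := d28_1 D33864 (iv D32643) (iv F148668)
theorem F157397 : act 4 n33864 = n32935 := d33_1 D33864 F157385 (iv D33862)
theorem F157398 : act 5 n33864 = n33864 := d37_1 D33864 (iv D33864) (iv D31951) F139301 D31951
theorem F157399 : act 6 n33864 = n33864 := d40_1 D33864 (iv D33864) F148669
theorem F157400 : act 9 n33864 = n33864 := d44_2 (iv F148670) D33864 (iv D33864) F148670 F140740
def n33865 : Q := act 3 n31953
theorem D33865 : act 3 n31953 = n33865 := rfl
theorem F157401 : act 1 n33865 = n31956 := d10_1 D33865 (iv D31956) (iv F148678)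
theorem F157402 : act 4 n33865 = n32404 := d24_2 D31953 D33865 F150686 (iv D30644) (iv F139305)
theorem F157403 : act 6 n33865 = n33865 := d26_2 F148680 D33865 (iv D33865)
theorem F157404 : act 8 n33865 = n32356 := d28_2 F148682 D33865 F150467
theorem F157405 : act 9 n33865 = n32175 := d29_2 (iv F148681) D33865 (iv D32175)
theorem F157406 : act 2 n32406 = n33865 := d22_3 F157404 F150466 D32406
def n33866 : Q := act 7 n31953
theorem D33866 : act 7 n31953 = n33866 := rfl
theorem F157407 : act 1 n33866 = n31957 := d14_1 D33866 (iv D31957) (iv F148678)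
theorem F157408 : act 2 n33866 = n33866 := d21_1 D33866 (iv D33866) F148679
theorem F157409 : act 4 n33866 = n31954 := d32_1 D33866 (iv D31954) D31953
theorem F157410 : act 8 n33866 = n32937 := d42_2 F148682 D33866 (iv D32937)
theorem F157411 : act 9 n33866 = n32176 := d43_2 (iv F148681) D33866 (iv D32176)
def n33867 : Q := act 6 n31954
theorem D33867 : act 6 n31954 = n33867 := rfl
theorem F157412 : act 0 n33867 = n32222 := d5_1 D33867 F157392 F157386
theorem F157413 : act 1 n33867 = n31958 := d13_1 D33867 (iv D31958) (iv F148683)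
theorem F157414 : act 2 n33867 = n33867 := d20_1 D33867 (iv D33867) F148684
theorem F157415 : act 3 n33867 = n32645 := d26_1 D33867 (iv D32645) (iv F148685)
theorem F157416 : act 5 n33867 = n32194 := d35_1 D33867 F149898 (iv F147010) F147011 (iv F148686)
theorem F157417 : act 7 n33867 = n33867 := d39_2 D31954 D33867 (iv D33867) (iv D31954) F139306
theorem F157418 : act 9 n33867 = n32177 := d41_2 (iv F148687) D33867 (iv D32177)
def n33868 : Q := act 8 n31954
theorem D33868 : act 8 n31954 = n33868 := rfl
theorem F157419 : act 1 n33868 = n31959 := d15_1 D33868 (iv D31959) (iv F148683)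
theorem F157420 : act 2 n33868 = n33868 := d22_1 D33868 (iv D33868) F148684
theorem F157421 : act 3 n33868 = n32646 := d28_1 D33868 (iv D32646) (iv F148685)
theorem F157422 : act 4 n33868 = n32937 := d33_1 D33868 (iv F157410) F157409
theorem F157423 : act 5 n33868 = n33868 := d37_1 D33868 (iv D33868) F148686 F139311 (iv F148686)
theorem F157424 : act 7 n33868 = n31955 := d42_1 D33868 (iv D31955) D31954
theorem F157425 : act 9 n33868 = n33868 := d44_2 (iv F148687) D33868 (iv D33868) F148687 F140749
def n33869 : Q := act 7 n31956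
theorem D33869 : act 7 n31956 = n33869 := rfl
theorem F157426 : act 0 n33869 = n32419 := d6_1 D33869 F150751 (iv F148695)
theorem F157427 : act 2 n33869 = n31963 := d21_1 D33869 (iv D31963) (iv F148696)
theorem F157428 : act 3 n33869 = n31957 := d27_1 D33869 (iv D31957) D31956
theorem F157429 : act 4 n33869 = n32647 := d32_1 D33869 (iv D32647) (iv F148697)
theorem F157430 : act 8 n33869 = n32359 := d42_2 (iv F148699) D33869 (iv D32359)
theorem F157431 : act 9 n33869 = n32178 := d43_2 (iv F148700) D33869 (iv D32178)
def n33870 : Q := act 6 n31957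
theorem D33870 : act 6 n31957 = n33870 := rfl
theorem F157432 : act 0 n33870 = n32867 := d5_1 D33870 (iv D32867) (iv F148701)
theorem F157433 : act 2 n33870 = n31960 := d20_1 D33870 (iv D31960) (iv F148702)
theorem F157434 : act 4 n33870 = n31958 := d31_1 D33870 (iv D31958) (iv F148703)
theorem F157435 : act 7 n33870 = n33870 := d39_2 D31957 D33870 (iv D33870) (iv D31957) F139315
theorem F157436 : act 8 n33870 = n32938 := d40_2 (iv F148704) D33870 (iv D32938)
theorem F157437 : act 9 n33870 = n32179 := d41_2 (iv F148705) D33870 (iv D32179)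
def n33871 : Q := act 8 n31958
theorem D33871 : act 8 n31958 = n33871 := rfl
theorem F157438 : act 0 n33871 = n32868 := d7_1 D33871 (iv D32868) (iv F148706)
theorem F157439 : act 2 n33871 = n31961 := d22_1 D33871 (iv D31961) (iv F148707)
theorem F157440 : act 3 n33871 = n32650 := d28_1 D33871 (iv D32650) (iv F148708)
theorem F157441 : act 4 n33871 = n32938 := d33_1 D33871 (iv F157436) F157434
theorem F157442 : act 6 n33871 = n31959 := d40_1 D33871 (iv D31959) D31958
theorem F157443 : act 7 n33871 = n33871 := d42_1 D33871 (iv D33871) F148709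
theorem F157444 : act 9 n33871 = n33871 := d44_2 (iv F148710) D33871 (iv D33871) F148710 F140760
def n33872 : Q := act 5 n31960
theorem D33872 : act 5 n31960 = n33872 := rfl
theorem F157445 : act 0 n33872 = n32869 := d4_1 D33872 (iv D32869) (iv F148718)
theorem F157446 : act 1 n33872 = n33872 := d12_1 D33872 (iv D33872) F148719
theorem F157447 : act 3 n33872 = n31965 := d25_1 D33872 (iv D31965) (iv F148720)
theorem F157448 : act 7 n33872 = n33872 := d36_2 F148722 D33872 (iv D33872)
theorem F157449 : act 9 n33872 = n32180 := d38_2 (iv F148724) D33872 (iv D32180)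
def n33873 : Q := act 5 n31961
theorem D33873 : act 5 n31961 = n33873 := rfl
theorem F157450 : act 0 n33873 = n32870 := d4_1 D33873 (iv D32870) (iv F148725)
theorem F157451 : act 1 n33873 = n33873 := d12_1 D33873 (iv D33873) F148726
theorem F157452 : act 3 n33873 = n31962 := d25_1 D33873 (iv D31962) (iv F148727)
theorem F157453 : act 6 n33873 = n33873 := d35_2 (iv F148729) D33873 (iv D33873) F148729 F139345
theorem F157454 : act 7 n33873 = n33873 := d36_2 F148730 D33873 (iv D33873)
theorem F157455 : act 9 n33873 = n33873 := d38_2 F148731 D33873 (iv D33873)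
def n33874 : Q := act 6 n31963
theorem D33874 : act 6 n31963 = n33874 := rfl
theorem F157456 : act 0 n33874 = n32421 := d5_1 D33874 F150759 (iv F148739)
theorem F157457 : act 3 n33874 = n31964 := d26_1 D33874 (iv D31964) (iv F148740)
theorem F157458 : act 4 n33874 = n32872 := d31_1 D33874 (iv D32872) (iv F148741)
theorem F157459 : act 7 n33874 = n33874 := d39_2 D31963 D33874 (iv D33874) (iv D31963) F139357
theorem F157460 : act 8 n33874 = n32361 := d40_2 (iv F148742) D33874 (iv D32361)
theorem F157461 : act 9 n33874 = n32330 := d41_2 (iv F148743) D33874 (iv D32330)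
def n33875 : Q := act 5 n31964
theorem D33875 : act 5 n31964 = n33875 := rfl
theorem F157462 : act 0 n33875 = n32422 := d4_1 D33875 (iv D32422) (iv F148744)
theorem F157463 : act 2 n33875 = n31965 := d19_1 D33875 (iv D31965) (iv F148745)
theorem F157464 : act 4 n33875 = n31974 := d30_1 D33875 (iv D31974) F139439 (iv F139368) (iv F148746)
theorem F157465 : act 7 n33875 = n33875 := d36_2 F148747 D33875 (iv D33875)
theorem F157466 : act 9 n33875 = n32331 := d38_2 (iv F148749) D33875 (iv D32331)
def n33876 : Q := act 8 n31965
theorem D33876 : act 8 n31965 = n33876 := rfl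
theorem F157467 : act 0 n33876 = n32871 := d7_1 D33876 (iv D32871) (iv F148750)
theorem F157468 : act 1 n33876 = n33876 := d15_1 D33876 (iv D33876) F148751
theorem F157469 : act 4 n33876 = n31975 := d33_1 D33876 (iv D31975) (iv F148752)
theorem F157470 : act 5 n33876 = n32933 := d37_1 D33876 (iv D32933) F143533 (iv F139376) D31965
theorem F157471 : act 7 n33876 = n33876 := d42_1 D33876 (iv D33876) F148753
def n33877 : Q := act 6 n31966
theorem D33877 : act 6 n31966 = n33877 := rfl
theorem F157472 : act 0 n33877 = n32872 := d5_1 D33877 (iv D32872) (iv F148755)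
theorem F157473 : act 1 n33877 = n32518 := d13_1 D33877 F151066 (iv F148756)
theorem F157474 : act 3 n33877 = n31967 := d26_1 D33877 (iv D31967) (iv F148757)
theorem F157475 : act 4 n33877 = n32421 := d31_1 D33877 F150759 (iv F148758)
theorem F157476 : act 7 n33877 = n33877 := d39_2 D31966 D33877 (iv D33877) (iv D31966) F139381
theorem F157477 : act 8 n33877 = n32420 := d40_2 (iv F148759) D33877 (iv D32420)
theorem F157478 : act 9 n33877 = n31973 := d41_2 (iv F148760) D33877 (iv D31973)
def n33878 : Q := act 5 n31967
theorem D33878 : act 5 n31967 = n33878 := rfl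
theorem F157479 : act 0 n33878 = n32873 := d4_1 D33878 (iv D32873) (iv F148761)
theorem F157480 : act 1 n33878 = n32526 := d12_1 D33878 (iv D32526) (iv F148762)
theorem F157481 : act 2 n33878 = n31968 := d19_1 D33878 (iv D31968) (iv F148763)
theorem F157482 : act 4 n33878 = n32331 := d30_1 D33878 (iv D32331) F141222 (iv F139394) (iv F148764)
theorem F157483 : act 7 n33878 = n33878 := d36_2 F148765 D33878 (iv D33878)
theorem F157484 : act 9 n33878 = n31974 := d38_2 (iv F148767) D33878 (iv D31974)
def n33879 : Q := act 8 n31968
theorem D33879 : act 8 n31968 = n33879 := rfl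
theorem F157485 : act 0 n33879 = n32874 := d7_1 D33879 (iv D32874) (iv F148768)
theorem F157486 : act 1 n33879 = n33879 := d15_1 D33879 (iv D33879) F148769
theorem F157487 : act 3 n33879 = n32322 := d28_1 D33879 F155717 F155713
theorem F157488 : act 4 n33879 = n32332 := d33_1 D33879 (iv D32332) (iv F148770)
theorem F157489 : act 5 n33879 = n32325 := d37_1 D33879 (iv F150329) F148780 (iv D31969) D31968
theorem F157490 : act 7 n33879 = n33879 := d42_1 D33879 (iv D33879) F148771
theorem F157491 : act 9 n32321 = n33879 := d38_0 F157489 (iv D32325) (iv F150311)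
def n33880 : Q := act 7 n31970
theorem D33880 : act 7 n31970 = n33880 := rfl
theorem F157492 : act 2 n33880 = n31971 := d21_1 D33880 (iv D31971) D31970
theorem F157493 : act 3 n33880 = n33880 := d27_1 D33880 (iv D33880) F148781
theorem F157494 : act 4 n33880 = n32516 := d32_1 D33880 F151059 (iv F148782)
theorem F157495 : act 8 n33880 = n33880 := d42_2 F148784 D33880 (iv D33880)
theorem F157496 : act 9 n33880 = n32513 := d43_2 (iv F148785) D33880 F151050
def n33881 : Q := act 6 n31971
theorem D33881 : act 6 n31971 = n33881 := rfl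
theorem F157497 : act 1 n33881 = n31973 := d13_1 D33881 (iv D31973) (iv F148786)
theorem F157498 : act 3 n33881 = n31972 := d26_1 D33881 (iv D31972) (iv F148787)
theorem F157499 : act 4 n33881 = n32522 := d31_1 D33881 F151075 (iv F148788)
theorem F157500 : act 7 n33881 = n33881 := d39_2 D31971 D33881 (iv D33881) (iv D31971) F139420
theorem F157501 : act 8 n33881 = n33881 := d40_2 F148789 D33881 (iv D33881)
theorem F157502 : act 9 n33881 = n32518 := d41_2 (iv F148790) D33881 F151066
def n33882 : Q := act 5 n31972
theorem D33882 : act 5 n31972 = n33882 := rfl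
theorem F157503 : act 1 n33882 = n31974 := d12_1 D33882 (iv D31974) (iv F148791)
theorem F157504 : act 2 n33882 = n33882 := d19_1 D33882 (iv D33882) F148792
theorem F157505 : act 7 n33882 = n33882 := d36_2 F148794 D33882 (iv D33882)
theorem F157506 : act 9 n33882 = n32526 := d38_2 (iv F148796) D33882 (iv D32526)
def n33883 : Q := act 5 n31973
theorem D33883 : act 5 n31973 = n33883 := rfl
theorem F157507 : act 0 n33883 = n32875 := d4_1 D33883 (iv D32875) (iv F148797)
theorem F157508 : act 3 n33883 = n31974 := d25_1 D33883 (iv D31974) (iv F148798)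
theorem F157509 : act 7 n33883 = n33883 := d36_2 F148799 D33883 (iv D33883)
def n33884 : Q := act 8 n31974
theorem D33884 : act 8 n31974 = n33884 := rfl
theorem F157510 : act 0 n33884 = n32876 := d7_1 D33884 (iv D32876) (iv F148801)
theorem F157511 : act 2 n33884 = n31975 := d22_1 D33884 (iv D31975) (iv F148802)
theorem F157512 : act 5 n33884 = n33884 := d37_1 D33884 (iv D33884) (iv D31974) F139441 D31974
theorem F157513 : act 7 n33884 = n33884 := d42_1 D33884 (iv D33884) F148803
def n33885 : Q := act 9 n31975
theorem D33885 : act 9 n31975 = n33885 := rfl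
theorem F157514 : act 0 n33885 = n32877 := d8_1 D33885 (iv D32877) (iv F148804)
theorem F157515 : act 1 n33885 = n33885 := d16_1 D33885 (iv D33885) F148805
theorem F157516 : act 3 n33885 = n32025 := d29_1 D33885 (iv F155759) F155755
theorem F157517 : act 5 n33885 = n33885 := d38_1 D33885 (iv D33885) F148806
theorem F157518 : act 7 n33885 = n33885 := d43_1 D33885 (iv D33885) F148807
theorem F157519 : act 8 n33885 = n32321 := d44_1 D33885 F157491 (iv D33879) F148772 D31975
def n33886 : Q := act 8 n31976
theorem D33886 : act 8 n31976 = n33886 := rfl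
theorem F157520 : act 0 n33886 = n31992 := d7_1 D33886 (iv D31992) (iv F148808)
theorem F157521 : act 1 n33886 = n32008 := d15_1 D33886 F149013 (iv F148809)
theorem F157522 : act 2 n33886 = n31979 := d22_1 D33886 (iv D31979) (iv F148810)
theorem F157523 : act 3 n33886 = n33886 := d28_1 D33886 (iv D33886) F148811
theorem F157524 : act 4 n33886 = n31997 := d33_1 D33886 F148948 (iv F148812)
theorem F157525 : act 6 n33886 = n33886 := d40_1 D33886 (iv D33886) F148813
theorem F157526 : act 9 n33886 = n31994 := d44_2 (iv F148814) D33886 (iv D31994) F139600 (iv F139493)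
def n33887 : Q := act 8 n31977
theorem D33887 : act 8 n31977 = n33887 := rfl
theorem F157527 : act 0 n33887 = n31994 := d7_1 D33887 (iv D31994) (iv F148815)
theorem F157528 : act 1 n33887 = n32266 := d15_1 D33887 F150131 (iv F148816)
theorem F157529 : act 2 n33887 = n31997 := d22_1 D33887 F148948 (iv F148817)
theorem F157530 : act 3 n33887 = n33887 := d28_1 D33887 (iv D33887) F148818
theorem F157531 : act 4 n33887 = n31979 := d33_1 D33887 (iv D31979) D31977
theorem F157532 : act 6 n33887 = n33887 := d40_1 D33887 (iv D33887) F148820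
theorem F157533 : act 9 n33887 = n31992 := d44_2 (iv F148821) D33887 (iv D31992) F139588 (iv F139506)
def n33888 : Q := act 6 n31978
theorem D33888 : act 6 n31978 = n33888 := rfl
theorem F157534 : act 0 n33888 = n31995 := d5_1 D33888 (iv D31995) (iv F148822)
theorem F157535 : act 1 n33888 = n32343 := d13_1 D33888 F150419 (iv F148823)
theorem F157536 : act 2 n33888 = n32886 := d20_1 D33888 (iv F156888) F156885
theorem F157537 : act 3 n33888 = n31980 := d26_1 D33888 (iv D31980) (iv F148824)
theorem F157538 : act 5 n33888 = n32187 := d35_1 D33888 (iv D32187) F140782 (iv F139466) (iv F148825)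
theorem F157539 : act 7 n33888 = n33888 := d39_2 D31978 D33888 (iv D33888) (iv D31978) F139460
theorem F157540 : act 9 n33888 = n31985 := d41_2 (iv F148826) D33888 (iv D31985)
def n33889 : Q := act 8 n31978
theorem D33889 : act 8 n31978 = n33889 := rfl
theorem F157541 : act 0 n33889 = n31996 := d7_1 D33889 (iv D31996) (iv F148822)
theorem F157542 : act 1 n33889 = n32268 := d15_1 D33889 F150140 (iv F148823)
theorem F157543 : act 3 n33889 = n31981 := d28_1 D33889 (iv D31981) (iv F148824)
theorem F157544 : act 7 n33889 = n31979 := d42_1 D33889 (iv D31979) D31978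
theorem F157545 : act 9 n33889 = n32262 := d44_2 (iv F148826) D33889 (iv D32262) F141000 (iv F139511)
def n33890 : Q := act 8 n31980
theorem D33890 : act 8 n31980 = n33890 := rfl
theorem F157546 : act 0 n33890 = n31998 := d7_1 D33890 (iv D31998) (iv F148832)
theorem F157547 : act 1 n33890 = n32318 := d15_1 D33890 F150301 (iv F148833)
theorem F157548 : act 2 n33890 = n33890 := d22_1 D33890 (iv D33890) F148834
theorem F157549 : act 4 n33890 = n33890 := d33_1 D33890 (iv D33890) F148835
theorem F157550 : act 6 n33890 = n31981 := d40_1 D33890 (iv D31981) D31980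
theorem F157551 : act 7 n33890 = n33890 := d42_1 D33890 (iv D33890) F148837
theorem F157552 : act 9 n33890 = n32278 := d44_2 (iv F148838) D33890 (iv D32278) F141056 (iv F139518)
def n33891 : Q := act 6 n31991
theorem D33891 : act 6 n31991 = n33891 := rfl
theorem F157553 : act 0 n33891 = n32886 := d5_1 D33891 (iv F156888) F156883
theorem F157554 : act 1 n33891 = n32263 := d13_1 D33891 (iv D32263) (iv F148914)
theorem F157555 : act 2 n33891 = n31995 := d20_1 D33891 (iv D31995) (iv F148915)
theorem F157556 : act 3 n33891 = n33891 := d26_1 D33891 (iv D33891) F148916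
theorem F157557 : act 4 n33891 = n32261 := d31_1 D33891 (iv D32261) (iv F148917)
theorem F157558 : act 5 n33891 = n32005 := d35_1 D33891 (iv D32005) F139714 (iv F139593) (iv F148918)
theorem F157559 : act 7 n33891 = n33891 := d39_2 D31991 D33891 (iv D33891) (iv D31991) F139587
theorem F157560 : act 9 n33891 = n31999 := d41_2 (iv F148919) D33891 (iv D31999)
def n33892 : Q := act 8 n31991
theorem D33892 : act 8 n31991 = n33892 := rfl
theorem F157561 : act 1 n33892 = n32264 := d15_1 D33892 (iv D32264) (iv F148914)
theorem F157562 : act 2 n33892 = n31996 := d22_1 D33892 (iv D31996) (iv F148915)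
theorem F157563 : act 3 n33892 = n33892 := d28_1 D33892 (iv D33892) F148916
theorem F157564 : act 4 n33892 = n32262 := d33_1 D33892 (iv D32262) (iv F148917)
theorem F157565 : act 7 n33892 = n31992 := d42_1 D33892 (iv D31992) D31991
def n33893 : Q := act 6 n31993
theorem D33893 : act 6 n31993 = n33893 := rfl
theorem F157566 : act 1 n33893 = n32005 := d13_1 D33893 (iv D32005) (iv F148925)
theorem F157567 : act 2 n33893 = n32261 := d20_1 D33893 (iv D32261) (iv F148926)
theorem F157568 : act 3 n33893 = n33893 := d26_1 D33893 (iv D33893) F148927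
theorem F157569 : act 4 n33893 = n31995 := d31_1 D33893 (iv D31995) (iv F148928)
theorem F157570 : act 5 n33893 = n32263 := d35_1 D33893 (iv D32263) F141007 (iv F140886) (iv F148929)
theorem F157571 : act 7 n33893 = n33893 := d39_2 D31993 D33893 (iv D33893) (iv D31993) F139599
theorem F157572 : act 9 n33893 = n32000 := d41_2 (iv F148930) D33893 (iv D32000)
def n33894 : Q := act 8 n31993
theorem D33894 : act 8 n31993 = n33894 := rfl
theorem F157573 : act 1 n33894 = n32006 := d15_1 D33894 (iv D32006) (iv F148925)
theorem F157574 : act 2 n33894 = n32262 := d22_1 D33894 (iv D32262) (iv F148926)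
theorem F157575 : act 3 n33894 = n33894 := d28_1 D33894 (iv D33894) F148927
theorem F157576 : act 4 n33894 = n31996 := d33_1 D33894 (iv D31996) (iv F148928)
theorem F157577 : act 7 n33894 = n31994 := d42_1 D33894 (iv D31994) D31993
def n33895 : Q := act 5 n31994
theorem D33895 : act 5 n31994 = n33895 := rfl
theorem F157578 : act 1 n33895 = n32007 := d12_1 D33895 (iv D32007) (iv F148931)
theorem F157579 : act 2 n33895 = n32246 := d19_1 D33895 F150072 (iv F148932)
theorem F157580 : act 3 n33895 = n33895 := d25_1 D33895 (iv D33895) F148933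
theorem F157581 : act 8 n33895 = n32204 := d37_2 D31994 D33895 (iv D32204) F140858 (iv F139598)
def n33896 : Q := act 8 n31995
theorem D33896 : act 8 n31995 = n33896 := rfl
theorem F157582 : act 1 n33896 = n32009 := d15_1 D33896 (iv D32009) (iv F148936)
theorem F157583 : act 3 n33896 = n31998 := d28_1 D33896 (iv D31998) (iv F148937)
theorem F157584 : act 6 n33896 = n31996 := d40_1 D33896 (iv D31996) D31995
theorem F157585 : act 7 n33896 = n33896 := d42_1 D33896 (iv D33896) F148939
def n33897 : Q := act 5 n31998
theorem D33897 : act 5 n31998 = n33897 := rfl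
theorem F157586 : act 1 n33897 = n32011 := d12_1 D33897 (iv D32011) (iv F148949)
theorem F157587 : act 2 n33897 = n33897 := d19_1 D33897 (iv D33897) F148950
theorem F157588 : act 7 n33897 = n33897 := d36_2 F148953 D33897 (iv D33897)
theorem F157589 : act 8 n33897 = n32217 := d37_2 D31998 D33897 (iv D32217) (iv D30235) (iv F139611)
def n33898 : Q := act 8 n32002
theorem D33898 : act 8 n32002 = n33898 := rfl
theorem F157590 : act 0 n33898 = n32884 := d7_1 D33898 (iv D32884) (iv F148972)
theorem F157591 : act 1 n33898 = n32269 := d15_1 D33898 (iv D32269) (iv F148973)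
theorem F157592 : act 2 n33898 = n32009 := d22_1 D33898 (iv D32009) (iv F148974)
theorem F157593 : act 3 n33898 = n32019 := d28_1 D33898 (iv D32019) (iv F148975)
theorem F157594 : act 4 n33898 = n32215 := d33_1 D33898 (iv D32215) (iv F148976)
theorem F157595 : act 6 n33898 = n32003 := d40_1 D33898 (iv D32003) D32002
theorem F157596 : act 7 n33898 = n33898 := d42_1 D33898 (iv D33898) F148978
def n33899 : Q := act 9 n32003
theorem D33899 : act 9 n32003 = n33899 := rfl
theorem F157597 : act 0 n33899 = n32885 := d8_1 D33899 (iv D32885) (iv F148980)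
theorem F157598 : act 1 n33899 = n32271 := d16_1 D33899 (iv D32271) (iv F148981)
theorem F157599 : act 2 n33899 = n32010 := d23_1 D33899 (iv D32010) (iv F148982)
theorem F157600 : act 3 n33899 = n32020 := d29_1 D33899 (iv D32020) (iv F148983)
theorem F157601 : act 4 n33899 = n32216 := d34_1 D33899 (iv D32216) (iv F148984)
theorem F157602 : act 7 n33899 = n32004 := d43_1 D33899 (iv D32004) (iv F148985)
theorem F157603 : act 8 n33899 = n32014 := d44_1 D33899 (iv D32014) (iv D29987) (iv F139703) D32003
def n33900 : Q := act 8 n32005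
theorem D33900 : act 8 n32005 = n33900 := rfl
theorem F157604 : act 0 n33900 = n32887 := d7_1 D33900 (iv D32887) (iv F148993)
theorem F157605 : act 2 n33900 = n32215 := d22_1 D33900 (iv D32215) (iv F148994)
theorem F157606 : act 3 n33900 = n33900 := d28_1 D33900 (iv D33900) F148995
theorem F157607 : act 4 n33900 = n32009 := d33_1 D33900 (iv D32009) (iv F148996)
theorem F157608 : act 6 n33900 = n32006 := d40_1 D33900 (iv D32006) D32005
theorem F157609 : act 7 n33900 = n33900 := d42_1 D33900 (iv D33900) F148997
def n33901 : Q := act 5 n32006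
theorem D33901 : act 5 n32006 = n33901 := rfl
theorem F157610 : act 0 n33901 = n32888 := d4_1 D33901 (iv D32888) (iv F148999)
theorem F157611 : act 2 n33901 = n32211 := d19_1 D33901 F149954 (iv F149000)
theorem F157612 : act 3 n33901 = n33901 := d25_1 D33901 (iv D33901) F149001
theorem F157613 : act 7 n33901 = n32007 := d36_2 (iv F149003) D33901 (iv D32007)
theorem F157614 : act 8 n33901 = n32207 := d37_2 D32006 D33901 F149944 F140864 (iv F139714)
def n33902 : Q := act 9 n32006
theorem D33902 : act 9 n32006 = n33902 := rfl
theorem F157615 : act 0 n33902 = n32889 := d8_1 D33902 (iv D32889) (iv F148999)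
theorem F157616 : act 2 n33902 = n32216 := d23_1 D33902 (iv D32216) (iv F149000)
theorem F157617 : act 3 n33902 = n33902 := d29_1 D33902 (iv D33902) F149001
theorem F157618 : act 4 n33902 = n32010 := d34_1 D33902 (iv D32010) (iv F149002)
theorem F157619 : act 7 n33902 = n32008 := d43_1 D33902 (iv D32008) (iv F149003)
theorem F157620 : act 8 n33902 = n32016 := d44_1 D33902 (iv D32016) (iv D29990) (iv F139715) D32006
def n33903 : Q := act 6 n32007
theorem D33903 : act 6 n32007 = n33903 := rfl
theorem F157621 : act 0 n33903 = n32890 := d5_1 D33903 (iv D32890) (iv F149004)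
theorem F157622 : act 2 n33903 = n32200 := d20_1 D33903 F149919 (iv F149005)
theorem F157623 : act 3 n33903 = n33903 := d26_1 D33903 (iv D33903) F149006
theorem F157624 : act 5 n33903 = n33903 := d35_1 D33903 (iv D33903) (iv D32007) F139720 D32007
theorem F157625 : act 8 n33903 = n32196 := d40_2 (iv F149007) D33903 F149907
def n33904 : Q := act 9 n32007
theorem D33904 : act 9 n32007 = n33904 := rfl
theorem F157626 : act 0 n33904 = n32891 := d8_1 D33904 (iv D32891) (iv F149004)
theorem F157627 : act 2 n33904 = n32212 := d23_1 D33904 (iv D32212) (iv F149005)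
theorem F157628 : act 3 n33904 = n33904 := d29_1 D33904 (iv D33904) F149006
theorem F157629 : act 5 n33904 = n32008 := d38_1 D33904 (iv D32008) D32007
def n33905 : Q := act 5 n32009
theorem D33905 : act 5 n32009 = n33905 := rfl
theorem F157630 : act 0 n33905 = n32892 := d4_1 D33905 (iv D32892) (iv F149014)
theorem F157631 : act 3 n33905 = n32011 := d25_1 D33905 (iv D32011) (iv F149015)
theorem F157632 : act 7 n33905 = n33905 := d36_2 F149017 D33905 (iv D33905)
theorem F157633 : act 8 n33905 = n32274 := d37_2 D32009 D33905 (iv D32274) (iv D30279) (iv F139723)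
def n33906 : Q := act 9 n32009
theorem D33906 : act 9 n32009 = n33906 := rfl
theorem F157634 : act 0 n33906 = n32893 := d8_1 D33906 (iv D32893) (iv F149014)
theorem F157635 : act 3 n33906 = n32012 := d29_1 D33906 (iv D32012) (iv F149015)
theorem F157636 : act 6 n33906 = n32010 := d41_1 D33906 (iv D32010) (iv F149016)
theorem F157637 : act 7 n33906 = n33906 := d43_1 D33906 (iv D33906) F149017
theorem F157638 : act 8 n33906 = n32017 := d44_1 D33906 (iv D32017) (iv D29992) (iv F139725) D32009
def n33907 : Q := act 4 n32011
theorem D33907 : act 4 n32011 = n33907 := rfl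
theorem F157639 : act 0 n33907 = n32894 := d3_1 D33907 (iv D32894) (iv F149022)
theorem F157640 : act 2 n33907 = n32025 := d18_1 D33907 (iv D32025) (iv F149023)
theorem F157641 : act 5 n33907 = n33907 := d30_2 D32011 D33907 (iv D33907) (iv D32011) F139735
theorem F157642 : act 7 n33907 = n33907 := d32_2 F149024 D33907 (iv D33907)
theorem F157643 : act 8 n33907 = n32276 := d33_2 (iv F149025) D33907 (iv D32276)
def n33908 : Q := act 9 n32011
theorem D33908 : act 9 n32011 = n33908 := rfl
theorem F157644 : act 0 n33908 = n32895 := d8_1 D33908 (iv D32895) (iv F149022)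
theorem F157645 : act 2 n33908 = n32026 := d23_1 D33908 (iv D32026) (iv F149023)
theorem F157646 : act 5 n33908 = n32012 := d38_1 D33908 (iv D32012) D32011
theorem F157647 : act 7 n33908 = n33908 := d43_1 D33908 (iv D33908) F149024
def n33909 : Q := act 9 n32013
theorem D33909 : act 9 n32013 = n33909 := rfl
theorem F157648 : act 0 n33909 = n32896 := d8_1 D33909 (iv D32896) (iv F149032)
theorem F157649 : act 1 n33909 = n32344 := d16_1 D33909 (iv D32344) (iv F149033)
theorem F157650 : act 2 n33909 = n32017 := d23_1 D33909 (iv D32017) (iv F149034)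
theorem F157651 : act 3 n33909 = n32027 := d29_1 D33909 (iv D32027) (iv F149035)
theorem F157652 : act 4 n33909 = n32338 := d34_1 D33909 (iv D32338) (iv F149036)
theorem F157653 : act 6 n33909 = n32014 := d41_1 D33909 (iv D32014) (iv F149037)
theorem F157654 : act 7 n33909 = n33909 := d43_1 D33909 (iv D33909) F149038
def n33910 : Q := act 9 n32015
theorem D33910 : act 9 n32015 = n33910 := rfl
theorem F157655 : act 0 n33910 = n32897 := d8_1 D33910 (iv D32897) (iv F149046)
theorem F157656 : act 1 n33910 = n32886 := d16_1 D33910 F152369 (iv F149047)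
theorem F157657 : act 2 n33910 = n32338 := d23_1 D33910 (iv D32338) (iv F149048)
theorem F157658 : act 3 n33910 = n33910 := d29_1 D33910 (iv D33910) F149049
theorem F157659 : act 4 n33910 = n32017 := d34_1 D33910 (iv D32017) (iv F149050)
theorem F157660 : act 5 n33910 = n32878 := d38_1 D33910 F152340 F149053
theorem F157661 : act 6 n33910 = n32016 := d41_1 D33910 (iv D32016) (iv F149051)
theorem F157662 : act 7 n33910 = n33910 := d43_1 D33910 (iv D33910) F149052
def n33911 : Q := act 5 n32019
theorem D33911 : act 5 n32019 = n33911 := rfl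
theorem F157663 : act 0 n33911 = n32898 := d4_1 D33911 (iv D32898) (iv F149067)
theorem F157664 : act 1 n33911 = n32279 := d12_1 D33911 (iv D32279) (iv F149068)
theorem F157665 : act 2 n33911 = n32023 := d19_1 D33911 (iv D32023) (iv F149069)
theorem F157666 : act 7 n33911 = n33911 := d36_2 F149072 D33911 (iv D33911)
theorem F157667 : act 8 n33911 = n32317 := d37_2 D32019 D33911 (iv D32317) (iv D30319) (iv F139822)
def n33912 : Q := act 9 n32019
theorem D33912 : act 9 n32019 = n33912 := rfl
theorem F157668 : act 0 n33912 = n32899 := d8_1 D33912 (iv D32899) (iv F149067)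
theorem F157669 : act 1 n33912 = n32280 := d16_1 D33912 (iv D32280) (iv F149068)
theorem F157670 : act 2 n33912 = n32024 := d23_1 D33912 (iv D32024) (iv F149069)
theorem F157671 : act 4 n33912 = n32220 := d34_1 D33912 (iv D32220) (iv F149070)
theorem F157672 : act 6 n33912 = n32020 := d41_1 D33912 (iv D32020) (iv F149071)
theorem F157673 : act 7 n33912 = n33912 := d43_1 D33912 (iv D33912) F149072
theorem F157674 : act 8 n33912 = n32027 := d44_1 D33912 (iv D32027) (iv D30011) (iv F139824) D32019
def n33913 : Q := act 9 n32021
theorem D33913 : act 9 n32021 = n33913 := rfl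
theorem F157675 : act 0 n33913 = n32900 := d8_1 D33913 (iv D32900) (iv F149079)
theorem F157676 : act 1 n33913 = n33913 := d16_1 D33913 (iv D33913) F149080
theorem F157677 : act 2 n33913 = n32220 := d23_1 D33913 (iv D32220) (iv F149081)
theorem F157678 : act 3 n33913 = n33913 := d29_1 D33913 (iv D33913) F149082
theorem F157679 : act 4 n33913 = n32024 := d34_1 D33913 (iv D32024) (iv F149083)
theorem F157680 : act 5 n33913 = n33023 := d38_1 D33913 F153013 F149086
theorem F157681 : act 6 n33913 = n32022 := d41_1 D33913 (iv D32022) (iv F149084)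
theorem F157682 : act 7 n33913 = n33913 := d43_1 D33913 (iv D33913) F149085
theorem F157683 : act 8 n33913 = n32029 := d44_1 D33913 (iv D32029) (iv D30013) (iv F139843) D32021
def n33914 : Q := act 4 n32023
theorem D33914 : act 4 n32023 = n33914 := rfl
theorem F157684 : act 0 n33914 = n32901 := d3_1 D33914 (iv D32901) (iv F149095)
theorem F157685 : act 1 n33914 = n33914 := d11_1 D33914 (iv D33914) F149096
theorem F157686 : act 5 n33914 = n33024 := d30_2 D32023 D33914 F153016 F149086 F149083
theorem F157687 : act 7 n33914 = n33914 := d32_2 F149098 D33914 (iv D33914)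
theorem F157688 : act 8 n33914 = n32319 := d33_2 (iv F149099) D33914 (iv D32319)
def n33915 : Q := act 9 n32023
theorem D33915 : act 9 n32023 = n33915 := rfl
theorem F157689 : act 0 n33915 = n32902 := d8_1 D33915 (iv D32902) (iv F149095)
theorem F157690 : act 1 n33915 = n33915 := d16_1 D33915 (iv D33915) F149096
theorem F157691 : act 3 n33915 = n32026 := d29_1 D33915 (iv D32026) (iv F149097)
theorem F157692 : act 5 n33915 = n32024 := d38_1 D33915 (iv D32024) D32023
theorem F157693 : act 7 n33915 = n33915 := d43_1 D33915 (iv D33915) F149098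
def n33916 : Q := act 9 n32028
theorem D33916 : act 9 n32028 = n33916 := rfl
theorem F157694 : act 0 n33916 = n32903 := d8_1 D33916 (iv D32903) (iv F149121)
theorem F157695 : act 1 n33916 = n33916 := d16_1 D33916 (iv D33916) F149122
theorem F157696 : act 2 n33916 = n32339 := d23_1 D33916 (iv D32339) (iv F149123)
theorem F157697 : act 3 n33916 = n33916 := d29_1 D33916 (iv D33916) F149124
theorem F157698 : act 5 n33916 = n32029 := d38_1 D33916 (iv D32029) D32028
theorem F157699 : act 6 n33916 = n33916 := d41_1 D33916 (iv D33916) F149125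
theorem F157700 : act 7 n33916 = n33916 := d43_1 D33916 (iv D33916) F149126
def n33917 : Q := act 7 n32032
theorem D33917 : act 7 n32032 = n33917 := rfl
theorem F157701 : act 0 n33917 = n32125 := d6_1 D33917 (iv D32125) (iv F149149)
theorem F157702 : act 1 n33917 = n32034 := d14_1 D33917 (iv D32034) (iv F149150)
theorem F157703 : act 2 n33917 = n32050 := d21_1 D33917 (iv D32050) (iv F149151)
theorem F157704 : act 3 n33917 = n33917 := d27_1 D33917 (iv D33917) F149152
theorem F157705 : act 4 n33917 = n32402 := d32_1 D33917 (iv D32402) (iv F149153)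
theorem F157706 : act 5 n33917 = n32049 := d36_1 D33917 (iv D32049) (iv F149154)
theorem F157707 : act 6 n33917 = n32123 := d39_1 D33917 (iv D32123) (iv D30139) (iv F139946) D32032
theorem F157708 : act 9 n33917 = n33917 := d43_2 F149155 D33917 (iv D33917)
def n33918 : Q := act 7 n32033
theorem D33918 : act 7 n32033 = n33918 := rfl
theorem F157709 : act 0 n33918 = n32057 := d6_1 D33918 (iv D32057) (iv F149156)
theorem F157710 : act 1 n33918 = n32049 := d14_1 D33918 (iv D32049) (iv F149157)
theorem F157711 : act 2 n33918 = n32035 := d21_1 D33918 (iv D32035) (iv F149158)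
theorem F157712 : act 3 n33918 = n33918 := d27_1 D33918 (iv D33918) F149159
theorem F157713 : act 4 n33918 = n32357 := d32_1 D33918 (iv D32357) F149162
theorem F157714 : act 5 n33918 = n32034 := d36_1 D33918 (iv D32034) D32033
theorem F157715 : act 6 n33918 = n32055 := d39_1 D33918 (iv D32055) (iv D30047) (iv F140006) (iv F149160)
theorem F157716 : act 9 n33918 = n33918 := d43_2 F149161 D33918 (iv D33918)
def n33919 : Q := act 6 n32039
theorem D33919 : act 6 n32039 = n33919 := rfl
theorem F157717 : act 0 n33919 = n32040 := d5_1 D33919 (iv D32040) D32039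
theorem F157718 : act 1 n33919 = n32124 := d13_1 D33919 F149617 (iv F149196)
theorem F157719 : act 2 n33919 = n32068 := d20_1 D33919 (iv D32068) (iv F149197)
theorem F157720 : act 3 n33919 = n32926 := d26_1 D33919 (iv D32926) (iv F149198)
theorem F157721 : act 4 n33919 = n32053 := d31_1 D33919 (iv D32053) (iv F149199)
theorem F157722 : act 9 n33919 = n33919 := d41_2 F149202 D33919 (iv D33919)
theorem F157723 : act 5 n32414 = n33919 := d30_0 F157721 F149280 F140529 D30423 D32414
def n33920 : Q := act 5 n32040
theorem D33920 : act 5 n32040 = n33920 := rfl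
theorem F157724 : act 0 n33920 = n32414 := d4_1 D33920 F157723 F157717
theorem F157725 : act 1 n33920 = n32041 := d12_1 D33920 (iv D32041) (iv F149203)
theorem F157726 : act 2 n33920 = n32074 := d19_1 D33920 (iv D32074) (iv F149204)
theorem F157727 : act 3 n33920 = n32927 := d25_1 D33920 (iv D32927) (iv F149205)
theorem F157728 : act 4 n33920 = n32412 := d30_1 D33920 (iv D32412) F149288 (iv D32054) (iv F149206)
theorem F157729 : act 6 n33920 = n33920 := d35_2 D32040 D33920 (iv D33920) (iv D32040) F140029
theorem F157730 : act 9 n33920 = n33920 := d38_2 F149207 D33920 (iv D33920)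
def n33921 : Q := act 7 n32040
theorem D33921 : act 7 n32040 = n33921 := rfl
theorem F157731 : act 1 n33921 = n32042 := d14_1 D33921 (iv D32042) (iv F149203)
theorem F157732 : act 2 n33921 = n32075 := d21_1 D33921 (iv D32075) (iv F149204)
theorem F157733 : act 3 n33921 = n32928 := d27_1 D33921 (iv D32928) (iv F149205)
theorem F157734 : act 4 n33921 = n32055 := d32_1 D33921 (iv D32055) (iv F149206)
theorem F157735 : act 6 n33921 = n32357 := d39_1 D33921 (iv D32357) (iv D30377) (iv F140030) D32040
theorem F157736 : act 9 n33921 = n33921 := d43_2 F149207 D33921 (iv D33921)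
def n33922 : Q := act 4 n32041
theorem D33922 : act 4 n32041 = n33922 := rfl
theorem F157737 : act 0 n33922 = n32356 := d3_1 D33922 F150468 (iv F149208)
theorem F157738 : act 1 n33922 = n32412 := d11_1 D33922 (iv F157728) F157725
theorem F157739 : act 2 n33922 = n32043 := d18_1 D33922 (iv D32043) (iv F149209)
theorem F157740 : act 3 n33922 = n32935 := d24_1 D33922 (iv F157397) F157396 F151588 (iv F149210)
theorem F157741 : act 5 n33922 = n32056 := d30_2 D32041 D33922 (iv D32056) (iv D30048) (iv F140035)
theorem F157742 : act 6 n33922 = n33922 := d31_2 F149211 D33922 (iv D33922)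
theorem F157743 : act 9 n33922 = n33922 := d34_2 F149212 D33922 (iv D33922)
def n33923 : Q := act 7 n32041
theorem D33923 : act 7 n32041 = n33923 := rfl
theorem F157744 : act 0 n33923 = n32403 := d6_1 D33923 (iv D32403) (iv F149208)
theorem F157745 : act 2 n33923 = n32044 := d21_1 D33923 (iv D32044) (iv F149209)
theorem F157746 : act 3 n33923 = n32929 := d27_1 D33923 (iv D32929) (iv F149210)
theorem F157747 : act 5 n33923 = n32042 := d36_1 D33923 (iv D32042) D32041
theorem F157748 : act 9 n33923 = n33923 := d43_2 F149212 D33923 (iv D33923)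
def n33924 : Q := act 8 n32041
theorem D33924 : act 8 n32041 = n33924 := rfl
theorem F157749 : act 0 n33924 = n32404 := d7_1 D33924 (iv D32404) (iv F149208)
theorem F157750 : act 2 n33924 = n32045 := d22_1 D33924 (iv D32045) (iv F149209)
theorem F157751 : act 3 n33924 = n32641 := d28_1 D33924 (iv F151581) (iv F149210)
theorem F157752 : act 6 n33924 = n33924 := d40_1 D33924 (iv D33924) F149211
theorem F157753 : act 9 n32653 = n33924 := d29_0 F157751 F151580 D32653
def n33925 : Q := act 7 n32043
theorem D33925 : act 7 n32043 = n33925 := rfl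
theorem F157754 : act 0 n33925 = n32405 := d6_1 D33925 (iv D32405) (iv F149219)
theorem F157755 : act 1 n33925 = n32078 := d14_1 D33925 (iv D32078) (iv F149220)
theorem F157756 : act 3 n33925 = n33925 := d27_1 D33925 (iv D33925) F149221
theorem F157757 : act 4 n33925 = n32044 := d32_1 D33925 (iv D32044) D32043
theorem F157758 : act 5 n33925 = n32059 := d36_1 D33925 (iv D32059) (iv F149222)
theorem F157759 : act 9 n33925 = n33925 := d43_2 F149224 D33925 (iv D33925)
def n33926 : Q := act 8 n32043
theorem D33926 : act 8 n32043 = n33926 := rfl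
theorem F157760 : act 0 n33926 = n32406 := d7_1 D33926 (iv D32406) (iv F149219)
theorem F157761 : act 1 n33926 = n32079 := d15_1 D33926 (iv D32079) (iv F149220)
theorem F157762 : act 3 n33926 = n33926 := d28_1 D33926 (iv D33926) F149221
theorem F157763 : act 4 n33926 = n32045 := d33_1 D33926 (iv D32045) D32043
theorem F157764 : act 6 n33926 = n33926 := d40_1 D33926 (iv D33926) F149223
def n33927 : Q := act 6 n32044
theorem D33927 : act 6 n32044 = n33927 := rfl
theorem F157765 : act 0 n33927 = n32407 := d5_1 D33927 (iv D32407) (iv F149225)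
theorem F157766 : act 1 n33927 = n32080 := d13_1 D33927 (iv D32080) (iv F149226)
theorem F157767 : act 3 n33927 = n32046 := d26_1 D33927 (iv D32046) (iv F149227)
theorem F157768 : act 5 n33927 = n32361 := d35_1 D33927 (iv D32361) F141430 (iv F140046) (iv F149228)
theorem F157769 : act 7 n33927 = n33927 := d39_2 D32044 D33927 (iv D33927) (iv D32044) F140040
theorem F157770 : act 9 n33927 = n33927 := d41_2 F149229 D33927 (iv D33927)
def n33928 : Q := act 8 n32044
theorem D33928 : act 8 n32044 = n33928 := rfl
theorem F157771 : act 0 n33928 = n32408 := d7_1 D33928 (iv D32408) (iv F149225)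
theorem F157772 : act 1 n33928 = n32081 := d15_1 D33928 (iv D32081) (iv F149226)
theorem F157773 : act 3 n33928 = n32047 := d28_1 D33928 (iv D32047) (iv F149227)
theorem F157774 : act 7 n33928 = n32045 := d42_1 D33928 (iv D32045) D32044
def n33929 : Q := act 9 n32045
theorem D33929 : act 9 n32045 = n33929 := rfl
theorem F157775 : act 0 n33929 = n32409 := d8_1 D33929 (iv D32409) (iv F149230)
theorem F157776 : act 1 n33929 = n32082 := d16_1 D33929 (iv D32082) (iv F149231)
theorem F157777 : act 2 n33929 = n32653 := d23_1 D33929 F157753 F157750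
theorem F157778 : act 3 n33929 = n32048 := d29_1 D33929 (iv D32048) (iv F149232)
theorem F157779 : act 6 n33929 = n33929 := d41_1 D33929 (iv D33929) F149233
theorem F157780 : act 8 n33929 = n33929 := d44_1 D33929 (iv D33929) (iv D32045) F140041 D32045
def n33930 : Q := act 8 n32046
theorem D33930 : act 8 n32046 = n33930 := rfl
theorem F157781 : act 0 n33930 = n32410 := d7_1 D33930 (iv D32410) (iv F149234)
theorem F157782 : act 1 n33930 = n32083 := d15_1 D33930 (iv D32083) (iv F149235)
theorem F157783 : act 2 n33930 = n32933 := d22_1 D33930 (iv D32933) (iv F149236)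
theorem F157784 : act 4 n33930 = n33930 := d33_1 D33930 (iv D33930) F149237
theorem F157785 : act 6 n33930 = n32047 := d40_1 D33930 (iv D32047) D32046
theorem F157786 : act 7 n33930 = n33930 := d42_1 D33930 (iv D33930) F149239
def n33931 : Q := act 9 n32047
theorem D33931 : act 9 n32047 = n33931 := rfl
theorem F157787 : act 0 n33931 = n32411 := d8_1 D33931 (iv D32411) (iv F149241)
theorem F157788 : act 1 n33931 = n32084 := d16_1 D33931 (iv D32084) (iv F149242)
theorem F157789 : act 2 n33931 = n32934 := d23_1 D33931 (iv D32934) (iv F149243)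
theorem F157790 : act 4 n33931 = n33931 := d34_1 D33931 (iv D33931) F149244
theorem F157791 : act 7 n33931 = n32048 := d43_1 D33931 (iv D32048) (iv F149245)
theorem F157792 : act 8 n33931 = n33931 := d44_1 D33931 (iv D33931) (iv D32047) F140053 D32047
def n33932 : Q := act 8 n32050
theorem D33932 : act 8 n32050 = n33932 := rfl
theorem F157793 : act 0 n33932 = n32129 := d7_1 D33932 (iv D32129) (iv F149258)
theorem F157794 : act 1 n33932 = n32085 := d15_1 D33932 (iv D32085) (iv F149259)
theorem F157795 : act 3 n33932 = n32052 := d28_1 D33932 (iv D32052) (iv F149260)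
theorem F157796 : act 4 n33932 = n32453 := d33_1 D33932 F150871 (iv F149261)
theorem F157797 : act 6 n33932 = n32143 := d40_1 D33932 F149702 (iv F149263)
theorem F157798 : act 7 n33932 = n32051 := d42_1 D33932 (iv D32051) D32050
def n33933 : Q := act 7 n32053
theorem D33933 : act 7 n32053 = n33933 := rfl
theorem F157799 : act 0 n33933 = n32055 := d6_1 D33933 (iv D32055) (iv F149276)
theorem F157800 : act 1 n33933 = n32125 := d14_1 D33933 (iv D32125) (iv F149277)
theorem F157801 : act 2 n33933 = n32061 := d21_1 D33933 F149318 (iv F149278)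
theorem F157802 : act 3 n33933 = n33933 := d27_1 D33933 (iv D33933) F149279
theorem F157803 : act 5 n33933 = n32123 := d36_1 D33933 (iv D32123) (iv F149280)
theorem F157804 : act 6 n33933 = n32057 := d39_1 D33933 (iv D32057) F140099 (iv F140091) D32053
theorem F157805 : act 9 n33933 = n33933 := d43_2 F149281 D33933 (iv D33933)
def n33934 : Q := act 7 n32054
theorem D33934 : act 7 n32054 = n33934 := rfl
theorem F157806 : act 0 n33934 = n32123 := d6_1 D33934 (iv D32123) (iv F149282)
theorem F157807 : act 1 n33934 = n32057 := d14_1 D33934 (iv D32057) (iv F149283)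
theorem F157808 : act 2 n33934 = n32086 := d21_1 D33934 (iv D32086) (iv F149284)
theorem F157809 : act 3 n33934 = n33934 := d27_1 D33934 (iv D33934) F149285
theorem F157810 : act 4 n33934 = n32413 := d32_1 D33934 (iv D32413) F149288
theorem F157811 : act 5 n33934 = n32055 := d36_1 D33934 (iv D32055) D32054
theorem F157812 : act 6 n33934 = n32125 := d39_1 D33934 (iv D32125) F149148 F149146 (iv F149286)
theorem F157813 : act 9 n33934 = n33934 := d43_2 F149287 D33934 (iv D33934)
def n33935 : Q := act 8 n32054
theorem D33935 : act 8 n32054 = n33935 := rfl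
theorem F157814 : act 0 n33935 = n32114 := d7_1 D33935 F149581 (iv F149282)
theorem F157815 : act 1 n33935 = n32058 := d15_1 D33935 (iv D32058) (iv F149283)
theorem F157816 : act 2 n33935 = n32087 := d22_1 D33935 (iv D32087) (iv F149284)
theorem F157817 : act 3 n33935 = n33935 := d28_1 D33935 (iv D33935) F149285
theorem F157818 : act 4 n33935 = n32391 := d33_1 D33935 F150644 F149288
theorem F157819 : act 6 n33935 = n32065 := d40_1 D33935 (iv D32065) (iv F149286)
def n33936 : Q := act 7 n32056
theorem D33936 : act 7 n32056 = n33936 := rfl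
theorem F157820 : act 0 n33936 = n32357 := d6_1 D33936 (iv D32357) (iv F149293)
theorem F157821 : act 1 n33936 = n32413 := d14_1 D33936 (iv D32413) (iv F149294)
theorem F157822 : act 2 n33936 = n32059 := d21_1 D33936 (iv D32059) (iv F149295)
theorem F157823 : act 3 n33936 = n32936 := d27_1 D33936 (iv D32936) F149298
theorem F157824 : act 4 n33936 = n32057 := d32_1 D33936 (iv D32057) D32056
theorem F157825 : act 9 n33936 = n33936 := d43_2 F149297 D33936 (iv D33936)
def n33937 : Q := act 8 n32056
theorem D33937 : act 8 n32056 = n33937 := rfl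
theorem F157826 : act 0 n33937 = n32350 := d7_1 D33937 F150449 (iv F149293)
theorem F157827 : act 1 n33937 = n32391 := d15_1 D33937 F150644 (iv F149294)
theorem F157828 : act 2 n33937 = n32060 := d22_1 D33937 (iv D32060) (iv F149295)
theorem F157829 : act 3 n33937 = n32921 := d28_1 D33937 F152486 F149298
theorem F157830 : act 4 n33937 = n32058 := d33_1 D33937 (iv D32058) D32056
theorem F157831 : act 6 n33937 = n32066 := d40_1 D33937 (iv D32066) (iv F149296)
def n33938 : Q := act 8 n32057
theorem D33938 : act 8 n32057 = n33938 := rfl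
theorem F157832 : act 2 n33938 = n32062 := d22_1 D33938 (iv D32062) (iv F149299)
theorem F157833 : act 3 n33938 = n33938 := d28_1 D33938 (iv D33938) F149300
theorem F157834 : act 7 n33938 = n32058 := d42_1 D33938 (iv D32058) D32057
def n33939 : Q := act 9 n32058
theorem D33939 : act 9 n32058 = n33939 := rfl
theorem F157835 : act 0 n33939 = n32195 := d8_1 D33939 (iv F156038) F156032
theorem F157836 : act 2 n33939 = n32063 := d23_1 D33939 (iv D32063) (iv F149303)
theorem F157837 : act 3 n33939 = n33939 := d29_1 D33939 (iv D33939) F149304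
theorem F157838 : act 6 n33939 = n32067 := d41_1 D33939 (iv D32067) (iv F149305)
theorem F157839 : act 8 n33939 = n33939 := d44_1 D33939 (iv D33939) (iv D32058) F140100 D32058
def n33940 : Q := act 6 n32059
theorem D33940 : act 6 n32059 = n33940 := rfl
theorem F157840 : act 0 n33940 = n32075 := d5_1 D33940 (iv F154235) F154229
theorem F157841 : act 1 n33940 = n32090 := d13_1 D33940 (iv D32090) (iv F149306)
theorem F157842 : act 3 n33940 = n33940 := d26_1 D33940 (iv D33940) F149307
theorem F157843 : act 4 n33940 = n32061 := d31_1 D33940 (iv D32061) (iv F149308)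
theorem F157844 : act 7 n33940 = n32068 := d39_2 D32059 D33940 (iv D32068) (iv D30060) (iv F140106)
theorem F157845 : act 9 n33940 = n33940 := d41_2 F149309 D33940 (iv D33940)
theorem F157846 : act 5 n32507 = n33940 := d36_3 F157844 (iv F149357) D32507
def n33941 : Q := act 8 n32059
theorem D33941 : act 8 n32059 = n33941 := rfl
theorem F157847 : act 1 n33941 = n32091 := d15_1 D33941 (iv D32091) (iv F149306)
theorem F157848 : act 3 n33941 = n33941 := d28_1 D33941 (iv D33941) F149307
theorem F157849 : act 4 n33941 = n32062 := d33_1 D33941 (iv D32062) (iv F149308)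
theorem F157850 : act 7 n33941 = n32060 := d42_1 D33941 (iv D32060) D32059
def n33942 : Q := act 5 n32060
theorem D33942 : act 5 n32060 = n33942 := rfl
theorem F157851 : act 1 n33942 = n32092 := d12_1 D33942 (iv D32092) (iv F149310)
theorem F157852 : act 3 n33942 = n33942 := d25_1 D33942 (iv D33942) F149311
def n33943 : Q := act 9 n32060
theorem D33943 : act 9 n32060 = n33943 := rfl
theorem F157853 : act 0 n33943 = n32223 := d8_1 D33943 (iv F154183) F154177
theorem F157854 : act 1 n33943 = n32093 := d16_1 D33943 (iv D32093) (iv F149310)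
theorem F157855 : act 3 n33943 = n33943 := d29_1 D33943 (iv D33943) F149311
theorem F157856 : act 4 n33943 = n32063 := d34_1 D33943 (iv D32063) (iv F149312)
theorem F157857 : act 6 n33943 = n32070 := d41_1 D33943 (iv D32070) (iv F149313)
theorem F157858 : act 8 n33943 = n33943 := d44_1 D33943 (iv D33943) (iv D32060) F140107 D32060
def n33944 : Q := act 9 n32062
theorem D33944 : act 9 n32062 = n33944 := rfl
theorem F157859 : act 0 n33944 = n32233 := d8_1 D33944 (iv F156477) F156472
theorem F157860 : act 1 n33944 = n32095 := d16_1 D33944 (iv D32095) (iv F149320)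
theorem F157861 : act 3 n33944 = n32064 := d29_1 D33944 (iv D32064) (iv F149321)
theorem F157862 : act 6 n33944 = n32106 := d41_1 D33944 (iv F156569) F156567
theorem F157863 : act 7 n33944 = n32063 := d43_1 D33944 (iv D32063) (iv F149322)
theorem F157864 : act 8 n33944 = n33944 := d44_1 D33944 (iv D33944) (iv D32062) F140111 D32062
def n33945 : Q := act 6 n32069
theorem D33945 : act 6 n32069 = n33945 := rfl
theorem F157865 : act 0 n33945 = n32695 := d5_1 D33945 (iv D32695) (iv F149358)
theorem F157866 : act 1 n33945 = n32098 := d13_1 D33945 (iv D32098) (iv F149359)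
theorem F157867 : act 2 n33945 = n32155 := d20_1 D33945 (iv F154730) F154726
theorem F157868 : act 3 n33945 = n33945 := d26_1 D33945 (iv D33945) F149360
theorem F157869 : act 4 n33945 = n32072 := d31_1 D33945 (iv D32072) (iv F149361)
theorem F157870 : act 8 n33945 = n33945 := d40_2 F149363 D33945 (iv D33945)
theorem F157871 : act 9 n33945 = n32097 := d41_2 F149364 D33945 F149504
def n33946 : Q := act 7 n32072
theorem D33946 : act 7 n32072 = n33946 := rfl
theorem F157872 : act 0 n33946 = n32719 := d6_1 D33946 (iv D32719) (iv F149379)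
theorem F157873 : act 1 n33946 = n32106 := d14_1 D33946 (iv D32106) (iv F149380)
theorem F157874 : act 2 n33946 = n32156 := d21_1 D33946 F149735 (iv F149381)
theorem F157875 : act 3 n33946 = n32073 := d27_1 D33946 (iv D32073) (iv F149382)
theorem F157876 : act 6 n33946 = n32095 := d39_1 D33946 F149494 F140318 (iv F140208) D32072
theorem F157877 : act 8 n33946 = n33946 := d42_2 F149383 D33946 (iv D33946)
theorem F157878 : act 9 n33946 = n32094 := d43_2 (iv F149384) D33946 F149491
def n33947 : Q := act 7 n32074
theorem D33947 : act 7 n32074 = n33947 := rfl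
theorem F157879 : act 0 n33947 = n32507 := d6_1 D33947 (iv D32507) (iv F149392)
theorem F157880 : act 1 n33947 = n32076 := d14_1 D33947 (iv D32076) (iv F149393)
theorem F157881 : act 3 n33947 = n33947 := d27_1 D33947 (iv D33947) F149394
theorem F157882 : act 4 n33947 = n32505 := d32_1 D33947 (iv D32505) (iv F149395)
theorem F157883 : act 5 n33947 = n32075 := d36_1 D33947 (iv D32075) D32074
theorem F157884 : act 9 n33947 = n33947 := d43_2 F149397 D33947 (iv D33947)
def n33948 : Q := act 8 n32074
theorem D33948 : act 8 n32074 = n33948 := rfl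
theorem F157885 : act 0 n33948 = n32508 := d7_1 D33948 (iv D32508) (iv F149392)
theorem F157886 : act 1 n33948 = n32077 := d15_1 D33948 (iv D32077) (iv F149393)
theorem F157887 : act 3 n33948 = n33948 := d28_1 D33948 (iv D33948) F149394
theorem F157888 : act 4 n33948 = n32506 := d33_1 D33948 (iv D32506) (iv F149395)
theorem F157889 : act 6 n33948 = n33948 := d40_1 D33948 (iv D33948) F149396
def n33949 : Q := act 6 n32076
theorem D33949 : act 6 n32076 = n33949 := rfl
theorem F157890 : act 0 n33949 = n32904 := d5_1 D33949 (iv D32904) (iv F149402)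
theorem F157891 : act 2 n33949 = n32080 := d20_1 D33949 (iv D32080) (iv F149403)
theorem F157892 : act 3 n33949 = n33949 := d26_1 D33949 (iv D33949) F149404
theorem F157893 : act 4 n33949 = n32517 := d31_1 D33949 F154977 F154974
theorem F157894 : act 5 n33949 = n32498 := d35_1 D33949 (iv D32498) (iv F145774) F145775 (iv F149405)
theorem F157895 : act 7 n33949 = n33949 := d39_2 D32076 D33949 (iv D33949) (iv D32076) F140224
theorem F157896 : act 9 n33949 = n33949 := d41_2 F149406 D33949 (iv D33949)
def n33950 : Q := act 8 n32076
theorem D33950 : act 8 n32076 = n33950 := rfl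
theorem F157897 : act 0 n33950 = n32905 := d7_1 D33950 (iv D32905) (iv F149402)
theorem F157898 : act 2 n33950 = n32081 := d22_1 D33950 (iv D32081) (iv F149403)
theorem F157899 : act 3 n33950 = n33950 := d28_1 D33950 (iv D33950) F149404
theorem F157900 : act 7 n33950 = n32077 := d42_1 D33950 (iv D32077) D32076
def n33951 : Q := act 9 n32077
theorem D33951 : act 9 n32077 = n33951 := rfl
theorem F157901 : act 0 n33951 = n32906 := d8_1 D33951 (iv D32906) (iv F149407)
theorem F157902 : act 2 n33951 = n32082 := d23_1 D33951 (iv D32082) (iv F149408)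
theorem F157903 : act 3 n33951 = n33951 := d29_1 D33951 (iv D33951) F149409
theorem F157904 : act 6 n33951 = n33951 := d41_1 D33951 (iv D33951) F149410
theorem F157905 : act 8 n33951 = n33951 := d44_1 D33951 (iv D33951) (iv D32077) F140225 D32077
def n33952 : Q := act 6 n32078
theorem D33952 : act 6 n32078 = n33952 := rfl
theorem F157906 : act 0 n33952 = n32907 := d5_1 D33952 (iv D32907) (iv F149411)
theorem F157907 : act 2 n33952 = n32517 := d20_1 D33952 F154977 F154972
theorem F157908 : act 3 n33952 = n33952 := d26_1 D33952 (iv D33952) F149412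
theorem F157909 : act 4 n33952 = n32080 := d31_1 D33952 (iv D32080) (iv F149413)
theorem F157910 : act 5 n33952 = n32512 := d35_1 D33952 (iv D32512) F149475 (iv D32090) (iv F149414)
theorem F157911 : act 7 n33952 = n33952 := d39_2 D32078 D33952 (iv D33952) (iv D32078) F140234
theorem F157912 : act 9 n33952 = n33952 := d41_2 F149415 D33952 (iv D33952)
def n33953 : Q := act 8 n32078
theorem D33953 : act 8 n32078 = n33953 := rfl
theorem F157913 : act 0 n33953 = n32908 := d7_1 D33953 (iv D32908) (iv F149411)
theorem F157914 : act 3 n33953 = n33953 := d28_1 D33953 (iv D33953) F149412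
theorem F157915 : act 4 n33953 = n32081 := d33_1 D33953 (iv D32081) (iv F149413)
theorem F157916 : act 7 n33953 = n32079 := d42_1 D33953 (iv D32079) D32078
def n33954 : Q := act 5 n32079
theorem D33954 : act 5 n32079 = n33954 := rfl
theorem F157917 : act 0 n33954 = n32909 := d4_1 D33954 (iv D32909) (iv F149416)
theorem F157918 : act 3 n33954 = n33954 := d25_1 D33954 (iv D33954) F149417
theorem F157919 : act 8 n33954 = n32092 := d37_2 D32079 D33954 (iv D32092) (iv D30091) (iv F140233)
def n33955 : Q := act 9 n32079
theorem D33955 : act 9 n32079 = n33955 := rfl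
theorem F157920 : act 0 n33955 = n32910 := d8_1 D33955 (iv D32910) (iv F149416)
theorem F157921 : act 3 n33955 = n33955 := d29_1 D33955 (iv D33955) F149417
theorem F157922 : act 4 n33955 = n32082 := d34_1 D33955 (iv D32082) (iv F149418)
theorem F157923 : act 6 n33955 = n33955 := d41_1 D33955 (iv D33955) F149419
theorem F157924 : act 8 n33955 = n33955 := d44_1 D33955 (iv D33955) (iv D32079) F140235 D32079
def n33956 : Q := act 8 n32080
theorem D33956 : act 8 n32080 = n33956 := rfl
theorem F157925 : act 0 n33956 = n32911 := d7_1 D33956 (iv D32911) (iv F149420)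
theorem F157926 : act 3 n33956 = n32083 := d28_1 D33956 (iv D32083) (iv F149421)
theorem F157927 : act 6 n33956 = n32081 := d40_1 D33956 (iv D32081) D32080
theorem F157928 : act 7 n33956 = n33956 := d42_1 D33956 (iv D33956) F149422
def n33957 : Q := act 9 n32081
theorem D33957 : act 9 n32081 = n33957 := rfl
theorem F157929 : act 0 n33957 = n32912 := d8_1 D33957 (iv D32912) (iv F149424)
theorem F157930 : act 3 n33957 = n32084 := d29_1 D33957 (iv D32084) (iv F149425)
theorem F157931 : act 7 n33957 = n32082 := d43_1 D33957 (iv D32082) (iv F149426)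
theorem F157932 : act 8 n33957 = n33957 := d44_1 D33957 (iv D33957) (iv D32081) F140239 D32081
def n33958 : Q := act 5 n32083
theorem D33958 : act 5 n32083 = n33958 := rfl
theorem F157933 : act 0 n33958 = n32913 := d4_1 D33958 (iv D32913) (iv F149431)
theorem F157934 : act 2 n33958 = n33958 := d19_1 D33958 (iv D33958) F149432
theorem F157935 : act 7 n33958 = n33958 := d36_2 F149435 D33958 (iv D33958)
def n33959 : Q := act 9 n32083
theorem D33959 : act 9 n32083 = n33959 := rfl
theorem F157936 : act 0 n33959 = n32914 := d8_1 D33959 (iv D32914) (iv F149431)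
theorem F157937 : act 2 n33959 = n33959 := d23_1 D33959 (iv D33959) F149432
theorem F157938 : act 4 n33959 = n33959 := d34_1 D33959 (iv D33959) F149433
theorem F157939 : act 6 n33959 = n32084 := d41_1 D33959 (iv D32084) (iv F149434)
theorem F157940 : act 7 n33959 = n33959 := d43_1 D33959 (iv D33959) F149435
theorem F157941 : act 8 n33959 = n33959 := d44_1 D33959 (iv D33959) (iv D32083) F140247 D32083
def n33960 : Q := act 8 n32086
theorem D33960 : act 8 n32086 = n33960 := rfl
theorem F157942 : act 0 n33960 = n32143 := d7_1 D33960 F149702 (iv F149447)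
theorem F157943 : act 1 n33960 = n32088 := d15_1 D33960 (iv D32088) (iv F149448)
theorem F157944 : act 3 n33960 = n32109 := d28_1 D33960 (iv D32109) (iv F149449)
theorem F157945 : act 4 n33960 = n32478 := d33_1 D33960 F150941 (iv F149450)
theorem F157946 : act 6 n33960 = n32129 := d40_1 D33960 (iv D32129) (iv F149452)
theorem F157947 : act 7 n33960 = n32087 := d42_1 D33960 (iv D32087) D32086
def n33961 : Q := act 9 n32088
theorem D33961 : act 9 n32088 = n33961 := rfl
theorem F157948 : act 0 n33961 = n32746 := d8_1 D33961 F151930 (iv F149459)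
theorem F157949 : act 2 n33961 = n32095 := d23_1 D33961 (iv D32095) (iv F149460)
theorem F157950 : act 3 n33961 = n32110 := d29_1 D33961 (iv D32110) (iv F149461)
theorem F157951 : act 6 n33961 = n32156 := d41_1 D33961 (iv D32156) (iv F149462)
theorem F157952 : act 7 n33961 = n32089 := d43_1 D33961 (iv D32089) (iv F149463)
theorem F157953 : act 8 n33961 = n33961 := d44_1 D33961 (iv D33961) (iv D32088) F140294 D32088
def n33962 : Q := act 8 n32090
theorem D33962 : act 8 n32090 = n33962 := rfl
theorem F157954 : act 0 n33962 = n32704 := d7_1 D33962 F151811 (iv F149469)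
theorem F157955 : act 2 n33962 = n32153 := d22_1 D33962 (iv D32153) (iv F149470)
theorem F157956 : act 3 n33962 = n33962 := d28_1 D33962 (iv D33962) F149471
theorem F157957 : act 4 n33962 = n32094 := d33_1 D33962 (iv D32094) (iv F149472)
theorem F157958 : act 6 n33962 = n32091 := d40_1 D33962 (iv D32091) D32090
theorem F157959 : act 7 n33962 = n32097 := d42_1 D33962 (iv D32097) (iv F149473)
def n33963 : Q := act 5 n32091
theorem D33963 : act 5 n32091 = n33963 := rfl
theorem F157960 : act 0 n33963 = n32915 := d4_1 D33963 (iv D32915) (iv F149476)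
theorem F157961 : act 3 n33963 = n33963 := d25_1 D33963 (iv D33963) F149477
theorem F157962 : act 7 n33963 = n32092 := d36_2 (iv F149479) D33963 (iv D32092)
def n33964 : Q := act 9 n32091
theorem D33964 : act 9 n32091 = n33964 := rfl
theorem F157963 : act 0 n33964 = n32916 := d8_1 D33964 (iv D32916) (iv F149476)
theorem F157964 : act 3 n33964 = n33964 := d29_1 D33964 (iv D33964) F149477
theorem F157965 : act 4 n33964 = n32095 := d34_1 D33964 (iv D32095) (iv F149478)
theorem F157966 : act 7 n33964 = n32093 := d43_1 D33964 (iv D32093) (iv F149479)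
theorem F157967 : act 8 n33964 = n33964 := d44_1 D33964 (iv D33964) (iv D32091) F140302 D32091
def n33965 : Q := act 6 n32092
theorem D33965 : act 6 n32092 = n33965 := rfl
theorem F157968 : act 0 n33965 = n32917 := d5_1 D33965 (iv D32917) (iv F149480)
theorem F157969 : act 3 n33965 = n33965 := d26_1 D33965 (iv D33965) F149481
theorem F157970 : act 5 n33965 = n32098 := d35_1 D33965 (iv D32098) (iv D30102) (iv F140306) D32092
def n33966 : Q := act 9 n32092
theorem D33966 : act 9 n32092 = n33966 := rfl
theorem F157971 : act 0 n33966 = n32918 := d8_1 D33966 (iv D32918) (iv F149480)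
theorem F157972 : act 3 n33966 = n33966 := d29_1 D33966 (iv D33966) F149481
theorem F157973 : act 5 n33966 = n32093 := d38_1 D33966 (iv D32093) D32092
def n33967 : Q := act 5 n32094
theorem D33967 : act 5 n32094 = n33967 := rfl
theorem F157974 : act 0 n33967 = n32731 := d4_1 D33967 F151886 (iv F149487)
theorem F157975 : act 2 n33967 = n32149 := d19_1 D33967 F149715 (iv F149488)
theorem F157976 : act 3 n33967 = n32096 := d25_1 D33967 (iv D32096) (iv F149489)
theorem F157977 : act 7 n33967 = n32099 := d36_2 (iv F149491) D33967 (iv D32099)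
theorem F157978 : act 8 n33967 = n32145 := d37_2 D32094 D33967 F149707 F140626 (iv F140310)
def n33968 : Q := act 4 n32096
theorem D33968 : act 4 n32096 = n33968 := rfl
theorem F157979 : act 0 n33968 = n32817 := d3_1 D33968 F152132 (iv F149496)
theorem F157980 : act 2 n33968 = n32111 := d18_1 D33968 (iv D32111) (iv F149497)
theorem F157981 : act 5 n33968 = n33968 := d30_2 D32096 D33968 (iv D33968) (iv D32096) F140322
theorem F157982 : act 7 n33968 = n32100 := d32_2 (iv F149498) D33968 (iv D32100)
theorem F157983 : act 8 n33968 = n32166 := d33_2 (iv F149499) D33968 F149768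
def n33969 : Q := act 5 n32097
theorem D33969 : act 5 n32097 = n33969 := rfl
theorem F157984 : act 0 n33969 = n32703 := d4_1 D33969 (iv D32703) (iv F149500)
theorem F157985 : act 2 n33969 = n32154 := d19_1 D33969 (iv D32154) (iv F149501)
theorem F157986 : act 3 n33969 = n33969 := d25_1 D33969 (iv D33969) F149502
theorem F157987 : act 8 n33969 = n32514 := d37_2 D32097 D33969 (iv D32514) (iv D30504) F140351
def n33970 : Q := act 7 n32098
theorem D33970 : act 7 n32098 = n33970 := rfl
theorem F157988 : act 0 n33970 = n32919 := d6_1 D33970 (iv D32919) (iv F149505)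
theorem F157989 : act 3 n33970 = n33970 := d27_1 D33970 (iv D33970) F149506
theorem F157990 : act 4 n33970 = n32106 := d32_1 D33970 (iv D32106) (iv F149507)
theorem F157991 : act 8 n33970 = n33970 := d42_2 F149508 D33970 (iv D33970)
def n33971 : Q := act 4 n32099
theorem D33971 : act 4 n32099 = n33971 := rfl
theorem F157992 : act 0 n33971 = n32730 := d3_1 D33971 (iv D32730) (iv F149509)
theorem F157993 : act 2 n33971 = n32147 := d18_1 D33971 F149712 (iv F149510)
theorem F157994 : act 6 n33971 = n32107 := d31_2 (iv F149512) D33971 (iv D32107)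
theorem F157995 : act 8 n33971 = n32144 := d33_2 (iv F149513) D33971 (iv D32144)
def n33972 : Q := act 3 n32100
theorem D33972 : act 3 n32100 = n33972 := rfl
theorem F157996 : act 0 n33972 = n32816 := d2_1 D33972 (iv D32816) (iv F149514)
theorem F157997 : act 2 n33972 = n32306 := d17_1 D33972 F150261 F141133 (iv F140466) (iv F149515)
theorem F157998 : act 5 n33972 = n33972 := d25_2 F149516 D33972 (iv D33972)
theorem F157999 : act 6 n33972 = n32108 := d26_2 (iv F149517) D33972 (iv D32108)
theorem F158000 : act 8 n33972 = n32165 := d28_2 (iv F149518) D33972 (iv D32165)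
def n33973 : Q := act 4 n32101
theorem D33973 : act 4 n32101 = n33973 := rfl
theorem F158001 : act 0 n33973 = n32672 := d3_1 D33973 (iv D32672) (iv F149519)
theorem F158002 : act 2 n33973 = n32136 := d18_1 D33973 (iv D32136) (iv F149520)
theorem F158003 : act 6 n33973 = n32144 := d31_2 (iv F149522) D33973 (iv D32144)
theorem F158004 : act 8 n33973 = n32107 := d33_2 (iv F149523) D33973 (iv D32107)
def n33974 : Q := act 3 n32102
theorem D33974 : act 3 n32102 = n33974 := rfl
theorem F158005 : act 0 n33974 = n32851 := d2_1 D33974 F152247 (iv F149524)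
theorem F158006 : act 2 n33974 = n32293 := d17_1 D33974 (iv D32293) F141096 (iv F140477) (iv F149525)
theorem F158007 : act 5 n33974 = n33974 := d25_2 F149526 D33974 (iv D33974)
theorem F158008 : act 6 n33974 = n32165 := d26_2 (iv F149527) D33974 (iv D32165)
theorem F158009 : act 8 n33974 = n32108 := d28_2 (iv F149528) D33974 (iv D32108)
def n33975 : Q := act 6 n32103
theorem D33975 : act 6 n32103 = n33975 := rfl
theorem F158010 : act 0 n33975 = n32424 := d5_1 D33975 (iv D32424) (iv F149529)
theorem F158011 : act 1 n33975 = n32104 := d13_1 D33975 (iv D32104) (iv F149530)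
theorem F158012 : act 2 n33975 = n32130 := d20_1 D33975 F154672 F154665
theorem F158013 : act 3 n33975 = n33975 := d26_1 D33975 (iv D33975) F149531
theorem F158014 : act 4 n33975 = n32432 := d31_1 D33975 (iv D32432) (iv F149532)
theorem F158015 : act 8 n33975 = n33975 := d40_2 F149533 D33975 (iv D33975)
theorem F158016 : act 9 n33975 = n32126 := d41_2 F155767 D33975 F155768
def n33976 : Q := act 7 n32104
theorem D33976 : act 7 n32104 = n33976 := rfl
theorem F158017 : act 0 n33976 = n32920 := d6_1 D33976 (iv D32920) (iv F149534)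
theorem F158018 : act 2 n33976 = n32106 := d21_1 D33976 (iv D32106) (iv F149535)
theorem F158019 : act 3 n33976 = n33976 := d27_1 D33976 (iv D33976) F149536
theorem F158020 : act 8 n33976 = n33976 := d42_2 F149537 D33976 (iv D33976)
def n33977 : Q := act 4 n32105
theorem D33977 : act 4 n32105 = n33977 := rfl
theorem F158021 : act 0 n33977 = n32675 := d3_1 D33977 F151713 (iv F149538)
theorem F158022 : act 2 n33977 = n32107 := d18_1 D33977 (iv D32107) (iv F149539)
theorem F158023 : act 3 n33977 = n32238 := d24_1 D33977 F150049 F140957 F140485 (iv F149540)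
theorem F158024 : act 6 n33977 = n32147 := d31_2 (iv F149541) D33977 F149712
theorem F158025 : act 8 n33977 = n32136 := d33_2 (iv F149542) D33977 (iv D32136)
def n33978 : Q := act 3 n32107
theorem D33978 : act 3 n32107 = n33978 := rfl
theorem F158026 : act 0 n33978 = n32775 := d2_1 D33978 (iv D32775) (iv F149546)
theorem F158027 : act 4 n33978 = n32108 := d24_2 D32107 D33978 (iv D32108) (iv D30114) (iv F140398)
def n33979 : Q := act 5 n32114
theorem D33979 : act 5 n32114 = n33979 := rfl
theorem F158028 : act 1 n33979 = n32115 := d12_1 D33979 (iv D32115) (iv F149577)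
theorem F158029 : act 2 n33979 = n32142 := d19_1 D33979 (iv D32142) (iv F149578)
theorem F158030 : act 3 n33979 = n33979 := d25_1 D33979 (iv D33979) F149579
def n33980 : Q := act 7 n32114
theorem D33980 : act 7 n32114 = n33980 := rfl
theorem F158031 : act 1 n33980 = n32116 := d14_1 D33980 (iv D32116) (iv F149577)
theorem F158032 : act 2 n33980 = n32143 := d21_1 D33980 (iv D32143) (iv F149578)
theorem F158033 : act 3 n33980 = n33980 := d27_1 D33980 (iv D33980) F149579
theorem F158034 : act 4 n33980 = n32393 := d32_1 D33980 (iv D32393) (iv F149580)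
theorem F158035 : act 8 n33980 = n32123 := d42_2 (iv F149581) D33980 (iv D32123)
def n33981 : Q := act 4 n32115
theorem D33981 : act 4 n32115 = n33981 := rfl
theorem F158036 : act 2 n33981 = n32117 := d18_1 D33981 (iv D32117) (iv F149582)
theorem F158037 : act 5 n33981 = n32394 := d30_2 D32115 D33981 (iv D32394) (iv D30405) (iv F140510)
def n33982 : Q := act 7 n32115
theorem D33982 : act 7 n32115 = n33982 := rfl
theorem F158038 : act 2 n33982 = n32118 := d21_1 D33982 (iv D32118) (iv F149582)
theorem F158039 : act 3 n33982 = n33982 := d27_1 D33982 (iv D33982) F149583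
theorem F158040 : act 5 n33982 = n32116 := d36_1 D33982 (iv D32116) D32115
def n33983 : Q := act 8 n32115
theorem D33983 : act 8 n32115 = n33983 := rfl
theorem F158041 : act 2 n33983 = n32119 := d22_1 D33983 (iv D32119) (iv F149582)
theorem F158042 : act 3 n33983 = n33983 := d28_1 D33983 (iv D33983) F149583
theorem F158043 : act 5 n33983 = n32126 := d37_1 D33983 (iv D32126) (iv D30140) (iv F140511) D32115
def n33984 : Q := act 7 n32117
theorem D33984 : act 7 n32117 = n33984 := rfl
theorem F158044 : act 1 n33984 = n32146 := d14_1 D33984 (iv D32146) (iv F149588)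
theorem F158045 : act 3 n33984 = n32208 := d27_1 D33984 (iv D32208) (iv F149589)
theorem F158046 : act 4 n33984 = n32118 := d32_1 D33984 (iv D32118) D32117
theorem F158047 : act 5 n33984 = n32397 := d36_1 D33984 (iv D32397) (iv F149590)
def n33985 : Q := act 8 n32117
theorem D33985 : act 8 n32117 = n33985 := rfl
theorem F158048 : act 1 n33985 = n32147 := d15_1 D33985 (iv D32147) (iv F149588)
theorem F158049 : act 3 n33985 = n32209 := d28_1 D33985 (iv D32209) (iv F149589)
theorem F158050 : act 4 n33985 = n32119 := d33_1 D33985 (iv D32119) D32117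
def n33986 : Q := act 6 n32118
theorem D33986 : act 6 n32118 = n33986 := rfl
theorem F158051 : act 1 n33986 = n32148 := d13_1 D33986 (iv D32148) (iv F149591)
theorem F158052 : act 3 n33986 = n32120 := d26_1 D33986 (iv D32120) (iv F149592)
def n33987 : Q := act 8 n32118
theorem D33987 : act 8 n32118 = n33987 := rfl
theorem F158053 : act 1 n33987 = n32149 := d15_1 D33987 (iv D32149) (iv F149591)
theorem F158054 : act 3 n33987 = n32121 := d28_1 D33987 (iv D32121) (iv F149592)
theorem F158055 : act 5 n33987 = n32129 := d37_1 D33987 (iv D32129) F140546 (iv F140517) (iv F149593)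
theorem F158056 : act 7 n33987 = n32119 := d42_1 D33987 (iv D32119) D32118
def n33988 : Q := act 9 n32119
theorem D33988 : act 9 n32119 = n33988 := rfl
theorem F158057 : act 1 n33988 = n32150 := d16_1 D33988 (iv D32150) (iv F149594)
theorem F158058 : act 3 n33988 = n32122 := d29_1 D33988 (iv D32122) (iv F149595)
theorem F158059 : act 5 n33988 = n32130 := d38_1 D33988 (iv D32130) (iv F149596)
def n33989 : Q := act 8 n32120
theorem D33989 : act 8 n32120 = n33989 := rfl
theorem F158060 : act 1 n33989 = n32151 := d15_1 D33989 (iv D32151) (iv F149597)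
theorem F158061 : act 2 n33989 = n33989 := d22_1 D33989 (iv D33989) F149598
theorem F158062 : act 4 n33989 = n32213 := d33_1 D33989 (iv D32213) (iv F149599)
theorem F158063 : act 6 n33989 = n32121 := d40_1 D33989 (iv D32121) D32120
def n33990 : Q := act 9 n32121
theorem D33990 : act 9 n32121 = n33990 := rfl
theorem F158064 : act 1 n33990 = n32152 := d16_1 D33990 (iv D32152) (iv F149600)
theorem F158065 : act 2 n33990 = n33990 := d23_1 D33990 (iv D33990) F149601
theorem F158066 : act 4 n33990 = n32214 := d34_1 D33990 (iv D32214) (iv F149602)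
theorem F158067 : act 5 n33990 = n32131 := d38_1 D33990 (iv D32131) (iv F149603)
theorem F158068 : act 7 n33990 = n32122 := d43_1 D33990 (iv D32122) (iv F149604)
def n33991 : Q := act 7 n32124
theorem D33991 : act 7 n32124 = n33991 := rfl
theorem F158069 : act 0 n33991 = n32402 := d6_1 D33991 (iv D32402) (iv F149614)
theorem F158070 : act 2 n33991 = n32127 := d21_1 D33991 (iv D32127) (iv F149615)
theorem F158071 : act 3 n33991 = n32943 := d27_1 D33991 (iv D32943) F149619
theorem F158072 : act 4 n33991 = n32125 := d32_1 D33991 (iv D32125) D32124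
theorem F158073 : act 5 n33991 = n32417 := d36_1 D33991 (iv D32417) (iv F149616)
theorem F158074 : act 6 n33991 = n32413 := d39_1 D33991 (iv D32413) (iv D30422) (iv F141569) (iv F149617)
theorem F158075 : act 9 n33991 = n33991 := d43_2 F149618 D33991 (iv D33991)
def n33992 : Q := act 8 n32124
theorem D33992 : act 8 n32124 = n33992 := rfl
theorem F158076 : act 0 n33992 = n32373 := d7_1 D33992 F150558 (iv F149614)
theorem F158077 : act 2 n33992 = n32128 := d22_1 D33992 (iv D32128) (iv F149615)
theorem F158078 : act 3 n33992 = n32541 := d28_1 D33992 F151161 F149619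
theorem F158079 : act 4 n33992 = n32126 := d33_1 D33992 (iv D32126) D32124
theorem F158080 : act 6 n33992 = n32372 := d40_1 D33992 F150553 (iv F149617)
theorem F158081 : act 9 n32432 = n33992 := d41_0 F158080 F150554 D32432
def n33993 : Q := act 8 n32125
theorem D33993 : act 8 n32125 = n33993 := rfl
theorem F158082 : act 2 n33993 = n32129 := d22_1 D33993 (iv D32129) (iv F149620)
theorem F158083 : act 3 n33993 = n33993 := d28_1 D33993 (iv D33993) F149621
theorem F158084 : act 7 n33993 = n32126 := d42_1 D33993 (iv D32126) D32125
def n33994 : Q := act 8 n32127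
theorem D33994 : act 8 n32127 = n33994 := rfl
theorem F158085 : act 0 n33994 = n32453 := d7_1 D33994 F150871 (iv F149626)
theorem F158086 : act 1 n33994 = n32153 := d15_1 D33994 (iv D32153) (iv F149627)
theorem F158087 : act 3 n33994 = n32132 := d28_1 D33994 (iv D32132) (iv F149628)
theorem F158088 : act 4 n33994 = n32129 := d33_1 D33994 (iv D32129) (iv F149629)
theorem F158089 : act 6 n33994 = n32478 := d40_1 D33994 F150941 (iv F149631)
theorem F158090 : act 7 n33994 = n32128 := d42_1 D33994 (iv D32128) D32127
def n33995 : Q := act 9 n32128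
theorem D33995 : act 9 n32128 = n33995 := rfl
theorem F158091 : act 0 n33995 = n32364 := d8_1 D33995 F150516 (iv F149633)
theorem F158092 : act 1 n33995 = n32155 := d16_1 D33995 (iv D32155) (iv F149634)
theorem F158093 : act 2 n33995 = n32432 := d23_1 D33995 F158081 F158077
theorem F158094 : act 3 n33995 = n32133 := d29_1 D33995 (iv D32133) (iv F149635)
theorem F158095 : act 4 n33995 = n32130 := d34_1 D33995 (iv D32130) (iv F149636)
theorem F158096 : act 6 n33995 = n32363 := d41_1 D33995 F150511 (iv F149637)
theorem F158097 : act 8 n33995 = n33995 := d44_1 D33995 (iv D33995) (iv D32128) F140543 D32128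
def n33996 : Q := act 9 n32129
theorem D33996 : act 9 n32129 = n33996 := rfl
theorem F158098 : act 1 n33996 = n32156 := d16_1 D33996 (iv D32156) (iv F149638)
theorem F158099 : act 3 n33996 = n32131 := d29_1 D33996 (iv D32131) (iv F149639)
theorem F158100 : act 7 n33996 = n32130 := d43_1 D33996 (iv D32130) (iv F149640)
theorem F158101 : act 8 n33996 = n33996 := d44_1 D33996 (iv D33996) (iv D32129) F140547 D32129
def n33997 : Q := act 9 n32132
theorem D33997 : act 9 n32132 = n33997 := rfl
theorem F158102 : act 0 n33997 = n32574 := d8_1 D33997 F151318 (iv F149649)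
theorem F158103 : act 1 n33997 = n32158 := d16_1 D33997 (iv D32158) (iv F149650)
theorem F158104 : act 2 n33997 = n32950 := d23_1 D33997 F152616 (iv F149651)
theorem F158105 : act 4 n33997 = n32134 := d34_1 D33997 (iv D32134) (iv F149652)
theorem F158106 : act 6 n33997 = n32592 := d41_1 D33997 F151397 (iv F149653)
theorem F158107 : act 7 n33997 = n32133 := d43_1 D33997 (iv D32133) (iv F149654)
theorem F158108 : act 8 n33997 = n33997 := d44_1 D33997 (iv D33997) (iv D32132) F140564 D32132
def n33998 : Q := act 4 n32135
theorem D33998 : act 4 n32135 = n33998 := rfl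
theorem F158109 : act 0 n33998 = n32176 := d3_1 D33998 F149815 (iv F149669)
theorem F158110 : act 1 n33998 = n32161 := d11_1 D33998 (iv D32161) (iv F149670)
theorem F158111 : act 2 n33998 = n33998 := d18_1 D33998 (iv D33998) F149671
theorem F158112 : act 6 n33998 = n32221 := d31_2 (iv F149673) D33998 (iv D32221)
theorem F158113 : act 7 n33998 = n32174 := d32_2 (iv F149674) D33998 (iv D32174)
theorem F158114 : act 8 n33998 = n33998 := d33_2 F149675 D33998 (iv D33998)
def n33999 : Q := act 7 n32136
theorem D33999 : act 7 n32136 = n33999 := rfl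
theorem F158115 : act 0 n33999 = n32674 := d6_1 D33999 (iv D32674) (iv F149676)
theorem F158116 : act 3 n33999 = n32237 := d27_1 D33999 (iv D32237) (iv F149677)
theorem F158117 : act 4 n33999 = n32137 := d32_1 D33999 (iv D32137) D32136
def n34000 : Q := act 6 n32137
theorem D34000 : act 6 n32137 = n34000 := rfl
theorem F158118 : act 0 n34000 = n32676 := d5_1 D34000 (iv D32676) (iv F149679)
theorem F158119 : act 3 n34000 = n32138 := d26_1 D34000 (iv D32138) (iv F149680)
theorem F158120 : act 5 n34000 = n32664 := d35_1 D34000 (iv D32664) F142550 (iv F140600) (iv F149681)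
theorem F158121 : act 7 n34000 = n32148 := d39_2 D32137 D34000 (iv D32148) (iv D30163) (iv F140597)
def n34001 : Q := act 7 n32139
theorem D34001 : act 7 n32139 = n34001 := rfl
theorem F158122 : act 0 n34001 = n32667 := d6_1 D34001 (iv D32667) (iv F149687)
theorem F158123 : act 4 n34001 = n32140 := d32_1 D34001 (iv D32140) D32139
theorem F158124 : act 5 n34001 = n32457 := d36_1 D34001 (iv D32457) (iv F149688)
def n34002 : Q := act 6 n32140
theorem D34002 : act 6 n32140 = n34002 := rfl
theorem F158125 : act 0 n34002 = n32669 := d5_1 D34002 (iv D32669) (iv F149690)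
theorem F158126 : act 3 n34002 = n32141 := d26_1 D34002 (iv D32141) (iv F149691)
theorem F158127 : act 5 n34002 = n32148 := d35_1 D34002 (iv D32148) F140630 (iv F140612) (iv F149692)
theorem F158128 : act 7 n34002 = n32664 := d39_2 D32140 D34002 (iv D32664) (iv D30668) (iv F140608)
def n34003 : Q := act 4 n32142
theorem D34003 : act 4 n32142 = n34003 := rfl
theorem F158129 : act 1 n34003 = n32144 := d11_1 D34003 (iv D32144) (iv F149697)
theorem F158130 : act 5 n34003 = n32479 := d30_2 D32142 D34003 (iv D32479) (iv D30476) (iv F140619)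
def n34004 : Q := act 7 n32142
theorem D34004 : act 7 n32142 = n34004 := rfl
theorem F158131 : act 1 n34004 = n32145 := d14_1 D34004 (iv D32145) (iv F149697)
theorem F158132 : act 3 n34004 = n32164 := d27_1 D34004 (iv D32164) (iv F149698)
theorem F158133 : act 5 n34004 = n32143 := d36_1 D34004 (iv D32143) D32142
def n34005 : Q := act 3 n32144
theorem D34005 : act 3 n32144 = n34005 := rfl
theorem F158134 : act 2 n34005 = n32247 := d17_1 D34005 (iv D32247) F140975 (iv F140627) (iv F149703)
theorem F158135 : act 4 n34005 = n32165 := d24_2 D32144 D34005 (iv D32165) (iv D30184) (iv F140622)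
theorem F158136 : act 5 n34005 = n32482 := d25_2 (iv F149704) D34005 (iv D32482)
def n34006 : Q := act 7 n32144
theorem D34006 : act 7 n32144 = n34006 := rfl
theorem F158137 : act 2 n34006 = n32146 := d21_1 D34006 (iv D32146) (iv F149703)
theorem F158138 : act 4 n34006 = n32145 := d32_1 D34006 (iv D32145) D32144
theorem F158139 : act 5 n34006 = n32483 := d36_1 D34006 (iv D32483) (iv F149704)
def n34007 : Q := act 6 n32145
theorem D34007 : act 6 n32145 = n34007 := rfl
theorem F158140 : act 2 n34007 = n32148 := d20_1 D34007 (iv D32148) (iv F149705)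
theorem F158141 : act 3 n34007 = n32167 := d26_1 D34007 (iv D32167) (iv F149706)
def n34008 : Q := act 6 n32146
theorem D34008 : act 6 n32146 = n34008 := rfl
theorem F158142 : act 3 n34008 = n32253 := d26_1 D34008 (iv D32253) (iv F149708)
theorem F158143 : act 4 n34008 = n32148 := d31_1 D34008 (iv D32148) (iv F149709)
def n34009 : Q := act 8 n32146
theorem D34009 : act 8 n32146 = n34009 := rfl
theorem F158144 : act 3 n34009 = n32254 := d28_1 D34009 (iv D32254) (iv F149708)
theorem F158145 : act 4 n34009 = n32149 := d33_1 D34009 (iv D32149) (iv F149709)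
theorem F158146 : act 7 n34009 = n32147 := d42_1 D34009 (iv D32147) D32146
def n34010 : Q := act 5 n32147
theorem D34010 : act 5 n32147 = n34010 := rfl
theorem F158147 : act 3 n34010 = n32255 := d25_1 D34010 (iv D32255) (iv F149711)
theorem F158148 : act 4 n34010 = n32154 := d30_1 D34010 (iv D32154) F140651 (iv F140632) (iv F149712)
theorem F158149 : act 8 n34010 = n32490 := d37_2 D32147 D34010 (iv D32490) (iv D30482) (iv F140628)
def n34011 : Q := act 9 n32147
theorem D34011 : act 9 n32147 = n34011 := rfl
theorem F158150 : act 3 n34011 = n32256 := d29_1 D34011 (iv D32256) (iv F149711)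
theorem F158151 : act 4 n34011 = n32150 := d34_1 D34011 (iv D32150) (iv F149712)
def n34012 : Q := act 8 n32148
theorem D34012 : act 8 n32148 = n34012 := rfl
theorem F158152 : act 3 n34012 = n32151 := d28_1 D34012 (iv D32151) (iv F149713)
theorem F158153 : act 6 n34012 = n32149 := d40_1 D34012 (iv D32149) D32148
def n34013 : Q := act 9 n32149
theorem D34013 : act 9 n32149 = n34013 := rfl
theorem F158154 : act 3 n34013 = n32152 := d29_1 D34013 (iv D32152) (iv F149714)
theorem F158155 : act 5 n34013 = n32156 := d38_1 D34013 (iv D32156) (iv F149715)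
theorem F158156 : act 7 n34013 = n32150 := d43_1 D34013 (iv D32150) (iv F149716)
def n34014 : Q := act 9 n32151
theorem D34014 : act 9 n32151 = n34014 := rfl
theorem F158157 : act 2 n34014 = n32169 := d23_1 D34014 (iv D32169) (iv F149719)
theorem F158158 : act 4 n34014 = n32260 := d34_1 D34014 (iv D32260) (iv F149720)
theorem F158159 : act 6 n34014 = n32152 := d41_1 D34014 (iv D32152) (iv F149721)
def n34015 : Q := act 5 n32153
theorem D34015 : act 5 n32153 = n34015 := rfl
theorem F158160 : act 3 n34015 = n32157 := d25_1 D34015 (iv D32157) (iv F149726)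
theorem F158161 : act 7 n34015 = n32154 := d36_2 (iv F149728) D34015 (iv D32154)
theorem F158162 : act 8 n34015 = n32519 := d37_2 D32153 D34015 (iv D32519) (iv D30509) (iv F140648)
def n34016 : Q := act 9 n32153
theorem D34016 : act 9 n32153 = n34016 := rfl
theorem F158163 : act 3 n34016 = n32158 := d29_1 D34016 (iv D32158) (iv F149726)
theorem F158164 : act 4 n34016 = n32156 := d34_1 D34016 (iv D32156) (iv F149727)
theorem F158165 : act 7 n34016 = n32155 := d43_1 D34016 (iv D32155) (iv F149728)
theorem F158166 : act 8 n34016 = n34016 := d44_1 D34016 (iv D34016) (iv D32153) F140649 D32153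
def n34017 : Q := act 6 n32154
theorem D34017 : act 6 n32154 = n34017 := rfl
theorem F158167 : act 3 n34017 = n32159 := d26_1 D34017 (iv D32159) (iv F149729)
theorem F158168 : act 8 n34017 = n32520 := d40_2 (iv F149730) D34017 (iv D32520)
def n34018 : Q := act 9 n32154
theorem D34018 : act 9 n32154 = n34018 := rfl
theorem F158169 : act 3 n34018 = n32160 := d29_1 D34018 (iv D32160) (iv F149729)
theorem F158170 : act 5 n34018 = n32155 := d38_1 D34018 (iv D32155) D32154
def n34019 : Q := act 6 n32157
theorem D34019 : act 6 n32157 = n34019 := rfl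
theorem F158171 : act 2 n34019 = n34019 := d20_1 D34019 (iv D34019) F149737
theorem F158172 : act 4 n34019 = n32281 := d31_1 D34019 (iv D32281) (iv F149738)
theorem F158173 : act 8 n34019 = n32527 := d40_2 (iv F149740) D34019 (iv D32527)
def n34020 : Q := act 9 n32157
theorem D34020 : act 9 n32157 = n34020 := rfl
theorem F158174 : act 2 n34020 = n34020 := d23_1 D34020 (iv D34020) F149737
theorem F158175 : act 4 n34020 = n32282 := d34_1 D34020 (iv D32282) (iv F149738)
theorem F158176 : act 5 n34020 = n32158 := d38_1 D34020 (iv D32158) D32157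
theorem F158177 : act 7 n34020 = n32160 := d43_1 D34020 (iv D32160) (iv F149739)
def n34021 : Q := act 7 n32159
theorem D34021 : act 7 n32159 = n34021 := rfl
theorem F158178 : act 2 n34021 = n34021 := d21_1 D34021 (iv D34021) F149745
theorem F158179 : act 4 n34021 = n32283 := d32_1 D34021 (iv D32283) (iv F149746)
theorem F158180 : act 8 n34021 = n32528 := d42_2 (iv F149747) D34021 (iv D32528)
def n34022 : Q := act 9 n32159
theorem D34022 : act 9 n32159 = n34022 := rfl
theorem F158181 : act 0 n34022 = n32922 := d8_1 D34022 F153233 F153227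
theorem F158182 : act 1 n34022 = n32939 := d16_1 D34022 (iv F156999) F156994
theorem F158183 : act 2 n34022 = n34022 := d23_1 D34022 (iv D34022) F149745
theorem F158184 : act 4 n34022 = n32284 := d34_1 D34022 (iv D32284) (iv F149746)
theorem F158185 : act 5 n34022 = n32921 := d38_1 D34022 (iv F155121) F155119
theorem F158186 : act 6 n34022 = n32160 := d41_1 D34022 (iv D32160) D32159
def n34023 : Q := act 3 n32161
theorem D34023 : act 3 n32161 = n34023 := rfl
theorem F158187 : act 6 n34023 = n32287 := d26_2 (iv F149752) D34023 (iv D32287)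
theorem F158188 : act 8 n34023 = n34023 := d28_2 F149753 D34023 (iv D34023)
def n34024 : Q := act 9 n32161
theorem D34024 : act 9 n32161 = n34024 := rfl
theorem F158189 : act 0 n34024 = n32865 := d8_1 D34024 (iv F153247) F153240
theorem F158190 : act 2 n34024 = n32171 := d23_1 D34024 (iv D32171) (iv F149751)
theorem F158191 : act 4 n34024 = n32162 := d34_1 D34024 (iv D32162) D32161
theorem F158192 : act 6 n34024 = n32288 := d41_1 D34024 (iv D32288) (iv F149752)
theorem F158193 : act 7 n34024 = n32863 := d43_1 D34024 (iv F153291) F153289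
theorem F158194 : act 8 n32948 = n34024 := d42_0 F158193 (iv F152280) D32948
def n34025 : Q := act 8 n32162
theorem D34025 : act 8 n32162 = n34025 := rfl
theorem F158195 : act 0 n34025 = n32866 := d7_1 D34025 (iv D32866) (iv F149754)
theorem F158196 : act 2 n34025 = n32172 := d22_1 D34025 (iv D32172) (iv F149755)
theorem F158197 : act 4 n34025 = n32948 := d33_1 D34025 F158194 F158191
theorem F158198 : act 5 n34025 = n34025 := d37_1 D34025 (iv D34025) F149756 F140681 (iv F149756)
theorem F158199 : act 6 n34025 = n32289 := d40_1 D34025 (iv D32289) (iv F149757)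
theorem F158200 : act 7 n34025 = n32864 := d42_1 D34025 (iv D32864) (iv F149758)
theorem F158201 : act 9 n34025 = n34025 := d44_2 D32162 D34025 (iv D34025) (iv D32162) F140676
def n34026 : Q := act 3 n32163
theorem D34026 : act 3 n32163 = n34026 := rfl
theorem F158202 : act 1 n34026 = n32165 := d10_1 D34026 (iv D32165) (iv F149759)
theorem F158203 : act 5 n34026 = n32175 := d25_2 (iv F149761) D34026 (iv D32175)
def n34027 : Q := act 7 n32163
theorem D34027 : act 7 n32163 = n34027 := rfl
theorem F158204 : act 1 n34027 = n32166 := d14_1 D34027 (iv D32166) (iv F149759)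
theorem F158205 : act 2 n34027 = n34027 := d21_1 D34027 (iv D34027) F149760
theorem F158206 : act 4 n34027 = n32164 := d32_1 D34027 (iv D32164) D32163
theorem F158207 : act 5 n34027 = n32176 := d36_1 D34027 (iv D32176) (iv F149761)
def n34028 : Q := act 6 n32164
theorem D34028 : act 6 n32164 = n34028 := rfl
theorem F158208 : act 1 n34028 = n32167 := d13_1 D34028 (iv D32167) (iv F149762)
theorem F158209 : act 2 n34028 = n34028 := d20_1 D34028 (iv D34028) F149763
def n34029 : Q := act 7 n32165
theorem D34029 : act 7 n32165 = n34029 := rfl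
theorem F158210 : act 2 n34029 = n32305 := d21_1 D34029 (iv D32305) (iv F149765)
theorem F158211 : act 3 n34029 = n32166 := d27_1 D34029 (iv D32166) D32165
theorem F158212 : act 5 n34029 = n32178 := d36_1 D34029 (iv D32178) (iv F149766)
def n34030 : Q := act 6 n32166
theorem D34030 : act 6 n32166 = n34030 := rfl
theorem F158213 : act 2 n34030 = n32168 := d20_1 D34030 (iv D32168) (iv F149767)
theorem F158214 : act 4 n34030 = n32167 := d31_1 D34030 (iv D32167) (iv F149768)
def n34031 : Q := act 5 n32168
theorem D34031 : act 5 n32168 = n34031 := rfl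
theorem F158215 : act 1 n34031 = n34031 := d12_1 D34031 (iv D34031) F149771
theorem F158216 : act 3 n34031 = n32311 := d25_1 D34031 (iv D32311) (iv F149772)
theorem F158217 : act 6 n34031 = n32180 := d35_2 D32168 D34031 (iv D32180) (iv D30201) (iv F140704)
def n34032 : Q := act 2 n32170
theorem D34032 : act 2 n32170 = n34032 := rfl
theorem F158218 : act 0 n34032 = n32630 := d1_1 D34032 F151531 (iv F149777)
theorem F158219 : act 4 n34032 = n34032 := d18_2 F149779 D34032 (iv D34032)
theorem F158220 : act 6 n34032 = n32324 := d20_2 (iv F149780) D34032 (iv D32324)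
theorem F158221 : act 7 n34032 = n32628 := d21_2 (iv F149781) D34032 F151521
theorem F158222 : act 8 n34032 = n34032 := d22_2 F149782 D34032 (iv D34032)
theorem F158223 : act 9 n34032 = n32627 := d23_2 F149783 D34032 F151517
def n34033 : Q := act 5 n32173
theorem D34033 : act 5 n32173 = n34033 := rfl
theorem F158224 : act 0 n34033 = n33042 := d4_1 D34033 (iv D33042) (iv F149799)
theorem F158225 : act 1 n34033 = n34033 := d12_1 D34033 (iv D34033) F149800
theorem F158226 : act 3 n34033 = n32323 := d25_1 D34033 F150318 (iv F149801)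
theorem F158227 : act 4 n34033 = n32180 := d30_1 D34033 (iv D32180) F140763 (iv F140729) (iv F149802)
theorem F158228 : act 7 n34033 = n34033 := d36_2 F149803 D34033 (iv D34033)
theorem F158229 : act 8 n34033 = n32320 := d37_2 (iv F149804) D34033 F150308 F141185 (iv F141368)
def n34034 : Q := act 3 n32174
theorem D34034 : act 3 n32174 = n34034 := rfl
theorem F158230 : act 0 n34034 = n32175 := d2_1 D34034 (iv D32175) (iv F149805)
theorem F158231 : act 4 n34034 = n32653 := d24_2 D32174 D34034 (iv D32653) (iv D30656) (iv F140738)
theorem F158232 : act 6 n34034 = n34034 := d26_2 F149807 D34034 (iv D34034)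
theorem F158233 : act 8 n34034 = n34034 := d28_2 F149808 D34034 (iv D34034)
def n34035 : Q := act 2 n32175
theorem D34035 : act 2 n32175 = n34035 := rfl
theorem F158234 : act 1 n34035 = n32327 := d9_1 D34035 (iv D32327) F141204 (iv F140750) (iv F149809)
theorem F158235 : act 3 n34035 = n34035 := d17_2 D32175 D34035 (iv D34035) (iv D32175) F140742
theorem F158236 : act 4 n34035 = n32409 := d18_2 (iv F149810) D34035 F150706
theorem F158237 : act 6 n34035 = n34035 := d20_2 F149811 D34035 (iv D34035)
theorem F158238 : act 8 n34035 = n34035 := d22_2 F149812 D34035 (iv D34035)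
theorem F158239 : act 9 n34035 = n32406 := d23_2 F157405 D34035 F157406
def n34036 : Q := act 7 n32175
theorem D34036 : act 7 n32175 = n34036 := rfl
theorem F158240 : act 1 n34036 = n32178 := d14_1 D34036 (iv D32178) (iv F149809)
theorem F158241 : act 3 n34036 = n32176 := d27_1 D34036 (iv D32176) D32175
theorem F158242 : act 4 n34036 = n32655 := d32_1 D34036 (iv D32655) (iv F149810)
theorem F158243 : act 8 n34036 = n34036 := d42_2 F149812 D34036 (iv D34036)
def n34037 : Q := act 6 n32176
theorem D34037 : act 6 n32176 = n34037 := rfl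
theorem F158244 : act 0 n34037 = n32221 := d5_1 D34037 (iv F158112) F158109
theorem F158245 : act 1 n34037 = n32179 := d13_1 D34037 (iv D32179) (iv F149813)
theorem F158246 : act 2 n34037 = n34037 := d20_1 D34037 (iv D34037) F149814
theorem F158247 : act 4 n34037 = n32177 := d31_1 D34037 (iv D32177) (iv F149815)
theorem F158248 : act 7 n34037 = n34037 := d39_2 D32176 D34037 (iv D34037) (iv D32176) F140743
theorem F158249 : act 8 n34037 = n34037 := d40_2 F149816 D34037 (iv D34037)
def n34038 : Q := act 6 n32178
theorem D34038 : act 6 n32178 = n34038 := rfl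
theorem F158250 : act 2 n34038 = n32330 := d20_1 D34038 (iv D32330) (iv F149824)
theorem F158251 : act 3 n34038 = n32179 := d26_1 D34038 (iv D32179) (iv F149825)
theorem F158252 : act 4 n34038 = n32657 := d31_1 D34038 (iv D32657) (iv F149826)
theorem F158253 : act 7 n34038 = n34038 := d39_2 D32178 D34038 (iv D34038) (iv D32178) F140752
theorem F158254 : act 8 n34038 = n34038 := d40_2 F149827 D34038 (iv D34038)
def n34039 : Q := act 5 n32179
theorem D34039 : act 5 n32179 = n34039 := rfl
theorem F158255 : act 2 n34039 = n32180 := d19_1 D34039 (iv D32180) (iv F149828)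
theorem F158256 : act 7 n34039 = n34039 := d36_2 F149830 D34039 (iv D34039)
def n34040 : Q := act 8 n32180
theorem D34040 : act 8 n32180 = n34040 := rfl
theorem F158257 : act 0 n34040 = n33043 := d7_1 D34040 F153318 F153312
theorem F158258 : act 1 n34040 = n34040 := d15_1 D34040 (iv D34040) F149832
theorem F158259 : act 3 n34040 = n32332 := d28_1 D34040 (iv D32332) (iv F149833)
theorem F158260 : act 4 n34040 = n32320 := d33_1 D34040 (iv F158229) F158227
theorem F158261 : act 5 n34040 = n34040 := d37_1 D34040 (iv D34040) (iv D32180) F140765 D32180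
theorem F158262 : act 7 n34040 = n34040 := d42_1 D34040 (iv D34040) F149834
theorem F158263 : act 9 n32319 = n34040 := d34_0 F158260 (iv D32320) D32319
def n34041 : Q := act 7 n32181
theorem D34041 : act 7 n32181 = n34041 := rfl
theorem F158264 : act 0 n34041 = n32208 := d6_1 D34041 (iv D32208) (iv F149835)
theorem F158265 : act 4 n34041 = n32182 := d32_1 D34041 (iv D32182) D32181
theorem F158266 : act 5 n34041 = n32663 := d36_1 D34041 (iv D32663) (iv F149836)
def n34042 : Q := act 8 n32181
theorem D34042 : act 8 n32181 = n34042 := rfl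
theorem F158267 : act 0 n34042 = n32209 := d7_1 D34042 (iv D32209) (iv F149835)
theorem F158268 : act 2 n34042 = n32769 := d22_1 D34042 (iv F156717) F156715
theorem F158269 : act 4 n34042 = n32183 := d33_1 D34042 (iv D32183) D32181
theorem F158270 : act 5 n34042 = n32763 := d37_1 D34042 (iv D32763) (iv F147957) F147958 (iv F149836)
def n34043 : Q := act 6 n32182
theorem D34043 : act 6 n32182 = n34043 := rfl
theorem F158271 : act 0 n34043 = n32210 := d5_1 D34043 (iv D32210) (iv F149837)
theorem F158272 : act 3 n34043 = n32184 := d26_1 D34043 (iv D32184) (iv F149838)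
def n34044 : Q := act 8 n32182
theorem D34044 : act 8 n32182 = n34044 := rfl
theorem F158273 : act 0 n34044 = n32211 := d7_1 D34044 (iv D32211) (iv F149837)
theorem F158274 : act 2 n34044 = n32888 := d22_1 D34044 (iv F156895) F156892
theorem F158275 : act 3 n34044 = n32185 := d28_1 D34044 (iv D32185) (iv F149838)
theorem F158276 : act 5 n34044 = n32188 := d37_1 D34044 (iv D32188) F140782 (iv F140771) (iv F149839)
theorem F158277 : act 7 n34044 = n32183 := d42_1 D34044 (iv D32183) D32182
def n34045 : Q := act 9 n32183
theorem D34045 : act 9 n32183 = n34045 := rfl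
theorem F158278 : act 0 n34045 = n32212 := d8_1 D34045 (iv D32212) (iv F149840)
theorem F158279 : act 2 n34045 = n32891 := d23_1 D34045 (iv D32891) (iv F149841)
theorem F158280 : act 3 n34045 = n32186 := d29_1 D34045 (iv D32186) (iv F149842)
theorem F158281 : act 5 n34045 = n32189 := d38_1 D34045 (iv D32189) (iv F149843)
def n34046 : Q := act 8 n32184
theorem D34046 : act 8 n32184 = n34046 := rfl
theorem F158282 : act 0 n34046 = n32213 := d7_1 D34046 (iv D32213) (iv F149844)
theorem F158283 : act 2 n34046 = n34046 := d22_1 D34046 (iv D34046) F149845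
theorem F158284 : act 6 n34046 = n32185 := d40_1 D34046 (iv D32185) D32184
def n34047 : Q := act 9 n32185
theorem D34047 : act 9 n32185 = n34047 := rfl
theorem F158285 : act 0 n34047 = n32214 := d8_1 D34047 (iv D32214) (iv F149846)
theorem F158286 : act 2 n34047 = n34047 := d23_1 D34047 (iv D34047) F149847
theorem F158287 : act 5 n34047 = n32191 := d38_1 D34047 (iv D32191) (iv F149848)
theorem F158288 : act 7 n34047 = n32186 := d43_1 D34047 (iv D32186) (iv F149849)
def n34048 : Q := act 8 n32187
theorem D34048 : act 8 n32187 = n34048 := rfl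
theorem F158289 : act 0 n34048 = n32215 := d7_1 D34048 (iv D32215) (iv F149853)
theorem F158290 : act 2 n34048 = n32887 := d22_1 D34048 (iv D32887) (iv F149854)
theorem F158291 : act 3 n34048 = n32190 := d28_1 D34048 (iv D32190) (iv F149855)
theorem F158292 : act 4 n34048 = n32884 := d33_1 D34048 (iv D32884) (iv F149856)
theorem F158293 : act 6 n34048 = n32188 := d40_1 D34048 (iv D32188) D32187
theorem F158294 : act 7 n34048 = n34048 := d42_1 D34048 (iv D34048) F149857
def n34049 : Q := act 9 n32188
theorem D34049 : act 9 n32188 = n34049 := rfl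
theorem F158295 : act 0 n34049 = n32216 := d8_1 D34049 (iv D32216) (iv F149859)
theorem F158296 : act 2 n34049 = n32889 := d23_1 D34049 (iv D32889) (iv F149860)
theorem F158297 : act 3 n34049 = n32191 := d29_1 D34049 (iv D32191) (iv F149861)
theorem F158298 : act 4 n34049 = n32885 := d34_1 D34049 (iv D32885) (iv F149862)
theorem F158299 : act 7 n34049 = n32189 := d43_1 D34049 (iv D32189) (iv F149863)
theorem F158300 : act 8 n34049 = n32334 := d44_1 D34049 (iv D32334) (iv D30335) (iv F140783) D32188
def n34050 : Q := act 5 n32190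
theorem D34050 : act 5 n32190 = n34050 := rfl
theorem F158301 : act 0 n34050 = n32217 := d4_1 D34050 (iv D32217) (iv F149870)
theorem F158302 : act 2 n34050 = n34050 := d19_1 D34050 (iv D34050) F149871
theorem F158303 : act 7 n34050 = n34050 := d36_2 F149874 D34050 (iv D34050)
def n34051 : Q := act 9 n32190
theorem D34051 : act 9 n32190 = n34051 := rfl
theorem F158304 : act 0 n34051 = n32218 := d8_1 D34051 (iv D32218) (iv F149870)
theorem F158305 : act 2 n34051 = n34051 := d23_1 D34051 (iv D34051) F149871
theorem F158306 : act 4 n34051 = n32194 := d34_1 D34051 (iv D32194) (iv F149872)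
theorem F158307 : act 6 n34051 = n32191 := d41_1 D34051 (iv D32191) (iv F149873)
theorem F158308 : act 7 n34051 = n34051 := d43_1 D34051 (iv D34051) F149874
theorem F158309 : act 8 n34051 = n32335 := d44_1 D34051 (iv D32335) (iv D30337) (iv F140793) D32190
def n34052 : Q := act 9 n32192
theorem D34052 : act 9 n32192 = n34052 := rfl
theorem F158310 : act 0 n34052 = n32220 := d8_1 D34052 (iv D32220) (iv F149880)
theorem F158311 : act 1 n34052 = n32637 := d16_1 D34052 F151564 (iv F149881)
theorem F158312 : act 2 n34052 = n32900 := d23_1 D34052 (iv D32900) (iv F149882)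
theorem F158313 : act 3 n34052 = n32194 := d29_1 D34052 (iv D32194) (iv F149883)
theorem F158314 : act 4 n34052 = n32899 := d34_1 D34052 (iv D32899) (iv F149884)
theorem F158315 : act 5 n34052 = n32645 := d38_1 D34052 F151600 F149887
theorem F158316 : act 6 n34052 = n32193 := d41_1 D34052 (iv D32193) (iv F149885)
theorem F158317 : act 7 n34052 = n34052 := d43_1 D34052 (iv D34052) F149886
theorem F158318 : act 8 n34052 = n32336 := d44_1 D34052 (iv D32336) (iv D30339) (iv F140809) D32192
def n34053 : Q := act 5 n32195
theorem D34053 : act 5 n32195 = n34053 := rfl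
theorem F158319 : act 1 n34053 = n32196 := d12_1 D34053 (iv D32196) (iv F149901)
theorem F158320 : act 2 n34053 = n32232 := d19_1 D34053 (iv D32232) (iv F149902)
theorem F158321 : act 3 n34053 = n34053 := d25_1 D34053 (iv D34053) F149903
theorem F158322 : act 6 n34053 = n32204 := d35_2 D32195 D34053 (iv D32204) (iv D30222) (iv F140835)
def n34054 : Q := act 7 n32195
theorem D34054 : act 7 n32195 = n34054 := rfl
theorem F158323 : act 1 n34054 = n32197 := d14_1 D34054 (iv D32197) (iv F149901)
theorem F158324 : act 2 n34054 = n32233 := d21_1 D34054 (iv D32233) (iv F149902)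
theorem F158325 : act 3 n34054 = n34054 := d27_1 D34054 (iv D34054) F149903
theorem F158326 : act 6 n34054 = n32920 := d39_1 D34054 (iv D32920) (iv D30946) (iv F140836) D32195
theorem F158327 : act 8 n34054 = n34054 := d42_2 F149904 D34054 (iv D34054)
def n34055 : Q := act 4 n32196
theorem D34055 : act 4 n32196 = n34055 := rfl
theorem F158328 : act 2 n34055 = n32198 := d18_1 D34055 (iv D32198) (iv F149905)
theorem F158329 : act 6 n34055 = n32206 := d31_2 (iv F149907) D34055 (iv D32206)
def n34056 : Q := act 7 n32196
theorem D34056 : act 7 n32196 = n34056 := rfl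
theorem F158330 : act 2 n34056 = n32199 := d21_1 D34056 (iv D32199) (iv F149905)
theorem F158331 : act 3 n34056 = n34056 := d27_1 D34056 (iv D34056) F149906
theorem F158332 : act 5 n34056 = n32197 := d36_1 D34056 (iv D32197) D32196
def n34057 : Q := act 7 n32198
theorem D34057 : act 7 n32198 = n34057 := rfl
theorem F158333 : act 1 n34057 = n32237 := d14_1 D34057 (iv D32237) (iv F149911)
theorem F158334 : act 4 n34057 = n32199 := d32_1 D34057 (iv D32199) D32198
def n34058 : Q := act 8 n32198
theorem D34058 : act 8 n32198 = n34058 := rfl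
theorem F158335 : act 1 n34058 = n32238 := d15_1 D34058 (iv D32238) (iv F149911)
theorem F158336 : act 4 n34058 = n32200 := d33_1 D34058 (iv D32200) D32198
theorem F158337 : act 6 n34058 = n32209 := d40_1 D34058 (iv D32209) (iv F149912)
def n34059 : Q := act 6 n32199
theorem D34059 : act 6 n32199 = n34059 := rfl
theorem F158338 : act 1 n34059 = n32239 := d13_1 D34059 (iv D32239) (iv F149913)
theorem F158339 : act 3 n34059 = n32201 := d26_1 D34059 (iv D32201) (iv F149914)
theorem F158340 : act 7 n34059 = n32210 := d39_2 D32199 D34059 (iv D32210) (iv D30226) (iv F140843)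
def n34060 : Q := act 8 n32199
theorem D34060 : act 8 n32199 = n34060 := rfl
theorem F158341 : act 1 n34060 = n32240 := d15_1 D34060 (iv D32240) (iv F149913)
theorem F158342 : act 3 n34060 = n32202 := d28_1 D34060 (iv D32202) (iv F149914)
theorem F158343 : act 5 n34060 = n34060 := d37_1 D34060 (iv D34060) F149915 F140846 (iv F149915)
theorem F158344 : act 7 n34060 = n32200 := d42_1 D34060 (iv D32200) D32199
def n34061 : Q := act 9 n32200
theorem D34061 : act 9 n32200 = n34061 := rfl
theorem F158345 : act 1 n34061 = n32241 := d16_1 D34061 (iv D32241) (iv F149916)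
theorem F158346 : act 3 n34061 = n32203 := d29_1 D34061 (iv D32203) (iv F149917)
theorem F158347 : act 5 n34061 = n34061 := d38_1 D34061 (iv D34061) F149918
theorem F158348 : act 6 n34061 = n32212 := d41_1 D34061 (iv D32212) (iv F149919)
def n34062 : Q := act 8 n32201
theorem D34062 : act 8 n32201 = n34062 := rfl
theorem F158349 : act 1 n34062 = n32242 := d15_1 D34062 (iv D32242) (iv F149920)
theorem F158350 : act 2 n34062 = n34062 := d22_1 D34062 (iv D34062) F149921
theorem F158351 : act 6 n34062 = n32202 := d40_1 D34062 (iv D32202) D32201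
theorem F158352 : act 7 n34062 = n32213 := d42_1 D34062 (iv D32213) (iv F149922)
def n34063 : Q := act 9 n32202
theorem D34063 : act 9 n32202 = n34063 := rfl
theorem F158353 : act 1 n34063 = n32243 := d16_1 D34063 (iv D32243) (iv F149923)
theorem F158354 : act 2 n34063 = n34063 := d23_1 D34063 (iv D34063) F149924
theorem F158355 : act 5 n34063 = n34063 := d38_1 D34063 (iv D34063) F149925
theorem F158356 : act 7 n34063 = n32203 := d43_1 D34063 (iv D32203) (iv F149926)
def n34064 : Q := act 4 n32204
theorem D34064 : act 4 n32204 = n34064 := rfl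
theorem F158357 : act 1 n34064 = n32206 := d11_1 D34064 (iv D32206) (iv F149931)
theorem F158358 : act 2 n34064 = n32244 := d18_1 D34064 (iv D32244) (iv F149932)
theorem F158359 : act 5 n34064 = n32675 := d30_2 D32204 D34064 F151713 F142593 (iv F140857)
def n34065 : Q := act 7 n32204
theorem D34065 : act 7 n32204 = n34065 := rfl
theorem F158360 : act 1 n34065 = n32207 := d14_1 D34065 (iv D32207) (iv F149931)
theorem F158361 : act 2 n34065 = n32245 := d21_1 D34065 (iv D32245) (iv F149932)
theorem F158362 : act 3 n34065 = n34065 := d27_1 D34065 (iv D34065) F149933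
theorem F158363 : act 5 n34065 = n32205 := d36_1 D34065 (iv D32205) D32204
def n34066 : Q := act 3 n32206
theorem D34066 : act 3 n32206 = n34066 := rfl
theorem F158364 : act 4 n34066 = n34066 := d24_2 D32206 D34066 (iv D34066) (iv D32206) F140860
theorem F158365 : act 5 n34066 = n32689 := d25_2 (iv F149941) D34066 (iv D32689)
def n34067 : Q := act 7 n32206
theorem D34067 : act 7 n32206 = n34067 := rfl
theorem F158366 : act 2 n34067 = n32208 := d21_1 D34067 (iv D32208) (iv F149940)
theorem F158367 : act 4 n34067 = n32207 := d32_1 D34067 (iv D32207) D32206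
theorem F158368 : act 5 n34067 = n32690 := d36_1 D34067 (iv D32690) (iv F149941)
def n34068 : Q := act 6 n32207
theorem D34068 : act 6 n32207 = n34068 := rfl
theorem F158369 : act 2 n34068 = n32210 := d20_1 D34068 (iv D32210) (iv F149942)
theorem F158370 : act 3 n34068 = n34068 := d26_1 D34068 (iv D34068) F149943
def n34069 : Q := act 6 n32208
theorem D34069 : act 6 n32208 = n34069 := rfl
theorem F158371 : act 1 n34069 = n32253 := d13_1 D34069 (iv D32253) (iv F149945)
theorem F158372 : act 4 n34069 = n32210 := d31_1 D34069 (iv D32210) (iv F149946)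
def n34070 : Q := act 8 n32208
theorem D34070 : act 8 n32208 = n34070 := rfl
theorem F158373 : act 1 n34070 = n32254 := d15_1 D34070 (iv D32254) (iv F149945)
theorem F158374 : act 4 n34070 = n32211 := d33_1 D34070 (iv D32211) (iv F149946)
theorem F158375 : act 7 n34070 = n32209 := d42_1 D34070 (iv D32209) D32208
def n34071 : Q := act 9 n32209
theorem D34071 : act 9 n32209 = n34071 := rfl
theorem F158376 : act 1 n34071 = n32256 := d16_1 D34071 (iv D32256) (iv F149948)
theorem F158377 : act 4 n34071 = n32212 := d34_1 D34071 (iv D32212) (iv F149949)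
def n34072 : Q := act 8 n32210
theorem D34072 : act 8 n32210 = n34072 := rfl
theorem F158378 : act 1 n34072 = n32257 := d15_1 D34072 (iv D32257) (iv F149950)
theorem F158379 : act 3 n34072 = n32213 := d28_1 D34072 (iv D32213) (iv F149951)
theorem F158380 : act 6 n34072 = n32211 := d40_1 D34072 (iv D32211) D32210
def n34073 : Q := act 9 n32211
theorem D34073 : act 9 n32211 = n34073 := rfl
theorem F158381 : act 1 n34073 = n32258 := d16_1 D34073 (iv D32258) (iv F149952)
theorem F158382 : act 3 n34073 = n32214 := d29_1 D34073 (iv D32214) (iv F149953)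
theorem F158383 : act 5 n34073 = n32216 := d38_1 D34073 (iv D32216) (iv F149954)
theorem F158384 : act 7 n34073 = n32212 := d43_1 D34073 (iv D32212) (iv F149955)
def n34074 : Q := act 5 n32213
theorem D34074 : act 5 n32213 = n34074 := rfl
theorem F158385 : act 1 n34074 = n32259 := d12_1 D34074 (iv D32259) (iv F149959)
theorem F158386 : act 2 n34074 = n34074 := d19_1 D34074 (iv D34074) F149960
theorem F158387 : act 6 n34074 = n32217 := d35_2 (iv F149961) D34074 (iv D32217) F140902 (iv F140877)
def n34075 : Q := act 9 n32213
theorem D34075 : act 9 n32213 = n34075 := rfl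
theorem F158388 : act 1 n34075 = n32260 := d16_1 D34075 (iv D32260) (iv F149959)
theorem F158389 : act 2 n34075 = n34075 := d23_1 D34075 (iv D34075) F149960
theorem F158390 : act 6 n34075 = n32214 := d41_1 D34075 (iv D32214) (iv F149961)
def n34076 : Q := act 5 n32215
theorem D34076 : act 5 n32215 = n34076 := rfl
theorem F158391 : act 1 n34076 = n32274 := d12_1 D34076 (iv D32274) (iv F149966)
theorem F158392 : act 3 n34076 = n32217 := d25_1 D34076 (iv D32217) (iv F149967)
theorem F158393 : act 7 n34076 = n34076 := d36_2 F149969 D34076 (iv D34076)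
def n34077 : Q := act 9 n32215
theorem D34077 : act 9 n32215 = n34077 := rfl
theorem F158394 : act 1 n34077 = n32275 := d16_1 D34077 (iv D32275) (iv F149966)
theorem F158395 : act 3 n34077 = n32218 := d29_1 D34077 (iv D32218) (iv F149967)
theorem F158396 : act 6 n34077 = n32216 := d41_1 D34077 (iv D32216) (iv F149968)
theorem F158397 : act 7 n34077 = n34077 := d43_1 D34077 (iv D34077) F149969
theorem F158398 : act 8 n34077 = n32338 := d44_1 D34077 (iv D32338) (iv D30343) (iv F140891) D32215
def n34078 : Q := act 4 n32217
theorem D34078 : act 4 n32217 = n34078 := rfl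
theorem F158399 : act 1 n34078 = n32276 := d11_1 D34078 (iv D32276) (iv F149974)
theorem F158400 : act 2 n34078 = n34078 := d18_1 D34078 (iv D34078) F149975
theorem F158401 : act 5 n34078 = n32221 := d30_2 D32217 D34078 (iv D32221) (iv D30239) (iv F140901)
theorem F158402 : act 7 n34078 = n34078 := d32_2 F149976 D34078 (iv D34078)
def n34079 : Q := act 9 n32217
theorem D34079 : act 9 n32217 = n34079 := rfl
theorem F158403 : act 1 n34079 = n32277 := d16_1 D34079 (iv D32277) (iv F149974)
theorem F158404 : act 2 n34079 = n34079 := d23_1 D34079 (iv D34079) F149975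
theorem F158405 : act 5 n34079 = n32218 := d38_1 D34079 (iv D32218) D32217
theorem F158406 : act 7 n34079 = n34079 := d43_1 D34079 (iv D34079) F149976
def n34080 : Q := act 4 n32219
theorem D34080 : act 4 n32219 = n34080 := rfl
theorem F158407 : act 0 n34080 = n32656 := d3_1 D34080 F151647 (iv F149983)
theorem F158408 : act 1 n34080 = n32285 := d11_1 D34080 (iv D32285) (iv F149984)
theorem F158409 : act 2 n34080 = n33024 := d18_1 D34080 F153016 (iv F149985)
theorem F158410 : act 6 n34080 = n32654 := d31_2 (iv F149987) D34080 F151640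
theorem F158411 : act 7 n34080 = n34080 := d32_2 F149988 D34080 (iv D34080)
theorem F158412 : act 8 n34080 = n34080 := d33_2 F149989 D34080 (iv D34080)
def n34081 : Q := act 9 n32219
theorem D34081 : act 9 n32219 = n34081 := rfl
theorem F158413 : act 0 n34081 = n32645 := d8_1 D34081 F151600 (iv F149983)
theorem F158414 : act 1 n34081 = n32286 := d16_1 D34081 (iv D32286) (iv F149984)
theorem F158415 : act 2 n34081 = n33023 := d23_1 D34081 F153013 (iv F149985)
theorem F158416 : act 3 n34081 = n32222 := d29_1 D34081 (iv D32222) (iv F149986)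
theorem F158417 : act 5 n34081 = n32220 := d38_1 D34081 (iv D32220) D32219
theorem F158418 : act 6 n34081 = n32642 := d41_1 D34081 F151585 (iv F149987)
theorem F158419 : act 7 n34081 = n34081 := d43_1 D34081 (iv D34081) F149988
def n34082 : Q := act 3 n32221
theorem D34082 : act 3 n32221 = n34082 := rfl
theorem F158420 : act 1 n34082 = n32287 := d10_1 D34082 (iv D32287) (iv F149995)
theorem F158421 : act 7 n34082 = n34082 := d27_2 F149997 D34082 (iv D34082)
theorem F158422 : act 8 n34082 = n34082 := d28_2 F149998 D34082 (iv D34082)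
def n34083 : Q := act 9 n32221
theorem D34083 : act 9 n32221 = n34083 := rfl
theorem F158423 : act 1 n34083 = n32288 := d16_1 D34083 (iv D32288) (iv F149995)
theorem F158424 : act 2 n34083 = n34083 := d23_1 D34083 (iv D34083) F149996
theorem F158425 : act 4 n34083 = n32222 := d34_1 D34083 (iv D32222) D32221
theorem F158426 : act 7 n34083 = n34083 := d43_1 D34083 (iv D34083) F149997
def n34084 : Q := act 8 n32222
theorem D34084 : act 8 n32222 = n34084 := rfl
theorem F158427 : act 1 n34084 = n32289 := d15_1 D34084 (iv D32289) (iv F149999)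
theorem F158428 : act 2 n34084 = n34084 := d22_1 D34084 (iv D34084) F150000
theorem F158429 : act 5 n34084 = n32340 := d37_1 D34084 (iv D32340) F141297 (iv F140925) (iv F150001)
theorem F158430 : act 7 n34084 = n34084 := d42_1 D34084 (iv D34084) F150002
theorem F158431 : act 9 n34084 = n34084 := d44_2 D32222 D34084 (iv D34084) (iv D32222) F140920
def n34085 : Q := act 5 n32223
theorem D34085 : act 5 n32223 = n34085 := rfl
theorem F158432 : act 1 n34085 = n32224 := d12_1 D34085 (iv D32224) (iv F150003)
theorem F158433 : act 3 n34085 = n34085 := d25_1 D34085 (iv D34085) F150004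
theorem F158434 : act 6 n34085 = n32703 := d35_2 D32223 D34085 (iv D32703) (iv D30708) (iv F140928)
def n34086 : Q := act 7 n32223
theorem D34086 : act 7 n32223 = n34086 := rfl
theorem F158435 : act 1 n34086 = n32225 := d14_1 D34086 (iv D32225) (iv F150003)
theorem F158436 : act 3 n34086 = n34086 := d27_1 D34086 (iv D34086) F150004
theorem F158437 : act 4 n34086 = n32233 := d32_1 D34086 (iv D32233) (iv F150005)
theorem F158438 : act 6 n34086 = n32919 := d39_1 D34086 (iv D32919) (iv D30945) (iv F140929) D32223
theorem F158439 : act 8 n34086 = n34086 := d42_2 F150006 D34086 (iv D34086)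
def n34087 : Q := act 4 n32224
theorem D34087 : act 4 n32224 = n34087 := rfl
theorem F158440 : act 2 n34087 = n32226 := d18_1 D34087 (iv D32226) (iv F150007)
theorem F158441 : act 5 n34087 = n32234 := d30_2 D32224 D34087 (iv D32234) (iv D30248) (iv F140933)
theorem F158442 : act 6 n34087 = n32705 := d31_2 (iv F150009) D34087 (iv D32705)
def n34088 : Q := act 7 n32224
theorem D34088 : act 7 n32224 = n34088 := rfl
theorem F158443 : act 2 n34088 = n32227 := d21_1 D34088 (iv D32227) (iv F150007)
theorem F158444 : act 3 n34088 = n34088 := d27_1 D34088 (iv D34088) F150008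
theorem F158445 : act 5 n34088 = n32225 := d36_1 D34088 (iv D32225) D32224
def n34089 : Q := act 8 n32224
theorem D34089 : act 8 n32224 = n34089 := rfl
theorem F158446 : act 2 n34089 = n32228 := d22_1 D34089 (iv D32228) (iv F150007)
theorem F158447 : act 3 n34089 = n34089 := d28_1 D34089 (iv D34089) F150008
theorem F158448 : act 5 n34089 = n34089 := d37_1 D34089 (iv D34089) (iv D32224) F140934 D32224
theorem F158449 : act 6 n34089 = n32707 := d40_1 D34089 (iv D32707) (iv F150009)
def n34090 : Q := act 7 n32226
theorem D34090 : act 7 n32226 = n34090 := rfl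
theorem F158450 : act 4 n34090 = n32227 := d32_1 D34090 (iv D32227) D32226
theorem F158451 : act 5 n34090 = n32237 := d36_1 D34090 (iv D32237) (iv F150014)
def n34091 : Q := act 8 n32226
theorem D34091 : act 8 n32226 = n34091 := rfl
theorem F158452 : act 4 n34091 = n32228 := d33_1 D34091 (iv D32228) D32226
theorem F158453 : act 6 n34091 = n32709 := d40_1 D34091 (iv D32709) (iv F150015)
def n34092 : Q := act 6 n32227
theorem D34092 : act 6 n32227 = n34092 := rfl
theorem F158454 : act 3 n34092 = n32229 := d26_1 D34092 (iv D32229) (iv F150016)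
theorem F158455 : act 7 n34092 = n32710 := d39_2 D32227 D34092 (iv D32710) (iv D30712) (iv F140936)
def n34093 : Q := act 8 n32227
theorem D34093 : act 8 n32227 = n34093 := rfl
theorem F158456 : act 3 n34093 = n32230 := d28_1 D34093 (iv D32230) (iv F150016)
theorem F158457 : act 5 n34093 = n34093 := d37_1 D34093 (iv D34093) F150017 F140939 (iv F150017)
theorem F158458 : act 7 n34093 = n32228 := d42_1 D34093 (iv D32228) D32227
def n34094 : Q := act 9 n32228
theorem D34094 : act 9 n32228 = n34094 := rfl
theorem F158459 : act 1 n34094 = n32306 := d16_1 D34094 (iv F154532) F154528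
theorem F158460 : act 3 n34094 = n32231 := d29_1 D34094 (iv D32231) (iv F150018)
theorem F158461 : act 5 n34094 = n34094 := d38_1 D34094 (iv D34094) F150019
theorem F158462 : act 6 n34094 = n32712 := d41_1 D34094 (iv D32712) (iv F150020)
theorem F158463 : act 8 n34094 = n32301 := d44_1 D34094 F154214 (iv D33224) F145742 D32228
def n34095 : Q := act 8 n32229
theorem D34095 : act 8 n32229 = n34095 := rfl
theorem F158464 : act 2 n34095 = n34095 := d22_1 D34095 (iv D34095) F150021
theorem F158465 : act 6 n34095 = n32230 := d40_1 D34095 (iv D32230) D32229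
theorem F158466 : act 7 n34095 = n32713 := d42_1 D34095 (iv D32713) (iv F150022)
def n34096 : Q := act 9 n32230
theorem D34096 : act 9 n32230 = n34096 := rfl
theorem F158467 : act 1 n34096 = n32308 := d16_1 D34096 (iv F154546) F154541
theorem F158468 : act 2 n34096 = n34096 := d23_1 D34096 (iv D34096) F150023
theorem F158469 : act 4 n34096 = n32304 := d34_1 D34096 (iv F155923) F155920
theorem F158470 : act 5 n34096 = n34096 := d38_1 D34096 (iv D34096) F150024
theorem F158471 : act 7 n34096 = n32231 := d43_1 D34096 (iv D32231) (iv F150025)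
theorem F158472 : act 8 n34096 = n32302 := d44_1 D34096 F154228 (iv D33226) F145755 D32230
def n34097 : Q := act 4 n32232
theorem D34097 : act 4 n32232 = n34097 := rfl
theorem F158473 : act 1 n34097 = n32234 := d11_1 D34097 (iv D32234) (iv F150032)
theorem F158474 : act 6 n34097 = n32244 := d31_2 (iv F150034) D34097 (iv D32244)
def n34098 : Q := act 7 n32232
theorem D34098 : act 7 n32232 = n34098 := rfl
theorem F158475 : act 1 n34098 = n32235 := d14_1 D34098 (iv D32235) (iv F150032)
theorem F158476 : act 3 n34098 = n32291 := d27_1 D34098 (iv D32291) (iv F150033)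
theorem F158477 : act 5 n34098 = n32233 := d36_1 D34098 (iv D32233) D32232
def n34099 : Q := act 8 n32232
theorem D34099 : act 8 n32232 = n34099 := rfl
theorem F158478 : act 1 n34099 = n32236 := d15_1 D34099 (iv D32236) (iv F150032)
theorem F158479 : act 3 n34099 = n32292 := d28_1 D34099 (iv D32292) (iv F150033)
theorem F158480 : act 5 n34099 = n34099 := d37_1 D34099 (iv D34099) (iv D32232) F140947 D32232
theorem F158481 : act 6 n34099 = n32246 := d40_1 D34099 (iv D32246) (iv F150034)
theorem F158482 : act 9 n34099 = n32429 := d44_2 (iv F155804) D34099 (iv D32429) (iv F147196) D33523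
def n34100 : Q := act 3 n32234
theorem D34100 : act 3 n32234 = n34100 := rfl
theorem F158483 : act 4 n34100 = n32293 := d24_2 D32234 D34100 (iv D32293) (iv D30295) (iv F140949)
theorem F158484 : act 6 n34100 = n32247 := d26_2 (iv F150040) D34100 (iv D32247)
def n34101 : Q := act 7 n32234
theorem D34101 : act 7 n32234 = n34101 := rfl
theorem F158485 : act 2 n34101 = n32237 := d21_1 D34101 (iv D32237) (iv F150039)
theorem F158486 : act 4 n34101 = n32235 := d32_1 D34101 (iv D32235) D32234
def n34102 : Q := act 8 n32234
theorem D34102 : act 8 n32234 = n34102 := rfl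
theorem F158487 : act 2 n34102 = n32238 := d22_1 D34102 (iv D32238) (iv F150039)
theorem F158488 : act 4 n34102 = n32236 := d33_1 D34102 (iv D32236) D32234
theorem F158489 : act 6 n34102 = n32249 := d40_1 D34102 (iv D32249) (iv F150040)
def n34103 : Q := act 6 n32235
theorem D34103 : act 6 n32235 = n34103 := rfl
theorem F158490 : act 2 n34103 = n32239 := d20_1 D34103 (iv D32239) (iv F150041)
theorem F158491 : act 3 n34103 = n32295 := d26_1 D34103 (iv D32295) (iv F150042)
theorem F158492 : act 7 n34103 = n32250 := d39_2 D32235 D34103 (iv D32250) (iv D30259) (iv F140950)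
def n34104 : Q := act 8 n32235
theorem D34104 : act 8 n32235 = n34104 := rfl
theorem F158493 : act 2 n34104 = n32240 := d22_1 D34104 (iv D32240) (iv F150041)
theorem F158494 : act 3 n34104 = n32296 := d28_1 D34104 (iv D32296) (iv F150042)
theorem F158495 : act 5 n34104 = n34104 := d37_1 D34104 (iv D34104) F150043 F140953 (iv F150043)
theorem F158496 : act 7 n34104 = n32236 := d42_1 D34104 (iv D32236) D32235
def n34105 : Q := act 6 n32237
theorem D34105 : act 6 n32237 = n34105 := rfl
theorem F158497 : act 4 n34105 = n32239 := d31_1 D34105 (iv D32239) (iv F150048)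
theorem F158498 : act 7 n34105 = n32253 := d39_2 D32237 D34105 (iv D32253) (iv D30261) (iv F140954)
def n34106 : Q := act 8 n32237
theorem D34106 : act 8 n32237 = n34106 := rfl
theorem F158499 : act 4 n34106 = n32240 := d33_1 D34106 (iv D32240) (iv F150048)
theorem F158500 : act 7 n34106 = n32238 := d42_1 D34106 (iv D32238) D32237
def n34107 : Q := act 5 n32238
theorem D34107 : act 5 n32238 = n34107 := rfl
theorem F158501 : act 4 n34107 = n34107 := d30_1 D34107 (iv D34107) F150049 F140958 (iv F150049)
def n34108 : Q := act 9 n32238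
theorem D34108 : act 9 n32238 = n34108 := rfl
theorem F158502 : act 4 n34108 = n32241 := d34_1 D34108 (iv D32241) (iv F150049)
theorem F158503 : act 6 n34108 = n32256 := d41_1 D34108 (iv D32256) (iv F150050)
def n34109 : Q := act 8 n32239
theorem D34109 : act 8 n32239 = n34109 := rfl
theorem F158504 : act 3 n34109 = n32242 := d28_1 D34109 (iv D32242) (iv F150051)
theorem F158505 : act 6 n34109 = n32240 := d40_1 D34109 (iv D32240) D32239
theorem F158506 : act 7 n34109 = n32257 := d42_1 D34109 (iv D32257) (iv F150052)
def n34110 : Q := act 9 n32240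
theorem D34110 : act 9 n32240 = n34110 := rfl
theorem F158507 : act 3 n34110 = n32243 := d29_1 D34110 (iv D32243) (iv F150053)
theorem F158508 : act 5 n34110 = n34110 := d38_1 D34110 (iv D34110) F150054
theorem F158509 : act 7 n34110 = n32241 := d43_1 D34110 (iv D32241) (iv F150055)
def n34111 : Q := act 5 n32242
theorem D34111 : act 5 n32242 = n34111 := rfl
theorem F158510 : act 2 n34111 = n32299 := d19_1 D34111 (iv D32299) (iv F150059)
theorem F158511 : act 6 n34111 = n34111 := d35_2 (iv F150060) D34111 (iv D34111) F150060 F140963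
theorem F158512 : act 7 n34111 = n32259 := d36_2 (iv F150061) D34111 (iv D32259)
def n34112 : Q := act 9 n32242
theorem D34112 : act 9 n32242 = n34112 := rfl
theorem F158513 : act 2 n34112 = n32300 := d23_1 D34112 (iv D32300) (iv F150059)
theorem F158514 : act 6 n34112 = n32243 := d41_1 D34112 (iv D32243) (iv F150060)
theorem F158515 : act 7 n34112 = n32260 := d43_1 D34112 (iv D32260) (iv F150061)
def n34113 : Q := act 3 n32244
theorem D34113 : act 3 n32244 = n34113 := rfl
theorem F158516 : act 1 n34113 = n32247 := d10_1 D34113 (iv D32247) (iv F150065)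
theorem F158517 : act 4 n34113 = n32301 := d24_2 D32244 D34113 (iv D32301) (iv D30303) (iv F140969)
theorem F158518 : act 5 n34113 = n32775 := d25_2 (iv F150066) D34113 (iv D32775)
def n34114 : Q := act 7 n32244
theorem D34114 : act 7 n32244 = n34114 := rfl
theorem F158519 : act 1 n34114 = n32248 := d14_1 D34114 (iv D32248) (iv F150065)
theorem F158520 : act 4 n34114 = n32245 := d32_1 D34114 (iv D32245) D32244
theorem F158521 : act 5 n34114 = n32776 := d36_1 D34114 (iv D32776) (iv F150066)
def n34115 : Q := act 8 n32244
theorem D34115 : act 8 n32244 = n34115 := rfl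
theorem F158522 : act 1 n34115 = n32249 := d15_1 D34115 (iv D32249) (iv F150065)
theorem F158523 : act 4 n34115 = n32246 := d33_1 D34115 (iv D32246) D32244
def n34116 : Q := act 6 n32245
theorem D34116 : act 6 n32245 = n34116 := rfl
theorem F158524 : act 1 n34116 = n32250 := d13_1 D34116 (iv D32250) (iv F150067)
theorem F158525 : act 3 n34116 = n32303 := d26_1 D34116 (iv D32303) (iv F150068)
theorem F158526 : act 5 n34116 = n32798 := d35_1 D34116 (iv D32798) (iv D30789) (iv F140973) (iv F150069)
def n34117 : Q := act 8 n32245
theorem D34117 : act 8 n32245 = n34117 := rfl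
theorem F158527 : act 1 n34117 = n32251 := d15_1 D34117 (iv D32251) (iv F150067)
theorem F158528 : act 3 n34117 = n32304 := d28_1 D34117 (iv D32304) (iv F150068)
theorem F158529 : act 5 n34117 = n32262 := d37_1 D34117 (iv D32262) F140999 (iv F140974) (iv F150069)
theorem F158530 : act 7 n34117 = n32246 := d42_1 D34117 (iv D32246) D32245
def n34118 : Q := act 7 n32247
theorem D34118 : act 7 n32247 = n34118 := rfl
theorem F158531 : act 3 n34118 = n32248 := d27_1 D34118 (iv D32248) D32247
theorem F158532 : act 4 n34118 = n32305 := d32_1 D34118 (iv D32305) (iv F150073)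
theorem F158533 : act 5 n34118 = n32778 := d36_1 D34118 (iv D32778) (iv F150074)
def n34119 : Q := act 8 n32247
theorem D34119 : act 8 n32247 = n34119 := rfl
theorem F158534 : act 3 n34119 = n32249 := d28_1 D34119 (iv D32249) D32247
theorem F158535 : act 4 n34119 = n32306 := d33_1 D34119 (iv D32306) (iv F150073)
def n34120 : Q := act 6 n32248
theorem D34120 : act 6 n32248 = n34120 := rfl
theorem F158536 : act 2 n34120 = n32253 := d20_1 D34120 (iv D32253) (iv F150075)
theorem F158537 : act 4 n34120 = n32250 := d31_1 D34120 (iv D32250) (iv F150076)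
def n34121 : Q := act 8 n32248
theorem D34121 : act 8 n32248 = n34121 := rfl
theorem F158538 : act 2 n34121 = n32254 := d22_1 D34121 (iv D32254) (iv F150075)
theorem F158539 : act 4 n34121 = n32251 := d33_1 D34121 (iv D32251) (iv F150076)
theorem F158540 : act 7 n34121 = n32249 := d42_1 D34121 (iv D32249) D32248
def n34122 : Q := act 5 n32249
theorem D34122 : act 5 n32249 = n34122 := rfl
theorem F158541 : act 2 n34122 = n32255 := d19_1 D34122 (iv D32255) (iv F150078)
theorem F158542 : act 4 n34122 = n32265 := d30_1 D34122 (iv D32265) F141011 (iv F140982) (iv F150079)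
theorem F158543 : act 8 n34122 = n32782 := d37_2 D32249 D34122 (iv D32782) (iv D30772) (iv F140976)
def n34123 : Q := act 9 n32249
theorem D34123 : act 9 n32249 = n34123 := rfl
theorem F158544 : act 0 n34123 = n32685 := d8_1 D34123 (iv F153709) F153705
theorem F158545 : act 2 n34123 = n32256 := d23_1 D34123 (iv D32256) (iv F150078)
theorem F158546 : act 4 n34123 = n32252 := d34_1 D34123 (iv D32252) (iv F150079)
theorem F158547 : act 8 n34123 = n32660 := d44_1 D34123 F151663 (iv F147958) F147959 D32249
def n34124 : Q := act 8 n32250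
theorem D34124 : act 8 n32250 = n34124 := rfl
theorem F158548 : act 2 n34124 = n32257 := d22_1 D34124 (iv D32257) (iv F150080)
theorem F158549 : act 3 n34124 = n32309 := d28_1 D34124 (iv D32309) (iv F150081)
theorem F158550 : act 6 n34124 = n32251 := d40_1 D34124 (iv D32251) D32250
def n34125 : Q := act 9 n32251
theorem D34125 : act 9 n32251 = n34125 := rfl
theorem F158551 : act 0 n34125 = n32687 := d8_1 D34125 (iv F153722) F153716
theorem F158552 : act 2 n34125 = n32258 := d23_1 D34125 (iv D32258) (iv F150082)
theorem F158553 : act 3 n34125 = n32310 := d29_1 D34125 (iv D32310) (iv F150083)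
theorem F158554 : act 5 n34125 = n32268 := d38_1 D34125 (iv D32268) (iv F150084)
theorem F158555 : act 7 n34125 = n32252 := d43_1 D34125 (iv D32252) (iv F150085)
theorem F158556 : act 8 n34125 = n32661 := d44_1 D34125 F151667 (iv F147964) F147965 D32251
def n34126 : Q := act 5 n32253
theorem D34126 : act 5 n32253 = n34126 := rfl
theorem F158557 : act 6 n34126 = n32786 := d35_2 D32253 D34126 (iv D32786) (iv D30776) (iv F140984)
def n34127 : Q := act 8 n32253
theorem D34127 : act 8 n32253 = n34127 := rfl
theorem F158558 : act 4 n34127 = n32257 := d33_1 D34127 (iv D32257) (iv F150091)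
theorem F158559 : act 6 n34127 = n32254 := d40_1 D34127 (iv D32254) D32253
def n34128 : Q := act 5 n32254
theorem D34128 : act 5 n32254 = n34128 := rfl
theorem F158560 : act 4 n34128 = n32270 := d30_1 D34128 (iv D32270) F141030 (iv F140988) (iv F150092)
theorem F158561 : act 7 n34128 = n32255 := d36_2 (iv F150093) D34128 (iv D32255)
theorem F158562 : act 8 n34128 = n32788 := d37_2 D32254 D34128 (iv D32788) (iv D30777) (iv F140984)
def n34129 : Q := act 9 n32254
theorem D34129 : act 9 n32254 = n34129 := rfl
theorem F158563 : act 4 n34129 = n32258 := d34_1 D34129 (iv D32258) (iv F150092)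
theorem F158564 : act 7 n34129 = n32256 := d43_1 D34129 (iv D32256) (iv F150093)
def n34130 : Q := act 6 n32255
theorem D34130 : act 6 n32255 = n34130 := rfl
theorem F158565 : act 4 n34130 = n32272 := d31_1 D34130 (iv D32272) (iv F150094)
theorem F158566 : act 8 n34130 = n32790 := d40_2 (iv F150095) D34130 (iv D32790)
def n34131 : Q := act 9 n32255
theorem D34131 : act 9 n32255 = n34131 := rfl
theorem F158567 : act 4 n34131 = n32273 := d34_1 D34131 (iv D32273) (iv F150094)
theorem F158568 : act 5 n34131 = n32256 := d38_1 D34131 (iv D32256) D32255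
def n34132 : Q := act 5 n32257
theorem D34132 : act 5 n32257 = n34132 := rfl
theorem F158569 : act 3 n34132 = n32259 := d25_1 D34132 (iv D32259) (iv F150097)
theorem F158570 : act 6 n34132 = n32274 := d35_2 (iv F150098) D34132 (iv D32274) F141039 (iv F140988)
def n34133 : Q := act 9 n32257
theorem D34133 : act 9 n32257 = n34133 := rfl
theorem F158571 : act 3 n34133 = n32260 := d29_1 D34133 (iv D32260) (iv F150097)
theorem F158572 : act 6 n34133 = n32258 := d41_1 D34133 (iv D32258) (iv F150098)
def n34134 : Q := act 4 n32259
theorem D34134 : act 4 n32259 = n34134 := rfl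
theorem F158573 : act 2 n34134 = n32315 := d18_1 D34134 (iv D32315) (iv F150102)
theorem F158574 : act 6 n34134 = n32276 := d31_2 (iv F150103) D34134 (iv D32276)
def n34135 : Q := act 9 n32259
theorem D34135 : act 9 n32259 = n34135 := rfl
theorem F158575 : act 2 n34135 = n32316 := d23_1 D34135 (iv D32316) (iv F150102)
theorem F158576 : act 5 n34135 = n32260 := d38_1 D34135 (iv D32260) D32259
theorem F158577 : act 6 n34135 = n32277 := d41_1 D34135 (iv D32277) (iv F150103)
def n34136 : Q := act 8 n32261
theorem D34136 : act 8 n32261 = n34136 := rfl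
theorem F158578 : act 1 n34136 = n32267 := d15_1 D34136 (iv D32267) (iv F150106)
theorem F158579 : act 3 n34136 = n32278 := d28_1 D34136 (iv D32278) (iv F150107)
theorem F158580 : act 6 n34136 = n32262 := d40_1 D34136 (iv D32262) D32261
theorem F158581 : act 7 n34136 = n34136 := d42_1 D34136 (iv D34136) F150109
def n34137 : Q := act 8 n32263
theorem D34137 : act 8 n32263 = n34137 := rfl
theorem F158582 : act 2 n34137 = n32269 := d22_1 D34137 (iv D32269) (iv F150114)
theorem F158583 : act 3 n34137 = n34137 := d28_1 D34137 (iv D34137) F150115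
theorem F158584 : act 4 n34137 = n32267 := d33_1 D34137 (iv D32267) (iv F150116)
theorem F158585 : act 6 n34137 = n32264 := d40_1 D34137 (iv D32264) D32263
theorem F158586 : act 7 n34137 = n34137 := d42_1 D34137 (iv D34137) F150117
def n34138 : Q := act 5 n32264
theorem D34138 : act 5 n32264 = n34138 := rfl
theorem F158587 : act 2 n34138 = n32270 := d19_1 D34138 (iv D32270) (iv F150119)
theorem F158588 : act 3 n34138 = n34138 := d25_1 D34138 (iv D34138) F150120
theorem F158589 : act 7 n34138 = n32265 := d36_2 (iv F150122) D34138 (iv D32265)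
theorem F158590 : act 8 n34138 = n32796 := d37_2 D32264 D34138 (iv D32796) (iv D30786) (iv F141007)
def n34139 : Q := act 9 n32264
theorem D34139 : act 9 n32264 = n34139 := rfl
theorem F158591 : act 0 n34139 = n32879 := d8_1 D34139 (iv F153766) F153760
theorem F158592 : act 2 n34139 = n32271 := d23_1 D34139 (iv D32271) (iv F150119)
theorem F158593 : act 3 n34139 = n34139 := d29_1 D34139 (iv D34139) F150120
theorem F158594 : act 4 n34139 = n32268 := d34_1 D34139 (iv D32268) (iv F150121)
theorem F158595 : act 7 n34139 = n32266 := d43_1 D34139 (iv D32266) (iv F150122)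
theorem F158596 : act 8 n34139 = n32342 := d44_1 D34139 (iv D32342) (iv D30351) (iv F141008) D32264
def n34140 : Q := act 6 n32265
theorem D34140 : act 6 n32265 = n34140 := rfl
theorem F158597 : act 2 n34140 = n32272 := d20_1 D34140 (iv D32272) (iv F150123)
theorem F158598 : act 3 n34140 = n34140 := d26_1 D34140 (iv D34140) F150124
theorem F158599 : act 5 n34140 = n34140 := d35_1 D34140 (iv D34140) (iv D32265) F141012 D32265
theorem F158600 : act 8 n34140 = n32797 := d40_2 (iv F150125) D34140 (iv D32797)
def n34141 : Q := act 9 n32265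
theorem D34141 : act 9 n32265 = n34141 := rfl
theorem F158601 : act 0 n34141 = n32880 := d8_1 D34141 (iv F153772) F153767
theorem F158602 : act 2 n34141 = n32273 := d23_1 D34141 (iv D32273) (iv F150123)
theorem F158603 : act 3 n34141 = n34141 := d29_1 D34141 (iv D34141) F150124
theorem F158604 : act 5 n34141 = n32266 := d38_1 D34141 (iv D32266) D32265
def n34142 : Q := act 5 n32267
theorem D34142 : act 5 n32267 = n34142 := rfl
theorem F158605 : act 2 n34142 = n32274 := d19_1 D34142 (iv D32274) (iv F150132)
theorem F158606 : act 3 n34142 = n32317 := d25_1 D34142 (iv D32317) (iv F150133)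
theorem F158607 : act 7 n34142 = n34142 := d36_2 F150135 D34142 (iv D34142)
def n34143 : Q := act 9 n32267
theorem D34143 : act 9 n32267 = n34143 := rfl
theorem F158608 : act 0 n34143 = n32881 := d8_1 D34143 (iv F153779) F153773
theorem F158609 : act 2 n34143 = n32275 := d23_1 D34143 (iv D32275) (iv F150132)
theorem F158610 : act 3 n34143 = n32318 := d29_1 D34143 (iv D32318) (iv F150133)
theorem F158611 : act 6 n34143 = n32268 := d41_1 D34143 (iv D32268) (iv F150134)
theorem F158612 : act 7 n34143 = n34143 := d43_1 D34143 (iv D34143) F150135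
theorem F158613 : act 8 n34143 = n32343 := d44_1 D34143 (iv D32343) (iv D30353) (iv F141016) D32267
def n34144 : Q := act 5 n32269
theorem D34144 : act 5 n32269 = n34144 := rfl
theorem F158614 : act 3 n34144 = n32279 := d25_1 D34144 (iv D32279) (iv F150141)
theorem F158615 : act 7 n34144 = n34144 := d36_2 F150144 D34144 (iv D34144)
def n34145 : Q := act 9 n32269
theorem D34145 : act 9 n32269 = n34145 := rfl
theorem F158616 : act 3 n34145 = n32280 := d29_1 D34145 (iv D32280) (iv F150141)
theorem F158617 : act 4 n34145 = n32275 := d34_1 D34145 (iv D32275) (iv F150142)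
theorem F158618 : act 6 n34145 = n32271 := d41_1 D34145 (iv D32271) (iv F150143)
theorem F158619 : act 7 n34145 = n34145 := d43_1 D34145 (iv D34145) F150144
theorem F158620 : act 8 n34145 = n32344 := d44_1 D34145 (iv D32344) (iv D30355) (iv F141028) D32269
def n34146 : Q := act 6 n32270
theorem D34146 : act 6 n32270 = n34146 := rfl
theorem F158621 : act 3 n34146 = n32281 := d26_1 D34146 (iv D32281) (iv F150145)
theorem F158622 : act 8 n34146 = n32798 := d40_2 (iv F150147) D34146 (iv D32798)
def n34147 : Q := act 9 n32270
theorem D34147 : act 9 n32270 = n34147 := rfl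
theorem F158623 : act 3 n34147 = n32282 := d29_1 D34147 (iv D32282) (iv F150145)
theorem F158624 : act 5 n34147 = n32271 := d38_1 D34147 (iv D32271) D32270
theorem F158625 : act 7 n34147 = n32273 := d43_1 D34147 (iv D32273) (iv F150146)
def n34148 : Q := act 7 n32272
theorem D34148 : act 7 n32272 = n34148 := rfl
theorem F158626 : act 3 n34148 = n32283 := d27_1 D34148 (iv D32283) (iv F150152)
theorem F158627 : act 5 n34148 = n34148 := d36_1 D34148 (iv D34148) F150153
theorem F158628 : act 8 n34148 = n32799 := d42_2 (iv F150154) D34148 (iv D32799)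
def n34149 : Q := act 9 n32272
theorem D34149 : act 9 n32272 = n34149 := rfl
theorem F158629 : act 3 n34149 = n32284 := d29_1 D34149 (iv D32284) (iv F150152)
theorem F158630 : act 5 n34149 = n34149 := d38_1 D34149 (iv D34149) F150153
theorem F158631 : act 6 n34149 = n32273 := d41_1 D34149 (iv D32273) D32272
def n34150 : Q := act 4 n32274
theorem D34150 : act 4 n32274 = n34150 := rfl
theorem F158632 : act 7 n34150 = n34150 := d32_2 F150158 D34150 (iv D34150)
def n34151 : Q := act 9 n32274
theorem D34151 : act 9 n32274 = n34151 := rfl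
theorem F158633 : act 3 n34151 = n32277 := d29_1 D34151 (iv D32277) (iv F150157)
theorem F158634 : act 5 n34151 = n32275 := d38_1 D34151 (iv D32275) D32274
theorem F158635 : act 7 n34151 = n34151 := d43_1 D34151 (iv D34151) F150158
def n34152 : Q := act 3 n32276
theorem D34152 : act 3 n32276 = n34152 := rfl
theorem F158636 : act 5 n34152 = n32287 := d25_2 (iv F150164) D34152 (iv D32287)
theorem F158637 : act 7 n34152 = n34152 := d27_2 F150165 D34152 (iv D34152)
def n34153 : Q := act 9 n32276
theorem D34153 : act 9 n32276 = n34153 := rfl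
theorem F158638 : act 2 n34153 = n32322 := d23_1 D34153 (iv D32322) (iv F150163)
theorem F158639 : act 4 n34153 = n32277 := d34_1 D34153 (iv D32277) D32276
theorem F158640 : act 5 n34153 = n32288 := d38_1 D34153 (iv D32288) (iv F150164)
theorem F158641 : act 7 n34153 = n34153 := d43_1 D34153 (iv D34153) F150165
def n34154 : Q := act 8 n32277
theorem D34154 : act 8 n32277 = n34154 := rfl
theorem F158642 : act 2 n34154 = n32323 := d22_1 D34154 (iv D32323) (iv F150166)
theorem F158643 : act 5 n34154 = n32346 := d37_1 D34154 (iv D32346) F141341 (iv F141050) (iv F150167)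
theorem F158644 : act 7 n34154 = n34154 := d42_1 D34154 (iv D34154) F150168
def n34155 : Q := act 5 n32278
theorem D34155 : act 5 n32278 = n34155 := rfl
theorem F158645 : act 1 n34155 = n32317 := d12_1 D34155 (iv D32317) (iv F150169)
theorem F158646 : act 2 n34155 = n34155 := d19_1 D34155 (iv D34155) F150170
theorem F158647 : act 7 n34155 = n34155 := d36_2 F150173 D34155 (iv D34155)
theorem F158648 : act 8 n34155 = n32279 := d37_2 D32278 D34155 (iv D32279) (iv D30284) D30283
def n34156 : Q := act 4 n32279
theorem D34156 : act 4 n32279 = n34156 := rfl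
theorem F158649 : act 2 n34156 = n34156 := d18_1 D34156 (iv D34156) F150174
theorem F158650 : act 5 n34156 = n32285 := d30_2 D32279 D34156 (iv D32285) (iv D30289) (iv F141058)
theorem F158651 : act 7 n34156 = n34156 := d32_2 F150175 D34156 (iv D34156)
def n34157 : Q := act 6 n32279
theorem D34157 : act 6 n32279 = n34157 := rfl
theorem F158652 : act 2 n34157 = n34157 := d20_1 D34157 (iv D34157) F150174
theorem F158653 : act 5 n34157 = n32281 := d35_1 D34157 (iv D32281) (iv D30285) (iv F141059) D32279
def n34158 : Q := act 9 n32279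
theorem D34158 : act 9 n32279 = n34158 := rfl
theorem F158654 : act 2 n34158 = n34158 := d23_1 D34158 (iv D34158) F150174
theorem F158655 : act 5 n34158 = n32280 := d38_1 D34158 (iv D32280) D32279
theorem F158656 : act 7 n34158 = n34158 := d43_1 D34158 (iv D34158) F150175
def n34159 : Q := act 7 n32281
theorem D34159 : act 7 n32281 = n34159 := rfl
theorem F158657 : act 2 n34159 = n34159 := d21_1 D34159 (iv D34159) F150181
theorem F158658 : act 6 n34159 = n32283 := d39_1 D34159 (iv D32283) (iv D30287) (iv F141062) D32281
theorem F158659 : act 8 n34159 = n32801 := d42_2 (iv F150182) D34159 (iv D32801)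
def n34160 : Q := act 9 n32281
theorem D34160 : act 9 n32281 = n34160 := rfl
theorem F158660 : act 2 n34160 = n34160 := d23_1 D34160 (iv D34160) F150181
theorem F158661 : act 6 n34160 = n32282 := d41_1 D34160 (iv D32282) D32281
def n34161 : Q := act 9 n32283
theorem D34161 : act 9 n32283 = n34161 := rfl
theorem F158662 : act 2 n34161 = n34161 := d23_1 D34161 (iv D34161) F150186
theorem F158663 : act 5 n34161 = n34161 := d38_1 D34161 (iv D34161) F150187
theorem F158664 : act 7 n34161 = n32284 := d43_1 D34161 (iv D32284) D32283
def n34162 : Q := act 3 n32285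
theorem D34162 : act 3 n32285 = n34162 := rfl
theorem F158665 : act 4 n34162 = n32287 := d24_2 D32285 D34162 (iv D32287) (iv D30291) (iv F141074)
theorem F158666 : act 7 n34162 = n34162 := d27_2 F150193 D34162 (iv D34162)
theorem F158667 : act 8 n34162 = n34162 := d28_2 F150194 D34162 (iv D34162)
def n34163 : Q := act 9 n32285
theorem D34163 : act 9 n32285 = n34163 := rfl
theorem F158668 : act 2 n34163 = n34163 := d23_1 D34163 (iv D34163) F150192
theorem F158669 : act 4 n34163 = n32286 := d34_1 D34163 (iv D32286) D32285
theorem F158670 : act 7 n34163 = n34163 := d43_1 D34163 (iv D34163) F150193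
def n34164 : Q := act 8 n32286
theorem D34164 : act 8 n32286 = n34164 := rfl
theorem F158671 : act 2 n34164 = n34164 := d22_1 D34164 (iv D34164) F150195
theorem F158672 : act 3 n34164 = n32289 := d28_1 D34164 (iv D32289) (iv F150196)
theorem F158673 : act 5 n34164 = n32347 := d37_1 D34164 (iv D32347) F141349 (iv F141081) (iv F150197)
theorem F158674 : act 7 n34164 = n34164 := d42_1 D34164 (iv D34164) F150198
theorem F158675 : act 9 n34164 = n34164 := d44_2 D32286 D34164 (iv D34164) (iv D32286) F141076
def n34165 : Q := act 2 n32287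
theorem D34165 : act 2 n32287 = n34165 := rfl
theorem F158676 : act 3 n34165 = n32324 := d17_2 D32287 D34165 (iv D32324) (iv D30325) (iv F141082)
theorem F158677 : act 7 n34165 = n34165 := d21_2 F150199 D34165 (iv D34165)
theorem F158678 : act 8 n34165 = n34165 := d22_2 F150200 D34165 (iv D34165)
def n34166 : Q := act 9 n32287
theorem D34166 : act 9 n32287 = n34166 := rfl
theorem F158679 : act 3 n34166 = n32288 := d29_1 D34166 (iv D32288) D32287
theorem F158680 : act 7 n34166 = n34166 := d43_1 D34166 (iv D34166) F150199
def n34167 : Q := act 8 n32288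
theorem D34167 : act 8 n32288 = n34167 := rfl
theorem F158681 : act 0 n34167 = n32949 := d7_1 D34167 F153892 F153886
theorem F158682 : act 2 n34167 = n32326 := d22_1 D34167 (iv D32326) (iv F150201)
theorem F158683 : act 4 n34167 = n32289 := d33_1 D34167 (iv D32289) (iv F150202)
theorem F158684 : act 6 n34167 = n32948 := d40_1 D34167 F158194 F158192
theorem F158685 : act 7 n34167 = n34167 := d42_1 D34167 (iv D34167) F150203
theorem F158686 : act 9 n34167 = n34167 := d44_2 D32288 D34167 (iv D34167) (iv D32288) F141084
def n34168 : Q := act 3 n32290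
theorem D34168 : act 3 n32290 = n34168 := rfl
theorem F158687 : act 1 n34168 = n32293 := d10_1 D34168 (iv D32293) (iv F150208)
theorem F158688 : act 5 n34168 = n34168 := d25_2 F150210 D34168 (iv D34168)
theorem F158689 : act 6 n34168 = n32301 := d26_2 (iv F150211) D34168 (iv D32301)
theorem F158690 : act 8 n34168 = n32712 := d28_2 F150213 D34168 F151827
theorem F158691 : act 9 n34168 = n32700 := d29_2 (iv F150212) D34168 F151798
def n34169 : Q := act 7 n32290
theorem D34169 : act 7 n32290 = n34169 := rfl
theorem F158692 : act 1 n34169 = n32294 := d14_1 D34169 (iv D32294) (iv F150208)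
theorem F158693 : act 2 n34169 = n34169 := d21_1 D34169 (iv D34169) F150209
theorem F158694 : act 4 n34169 = n32291 := d32_1 D34169 (iv D32291) D32290
theorem F158695 : act 5 n34169 = n34169 := d36_1 D34169 (iv D34169) F150210
theorem F158696 : act 8 n34169 = n32714 := d42_2 F150213 D34169 F151833
theorem F158697 : act 9 n34169 = n32702 := d43_2 (iv F150212) D34169 F151804
def n34170 : Q := act 6 n32291
theorem D34170 : act 6 n32291 = n34170 := rfl
theorem F158698 : act 1 n34170 = n32295 := d13_1 D34170 (iv D32295) (iv F150214)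
theorem F158699 : act 2 n34170 = n34170 := d20_1 D34170 (iv D34170) F150215
theorem F158700 : act 5 n34170 = n32801 := d35_1 D34170 F152067 F142917 (iv F141094) (iv F150216)
theorem F158701 : act 7 n34170 = n32303 := d39_2 D32291 D34170 (iv D32303) (iv D30304) (iv F141090)
def n34171 : Q := act 8 n32291
theorem D34171 : act 8 n32291 = n34171 := rfl
theorem F158702 : act 1 n34171 = n32296 := d15_1 D34171 (iv D32296) (iv F150214)
theorem F158703 : act 2 n34171 = n34171 := d22_1 D34171 (iv D34171) F150215
theorem F158704 : act 4 n34171 = n32714 := d33_1 D34171 (iv F158696) F158694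
theorem F158705 : act 5 n34171 = n34171 := d37_1 D34171 (iv D34171) F150216 F141095 (iv F150216)
theorem F158706 : act 7 n34171 = n32292 := d42_1 D34171 (iv D32292) D32291
theorem F158707 : act 9 n34171 = n32431 := d44_2 (iv F155818) D34171 (iv D32431) (iv F147209) D33525
def n34172 : Q := act 7 n32293
theorem D34172 : act 7 n32293 = n34172 := rfl
theorem F158708 : act 3 n34172 = n32294 := d27_1 D34172 (iv D32294) D32293
theorem F158709 : act 5 n34172 = n34172 := d36_1 D34172 (iv D34172) F150223
def n34173 : Q := act 6 n32294
theorem D34173 : act 6 n32294 = n34173 := rfl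
theorem F158710 : act 2 n34173 = n32297 := d20_1 D34173 (iv D32297) (iv F150225)
theorem F158711 : act 4 n34173 = n32295 := d31_1 D34173 (iv D32295) (iv F150226)
theorem F158712 : act 7 n34173 = n32307 := d39_2 D32294 D34173 (iv D32307) (iv D30307) (iv F141098)
def n34174 : Q := act 8 n32295
theorem D34174 : act 8 n32295 = n34174 := rfl
theorem F158713 : act 2 n34174 = n32298 := d22_1 D34174 (iv D32298) (iv F150228)
theorem F158714 : act 6 n34174 = n32296 := d40_1 D34174 (iv D32296) D32295
theorem F158715 : act 7 n34174 = n32309 := d42_1 D34174 (iv D32309) (iv F150229)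
def n34175 : Q := act 5 n32297
theorem D34175 : act 5 n32297 = n34175 := rfl
theorem F158716 : act 1 n34175 = n34175 := d12_1 D34175 (iv D34175) F150233
theorem F158717 : act 6 n34175 = n34175 := d35_2 D32297 D34175 (iv D34175) (iv D32297) F141106
theorem F158718 : act 7 n34175 = n32311 := d36_2 (iv F150235) D34175 (iv D32311)
def n34176 : Q := act 5 n32298
theorem D34176 : act 5 n32298 = n34176 := rfl
theorem F158719 : act 1 n34176 = n34176 := d12_1 D34176 (iv D34176) F150236
theorem F158720 : act 3 n34176 = n32299 := d25_1 D34176 (iv D32299) (iv F150237)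
theorem F158721 : act 6 n34176 = n34176 := d35_2 (iv F150238) D34176 (iv D34176) F150238 F141112
theorem F158722 : act 7 n34176 = n32313 := d36_2 (iv F150239) D34176 (iv D32313)
def n34177 : Q := act 9 n32299
theorem D34177 : act 9 n32299 = n34177 := rfl
theorem F158723 : act 1 n34177 = n34177 := d16_1 D34177 (iv D34177) F150240
theorem F158724 : act 5 n34177 = n32300 := d38_1 D34177 (iv D32300) D32299
theorem F158725 : act 6 n34177 = n34177 := d41_1 D34177 (iv D34177) F150241
theorem F158726 : act 7 n34177 = n32316 := d43_1 D34177 (iv D32316) (iv F150242)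
def n34178 : Q := act 2 n32301
theorem D34178 : act 2 n32301 = n34178 := rfl
theorem F158727 : act 3 n34178 = n34178 := d17_2 D32301 D34178 (iv D34178) (iv D32301) F141121
theorem F158728 : act 5 n34178 = n32327 := d19_2 (iv F150247) D34178 (iv D32327)
theorem F158729 : act 9 n34178 = n32500 := d23_2 (iv F154214) D34178 (iv F154210)
def n34179 : Q := act 7 n32301
theorem D34179 : act 7 n32301 = n34179 := rfl
theorem F158730 : act 1 n34179 = n32305 := d14_1 D34179 (iv D32305) (iv F150246)
theorem F158731 : act 3 n34179 = n32302 := d27_1 D34179 (iv D32302) D32301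
theorem F158732 : act 5 n34179 = n32328 := d36_1 D34179 (iv D32328) (iv F150247)
def n34180 : Q := act 6 n32302
theorem D34180 : act 6 n32302 = n34180 := rfl
theorem F158733 : act 1 n34180 = n32307 := d13_1 D34180 (iv D32307) (iv F150248)
theorem F158734 : act 2 n34180 = n34180 := d20_1 D34180 (iv D34180) F150249
theorem F158735 : act 4 n34180 = n32303 := d31_1 D34180 (iv D32303) (iv F150250)
def n34181 : Q := act 8 n32303
theorem D34181 : act 8 n32303 = n34181 := rfl
theorem F158736 : act 1 n34181 = n32309 := d15_1 D34181 (iv D32309) (iv F150252)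
theorem F158737 : act 2 n34181 = n34181 := d22_1 D34181 (iv D34181) F150253
theorem F158738 : act 6 n34181 = n32304 := d40_1 D34181 (iv D32304) D32303
def n34182 : Q := act 6 n32305
theorem D34182 : act 6 n32305 = n34182 := rfl
theorem F158739 : act 3 n34182 = n32307 := d26_1 D34182 (iv D32307) (iv F150259)
def n34183 : Q := act 8 n32305
theorem D34183 : act 8 n32305 = n34183 := rfl
theorem F158740 : act 3 n34183 = n32308 := d28_1 D34183 (iv D32308) (iv F150259)
theorem F158741 : act 5 n34183 = n34183 := d37_1 D34183 (iv D34183) F150260 F141220 (iv F150260)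
theorem F158742 : act 7 n34183 = n32306 := d42_1 D34183 (iv D32306) D32305
def n34184 : Q := act 5 n32307
theorem D34184 : act 5 n32307 = n34184 := rfl
theorem F158743 : act 2 n34184 = n32311 := d19_1 D34184 (iv D32311) (iv F150263)
theorem F158744 : act 6 n34184 = n32331 := d35_2 D32307 D34184 (iv D32331) (iv D30332) (iv F141132)
def n34185 : Q := act 8 n32307
theorem D34185 : act 8 n32307 = n34185 := rfl
theorem F158745 : act 2 n34185 = n32312 := d22_1 D34185 (iv D32312) (iv F150263)
theorem F158746 : act 4 n34185 = n32309 := d33_1 D34185 (iv D32309) (iv F150264)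
theorem F158747 : act 6 n34185 = n32308 := d40_1 D34185 (iv D32308) D32307
def n34186 : Q := act 5 n32309
theorem D34186 : act 5 n32309 = n34186 := rfl
theorem F158748 : act 2 n34186 = n32313 := d19_1 D34186 (iv D32313) (iv F150269)
theorem F158749 : act 6 n34186 = n32317 := d35_2 (iv F150270) D34186 (iv D32317) F141169 (iv F141138)
def n34187 : Q := act 9 n32309
theorem D34187 : act 9 n32309 = n34187 := rfl
theorem F158750 : act 0 n34187 = n32688 := d8_1 D34187 (iv F153983) F153979
theorem F158751 : act 2 n34187 = n32314 := d23_1 D34187 (iv D32314) (iv F150269)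
theorem F158752 : act 6 n34187 = n32310 := d41_1 D34187 (iv D32310) (iv F150270)
theorem F158753 : act 8 n34187 = n32662 := d44_1 D34187 F151670 (iv F148477) F148478 D32309
def n34188 : Q := act 8 n32311
theorem D34188 : act 8 n32311 = n34188 := rfl
theorem F158754 : act 1 n34188 = n34188 := d15_1 D34188 (iv D34188) F150276
theorem F158755 : act 6 n34188 = n32332 := d40_1 D34188 (iv D32332) (iv F150277)
def n34189 : Q := act 5 n32312
theorem D34189 : act 5 n32312 = n34189 := rfl
theorem F158756 : act 1 n34189 = n34189 := d12_1 D34189 (iv D34189) F150278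
theorem F158757 : act 6 n34189 = n34189 := d35_2 (iv F150280) D34189 (iv D34189) F150280 F141148
def n34190 : Q := act 4 n32313
theorem D34190 : act 4 n32313 = n34190 := rfl
theorem F158758 : act 1 n34190 = n34190 := d11_1 D34190 (iv D34190) F150281
theorem F158759 : act 6 n34190 = n32319 := d31_2 (iv F150283) D34190 (iv D32319)
def n34191 : Q := act 9 n32313
theorem D34191 : act 9 n32313 = n34191 := rfl
theorem F158760 : act 0 n34191 = n33026 := d8_1 D34191 (iv F154001) F153996
theorem F158761 : act 1 n34191 = n34191 := d16_1 D34191 (iv D34191) F150281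
theorem F158762 : act 3 n34191 = n32316 := d29_1 D34191 (iv D32316) (iv F150282)
theorem F158763 : act 5 n34191 = n32314 := d38_1 D34191 (iv D32314) D32313
theorem F158764 : act 6 n34191 = n32320 := d41_1 D34191 (iv D32320) (iv F150283)
def n34192 : Q := act 3 n32315
theorem D34192 : act 3 n32315 = n34192 := rfl
theorem F158765 : act 1 n34192 = n34192 := d10_1 D34192 (iv D34192) F150289
theorem F158766 : act 6 n34192 = n32321 := d26_2 (iv F150290) D34192 (iv D32321)
def n34193 : Q := act 9 n32315
theorem D34193 : act 9 n32315 = n34193 := rfl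
theorem F158767 : act 1 n34193 = n34193 := d16_1 D34193 (iv D34193) F150289
theorem F158768 : act 4 n34193 = n32316 := d34_1 D34193 (iv D32316) D32315
theorem F158769 : act 6 n34193 = n32322 := d41_1 D34193 (iv D32322) (iv F150290)
def n34194 : Q := act 8 n32316
theorem D34194 : act 8 n32316 = n34194 := rfl
theorem F158770 : act 1 n34194 = n34194 := d15_1 D34194 (iv D34194) F150291
theorem F158771 : act 6 n34194 = n32323 := d40_1 D34194 (iv D32323) (iv F150293)
def n34195 : Q := act 4 n32317
theorem D34195 : act 4 n32317 = n34195 := rfl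
theorem F158772 : act 2 n34195 = n32319 := d18_1 D34195 (iv D32319) (iv F150294)
theorem F158773 : act 5 n34195 = n34195 := d30_2 D32317 D34195 (iv D34195) (iv D32317) F141168
theorem F158774 : act 7 n34195 = n34195 := d32_2 F150295 D34195 (iv D34195)
def n34196 : Q := act 9 n32317
theorem D34196 : act 9 n32317 = n34196 := rfl
theorem F158775 : act 0 n34196 = n32882 := d8_1 D34196 (iv F154018) F154013
theorem F158776 : act 2 n34196 = n32320 := d23_1 D34196 (iv D32320) (iv F150294)
theorem F158777 : act 5 n34196 = n32318 := d38_1 D34196 (iv D32318) D32317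
theorem F158778 : act 7 n34196 = n34196 := d43_1 D34196 (iv D34196) F150295
def n34197 : Q := act 3 n32319
theorem D34197 : act 3 n32319 = n34197 := rfl
theorem F158779 : act 1 n34197 = n34197 := d10_1 D34197 (iv D34197) F150302
theorem F158780 : act 4 n34197 = n32321 := d24_2 D32319 D34197 (iv D32321) (iv D30323) (iv F141177)
theorem F158781 : act 5 n34197 = n34197 := d25_2 F150303 D34197 (iv D34197)
theorem F158782 : act 7 n34197 = n34197 := d27_2 F150304 D34197 (iv D34197)
theorem F158783 : act 9 n34197 = n32332 := d29_2 (iv F158263) D34197 (iv F158259)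
def n34198 : Q := act 2 n32321
theorem D34198 : act 2 n32321 = n34198 := rfl
theorem F158784 : act 5 n34198 = n32324 := d19_2 (iv F150311) D34198 (iv D32324)
theorem F158785 : act 7 n34198 = n34198 := d21_2 F150312 D34198 (iv D34198)
def n34199 : Q := act 1 n32324
theorem D34199 : act 1 n32324 = n34199 := rfl
theorem F158786 : act 2 n34199 = n34199 := d9_2 D32324 D34199 (iv D34199) (iv D32324) F141192
theorem F158787 : act 4 n34199 = n34199 := d11_2 F150320 D34199 (iv D34199)
theorem F158788 : act 7 n34199 = n34199 := d14_2 F150321 D34199 (iv D34199)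
theorem F158789 : act 8 n34199 = n34199 := d15_2 F150322 D34199 (iv D34199)
def n34200 : Q := act 9 n32324
theorem D34200 : act 9 n32324 = n34200 := rfl
theorem F158790 : act 0 n34200 = n32629 := d8_1 D34200 (iv F154051) F154045
theorem F158791 : act 2 n34200 = n32325 := d23_1 D34200 (iv D32325) D32324
theorem F158792 : act 4 n34200 = n34200 := d34_1 D34200 (iv D34200) F150320
theorem F158793 : act 6 n34200 = n32627 := d41_1 D34200 (iv F158223) F158220
theorem F158794 : act 7 n34200 = n34200 := d43_1 D34200 (iv D34200) F150321
theorem F158795 : act 1 n32525 = n34200 := d13_3 F158793 (iv F155593) F155596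
theorem F158796 : act 8 n32423 = n34200 := d40_0 F158793 (iv D32627) (iv F150769)
theorem F158797 : act 9 n34199 = n32525 := d16_0 F158795 (iv D34200) D34199
def n34201 : Q := act 7 n32327
theorem D34201 : act 7 n32327 = n34201 := rfl
theorem F158798 : act 2 n34201 = n32328 := d21_1 D34201 (iv D32328) D32327
theorem F158799 : act 3 n34201 = n34201 := d27_1 D34201 (iv D34201) F150337
theorem F158800 : act 4 n34201 = n32502 := d32_1 D34201 F151006 (iv F150338)
theorem F158801 : act 8 n34201 = n34201 := d42_2 F150340 D34201 (iv D34201)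
theorem F158802 : act 9 n34201 = n32499 := d43_2 (iv F150341) D34201 F150999
def n34202 : Q := act 6 n32328
theorem D34202 : act 6 n32328 = n34202 := rfl
theorem F158803 : act 1 n34202 = n32330 := d13_1 D34202 (iv D32330) (iv F150342)
theorem F158804 : act 3 n34202 = n32329 := d26_1 D34202 (iv D32329) (iv F150343)
theorem F158805 : act 4 n34202 = n32529 := d31_1 D34202 F151096 (iv F150344)
theorem F158806 : act 7 n34202 = n34202 := d39_2 D32328 D34202 (iv D34202) (iv D32328) F141206
theorem F158807 : act 8 n34202 = n34202 := d40_2 F150345 D34202 (iv D34202)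
def n34203 : Q := act 5 n32329
theorem D34203 : act 5 n32329 = n34203 := rfl
theorem F158808 : act 1 n34203 = n32331 := d12_1 D34203 (iv D32331) (iv F150346)
theorem F158809 : act 2 n34203 = n34203 := d19_1 D34203 (iv D34203) F150347
theorem F158810 : act 4 n34203 = n32526 := d30_1 D34203 (iv D32526) F141915 (iv F141215) (iv F150348)
theorem F158811 : act 7 n34203 = n34203 := d36_2 F150349 D34203 (iv D34203)
def n34204 : Q := act 5 n32330
theorem D34204 : act 5 n32330 = n34204 := rfl
theorem F158812 : act 3 n34204 = n32331 := d25_1 D34204 (iv D32331) (iv F150351)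
theorem F158813 : act 7 n34204 = n34204 := d36_2 F150353 D34204 (iv D34204)
def n34205 : Q := act 8 n32331
theorem D34205 : act 8 n32331 = n34205 := rfl
theorem F158814 : act 2 n34205 = n32332 := d22_1 D34205 (iv D32332) (iv F150355)
theorem F158815 : act 5 n34205 = n34205 := d37_1 D34205 (iv D34205) (iv D32331) F141224 D32331
theorem F158816 : act 7 n34205 = n34205 := d42_1 D34205 (iv D34205) F150356
def n34206 : Q := act 9 n32333
theorem D34206 : act 9 n32333 = n34206 := rfl
theorem F158817 : act 0 n34206 = n32338 := d8_1 D34206 (iv D32338) (iv F150360)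
theorem F158818 : act 2 n34206 = n32897 := d23_1 D34206 (iv D32897) (iv F150361)
theorem F158819 : act 3 n34206 = n32335 := d29_1 D34206 (iv D32335) (iv F150362)
theorem F158820 : act 4 n34206 = n32896 := d34_1 D34206 (iv D32896) (iv F150363)
theorem F158821 : act 5 n34206 = n32344 := d38_1 D34206 (iv D32344) (iv F150364)
theorem F158822 : act 6 n34206 = n32334 := d41_1 D34206 (iv D32334) (iv F150365)
theorem F158823 : act 7 n34206 = n34206 := d43_1 D34206 (iv D34206) F150366
def n34207 : Q := act 8 n32337
theorem D34207 : act 8 n32337 = n34207 := rfl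
theorem F158824 : act 0 n34207 = n32340 := d7_1 D34207 (iv D32340) (iv F150384)
theorem F158825 : act 2 n34207 = n34207 := d22_1 D34207 (iv D34207) F150385
theorem F158826 : act 4 n34207 = n32347 := d33_1 D34207 (iv D32347) (iv F150386)
theorem F158827 : act 6 n34207 = n34207 := d40_1 D34207 (iv D34207) F150388
theorem F158828 : act 7 n34207 = n34207 := d42_1 D34207 (iv D34207) F150389
theorem F158829 : act 9 n34207 = n34207 := d44_2 D32337 D34207 (iv D34207) (iv D32337) F141269
def n34208 : Q := act 8 n32339
theorem D34208 : act 8 n32339 = n34208 := rfl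
theorem F158830 : act 1 n34208 = n32347 := d15_1 D34208 (iv D32347) (iv F150394)
theorem F158831 : act 3 n34208 = n32340 := d28_1 D34208 (iv D32340) (iv F150395)
theorem F158832 : act 6 n34208 = n34208 := d40_1 D34208 (iv D34208) F150397
theorem F158833 : act 7 n34208 = n34208 := d42_1 D34208 (iv D34208) F150398
theorem F158834 : act 9 n34208 = n34208 := d44_2 D32339 D34208 (iv D34208) (iv D32339) F141290
def n34209 : Q := act 9 n32341
theorem D34209 : act 9 n32341 = n34209 := rfl
theorem F158835 : act 0 n34209 = n32878 := d8_1 D34209 F152340 (iv F150404)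
theorem F158836 : act 2 n34209 = n32344 := d23_1 D34209 (iv D32344) (iv F150405)
theorem F158837 : act 3 n34209 = n34209 := d29_1 D34209 (iv D34209) F150406
theorem F158838 : act 4 n34209 = n32343 := d34_1 D34209 (iv D32343) (iv F150407)
theorem F158839 : act 5 n34209 = n32897 := d38_1 D34209 (iv D32897) (iv F150408)
theorem F158840 : act 6 n34209 = n32342 := d41_1 D34209 (iv D32342) (iv F150409)
theorem F158841 : act 7 n34209 = n34209 := d43_1 D34209 (iv D34209) F150410
def n34210 : Q := act 8 n32345
theorem D34210 : act 8 n32345 = n34210 := rfl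
theorem F158842 : act 3 n34210 = n32346 := d28_1 D34210 (iv D32346) (iv F150425)
theorem F158843 : act 7 n34210 = n34210 := d42_1 D34210 (iv D34210) F150427
def n34211 : Q := act 5 n32350
theorem D34211 : act 5 n32350 = n34211 := rfl
theorem F158844 : act 1 n34211 = n32351 := d12_1 D34211 (iv D32351) (iv F150447)
theorem F158845 : act 3 n34211 = n32922 := d25_1 D34211 (iv D32922) (iv F150448)
def n34212 : Q := act 7 n32350
theorem D34212 : act 7 n32350 = n34212 := rfl
theorem F158846 : act 1 n34212 = n32352 := d14_1 D34212 (iv D32352) (iv F150447)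
theorem F158847 : act 3 n34212 = n32923 := d27_1 D34212 (iv D32923) (iv F150448)
theorem F158848 : act 8 n34212 = n32357 := d42_2 (iv F150449) D34212 (iv D32357)
def n34213 : Q := act 4 n32351
theorem D34213 : act 4 n32351 = n34213 := rfl
theorem F158849 : act 0 n34213 = n32394 := d3_1 D34213 (iv D32394) (iv F150450)
theorem F158850 : act 2 n34213 = n32353 := d18_1 D34213 (iv D32353) (iv F150451)
def n34214 : Q := act 7 n32351
theorem D34214 : act 7 n32351 = n34214 := rfl
theorem F158851 : act 0 n34214 = n32395 := d6_1 D34214 (iv D32395) (iv F150450)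
theorem F158852 : act 2 n34214 = n32354 := d21_1 D34214 (iv D32354) (iv F150451)
theorem F158853 : act 3 n34214 = n32924 := d27_1 D34214 (iv D32924) (iv F150452)
theorem F158854 : act 5 n34214 = n32352 := d36_1 D34214 (iv D32352) D32351
def n34215 : Q := act 7 n32353
theorem D34215 : act 7 n32353 = n34215 := rfl
theorem F158855 : act 0 n34215 = n32397 := d6_1 D34215 (iv D32397) (iv F150457)
theorem F158856 : act 3 n34215 = n32663 := d27_1 D34215 (iv D32663) (iv F150458)
theorem F158857 : act 4 n34215 = n32354 := d32_1 D34215 (iv D32354) D32353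
def n34216 : Q := act 6 n32354
theorem D34216 : act 6 n32354 = n34216 := rfl
theorem F158858 : act 0 n34216 = n32399 := d5_1 D34216 (iv D32399) (iv F150459)
theorem F158859 : act 3 n34216 = n32355 := d26_1 D34216 (iv D32355) (iv F150460)
def n34217 : Q := act 7 n32356
theorem D34217 : act 7 n32356 = n34217 := rfl
theorem F158860 : act 1 n34217 = n32359 := d14_1 D34217 (iv D32359) (iv F150465)
theorem F158861 : act 2 n34217 = n32405 := d21_1 D34217 (iv D32405) (iv F150466)
theorem F158862 : act 3 n34217 = n32937 := d27_1 D34217 (iv D32937) (iv F150467)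
theorem F158863 : act 4 n34217 = n32403 := d32_1 D34217 (iv D32403) (iv F150468)
theorem F158864 : act 5 n34217 = n32357 := d36_1 D34217 (iv D32357) D32356
theorem F158865 : act 9 n34217 = n34217 := d43_2 F150470 D34217 (iv D34217)
def n34218 : Q := act 7 n32358
theorem D34218 : act 7 n32358 = n34218 := rfl
theorem F158866 : act 0 n34218 = n32417 := d6_1 D34218 (iv D32417) (iv F150474)
theorem F158867 : act 1 n34218 = n32403 := d14_1 D34218 (iv D32403) (iv F150475)
theorem F158868 : act 2 n34218 = n32360 := d21_1 D34218 (iv D32360) (iv F150476)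
theorem F158869 : act 3 n34218 = n32649 := d27_1 D34218 F151617 (iv F150477)
theorem F158870 : act 4 n34218 = n32359 := d32_1 D34218 (iv D32359) D32358
theorem F158871 : act 5 n34218 = n32402 := d36_1 D34218 (iv D32402) (iv F150478)
theorem F158872 : act 8 n34218 = n32647 := d42_2 (iv F150480) D34218 (iv D32647)
theorem F158873 : act 9 n34218 = n34218 := d43_2 F150481 D34218 (iv D34218)
def n34219 : Q := act 6 n32359
theorem D34219 : act 6 n32359 = n34219 := rfl
theorem F158874 : act 0 n34219 = n32418 := d5_1 D34219 (iv D32418) (iv F150482)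
theorem F158875 : act 2 n34219 = n32361 := d20_1 D34219 (iv D32361) (iv F150483)
theorem F158876 : act 3 n34219 = n32938 := d26_1 D34219 (iv D32938) (iv F150484)
theorem F158877 : act 7 n34219 = n34219 := d39_2 D32359 D34219 (iv D34219) (iv D32359) F141415
theorem F158878 : act 9 n34219 = n34219 := d41_2 F150486 D34219 (iv D34219)
def n34220 : Q := act 6 n32360
theorem D34220 : act 6 n32360 = n34220 := rfl
theorem F158879 : act 0 n34220 = n32420 := d5_1 D34220 (iv D32420) (iv F150487)
theorem F158880 : act 1 n34220 = n32496 := d13_1 D34220 (iv D32496) (iv F150488)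
theorem F158881 : act 3 n34220 = n32362 := d26_1 D34220 (iv D32362) (iv F150489)
theorem F158882 : act 4 n34220 = n32361 := d31_1 D34220 (iv D32361) (iv F150490)
theorem F158883 : act 5 n34220 = n32509 := d35_1 D34220 (iv D32509) F141865 (iv F141817) (iv F150491)
theorem F158884 : act 7 n34220 = n34220 := d39_2 D32360 D34220 (iv D34220) (iv D32360) F141425
theorem F158885 : act 8 n34220 = n32872 := d40_2 (iv F150492) D34220 (iv D32872)
theorem F158886 : act 9 n34220 = n34220 := d41_2 F150493 D34220 (iv D34220)
def n34221 : Q := act 5 n32364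
theorem D34221 : act 5 n32364 = n34221 := rfl
theorem F158887 : act 1 n34221 = n32365 := d12_1 D34221 (iv D32365) (iv F150512)
theorem F158888 : act 2 n34221 = n32433 := d19_1 D34221 (iv D32433) (iv F150513)
theorem F158889 : act 3 n34221 = n32573 := d25_1 D34221 (iv D32573) (iv F150514)
theorem F158890 : act 6 n34221 = n32392 := d35_2 D32364 D34221 (iv D32392) (iv D30404) (iv F141453)
theorem F158891 : act 9 n34221 = n32452 := d38_2 (iv F150516) D34221 (iv D32452)
theorem F158892 : act 8 n32854 = n34221 := d44_5 F158891 F150867 F143097 D30857 D32854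
def n34222 : Q := act 7 n32364
theorem D34222 : act 7 n32364 = n34222 := rfl
theorem F158893 : act 1 n34222 = n32366 := d14_1 D34222 (iv D32366) (iv F150512)
theorem F158894 : act 2 n34222 = n32434 := d21_1 D34222 (iv D32434) (iv F150513)
theorem F158895 : act 3 n34222 = n32574 := d27_1 D34222 (iv D32574) (iv F150514)
theorem F158896 : act 6 n34222 = n32466 := d39_1 D34222 (iv D32466) (iv D30466) (iv F141454) D32364
theorem F158897 : act 8 n34222 = n34222 := d42_2 F150515 D34222 (iv D34222)
theorem F158898 : act 9 n34222 = n32453 := d43_2 (iv F150516) D34222 (iv D32453)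
def n34223 : Q := act 4 n32365
theorem D34223 : act 4 n32365 = n34223 := rfl
theorem F158899 : act 2 n34223 = n32367 := d18_1 D34223 (iv D32367) (iv F150517)
theorem F158900 : act 6 n34223 = n32394 := d31_2 (iv F150519) D34223 (iv D32394)
theorem F158901 : act 9 n34223 = n32454 := d34_2 (iv F150520) D34223 (iv D32454)
def n34224 : Q := act 7 n32365
theorem D34224 : act 7 n32365 = n34224 := rfl
theorem F158902 : act 2 n34224 = n32368 := d21_1 D34224 (iv D32368) (iv F150517)
theorem F158903 : act 3 n34224 = n32576 := d27_1 D34224 (iv D32576) (iv F150518)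
theorem F158904 : act 5 n34224 = n32366 := d36_1 D34224 (iv D32366) D32365
theorem F158905 : act 9 n34224 = n32455 := d43_2 (iv F150520) D34224 (iv D32455)
def n34225 : Q := act 8 n32365
theorem D34225 : act 8 n32365 = n34225 := rfl
theorem F158906 : act 1 n34225 = n32854 := d15_1 D34225 F158892 F158887
theorem F158907 : act 2 n34225 = n32369 := d22_1 D34225 (iv D32369) (iv F150517)
theorem F158908 : act 3 n34225 = n32577 := d28_1 D34225 (iv D32577) (iv F150518)
theorem F158909 : act 5 n34225 = n34225 := d37_1 D34225 (iv D34225) (iv D32365) F141459 D32365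

end Cfsg.Agent.Helper17.SP6TC
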