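import Cfsg.Agent.Helper17.SP6TC.Facts11

set_option autoImplicit false
set_option linter.all false

noncomputable section

namespace Cfsg.Agent.Helper17.SP6TC

theorem F158910 : act 6 n34225 = n32396 := d40_1 D34225 (iv D32396) (iv F150519)
theorem F158911 : act 9 n34225 = n32851 := d44_2 (iv F150520) D34225 (iv D32851) F150880 (iv D32456)
def n34226 : Q := act 7 n32367
theorem D34226 : act 7 n32367 = n34226 := rfl
theorem F158912 : act 1 n34226 = n32438 := d14_1 D34226 (iv D32438) (iv F150526)
theorem F158913 : act 3 n34226 = n32667 := d27_1 D34226 (iv D32667) (iv F150527)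
theorem F158914 : act 4 n34226 = n32368 := d32_1 D34226 (iv D32368) D32367
theorem F158915 : act 9 n34226 = n32457 := d43_2 (iv F150529) D34226 (iv D32457)
def n34227 : Q := act 8 n32367
theorem D34227 : act 8 n32367 = n34227 := rfl
theorem F158916 : act 1 n34227 = n32439 := d15_1 D34227 (iv D32439) (iv F150526)
theorem F158917 : act 3 n34227 = n32668 := d28_1 D34227 (iv D32668) (iv F150527)
theorem F158918 : act 4 n34227 = n32369 := d33_1 D34227 (iv D32369) D32367
theorem F158919 : act 6 n34227 = n32398 := d40_1 D34227 (iv D32398) (iv F150528)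
def n34228 : Q := act 6 n32368
theorem D34228 : act 6 n32368 = n34228 := rfl
theorem F158920 : act 1 n34228 = n32440 := d13_1 D34228 (iv D32440) (iv F150530)
theorem F158921 : act 3 n34228 = n32370 := d26_1 D34228 (iv D32370) (iv F150531)
theorem F158922 : act 5 n34228 = n32472 := d35_1 D34228 (iv D32472) F141768 (iv F141467) (iv F150532)
theorem F158923 : act 7 n34228 = n32399 := d39_2 D32368 D34228 (iv D32399) (iv D30408) (iv F141463)
theorem F158924 : act 9 n34228 = n32459 := d41_2 (iv F150533) D34228 (iv D32459)
def n34229 : Q := act 8 n32368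
theorem D34229 : act 8 n32368 = n34229 := rfl
theorem F158925 : act 1 n34229 = n32441 := d15_1 D34229 (iv D32441) (iv F150530)
theorem F158926 : act 3 n34229 = n32371 := d28_1 D34229 (iv D32371) (iv F150531)
theorem F158927 : act 5 n34229 = n34229 := d37_1 D34229 (iv D34229) F150532 F141468 (iv F150532)
theorem F158928 : act 7 n34229 = n32369 := d42_1 D34229 (iv D32369) D32368
def n34230 : Q := act 8 n32370
theorem D34230 : act 8 n32370 = n34230 := rfl
theorem F158929 : act 1 n34230 = n32443 := d15_1 D34230 (iv D32443) (iv F150538)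
theorem F158930 : act 2 n34230 = n32581 := d22_1 D34230 (iv D32581) (iv F150539)
theorem F158931 : act 4 n34230 = n32671 := d33_1 D34230 (iv D32671) (iv F150540)
theorem F158932 : act 6 n34230 = n32371 := d40_1 D34230 (iv D32371) D32370
theorem F158933 : act 7 n34230 = n32401 := d42_1 D34230 (iv D32401) (iv F150542)
def n34231 : Q := act 5 n32373
theorem D34231 : act 5 n32373 = n34231 := rfl
theorem F158934 : act 1 n34231 = n32374 := d12_1 D34231 (iv D32374) (iv F150555)
theorem F158935 : act 2 n34231 = n32452 := d19_1 D34231 (iv D32452) (iv F150556)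
theorem F158936 : act 3 n34231 = n32542 := d25_1 D34231 (iv D32542) (iv F150557)
theorem F158937 : act 6 n34231 = n32465 := d35_2 D32373 D34231 (iv D32465) (iv D30466) (iv F141482)
theorem F158938 : act 8 n34231 = n32594 := d37_2 (iv F150558) D34231 F151403 (iv F150480) F150478
theorem F158939 : act 9 n34231 = n32433 := d38_2 (iv F150559) D34231 (iv D32433)
def n34232 : Q := act 7 n32373
theorem D34232 : act 7 n32373 = n34232 := rfl
theorem F158940 : act 1 n34232 = n32375 := d14_1 D34232 (iv D32375) (iv F150555)
theorem F158941 : act 2 n34232 = n32453 := d21_1 D34232 (iv D32453) (iv F150556)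
theorem F158942 : act 3 n34232 = n32543 := d27_1 D34232 (iv D32543) (iv F150557)
theorem F158943 : act 6 n34232 = n32393 := d39_1 D34232 (iv D32393) (iv D30404) (iv F141483) D32373
theorem F158944 : act 8 n34232 = n32402 := d42_2 (iv F150558) D34232 (iv D32402)
theorem F158945 : act 9 n34232 = n32434 := d43_2 (iv F150559) D34232 (iv D32434)
def n34233 : Q := act 4 n32374
theorem D34233 : act 4 n32374 = n34233 := rfl
theorem F158946 : act 2 n34233 = n32376 := d18_1 D34233 (iv D32376) (iv F150560)
theorem F158947 : act 6 n34233 = n32467 := d31_2 (iv F150562) D34233 (iv D32467)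
theorem F158948 : act 9 n34233 = n32435 := d34_2 (iv F150563) D34233 (iv D32435)
def n34234 : Q := act 7 n32374
theorem D34234 : act 7 n32374 = n34234 := rfl
theorem F158949 : act 2 n34234 = n32377 := d21_1 D34234 (iv D32377) (iv F150560)
theorem F158950 : act 3 n34234 = n32545 := d27_1 D34234 (iv D32545) (iv F150561)
theorem F158951 : act 5 n34234 = n32375 := d36_1 D34234 (iv D32375) D32374
theorem F158952 : act 9 n34234 = n32436 := d43_2 (iv F150563) D34234 (iv D32436)
def n34235 : Q := act 8 n32374
theorem D34235 : act 8 n32374 = n34235 := rfl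
theorem F158953 : act 1 n34235 = n32594 := d15_1 D34235 (iv F158938) F158934
theorem F158954 : act 2 n34235 = n32378 := d22_1 D34235 (iv D32378) (iv F150560)
theorem F158955 : act 3 n34235 = n32546 := d28_1 D34235 (iv D32546) (iv F150561)
theorem F158956 : act 5 n34235 = n32404 := d37_1 D34235 (iv D32404) (iv D30414) (iv F141488) D32374
theorem F158957 : act 6 n34235 = n32469 := d40_1 D34235 (iv D32469) (iv F150562)
theorem F158958 : act 9 n32607 = n34235 := d38_0 F158956 (iv F150688) (iv F151449)
def n34236 : Q := act 7 n32376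
theorem D34236 : act 7 n32376 = n34236 := rfl
theorem F158959 : act 1 n34236 = n32457 := d14_1 D34236 (iv D32457) (iv F150569)
theorem F158960 : act 3 n34236 = n32723 := d27_1 D34236 (iv D32723) (iv F150570)
theorem F158961 : act 4 n34236 = n32377 := d32_1 D34236 (iv D32377) D32376
theorem F158962 : act 9 n34236 = n32438 := d43_2 (iv F150572) D34236 (iv D32438)
def n34237 : Q := act 8 n32376
theorem D34237 : act 8 n32376 = n34237 := rfl
theorem F158963 : act 1 n34237 = n32458 := d15_1 D34237 (iv D32458) (iv F150569)
theorem F158964 : act 3 n34237 = n32724 := d28_1 D34237 (iv D32724) (iv F150570)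
theorem F158965 : act 4 n34237 = n32378 := d33_1 D34237 (iv D32378) D32376
theorem F158966 : act 6 n34237 = n32471 := d40_1 D34237 (iv D32471) (iv F150571)
def n34238 : Q := act 6 n32377
theorem D34238 : act 6 n32377 = n34238 := rfl
theorem F158967 : act 1 n34238 = n32459 := d13_1 D34238 (iv D32459) (iv F150573)
theorem F158968 : act 3 n34238 = n32379 := d26_1 D34238 (iv D32379) (iv F150574)
theorem F158969 : act 5 n34238 = n32399 := d35_1 D34238 (iv D32399) F141554 (iv F141496) (iv F150575)
theorem F158970 : act 7 n34238 = n32472 := d39_2 D32377 D34238 (iv D32472) (iv D30470) (iv F141492)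
theorem F158971 : act 9 n34238 = n32440 := d41_2 (iv F150576) D34238 (iv D32440)
def n34239 : Q := act 8 n32377
theorem D34239 : act 8 n32377 = n34239 := rfl
theorem F158972 : act 1 n34239 = n32460 := d15_1 D34239 (iv D32460) (iv F150573)
theorem F158973 : act 3 n34239 = n32380 := d28_1 D34239 (iv D32380) (iv F150574)
theorem F158974 : act 5 n34239 = n32408 := d37_1 D34239 (iv D32408) F141589 (iv F141497) (iv F150575)
theorem F158975 : act 7 n34239 = n32378 := d42_1 D34239 (iv D32378) D32377
def n34240 : Q := act 9 n32378
theorem D34240 : act 9 n32378 = n34240 := rfl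
theorem F158976 : act 1 n34240 = n32461 := d16_1 D34240 (iv D32461) (iv F150577)
theorem F158977 : act 2 n34240 = n32607 := d23_1 D34240 F158958 F158954
theorem F158978 : act 3 n34240 = n32381 := d29_1 D34240 (iv D32381) (iv F150578)
theorem F158979 : act 5 n34240 = n32409 := d38_1 D34240 (iv D32409) (iv F150579)
theorem F158980 : act 6 n34240 = n32474 := d41_1 D34240 (iv D32474) (iv F150580)
theorem F158981 : act 8 n34240 = n32442 := d44_1 D34240 (iv D32442) (iv D30445) (iv F141493) D32378
def n34241 : Q := act 8 n32379
theorem D34241 : act 8 n32379 = n34241 := rfl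
theorem F158982 : act 1 n34241 = n32462 := d15_1 D34241 (iv D32462) (iv F150581)
theorem F158983 : act 2 n34241 = n32550 := d22_1 D34241 (iv D32550) (iv F150582)
theorem F158984 : act 4 n34241 = n32728 := d33_1 D34241 (iv D32728) (iv F150583)
theorem F158985 : act 6 n34241 = n32380 := d40_1 D34241 (iv D32380) D32379
theorem F158986 : act 7 n34241 = n32475 := d42_1 D34241 (iv D32475) (iv F150585)
def n34242 : Q := act 9 n32380
theorem D34242 : act 9 n32380 = n34242 := rfl
theorem F158987 : act 1 n34242 = n32463 := d16_1 D34242 (iv D32463) (iv F150587)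
theorem F158988 : act 2 n34242 = n32551 := d23_1 D34242 (iv D32551) (iv F150588)
theorem F158989 : act 4 n34242 = n32729 := d34_1 D34242 (iv D32729) (iv F150589)
theorem F158990 : act 5 n34242 = n32411 := d38_1 D34242 (iv D32411) (iv F150590)
theorem F158991 : act 7 n34242 = n32381 := d43_1 D34242 (iv D32381) (iv F150591)
theorem F158992 : act 8 n34242 = n32444 := d44_1 D34242 (iv D32444) (iv D30447) (iv F141503) D32380
def n34243 : Q := act 6 n32382
theorem D34243 : act 6 n32382 = n34243 := rfl
theorem F158993 : act 0 n34243 = n32383 := d5_1 D34243 (iv D32383) D32382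
theorem F158994 : act 2 n34243 = n32464 := d20_1 D34243 (iv D32464) (iv F150598)
theorem F158995 : act 3 n34243 = n32531 := d26_1 D34243 (iv D32531) (iv F150599)
theorem F158996 : act 8 n34243 = n34243 := d40_2 F150602 D34243 (iv D34243)
theorem F158997 : act 9 n34243 = n32391 := d41_2 (iv F150603) D34243 (iv D32391)
def n34244 : Q := act 5 n32383
theorem D34244 : act 5 n32383 = n34244 := rfl
theorem F158998 : act 1 n34244 = n32384 := d12_1 D34244 (iv D32384) (iv F150604)
theorem F158999 : act 2 n34244 = n32465 := d19_1 D34244 (iv D32465) (iv F150605)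
theorem F159000 : act 3 n34244 = n32532 := d25_1 D34244 (iv D32532) (iv F150606)
theorem F159001 : act 6 n34244 = n32452 := d35_2 D32383 D34244 (iv D32452) (iv D30456) (iv F141511)
theorem F159002 : act 9 n34244 = n32392 := d38_2 (iv F150608) D34244 (iv D32392)
theorem F159003 : act 8 n32805 = n34244 := d40_0 F159001 F150867 (iv F152082)
def n34245 : Q := act 7 n32383
theorem D34245 : act 7 n32383 = n34245 := rfl
theorem F159004 : act 1 n34245 = n32385 := d14_1 D34245 (iv D32385) (iv F150604)
theorem F159005 : act 2 n34245 = n32466 := d21_1 D34245 (iv D32466) (iv F150605)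
theorem F159006 : act 3 n34245 = n32533 := d27_1 D34245 (iv D32533) (iv F150606)
theorem F159007 : act 6 n34245 = n32434 := d39_1 D34245 (iv D32434) (iv D30440) (iv F141512) D32383
theorem F159008 : act 8 n34245 = n34245 := d42_2 F150607 D34245 (iv D34245)
theorem F159009 : act 9 n34245 = n32393 := d43_2 (iv F150608) D34245 (iv D32393)
def n34246 : Q := act 4 n32384
theorem D34246 : act 4 n32384 = n34246 := rfl
theorem F159010 : act 2 n34246 = n32386 := d18_1 D34246 (iv D32386) (iv F150609)
theorem F159011 : act 6 n34246 = n32454 := d31_2 (iv F150611) D34246 (iv D32454)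
theorem F159012 : act 9 n34246 = n32394 := d34_2 (iv F150612) D34246 (iv D32394)
def n34247 : Q := act 7 n32384
theorem D34247 : act 7 n32384 = n34247 := rfl
theorem F159013 : act 2 n34247 = n32387 := d21_1 D34247 (iv D32387) (iv F150609)
theorem F159014 : act 3 n34247 = n32535 := d27_1 D34247 (iv D32535) (iv F150610)
theorem F159015 : act 5 n34247 = n32385 := d36_1 D34247 (iv D32385) D32384
theorem F159016 : act 9 n34247 = n32395 := d43_2 (iv F150612) D34247 (iv D32395)
def n34248 : Q := act 8 n32384
theorem D34248 : act 8 n32384 = n34248 := rfl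
theorem F159017 : act 1 n34248 = n32805 := d15_1 D34248 F159003 F158998
theorem F159018 : act 2 n34248 = n32388 := d22_1 D34248 (iv D32388) (iv F150609)
theorem F159019 : act 3 n34248 = n32536 := d28_1 D34248 (iv D32536) (iv F150610)
theorem F159020 : act 5 n34248 = n34248 := d37_1 D34248 (iv D34248) (iv D32384) F141517 D32384
theorem F159021 : act 6 n34248 = n32456 := d40_1 D34248 (iv D32456) (iv F150611)
theorem F159022 : act 9 n34248 = n32816 := d44_2 (iv F150612) D34248 (iv F153253) F153254 (iv D32396)
def n34249 : Q := act 7 n32386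
theorem D34249 : act 7 n32386 = n34249 := rfl
theorem F159023 : act 1 n34249 = n32470 := d14_1 D34249 (iv D32470) (iv F150618)
theorem F159024 : act 3 n34249 = n32684 := d27_1 D34249 (iv D32684) (iv F150619)
theorem F159025 : act 4 n34249 = n32387 := d32_1 D34249 (iv D32387) D32386
theorem F159026 : act 9 n34249 = n32397 := d43_2 (iv F150621) D34249 (iv D32397)
def n34250 : Q := act 8 n32386
theorem D34250 : act 8 n32386 = n34250 := rfl
theorem F159027 : act 1 n34250 = n32471 := d15_1 D34250 (iv D32471) (iv F150618)
theorem F159028 : act 3 n34250 = n32685 := d28_1 D34250 (iv D32685) (iv F150619)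
theorem F159029 : act 4 n34250 = n32388 := d33_1 D34250 (iv D32388) D32386
theorem F159030 : act 6 n34250 = n32458 := d40_1 D34250 (iv D32458) (iv F150620)
def n34251 : Q := act 6 n32387
theorem D34251 : act 6 n32387 = n34251 := rfl
theorem F159031 : act 1 n34251 = n32472 := d13_1 D34251 (iv D32472) (iv F150622)
theorem F159032 : act 3 n34251 = n32389 := d26_1 D34251 (iv D32389) (iv F150623)
theorem F159033 : act 5 n34251 = n32440 := d35_1 D34251 (iv D32440) F141684 (iv F141525) (iv F150624)
theorem F159034 : act 7 n34251 = n32459 := d39_2 D32387 D34251 (iv D32459) (iv D30460) (iv F141521)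
theorem F159035 : act 9 n34251 = n32399 := d41_2 (iv F150625) D34251 (iv D32399)
def n34252 : Q := act 8 n32387
theorem D34252 : act 8 n32387 = n34252 := rfl
theorem F159036 : act 1 n34252 = n32473 := d15_1 D34252 (iv D32473) (iv F150622)
theorem F159037 : act 3 n34252 = n32390 := d28_1 D34252 (iv D32390) (iv F150623)
theorem F159038 : act 5 n34252 = n34252 := d37_1 D34252 (iv D34252) F150624 F141526 (iv F150624)
theorem F159039 : act 7 n34252 = n32388 := d42_1 D34252 (iv D32388) D32387
def n34253 : Q := act 8 n32389
theorem D34253 : act 8 n32389 = n34253 := rfl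
theorem F159040 : act 1 n34253 = n32475 := d15_1 D34253 (iv D32475) (iv F150630)
theorem F159041 : act 2 n34253 = n32540 := d22_1 D34253 (iv D32540) (iv F150631)
theorem F159042 : act 4 n34253 = n32688 := d33_1 D34253 (iv D32688) (iv F150632)
theorem F159043 : act 6 n34253 = n32390 := d40_1 D34253 (iv D32390) D32389
theorem F159044 : act 7 n34253 = n32462 := d42_1 D34253 (iv D32462) (iv F150634)
def n34254 : Q := act 5 n32391
theorem D34254 : act 5 n32391 = n34254 := rfl
theorem F159045 : act 0 n34254 = n32392 := d4_1 D34254 (iv D32392) (iv F150641)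
theorem F159046 : act 2 n34254 = n32477 := d19_1 D34254 (iv D32477) (iv F150642)
theorem F159047 : act 3 n34254 = n32939 := d25_1 D34254 (iv D32939) (iv F150643)
def n34255 : Q := act 7 n32391
theorem D34255 : act 7 n32391 = n34255 := rfl
theorem F159048 : act 0 n34255 = n32393 := d6_1 D34255 (iv D32393) (iv F150641)
theorem F159049 : act 2 n34255 = n32478 := d21_1 D34255 (iv D32478) (iv F150642)
theorem F159050 : act 3 n34255 = n32940 := d27_1 D34255 (iv D32940) (iv F150643)
theorem F159051 : act 8 n34255 = n32413 := d42_2 (iv F150644) D34255 (iv D32413)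
def n34256 : Q := act 4 n32392
theorem D34256 : act 4 n32392 = n34256 := rfl
theorem F159052 : act 1 n34256 = n32394 := d11_1 D34256 (iv D32394) (iv F150645)
theorem F159053 : act 2 n34256 = n32479 := d18_1 D34256 (iv D32479) (iv F150646)
def n34257 : Q := act 7 n32392
theorem D34257 : act 7 n32392 = n34257 := rfl
theorem F159054 : act 1 n34257 = n32395 := d14_1 D34257 (iv D32395) (iv F150645)
theorem F159055 : act 2 n34257 = n32480 := d21_1 D34257 (iv D32480) (iv F150646)
theorem F159056 : act 3 n34257 = n32941 := d27_1 D34257 (iv D32941) (iv F150647)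
theorem F159057 : act 5 n34257 = n32393 := d36_1 D34257 (iv D32393) D32392
def n34258 : Q := act 8 n32392
theorem D34258 : act 8 n32392 = n34258 := rfl
theorem F159058 : act 1 n34258 = n32396 := d15_1 D34258 (iv D32396) (iv F150645)
theorem F159059 : act 2 n34258 = n32481 := d22_1 D34258 (iv D32481) (iv F150646)
theorem F159060 : act 3 n34258 = n32822 := d28_1 D34258 F152149 (iv F150647)
theorem F159061 : act 5 n34258 = n32416 := d37_1 D34258 (iv D32416) (iv D30423) (iv F141544) D32392
theorem F159062 : act 6 n34258 = n32854 := d40_1 D34258 F158892 F158890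
theorem F159063 : act 9 n34258 = n32819 := d44_2 F159002 D34258 (iv D32819) (iv F152083) F159003
def n34259 : Q := act 3 n32394
theorem D34259 : act 3 n32394 = n34259 := rfl
theorem F159064 : act 2 n34259 = n32689 := d17_1 D34259 (iv D32689) F142637 (iv F141551) (iv F150652)
theorem F159065 : act 4 n34259 = n32749 := d24_2 D32394 D34259 F151936 F143065 (iv F141546)
theorem F159066 : act 8 n32747 = n34259 := d33_0 F159065 (iv D32749) D32747
def n34260 : Q := act 7 n32394
theorem D34260 : act 7 n32394 = n34260 := rfl
theorem F159067 : act 2 n34260 = n32397 := d21_1 D34260 (iv D32397) (iv F150652)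
theorem F159068 : act 4 n34260 = n32395 := d32_1 D34260 (iv D32395) D32394
def n34261 : Q := act 8 n32394
theorem D34261 : act 8 n32394 = n34261 := rfl
theorem F159069 : act 2 n34261 = n32398 := d22_1 D34261 (iv D32398) (iv F150652)
theorem F159070 : act 3 n34261 = n32747 := d28_1 D34261 F159066 (iv D34259)
theorem F159071 : act 4 n34261 = n32396 := d33_1 D34261 (iv D32396) D32394
def n34262 : Q := act 6 n32395
theorem D34262 : act 6 n32395 = n34262 := rfl
theorem F159072 : act 2 n34262 = n32399 := d20_1 D34262 (iv D32399) (iv F150653)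
theorem F159073 : act 3 n34262 = n32942 := d26_1 D34262 (iv D32942) (iv F150654)
def n34263 : Q := act 8 n32395
theorem D34263 : act 8 n32395 = n34263 := rfl
theorem F159074 : act 2 n34263 = n32400 := d22_1 D34263 (iv D32400) (iv F150653)
theorem F159075 : act 3 n34263 = n32831 := d28_1 D34263 F152184 (iv F150654)
theorem F159076 : act 5 n34263 = n32419 := d37_1 D34263 (iv D32419) F141627 (iv F141549) (iv F150655)
theorem F159077 : act 7 n34263 = n32396 := d42_1 D34263 (iv D32396) D32395
def n34264 : Q := act 6 n32397
theorem D34264 : act 6 n32397 = n34264 := rfl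
theorem F159078 : act 1 n34264 = n32488 := d13_1 D34264 (iv D32488) (iv F150659)
theorem F159079 : act 3 n34264 = n32692 := d26_1 D34264 (iv D32692) (iv F150660)
theorem F159080 : act 4 n34264 = n32399 := d31_1 D34264 (iv D32399) (iv F150661)
def n34265 : Q := act 8 n32397
theorem D34265 : act 8 n32397 = n34265 := rfl
theorem F159081 : act 1 n34265 = n32489 := d15_1 D34265 (iv D32489) (iv F150659)
theorem F159082 : act 3 n34265 = n32693 := d28_1 D34265 (iv D32693) (iv F150660)
theorem F159083 : act 4 n34265 = n32400 := d33_1 D34265 (iv D32400) (iv F150661)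
theorem F159084 : act 7 n34265 = n32398 := d42_1 D34265 (iv D32398) D32397
def n34266 : Q := act 8 n32399
theorem D34266 : act 8 n32399 = n34266 := rfl
theorem F159085 : act 1 n34266 = n32492 := d15_1 D34266 (iv D32492) (iv F150665)
theorem F159086 : act 3 n34266 = n32401 := d28_1 D34266 (iv D32401) (iv F150666)
theorem F159087 : act 6 n34266 = n32400 := d40_1 D34266 (iv D32400) D32399
def n34267 : Q := act 5 n32401
theorem D34267 : act 5 n32401 = n34267 := rfl
theorem F159088 : act 1 n34267 = n32494 := d12_1 D34267 (iv D32494) (iv F150671)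
theorem F159089 : act 2 n34267 = n32838 := d19_1 D34267 (iv D32838) (iv F150672)
theorem F159090 : act 4 n34267 = n32855 := d30_1 D34267 (iv D32855) F143147 F142658 (iv F150673)
theorem F159091 : act 6 n34267 = n32422 := d35_2 (iv F150674) D34267 (iv D32422) F141646 (iv F141564)
def n34268 : Q := act 6 n32403
theorem D34268 : act 6 n32403 = n34268 := rfl
theorem F159092 : act 2 n34268 = n32407 := d20_1 D34268 (iv D32407) (iv F150680)
theorem F159093 : act 3 n34268 = n32944 := d26_1 D34268 (iv D32944) (iv F150681)
theorem F159094 : act 5 n34268 = n32418 := d35_1 D34268 (iv D32418) F141627 (iv F141581) (iv F150682)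
theorem F159095 : act 7 n34268 = n34268 := d39_2 D32403 D34268 (iv D34268) (iv D32403) F141577
theorem F159096 : act 9 n34268 = n34268 := d41_2 F150683 D34268 (iv D34268)
def n34269 : Q := act 8 n32403
theorem D34269 : act 8 n32403 = n34269 := rfl
theorem F159097 : act 1 n34269 = n32647 := d15_1 D34269 (iv F158872) F158867
theorem F159098 : act 2 n34269 = n32408 := d22_1 D34269 (iv D32408) (iv F150680)
theorem F159099 : act 3 n34269 = n32644 := d28_1 D34269 F151595 (iv F150681)
theorem F159100 : act 7 n34269 = n32404 := d42_1 D34269 (iv D32404) D32403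
theorem F159101 : act 9 n32655 = n34269 := d43_0 F159100 (iv F150688) D32655
def n34270 : Q := act 6 n32405
theorem D34270 : act 6 n32405 = n34270 := rfl
theorem F159102 : act 1 n34270 = n32498 := d13_1 D34270 (iv D32498) (iv F150689)
theorem F159103 : act 3 n34270 = n34270 := d26_1 D34270 (iv D34270) F150690
theorem F159104 : act 4 n34270 = n32407 := d31_1 D34270 (iv D32407) (iv F150691)
theorem F159105 : act 7 n34270 = n34270 := d39_2 D32405 D34270 (iv D34270) (iv D32405) F141585
theorem F159106 : act 9 n34270 = n34270 := d41_2 F150692 D34270 (iv D34270)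
def n34271 : Q := act 8 n32405
theorem D34271 : act 8 n32405 = n34271 := rfl
theorem F159107 : act 1 n34271 = n32499 := d15_1 D34271 (iv D32499) (iv F150689)
theorem F159108 : act 3 n34271 = n34271 := d28_1 D34271 (iv D34271) F150690
theorem F159109 : act 4 n34271 = n32408 := d33_1 D34271 (iv D32408) (iv F150691)
theorem F159110 : act 7 n34271 = n32406 := d42_1 D34271 (iv D32406) D32405
def n34272 : Q := act 5 n32406
theorem D34272 : act 5 n32406 = n34272 := rfl
theorem F159111 : act 1 n34272 = n32500 := d12_1 D34272 (iv D32500) (iv F150693)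
theorem F159112 : act 3 n34272 = n34272 := d25_1 D34272 (iv D34272) F150694
def n34273 : Q := act 8 n32407
theorem D34273 : act 8 n32407 = n34273 := rfl
theorem F159113 : act 1 n34273 = n32501 := d15_1 D34273 (iv D32501) (iv F150697)
theorem F159114 : act 3 n34273 = n32410 := d28_1 D34273 (iv D32410) (iv F150698)
theorem F159115 : act 6 n34273 = n32408 := d40_1 D34273 (iv D32408) D32407
theorem F159116 : act 7 n34273 = n34273 := d42_1 D34273 (iv D34273) F150700
def n34274 : Q := act 9 n32408
theorem D34274 : act 9 n32408 = n34274 := rfl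
theorem F159117 : act 1 n34274 = n32502 := d16_1 D34274 (iv D32502) (iv F150702)
theorem F159118 : act 2 n34274 = n32655 := d23_1 D34274 F159101 F159098
theorem F159119 : act 3 n34274 = n32411 := d29_1 D34274 (iv D32411) (iv F150703)
theorem F159120 : act 7 n34274 = n32409 := d43_1 D34274 (iv D32409) (iv F150704)
theorem F159121 : act 8 n34274 = n34274 := d44_1 D34274 (iv D34274) (iv D32408) F141590 D32408
def n34275 : Q := act 5 n32410
theorem D34275 : act 5 n32410 = n34275 := rfl
theorem F159122 : act 1 n34275 = n32503 := d12_1 D34275 (iv D32503) (iv F150710)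
theorem F159123 : act 2 n34275 = n32871 := d19_1 D34275 F152316 (iv F150711)
theorem F159124 : act 7 n34275 = n34275 := d36_2 F150714 D34275 (iv D34275)
theorem F159125 : act 8 n34275 = n32422 := d37_2 D32410 D34275 (iv D32422) (iv D30431) (iv F141597)
theorem F159126 : act 4 n32876 = n34275 := d33_3 F159125 F150763 D32876
def n34276 : Q := act 9 n32410
theorem D34276 : act 9 n32410 = n34276 := rfl
theorem F159127 : act 1 n34276 = n32504 := d16_1 D34276 (iv D32504) (iv F150710)
theorem F159128 : act 2 n34276 = n32947 := d23_1 D34276 (iv D32947) (iv F150711)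
theorem F159129 : act 4 n34276 = n34276 := d34_1 D34276 (iv D34276) F150712
theorem F159130 : act 6 n34276 = n32411 := d41_1 D34276 (iv D32411) (iv F150713)
theorem F159131 : act 7 n34276 = n34276 := d43_1 D34276 (iv D34276) F150714
theorem F159132 : act 8 n34276 = n34276 := d44_1 D34276 (iv D34276) (iv D32410) F141599 D32410
def n34277 : Q := act 7 n32412
theorem D34277 : act 7 n32412 = n34277 := rfl
theorem F159133 : act 0 n34277 = n32415 := d6_1 D34277 (iv D32415) (iv F150720)
theorem F159134 : act 2 n34277 = n32505 := d21_1 D34277 (iv D32505) (iv F150721)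
theorem F159135 : act 3 n34277 = n32948 := d27_1 D34277 (iv D32948) (iv F150722)
theorem F159136 : act 5 n34277 = n32413 := d36_1 D34277 (iv D32413) D32412
theorem F159137 : act 9 n34277 = n34277 := d43_2 F150724 D34277 (iv D34277)
def n34278 : Q := act 8 n32412
theorem D34278 : act 8 n32412 = n34278 := rfl
theorem F159138 : act 0 n34278 = n32416 := d7_1 D34278 (iv D32416) (iv F150720)
theorem F159139 : act 2 n34278 = n32506 := d22_1 D34278 (iv D32506) (iv F150721)
theorem F159140 : act 3 n34278 = n32863 := d28_1 D34278 (iv F152280) (iv F150722)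
theorem F159141 : act 6 n34278 = n34278 := d40_1 D34278 (iv D34278) F150723
def n34279 : Q := act 7 n32414
theorem D34279 : act 7 n32414 = n34279 := rfl
theorem F159142 : act 1 n34279 = n32417 := d14_1 D34279 (iv D32417) (iv F150729)
theorem F159143 : act 2 n34279 = n32507 := d21_1 D34279 (iv D32507) (iv F150730)
theorem F159144 : act 4 n34279 = n32415 := d32_1 D34279 (iv D32415) D32414
theorem F159145 : act 9 n34279 = n34279 := d43_2 F150732 D34279 (iv D34279)
def n34280 : Q := act 6 n32415
theorem D34280 : act 6 n32415 = n34280 := rfl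
theorem F159146 : act 1 n34280 = n32418 := d13_1 D34280 (iv D32418) (iv F150733)
theorem F159147 : act 2 n34280 = n32509 := d20_1 D34280 (iv D32509) (iv F150734)
theorem F159148 : act 3 n34280 = n32949 := d26_1 D34280 (iv D32949) (iv F150735)
theorem F159149 : act 7 n34280 = n34280 := d39_2 D32415 D34280 (iv D34280) (iv D32415) F141616
theorem F159150 : act 9 n34280 = n34280 := d41_2 F150737 D34280 (iv D34280)
def n34281 : Q := act 8 n32415
theorem D34281 : act 8 n32415 = n34281 := rfl
theorem F159151 : act 1 n34281 = n32419 := d15_1 D34281 (iv D32419) (iv F150733)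
theorem F159152 : act 2 n34281 = n32510 := d22_1 D34281 (iv D32510) (iv F150734)
theorem F159153 : act 3 n34281 = n32865 := d28_1 D34281 F152290 (iv F150735)
theorem F159154 : act 7 n34281 = n32416 := d42_1 D34281 (iv D32416) D32415
def n34282 : Q := act 6 n32417
theorem D34282 : act 6 n32417 = n34282 := rfl
theorem F159155 : act 2 n34282 = n32420 := d20_1 D34282 (iv D32420) (iv F150742)
theorem F159156 : act 4 n34282 = n32418 := d31_1 D34282 (iv D32418) (iv F150743)
theorem F159157 : act 7 n34282 = n34282 := d39_2 D32417 D34282 (iv D34282) (iv D32417) F141623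
theorem F159158 : act 9 n34282 = n34282 := d41_2 F150744 D34282 (iv D34282)
def n34283 : Q := act 8 n32418
theorem D34283 : act 8 n32418 = n34283 := rfl
theorem F159159 : act 2 n34283 = n32421 := d22_1 D34283 (iv D32421) (iv F150745)
theorem F159160 : act 3 n34283 = n32867 := d28_1 D34283 F152300 (iv F150746)
theorem F159161 : act 6 n34283 = n32419 := d40_1 D34283 (iv D32419) D32418
theorem F159162 : act 7 n34283 = n34283 := d42_1 D34283 (iv D34283) F150747
def n34284 : Q := act 5 n32420
theorem D34284 : act 5 n32420 = n34284 := rfl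
theorem F159163 : act 0 n34284 = n32509 := d4_1 D34284 (iv F158883) F158879
theorem F159164 : act 1 n34284 = n32517 := d12_1 D34284 (iv D32517) (iv F150752)
theorem F159165 : act 3 n34284 = n32423 := d25_1 D34284 (iv D32423) (iv F150753)
theorem F159166 : act 6 n34284 = n32505 := d35_2 D32420 D34284 F151018 (iv F149631) F149630
theorem F159167 : act 7 n34284 = n34284 := d36_2 F150755 D34284 (iv D34284)
theorem F159168 : act 9 n34284 = n34284 := d38_2 F150756 D34284 (iv D34284)
def n34285 : Q := act 5 n32421
theorem D34285 : act 5 n32421 = n34285 := rfl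
theorem F159169 : act 1 n34285 = n32521 := d12_1 D34285 (iv D32521) (iv F150757)
theorem F159170 : act 3 n34285 = n32422 := d25_1 D34285 (iv D32422) (iv F150758)
theorem F159171 : act 7 n34285 = n34285 := d36_2 F150760 D34285 (iv D34285)
def n34286 : Q := act 5 n32424
theorem D34286 : act 5 n32424 = n34286 := rfl
theorem F159172 : act 1 n34286 = n32425 := d12_1 D34286 (iv D32425) (iv F150772)
theorem F159173 : act 3 n34286 = n34286 := d25_1 D34286 (iv D34286) F150773
def n34287 : Q := act 7 n32424
theorem D34287 : act 7 n32424 = n34287 := rfl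
theorem F159174 : act 1 n34287 = n32426 := d14_1 D34287 (iv D32426) (iv F150772)
theorem F159175 : act 3 n34287 = n34287 := d27_1 D34287 (iv D34287) F150773
theorem F159176 : act 4 n34287 = n32434 := d32_1 D34287 (iv D32434) (iv F150774)
theorem F159177 : act 8 n34287 = n34287 := d42_2 F150775 D34287 (iv D34287)
def n34288 : Q := act 4 n32425
theorem D34288 : act 4 n32425 = n34288 := rfl
theorem F159178 : act 2 n34288 = n32427 := d18_1 D34288 (iv D32427) (iv F150776)
theorem F159179 : act 5 n34288 = n32435 := d30_2 D32425 D34288 (iv D32435) (iv D30441) (iv F141657)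
def n34289 : Q := act 7 n32425
theorem D34289 : act 7 n32425 = n34289 := rfl
theorem F159180 : act 2 n34289 = n32428 := d21_1 D34289 (iv D32428) (iv F150776)
theorem F159181 : act 3 n34289 = n34289 := d27_1 D34289 (iv D34289) F150777
theorem F159182 : act 5 n34289 = n32426 := d36_1 D34289 (iv D32426) D32425
def n34290 : Q := act 8 n32425
theorem D34290 : act 8 n32425 = n34290 := rfl
theorem F159183 : act 2 n34290 = n32429 := d22_1 D34290 (iv D32429) (iv F150776)
theorem F159184 : act 3 n34290 = n34290 := d28_1 D34290 (iv D34290) F150777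
theorem F159185 : act 5 n34290 = n34290 := d37_1 D34290 (iv D34290) (iv D32425) F141658 D32425
def n34291 : Q := act 7 n32427
theorem D34291 : act 7 n32427 = n34291 := rfl
theorem F159186 : act 3 n34291 = n32708 := d27_1 D34291 (iv D32708) (iv F150782)
theorem F159187 : act 4 n34291 = n32428 := d32_1 D34291 (iv D32428) D32427
theorem F159188 : act 5 n34291 = n32438 := d36_1 D34291 (iv D32438) (iv F150783)
def n34292 : Q := act 8 n32427
theorem D34292 : act 8 n32427 = n34292 := rfl
theorem F159189 : act 3 n34292 = n32709 := d28_1 D34292 (iv D32709) (iv F150782)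
theorem F159190 : act 4 n34292 = n32429 := d33_1 D34292 (iv D32429) D32427
def n34293 : Q := act 6 n32428
theorem D34293 : act 6 n32428 = n34293 := rfl
theorem F159191 : act 3 n34293 = n32430 := d26_1 D34293 (iv D32430) (iv F150784)
def n34294 : Q := act 8 n32428
theorem D34294 : act 8 n32428 = n34294 := rfl
theorem F159192 : act 3 n34294 = n32431 := d28_1 D34294 (iv D32431) (iv F150784)
theorem F159193 : act 5 n34294 = n34294 := d37_1 D34294 (iv D34294) F150785 F141662 (iv F150785)
theorem F159194 : act 7 n34294 = n32429 := d42_1 D34294 (iv D32429) D32428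
def n34295 : Q := act 8 n32430
theorem D34295 : act 8 n32430 = n34295 := rfl
theorem F159195 : act 2 n34295 = n34295 := d22_1 D34295 (iv D34295) F150788
theorem F159196 : act 4 n34295 = n32713 := d33_1 D34295 (iv D32713) (iv F150789)
theorem F159197 : act 6 n34295 = n32431 := d40_1 D34295 (iv D32431) D32430
def n34296 : Q := act 5 n32432
theorem D34296 : act 5 n32432 = n34296 := rfl
theorem F159198 : act 0 n34296 = n32433 := d4_1 D34296 (iv D32433) (iv F150794)
theorem F159199 : act 3 n34296 = n32552 := d25_1 D34296 (iv D32552) (iv F150795)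
theorem F159200 : act 6 n34296 = n32477 := d35_2 D32432 D34296 (iv D32477) (iv D30475) (iv F141670)
def n34297 : Q := act 7 n32432
theorem D34297 : act 7 n32432 = n34297 := rfl
theorem F159201 : act 0 n34297 = n32434 := d6_1 D34297 (iv D32434) (iv F150794)
theorem F159202 : act 3 n34297 = n32553 := d27_1 D34297 (iv D32553) (iv F150795)
theorem F159203 : act 8 n34297 = n34297 := d42_2 F150796 D34297 (iv D34297)
def n34298 : Q := act 4 n32433
theorem D34298 : act 4 n32433 = n34298 := rfl
theorem F159204 : act 1 n34298 = n32435 := d11_1 D34298 (iv D32435) (iv F150797)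
theorem F159205 : act 6 n34298 = n32479 := d31_2 (iv F150799) D34298 (iv D32479)
def n34299 : Q := act 7 n32433
theorem D34299 : act 7 n32433 = n34299 := rfl
theorem F159206 : act 1 n34299 = n32436 := d14_1 D34299 (iv D32436) (iv F150797)
theorem F159207 : act 3 n34299 = n32555 := d27_1 D34299 (iv D32555) (iv F150798)
theorem F159208 : act 5 n34299 = n32434 := d36_1 D34299 (iv D32434) D32433
def n34300 : Q := act 8 n32433
theorem D34300 : act 8 n32433 = n34300 := rfl
theorem F159209 : act 1 n34300 = n32437 := d15_1 D34300 (iv D32437) (iv F150797)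
theorem F159210 : act 2 n34300 = n32854 := d22_1 D34300 F158892 F158888
theorem F159211 : act 3 n34300 = n32556 := d28_1 D34300 (iv D32556) (iv F150798)
theorem F159212 : act 5 n34300 = n34300 := d37_1 D34300 (iv D34300) (iv D32433) F141674 D32433
theorem F159213 : act 6 n34300 = n32481 := d40_1 D34300 (iv D32481) (iv F150799)
theorem F159214 : act 9 n34300 = n32612 := d44_2 F158939 D34300 (iv D32612) (iv F151404) (iv F158938)
def n34301 : Q := act 3 n32435
theorem D34301 : act 3 n32435 = n34301 := rfl
theorem F159215 : act 2 n34301 = n32732 := d17_1 D34301 (iv D32732) F142758 (iv F141681) (iv F150803)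
theorem F159216 : act 4 n34301 = n32557 := d24_2 D32435 D34301 (iv D32557) (iv D30543) (iv F141676)
theorem F159217 : act 6 n34301 = n32482 := d26_2 (iv F150804) D34301 (iv D32482)
def n34302 : Q := act 7 n32435
theorem D34302 : act 7 n32435 = n34302 := rfl
theorem F159218 : act 2 n34302 = n32438 := d21_1 D34302 (iv D32438) (iv F150803)
theorem F159219 : act 4 n34302 = n32436 := d32_1 D34302 (iv D32436) D32435
def n34303 : Q := act 8 n32435
theorem D34303 : act 8 n32435 = n34303 := rfl
theorem F159220 : act 2 n34303 = n32439 := d22_1 D34303 (iv D32439) (iv F150803)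
theorem F159221 : act 4 n34303 = n32437 := d33_1 D34303 (iv D32437) D32435
theorem F159222 : act 6 n34303 = n32484 := d40_1 D34303 (iv D32484) (iv F150804)
def n34304 : Q := act 6 n32436
theorem D34304 : act 6 n32436 = n34304 := rfl
theorem F159223 : act 2 n34304 = n32440 := d20_1 D34304 (iv D32440) (iv F150805)
theorem F159224 : act 3 n34304 = n32560 := d26_1 D34304 (iv D32560) (iv F150806)
theorem F159225 : act 7 n34304 = n32485 := d39_2 D32436 D34304 (iv D32485) (iv D30479) (iv F141677)
def n34305 : Q := act 8 n32436
theorem D34305 : act 8 n32436 = n34305 := rfl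
theorem F159226 : act 2 n34305 = n32441 := d22_1 D34305 (iv D32441) (iv F150805)
theorem F159227 : act 3 n34305 = n32561 := d28_1 D34305 (iv D32561) (iv F150806)
theorem F159228 : act 5 n34305 = n34305 := d37_1 D34305 (iv D34305) F150807 F141680 (iv F150807)
theorem F159229 : act 7 n34305 = n32437 := d42_1 D34305 (iv D32437) D32436
def n34306 : Q := act 9 n32437
theorem D34306 : act 9 n32437 = n34306 := rfl
theorem F159230 : act 1 n34306 = n32612 := d16_1 D34306 (iv F159214) F159209
theorem F159231 : act 2 n34306 = n32442 := d23_1 D34306 (iv D32442) (iv F150808)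
theorem F159232 : act 3 n34306 = n32562 := d29_1 D34306 (iv D32562) (iv F150809)
theorem F159233 : act 5 n34306 = n34306 := d38_1 D34306 (iv D34306) F150810
theorem F159234 : act 6 n34306 = n32487 := d41_1 D34306 (iv D32487) (iv F150811)
theorem F159235 : act 8 n34306 = n32607 := d44_1 D34306 F158958 (iv D34235) F150563 D32437
def n34307 : Q := act 6 n32438
theorem D34307 : act 6 n32438 = n34307 := rfl
theorem F159236 : act 3 n34307 = n32738 := d26_1 D34307 (iv D32738) (iv F150812)
theorem F159237 : act 4 n34307 = n32440 := d31_1 D34307 (iv D32440) (iv F150813)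
theorem F159238 : act 7 n34307 = n32488 := d39_2 D32438 D34307 (iv D32488) (iv D30481) (iv F141682)
def n34308 : Q := act 8 n32438
theorem D34308 : act 8 n32438 = n34308 := rfl
theorem F159239 : act 3 n34308 = n32739 := d28_1 D34308 (iv D32739) (iv F150812)
theorem F159240 : act 4 n34308 = n32441 := d33_1 D34308 (iv D32441) (iv F150813)
theorem F159241 : act 7 n34308 = n32439 := d42_1 D34308 (iv D32439) D32438
def n34309 : Q := act 5 n32439
theorem D34309 : act 5 n32439 = n34309 := rfl
theorem F159242 : act 3 n34309 = n32740 := d25_1 D34309 (iv D32740) (iv F150814)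
theorem F159243 : act 4 n34309 = n34309 := d30_1 D34309 (iv D34309) F150815 F141686 (iv F150815)
def n34310 : Q := act 9 n32439
theorem D34310 : act 9 n32439 = n34310 := rfl
theorem F159244 : act 3 n34310 = n32741 := d29_1 D34310 (iv D32741) (iv F150814)
theorem F159245 : act 4 n34310 = n32442 := d34_1 D34310 (iv D32442) (iv F150815)
theorem F159246 : act 6 n34310 = n32491 := d41_1 D34310 (iv D32491) (iv F150816)
def n34311 : Q := act 8 n32440
theorem D34311 : act 8 n32440 = n34311 := rfl
theorem F159247 : act 3 n34311 = n32443 := d28_1 D34311 (iv D32443) (iv F150817)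
theorem F159248 : act 6 n34311 = n32441 := d40_1 D34311 (iv D32441) D32440
theorem F159249 : act 7 n34311 = n32492 := d42_1 D34311 (iv D32492) (iv F150818)
def n34312 : Q := act 9 n32441
theorem D34312 : act 9 n32441 = n34312 := rfl
theorem F159250 : act 3 n34312 = n32444 := d29_1 D34312 (iv D32444) (iv F150819)
theorem F159251 : act 5 n34312 = n34312 := d38_1 D34312 (iv D34312) F150820
theorem F159252 : act 7 n34312 = n32442 := d43_1 D34312 (iv D32442) (iv F150821)
def n34313 : Q := act 5 n32443
theorem D34313 : act 5 n32443 = n34313 := rfl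
theorem F159253 : act 2 n34313 = n32567 := d19_1 D34313 (iv D32567) (iv F150825)
theorem F159254 : act 6 n34313 = n34313 := d35_2 (iv F150827) D34313 (iv D34313) F150827 F141693
theorem F159255 : act 7 n34313 = n32494 := d36_2 (iv F150828) D34313 (iv D32494)
def n34314 : Q := act 9 n32443
theorem D34314 : act 9 n32443 = n34314 := rfl
theorem F159256 : act 2 n34314 = n32568 := d23_1 D34314 (iv D32568) (iv F150825)
theorem F159257 : act 4 n34314 = n32745 := d34_1 D34314 (iv D32745) (iv F150826)
theorem F159258 : act 6 n34314 = n32444 := d41_1 D34314 (iv D32444) (iv F150827)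
theorem F159259 : act 7 n34314 = n32495 := d43_1 D34314 (iv D32495) (iv F150828)
def n34315 : Q := act 4 n32445
theorem D34315 : act 4 n32445 = n34315 := rfl
theorem F159260 : act 2 n34315 = n32447 := d18_1 D34315 (iv D32447) (iv F150833)
theorem F159261 : act 6 n34315 = n32682 := d31_2 (iv F150835) D34315 (iv D32682)
theorem F159262 : act 9 n34315 = n32665 := d34_2 (iv F150836) D34315 (iv D32665)
def n34316 : Q := act 7 n32445
theorem D34316 : act 7 n32445 = n34316 := rfl
theorem F159263 : act 2 n34316 = n32448 := d21_1 D34316 (iv D32448) (iv F150833)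
theorem F159264 : act 3 n34316 = n32569 := d27_1 D34316 (iv D32569) (iv F150834)
theorem F159265 : act 5 n34316 = n32446 := d36_1 D34316 (iv D32446) D32445
theorem F159266 : act 9 n34316 = n32666 := d43_2 (iv F150836) D34316 (iv D32666)
def n34317 : Q := act 7 n32447
theorem D34317 : act 7 n32447 = n34317 := rfl
theorem F159267 : act 1 n34317 = n32723 := d14_1 D34317 (iv D32723) (iv F150842)
theorem F159268 : act 3 n34317 = n32457 := d27_1 D34317 (iv D32457) (iv F150843)
theorem F159269 : act 4 n34317 = n32448 := d32_1 D34317 (iv D32448) D32447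
theorem F159270 : act 9 n34317 = n32667 := d43_2 (iv F150845) D34317 (iv D32667)
def n34318 : Q := act 8 n32447
theorem D34318 : act 8 n32447 = n34318 := rfl
theorem F159271 : act 1 n34318 = n32724 := d15_1 D34318 (iv D32724) (iv F150842)
theorem F159272 : act 3 n34318 = n32458 := d28_1 D34318 (iv D32458) (iv F150843)
theorem F159273 : act 4 n34318 = n32449 := d33_1 D34318 (iv D32449) D32447
theorem F159274 : act 6 n34318 = n32685 := d40_1 D34318 (iv D32685) (iv F150844)
def n34319 : Q := act 6 n32448
theorem D34319 : act 6 n32448 = n34319 := rfl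
theorem F159275 : act 1 n34319 = n32725 := d13_1 D34319 (iv D32725) (iv F150846)
theorem F159276 : act 3 n34319 = n32450 := d26_1 D34319 (iv D32450) (iv F150847)
theorem F159277 : act 5 n34319 = n32751 := d35_1 D34319 (iv D32751) F142796 (iv F141715) (iv F150848)
theorem F159278 : act 7 n34319 = n32686 := d39_2 D32448 D34319 (iv D32686) (iv D30689) (iv F141711)
theorem F159279 : act 9 n34319 = n32669 := d41_2 (iv F150849) D34319 (iv D32669)
def n34320 : Q := act 8 n32448
theorem D34320 : act 8 n32448 = n34320 := rfl
theorem F159280 : act 1 n34320 = n32726 := d15_1 D34320 (iv D32726) (iv F150846)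
theorem F159281 : act 3 n34320 = n32451 := d28_1 D34320 (iv D32451) (iv F150847)
theorem F159282 : act 5 n34320 = n34320 := d37_1 D34320 (iv D34320) F150848 F141716 (iv F150848)
theorem F159283 : act 7 n34320 = n32449 := d42_1 D34320 (iv D32449) D32448
def n34321 : Q := act 8 n32450
theorem D34321 : act 8 n32450 = n34321 := rfl
theorem F159284 : act 1 n34321 = n32728 := d15_1 D34321 (iv D32728) (iv F150854)
theorem F159285 : act 2 n34321 = n32572 := d22_1 D34321 (iv D32572) (iv F150855)
theorem F159286 : act 4 n34321 = n32462 := d33_1 D34321 (iv D32462) (iv F150856)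
theorem F159287 : act 6 n34321 = n32451 := d40_1 D34321 (iv D32451) D32450
theorem F159288 : act 7 n34321 = n32688 := d42_1 D34321 (iv D32688) (iv F150858)
def n34322 : Q := act 4 n32452
theorem D34322 : act 4 n32452 = n34322 := rfl
theorem F159289 : act 1 n34322 = n32454 := d11_1 D34322 (iv D32454) (iv F150865)
theorem F159290 : act 3 n34322 = n32763 := d24_1 D34322 F151972 F142831 (iv F142151) (iv F150866)
theorem F159291 : act 8 n34322 = n32761 := d33_2 (iv F150867) D34322 F151966
def n34323 : Q := act 7 n32452
theorem D34323 : act 7 n32452 = n34323 := rfl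
theorem F159292 : act 1 n34323 = n32455 := d14_1 D34323 (iv D32455) (iv F150865)
theorem F159293 : act 3 n34323 = n32582 := d27_1 D34323 (iv D32582) (iv F150866)
theorem F159294 : act 5 n34323 = n32453 := d36_1 D34323 (iv D32453) D32452
theorem F159295 : act 8 n34323 = n32840 := d42_2 (iv F150867) D34323 (iv D32840)
def n34324 : Q := act 3 n32454
theorem D34324 : act 3 n32454 = n34324 := rfl
theorem F159296 : act 1 n34324 = n32763 := d10_1 D34324 (iv F159290) F159289
theorem F159297 : act 4 n34324 = n32583 := d24_2 D32454 D34324 (iv D32583) (iv D30570) (iv F141735)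
theorem F159298 : act 8 n32759 = n34324 := d33_0 F159297 F151362 D32759
def n34325 : Q := act 7 n32454
theorem D34325 : act 7 n32454 = n34325 := rfl
theorem F159299 : act 2 n34325 = n32457 := d21_1 D34325 (iv D32457) (iv F150872)
theorem F159300 : act 4 n34325 = n32455 := d32_1 D34325 (iv D32455) D32454
def n34326 : Q := act 8 n32454
theorem D34326 : act 8 n32454 = n34326 := rfl
theorem F159301 : act 1 n34326 = n32761 := d15_1 D34326 (iv F159291) F159289
theorem F159302 : act 2 n34326 = n32458 := d22_1 D34326 (iv D32458) (iv F150872)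
theorem F159303 : act 3 n34326 = n32759 := d28_1 D34326 F159298 (iv D34324)
theorem F159304 : act 4 n34326 = n32456 := d33_1 D34326 (iv D32456) D32454
theorem F159305 : act 9 n32775 = n34326 := d34_0 F159304 (iv F150880) (iv F152003)
def n34327 : Q := act 6 n32455
theorem D34327 : act 6 n32455 = n34327 := rfl
theorem F159306 : act 2 n34327 = n32459 := d20_1 D34327 (iv D32459) (iv F150873)
theorem F159307 : act 3 n34327 = n32585 := d26_1 D34327 (iv D32585) (iv F150874)
theorem F159308 : act 5 n34327 = n32485 := d35_1 D34327 (iv D32485) F141794 (iv F141738) (iv F150875)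
def n34328 : Q := act 8 n32455
theorem D34328 : act 8 n32455 = n34328 := rfl
theorem F159309 : act 1 n34328 = n32840 := d15_1 D34328 (iv F159295) F159292
theorem F159310 : act 2 n34328 = n32460 := d22_1 D34328 (iv D32460) (iv F150873)
theorem F159311 : act 3 n34328 = n32586 := d28_1 D34328 (iv D32586) (iv F150874)
theorem F159312 : act 5 n34328 = n32497 := d37_1 D34328 (iv D32497) F141821 (iv F141739) (iv F150875)
theorem F159313 : act 7 n34328 = n32456 := d42_1 D34328 (iv D32456) D32455
theorem F159314 : act 9 n32800 = n34328 := d43_0 F159313 (iv F150880) (iv F152065)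
def n34329 : Q := act 6 n32457
theorem D34329 : act 6 n32457 = n34329 := rfl
theorem F159315 : act 4 n34329 = n32459 := d31_1 D34329 (iv D32459) (iv F150881)
def n34330 : Q := act 8 n32457
theorem D34330 : act 8 n32457 = n34330 := rfl
theorem F159316 : act 4 n34330 = n32460 := d33_1 D34330 (iv D32460) (iv F150881)
theorem F159317 : act 7 n34330 = n32458 := d42_1 D34330 (iv D32458) D32457
def n34331 : Q := act 5 n32458
theorem D34331 : act 5 n32458 = n34331 := rfl
theorem F159318 : act 4 n34331 = n32500 := d30_1 D34331 (iv D32500) F141832 (iv F141743) (iv F150882)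
def n34332 : Q := act 9 n32458
theorem D34332 : act 9 n32458 = n34332 := rfl
theorem F159319 : act 2 n34332 = n32775 := d23_1 D34332 F159305 F159302
theorem F159320 : act 4 n34332 = n32461 := d34_1 D34332 (iv D32461) (iv F150882)
def n34333 : Q := act 8 n32459
theorem D34333 : act 8 n32459 = n34333 := rfl
theorem F159321 : act 3 n34333 = n32462 := d28_1 D34333 (iv D32462) (iv F150883)
theorem F159322 : act 6 n34333 = n32460 := d40_1 D34333 (iv D32460) D32459
def n34334 : Q := act 9 n32460
theorem D34334 : act 9 n32460 = n34334 := rfl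
theorem F159323 : act 2 n34334 = n32800 := d23_1 D34334 F159314 F159310
theorem F159324 : act 3 n34334 = n32463 := d29_1 D34334 (iv D32463) (iv F150885)
theorem F159325 : act 5 n34334 = n32502 := d38_1 D34334 (iv D32502) (iv F150886)
theorem F159326 : act 7 n34334 = n32461 := d43_1 D34334 (iv D32461) (iv F150887)
def n34335 : Q := act 5 n32462
theorem D34335 : act 5 n32462 = n34335 := rfl
theorem F159327 : act 2 n34335 = n32589 := d19_1 D34335 (iv D32589) (iv F150891)
theorem F159328 : act 6 n34335 = n32503 := d35_2 (iv F150892) D34335 (iv D32503) F141846 (iv F141747)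
theorem F159329 : act 8 n34335 = n32494 := d37_2 D32462 D34335 (iv D32494) (iv D30486) (iv F141745)
def n34336 : Q := act 9 n32462
theorem D34336 : act 9 n32462 = n34336 := rfl
theorem F159330 : act 2 n34336 = n32590 := d23_1 D34336 (iv D32590) (iv F150891)
theorem F159331 : act 6 n34336 = n32463 := d41_1 D34336 (iv D32463) (iv F150892)
def n34337 : Q := act 5 n32464
theorem D34337 : act 5 n32464 = n34337 := rfl
theorem F159332 : act 0 n34337 = n32465 := d4_1 D34337 (iv D32465) (iv F150896)
theorem F159333 : act 3 n34337 = n32591 := d25_1 D34337 (iv D32591) (iv F150897)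
theorem F159334 : act 9 n34337 = n32477 := d38_2 (iv F150899) D34337 (iv D32477)
def n34338 : Q := act 7 n32464
theorem D34338 : act 7 n32464 = n34338 := rfl
theorem F159335 : act 0 n34338 = n32466 := d6_1 D34338 (iv D32466) (iv F150896)
theorem F159336 : act 3 n34338 = n32592 := d27_1 D34338 (iv D32592) (iv F150897)
theorem F159337 : act 8 n34338 = n34338 := d42_2 F150898 D34338 (iv D34338)
theorem F159338 : act 9 n34338 = n32478 := d43_2 (iv F150899) D34338 (iv D32478)
def n34339 : Q := act 4 n32465
theorem D34339 : act 4 n32465 = n34339 := rfl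
theorem F159339 : act 1 n34339 = n32467 := d11_1 D34339 (iv D32467) (iv F150900)
theorem F159340 : act 9 n34339 = n32479 := d34_2 (iv F150902) D34339 (iv D32479)
def n34340 : Q := act 7 n32465
theorem D34340 : act 7 n32465 = n34340 := rfl
theorem F159341 : act 1 n34340 = n32468 := d14_1 D34340 (iv D32468) (iv F150900)
theorem F159342 : act 3 n34340 = n32593 := d27_1 D34340 (iv D32593) (iv F150901)
theorem F159343 : act 5 n34340 = n32466 := d36_1 D34340 (iv D32466) D32465
theorem F159344 : act 9 n34340 = n32480 := d43_2 (iv F150902) D34340 (iv D32480)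
def n34341 : Q := act 8 n32465
theorem D34341 : act 8 n32465 = n34341 := rfl
theorem F159345 : act 1 n34341 = n32469 := d15_1 D34341 (iv D32469) (iv F150900)
theorem F159346 : act 2 n34341 = n32805 := d22_1 D34341 F159003 F158999
theorem F159347 : act 3 n34341 = n32544 := d28_1 D34341 (iv F151180) (iv F150901)
theorem F159348 : act 5 n34341 = n34341 := d37_1 D34341 (iv D34341) (iv D32465) F141756 D32465
theorem F159349 : act 6 n34341 = n32594 := d40_1 D34341 (iv F158938) F158937
theorem F159350 : act 9 n32557 = n34341 := d41_0 F159349 F151404 (iv F151241)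
def n34342 : Q := act 3 n32467
theorem D34342 : act 3 n32467 = n34342 := rfl
theorem F159351 : act 2 n34342 = n32761 := d17_1 D34342 (iv D32761) F142824 (iv F141765) (iv F150907)
theorem F159352 : act 4 n34342 = n32594 := d24_2 D32467 D34342 (iv D32594) (iv D30581) (iv F141759)
theorem F159353 : act 9 n34342 = n32482 := d29_2 (iv F150908) D34342 (iv D32482)
def n34343 : Q := act 7 n32467
theorem D34343 : act 7 n32467 = n34343 := rfl
theorem F159354 : act 2 n34343 = n32470 := d21_1 D34343 (iv D32470) (iv F150907)
theorem F159355 : act 4 n34343 = n32468 := d32_1 D34343 (iv D32468) D32467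
theorem F159356 : act 9 n34343 = n32483 := d43_2 (iv F150908) D34343 (iv D32483)
def n34344 : Q := act 8 n32467
theorem D34344 : act 8 n32467 = n34344 := rfl
theorem F159357 : act 2 n34344 = n32471 := d22_1 D34344 (iv D32471) (iv F150907)
theorem F159358 : act 4 n34344 = n32469 := d33_1 D34344 (iv D32469) D32467
def n34345 : Q := act 6 n32468
theorem D34345 : act 6 n32468 = n34345 := rfl
theorem F159359 : act 2 n34345 = n32472 := d20_1 D34345 (iv D32472) (iv F150909)
theorem F159360 : act 3 n34345 = n32596 := d26_1 D34345 (iv D32596) (iv F150910)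
theorem F159361 : act 9 n34345 = n32485 := d41_2 (iv F150912) D34345 (iv D32485)
def n34346 : Q := act 8 n32468
theorem D34346 : act 8 n32468 = n34346 := rfl
theorem F159362 : act 2 n34346 = n32473 := d22_1 D34346 (iv D32473) (iv F150909)
theorem F159363 : act 3 n34346 = n32597 := d28_1 D34346 (iv D32597) (iv F150910)
theorem F159364 : act 5 n34346 = n34346 := d37_1 D34346 (iv D34346) F150911 F141763 (iv F150911)
theorem F159365 : act 7 n34346 = n32469 := d42_1 D34346 (iv D32469) D32468
def n34347 : Q := act 9 n32469
theorem D34347 : act 9 n32469 = n34347 := rfl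
theorem F159366 : act 1 n34347 = n32557 := d16_1 D34347 F159350 F159345
theorem F159367 : act 2 n34347 = n32474 := d23_1 D34347 (iv D32474) (iv F150913)
theorem F159368 : act 3 n34347 = n32554 := d29_1 D34347 F151228 (iv F150914)
theorem F159369 : act 5 n34347 = n34347 := d38_1 D34347 (iv D34347) F150915
theorem F159370 : act 6 n34347 = n32607 := d41_1 D34347 F158958 F158957
theorem F159371 : act 8 n34347 = n32487 := d44_1 D34347 (iv D32487) (iv D30480) (iv F141760) D32469
def n34348 : Q := act 6 n32470
theorem D34348 : act 6 n32470 = n34348 := rfl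
theorem F159372 : act 3 n34348 = n32767 := d26_1 D34348 (iv D32767) (iv F150916)
theorem F159373 : act 4 n34348 = n32472 := d31_1 D34348 (iv D32472) (iv F150917)
theorem F159374 : act 9 n34348 = n32488 := d41_2 (iv F150918) D34348 (iv D32488)
def n34349 : Q := act 8 n32470
theorem D34349 : act 8 n32470 = n34349 := rfl
theorem F159375 : act 3 n34349 = n32768 := d28_1 D34349 (iv D32768) (iv F150916)
theorem F159376 : act 4 n34349 = n32473 := d33_1 D34349 (iv D32473) (iv F150917)
theorem F159377 : act 7 n34349 = n32471 := d42_1 D34349 (iv D32471) D32470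
def n34350 : Q := act 5 n32471
theorem D34350 : act 5 n32471 = n34350 := rfl
theorem F159378 : act 3 n34350 = n32769 := d25_1 D34350 (iv D32769) (iv F150919)
theorem F159379 : act 4 n34350 = n34350 := d30_1 D34350 (iv D34350) F150920 F141771 (iv F150920)
def n34351 : Q := act 9 n32471
theorem D34351 : act 9 n32471 = n34351 := rfl
theorem F159380 : act 3 n34351 = n32770 := d29_1 D34351 (iv D32770) (iv F150919)
theorem F159381 : act 4 n34351 = n32474 := d34_1 D34351 (iv D32474) (iv F150920)
theorem F159382 : act 8 n34351 = n32491 := d44_1 D34351 (iv D32491) (iv D30482) (iv F141766) D32471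
def n34352 : Q := act 8 n32472
theorem D34352 : act 8 n32472 = n34352 := rfl
theorem F159383 : act 3 n34352 = n32475 := d28_1 D34352 (iv D32475) (iv F150921)
theorem F159384 : act 6 n34352 = n32473 := d40_1 D34352 (iv D32473) D32472
def n34353 : Q := act 9 n32473
theorem D34353 : act 9 n32473 = n34353 := rfl
theorem F159385 : act 3 n34353 = n32476 := d29_1 D34353 (iv D32476) (iv F150923)
theorem F159386 : act 5 n34353 = n34353 := d38_1 D34353 (iv D34353) F150924
theorem F159387 : act 7 n34353 = n32474 := d43_1 D34353 (iv D32474) (iv F150925)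
theorem F159388 : act 8 n34353 = n32493 := d44_1 D34353 (iv D32493) (iv D30484) (iv F141769) D32473
def n34354 : Q := act 5 n32475
theorem D34354 : act 5 n32475 = n34354 := rfl
theorem F159389 : act 2 n34354 = n32602 := d19_1 D34354 (iv D32602) (iv F150929)
theorem F159390 : act 6 n34354 = n34354 := d35_2 (iv F150931) D34354 (iv D34354) F150931 F141777
def n34355 : Q := act 9 n32475
theorem D34355 : act 9 n32475 = n34355 := rfl
theorem F159391 : act 2 n34355 = n32603 := d23_1 D34355 (iv D32603) (iv F150929)
theorem F159392 : act 4 n34355 = n32774 := d34_1 D34355 (iv D32774) (iv F150930)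
theorem F159393 : act 6 n34355 = n32476 := d41_1 D34355 (iv D32476) (iv F150931)
theorem F159394 : act 8 n34355 = n32495 := d44_1 D34355 (iv D32495) (iv D30486) (iv F141774) D32475
def n34356 : Q := act 4 n32477
theorem D34356 : act 4 n32477 = n34356 := rfl
theorem F159395 : act 0 n34356 = n32479 := d3_1 D34356 (iv D32479) (iv F150937)
def n34357 : Q := act 7 n32477
theorem D34357 : act 7 n32477 = n34357 := rfl
theorem F159396 : act 0 n34357 = n32480 := d6_1 D34357 (iv D32480) (iv F150937)
theorem F159397 : act 3 n34357 = n32605 := d27_1 D34357 (iv D32605) (iv F150938)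
theorem F159398 : act 5 n34357 = n32478 := d36_1 D34357 (iv D32478) D32477
def n34358 : Q := act 8 n32477
theorem D34358 : act 8 n32477 = n34358 := rfl
theorem F159399 : act 0 n34358 = n32481 := d7_1 D34358 (iv D32481) (iv F150937)
theorem F159400 : act 3 n34358 = n32606 := d28_1 D34358 (iv D32606) (iv F150938)
theorem F159401 : act 5 n34358 = n32506 := d37_1 D34358 (iv D32506) (iv D30498) (iv F141785) D32477
def n34359 : Q := act 3 n32479
theorem D34359 : act 3 n32479 = n34359 := rfl
theorem F159402 : act 1 n34359 = n32482 := d10_1 D34359 (iv D32482) (iv F150942)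
theorem F159403 : act 4 n34359 = n32607 := d24_2 D32479 D34359 (iv D32607) (iv D30593) (iv F141787)
def n34360 : Q := act 7 n32479
theorem D34360 : act 7 n32479 = n34360 := rfl
theorem F159404 : act 1 n34360 = n32483 := d14_1 D34360 (iv D32483) (iv F150942)
theorem F159405 : act 4 n34360 = n32480 := d32_1 D34360 (iv D32480) D32479
def n34361 : Q := act 8 n32479
theorem D34361 : act 8 n32479 = n34361 := rfl
theorem F159406 : act 1 n34361 = n32484 := d15_1 D34361 (iv D32484) (iv F150942)
theorem F159407 : act 4 n34361 = n32481 := d33_1 D34361 (iv D32481) D32479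
def n34362 : Q := act 6 n32480
theorem D34362 : act 6 n32480 = n34362 := rfl
theorem F159408 : act 1 n34362 = n32485 := d13_1 D34362 (iv D32485) (iv F150943)
theorem F159409 : act 3 n34362 = n32609 := d26_1 D34362 (iv D32609) (iv F150944)
def n34363 : Q := act 8 n32480
theorem D34363 : act 8 n32480 = n34363 := rfl
theorem F159410 : act 1 n34363 = n32486 := d15_1 D34363 (iv D32486) (iv F150943)
theorem F159411 : act 3 n34363 = n32610 := d28_1 D34363 (iv D32610) (iv F150944)
theorem F159412 : act 5 n34363 = n32510 := d37_1 D34363 (iv D32510) F141865 (iv F141790) (iv F150945)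
theorem F159413 : act 7 n34363 = n32481 := d42_1 D34363 (iv D32481) D32480
def n34364 : Q := act 9 n32481
theorem D34364 : act 9 n32481 = n34364 := rfl
theorem F159414 : act 1 n34364 = n32487 := d16_1 D34364 (iv D32487) (iv F150946)
theorem F159415 : act 2 n34364 = n32819 := d23_1 D34364 (iv F159063) F159059
theorem F159416 : act 3 n34364 = n32559 := d29_1 D34364 F151249 (iv F150947)
theorem F159417 : act 5 n34364 = n32511 := d38_1 D34364 (iv D32511) (iv F150948)
theorem F159418 : act 6 n34364 = n32612 := d41_1 D34364 (iv F159214) F159213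
theorem F159419 : act 8 n34364 = n32557 := d44_1 D34364 F159350 (iv D34341) F150902 D32481
def n34365 : Q := act 7 n32482
theorem D34365 : act 7 n32482 = n34365 := rfl
theorem F159420 : act 2 n34365 = n32778 := d21_1 D34365 (iv D32778) (iv F150949)
theorem F159421 : act 3 n34365 = n32483 := d27_1 D34365 (iv D32483) D32482
theorem F159422 : act 4 n34365 = n32611 := d32_1 D34365 (iv D32611) (iv F150950)
def n34366 : Q := act 8 n32482
theorem D34366 : act 8 n32482 = n34366 := rfl
theorem F159423 : act 2 n34366 = n32779 := d22_1 D34366 (iv D32779) (iv F150949)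
theorem F159424 : act 3 n34366 = n32484 := d28_1 D34366 (iv D32484) D32482
theorem F159425 : act 4 n34366 = n32612 := d33_1 D34366 (iv D32612) (iv F150950)
def n34367 : Q := act 6 n32483
theorem D34367 : act 6 n32483 = n34367 := rfl
theorem F159426 : act 2 n34367 = n32488 := d20_1 D34367 (iv D32488) (iv F150951)
theorem F159427 : act 4 n34367 = n32485 := d31_1 D34367 (iv D32485) (iv F150952)
def n34368 : Q := act 8 n32483
theorem D34368 : act 8 n32483 = n34368 := rfl
theorem F159428 : act 2 n34368 = n32489 := d22_1 D34368 (iv D32489) (iv F150951)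
theorem F159429 : act 4 n34368 = n32486 := d33_1 D34368 (iv D32486) (iv F150952)
theorem F159430 : act 7 n34368 = n32484 := d42_1 D34368 (iv D32484) D32483
def n34369 : Q := act 5 n32484
theorem D34369 : act 5 n32484 = n34369 := rfl
theorem F159431 : act 2 n34369 = n32490 := d19_1 D34369 (iv D32490) (iv F150953)
theorem F159432 : act 4 n34369 = n32514 := d30_1 D34369 (iv D32514) F141876 (iv F141797) (iv F150954)
def n34370 : Q := act 9 n32484
theorem D34370 : act 9 n32484 = n34370 := rfl
theorem F159433 : act 2 n34370 = n32491 := d23_1 D34370 (iv D32491) (iv F150953)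
theorem F159434 : act 4 n34370 = n32487 := d34_1 D34370 (iv D32487) (iv F150954)
def n34371 : Q := act 8 n32485
theorem D34371 : act 8 n32485 = n34371 := rfl
theorem F159435 : act 2 n34371 = n32492 := d22_1 D34371 (iv D32492) (iv F150955)
theorem F159436 : act 3 n34371 = n32615 := d28_1 D34371 (iv D32615) (iv F150956)
theorem F159437 : act 6 n34371 = n32486 := d40_1 D34371 (iv D32486) D32485
def n34372 : Q := act 9 n32486
theorem D34372 : act 9 n32486 = n34372 := rfl
theorem F159438 : act 2 n34372 = n32493 := d23_1 D34372 (iv D32493) (iv F150957)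
theorem F159439 : act 3 n34372 = n32616 := d29_1 D34372 (iv D32616) (iv F150958)
theorem F159440 : act 5 n34372 = n32516 := d38_1 D34372 (iv D32516) (iv F150959)
theorem F159441 : act 7 n34372 = n32487 := d43_1 D34372 (iv D32487) (iv F150960)
def n34373 : Q := act 5 n32488
theorem D34373 : act 5 n32488 = n34373 := rfl
theorem F159442 : act 3 n34373 = n32786 := d25_1 D34373 (iv D32786) (iv F150964)
def n34374 : Q := act 8 n32488
theorem D34374 : act 8 n32488 = n34374 := rfl
theorem F159443 : act 3 n34374 = n32787 := d28_1 D34374 (iv D32787) (iv F150964)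
theorem F159444 : act 4 n34374 = n32492 := d33_1 D34374 (iv D32492) (iv F150965)
theorem F159445 : act 6 n34374 = n32489 := d40_1 D34374 (iv D32489) D32488
def n34375 : Q := act 5 n32489
theorem D34375 : act 5 n32489 = n34375 := rfl
theorem F159446 : act 3 n34375 = n32788 := d25_1 D34375 (iv D32788) (iv F150966)
theorem F159447 : act 4 n34375 = n32519 := d30_1 D34375 (iv D32519) F141894 (iv F141804) (iv F150967)
theorem F159448 : act 7 n34375 = n32490 := d36_2 (iv F150968) D34375 (iv D32490)
def n34376 : Q := act 9 n32489
theorem D34376 : act 9 n32489 = n34376 := rfl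
theorem F159449 : act 3 n34376 = n32789 := d29_1 D34376 (iv D32789) (iv F150966)
theorem F159450 : act 4 n34376 = n32493 := d34_1 D34376 (iv D32493) (iv F150967)
theorem F159451 : act 7 n34376 = n32491 := d43_1 D34376 (iv D32491) (iv F150968)
def n34377 : Q := act 6 n32490
theorem D34377 : act 6 n32490 = n34377 := rfl
theorem F159452 : act 3 n34377 = n32790 := d26_1 D34377 (iv D32790) (iv F150969)
theorem F159453 : act 4 n34377 = n32520 := d31_1 D34377 (iv D32520) (iv F150970)
def n34378 : Q := act 5 n32492
theorem D34378 : act 5 n32492 = n34378 := rfl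
theorem F159454 : act 3 n34378 = n32494 := d25_1 D34378 (iv D32494) (iv F150973)
theorem F159455 : act 6 n34378 = n32521 := d35_2 (iv F150974) D34378 (iv D32521) F141898 (iv F141804)
def n34379 : Q := act 9 n32492
theorem D34379 : act 9 n32492 = n34379 := rfl
theorem F159456 : act 3 n34379 = n32495 := d29_1 D34379 (iv D32495) (iv F150973)
theorem F159457 : act 6 n34379 = n32493 := d41_1 D34379 (iv D32493) (iv F150974)
def n34380 : Q := act 4 n32494
theorem D34380 : act 4 n32494 = n34380 := rfl
theorem F159458 : act 1 n34380 = n32855 := d11_1 D34380 (iv F159090) F159088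
theorem F159459 : act 2 n34380 = n32622 := d18_1 D34380 (iv D32622) (iv F150978)
theorem F159460 : act 5 n34380 = n32792 := d30_2 D32494 D34380 (iv D32792) (iv D30782) (iv F141809)
theorem F159461 : act 6 n34380 = n32523 := d31_2 (iv F150979) D34380 (iv D32523)
def n34381 : Q := act 9 n32494
theorem D34381 : act 9 n32494 = n34381 := rfl
theorem F159462 : act 2 n34381 = n32623 := d23_1 D34381 (iv D32623) (iv F150978)
theorem F159463 : act 5 n34381 = n32495 := d38_1 D34381 (iv D32495) D32494
theorem F159464 : act 6 n34381 = n32524 := d41_1 D34381 (iv D32524) (iv F150979)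
def n34382 : Q := act 8 n32496
theorem D34382 : act 8 n32496 = n34382 := rfl
theorem F159465 : act 1 n34382 = n32872 := d15_1 D34382 (iv F158885) F158880
theorem F159466 : act 2 n34382 = n32501 := d22_1 D34382 (iv D32501) (iv F150983)
theorem F159467 : act 3 n34382 = n32530 := d28_1 D34382 (iv F151104) (iv F150984)
theorem F159468 : act 6 n34382 = n32497 := d40_1 D34382 (iv D32497) D32496
theorem F159469 : act 7 n34382 = n34382 := d42_1 D34382 (iv D34382) F150986
theorem F159470 : act 9 n32529 = n34382 := d41_0 F159468 (iv F150992) (iv F151096)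
def n34383 : Q := act 8 n32498
theorem D34383 : act 8 n32498 = n34383 := rfl
theorem F159471 : act 3 n34383 = n34383 := d28_1 D34383 (iv D34383) F150993
theorem F159472 : act 4 n34383 = n32501 := d33_1 D34383 (iv D32501) (iv F150994)
theorem F159473 : act 6 n34383 = n32499 := d40_1 D34383 (iv D32499) D32498
theorem F159474 : act 7 n34383 = n34383 := d42_1 D34383 (iv D34383) F150995
def n34384 : Q := act 5 n32499
theorem D34384 : act 5 n32499 = n34384 := rfl
theorem F159475 : act 3 n34384 = n34384 := d25_1 D34384 (iv D34384) F150997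
theorem F159476 : act 7 n34384 = n32500 := d36_2 (iv F150999) D34384 (iv D32500)
def n34385 : Q := act 6 n32500
theorem D34385 : act 6 n32500 = n34385 := rfl
theorem F159477 : act 2 n34385 = n32700 := d20_1 D34385 (iv F154213) F154210
theorem F159478 : act 3 n34385 = n34385 := d26_1 D34385 (iv D34385) F151000
theorem F159479 : act 5 n34385 = n34385 := d35_1 D34385 (iv D34385) (iv D32500) F141833 D32500
theorem F159480 : act 8 n34385 = n32696 := d40_2 F154188 D34385 (iv F154187)
def n34386 : Q := act 5 n32501
theorem D34386 : act 5 n32501 = n34386 := rfl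
theorem F159481 : act 3 n34386 = n32503 := d25_1 D34386 (iv D32503) (iv F151001)
theorem F159482 : act 7 n34386 = n34386 := d36_2 F151003 D34386 (iv D34386)
theorem F159483 : act 8 n34386 = n32521 := d37_2 D32501 D34386 (iv D32521) (iv D30511) (iv F141835)
def n34387 : Q := act 9 n32501
theorem D34387 : act 9 n32501 = n34387 := rfl
theorem F159484 : act 2 n34387 = n32529 := d23_1 D34387 F159470 F159466
theorem F159485 : act 3 n34387 = n32504 := d29_1 D34387 (iv D32504) (iv F151001)
theorem F159486 : act 6 n34387 = n32502 := d41_1 D34387 (iv D32502) (iv F151002)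
theorem F159487 : act 7 n34387 = n34387 := d43_1 D34387 (iv D34387) F151003
theorem F159488 : act 8 n34387 = n34387 := d44_1 D34387 (iv D34387) (iv D32501) F141837 D32501
def n34388 : Q := act 4 n32503
theorem D34388 : act 4 n32503 = n34388 := rfl
theorem F159489 : act 1 n34388 = n32876 := d11_1 D34388 F159126 F159122
theorem F159490 : act 2 n34388 = n32625 := d18_1 D34388 (iv D32625) (iv F151008)
theorem F159491 : act 5 n34388 = n34388 := d30_2 D32503 D34388 (iv D34388) (iv D32503) F141845
theorem F159492 : act 7 n34388 = n34388 := d32_2 F151009 D34388 (iv D34388)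
theorem F159493 : act 8 n34388 = n32523 := d33_2 (iv F151010) D34388 (iv D32523)
def n34389 : Q := act 9 n32503
theorem D34389 : act 9 n32503 = n34389 := rfl
theorem F159494 : act 2 n34389 = n32626 := d23_1 D34389 (iv D32626) (iv F151008)
theorem F159495 : act 5 n34389 = n32504 := d38_1 D34389 (iv D32504) D32503
theorem F159496 : act 7 n34389 = n34389 := d43_1 D34389 (iv D34389) F151009
def n34390 : Q := act 8 n32505
theorem D34390 : act 8 n32505 = n34390 := rfl
theorem F159497 : act 0 n34390 = n32510 := d7_1 D34390 (iv D32510) (iv F151016)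
theorem F159498 : act 3 n34390 = n32627 := d28_1 D34390 (iv D32627) (iv F151017)
theorem F159499 : act 7 n34390 = n32506 := d42_1 D34390 (iv D32506) D32505
def n34391 : Q := act 9 n32506
theorem D34391 : act 9 n32506 = n34391 := rfl
theorem F159500 : act 0 n34391 = n32511 := d8_1 D34391 (iv D32511) (iv F151020)
theorem F159501 : act 3 n34391 = n32628 := d29_1 D34391 (iv D32628) (iv F151021)
theorem F159502 : act 6 n34391 = n34391 := d41_1 D34391 (iv D34391) F151022
theorem F159503 : act 8 n34391 = n34391 := d44_1 D34391 (iv D34391) (iv D32506) F141855 D32506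
def n34392 : Q := act 6 n32507
theorem D34392 : act 6 n32507 = n34392 := rfl
theorem F159504 : act 1 n34392 = n32512 := d13_1 D34392 (iv D32512) (iv F151023)
theorem F159505 : act 3 n34392 = n34392 := d26_1 D34392 (iv D34392) F151024
theorem F159506 : act 4 n34392 = n32509 := d31_1 D34392 (iv D32509) (iv F151025)
theorem F159507 : act 7 n34392 = n34392 := d39_2 D32507 D34392 (iv D34392) (iv D32507) F141861
theorem F159508 : act 9 n34392 = n34392 := d41_2 F151026 D34392 (iv D34392)
def n34393 : Q := act 8 n32507
theorem D34393 : act 8 n32507 = n34393 := rfl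
theorem F159509 : act 1 n34393 = n32513 := d15_1 D34393 (iv D32513) (iv F151023)
theorem F159510 : act 3 n34393 = n34393 := d28_1 D34393 (iv D34393) F151024
theorem F159511 : act 4 n34393 = n32510 := d33_1 D34393 (iv D32510) (iv F151025)
theorem F159512 : act 7 n34393 = n32508 := d42_1 D34393 (iv D32508) D32507
def n34394 : Q := act 5 n32508
theorem D34394 : act 5 n32508 = n34394 := rfl
theorem F159513 : act 1 n34394 = n32514 := d12_1 D34394 (iv D32514) (iv F151027)
theorem F159514 : act 3 n34394 = n34394 := d25_1 D34394 (iv D34394) F151028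
def n34395 : Q := act 8 n32509
theorem D34395 : act 8 n32509 = n34395 := rfl
theorem F159515 : act 1 n34395 = n32515 := d15_1 D34395 (iv D32515) (iv F151031)
theorem F159516 : act 3 n34395 = n32629 := d28_1 D34395 (iv D32629) (iv F151032)
theorem F159517 : act 6 n34395 = n32510 := d40_1 D34395 (iv D32510) D32509
theorem F159518 : act 7 n34395 = n34395 := d42_1 D34395 (iv D34395) F151033
def n34396 : Q := act 9 n32510
theorem D34396 : act 9 n32510 = n34396 := rfl
theorem F159519 : act 1 n34396 = n32516 := d16_1 D34396 (iv D32516) (iv F151035)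
theorem F159520 : act 3 n34396 = n32630 := d29_1 D34396 (iv D32630) (iv F151036)
theorem F159521 : act 7 n34396 = n32511 := d43_1 D34396 (iv D32511) (iv F151037)
theorem F159522 : act 8 n34396 = n34396 := d44_1 D34396 (iv D34396) (iv D32510) F141866 D32510
def n34397 : Q := act 8 n32512
theorem D34397 : act 8 n32512 = n34397 := rfl
theorem F159523 : act 2 n34397 = n32518 := d22_1 D34397 (iv D32518) (iv F151042)
theorem F159524 : act 3 n34397 = n34397 := d28_1 D34397 (iv D34397) F151043
theorem F159525 : act 4 n34397 = n32515 := d33_1 D34397 (iv D32515) (iv F151044)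
theorem F159526 : act 6 n34397 = n32513 := d40_1 D34397 (iv D32513) D32512
theorem F159527 : act 7 n34397 = n34397 := d42_1 D34397 (iv D34397) F151045
def n34398 : Q := act 5 n32513
theorem D34398 : act 5 n32513 = n34398 := rfl
theorem F159528 : act 2 n34398 = n32519 := d19_1 D34398 (iv D32519) (iv F151047)
theorem F159529 : act 3 n34398 = n34398 := d25_1 D34398 (iv D34398) F151048
theorem F159530 : act 7 n34398 = n32514 := d36_2 (iv F151050) D34398 (iv D32514)
def n34399 : Q := act 6 n32514
theorem D34399 : act 6 n32514 = n34399 := rfl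
theorem F159531 : act 2 n34399 = n32520 := d20_1 D34399 (iv D32520) (iv F151051)
theorem F159532 : act 3 n34399 = n34399 := d26_1 D34399 (iv D34399) F151052
theorem F159533 : act 5 n34399 = n34399 := d35_1 D34399 (iv D34399) (iv D32514) F141877 D32514
def n34400 : Q := act 5 n32515
theorem D34400 : act 5 n32515 = n34400 := rfl
theorem F159534 : act 2 n34400 = n32521 := d19_1 D34400 (iv D32521) (iv F151053)
theorem F159535 : act 3 n34400 = n32631 := d25_1 D34400 (iv D32631) (iv F151054)
theorem F159536 : act 7 n34400 = n34400 := d36_2 F151056 D34400 (iv D34400)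
def n34401 : Q := act 9 n32515
theorem D34401 : act 9 n32515 = n34401 := rfl
theorem F159537 : act 2 n34401 = n32522 := d23_1 D34401 (iv D32522) (iv F151053)
theorem F159538 : act 3 n34401 = n32632 := d29_1 D34401 (iv D32632) (iv F151054)
theorem F159539 : act 6 n34401 = n32516 := d41_1 D34401 (iv D32516) (iv F151055)
theorem F159540 : act 7 n34401 = n34401 := d43_1 D34401 (iv D34401) F151056
theorem F159541 : act 8 n34401 = n34401 := d44_1 D34401 (iv D34401) (iv D32515) F141881 D32515
def n34402 : Q := act 8 n32517
theorem D34402 : act 8 n32517 = n34402 := rfl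
theorem F159542 : act 3 n34402 = n32525 := d28_1 D34402 (iv D32525) (iv F151061)
theorem F159543 : act 7 n34402 = n34402 := d42_1 D34402 (iv D34402) F151062
def n34403 : Q := act 5 n32518
theorem D34403 : act 5 n32518 = n34403 := rfl
theorem F159544 : act 3 n34403 = n32526 := d25_1 D34403 (iv D32526) (iv F151064)
theorem F159545 : act 7 n34403 = n34403 := d36_2 F151067 D34403 (iv D34403)
def n34404 : Q := act 6 n32519
theorem D34404 : act 6 n32519 = n34404 := rfl
theorem F159546 : act 3 n34404 = n32527 := d26_1 D34404 (iv D32527) (iv F151068)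
def n34405 : Q := act 7 n32520
theorem D34405 : act 7 n32520 = n34405 := rfl
theorem F159547 : act 3 n34405 = n32528 := d27_1 D34405 (iv D32528) (iv F151070)
theorem F159548 : act 5 n34405 = n34405 := d36_1 D34405 (iv D34405) F151071
def n34406 : Q := act 4 n32521
theorem D34406 : act 4 n32521 = n34406 := rfl
theorem F159549 : act 7 n34406 = n34406 := d32_2 F151073 D34406 (iv D34406)
def n34407 : Q := act 9 n32521
theorem D34407 : act 9 n32521 = n34407 := rfl
theorem F159550 : act 3 n34407 = n32524 := d29_1 D34407 (iv D32524) (iv F151072)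
theorem F159551 : act 5 n34407 = n32522 := d38_1 D34407 (iv D32522) D32521
theorem F159552 : act 7 n34407 = n34407 := d43_1 D34407 (iv D34407) F151073
def n34408 : Q := act 3 n32523
theorem D34408 : act 3 n32523 = n34408 := rfl
theorem F159553 : act 1 n34408 = n32875 := d10_1 D34408 F152327 (iv F151078)
theorem F159554 : act 5 n34408 = n32529 := d25_2 (iv F151080) D34408 (iv D32529)
theorem F159555 : act 7 n34408 = n34408 := d27_2 F151081 D34408 (iv D34408)
def n34409 : Q := act 9 n32523
theorem D34409 : act 9 n32523 = n34409 := rfl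
theorem F159556 : act 1 n34409 = n32873 := d16_1 D34409 F152323 (iv F151078)
theorem F159557 : act 2 n34409 = n32624 := d23_1 D34409 F151507 (iv F151079)
theorem F159558 : act 4 n34409 = n32524 := d34_1 D34409 (iv D32524) D32523
theorem F159559 : act 5 n34409 = n32530 := d38_1 D34409 (iv D32530) (iv F151080)
theorem F159560 : act 7 n34409 = n34409 := d43_1 D34409 (iv D34409) F151081
theorem F159561 : act 8 n32631 = n34409 := d37_0 F159559 (iv F151104) F142297 D30620 D32631
def n34410 : Q := act 8 n32524
theorem D34410 : act 8 n32524 = n34410 := rfl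
theorem F159562 : act 2 n34410 = n32633 := d22_1 D34410 F151545 (iv F151082)
theorem F159563 : act 4 n34410 = n32631 := d33_1 D34410 F159561 F159558
theorem F159564 : act 5 n34410 = n34410 := d37_1 D34410 (iv D34410) F151083 F141909 (iv F151083)
theorem F159565 : act 7 n34410 = n34410 := d42_1 D34410 (iv D34410) F151084
def n34411 : Q := act 5 n32525
theorem D34411 : act 5 n32525 = n34411 := rfl
theorem F159566 : act 2 n34411 = n34411 := d19_1 D34411 (iv D34411) F151085
theorem F159567 : act 7 n34411 = n34411 := d36_2 F151087 D34411 (iv D34411)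
theorem F159568 : act 8 n34411 = n32526 := d37_2 D32525 D34411 (iv D32526) (iv D30516) D30515
def n34412 : Q := act 6 n32526
theorem D34412 : act 6 n32526 = n34412 := rfl
theorem F159569 : act 2 n34412 = n34412 := d20_1 D34412 (iv D34412) F151088
theorem F159570 : act 5 n34412 = n32527 := d35_1 D34412 (iv D32527) (iv D30517) (iv F141916) D32526
def n34413 : Q := act 7 n32527
theorem D34413 : act 7 n32527 = n34413 := rfl
theorem F159571 : act 2 n34413 = n34413 := d21_1 D34413 (iv D34413) F151090
theorem F159572 : act 4 n34413 = n32801 := d32_1 D34413 (iv D32801) (iv F151091)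
theorem F159573 : act 6 n34413 = n32528 := d39_1 D34413 (iv D32528) (iv D30518) (iv F141920) D32527
def n34414 : Q := act 7 n32531
theorem D34414 : act 7 n32531 = n34414 := rfl
theorem F159574 : act 0 n34414 = n32533 := d6_1 D34414 (iv D32533) (iv F151105)
theorem F159575 : act 2 n34414 = n32962 := d21_1 D34414 (iv D32962) (iv F151106)
theorem F159576 : act 4 n34414 = n34414 := d32_1 D34414 (iv D34414) F151107
theorem F159577 : act 6 n34414 = n32553 := d39_1 D34414 (iv D32553) (iv D30540) (iv F141937) D32531
theorem F159578 : act 8 n34414 = n34414 := d42_2 F151108 D34414 (iv D34414)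
theorem F159579 : act 9 n34414 = n32940 := d43_2 (iv F151109) D34414 (iv D32940)
def n34415 : Q := act 7 n32532
theorem D34415 : act 7 n32532 = n34415 := rfl
theorem F159580 : act 1 n34415 = n32535 := d14_1 D34415 (iv D32535) (iv F151110)
theorem F159581 : act 2 n34415 = n32811 := d21_1 D34415 F152107 (iv F151111)
theorem F159582 : act 4 n34415 = n32808 := d32_1 D34415 F152093 F151114
theorem F159583 : act 5 n34415 = n32533 := d36_1 D34415 (iv D32533) D32532
theorem F159584 : act 8 n34415 = n32806 := d42_2 F151115 D34415 (iv D32806)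
theorem F159585 : act 9 n34415 = n32941 := d43_2 (iv F151113) D34415 (iv D32941)
def n34416 : Q := act 3 n32534
theorem D34416 : act 3 n32534 = n34416 := rfl
theorem F159586 : act 1 n34416 = n32722 := d10_1 D34416 F151858 (iv F151122)
theorem F159587 : act 2 n34416 = n32753 := d17_1 D34416 F151944 F142805 (iv F141954) (iv F151123)
theorem F159588 : act 5 n34416 = n34416 := d25_2 F151124 D34416 (iv D34416)
theorem F159589 : act 6 n34416 = n32583 := d26_2 (iv F151125) D34416 (iv D32583)
theorem F159590 : act 8 n34416 = n32718 := d28_2 F151127 D34416 F151842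
theorem F159591 : act 9 n34416 = n32749 := d29_2 (iv F151126) D34416 F151936
def n34417 : Q := act 7 n32534
theorem D34417 : act 7 n32534 = n34417 := rfl
theorem F159592 : act 1 n34417 = n32808 := d14_1 D34417 F152093 (iv F151122)
theorem F159593 : act 2 n34417 = n32537 := d21_1 D34417 (iv D32537) (iv F151123)
theorem F159594 : act 4 n34417 = n32535 := d32_1 D34417 (iv D32535) D32534
theorem F159595 : act 5 n34417 = n34417 := d36_1 D34417 (iv D34417) F151124
theorem F159596 : act 8 n34417 = n32804 := d42_2 F151127 D34417 (iv D32804)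
theorem F159597 : act 9 n34417 = n32833 := d43_2 (iv F151126) D34417 F152189
def n34418 : Q := act 6 n32535
theorem D34418 : act 6 n32535 = n34418 := rfl
theorem F159598 : act 2 n34418 = n32538 := d20_1 D34418 (iv D32538) (iv F151128)
theorem F159599 : act 5 n34418 = n32560 := d35_1 D34418 (iv D32560) F142043 (iv F141950) (iv F151129)
theorem F159600 : act 7 n34418 = n32585 := d39_2 D32535 D34418 (iv D32585) (iv D30571) (iv F141946)
theorem F159601 : act 9 n34418 = n32942 := d41_2 (iv F151130) D34418 (iv D32942)
def n34419 : Q := act 8 n32535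
theorem D34419 : act 8 n32535 = n34419 := rfl
theorem F159602 : act 1 n34419 = n32806 := d15_1 D34419 (iv F159584) F159580
theorem F159603 : act 2 n34419 = n32539 := d22_1 D34419 (iv D32539) (iv F151128)
theorem F159604 : act 4 n34419 = n32804 := d33_1 D34419 (iv F159596) F159594
theorem F159605 : act 5 n34419 = n34419 := d37_1 D34419 (iv D34419) F151129 F141951 (iv F151129)
theorem F159606 : act 7 n34419 = n32536 := d42_1 D34419 (iv D32536) D32535
theorem F159607 : act 9 n34419 = n32817 := d44_2 (iv F151130) D34419 (iv F153260) F153261 F152184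
def n34420 : Q := act 6 n32537
theorem D34420 : act 6 n32537 = n34420 := rfl
theorem F159608 : act 1 n34420 = n32964 := d13_1 D34420 (iv D32964) (iv F151137)
theorem F159609 : act 3 n34420 = n32837 := d26_1 D34420 F152202 (iv F151138)
theorem F159610 : act 4 n34420 = n32538 := d31_1 D34420 (iv D32538) (iv F151139)
theorem F159611 : act 7 n34420 = n32587 := d39_2 D32537 D34420 (iv D32587) (iv D30573) (iv F141956)
theorem F159612 : act 8 n34420 = n32830 := d40_2 (iv F151141) D34420 F152179
theorem F159613 : act 9 n34420 = n32835 := d41_2 (iv F151142) D34420 F152197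
def n34421 : Q := act 8 n32538
theorem D34421 : act 8 n32538 = n34421 := rfl
theorem F159614 : act 1 n34421 = n32965 := d15_1 D34421 (iv D32965) (iv F151143)
theorem F159615 : act 3 n34421 = n32540 := d28_1 D34421 (iv D32540) (iv F151144)
theorem F159616 : act 4 n34421 = n32830 := d33_1 D34421 (iv F159612) F159610
theorem F159617 : act 6 n34421 = n32539 := d40_1 D34421 (iv D32539) D32538
theorem F159618 : act 7 n34421 = n32588 := d42_1 D34421 (iv D32588) (iv F151146)
theorem F159619 : act 9 n34421 = n32829 := d44_2 (iv F151147) D34421 (iv F153274) F153275 F152193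
def n34422 : Q := act 5 n32540
theorem D34422 : act 5 n32540 = n34422 := rfl
theorem F159620 : act 1 n34422 = n32966 := d12_1 D34422 (iv D32966) (iv F151154)
theorem F159621 : act 6 n34422 = n34422 := d35_2 (iv F151156) D34422 (iv D34422) F151156 F141976
theorem F159622 : act 7 n34422 = n32589 := d36_2 (iv F151157) D34422 (iv D32589)
theorem F159623 : act 8 n34422 = n32567 := d37_2 D32540 D34422 (iv D32567) (iv D30551) (iv F141971)
def n34423 : Q := act 7 n32541
theorem D34423 : act 7 n32541 = n34423 := rfl
theorem F159624 : act 0 n34423 = n32543 := d6_1 D34423 (iv D32543) (iv F151158)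
theorem F159625 : act 2 n34423 = n32956 := d21_1 D34423 (iv D32956) (iv F151159)
theorem F159626 : act 4 n34423 = n34423 := d32_1 D34423 (iv D34423) F151160
theorem F159627 : act 6 n34423 = n32940 := d39_1 D34423 (iv D32940) (iv D30971) (iv F141981) D32541
theorem F159628 : act 8 n34423 = n32943 := d42_2 (iv F151161) D34423 (iv D32943)
theorem F159629 : act 9 n34423 = n32553 := d43_2 (iv F151162) D34423 (iv D32553)
def n34424 : Q := act 7 n32542
theorem D34424 : act 7 n32542 = n34424 := rfl
theorem F159630 : act 1 n34424 = n32545 := d14_1 D34424 (iv D32545) (iv F151163)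
theorem F159631 : act 2 n34424 = n32599 := d21_1 D34424 F151422 (iv F151164)
theorem F159632 : act 4 n34424 = n32597 := d32_1 D34424 F151413 F151168
theorem F159633 : act 5 n34424 = n32543 := d36_1 D34424 (iv D32543) D32542
theorem F159634 : act 8 n34424 = n32595 := d42_2 (iv F151166) D34424 (iv D32595)
theorem F159635 : act 9 n34424 = n32555 := d43_2 (iv F151167) D34424 (iv D32555)
def n34425 : Q := act 7 n32544
theorem D34425 : act 7 n32544 = n34425 := rfl
theorem F159636 : act 1 n34425 = n32597 := d14_1 D34425 F151413 (iv F151175)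
theorem F159637 : act 2 n34425 = n32547 := d21_1 D34425 (iv D32547) (iv F151176)
theorem F159638 : act 4 n34425 = n32545 := d32_1 D34425 (iv D32545) D32544
theorem F159639 : act 5 n34425 = n34425 := d36_1 D34425 (iv D34425) F151177
theorem F159640 : act 8 n34425 = n32593 := d42_2 F151180 D34425 (iv D32593)
theorem F159641 : act 9 n34425 = n32558 := d43_2 (iv F151179) D34425 (iv D32558)
def n34426 : Q := act 6 n32545
theorem D34426 : act 6 n32545 = n34426 := rfl
theorem F159642 : act 2 n34426 = n32548 := d20_1 D34426 (iv D32548) (iv F151181)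
theorem F159643 : act 5 n34426 = n32942 := d35_1 D34426 (iv D32942) F143579 (iv F141994) (iv F151182)
theorem F159644 : act 7 n34426 = n32596 := d39_2 D32545 D34426 (iv D32596) (iv D30582) (iv F141990)
theorem F159645 : act 9 n34426 = n32560 := d41_2 (iv F151183) D34426 (iv D32560)
def n34427 : Q := act 8 n32545
theorem D34427 : act 8 n32545 = n34427 := rfl
theorem F159646 : act 1 n34427 = n32595 := d15_1 D34427 (iv F159634) F159630
theorem F159647 : act 2 n34427 = n32549 := d22_1 D34427 (iv D32549) (iv F151181)
theorem F159648 : act 4 n34427 = n32593 := d33_1 D34427 (iv F159640) F159638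
theorem F159649 : act 5 n34427 = n32644 := d37_1 D34427 F151595 F143592 (iv F141995) (iv F151182)
theorem F159650 : act 7 n34427 = n32546 := d42_1 D34427 (iv D32546) D32545
theorem F159651 : act 9 n32608 = n34427 := d43_0 F159650 (iv F151189) D32608
def n34428 : Q := act 6 n32547
theorem D34428 : act 6 n32547 = n34428 := rfl
theorem F159652 : act 1 n34428 = n32958 := d13_1 D34428 (iv D32958) (iv F151190)
theorem F159653 : act 3 n34428 = n32810 := d26_1 D34428 (iv D32810) (iv F151191)
theorem F159654 : act 4 n34428 = n32548 := d31_1 D34428 (iv D32548) (iv F151192)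
theorem F159655 : act 7 n34428 = n32598 := d39_2 D32547 D34428 (iv D32598) (iv D30584) (iv F142000)
theorem F159656 : act 8 n34428 = n33003 := d40_2 (iv F151194) D34428 (iv D33003)
theorem F159657 : act 9 n34428 = n32563 := d41_2 (iv F151195) D34428 (iv D32563)
def n34429 : Q := act 8 n32548
theorem D34429 : act 8 n32548 = n34429 := rfl
theorem F159658 : act 1 n34429 = n32959 := d15_1 D34429 (iv D32959) (iv F151196)
theorem F159659 : act 3 n34429 = n32550 := d28_1 D34429 (iv D32550) (iv F151197)
theorem F159660 : act 4 n34429 = n33003 := d33_1 D34429 (iv F159656) F159654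
theorem F159661 : act 6 n34429 = n32549 := d40_1 D34429 (iv D32549) D32548
theorem F159662 : act 7 n34429 = n32600 := d42_1 D34429 (iv D32600) (iv F151199)
theorem F159663 : act 9 n33011 = n34429 := d41_0 F159661 (iv F151206) D33011
def n34430 : Q := act 5 n32550
theorem D34430 : act 5 n32550 = n34430 := rfl
theorem F159664 : act 1 n34430 = n32960 := d12_1 D34430 (iv D32960) (iv F151207)
theorem F159665 : act 6 n34430 = n32871 := d35_2 (iv F151209) D34430 F152316 F143612 (iv F142020)
theorem F159666 : act 7 n34430 = n32602 := d36_2 (iv F151210) D34430 (iv D32602)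
theorem F159667 : act 8 n34430 = n32838 := d37_2 D32550 D34430 (iv D32838) F143088 (iv F142015)
theorem F159668 : act 4 n32859 = n34430 := d33_3 F159667 F152204 D32859
def n34431 : Q := act 9 n32550
theorem D34431 : act 9 n32550 = n34431 := rfl
theorem F159669 : act 1 n34431 = n32961 := d16_1 D34431 (iv D32961) (iv F151207)
theorem F159670 : act 3 n34431 = n33011 := d29_1 D34431 F159663 F159659
theorem F159671 : act 4 n34431 = n32815 := d34_1 D34431 (iv D32815) (iv F151208)
theorem F159672 : act 6 n34431 = n32551 := d41_1 D34431 (iv D32551) (iv F151209)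
theorem F159673 : act 7 n34431 = n32603 := d43_1 D34431 (iv D32603) (iv F151210)
theorem F159674 : act 8 n34431 = n32568 := d44_1 D34431 (iv D32568) (iv D30551) (iv F142017) D32550
def n34432 : Q := act 7 n32552
theorem D34432 : act 7 n32552 = n34432 := rfl
theorem F159675 : act 0 n34432 = n32555 := d6_1 D34432 (iv D32555) (iv F151217)
theorem F159676 : act 2 n34432 = n32983 := d21_1 D34432 (iv D32983) (iv F151218)
theorem F159677 : act 5 n34432 = n32553 := d36_1 D34432 (iv D32553) D32552
def n34433 : Q := act 7 n32554
theorem D34433 : act 7 n32554 = n34433 := rfl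
theorem F159678 : act 1 n34433 = n32558 := d14_1 D34433 (iv D32558) (iv F151224)
theorem F159679 : act 2 n34433 = n32601 := d21_1 D34433 F151431 (iv F151225)
theorem F159680 : act 4 n34433 = n32555 := d32_1 D34433 (iv D32555) D32554
theorem F159681 : act 5 n34433 = n34433 := d36_1 D34433 (iv D34433) F151226
theorem F159682 : act 8 n34433 = n32616 := d42_2 F151229 D34433 F151476
theorem F159683 : act 9 n34433 = n32597 := d43_2 (iv F151228) D34433 F151413
def n34434 : Q := act 6 n32555
theorem D34434 : act 6 n32555 = n34434 := rfl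
theorem F159684 : act 1 n34434 = n32560 := d13_1 D34434 (iv D32560) (iv F151230)
theorem F159685 : act 2 n34434 = n32984 := d20_1 D34434 (iv D32984) (iv F151231)
theorem F159686 : act 7 n34434 = n32609 := d39_2 D32555 D34434 (iv D32609) (iv D30594) (iv F142034)
def n34435 : Q := act 8 n32555
theorem D34435 : act 8 n32555 = n34435 := rfl
theorem F159687 : act 1 n34435 = n32561 := d15_1 D34435 (iv D32561) (iv F151230)
theorem F159688 : act 2 n34435 = n32619 := d22_1 D34435 F151489 (iv F151231)
theorem F159689 : act 4 n34435 = n32616 := d33_1 D34435 (iv F159682) F159680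
theorem F159690 : act 5 n34435 = n34435 := d37_1 D34435 (iv D34435) F151232 F142038 (iv F151232)
theorem F159691 : act 7 n34435 = n32556 := d42_1 D34435 (iv D32556) D32555
theorem F159692 : act 9 n34435 = n32614 := d44_2 F159635 D34435 (iv D32614) (iv F151408) (iv F159634)
def n34436 : Q := act 7 n32557
theorem D34436 : act 7 n32557 = n34436 := rfl
theorem F159693 : act 2 n34436 = n32818 := d21_1 D34436 (iv D32818) (iv F151239)
theorem F159694 : act 3 n34436 = n32558 := d27_1 D34436 (iv D32558) D32557
theorem F159695 : act 5 n34436 = n34436 := d36_1 D34436 (iv D34436) F151240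
def n34437 : Q := act 6 n32558
theorem D34437 : act 6 n32558 = n34437 := rfl
theorem F159696 : act 2 n34437 = n32563 := d20_1 D34437 (iv D32563) (iv F151242)
theorem F159697 : act 4 n34437 = n32560 := d31_1 D34437 (iv D32560) (iv F151243)
theorem F159698 : act 7 n34437 = n32613 := d39_2 D32558 D34437 (iv D32613) (iv D30597) (iv F142041)
def n34438 : Q := act 8 n32558
theorem D34438 : act 8 n32558 = n34438 := rfl
theorem F159699 : act 1 n34438 = n32616 := d15_1 D34438 (iv F159682) F159678
theorem F159700 : act 2 n34438 = n32564 := d22_1 D34438 (iv D32564) (iv F151242)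
theorem F159701 : act 4 n34438 = n32561 := d33_1 D34438 (iv D32561) (iv F151243)
theorem F159702 : act 7 n34438 = n32559 := d42_1 D34438 (iv D32559) D32558
theorem F159703 : act 9 n34438 = n32610 := d44_2 F159641 D34438 (iv D32610) (iv F151401) (iv F159640)
theorem F159704 : act 5 n32630 = n34438 := d38_3 F159703 F151458 D32630
def n34439 : Q := act 8 n32560
theorem D34439 : act 8 n32560 = n34439 := rfl
theorem F159705 : act 2 n34439 = n32565 := d22_1 D34439 (iv D32565) (iv F151251)
theorem F159706 : act 6 n34439 = n32561 := d40_1 D34439 (iv D32561) D32560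
theorem F159707 : act 7 n34439 = n32615 := d42_1 D34439 (iv D32615) (iv F151252)
def n34440 : Q := act 9 n32561
theorem D34440 : act 9 n32561 = n34440 := rfl
theorem F159708 : act 1 n34440 = n32614 := d16_1 D34440 (iv F159692) F159687
theorem F159709 : act 2 n34440 = n32566 := d23_1 D34440 (iv D32566) (iv F151253)
theorem F159710 : act 4 n34440 = n32610 := d34_1 D34440 (iv F159703) F159701
theorem F159711 : act 5 n34440 = n34440 := d38_1 D34440 (iv D34440) F151254
theorem F159712 : act 7 n34440 = n32562 := d43_1 D34440 (iv D32562) (iv F151255)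
theorem F159713 : act 8 n34440 = n32608 := d44_1 D34440 F159651 (iv D34427) F151183 D32561
def n34441 : Q := act 5 n32563
theorem D34441 : act 5 n32563 = n34441 := rfl
theorem F159714 : act 1 n34441 = n32987 := d12_1 D34441 (iv D32987) (iv F151262)
theorem F159715 : act 3 n34441 = n32825 := d25_1 D34441 (iv D32825) (iv F151263)
theorem F159716 : act 6 n34441 = n34441 := d35_2 D32563 D34441 (iv D34441) (iv D32563) F142050
theorem F159717 : act 7 n34441 = n32617 := d36_2 (iv F151265) D34441 (iv D32617)
def n34442 : Q := act 8 n32563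
theorem D34442 : act 8 n32563 = n34442 := rfl
theorem F159718 : act 1 n34442 = n32988 := d15_1 D34442 (iv D32988) (iv F151262)
theorem F159719 : act 3 n34442 = n32826 := d28_1 D34442 (iv D32826) (iv F151263)
theorem F159720 : act 4 n34442 = n32565 := d33_1 D34442 (iv D32565) (iv F151264)
theorem F159721 : act 6 n34442 = n32564 := d40_1 D34442 (iv D32564) D32563
theorem F159722 : act 7 n34442 = n32618 := d42_1 D34442 (iv D32618) (iv F151265)
theorem F159723 : act 9 n34442 = n33012 := d44_2 F159657 D34442 (iv D33012) (iv F152930) (iv F159656)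
def n34443 : Q := act 5 n32565
theorem D34443 : act 5 n32565 = n34443 := rfl
theorem F159724 : act 1 n34443 = n32989 := d12_1 D34443 (iv D32989) (iv F151272)
theorem F159725 : act 3 n34443 = n32567 := d25_1 D34443 (iv D32567) (iv F151273)
theorem F159726 : act 6 n34443 = n34443 := d35_2 (iv F151274) D34443 (iv D34443) F151274 F142062
theorem F159727 : act 7 n34443 = n32620 := d36_2 (iv F151275) D34443 (iv D32620)
def n34444 : Q := act 9 n32565
theorem D34444 : act 9 n32565 = n34444 := rfl
theorem F159728 : act 1 n34444 = n32990 := d16_1 D34444 (iv D32990) (iv F151272)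
theorem F159729 : act 3 n34444 = n32568 := d29_1 D34444 (iv D32568) (iv F151273)
theorem F159730 : act 4 n34444 = n33012 := d34_1 D34444 (iv F159723) F159720
theorem F159731 : act 6 n34444 = n32566 := d41_1 D34444 (iv D32566) (iv F151274)
theorem F159732 : act 7 n34444 = n32621 := d43_1 D34444 (iv D32621) (iv F151275)
theorem F159733 : act 8 n34444 = n33011 := d44_1 D34444 F159663 (iv D34429) F151200 D32565
def n34445 : Q := act 4 n32567
theorem D34445 : act 4 n32567 = n34445 := rfl
theorem F159734 : act 1 n34445 = n32991 := d11_1 D34445 (iv D32991) (iv F151282)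
theorem F159735 : act 5 n34445 = n32829 := d30_2 D32567 D34445 (iv D32829) (iv D30828) (iv F142071)
theorem F159736 : act 6 n34445 = n34445 := d31_2 F151283 D34445 (iv D34445)
theorem F159737 : act 7 n34445 = n32622 := d32_2 (iv F151284) D34445 (iv D32622)
def n34446 : Q := act 9 n32567
theorem D34446 : act 9 n32567 = n34446 := rfl
theorem F159738 : act 1 n34446 = n32992 := d16_1 D34446 (iv D32992) (iv F151282)
theorem F159739 : act 5 n34446 = n32568 := d38_1 D34446 (iv D32568) D32567
theorem F159740 : act 6 n34446 = n34446 := d41_1 D34446 (iv D34446) F151283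
theorem F159741 : act 7 n34446 = n32623 := d43_1 D34446 (iv D32623) (iv F151284)
def n34447 : Q := act 6 n32569
theorem D34447 : act 6 n32569 = n34447 := rfl
theorem F159742 : act 2 n34447 = n32571 := d20_1 D34447 (iv D32571) (iv F151289)
theorem F159743 : act 5 n34447 = n32832 := d35_1 D34447 (iv D32832) F143063 (iv F142083) (iv F151290)
theorem F159744 : act 7 n34447 = n32758 := d39_2 D32569 D34447 F151959 F142815 (iv F142079)
theorem F159745 : act 9 n34447 = n32717 := d41_2 (iv F151291) D34447 F151839
def n34448 : Q := act 6 n32570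
theorem D34448 : act 6 n32570 = n34448 := rfl
theorem F159746 : act 1 n34448 = n32994 := d13_1 D34448 (iv D32994) (iv F151292)
theorem F159747 : act 3 n34448 = n32587 := d26_1 D34448 (iv D32587) (iv F151293)
theorem F159748 : act 4 n34448 = n32571 := d31_1 D34448 (iv D32571) (iv F151294)
theorem F159749 : act 7 n34448 = n32837 := d39_2 D32570 D34448 F152202 F143085 (iv F142089)
theorem F159750 : act 8 n34448 = n32862 := d40_2 (iv F151296) D34448 F152276
theorem F159751 : act 9 n34448 = n32803 := d41_2 (iv F151297) D34448 F152075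
def n34449 : Q := act 5 n32572
theorem D34449 : act 5 n32572 = n34449 := rfl
theorem F159752 : act 1 n34449 = n32996 := d12_1 D34449 (iv D32996) (iv F151303)
theorem F159753 : act 6 n34449 = n34449 := d35_2 (iv F151305) D34449 (iv D34449) F151305 F142103
theorem F159754 : act 7 n34449 = n33026 := d36_2 (iv F151306) D34449 (iv D33026)
theorem F159755 : act 8 n34449 = n32836 := d37_2 D32572 D34449 (iv D32836) (iv D30837) (iv F142098)
def n34450 : Q := act 7 n32573
theorem D34450 : act 7 n32573 = n34450 := rfl
theorem F159756 : act 1 n34450 = n32576 := d14_1 D34450 (iv D32576) (iv F151307)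
theorem F159757 : act 2 n34450 = n32846 := d21_1 D34450 F152232 (iv F151308)
theorem F159758 : act 4 n34450 = n32843 := d32_1 D34450 F152219 (iv F151309)
theorem F159759 : act 5 n34450 = n32574 := d36_1 D34450 (iv D32574) D32573
theorem F159760 : act 8 n34450 = n32857 := d42_2 F151312 D34450 F152263
theorem F159761 : act 9 n34450 = n32582 := d43_2 (iv F151311) D34450 (iv D32582)
def n34451 : Q := act 7 n32575
theorem D34451 : act 7 n32575 = n34451 := rfl
theorem F159762 : act 1 n34451 = n32843 := d14_1 D34451 F152219 (iv F151319)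
theorem F159763 : act 2 n34451 = n32578 := d21_1 D34451 (iv D32578) (iv F151320)
theorem F159764 : act 4 n34451 = n32576 := d32_1 D34451 (iv D32576) D32575
theorem F159765 : act 5 n34451 = n32636 := d36_1 D34451 (iv D32636) (iv F151321)
theorem F159766 : act 8 n34451 = n32795 := d42_2 F151324 D34451 F152053
theorem F159767 : act 9 n34451 = n32584 := d43_2 (iv F151323) D34451 (iv D32584)
def n34452 : Q := act 6 n32576
theorem D34452 : act 6 n32576 = n34452 := rfl
theorem F159768 : act 2 n34452 = n32579 := d20_1 D34452 (iv D32579) (iv F151325)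
theorem F159769 : act 5 n34452 = n32596 := d35_1 D34452 (iv D32596) F142205 (iv F142121) (iv F151326)
theorem F159770 : act 7 n34452 = n32942 := d39_2 D32576 D34452 (iv D32942) (iv D30974) (iv F142117)
theorem F159771 : act 9 n34452 = n32585 := d41_2 (iv F151327) D34452 (iv D32585)
def n34453 : Q := act 8 n32576
theorem D34453 : act 8 n32576 = n34453 := rfl
theorem F159772 : act 1 n34453 = n32857 := d15_1 D34453 (iv F159760) F159756
theorem F159773 : act 2 n34453 = n32580 := d22_1 D34453 (iv D32580) (iv F151325)
theorem F159774 : act 4 n34453 = n32795 := d33_1 D34453 (iv F159766) F159764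
theorem F159775 : act 5 n34453 = n34453 := d37_1 D34453 (iv D34453) F151326 F142122 (iv F151326)
theorem F159776 : act 7 n34453 = n32577 := d42_1 D34453 (iv D32577) D32576
theorem F159777 : act 9 n34453 = n32794 := d44_2 (iv F151327) D34453 F152049 F151375 (iv D32586)
def n34454 : Q := act 6 n32578
theorem D34454 : act 6 n32578 = n34454 := rfl
theorem F159778 : act 1 n34454 = n32952 := d13_1 D34454 (iv D32952) (iv F151334)
theorem F159779 : act 3 n34454 = n32803 := d26_1 D34454 F152075 (iv F151335)
theorem F159780 : act 4 n34454 = n32579 := d31_1 D34454 (iv D32579) (iv F151336)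
theorem F159781 : act 7 n34454 = n32835 := d39_2 D32578 D34454 F152197 F143078 (iv F142127)
theorem F159782 : act 8 n34454 = n32802 := d40_2 (iv F151338) D34454 (iv D32802)
theorem F159783 : act 9 n34454 = n32587 := d41_2 (iv F151339) D34454 (iv D32587)
def n34455 : Q := act 8 n32579
theorem D34455 : act 8 n32579 = n34455 := rfl
theorem F159784 : act 1 n34455 = n32953 := d15_1 D34455 (iv D32953) (iv F151340)
theorem F159785 : act 3 n34455 = n32581 := d28_1 D34455 (iv D32581) (iv F151341)
theorem F159786 : act 4 n34455 = n32802 := d33_1 D34455 (iv F159782) F159780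
theorem F159787 : act 6 n34455 = n32580 := d40_1 D34455 (iv D32580) D32579
theorem F159788 : act 7 n34455 = n32834 := d42_1 D34455 F152193 (iv F151343)
theorem F159789 : act 9 n34455 = n32839 := d44_2 (iv F151344) D34455 F152208 F151383 (iv D32588)
def n34456 : Q := act 5 n32581
theorem D34456 : act 5 n32581 = n34456 := rfl
theorem F159790 : act 1 n34456 = n32954 := d12_1 D34456 (iv D32954) (iv F151351)
theorem F159791 : act 4 n34456 = n32825 := d30_1 D34456 (iv D32825) F143023 (iv F142940) (iv F151352)
theorem F159792 : act 6 n34456 = n34456 := d35_2 (iv F151353) D34456 (iv D34456) F151353 F142147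
theorem F159793 : act 7 n34456 = n32838 := d36_2 (iv F151354) D34456 (iv D32838)
theorem F159794 : act 8 n34456 = n32602 := d37_2 D32581 D34456 (iv D32602) (iv D30589) (iv F142142)
def n34457 : Q := act 6 n32582
theorem D34457 : act 6 n32582 = n34457 := rfl
theorem F159795 : act 1 n34457 = n32585 := d13_1 D34457 (iv D32585) (iv F151355)
theorem F159796 : act 2 n34457 = n32845 := d20_1 D34457 F152226 (iv F151356)
theorem F159797 : act 4 n34457 = n32842 := d31_1 D34457 F152216 (iv F151357)
theorem F159798 : act 5 n34457 = n32609 := d35_1 D34457 (iv D32609) F142252 (iv F142156) (iv F151358)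
theorem F159799 : act 8 n34457 = n32841 := d40_2 (iv F151359) D34457 (iv D32841)
def n34458 : Q := act 7 n32583
theorem D34458 : act 7 n32583 = n34458 := rfl
theorem F159800 : act 1 n34458 = n32765 := d14_1 D34458 F151979 (iv F151360)
theorem F159801 : act 3 n34458 = n32584 := d27_1 D34458 (iv D32584) D32583
theorem F159802 : act 5 n34458 = n32638 := d36_1 D34458 (iv D32638) (iv F151361)
theorem F159803 : act 8 n34458 = n32760 := d42_2 (iv F151362) D34458 (iv D32760)
def n34459 : Q := act 6 n32584
theorem D34459 : act 6 n32584 = n34459 := rfl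
theorem F159804 : act 1 n34459 = n32842 := d13_1 D34459 F152216 (iv F151363)
theorem F159805 : act 2 n34459 = n32587 := d20_1 D34459 (iv D32587) (iv F151364)
theorem F159806 : act 4 n34459 = n32585 := d31_1 D34459 (iv D32585) (iv F151365)
theorem F159807 : act 8 n34459 = n32793 := d40_2 (iv F151367) D34459 F152044
def n34460 : Q := act 8 n32585
theorem D34460 : act 8 n32585 = n34460 := rfl
theorem F159808 : act 1 n34460 = n32841 := d15_1 D34460 (iv F159799) F159795
theorem F159809 : act 2 n34460 = n32588 := d22_1 D34460 (iv D32588) (iv F151368)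
theorem F159810 : act 4 n34460 = n32793 := d33_1 D34460 (iv F159807) F159806
theorem F159811 : act 6 n34460 = n32586 := d40_1 D34460 (iv D32586) D32585
theorem F159812 : act 9 n32792 = n34460 := d41_0 F159811 (iv F151375) (iv F152040)
def n34461 : Q := act 5 n32587
theorem D34461 : act 5 n32587 = n34461 := rfl
theorem F159813 : act 1 n34461 = n32998 := d12_1 D34461 (iv D32998) (iv F151376)
theorem F159814 : act 4 n34461 = n32617 := d30_1 D34461 (iv D32617) F142272 (iv F142175) (iv F151377)
theorem F159815 : act 6 n34461 = n32640 := d35_2 D32587 D34461 (iv D32640) (iv D30639) (iv F142171)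
theorem F159816 : act 8 n34461 = n32850 := d37_2 (iv F151378) D34461 F152244 F143135 (iv F143179)
def n34462 : Q := act 5 n32588
theorem D34462 : act 5 n32588 = n34462 := rfl
theorem F159817 : act 1 n34462 = n32999 := d12_1 D34462 (iv D32999) (iv F151379)
theorem F159818 : act 3 n34462 = n32589 := d25_1 D34462 (iv D32589) (iv F151380)
theorem F159819 : act 4 n34462 = n32623 := d30_1 D34462 F151500 F142294 (iv F143179) (iv F151381)
theorem F159820 : act 6 n34462 = n32624 := d35_2 (iv F151382) D34462 (iv D32624) F142315 (iv F142179)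
theorem F159821 : act 8 n34462 = n32620 := d37_2 D32588 D34462 (iv D32620) (iv D30605) (iv F142175)
theorem F159822 : act 9 n34462 = n32622 := d38_2 F151383 D34462 F151497
def n34463 : Q := act 4 n32589
theorem D34463 : act 4 n32589 = n34463 := rfl
theorem F159823 : act 1 n34463 = n33000 := d11_1 D34463 (iv D33000) (iv F151384)
theorem F159824 : act 6 n34463 = n32625 := d31_2 (iv F151385) D34463 (iv D32625)
theorem F159825 : act 8 n34463 = n32622 := d33_2 (iv F151386) D34463 (iv D32622)
def n34464 : Q := act 9 n32589
theorem D34464 : act 9 n32589 = n34464 := rfl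
theorem F159826 : act 1 n34464 = n33001 := d16_1 D34464 (iv D33001) (iv F151384)
theorem F159827 : act 3 n34464 = n32622 := d29_1 D34464 (iv F159822) F159818
theorem F159828 : act 5 n34464 = n32590 := d38_1 D34464 (iv D32590) D32589
theorem F159829 : act 6 n34464 = n32626 := d41_1 D34464 (iv D32626) (iv F151385)
def n34465 : Q := act 7 n32591
theorem D34465 : act 7 n32591 = n34465 := rfl
theorem F159830 : act 0 n34465 = n32593 := d6_1 D34465 (iv D32593) (iv F151390)
theorem F159831 : act 2 n34465 = n33002 := d21_1 D34465 (iv D33002) (iv F151391)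
theorem F159832 : act 5 n34465 = n32592 := d36_1 D34465 (iv D32592) D32591
theorem F159833 : act 9 n34465 = n32605 := d43_2 (iv F151392) D34465 (iv D32605)
def n34466 : Q := act 6 n32593
theorem D34466 : act 6 n32593 = n34466 := rfl
theorem F159834 : act 1 n34466 = n32596 := d13_1 D34466 (iv D32596) (iv F151398)
theorem F159835 : act 2 n34466 = n33003 := d20_1 D34466 (iv D33003) (iv F151399)
theorem F159836 : act 9 n34466 = n32609 := d41_2 (iv F151401) D34466 (iv D32609)
def n34467 : Q := act 7 n32594
theorem D34467 : act 7 n32594 = n34467 := rfl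
theorem F159837 : act 2 n34467 = n32840 := d21_1 D34467 (iv D32840) (iv F151402)
theorem F159838 : act 3 n34467 = n32595 := d27_1 D34467 (iv D32595) D32594
theorem F159839 : act 5 n34467 = n32647 := d36_1 D34467 (iv D32647) (iv F151403)
theorem F159840 : act 9 n34467 = n32611 := d43_2 (iv F151404) D34467 (iv D32611)
def n34468 : Q := act 6 n32595
theorem D34468 : act 6 n32595 = n34468 := rfl
theorem F159841 : act 2 n34468 = n32598 := d20_1 D34468 (iv D32598) (iv F151405)
theorem F159842 : act 4 n34468 = n32596 := d31_1 D34468 (iv D32596) (iv F151406)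
theorem F159843 : act 9 n34468 = n32613 := d41_2 (iv F151408) D34468 (iv D32613)
def n34469 : Q := act 8 n32596
theorem D34469 : act 8 n32596 = n34469 := rfl
theorem F159844 : act 2 n34469 = n32600 := d22_1 D34469 (iv D32600) (iv F151409)
theorem F159845 : act 6 n34469 = n32597 := d40_1 D34469 (iv D32597) D32596
def n34470 : Q := act 5 n32598
theorem D34470 : act 5 n32598 = n34470 := rfl
theorem F159846 : act 1 n34470 = n33004 := d12_1 D34470 (iv D33004) (iv F151414)
theorem F159847 : act 3 n34470 = n32844 := d25_1 D34470 (iv D32844) (iv F151415)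
theorem F159848 : act 6 n34470 = n32651 := d35_2 D32598 D34470 (iv D32651) (iv D30652) (iv F142212)
theorem F159849 : act 9 n34470 = n32617 := d38_2 (iv F151417) D34470 (iv D32617)
def n34471 : Q := act 8 n32598
theorem D34471 : act 8 n32598 = n34471 := rfl
theorem F159850 : act 1 n34471 = n32957 := d15_1 D34471 F152665 (iv F151414)
theorem F159851 : act 3 n34471 = n32845 := d28_1 D34471 (iv D32845) (iv F151415)
theorem F159852 : act 4 n34471 = n32600 := d33_1 D34471 (iv D32600) (iv F151416)
theorem F159853 : act 6 n34471 = n32599 := d40_1 D34471 (iv D32599) D32598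
theorem F159854 : act 7 n34471 = n33003 := d42_1 D34471 (iv F159656) F159655
theorem F159855 : act 9 n32984 = n34471 := d43_0 F159854 F152930 (iv F152825)
theorem F159856 : act 5 n32969 = n34471 := d35_5 F159853 F151421 F143693 (iv F143794) D32969
def n34472 : Q := act 5 n32600
theorem D34472 : act 5 n32600 = n34472 := rfl
theorem F159857 : act 1 n34472 = n33005 := d12_1 D34472 (iv D33005) (iv F151424)
theorem F159858 : act 3 n34472 = n32602 := d25_1 D34472 (iv D32602) (iv F151425)
theorem F159859 : act 6 n34472 = n34472 := d35_2 (iv F151426) D34472 (iv D34472) F151426 F142225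
def n34473 : Q := act 9 n32600
theorem D34473 : act 9 n32600 = n34473 := rfl
theorem F159860 : act 1 n34473 = n32985 := d16_1 D34473 F152832 (iv F151424)
theorem F159861 : act 3 n34473 = n32603 := d29_1 D34473 (iv D32603) (iv F151425)
theorem F159862 : act 4 n34473 = n32984 := d34_1 D34473 F159855 F159852
theorem F159863 : act 6 n34473 = n32601 := d41_1 D34473 (iv D32601) (iv F151426)
theorem F159864 : act 7 n34473 = n33011 := d43_1 D34473 F159663 F159662
theorem F159865 : act 8 n34473 = n32621 := d44_1 D34473 (iv D32621) (iv D30605) (iv F142222) D32600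
def n34474 : Q := act 4 n32602
theorem D34474 : act 4 n32602 = n34474 := rfl
theorem F159866 : act 1 n34474 = n33006 := d11_1 D34474 (iv D33006) (iv F151433)
theorem F159867 : act 5 n34474 = n32849 := d30_2 D32602 D34474 (iv D32849) (iv D30852) (iv F142234)
theorem F159868 : act 6 n34474 = n34474 := d31_2 F151434 D34474 (iv D34474)
theorem F159869 : act 7 n34474 = n32859 := d32_2 F159666 D34474 F159668
theorem F159870 : act 8 n34474 = n32825 := d33_2 F159794 D34474 (iv F159791)
def n34475 : Q := act 9 n32602
theorem D34475 : act 9 n32602 = n34475 := rfl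
theorem F159871 : act 1 n34475 = n33007 := d16_1 D34475 (iv D33007) (iv F151433)
theorem F159872 : act 5 n34475 = n32603 := d38_1 D34475 (iv D32603) D32602
theorem F159873 : act 6 n34475 = n34475 := d41_1 D34475 (iv D34475) F151434
def n34476 : Q := act 3 n32604
theorem D34476 : act 3 n32604 = n34476 := rfl
theorem F159874 : act 0 n34476 = n32607 := d2_1 D34476 (iv D32607) (iv F151439)
theorem F159875 : act 5 n34476 = n32653 := d25_2 (iv F151441) D34476 (iv D32653)
def n34477 : Q := act 7 n32604
theorem D34477 : act 7 n32604 = n34477 := rfl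
theorem F159876 : act 0 n34477 = n32608 := d6_1 D34477 (iv D32608) (iv F151439)
theorem F159877 : act 2 n34477 = n33008 := d21_1 D34477 (iv D33008) (iv F151440)
theorem F159878 : act 4 n34477 = n32605 := d32_1 D34477 (iv D32605) D32604
theorem F159879 : act 5 n34477 = n32654 := d36_1 D34477 (iv D32654) (iv F151441)
def n34478 : Q := act 6 n32605
theorem D34478 : act 6 n32605 = n34478 := rfl
theorem F159880 : act 0 n34478 = n32609 := d5_1 D34478 (iv D32609) (iv F151442)
theorem F159881 : act 2 n34478 = n33009 := d20_1 D34478 (iv D33009) (iv F151443)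
def n34479 : Q := act 8 n32605
theorem D34479 : act 8 n32605 = n34479 := rfl
theorem F159882 : act 0 n34479 = n32610 := d7_1 D34479 (iv D32610) (iv F151442)
theorem F159883 : act 2 n34479 = n33010 := d22_1 D34479 (iv D33010) (iv F151443)
theorem F159884 : act 5 n34479 = n32627 := d37_1 D34479 (iv D32627) F142330 (iv F142246) (iv F151444)
theorem F159885 : act 7 n34479 = n32606 := d42_1 D34479 (iv D32606) D32605
def n34480 : Q := act 7 n32607
theorem D34480 : act 7 n32607 = n34480 := rfl
theorem F159886 : act 1 n34480 = n32611 := d14_1 D34480 (iv D32611) (iv F151448)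
theorem F159887 : act 3 n34480 = n32608 := d27_1 D34480 (iv D32608) D32607
theorem F159888 : act 5 n34480 = n32655 := d36_1 D34480 (iv D32655) (iv F151449)
def n34481 : Q := act 6 n32608
theorem D34481 : act 6 n32608 = n34481 := rfl
theorem F159889 : act 1 n34481 = n32613 := d13_1 D34481 (iv D32613) (iv F151450)
theorem F159890 : act 2 n34481 = n33011 := d20_1 D34481 (iv D33011) (iv F151451)
theorem F159891 : act 4 n34481 = n32609 := d31_1 D34481 (iv D32609) (iv F151452)
def n34482 : Q := act 8 n32609
theorem D34482 : act 8 n32609 = n34482 := rfl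
theorem F159892 : act 1 n34482 = n32615 := d15_1 D34482 (iv D32615) (iv F151454)
theorem F159893 : act 2 n34482 = n33012 := d22_1 D34482 (iv D33012) (iv F151455)
theorem F159894 : act 6 n34482 = n32610 := d40_1 D34482 (iv D32610) D32609
def n34483 : Q := act 6 n32611
theorem D34483 : act 6 n32611 = n34483 := rfl
theorem F159895 : act 2 n34483 = n32852 := d20_1 D34483 (iv D32852) (iv F151460)
theorem F159896 : act 3 n34483 = n32613 := d26_1 D34483 (iv D32613) (iv F151461)
def n34484 : Q := act 8 n32611
theorem D34484 : act 8 n32611 = n34484 := rfl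
theorem F159897 : act 2 n34484 = n32853 := d22_1 D34484 (iv D32853) (iv F151460)
theorem F159898 : act 3 n34484 = n32614 := d28_1 D34484 (iv D32614) (iv F151461)
theorem F159899 : act 5 n34484 = n34484 := d37_1 D34484 (iv D34484) F151462 F142528 (iv F151462)
theorem F159900 : act 7 n34484 = n32612 := d42_1 D34484 (iv D32612) D32611
def n34485 : Q := act 5 n32613
theorem D34485 : act 5 n32613 = n34485 := rfl
theorem F159901 : act 2 n34485 = n32617 := d19_1 D34485 (iv D32617) (iv F151466)
theorem F159902 : act 6 n34485 = n32658 := d35_2 D32613 D34485 (iv D32658) (iv D30662) (iv F142260)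
def n34486 : Q := act 8 n32613
theorem D34486 : act 8 n32613 = n34486 := rfl
theorem F159903 : act 2 n34486 = n32618 := d22_1 D34486 (iv D32618) (iv F151466)
theorem F159904 : act 4 n34486 = n32615 := d33_1 D34486 (iv D32615) (iv F151467)
theorem F159905 : act 6 n34486 = n32614 := d40_1 D34486 (iv D32614) D32613
def n34487 : Q := act 5 n32615
theorem D34487 : act 5 n32615 = n34487 := rfl
theorem F159906 : act 2 n34487 = n32620 := d19_1 D34487 (iv D32620) (iv F151472)
theorem F159907 : act 6 n34487 = n32631 := d35_2 (iv F151473) D34487 (iv D32631) F142352 (iv F142266)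
def n34488 : Q := act 9 n32615
theorem D34488 : act 9 n32615 = n34488 := rfl
theorem F159908 : act 2 n34488 = n32621 := d23_1 D34488 (iv D32621) (iv F151472)
theorem F159909 : act 6 n34488 = n32616 := d41_1 D34488 (iv D32616) (iv F151473)
def n34489 : Q := act 8 n32617
theorem D34489 : act 8 n32617 = n34489 := rfl
theorem F159910 : act 1 n34489 = n33015 := d15_1 D34489 (iv D33015) (iv F151477)
theorem F159911 : act 3 n34489 = n32859 := d28_1 D34489 (iv D32859) (iv F151478)
theorem F159912 : act 4 n34489 = n32850 := d33_1 D34489 (iv F159816) F159814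
theorem F159913 : act 6 n34489 = n32659 := d40_1 D34489 (iv D32659) (iv F151479)
theorem F159914 : act 9 n32849 = n34489 := d41_0 F159913 (iv F151661) (iv F152242)
def n34490 : Q := act 5 n32618
theorem D34490 : act 5 n32618 = n34490 := rfl
theorem F159915 : act 1 n34490 = n33016 := d12_1 D34490 (iv D33016) (iv F151480)
theorem F159916 : act 3 n34490 = n32860 := d25_1 D34490 (iv D32860) (iv F151481)
theorem F159917 : act 6 n34490 = n34490 := d35_2 (iv F151483) D34490 (iv D34490) F151483 F142276
def n34491 : Q := act 9 n32618
theorem D34491 : act 9 n32618 = n34491 := rfl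
theorem F159918 : act 1 n34491 = n32986 := d16_1 D34491 F152839 (iv F151480)
theorem F159919 : act 3 n34491 = n32861 := d29_1 D34491 (iv D32861) (iv F151481)
theorem F159920 : act 4 n34491 = n32621 := d34_1 D34491 (iv D32621) (iv F151482)
theorem F159921 : act 6 n34491 = n32619 := d41_1 D34491 (iv D32619) (iv F151483)
theorem F159922 : act 7 n34491 = n33012 := d43_1 D34491 (iv F159723) F159722
theorem F159923 : act 8 n34491 = n32984 := d44_1 D34491 F159855 (iv D34471) F151417 D32618
def n34492 : Q := act 4 n32620
theorem D34492 : act 4 n32620 = n34492 := rfl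
theorem F159924 : act 1 n34492 = n33017 := d11_1 D34492 (iv D33017) (iv F151490)
theorem F159925 : act 6 n34492 = n32633 := d31_2 (iv F151492) D34492 (iv D32633)
theorem F159926 : act 8 n34492 = n32623 := d33_2 F159821 D34492 (iv F159819)
def n34493 : Q := act 9 n32620
theorem D34493 : act 9 n32620 = n34493 := rfl
theorem F159927 : act 1 n34493 = n33018 := d16_1 D34493 (iv D33018) (iv F151490)
theorem F159928 : act 3 n34493 = n32623 := d29_1 D34493 (iv D32623) (iv F151491)
theorem F159929 : act 5 n34493 = n32621 := d38_1 D34493 (iv D32621) D32620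
theorem F159930 : act 6 n34493 = n32634 := d41_1 D34493 (iv D32634) (iv F151492)
def n34494 : Q := act 3 n32625
theorem D34494 : act 3 n32625 = n34494 := rfl
theorem F159931 : act 1 n34494 = n33019 := d10_1 D34494 (iv D33019) (iv F151508)
theorem F159932 : act 4 n34494 = n32634 := d24_2 D32625 D34494 F151547 (iv F151504) F151503
theorem F159933 : act 5 n34494 = n34494 := d25_2 F151509 D34494 (iv D34494)
theorem F159934 : act 7 n34494 = n34494 := d27_2 F151510 D34494 (iv D34494)
theorem F159935 : act 8 n34494 = n32626 := d28_2 (iv F151511) D34494 F151513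
theorem F159936 : act 9 n32633 = n34494 := d44_0 F159935 (iv D32626) F142320 D30625 (iv F151545)
def n34495 : Q := act 9 n32625
theorem D34495 : act 9 n32625 = n34495 := rfl
theorem F159937 : act 1 n34495 = n33020 := d16_1 D34495 (iv D33020) (iv F151508)
theorem F159938 : act 3 n34495 = n32633 := d29_1 D34495 F159936 (iv D34494)
theorem F159939 : act 4 n34495 = n32626 := d34_1 D34495 (iv D32626) D32625
theorem F159940 : act 5 n34495 = n34495 := d38_1 D34495 (iv D34495) F151509
theorem F159941 : act 7 n34495 = n34495 := d43_1 D34495 (iv D34495) F151510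
theorem F159942 : act 8 n34495 = n32634 := d44_1 D34495 (iv D32634) (iv F151506) F151507 (iv F151511)
def n34496 : Q := act 5 n32629
theorem D34496 : act 5 n32629 = n34496 := rfl
theorem F159943 : act 1 n34496 = n32631 := d12_1 D34496 (iv D32631) (iv F151525)
theorem F159944 : act 2 n34496 = n32874 := d19_1 D34496 F152325 (iv F151526)
theorem F159945 : act 7 n34496 = n34496 := d36_2 F151529 D34496 (iv D34496)
theorem F159946 : act 8 n34496 = n32873 := d37_2 D32629 D34496 (iv D32873) (iv F150504) F150502
def n34497 : Q := act 9 n32631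
theorem D34497 : act 9 n32631 = n34497 := rfl
theorem F159947 : act 2 n34497 = n32634 := d23_1 D34497 (iv D32634) (iv F151535)
theorem F159948 : act 5 n34497 = n32632 := d38_1 D34497 (iv D32632) D32631
theorem F159949 : act 7 n34497 = n34497 := d43_1 D34497 (iv D34497) F151536
def n34498 : Q := act 5 n32635
theorem D34498 : act 5 n32635 = n34498 := rfl
theorem F159950 : act 1 n34498 = n32980 := d12_1 D34498 F152804 (iv F151550)
theorem F159951 : act 3 n34498 = n32640 := d25_1 D34498 (iv D32640) (iv F151551)
theorem F159952 : act 4 n34498 = n32869 := d30_1 D34498 (iv D32869) F143217 (iv F142380) (iv F151552)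
theorem F159953 : act 7 n34498 = n34498 := d36_2 F151553 D34498 (iv D34498)
theorem F159954 : act 8 n34498 = n32902 := d37_2 (iv F151554) D34498 F152422 F143384 (iv F143406)
theorem F159955 : act 9 n34498 = n33042 := d38_2 (iv F151555) D34498 (iv D33042)
def n34499 : Q := act 6 n32638
theorem D34499 : act 6 n32638 = n34499 := rfl
theorem F159956 : act 1 n34499 = n32884 := d13_1 D34499 F152361 (iv F151565)
theorem F159957 : act 3 n34499 = n32639 := d26_1 D34499 (iv D32639) (iv F151566)
theorem F159958 : act 7 n34499 = n34499 := d39_2 D32638 D34499 (iv D34499) (iv D32638) F142419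
theorem F159959 : act 8 n34499 = n32883 := d40_2 (iv F151567) D34499 (iv D32883)
def n34500 : Q := act 5 n32639
theorem D34500 : act 5 n32639 = n34500 := rfl
theorem F159960 : act 1 n34500 = n32898 := d12_1 D34500 (iv D32898) (iv F151568)
theorem F159961 : act 2 n34500 = n32640 := d19_1 D34500 (iv D32640) (iv F151569)
theorem F159962 : act 4 n34500 = n32658 := d30_1 D34500 (iv D32658) F142530 (iv F142426) (iv F151570)
theorem F159963 : act 7 n34500 = n34500 := d36_2 F151571 D34500 (iv D34500)
theorem F159964 : act 8 n34500 = n32895 := d37_2 (iv F151572) D34500 F152394 F143325 (iv F143352)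
def n34501 : Q := act 7 n32641
theorem D34501 : act 7 n32641 = n34501 := rfl
theorem F159965 : act 0 n34501 = n32644 := d6_1 D34501 (iv D32644) (iv F151577)
theorem F159966 : act 2 n34501 = n32932 := d21_1 D34501 F152534 (iv F151578)
theorem F159967 : act 4 n34501 = n32642 := d32_1 D34501 (iv D32642) D32641
theorem F159968 : act 8 n34501 = n32929 := d42_2 F151581 D34501 (iv D32929)
theorem F159969 : act 9 n34501 = n32654 := d43_2 (iv F151580) D34501 (iv D32654)
def n34502 : Q := act 8 n32642
theorem D34502 : act 8 n32642 = n34502 := rfl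
theorem F159970 : act 0 n34502 = n32646 := d7_1 D34502 (iv D32646) (iv F151582)
theorem F159971 : act 2 n34502 = n32930 := d22_1 D34502 F152522 (iv F151583)
theorem F159972 : act 4 n34502 = n32929 := d33_1 D34502 (iv F159968) F159967
theorem F159973 : act 5 n34502 = n34502 := d37_1 D34502 (iv D34502) F151584 F142450 (iv F151584)
theorem F159974 : act 7 n34502 = n32643 := d42_1 D34502 (iv D32643) D32642
theorem F159975 : act 9 n34502 = n34502 := d44_2 (iv F151585) D34502 (iv D34502) F151585 F142514
def n34503 : Q := act 6 n32644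
theorem D34503 : act 6 n32644 = n34503 := rfl
theorem F159976 : act 1 n34503 = n32648 := d13_1 D34503 (iv D32648) (iv F151592)
theorem F159977 : act 2 n34503 = n32946 := d20_1 D34503 F152593 (iv F151593)
theorem F159978 : act 4 n34503 = n32645 := d31_1 D34503 (iv D32645) (iv F151594)
theorem F159979 : act 7 n34503 = n34503 := d39_2 D32644 D34503 (iv D34503) (iv D32644) F142454
theorem F159980 : act 8 n34503 = n32944 := d40_2 (iv F151595) D34503 (iv D32944)
theorem F159981 : act 9 n34503 = n32656 := d41_2 (iv F151596) D34503 (iv D32656)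
def n34504 : Q := act 8 n32645
theorem D34504 : act 8 n32645 = n34504 := rfl
theorem F159982 : act 1 n34504 = n32650 := d15_1 D34504 (iv D32650) (iv F151597)
theorem F159983 : act 2 n34504 = n32945 := d22_1 D34504 F152588 (iv F151598)
theorem F159984 : act 4 n34504 = n32944 := d33_1 D34504 (iv F159980) F159978
theorem F159985 : act 6 n34504 = n32646 := d40_1 D34504 (iv D32646) D32645
theorem F159986 : act 7 n34504 = n34504 := d42_1 D34504 (iv D34504) F151599
theorem F159987 : act 9 n34504 = n34504 := d44_2 (iv F151600) D34504 (iv D34504) F151600 F142525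
def n34505 : Q := act 6 n32647
theorem D34505 : act 6 n32647 = n34505 := rfl
theorem F159988 : act 2 n34505 = n32872 := d20_1 D34505 (iv D32872) (iv F151607)
theorem F159989 : act 3 n34505 = n32648 := d26_1 D34505 (iv D32648) (iv F151608)
theorem F159990 : act 7 n34505 = n34505 := d39_2 D32647 D34505 (iv D34505) (iv D32647) F142468
theorem F159991 : act 9 n34505 = n32657 := d41_2 (iv F151609) D34505 (iv D32657)
def n34506 : Q := act 5 n32648
theorem D34506 : act 5 n32648 = n34506 := rfl
theorem F159992 : act 2 n34506 = n32651 := d19_1 D34506 (iv D32651) (iv F151610)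
theorem F159993 : act 7 n34506 = n34506 := d36_2 F151612 D34506 (iv D34506)
theorem F159994 : act 9 n34506 = n32658 := d38_2 (iv F151613) D34506 (iv D32658)
def n34507 : Q := act 8 n32648
theorem D34507 : act 8 n32648 = n34507 := rfl
theorem F159995 : act 1 n34507 = n32944 := d15_1 D34507 (iv F159980) F159976
theorem F159996 : act 2 n34507 = n32652 := d22_1 D34507 (iv D32652) (iv F151610)
theorem F159997 : act 4 n34507 = n32650 := d33_1 D34507 (iv D32650) (iv F151611)
theorem F159998 : act 6 n34507 = n32649 := d40_1 D34507 (iv D32649) D32648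
theorem F159999 : act 7 n34507 = n34507 := d42_1 D34507 (iv D34507) F151612
theorem F160000 : act 9 n34507 = n34507 := d44_2 (iv F151613) D34507 (iv D34507) F151613 F142532
theorem F160001 : act 5 n32949 = n34507 := d35_5 F159998 (iv F151619) F143589 (iv F143629) D32949
def n34508 : Q := act 7 n32653
theorem D34508 : act 7 n32653 = n34508 := rfl
theorem F160002 : act 0 n34508 = n32655 := d6_1 D34508 (iv D32655) (iv F151635)
theorem F160003 : act 3 n34508 = n32654 := d27_1 D34508 (iv D32654) D32653
theorem F160004 : act 8 n34508 = n34508 := d42_2 F151637 D34508 (iv D34508)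
def n34509 : Q := act 6 n32655
theorem D34509 : act 6 n32655 = n34509 := rfl
theorem F160005 : act 1 n34509 = n32657 := d13_1 D34509 (iv D32657) (iv F151642)
theorem F160006 : act 3 n34509 = n32656 := d26_1 D34509 (iv D32656) (iv F151643)
theorem F160007 : act 7 n34509 = n34509 := d39_2 D32655 D34509 (iv D34509) (iv D32655) F142516
theorem F160008 : act 8 n34509 = n34509 := d40_2 F151644 D34509 (iv D34509)
def n34510 : Q := act 5 n32656
theorem D34510 : act 5 n32656 = n34510 := rfl
theorem F160009 : act 1 n34510 = n32658 := d12_1 D34510 (iv D32658) (iv F151645)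
theorem F160010 : act 2 n34510 = n32901 := d19_1 D34510 F152418 (iv F151646)
theorem F160011 : act 4 n34510 = n32898 := d30_1 D34510 (iv D32898) (iv F149884) (iv F149887) (iv F151647)
theorem F160012 : act 7 n34510 = n34510 := d36_2 F151648 D34510 (iv D34510)
def n34511 : Q := act 5 n32657
theorem D34511 : act 5 n32657 = n34511 := rfl
theorem F160013 : act 2 n34511 = n32875 := d19_1 D34511 (iv D32875) (iv F151650)
theorem F160014 : act 3 n34511 = n32658 := d25_1 D34511 (iv D32658) (iv F151651)
theorem F160015 : act 7 n34511 = n34511 := d36_2 F151652 D34511 (iv D34511)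
def n34512 : Q := act 8 n32658
theorem D34512 : act 8 n32658 = n34512 := rfl
theorem F160016 : act 2 n34512 = n32659 := d22_1 D34512 (iv D32659) (iv F151654)
theorem F160017 : act 4 n34512 = n32895 := d33_1 D34512 (iv F159964) F159962
theorem F160018 : act 5 n34512 = n34512 := d37_1 D34512 (iv D34512) (iv D32658) F142532 D32658
theorem F160019 : act 7 n34512 = n34512 := d42_1 D34512 (iv D34512) F151655
theorem F160020 : act 9 n32894 = n34512 := d34_0 F160017 (iv D32895) D32894
def n34513 : Q := act 7 n32660
theorem D34513 : act 7 n32660 = n34513 := rfl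
theorem F160021 : act 0 n34513 = n32684 := d6_1 D34513 (iv D32684) (iv F151662)
theorem F160022 : act 4 n34513 = n32661 := d32_1 D34513 (iv D32661) D32660
theorem F160023 : act 9 n34513 = n32663 := d43_2 (iv F151663) D34513 (iv D32663)
def n34514 : Q := act 6 n32661
theorem D34514 : act 6 n32661 = n34514 := rfl
theorem F160024 : act 0 n34514 = n32686 := d5_1 D34514 (iv D32686) (iv F151664)
theorem F160025 : act 3 n34514 = n32662 := d26_1 D34514 (iv D32662) (iv F151665)
theorem F160026 : act 9 n34514 = n32664 := d41_2 (iv F151667) D34514 (iv D32664)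
def n34515 : Q := act 6 n32663
theorem D34515 : act 6 n32663 = n34515 := rfl
theorem F160027 : act 0 n34515 = n32692 := d5_1 D34515 (iv D32692) (iv F151671)
theorem F160028 : act 4 n34515 = n32664 := d31_1 D34515 (iv D32664) (iv F151672)
def n34516 : Q := act 7 n32665
theorem D34516 : act 7 n32665 = n34516 := rfl
theorem F160029 : act 2 n34516 = n32667 := d21_1 D34516 (iv D32667) (iv F151675)
theorem F160030 : act 4 n34516 = n32666 := d32_1 D34516 (iv D32666) D32665
theorem F160031 : act 8 n34516 = n32715 := d42_2 (iv F151677) D34516 (iv D32715)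
def n34517 : Q := act 6 n32666
theorem D34517 : act 6 n32666 = n34517 := rfl
theorem F160032 : act 2 n34517 = n32669 := d20_1 D34517 (iv D32669) (iv F151678)
theorem F160033 : act 3 n34517 = n32717 := d26_1 D34517 F151839 (iv F151679)
theorem F160034 : act 7 n34517 = n32691 := d39_2 D32666 D34517 (iv D32691) (iv D30695) (iv F142555)
theorem F160035 : act 8 n34517 = n32716 := d40_2 (iv F151681) D34517 (iv D32716)
def n34518 : Q := act 6 n32667
theorem D34518 : act 6 n32667 = n34518 := rfl
theorem F160036 : act 1 n34518 = n32738 := d13_1 D34518 (iv D32738) (iv F151682)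
theorem F160037 : act 4 n34518 = n32669 := d31_1 D34518 (iv D32669) (iv F151683)
theorem F160038 : act 7 n34518 = n32692 := d39_2 D32667 D34518 (iv D32692) (iv D30696) (iv F142561)
def n34519 : Q := act 8 n32667
theorem D34519 : act 8 n32667 = n34519 := rfl
theorem F160039 : act 1 n34519 = n32739 := d15_1 D34519 (iv D32739) (iv F151682)
theorem F160040 : act 2 n34519 = n32715 := d22_1 D34519 (iv F160031) F160029
theorem F160041 : act 4 n34519 = n32670 := d33_1 D34519 (iv D32670) (iv F151683)
theorem F160042 : act 7 n34519 = n32668 := d42_1 D34519 (iv D32668) D32667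
def n34520 : Q := act 8 n32669
theorem D34520 : act 8 n32669 = n34520 := rfl
theorem F160043 : act 1 n34520 = n32742 := d15_1 D34520 (iv D32742) (iv F151688)
theorem F160044 : act 2 n34520 = n32716 := d22_1 D34520 (iv F160035) F160032
theorem F160045 : act 3 n34520 = n32671 := d28_1 D34520 (iv D32671) (iv F151689)
theorem F160046 : act 6 n34520 = n32670 := d40_1 D34520 (iv D32670) D32669
theorem F160047 : act 7 n34520 = n32694 := d42_1 D34520 (iv D32694) (iv F151690)
theorem F160048 : act 5 n32735 = n34520 := d36_3 F160047 (iv F151779) (iv F151896)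
def n34521 : Q := act 3 n32672
theorem D34521 : act 3 n32672 = n34521 := rfl
theorem F160049 : act 1 n34521 = n32779 := d10_1 D34521 F152011 (iv F151701)
theorem F160050 : act 4 n34521 = n32851 := d24_2 D32672 D34521 F152247 F143140 (iv F142579)
theorem F160051 : act 8 n34521 = n32775 := d28_2 (iv F151703) D34521 (iv D32775)
def n34522 : Q := act 7 n32672
theorem D34522 : act 7 n32672 = n34522 := rfl
theorem F160052 : act 1 n34522 = n32781 := d14_1 D34522 F152017 (iv F151701)
theorem F160053 : act 2 n34522 = n32674 := d21_1 D34522 (iv D32674) (iv F151702)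
theorem F160054 : act 4 n34522 = n32673 := d32_1 D34522 (iv D32673) D32672
theorem F160055 : act 8 n34522 = n32776 := d42_2 (iv F151703) D34522 (iv D32776)
def n34523 : Q := act 6 n32673
theorem D34523 : act 6 n32673 = n34523 := rfl
theorem F160056 : act 1 n34523 = n32784 := d13_1 D34523 F152024 (iv F151704)
theorem F160057 : act 2 n34523 = n32676 := d20_1 D34523 (iv D32676) (iv F151705)
theorem F160058 : act 3 n34523 = n32757 := d26_1 D34523 F151956 (iv F151706)
theorem F160059 : act 5 n34523 = n32691 := d35_1 D34523 (iv D32691) F142641 (iv F142584) (iv F151707)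
theorem F160060 : act 8 n34523 = n32777 := d40_2 (iv F151708) D34523 (iv D32777)
def n34524 : Q := act 6 n32674
theorem D34524 : act 6 n32674 = n34524 := rfl
theorem F160061 : act 1 n34524 = n32756 := d13_1 D34524 (iv D32756) (iv F151709)
theorem F160062 : act 4 n34524 = n32676 := d31_1 D34524 (iv D32676) (iv F151710)
def n34525 : Q := act 8 n32674
theorem D34525 : act 8 n32674 = n34525 := rfl
theorem F160063 : act 1 n34525 = n32690 := d15_1 D34525 F151765 (iv F151709)
theorem F160064 : act 2 n34525 = n32776 := d22_1 D34525 (iv F160055) F160053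
theorem F160065 : act 4 n34525 = n32677 := d33_1 D34525 (iv D32677) (iv F151710)
theorem F160066 : act 7 n34525 = n32675 := d42_1 D34525 (iv D32675) D32674
def n34526 : Q := act 9 n32675
theorem D34526 : act 9 n32675 = n34526 := rfl
theorem F160067 : act 1 n34526 = n32682 := d16_1 D34526 F151741 (iv F151711)
theorem F160068 : act 2 n34526 = n32759 := d23_1 D34526 F151961 (iv F151712)
theorem F160069 : act 4 n34526 = n32678 := d34_1 D34526 (iv D32678) (iv F151713)
def n34527 : Q := act 8 n32676
theorem D34527 : act 8 n32676 = n34527 := rfl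
theorem F160070 : act 1 n34527 = n32691 := d15_1 D34527 F151768 (iv F151714)
theorem F160071 : act 2 n34527 = n32777 := d22_1 D34527 (iv F160060) F160057
theorem F160072 : act 3 n34527 = n32679 := d28_1 D34527 (iv D32679) (iv F151715)
theorem F160073 : act 5 n34527 = n32784 := d37_1 D34527 (iv D32784) F151779 (iv D32694) (iv F151716)
theorem F160074 : act 6 n34527 = n32677 := d40_1 D34527 (iv D32677) D32676
def n34528 : Q := act 9 n32677
theorem D34528 : act 9 n32677 = n34528 := rfl
theorem F160075 : act 1 n34528 = n32683 := d16_1 D34528 F151745 (iv F151717)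
theorem F160076 : act 2 n34528 = n32760 := d23_1 D34528 F151965 (iv F151718)
theorem F160077 : act 3 n34528 = n32680 := d29_1 D34528 (iv D32680) (iv F151719)
theorem F160078 : act 5 n34528 = n32681 := d38_1 D34528 F151739 (iv F151720)
theorem F160079 : act 7 n34528 = n32678 := d43_1 D34528 (iv D32678) (iv F151721)
def n34529 : Q := act 9 n32679
theorem D34529 : act 9 n32679 = n34529 := rfl
theorem F160080 : act 1 n34529 = n32758 := d16_1 D34529 (iv D32758) (iv F151726)
theorem F160081 : act 2 n34529 = n32862 := d23_1 D34529 (iv D32862) (iv F151727)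
theorem F160082 : act 5 n34529 = n32858 := d38_1 D34529 (iv D32858) (iv F151728)
theorem F160083 : act 6 n34529 = n32680 := d41_1 D34529 (iv D32680) (iv F151729)
def n34530 : Q := act 3 n32682
theorem D34530 : act 3 n32682 = n34530 := rfl
theorem F160084 : act 4 n34530 = n32753 := d24_2 D32682 D34530 F151944 F142806 (iv F142610)
theorem F160085 : act 9 n34530 = n32689 := d29_2 (iv F151741) D34530 (iv D32689)
def n34531 : Q := act 7 n32682
theorem D34531 : act 7 n32682 = n34531 := rfl
theorem F160086 : act 2 n34531 = n32684 := d21_1 D34531 (iv D32684) (iv F151740)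
theorem F160087 : act 4 n34531 = n32683 := d32_1 D34531 (iv D32683) D32682
theorem F160088 : act 9 n34531 = n32690 := d43_2 (iv F151741) D34531 (iv D32690)
def n34532 : Q := act 6 n32683
theorem D34532 : act 6 n32683 = n34532 := rfl
theorem F160089 : act 2 n34532 = n32686 := d20_1 D34532 (iv D32686) (iv F151742)
theorem F160090 : act 3 n34532 = n32758 := d26_1 D34532 F151959 (iv F151743)
theorem F160091 : act 9 n34532 = n32691 := d41_2 (iv F151745) D34532 (iv D32691)
def n34533 : Q := act 6 n32684
theorem D34533 : act 6 n32684 = n34533 := rfl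
theorem F160092 : act 1 n34533 = n32767 := d13_1 D34533 (iv D32767) (iv F151746)
theorem F160093 : act 4 n34533 = n32686 := d31_1 D34533 (iv D32686) (iv F151747)
theorem F160094 : act 9 n34533 = n32692 := d41_2 (iv F151748) D34533 (iv D32692)
def n34534 : Q := act 8 n32684
theorem D34534 : act 8 n32684 = n34534 := rfl
theorem F160095 : act 1 n34534 = n32768 := d15_1 D34534 (iv D32768) (iv F151746)
theorem F160096 : act 4 n34534 = n32687 := d33_1 D34534 (iv D32687) (iv F151747)
theorem F160097 : act 7 n34534 = n32685 := d42_1 D34534 (iv D32685) D32684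
def n34535 : Q := act 5 n32685
theorem D34535 : act 5 n32685 = n34535 := rfl
theorem F160098 : act 1 n34535 = n32769 := d12_1 D34535 (iv D32769) (iv F151749)
theorem F160099 : act 4 n34535 = n32880 := d30_1 D34535 (iv D32880) F143268 (iv F142624) (iv F151750)
def n34536 : Q := act 8 n32686
theorem D34536 : act 8 n32686 = n34536 := rfl
theorem F160100 : act 1 n34536 = n32771 := d15_1 D34536 (iv D32771) (iv F151751)
theorem F160101 : act 3 n34536 = n32688 := d28_1 D34536 (iv D32688) (iv F151752)
theorem F160102 : act 6 n34536 = n32687 := d40_1 D34536 (iv D32687) D32686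
def n34537 : Q := act 5 n32688
theorem D34537 : act 5 n32688 = n34537 := rfl
theorem F160103 : act 1 n34537 = n32773 := d12_1 D34537 (iv D32773) (iv F151758)
theorem F160104 : act 2 n34537 = n33026 := d19_1 D34537 (iv D33026) (iv F151759)
theorem F160105 : act 6 n34537 = n32882 := d35_2 (iv F151760) D34537 (iv D32882) F143280 (iv F142630)
def n34538 : Q := act 7 n32689
theorem D34538 : act 7 n32689 = n34538 := rfl
theorem F160106 : act 3 n34538 = n32690 := d27_1 D34538 (iv D32690) D32689
theorem F160107 : act 4 n34538 = n32752 := d32_1 D34538 F151943 (iv F151761)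
theorem F160108 : act 8 n34538 = n32750 := d42_2 (iv F151762) D34538 (iv D32750)
def n34539 : Q := act 6 n32690
theorem D34539 : act 6 n32690 = n34539 := rfl
theorem F160109 : act 2 n34539 = n32692 := d20_1 D34539 (iv D32692) (iv F151763)
theorem F160110 : act 4 n34539 = n32691 := d31_1 D34539 (iv D32691) (iv F151764)
theorem F160111 : act 8 n34539 = n32756 := d40_2 (iv F151765) D34539 (iv D32756)
def n34540 : Q := act 5 n32692
theorem D34540 : act 5 n32692 = n34540 := rfl
theorem F160112 : act 1 n34540 = n32786 := d12_1 D34540 (iv D32786) (iv F151769)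
def n34541 : Q := act 8 n32692
theorem D34541 : act 8 n32692 = n34541 := rfl
theorem F160113 : act 1 n34541 = n32787 := d15_1 D34541 (iv D32787) (iv F151769)
theorem F160114 : act 2 n34541 = n32756 := d22_1 D34541 (iv F160111) F160109
theorem F160115 : act 4 n34541 = n32694 := d33_1 D34541 (iv D32694) (iv F151770)
theorem F160116 : act 6 n34541 = n32693 := d40_1 D34541 (iv D32693) D32692
def n34542 : Q := act 5 n32695
theorem D34542 : act 5 n32695 = n34542 := rfl
theorem F160117 : act 1 n34542 = n32696 := d12_1 D34542 (iv D32696) (iv F151780)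
theorem F160118 : act 3 n34542 = n34542 := d25_1 D34542 (iv D34542) F151781
theorem F160119 : act 9 n34542 = n32703 := d38_2 (iv F151784) D34542 (iv D32703)
def n34543 : Q := act 7 n32695
theorem D34543 : act 7 n32695 = n34543 := rfl
theorem F160120 : act 1 n34543 = n32697 := d14_1 D34543 (iv D32697) (iv F151780)
theorem F160121 : act 3 n34543 = n34543 := d27_1 D34543 (iv D34543) F151781
theorem F160122 : act 4 n34543 = n32719 := d32_1 D34543 (iv D32719) (iv F151782)
theorem F160123 : act 6 n34543 = n32916 := d39_1 D34543 F152470 F143453 (iv F142667) D32695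
theorem F160124 : act 8 n34543 = n34543 := d42_2 F151783 D34543 (iv D34543)
theorem F160125 : act 9 n34543 = n32704 := d43_2 (iv F151784) D34543 (iv D32704)
def n34544 : Q := act 4 n32696
theorem D34544 : act 4 n32696 = n34544 := rfl
theorem F160126 : act 2 n34544 = n32698 := d18_1 D34544 (iv D32698) (iv F151785)
theorem F160127 : act 5 n34544 = n32720 := d30_2 D32696 D34544 (iv D32720) (iv D30723) (iv F142672)
theorem F160128 : act 9 n34544 = n32705 := d34_2 (iv F151787) D34544 (iv D32705)
def n34545 : Q := act 7 n32696
theorem D34545 : act 7 n32696 = n34545 := rfl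
theorem F160129 : act 2 n34545 = n32699 := d21_1 D34545 (iv D32699) (iv F151785)
theorem F160130 : act 3 n34545 = n34545 := d27_1 D34545 (iv D34545) F151786
theorem F160131 : act 5 n34545 = n32697 := d36_1 D34545 (iv D32697) D32696
theorem F160132 : act 9 n34545 = n32706 := d43_2 (iv F151787) D34545 (iv D32706)
def n34546 : Q := act 7 n32698
theorem D34546 : act 7 n32698 = n34546 := rfl
theorem F160133 : act 4 n34546 = n32699 := d32_1 D34546 (iv D32699) D32698
theorem F160134 : act 5 n34546 = n32723 := d36_1 D34546 (iv D32723) (iv F151793)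
theorem F160135 : act 9 n34546 = n32708 := d43_2 (iv F151794) D34546 (iv D32708)
def n34547 : Q := act 8 n32698
theorem D34547 : act 8 n32698 = n34547 := rfl
theorem F160136 : act 4 n34547 = n32700 := d33_1 D34547 (iv D32700) D32698
def n34548 : Q := act 6 n32699
theorem D34548 : act 6 n32699 = n34548 := rfl
theorem F160137 : act 3 n34548 = n32701 := d26_1 D34548 (iv D32701) (iv F151795)
theorem F160138 : act 9 n34548 = n32710 := d41_2 (iv F151797) D34548 (iv D32710)
def n34549 : Q := act 8 n32699
theorem D34549 : act 8 n32699 = n34549 := rfl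
theorem F160139 : act 3 n34549 = n32702 := d28_1 D34549 (iv D32702) (iv F151795)
theorem F160140 : act 5 n34549 = n34549 := d37_1 D34549 (iv D34549) F151796 F142679 (iv F151796)
theorem F160141 : act 7 n34549 = n32700 := d42_1 D34549 (iv D32700) D32699
def n34550 : Q := act 8 n32701
theorem D34550 : act 8 n32701 = n34550 := rfl
theorem F160142 : act 2 n34550 = n34550 := d22_1 D34550 (iv D34550) F151800
theorem F160143 : act 6 n34550 = n32702 := d40_1 D34550 (iv D32702) D32701
def n34551 : Q := act 4 n32703
theorem D34551 : act 4 n32703 = n34551 := rfl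
theorem F160144 : act 1 n34551 = n32705 := d11_1 D34551 (iv D32705) (iv F151805)
theorem F160145 : act 5 n34551 = n32730 := d30_2 D32703 D34551 (iv D32730) (iv D30731) (iv F142688)
def n34552 : Q := act 7 n32703
theorem D34552 : act 7 n32703 = n34552 := rfl
theorem F160146 : act 1 n34552 = n32706 := d14_1 D34552 (iv D32706) (iv F151805)
theorem F160147 : act 3 n34552 = n34552 := d27_1 D34552 (iv D34552) F151806
theorem F160148 : act 5 n34552 = n32704 := d36_1 D34552 (iv D32704) D32703
def n34553 : Q := act 3 n32705
theorem D34553 : act 3 n32705 = n34553 := rfl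
theorem F160149 : act 4 n34553 = n34553 := d24_2 D32705 D34553 (iv D34553) (iv D32705) F142691
theorem F160150 : act 5 n34553 = n32732 := d25_2 (iv F151813) D34553 (iv D32732)
def n34554 : Q := act 7 n32705
theorem D34554 : act 7 n32705 = n34554 := rfl
theorem F160151 : act 2 n34554 = n32708 := d21_1 D34554 (iv D32708) (iv F151812)
theorem F160152 : act 4 n34554 = n32706 := d32_1 D34554 (iv D32706) D32705
theorem F160153 : act 5 n34554 = n32733 := d36_1 D34554 (iv D32733) (iv F151813)
def n34555 : Q := act 8 n32705
theorem D34555 : act 8 n32705 = n34555 := rfl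
theorem F160154 : act 2 n34555 = n32709 := d22_1 D34555 (iv D32709) (iv F151812)
theorem F160155 : act 4 n34555 = n32707 := d33_1 D34555 (iv D32707) D32705
def n34556 : Q := act 6 n32706
theorem D34556 : act 6 n32706 = n34556 := rfl
theorem F160156 : act 2 n34556 = n32710 := d20_1 D34556 (iv D32710) (iv F151814)
theorem F160157 : act 3 n34556 = n34556 := d26_1 D34556 (iv D34556) F151815
def n34557 : Q := act 8 n32706
theorem D34557 : act 8 n32706 = n34557 := rfl
theorem F160158 : act 2 n34557 = n32711 := d22_1 D34557 (iv D32711) (iv F151814)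
theorem F160159 : act 3 n34557 = n34557 := d28_1 D34557 (iv D34557) F151815
theorem F160160 : act 5 n34557 = n32905 := d37_1 D34557 (iv D32905) F143416 (iv F142695) (iv F151816)
theorem F160161 : act 7 n34557 = n32707 := d42_1 D34557 (iv D32707) D32706
def n34558 : Q := act 9 n32707
theorem D34558 : act 9 n32707 = n34558 := rfl
theorem F160162 : act 2 n34558 = n32712 := d23_1 D34558 (iv D32712) (iv F151817)
theorem F160163 : act 3 n34558 = n34558 := d29_1 D34558 (iv D34558) F151818
theorem F160164 : act 5 n34558 = n32906 := d38_1 D34558 (iv D32906) (iv F151819)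
def n34559 : Q := act 6 n32708
theorem D34559 : act 6 n32708 = n34559 := rfl
theorem F160165 : act 4 n34559 = n32710 := d31_1 D34559 (iv D32710) (iv F151820)
def n34560 : Q := act 8 n32708
theorem D34560 : act 8 n32708 = n34560 := rfl
theorem F160166 : act 4 n34560 = n32711 := d33_1 D34560 (iv D32711) (iv F151820)
theorem F160167 : act 7 n34560 = n32709 := d42_1 D34560 (iv D32709) D32708
def n34561 : Q := act 5 n32709
theorem D34561 : act 5 n32709 = n34561 := rfl
theorem F160168 : act 4 n34561 = n32909 := d30_1 D34561 (iv D32909) F143426 (iv F142700) (iv F151822)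
theorem F160169 : act 8 n34561 = n32740 := d37_2 D32709 D34561 (iv D32740) (iv D30737) (iv F142696)
def n34562 : Q := act 9 n32709
theorem D34562 : act 9 n32709 = n34562 := rfl
theorem F160170 : act 4 n34562 = n32712 := d34_1 D34562 (iv D32712) (iv F151822)
def n34563 : Q := act 8 n32710
theorem D34563 : act 8 n32710 = n34563 := rfl
theorem F160171 : act 3 n34563 = n32713 := d28_1 D34563 (iv D32713) (iv F151823)
theorem F160172 : act 6 n34563 = n32711 := d40_1 D34563 (iv D32711) D32710
def n34564 : Q := act 9 n32711
theorem D34564 : act 9 n32711 = n34564 := rfl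
theorem F160173 : act 3 n34564 = n32714 := d29_1 D34564 (iv D32714) (iv F151824)
theorem F160174 : act 5 n34564 = n32912 := d38_1 D34564 (iv D32912) (iv F151825)
theorem F160175 : act 7 n34564 = n32712 := d43_1 D34564 (iv D32712) (iv F151826)
def n34565 : Q := act 5 n32713
theorem D34565 : act 5 n32713 = n34565 := rfl
theorem F160176 : act 2 n34565 = n34565 := d19_1 D34565 (iv D34565) F151829
theorem F160177 : act 6 n34565 = n32913 := d35_2 (iv F151830) D34565 (iv D32913) F143438 (iv F142703)
def n34566 : Q := act 9 n32713
theorem D34566 : act 9 n32713 = n34566 := rfl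
theorem F160178 : act 2 n34566 = n34566 := d23_1 D34566 (iv D34566) F151829
theorem F160179 : act 6 n34566 = n32714 := d41_1 D34566 (iv D32714) (iv F151830)
def n34567 : Q := act 6 n32715
theorem D34567 : act 6 n32715 = n34567 := rfl
theorem F160180 : act 4 n34567 = n32716 := d31_1 D34567 (iv D32716) (iv F151834)
theorem F160181 : act 7 n34567 = n32756 := d39_2 D32715 D34567 (iv D32756) (iv D30752) (iv F142712)
def n34568 : Q := act 4 n32718
theorem D34568 : act 4 n32718 = n34568 := rfl
theorem F160182 : act 1 n34568 = n32720 := d11_1 D34568 (iv D32720) (iv F151841)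
theorem F160183 : act 6 n34568 = n32759 := d31_2 (iv F151843) D34568 (iv D32759)
theorem F160184 : act 9 n34568 = n32730 := d34_2 (iv F151844) D34568 (iv D32730)
def n34569 : Q := act 7 n32718
theorem D34569 : act 7 n32718 = n34569 := rfl
theorem F160185 : act 1 n34569 = n32721 := d14_1 D34569 (iv D32721) (iv F151841)
theorem F160186 : act 3 n34569 = n32804 := d27_1 D34569 (iv D32804) (iv F151842)
theorem F160187 : act 5 n34569 = n32719 := d36_1 D34569 (iv D32719) D32718
theorem F160188 : act 9 n34569 = n32731 := d43_2 (iv F151844) D34569 (iv D32731)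
def n34570 : Q := act 3 n32720
theorem D34570 : act 3 n32720 = n34570 := rfl
theorem F160189 : act 4 n34570 = n32805 := d24_2 D32720 D34570 (iv D32805) (iv D30804) (iv F142726)
theorem F160190 : act 6 n34570 = n32761 := d26_2 (iv F151851) D34570 (iv D32761)
theorem F160191 : act 9 n34570 = n32732 := d29_2 (iv F151852) D34570 (iv D32732)
def n34571 : Q := act 7 n32720
theorem D34571 : act 7 n32720 = n34571 := rfl
theorem F160192 : act 2 n34571 = n32723 := d21_1 D34571 (iv D32723) (iv F151850)
theorem F160193 : act 4 n34571 = n32721 := d32_1 D34571 (iv D32721) D32720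
theorem F160194 : act 9 n34571 = n32733 := d43_2 (iv F151852) D34571 (iv D32733)
def n34572 : Q := act 8 n32720
theorem D34572 : act 8 n32720 = n34572 := rfl
theorem F160195 : act 2 n34572 = n32724 := d22_1 D34572 (iv D32724) (iv F151850)
theorem F160196 : act 4 n34572 = n32722 := d33_1 D34572 (iv D32722) D32720
theorem F160197 : act 6 n34572 = n32763 := d40_1 D34572 (iv D32763) (iv F151851)
def n34573 : Q := act 6 n32721
theorem D34573 : act 6 n32721 = n34573 := rfl
theorem F160198 : act 2 n34573 = n32725 := d20_1 D34573 (iv D32725) (iv F151853)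
theorem F160199 : act 3 n34573 = n32807 := d26_1 D34573 (iv D32807) (iv F151854)
theorem F160200 : act 7 n34573 = n32764 := d39_2 D32721 D34573 (iv D32764) (iv D30759) (iv F142727)
theorem F160201 : act 9 n34573 = n32735 := d41_2 (iv F151856) D34573 (iv D32735)
def n34574 : Q := act 8 n32721
theorem D34574 : act 8 n32721 = n34574 := rfl
theorem F160202 : act 2 n34574 = n32726 := d22_1 D34574 (iv D32726) (iv F151853)
theorem F160203 : act 3 n34574 = n32808 := d28_1 D34574 (iv D32808) (iv F151854)
theorem F160204 : act 5 n34574 = n34574 := d37_1 D34574 (iv D34574) F151855 F142731 (iv F151855)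
theorem F160205 : act 7 n34574 = n32722 := d42_1 D34574 (iv D32722) D32721
def n34575 : Q := act 9 n32722
theorem D34575 : act 9 n32722 = n34575 := rfl
theorem F160206 : act 1 n34575 = n32749 := d16_1 D34575 (iv F159591) F159586
theorem F160207 : act 2 n34575 = n32727 := d23_1 D34575 (iv D32727) (iv F151857)
theorem F160208 : act 3 n34575 = n32809 := d29_1 D34575 (iv D32809) (iv F151858)
theorem F160209 : act 5 n34575 = n34575 := d38_1 D34575 (iv D34575) F151859
theorem F160210 : act 6 n34575 = n32766 := d41_1 D34575 (iv D32766) (iv F151860)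
theorem F160211 : act 8 n34575 = n32737 := d44_1 D34575 (iv D32737) (iv D30735) (iv F142728) D32722
def n34576 : Q := act 6 n32723
theorem D34576 : act 6 n32723 = n34576 := rfl
theorem F160212 : act 4 n34576 = n32725 := d31_1 D34576 (iv D32725) (iv F151861)
theorem F160213 : act 7 n34576 = n32767 := d39_2 D32723 D34576 (iv D32767) (iv D30761) (iv F142733)
theorem F160214 : act 9 n34576 = n32738 := d41_2 (iv F151862) D34576 (iv D32738)
def n34577 : Q := act 8 n32723
theorem D34577 : act 8 n32723 = n34577 := rfl
theorem F160215 : act 4 n34577 = n32726 := d33_1 D34577 (iv D32726) (iv F151861)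
theorem F160216 : act 7 n34577 = n32724 := d42_1 D34577 (iv D32724) D32723
def n34578 : Q := act 5 n32724
theorem D34578 : act 5 n32724 = n34578 := rfl
theorem F160217 : act 4 n34578 = n34578 := d30_1 D34578 (iv D34578) F151863 F142739 (iv F151863)
def n34579 : Q := act 9 n32724
theorem D34579 : act 9 n32724 = n34579 := rfl
theorem F160218 : act 4 n34579 = n32727 := d34_1 D34579 (iv D32727) (iv F151863)
theorem F160219 : act 6 n34579 = n32770 := d41_1 D34579 (iv D32770) (iv F151864)
theorem F160220 : act 8 n34579 = n32741 := d44_1 D34579 (iv D32741) (iv D30737) (iv F142734) D32724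
def n34580 : Q := act 8 n32725
theorem D34580 : act 8 n32725 = n34580 := rfl
theorem F160221 : act 3 n34580 = n32728 := d28_1 D34580 (iv D32728) (iv F151865)
theorem F160222 : act 6 n34580 = n32726 := d40_1 D34580 (iv D32726) D32725
theorem F160223 : act 7 n34580 = n32771 := d42_1 D34580 (iv D32771) (iv F151866)
def n34581 : Q := act 9 n32726
theorem D34581 : act 9 n32726 = n34581 := rfl
theorem F160224 : act 3 n34581 = n32729 := d29_1 D34581 (iv D32729) (iv F151868)
theorem F160225 : act 5 n34581 = n34581 := d38_1 D34581 (iv D34581) F151869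
theorem F160226 : act 7 n34581 = n32727 := d43_1 D34581 (iv D32727) (iv F151870)
theorem F160227 : act 8 n34581 = n32743 := d44_1 D34581 (iv D32743) (iv D30739) (iv F142737) D32726
def n34582 : Q := act 5 n32728
theorem D34582 : act 5 n32728 = n34582 := rfl
theorem F160228 : act 2 n34582 = n32814 := d19_1 D34582 (iv D32814) (iv F151875)
theorem F160229 : act 6 n34582 = n34582 := d35_2 (iv F151876) D34582 (iv D34582) F151876 F142745
theorem F160230 : act 7 n34582 = n32773 := d36_2 (iv F151877) D34582 (iv D32773)
def n34583 : Q := act 9 n32728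
theorem D34583 : act 9 n32728 = n34583 := rfl
theorem F160231 : act 2 n34583 = n32815 := d23_1 D34583 (iv D32815) (iv F151875)
theorem F160232 : act 6 n34583 = n32729 := d41_1 D34583 (iv D32729) (iv F151876)
theorem F160233 : act 7 n34583 = n32774 := d43_1 D34583 (iv D32774) (iv F151877)
theorem F160234 : act 8 n34583 = n32745 := d44_1 D34583 (iv D32745) (iv D30741) (iv F142743) D32728
def n34584 : Q := act 3 n32730
theorem D34584 : act 3 n32730 = n34584 := rfl
theorem F160235 : act 1 n34584 = n32732 := d10_1 D34584 (iv D32732) (iv F151882)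
theorem F160236 : act 4 n34584 = n32816 := d24_2 D32730 D34584 (iv D32816) (iv D30814) (iv F142752)
theorem F160237 : act 6 n34584 = n32775 := d26_2 (iv F151883) D34584 (iv D32775)
def n34585 : Q := act 7 n32730
theorem D34585 : act 7 n32730 = n34585 := rfl
theorem F160238 : act 1 n34585 = n32733 := d14_1 D34585 (iv D32733) (iv F151882)
theorem F160239 : act 4 n34585 = n32731 := d32_1 D34585 (iv D32731) D32730
def n34586 : Q := act 6 n32731
theorem D34586 : act 6 n32731 = n34586 := rfl
theorem F160240 : act 1 n34586 = n32735 := d13_1 D34586 (iv D32735) (iv F151884)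
theorem F160241 : act 3 n34586 = n32744 := d26_1 D34586 F151921 (iv F151885)
theorem F160242 : act 5 n34586 = n32742 := d35_1 D34586 F151914 F142773 (iv F142756) (iv F151886)
theorem F160243 : act 7 n34586 = n32777 := d39_2 D32731 D34586 (iv D32777) (iv D30769) (iv F142753)
def n34587 : Q := act 7 n32732
theorem D34587 : act 7 n32732 = n34587 := rfl
theorem F160244 : act 3 n34587 = n32733 := d27_1 D34587 (iv D32733) D32732
theorem F160245 : act 4 n34587 = n32818 := d32_1 D34587 (iv D32818) (iv F151887)
def n34588 : Q := act 8 n32732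
theorem D34588 : act 8 n32732 = n34588 := rfl
theorem F160246 : act 3 n34588 = n32734 := d28_1 D34588 (iv D32734) D32732
theorem F160247 : act 4 n34588 = n32819 := d33_1 D34588 (iv D32819) (iv F151887)
theorem F160248 : act 6 n34588 = n32779 := d40_1 D34588 (iv D32779) (iv F151888)
def n34589 : Q := act 6 n32733
theorem D34589 : act 6 n32733 = n34589 := rfl
theorem F160249 : act 2 n34589 = n32738 := d20_1 D34589 (iv D32738) (iv F151889)
theorem F160250 : act 4 n34589 = n32735 := d31_1 D34589 (iv D32735) (iv F151890)
theorem F160251 : act 7 n34589 = n32780 := d39_2 D32733 D34589 (iv D32780) (iv D30771) (iv F142759)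
def n34590 : Q := act 8 n32733
theorem D34590 : act 8 n32733 = n34590 := rfl
theorem F160252 : act 2 n34590 = n32739 := d22_1 D34590 (iv D32739) (iv F151889)
theorem F160253 : act 4 n34590 = n32736 := d33_1 D34590 (iv D32736) (iv F151890)
theorem F160254 : act 7 n34590 = n32734 := d42_1 D34590 (iv D32734) D32733
def n34591 : Q := act 9 n32734
theorem D34591 : act 9 n32734 = n34591 := rfl
theorem F160255 : act 1 n34591 = n32747 := d16_1 D34591 (iv F153135) F153130
theorem F160256 : act 2 n34591 = n32741 := d23_1 D34591 (iv D32741) (iv F151891)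
theorem F160257 : act 4 n34591 = n32737 := d34_1 D34591 (iv D32737) (iv F151892)
theorem F160258 : act 6 n34591 = n32783 := d41_1 D34591 (iv D32783) (iv F151893)
def n34592 : Q := act 8 n32735
theorem D34592 : act 8 n32735 = n34592 := rfl
theorem F160259 : act 2 n34592 = n32742 := d22_1 D34592 (iv D32742) (iv F151894)
theorem F160260 : act 3 n34592 = n32823 := d28_1 D34592 (iv D32823) (iv F151895)
theorem F160261 : act 6 n34592 = n32736 := d40_1 D34592 (iv D32736) D32735
theorem F160262 : act 7 n34592 = n32784 := d42_1 D34592 (iv D32784) (iv F151896)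
def n34593 : Q := act 9 n32736
theorem D34593 : act 9 n32736 = n34593 := rfl
theorem F160263 : act 1 n34593 = n32748 := d16_1 D34593 (iv F153142) F153137
theorem F160264 : act 2 n34593 = n32743 := d23_1 D34593 (iv D32743) (iv F151897)
theorem F160265 : act 3 n34593 = n32824 := d29_1 D34593 (iv D32824) (iv F151898)
theorem F160266 : act 5 n34593 = n32746 := d38_1 D34593 F151930 (iv F151899)
theorem F160267 : act 7 n34593 = n32737 := d43_1 D34593 (iv D32737) (iv F151900)
def n34594 : Q := act 5 n32738
theorem D34594 : act 5 n32738 = n34594 := rfl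
theorem F160268 : act 7 n34594 = n32786 := d36_2 (iv F151907) D34594 (iv D32786)
def n34595 : Q := act 8 n32738
theorem D34595 : act 8 n32738 = n34595 := rfl
theorem F160269 : act 4 n34595 = n32742 := d33_1 D34595 (iv D32742) (iv F151906)
theorem F160270 : act 6 n34595 = n32739 := d40_1 D34595 (iv D32739) D32738
theorem F160271 : act 7 n34595 = n32787 := d42_1 D34595 (iv D32787) (iv F151907)
def n34596 : Q := act 5 n32739
theorem D34596 : act 5 n32739 = n34596 := rfl
theorem F160272 : act 4 n34596 = n32915 := d30_1 D34596 (iv D32915) F143448 (iv F142773) (iv F151908)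
theorem F160273 : act 7 n34596 = n32740 := d36_2 (iv F151909) D34596 (iv D32740)
def n34597 : Q := act 9 n32739
theorem D34597 : act 9 n32739 = n34597 := rfl
theorem F160274 : act 4 n34597 = n32743 := d34_1 D34597 (iv D32743) (iv F151908)
theorem F160275 : act 7 n34597 = n32741 := d43_1 D34597 (iv D32741) (iv F151909)
def n34598 : Q := act 6 n32740
theorem D34598 : act 6 n32740 = n34598 := rfl
theorem F160276 : act 4 n34598 = n32917 := d31_1 D34598 (iv D32917) (iv F151910)
theorem F160277 : act 5 n34598 = n32790 := d35_1 D34598 (iv D32790) (iv D30778) (iv F142769) D32740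
def n34599 : Q := act 9 n32740
theorem D34599 : act 9 n32740 = n34599 := rfl
theorem F160278 : act 4 n34599 = n32918 := d34_1 D34599 (iv D32918) (iv F151910)
theorem F160279 : act 5 n34599 = n32741 := d38_1 D34599 (iv D32741) D32740
def n34600 : Q := act 9 n32742
theorem D34600 : act 9 n32742 = n34600 := rfl
theorem F160280 : act 3 n34600 = n32745 := d29_1 D34600 (iv D32745) (iv F151913)
theorem F160281 : act 6 n34600 = n32743 := d41_1 D34600 (iv D32743) (iv F151914)
theorem F160282 : act 7 n34600 = n32791 := d43_1 D34600 (iv D32791) (iv F151915)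
def n34601 : Q := act 4 n32744
theorem D34601 : act 4 n32744 = n34601 := rfl
theorem F160283 : act 1 n34601 = n32820 := d11_1 D34601 F152139 (iv F151919)
theorem F160284 : act 2 n34601 = n32829 := d18_1 D34601 (iv D32829) (iv F151920)
theorem F160285 : act 6 n34601 = n32817 := d31_2 (iv F151921) D34601 F152132
theorem F160286 : act 7 n34601 = n32792 := d32_2 (iv F151922) D34601 (iv D32792)
def n34602 : Q := act 9 n32744
theorem D34602 : act 9 n32744 = n34602 := rfl
theorem F160287 : act 1 n34602 = n32807 := d16_1 D34602 F152090 (iv F151919)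
theorem F160288 : act 2 n34602 = n32830 := d23_1 D34602 (iv D32830) (iv F151920)
theorem F160289 : act 5 n34602 = n32745 := d38_1 D34602 (iv D32745) D32744
theorem F160290 : act 6 n34602 = n32804 := d41_1 D34602 F152080 (iv F151921)
theorem F160291 : act 7 n34602 = n32793 := d43_1 D34602 (iv D32793) (iv F151922)
def n34603 : Q := act 7 n32747
theorem D34603 : act 7 n32747 = n34603 := rfl
theorem F160292 : act 2 n34603 = n32750 := d21_1 D34603 (iv D32750) (iv F151931)
theorem F160293 : act 4 n34603 = n32748 := d32_1 D34603 (iv D32748) D32747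
def n34604 : Q := act 6 n32748
theorem D34604 : act 6 n32748 = n34604 := rfl
theorem F160294 : act 2 n34604 = n32751 := d20_1 D34604 (iv D32751) (iv F151932)
theorem F160295 : act 3 n34604 = n32832 := d26_1 D34604 (iv D32832) (iv F151933)
def n34605 : Q := act 8 n32748
theorem D34605 : act 8 n32748 = n34605 := rfl
theorem F160296 : act 2 n34605 = n32752 := d22_1 D34605 (iv D32752) (iv F151932)
theorem F160297 : act 3 n34605 = n32833 := d28_1 D34605 (iv D32833) (iv F151933)
theorem F160298 : act 5 n34605 = n34605 := d37_1 D34605 (iv D34605) F151934 F142793 (iv F151934)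
theorem F160299 : act 7 n34605 = n32749 := d42_1 D34605 (iv D32749) D32748
def n34606 : Q := act 6 n32750
theorem D34606 : act 6 n32750 = n34606 := rfl
theorem F160300 : act 3 n34606 = n32756 := d26_1 D34606 (iv D32756) (iv F151938)
theorem F160301 : act 4 n34606 = n32751 := d31_1 D34606 (iv D32751) (iv F151939)
def n34607 : Q := act 8 n32751
theorem D34607 : act 8 n32751 = n34607 := rfl
theorem F160302 : act 3 n34607 = n32754 := d28_1 D34607 (iv D32754) (iv F151940)
theorem F160303 : act 6 n34607 = n32752 := d40_1 D34607 (iv D32752) D32751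
def n34608 : Q := act 9 n32752
theorem D34608 : act 9 n32752 = n34608 := rfl
theorem F160304 : act 3 n34608 = n32755 := d29_1 D34608 (iv D32755) (iv F151941)
theorem F160305 : act 5 n34608 = n34608 := d38_1 D34608 (iv D34608) F151942
theorem F160306 : act 7 n34608 = n32753 := d43_1 D34608 (iv D32753) (iv F151943)
def n34609 : Q := act 5 n32754
theorem D34609 : act 5 n32754 = n34609 := rfl
theorem F160307 : act 2 n34609 = n32836 := d19_1 D34609 (iv D32836) (iv F151946)
theorem F160308 : act 6 n34609 = n34609 := d35_2 (iv F151948) D34609 (iv D34609) F151948 F142803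
def n34610 : Q := act 9 n32754
theorem D34610 : act 9 n32754 = n34610 := rfl
theorem F160309 : act 2 n34610 = n32837 := d23_1 D34610 (iv D32837) (iv F151946)
theorem F160310 : act 4 n34610 = n32758 := d34_1 D34610 (iv D32758) (iv F151947)
theorem F160311 : act 6 n34610 = n32755 := d41_1 D34610 (iv D32755) (iv F151948)
def n34611 : Q := act 5 n32756
theorem D34611 : act 5 n32756 = n34611 := rfl
theorem F160312 : act 4 n34611 = n32786 := d30_1 D34611 (iv D32786) F142868 (iv F142810) (iv F151953)
def n34612 : Q := act 4 n32757
theorem D34612 : act 4 n32757 = n34612 := rfl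
theorem F160313 : act 1 n34612 = n32856 := d11_1 D34612 F152258 (iv F151954)
theorem F160314 : act 2 n34612 = n32839 := d18_1 D34612 (iv D32839) (iv F151955)
theorem F160315 : act 6 n34612 = n32794 := d31_2 (iv F151956) D34612 (iv D32794)
theorem F160316 : act 8 n34612 = n32792 := d33_2 (iv F151957) D34612 (iv D32792)
def n34613 : Q := act 9 n32757
theorem D34613 : act 9 n32757 = n34613 := rfl
theorem F160317 : act 1 n34613 = n32858 := d16_1 D34613 (iv D32858) (iv F151954)
theorem F160318 : act 2 n34613 = n32802 := d23_1 D34613 F152072 (iv F151955)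
theorem F160319 : act 5 n34613 = n32758 := d38_1 D34613 (iv D32758) D32757
theorem F160320 : act 6 n34613 = n32795 := d41_1 D34613 (iv D32795) (iv F151956)
theorem F160321 : act 7 n34613 = n32832 := d43_1 D34613 (iv F153268) F153266
def n34614 : Q := act 7 n32759
theorem D34614 : act 7 n32759 = n34614 := rfl
theorem F160322 : act 1 n34614 = n32762 := d14_1 D34614 (iv D32762) (iv F151960)
theorem F160323 : act 4 n34614 = n32760 := d32_1 D34614 (iv D32760) D32759
theorem F160324 : act 9 n34614 = n32776 := d43_2 (iv F151961) D34614 (iv D32776)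
def n34615 : Q := act 6 n32760
theorem D34615 : act 6 n32760 = n34615 := rfl
theorem F160325 : act 1 n34615 = n32764 := d13_1 D34615 (iv D32764) (iv F151962)
theorem F160326 : act 3 n34615 = n32793 := d26_1 D34615 F152044 (iv F151963)
theorem F160327 : act 5 n34615 = n32791 := d35_1 D34615 F152037 F142876 (iv F142821) (iv F151964)
theorem F160328 : act 9 n34615 = n32777 := d41_2 (iv F151965) D34615 (iv D32777)
def n34616 : Q := act 7 n32761
theorem D34616 : act 7 n32761 = n34616 := rfl
theorem F160329 : act 3 n34616 = n32762 := d27_1 D34616 (iv D32762) D32761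
theorem F160330 : act 4 n34616 = n32840 := d32_1 D34616 (iv D32840) (iv F151966)
theorem F160331 : act 9 n34616 = n32778 := d43_2 (iv F151967) D34616 (iv D32778)
def n34617 : Q := act 6 n32762
theorem D34617 : act 6 n32762 = n34617 := rfl
theorem F160332 : act 2 n34617 = n32767 := d20_1 D34617 (iv D32767) (iv F151968)
theorem F160333 : act 4 n34617 = n32764 := d31_1 D34617 (iv D32764) (iv F151969)
theorem F160334 : act 9 n34617 = n32780 := d41_2 (iv F151970) D34617 (iv D32780)
def n34618 : Q := act 8 n32762
theorem D34618 : act 8 n32762 = n34618 := rfl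
theorem F160335 : act 2 n34618 = n32768 := d22_1 D34618 (iv D32768) (iv F151968)
theorem F160336 : act 4 n34618 = n32765 := d33_1 D34618 (iv D32765) (iv F151969)
theorem F160337 : act 7 n34618 = n32763 := d42_1 D34618 (iv D32763) D32762
def n34619 : Q := act 9 n32763
theorem D34619 : act 9 n32763 = n34619 := rfl
theorem F160338 : act 2 n34619 = n32770 := d23_1 D34619 (iv D32770) (iv F151971)
theorem F160339 : act 4 n34619 = n32766 := d34_1 D34619 (iv D32766) (iv F151972)
theorem F160340 : act 8 n34619 = n32783 := d44_1 D34619 (iv D32783) (iv D30772) (iv F142825) D32763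
def n34620 : Q := act 8 n32764
theorem D34620 : act 8 n32764 = n34620 := rfl
theorem F160341 : act 2 n34620 = n32771 := d22_1 D34620 (iv D32771) (iv F151973)
theorem F160342 : act 3 n34620 = n32842 := d28_1 D34620 (iv D32842) (iv F151974)
theorem F160343 : act 6 n34620 = n32765 := d40_1 D34620 (iv D32765) D32764
def n34621 : Q := act 9 n32765
theorem D34621 : act 9 n32765 = n34621 := rfl
theorem F160344 : act 2 n34621 = n32772 := d23_1 D34621 (iv D32772) (iv F151976)
theorem F160345 : act 3 n34621 = n32843 := d29_1 D34621 (iv D32843) (iv F151977)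
theorem F160346 : act 5 n34621 = n32885 := d38_1 D34621 (iv D32885) (iv F151978)
theorem F160347 : act 7 n34621 = n32766 := d43_1 D34621 (iv D32766) (iv F151979)
theorem F160348 : act 8 n34621 = n32785 := d44_1 D34621 (iv D32785) (iv D30774) (iv F142829) D32765
def n34622 : Q := act 5 n32767
theorem D34622 : act 5 n32767 = n34622 := rfl
theorem F160349 : act 9 n34622 = n32786 := d38_2 (iv F151985) D34622 (iv D32786)
def n34623 : Q := act 8 n32767
theorem D34623 : act 8 n32767 = n34623 := rfl
theorem F160350 : act 4 n34623 = n32771 := d33_1 D34623 (iv D32771) (iv F151984)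
theorem F160351 : act 6 n34623 = n32768 := d40_1 D34623 (iv D32768) D32767
def n34624 : Q := act 5 n32768
theorem D34624 : act 5 n32768 = n34624 := rfl
theorem F160352 : act 4 n34624 = n32888 := d30_1 D34624 (iv D32888) F143306 (iv F142839) (iv F151986)
theorem F160353 : act 7 n34624 = n32769 := d36_2 (iv F151987) D34624 (iv D32769)
def n34625 : Q := act 9 n32768
theorem D34625 : act 9 n32768 = n34625 := rfl
theorem F160354 : act 4 n34625 = n32772 := d34_1 D34625 (iv D32772) (iv F151986)
theorem F160355 : act 7 n34625 = n32770 := d43_1 D34625 (iv D32770) (iv F151987)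
theorem F160356 : act 8 n34625 = n32789 := d44_1 D34625 (iv D32789) (iv D30777) (iv F142834) D32768
def n34626 : Q := act 6 n32769
theorem D34626 : act 6 n32769 = n34626 := rfl
theorem F160357 : act 4 n34626 = n32890 := d31_1 D34626 (iv D32890) (iv F151988)
def n34627 : Q := act 9 n32769
theorem D34627 : act 9 n32769 = n34627 := rfl
theorem F160358 : act 4 n34627 = n32891 := d34_1 D34627 (iv D32891) (iv F151988)
theorem F160359 : act 5 n34627 = n32770 := d38_1 D34627 (iv D32770) D32769
def n34628 : Q := act 5 n32771
theorem D34628 : act 5 n32771 = n34628 := rfl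
theorem F160360 : act 3 n34628 = n32773 := d25_1 D34628 (iv D32773) (iv F151991)
theorem F160361 : act 6 n34628 = n32892 := d35_2 (iv F151992) D34628 (iv D32892) F143314 (iv F142839)
def n34629 : Q := act 9 n32771
theorem D34629 : act 9 n32771 = n34629 := rfl
theorem F160362 : act 3 n34629 = n32774 := d29_1 D34629 (iv D32774) (iv F151991)
theorem F160363 : act 6 n34629 = n32772 := d41_1 D34629 (iv D32772) (iv F151992)
theorem F160364 : act 8 n34629 = n32791 := d44_1 D34629 (iv D32791) (iv D30780) (iv F142837) D32771
def n34630 : Q := act 4 n32773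
theorem D34630 : act 4 n32773 = n34630 := rfl
theorem F160365 : act 2 n34630 = n32849 := d18_1 D34630 (iv D32849) (iv F151997)
theorem F160366 : act 6 n34630 = n32894 := d31_2 (iv F151998) D34630 (iv D32894)
def n34631 : Q := act 9 n32773
theorem D34631 : act 9 n32773 = n34631 := rfl
theorem F160367 : act 2 n34631 = n32850 := d23_1 D34631 (iv D32850) (iv F151997)
theorem F160368 : act 5 n34631 = n32774 := d38_1 D34631 (iv D32774) D32773
theorem F160369 : act 6 n34631 = n32895 := d41_1 D34631 (iv D32895) (iv F151998)
def n34632 : Q := act 7 n32775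
theorem D34632 : act 7 n32775 = n34632 := rfl
theorem F160370 : act 1 n34632 = n32778 := d14_1 D34632 (iv D32778) (iv F152002)
theorem F160371 : act 3 n34632 = n32776 := d27_1 D34632 (iv D32776) D32775
theorem F160372 : act 4 n34632 = n32800 := d32_1 D34632 F152065 (iv F152003)
def n34633 : Q := act 6 n32776
theorem D34633 : act 6 n32776 = n34633 := rfl
theorem F160373 : act 1 n34633 = n32780 := d13_1 D34633 (iv D32780) (iv F152004)
theorem F160374 : act 4 n34633 = n32777 := d31_1 D34633 (iv D32777) (iv F152005)
def n34634 : Q := act 6 n32778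
theorem D34634 : act 6 n32778 = n34634 := rfl
theorem F160375 : act 3 n34634 = n32780 := d26_1 D34634 (iv D32780) (iv F152009)
theorem F160376 : act 4 n34634 = n32852 := d31_1 D34634 (iv D32852) (iv F152010)
def n34635 : Q := act 8 n32778
theorem D34635 : act 8 n32778 = n34635 := rfl
theorem F160377 : act 3 n34635 = n32781 := d28_1 D34635 (iv D32781) (iv F152009)
theorem F160378 : act 4 n34635 = n32853 := d33_1 D34635 (iv D32853) (iv F152010)
theorem F160379 : act 7 n34635 = n32779 := d42_1 D34635 (iv D32779) D32778
def n34636 : Q := act 5 n32779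
theorem D34636 : act 5 n32779 = n34636 := rfl
theorem F160380 : act 3 n34636 = n32782 := d25_1 D34636 (iv D32782) (iv F152011)
theorem F160381 : act 4 n34636 = n34636 := d30_1 D34636 (iv D34636) F152012 F143145 (iv F152012)
def n34637 : Q := act 9 n32779
theorem D34637 : act 9 n32779 = n34637 := rfl
theorem F160382 : act 3 n34637 = n32783 := d29_1 D34637 (iv D32783) (iv F152011)
theorem F160383 : act 4 n34637 = n32854 := d34_1 D34637 (iv D32854) (iv F152012)
def n34638 : Q := act 5 n32780
theorem D34638 : act 5 n32780 = n34638 := rfl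
theorem F160384 : act 2 n34638 = n32786 := d19_1 D34638 (iv D32786) (iv F152013)
def n34639 : Q := act 8 n32780
theorem D34639 : act 8 n32780 = n34639 := rfl
theorem F160385 : act 2 n34639 = n32787 := d22_1 D34639 (iv D32787) (iv F152013)
theorem F160386 : act 4 n34639 = n32784 := d33_1 D34639 (iv D32784) (iv F152014)
theorem F160387 : act 6 n34639 = n32781 := d40_1 D34639 (iv D32781) D32780
def n34640 : Q := act 5 n32781
theorem D34640 : act 5 n32781 = n34640 := rfl
theorem F160388 : act 2 n34640 = n32788 := d19_1 D34640 (iv D32788) (iv F152015)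
theorem F160389 : act 4 n34640 = n32796 := d30_1 D34640 (iv D32796) F142895 (iv F142863) (iv F152016)
theorem F160390 : act 7 n34640 = n32782 := d36_2 (iv F152017) D34640 (iv D32782)
def n34641 : Q := act 9 n32781
theorem D34641 : act 9 n32781 = n34641 := rfl
theorem F160391 : act 2 n34641 = n32789 := d23_1 D34641 (iv D32789) (iv F152015)
theorem F160392 : act 4 n34641 = n32785 := d34_1 D34641 (iv D32785) (iv F152016)
theorem F160393 : act 7 n34641 = n32783 := d43_1 D34641 (iv D32783) (iv F152017)
def n34642 : Q := act 6 n32782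
theorem D34642 : act 6 n32782 = n34642 := rfl
theorem F160394 : act 2 n34642 = n32790 := d20_1 D34642 (iv D32790) (iv F152018)
theorem F160395 : act 4 n34642 = n32797 := d31_1 D34642 (iv D32797) (iv F152019)
def n34643 : Q := act 9 n32784
theorem D34643 : act 9 n32784 = n34643 := rfl
theorem F160396 : act 2 n34643 = n32791 := d23_1 D34643 (iv D32791) (iv F152022)
theorem F160397 : act 3 n34643 = n32858 := d29_1 D34643 (iv D32858) (iv F152023)
theorem F160398 : act 6 n34643 = n32785 := d41_1 D34643 (iv D32785) (iv F152024)
def n34644 : Q := act 8 n32786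
theorem D34644 : act 8 n32786 = n34644 := rfl
def n34645 : Q := act 5 n32787
theorem D34645 : act 5 n32787 = n34645 := rfl
def n34646 : Q := act 9 n32787
theorem D34646 : act 9 n32787 = n34646 := rfl
theorem F160399 : act 4 n34646 = n32791 := d34_1 D34646 (iv D32791) (iv F152029)
theorem F160400 : act 6 n34646 = n32789 := d41_1 D34646 (iv D32789) (iv F152030)
def n34647 : Q := act 6 n32788
theorem D34647 : act 6 n32788 = n34647 := rfl
theorem F160401 : act 4 n34647 = n32798 := d31_1 D34647 (iv D32798) (iv F152031)
def n34648 : Q := act 7 n32790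
theorem D34648 : act 7 n32790 = n34648 := rfl
theorem F160402 : act 4 n34648 = n32799 := d32_1 D34648 (iv D32799) (iv F152035)
def n34649 : Q := act 3 n32792
theorem D34649 : act 3 n32792 = n34649 := rfl
theorem F160403 : act 1 n34649 = n32852 := d10_1 D34649 F152249 (iv F152038)
theorem F160404 : act 6 n34649 = n32800 := d26_2 (iv F152040) D34649 (iv D32800)
def n34650 : Q := act 3 n32794
theorem D34650 : act 3 n32794 = n34650 := rfl
theorem F160405 : act 1 n34650 = n32853 := d10_1 D34650 F152250 (iv F152045)
theorem F160406 : act 5 n34650 = n34650 := d25_2 F152047 D34650 (iv D34650)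
theorem F160407 : act 7 n34650 = n32851 := d27_2 (iv F152048) D34650 F152247
theorem F160408 : act 8 n34650 = n32800 := d28_2 (iv F152049) D34650 (iv D32800)
def n34651 : Q := act 6 n32796
theorem D34651 : act 6 n32796 = n34651 := rfl
theorem F160409 : act 2 n34651 = n32798 := d20_1 D34651 (iv D32798) (iv F152054)
theorem F160410 : act 3 n34651 = n34651 := d26_1 D34651 (iv D34651) F152055
def n34652 : Q := act 7 n32797
theorem D34652 : act 7 n32797 = n34652 := rfl
theorem F160411 : act 2 n34652 = n32799 := d21_1 D34652 (iv D32799) (iv F152057)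
theorem F160412 : act 3 n34652 = n34652 := d27_1 D34652 (iv D34652) F152058
theorem F160413 : act 5 n34652 = n32920 := d36_1 D34652 (iv D32920) (iv F152059)
def n34653 : Q := act 7 n32798
theorem D34653 : act 7 n32798 = n34653 := rfl
theorem F160414 : act 3 n34653 = n32801 := d27_1 D34653 (iv D32801) (iv F152060)
theorem F160415 : act 6 n34653 = n32799 := d39_1 D34653 (iv D32799) (iv D30790) (iv F142904) D32798
def n34654 : Q := act 5 n32803
theorem D34654 : act 5 n32803 = n34654 := rfl
theorem F160416 : act 1 n34654 = n33027 := d12_1 D34654 (iv D33027) (iv F152073)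
theorem F160417 : act 6 n34654 = n33042 := d35_2 (iv F152075) D34654 (iv D33042) F144415 (iv F142936)
theorem F160418 : act 7 n34654 = n32836 := d36_2 (iv F152076) D34654 (iv D32836)
theorem F160419 : act 8 n34654 = n33026 := d37_2 D32803 D34654 (iv D33026) (iv D31118) (iv F142931)
def n34655 : Q := act 7 n32805
theorem D34655 : act 7 n32805 = n34655 := rfl
theorem F160420 : act 3 n34655 = n32806 := d27_1 D34655 (iv D32806) D32805
theorem F160421 : act 5 n34655 = n34655 := d36_1 D34655 (iv D34655) F152081
theorem F160422 : act 9 n34655 = n32818 := d43_2 (iv F152083) D34655 (iv D32818)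
def n34656 : Q := act 6 n32806
theorem D34656 : act 6 n32806 = n34656 := rfl
theorem F160423 : act 2 n34656 = n32810 := d20_1 D34656 (iv D32810) (iv F152084)
theorem F160424 : act 4 n34656 = n32807 := d31_1 D34656 (iv D32807) (iv F152085)
theorem F160425 : act 7 n34656 = n32841 := d39_2 D32806 D34656 (iv D32841) (iv D30843) (iv F142959)
theorem F160426 : act 9 n34656 = n32820 := d41_2 (iv F152087) D34656 (iv D32820)
def n34657 : Q := act 8 n32807
theorem D34657 : act 8 n32807 = n34657 := rfl
theorem F160427 : act 2 n34657 = n32812 := d22_1 D34657 (iv D32812) (iv F152088)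
theorem F160428 : act 6 n34657 = n32808 := d40_1 D34657 (iv D32808) D32807
theorem F160429 : act 7 n34657 = n32842 := d42_1 D34657 (iv D32842) (iv F152089)
def n34658 : Q := act 9 n32808
theorem D34658 : act 9 n32808 = n34658 := rfl
theorem F160430 : act 1 n34658 = n32833 := d16_1 D34658 (iv F159597) F159592
theorem F160431 : act 2 n34658 = n32813 := d23_1 D34658 (iv D32813) (iv F152091)
theorem F160432 : act 4 n34658 = n32941 := d34_1 D34658 (iv F159585) F159582
theorem F160433 : act 5 n34658 = n34658 := d38_1 D34658 (iv D34658) F152092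
theorem F160434 : act 7 n34658 = n32809 := d43_1 D34658 (iv D32809) (iv F152093)
theorem F160435 : act 8 n34658 = n32824 := d44_1 D34658 (iv D32824) (iv D30820) (iv F142963) D32808
def n34659 : Q := act 5 n32810
theorem D34659 : act 5 n32810 = n34659 := rfl
theorem F160436 : act 1 n34659 = n33034 := d12_1 D34659 (iv D33034) (iv F152100)
theorem F160437 : act 6 n34659 = n34659 := d35_2 D32810 D34659 (iv D34659) (iv D32810) F142969
theorem F160438 : act 7 n34659 = n32844 := d36_2 (iv F152102) D34659 (iv D32844)
theorem F160439 : act 9 n34659 = n32825 := d38_2 (iv F152103) D34659 (iv D32825)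
def n34660 : Q := act 8 n32810
theorem D34660 : act 8 n32810 = n34660 := rfl
theorem F160440 : act 1 n34660 = n32963 := d15_1 D34660 F152707 (iv F152100)
theorem F160441 : act 3 n34660 = n33003 := d28_1 D34660 (iv F159656) F159653
theorem F160442 : act 4 n34660 = n32812 := d33_1 D34660 (iv D32812) (iv F152101)
theorem F160443 : act 6 n34660 = n32811 := d40_1 D34660 (iv D32811) D32810
theorem F160444 : act 7 n34660 = n32845 := d42_1 D34660 (iv D32845) (iv F152102)
theorem F160445 : act 5 n32984 = n34660 := d36_3 F160444 (iv F152227) (iv F152825)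
theorem F160446 : act 9 n34660 = n32969 := d38_2 (iv F159855) F160445 F159856
def n34661 : Q := act 5 n32812
theorem D34661 : act 5 n32812 = n34661 := rfl
theorem F160447 : act 1 n34661 = n33035 := d12_1 D34661 (iv D33035) (iv F152110)
theorem F160448 : act 3 n34661 = n32814 := d25_1 D34661 (iv D32814) (iv F152111)
theorem F160449 : act 6 n34661 = n34661 := d35_2 (iv F152112) D34661 (iv D34661) F152112 F142983
theorem F160450 : act 7 n34661 = n32847 := d36_2 (iv F152113) D34661 (iv D32847)
def n34662 : Q := act 9 n32812
theorem D34662 : act 9 n32812 = n34662 := rfl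
theorem F160451 : act 1 n34662 = n32970 := d16_1 D34662 F152747 (iv F152110)
theorem F160452 : act 3 n34662 = n32815 := d29_1 D34662 (iv D32815) (iv F152111)
theorem F160453 : act 4 n34662 = n32969 := d34_1 D34662 (iv F160446) F160442
theorem F160454 : act 6 n34662 = n32813 := d41_1 D34662 (iv D32813) (iv F152112)
theorem F160455 : act 7 n34662 = n32848 := d43_1 D34662 (iv D32848) (iv F152113)
theorem F160456 : act 8 n34662 = n32828 := d44_1 D34662 (iv D32828) (iv D30826) (iv F142980) D32812
def n34663 : Q := act 4 n32814
theorem D34663 : act 4 n32814 = n34663 := rfl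
theorem F160457 : act 1 n34663 = n33036 := d11_1 D34663 (iv D33036) (iv F152120)
theorem F160458 : act 5 n34663 = n32859 := d30_2 D32814 D34663 F159668 (iv D34430) F151208
theorem F160459 : act 6 n34663 = n34663 := d31_2 F152121 D34663 (iv D34663)
theorem F160460 : act 7 n34663 = n32849 := d32_2 (iv F152122) D34663 (iv D32849)
theorem F160461 : act 8 n34663 = n32860 := d33_2 F153947 D34663 (iv F153944)
def n34664 : Q := act 9 n32814
theorem D34664 : act 9 n32814 = n34664 := rfl
theorem F160462 : act 1 n34664 = n33037 := d16_1 D34664 (iv D33037) (iv F152120)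
theorem F160463 : act 5 n34664 = n32815 := d38_1 D34664 (iv D32815) D32814
theorem F160464 : act 6 n34664 = n34664 := d41_1 D34664 (iv D34664) F152121
theorem F160465 : act 7 n34664 = n32850 := d43_1 D34664 (iv D32850) (iv F152122)
def n34665 : Q := act 7 n32816
theorem D34665 : act 7 n32816 = n34665 := rfl
theorem F160466 : act 1 n34665 = n32818 := d14_1 D34665 (iv D32818) (iv F152127)
theorem F160467 : act 3 n34665 = n32817 := d27_1 D34665 (iv D32817) D32816
theorem F160468 : act 5 n34665 = n34665 := d36_1 D34665 (iv D34665) F152128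
def n34666 : Q := act 6 n32818
theorem D34666 : act 6 n32818 = n34666 := rfl
theorem F160469 : act 3 n34666 = n32820 := d26_1 D34666 (iv D32820) (iv F152134)
theorem F160470 : act 7 n34666 = n32852 := d39_2 D32818 D34666 (iv D32852) (iv D30856) (iv F143006)
def n34667 : Q := act 8 n32818
theorem D34667 : act 8 n32818 = n34667 := rfl
theorem F160471 : act 3 n34667 = n32821 := d28_1 D34667 (iv D32821) (iv F152134)
theorem F160472 : act 7 n34667 = n32819 := d42_1 D34667 (iv D32819) D32818
def n34668 : Q := act 5 n32820
theorem D34668 : act 5 n32820 = n34668 := rfl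
theorem F160473 : act 2 n34668 = n32825 := d19_1 D34668 (iv D32825) (iv F152138)
theorem F160474 : act 6 n34668 = n34668 := d35_2 D32820 D34668 (iv D34668) (iv D32820) F143009
theorem F160475 : act 7 n34668 = n32855 := d36_2 (iv F152140) D34668 (iv D32855)
def n34669 : Q := act 8 n32820
theorem D34669 : act 8 n32820 = n34669 := rfl
theorem F160476 : act 2 n34669 = n32826 := d22_1 D34669 (iv D32826) (iv F152138)
theorem F160477 : act 4 n34669 = n32823 := d33_1 D34669 (iv D32823) (iv F152139)
theorem F160478 : act 6 n34669 = n32821 := d40_1 D34669 (iv D32821) D32820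
theorem F160479 : act 7 n34669 = n32856 := d42_1 D34669 (iv D32856) (iv F152140)
def n34670 : Q := act 9 n32821
theorem D34670 : act 9 n32821 = n34670 := rfl
theorem F160480 : act 1 n34670 = n32831 := d16_1 D34670 (iv F153261) F153256
theorem F160481 : act 2 n34670 = n32827 := d23_1 D34670 (iv D32827) (iv F152141)
theorem F160482 : act 4 n34670 = n32824 := d34_1 D34670 (iv D32824) (iv F152142)
theorem F160483 : act 5 n34670 = n32865 := d38_1 D34670 (iv F153247) F153243
theorem F160484 : act 7 n34670 = n32822 := d43_1 D34670 (iv D32822) (iv F152143)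
theorem F160485 : act 8 n34670 = n32941 := d44_1 D34670 (iv F159585) F159584 F152087 D32821
def n34671 : Q := act 9 n32823
theorem D34671 : act 9 n32823 = n34671 := rfl
theorem F160486 : act 1 n34671 = n32832 := d16_1 D34671 (iv F153268) F153263
theorem F160487 : act 2 n34671 = n32828 := d23_1 D34671 (iv D32828) (iv F152150)
theorem F160488 : act 6 n34671 = n32824 := d41_1 D34671 (iv D32824) (iv F152151)
theorem F160489 : act 7 n34671 = n32858 := d43_1 D34671 (iv D32858) (iv F152152)
def n34672 : Q := act 9 n32826
theorem D34672 : act 9 n32826 = n34672 := rfl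
theorem F160490 : act 1 n34672 = n32971 := d16_1 D34672 F152754 (iv F152160)
theorem F160491 : act 3 n34672 = n33012 := d29_1 D34672 (iv F159723) F159719
theorem F160492 : act 4 n34672 = n32828 := d34_1 D34672 (iv D32828) (iv F152161)
theorem F160493 : act 6 n34672 = n32827 := d41_1 D34672 (iv D32827) (iv F152162)
theorem F160494 : act 7 n34672 = n32861 := d43_1 D34672 (iv D32861) (iv F152163)
theorem F160495 : act 8 n34672 = n32969 := d44_1 D34672 (iv F160446) (iv D34660) F152103 D32826
def n34673 : Q := act 6 n32831
theorem D34673 : act 6 n32831 = n34673 := rfl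
theorem F160496 : act 2 n34673 = n32834 := d20_1 D34673 (iv D32834) (iv F152181)
theorem F160497 : act 4 n34673 = n32832 := d31_1 D34673 (iv D32832) (iv F152182)
theorem F160498 : act 8 n34673 = n32942 := d40_2 (iv F152184) D34673 (iv D32942)
def n34674 : Q := act 8 n32832
theorem D34674 : act 8 n32832 = n34674 := rfl
theorem F160499 : act 2 n34674 = n32835 := d22_1 D34674 (iv D32835) (iv F152185)
theorem F160500 : act 4 n34674 = n32942 := d33_1 D34674 (iv F160498) F160497
theorem F160501 : act 6 n34674 = n32833 := d40_1 D34674 (iv D32833) D32832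
def n34675 : Q := act 5 n32834
theorem D34675 : act 5 n32834 = n34675 := rfl
theorem F160502 : act 1 n34675 = n32973 := d12_1 D34675 (iv D32973) (iv F152190)
theorem F160503 : act 3 n34675 = n32838 := d25_1 D34675 (iv D32838) (iv F152191)
theorem F160504 : act 6 n34675 = n32869 := d35_2 D32834 D34675 (iv D32869) (iv D30879) (iv F143070)
def n34676 : Q := act 5 n32835
theorem D34676 : act 5 n32835 = n34676 := rfl
theorem F160505 : act 1 n34676 = n32972 := d12_1 D34676 (iv D32972) (iv F152194)
theorem F160506 : act 3 n34676 = n32836 := d25_1 D34676 (iv D32836) (iv F152195)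
theorem F160507 : act 6 n34676 = n34676 := d35_2 (iv F152197) D34676 (iv D34676) F152197 F143077
def n34677 : Q := act 4 n32836
theorem D34677 : act 4 n32836 = n34677 := rfl
theorem F160508 : act 1 n34677 = n33029 := d11_1 D34677 F153040 (iv F152198)
theorem F160509 : act 5 n34677 = n32839 := d30_2 D32836 D34677 (iv D32839) (iv D30840) (iv F143080)
theorem F160510 : act 6 n34677 = n34677 := d31_2 F152199 D34677 (iv D34677)
def n34678 : Q := act 9 n32836
theorem D34678 : act 9 n32836 = n34678 := rfl
theorem F160511 : act 1 n34678 = n33030 := d16_1 D34678 F153044 (iv F152198)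
theorem F160512 : act 5 n34678 = n32837 := d38_1 D34678 (iv D32837) D32836
theorem F160513 : act 6 n34678 = n34678 := d41_1 D34678 (iv D34678) F152199
def n34679 : Q := act 6 n32840
theorem D34679 : act 6 n32840 = n34679 := rfl
theorem F160514 : act 3 n34679 = n32841 := d26_1 D34679 (iv D32841) (iv F152209)
theorem F160515 : act 9 n34679 = n32852 := d41_2 (iv F152211) D34679 (iv D32852)
def n34680 : Q := act 5 n32841
theorem D34680 : act 5 n32841 = n34680 := rfl
theorem F160516 : act 2 n34680 = n32844 := d19_1 D34680 (iv D32844) (iv F152212)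
theorem F160517 : act 6 n34680 = n32873 := d35_2 D32841 D34680 (iv D32873) (iv D30884) (iv F143100)
theorem F160518 : act 9 n34680 = n32855 := d38_2 (iv F152214) D34680 (iv D32855)
def n34681 : Q := act 5 n32842
theorem D34681 : act 5 n32842 = n34681 := rfl
theorem F160519 : act 2 n34681 = n32847 := d19_1 D34681 (iv D32847) (iv F152215)
theorem F160520 : act 6 n34681 = n32898 := d35_2 (iv F152216) D34681 (iv D32898) F143360 (iv F143105)
def n34682 : Q := act 9 n32842
theorem D34682 : act 9 n32842 = n34682 := rfl
theorem F160521 : act 2 n34682 = n32848 := d23_1 D34682 (iv D32848) (iv F152215)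
theorem F160522 : act 6 n34682 = n32843 := d41_1 D34682 (iv D32843) (iv F152216)
theorem F160523 : act 8 n34682 = n32858 := d44_1 D34682 (iv D32858) (iv D30861) (iv F143103) D32842
def n34683 : Q := act 8 n32844
theorem D34683 : act 8 n32844 = n34683 := rfl
theorem F160524 : act 1 n34683 = n33014 := d15_1 D34683 F152967 (iv F152221)
theorem F160525 : act 5 n34683 = n33012 := d37_1 D34683 (iv D33012) F152227 (iv D32845) D32844
theorem F160526 : act 6 n34683 = n32874 := d40_1 D34683 (iv D32874) (iv F152222)
def n34684 : Q := act 9 n32845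
theorem D34684 : act 9 n32845 = n34684 := rfl
theorem F160527 : act 1 n34684 = n32951 := d16_1 D34684 F152624 (iv F152224)
theorem F160528 : act 3 n34684 = n32984 := d29_1 D34684 F159855 F159851
theorem F160529 : act 4 n34684 = n32848 := d34_1 D34684 (iv D32848) (iv F152225)
theorem F160530 : act 5 n34684 = n33003 := d38_1 D34684 F152930 F152227
theorem F160531 : act 6 n34684 = n32846 := d41_1 D34684 (iv D32846) (iv F152226)
theorem F160532 : act 7 n34684 = n32969 := d43_1 D34684 (iv F160446) F160444
theorem F160533 : act 8 n34684 = n32861 := d44_1 D34684 (iv D32861) (iv D30864) (iv F143112) D32845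
def n34685 : Q := act 4 n32847
theorem D34685 : act 4 n32847 = n34685 := rfl
theorem F160534 : act 1 n34685 = n33013 := d11_1 D34685 F152962 (iv F152234)
theorem F160535 : act 5 n34685 = n33011 := d30_2 D32847 D34685 F152957 F152227 F152225
theorem F160536 : act 6 n34685 = n32901 := d31_2 (iv F152236) D34685 (iv D32901)
def n34686 : Q := act 9 n32847
theorem D34686 : act 9 n32847 = n34686 := rfl
theorem F160537 : act 1 n34686 = n33039 := d16_1 D34686 (iv D33039) (iv F152234)
theorem F160538 : act 3 n34686 = n32850 := d29_1 D34686 (iv D32850) (iv F152235)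
theorem F160539 : act 5 n34686 = n32848 := d38_1 D34686 (iv D32848) D32847
theorem F160540 : act 6 n34686 = n32902 := d41_1 D34686 (iv D32902) (iv F152236)
def n34687 : Q := act 3 n32849
theorem D34687 : act 3 n32849 = n34687 := rfl
theorem F160541 : act 1 n34687 = n33040 := d10_1 D34687 (iv D33040) (iv F152241)
theorem F160542 : act 6 n34687 = n32877 := d26_2 (iv F152242) D34687 F152333
theorem F160543 : act 9 n34687 = n32859 := d29_2 (iv F159914) D34687 (iv F159911)
def n34688 : Q := act 5 n32852
theorem D34688 : act 5 n32852 = n34688 := rfl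
theorem F160544 : act 3 n34688 = n32855 := d25_1 D34688 (iv D32855) (iv F152249)
theorem F160545 : act 6 n34688 = n32875 := d35_2 D32852 D34688 (iv D32875) (iv D30887) (iv F143143)
def n34689 : Q := act 8 n32852
theorem D34689 : act 8 n32852 = n34689 := rfl
theorem F160546 : act 3 n34689 = n32856 := d28_1 D34689 (iv D32856) (iv F152249)
theorem F160547 : act 6 n34689 = n32853 := d40_1 D34689 (iv D32853) D32852
def n34690 : Q := act 9 n32853
theorem D34690 : act 9 n32853 = n34690 := rfl
theorem F160548 : act 3 n34690 = n32857 := d29_1 D34690 (iv D32857) (iv F152250)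
theorem F160549 : act 5 n34690 = n34690 := d38_1 D34690 (iv D34690) F152251
theorem F160550 : act 7 n34690 = n32854 := d43_1 D34690 (iv D32854) (iv F152252)
def n34691 : Q := act 8 n32855
theorem D34691 : act 8 n32855 = n34691 := rfl
theorem F160551 : act 2 n34691 = n32859 := d22_1 D34691 (iv D32859) (iv F152255)
theorem F160552 : act 6 n34691 = n32876 := d40_1 D34691 (iv D32876) (iv F152256)
def n34692 : Q := act 5 n32856
theorem D34692 : act 5 n32856 = n34692 := rfl
theorem F160553 : act 2 n34692 = n32860 := d19_1 D34692 (iv D32860) (iv F152257)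
theorem F160554 : act 6 n34692 = n34692 := d35_2 (iv F152259) D34692 (iv D34692) F152259 F143150
def n34693 : Q := act 9 n32856
theorem D34693 : act 9 n32856 = n34693 := rfl
theorem F160555 : act 2 n34693 = n32861 := d23_1 D34693 (iv D32861) (iv F152257)
theorem F160556 : act 4 n34693 = n32858 := d34_1 D34693 (iv D32858) (iv F152258)
theorem F160557 : act 6 n34693 = n32857 := d41_1 D34693 (iv D32857) (iv F152259)
def n34694 : Q := act 9 n32860
theorem D34694 : act 9 n32860 = n34694 := rfl
theorem F160558 : act 1 n34694 = n33041 := d16_1 D34694 (iv D33041) (iv F152268)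
theorem F160559 : act 5 n34694 = n32861 := d38_1 D34694 (iv D32861) D32860
theorem F160560 : act 6 n34694 = n34694 := d41_1 D34694 (iv D34694) F152269
def n34695 : Q := act 5 n32867
theorem D34695 : act 5 n32867 = n34695 := rfl
theorem F160561 : act 2 n34695 = n32869 := d19_1 D34695 (iv D32869) (iv F152297)
theorem F160562 : act 7 n34695 = n34695 := d36_2 F152299 D34695 (iv D34695)
def n34696 : Q := act 8 n32869
theorem D34696 : act 8 n32869 = n34696 := rfl
theorem F160563 : act 1 n34696 = n32977 := d15_1 D34696 F152786 (iv F152306)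
theorem F160564 : act 3 n34696 = n32871 := d28_1 D34696 (iv D32871) (iv F152307)
theorem F160565 : act 4 n34696 = n32902 := d33_1 D34696 (iv F159954) F159952
theorem F160566 : act 5 n34696 = n32946 := d37_1 D34696 (iv D32946) F143602 (iv F143219) D32869
theorem F160567 : act 7 n34696 = n34696 := d42_1 D34696 (iv D34696) F152308
theorem F160568 : act 9 n34696 = n32901 := d44_2 F153317 D34696 (iv F154023) F154024 F153318
def n34697 : Q := act 4 n32870
theorem D34697 : act 4 n32870 = n34697 := rfl
theorem F160569 : act 1 n34697 = n32976 := d11_1 D34697 F152776 (iv F152309)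
theorem F160570 : act 3 n34697 = n34697 := d24_1 D34697 (iv D34697) F152310 F143227 (iv F152310)
theorem F160571 : act 5 n34697 = n32945 := d30_2 D32870 D34697 F152586 F143602 (iv F143222)
theorem F160572 : act 6 n34697 = n34697 := d31_2 F152311 D34697 (iv D34697)
theorem F160573 : act 7 n34697 = n34697 := d32_2 F152312 D34697 (iv D34697)
theorem F160574 : act 8 n34697 = n32903 := d33_2 (iv F153128) D34697 (iv F153124)
theorem F160575 : act 9 n34697 = n34697 := d34_2 F152313 D34697 (iv D34697)
def n34698 : Q := act 9 n32871
theorem D34698 : act 9 n32871 = n34698 := rfl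
theorem F160576 : act 1 n34698 = n32978 := d16_1 D34698 (iv D32978) (iv F152314)
theorem F160577 : act 3 n34698 = n32901 := d29_1 D34698 (iv F160568) F160564
theorem F160578 : act 4 n34698 = n32877 := d34_1 D34698 (iv D32877) (iv F152315)
theorem F160579 : act 5 n34698 = n32947 := d38_1 D34698 (iv D32947) (iv F152316)
theorem F160580 : act 7 n34698 = n34698 := d43_1 D34698 (iv D34698) F152317
def n34699 : Q := act 5 n32872
theorem D34699 : act 5 n32872 = n34699 := rfl
theorem F160581 : act 3 n34699 = n32873 := d25_1 D34699 (iv D32873) (iv F152318)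
theorem F160582 : act 7 n34699 = n34699 := d36_2 F152319 D34699 (iv D34699)
theorem F160583 : act 9 n34699 = n32875 := d38_2 (iv F152320) D34699 (iv D32875)
def n34700 : Q := act 4 n32875
theorem D34700 : act 4 n32875 = n34700 := rfl
theorem F160584 : act 7 n34700 = n34700 := d32_2 F152328 D34700 (iv D34700)
def n34701 : Q := act 8 n32875
theorem D34701 : act 8 n32875 = n34701 := rfl
theorem F160585 : act 3 n34701 = n32876 := d28_1 D34701 (iv D32876) (iv F152327)
theorem F160586 : act 5 n34701 = n34701 := d37_1 D34701 (iv D34701) (iv D32875) F143251 D32875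
theorem F160587 : act 7 n34701 = n34701 := d42_1 D34701 (iv D34701) F152328
def n34702 : Q := act 9 n32876
theorem D34702 : act 9 n32876 = n34702 := rfl
theorem F160588 : act 2 n34702 = n32877 := d23_1 D34702 (iv D32877) (iv F152329)
theorem F160589 : act 5 n34702 = n34702 := d38_1 D34702 (iv D34702) F152330
theorem F160590 : act 7 n34702 = n34702 := d43_1 D34702 (iv D34702) F152331
def n34703 : Q := act 8 n32878
theorem D34703 : act 8 n32878 = n34703 := rfl
theorem F160591 : act 1 n34703 = n32887 := d15_1 D34703 (iv D32887) (iv F152336)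
theorem F160592 : act 3 n34703 = n34703 := d28_1 D34703 (iv D34703) F152337
theorem F160593 : act 4 n34703 = n32881 := d33_1 D34703 (iv D32881) (iv F152338)
theorem F160594 : act 6 n34703 = n32879 := d40_1 D34703 (iv D32879) D32878
theorem F160595 : act 7 n34703 = n34703 := d42_1 D34703 (iv D34703) F152339
def n34704 : Q := act 5 n32879
theorem D34704 : act 5 n32879 = n34704 := rfl
theorem F160596 : act 1 n34704 = n32888 := d12_1 D34704 (iv D32888) (iv F152341)
theorem F160597 : act 3 n34704 = n34704 := d25_1 D34704 (iv D34704) F152342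
theorem F160598 : act 7 n34704 = n32880 := d36_2 (iv F152344) D34704 (iv D32880)
def n34705 : Q := act 6 n32880
theorem D34705 : act 6 n32880 = n34705 := rfl
theorem F160599 : act 1 n34705 = n32890 := d13_1 D34705 (iv D32890) (iv F152345)
theorem F160600 : act 3 n34705 = n34705 := d26_1 D34705 (iv D34705) F152346
theorem F160601 : act 5 n34705 = n34705 := d35_1 D34705 (iv D34705) (iv D32880) F143269 D32880
def n34706 : Q := act 5 n32881
theorem D34706 : act 5 n32881 = n34706 := rfl
theorem F160602 : act 1 n34706 = n32892 := d12_1 D34706 (iv D32892) (iv F152347)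
theorem F160603 : act 3 n34706 = n32882 := d25_1 D34706 (iv D32882) (iv F152348)
theorem F160604 : act 7 n34706 = n34706 := d36_2 F152350 D34706 (iv D34706)
def n34707 : Q := act 4 n32882
theorem D34707 : act 4 n32882 = n34707 := rfl
theorem F160605 : act 1 n34707 = n32894 := d11_1 D34707 (iv D32894) (iv F152351)
theorem F160606 : act 2 n34707 = n33043 := d18_1 D34707 (iv D33043) (iv F152352)
theorem F160607 : act 5 n34707 = n34707 := d30_2 D32882 D34707 (iv D34707) (iv D32882) F143279
theorem F160608 : act 7 n34707 = n34707 := d32_2 F152353 D34707 (iv D34707)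
def n34708 : Q := act 5 n32884
theorem D34708 : act 5 n32884 = n34708 := rfl
theorem F160609 : act 2 n34708 = n32892 := d19_1 D34708 (iv D32892) (iv F152359)
theorem F160610 : act 3 n34708 = n32898 := d25_1 D34708 (iv D32898) (iv F152360)
theorem F160611 : act 7 n34708 = n34708 := d36_2 F152362 D34708 (iv D34708)
def n34709 : Q := act 9 n32884
theorem D34709 : act 9 n32884 = n34709 := rfl
theorem F160612 : act 2 n34709 = n32893 := d23_1 D34709 (iv D32893) (iv F152359)
theorem F160613 : act 3 n34709 = n32899 := d29_1 D34709 (iv D32899) (iv F152360)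
theorem F160614 : act 6 n34709 = n32885 := d41_1 D34709 (iv D32885) (iv F152361)
theorem F160615 : act 7 n34709 = n34709 := d43_1 D34709 (iv D34709) F152362
theorem F160616 : act 8 n34709 = n32896 := d44_1 D34709 (iv D32896) (iv D30910) (iv F143293) D32884
def n34710 : Q := act 8 n32886
theorem D34710 : act 8 n32886 = n34710 := rfl
theorem F160617 : act 3 n34710 = n34710 := d28_1 D34710 (iv D34710) F152367
theorem F160618 : act 7 n34710 = n34710 := d42_1 D34710 (iv D34710) F152368
def n34711 : Q := act 5 n32887
theorem D34711 : act 5 n32887 = n34711 := rfl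
theorem F160619 : act 3 n34711 = n34711 := d25_1 D34711 (iv D34711) F152370
theorem F160620 : act 7 n34711 = n34711 := d36_2 F152373 D34711 (iv D34711)
def n34712 : Q := act 9 n32887
theorem D34712 : act 9 n32887 = n34712 := rfl
theorem F160621 : act 3 n34712 = n34712 := d29_1 D34712 (iv D34712) F152370
theorem F160622 : act 4 n34712 = n32893 := d34_1 D34712 (iv D32893) (iv F152371)
theorem F160623 : act 6 n34712 = n32889 := d41_1 D34712 (iv D32889) (iv F152372)
theorem F160624 : act 7 n34712 = n34712 := d43_1 D34712 (iv D34712) F152373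
theorem F160625 : act 8 n34712 = n32897 := d44_1 D34712 (iv D32897) (iv D30913) (iv F143304) D32887
def n34713 : Q := act 6 n32888
theorem D34713 : act 6 n32888 = n34713 := rfl
theorem F160626 : act 3 n34713 = n34713 := d26_1 D34713 (iv D34713) F152374
def n34714 : Q := act 9 n32888
theorem D34714 : act 9 n32888 = n34714 := rfl
theorem F160627 : act 3 n34714 = n34714 := d29_1 D34714 (iv D34714) F152374
theorem F160628 : act 5 n34714 = n32889 := d38_1 D34714 (iv D32889) D32888
theorem F160629 : act 7 n34714 = n32891 := d43_1 D34714 (iv D32891) (iv F152375)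
def n34715 : Q := act 7 n32890
theorem D34715 : act 7 n32890 = n34715 := rfl
theorem F160630 : act 3 n34715 = n34715 := d27_1 D34715 (iv D34715) F152380
theorem F160631 : act 5 n34715 = n34715 := d36_1 D34715 (iv D34715) F152381
def n34716 : Q := act 9 n32890
theorem D34716 : act 9 n32890 = n34716 := rfl
theorem F160632 : act 3 n34716 = n34716 := d29_1 D34716 (iv D34716) F152380
theorem F160633 : act 5 n34716 = n34716 := d38_1 D34716 (iv D34716) F152381
theorem F160634 : act 6 n34716 = n32891 := d41_1 D34716 (iv D32891) D32890
def n34717 : Q := act 4 n32892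
theorem D34717 : act 4 n32892 = n34717 := rfl
theorem F160635 : act 7 n34717 = n34717 := d32_2 F152385 D34717 (iv D34717)
def n34718 : Q := act 9 n32892
theorem D34718 : act 9 n32892 = n34718 := rfl
theorem F160636 : act 3 n34718 = n32895 := d29_1 D34718 (iv D32895) (iv F152384)
theorem F160637 : act 5 n34718 = n32893 := d38_1 D34718 (iv D32893) D32892
theorem F160638 : act 7 n34718 = n34718 := d43_1 D34718 (iv D34718) F152385
def n34719 : Q := act 3 n32894
theorem D34719 : act 3 n32894 = n34719 := rfl
theorem F160639 : act 5 n34719 = n34719 := d25_2 F152391 D34719 (iv D34719)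
theorem F160640 : act 7 n34719 = n34719 := d27_2 F152392 D34719 (iv D34719)
def n34720 : Q := act 9 n32898
theorem D34720 : act 9 n32898 = n34720 := rfl
theorem F160641 : act 2 n34720 = n32902 := d23_1 D34720 (iv D32902) (iv F152404)
theorem F160642 : act 5 n34720 = n32899 := d38_1 D34720 (iv D32899) D32898
theorem F160643 : act 7 n34720 = n34720 := d43_1 D34720 (iv D34720) F152405
def n34721 : Q := act 8 n32904
theorem D34721 : act 8 n32904 = n34721 := rfl
theorem F160644 : act 2 n34721 = n32911 := d22_1 D34721 (iv D32911) (iv F152429)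
theorem F160645 : act 3 n34721 = n34721 := d28_1 D34721 (iv D34721) F152430
theorem F160646 : act 6 n34721 = n32905 := d40_1 D34721 (iv D32905) D32904
theorem F160647 : act 7 n34721 = n34721 := d42_1 D34721 (iv D34721) F152431
def n34722 : Q := act 9 n32905
theorem D34722 : act 9 n32905 = n34722 := rfl
theorem F160648 : act 2 n34722 = n32912 := d23_1 D34722 (iv D32912) (iv F152433)
theorem F160649 : act 3 n34722 = n34722 := d29_1 D34722 (iv D34722) F152434
theorem F160650 : act 7 n34722 = n32906 := d43_1 D34722 (iv D32906) (iv F152435)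
theorem F160651 : act 8 n34722 = n34722 := d44_1 D34722 (iv D34722) (iv D32905) F143417 D32905
def n34723 : Q := act 8 n32907
theorem D34723 : act 8 n32907 = n34723 := rfl
theorem F160652 : act 3 n34723 = n34723 := d28_1 D34723 (iv D34723) F152440
theorem F160653 : act 4 n34723 = n32911 := d33_1 D34723 (iv D32911) (iv F152441)
theorem F160654 : act 6 n34723 = n32908 := d40_1 D34723 (iv D32908) D32907
theorem F160655 : act 7 n34723 = n34723 := d42_1 D34723 (iv D34723) F152442
def n34724 : Q := act 5 n32908
theorem D34724 : act 5 n32908 = n34724 := rfl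
theorem F160656 : act 3 n34724 = n34724 := d25_1 D34724 (iv D34724) F152444
theorem F160657 : act 7 n34724 = n32909 := d36_2 (iv F152446) D34724 (iv D32909)
theorem F160658 : act 8 n34724 = n32915 := d37_2 D32908 D34724 (iv D32915) (iv D30941) (iv F143423)
def n34725 : Q := act 9 n32908
theorem D34725 : act 9 n32908 = n34725 := rfl
theorem F160659 : act 3 n34725 = n34725 := d29_1 D34725 (iv D34725) F152444
theorem F160660 : act 4 n34725 = n32912 := d34_1 D34725 (iv D32912) (iv F152445)
theorem F160661 : act 7 n34725 = n32910 := d43_1 D34725 (iv D32910) (iv F152446)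
theorem F160662 : act 8 n34725 = n34725 := d44_1 D34725 (iv D34725) (iv D32908) F143424 D32908
def n34726 : Q := act 6 n32909
theorem D34726 : act 6 n32909 = n34726 := rfl
theorem F160663 : act 3 n34726 = n34726 := d26_1 D34726 (iv D34726) F152447
theorem F160664 : act 5 n34726 = n34726 := d35_1 D34726 (iv D34726) (iv D32909) F143427 D32909
theorem F160665 : act 8 n34726 = n32917 := d40_2 (iv F152448) D34726 (iv D32917)
def n34727 : Q := act 9 n32909
theorem D34727 : act 9 n32909 = n34727 := rfl
theorem F160666 : act 3 n34727 = n34727 := d29_1 D34727 (iv D34727) F152447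
theorem F160667 : act 5 n34727 = n32910 := d38_1 D34727 (iv D32910) D32909
def n34728 : Q := act 5 n32911
theorem D34728 : act 5 n32911 = n34728 := rfl
theorem F160668 : act 3 n34728 = n32913 := d25_1 D34728 (iv D32913) (iv F152453)
theorem F160669 : act 7 n34728 = n34728 := d36_2 F152455 D34728 (iv D34728)
def n34729 : Q := act 9 n32911
theorem D34729 : act 9 n32911 = n34729 := rfl
theorem F160670 : act 3 n34729 = n32914 := d29_1 D34729 (iv D32914) (iv F152453)
theorem F160671 : act 6 n34729 = n32912 := d41_1 D34729 (iv D32912) (iv F152454)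
theorem F160672 : act 7 n34729 = n34729 := d43_1 D34729 (iv D34729) F152455
theorem F160673 : act 8 n34729 = n34729 := d44_1 D34729 (iv D34729) (iv D32911) F143430 D32911
def n34730 : Q := act 4 n32913
theorem D34730 : act 4 n32913 = n34730 := rfl
theorem F160674 : act 2 n34730 = n34730 := d18_1 D34730 (iv D34730) F152459
theorem F160675 : act 5 n34730 = n34730 := d30_2 D32913 D34730 (iv D34730) (iv D32913) F143437
theorem F160676 : act 7 n34730 = n34730 := d32_2 F152460 D34730 (iv D34730)
def n34731 : Q := act 9 n32913
theorem D34731 : act 9 n32913 = n34731 := rfl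
theorem F160677 : act 2 n34731 = n34731 := d23_1 D34731 (iv D34731) F152459
theorem F160678 : act 5 n34731 = n32914 := d38_1 D34731 (iv D32914) D32913
theorem F160679 : act 7 n34731 = n34731 := d43_1 D34731 (iv D34731) F152460
def n34732 : Q := act 6 n32915
theorem D34732 : act 6 n32915 = n34732 := rfl
theorem F160680 : act 3 n34732 = n34732 := d26_1 D34732 (iv D34732) F152466
def n34733 : Q := act 9 n32915
theorem D34733 : act 9 n32915 = n34733 := rfl
theorem F160681 : act 3 n34733 = n34733 := d29_1 D34733 (iv D34733) F152466
theorem F160682 : act 5 n34733 = n32916 := d38_1 D34733 (iv D32916) D32915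
theorem F160683 : act 7 n34733 = n32918 := d43_1 D34733 (iv D32918) (iv F152467)
def n34734 : Q := act 7 n32917
theorem D34734 : act 7 n32917 = n34734 := rfl
theorem F160684 : act 3 n34734 = n34734 := d27_1 D34734 (iv D34734) F152472
theorem F160685 : act 5 n34734 = n32919 := d36_1 D34734 (iv D32919) (iv F152473)
def n34735 : Q := act 8 n32918
theorem D34735 : act 8 n32918 = n34735 := rfl
theorem F160686 : act 3 n34735 = n34735 := d28_1 D34735 (iv D34735) F152474
theorem F160687 : act 5 n34735 = n34735 := d37_1 D34735 (iv D34735) F152475 F143454 (iv F152475)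
def n34736 : Q := act 7 n32921
theorem D34736 : act 7 n32921 = n34736 := rfl
theorem F160688 : act 0 n34736 = n32923 := d6_1 D34736 (iv D32923) (iv F152482)
theorem F160689 : act 1 n34736 = n32940 := d14_1 D34736 (iv D32940) (iv F152483)
theorem F160690 : act 2 n34736 = n34736 := d21_1 D34736 (iv D34736) F152484
theorem F160691 : act 4 n34736 = n34736 := d32_1 D34736 (iv D34736) F152485
theorem F160692 : act 8 n34736 = n32936 := d42_2 (iv F152486) D34736 (iv D32936)
def n34737 : Q := act 7 n32922
theorem D34737 : act 7 n32922 = n34737 := rfl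
theorem F160693 : act 1 n34737 = n32924 := d14_1 D34737 (iv D32924) (iv F152487)
theorem F160694 : act 2 n34737 = n34737 := d21_1 D34737 (iv D34737) F152488
theorem F160695 : act 5 n34737 = n32923 := d36_1 D34737 (iv D32923) D32922
def n34738 : Q := act 6 n32924
theorem D34738 : act 6 n32924 = n34738 := rfl
theorem F160696 : act 0 n34738 = n32942 := d5_1 D34738 (iv D32942) (iv F152493)
theorem F160697 : act 2 n34738 = n32925 := d20_1 D34738 (iv D32925) (iv F152494)
def n34739 : Q := act 7 n32926
theorem D34739 : act 7 n32926 = n34739 := rfl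
theorem F160698 : act 0 n34739 = n32928 := d6_1 D34739 (iv D32928) (iv F152499)
theorem F160699 : act 1 n34739 = n32943 := d14_1 D34739 (iv D32943) (iv F152500)
theorem F160700 : act 2 n34739 = n34739 := d21_1 D34739 (iv D34739) F152501
theorem F160701 : act 4 n34739 = n34739 := d32_1 D34739 (iv D34739) F152502
theorem F160702 : act 6 n34739 = n32936 := d39_1 D34739 (iv D32936) (iv D30966) (iv F143497) D32926
theorem F160703 : act 9 n34739 = n34739 := d43_2 F152503 D34739 (iv D34739)
def n34740 : Q := act 7 n32927
theorem D34740 : act 7 n32927 = n34740 := rfl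
theorem F160704 : act 1 n34740 = n32929 := d14_1 D34740 (iv D32929) (iv F152504)
theorem F160705 : act 2 n34740 = n34740 := d21_1 D34740 (iv D34740) F152505
theorem F160706 : act 5 n34740 = n32928 := d36_1 D34740 (iv D32928) D32927
theorem F160707 : act 9 n34740 = n34740 := d43_2 F152507 D34740 (iv D34740)
def n34741 : Q := act 6 n32929
theorem D34741 : act 6 n32929 = n34741 := rfl
theorem F160708 : act 0 n34741 = n32944 := d5_1 D34741 (iv D32944) (iv F152513)
theorem F160709 : act 2 n34741 = n32931 := d20_1 D34741 (iv D32931) (iv F152514)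
theorem F160710 : act 5 n34741 = n32938 := d35_1 D34741 (iv D32938) F143561 (iv F143510) (iv F152515)
theorem F160711 : act 7 n34741 = n34741 := d39_2 D32929 D34741 (iv D34741) (iv D32929) F143505
theorem F160712 : act 9 n34741 = n34741 := d41_2 F152516 D34741 (iv D34741)
def n34742 : Q := act 6 n32930
theorem D34742 : act 6 n32930 = n34742 := rfl
theorem F160713 : act 0 n34742 = n32945 := d5_1 D34742 (iv D32945) (iv F152517)
theorem F160714 : act 1 n34742 = n34742 := d13_1 D34742 (iv D34742) F152518
theorem F160715 : act 3 n34742 = n34742 := d26_1 D34742 (iv D34742) F152519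
theorem F160716 : act 4 n34742 = n32931 := d31_1 D34742 (iv D32931) (iv F152520)
theorem F160717 : act 7 n34742 = n34742 := d39_2 D32930 D34742 (iv D34742) (iv D32930) F143516
theorem F160718 : act 8 n34742 = n33023 := d40_2 (iv F152522) D34742 (iv D33023)
theorem F160719 : act 9 n34742 = n34742 := d41_2 F152523 D34742 (iv D34742)
def n34743 : Q := act 8 n32931
theorem D34743 : act 8 n32931 = n34743 := rfl
theorem F160720 : act 0 n34743 = n32946 := d7_1 D34743 (iv D32946) (iv F152524)
theorem F160721 : act 1 n34743 = n34743 := d15_1 D34743 (iv D34743) F152525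
theorem F160722 : act 3 n34743 = n32933 := d28_1 D34743 (iv D32933) (iv F152526)
theorem F160723 : act 4 n34743 = n33023 := d33_1 D34743 (iv F160718) F160716
theorem F160724 : act 6 n34743 = n32932 := d40_1 D34743 (iv D32932) D32931
theorem F160725 : act 7 n34743 = n34743 := d42_1 D34743 (iv D34743) F152528
theorem F160726 : act 9 n33024 = n34743 := d41_0 F160724 (iv F152535) D33024
def n34744 : Q := act 9 n32933
theorem D34744 : act 9 n32933 = n34744 := rfl
theorem F160727 : act 0 n34744 = n32947 := d8_1 D34744 (iv D32947) (iv F152536)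
theorem F160728 : act 1 n34744 = n34744 := d16_1 D34744 (iv D34744) F152537
theorem F160729 : act 3 n34744 = n33024 := d29_1 D34744 F160726 F160722
theorem F160730 : act 4 n34744 = n34744 := d34_1 D34744 (iv D34744) F152538
theorem F160731 : act 6 n34744 = n32934 := d41_1 D34744 (iv D32934) (iv F152539)
theorem F160732 : act 7 n34744 = n34744 := d43_1 D34744 (iv D34744) F152540
theorem F160733 : act 8 n34744 = n34744 := d44_1 D34744 (iv D34744) (iv D32933) F143535 D32933
def n34745 : Q := act 7 n32935
theorem D34745 : act 7 n32935 = n34745 := rfl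
theorem F160734 : act 0 n34745 = n32937 := d6_1 D34745 (iv D32937) (iv F152547)
theorem F160735 : act 1 n34745 = n32948 := d14_1 D34745 (iv D32948) (iv F152548)
theorem F160736 : act 2 n34745 = n34745 := d21_1 D34745 (iv D34745) F152549
theorem F160737 : act 5 n34745 = n32936 := d36_1 D34745 (iv D32936) D32935
theorem F160738 : act 9 n34745 = n34745 := d43_2 F152551 D34745 (iv D34745)
def n34746 : Q := act 6 n32937
theorem D34746 : act 6 n32937 = n34746 := rfl
theorem F160739 : act 1 n34746 = n32938 := d13_1 D34746 (iv D32938) (iv F152557)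
theorem F160740 : act 2 n34746 = n34746 := d20_1 D34746 (iv D34746) F152558
theorem F160741 : act 7 n34746 = n34746 := d39_2 D32937 D34746 (iv D34746) (iv D32937) F143553
theorem F160742 : act 9 n34746 = n34746 := d41_2 F152560 D34746 (iv D34746)
def n34747 : Q := act 7 n32939
theorem D34747 : act 7 n32939 = n34747 := rfl
theorem F160743 : act 0 n34747 = n32941 := d6_1 D34747 (iv D32941) (iv F152565)
theorem F160744 : act 2 n34747 = n32968 := d21_1 D34747 (iv D32968) (iv F152566)
theorem F160745 : act 5 n34747 = n32940 := d36_1 D34747 (iv D32940) D32939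
def n34748 : Q := act 6 n32941
theorem D34748 : act 6 n32941 = n34748 := rfl
theorem F160746 : act 1 n34748 = n32942 := d13_1 D34748 (iv D32942) (iv F152571)
theorem F160747 : act 2 n34748 = n32969 := d20_1 D34748 (iv D32969) (iv F152572)
def n34749 : Q := act 5 n32952
theorem D34749 : act 5 n32952 = n34749 := rfl
theorem F160748 : act 0 n34749 = n34749 := d4_1 D34749 (iv D34749) F152625
theorem F160749 : act 2 n34749 = n33039 := d19_1 D34749 F153082 (iv F152626)
theorem F160750 : act 3 n34749 = n33027 := d25_1 D34749 (iv D33027) (iv F152627)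
theorem F160751 : act 4 n34749 = n33004 := d30_1 D34749 (iv D33004) F144086 (iv F143662) (iv F152628)
theorem F160752 : act 6 n34749 = n33022 := d35_2 D32952 D34749 (iv D33022) (iv D31104) (iv F143657)
theorem F160753 : act 7 n34749 = n32972 := d36_2 (iv F152629) D34749 (iv D32972)
theorem F160754 : act 8 n34749 = n33031 := d37_2 (iv F152630) D34749 (iv D33031) (iv D31128) (iv F144320)
theorem F160755 : act 9 n34749 = n32998 := d38_2 (iv F152631) D34749 (iv D32998)
def n34750 : Q := act 5 n32953
theorem D34750 : act 5 n32953 = n34750 := rfl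
theorem F160756 : act 0 n34750 = n34750 := d4_1 D34750 (iv D34750) F152632
theorem F160757 : act 2 n34750 = n33041 := d19_1 D34750 F153088 (iv F152633)
theorem F160758 : act 3 n34750 = n32954 := d25_1 D34750 (iv D32954) (iv F152634)
theorem F160759 : act 4 n34750 = n33030 := d30_1 D34750 (iv D33030) F144333 (iv F144320) (iv F152635)
theorem F160760 : act 6 n34750 = n34750 := d35_2 (iv F152636) D34750 (iv D34750) F152636 F143669
theorem F160761 : act 7 n34750 = n32973 := d36_2 (iv F152637) D34750 (iv D32973)
theorem F160762 : act 8 n34750 = n33005 := d37_2 D32953 D34750 (iv D33005) (iv D31072) (iv F143662)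
theorem F160763 : act 9 n34750 = n33029 := d38_2 (iv F152638) D34750 (iv D33029)
def n34751 : Q := act 9 n32954
theorem D34751 : act 9 n32954 = n34751 := rfl
theorem F160764 : act 0 n34751 = n34751 := d8_1 D34751 (iv D34751) F152639
theorem F160765 : act 2 n34751 = n32992 := d23_1 D34751 (iv D32992) (iv F152640)
theorem F160766 : act 3 n34751 = n33029 := d29_1 D34751 (iv F160763) F160758
theorem F160767 : act 4 n34751 = n33034 := d34_1 D34751 F153061 (iv F152641)
theorem F160768 : act 5 n34751 = n32955 := d38_1 D34751 (iv D32955) D32954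
theorem F160769 : act 6 n34751 = n34751 := d41_1 D34751 (iv D34751) F152642
theorem F160770 : act 7 n34751 = n32975 := d43_1 D34751 (iv D32975) (iv F152643)
def n34752 : Q := act 5 n32958
theorem D34752 : act 5 n32958 = n34752 := rfl
theorem F160771 : act 0 n34752 = n34752 := d4_1 D34752 (iv D34752) F152667
theorem F160772 : act 2 n34752 = n33005 := d19_1 D34752 (iv D33005) (iv F152668)
theorem F160773 : act 3 n34752 = n33034 := d25_1 D34752 (iv D33034) (iv F152669)
theorem F160774 : act 4 n34752 = n32972 := d30_1 D34752 (iv D32972) F143814 (iv F143712) (iv F152670)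
theorem F160775 : act 6 n34752 = n34752 := d35_2 D32958 D34752 (iv D34752) (iv D32958) F143707
theorem F160776 : act 7 n34752 = n33004 := d36_2 (iv F152671) D34752 (iv D33004)
theorem F160777 : act 8 n34752 = n33041 := d37_2 (iv F152672) D34752 F153088 (iv F152623) F152621
theorem F160778 : act 9 n34752 = n32987 := d38_2 (iv F152673) D34752 (iv D32987)
def n34753 : Q := act 5 n32959
theorem D34753 : act 5 n32959 = n34753 := rfl
theorem F160779 : act 0 n34753 = n34753 := d4_1 D34753 (iv D34753) F152674
theorem F160780 : act 2 n34753 = n33004 := d19_1 D34753 (iv D33004) (iv F152675)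
theorem F160781 : act 3 n34753 = n32960 := d25_1 D34753 (iv D32960) (iv F152676)
theorem F160782 : act 4 n34753 = n33039 := d30_1 D34753 F153082 (iv F152620) F152621 (iv F152677)
theorem F160783 : act 6 n34753 = n32977 := d35_2 (iv F152678) D34753 (iv D32977) F143860 (iv F143719)
theorem F160784 : act 7 n34753 = n33005 := d36_2 (iv F152679) D34753 (iv D33005)
theorem F160785 : act 8 n34753 = n32973 := d37_2 D32959 D34753 (iv D32973) (iv D31019) (iv F143712)
theorem F160786 : act 9 n34753 = n33013 := d38_2 F152680 D34753 (iv D33013)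
def n34754 : Q := act 9 n32960
theorem D34754 : act 9 n32960 = n34754 := rfl
theorem F160787 : act 0 n34754 = n34754 := d8_1 D34754 (iv D34754) F152681
theorem F160788 : act 2 n34754 = n33001 := d23_1 D34754 (iv D33001) (iv F152682)
theorem F160789 : act 3 n34754 = n33013 := d29_1 D34754 (iv F160786) F160781
theorem F160790 : act 4 n34754 = n33040 := d34_1 D34754 F153086 F152686
theorem F160791 : act 5 n34754 = n32961 := d38_1 D34754 (iv D32961) D32960
theorem F160792 : act 6 n34754 = n32978 := d41_1 D34754 (iv D32978) (iv F152683)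
theorem F160793 : act 7 n34754 = n33007 := d43_1 D34754 (iv D33007) (iv F152684)
def n34755 : Q := act 5 n32964
theorem D34755 : act 5 n32964 = n34755 := rfl
theorem F160794 : act 0 n34755 = n34755 := d4_1 D34755 (iv D34755) F152709
theorem F160795 : act 2 n34755 = n33035 := d19_1 D34755 (iv D33035) (iv F152710)
theorem F160796 : act 3 n34755 = n33030 := d25_1 D34755 (iv D33030) (iv F152711)
theorem F160797 : act 4 n34755 = n32987 := d30_1 D34755 (iv D32987) F143979 (iv F143762) (iv F152712)
theorem F160798 : act 6 n34755 = n34755 := d35_2 D32964 D34755 (iv D34755) (iv D32964) F143757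
theorem F160799 : act 7 n34755 = n32998 := d36_2 (iv F152713) D34755 (iv D32998)
theorem F160800 : act 8 n34755 = n33037 := d37_2 (iv F152714) D34755 F153072 F144368 (iv F144351)
theorem F160801 : act 9 n34755 = n32972 := d38_2 (iv F152715) D34755 (iv D32972)
def n34756 : Q := act 5 n32965
theorem D34756 : act 5 n32965 = n34756 := rfl
theorem F160802 : act 0 n34756 = n34756 := d4_1 D34756 (iv D34756) F152716
theorem F160803 : act 2 n34756 = n33034 := d19_1 D34756 (iv D33034) (iv F152717)
theorem F160804 : act 3 n34756 = n32966 := d25_1 D34756 (iv D32966) (iv F152718)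
theorem F160805 : act 4 n34756 = n32992 := d30_1 D34756 F152868 F144003 (iv F144351) (iv F152719)
theorem F160806 : act 6 n34756 = n34756 := d35_2 (iv F152720) D34756 (iv D34756) F152720 F143769
theorem F160807 : act 7 n34756 = n32999 := d36_2 (iv F152721) D34756 (iv D32999)
theorem F160808 : act 8 n34756 = n32989 := d37_2 D32965 D34756 (iv D32989) (iv D31051) (iv F143762)
theorem F160809 : act 9 n34756 = n32991 := d38_2 F152722 D34756 F152864
def n34757 : Q := act 4 n32966
theorem D34757 : act 4 n32966 = n34757 := rfl
theorem F160810 : act 0 n34757 = n34757 := d3_1 D34757 (iv D34757) F152723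
theorem F160811 : act 2 n34757 = n33006 := d18_1 D34757 (iv D33006) (iv F152724)
theorem F160812 : act 5 n34757 = n33032 := d30_2 D32966 D34757 (iv D33032) (iv D31129) (iv F143774)
theorem F160813 : act 6 n34757 = n34757 := d31_2 F152725 D34757 (iv D34757)
theorem F160814 : act 7 n34757 = n33000 := d32_2 (iv F152726) D34757 (iv D33000)
theorem F160815 : act 8 n34757 = n32991 := d33_2 (iv F152727) D34757 (iv D32991)
def n34758 : Q := act 9 n32966
theorem D34758 : act 9 n32966 = n34758 := rfl
theorem F160816 : act 0 n34758 = n34758 := d8_1 D34758 (iv D34758) F152723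
theorem F160817 : act 2 n34758 = n33007 := d23_1 D34758 (iv D33007) (iv F152724)
theorem F160818 : act 3 n34758 = n32991 := d29_1 D34758 (iv F160809) F160804
theorem F160819 : act 5 n34758 = n32967 := d38_1 D34758 (iv D32967) D32966
theorem F160820 : act 6 n34758 = n34758 := d41_1 D34758 (iv D34758) F152725
theorem F160821 : act 7 n34758 = n33001 := d43_1 D34758 (iv D33001) (iv F152726)
def n34759 : Q := act 6 n32968
theorem D34759 : act 6 n32968 = n34759 := rfl
theorem F160822 : act 0 n34759 = n32969 := d5_1 D34759 (iv D32969) (iv F152735)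
theorem F160823 : act 1 n34759 = n34759 := d13_1 D34759 (iv D34759) F152736
theorem F160824 : act 3 n34759 = n33009 := d26_1 D34759 (iv D33009) (iv F152737)
def n34760 : Q := act 5 n32970
theorem D34760 : act 5 n32970 = n34760 := rfl
theorem F160825 : act 0 n34760 = n34760 := d4_1 D34760 (iv D34760) F152741
theorem F160826 : act 2 n34760 = n32972 := d19_1 D34760 (iv D32972) (iv F152742)
theorem F160827 : act 3 n34760 = n33037 := d25_1 D34760 F153072 (iv F152743)
theorem F160828 : act 4 n34760 = n33005 := d30_1 D34760 (iv D33005) (iv F152662) F152663 (iv F152744)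
theorem F160829 : act 6 n34760 = n34760 := d35_2 D32970 D34760 (iv D34760) (iv D32970) F143799
theorem F160830 : act 7 n34760 = n33039 := d36_2 (iv F152745) D34760 F153082
theorem F160831 : act 8 n34760 = n33030 := d37_2 (iv F152746) D34760 (iv D33030) (iv F152877) F152875
theorem F160832 : act 9 n34760 = n33035 := d38_2 (iv F152747) D34760 (iv D33035)
def n34761 : Q := act 5 n32971
theorem D34761 : act 5 n32971 = n34761 := rfl
theorem F160833 : act 0 n34761 = n34761 := d4_1 D34761 (iv D34761) F152748
theorem F160834 : act 2 n34761 = n32973 := d19_1 D34761 (iv D32973) (iv F152749)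
theorem F160835 : act 3 n34761 = n33014 := d25_1 D34761 (iv D33014) (iv F152750)
theorem F160836 : act 4 n34761 = n33031 := d30_1 D34761 (iv D33031) (iv F152874) F152875 (iv F152751)
theorem F160837 : act 6 n34761 = n32979 := d35_2 (iv F152752) D34761 (iv D32979) F143917 (iv F143809)
theorem F160838 : act 7 n34761 = n33041 := d36_2 (iv F152753) D34761 F153088
theorem F160839 : act 8 n34761 = n33004 := d37_2 D32971 D34761 (iv D33004) (iv F152665) F152663
theorem F160840 : act 9 n34761 = n33038 := d38_2 (iv F152754) D34761 (iv D33038)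
def n34762 : Q := act 8 n32972
theorem D34762 : act 8 n32972 = n34762 := rfl
theorem F160841 : act 0 n34762 = n34762 := d7_1 D34762 (iv D34762) F152755
theorem F160842 : act 2 n34762 = n33030 := d22_1 D34762 (iv F160831) F160826
theorem F160843 : act 3 n34762 = n32996 := d28_1 D34762 F152897 (iv F152756)
theorem F160844 : act 4 n34762 = n33041 := d33_1 D34762 (iv F160777) F160774
theorem F160845 : act 5 n34762 = n32995 := d37_1 D34762 (iv D32995) F144022 (iv F143815) D32972
theorem F160846 : act 6 n34762 = n34762 := d40_1 D34762 (iv D34762) F152757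
theorem F160847 : act 7 n34762 = n33031 := d42_1 D34762 (iv F160754) F160753
theorem F160848 : act 9 n34762 = n33028 := d44_2 F160801 D34762 F153037 D33037 (iv F160800)
def n34763 : Q := act 4 n32973
theorem D34763 : act 4 n32973 = n34763 := rfl
theorem F160849 : act 0 n34763 = n34763 := d3_1 D34763 (iv D34763) F152758
theorem F160850 : act 2 n34763 = n33031 := d18_1 D34763 (iv F160836) F160834
theorem F160851 : act 3 n34763 = n32998 := d24_1 D34763 F152907 F144120 (iv F143829) (iv F152759)
theorem F160852 : act 5 n34763 = n32994 := d30_2 D32973 D34763 F152882 F144022 (iv F143818)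
theorem F160853 : act 6 n34763 = n32980 := d31_2 (iv F152760) D34763 (iv D32980)
theorem F160854 : act 7 n34763 = n33030 := d32_2 F160761 D34763 (iv F160759)
theorem F160855 : act 8 n34763 = n33039 := d33_2 F160785 D34763 (iv F160782)
theorem F160856 : act 9 n33027 = n34763 := d44_0 F160855 (iv D33039) F153057 (iv D33033) (iv F153031)
def n34764 : Q := act 9 n32973
theorem D34764 : act 9 n32973 = n34764 := rfl
theorem F160857 : act 0 n34764 = n34764 := d8_1 D34764 (iv D34764) F152758
theorem F160858 : act 2 n34764 = n33038 := d23_1 D34764 (iv F160840) F160834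
theorem F160859 : act 3 n34764 = n32975 := d29_1 D34764 (iv D32975) (iv F152759)
theorem F160860 : act 4 n34764 = n33027 := d34_1 D34764 F160856 (iv D34763)
theorem F160861 : act 5 n34764 = n32974 := d38_1 D34764 (iv D32974) D32973
theorem F160862 : act 6 n34764 = n32981 := d41_1 D34764 (iv D32981) (iv F152760)
theorem F160863 : act 7 n34764 = n33029 := d43_1 D34764 (iv F160763) F160761
theorem F160864 : act 8 n34764 = n33032 := d45_6 (iv F97600) (iv F122939) (iv F144325) D33029 F153041 (iv F160863) F153050 D33040 (iv F160790) F160791 F152691 F143732 F121271 (iv F121204) F135465 (iv D21782) (iv D17012) (iv D13200) F47630 F37990 D8075 F38015 F30570 F24752 F19565 (iv F131685) F14533 F131684 (iv D4091) (iv D2868) (iv D2002) F7034 F7035 (iv D971) F3519 F3520 (iv F3691) (iv F5213) F5214 (iv F7356) D2098 F10353 (iv F10696) (iv F14981) D4330 F21028 F21029 F14987 (iv F20960) (iv F25847) D6777 (iv F38991) D10615 D13645 (iv F76277) F76274 (iv F96821) F96822 (iv F97493) D27542 F122782 (iv F135464) F77206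
def n34765 : Q := act 8 n32975
theorem D34765 : act 8 n32975 = n34765 := rfl
theorem F160865 : act 0 n34765 = n34765 := d7_1 D34765 (iv D34765) F152768
theorem F160866 : act 2 n34765 = n33017 := d22_1 D34765 F152978 (iv F152769)
theorem F160867 : act 3 n34765 = n33032 := d28_1 D34765 (iv F160864) F160859
theorem F160868 : act 4 n34765 = n33014 := d33_1 D34765 F152967 (iv F152770)
theorem F160869 : act 6 n34765 = n32982 := d40_1 D34765 (iv D32982) (iv F152772)
def n34766 : Q := act 8 n32978
theorem D34766 : act 8 n32978 = n34766 := rfl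
theorem F160870 : act 0 n34766 = n34766 := d7_1 D34766 (iv D34766) F152788
theorem F160871 : act 2 n34766 = n33019 := d22_1 D34766 F152987 (iv F152789)
theorem F160872 : act 3 n34766 = n33025 := d28_1 D34766 (iv D33025) (iv F152790)
theorem F160873 : act 4 n34766 = n33021 := d33_1 D34766 F153001 (iv F152791)
theorem F160874 : act 5 n34766 = n34766 := d37_1 D34766 (iv D34766) F152792 F143874 (iv F152792)
theorem F160875 : act 7 n34766 = n34766 := d42_1 D34766 (iv D34766) F152793
theorem F160876 : act 9 n34766 = n32982 := d44_2 D32978 D34766 (iv D32982) (iv D31041) (iv F143866)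
def n34767 : Q := act 6 n32983
theorem D34767 : act 6 n32983 = n34767 := rfl
theorem F160877 : act 0 n34767 = n32984 := d5_1 D34767 (iv D32984) (iv F152821)
theorem F160878 : act 1 n34767 = n34767 := d13_1 D34767 (iv D34767) F152822
theorem F160879 : act 7 n34767 = n33009 := d39_2 D32983 D34767 (iv D33009) (iv D31076) (iv F143953)
def n34768 : Q := act 5 n32985
theorem D34768 : act 5 n32985 = n34768 := rfl
theorem F160880 : act 0 n34768 = n34768 := d4_1 D34768 (iv D34768) F152826
theorem F160881 : act 2 n34768 = n32987 := d19_1 D34768 (iv D32987) (iv F152827)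
theorem F160882 : act 3 n34768 = n33007 := d25_1 D34768 F152944 (iv F152828)
theorem F160883 : act 4 n34768 = n33035 := d30_1 D34768 (iv D33035) (iv F152704) F152705 (iv F152829)
theorem F160884 : act 6 n34768 = n34768 := d35_2 D32985 D34768 (iv D34768) (iv D32985) F143964
theorem F160885 : act 7 n34768 = n33013 := d36_2 (iv F152830) D34768 (iv D33013)
theorem F160886 : act 9 n34768 = n33005 := d38_2 (iv F152832) D34768 (iv D33005)
def n34769 : Q := act 5 n32986
theorem D34769 : act 5 n32986 = n34769 := rfl
theorem F160887 : act 0 n34769 = n34769 := d4_1 D34769 (iv D34769) F152833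
theorem F160888 : act 2 n34769 = n32989 := d19_1 D34769 (iv D32989) (iv F152834)
theorem F160889 : act 3 n34769 = n33041 := d25_1 D34769 F153088 (iv F152835)
theorem F160890 : act 6 n34769 = n34769 := d35_2 (iv F152837) D34769 (iv D34769) F152837 F143974
theorem F160891 : act 7 n34769 = n33014 := d36_2 (iv F152838) D34769 (iv D33014)
theorem F160892 : act 8 n34769 = n33034 := d37_2 D32986 D34769 (iv D33034) (iv F152707) F152705
theorem F160893 : act 9 n34769 = n33016 := d38_2 (iv F152839) D34769 (iv D33016)
def n34770 : Q := act 8 n32987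
theorem D34770 : act 8 n32987 = n34770 := rfl
theorem F160894 : act 0 n34770 = n34770 := d7_1 D34770 (iv D34770) F152840
theorem F160895 : act 3 n34770 = n33006 := d28_1 D34770 F152942 (iv F152841)
theorem F160896 : act 4 n34770 = n33037 := d33_1 D34770 (iv F160800) F160797
theorem F160897 : act 6 n34770 = n34770 := d40_1 D34770 (iv D34770) F152842
theorem F160898 : act 7 n34770 = n33015 := d42_1 D34770 (iv D33015) (iv F152843)
theorem F160899 : act 9 n34770 = n33036 := d44_2 F160778 D34770 F153070 D33041 (iv F160777)
theorem F160900 : act 5 n33040 = n34770 := d38_3 F160899 F153067 (iv F153086)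
def n34771 : Q := act 5 n32988
theorem D34771 : act 5 n32988 = n34771 := rfl
theorem F160901 : act 0 n34771 = n34771 := d4_1 D34771 (iv D34771) F152844
theorem F160902 : act 2 n34771 = n33018 := d19_1 D34771 F152981 (iv F152845)
theorem F160903 : act 3 n34771 = n33038 := d25_1 D34771 (iv D33038) (iv F152846)
theorem F160904 : act 6 n34771 = n33021 := d35_2 (iv F152848) D34771 F152999 F144184 F143987
theorem F160905 : act 7 n34771 = n33016 := d36_2 (iv F152849) D34771 (iv D33016)
theorem F160906 : act 8 n34771 = n33040 := d37_2 D32988 D34771 F160900 (iv D34770) (iv D32987)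
theorem F160907 : act 9 n34771 = n33014 := d38_2 (iv F152850) D34771 (iv D33014)
def n34772 : Q := act 4 n32989
theorem D34772 : act 4 n32989 = n34772 := rfl
theorem F160908 : act 0 n34772 = n34772 := d3_1 D34772 (iv D34772) F152851
theorem F160909 : act 6 n34772 = n34772 := d31_2 F152853 D34772 (iv D34772)
theorem F160910 : act 7 n34772 = n33017 := d32_2 (iv F152854) D34772 (iv D33017)
theorem F160911 : act 8 n34772 = n32992 := d33_2 F160808 D34772 (iv F160805)
def n34773 : Q := act 9 n32989
theorem D34773 : act 9 n32989 = n34773 := rfl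
theorem F160912 : act 0 n34773 = n34773 := d8_1 D34773 (iv D34773) F152851
theorem F160913 : act 2 n34773 = n33016 := d23_1 D34773 (iv F160893) F160888
theorem F160914 : act 3 n34773 = n32992 := d29_1 D34773 (iv D32992) (iv F152852)
theorem F160915 : act 5 n34773 = n32990 := d38_1 D34773 (iv D32990) D32989
theorem F160916 : act 6 n34773 = n34773 := d41_1 D34773 (iv D34773) F152853
theorem F160917 : act 7 n34773 = n33018 := d43_1 D34773 (iv D33018) (iv F152854)
def n34774 : Q := act 4 n32996
theorem D34774 : act 4 n32996 = n34774 := rfl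
theorem F160918 : act 0 n34774 = n34774 := d3_1 D34774 (iv D34774) F152893
theorem F160919 : act 2 n34774 = n33036 := d18_1 D34774 (iv D33036) (iv F152894)
theorem F160920 : act 5 n34774 = n33000 := d30_2 D32996 D34774 (iv D33000) (iv D31065) (iv F144034)
theorem F160921 : act 6 n34774 = n34774 := d31_2 F152895 D34774 (iv D34774)
theorem F160922 : act 7 n34774 = n33032 := d32_2 (iv F152896) D34774 (iv D33032)
theorem F160923 : act 8 n34774 = n33029 := d33_2 (iv F152897) D34774 F153040
def n34775 : Q := act 9 n32996
theorem D34775 : act 9 n32996 = n34775 := rfl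
theorem F160924 : act 0 n34775 = n34775 := d8_1 D34775 (iv D34775) F152893
theorem F160925 : act 2 n34775 = n33037 := d23_1 D34775 (iv D33037) (iv F152894)
theorem F160926 : act 3 n34775 = n33028 := d29_1 D34775 (iv F160848) F160843
theorem F160927 : act 5 n34775 = n32997 := d38_1 D34775 (iv D32997) D32996
theorem F160928 : act 6 n34775 = n34775 := d41_1 D34775 (iv D34775) F152895
theorem F160929 : act 7 n34775 = n33033 := d43_1 D34775 (iv D33033) (iv F152896)
theorem F160930 : act 8 n34775 = n33035 := d44_1 D34775 (iv F160832) F160831 F153044 (iv F152897)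
def n34776 : Q := act 3 n33000
theorem D34776 : act 3 n33000 = n34776 := rfl
theorem F160931 : act 0 n34776 = n34776 := d2_1 D34776 (iv D34776) F152917
theorem F160932 : act 4 n34776 = n33018 := d24_2 D33000 D34776 F152980 (iv F152913) F152912
theorem F160933 : act 6 n34776 = n33019 := d26_2 (iv F152919) D34776 (iv D33019)
theorem F160934 : act 8 n34776 = n33001 := d28_2 (iv F152920) D34776 F152922
theorem F160935 : act 9 n33017 = n34776 := d44_0 F160934 (iv D33001) F144066 D31088 (iv F152978)
def n34777 : Q := act 9 n33000
theorem D34777 : act 9 n33000 = n34777 := rfl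
theorem F160936 : act 0 n34777 = n34777 := d8_1 D34777 (iv D34777) F152917
theorem F160937 : act 2 n34777 = n33040 := d23_1 D34777 F153086 (iv F152918)
theorem F160938 : act 3 n34777 = n33017 := d29_1 D34777 F160935 (iv D34776)
theorem F160939 : act 4 n34777 = n33001 := d34_1 D34777 (iv D33001) D33000
theorem F160940 : act 6 n34777 = n33020 := d41_1 D34777 (iv D33020) (iv F152919)
theorem F160941 : act 8 n34777 = n33018 := d44_1 D34777 (iv D33018) (iv F152915) F152916 (iv F152920)
def n34778 : Q := act 6 n33002
theorem D34778 : act 6 n33002 = n34778 := rfl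
theorem F160942 : act 0 n34778 = n33003 := d5_1 D34778 (iv D33003) (iv F152925)
theorem F160943 : act 1 n34778 = n34778 := d13_1 D34778 (iv D34778) F152926
theorem F160944 : act 9 n34778 = n33009 := d41_2 (iv F152928) D34778 (iv D33009)
def n34779 : Q := act 9 n33006
theorem D34779 : act 9 n33006 = n34779 := rfl
theorem F160945 : act 0 n34779 = n34779 := d8_1 D34779 (iv D34779) F152938
theorem F160946 : act 3 n34779 = n33036 := d29_1 D34779 (iv F160899) F160895
theorem F160947 : act 4 n34779 = n33007 := d34_1 D34779 (iv D33007) D33006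
theorem F160948 : act 5 n34779 = n33015 := d38_1 D34779 (iv F152972) (iv F152939)
theorem F160949 : act 6 n34779 = n34779 := d41_1 D34779 (iv D34779) F152940
theorem F160950 : act 7 n34779 = n33040 := d43_1 D34779 F153086 (iv F152941)
theorem F160951 : act 8 n34779 = n33016 := d44_1 D34779 (iv F160893) F160892 F153061 (iv F152942)
def n34780 : Q := act 8 n33007
theorem D34780 : act 8 n33007 = n34780 := rfl
theorem F160952 : act 0 n34780 = n34780 := d7_1 D34780 (iv D34780) F152943
theorem F160953 : act 4 n34780 = n33016 := d33_1 D34780 (iv F160951) F160947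
theorem F160954 : act 5 n34780 = n33017 := d37_1 D34780 F152978 F144137 (iv F144096) (iv F152944)
theorem F160955 : act 6 n34780 = n34780 := d40_1 D34780 (iv D34780) F152945
def n34781 : Q := act 6 n33008
theorem D34781 : act 6 n33008 = n34781 := rfl
theorem F160956 : act 0 n34781 = n33011 := d5_1 D34781 (iv D33011) (iv F152946)
theorem F160957 : act 1 n34781 = n34781 := d13_1 D34781 (iv D34781) F152947
theorem F160958 : act 4 n34781 = n33009 := d31_1 D34781 (iv D33009) (iv F152948)
def n34782 : Q := act 8 n33009
theorem D34782 : act 8 n33009 = n34782 := rfl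
theorem F160959 : act 0 n34782 = n33012 := d7_1 D34782 (iv D33012) (iv F152950)
theorem F160960 : act 1 n34782 = n34782 := d15_1 D34782 (iv D34782) F152951
theorem F160961 : act 6 n34782 = n33010 := d40_1 D34782 (iv D33010) D33009
def n34783 : Q := act 8 n33013
theorem D34783 : act 8 n33013 = n34783 := rfl
theorem F160962 : act 0 n34783 = n34783 := d7_1 D34783 (iv D34783) F152960
theorem F160963 : act 2 n34783 = n33015 := d22_1 D34783 (iv D33015) (iv F152961)
theorem F160964 : act 4 n34783 = n33033 := d33_1 D34783 (iv F153057) (iv F152962)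
theorem F160965 : act 6 n34783 = n33025 := d40_1 D34783 (iv D33025) (iv F152963)
theorem F160966 : act 9 n34783 = n33032 := d44_2 F160786 D34783 (iv F160864) (iv D34764) (iv F160785)
def n34784 : Q := act 4 n33026
theorem D34784 : act 4 n33026 = n34784 := rfl
theorem F160967 : act 1 n34784 = n33032 := d11_1 D34784 (iv D33032) (iv F153025)
theorem F160968 : act 6 n34784 = n33043 := d31_2 (iv F153026) D34784 (iv D33043)
def n34785 : Q := act 9 n33045
theorem D34785 : act 9 n33045 = n34785 := rfl
theorem F160969 : act 0 n34785 = n33047 := d8_1 D34785 (iv D33047) (iv F153105)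
theorem F160970 : act 1 n34785 = n34785 := d16_1 D34785 (iv D34785) F153106
theorem F160971 : act 2 n34785 = n33208 := d23_1 D34785 (iv D33208) (iv F153107)
theorem F160972 : act 3 n34785 = n33218 := d29_1 D34785 (iv D33218) (iv F153108)
theorem F160973 : act 4 n34785 = n33916 := d34_1 D34785 (iv D33916) (iv F153109)
theorem F160974 : act 5 n34785 = n33046 := d38_1 D34785 (iv D33046) D33045
theorem F160975 : act 6 n34785 = n34785 := d41_1 D34785 (iv D34785) F153110
theorem F160976 : act 7 n34785 = n34785 := d43_1 D34785 (iv D34785) F153111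
theorem F160977 : act 8 n33873 = n34785 := d37_0 F160974 F153120 F147023 D31961 D33873
def n34786 : Q := act 3 n33048
theorem D34786 : act 3 n33048 = n34786 := rfl
theorem F160978 : act 0 n34786 = n34005 := d2_1 D34786 (iv D34005) (iv F153129)
theorem F160979 : act 1 n34786 = n34588 := d10_1 D34786 F160246 (iv F153130)
theorem F160980 : act 2 n34786 = n33138 := d17_1 D34786 (iv D33138) F145149 (iv F144623) (iv F153131)
theorem F160981 : act 4 n34786 = n33066 := d24_2 D33048 D34786 (iv D33066) (iv D31197) (iv F144609)
theorem F160982 : act 5 n34786 = n33347 := d25_2 (iv F153132) D34786 (iv D33347)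
theorem F160983 : act 6 n34786 = n34521 := d26_2 (iv F153133) D34786 (iv D34521)
theorem F160984 : act 8 n34786 = n34584 := d28_2 (iv F153134) D34786 (iv D34584)
theorem F160985 : act 9 n34786 = n34261 := d29_2 (iv F153135) D34786 F159070
def n34787 : Q := act 7 n33048
theorem D34787 : act 7 n33048 = n34787 := rfl
theorem F160986 : act 0 n34787 = n34006 := d6_1 D34787 (iv D34006) (iv F153129)
theorem F160987 : act 1 n34787 = n34590 := d14_1 D34787 F160254 (iv F153130)
theorem F160988 : act 2 n34787 = n33050 := d21_1 D34787 (iv D33050) (iv F153131)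
theorem F160989 : act 4 n34787 = n33049 := d32_1 D34787 (iv D33049) D33048
theorem F160990 : act 5 n34787 = n33348 := d36_1 D34787 (iv D33348) (iv F153132)
theorem F160991 : act 8 n34787 = n34585 := d42_2 (iv F153134) D34787 (iv D34585)
theorem F160992 : act 9 n34787 = n34603 := d43_2 (iv F153135) D34787 (iv D34603)
def n34788 : Q := act 6 n33049
theorem D34788 : act 6 n33049 = n34788 := rfl
theorem F160993 : act 0 n34788 = n34007 := d5_1 D34788 (iv D34007) (iv F153136)
theorem F160994 : act 1 n34788 = n34592 := d13_1 D34788 F160261 (iv F153137)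
theorem F160995 : act 2 n34788 = n33052 := d20_1 D34788 (iv D33052) (iv F153138)
theorem F160996 : act 3 n34788 = n33068 := d26_1 D34788 (iv D33068) (iv F153139)
theorem F160997 : act 5 n34788 = n34517 := d35_1 D34788 (iv D34517) F151680 (iv F144618) (iv F153140)
theorem F160998 : act 7 n34788 = n34523 := d39_2 D33049 D34788 (iv D34523) (iv D32673) (iv F144610)
theorem F160999 : act 8 n34788 = n34586 := d40_2 (iv F153141) D34788 (iv D34586)
theorem F161000 : act 9 n34788 = n34604 := d41_2 (iv F153142) D34788 (iv D34604)
def n34789 : Q := act 6 n33050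
theorem D34789 : act 6 n33050 = n34789 := rfl
theorem F161001 : act 0 n34789 = n34008 := d5_1 D34789 (iv D34008) (iv F153143)
theorem F161002 : act 1 n34789 = n34567 := d13_1 D34789 (iv D34567) (iv F153144)
theorem F161003 : act 3 n34789 = n33143 := d26_1 D34789 (iv D33143) (iv F153145)
theorem F161004 : act 4 n34789 = n33052 := d31_1 D34789 (iv D33052) (iv F153146)
theorem F161005 : act 7 n34789 = n34524 := d39_2 D33050 D34789 (iv D34524) (iv D32674) (iv F144625)
theorem F161006 : act 9 n34789 = n34606 := d41_2 (iv F153148) D34789 (iv D34606)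
def n34790 : Q := act 8 n33050
theorem D34790 : act 8 n33050 = n34790 := rfl
theorem F161007 : act 0 n34790 = n34009 := d7_1 D34790 (iv D34009) (iv F153143)
theorem F161008 : act 1 n34790 = n34516 := d15_1 D34790 F160031 (iv F153144)
theorem F161009 : act 2 n34790 = n34585 := d22_1 D34790 (iv F160991) F160988
theorem F161010 : act 3 n34790 = n33144 := d28_1 D34790 (iv D33144) (iv F153145)
theorem F161011 : act 4 n34790 = n33053 := d33_1 D34790 (iv D33053) (iv F153146)
theorem F161012 : act 7 n34790 = n33051 := d42_1 D34790 (iv D33051) D33050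
def n34791 : Q := act 5 n33051
theorem D34791 : act 5 n33051 = n34791 := rfl
theorem F161013 : act 0 n34791 = n34010 := d4_1 D34791 (iv D34010) (iv F153149)
theorem F161014 : act 1 n34791 = n33320 := d12_1 D34791 F154779 (iv F153150)
theorem F161015 : act 2 n34791 = n34551 := d19_1 D34791 F160145 (iv F153151)
theorem F161016 : act 3 n34791 = n33145 := d25_1 D34791 (iv D33145) (iv F153152)
theorem F161017 : act 4 n34791 = n33058 := d30_1 D34791 (iv D33058) F144670 (iv F144636) (iv F153153)
theorem F161018 : act 8 n34791 = n33355 := d37_2 D33051 D34791 (iv D33355) (iv D31471) (iv F144624)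
def n34792 : Q := act 9 n33051
theorem D34792 : act 9 n33051 = n34792 := rfl
theorem F161019 : act 0 n34792 = n34011 := d8_1 D34792 (iv D34011) (iv F153149)
theorem F161020 : act 1 n34792 = n34315 := d16_1 D34792 F159262 (iv F153150)
theorem F161021 : act 2 n34792 = n34568 := d23_1 D34792 F160184 (iv F153151)
theorem F161022 : act 3 n34792 = n33146 := d29_1 D34792 (iv D33146) (iv F153152)
theorem F161023 : act 4 n34792 = n33054 := d34_1 D34792 (iv D33054) (iv F153153)
theorem F161024 : act 6 n34792 = n34526 := d41_1 D34792 (iv D34526) (iv F153154)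
theorem F161025 : act 8 n34792 = n34530 := d44_1 D34792 F160085 F151762 (iv F144626) D33051
def n34793 : Q := act 8 n33052
theorem D34793 : act 8 n33052 = n34793 := rfl
theorem F161026 : act 0 n34793 = n34012 := d7_1 D34793 (iv D34012) (iv F153155)
theorem F161027 : act 1 n34793 = n34517 := d15_1 D34793 F160035 (iv F153156)
theorem F161028 : act 2 n34793 = n34586 := d22_1 D34793 (iv F160999) F160995
theorem F161029 : act 3 n34793 = n33055 := d28_1 D34793 (iv D33055) (iv F153157)
theorem F161030 : act 5 n34793 = n34592 := d37_1 D34793 (iv D34592) F160048 (iv D34520) (iv F153158)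
theorem F161031 : act 6 n34793 = n33053 := d40_1 D34793 (iv D33053) D33052
theorem F161032 : act 7 n34793 = n34527 := d42_1 D34793 (iv D34527) (iv F153159)
def n34794 : Q := act 9 n33053
theorem D34794 : act 9 n33053 = n34794 := rfl
theorem F161033 : act 0 n34794 = n34013 := d8_1 D34794 (iv D34013) (iv F153161)
theorem F161034 : act 1 n34794 = n34316 := d16_1 D34794 F159266 (iv F153162)
theorem F161035 : act 2 n34794 = n34569 := d23_1 D34794 F160188 (iv F153163)
theorem F161036 : act 3 n34794 = n33056 := d29_1 D34794 (iv D33056) (iv F153164)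
theorem F161037 : act 5 n34794 = n33060 := d38_1 D34794 (iv D33060) (iv F153165)
theorem F161038 : act 7 n34794 = n33054 := d43_1 D34794 (iv D33054) (iv F153166)
theorem F161039 : act 8 n34794 = n34608 := d44_1 D34794 (iv D34608) (iv D32752) (iv F144631) D33053
def n34795 : Q := act 9 n33055
theorem D34795 : act 9 n33055 = n34795 := rfl
theorem F161040 : act 0 n34795 = n34014 := d8_1 D34795 (iv D34014) (iv F153174)
theorem F161041 : act 1 n34795 = n34447 := d16_1 D34795 F159745 (iv F153175)
theorem F161042 : act 2 n34795 = n33070 := d23_1 D34795 (iv D33070) (iv F153176)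
theorem F161043 : act 4 n34795 = n33150 := d34_1 D34795 (iv D33150) (iv F153177)
theorem F161044 : act 5 n34795 = n34671 := d38_1 D34795 (iv D34671) (iv F153178)
theorem F161045 : act 6 n34795 = n33056 := d41_1 D34795 (iv D33056) (iv F153179)
theorem F161046 : act 7 n34795 = n34529 := d43_1 D34795 (iv D34529) (iv F153180)
theorem F161047 : act 8 n34795 = n34610 := d44_1 D34795 (iv D34610) (iv D32754) (iv F144644) D33055
def n34796 : Q := act 5 n33057
theorem D34796 : act 5 n33057 = n34796 := rfl
theorem F161048 : act 0 n34796 = n34015 := d4_1 D34796 (iv D34015) (iv F153188)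
theorem F161049 : act 1 n34796 = n33321 := d12_1 D34796 F154783 (iv F153189)
theorem F161050 : act 2 n34796 = n34552 := d19_1 D34796 F160148 (iv F153190)
theorem F161051 : act 3 n34796 = n33061 := d25_1 D34796 (iv D33061) (iv F153191)
theorem F161052 : act 7 n34796 = n33058 := d36_2 (iv F153194) D34796 (iv D33058)
theorem F161053 : act 8 n34796 = n33377 := d37_2 D33057 D34796 (iv D33377) (iv D31492) (iv F144663)
def n34797 : Q := act 9 n33057
theorem D34797 : act 9 n33057 = n34797 := rfl
theorem F161054 : act 0 n34797 = n34016 := d8_1 D34797 (iv D34016) (iv F153188)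
theorem F161055 : act 1 n34797 = n33314 := d16_1 D34797 F154745 (iv F153189)
theorem F161056 : act 2 n34797 = n34543 := d23_1 D34797 F160125 (iv F153190)
theorem F161057 : act 3 n34797 = n33062 := d29_1 D34797 (iv D33062) (iv F153191)
theorem F161058 : act 4 n34797 = n33060 := d34_1 D34797 (iv D33060) (iv F153192)
theorem F161059 : act 6 n34797 = n33331 := d41_1 D34797 F154834 (iv F153193)
theorem F161060 : act 7 n34797 = n33059 := d43_1 D34797 (iv D33059) (iv F153194)
theorem F161061 : act 8 n34797 = n34797 := d44_1 D34797 (iv D34797) (iv D33057) F144665 D33057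
def n34798 : Q := act 6 n33058
theorem D34798 : act 6 n33058 = n34798 := rfl
theorem F161062 : act 0 n34798 = n34017 := d5_1 D34798 (iv D34017) (iv F153195)
theorem F161063 : act 1 n34798 = n33273 := d13_1 D34798 F154507 (iv F153196)
theorem F161064 : act 2 n34798 = n34085 := d20_1 D34798 F158434 (iv F153197)
theorem F161065 : act 3 n34798 = n33063 := d26_1 D34798 (iv D33063) (iv F153198)
theorem F161066 : act 5 n34798 = n33272 := d35_1 D34798 (iv D33272) F146022 (iv F144671) D33058
theorem F161067 : act 8 n34798 = n33379 := d40_2 (iv F153199) D34798 (iv D33379)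
theorem F161068 : act 9 n34211 = n34798 := d38_0 F161066 F154503 D34211
def n34799 : Q := act 9 n33058
theorem D34799 : act 9 n33058 = n34799 := rfl
theorem F161069 : act 0 n34799 = n34018 := d8_1 D34799 (iv D34018) (iv F153195)
theorem F161070 : act 1 n34799 = n33313 := d16_1 D34799 F154738 (iv F153196)
theorem F161071 : act 2 n34799 = n34542 := d23_1 D34799 F160119 (iv F153197)
theorem F161072 : act 3 n34799 = n33064 := d29_1 D34799 (iv D33064) (iv F153198)
theorem F161073 : act 5 n34799 = n33059 := d38_1 D34799 (iv D33059) D33058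
theorem F161074 : act 6 n34799 = n34211 := d41_1 D34799 F161068 (iv D34798)
def n34800 : Q := act 6 n33061
theorem D34800 : act 6 n33061 = n34800 := rfl
theorem F161075 : act 0 n34800 = n34019 := d5_1 D34800 (iv D34019) (iv F153214)
theorem F161076 : act 1 n34800 = n33440 := d13_1 D34800 (iv D33440) (iv F153215)
theorem F161077 : act 2 n34800 = n34800 := d20_1 D34800 (iv D34800) F153216
theorem F161078 : act 4 n34800 = n33168 := d31_1 D34800 (iv D33168) (iv F153217)
theorem F161079 : act 5 n34800 = n33468 := d35_1 D34800 (iv D33468) F146881 (iv F144695) D33061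
theorem F161080 : act 8 n34800 = n33387 := d40_2 (iv F153219) D34800 (iv D33387)
def n34801 : Q := act 9 n33061
theorem D34801 : act 9 n33061 = n34801 := rfl
theorem F161081 : act 0 n34801 = n34020 := d8_1 D34801 (iv D34020) (iv F153214)
theorem F161082 : act 1 n34801 = n33434 := d16_1 D34801 F155345 (iv F153215)
theorem F161083 : act 2 n34801 = n34801 := d23_1 D34801 (iv D34801) F153216
theorem F161084 : act 4 n34801 = n33169 := d34_1 D34801 (iv D33169) (iv F153217)
theorem F161085 : act 5 n34801 = n33062 := d38_1 D34801 (iv D33062) D33061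
theorem F161086 : act 7 n34801 = n33064 := d43_1 D34801 (iv D33064) (iv F153218)
def n34802 : Q := act 7 n33063
theorem D34802 : act 7 n33063 = n34802 := rfl
theorem F161087 : act 0 n34802 = n34021 := d6_1 D34802 (iv D34021) (iv F153227)
theorem F161088 : act 1 n34802 = n33395 := d14_1 D34802 (iv D33395) (iv F153228)
theorem F161089 : act 2 n34802 = n34802 := d21_1 D34802 (iv D34802) F153229
theorem F161090 : act 4 n34802 = n33170 := d32_1 D34802 (iv D33170) (iv F153230)
theorem F161091 : act 5 n34802 = n33394 := d36_1 D34802 (iv D33394) (iv F153231)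
theorem F161092 : act 8 n34802 = n33389 := d42_2 (iv F153232) D34802 (iv D33389)
theorem F161093 : act 9 n34802 = n34737 := d43_2 F153233 D34802 (iv D34737)
def n34803 : Q := act 8 n33064
theorem D34803 : act 8 n33064 = n34803 := rfl
theorem F161094 : act 0 n34803 = n33846 := d7_1 D34803 F157317 (iv F153234)
theorem F161095 : act 1 n34803 = n33435 := d15_1 D34803 (iv D33435) (iv F153235)
theorem F161096 : act 2 n34803 = n34803 := d22_1 D34803 (iv D34803) F153236
theorem F161097 : act 4 n34803 = n33172 := d33_1 D34803 (iv D33172) (iv F153237)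
theorem F161098 : act 5 n34803 = n34803 := d37_1 D34803 (iv D34803) F153238 F144707 (iv F153238)
theorem F161099 : act 6 n34803 = n33813 := d40_1 D34803 F157157 (iv F153239)
theorem F161100 : act 9 n34803 = n33391 := d44_2 D33064 D34803 (iv D33391) (iv D31504) (iv F144701)
def n34804 : Q := act 3 n33065
theorem D34804 : act 3 n33065 = n34804 := rfl
theorem F161101 : act 0 n34804 = n34023 := d2_1 D34804 (iv D34023) (iv F153240)
theorem F161102 : act 1 n34804 = n33073 := d10_1 D34804 F153301 (iv F153241)
theorem F161103 : act 2 n34804 = n34396 := d17_1 D34804 F159520 F151531 F144772 (iv F153242)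
theorem F161104 : act 4 n34804 = n33513 := d24_2 D33065 D34804 F155743 F147164 (iv F144719)
theorem F161105 : act 5 n34804 = n34667 := d25_2 (iv F153243) D34804 F160471
theorem F161106 : act 6 n34804 = n33175 := d26_2 (iv F153244) D34804 (iv D33175)
theorem F161107 : act 7 n34804 = n33072 := d27_2 (iv F153245) D34804 (iv D33072)
theorem F161108 : act 8 n34804 = n34804 := d28_2 F153246 D34804 (iv D34804)
theorem F161109 : act 9 n34804 = n34281 := d29_2 (iv F153247) D34804 F159153
def n34805 : Q := act 7 n33066
theorem D34805 : act 7 n33066 = n34805 := rfl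
theorem F161110 : act 0 n34805 = n34029 := d6_1 D34805 (iv D34029) (iv F153248)
theorem F161111 : act 1 n34805 = n34667 := d14_1 D34805 F160472 (iv F153249)
theorem F161112 : act 2 n34805 = n33186 := d21_1 D34805 (iv D33186) (iv F153250)
theorem F161113 : act 3 n34805 = n33067 := d27_1 D34805 (iv D33067) D33066
theorem F161114 : act 5 n34805 = n33073 := d36_1 D34805 (iv D33073) (iv F153251)
theorem F161115 : act 8 n34805 = n34665 := d42_2 (iv F153253) D34805 (iv D34665)
theorem F161116 : act 9 n34805 = n34263 := d43_2 (iv F153254) D34805 F159077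
def n34806 : Q := act 6 n33067
theorem D34806 : act 6 n33067 = n34806 := rfl
theorem F161117 : act 0 n34806 = n34030 := d5_1 D34806 (iv D34030) (iv F153255)
theorem F161118 : act 1 n34806 = n34669 := d13_1 D34806 F160478 (iv F153256)
theorem F161119 : act 2 n34806 = n33069 := d20_1 D34806 (iv D33069) (iv F153257)
theorem F161120 : act 4 n34806 = n33068 := d31_1 D34806 (iv D33068) (iv F153258)
theorem F161121 : act 7 n34806 = n34612 := d39_2 D33067 D34806 F160315 F152048 (iv F144728)
theorem F161122 : act 8 n34806 = n34601 := d40_2 (iv F153260) D34806 F160285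
theorem F161123 : act 9 n34806 = n34673 := d41_2 (iv F153261) D34806 (iv D34673)
def n34807 : Q := act 5 n33069
theorem D34807 : act 5 n33069 = n34807 := rfl
theorem F161124 : act 0 n34807 = n34031 := d4_1 D34807 (iv D34031) (iv F153269)
theorem F161125 : act 1 n34807 = n34764 := d12_1 D34807 F160861 (iv F153270)
theorem F161126 : act 3 n34807 = n33191 := d25_1 D34807 (iv D33191) (iv F153271)
theorem F161127 : act 4 n34807 = n34654 := d30_1 D34807 (iv D34654) F152074 (iv F144747) (iv F153272)
theorem F161128 : act 6 n34807 = n33075 := d35_2 D33069 D34807 (iv D33075) (iv D31209) (iv F144741)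
theorem F161129 : act 7 n34807 = n34677 := d36_2 (iv F153273) D34807 F160509
theorem F161130 : act 9 n34807 = n34675 := d38_2 (iv F153275) D34807 (iv D34675)
theorem F161131 : act 8 n34784 = n34807 := d40_0 F161128 (iv F153318) (iv F160968)
def n34808 : Q := act 3 n33071
theorem D34808 : act 3 n33071 = n34808 := rfl
theorem F161132 : act 0 n34808 = n33072 := d2_1 D34808 (iv D33072) (iv F153284)
theorem F161133 : act 1 n34808 = n34034 := d10_1 D34808 (iv D34034) (iv F153285)
theorem F161134 : act 2 n34808 = n34391 := d17_1 D34808 F159501 F151521 (iv F148376) (iv F153286)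
theorem F161135 : act 4 n34808 = n33510 := d24_2 D33071 D34808 (iv D33510) (iv D31626) (iv F144776)
theorem F161136 : act 5 n34808 = n33800 := d25_2 (iv F153287) D34808 F157086
theorem F161137 : act 6 n34808 = n34808 := d26_2 F153288 D34808 (iv D34808)
theorem F161138 : act 7 n34808 = n34023 := d27_2 (iv F153289) D34808 (iv D34023)
theorem F161139 : act 8 n34808 = n34808 := d28_2 F153290 D34808 (iv D34808)
theorem F161140 : act 9 n34808 = n34278 := d29_2 (iv F153291) D34808 F159140
def n34809 : Q := act 6 n33073
theorem D34809 : act 6 n33073 = n34809 := rfl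
theorem F161141 : act 0 n34809 = n34038 := d5_1 D34809 (iv D34038) (iv F153299)
theorem F161142 : act 1 n34809 = n33175 := d13_1 D34809 (iv F161106) F161102
theorem F161143 : act 2 n34809 = n33202 := d20_1 D34809 (iv D33202) (iv F153300)
theorem F161144 : act 3 n34809 = n33074 := d26_1 D34809 (iv D33074) (iv F153301)
theorem F161145 : act 4 n34809 = n33514 := d31_1 D34809 (iv D33514) (iv F153302)
theorem F161146 : act 7 n34809 = n34809 := d39_2 D33073 D34809 (iv D34809) (iv D33073) F144790
theorem F161147 : act 8 n34809 = n34809 := d40_2 F153303 D34809 (iv D34809)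
theorem F161148 : act 9 n34809 = n34283 := d41_2 (iv F153304) D34809 F159161
def n34810 : Q := act 5 n33074
theorem D34810 : act 5 n33074 = n34810 := rfl
theorem F161149 : act 0 n34810 = n34039 := d4_1 D34810 (iv D34039) (iv F153305)
theorem F161150 : act 1 n34810 = n33163 := d12_1 D34810 F153822 (iv F153306)
theorem F161151 : act 2 n34810 = n33075 := d19_1 D34810 (iv D33075) (iv F153307)
theorem F161152 : act 4 n34810 = n33112 := d30_1 D34810 (iv D33112) F145008 (iv F144802) (iv F153308)
theorem F161153 : act 7 n34810 = n34810 := d36_2 F153309 D34810 (iv D34810)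
theorem F161154 : act 9 n34810 = n34695 := d38_2 (iv F153311) D34810 (iv D34695)
theorem F161155 : act 8 n34707 = n34810 := d33_0 F161152 F153535 D34707
def n34811 : Q := act 5 n33076
theorem D34811 : act 5 n33076 = n34811 := rfl
theorem F161156 : act 0 n34811 = n33742 := d4_1 D34811 F156832 (iv F153319)
theorem F161157 : act 1 n34811 = n33077 := d12_1 D34811 (iv D33077) (iv F153320)
theorem F161158 : act 2 n34811 = n33633 := d19_1 D34811 (iv D33633) (iv F153321)
theorem F161159 : act 3 n34811 = n33172 := d25_1 D34811 F153867 (iv F153322)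
theorem F161160 : act 6 n34811 = n33698 := d35_2 D33076 D34811 (iv D33698) (iv D31785) (iv F144817)
theorem F161161 : act 8 n34811 = n33160 := d37_2 (iv F153324) D34811 F153809 F145235 F144857
theorem F161162 : act 9 n34811 = n33736 := d38_2 (iv F153325) D34811 F156811
def n34812 : Q := act 7 n33076
theorem D34812 : act 7 n33076 = n34812 := rfl
theorem F161163 : act 0 n34812 = n33766 := d6_1 D34812 F156919 (iv F153319)
theorem F161164 : act 1 n34812 = n33078 := d14_1 D34812 (iv D33078) (iv F153320)
theorem F161165 : act 2 n34812 = n33632 := d21_1 D34812 F156350 (iv F153321)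
theorem F161166 : act 3 n34812 = n33215 := d27_1 D34812 F154152 (iv F153322)
theorem F161167 : act 4 n34812 = n33545 := d32_1 D34812 (iv D33545) (iv F153323)
theorem F161168 : act 6 n34812 = n33635 := d39_1 D34812 F156361 F147651 (iv F144818) D33076
theorem F161169 : act 8 n34812 = n33085 := d42_2 (iv F153324) D34812 (iv D33085)
theorem F161170 : act 9 n34812 = n33634 := d43_2 (iv F153325) D34812 F156358
def n34813 : Q := act 4 n33077
theorem D34813 : act 4 n33077 = n34813 := rfl
theorem F161171 : act 0 n34813 = n33094 := d3_1 D34813 (iv D33094) (iv F153326)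
theorem F161172 : act 2 n34813 = n33079 := d18_1 D34813 (iv D33079) (iv F153327)
theorem F161173 : act 5 n34813 = n33546 := d30_2 D33077 D34813 (iv D33546) (iv D31653) (iv F144824)
theorem F161174 : act 6 n34813 = n33700 := d31_2 (iv F153329) D34813 (iv D33700)
theorem F161175 : act 9 n34813 = n33973 := d34_2 (iv F153330) D34813 (iv D33973)
def n34814 : Q := act 7 n33077
theorem D34814 : act 7 n33077 = n34814 := rfl
theorem F161176 : act 0 n34814 = n33095 := d6_1 D34814 (iv D33095) (iv F153326)
theorem F161177 : act 2 n34814 = n33080 := d21_1 D34814 (iv D33080) (iv F153327)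
theorem F161178 : act 3 n34814 = n33763 := d27_1 D34814 F156909 (iv F153328)
theorem F161179 : act 5 n34814 = n33078 := d36_1 D34814 (iv D33078) D33077
theorem F161180 : act 9 n34814 = n33761 := d43_2 (iv F153330) D34814 F156899
def n34815 : Q := act 8 n33077
theorem D34815 : act 8 n33077 = n34815 := rfl
theorem F161181 : act 0 n34815 = n33096 := d7_1 D34815 (iv D33096) (iv F153326)
theorem F161182 : act 1 n34815 = n33160 := d15_1 D34815 (iv F161161) F161157
theorem F161183 : act 2 n34815 = n33081 := d22_1 D34815 (iv D33081) (iv F153327)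
theorem F161184 : act 3 n34815 = n33118 := d28_1 D34815 F153575 (iv F153328)
theorem F161185 : act 5 n34815 = n33087 := d37_1 D34815 (iv D33087) (iv D31217) (iv F144825) D33077
theorem F161186 : act 6 n34815 = n33702 := d40_1 D34815 (iv D33702) (iv F153329)
theorem F161187 : act 9 n34815 = n33109 := d44_2 (iv F153330) D34815 F153522 F147717 (iv F149523)
def n34816 : Q := act 7 n33079
theorem D34816 : act 7 n33079 = n34816 := rfl
theorem F161188 : act 0 n34816 = n33097 := d6_1 D34816 (iv D33097) (iv F153338)
theorem F161189 : act 1 n34816 = n34041 := d14_1 D34816 (iv D34041) (iv F153339)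
theorem F161190 : act 3 n34816 = n33663 := d27_1 D34816 (iv D33663) (iv F153340)
theorem F161191 : act 4 n34816 = n33080 := d32_1 D34816 (iv D33080) D33079
theorem F161192 : act 5 n34816 = n33549 := d36_1 D34816 (iv D33549) (iv F153341)
theorem F161193 : act 9 n34816 = n33999 := d43_2 (iv F153343) D34816 (iv D33999)
def n34817 : Q := act 8 n33079
theorem D34817 : act 8 n33079 = n34817 := rfl
theorem F161194 : act 0 n34817 = n33098 := d7_1 D34817 (iv D33098) (iv F153338)
theorem F161195 : act 1 n34817 = n34042 := d15_1 D34817 (iv D34042) (iv F153339)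
theorem F161196 : act 3 n34817 = n33664 := d28_1 D34817 (iv D33664) (iv F153340)
theorem F161197 : act 4 n34817 = n33081 := d33_1 D34817 (iv D33081) D33079
theorem F161198 : act 5 n34817 = n34324 := d37_1 D34817 (iv F159298) F155957 (iv D33550) (iv F153341)
theorem F161199 : act 6 n34817 = n33704 := d40_1 D34817 (iv D33704) (iv F153342)
def n34818 : Q := act 6 n33080
theorem D34818 : act 6 n33080 = n34818 := rfl
theorem F161200 : act 0 n34818 = n33099 := d5_1 D34818 (iv D33099) (iv F153344)
theorem F161201 : act 1 n34818 = n34043 := d13_1 D34818 (iv D34043) (iv F153345)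
theorem F161202 : act 3 n34818 = n33082 := d26_1 D34818 (iv D33082) (iv F153346)
theorem F161203 : act 5 n34818 = n34514 := d35_1 D34818 (iv D34514) F151666 (iv F144836) (iv F153347)
theorem F161204 : act 7 n34818 = n33705 := d39_2 D33080 D34818 (iv D33705) (iv D31789) (iv F144830)
theorem F161205 : act 9 n34818 = n34000 := d41_2 (iv F153348) D34818 (iv D34000)
def n34819 : Q := act 8 n33080
theorem D34819 : act 8 n33080 = n34819 := rfl
theorem F161206 : act 0 n34819 = n33100 := d7_1 D34819 (iv D33100) (iv F153344)
theorem F161207 : act 1 n34819 = n34044 := d15_1 D34819 (iv D34044) (iv F153345)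
theorem F161208 : act 3 n34819 = n33083 := d28_1 D34819 (iv D33083) (iv F153346)
theorem F161209 : act 5 n34819 = n33089 := d37_1 D34819 (iv D33089) F144875 (iv F144837) (iv F153347)
theorem F161210 : act 7 n34819 = n33081 := d42_1 D34819 (iv D33081) D33080
def n34820 : Q := act 9 n33081
theorem D34820 : act 9 n33081 = n34820 := rfl
theorem F161211 : act 0 n34820 = n33101 := d8_1 D34820 (iv D33101) (iv F153349)
theorem F161212 : act 1 n34820 = n34045 := d16_1 D34820 (iv D34045) (iv F153350)
theorem F161213 : act 2 n34820 = n33109 := d23_1 D34820 (iv F161187) F161183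
theorem F161214 : act 3 n34820 = n33084 := d29_1 D34820 (iv D33084) (iv F153351)
theorem F161215 : act 5 n34820 = n33090 := d38_1 D34820 (iv D33090) (iv F153352)
theorem F161216 : act 6 n34820 = n33707 := d41_1 D34820 (iv D33707) (iv F153353)
theorem F161217 : act 8 n34820 = n33640 := d44_1 D34820 F156391 F149542 (iv F144831) D33081
def n34821 : Q := act 8 n33082
theorem D34821 : act 8 n33082 = n34821 := rfl
theorem F161218 : act 0 n34821 = n33102 := d7_1 D34821 (iv D33102) (iv F153354)
theorem F161219 : act 1 n34821 = n34046 := d15_1 D34821 (iv D34046) (iv F153355)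
theorem F161220 : act 2 n34821 = n33779 := d22_1 D34821 (iv D33779) (iv F153356)
theorem F161221 : act 4 n34821 = n33667 := d33_1 D34821 (iv D33667) (iv F153357)
theorem F161222 : act 6 n34821 = n33083 := d40_1 D34821 (iv D33083) D33082
theorem F161223 : act 7 n34821 = n33708 := d42_1 D34821 (iv D33708) (iv F153359)
def n34822 : Q := act 9 n33083
theorem D34822 : act 9 n33083 = n34822 := rfl
theorem F161224 : act 0 n34822 = n33103 := d8_1 D34822 (iv D33103) (iv F153361)
theorem F161225 : act 1 n34822 = n34047 := d16_1 D34822 (iv D34047) (iv F153362)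
theorem F161226 : act 2 n34822 = n33431 := d23_1 D34822 F155327 (iv F153363)
theorem F161227 : act 4 n34822 = n33430 := d34_1 D34822 F155320 (iv F153364)
theorem F161228 : act 5 n34822 = n33092 := d38_1 D34822 (iv D33092) (iv F153365)
theorem F161229 : act 7 n34822 = n33084 := d43_1 D34822 (iv D33084) (iv F153366)
theorem F161230 : act 8 n34822 = n33861 := d44_1 D34822 (iv D33861) F148651 (iv F144844) D33083
def n34823 : Q := act 8 n33086
theorem D34823 : act 8 n33086 = n34823 := rfl
theorem F161231 : act 0 n34823 = n33106 := d7_1 D34823 (iv D33106) (iv F153382)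
theorem F161232 : act 1 n34823 = n33158 := d15_1 D34823 F153801 (iv F153383)
theorem F161233 : act 2 n34823 = n33089 := d22_1 D34823 (iv D33089) (iv F153384)
theorem F161234 : act 3 n34823 = n33116 := d28_1 D34823 F153561 (iv F153385)
theorem F161235 : act 4 n34823 = n33111 := d33_1 D34823 F153531 (iv F153386)
theorem F161236 : act 6 n34823 = n34210 := d40_1 D34823 (iv D34210) F153389
theorem F161237 : act 7 n34823 = n33087 := d42_1 D34823 (iv D33087) D33086
theorem F161238 : act 9 n34823 = n33108 := d44_2 (iv F153388) D34823 (iv D33108) F144987 (iv F145487)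
def n34824 : Q := act 8 n33088
theorem D34824 : act 8 n33088 = n34824 := rfl
theorem F161239 : act 0 n34824 = n33110 := d7_1 D34824 (iv D33110) (iv F153397)
theorem F161240 : act 1 n34824 = n34048 := d15_1 D34824 (iv D34048) (iv F153398)
theorem F161241 : act 2 n34824 = n34210 := d22_1 D34824 (iv D34210) (iv F153399)
theorem F161242 : act 3 n34824 = n33091 := d28_1 D34824 (iv D33091) (iv F153400)
theorem F161243 : act 4 n34824 = n34499 := d33_1 D34824 F159959 (iv F153401)
theorem F161244 : act 6 n34824 = n33089 := d40_1 D34824 (iv D33089) D33088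
theorem F161245 : act 7 n34824 = n34824 := d42_1 D34824 (iv D34824) F153403
def n34825 : Q := act 9 n33089
theorem D34825 : act 9 n33089 = n34825 := rfl
theorem F161246 : act 0 n34825 = n33111 := d8_1 D34825 (iv D33111) (iv F153405)
theorem F161247 : act 1 n34825 = n34049 := d16_1 D34825 (iv D34049) (iv F153406)
theorem F161248 : act 2 n34825 = n33108 := d23_1 D34825 (iv F161238) F161233
theorem F161249 : act 3 n34825 = n33092 := d29_1 D34825 (iv D33092) (iv F153407)
theorem F161250 : act 4 n34825 = n33106 := d34_1 D34825 F153506 (iv F153408)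
theorem F161251 : act 7 n34825 = n33090 := d43_1 D34825 (iv D33090) (iv F153409)
theorem F161252 : act 8 n34825 = n33104 := d44_1 D34825 F153494 (iv D31329) (iv F144876) D33089
def n34826 : Q := act 5 n33091
theorem D34826 : act 5 n33091 = n34826 := rfl
theorem F161253 : act 0 n34826 = n33112 := d4_1 D34826 (iv D33112) (iv F153417)
theorem F161254 : act 1 n34826 = n34050 := d12_1 D34826 (iv D34050) (iv F153418)
theorem F161255 : act 2 n34826 = n34033 := d19_1 D34826 (iv D34033) (iv F153419)
theorem F161256 : act 4 n34826 = n34039 := d30_1 D34826 (iv D34039) F149829 F144915 (iv F153420)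
theorem F161257 : act 7 n34826 = n34826 := d36_2 F153422 D34826 (iv D34826)
theorem F161258 : act 8 n34826 = n34196 := d37_2 D33091 D34826 F158777 F150301 (iv F144886)
def n34827 : Q := act 9 n33091
theorem D34827 : act 9 n33091 = n34827 := rfl
theorem F161259 : act 0 n34827 = n33113 := d8_1 D34827 (iv D33113) (iv F153417)
theorem F161260 : act 1 n34827 = n34051 := d16_1 D34827 (iv D34051) (iv F153418)
theorem F161261 : act 2 n34827 = n33495 := d23_1 D34827 F155634 (iv F153419)
theorem F161262 : act 4 n34827 = n33093 := d34_1 D34827 (iv D33093) (iv F153420)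
theorem F161263 : act 6 n34827 = n33092 := d41_1 D34827 (iv D33092) (iv F153421)
theorem F161264 : act 7 n34827 = n34827 := d43_1 D34827 (iv D34827) F153422
theorem F161265 : act 8 n34827 = n33206 := d44_1 D34827 (iv D33206) (iv D31330) (iv F144888) D33091
def n34828 : Q := act 3 n33094
theorem D34828 : act 3 n33094 = n34828 := rfl
theorem F161266 : act 1 n34828 = n34637 := d10_1 D34828 F160382 (iv F153437)
theorem F161267 : act 2 n34828 = n34227 := d17_1 D34828 F158917 F151685 (iv F144936) (iv F153438)
theorem F161268 : act 4 n34828 = n34225 := d24_2 D33094 D34828 F158908 F151330 (iv F144925)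
theorem F161269 : act 5 n34828 = n33617 := d25_2 (iv F153439) D34828 (iv D33617)
theorem F161270 : act 6 n34828 = n34261 := d26_2 (iv F153440) D34828 F159070
theorem F161271 : act 9 n34828 = n34521 := d29_2 (iv F153441) D34828 (iv D34521)
theorem F161272 : act 8 n34223 = n34828 := d44_5 F161271 F160051 F159305 (iv D34326) (iv F158901)
def n34829 : Q := act 7 n33094
theorem D34829 : act 7 n33094 = n34829 := rfl
theorem F161273 : act 1 n34829 = n34641 := d14_1 D34829 F160393 (iv F153437)
theorem F161274 : act 2 n34829 = n33097 := d21_1 D34829 (iv D33097) (iv F153438)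
theorem F161275 : act 4 n34829 = n33095 := d32_1 D34829 (iv D33095) D33094
theorem F161276 : act 5 n34829 = n33618 := d36_1 D34829 (iv D33618) (iv F153439)
theorem F161277 : act 9 n34829 = n34522 := d43_2 (iv F153441) D34829 (iv D34522)
def n34830 : Q := act 8 n33094
theorem D34830 : act 8 n33094 = n34830 := rfl
theorem F161278 : act 1 n34830 = n34619 := d15_1 D34830 F160340 (iv F153437)
theorem F161279 : act 2 n34830 = n33098 := d22_1 D34830 (iv D33098) (iv F153438)
theorem F161280 : act 3 n34830 = n34223 := d28_1 D34830 F161272 (iv D34828)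
theorem F161281 : act 4 n34830 = n33096 := d33_1 D34830 (iv D33096) D33094
theorem F161282 : act 6 n34830 = n34259 := d40_1 D34830 (iv F159066) (iv F153440)
theorem F161283 : act 9 n34830 = n34324 := d44_2 (iv F153441) D34830 (iv F159298) F151961 (iv F151703)
def n34831 : Q := act 6 n33095
theorem D34831 : act 6 n33095 = n34831 := rfl
theorem F161284 : act 1 n34831 = n34643 := d13_1 D34831 F160398 (iv F153442)
theorem F161285 : act 2 n34831 = n33099 := d20_1 D34831 (iv D33099) (iv F153443)
theorem F161286 : act 3 n34831 = n34613 := d26_1 D34831 F160320 (iv F153444)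
theorem F161287 : act 5 n34831 = n34532 := d35_1 D34831 (iv D34532) F151744 (iv F144932) (iv F153445)
theorem F161288 : act 7 n34831 = n34604 := d39_2 D33095 D34831 (iv D34604) (iv D32748) (iv F144926)
theorem F161289 : act 9 n34831 = n34523 := d41_2 (iv F153446) D34831 (iv D34523)
def n34832 : Q := act 8 n33095
theorem D34832 : act 8 n33095 = n34832 := rfl
theorem F161290 : act 1 n34832 = n34621 := d15_1 D34832 F160348 (iv F153442)
theorem F161291 : act 2 n34832 = n33100 := d22_1 D34832 (iv D33100) (iv F153443)
theorem F161292 : act 3 n34832 = n34451 := d28_1 D34832 F159766 (iv F153444)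
theorem F161293 : act 5 n34832 = n33106 := d37_1 D34832 (iv D33106) F144975 (iv F144933) (iv F153445)
theorem F161294 : act 7 n34832 = n33096 := d42_1 D34832 (iv D33096) D33095
theorem F161295 : act 9 n34832 = n34458 := d44_2 (iv F153446) D34832 F159803 F151965 (iv F151708)
def n34833 : Q := act 6 n33097
theorem D34833 : act 6 n33097 = n34833 := rfl
theorem F161296 : act 1 n34833 = n33143 := d13_1 D34833 (iv D33143) (iv F153453)
theorem F161297 : act 3 n34833 = n34567 := d26_1 D34833 (iv D34567) (iv F153454)
theorem F161298 : act 4 n34833 = n33099 := d31_1 D34833 (iv D33099) (iv F153455)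
theorem F161299 : act 7 n34833 = n34606 := d39_2 D33097 D34833 (iv D34606) (iv D32750) (iv F144938)
theorem F161300 : act 9 n34833 = n34524 := d41_2 (iv F153457) D34833 (iv D34524)
def n34834 : Q := act 8 n33097
theorem D34834 : act 8 n33097 = n34834 := rfl
theorem F161301 : act 1 n34834 = n33144 := d15_1 D34834 (iv D33144) (iv F153453)
theorem F161302 : act 3 n34834 = n34516 := d28_1 D34834 F160031 (iv F153454)
theorem F161303 : act 4 n34834 = n33100 := d33_1 D34834 (iv D33100) (iv F153455)
theorem F161304 : act 7 n34834 = n33098 := d42_1 D34834 (iv D33098) D33097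
def n34835 : Q := act 5 n33098
theorem D34835 : act 5 n33098 = n34835 := rfl
theorem F161305 : act 0 n34835 = n34324 := d4_1 D34835 (iv F161198) F161194
theorem F161306 : act 1 n34835 = n33145 := d12_1 D34835 (iv D33145) (iv F153458)
theorem F161307 : act 3 n34835 = n33320 := d25_1 D34835 F154779 (iv F153459)
theorem F161308 : act 4 n34835 = n33109 := d30_1 D34835 (iv D33109) F144991 (iv F144946) (iv F153460)
theorem F161309 : act 8 n34835 = n33625 := d37_2 D33098 D34835 (iv D33625) (iv D31717) (iv F144937)
def n34836 : Q := act 9 n33098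
theorem D34836 : act 9 n33098 = n34836 := rfl
theorem F161310 : act 1 n34836 = n33146 := d16_1 D34836 (iv D33146) (iv F153458)
theorem F161311 : act 2 n34836 = n34324 := d23_1 D34836 (iv F161283) F161279
theorem F161312 : act 3 n34836 = n34315 := d29_1 D34836 F159262 (iv F153459)
theorem F161313 : act 4 n34836 = n33101 := d34_1 D34836 (iv D33101) (iv F153460)
theorem F161314 : act 6 n34836 = n34530 := d41_1 D34836 F160085 (iv F153461)
theorem F161315 : act 8 n34836 = n34526 := d44_1 D34836 (iv D34526) (iv D32675) (iv F144939) D33098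
def n34837 : Q := act 8 n33099
theorem D34837 : act 8 n33099 = n34837 := rfl
theorem F161316 : act 1 n34837 = n33147 := d15_1 D34837 (iv D33147) (iv F153462)
theorem F161317 : act 3 n34837 = n33102 := d28_1 D34837 (iv D33102) (iv F153463)
theorem F161318 : act 6 n34837 = n33100 := d40_1 D34837 (iv D33100) D33099
theorem F161319 : act 7 n34837 = n34607 := d42_1 D34837 (iv D34607) (iv F153465)
def n34838 : Q := act 9 n33100
theorem D34838 : act 9 n33100 = n34838 := rfl
theorem F161320 : act 1 n34838 = n33148 := d16_1 D34838 (iv D33148) (iv F153467)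
theorem F161321 : act 2 n34838 = n34458 := d23_1 D34838 (iv F161295) F161291
theorem F161322 : act 3 n34838 = n33103 := d29_1 D34838 (iv D33103) (iv F153468)
theorem F161323 : act 5 n34838 = n33111 := d38_1 D34838 (iv D33111) (iv F153469)
theorem F161324 : act 7 n34838 = n33101 := d43_1 D34838 (iv D33101) (iv F153470)
theorem F161325 : act 8 n34838 = n34528 := d44_1 D34838 (iv D34528) (iv D32677) (iv F144943) D33100
def n34839 : Q := act 5 n33102
theorem D34839 : act 5 n33102 = n34839 := rfl
theorem F161326 : act 1 n34839 = n33149 := d12_1 D34839 (iv D33149) (iv F153477)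
theorem F161327 : act 2 n34839 = n34654 := d19_1 D34839 (iv D34654) (iv F153478)
theorem F161328 : act 6 n34839 = n33112 := d35_2 (iv F153480) D34839 (iv D33112) F145009 (iv F144957)
theorem F161329 : act 7 n34839 = n34609 := d36_2 (iv F153481) D34839 (iv D34609)
theorem F161330 : act 8 n34839 = n34537 := d37_2 D33102 D34839 (iv D34537) (iv D32688) (iv F144951)
def n34840 : Q := act 9 n33102
theorem D34840 : act 9 n33102 = n34840 := rfl
theorem F161331 : act 1 n34840 = n33150 := d16_1 D34840 (iv D33150) (iv F153477)
theorem F161332 : act 2 n34840 = n34448 := d23_1 D34840 F159751 (iv F153478)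
theorem F161333 : act 4 n34840 = n34447 := d34_1 D34840 F159745 (iv F153479)
theorem F161334 : act 6 n34840 = n33103 := d41_1 D34840 (iv D33103) (iv F153480)
theorem F161335 : act 7 n34840 = n34610 := d43_1 D34840 (iv D34610) (iv F153481)
theorem F161336 : act 8 n34840 = n34529 := d44_1 D34840 (iv D34529) (iv D32679) (iv F144953) D33102
def n34841 : Q := act 6 n33104
theorem D34841 : act 6 n33104 = n34841 := rfl
theorem F161337 : act 0 n34841 = n33209 := d5_1 D34841 F154107 (iv F153488)
theorem F161338 : act 1 n34841 = n34206 := d13_1 D34841 F158822 (iv F153489)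
theorem F161339 : act 2 n34841 = n33107 := d20_1 D34841 (iv D33107) (iv F153490)
theorem F161340 : act 3 n34841 = n33206 := d26_1 D34841 F154084 (iv F153491)
theorem F161341 : act 4 n34841 = n33105 := d31_1 D34841 (iv D33105) (iv F153492)
theorem F161342 : act 5 n34841 = n33909 := d35_1 D34841 F157653 F149044 (iv F147690) (iv F153493)
theorem F161343 : act 7 n34841 = n34841 := d39_2 D33104 D34841 (iv D34841) (iv D33104) F144970
theorem F161344 : act 9 n34841 = n33205 := d41_2 (iv F153494) D34841 F154077
def n34842 : Q := act 8 n33105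
theorem D34842 : act 8 n33105 = n34842 := rfl
theorem F161345 : act 0 n34842 = n34210 := d7_1 D34842 (iv D34210) (iv F153495)
theorem F161346 : act 1 n34842 = n34709 := d15_1 D34842 F160616 (iv F153496)
theorem F161347 : act 2 n34842 = n33110 := d22_1 D34842 (iv D33110) (iv F153497)
theorem F161348 : act 3 n34842 = n33214 := d28_1 D34842 (iv D33214) (iv F153498)
theorem F161349 : act 6 n34842 = n33106 := d40_1 D34842 (iv D33106) D33105
theorem F161350 : act 7 n34842 = n34842 := d42_1 D34842 (iv D34842) F153500
theorem F161351 : act 9 n34842 = n34499 := d44_2 (iv F153501) D34842 F159959 F152358 (iv F145549)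
def n34843 : Q := act 8 n33107
theorem D34843 : act 8 n33107 = n34843 := rfl
theorem F161352 : act 0 n34843 = n34499 := d7_1 D34843 F159959 (iv F153507)
theorem F161353 : act 1 n34843 = n33156 := d15_1 D34843 (iv D33156) (iv F153508)
theorem F161354 : act 3 n34843 = n33114 := d28_1 D34843 (iv D33114) (iv F153509)
theorem F161355 : act 4 n34843 = n33110 := d33_1 D34843 (iv D33110) (iv F153510)
theorem F161356 : act 6 n34843 = n33108 := d40_1 D34843 (iv D33108) D33107
theorem F161357 : act 7 n34843 = n34843 := d42_1 D34843 (iv D34843) F153512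
theorem F161358 : act 9 n34843 = n34210 := d44_2 (iv F153513) D34843 (iv D34210) (iv D32345) (iv F145556)
def n34844 : Q := act 5 n33108
theorem D34844 : act 5 n33108 = n34844 := rfl
theorem F161359 : act 0 n34844 = n34458 := d4_1 D34844 F159802 (iv F153514)
theorem F161360 : act 1 n34844 = n33157 := d12_1 D34844 (iv D33157) (iv F153515)
theorem F161361 : act 3 n34844 = n33115 := d25_1 D34844 (iv D33115) (iv F153516)
theorem F161362 : act 7 n34844 = n33109 := d36_2 (iv F153518) D34844 (iv D33109)
theorem F161363 : act 8 n34844 = n33642 := d37_2 D33108 D34844 (iv D33642) (iv D31738) (iv F144986)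
def n34845 : Q := act 6 n33109
theorem D34845 : act 6 n33109 = n34845 := rfl
theorem F161364 : act 0 n34845 = n34416 := d5_1 D34845 F159589 (iv F153519)
theorem F161365 : act 1 n34845 = n33159 := d13_1 D34845 (iv D33159) (iv F153520)
theorem F161366 : act 2 n34845 = n33707 := d20_1 D34845 (iv F161216) F161213
theorem F161367 : act 3 n34845 = n33117 := d26_1 D34845 (iv D33117) (iv F153521)
theorem F161368 : act 5 n34845 = n34845 := d35_1 D34845 (iv D34845) (iv D33109) F144992 D33109
theorem F161369 : act 8 n34845 = n33643 := d40_2 (iv F153522) D34845 (iv D33643)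
theorem F161370 : act 9 n34845 = n33702 := d41_2 F161187 D34845 (iv F161186)
def n34846 : Q := act 5 n33110
theorem D34846 : act 5 n33110 = n34846 := rfl
theorem F161371 : act 1 n34846 = n33161 := d12_1 D34846 (iv D33161) (iv F153523)
theorem F161372 : act 3 n34846 = n33112 := d25_1 D34846 (iv D33112) (iv F153524)
theorem F161373 : act 7 n34846 = n34846 := d36_2 F153526 D34846 (iv D34846)
theorem F161374 : act 8 n34846 = n34706 := d37_2 D33110 D34846 (iv D34706) (iv D32881) (iv F144995)
def n34847 : Q := act 9 n33110
theorem D34847 : act 9 n33110 = n34847 := rfl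
theorem F161375 : act 1 n34847 = n33162 := d16_1 D34847 (iv D33162) (iv F153523)
theorem F161376 : act 2 n34847 = n34499 := d23_1 D34847 (iv F161351) F161347
theorem F161377 : act 3 n34847 = n33113 := d29_1 D34847 (iv D33113) (iv F153524)
theorem F161378 : act 4 n34847 = n34210 := d34_1 D34847 (iv F161358) F161355
theorem F161379 : act 6 n34847 = n33111 := d41_1 D34847 (iv D33111) (iv F153525)
theorem F161380 : act 7 n34847 = n34847 := d43_1 D34847 (iv D34847) F153526
theorem F161381 : act 8 n34847 = n33209 := d44_1 D34847 (iv D33209) (iv D31338) (iv F144997) D33110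
def n34848 : Q := act 9 n33112
theorem D34848 : act 9 n33112 = n34848 := rfl
theorem F161382 : act 1 n34848 = n33164 := d16_1 D34848 (iv D33164) (iv F153532)
theorem F161383 : act 2 n34848 = n34498 := d23_1 D34848 F159955 (iv F153533)
theorem F161384 : act 4 n34848 = n34695 := d34_1 D34848 (iv F161154) F161152
theorem F161385 : act 5 n34848 = n33113 := d38_1 D34848 (iv D33113) D33112
theorem F161386 : act 7 n34848 = n34848 := d43_1 D34848 (iv D34848) F153534
theorem F161387 : act 8 n34848 = n34720 := d44_1 D34848 (iv D34720) (iv F154017) F154018 (iv F153535)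
def n34849 : Q := act 5 n33114
theorem D34849 : act 5 n33114 = n34849 := rfl
theorem F161388 : act 0 n34849 = n34500 := d4_1 D34849 (iv D34500) (iv F153542)
theorem F161389 : act 1 n34849 = n33166 := d12_1 D34849 (iv D33166) (iv F153543)
theorem F161390 : act 2 n34849 = n33496 := d19_1 D34849 (iv D33496) (iv F153544)
theorem F161391 : act 4 n34849 = n33515 := d30_1 D34849 (iv D33515) F147172 F145054 (iv F153545)
theorem F161392 : act 7 n34849 = n34849 := d36_2 F153547 D34849 (iv D34849)
theorem F161393 : act 8 n34849 = n33908 := d37_2 D33114 D34849 F157646 F149031 (iv F145029)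
theorem F161394 : act 9 n34849 = n34154 := d38_2 (iv F153548) D34849 F158643
def n34850 : Q := act 6 n33115
theorem D34850 : act 6 n33115 = n34850 := rfl
theorem F161395 : act 0 n34850 = n34459 := d5_1 D34850 (iv D34459) (iv F153549)
theorem F161396 : act 1 n34850 = n33168 := d13_1 D34850 (iv D33168) (iv F153550)
theorem F161397 : act 2 n34850 = n33441 := d20_1 D34850 (iv D33441) (iv F153551)
theorem F161398 : act 4 n34850 = n33440 := d31_1 D34850 (iv D33440) (iv F153552)
theorem F161399 : act 8 n34850 = n33645 := d40_2 (iv F153554) D34850 (iv D33645)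
def n34851 : Q := act 9 n33115
theorem D34851 : act 9 n33115 = n34851 := rfl
theorem F161400 : act 0 n34851 = n34451 := d8_1 D34851 F159767 (iv F153549)
theorem F161401 : act 1 n34851 = n33169 := d16_1 D34851 (iv D33169) (iv F153550)
theorem F161402 : act 2 n34851 = n33436 := d23_1 D34851 F155358 (iv F153551)
theorem F161403 : act 4 n34851 = n33434 := d34_1 D34851 F155345 (iv F153552)
theorem F161404 : act 5 n34851 = n33116 := d38_1 D34851 (iv D33116) D33115
theorem F161405 : act 7 n34851 = n33118 := d43_1 D34851 (iv D33118) (iv F153553)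
theorem F161406 : act 8 n34851 = n33763 := d44_1 D34851 (iv D33763) F148121 (iv F147741) (iv F153554)
def n34852 : Q := act 7 n33117
theorem D34852 : act 7 n33117 = n34852 := rfl
theorem F161407 : act 0 n34852 = n34417 := d6_1 D34852 (iv D34417) (iv F153562)
theorem F161408 : act 1 n34852 = n33170 := d14_1 D34852 (iv D33170) (iv F153563)
theorem F161409 : act 2 n34852 = n33396 := d21_1 D34852 (iv D33396) (iv F153564)
theorem F161410 : act 4 n34852 = n33395 := d32_1 D34852 (iv D33395) (iv F153565)
theorem F161411 : act 5 n34852 = n34852 := d36_1 D34852 (iv D34852) F153566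
theorem F161412 : act 8 n34852 = n33646 := d42_2 (iv F153567) D34852 (iv D33646)
theorem F161413 : act 9 n34852 = n33818 := d43_2 F153568 D34852 F157181
def n34853 : Q := act 4 n33120
theorem D34853 : act 4 n33120 = n34853 := rfl
theorem F161414 : act 0 n34853 = n34087 := d3_1 D34853 (iv D34087) (iv F153585)
theorem F161415 : act 1 n34853 = n34599 := d11_1 D34853 F160278 (iv F153586)
theorem F161416 : act 2 n34853 = n33122 := d18_1 D34853 (iv D33122) (iv F153587)
theorem F161417 : act 5 n34853 = n33128 := d30_2 D33120 D34853 (iv D33128) (iv D31258) (iv F145072)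
theorem F161418 : act 6 n34853 = n33650 := d31_2 (iv F153589) D34853 (iv D33650)
theorem F161419 : act 9 n34853 = n33239 := d34_2 (iv F153590) D34853 (iv D33239)
def n34854 : Q := act 7 n33120
theorem D34854 : act 7 n33120 = n34854 := rfl
theorem F161420 : act 0 n34854 = n34088 := d6_1 D34854 (iv D34088) (iv F153585)
theorem F161421 : act 1 n34854 = n34733 := d14_1 D34854 F160683 (iv F153586)
theorem F161422 : act 2 n34854 = n33123 := d21_1 D34854 (iv D33123) (iv F153587)
theorem F161423 : act 3 n34854 = n34854 := d27_1 D34854 (iv D34854) F153588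
theorem F161424 : act 5 n34854 = n33121 := d36_1 D34854 (iv D33121) D33120
theorem F161425 : act 9 n34854 = n33240 := d43_2 (iv F153590) D34854 (iv D33240)
def n34855 : Q := act 8 n33120
theorem D34855 : act 8 n33120 = n34855 := rfl
theorem F161426 : act 0 n34855 = n34089 := d7_1 D34855 (iv D34089) (iv F153585)
theorem F161427 : act 1 n34855 = n34735 := d15_1 D34855 (iv D34735) (iv F153586)
theorem F161428 : act 2 n34855 = n33124 := d22_1 D34855 (iv D33124) (iv F153587)
theorem F161429 : act 3 n34855 = n34855 := d28_1 D34855 (iv D34855) F153588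
theorem F161430 : act 5 n34855 = n34855 := d37_1 D34855 (iv D34855) (iv D33120) F145073 D33120
theorem F161431 : act 6 n34855 = n33652 := d40_1 D34855 (iv D33652) (iv F153589)
def n34856 : Q := act 7 n33122
theorem D34856 : act 7 n33122 = n34856 := rfl
theorem F161432 : act 0 n34856 = n34090 := d6_1 D34856 (iv D34090) (iv F153599)
theorem F161433 : act 1 n34856 = n33335 := d14_1 D34856 (iv D33335) (iv F153600)
theorem F161434 : act 3 n34856 = n33605 := d27_1 D34856 (iv D33605) (iv F153601)
theorem F161435 : act 4 n34856 = n33123 := d32_1 D34856 (iv D33123) D33122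
theorem F161436 : act 5 n34856 = n33131 := d36_1 D34856 (iv D33131) (iv F153602)
theorem F161437 : act 9 n34856 = n33242 := d43_2 (iv F153604) D34856 (iv D33242)
def n34857 : Q := act 8 n33122
theorem D34857 : act 8 n33122 = n34857 := rfl
theorem F161438 : act 0 n34857 = n34091 := d7_1 D34857 (iv D34091) (iv F153599)
theorem F161439 : act 1 n34857 = n33336 := d15_1 D34857 (iv D33336) (iv F153600)
theorem F161440 : act 3 n34857 = n33606 := d28_1 D34857 (iv D33606) (iv F153601)
theorem F161441 : act 4 n34857 = n33124 := d33_1 D34857 (iv D33124) D33122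
theorem F161442 : act 6 n34857 = n33654 := d40_1 D34857 (iv D33654) (iv F153603)
def n34858 : Q := act 6 n33123
theorem D34858 : act 6 n33123 = n34858 := rfl
theorem F161443 : act 0 n34858 = n34092 := d5_1 D34858 (iv D34092) (iv F153605)
theorem F161444 : act 1 n34858 = n33337 := d13_1 D34858 (iv D33337) (iv F153606)
theorem F161445 : act 3 n34858 = n33125 := d26_1 D34858 (iv D33125) (iv F153607)
theorem F161446 : act 5 n34858 = n34548 := d35_1 D34858 (iv D34548) F151796 (iv F145084) (iv F153608)
theorem F161447 : act 7 n34858 = n33655 := d39_2 D33123 D34858 (iv D33655) (iv D31750) (iv F145078)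
theorem F161448 : act 9 n34858 = n33244 := d41_2 (iv F153609) D34858 (iv D33244)
def n34859 : Q := act 8 n33123
theorem D34859 : act 8 n33123 = n34859 := rfl
theorem F161449 : act 0 n34859 = n34093 := d7_1 D34859 (iv D34093) (iv F153605)
theorem F161450 : act 1 n34859 = n33338 := d15_1 D34859 (iv D33338) (iv F153606)
theorem F161451 : act 3 n34859 = n33126 := d28_1 D34859 (iv D33126) (iv F153607)
theorem F161452 : act 5 n34859 = n34859 := d37_1 D34859 (iv D34859) F153608 F145085 (iv F153608)
theorem F161453 : act 7 n34859 = n33124 := d42_1 D34859 (iv D33124) D33123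
def n34860 : Q := act 9 n33124
theorem D34860 : act 9 n33124 = n34860 := rfl
theorem F161454 : act 0 n34860 = n34094 := d8_1 D34860 (iv D34094) (iv F153610)
theorem F161455 : act 1 n34860 = n33339 := d16_1 D34860 (iv D33339) (iv F153611)
theorem F161456 : act 3 n34860 = n33127 := d29_1 D34860 (iv D33127) (iv F153612)
theorem F161457 : act 5 n34860 = n34860 := d38_1 D34860 (iv D34860) F153613
theorem F161458 : act 6 n34860 = n33657 := d41_1 D34860 (iv D33657) (iv F153614)
theorem F161459 : act 8 n34860 = n33246 := d44_1 D34860 (iv D33246) (iv D31386) (iv F145079) D33124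
def n34861 : Q := act 8 n33125
theorem D34861 : act 8 n33125 = n34861 := rfl
theorem F161460 : act 0 n34861 = n34095 := d7_1 D34861 (iv D34095) (iv F153615)
theorem F161461 : act 1 n34861 = n33340 := d15_1 D34861 (iv D33340) (iv F153616)
theorem F161462 : act 2 n34861 = n34861 := d22_1 D34861 (iv D34861) F153617
theorem F161463 : act 4 n34861 = n33610 := d33_1 D34861 (iv D33610) (iv F153618)
theorem F161464 : act 6 n34861 = n33126 := d40_1 D34861 (iv D33126) D33125
theorem F161465 : act 7 n34861 = n33658 := d42_1 D34861 (iv D33658) (iv F153620)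
def n34862 : Q := act 9 n33126
theorem D34862 : act 9 n33126 = n34862 := rfl
theorem F161466 : act 0 n34862 = n34096 := d8_1 D34862 (iv D34096) (iv F153622)
theorem F161467 : act 1 n34862 = n33341 := d16_1 D34862 (iv D33341) (iv F153623)
theorem F161468 : act 2 n34862 = n34862 := d23_1 D34862 (iv D34862) F153624
theorem F161469 : act 4 n34862 = n33611 := d34_1 D34862 (iv D33611) (iv F153625)
theorem F161470 : act 5 n34862 = n34862 := d38_1 D34862 (iv D34862) F153626
theorem F161471 : act 7 n34862 = n33127 := d43_1 D34862 (iv D33127) (iv F153627)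
theorem F161472 : act 8 n34862 = n33248 := d44_1 D34862 (iv D33248) (iv D31388) (iv F145092) D33126
def n34863 : Q := act 3 n33128
theorem D34863 : act 3 n33128 = n34863 := rfl
theorem F161473 : act 0 n34863 = n34100 := d2_1 D34863 (iv D34100) (iv F153635)
theorem F161474 : act 1 n34863 = n34310 := d10_1 D34863 F159244 (iv F153636)
theorem F161475 : act 2 n34863 = n34521 := d17_1 D34863 (iv D34521) F151702 (iv F145114) (iv F153637)
theorem F161476 : act 4 n34863 = n33178 := d24_2 D33128 D34863 (iv D33178) (iv D31298) (iv F145102)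
theorem F161477 : act 6 n34863 = n33138 := d26_2 (iv F153638) D34863 (iv D33138)
theorem F161478 : act 9 n34863 = n34227 := d29_2 (iv F153639) D34863 F158917
theorem F161479 : act 8 n34332 = n34863 := d44_5 F161478 (iv D34227) F150529 D32458 D34332
def n34864 : Q := act 7 n33128
theorem D34864 : act 7 n33128 = n34864 := rfl
theorem F161480 : act 0 n34864 = n34101 := d6_1 D34864 (iv D34101) (iv F153635)
theorem F161481 : act 1 n34864 = n34597 := d14_1 D34864 F160275 (iv F153636)
theorem F161482 : act 2 n34864 = n33131 := d21_1 D34864 (iv D33131) (iv F153637)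
theorem F161483 : act 4 n34864 = n33129 := d32_1 D34864 (iv D33129) D33128
theorem F161484 : act 9 n34864 = n34519 := d43_2 (iv F153639) D34864 F160042
def n34865 : Q := act 8 n33128
theorem D34865 : act 8 n33128 = n34865 := rfl
theorem F161485 : act 0 n34865 = n34102 := d7_1 D34865 (iv D34102) (iv F153635)
theorem F161486 : act 1 n34865 = n34579 := d15_1 D34865 F160220 (iv F153636)
theorem F161487 : act 2 n34865 = n33132 := d22_1 D34865 (iv D33132) (iv F153637)
theorem F161488 : act 3 n34865 = n34332 := d28_1 D34865 F161479 (iv D34863)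
theorem F161489 : act 4 n34865 = n33130 := d33_1 D34865 (iv D33130) D33128
theorem F161490 : act 6 n34865 = n33140 := d40_1 D34865 (iv D33140) (iv F153638)
theorem F161491 : act 9 n34865 = n34318 := d44_2 (iv F153639) D34865 (iv D34318) F150845 D32668
def n34866 : Q := act 6 n33129
theorem D34866 : act 6 n33129 = n34866 := rfl
theorem F161492 : act 0 n34866 = n34103 := d5_1 D34866 (iv D34103) (iv F153640)
theorem F161493 : act 1 n34866 = n34600 := d13_1 D34866 F160281 (iv F153641)
theorem F161494 : act 2 n34866 = n33133 := d20_1 D34866 (iv D33133) (iv F153642)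
theorem F161495 : act 3 n34866 = n33180 := d26_1 D34866 (iv D33180) (iv F153643)
theorem F161496 : act 5 n34866 = n34573 := d35_1 D34866 (iv D34573) F151855 (iv F145109) (iv F153644)
theorem F161497 : act 7 n34866 = n33141 := d39_2 D33129 D34866 (iv D33141) (iv D31267) (iv F145103)
theorem F161498 : act 9 n34866 = n34520 := d41_2 (iv F153645) D34866 F160046
def n34867 : Q := act 8 n33129
theorem D34867 : act 8 n33129 = n34867 := rfl
theorem F161499 : act 0 n34867 = n34104 := d7_1 D34867 (iv D34104) (iv F153640)
theorem F161500 : act 1 n34867 = n34581 := d15_1 D34867 F160227 (iv F153641)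
theorem F161501 : act 2 n34867 = n33134 := d22_1 D34867 (iv D33134) (iv F153642)
theorem F161502 : act 3 n34867 = n33181 := d28_1 D34867 (iv D33181) (iv F153643)
theorem F161503 : act 5 n34867 = n34867 := d37_1 D34867 (iv D34867) F153644 F145110 (iv F153644)
theorem F161504 : act 7 n34867 = n33130 := d42_1 D34867 (iv D33130) D33129
theorem F161505 : act 9 n34867 = n34320 := d44_2 (iv F153645) D34867 (iv D34320) F150849 D32670
def n34868 : Q := act 6 n33131
theorem D34868 : act 6 n33131 = n34868 := rfl
theorem F161506 : act 0 n34868 = n34105 := d5_1 D34868 (iv D34105) (iv F153653)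
theorem F161507 : act 1 n34868 = n34606 := d13_1 D34868 (iv D34606) (iv F153654)
theorem F161508 : act 3 n34868 = n34524 := d26_1 D34868 (iv D34524) (iv F153655)
theorem F161509 : act 4 n34868 = n33133 := d31_1 D34868 (iv D33133) (iv F153656)
theorem F161510 : act 7 n34868 = n33143 := d39_2 D33131 D34868 (iv D33143) (iv D31269) (iv F145115)
theorem F161511 : act 9 n34868 = n34567 := d41_2 (iv F153657) D34868 (iv D34567)
def n34869 : Q := act 8 n33131
theorem D34869 : act 8 n33131 = n34869 := rfl
theorem F161512 : act 0 n34869 = n34106 := d7_1 D34869 (iv D34106) (iv F153653)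
theorem F161513 : act 1 n34869 = n34538 := d15_1 D34869 F160108 (iv F153654)
theorem F161514 : act 3 n34869 = n34525 := d28_1 D34869 (iv D34525) (iv F153655)
theorem F161515 : act 4 n34869 = n33134 := d33_1 D34869 (iv D33134) (iv F153656)
theorem F161516 : act 7 n34869 = n33132 := d42_1 D34869 (iv D33132) D33131
def n34870 : Q := act 5 n33132
theorem D34870 : act 5 n33132 = n34870 := rfl
theorem F161517 : act 0 n34870 = n34107 := d4_1 D34870 (iv D34107) (iv F153658)
theorem F161518 : act 1 n34870 = n34066 := d12_1 D34870 F158365 (iv F153659)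
theorem F161519 : act 3 n34870 = n34064 := d25_1 D34870 F158359 (iv F153660)
theorem F161520 : act 4 n34870 = n34870 := d30_1 D34870 (iv D34870) F153661 F145125 (iv F153661)
def n34871 : Q := act 9 n33132
theorem D34871 : act 9 n33132 = n34871 := rfl
theorem F161521 : act 0 n34871 = n34108 := d8_1 D34871 (iv D34108) (iv F153658)
theorem F161522 : act 1 n34871 = n34530 := d16_1 D34871 F160085 (iv F153659)
theorem F161523 : act 2 n34871 = n34318 := d23_1 D34871 (iv F161491) F161487
theorem F161524 : act 3 n34871 = n34526 := d29_1 D34871 (iv D34526) (iv F153660)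
theorem F161525 : act 4 n34871 = n33135 := d34_1 D34871 (iv D33135) (iv F153661)
theorem F161526 : act 6 n34871 = n33146 := d41_1 D34871 (iv D33146) (iv F153662)
theorem F161527 : act 8 n34871 = n34315 := d44_1 D34871 F159262 F151677 (iv F145116) D33132
def n34872 : Q := act 8 n33133
theorem D34872 : act 8 n33133 = n34872 := rfl
theorem F161528 : act 0 n34872 = n34109 := d7_1 D34872 (iv D34109) (iv F153663)
theorem F161529 : act 1 n34872 = n34607 := d15_1 D34872 (iv D34607) (iv F153664)
theorem F161530 : act 3 n34872 = n33136 := d28_1 D34872 (iv D33136) (iv F153665)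
theorem F161531 : act 6 n34872 = n33134 := d40_1 D34872 (iv D33134) D33133
theorem F161532 : act 7 n34872 = n33147 := d42_1 D34872 (iv D33147) (iv F153667)
def n34873 : Q := act 9 n33134
theorem D34873 : act 9 n33134 = n34873 := rfl
theorem F161533 : act 0 n34873 = n34110 := d8_1 D34873 (iv D34110) (iv F153669)
theorem F161534 : act 1 n34873 = n34608 := d16_1 D34873 (iv D34608) (iv F153670)
theorem F161535 : act 2 n34873 = n34320 := d23_1 D34873 (iv F161505) F161501
theorem F161536 : act 3 n34873 = n33137 := d29_1 D34873 (iv D33137) (iv F153671)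
theorem F161537 : act 5 n34873 = n34873 := d38_1 D34873 (iv D34873) F153672
theorem F161538 : act 7 n34873 = n33135 := d43_1 D34873 (iv D33135) (iv F153673)
theorem F161539 : act 8 n34873 = n34316 := d44_1 D34873 F159266 F151681 (iv F145121) D33134
def n34874 : Q := act 5 n33136
theorem D34874 : act 5 n33136 = n34874 := rfl
theorem F161540 : act 0 n34874 = n34111 := d4_1 D34874 (iv D34111) (iv F153681)
theorem F161541 : act 1 n34874 = n34609 := d12_1 D34874 (iv D34609) (iv F153682)
theorem F161542 : act 2 n34874 = n33184 := d19_1 D34874 (iv D33184) (iv F153683)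
theorem F161543 : act 4 n34874 = n34692 := d30_1 D34874 (iv D34692) F152258 (iv F151728) (iv F153684)
theorem F161544 : act 6 n34874 = n34874 := d35_2 (iv F153685) D34874 (iv D34874) F153685 F145138
theorem F161545 : act 7 n34874 = n33149 := d36_2 (iv F153686) D34874 (iv D33149)
theorem F161546 : act 8 n34874 = n34582 := d37_2 D33136 D34874 (iv D34582) (iv D32728) (iv F145131)
def n34875 : Q := act 9 n33136
theorem D34875 : act 9 n33136 = n34875 := rfl
theorem F161547 : act 0 n34875 = n34112 := d8_1 D34875 (iv D34112) (iv F153681)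
theorem F161548 : act 1 n34875 = n34610 := d16_1 D34875 (iv D34610) (iv F153682)
theorem F161549 : act 2 n34875 = n33185 := d23_1 D34875 (iv D33185) (iv F153683)
theorem F161550 : act 4 n34875 = n34529 := d34_1 D34875 (iv D34529) (iv F153684)
theorem F161551 : act 6 n34875 = n33137 := d41_1 D34875 (iv D33137) (iv F153685)
theorem F161552 : act 7 n34875 = n33150 := d43_1 D34875 (iv D33150) (iv F153686)
theorem F161553 : act 8 n34875 = n34447 := d44_1 D34875 F159745 (iv D32717) (iv F145133) D33136
def n34876 : Q := act 7 n33138
theorem D34876 : act 7 n33138 = n34876 := rfl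
theorem F161554 : act 0 n34876 = n34118 := d6_1 D34876 (iv D34118) (iv F153694)
theorem F161555 : act 1 n34876 = n34376 := d14_1 D34876 F159451 (iv F153695)
theorem F161556 : act 3 n34876 = n33139 := d27_1 D34876 (iv D33139) D33138
theorem F161557 : act 4 n34876 = n33186 := d32_1 D34876 (iv D33186) (iv F153696)
theorem F161558 : act 5 n34876 = n33743 := d36_1 D34876 (iv D33743) (iv F153697)
theorem F161559 : act 9 n34876 = n34265 := d43_2 (iv F153698) D34876 F159084
def n34877 : Q := act 8 n33138
theorem D34877 : act 8 n33138 = n34877 := rfl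
theorem F161560 : act 0 n34877 = n34119 := d7_1 D34877 (iv D34119) (iv F153694)
theorem F161561 : act 1 n34877 = n34351 := d15_1 D34877 F159382 (iv F153695)
theorem F161562 : act 2 n34877 = n34584 := d22_1 D34877 (iv F160984) F160980
theorem F161563 : act 3 n34877 = n33140 := d28_1 D34877 (iv D33140) D33138
theorem F161564 : act 4 n34877 = n33187 := d33_1 D34877 (iv D33187) (iv F153696)
theorem F161565 : act 6 n34877 = n34332 := d40_1 D34877 F161479 F161477
theorem F161566 : act 9 n34877 = n34250 := d44_2 (iv F153698) D34877 (iv D34250) F150621 D32398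
def n34878 : Q := act 6 n33139
theorem D34878 : act 6 n33139 = n34878 := rfl
theorem F161567 : act 0 n34878 = n34120 := d5_1 D34878 (iv D34120) (iv F153699)
theorem F161568 : act 1 n34878 = n34646 := d13_1 D34878 F160400 (iv F153700)
theorem F161569 : act 2 n34878 = n33143 := d20_1 D34878 (iv D33143) (iv F153701)
theorem F161570 : act 4 n34878 = n33141 := d31_1 D34878 (iv D33141) (iv F153702)
theorem F161571 : act 9 n34878 = n34541 := d41_2 (iv F153704) D34878 F160116
def n34879 : Q := act 8 n33139
theorem D34879 : act 8 n33139 = n34879 := rfl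
theorem F161572 : act 0 n34879 = n34121 := d7_1 D34879 (iv D34121) (iv F153699)
theorem F161573 : act 1 n34879 = n34625 := d15_1 D34879 F160356 (iv F153700)
theorem F161574 : act 2 n34879 = n33144 := d22_1 D34879 (iv D33144) (iv F153701)
theorem F161575 : act 4 n34879 = n33142 := d33_1 D34879 (iv D33142) (iv F153702)
theorem F161576 : act 7 n34879 = n33140 := d42_1 D34879 (iv D33140) D33139
theorem F161577 : act 9 n34879 = n34534 := d44_2 (iv F153704) D34879 (iv D34534) F151748 D32693
def n34880 : Q := act 5 n33140
theorem D34880 : act 5 n33140 = n34880 := rfl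
theorem F161578 : act 0 n34880 = n34122 := d4_1 D34880 (iv D34122) (iv F153705)
theorem F161579 : act 1 n34880 = n34627 := d12_1 D34880 F160359 (iv F153706)
theorem F161580 : act 2 n34880 = n33145 := d19_1 D34880 (iv D33145) (iv F153707)
theorem F161581 : act 4 n34880 = n33153 := d30_1 D34880 (iv D33153) F145202 (iv F145162) (iv F153708)
theorem F161582 : act 8 n34880 = n33747 := d37_2 D33140 D34880 (iv D33747) (iv D31819) (iv F145150)
theorem F161583 : act 9 n34880 = n34535 := d38_2 (iv F153709) D34880 (iv D34535)
def n34881 : Q := act 8 n33141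
theorem D34881 : act 8 n33141 = n34881 := rfl
theorem F161584 : act 0 n34881 = n34124 := d7_1 D34881 (iv D34124) (iv F153710)
theorem F161585 : act 1 n34881 = n34629 := d15_1 D34881 F160364 (iv F153711)
theorem F161586 : act 2 n34881 = n33147 := d22_1 D34881 (iv D33147) (iv F153712)
theorem F161587 : act 3 n34881 = n33190 := d28_1 D34881 (iv D33190) (iv F153713)
theorem F161588 : act 6 n34881 = n33142 := d40_1 D34881 (iv D33142) D33141
theorem F161589 : act 9 n34881 = n34536 := d44_2 (iv F153715) D34881 (iv D34536) F151753 D32694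
def n34882 : Q := act 5 n33143
theorem D34882 : act 5 n33143 = n34882 := rfl
theorem F161590 : act 0 n34882 = n34126 := d4_1 D34882 (iv D34126) (iv F153723)
theorem F161591 : act 4 n34882 = n34622 := d30_1 D34882 (iv D34622) F151984 (iv F145172) (iv F153724)
theorem F161592 : act 6 n34882 = n33751 := d35_2 D33143 D34882 (iv D33751) (iv D31823) (iv F145166)
theorem F161593 : act 9 n34882 = n34611 := d38_2 (iv F153725) D34882 (iv D34611)
def n34883 : Q := act 8 n33143
theorem D34883 : act 8 n33143 = n34883 := rfl
theorem F161594 : act 0 n34883 = n34127 := d7_1 D34883 (iv D34127) (iv F153723)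
theorem F161595 : act 4 n34883 = n33147 := d33_1 D34883 (iv D33147) (iv F153724)
theorem F161596 : act 6 n34883 = n33144 := d40_1 D34883 (iv D33144) D33143
def n34884 : Q := act 5 n33144
theorem D34884 : act 5 n33144 = n34884 := rfl
theorem F161597 : act 0 n34884 = n34128 := d4_1 D34884 (iv D34128) (iv F153726)
theorem F161598 : act 4 n34884 = n33157 := d30_1 D34884 (iv D33157) F145225 (iv F145176) (iv F153727)
theorem F161599 : act 7 n34884 = n33145 := d36_2 (iv F153728) D34884 (iv D33145)
theorem F161600 : act 8 n34884 = n33753 := d37_2 D33144 D34884 (iv D33753) (iv D31824) (iv F145166)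
def n34885 : Q := act 9 n33144
theorem D34885 : act 9 n33144 = n34885 := rfl
theorem F161601 : act 0 n34885 = n34129 := d8_1 D34885 (iv D34129) (iv F153726)
theorem F161602 : act 2 n34885 = n34534 := d23_1 D34885 (iv F161577) F161574
theorem F161603 : act 4 n34885 = n33148 := d34_1 D34885 (iv D33148) (iv F153727)
theorem F161604 : act 7 n34885 = n33146 := d43_1 D34885 (iv D33146) (iv F153728)
theorem F161605 : act 8 n34885 = n34531 := d44_1 D34885 F160088 F151765 (iv F145167) D33144
def n34886 : Q := act 6 n33145
theorem D34886 : act 6 n33145 = n34886 := rfl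
theorem F161606 : act 0 n34886 = n34130 := d5_1 D34886 (iv D34130) (iv F153729)
theorem F161607 : act 4 n34886 = n33159 := d31_1 D34886 (iv D33159) (iv F153730)
theorem F161608 : act 8 n34886 = n33755 := d40_2 (iv F153731) D34886 (iv D33755)
def n34887 : Q := act 9 n33145
theorem D34887 : act 9 n33145 = n34887 := rfl
theorem F161609 : act 0 n34887 = n34131 := d8_1 D34887 (iv D34131) (iv F153729)
theorem F161610 : act 2 n34887 = n34535 := d23_1 D34887 (iv F161583) F161580
theorem F161611 : act 4 n34887 = n33160 := d34_1 D34887 (iv D33160) (iv F153730)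
theorem F161612 : act 5 n34887 = n33146 := d38_1 D34887 (iv D33146) D33145
def n34888 : Q := act 5 n33147
theorem D34888 : act 5 n33147 = n34888 := rfl
theorem F161613 : act 0 n34888 = n34132 := d4_1 D34888 (iv D34132) (iv F153736)
theorem F161614 : act 3 n34888 = n33149 := d25_1 D34888 (iv D33149) (iv F153737)
theorem F161615 : act 6 n34888 = n33161 := d35_2 (iv F153738) D34888 (iv D33161) F145238 (iv F145176)
theorem F161616 : act 8 n34888 = n34628 := d37_2 D33147 D34888 (iv D34628) (iv D32771) (iv F145172)
def n34889 : Q := act 9 n33147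
theorem D34889 : act 9 n33147 = n34889 := rfl
theorem F161617 : act 0 n34889 = n34133 := d8_1 D34889 (iv D34133) (iv F153736)
theorem F161618 : act 2 n34889 = n34536 := d23_1 D34889 (iv F161589) F161586
theorem F161619 : act 3 n34889 = n33150 := d29_1 D34889 (iv D33150) (iv F153737)
theorem F161620 : act 6 n34889 = n33148 := d41_1 D34889 (iv D33148) (iv F153738)
theorem F161621 : act 8 n34889 = n34532 := d44_1 D34889 F160091 F151768 (iv F145173) D33147
def n34890 : Q := act 4 n33149
theorem D34890 : act 4 n33149 = n34890 := rfl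
theorem F161622 : act 0 n34890 = n34134 := d3_1 D34890 (iv D34134) (iv F153745)
theorem F161623 : act 2 n34890 = n33194 := d18_1 D34890 (iv D33194) (iv F153746)
theorem F161624 : act 5 n34890 = n34669 := d30_2 D33149 D34890 F160477 (iv F153178) F153177
theorem F161625 : act 6 n34890 = n33163 := d31_2 (iv F153747) D34890 (iv D33163)
theorem F161626 : act 7 n34890 = n34692 := d32_2 F161545 D34890 (iv F161543)
theorem F161627 : act 8 n34890 = n34630 := d33_2 (iv F153748) D34890 (iv D34630)
def n34891 : Q := act 9 n33149
theorem D34891 : act 9 n33149 = n34891 := rfl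
theorem F161628 : act 0 n34891 = n34135 := d8_1 D34891 (iv D34135) (iv F153745)
theorem F161629 : act 2 n34891 = n33195 := d23_1 D34891 (iv D33195) (iv F153746)
theorem F161630 : act 5 n34891 = n33150 := d38_1 D34891 (iv D33150) D33149
theorem F161631 : act 6 n34891 = n33164 := d41_1 D34891 (iv D33164) (iv F153747)
def n34892 : Q := act 5 n33151
theorem D34892 : act 5 n33151 = n34892 := rfl
theorem F161632 : act 0 n34892 = n33893 := d4_1 D34892 F157570 (iv F153753)
theorem F161633 : act 1 n34892 = n34209 := d12_1 D34892 F158839 (iv F153754)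
theorem F161634 : act 2 n34892 = n33155 := d19_1 D34892 (iv D33155) (iv F153755)
theorem F161635 : act 3 n34892 = n34892 := d25_1 D34892 (iv D34892) F153756
theorem F161636 : act 4 n34892 = n33888 := d30_1 D34892 F157538 F149856 (iv F145209) (iv F153757)
theorem F161637 : act 6 n34892 = n33767 := d35_2 D33151 D34892 (iv D33767) (iv D31844) (iv F145196)
theorem F161638 : act 7 n34892 = n34892 := d36_2 F153758 D34892 (iv D34892)
theorem F161639 : act 9 n34892 = n33212 := d38_2 (iv F153759) D34892 (iv D33212)
def n34893 : Q := act 8 n33151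
theorem D34893 : act 8 n33151 = n34893 := rfl
theorem F161640 : act 0 n34893 = n34137 := d7_1 D34893 (iv D34137) (iv F153753)
theorem F161641 : act 1 n34893 = n34712 := d15_1 D34893 F160625 (iv F153754)
theorem F161642 : act 2 n34893 = n33156 := d22_1 D34893 (iv D33156) (iv F153755)
theorem F161643 : act 3 n34893 = n34893 := d28_1 D34893 (iv D34893) F153756
theorem F161644 : act 4 n34893 = n33154 := d33_1 D34893 (iv D33154) (iv F153757)
theorem F161645 : act 6 n34893 = n33152 := d40_1 D34893 (iv D33152) D33151
theorem F161646 : act 7 n34893 = n34893 := d42_1 D34893 (iv D34893) F153758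
theorem F161647 : act 9 n34893 = n34703 := d44_2 (iv F153759) D34893 (iv D34703) F152340 (iv F145617)
def n34894 : Q := act 5 n33152
theorem D34894 : act 5 n33152 = n34894 := rfl
theorem F161648 : act 0 n34894 = n34138 := d4_1 D34894 (iv D34138) (iv F153760)
theorem F161649 : act 1 n34894 = n34714 := d12_1 D34894 F160628 (iv F153761)
theorem F161650 : act 2 n34894 = n33157 := d19_1 D34894 (iv D33157) (iv F153762)
theorem F161651 : act 3 n34894 = n34894 := d25_1 D34894 (iv D34894) F153763
theorem F161652 : act 7 n34894 = n33153 := d36_2 (iv F153765) D34894 (iv D33153)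
theorem F161653 : act 8 n34894 = n33768 := d37_2 D33152 D34894 (iv D33768) (iv D31845) (iv F145196)
theorem F161654 : act 9 n34894 = n34704 := d38_2 (iv F153766) D34894 (iv D34704)
def n34895 : Q := act 6 n33153
theorem D34895 : act 6 n33153 = n34895 := rfl
theorem F161655 : act 0 n34895 = n34140 := d5_1 D34895 (iv D34140) (iv F153767)
theorem F161656 : act 1 n34895 = n34716 := d13_1 D34895 F160634 (iv F153768)
theorem F161657 : act 2 n34895 = n33159 := d20_1 D34895 (iv D33159) (iv F153769)
theorem F161658 : act 3 n34895 = n34895 := d26_1 D34895 (iv D34895) F153770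
theorem F161659 : act 5 n34895 = n34895 := d35_1 D34895 (iv D34895) (iv D33153) F145203 D33153
theorem F161660 : act 8 n34895 = n33769 := d40_2 (iv F153771) D34895 (iv D33769)
theorem F161661 : act 9 n34895 = n34705 := d41_2 (iv F153772) D34895 (iv D34705)
def n34896 : Q := act 5 n33154
theorem D34896 : act 5 n33154 = n34896 := rfl
theorem F161662 : act 0 n34896 = n34142 := d4_1 D34896 (iv D34142) (iv F153773)
theorem F161663 : act 1 n34896 = n34718 := d12_1 D34896 F160637 (iv F153774)
theorem F161664 : act 2 n34896 = n33161 := d19_1 D34896 (iv D33161) (iv F153775)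
theorem F161665 : act 3 n34896 = n33196 := d25_1 D34896 (iv D33196) (iv F153776)
theorem F161666 : act 7 n34896 = n34896 := d36_2 F153778 D34896 (iv D34896)
theorem F161667 : act 8 n34896 = n34708 := d37_2 D33154 D34896 (iv D34708) (iv D32884) (iv F145209)
theorem F161668 : act 9 n34896 = n34706 := d38_2 (iv F153779) D34896 (iv D34706)
def n34897 : Q := act 8 n33155
theorem D34897 : act 8 n33155 = n34897 := rfl
theorem F161669 : act 0 n34897 = n34136 := d7_1 D34897 (iv D34136) (iv F153780)
theorem F161670 : act 1 n34897 = n33906 := d15_1 D34897 F157638 (iv F153781)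
theorem F161671 : act 3 n34897 = n33165 := d28_1 D34897 (iv D33165) (iv F153782)
theorem F161672 : act 4 n34897 = n34710 := d33_1 D34897 (iv D34710) (iv F153783)
theorem F161673 : act 6 n34897 = n33771 := d40_1 D34897 (iv D33771) (iv F153784)
theorem F161674 : act 7 n34897 = n34897 := d42_1 D34897 (iv D34897) F153785
theorem F161675 : act 9 n34897 = n33896 := d44_2 (iv F153786) D34897 (iv D33896) F148940 F145624
def n34898 : Q := act 5 n33156
theorem D34898 : act 5 n33156 = n34898 := rfl
theorem F161676 : act 0 n34898 = n34144 := d4_1 D34898 (iv D34144) (iv F153787)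
theorem F161677 : act 3 n34898 = n33166 := d25_1 D34898 (iv D33166) (iv F153788)
theorem F161678 : act 7 n34898 = n34898 := d36_2 F153791 D34898 (iv D34898)
def n34899 : Q := act 9 n33156
theorem D34899 : act 9 n33156 = n34899 := rfl
theorem F161679 : act 0 n34899 = n34145 := d8_1 D34899 (iv D34145) (iv F153787)
theorem F161680 : act 1 n34899 = n34210 := d16_1 D34899 (iv F161358) F161353
theorem F161681 : act 2 n34899 = n34703 := d23_1 D34899 (iv F161647) F161642
theorem F161682 : act 3 n34899 = n33167 := d29_1 D34899 (iv D33167) (iv F153788)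
theorem F161683 : act 4 n34899 = n33162 := d34_1 D34899 (iv D33162) (iv F153789)
theorem F161684 : act 6 n34899 = n33158 := d41_1 D34899 (iv D33158) (iv F153790)
theorem F161685 : act 7 n34899 = n34899 := d43_1 D34899 (iv D34899) F153791
theorem F161686 : act 8 n34899 = n33213 := d44_1 D34899 (iv D33213) (iv D31348) (iv F145222) D33156
def n34900 : Q := act 6 n33157
theorem D34900 : act 6 n33157 = n34900 := rfl
theorem F161687 : act 0 n34900 = n34146 := d5_1 D34900 (iv D34146) (iv F153792)
theorem F161688 : act 3 n34900 = n33168 := d26_1 D34900 (iv D33168) (iv F153793)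
theorem F161689 : act 8 n34900 = n33772 := d40_2 (iv F153795) D34900 (iv D33772)
def n34901 : Q := act 9 n33157
theorem D34901 : act 9 n33157 = n34901 := rfl
theorem F161690 : act 0 n34901 = n34147 := d8_1 D34901 (iv D34147) (iv F153792)
theorem F161691 : act 2 n34901 = n34704 := d23_1 D34901 (iv F161654) F161650
theorem F161692 : act 3 n34901 = n33169 := d29_1 D34901 (iv D33169) (iv F153793)
theorem F161693 : act 5 n34901 = n33158 := d38_1 D34901 (iv D33158) D33157
theorem F161694 : act 7 n34901 = n33160 := d43_1 D34901 (iv D33160) (iv F153794)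
def n34902 : Q := act 7 n33159
theorem D34902 : act 7 n33159 = n34902 := rfl
theorem F161695 : act 0 n34902 = n34148 := d6_1 D34902 (iv D34148) (iv F153802)
theorem F161696 : act 3 n34902 = n33170 := d27_1 D34902 (iv D33170) (iv F153803)
theorem F161697 : act 5 n34902 = n34902 := d36_1 D34902 (iv D34902) F153804
theorem F161698 : act 8 n34902 = n33773 := d42_2 (iv F153805) D34902 (iv D33773)
def n34903 : Q := act 9 n33159
theorem D34903 : act 9 n33159 = n34903 := rfl
theorem F161699 : act 0 n34903 = n34149 := d8_1 D34903 (iv D34149) (iv F153802)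
theorem F161700 : act 1 n34903 = n33702 := d16_1 D34903 (iv F161370) F161365
theorem F161701 : act 2 n34903 = n34705 := d23_1 D34903 (iv F161661) F161657
theorem F161702 : act 3 n34903 = n33171 := d29_1 D34903 (iv D33171) (iv F153803)
theorem F161703 : act 5 n34903 = n34903 := d38_1 D34903 (iv D34903) F153804
theorem F161704 : act 6 n34903 = n33160 := d41_1 D34903 (iv D33160) D33159
theorem F161705 : act 8 n34903 = n33698 := d44_1 D34903 F156642 (iv F156562) F156563 (iv F153805)
def n34904 : Q := act 4 n33161
theorem D34904 : act 4 n33161 = n34904 := rfl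
theorem F161706 : act 0 n34904 = n34150 := d3_1 D34904 (iv D34150) (iv F153810)
theorem F161707 : act 7 n34904 = n34904 := d32_2 F153812 D34904 (iv D34904)
theorem F161708 : act 8 n34904 = n34717 := d33_2 (iv F153813) D34904 (iv D34717)
def n34905 : Q := act 9 n33161
theorem D34905 : act 9 n33161 = n34905 := rfl
theorem F161709 : act 0 n34905 = n34151 := d8_1 D34905 (iv D34151) (iv F153810)
theorem F161710 : act 2 n34905 = n34706 := d23_1 D34905 (iv F161668) F161664
theorem F161711 : act 3 n34905 = n33164 := d29_1 D34905 (iv D33164) (iv F153811)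
theorem F161712 : act 5 n34905 = n33162 := d38_1 D34905 (iv D33162) D33161
theorem F161713 : act 7 n34905 = n34905 := d43_1 D34905 (iv D34905) F153812
def n34906 : Q := act 3 n33163
theorem D34906 : act 3 n33163 = n34906 := rfl
theorem F161714 : act 0 n34906 = n34152 := d2_1 D34906 (iv D34152) (iv F153820)
theorem F161715 : act 5 n34906 = n33175 := d25_2 (iv F153822) D34906 (iv D33175)
theorem F161716 : act 7 n34906 = n34906 := d27_2 F153823 D34906 (iv D34906)
theorem F161717 : act 8 n34906 = n34719 := d28_2 (iv F153824) D34906 (iv D34719)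
def n34907 : Q := act 9 n33163
theorem D34907 : act 9 n33163 = n34907 := rfl
theorem F161718 : act 0 n34907 = n34153 := d8_1 D34907 (iv D34153) (iv F153820)
theorem F161719 : act 1 n34907 = n34695 := d16_1 D34907 (iv F161154) F161150
theorem F161720 : act 2 n34907 = n33199 := d23_1 D34907 (iv D33199) (iv F153821)
theorem F161721 : act 4 n34907 = n33164 := d34_1 D34907 (iv D33164) D33163
theorem F161722 : act 5 n34907 = n33176 := d38_1 D34907 (iv D33176) (iv F153822)
theorem F161723 : act 7 n34907 = n34907 := d43_1 D34907 (iv D34907) F153823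
theorem F161724 : act 8 n34907 = n34506 := d44_1 D34907 F159994 D34512 (iv F160020) (iv F153824)
def n34908 : Q := act 8 n33164
theorem D34908 : act 8 n33164 = n34908 := rfl
theorem F161725 : act 0 n34908 = n34154 := d7_1 D34908 (iv D34154) (iv F153825)
theorem F161726 : act 1 n34908 = n34720 := d15_1 D34908 (iv F161387) F161382
theorem F161727 : act 2 n34908 = n33200 := d22_1 D34908 (iv D33200) (iv F153826)
theorem F161728 : act 4 n34908 = n34506 := d33_1 D34908 (iv F161724) F161721
theorem F161729 : act 5 n34908 = n33214 := d37_1 D34908 (iv D33214) F145646 (iv F145254) (iv F153827)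
theorem F161730 : act 7 n34908 = n34908 := d42_1 D34908 (iv D34908) F153828
theorem F161731 : act 9 n34908 = n34500 := d44_2 D33164 D34908 F159964 (iv D32895) (iv F145248)
def n34909 : Q := act 5 n33165
theorem D34909 : act 5 n33165 = n34909 := rfl
theorem F161732 : act 0 n34909 = n34155 := d4_1 D34909 (iv D34155) (iv F153829)
theorem F161733 : act 1 n34909 = n33908 := d12_1 D34909 F157646 (iv F153830)
theorem F161734 : act 2 n34909 = n34909 := d19_1 D34909 (iv D34909) F153831
theorem F161735 : act 7 n34909 = n34909 := d36_2 F153834 D34909 (iv D34909)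
theorem F161736 : act 8 n34909 = n33166 := d37_2 D33165 D34909 (iv D33166) (iv D31289) D31288
theorem F161737 : act 9 n34909 = n33897 := d38_2 (iv F153835) D34909 (iv D33897)
def n34910 : Q := act 4 n33166
theorem D34910 : act 4 n33166 = n34910 := rfl
theorem F161738 : act 0 n34910 = n34156 := d3_1 D34910 (iv D34156) (iv F153836)
theorem F161739 : act 1 n34910 = n33515 := d11_1 D34910 (iv F161391) F161389
theorem F161740 : act 2 n34910 = n34910 := d18_1 D34910 (iv D34910) F153837
theorem F161741 : act 5 n34910 = n33173 := d30_2 D33166 D34910 (iv D33173) (iv D31294) (iv F145264)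
theorem F161742 : act 7 n34910 = n34910 := d32_2 F153838 D34910 (iv D34910)
def n34911 : Q := act 6 n33166
theorem D34911 : act 6 n33166 = n34911 := rfl
theorem F161743 : act 0 n34911 = n34157 := d5_1 D34911 (iv D34157) (iv F153836)
theorem F161744 : act 2 n34911 = n34911 := d20_1 D34911 (iv D34911) F153837
theorem F161745 : act 5 n34911 = n33168 := d35_1 D34911 (iv D33168) (iv D31290) (iv F145265) D33166
def n34912 : Q := act 9 n33166
theorem D34912 : act 9 n33166 = n34912 := rfl
theorem F161746 : act 0 n34912 = n34158 := d8_1 D34912 (iv D34158) (iv F153836)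
theorem F161747 : act 1 n34912 = n34154 := d16_1 D34912 (iv F161394) F161389
theorem F161748 : act 2 n34912 = n34912 := d23_1 D34912 (iv D34912) F153837
theorem F161749 : act 5 n34912 = n33167 := d38_1 D34912 (iv D33167) D33166
theorem F161750 : act 7 n34912 = n34912 := d43_1 D34912 (iv D34912) F153838
theorem F161751 : act 8 n34912 = n34079 := d44_1 D34912 (iv D34079) (iv F157589) (iv F161737) F161736
def n34913 : Q := act 7 n33168
theorem D34913 : act 7 n33168 = n34913 := rfl
theorem F161752 : act 0 n34913 = n34159 := d6_1 D34913 (iv D34159) (iv F153846)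
theorem F161753 : act 2 n34913 = n34913 := d21_1 D34913 (iv D34913) F153847
theorem F161754 : act 6 n34913 = n33170 := d39_1 D34913 (iv D33170) (iv D31292) (iv F145269) D33168
theorem F161755 : act 8 n34913 = n33776 := d42_2 (iv F153848) D34913 (iv D33776)
def n34914 : Q := act 9 n33168
theorem D34914 : act 9 n33168 = n34914 := rfl
theorem F161756 : act 0 n34914 = n34160 := d8_1 D34914 (iv D34160) (iv F153846)
theorem F161757 : act 2 n34914 = n34914 := d23_1 D34914 (iv D34914) F153847
theorem F161758 : act 6 n34914 = n33169 := d41_1 D34914 (iv D33169) D33168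
def n34915 : Q := act 8 n33169
theorem D34915 : act 8 n33169 = n34915 := rfl
theorem F161759 : act 0 n34915 = n33848 := d7_1 D34915 F157325 (iv F153849)
theorem F161760 : act 1 n34915 = n33763 := d15_1 D34915 (iv F161406) F161401
theorem F161761 : act 2 n34915 = n34915 := d22_1 D34915 (iv D34915) F153850
theorem F161762 : act 5 n34915 = n33215 := d37_1 D34915 (iv D33215) F145660 (iv F145275) (iv F153851)
theorem F161763 : act 7 n34915 = n33172 := d42_1 D34915 (iv D33172) (iv F153852)
theorem F161764 : act 9 n34915 = n33636 := d44_2 D33169 D34915 F156367 F147736 (iv F145270)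
def n34916 : Q := act 9 n33170
theorem D34916 : act 9 n33170 = n34916 := rfl
theorem F161765 : act 0 n34916 = n34161 := d8_1 D34916 (iv D34161) (iv F153853)
theorem F161766 : act 1 n34916 = n33818 := d16_1 D34916 (iv F161413) F161408
theorem F161767 : act 2 n34916 = n34916 := d23_1 D34916 (iv D34916) F153854
theorem F161768 : act 4 n34916 = n34737 := d34_1 D34916 (iv F161093) F161090
theorem F161769 : act 5 n34916 = n34916 := d38_1 D34916 (iv D34916) F153855
theorem F161770 : act 7 n34916 = n33171 := d43_1 D34916 (iv D33171) D33170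
theorem F161771 : act 8 n34916 = n33814 := d44_1 D34916 F157162 F156964 (iv D33777) (iv F153856)
def n34917 : Q := act 3 n33173
theorem D34917 : act 3 n33173 = n34917 := rfl
theorem F161772 : act 0 n34917 = n34162 := d2_1 D34917 (iv D34162) (iv F153870)
theorem F161773 : act 1 n34917 = n33514 := d10_1 D34917 F155747 (iv F153871)
theorem F161774 : act 4 n34917 = n33175 := d24_2 D33173 D34917 (iv D33175) (iv D31296) (iv F145286)
theorem F161775 : act 6 n34917 = n33513 := d26_2 (iv F153873) D34917 F155743
theorem F161776 : act 7 n34917 = n34917 := d27_2 F153874 D34917 (iv D34917)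
theorem F161777 : act 8 n34917 = n34917 := d28_2 F153875 D34917 (iv D34917)
def n34918 : Q := act 9 n33173
theorem D34918 : act 9 n33173 = n34918 := rfl
theorem F161778 : act 0 n34918 = n34163 := d8_1 D34918 (iv D34163) (iv F153870)
theorem F161779 : act 1 n34918 = n33505 := d16_1 D34918 F155696 (iv F153871)
theorem F161780 : act 2 n34918 = n34918 := d23_1 D34918 (iv D34918) F153872
theorem F161781 : act 4 n34918 = n33174 := d34_1 D34918 (iv D33174) D33173
theorem F161782 : act 6 n34918 = n33501 := d41_1 D34918 F155671 (iv F153873)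
theorem F161783 : act 7 n34918 = n34918 := d43_1 D34918 (iv D34918) F153874
def n34919 : Q := act 8 n33174
theorem D34919 : act 8 n33174 = n34919 := rfl
theorem F161784 : act 0 n34919 = n34164 := d7_1 D34919 (iv D34164) (iv F153876)
theorem F161785 : act 1 n34919 = n33507 := d15_1 D34919 (iv D33507) (iv F153877)
theorem F161786 : act 2 n34919 = n34919 := d22_1 D34919 (iv D34919) F153878
theorem F161787 : act 3 n34919 = n33177 := d28_1 D34919 (iv D33177) (iv F153879)
theorem F161788 : act 5 n34919 = n33216 := d37_1 D34919 (iv D33216) F145674 (iv F145295) (iv F153880)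
theorem F161789 : act 6 n34919 = n33503 := d40_1 D34919 (iv D33503) (iv F153881)
theorem F161790 : act 7 n34919 = n34919 := d42_1 D34919 (iv D34919) F153882
theorem F161791 : act 9 n34919 = n34919 := d44_2 D33174 D34919 (iv D34919) (iv D33174) F145289
def n34920 : Q := act 2 n33175
theorem D34920 : act 2 n33175 = n34920 := rfl
theorem F161792 : act 0 n34920 = n34165 := d1_1 D34920 (iv D34165) (iv F153883)
theorem F161793 : act 1 n34920 = n34401 := d9_1 D34920 F159537 (iv F154053) (iv F161143) F161142
theorem F161794 : act 3 n34920 = n33201 := d17_2 D33175 D34920 (iv D33201) (iv D31320) (iv F145297)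
theorem F161795 : act 6 n34920 = n34396 := d20_2 F161106 D34920 (iv F161103)
theorem F161796 : act 7 n34920 = n34920 := d21_2 F153884 D34920 (iv D34920)
theorem F161797 : act 8 n34920 = n34920 := d22_2 F153885 D34920 (iv D34920)
theorem F161798 : act 9 n34395 = n34920 := d41_0 F161795 (iv D34396) (iv F159517)
def n34921 : Q := act 9 n33175
theorem D34921 : act 9 n33175 = n34921 := rfl
theorem F161799 : act 0 n34921 = n34166 := d8_1 D34921 (iv D34166) (iv F153883)
theorem F161800 : act 1 n34921 = n34283 := d16_1 D34921 (iv F161148) F161142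
theorem F161801 : act 2 n34921 = n34395 := d23_1 D34921 F161798 (iv D34920)
theorem F161802 : act 3 n34921 = n33176 := d29_1 D34921 (iv D33176) D33175
theorem F161803 : act 6 n34921 = n34281 := d41_1 D34921 (iv F161109) F161106
theorem F161804 : act 7 n34921 = n34921 := d43_1 D34921 (iv D34921) F153884
theorem F161805 : act 8 n34280 = n34921 := d40_0 F161803 (iv D34281) D34280
def n34922 : Q := act 7 n33178
theorem D34922 : act 7 n33178 = n34922 := rfl
theorem F161806 : act 0 n34922 = n34172 := d6_1 D34922 (iv D34172) (iv F153901)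
theorem F161807 : act 1 n34922 = n34312 := d14_1 D34922 F159252 (iv F153902)
theorem F161808 : act 2 n34922 = n34650 := d21_1 D34922 F160407 (iv F153903)
theorem F161809 : act 3 n34922 = n33179 := d27_1 D34922 (iv D33179) D33178
theorem F161810 : act 5 n34922 = n34922 := d36_1 D34922 (iv D34922) F153904
theorem F161811 : act 8 n34922 = n34334 := d42_2 (iv F153906) D34922 F159326
theorem F161812 : act 9 n34922 = n34229 := d43_2 (iv F153907) D34922 F158928
def n34923 : Q := act 6 n33179
theorem D34923 : act 6 n33179 = n34923 := rfl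
theorem F161813 : act 0 n34923 = n34173 := d5_1 D34923 (iv D34173) (iv F153908)
theorem F161814 : act 1 n34923 = n34314 := d13_1 D34923 F159258 (iv F153909)
theorem F161815 : act 2 n34923 = n33182 := d20_1 D34923 (iv D33182) (iv F153910)
theorem F161816 : act 4 n34923 = n33180 := d31_1 D34923 (iv D33180) (iv F153911)
theorem F161817 : act 7 n34923 = n33188 := d39_2 D33179 D34923 (iv D33188) (iv D31307) (iv F145310)
theorem F161818 : act 8 n34923 = n34336 := d40_2 (iv F153913) D34923 F159331
theorem F161819 : act 9 n34923 = n34230 := d41_2 (iv F153914) D34923 F158932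
def n34924 : Q := act 8 n33180
theorem D34924 : act 8 n33180 = n34924 := rfl
theorem F161820 : act 0 n34924 = n34174 := d7_1 D34924 (iv D34174) (iv F153915)
theorem F161821 : act 1 n34924 = n34583 := d15_1 D34924 F160234 (iv F153916)
theorem F161822 : act 2 n34924 = n33183 := d22_1 D34924 (iv D33183) (iv F153917)
theorem F161823 : act 4 n34924 = n34336 := d33_1 D34924 (iv F161818) F161816
theorem F161824 : act 6 n34924 = n33181 := d40_1 D34924 (iv D33181) D33180
theorem F161825 : act 7 n34924 = n33190 := d42_1 D34924 (iv D33190) (iv F153919)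
theorem F161826 : act 9 n34924 = n34321 := d44_2 (iv F153920) D34924 (iv D34321) F150859 D32671
def n34925 : Q := act 5 n33182
theorem D34925 : act 5 n33182 = n34925 := rfl
theorem F161827 : act 0 n34925 = n34175 := d4_1 D34925 (iv D34175) (iv F153928)
theorem F161828 : act 1 n34925 = n34751 := d12_1 D34925 F160768 (iv F153929)
theorem F161829 : act 3 n34925 = n34677 := d25_1 D34925 F160509 (iv F153930)
theorem F161830 : act 4 n34925 = n34659 := d30_1 D34925 (iv D34659) F152101 (iv F145335) (iv F153931)
theorem F161831 : act 6 n34925 = n34925 := d35_2 D33182 D34925 (iv D34925) (iv D33182) F145329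
theorem F161832 : act 7 n34925 = n33191 := d36_2 (iv F153932) D34925 (iv D33191)
theorem F161833 : act 9 n34925 = n34456 := d38_2 (iv F153934) D34925 (iv D34456)
def n34926 : Q := act 5 n33183
theorem D34926 : act 5 n33183 = n34926 := rfl
theorem F161834 : act 0 n34926 = n34176 := d4_1 D34926 (iv D34176) (iv F153935)
theorem F161835 : act 1 n34926 = n34775 := d12_1 D34926 F160927 (iv F153936)
theorem F161836 : act 3 n34926 = n33184 := d25_1 D34926 (iv D33184) (iv F153937)
theorem F161837 : act 6 n34926 = n34926 := d35_2 (iv F153939) D34926 (iv D34926) F153939 F145342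
theorem F161838 : act 7 n34926 = n33193 := d36_2 (iv F153940) D34926 (iv D33193)
theorem F161839 : act 8 n34926 = n34661 := d37_2 D33183 D34926 (iv D34661) (iv D32812) (iv F145335)
theorem F161840 : act 9 n34926 = n34449 := d38_2 (iv F153941) D34926 (iv D34449)
def n34927 : Q := act 9 n33184
theorem D34927 : act 9 n33184 = n34927 := rfl
theorem F161841 : act 0 n34927 = n34177 := d8_1 D34927 (iv D34177) (iv F153942)
theorem F161842 : act 1 n34927 = n34762 := d16_1 D34927 F160848 (iv F153943)
theorem F161843 : act 3 n34927 = n34449 := d29_1 D34927 (iv F161840) F161836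
theorem F161844 : act 4 n34927 = n34694 := d34_1 D34927 (iv D34694) (iv F153944)
theorem F161845 : act 5 n34927 = n33185 := d38_1 D34927 (iv D33185) D33184
theorem F161846 : act 6 n34927 = n34927 := d41_1 D34927 (iv D34927) F153945
theorem F161847 : act 7 n34927 = n33195 := d43_1 D34927 (iv D33195) (iv F153946)
theorem F161848 : act 8 n34676 = n34927 := d37_0 F161845 F153954 F151300 D32835 D34676
def n34928 : Q := act 6 n33186
theorem D34928 : act 6 n33186 = n34928 := rfl
theorem F161849 : act 0 n34928 = n34182 := d5_1 D34928 (iv D34182) (iv F153955)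
theorem F161850 : act 1 n34928 = n34379 := d13_1 D34928 F159457 (iv F153956)
theorem F161851 : act 3 n34928 = n33188 := d26_1 D34928 (iv D33188) (iv F153957)
theorem F161852 : act 9 n34928 = n34266 := d41_2 (iv F153959) D34928 F159087
def n34929 : Q := act 8 n33186
theorem D34929 : act 8 n33186 = n34929 := rfl
theorem F161853 : act 0 n34929 = n34183 := d7_1 D34929 (iv D34183) (iv F153955)
theorem F161854 : act 1 n34929 = n34353 := d15_1 D34929 F159388 (iv F153956)
theorem F161855 : act 2 n34929 = n34665 := d22_1 D34929 (iv F161115) F161112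
theorem F161856 : act 3 n34929 = n33189 := d28_1 D34929 (iv D33189) (iv F153957)
theorem F161857 : act 5 n34929 = n34929 := d37_1 D34929 (iv D34929) F153958 F145459 (iv F153958)
theorem F161858 : act 7 n34929 = n33187 := d42_1 D34929 (iv D33187) D33186
theorem F161859 : act 9 n34929 = n34252 := d44_2 (iv F153959) D34929 (iv D34252) F150625 D32400
def n34930 : Q := act 5 n33188
theorem D34930 : act 5 n33188 = n34930 := rfl
theorem F161860 : act 0 n34930 = n34184 := d4_1 D34930 (iv D34184) (iv F153967)
theorem F161861 : act 1 n34930 = n34381 := d12_1 D34930 F159463 (iv F153968)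
theorem F161862 : act 2 n34930 = n33191 := d19_1 D34930 (iv D33191) (iv F153969)
theorem F161863 : act 4 n34930 = n34680 := d30_1 D34930 (iv D34680) F152213 (iv F145377) (iv F153970)
theorem F161864 : act 6 n34930 = n33203 := d35_2 D33188 D34930 (iv D33203) (iv D31324) (iv F145365)
theorem F161865 : act 9 n34930 = n34267 := d38_2 (iv F153971) D34930 (iv D34267)
def n34931 : Q := act 8 n33188
theorem D34931 : act 8 n33188 = n34931 := rfl
theorem F161866 : act 0 n34931 = n34185 := d7_1 D34931 (iv D34185) (iv F153967)
theorem F161867 : act 1 n34931 = n34355 := d15_1 D34931 F159394 (iv F153968)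
theorem F161868 : act 2 n34931 = n33192 := d22_1 D34931 (iv D33192) (iv F153969)
theorem F161869 : act 4 n34931 = n33190 := d33_1 D34931 (iv D33190) (iv F153970)
theorem F161870 : act 6 n34931 = n33189 := d40_1 D34931 (iv D33189) D33188
theorem F161871 : act 7 n34931 = n34336 := d42_1 D34931 (iv F161818) F161817
theorem F161872 : act 9 n34931 = n34253 := d44_2 (iv F153971) D34931 (iv D34253) F150635 D32401
def n34932 : Q := act 5 n33190
theorem D34932 : act 5 n33190 = n34932 := rfl
theorem F161873 : act 0 n34932 = n34186 := d4_1 D34932 (iv D34186) (iv F153979)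
theorem F161874 : act 1 n34932 = n34631 := d12_1 D34932 F160368 (iv F153980)
theorem F161875 : act 2 n34932 = n33193 := d19_1 D34932 (iv D33193) (iv F153981)
theorem F161876 : act 6 n34932 = n33196 := d35_2 (iv F153982) D34932 (iv D33196) F145414 (iv F145382)
theorem F161877 : act 8 n34932 = n34681 := d37_2 D33190 D34932 (iv D34681) (iv D32842) (iv F145377)
theorem F161878 : act 9 n34932 = n34537 := d38_2 (iv F153983) D34932 (iv D34537)
def n34933 : Q := act 8 n33191
theorem D34933 : act 8 n33191 = n34933 := rfl
theorem F161879 : act 0 n34933 = n34188 := d7_1 D34933 (iv D34188) (iv F153984)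
theorem F161880 : act 1 n34933 = n34765 := d15_1 D34933 (iv D34765) (iv F153985)
theorem F161881 : act 3 n34933 = n34784 := d28_1 D34933 F161131 F161126
theorem F161882 : act 4 n34933 = n34683 := d33_1 D34933 (iv D34683) (iv F153986)
theorem F161883 : act 6 n34933 = n33204 := d40_1 D34933 (iv D33204) (iv F153987)
def n34934 : Q := act 5 n33192
theorem D34934 : act 5 n33192 = n34934 := rfl
theorem F161884 : act 0 n34934 = n34189 := d4_1 D34934 (iv D34189) (iv F153989)
theorem F161885 : act 1 n34934 = n34758 := d12_1 D34934 F160819 (iv F153990)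
theorem F161886 : act 3 n34934 = n34445 := d25_1 D34934 F159735 (iv F153991)
theorem F161887 : act 6 n34934 = n34934 := d35_2 (iv F153993) D34934 (iv D34934) F153993 F145393
theorem F161888 : act 7 n34934 = n34464 := d36_2 (iv F153994) D34934 F159828
theorem F161889 : act 9 n34934 = n34422 := d38_2 (iv F153995) D34934 (iv D34422)
def n34935 : Q := act 4 n33193
theorem D34935 : act 4 n33193 = n34935 := rfl
theorem F161890 : act 0 n34935 = n34190 := d3_1 D34935 (iv D34190) (iv F153996)
theorem F161891 : act 1 n34935 = n34783 := d11_1 D34935 F160964 (iv F153997)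
theorem F161892 : act 6 n34935 = n33197 := d31_2 (iv F153999) D34935 (iv D33197)
theorem F161893 : act 8 n34935 = n34685 := d33_2 (iv F154000) D34935 (iv D34685)
theorem F161894 : act 9 n34935 = n34784 := d34_2 (iv F154001) D34935 (iv D34784)
def n34936 : Q := act 3 n33194
theorem D34936 : act 3 n33194 = n34936 := rfl
theorem F161895 : act 0 n34936 = n34192 := d2_1 D34936 (iv D34192) (iv F154002)
theorem F161896 : act 1 n34936 = n34771 := d10_1 D34936 F160903 (iv F154003)
theorem F161897 : act 5 n34936 = n34442 := d25_2 (iv F154004) D34936 F159719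
theorem F161898 : act 6 n34936 = n33198 := d26_2 (iv F154005) D34936 (iv D33198)
theorem F161899 : act 7 n34936 = n34490 := d27_2 (iv F154006) D34936 F159916
theorem F161900 : act 8 n34936 = n34687 := d28_2 (iv F154007) D34936 (iv D34687)
theorem F161901 : act 9 n34683 = n34936 := d44_0 F161900 F160543 (iv D32859) (iv F152223) D34683
def n34937 : Q := act 9 n33194
theorem D34937 : act 9 n33194 = n34937 := rfl
theorem F161902 : act 0 n34937 = n34193 := d8_1 D34937 (iv D34193) (iv F154002)
theorem F161903 : act 1 n34937 = n34761 := d16_1 D34937 F160840 (iv F154003)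
theorem F161904 : act 3 n34937 = n34683 := d29_1 D34937 F161901 (iv D34936)
theorem F161905 : act 4 n34937 = n33195 := d34_1 D34937 (iv D33195) D33194
theorem F161906 : act 5 n34937 = n34672 := d38_1 D34937 (iv D34672) (iv F154004)
theorem F161907 : act 6 n34937 = n33199 := d41_1 D34937 (iv D33199) (iv F154005)
theorem F161908 : act 7 n34937 = n34694 := d43_1 D34937 (iv D34694) (iv F154006)
theorem F161909 : act 8 n34937 = n34470 := d44_1 D34937 F159849 D34489 (iv F159914) (iv F154007)
def n34938 : Q := act 8 n33195
theorem D34938 : act 8 n33195 = n34938 := rfl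
theorem F161910 : act 0 n34938 = n34194 := d7_1 D34938 (iv D34194) (iv F154008)
theorem F161911 : act 1 n34938 = n34749 := d15_1 D34938 F160754 (iv F154009)
theorem F161912 : act 3 n34938 = n34654 := d28_1 D34938 F160419 (iv F154010)
theorem F161913 : act 4 n34938 = n34470 := d33_1 D34938 (iv F161909) F161905
theorem F161914 : act 5 n34938 = n34454 := d37_1 D34938 F159782 F152070 (iv F145409) (iv F154011)
theorem F161915 : act 6 n34938 = n33200 := d40_1 D34938 (iv D33200) (iv F154012)
theorem F161916 : act 7 n34938 = n34676 := d42_1 D34938 F161848 F161847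
theorem F161917 : act 9 n34938 = n34461 := d44_2 D33195 D34938 F159816 (iv D32850) (iv F145404)
def n34939 : Q := act 4 n33196
theorem D34939 : act 4 n33196 = n34939 := rfl
theorem F161918 : act 0 n34939 = n34195 := d3_1 D34939 (iv D34195) (iv F154013)
theorem F161919 : act 1 n34939 = n34512 := d11_1 D34939 F160017 (iv F154014)
theorem F161920 : act 2 n34939 = n33197 := d18_1 D34939 (iv D33197) (iv F154015)
theorem F161921 : act 5 n34939 = n34939 := d30_2 D33196 D34939 (iv D34939) (iv D33196) F145413
theorem F161922 : act 7 n34939 = n34939 := d32_2 F154016 D34939 (iv D34939)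
theorem F161923 : act 8 n34939 = n34510 := d33_2 (iv F154017) D34939 F160011
theorem F161924 : act 9 n34939 = n34707 := d34_2 (iv F154018) D34939 (iv D34707)
def n34940 : Q := act 3 n33197
theorem D34940 : act 3 n33197 = n34940 := rfl
theorem F161925 : act 0 n34940 = n34197 := d2_1 D34940 (iv D34197) (iv F154019)
theorem F161926 : act 1 n34940 = n34766 := d10_1 D34940 F160872 (iv F154020)
theorem F161927 : act 4 n34940 = n33198 := d24_2 D33197 D34940 (iv D33198) (iv D31318) (iv F145419)
theorem F161928 : act 5 n34940 = n34940 := d25_2 F154021 D34940 (iv D34940)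
theorem F161929 : act 7 n34940 = n34940 := d27_2 F154022 D34940 (iv D34940)
theorem F161930 : act 8 n34940 = n34698 := d28_2 (iv F154023) D34940 F160577
theorem F161931 : act 9 n34940 = n33204 := d29_2 (iv F154024) D34940 F154067
def n34941 : Q := act 2 n33198
theorem D34941 : act 2 n33198 = n34941 := rfl
theorem F161932 : act 0 n34941 = n34198 := d1_1 D34941 (iv D34198) (iv F154025)
theorem F161933 : act 1 n34941 = n34497 := d9_1 D34941 F159947 F151546 (iv F152997) (iv F154026)
theorem F161934 : act 5 n34941 = n33201 := d19_2 (iv F154027) D34941 (iv D33201)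
theorem F161935 : act 7 n34941 = n34941 := d21_2 F154028 D34941 (iv D34941)
theorem F161936 : act 8 n34941 = n34702 := d22_2 (iv F154029) D34941 F160588
theorem F161937 : act 9 n34941 = n34496 := d23_2 F154030 D34941 F159944
def n34942 : Q := act 5 n33202
theorem D34942 : act 5 n33202 = n34942 := rfl
theorem F161938 : act 0 n34942 = n34204 := d4_1 D34942 (iv D34204) (iv F154052)
theorem F161939 : act 1 n34942 = n34407 := d12_1 D34942 F159551 (iv F154053)
theorem F161940 : act 3 n34942 = n33203 := d25_1 D34942 (iv D33203) (iv F154054)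
theorem F161941 : act 7 n34942 = n34942 := d36_2 F154056 D34942 (iv D34942)
theorem F161942 : act 9 n34942 = n34285 := d38_2 (iv F154058) D34942 (iv D34285)
def n34943 : Q := act 8 n33203
theorem D34943 : act 8 n33203 = n34943 := rfl
theorem F161943 : act 0 n34943 = n34205 := d7_1 D34943 (iv D34205) (iv F154059)
theorem F161944 : act 1 n34943 = n34410 := d15_1 D34943 (iv D34410) (iv F154060)
theorem F161945 : act 2 n34943 = n33204 := d22_1 D34943 (iv D33204) (iv F154061)
theorem F161946 : act 4 n34943 = n34496 := d33_1 D34943 F159946 (iv F154062)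
theorem F161947 : act 5 n34943 = n34943 := d37_1 D34943 (iv D34943) (iv D33203) F145466 D33203
theorem F161948 : act 7 n34943 = n34943 := d42_1 D34943 (iv D34943) F154063
def n34944 : Q := act 8 n33208
theorem D34944 : act 8 n33208 = n34944 := rfl
theorem F161949 : act 0 n34944 = n33211 := d7_1 D34944 (iv D33211) (iv F154095)
theorem F161950 : act 1 n34944 = n34207 := d15_1 D34944 (iv D34207) (iv F154096)
theorem F161951 : act 2 n34944 = n33873 := d22_1 D34944 F160977 F160971
theorem F161952 : act 3 n34944 = n33217 := d28_1 D34944 (iv D33217) (iv F154097)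
theorem F161953 : act 4 n34944 = n34208 := d33_1 D34944 (iv D34208) (iv F154098)
theorem F161954 : act 5 n34944 = n33871 := d37_1 D34944 (iv D33871) (iv F153433) F153436 (iv F154099)
theorem F161955 : act 6 n34944 = n34944 := d40_1 D34944 (iv D34944) F154100
theorem F161956 : act 7 n34944 = n34944 := d42_1 D34944 (iv D34944) F154101
theorem F161957 : act 9 n34944 = n34944 := d44_2 D33208 D34944 (iv D34944) (iv D33208) F145538
def n34945 : Q := act 8 n33210
theorem D34945 : act 8 n33210 = n34945 := rfl
theorem F161958 : act 0 n34945 = n34208 := d7_1 D34945 (iv D34208) (iv F154109)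
theorem F161959 : act 1 n34945 = n33217 := d15_1 D34945 (iv D33217) (iv F154110)
theorem F161960 : act 2 n34945 = n34697 := d22_1 D34945 F160574 (iv F154111)
theorem F161961 : act 3 n34945 = n34207 := d28_1 D34945 (iv D34207) (iv F154112)
theorem F161962 : act 4 n34945 = n33211 := d33_1 D34945 (iv D33211) (iv F154113)
theorem F161963 : act 5 n34945 = n34504 := d37_1 D34945 (iv D34504) (iv F158315) F158318 (iv F154114)
theorem F161964 : act 6 n34945 = n34945 := d40_1 D34945 (iv D34945) F154115
theorem F161965 : act 7 n34945 = n34945 := d42_1 D34945 (iv D34945) F154116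
theorem F161966 : act 9 n34945 = n34945 := d44_2 D33210 D34945 (iv D34945) (iv D33210) F145605
def n34946 : Q := act 5 n33219
theorem D34946 : act 5 n33219 = n34946 := rfl
theorem F161967 : act 0 n34946 = n33942 := d4_1 D34946 (iv D33942) (iv F154177)
theorem F161968 : act 1 n34946 = n33220 := d12_1 D34946 (iv D33220) (iv F154178)
theorem F161969 : act 2 n34946 = n34211 := d19_1 D34946 (iv D34211) (iv F154179)
theorem F161970 : act 3 n34946 = n34946 := d25_1 D34946 (iv D34946) F154180
theorem F161971 : act 6 n34946 = n34542 := d35_2 D33219 D34946 (iv D34542) (iv D32695) (iv F145728)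
theorem F161972 : act 8 n34946 = n34272 := d37_2 (iv F154182) D34946 (iv D34272) (iv D32406) F145769
theorem F161973 : act 9 n34946 = n34085 := d38_2 (iv F154183) D34946 (iv D34085)
def n34947 : Q := act 7 n33219
theorem D34947 : act 7 n33219 = n34947 := rfl
theorem F161974 : act 0 n34947 = n33941 := d6_1 D34947 F157850 (iv F154177)
theorem F161975 : act 1 n34947 = n33221 := d14_1 D34947 (iv D33221) (iv F154178)
theorem F161976 : act 2 n34947 = n34212 := d21_1 D34947 (iv D34212) (iv F154179)
theorem F161977 : act 3 n34947 = n34947 := d27_1 D34947 (iv D34947) F154180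
theorem F161978 : act 4 n34947 = n33660 := d32_1 D34947 (iv D33660) (iv F154181)
theorem F161979 : act 6 n34947 = n33649 := d39_1 D34947 (iv D33649) (iv D31746) (iv F145729) D33219
theorem F161980 : act 8 n34947 = n33227 := d42_2 (iv F154182) D34947 (iv D33227)
theorem F161981 : act 9 n34947 = n34086 := d43_2 (iv F154183) D34947 (iv D34086)
def n34948 : Q := act 4 n33220
theorem D34948 : act 4 n33220 = n34948 := rfl
theorem F161982 : act 0 n34948 = n33239 := d3_1 D34948 (iv D33239) (iv F154184)
theorem F161983 : act 2 n34948 = n33222 := d18_1 D34948 (iv D33222) (iv F154185)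
theorem F161984 : act 5 n34948 = n33661 := d30_2 D33220 D34948 (iv D33661) (iv D31756) (iv F145735)
theorem F161985 : act 6 n34948 = n34544 := d31_2 (iv F154187) D34948 (iv D34544)
theorem F161986 : act 8 n34948 = n34331 := d33_2 (iv F154188) D34948 F159318
theorem F161987 : act 9 n34948 = n34087 := d34_2 (iv F154189) D34948 (iv D34087)
def n34949 : Q := act 7 n33220
theorem D34949 : act 7 n33220 = n34949 := rfl
theorem F161988 : act 0 n34949 = n33240 := d6_1 D34949 (iv D33240) (iv F154184)
theorem F161989 : act 2 n34949 = n33223 := d21_1 D34949 (iv D33223) (iv F154185)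
theorem F161990 : act 3 n34949 = n34949 := d27_1 D34949 (iv D34949) F154186
theorem F161991 : act 5 n34949 = n33221 := d36_1 D34949 (iv D33221) D33220
theorem F161992 : act 8 n34949 = n34384 := d42_2 (iv F154188) D34949 F159476
theorem F161993 : act 9 n34949 = n34088 := d43_2 (iv F154189) D34949 (iv D34088)
def n34950 : Q := act 7 n33222
theorem D34950 : act 7 n33222 = n34950 := rfl
theorem F161994 : act 0 n34950 = n33242 := d6_1 D34950 (iv D33242) (iv F154197)
theorem F161995 : act 1 n34950 = n34215 := d14_1 D34950 (iv D34215) (iv F154198)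
theorem F161996 : act 3 n34950 = n33549 := d27_1 D34950 (iv D33549) (iv F154199)
theorem F161997 : act 4 n34950 = n33223 := d32_1 D34950 (iv D33223) D33222
theorem F161998 : act 5 n34950 = n33663 := d36_1 D34950 (iv D33663) (iv F154200)
theorem F161999 : act 9 n34950 = n34090 := d43_2 (iv F154202) D34950 (iv D34090)
def n34951 : Q := act 8 n33222
theorem D34951 : act 8 n33222 = n34951 := rfl
theorem F162000 : act 0 n34951 = n33243 := d7_1 D34951 (iv D33243) (iv F154197)
theorem F162001 : act 1 n34951 = n33710 := d15_1 D34951 F156693 (iv F154198)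
theorem F162002 : act 2 n34951 = n34331 := d22_1 D34951 (iv F161986) F161983
theorem F162003 : act 3 n34951 = n33550 := d28_1 D34951 (iv D33550) (iv F154199)
theorem F162004 : act 4 n34951 = n33224 := d33_1 D34951 (iv D33224) D33222
theorem F162005 : act 5 n34951 = n34326 := d37_1 D34951 (iv D34326) F156496 (iv D33664) (iv F154200)
theorem F162006 : act 6 n34951 = n34547 := d40_1 D34951 (iv D34547) (iv F154201)
theorem F162007 : act 9 n34113 = n34951 := d38_0 F162005 (iv F159305) (iv F158518)
def n34952 : Q := act 6 n33223
theorem D34952 : act 6 n33223 = n34952 := rfl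
theorem F162008 : act 0 n34952 = n33244 := d5_1 D34952 (iv D33244) (iv F154203)
theorem F162009 : act 1 n34952 = n34216 := d13_1 D34952 (iv D34216) (iv F154204)
theorem F162010 : act 3 n34952 = n33225 := d26_1 D34952 (iv D33225) (iv F154205)
theorem F162011 : act 5 n34952 = n33655 := d35_1 D34952 (iv D33655) F147771 (iv F145747) (iv F154206)
theorem F162012 : act 7 n34952 = n34548 := d39_2 D33223 D34952 (iv D34548) (iv D32699) (iv F145741)
theorem F162013 : act 9 n34952 = n34092 := d41_2 (iv F154207) D34952 (iv D34092)
def n34953 : Q := act 8 n33223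
theorem D34953 : act 8 n33223 = n34953 := rfl
theorem F162014 : act 0 n34953 = n33245 := d7_1 D34953 (iv D33245) (iv F154203)
theorem F162015 : act 1 n34953 = n33823 := d15_1 D34953 F157204 (iv F154204)
theorem F162016 : act 2 n34953 = n34384 := d22_1 D34953 (iv F161992) F161989
theorem F162017 : act 3 n34953 = n33226 := d28_1 D34953 (iv D33226) (iv F154205)
theorem F162018 : act 5 n34953 = n33229 := d37_1 D34953 (iv D33229) F145782 (iv F145748) (iv F154206)
theorem F162019 : act 7 n34953 = n33224 := d42_1 D34953 (iv D33224) D33223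
theorem F162020 : act 9 n34179 = n34953 := d43_0 F162019 (iv F154214) D34179
def n34954 : Q := act 8 n33225
theorem D34954 : act 8 n33225 = n34954 := rfl
theorem F162021 : act 0 n34954 = n33247 := d7_1 D34954 (iv D33247) (iv F154215)
theorem F162022 : act 1 n34954 = n33824 := d15_1 D34954 F157209 (iv F154216)
theorem F162023 : act 2 n34954 = n34954 := d22_1 D34954 (iv D34954) F154217
theorem F162024 : act 4 n34954 = n33553 := d33_1 D34954 (iv D33553) (iv F154218)
theorem F162025 : act 6 n34954 = n33226 := d40_1 D34954 (iv D33226) D33225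
theorem F162026 : act 7 n34954 = n34550 := d42_1 D34954 (iv D34550) (iv F154220)
theorem F162027 : act 9 n34180 = n34954 := d41_0 F162025 (iv F154228) D34180
def n34955 : Q := act 8 n33228
theorem D34955 : act 8 n33228 = n34955 := rfl
theorem F162028 : act 0 n34955 = n33255 := d7_1 D34955 (iv D33255) (iv F154237)
theorem F162029 : act 1 n34955 = n33874 := d15_1 D34955 F157460 (iv F154238)
theorem F162030 : act 2 n34955 = n34383 := d22_1 D34955 (iv D34383) (iv F154239)
theorem F162031 : act 3 n34955 = n33230 := d28_1 D34955 (iv D33230) (iv F154240)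
theorem F162032 : act 4 n34955 = n34382 := d33_1 D34955 (iv D34382) (iv F154241)
theorem F162033 : act 6 n34955 = n33229 := d40_1 D34955 (iv D33229) D33228
theorem F162034 : act 7 n34955 = n34955 := d42_1 D34955 (iv D34955) F154243
theorem F162035 : act 9 n34202 = n34955 := d41_0 F162033 (iv F154251) D34202
def n34956 : Q := act 5 n33230
theorem D34956 : act 5 n33230 = n34956 := rfl
theorem F162036 : act 0 n34956 = n33257 := d4_1 D34956 (iv D33257) (iv F154252)
theorem F162037 : act 1 n34956 = n33875 := d12_1 D34956 (iv D33875) (iv F154253)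
theorem F162038 : act 2 n34956 = n34956 := d19_1 D34956 (iv D34956) F154254
theorem F162039 : act 4 n34956 = n33882 := d30_1 D34956 (iv D33882) F148793 F145819 (iv F154255)
theorem F162040 : act 7 n34956 = n34956 := d36_2 F154257 D34956 (iv D34956)
theorem F162041 : act 8 n34956 = n33958 := d37_2 D33230 D34956 (iv D33958) (iv D32083) (iv F145795)
theorem F162042 : act 9 n34956 = n34203 := d38_2 F154258 D34956 (iv D34203)
def n34957 : Q := act 4 n33231
theorem D34957 : act 4 n33231 = n34957 := rfl
theorem F162043 : act 0 n34957 = n34544 := d3_1 D34957 (iv D34544) (iv F154259)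
theorem F162044 : act 1 n34957 = n34598 := d11_1 D34957 F160276 (iv F154260)
theorem F162045 : act 2 n34957 = n33233 := d18_1 D34957 (iv D33233) (iv F154261)
theorem F162046 : act 5 n34957 = n33668 := d30_2 D33231 D34957 (iv D33668) (iv D31763) (iv F145825)
theorem F162047 : act 6 n34957 = n33239 := d31_2 (iv F154263) D34957 (iv D33239)
theorem F162048 : act 9 n34957 = n33650 := d34_2 (iv F154264) D34957 (iv D33650)
def n34958 : Q := act 7 n33231
theorem D34958 : act 7 n33231 = n34958 := rfl
theorem F162049 : act 0 n34958 = n34545 := d6_1 D34958 (iv D34545) (iv F154259)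
theorem F162050 : act 1 n34958 = n34734 := d14_1 D34958 (iv D34734) (iv F154260)
theorem F162051 : act 2 n34958 = n33234 := d21_1 D34958 (iv D33234) (iv F154261)
theorem F162052 : act 3 n34958 = n34958 := d27_1 D34958 (iv D34958) F154262
theorem F162053 : act 5 n34958 = n33232 := d36_1 D34958 (iv D33232) D33231
theorem F162054 : act 9 n34958 = n33651 := d43_2 (iv F154264) D34958 (iv D33651)
def n34959 : Q := act 8 n33231
theorem D34959 : act 8 n33231 = n34959 := rfl
theorem F162055 : act 0 n34959 = n34385 := d7_1 D34959 F159480 (iv F154259)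
theorem F162056 : act 1 n34959 = n34726 := d15_1 D34959 F160665 (iv F154260)
theorem F162057 : act 2 n34959 = n33235 := d22_1 D34959 (iv D33235) (iv F154261)
theorem F162058 : act 3 n34959 = n34959 := d28_1 D34959 (iv D34959) F154262
theorem F162059 : act 5 n34959 = n34959 := d37_1 D34959 (iv D34959) (iv D33231) F145826 D33231
theorem F162060 : act 6 n34959 = n33241 := d40_1 D34959 (iv D33241) (iv F154263)
def n34960 : Q := act 7 n33233
theorem D34960 : act 7 n33233 = n34960 := rfl
theorem F162061 : act 0 n34960 = n34546 := d6_1 D34960 (iv D34546) (iv F154273)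
theorem F162062 : act 1 n34960 = n33296 := d14_1 D34960 (iv D33296) (iv F154274)
theorem F162063 : act 3 n34960 = n33576 := d27_1 D34960 (iv D33576) (iv F154275)
theorem F162064 : act 4 n34960 = n33234 := d32_1 D34960 (iv D33234) D33233
theorem F162065 : act 5 n34960 = n33671 := d36_1 D34960 (iv D33671) (iv F154276)
theorem F162066 : act 9 n34960 = n33653 := d43_2 (iv F154278) D34960 (iv D33653)
def n34961 : Q := act 8 n33233
theorem D34961 : act 8 n33233 = n34961 := rfl
theorem F162067 : act 0 n34961 = n34547 := d7_1 D34961 (iv D34547) (iv F154273)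
theorem F162068 : act 1 n34961 = n33297 := d15_1 D34961 (iv D33297) (iv F154274)
theorem F162069 : act 3 n34961 = n33577 := d28_1 D34961 (iv D33577) (iv F154275)
theorem F162070 : act 4 n34961 = n33235 := d33_1 D34961 (iv D33235) D33233
theorem F162071 : act 6 n34961 = n33243 := d40_1 D34961 (iv D33243) (iv F154277)
def n34962 : Q := act 6 n33234
theorem D34962 : act 6 n33234 = n34962 := rfl
theorem F162072 : act 0 n34962 = n34548 := d5_1 D34962 (iv D34548) (iv F154279)
theorem F162073 : act 1 n34962 = n33298 := d13_1 D34962 (iv D33298) (iv F154280)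
theorem F162074 : act 3 n34962 = n33236 := d26_1 D34962 (iv D33236) (iv F154281)
theorem F162075 : act 5 n34962 = n34092 := d35_1 D34962 (iv D34092) F150017 (iv F145837) (iv F154282)
theorem F162076 : act 7 n34962 = n33244 := d39_2 D33234 D34962 (iv D33244) (iv D31385) (iv F145831)
theorem F162077 : act 9 n34962 = n33655 := d41_2 (iv F154283) D34962 (iv D33655)
def n34963 : Q := act 8 n33234
theorem D34963 : act 8 n33234 = n34963 := rfl
theorem F162078 : act 0 n34963 = n34549 := d7_1 D34963 (iv D34549) (iv F154279)
theorem F162079 : act 1 n34963 = n33299 := d15_1 D34963 (iv D33299) (iv F154280)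
theorem F162080 : act 3 n34963 = n33237 := d28_1 D34963 (iv D33237) (iv F154281)
theorem F162081 : act 5 n34963 = n34963 := d37_1 D34963 (iv D34963) F154282 F145838 (iv F154282)
theorem F162082 : act 7 n34963 = n33235 := d42_1 D34963 (iv D33235) D33234
def n34964 : Q := act 9 n33235
theorem D34964 : act 9 n33235 = n34964 := rfl
theorem F162083 : act 0 n34964 = n34168 := d8_1 D34964 F158691 (iv F154284)
theorem F162084 : act 1 n34964 = n33300 := d16_1 D34964 (iv D33300) (iv F154285)
theorem F162085 : act 3 n34964 = n33238 := d29_1 D34964 (iv D33238) (iv F154286)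
theorem F162086 : act 5 n34964 = n34964 := d38_1 D34964 (iv D34964) F154287
theorem F162087 : act 6 n34964 = n33246 := d41_1 D34964 (iv D33246) (iv F154288)
theorem F162088 : act 8 n34964 = n33657 := d44_1 D34964 (iv D33657) (iv D31751) (iv F145832) D33235
def n34965 : Q := act 8 n33236
theorem D34965 : act 8 n33236 = n34965 := rfl
theorem F162089 : act 0 n34965 = n34550 := d7_1 D34965 (iv D34550) (iv F154289)
theorem F162090 : act 1 n34965 = n33301 := d15_1 D34965 (iv D33301) (iv F154290)
theorem F162091 : act 2 n34965 = n34965 := d22_1 D34965 (iv D34965) F154291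
theorem F162092 : act 4 n34965 = n33581 := d33_1 D34965 (iv D33581) (iv F154292)
theorem F162093 : act 6 n34965 = n33237 := d40_1 D34965 (iv D33237) D33236
theorem F162094 : act 7 n34965 = n33247 := d42_1 D34965 (iv D33247) (iv F154294)
def n34966 : Q := act 9 n33237
theorem D34966 : act 9 n33237 = n34966 := rfl
theorem F162095 : act 0 n34966 = n34169 := d8_1 D34966 F158697 (iv F154296)
theorem F162096 : act 1 n34966 = n33302 := d16_1 D34966 (iv D33302) (iv F154297)
theorem F162097 : act 2 n34966 = n34966 := d23_1 D34966 (iv D34966) F154298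
theorem F162098 : act 4 n34966 = n33582 := d34_1 D34966 (iv D33582) (iv F154299)
theorem F162099 : act 5 n34966 = n34966 := d38_1 D34966 (iv D34966) F154300
theorem F162100 : act 7 n34966 = n33238 := d43_1 D34966 (iv D33238) (iv F154301)
theorem F162101 : act 8 n34966 = n33659 := d44_1 D34966 (iv D33659) (iv D31753) (iv F145845) D33237
def n34967 : Q := act 3 n33239
theorem D34967 : act 3 n33239 = n34967 := rfl
theorem F162102 : act 1 n34967 = n34309 := d10_1 D34967 F159242 (iv F154309)
theorem F162103 : act 2 n34967 = n33617 := d17_1 D34967 (iv D33617) F147602 (iv F145862) (iv F154310)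
theorem F162104 : act 4 n34967 = n34967 := d24_2 D33239 D34967 (iv D34967) (iv D33239) F145854
theorem F162105 : act 5 n34967 = n34227 := d25_2 (iv F154311) D34967 F158917
def n34968 : Q := act 7 n33239
theorem D34968 : act 7 n33239 = n34968 := rfl
theorem F162106 : act 1 n34968 = n34596 := d14_1 D34968 F160273 (iv F154309)
theorem F162107 : act 2 n34968 = n33242 := d21_1 D34968 (iv D33242) (iv F154310)
theorem F162108 : act 4 n34968 = n33240 := d32_1 D34968 (iv D33240) D33239
theorem F162109 : act 5 n34968 = n34519 := d36_1 D34968 F160042 (iv F154311)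
def n34969 : Q := act 8 n33239
theorem D34969 : act 8 n33239 = n34969 := rfl
theorem F162110 : act 0 n34969 = n34331 := d7_1 D34969 (iv F161986) F161982
theorem F162111 : act 1 n34969 = n34561 := d15_1 D34969 F160169 (iv F154309)
theorem F162112 : act 2 n34969 = n33243 := d22_1 D34969 (iv D33243) (iv F154310)
theorem F162113 : act 4 n34969 = n33241 := d33_1 D34969 (iv D33241) D33239
theorem F162114 : act 5 n34969 = n33323 := d37_1 D34969 (iv D33323) F146231 D32668 (iv F154311)
def n34970 : Q := act 6 n33240
theorem D34970 : act 6 n33240 = n34970 := rfl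
theorem F162115 : act 1 n34970 = n34732 := d13_1 D34970 (iv D34732) (iv F154312)
theorem F162116 : act 2 n34970 = n33244 := d20_1 D34970 (iv D33244) (iv F154313)
theorem F162117 : act 3 n34970 = n34970 := d26_1 D34970 (iv D34970) F154314
theorem F162118 : act 5 n34970 = n34556 := d35_1 D34970 (iv D34556) F151816 (iv F145859) (iv F154315)
def n34971 : Q := act 8 n33240
theorem D34971 : act 8 n33240 = n34971 := rfl
theorem F162119 : act 0 n34971 = n34384 := d7_1 D34971 (iv F161992) F161988
theorem F162120 : act 1 n34971 = n34724 := d15_1 D34971 F160658 (iv F154312)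
theorem F162121 : act 2 n34971 = n33245 := d22_1 D34971 (iv D33245) (iv F154313)
theorem F162122 : act 3 n34971 = n34971 := d28_1 D34971 (iv D34971) F154314
theorem F162123 : act 5 n34971 = n33250 := d37_1 D34971 (iv D33250) F145889 (iv F145860) (iv F154315)
theorem F162124 : act 7 n34971 = n33241 := d42_1 D34971 (iv D33241) D33240
def n34972 : Q := act 9 n33241
theorem D34972 : act 9 n33241 = n34972 := rfl
theorem F162125 : act 0 n34972 = n34178 := d8_1 D34972 F158729 (iv F154316)
theorem F162126 : act 1 n34972 = n34727 := d16_1 D34972 (iv D34727) (iv F154317)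
theorem F162127 : act 2 n34972 = n33246 := d23_1 D34972 (iv D33246) (iv F154318)
theorem F162128 : act 3 n34972 = n34972 := d29_1 D34972 (iv D34972) F154319
theorem F162129 : act 5 n34972 = n33251 := d38_1 D34972 (iv D33251) (iv F154320)
def n34973 : Q := act 6 n33242
theorem D34973 : act 6 n33242 = n34973 := rfl
theorem F162130 : act 1 n34973 = n33353 := d13_1 D34973 (iv D33353) (iv F154321)
theorem F162131 : act 3 n34973 = n33623 := d26_1 D34973 (iv D33623) (iv F154322)
theorem F162132 : act 4 n34973 = n33244 := d31_1 D34973 (iv D33244) (iv F154323)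
def n34974 : Q := act 8 n33242
theorem D34974 : act 8 n33242 = n34974 := rfl
theorem F162133 : act 1 n34974 = n33354 := d15_1 D34974 (iv D33354) (iv F154321)
theorem F162134 : act 3 n34974 = n33624 := d28_1 D34974 (iv D33624) (iv F154322)
theorem F162135 : act 4 n34974 = n33245 := d33_1 D34974 (iv D33245) (iv F154323)
theorem F162136 : act 7 n34974 = n33243 := d42_1 D34974 (iv D33243) D33242
def n34975 : Q := act 5 n33243
theorem D34975 : act 5 n33243 = n34975 := rfl
theorem F162137 : act 0 n34975 = n34326 := d4_1 D34975 (iv F162005) F162000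
theorem F162138 : act 1 n34975 = n33355 := d12_1 D34975 (iv D33355) (iv F154325)
theorem F162139 : act 2 n34975 = n33323 := d19_1 D34975 (iv F162114) F162112
theorem F162140 : act 3 n34975 = n33625 := d25_1 D34975 (iv D33625) (iv F154326)
theorem F162141 : act 4 n34975 = n33254 := d30_1 D34975 (iv D33254) F145908 (iv F145869) (iv F154327)
theorem F162142 : act 8 n34975 = n33320 := d37_2 D33243 D34975 F154779 F151677 (iv F145863)
theorem F162143 : act 9 n33978 = n34975 := d34_0 F162141 F154390 (iv F158027)
def n34976 : Q := act 9 n33243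
theorem D34976 : act 9 n33243 = n34976 := rfl
theorem F162144 : act 0 n34976 = n34113 := d8_1 D34976 F162007 F162000
theorem F162145 : act 1 n34976 = n33356 := d16_1 D34976 (iv D33356) (iv F154325)
theorem F162146 : act 3 n34976 = n33626 := d29_1 D34976 (iv D33626) (iv F154326)
theorem F162147 : act 4 n34976 = n33246 := d34_1 D34976 (iv D33246) (iv F154327)
theorem F162148 : act 5 n34976 = n33978 := d38_1 D34976 F162143 (iv D34975)
def n34977 : Q := act 8 n33244
theorem D34977 : act 8 n33244 = n34977 := rfl
theorem F162149 : act 1 n34977 = n33357 := d15_1 D34977 (iv D33357) (iv F154328)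
theorem F162150 : act 3 n34977 = n33247 := d28_1 D34977 (iv D33247) (iv F154329)
theorem F162151 : act 6 n34977 = n33245 := d40_1 D34977 (iv D33245) D33244
def n34978 : Q := act 9 n33245
theorem D34978 : act 9 n33245 = n34978 := rfl
theorem F162152 : act 0 n34978 = n34179 := d8_1 D34978 F162020 F162014
theorem F162153 : act 1 n34978 = n33358 := d16_1 D34978 (iv D33358) (iv F154331)
theorem F162154 : act 3 n34978 = n33248 := d29_1 D34978 (iv D33248) (iv F154332)
theorem F162155 : act 5 n34978 = n33256 := d38_1 D34978 (iv D33256) (iv F154333)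
theorem F162156 : act 7 n34978 = n33246 := d43_1 D34978 (iv D33246) (iv F154334)
def n34979 : Q := act 5 n33247
theorem D34979 : act 5 n33247 = n34979 := rfl
theorem F162157 : act 1 n34979 = n33359 := d12_1 D34979 (iv D33359) (iv F154339)
theorem F162158 : act 2 n34979 = n34979 := d19_1 D34979 (iv D34979) F154340
theorem F162159 : act 6 n34979 = n33257 := d35_2 (iv F154342) D34979 (iv D33257) F145928 (iv F145877)
theorem F162160 : act 8 n34979 = n34565 := d37_2 D33247 D34979 (iv D34565) (iv D32713) (iv F145873)
def n34980 : Q := act 9 n33247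
theorem D34980 : act 9 n33247 = n34980 := rfl
theorem F162161 : act 0 n34980 = n34180 := d8_1 D34980 F162027 F162021
theorem F162162 : act 1 n34980 = n33360 := d16_1 D34980 (iv D33360) (iv F154339)
theorem F162163 : act 2 n34980 = n34980 := d23_1 D34980 (iv D34980) F154340
theorem F162164 : act 4 n34980 = n33630 := d34_1 D34980 (iv D33630) (iv F154341)
theorem F162165 : act 6 n34980 = n33248 := d41_1 D34980 (iv D33248) (iv F154342)
def n34981 : Q := act 8 n33249
theorem D34981 : act 8 n33249 = n34981 := rfl
theorem F162166 : act 0 n34981 = n34383 := d7_1 D34981 (iv D34383) (iv F154349)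
theorem F162167 : act 1 n34981 = n34723 := d15_1 D34981 (iv D34723) (iv F154350)
theorem F162168 : act 2 n34981 = n33255 := d22_1 D34981 (iv D33255) (iv F154351)
theorem F162169 : act 3 n34981 = n34981 := d28_1 D34981 (iv D34981) F154352
theorem F162170 : act 4 n34981 = n33361 := d33_1 D34981 (iv D33361) (iv F154353)
theorem F162171 : act 6 n34981 = n33250 := d40_1 D34981 (iv D33250) D33249
theorem F162172 : act 7 n34981 = n34981 := d42_1 D34981 (iv D34981) F154355
def n34982 : Q := act 9 n33250
theorem D34982 : act 9 n33250 = n34982 := rfl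
theorem F162173 : act 0 n34982 = n34201 := d8_1 D34982 F158802 (iv F154357)
theorem F162174 : act 1 n34982 = n34725 := d16_1 D34982 (iv D34725) (iv F154358)
theorem F162175 : act 2 n34982 = n33256 := d23_1 D34982 (iv D33256) (iv F154359)
theorem F162176 : act 3 n34982 = n34982 := d29_1 D34982 (iv D34982) F154360
theorem F162177 : act 4 n34982 = n33362 := d34_1 D34982 (iv D33362) (iv F154361)
theorem F162178 : act 7 n34982 = n33251 := d43_1 D34982 (iv D33251) (iv F154362)
theorem F162179 : act 8 n34982 = n34982 := d44_1 D34982 (iv D34982) (iv D33250) F145890 D33250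
def n34983 : Q := act 8 n33252
theorem D34983 : act 8 n33252 = n34983 := rfl
theorem F162180 : act 0 n34983 = n34382 := d7_1 D34983 (iv D34382) (iv F154370)
theorem F162181 : act 1 n34983 = n33376 := d15_1 D34983 (iv D33376) (iv F154371)
theorem F162182 : act 2 n34983 = n33361 := d22_1 D34983 (iv D33361) (iv F154372)
theorem F162183 : act 3 n34983 = n33259 := d28_1 D34983 (iv D33259) (iv F154373)
theorem F162184 : act 4 n34983 = n33255 := d33_1 D34983 (iv D33255) (iv F154374)
theorem F162185 : act 6 n34983 = n33253 := d40_1 D34983 (iv D33253) D33252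
theorem F162186 : act 7 n34983 = n34983 := d42_1 D34983 (iv D34983) F154376
theorem F162187 : act 9 n33392 = n34983 := d41_0 F162185 (iv F154384) (iv F155112)
def n34984 : Q := act 5 n33253
theorem D34984 : act 5 n33253 = n34984 := rfl
theorem F162188 : act 0 n34984 = n34328 := d4_1 D34984 F159312 (iv F154378)
theorem F162189 : act 1 n34984 = n33377 := d12_1 D34984 (iv D33377) (iv F154379)
theorem F162190 : act 2 n34984 = n33325 := d19_1 D34984 F154798 (iv F154380)
theorem F162191 : act 3 n34984 = n33260 := d25_1 D34984 (iv D33260) (iv F154381)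
theorem F162192 : act 7 n34984 = n33254 := d36_2 (iv F154383) D34984 (iv D33254)
theorem F162193 : act 8 n34984 = n33321 := d37_2 D33253 D34984 F154783 F146228 (iv F145902)
theorem F162194 : act 9 n34984 = n33775 := d38_2 F154384 D34984 F156954
def n34985 : Q := act 6 n33254
theorem D34985 : act 6 n33254 = n34985 := rfl
theorem F162195 : act 0 n34985 = n34248 := d5_1 D34985 F159021 (iv F154385)
theorem F162196 : act 1 n34985 = n33379 := d13_1 D34985 (iv D33379) (iv F154386)
theorem F162197 : act 2 n34985 = n33277 := d20_1 D34985 F154531 (iv F154387)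
theorem F162198 : act 3 n34985 = n33261 := d26_1 D34985 (iv D33261) (iv F154388)
theorem F162199 : act 5 n34985 = n34985 := d35_1 D34985 (iv D34985) (iv D33254) F145909 D33254
theorem F162200 : act 8 n34985 = n33273 := d40_2 (iv F154389) D34985 F154507
theorem F162201 : act 9 n34985 = n33972 := d41_2 (iv F154390) D34985 F157999
def n34986 : Q := act 5 n33255
theorem D34986 : act 5 n33255 = n34986 := rfl
theorem F162202 : act 1 n34986 = n33381 := d12_1 D34986 (iv D33381) (iv F154391)
theorem F162203 : act 3 n34986 = n33257 := d25_1 D34986 (iv D33257) (iv F154392)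
theorem F162204 : act 7 n34986 = n34986 := d36_2 F154394 D34986 (iv D34986)
theorem F162205 : act 8 n34986 = n34728 := d37_2 D33255 D34986 (iv D34728) (iv D32911) (iv F145913)
def n34987 : Q := act 9 n33255
theorem D34987 : act 9 n33255 = n34987 := rfl
theorem F162206 : act 0 n34987 = n34202 := d8_1 D34987 F162035 F162028
theorem F162207 : act 1 n34987 = n33382 := d16_1 D34987 (iv D33382) (iv F154391)
theorem F162208 : act 3 n34987 = n33258 := d29_1 D34987 (iv D33258) (iv F154392)
theorem F162209 : act 4 n34987 = n33392 := d34_1 D34987 F162187 F162184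
theorem F162210 : act 6 n34987 = n33256 := d41_1 D34987 (iv D33256) (iv F154393)
theorem F162211 : act 7 n34987 = n34987 := d43_1 D34987 (iv D34987) F154394
theorem F162212 : act 8 n34987 = n34987 := d44_1 D34987 (iv D34987) (iv D33255) F145915 D33255
def n34988 : Q := act 4 n33257
theorem D34988 : act 4 n33257 = n34988 := rfl
theorem F162213 : act 0 n34988 = n33882 := d3_1 D34988 (iv F162039) F162036
theorem F162214 : act 1 n34988 = n33383 := d11_1 D34988 (iv D33383) (iv F154401)
theorem F162215 : act 2 n34988 = n34988 := d18_1 D34988 (iv D34988) F154402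
theorem F162216 : act 5 n34988 = n33262 := d30_2 D33257 D34988 (iv D33262) (iv D31404) (iv F145927)
theorem F162217 : act 7 n34988 = n34988 := d32_2 F154403 D34988 (iv D34988)
theorem F162218 : act 8 n34988 = n34730 := d33_2 (iv F154404) D34988 (iv D34730)
theorem F162219 : act 9 n33386 = n34988 := d38_0 F162216 F154439 D33386
def n34989 : Q := act 9 n33257
theorem D34989 : act 9 n33257 = n34989 := rfl
theorem F162220 : act 0 n34989 = n34203 := d8_1 D34989 (iv F162042) F162036
theorem F162221 : act 1 n34989 = n33384 := d16_1 D34989 (iv D33384) (iv F154401)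
theorem F162222 : act 2 n34989 = n34989 := d23_1 D34989 (iv D34989) F154402
theorem F162223 : act 4 n34989 = n33386 := d34_1 D34989 F162219 (iv D34988)
theorem F162224 : act 5 n34989 = n33258 := d38_1 D34989 (iv D33258) D33257
theorem F162225 : act 7 n34989 = n34989 := d43_1 D34989 (iv D34989) F154403
def n34990 : Q := act 5 n33259
theorem D34990 : act 5 n33259 = n34990 := rfl
theorem F162226 : act 0 n34990 = n34409 := d4_1 D34990 F159559 (iv F154412)
theorem F162227 : act 1 n34990 = n33386 := d12_1 D34990 (iv D33386) (iv F154413)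
theorem F162228 : act 2 n34990 = n33485 := d19_1 D34990 (iv D33485) (iv F154414)
theorem F162229 : act 4 n34990 = n33384 := d30_1 D34990 F155074 F146461 F145970 (iv F154415)
theorem F162230 : act 7 n34990 = n34990 := d36_2 F154417 D34990 (iv D34990)
theorem F162231 : act 8 n34990 = n33491 := d37_2 D33259 D34990 (iv D33491) (iv D31598) (iv F145949)
theorem F162232 : act 9 n34990 = n33383 := d38_2 F154418 D34990 F155070
def n34991 : Q := act 6 n33260
theorem D34991 : act 6 n33260 = n34991 := rfl
theorem F162233 : act 0 n34991 = n34460 := d5_1 D34991 F159811 (iv F154419)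
theorem F162234 : act 1 n34991 = n33387 := d13_1 D34991 (iv D33387) (iv F154420)
theorem F162235 : act 2 n34991 = n33442 := d20_1 D34991 F155389 (iv F154421)
theorem F162236 : act 4 n34991 = n33645 := d31_1 D34991 (iv D33645) (iv F154422)
theorem F162237 : act 8 n34991 = n33440 := d40_2 (iv F154424) D34991 (iv D33440)
theorem F162238 : act 9 n34991 = n33758 := d41_2 (iv F154425) D34991 F156882
def n34992 : Q := act 7 n33261
theorem D34992 : act 7 n33261 = n34992 := rfl
theorem F162239 : act 0 n34992 = n34419 := d6_1 D34992 F159606 (iv F154426)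
theorem F162240 : act 1 n34992 = n33389 := d14_1 D34992 (iv D33389) (iv F154427)
theorem F162241 : act 2 n34992 = n33398 := d21_1 D34992 F155150 (iv F154428)
theorem F162242 : act 4 n34992 = n33646 := d32_1 D34992 (iv D33646) (iv F154429)
theorem F162243 : act 5 n34992 = n34992 := d36_1 D34992 (iv D34992) F154430
theorem F162244 : act 8 n34992 = n33395 := d42_2 (iv F154431) D34992 (iv D33395)
theorem F162245 : act 9 n34992 = n33968 := d43_2 (iv F154432) D34992 F157982
def n34993 : Q := act 3 n33262
theorem D34993 : act 3 n33262 = n34993 := rfl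
theorem F162246 : act 0 n34993 = n33881 := d2_1 D34993 F157498 (iv F154433)
theorem F162247 : act 1 n34993 = n33392 := d10_1 D34993 (iv D33392) (iv F154434)
theorem F162248 : act 4 n34993 = n33382 := d24_2 D33262 D34993 F155064 F146461 (iv F145975)
theorem F162249 : act 6 n34993 = n33378 := d26_2 (iv F154436) D34993 F155049
theorem F162250 : act 7 n34993 = n34993 := d27_2 F154437 D34993 (iv D34993)
theorem F162251 : act 8 n34993 = n34993 := d28_2 F154438 D34993 (iv D34993)
theorem F162252 : act 9 n34993 = n33376 := d29_2 (iv F154439) D34993 F155040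
def n34994 : Q := act 4 n33263
theorem D34994 : act 4 n33263 = n34994 := rfl
theorem F162253 : act 0 n34994 = n34288 := d3_1 D34994 (iv D34288) (iv F154440)
theorem F162254 : act 1 n34994 = n34642 := d11_1 D34994 F160395 (iv F154441)
theorem F162255 : act 2 n34994 = n33265 := d18_1 D34994 (iv D33265) (iv F154442)
theorem F162256 : act 5 n34994 = n33293 := d30_2 D33263 D34994 (iv D33293) (iv D31425) (iv F145992)
theorem F162257 : act 6 n34994 = n33602 := d31_2 (iv F154444) D34994 (iv D33602)
theorem F162258 : act 9 n34994 = n33573 := d34_2 (iv F154445) D34994 (iv D33573)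
def n34995 : Q := act 7 n33263
theorem D34995 : act 7 n33263 = n34995 := rfl
theorem F162259 : act 0 n34995 = n34289 := d6_1 D34995 (iv D34289) (iv F154440)
theorem F162260 : act 1 n34995 = n34652 := d14_1 D34995 (iv D34652) (iv F154441)
theorem F162261 : act 2 n34995 = n33266 := d21_1 D34995 (iv D33266) (iv F154442)
theorem F162262 : act 3 n34995 = n34995 := d27_1 D34995 (iv D34995) F154443
theorem F162263 : act 5 n34995 = n33264 := d36_1 D34995 (iv D33264) D33263
theorem F162264 : act 9 n34995 = n33574 := d43_2 (iv F154445) D34995 (iv D33574)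
def n34996 : Q := act 8 n33263
theorem D34996 : act 8 n33263 = n34996 := rfl
theorem F162265 : act 0 n34996 = n34290 := d7_1 D34996 (iv D34290) (iv F154440)
theorem F162266 : act 1 n34996 = n34140 := d15_1 D34996 F158600 (iv F154441)
theorem F162267 : act 2 n34996 = n33267 := d22_1 D34996 (iv D33267) (iv F154442)
theorem F162268 : act 3 n34996 = n34996 := d28_1 D34996 (iv D34996) F154443
theorem F162269 : act 5 n34996 = n34996 := d37_1 D34996 (iv D34996) (iv D33263) F145993 D33263
theorem F162270 : act 6 n34996 = n33604 := d40_1 D34996 (iv D33604) (iv F154444)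
def n34997 : Q := act 7 n33265
theorem D34997 : act 7 n33265 = n34997 := rfl
theorem F162271 : act 0 n34997 = n34291 := d6_1 D34997 (iv D34291) (iv F154454)
theorem F162272 : act 1 n34997 = n33671 := d14_1 D34997 (iv D33671) (iv F154455)
theorem F162273 : act 3 n34997 = n33653 := d27_1 D34997 (iv D33653) (iv F154456)
theorem F162274 : act 4 n34997 = n33266 := d32_1 D34997 (iv D33266) D33265
theorem F162275 : act 5 n34997 = n33296 := d36_1 D34997 (iv D33296) (iv F154457)
theorem F162276 : act 9 n34997 = n33576 := d43_2 (iv F154459) D34997 (iv D33576)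
def n34998 : Q := act 8 n33265
theorem D34998 : act 8 n33265 = n34998 := rfl
theorem F162277 : act 0 n34998 = n34292 := d7_1 D34998 (iv D34292) (iv F154454)
theorem F162278 : act 1 n34998 = n33672 := d15_1 D34998 (iv D33672) (iv F154455)
theorem F162279 : act 3 n34998 = n33654 := d28_1 D34998 (iv D33654) (iv F154456)
theorem F162280 : act 4 n34998 = n33267 := d33_1 D34998 (iv D33267) D33265
theorem F162281 : act 6 n34998 = n33606 := d40_1 D34998 (iv D33606) (iv F154458)
def n34999 : Q := act 6 n33266
theorem D34999 : act 6 n33266 = n34999 := rfl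
theorem F162282 : act 0 n34999 = n34293 := d5_1 D34999 (iv D34293) (iv F154460)
theorem F162283 : act 1 n34999 = n33673 := d13_1 D34999 (iv D33673) (iv F154461)
theorem F162284 : act 3 n34999 = n33268 := d26_1 D34999 (iv D33268) (iv F154462)
theorem F162285 : act 5 n34999 = n34059 := d35_1 D34999 (iv D34059) F149915 (iv F146004) (iv F154463)
theorem F162286 : act 7 n34999 = n33607 := d39_2 D33266 D34999 (iv D33607) (iv D31705) (iv F145998)
theorem F162287 : act 9 n34999 = n33578 := d41_2 (iv F154464) D34999 (iv D33578)
def n35000 : Q := act 8 n33266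
theorem D35000 : act 8 n33266 = n35000 := rfl
theorem F162288 : act 0 n35000 = n34294 := d7_1 D35000 (iv D34294) (iv F154460)
theorem F162289 : act 1 n35000 = n33674 := d15_1 D35000 (iv D33674) (iv F154461)
theorem F162290 : act 3 n35000 = n33269 := d28_1 D35000 (iv D33269) (iv F154462)
theorem F162291 : act 5 n35000 = n35000 := d37_1 D35000 (iv D35000) F154463 F146005 (iv F154463)
theorem F162292 : act 7 n35000 = n33267 := d42_1 D35000 (iv D33267) D33266
def n35001 : Q := act 9 n33267
theorem D35001 : act 9 n33267 = n35001 := rfl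
theorem F162293 : act 0 n35001 = n34099 := d8_1 D35001 F158482 (iv F154465)
theorem F162294 : act 1 n35001 = n33675 := d16_1 D35001 (iv D33675) (iv F154466)
theorem F162295 : act 3 n35001 = n33270 := d29_1 D35001 (iv D33270) (iv F154467)
theorem F162296 : act 5 n35001 = n35001 := d38_1 D35001 (iv D35001) F154468
theorem F162297 : act 6 n35001 = n33609 := d41_1 D35001 (iv D33609) (iv F154469)
theorem F162298 : act 8 n35001 = n33580 := d44_1 D35001 (iv D33580) (iv D31684) (iv F145999) D33267
def n35002 : Q := act 8 n33268
theorem D35002 : act 8 n33268 = n35002 := rfl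
theorem F162299 : act 0 n35002 = n34295 := d7_1 D35002 (iv D34295) (iv F154470)
theorem F162300 : act 1 n35002 = n33676 := d15_1 D35002 (iv D33676) (iv F154471)
theorem F162301 : act 2 n35002 = n35002 := d22_1 D35002 (iv D35002) F154472
theorem F162302 : act 4 n35002 = n33658 := d33_1 D35002 (iv D33658) (iv F154473)
theorem F162303 : act 6 n35002 = n33269 := d40_1 D35002 (iv D33269) D33268
theorem F162304 : act 7 n35002 = n33610 := d42_1 D35002 (iv D33610) (iv F154475)
def n35003 : Q := act 9 n33269
theorem D35003 : act 9 n33269 = n35003 := rfl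
theorem F162305 : act 0 n35003 = n34171 := d8_1 D35003 F158707 (iv F154477)
theorem F162306 : act 1 n35003 = n33677 := d16_1 D35003 (iv D33677) (iv F154478)
theorem F162307 : act 2 n35003 = n35003 := d23_1 D35003 (iv D35003) F154479
theorem F162308 : act 4 n35003 = n33659 := d34_1 D35003 (iv D33659) (iv F154480)
theorem F162309 : act 5 n35003 = n35003 := d38_1 D35003 (iv D35003) F154481
theorem F162310 : act 7 n35003 = n33270 := d43_1 D35003 (iv D33270) (iv F154482)
theorem F162311 : act 8 n35003 = n33582 := d44_1 D35003 (iv D33582) (iv D31686) (iv F146012) D33269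
def n35004 : Q := act 6 n33271
theorem D35004 : act 6 n33271 = n35004 := rfl
theorem F162312 : act 0 n35004 = n33272 := d5_1 D35004 (iv D33272) D33271
theorem F162313 : act 1 n35004 = n34243 := d13_1 D35004 (iv D34243) (iv F154490)
theorem F162314 : act 2 n35004 = n33943 := d20_1 D35004 F157857 (iv F154491)
theorem F162315 : act 3 n35004 = n33393 := d26_1 D35004 (iv D33393) (iv F154492)
theorem F162316 : act 4 n35004 = n33939 := d31_1 D35004 F157838 (iv F154493)
theorem F162317 : act 5 n35004 = n34017 := d35_1 D35004 (iv D34017) (iv D32154) (iv F146217) (iv F154494)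
theorem F162318 : act 8 n35004 = n35004 := d40_2 F154496 D35004 (iv D35004)
theorem F162319 : act 9 n35004 = n33937 := d41_2 (iv F154497) D35004 F157831
def n35005 : Q := act 7 n33272
theorem D35005 : act 7 n33272 = n35005 := rfl
theorem F162320 : act 1 n35005 = n33274 := d14_1 D35005 (iv D33274) (iv F154498)
theorem F162321 : act 2 n35005 = n34086 := d21_1 D35005 (iv D34086) (iv F154499)
theorem F162322 : act 3 n35005 = n33394 := d27_1 D35005 (iv D33394) (iv F154500)
theorem F162323 : act 4 n35005 = n34054 := d32_1 D35005 (iv D34054) (iv F154501)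
theorem F162324 : act 6 n35005 = n33292 := d39_1 D35005 (iv D33292) (iv D31424) (iv F146023) D33272
theorem F162325 : act 8 n35005 = n35005 := d42_2 F154502 D35005 (iv D35005)
theorem F162326 : act 9 n35005 = n34212 := d43_2 (iv F154503) D35005 (iv D34212)
def n35006 : Q := act 4 n33273
theorem D35006 : act 4 n33273 = n35006 := rfl
theorem F162327 : act 0 n35006 = n34246 := d3_1 D35006 (iv D34246) (iv F154504)
theorem F162328 : act 2 n35006 = n33275 := d18_1 D35006 (iv D33275) (iv F154505)
theorem F162329 : act 5 n35006 = n34055 := d30_2 D33273 D35006 (iv D34055) (iv D32196) (iv F146029)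
theorem F162330 : act 6 n35006 = n33320 := d31_2 (iv F154507) D35006 (iv D33320)
theorem F162331 : act 9 n35006 = n34213 := d34_2 (iv F154508) D35006 (iv D34213)
def n35007 : Q := act 7 n33273
theorem D35007 : act 7 n33273 = n35007 := rfl
theorem F162332 : act 0 n35007 = n34247 := d6_1 D35007 (iv D34247) (iv F154504)
theorem F162333 : act 2 n35007 = n33276 := d21_1 D35007 (iv D33276) (iv F154505)
theorem F162334 : act 3 n35007 = n33395 := d27_1 D35007 (iv D33395) (iv F154506)
theorem F162335 : act 5 n35007 = n33274 := d36_1 D35007 (iv D33274) D33273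
theorem F162336 : act 9 n35007 = n34214 := d43_2 (iv F154508) D35007 (iv D34214)
def n35008 : Q := act 7 n33275
theorem D35008 : act 7 n33275 = n35008 := rfl
theorem F162337 : act 0 n35008 = n34249 := d6_1 D35008 (iv D34249) (iv F154516)
theorem F162338 : act 1 n35008 = n34090 := d14_1 D35008 (iv D34090) (iv F154517)
theorem F162339 : act 3 n35008 = n34513 := d27_1 D35008 (iv D34513) (iv F154518)
theorem F162340 : act 4 n35008 = n33276 := d32_1 D35008 (iv D33276) D33275
theorem F162341 : act 5 n35008 = n34057 := d36_1 D35008 (iv D34057) (iv F154519)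
theorem F162342 : act 9 n35008 = n34215 := d43_2 (iv F154521) D35008 (iv D34215)
def n35009 : Q := act 8 n33275
theorem D35009 : act 8 n33275 = n35009 := rfl
theorem F162343 : act 0 n35009 = n34250 := d7_1 D35009 (iv D34250) (iv F154516)
theorem F162344 : act 1 n35009 = n34091 := d15_1 D35009 (iv D34091) (iv F154517)
theorem F162345 : act 3 n35009 = n34123 := d28_1 D35009 F158547 (iv F154518)
theorem F162346 : act 4 n35009 = n33277 := d33_1 D35009 (iv D33277) D33275
theorem F162347 : act 6 n35009 = n33323 := d40_1 D35009 (iv D33323) (iv F154520)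
theorem F162348 : act 9 n35009 = n34119 := d44_2 (iv F154521) D35009 (iv D34119) (iv F156694) F156693
def n35010 : Q := act 6 n33276
theorem D35010 : act 6 n33276 = n35010 := rfl
theorem F162349 : act 0 n35010 = n34251 := d5_1 D35010 (iv D34251) (iv F154522)
theorem F162350 : act 1 n35010 = n34092 := d13_1 D35010 (iv D34092) (iv F154523)
theorem F162351 : act 3 n35010 = n33278 := d26_1 D35010 (iv D33278) (iv F154524)
theorem F162352 : act 5 n35010 = n33298 := d35_1 D35010 (iv D33298) F146118 (iv F146041) (iv F154525)
theorem F162353 : act 7 n35010 = n33324 := d39_2 D33276 D35010 (iv D33324) (iv D31449) (iv F146035)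
theorem F162354 : act 9 n35010 = n34216 := d41_2 (iv F154526) D35010 (iv D34216)
def n35011 : Q := act 8 n33276
theorem D35011 : act 8 n33276 = n35011 := rfl
theorem F162355 : act 0 n35011 = n34252 := d7_1 D35011 (iv D34252) (iv F154522)
theorem F162356 : act 1 n35011 = n34093 := d15_1 D35011 (iv D34093) (iv F154523)
theorem F162357 : act 3 n35011 = n33279 := d28_1 D35011 (iv D33279) (iv F154524)
theorem F162358 : act 5 n35011 = n35011 := d37_1 D35011 (iv D35011) F154525 F146042 (iv F154525)
theorem F162359 : act 7 n35011 = n33277 := d42_1 D35011 (iv D33277) D33276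
theorem F162360 : act 9 n35011 = n34183 := d44_2 (iv F154526) D35011 (iv D34183) (iv F157205) F157204
def n35012 : Q := act 8 n33278
theorem D35012 : act 8 n33278 = n35012 := rfl
theorem F162361 : act 0 n35012 = n34253 := d7_1 D35012 (iv D34253) (iv F154533)
theorem F162362 : act 1 n35012 = n34095 := d15_1 D35012 (iv D34095) (iv F154534)
theorem F162363 : act 2 n35012 = n33399 := d22_1 D35012 (iv D33399) (iv F154535)
theorem F162364 : act 4 n35012 = n34187 := d33_1 D35012 F158753 (iv F154536)
theorem F162365 : act 6 n35012 = n33279 := d40_1 D35012 (iv D33279) D33278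
theorem F162366 : act 7 n35012 = n33327 := d42_1 D35012 (iv D33327) (iv F154538)
theorem F162367 : act 9 n35012 = n34185 := d44_2 (iv F154539) D35012 (iv D34185) (iv F157210) F157209
def n35013 : Q := act 6 n33280
theorem D35013 : act 6 n33280 = n35013 := rfl
theorem F162368 : act 0 n35013 = n33281 := d5_1 D35013 (iv D33281) D33280
theorem F162369 : act 1 n35013 = n33992 := d13_1 D35013 F158080 (iv F154547)
theorem F162370 : act 2 n35013 = n33647 := d20_1 D35013 (iv D33647) (iv F154548)
theorem F162371 : act 3 n35013 = n33400 := d26_1 D35013 (iv D33400) (iv F154549)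
theorem F162372 : act 4 n35013 = n33570 := d31_1 D35013 (iv D33570) (iv F154550)
theorem F162373 : act 8 n35013 = n33919 := d40_2 (iv F154553) D35013 (iv D33919)
theorem F162374 : act 9 n35013 = n33290 := d41_2 (iv F154554) D35013 (iv D33290)
def n35014 : Q := act 5 n33281
theorem D35014 : act 5 n33281 = n35014 := rfl
theorem F162375 : act 1 n35014 = n33282 := d12_1 D35014 (iv D33282) (iv F154555)
theorem F162376 : act 2 n35014 = n33648 := d19_1 D35014 (iv D33648) (iv F154556)
theorem F162377 : act 3 n35014 = n33401 := d25_1 D35014 (iv D33401) (iv F154557)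
theorem F162378 : act 6 n35014 = n33330 := d35_2 D33281 D35014 (iv D33330) (iv D31455) (iv F146060)
theorem F162379 : act 9 n35014 = n33291 := d38_2 (iv F154560) D35014 (iv D33291)
def n35015 : Q := act 7 n33281
theorem D35015 : act 7 n33281 = n35015 := rfl
theorem F162380 : act 1 n35015 = n33283 := d14_1 D35015 (iv D33283) (iv F154555)
theorem F162381 : act 2 n35015 = n33649 := d21_1 D35015 (iv D33649) (iv F154556)
theorem F162382 : act 3 n35015 = n33402 := d27_1 D35015 (iv D33402) (iv F154557)
theorem F162383 : act 4 n35015 = n33572 := d32_1 D35015 (iv D33572) (iv F154558)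
theorem F162384 : act 6 n35015 = n34212 := d39_1 D35015 (iv D34212) (iv D32350) (iv F146061) D33281
theorem F162385 : act 8 n35015 = n33921 := d42_2 (iv F154559) D35015 (iv D33921)
theorem F162386 : act 9 n35015 = n33292 := d43_2 (iv F154560) D35015 (iv D33292)
def n35016 : Q := act 4 n33282
theorem D35016 : act 4 n33282 = n35016 := rfl
theorem F162387 : act 0 n35016 = n34233 := d3_1 D35016 (iv D34233) (iv F154561)
theorem F162388 : act 2 n35016 = n33284 := d18_1 D35016 (iv D33284) (iv F154562)
theorem F162389 : act 5 n35016 = n33573 := d30_2 D33282 D35016 (iv D33573) (iv D31680) (iv F146067)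
theorem F162390 : act 6 n35016 = n33332 := d31_2 (iv F154564) D35016 (iv D33332)
theorem F162391 : act 9 n35016 = n33293 := d34_2 (iv F154565) D35016 (iv D33293)
def n35017 : Q := act 7 n33282
theorem D35017 : act 7 n33282 = n35017 := rfl
theorem F162392 : act 0 n35017 = n34234 := d6_1 D35017 (iv D34234) (iv F154561)
theorem F162393 : act 2 n35017 = n33285 := d21_1 D35017 (iv D33285) (iv F154562)
theorem F162394 : act 3 n35017 = n33404 := d27_1 D35017 (iv D33404) (iv F154563)
theorem F162395 : act 5 n35017 = n33283 := d36_1 D35017 (iv D33283) D33282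
theorem F162396 : act 9 n35017 = n33294 := d43_2 (iv F154565) D35017 (iv D33294)
def n35018 : Q := act 8 n33282
theorem D35018 : act 8 n33282 = n35018 := rfl
theorem F162397 : act 0 n35018 = n34235 := d7_1 D35018 (iv D34235) (iv F154561)
theorem F162398 : act 2 n35018 = n33286 := d22_1 D35018 (iv D33286) (iv F154562)
theorem F162399 : act 3 n35018 = n33405 := d28_1 D35018 (iv D33405) (iv F154563)
theorem F162400 : act 5 n35018 = n33924 := d37_1 D35018 (iv D33924) (iv D32041) (iv F146068) D33282
theorem F162401 : act 6 n35018 = n33334 := d40_1 D35018 (iv D33334) (iv F154564)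
theorem F162402 : act 9 n34476 = n35018 := d38_0 F162400 (iv F157753) (iv F159875)
def n35019 : Q := act 7 n33284
theorem D35019 : act 7 n33284 = n35019 := rfl
theorem F162403 : act 0 n35019 = n34236 := d6_1 D35019 (iv D34236) (iv F154573)
theorem F162404 : act 1 n35019 = n33653 := d14_1 D35019 (iv D33653) (iv F154574)
theorem F162405 : act 3 n35019 = n33671 := d27_1 D35019 (iv D33671) (iv F154575)
theorem F162406 : act 4 n35019 = n33285 := d32_1 D35019 (iv D33285) D33284
theorem F162407 : act 5 n35019 = n33576 := d36_1 D35019 (iv D33576) (iv F154576)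
theorem F162408 : act 9 n35019 = n33296 := d43_2 (iv F154578) D35019 (iv D33296)
def n35020 : Q := act 8 n33284
theorem D35020 : act 8 n33284 = n35020 := rfl
theorem F162409 : act 0 n35020 = n34237 := d7_1 D35020 (iv D34237) (iv F154573)
theorem F162410 : act 1 n35020 = n33654 := d15_1 D35020 (iv D33654) (iv F154574)
theorem F162411 : act 3 n35020 = n33672 := d28_1 D35020 (iv D33672) (iv F154575)
theorem F162412 : act 4 n35020 = n33286 := d33_1 D35020 (iv D33286) D33284
theorem F162413 : act 6 n35020 = n33336 := d40_1 D35020 (iv D33336) (iv F154577)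
def n35021 : Q := act 6 n33285
theorem D35021 : act 6 n33285 = n35021 := rfl
theorem F162414 : act 0 n35021 = n34238 := d5_1 D35021 (iv D34238) (iv F154579)
theorem F162415 : act 1 n35021 = n33655 := d13_1 D35021 (iv D33655) (iv F154580)
theorem F162416 : act 3 n35021 = n33287 := d26_1 D35021 (iv D33287) (iv F154581)
theorem F162417 : act 5 n35021 = n34216 := d35_1 D35021 (iv D34216) F150461 (iv F146079) (iv F154582)
theorem F162418 : act 7 n35021 = n33337 := d39_2 D33285 D35021 (iv D33337) (iv D31459) (iv F146073)
theorem F162419 : act 9 n35021 = n33298 := d41_2 (iv F154583) D35021 (iv D33298)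
def n35022 : Q := act 8 n33285
theorem D35022 : act 8 n33285 = n35022 := rfl
theorem F162420 : act 0 n35022 = n34239 := d7_1 D35022 (iv D34239) (iv F154579)
theorem F162421 : act 1 n35022 = n33656 := d15_1 D35022 (iv D33656) (iv F154580)
theorem F162422 : act 3 n35022 = n33288 := d28_1 D35022 (iv D33288) (iv F154581)
theorem F162423 : act 5 n35022 = n33928 := d37_1 D35022 (iv D33928) F149228 (iv F146080) (iv F154582)
theorem F162424 : act 7 n35022 = n33286 := d42_1 D35022 (iv D33286) D33285
def n35023 : Q := act 9 n33286
theorem D35023 : act 9 n33286 = n35023 := rfl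
theorem F162425 : act 0 n35023 = n34240 := d8_1 D35023 (iv D34240) (iv F154584)
theorem F162426 : act 1 n35023 = n33657 := d16_1 D35023 (iv D33657) (iv F154585)
theorem F162427 : act 2 n35023 = n34476 := d23_1 D35023 F162402 F162398
theorem F162428 : act 3 n35023 = n33289 := d29_1 D35023 (iv D33289) (iv F154586)
theorem F162429 : act 5 n35023 = n33929 := d38_1 D35023 (iv D33929) (iv F154587)
theorem F162430 : act 6 n35023 = n33339 := d41_1 D35023 (iv D33339) (iv F154588)
theorem F162431 : act 8 n35023 = n33300 := d44_1 D35023 (iv D33300) (iv D31429) (iv F146074) D33286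
def n35024 : Q := act 8 n33287
theorem D35024 : act 8 n33287 = n35024 := rfl
theorem F162432 : act 0 n35024 = n34241 := d7_1 D35024 (iv D34241) (iv F154589)
theorem F162433 : act 1 n35024 = n33658 := d15_1 D35024 (iv D33658) (iv F154590)
theorem F162434 : act 2 n35024 = n33409 := d22_1 D35024 (iv D33409) (iv F154591)
theorem F162435 : act 4 n35024 = n33676 := d33_1 D35024 (iv D33676) (iv F154592)
theorem F162436 : act 6 n35024 = n33288 := d40_1 D35024 (iv D33288) D33287
theorem F162437 : act 7 n35024 = n33340 := d42_1 D35024 (iv D33340) (iv F154594)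
def n35025 : Q := act 9 n33288
theorem D35025 : act 9 n33288 = n35025 := rfl
theorem F162438 : act 0 n35025 = n34242 := d8_1 D35025 (iv D34242) (iv F154596)
theorem F162439 : act 1 n35025 = n33659 := d16_1 D35025 (iv D33659) (iv F154597)
theorem F162440 : act 2 n35025 = n33410 := d23_1 D35025 (iv D33410) (iv F154598)
theorem F162441 : act 4 n35025 = n33677 := d34_1 D35025 (iv D33677) (iv F154599)
theorem F162442 : act 5 n35025 = n33931 := d38_1 D35025 (iv D33931) (iv F154600)
theorem F162443 : act 7 n35025 = n33289 := d43_1 D35025 (iv D33289) (iv F154601)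
theorem F162444 : act 8 n35025 = n33302 := d44_1 D35025 (iv D33302) (iv D31431) (iv F146087) D33288
def n35026 : Q := act 5 n33290
theorem D35026 : act 5 n33290 = n35026 := rfl
theorem F162445 : act 0 n35026 = n33291 := d4_1 D35026 (iv D33291) (iv F154609)
theorem F162446 : act 1 n35026 = n34296 := d12_1 D35026 (iv D34296) (iv F154610)
theorem F162447 : act 2 n35026 = n33965 := d19_1 D35026 F157970 (iv F154611)
theorem F162448 : act 3 n35026 = n33411 := d25_1 D35026 (iv D33411) (iv F154612)
theorem F162449 : act 6 n35026 = n33342 := d35_2 D33290 D35026 (iv D33342) (iv D31464) (iv F146098)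
def n35027 : Q := act 7 n33290
theorem D35027 : act 7 n33290 = n35027 := rfl
theorem F162450 : act 0 n35027 = n33292 := d6_1 D35027 (iv D33292) (iv F154609)
theorem F162451 : act 1 n35027 = n34297 := d14_1 D35027 (iv D34297) (iv F154610)
theorem F162452 : act 2 n35027 = n33970 := d21_1 D35027 (iv D33970) (iv F154611)
theorem F162453 : act 3 n35027 = n33412 := d27_1 D35027 (iv D33412) (iv F154612)
theorem F162454 : act 4 n35027 = n33976 := d32_1 D35027 (iv D33976) (iv F154613)
theorem F162455 : act 8 n35027 = n35027 := d42_2 F154614 D35027 (iv D35027)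
def n35028 : Q := act 4 n33291
theorem D35028 : act 4 n33291 = n35028 := rfl
theorem F162456 : act 1 n35028 = n33293 := d11_1 D35028 (iv D33293) (iv F154615)
theorem F162457 : act 2 n35028 = n34598 := d18_1 D35028 F160276 (iv F154616)
theorem F162458 : act 5 n35028 = n34642 := d30_2 D33291 D35028 F160395 F152059 (iv F146103)
theorem F162459 : act 6 n35028 = n33344 := d31_2 (iv F154618) D35028 (iv D33344)
def n35029 : Q := act 7 n33291
theorem D35029 : act 7 n33291 = n35029 := rfl
theorem F162460 : act 1 n35029 = n33294 := d14_1 D35029 (iv D33294) (iv F154615)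
theorem F162461 : act 2 n35029 = n34734 := d21_1 D35029 (iv D34734) (iv F154616)
theorem F162462 : act 3 n35029 = n33414 := d27_1 D35029 (iv D33414) (iv F154617)
theorem F162463 : act 5 n35029 = n33292 := d36_1 D35029 (iv D33292) D33291
def n35030 : Q := act 8 n33291
theorem D35030 : act 8 n33291 = n35030 := rfl
theorem F162464 : act 1 n35030 = n33295 := d15_1 D35030 (iv D33295) (iv F154615)
theorem F162465 : act 2 n35030 = n34726 := d22_1 D35030 F160665 (iv F154616)
theorem F162466 : act 3 n35030 = n33415 := d28_1 D35030 (iv D33415) (iv F154617)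
theorem F162467 : act 5 n35030 = n35030 := d37_1 D35030 (iv D35030) (iv D33291) F146104 D33291
theorem F162468 : act 6 n35030 = n33346 := d40_1 D35030 (iv D33346) (iv F154618)
def n35031 : Q := act 3 n33293
theorem D35031 : act 3 n33293 = n35031 := rfl
theorem F162469 : act 0 n35031 = n34301 := d2_1 D35031 (iv D34301) (iv F154624)
theorem F162470 : act 2 n35031 = n33683 := d17_1 D35031 (iv D33683) F147874 (iv F146114) (iv F154625)
theorem F162471 : act 4 n35031 = n33416 := d24_2 D33293 D35031 (iv D33416) (iv D31528) (iv F146107)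
theorem F162472 : act 6 n35031 = n33347 := d26_2 (iv F154626) D35031 (iv D33347)
def n35032 : Q := act 7 n33293
theorem D35032 : act 7 n33293 = n35032 := rfl
theorem F162473 : act 0 n35032 = n34302 := d6_1 D35032 (iv D34302) (iv F154624)
theorem F162474 : act 2 n35032 = n33296 := d21_1 D35032 (iv D33296) (iv F154625)
theorem F162475 : act 4 n35032 = n33294 := d32_1 D35032 (iv D33294) D33293
def n35033 : Q := act 8 n33293
theorem D35033 : act 8 n33293 = n35033 := rfl
theorem F162476 : act 0 n35033 = n34303 := d7_1 D35033 (iv D34303) (iv F154624)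
theorem F162477 : act 2 n35033 = n33297 := d22_1 D35033 (iv D33297) (iv F154625)
theorem F162478 : act 4 n35033 = n33295 := d33_1 D35033 (iv D33295) D33293
theorem F162479 : act 6 n35033 = n33349 := d40_1 D35033 (iv D33349) (iv F154626)
def n35034 : Q := act 6 n33294
theorem D35034 : act 6 n33294 = n35034 := rfl
theorem F162480 : act 0 n35034 = n34304 := d5_1 D35034 (iv D34304) (iv F154627)
theorem F162481 : act 2 n35034 = n33298 := d20_1 D35034 (iv D33298) (iv F154628)
theorem F162482 : act 3 n35034 = n33419 := d26_1 D35034 (iv D33419) (iv F154629)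
theorem F162483 : act 7 n35034 = n33350 := d39_2 D33294 D35034 (iv D33350) (iv D31468) (iv F146108)
def n35035 : Q := act 8 n33294
theorem D35035 : act 8 n33294 = n35035 := rfl
theorem F162484 : act 0 n35035 = n34305 := d7_1 D35035 (iv D34305) (iv F154627)
theorem F162485 : act 2 n35035 = n33299 := d22_1 D35035 (iv D33299) (iv F154628)
theorem F162486 : act 3 n35035 = n33420 := d28_1 D35035 (iv D33420) (iv F154629)
theorem F162487 : act 5 n35035 = n35035 := d37_1 D35035 (iv D35035) F154630 F146112 (iv F154630)
theorem F162488 : act 7 n35035 = n33295 := d42_1 D35035 (iv D33295) D33294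
def n35036 : Q := act 9 n33295
theorem D35036 : act 9 n33295 = n35036 := rfl
theorem F162489 : act 0 n35036 = n34306 := d8_1 D35036 (iv D34306) (iv F154631)
theorem F162490 : act 2 n35036 = n33300 := d23_1 D35036 (iv D33300) (iv F154632)
theorem F162491 : act 3 n35036 = n33421 := d29_1 D35036 (iv D33421) (iv F154633)
theorem F162492 : act 5 n35036 = n35036 := d38_1 D35036 (iv D35036) F154634
theorem F162493 : act 6 n35036 = n33352 := d41_1 D35036 (iv D33352) (iv F154635)
theorem F162494 : act 8 n35036 = n34476 := d44_1 D35036 F162402 (iv D35018) F154565 D33295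
def n35037 : Q := act 6 n33296
theorem D35037 : act 6 n33296 = n35037 := rfl
theorem F162495 : act 0 n35037 = n34307 := d5_1 D35037 (iv D34307) (iv F154636)
theorem F162496 : act 3 n35037 = n33689 := d26_1 D35037 (iv D33689) (iv F154637)
theorem F162497 : act 4 n35037 = n33298 := d31_1 D35037 (iv D33298) (iv F154638)
theorem F162498 : act 7 n35037 = n33353 := d39_2 D33296 D35037 (iv D33353) (iv D31470) (iv F146115)
def n35038 : Q := act 8 n33296
theorem D35038 : act 8 n33296 = n35038 := rfl
theorem F162499 : act 0 n35038 = n34308 := d7_1 D35038 (iv D34308) (iv F154636)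
theorem F162500 : act 3 n35038 = n33690 := d28_1 D35038 (iv D33690) (iv F154637)
theorem F162501 : act 4 n35038 = n33299 := d33_1 D35038 (iv D33299) (iv F154638)
theorem F162502 : act 7 n35038 = n33297 := d42_1 D35038 (iv D33297) D33296
def n35039 : Q := act 5 n33297
theorem D35039 : act 5 n33297 = n35039 := rfl
theorem F162503 : act 0 n35039 = n34309 := d4_1 D35039 (iv D34309) (iv F154639)
theorem F162504 : act 3 n35039 = n33691 := d25_1 D35039 (iv D33691) (iv F154640)
theorem F162505 : act 4 n35039 = n35039 := d30_1 D35039 (iv D35039) F154641 F146121 (iv F154641)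
def n35040 : Q := act 9 n33297
theorem D35040 : act 9 n33297 = n35040 := rfl
theorem F162506 : act 0 n35040 = n34310 := d8_1 D35040 (iv D34310) (iv F154639)
theorem F162507 : act 3 n35040 = n33692 := d29_1 D35040 (iv D33692) (iv F154640)
theorem F162508 : act 4 n35040 = n33300 := d34_1 D35040 (iv D33300) (iv F154641)
theorem F162509 : act 6 n35040 = n33356 := d41_1 D35040 (iv D33356) (iv F154642)
def n35041 : Q := act 8 n33298
theorem D35041 : act 8 n33298 = n35041 := rfl
theorem F162510 : act 0 n35041 = n34311 := d7_1 D35041 (iv D34311) (iv F154643)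
theorem F162511 : act 3 n35041 = n33301 := d28_1 D35041 (iv D33301) (iv F154644)
theorem F162512 : act 6 n35041 = n33299 := d40_1 D35041 (iv D33299) D33298
theorem F162513 : act 7 n35041 = n33357 := d42_1 D35041 (iv D33357) (iv F154645)
def n35042 : Q := act 9 n33299
theorem D35042 : act 9 n33299 = n35042 := rfl
theorem F162514 : act 0 n35042 = n34312 := d8_1 D35042 (iv D34312) (iv F154646)
theorem F162515 : act 3 n35042 = n33302 := d29_1 D35042 (iv D33302) (iv F154647)
theorem F162516 : act 5 n35042 = n35042 := d38_1 D35042 (iv D35042) F154648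
theorem F162517 : act 7 n35042 = n33300 := d43_1 D35042 (iv D33300) (iv F154649)
def n35043 : Q := act 5 n33301
theorem D35043 : act 5 n33301 = n35043 := rfl
theorem F162518 : act 0 n35043 = n34313 := d4_1 D35043 (iv D34313) (iv F154654)
theorem F162519 : act 2 n35043 = n33426 := d19_1 D35043 (iv D33426) (iv F154655)
theorem F162520 : act 6 n35043 = n35043 := d35_2 (iv F154657) D35043 (iv D35043) F154657 F146130
theorem F162521 : act 7 n35043 = n33359 := d36_2 (iv F154658) D35043 (iv D33359)
def n35044 : Q := act 9 n33301
theorem D35044 : act 9 n33301 = n35044 := rfl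
theorem F162522 : act 0 n35044 = n34314 := d8_1 D35044 (iv D34314) (iv F154654)
theorem F162523 : act 2 n35044 = n33427 := d23_1 D35044 (iv D33427) (iv F154655)
theorem F162524 : act 4 n35044 = n33696 := d34_1 D35044 (iv D33696) (iv F154656)
theorem F162525 : act 6 n35044 = n33302 := d41_1 D35044 (iv D33302) (iv F154657)
theorem F162526 : act 7 n35044 = n33360 := d43_1 D35044 (iv D33360) (iv F154658)
def n35045 : Q := act 5 n33304
theorem D35045 : act 5 n33304 = n35045 := rfl
theorem F162527 : act 0 n35045 = n33988 := d4_1 D35045 F158059 (iv F154673)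
theorem F162528 : act 1 n35045 = n33305 := d12_1 D35045 (iv D33305) (iv F154674)
theorem F162529 : act 2 n35045 = n34286 := d19_1 D35045 (iv D34286) (iv F154675)
theorem F162530 : act 3 n35045 = n33428 := d25_1 D35045 (iv D33428) (iv F154676)
theorem F162531 : act 6 n35045 = n33599 := d35_2 D33304 D35045 F156218 F147651 (iv F146140)
theorem F162532 : act 9 n35045 = n33567 := d38_2 (iv F154679) D35045 F156065
theorem F162533 : act 8 n34061 = n35045 := d44_5 F162532 (iv D33567) F147426 D32200 D34061
def n35046 : Q := act 7 n33304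
theorem D35046 : act 7 n33304 = n35046 := rfl
theorem F162534 : act 0 n35046 = n33996 := d6_1 D35046 F158100 (iv F154673)
theorem F162535 : act 1 n35046 = n33306 := d14_1 D35046 (iv D33306) (iv F154674)
theorem F162536 : act 2 n35046 = n34287 := d21_1 D35046 (iv D34287) (iv F154675)
theorem F162537 : act 3 n35046 = n33429 := d27_1 D35046 (iv D33429) (iv F154676)
theorem F162538 : act 4 n35046 = n34222 := d32_1 D35046 (iv D34222) (iv F154677)
theorem F162539 : act 6 n35046 = n33699 := d39_1 D35046 (iv D33699) (iv D31785) (iv F146141) D33304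
theorem F162540 : act 8 n35046 = n35046 := d42_2 F154678 D35046 (iv D35046)
theorem F162541 : act 9 n35046 = n33932 := d43_2 (iv F154679) D35046 F157798
def n35047 : Q := act 4 n33305
theorem D35047 : act 4 n33305 = n35047 := rfl
theorem F162542 : act 0 n35047 = n34315 := d3_1 D35047 (iv D34315) (iv F154680)
theorem F162543 : act 2 n35047 = n33307 := d18_1 D35047 (iv D33307) (iv F154681)
theorem F162544 : act 5 n35047 = n34223 := d30_2 D33305 D35047 (iv D34223) (iv D32365) (iv F146147)
theorem F162545 : act 6 n35047 = n33716 := d31_2 (iv F154683) D35047 F156720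
theorem F162546 : act 8 n35047 = n34108 := d33_2 F154685 D35047 F158502
theorem F162547 : act 9 n35047 = n33664 := d34_2 (iv F154684) D35047 F156494
def n35048 : Q := act 7 n33305
theorem D35048 : act 7 n33305 = n35048 := rfl
theorem F162548 : act 0 n35048 = n34316 := d6_1 D35048 (iv D34316) (iv F154680)
theorem F162549 : act 2 n35048 = n33308 := d21_1 D35048 (iv D33308) (iv F154681)
theorem F162550 : act 3 n35048 = n33430 := d27_1 D35048 (iv D33430) (iv F154682)
theorem F162551 : act 5 n35048 = n33306 := d36_1 D35048 (iv D33306) D33305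
theorem F162552 : act 8 n35048 = n34110 := d42_2 F154685 D35048 F158509
theorem F162553 : act 9 n35048 = n33666 := d43_2 (iv F154684) D35048 F156506
def n35049 : Q := act 7 n33307
theorem D35049 : act 7 n33307 = n35049 := rfl
theorem F162554 : act 0 n35049 = n34317 := d6_1 D35049 (iv D34317) (iv F154693)
theorem F162555 : act 1 n35049 = n34291 := d14_1 D35049 (iv D34291) (iv F154694)
theorem F162556 : act 3 n35049 = n33322 := d27_1 D35049 (iv D33322) (iv F154695)
theorem F162557 : act 4 n35049 = n33308 := d32_1 D35049 (iv D33308) D33307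
theorem F162558 : act 5 n35049 = n34226 := d36_1 D35049 (iv D34226) (iv F154696)
theorem F162559 : act 9 n35049 = n34001 := d43_2 (iv F154698) D35049 (iv D34001)
def n35050 : Q := act 8 n33307
theorem D35050 : act 8 n33307 = n35050 := rfl
theorem F162560 : act 0 n35050 = n34318 := d7_1 D35050 (iv D34318) (iv F154693)
theorem F162561 : act 1 n35050 = n34292 := d15_1 D35050 (iv D34292) (iv F154694)
theorem F162562 : act 2 n35050 = n34108 := d22_1 D35050 (iv F162546) F162543
theorem F162563 : act 3 n35050 = n33323 := d28_1 D35050 (iv D33323) (iv F154695)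
theorem F162564 : act 4 n35050 = n33309 := d33_1 D35050 (iv D33309) D33307
theorem F162565 : act 6 n35050 = n34123 := d40_1 D35050 F158547 (iv F154697)
theorem F162566 : act 9 n35050 = n34102 := d44_2 (iv F154698) D35050 (iv D34102) (iv F156482) F156481
def n35051 : Q := act 6 n33308
theorem D35051 : act 6 n33308 = n35051 := rfl
theorem F162567 : act 0 n35051 = n34319 := d5_1 D35051 (iv D34319) (iv F154699)
theorem F162568 : act 1 n35051 = n34293 := d13_1 D35051 (iv D34293) (iv F154700)
theorem F162569 : act 3 n35051 = n33310 := d26_1 D35051 (iv D33310) (iv F154701)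
theorem F162570 : act 5 n35051 = n33705 := d35_1 D35051 (iv D33705) F147936 (iv F146159) (iv F154702)
theorem F162571 : act 7 n35051 = n34514 := d39_2 D33308 D35051 (iv D34514) (iv D32661) (iv F146153)
theorem F162572 : act 9 n35051 = n34002 := d41_2 (iv F154703) D35051 (iv D34002)
def n35052 : Q := act 8 n33308
theorem D35052 : act 8 n33308 = n35052 := rfl
theorem F162573 : act 0 n35052 = n34320 := d7_1 D35052 (iv D34320) (iv F154699)
theorem F162574 : act 1 n35052 = n34294 := d15_1 D35052 (iv D34294) (iv F154700)
theorem F162575 : act 2 n35052 = n34110 := d22_1 D35052 (iv F162552) F162549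
theorem F162576 : act 3 n35052 = n33311 := d28_1 D35052 (iv D33311) (iv F154701)
theorem F162577 : act 5 n35052 = n35052 := d37_1 D35052 (iv D35052) F154702 F146160 (iv F154702)
theorem F162578 : act 7 n35052 = n33309 := d42_1 D35052 (iv D33309) D33308
theorem F162579 : act 9 n35052 = n34104 := d44_2 (iv F154703) D35052 (iv D34104) (iv F156488) F156487
def n35053 : Q := act 8 n33310
theorem D35053 : act 8 n33310 = n35053 := rfl
theorem F162580 : act 0 n35053 = n34321 := d7_1 D35053 (iv D34321) (iv F154711)
theorem F162581 : act 1 n35053 = n34295 := d15_1 D35053 (iv D34295) (iv F154712)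
theorem F162582 : act 2 n35053 = n33433 := d22_1 D35053 (iv D33433) (iv F154713)
theorem F162583 : act 4 n35053 = n33327 := d33_1 D35053 (iv D33327) (iv F154714)
theorem F162584 : act 6 n35053 = n33311 := d40_1 D35053 (iv D33311) D33310
theorem F162585 : act 7 n35053 = n34187 := d42_1 D35053 F158753 (iv F154716)
theorem F162586 : act 9 n35053 = n34174 := d44_2 (iv F154717) D35053 (iv D34174) (iv F156981) F156980
def n35054 : Q := act 4 n33313
theorem D35054 : act 4 n33313 = n35054 := rfl
theorem F162587 : act 0 n35054 = n34223 := d3_1 D35054 (iv D34223) (iv F154734)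
theorem F162588 : act 2 n35054 = n33315 := d18_1 D35054 (iv D33315) (iv F154735)
theorem F162589 : act 5 n35054 = n34315 := d30_2 D33313 D35054 (iv D34315) (iv D32445) (iv F146185)
theorem F162590 : act 6 n35054 = n34213 := d31_2 (iv F154737) D35054 (iv D34213)
theorem F162591 : act 9 n35054 = n33320 := d34_2 (iv F154738) D35054 (iv D33320)
def n35055 : Q := act 7 n33313
theorem D35055 : act 7 n33313 = n35055 := rfl
theorem F162592 : act 0 n35055 = n34224 := d6_1 D35055 (iv D34224) (iv F154734)
theorem F162593 : act 2 n35055 = n33316 := d21_1 D35055 (iv D33316) (iv F154735)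
theorem F162594 : act 3 n35055 = n33434 := d27_1 D35055 (iv D33434) (iv F154736)
theorem F162595 : act 5 n35055 = n33314 := d36_1 D35055 (iv D33314) D33313
theorem F162596 : act 9 n35055 = n33321 := d43_2 (iv F154738) D35055 (iv D33321)
def n35056 : Q := act 8 n33313
theorem D35056 : act 8 n33313 = n35056 := rfl
theorem F162597 : act 0 n35056 = n34225 := d7_1 D35056 (iv D34225) (iv F154734)
theorem F162598 : act 2 n35056 = n33317 := d22_1 D35056 (iv D33317) (iv F154735)
theorem F162599 : act 3 n35056 = n33435 := d28_1 D35056 (iv D33435) (iv F154736)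
theorem F162600 : act 5 n35056 = n35056 := d37_1 D35056 (iv D35056) (iv D33313) F146186 D33313
theorem F162601 : act 6 n35056 = n33815 := d40_1 D35056 F157166 (iv F154737)
theorem F162602 : act 9 n35056 = n33974 := d44_2 (iv F154738) D35056 F158009 (iv F154390) F154389
def n35057 : Q := act 7 n33315
theorem D35057 : act 7 n33315 = n35057 := rfl
theorem F162603 : act 0 n35057 = n34226 := d6_1 D35057 (iv D34226) (iv F154746)
theorem F162604 : act 1 n35057 = n34546 := d14_1 D35057 (iv D34546) (iv F154747)
theorem F162605 : act 3 n35057 = n34001 := d27_1 D35057 (iv D34001) (iv F154748)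
theorem F162606 : act 4 n35057 = n33316 := d32_1 D35057 (iv D33316) D33315
theorem F162607 : act 5 n35057 = n34317 := d36_1 D35057 (iv D34317) (iv F154749)
theorem F162608 : act 9 n35057 = n33322 := d43_2 (iv F154751) D35057 (iv D33322)
def n35058 : Q := act 8 n33315
theorem D35058 : act 8 n33315 = n35058 := rfl
theorem F162609 : act 0 n35058 = n34227 := d7_1 D35058 (iv D34227) (iv F154746)
theorem F162610 : act 1 n35058 = n34547 := d15_1 D35058 (iv D34547) (iv F154747)
theorem F162611 : act 3 n35058 = n33661 := d28_1 D35058 F156481 (iv F154748)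
theorem F162612 : act 4 n35058 = n33317 := d33_1 D35058 (iv D33317) D33315
theorem F162613 : act 6 n35058 = n33710 := d40_1 D35058 F156693 (iv F154750)
theorem F162614 : act 9 n34100 = n35058 := d41_0 F162613 F156694 (iv F158484)
def n35059 : Q := act 6 n33316
theorem D35059 : act 6 n33316 = n35059 := rfl
theorem F162615 : act 0 n35059 = n34228 := d5_1 D35059 (iv D34228) (iv F154752)
theorem F162616 : act 1 n35059 = n34548 := d13_1 D35059 (iv D34548) (iv F154753)
theorem F162617 : act 3 n35059 = n33318 := d26_1 D35059 (iv D33318) (iv F154754)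
theorem F162618 : act 5 n35059 = n33337 := d35_1 D35059 (iv D33337) F146284 (iv F146197) (iv F154755)
theorem F162619 : act 7 n35059 = n34216 := d39_2 D33316 D35059 (iv D34216) (iv D32354) (iv F146191)
theorem F162620 : act 9 n35059 = n33324 := d41_2 (iv F154756) D35059 (iv D33324)
def n35060 : Q := act 8 n33316
theorem D35060 : act 8 n33316 = n35060 := rfl
theorem F162621 : act 0 n35060 = n34229 := d7_1 D35060 (iv D34229) (iv F154752)
theorem F162622 : act 1 n35060 = n34549 := d15_1 D35060 (iv D34549) (iv F154753)
theorem F162623 : act 3 n35060 = n33319 := d28_1 D35060 (iv D33319) (iv F154754)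
theorem F162624 : act 5 n35060 = n35060 := d37_1 D35060 (iv D35060) F154755 F146198 (iv F154755)
theorem F162625 : act 7 n35060 = n33317 := d42_1 D35060 (iv D33317) D33316
theorem F162626 : act 9 n34172 = n35060 := d43_0 F162625 (iv F154762) D34172
def n35061 : Q := act 8 n33318
theorem D35061 : act 8 n33318 = n35061 := rfl
theorem F162627 : act 0 n35061 = n34230 := d7_1 D35061 (iv D34230) (iv F154763)
theorem F162628 : act 1 n35061 = n34550 := d15_1 D35061 (iv D34550) (iv F154764)
theorem F162629 : act 2 n35061 = n33439 := d22_1 D35061 (iv D33439) (iv F154765)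
theorem F162630 : act 4 n35061 = n33780 := d33_1 D35061 F156980 (iv F154766)
theorem F162631 : act 6 n35061 = n33319 := d40_1 D35061 (iv D33319) D33318
theorem F162632 : act 7 n35061 = n33824 := d42_1 D35061 F157209 (iv F154768)
theorem F162633 : act 9 n34173 = n35061 := d43_0 F162632 F157210 (iv F158712)
def n35062 : Q := act 7 n33320
theorem D35062 : act 7 n33320 = n35062 := rfl
theorem F162634 : act 0 n35062 = n34325 := d6_1 D35062 (iv D34325) (iv F154777)
theorem F162635 : act 2 n35062 = n33322 := d21_1 D35062 (iv D33322) (iv F154778)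
theorem F162636 : act 4 n35062 = n33321 := d32_1 D35062 (iv D33321) D33320
theorem F162637 : act 5 n35062 = n34516 := d36_1 D35062 (iv D34516) (iv F154779)
def n35063 : Q := act 6 n33321
theorem D35063 : act 6 n33321 = n35063 := rfl
theorem F162638 : act 0 n35063 = n34327 := d5_1 D35063 (iv D34327) (iv F154780)
theorem F162639 : act 2 n35063 = n33324 := d20_1 D35063 (iv D33324) (iv F154781)
theorem F162640 : act 3 n35063 = n33440 := d26_1 D35063 (iv D33440) (iv F154782)
theorem F162641 : act 5 n35063 = n33350 := d35_1 D35063 (iv D33350) F146322 (iv F146227) (iv F154783)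
def n35064 : Q := act 6 n33322
theorem D35064 : act 6 n33322 = n35064 := rfl
theorem F162642 : act 0 n35064 = n34329 := d5_1 D35064 (iv D34329) (iv F154784)
theorem F162643 : act 1 n35064 = n34559 := d13_1 D35064 (iv D34559) (iv F154785)
theorem F162644 : act 4 n35064 = n33324 := d31_1 D35064 (iv D33324) (iv F154786)
def n35065 : Q := act 8 n33322
theorem D35065 : act 8 n33322 = n35065 := rfl
theorem F162645 : act 0 n35065 = n34330 := d7_1 D35065 (iv D34330) (iv F154784)
theorem F162646 : act 1 n35065 = n34560 := d15_1 D35065 (iv D34560) (iv F154785)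
theorem F162647 : act 4 n35065 = n33325 := d33_1 D35065 (iv D33325) (iv F154786)
theorem F162648 : act 7 n35065 = n33323 := d42_1 D35065 (iv D33323) D33322
def n35066 : Q := act 9 n33323
theorem D35066 : act 9 n33323 = n35066 := rfl
theorem F162649 : act 0 n35066 = n34332 := d8_1 D35066 (iv D34332) (iv F154788)
theorem F162650 : act 1 n35066 = n34562 := d16_1 D35066 (iv D34562) (iv F154789)
theorem F162651 : act 2 n35066 = n33978 := d23_1 D35066 F162143 F162139
theorem F162652 : act 3 n35066 = n34102 := d29_1 D35066 (iv F162566) F162563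
theorem F162653 : act 4 n35066 = n33326 := d34_1 D35066 (iv D33326) (iv F154790)
theorem F162654 : act 6 n35066 = n34119 := d41_1 D35066 (iv F162348) F162347
theorem F162655 : act 8 n35066 = n34100 := d44_1 D35066 F162614 (iv D35058) F154751 D33323
def n35067 : Q := act 8 n33324
theorem D35067 : act 8 n33324 = n35067 := rfl
theorem F162656 : act 0 n35067 = n34333 := d7_1 D35067 (iv D34333) (iv F154791)
theorem F162657 : act 1 n35067 = n34563 := d15_1 D35067 (iv D34563) (iv F154792)
theorem F162658 : act 3 n35067 = n33327 := d28_1 D35067 (iv D33327) (iv F154793)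
theorem F162659 : act 6 n35067 = n33325 := d40_1 D35067 (iv D33325) D33324
def n35068 : Q := act 9 n33325
theorem D35068 : act 9 n33325 = n35068 := rfl
theorem F162660 : act 0 n35068 = n34334 := d8_1 D35068 (iv D34334) (iv F154795)
theorem F162661 : act 1 n35068 = n34564 := d16_1 D35068 (iv D34564) (iv F154796)
theorem F162662 : act 2 n35068 = n33775 := d23_1 D35068 (iv F162194) F162190
theorem F162663 : act 3 n35068 = n33328 := d29_1 D35068 (iv D33328) (iv F154797)
theorem F162664 : act 5 n35068 = n33362 := d38_1 D35068 (iv D33362) (iv F154798)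
theorem F162665 : act 7 n35068 = n33326 := d43_1 D35068 (iv D33326) (iv F154799)
theorem F162666 : act 8 n35068 = n34172 := d44_1 D35068 F162626 (iv D35060) F154756 D33325
def n35069 : Q := act 5 n33327
theorem D35069 : act 5 n33327 = n35069 := rfl
theorem F162667 : act 0 n35069 = n34335 := d4_1 D35069 (iv D34335) (iv F154807)
theorem F162668 : act 1 n35069 = n34565 := d12_1 D35069 (iv D34565) (iv F154808)
theorem F162669 : act 2 n35069 = n33443 := d19_1 D35069 (iv D33443) (iv F154809)
theorem F162670 : act 6 n35069 = n33363 := d35_2 (iv F154810) D35069 (iv D33363) F146371 (iv F146247)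
theorem F162671 : act 8 n35069 = n33359 := d37_2 D33327 D35069 (iv D33359) (iv D31475) (iv F146243)
def n35070 : Q := act 9 n33327
theorem D35070 : act 9 n33327 = n35070 := rfl
theorem F162672 : act 0 n35070 = n34336 := d8_1 D35070 (iv D34336) (iv F154807)
theorem F162673 : act 1 n35070 = n34566 := d16_1 D35070 (iv D34566) (iv F154808)
theorem F162674 : act 2 n35070 = n33444 := d23_1 D35070 (iv D33444) (iv F154809)
theorem F162675 : act 4 n35070 = n34174 := d34_1 D35070 (iv F162586) F162583
theorem F162676 : act 6 n35070 = n33328 := d41_1 D35070 (iv D33328) (iv F154810)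
theorem F162677 : act 7 n35070 = n34185 := d43_1 D35070 (iv F162367) F162366
theorem F162678 : act 8 n35070 = n34173 := d44_1 D35070 F162633 (iv D35061) F154769 D33327
def n35071 : Q := act 5 n33329
theorem D35071 : act 5 n33329 = n35071 := rfl
theorem F162679 : act 0 n35071 = n33330 := d4_1 D35071 (iv D33330) (iv F154818)
theorem F162680 : act 1 n35071 = n34337 := d12_1 D35071 (iv D34337) (iv F154819)
theorem F162681 : act 2 n35071 = n33966 := d19_1 D35071 F157973 (iv F154820)
theorem F162682 : act 3 n35071 = n33445 := d25_1 D35071 (iv D33445) (iv F154821)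
theorem F162683 : act 9 n35071 = n33342 := d38_2 (iv F154824) D35071 (iv D33342)
def n35072 : Q := act 7 n33329
theorem D35072 : act 7 n33329 = n35072 := rfl
theorem F162684 : act 0 n35072 = n33331 := d6_1 D35072 (iv D33331) (iv F154818)
theorem F162685 : act 1 n35072 = n34338 := d14_1 D35072 (iv D34338) (iv F154819)
theorem F162686 : act 2 n35072 = n33964 := d21_1 D35072 F157966 (iv F154820)
theorem F162687 : act 3 n35072 = n33446 := d27_1 D35072 (iv D33446) (iv F154821)
theorem F162688 : act 4 n35072 = n33961 := d32_1 D35072 F157952 (iv F154822)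
theorem F162689 : act 6 n35072 = n34016 := d39_1 D35072 F158165 (iv F154730) F154731 D33329
theorem F162690 : act 8 n35072 = n35072 := d42_2 F154823 D35072 (iv D35072)
theorem F162691 : act 9 n35072 = n33343 := d43_2 (iv F154824) D35072 (iv D33343)
def n35073 : Q := act 4 n33330
theorem D35073 : act 4 n33330 = n35073 := rfl
theorem F162692 : act 1 n35073 = n33332 := d11_1 D35073 (iv D33332) (iv F154825)
theorem F162693 : act 2 n35073 = n34599 := d18_1 D35073 F160278 (iv F154826)
theorem F162694 : act 5 n35073 = n34591 := d30_2 D33330 D35073 F160257 F151904 (iv F146265)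
theorem F162695 : act 9 n35073 = n33344 := d34_2 (iv F154828) D35073 (iv D33344)
def n35074 : Q := act 7 n33330
theorem D35074 : act 7 n33330 = n35074 := rfl
theorem F162696 : act 1 n35074 = n33333 := d14_1 D35074 (iv D33333) (iv F154825)
theorem F162697 : act 2 n35074 = n34733 := d21_1 D35074 F160683 (iv F154826)
theorem F162698 : act 3 n35074 = n33448 := d27_1 D35074 (iv D33448) (iv F154827)
theorem F162699 : act 5 n35074 = n33331 := d36_1 D35074 (iv D33331) D33330
theorem F162700 : act 9 n35074 = n33345 := d43_2 (iv F154828) D35074 (iv D33345)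
def n35075 : Q := act 8 n33330
theorem D35075 : act 8 n33330 = n35075 := rfl
theorem F162701 : act 1 n35075 = n33334 := d15_1 D35075 (iv D33334) (iv F154825)
theorem F162702 : act 2 n35075 = n34735 := d22_1 D35075 (iv D34735) (iv F154826)
theorem F162703 : act 3 n35075 = n33449 := d28_1 D35075 (iv D33449) (iv F154827)
theorem F162704 : act 5 n35075 = n35075 := d37_1 D35075 (iv D35075) (iv D33330) F146266 D33330
def n35076 : Q := act 3 n33332
theorem D35076 : act 3 n33332 = n35076 := rfl
theorem F162705 : act 0 n35076 = n34342 := d2_1 D35076 (iv D34342) (iv F154835)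
theorem F162706 : act 2 n35076 = n33721 := d17_1 D35076 (iv D33721) F147997 (iv F146279) (iv F154836)
theorem F162707 : act 4 n35076 = n33450 := d24_2 D33332 D35076 (iv D33450) (iv D31563) (iv F146270)
theorem F162708 : act 5 n35076 = n34261 := d25_2 (iv F154837) D35076 F159070
theorem F162709 : act 9 n35076 = n33347 := d29_2 (iv F154838) D35076 (iv D33347)
def n35077 : Q := act 7 n33332
theorem D35077 : act 7 n33332 = n35077 := rfl
theorem F162710 : act 0 n35077 = n34343 := d6_1 D35077 (iv D34343) (iv F154835)
theorem F162711 : act 2 n35077 = n33335 := d21_1 D35077 (iv D33335) (iv F154836)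
theorem F162712 : act 4 n35077 = n33333 := d32_1 D35077 (iv D33333) D33332
theorem F162713 : act 5 n35077 = n34603 := d36_1 D35077 (iv D34603) (iv F154837)
theorem F162714 : act 9 n35077 = n33348 := d43_2 (iv F154838) D35077 (iv D33348)
def n35078 : Q := act 8 n33332
theorem D35078 : act 8 n33332 = n35078 := rfl
theorem F162715 : act 0 n35078 = n34344 := d7_1 D35078 (iv D34344) (iv F154835)
theorem F162716 : act 2 n35078 = n33336 := d22_1 D35078 (iv D33336) (iv F154836)
theorem F162717 : act 4 n35078 = n33334 := d33_1 D35078 (iv D33334) D33332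
def n35079 : Q := act 6 n33333
theorem D35079 : act 6 n33333 = n35079 := rfl
theorem F162718 : act 0 n35079 = n34345 := d5_1 D35079 (iv D34345) (iv F154839)
theorem F162719 : act 2 n35079 = n33337 := d20_1 D35079 (iv D33337) (iv F154840)
theorem F162720 : act 3 n35079 = n33453 := d26_1 D35079 (iv D33453) (iv F154841)
theorem F162721 : act 9 n35079 = n33350 := d41_2 (iv F154843) D35079 (iv D33350)
def n35080 : Q := act 8 n33333
theorem D35080 : act 8 n33333 = n35080 := rfl
theorem F162722 : act 0 n35080 = n34346 := d7_1 D35080 (iv D34346) (iv F154839)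
theorem F162723 : act 2 n35080 = n33338 := d22_1 D35080 (iv D33338) (iv F154840)
theorem F162724 : act 3 n35080 = n33454 := d28_1 D35080 (iv D33454) (iv F154841)
theorem F162725 : act 5 n35080 = n35080 := d37_1 D35080 (iv D35080) F154842 F146276 (iv F154842)
theorem F162726 : act 7 n35080 = n33334 := d42_1 D35080 (iv D33334) D33333
def n35081 : Q := act 9 n33334
theorem D35081 : act 9 n33334 = n35081 := rfl
theorem F162727 : act 0 n35081 = n34347 := d8_1 D35081 (iv D34347) (iv F154844)
theorem F162728 : act 2 n35081 = n33339 := d23_1 D35081 (iv D33339) (iv F154845)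
theorem F162729 : act 3 n35081 = n33455 := d29_1 D35081 (iv D33455) (iv F154846)
theorem F162730 : act 5 n35081 = n35081 := d38_1 D35081 (iv D35081) F154847
theorem F162731 : act 6 n35081 = n34476 := d41_1 D35081 F162402 F162401
theorem F162732 : act 8 n35081 = n33352 := d44_1 D35081 (iv D33352) (iv D31469) (iv F146271) D33334
def n35082 : Q := act 6 n33335
theorem D35082 : act 6 n33335 = n35082 := rfl
theorem F162733 : act 0 n35082 = n34348 := d5_1 D35082 (iv D34348) (iv F154848)
theorem F162734 : act 3 n35082 = n33727 := d26_1 D35082 (iv D33727) (iv F154849)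
theorem F162735 : act 4 n35082 = n33337 := d31_1 D35082 (iv D33337) (iv F154850)
theorem F162736 : act 9 n35082 = n33353 := d41_2 (iv F154852) D35082 (iv D33353)
def n35083 : Q := act 8 n33335
theorem D35083 : act 8 n33335 = n35083 := rfl
theorem F162737 : act 0 n35083 = n34349 := d7_1 D35083 (iv D34349) (iv F154848)
theorem F162738 : act 3 n35083 = n33728 := d28_1 D35083 (iv D33728) (iv F154849)
theorem F162739 : act 4 n35083 = n33338 := d33_1 D35083 (iv D33338) (iv F154850)
theorem F162740 : act 7 n35083 = n33336 := d42_1 D35083 (iv D33336) D33335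
def n35084 : Q := act 5 n33336
theorem D35084 : act 5 n33336 = n35084 := rfl
theorem F162741 : act 0 n35084 = n34350 := d4_1 D35084 (iv D34350) (iv F154853)
theorem F162742 : act 3 n35084 = n33729 := d25_1 D35084 (iv D33729) (iv F154854)
theorem F162743 : act 4 n35084 = n35084 := d30_1 D35084 (iv D35084) F154855 F146288 (iv F154855)
theorem F162744 : act 8 n35084 = n34066 := d37_2 D33336 D35084 F158365 F151762 (iv F146280)
def n35085 : Q := act 9 n33336
theorem D35085 : act 9 n33336 = n35085 := rfl
theorem F162745 : act 0 n35085 = n34351 := d8_1 D35085 (iv D34351) (iv F154853)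
theorem F162746 : act 3 n35085 = n33730 := d29_1 D35085 (iv D33730) (iv F154854)
theorem F162747 : act 4 n35085 = n33339 := d34_1 D35085 (iv D33339) (iv F154855)
theorem F162748 : act 8 n35085 = n33356 := d44_1 D35085 (iv D33356) (iv D31471) (iv F146281) D33336
def n35086 : Q := act 8 n33337
theorem D35086 : act 8 n33337 = n35086 := rfl
theorem F162749 : act 0 n35086 = n34352 := d7_1 D35086 (iv D34352) (iv F154856)
theorem F162750 : act 3 n35086 = n33340 := d28_1 D35086 (iv D33340) (iv F154857)
theorem F162751 : act 6 n35086 = n33338 := d40_1 D35086 (iv D33338) D33337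
def n35087 : Q := act 9 n33338
theorem D35087 : act 9 n33338 = n35087 := rfl
theorem F162752 : act 0 n35087 = n34353 := d8_1 D35087 (iv D34353) (iv F154859)
theorem F162753 : act 3 n35087 = n33341 := d29_1 D35087 (iv D33341) (iv F154860)
theorem F162754 : act 5 n35087 = n35087 := d38_1 D35087 (iv D35087) F154861
theorem F162755 : act 7 n35087 = n33339 := d43_1 D35087 (iv D33339) (iv F154862)
theorem F162756 : act 8 n35087 = n33358 := d44_1 D35087 (iv D33358) (iv D31473) (iv F146285) D33338
def n35088 : Q := act 5 n33340
theorem D35088 : act 5 n33340 = n35088 := rfl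
theorem F162757 : act 0 n35088 = n34354 := d4_1 D35088 (iv D34354) (iv F154867)
theorem F162758 : act 2 n35088 = n33460 := d19_1 D35088 (iv D33460) (iv F154868)
theorem F162759 : act 6 n35088 = n35088 := d35_2 (iv F154870) D35088 (iv D35088) F154870 F146296
def n35089 : Q := act 9 n33340
theorem D35089 : act 9 n33340 = n35089 := rfl
theorem F162760 : act 0 n35089 = n34355 := d8_1 D35089 (iv D34355) (iv F154867)
theorem F162761 : act 2 n35089 = n33461 := d23_1 D35089 (iv D33461) (iv F154868)
theorem F162762 : act 4 n35089 = n33734 := d34_1 D35089 (iv D33734) (iv F154869)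
theorem F162763 : act 6 n35089 = n33341 := d41_1 D35089 (iv D33341) (iv F154870)
theorem F162764 : act 8 n35089 = n33360 := d44_1 D35089 (iv D33360) (iv D31475) (iv F146292) D33340
def n35090 : Q := act 4 n33342
theorem D35090 : act 4 n33342 = n35090 := rfl
theorem F162765 : act 0 n35090 = n33344 := d3_1 D35090 (iv D33344) (iv F154877)
theorem F162766 : act 1 n35090 = n34356 := d11_1 D35090 (iv D34356) (iv F154878)
theorem F162767 : act 2 n35090 = n33691 := d18_1 D35090 F156613 (iv F154879)
theorem F162768 : act 5 n35090 = n33685 := d30_2 D33342 D35090 F156590 F147883 (iv F146307)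
def n35091 : Q := act 7 n33342
theorem D35091 : act 7 n33342 = n35091 := rfl
theorem F162769 : act 0 n35091 = n33345 := d6_1 D35091 (iv D33345) (iv F154877)
theorem F162770 : act 1 n35091 = n34357 := d14_1 D35091 (iv D34357) (iv F154878)
theorem F162771 : act 2 n35091 = n33963 := d21_1 D35091 F157962 (iv F154879)
theorem F162772 : act 3 n35091 = n33463 := d27_1 D35091 (iv D33463) (iv F154880)
theorem F162773 : act 5 n35091 = n33343 := d36_1 D35091 (iv D33343) D33342
def n35092 : Q := act 8 n33342
theorem D35092 : act 8 n33342 = n35092 := rfl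
theorem F162774 : act 0 n35092 = n33346 := d7_1 D35092 (iv D33346) (iv F154877)
theorem F162775 : act 1 n35092 = n34358 := d15_1 D35092 (iv D34358) (iv F154878)
theorem F162776 : act 2 n35092 = n33954 := d22_1 D35092 F157919 (iv F154879)
theorem F162777 : act 3 n35092 = n33464 := d28_1 D35092 (iv D33464) (iv F154880)
theorem F162778 : act 5 n35092 = n33366 := d37_1 D35092 (iv D33366) (iv D31482) (iv F146308) D33342
def n35093 : Q := act 3 n33344
theorem D35093 : act 3 n33344 = n35093 := rfl
theorem F162779 : act 1 n35093 = n33347 := d10_1 D35093 (iv D33347) (iv F154888)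
theorem F162780 : act 4 n35093 = n33465 := d24_2 D33344 D35093 (iv D33465) (iv D31575) (iv F146311)
theorem F162781 : act 5 n35093 = n34588 := d25_2 (iv F154890) D35093 F160246
def n35094 : Q := act 7 n33344
theorem D35094 : act 7 n33344 = n35094 := rfl
theorem F162782 : act 1 n35094 = n33348 := d14_1 D35094 (iv D33348) (iv F154888)
theorem F162783 : act 2 n35094 = n34596 := d21_1 D35094 F160273 (iv F154889)
theorem F162784 : act 4 n35094 = n33345 := d32_1 D35094 (iv D33345) D33344
theorem F162785 : act 5 n35094 = n34590 := d36_1 D35094 F160254 (iv F154890)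
def n35095 : Q := act 8 n33344
theorem D35095 : act 8 n33344 = n35095 := rfl
theorem F162786 : act 1 n35095 = n33349 := d15_1 D35095 (iv D33349) (iv F154888)
theorem F162787 : act 2 n35095 = n34561 := d22_1 D35095 F160169 (iv F154889)
theorem F162788 : act 4 n35095 = n33346 := d33_1 D35095 (iv D33346) D33344
theorem F162789 : act 5 n35095 = n34555 := d37_1 D35095 (iv D34555) F151813 D32734 (iv F154890)
def n35096 : Q := act 6 n33345
theorem D35096 : act 6 n33345 = n35096 := rfl
theorem F162790 : act 1 n35096 = n33350 := d13_1 D35096 (iv D33350) (iv F154891)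
theorem F162791 : act 2 n35096 = n34732 := d20_1 D35096 (iv D34732) (iv F154892)
theorem F162792 : act 3 n35096 = n33468 := d26_1 D35096 (iv D33468) (iv F154893)
def n35097 : Q := act 8 n33345
theorem D35097 : act 8 n33345 = n35097 := rfl
theorem F162793 : act 1 n35097 = n33351 := d15_1 D35097 (iv D33351) (iv F154891)
theorem F162794 : act 2 n35097 = n34724 := d22_1 D35097 F160658 (iv F154892)
theorem F162795 : act 3 n35097 = n33469 := d28_1 D35097 (iv D33469) (iv F154893)
theorem F162796 : act 5 n35097 = n33368 := d37_1 D35097 (iv D33368) F146397 (iv F146316) (iv F154894)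
theorem F162797 : act 7 n35097 = n33346 := d42_1 D35097 (iv D33346) D33345
def n35098 : Q := act 9 n33346
theorem D35098 : act 9 n33346 = n35098 := rfl
theorem F162798 : act 1 n35098 = n33352 := d16_1 D35098 (iv D33352) (iv F154895)
theorem F162799 : act 2 n35098 = n34727 := d23_1 D35098 (iv D34727) (iv F154896)
theorem F162800 : act 3 n35098 = n33470 := d29_1 D35098 (iv D33470) (iv F154897)
theorem F162801 : act 5 n35098 = n33369 := d38_1 D35098 (iv D33369) (iv F154898)
def n35099 : Q := act 7 n33347
theorem D35099 : act 7 n33347 = n35099 := rfl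
theorem F162802 : act 0 n35099 = n34365 := d6_1 D35099 (iv D34365) (iv F154899)
theorem F162803 : act 2 n35099 = n33743 := d21_1 D35099 (iv D33743) (iv F154900)
theorem F162804 : act 3 n35099 = n33348 := d27_1 D35099 (iv D33348) D33347
theorem F162805 : act 4 n35099 = n33471 := d32_1 D35099 (iv D33471) (iv F154901)
def n35100 : Q := act 8 n33347
theorem D35100 : act 8 n33347 = n35100 := rfl
theorem F162806 : act 0 n35100 = n34366 := d7_1 D35100 (iv D34366) (iv F154899)
theorem F162807 : act 2 n35100 = n33744 := d22_1 D35100 (iv D33744) (iv F154900)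
theorem F162808 : act 3 n35100 = n33349 := d28_1 D35100 (iv D33349) D33347
theorem F162809 : act 4 n35100 = n33472 := d33_1 D35100 (iv D33472) (iv F154901)
def n35101 : Q := act 6 n33348
theorem D35101 : act 6 n33348 = n35101 := rfl
theorem F162810 : act 0 n35101 = n34367 := d5_1 D35101 (iv D34367) (iv F154902)
theorem F162811 : act 2 n35101 = n33353 := d20_1 D35101 (iv D33353) (iv F154903)
theorem F162812 : act 4 n35101 = n33350 := d31_1 D35101 (iv D33350) (iv F154904)
def n35102 : Q := act 8 n33348
theorem D35102 : act 8 n33348 = n35102 := rfl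
theorem F162813 : act 0 n35102 = n34368 := d7_1 D35102 (iv D34368) (iv F154902)
theorem F162814 : act 2 n35102 = n33354 := d22_1 D35102 (iv D33354) (iv F154903)
theorem F162815 : act 4 n35102 = n33351 := d33_1 D35102 (iv D33351) (iv F154904)
theorem F162816 : act 7 n35102 = n33349 := d42_1 D35102 (iv D33349) D33348
def n35103 : Q := act 5 n33349
theorem D35103 : act 5 n33349 = n35103 := rfl
theorem F162817 : act 0 n35103 = n34369 := d4_1 D35103 (iv D34369) (iv F154905)
theorem F162818 : act 1 n35103 = n34555 := d12_1 D35103 (iv F162789) F162786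
theorem F162819 : act 2 n35103 = n33355 := d19_1 D35103 (iv D33355) (iv F154906)
theorem F162820 : act 4 n35103 = n33372 := d30_1 D35103 (iv D33372) F146415 (iv F146326) (iv F154907)
theorem F162821 : act 8 n35103 = n34551 := d37_2 D33349 D35103 F160145 (iv F153134) F153132
def n35104 : Q := act 9 n33349
theorem D35104 : act 9 n33349 = n35104 := rfl
theorem F162822 : act 0 n35104 = n34370 := d8_1 D35104 (iv D34370) (iv F154905)
theorem F162823 : act 2 n35104 = n33356 := d23_1 D35104 (iv D33356) (iv F154906)
theorem F162824 : act 4 n35104 = n33352 := d34_1 D35104 (iv D33352) (iv F154907)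
def n35105 : Q := act 8 n33350
theorem D35105 : act 8 n33350 = n35105 := rfl
theorem F162825 : act 0 n35105 = n34371 := d7_1 D35105 (iv D34371) (iv F154908)
theorem F162826 : act 2 n35105 = n33357 := d22_1 D35105 (iv D33357) (iv F154909)
theorem F162827 : act 3 n35105 = n33476 := d28_1 D35105 (iv D33476) (iv F154910)
theorem F162828 : act 6 n35105 = n33351 := d40_1 D35105 (iv D33351) D33350
def n35106 : Q := act 9 n33351
theorem D35106 : act 9 n33351 = n35106 := rfl
theorem F162829 : act 0 n35106 = n34372 := d8_1 D35106 (iv D34372) (iv F154911)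
theorem F162830 : act 2 n35106 = n33358 := d23_1 D35106 (iv D33358) (iv F154912)
theorem F162831 : act 3 n35106 = n33477 := d29_1 D35106 (iv D33477) (iv F154913)
theorem F162832 : act 5 n35106 = n33375 := d38_1 D35106 (iv D33375) (iv F154914)
theorem F162833 : act 7 n35106 = n33352 := d43_1 D35106 (iv D33352) (iv F154915)
def n35107 : Q := act 5 n33353
theorem D35107 : act 5 n33353 = n35107 := rfl
theorem F162834 : act 0 n35107 = n34373 := d4_1 D35107 (iv D34373) (iv F154920)
theorem F162835 : act 3 n35107 = n33751 := d25_1 D35107 (iv D33751) (iv F154921)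
def n35108 : Q := act 8 n33353
theorem D35108 : act 8 n33353 = n35108 := rfl
theorem F162836 : act 0 n35108 = n34374 := d7_1 D35108 (iv D34374) (iv F154920)
theorem F162837 : act 3 n35108 = n33752 := d28_1 D35108 (iv D33752) (iv F154921)
theorem F162838 : act 4 n35108 = n33357 := d33_1 D35108 (iv D33357) (iv F154922)
theorem F162839 : act 6 n35108 = n33354 := d40_1 D35108 (iv D33354) D33353
def n35109 : Q := act 5 n33354
theorem D35109 : act 5 n33354 = n35109 := rfl
theorem F162840 : act 0 n35109 = n34375 := d4_1 D35109 (iv D34375) (iv F154923)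
theorem F162841 : act 3 n35109 = n33753 := d25_1 D35109 (iv D33753) (iv F154924)
theorem F162842 : act 4 n35109 = n33377 := d30_1 D35109 (iv D33377) F146438 (iv F146337) (iv F154925)
theorem F162843 : act 7 n35109 = n33355 := d36_2 (iv F154926) D35109 (iv D33355)
def n35110 : Q := act 9 n33354
theorem D35110 : act 9 n33354 = n35110 := rfl
theorem F162844 : act 0 n35110 = n34376 := d8_1 D35110 (iv D34376) (iv F154923)
theorem F162845 : act 3 n35110 = n33754 := d29_1 D35110 (iv D33754) (iv F154924)
theorem F162846 : act 4 n35110 = n33358 := d34_1 D35110 (iv D33358) (iv F154925)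
theorem F162847 : act 7 n35110 = n33356 := d43_1 D35110 (iv D33356) (iv F154926)
def n35111 : Q := act 6 n33355
theorem D35111 : act 6 n33355 = n35111 := rfl
theorem F162848 : act 0 n35111 = n34377 := d5_1 D35111 (iv D34377) (iv F154927)
theorem F162849 : act 3 n35111 = n33755 := d26_1 D35111 (iv D33755) (iv F154928)
theorem F162850 : act 4 n35111 = n33379 := d31_1 D35111 (iv D33379) (iv F154929)
def n35112 : Q := act 9 n33355
theorem D35112 : act 9 n33355 = n35112 := rfl
theorem F162851 : act 0 n35112 = n33737 := d8_1 D35112 F156816 (iv F154927)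
theorem F162852 : act 1 n35112 = n33978 := d16_1 D35112 F162143 F162138
theorem F162853 : act 3 n35112 = n33735 := d29_1 D35112 F156807 (iv F154928)
theorem F162854 : act 4 n35112 = n33380 := d34_1 D35112 (iv D33380) (iv F154929)
theorem F162855 : act 5 n35112 = n33356 := d38_1 D35112 (iv D33356) D33355
def n35113 : Q := act 5 n33357
theorem D35113 : act 5 n33357 = n35113 := rfl
theorem F162856 : act 0 n35113 = n34378 := d4_1 D35113 (iv D34378) (iv F154933)
theorem F162857 : act 3 n35113 = n33359 := d25_1 D35113 (iv D33359) (iv F154934)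
theorem F162858 : act 6 n35113 = n33381 := d35_2 (iv F154935) D35113 (iv D33381) F146450 (iv F146337)
def n35114 : Q := act 9 n33357
theorem D35114 : act 9 n33357 = n35114 := rfl
theorem F162859 : act 0 n35114 = n34379 := d8_1 D35114 (iv D34379) (iv F154933)
theorem F162860 : act 3 n35114 = n33360 := d29_1 D35114 (iv D33360) (iv F154934)
theorem F162861 : act 6 n35114 = n33358 := d41_1 D35114 (iv D33358) (iv F154935)
def n35115 : Q := act 4 n33359
theorem D35115 : act 4 n33359 = n35115 := rfl
theorem F162862 : act 0 n35115 = n34380 := d3_1 D35115 (iv D34380) (iv F154940)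
theorem F162863 : act 2 n35115 = n33483 := d18_1 D35115 (iv D33483) (iv F154941)
theorem F162864 : act 5 n35115 = n33758 := d30_2 D33359 D35115 (iv D33758) (iv D31829) (iv F146344)
theorem F162865 : act 6 n35115 = n33383 := d31_2 (iv F154942) D35115 (iv D33383)
def n35116 : Q := act 9 n33359
theorem D35116 : act 9 n33359 = n35116 := rfl
theorem F162866 : act 0 n35116 = n34381 := d8_1 D35116 (iv D34381) (iv F154940)
theorem F162867 : act 2 n35116 = n33484 := d23_1 D35116 (iv D33484) (iv F154941)
theorem F162868 : act 5 n35116 = n33360 := d38_1 D35116 (iv D33360) D33359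
theorem F162869 : act 6 n35116 = n33384 := d41_1 D35116 (iv D33384) (iv F154942)
def n35117 : Q := act 5 n33361
theorem D35117 : act 5 n33361 = n35117 := rfl
theorem F162870 : act 0 n35117 = n34386 := d4_1 D35117 (iv D34386) (iv F154947)
theorem F162871 : act 1 n35117 = n34728 := d12_1 D35117 (iv D34728) (iv F154948)
theorem F162872 : act 3 n35117 = n33363 := d25_1 D35117 (iv D33363) (iv F154949)
theorem F162873 : act 7 n35117 = n35117 := d36_2 F154951 D35117 (iv D35117)
theorem F162874 : act 8 n35117 = n33381 := d37_2 D33361 D35117 (iv D33381) (iv D31495) (iv F146354)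
def n35118 : Q := act 9 n33361
theorem D35118 : act 9 n33361 = n35118 := rfl
theorem F162875 : act 0 n35118 = n34387 := d8_1 D35118 (iv D34387) (iv F154947)
theorem F162876 : act 1 n35118 = n34729 := d16_1 D35118 (iv D34729) (iv F154948)
theorem F162877 : act 2 n35118 = n33392 := d23_1 D35118 F162187 F162182
theorem F162878 : act 3 n35118 = n33364 := d29_1 D35118 (iv D33364) (iv F154949)
theorem F162879 : act 6 n35118 = n33362 := d41_1 D35118 (iv D33362) (iv F154950)
theorem F162880 : act 7 n35118 = n35118 := d43_1 D35118 (iv D35118) F154951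
theorem F162881 : act 8 n35118 = n35118 := d44_1 D35118 (iv D35118) (iv D33361) F146356 D33361
def n35119 : Q := act 4 n33363
theorem D35119 : act 4 n33363 = n35119 := rfl
theorem F162882 : act 0 n35119 = n34388 := d3_1 D35119 (iv D34388) (iv F154958)
theorem F162883 : act 1 n35119 = n34730 := d11_1 D35119 (iv D34730) (iv F154959)
theorem F162884 : act 2 n35119 = n33486 := d18_1 D35119 (iv D33486) (iv F154960)
theorem F162885 : act 5 n35119 = n35119 := d30_2 D33363 D35119 (iv D35119) (iv D33363) F146370
theorem F162886 : act 7 n35119 = n35119 := d32_2 F154961 D35119 (iv D35119)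
theorem F162887 : act 8 n35119 = n33383 := d33_2 (iv F154962) D35119 (iv D33383)
def n35120 : Q := act 9 n33363
theorem D35120 : act 9 n33363 = n35120 := rfl
theorem F162888 : act 0 n35120 = n34389 := d8_1 D35120 (iv D34389) (iv F154958)
theorem F162889 : act 1 n35120 = n34731 := d16_1 D35120 (iv D34731) (iv F154959)
theorem F162890 : act 2 n35120 = n33487 := d23_1 D35120 (iv D33487) (iv F154960)
theorem F162891 : act 5 n35120 = n33364 := d38_1 D35120 (iv D33364) D33363
theorem F162892 : act 7 n35120 = n35120 := d43_1 D35120 (iv D35120) F154961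
def n35121 : Q := act 8 n33365
theorem D35121 : act 8 n33365 = n35121 := rfl
theorem F162893 : act 0 n35121 = n33368 := d7_1 D35121 (iv D33368) (iv F154970)
theorem F162894 : act 1 n35121 = n34390 := d15_1 D35121 (iv D34390) (iv F154971)
theorem F162895 : act 2 n35121 = n33953 := d22_1 D35121 (iv D33953) (iv F154972)
theorem F162896 : act 3 n35121 = n33488 := d28_1 D35121 (iv D33488) (iv F154973)
theorem F162897 : act 4 n35121 = n33950 := d33_1 D35121 (iv D33950) (iv F154974)
theorem F162898 : act 6 n35121 = n34402 := d40_1 D35121 (iv D34402) F154977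
theorem F162899 : act 7 n35121 = n33366 := d42_1 D35121 (iv D33366) D33365
def n35122 : Q := act 9 n33366
theorem D35122 : act 9 n33366 = n35122 := rfl
theorem F162900 : act 0 n35122 = n33369 := d8_1 D35122 (iv D33369) (iv F154978)
theorem F162901 : act 1 n35122 = n34391 := d16_1 D35122 (iv D34391) (iv F154979)
theorem F162902 : act 2 n35122 = n33955 := d23_1 D35122 (iv D33955) (iv F154980)
theorem F162903 : act 3 n35122 = n33489 := d29_1 D35122 (iv D33489) (iv F154981)
theorem F162904 : act 4 n35122 = n33951 := d34_1 D35122 (iv D33951) (iv F154982)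
theorem F162905 : act 6 n35122 = n35122 := d41_1 D35122 (iv D35122) F154983
theorem F162906 : act 8 n35122 = n35122 := d44_1 D35122 (iv D35122) (iv D33366) F146385 D33366
def n35123 : Q := act 8 n33367
theorem D35123 : act 8 n33367 = n35123 := rfl
theorem F162907 : act 0 n35123 = n34402 := d7_1 D35123 (iv D34402) (iv F154984)
theorem F162908 : act 1 n35123 = n33374 := d15_1 D35123 (iv D33374) (iv F154985)
theorem F162909 : act 2 n35123 = n34723 := d22_1 D35123 (iv D34723) (iv F154986)
theorem F162910 : act 3 n35123 = n33385 := d28_1 D35123 (iv D33385) (iv F154987)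
theorem F162911 : act 4 n35123 = n34721 := d33_1 D35123 (iv D34721) (iv F154988)
theorem F162912 : act 6 n35123 = n33368 := d40_1 D35123 (iv D33368) D33367
theorem F162913 : act 7 n35123 = n35123 := d42_1 D35123 (iv D35123) F154990
def n35124 : Q := act 9 n33368
theorem D35124 : act 9 n33368 = n35124 := rfl
theorem F162914 : act 1 n35124 = n33375 := d16_1 D35124 (iv D33375) (iv F154992)
theorem F162915 : act 2 n35124 = n34725 := d23_1 D35124 (iv D34725) (iv F154993)
theorem F162916 : act 3 n35124 = n33490 := d29_1 D35124 (iv D33490) (iv F154994)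
theorem F162917 : act 4 n35124 = n34722 := d34_1 D35124 (iv D34722) (iv F154995)
theorem F162918 : act 7 n35124 = n33369 := d43_1 D35124 (iv D33369) (iv F154996)
theorem F162919 : act 8 n35124 = n35124 := d44_1 D35124 (iv D35124) (iv D33368) F146398 D33368
def n35125 : Q := act 8 n33370
theorem D35125 : act 8 n33370 = n35125 := rfl
theorem F162920 : act 0 n35125 = n34397 := d7_1 D35125 (iv D34397) (iv F155003)
theorem F162921 : act 1 n35125 = n34721 := d15_1 D35125 (iv D34721) (iv F155004)
theorem F162922 : act 2 n35125 = n33376 := d22_1 D35125 (iv D33376) (iv F155005)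
theorem F162923 : act 3 n35125 = n35125 := d28_1 D35125 (iv D35125) F155006
theorem F162924 : act 4 n35125 = n33374 := d33_1 D35125 (iv D33374) (iv F155007)
theorem F162925 : act 6 n35125 = n33371 := d40_1 D35125 (iv D33371) D33370
theorem F162926 : act 7 n35125 = n35125 := d42_1 D35125 (iv D35125) F155009
def n35126 : Q := act 5 n33371
theorem D35126 : act 5 n33371 = n35126 := rfl
theorem F162927 : act 0 n35126 = n34398 := d4_1 D35126 (iv D34398) (iv F155011)
theorem F162928 : act 1 n35126 = n34557 := d12_1 D35126 F160160 (iv F155012)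
theorem F162929 : act 2 n35126 = n33377 := d19_1 D35126 (iv D33377) (iv F155013)
theorem F162930 : act 3 n35126 = n35126 := d25_1 D35126 (iv D35126) F155014
theorem F162931 : act 7 n35126 = n33372 := d36_2 (iv F155016) D35126 (iv D33372)
theorem F162932 : act 8 n35126 = n34552 := d37_2 D33371 D35126 F160148 F151811 (iv F146409)
def n35127 : Q := act 9 n33371
theorem D35127 : act 9 n33371 = n35127 := rfl
theorem F162933 : act 0 n35127 = n33880 := d8_1 D35127 F157496 (iv F155011)
theorem F162934 : act 1 n35127 = n34722 := d16_1 D35127 (iv D34722) (iv F155012)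
theorem F162935 : act 2 n35127 = n33378 := d23_1 D35127 (iv D33378) (iv F155013)
theorem F162936 : act 3 n35127 = n35127 := d29_1 D35127 (iv D35127) F155014
theorem F162937 : act 4 n35127 = n33375 := d34_1 D35127 (iv D33375) (iv F155015)
theorem F162938 : act 7 n35127 = n33373 := d43_1 D35127 (iv D33373) (iv F155016)
theorem F162939 : act 8 n35127 = n35127 := d44_1 D35127 (iv D35127) (iv D33371) F146410 D33371
def n35128 : Q := act 6 n33372
theorem D35128 : act 6 n33372 = n35128 := rfl
theorem F162940 : act 0 n35128 = n34399 := d5_1 D35128 (iv D34399) (iv F155017)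
theorem F162941 : act 1 n35128 = n34089 := d13_1 D35128 F158449 (iv F155018)
theorem F162942 : act 2 n35128 = n33379 := d20_1 D35128 (iv D33379) (iv F155019)
theorem F162943 : act 3 n35128 = n35128 := d26_1 D35128 (iv D35128) F155020
theorem F162944 : act 5 n35128 = n35128 := d35_1 D35128 (iv D35128) (iv D33372) F146416 D33372
theorem F162945 : act 8 n35128 = n34085 := d40_2 (iv F155021) D35128 F158434
def n35129 : Q := act 9 n33372
theorem D35129 : act 9 n33372 = n35129 := rfl
theorem F162946 : act 0 n35129 = n33841 := d8_1 D35129 F157296 (iv F155017)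
theorem F162947 : act 1 n35129 = n34558 := d16_1 D35129 (iv D34558) (iv F155018)
theorem F162948 : act 2 n35129 = n33380 := d23_1 D35129 (iv D33380) (iv F155019)
theorem F162949 : act 3 n35129 = n35129 := d29_1 D35129 (iv D35129) F155020
theorem F162950 : act 5 n35129 = n33373 := d38_1 D35129 (iv D33373) D33372
def n35130 : Q := act 5 n33374
theorem D35130 : act 5 n33374 = n35130 := rfl
theorem F162951 : act 0 n35130 = n34400 := d4_1 D35130 (iv D34400) (iv F155029)
theorem F162952 : act 2 n35130 = n33381 := d19_1 D35130 (iv D33381) (iv F155030)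
theorem F162953 : act 3 n35130 = n33491 := d25_1 D35130 (iv D33491) (iv F155031)
theorem F162954 : act 7 n35130 = n35130 := d36_2 F155033 D35130 (iv D35130)
def n35131 : Q := act 9 n33374
theorem D35131 : act 9 n33374 = n35131 := rfl
theorem F162955 : act 0 n35131 = n34401 := d8_1 D35131 (iv D34401) (iv F155029)
theorem F162956 : act 2 n35131 = n33382 := d23_1 D35131 (iv D33382) (iv F155030)
theorem F162957 : act 3 n35131 = n33492 := d29_1 D35131 (iv D33492) (iv F155031)
theorem F162958 : act 6 n35131 = n33375 := d41_1 D35131 (iv D33375) (iv F155032)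
theorem F162959 : act 7 n35131 = n35131 := d43_1 D35131 (iv D35131) F155033
theorem F162960 : act 8 n35131 = n35131 := d44_1 D35131 (iv D35131) (iv D33374) F146421 D33374
def n35132 : Q := act 5 n33376
theorem D35132 : act 5 n33376 = n35132 := rfl
theorem F162961 : act 0 n35132 = n34403 := d4_1 D35132 (iv D34403) (iv F155039)
theorem F162962 : act 3 n35132 = n33386 := d25_1 D35132 (iv D33386) (iv F155040)
theorem F162963 : act 7 n35132 = n35132 := d36_2 F155043 D35132 (iv D35132)
def n35133 : Q := act 6 n33377
theorem D35133 : act 6 n33377 = n35133 := rfl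
theorem F162964 : act 0 n35133 = n34404 := d5_1 D35133 (iv D34404) (iv F155044)
theorem F162965 : act 3 n35133 = n33387 := d26_1 D35133 (iv D33387) (iv F155045)
def n35134 : Q := act 9 n33377
theorem D35134 : act 9 n33377 = n35134 := rfl
theorem F162966 : act 0 n35134 = n33842 := d8_1 D35134 F157300 (iv F155044)
theorem F162967 : act 1 n35134 = n33775 := d16_1 D35134 (iv F162194) F162189
theorem F162968 : act 3 n35134 = n33388 := d29_1 D35134 (iv D33388) (iv F155045)
theorem F162969 : act 5 n35134 = n33378 := d38_1 D35134 (iv D33378) D33377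
theorem F162970 : act 7 n35134 = n33380 := d43_1 D35134 (iv D33380) (iv F155046)
def n35135 : Q := act 7 n33379
theorem D35135 : act 7 n33379 = n35135 := rfl
theorem F162971 : act 0 n35135 = n34405 := d6_1 D35135 (iv D34405) (iv F155053)
theorem F162972 : act 3 n35135 = n33389 := d27_1 D35135 (iv D33389) (iv F155054)
theorem F162973 : act 5 n35135 = n35135 := d36_1 D35135 (iv D35135) F155055
def n35136 : Q := act 9 n33379
theorem D35136 : act 9 n33379 = n35136 := rfl
theorem F162974 : act 0 n35136 = n33793 := d8_1 D35136 F157055 (iv F155053)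
theorem F162975 : act 1 n35136 = n33972 := d16_1 D35136 (iv F162201) F162196
theorem F162976 : act 3 n35136 = n33390 := d29_1 D35136 (iv D33390) (iv F155054)
theorem F162977 : act 5 n35136 = n35136 := d38_1 D35136 (iv D35136) F155055
theorem F162978 : act 6 n35136 = n33380 := d41_1 D35136 (iv D33380) D33379
theorem F162979 : act 8 n34026 = n35136 := d28_0 F162976 (iv F155104) D34026
def n35137 : Q := act 8 n33380
theorem D35137 : act 8 n33380 = n35137 := rfl
theorem F162980 : act 0 n35137 = n33843 := d7_1 D35137 (iv D33843) (iv F155056)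
theorem F162981 : act 1 n35137 = n33974 := d15_1 D35137 F158009 (iv F155057)
theorem F162982 : act 3 n35137 = n33391 := d28_1 D35137 (iv D33391) (iv F155058)
theorem F162983 : act 5 n35137 = n35137 := d37_1 D35137 (iv D35137) F155059 F146447 (iv F155059)
theorem F162984 : act 6 n35137 = n34026 := d40_1 D35137 F162979 F162978
def n35138 : Q := act 4 n33381
theorem D35138 : act 4 n33381 = n35138 := rfl
theorem F162985 : act 0 n35138 = n34406 := d3_1 D35138 (iv D34406) (iv F155060)
theorem F162986 : act 7 n35138 = n35138 := d32_2 F155062 D35138 (iv D35138)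
def n35139 : Q := act 9 n33381
theorem D35139 : act 9 n33381 = n35139 := rfl
theorem F162987 : act 0 n35139 = n34407 := d8_1 D35139 (iv D34407) (iv F155060)
theorem F162988 : act 3 n35139 = n33384 := d29_1 D35139 (iv D33384) (iv F155061)
theorem F162989 : act 5 n35139 = n33382 := d38_1 D35139 (iv D33382) D33381
theorem F162990 : act 7 n35139 = n35139 := d43_1 D35139 (iv D35139) F155062
def n35140 : Q := act 3 n33383
theorem D35140 : act 3 n33383 = n35140 := rfl
theorem F162991 : act 0 n35140 = n34408 := d2_1 D35140 (iv D34408) (iv F155068)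
theorem F162992 : act 5 n35140 = n33392 := d25_2 (iv F155070) D35140 (iv D33392)
theorem F162993 : act 7 n35140 = n35140 := d27_2 F155071 D35140 (iv D35140)
def n35141 : Q := act 8 n33384
theorem D35141 : act 8 n33384 = n35141 := rfl
theorem F162994 : act 0 n35141 = n34410 := d7_1 D35141 (iv D34410) (iv F155072)
theorem F162995 : act 2 n35141 = n33493 := d22_1 D35141 F155622 (iv F155073)
theorem F162996 : act 4 n35141 = n33491 := d33_1 D35141 (iv F162231) F162229
theorem F162997 : act 5 n35141 = n35141 := d37_1 D35141 (iv D35141) F155074 F146464 (iv F155074)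
theorem F162998 : act 7 n35141 = n35141 := d42_1 D35141 (iv D35141) F155075
def n35142 : Q := act 5 n33385
theorem D35142 : act 5 n33385 = n35142 := rfl
theorem F162999 : act 0 n35142 = n34411 := d4_1 D35142 (iv D34411) (iv F155076)
theorem F163000 : act 1 n35142 = n33491 := d12_1 D35142 (iv D33491) (iv F155077)
theorem F163001 : act 2 n35142 = n35142 := d19_1 D35142 (iv D35142) F155078
theorem F163002 : act 7 n35142 = n35142 := d36_2 F155081 D35142 (iv D35142)
theorem F163003 : act 8 n35142 = n33386 := d37_2 D33385 D35142 (iv D33386) (iv D31500) D31499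
def n35143 : Q := act 9 n33385
theorem D35143 : act 9 n33385 = n35143 := rfl
theorem F163004 : act 0 n35143 = n34199 := d8_1 D35143 F158797 (iv F155076)
theorem F163005 : act 1 n35143 = n33492 := d16_1 D35143 (iv D33492) (iv F155077)
theorem F163006 : act 2 n35143 = n35143 := d23_1 D35143 (iv D35143) F155078
theorem F163007 : act 4 n35143 = n35143 := d34_1 D35143 (iv D35143) F155079
theorem F163008 : act 6 n35143 = n33490 := d41_1 D35143 (iv D33490) (iv F155080)
theorem F163009 : act 7 n35143 = n35143 := d43_1 D35143 (iv D35143) F155081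
theorem F163010 : act 8 n35143 = n35143 := d44_1 D35143 (iv D35143) (iv D33385) F146471 D33385
def n35144 : Q := act 6 n33386
theorem D35144 : act 6 n33386 = n35144 := rfl
theorem F163011 : act 0 n35144 = n34412 := d5_1 D35144 (iv D34412) (iv F155082)
theorem F163012 : act 2 n35144 = n35144 := d20_1 D35144 (iv D35144) F155083
theorem F163013 : act 5 n35144 = n33387 := d35_1 D35144 (iv D33387) (iv D31501) (iv F146475) D33386
def n35145 : Q := act 7 n33387
theorem D35145 : act 7 n33387 = n35145 := rfl
theorem F163014 : act 0 n35145 = n34413 := d6_1 D35145 (iv D34413) (iv F155085)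
theorem F163015 : act 2 n35145 = n35145 := d21_1 D35145 (iv D35145) F155086
theorem F163016 : act 4 n35145 = n33776 := d32_1 D35145 (iv D33776) (iv F155087)
theorem F163017 : act 6 n35145 = n33389 := d39_1 D35145 (iv D33389) (iv D31503) (iv F146480) D33387
def n35146 : Q := act 9 n33387
theorem D35146 : act 9 n33387 = n35146 := rfl
theorem F163018 : act 0 n35146 = n33844 := d8_1 D35146 F157307 (iv F155085)
theorem F163019 : act 1 n35146 = n33758 := d16_1 D35146 (iv F162238) F162234
theorem F163020 : act 2 n35146 = n35146 := d23_1 D35146 (iv D35146) F155086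
theorem F163021 : act 4 n35146 = n33629 := d34_1 D35146 (iv F156333) (iv F155087)
theorem F163022 : act 6 n35146 = n33388 := d41_1 D35146 (iv D33388) D33387
def n35147 : Q := act 8 n33388
theorem D35147 : act 8 n33388 = n35147 := rfl
theorem F163023 : act 0 n35147 = n33845 := d7_1 D35147 (iv D33845) (iv F155088)
theorem F163024 : act 1 n35147 = n33762 := d15_1 D35147 F156905 (iv F155089)
theorem F163025 : act 2 n35147 = n35147 := d22_1 D35147 (iv D35147) F155090
theorem F163026 : act 4 n35147 = n33636 := d33_1 D35147 F156367 (iv F155091)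
theorem F163027 : act 5 n35147 = n35147 := d37_1 D35147 (iv D35147) F155092 F146486 (iv F155092)
theorem F163028 : act 7 n35147 = n33391 := d42_1 D35147 (iv D33391) (iv F155093)
def n35148 : Q := act 9 n33389
theorem D35148 : act 9 n33389 = n35148 := rfl
theorem F163029 : act 0 n35148 = n33794 := d8_1 D35148 F157060 (iv F155094)
theorem F163030 : act 1 n35148 = n33968 := d16_1 D35148 (iv F162245) F162240
theorem F163031 : act 2 n35148 = n35148 := d23_1 D35148 (iv D35148) F155095
theorem F163032 : act 4 n35148 = n33777 := d34_1 D35148 (iv D33777) (iv F155096)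
theorem F163033 : act 5 n35148 = n35148 := d38_1 D35148 (iv D35148) F155097
theorem F163034 : act 7 n35148 = n33390 := d43_1 D35148 (iv D33390) D33389
theorem F163035 : act 8 n34027 = n35148 := d42_0 F163034 (iv F155104) D34027
def n35149 : Q := act 7 n33393
theorem D35149 : act 7 n33393 = n35149 := rfl
theorem F163036 : act 0 n35149 = n33394 := d6_1 D35149 (iv D33394) (iv F155115)
theorem F163037 : act 1 n35149 = n34414 := d14_1 D35149 (iv D34414) (iv F155116)
theorem F163038 : act 2 n35149 = n35149 := d21_1 D35149 (iv D35149) F155117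
theorem F163039 : act 4 n35149 = n35149 := d32_1 D35149 (iv D35149) F155118
theorem F163040 : act 5 n35149 = n34021 := d36_1 D35149 (iv D34021) (iv F155119)
theorem F163041 : act 6 n35149 = n33412 := d39_1 D35149 (iv D33412) (iv D31525) (iv F146505) D33393
theorem F163042 : act 8 n35149 = n35149 := d42_2 F155120 D35149 (iv D35149)
theorem F163043 : act 9 n35149 = n34736 := d43_2 (iv F155121) D35149 (iv D34736)
def n35150 : Q := act 6 n33395
theorem D35150 : act 6 n33395 = n35150 := rfl
theorem F163044 : act 0 n35150 = n34418 := d5_1 D35150 (iv D34418) (iv F155128)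
theorem F163045 : act 2 n35150 = n33397 := d20_1 D35150 (iv D33397) (iv F155129)
theorem F163046 : act 5 n35150 = n33419 := d35_1 D35150 (iv D33419) F146631 (iv F146520) (iv F155130)
theorem F163047 : act 7 n35150 = n33440 := d39_2 D33395 D35150 (iv D33440) (iv D31554) (iv F146515)
theorem F163048 : act 9 n35150 = n34738 := d41_2 (iv F155131) D35150 (iv D34738)
def n35151 : Q := act 6 n33396
theorem D35151 : act 6 n33396 = n35151 := rfl
theorem F163049 : act 0 n35151 = n34420 := d5_1 D35151 (iv D34420) (iv F155132)
theorem F163050 : act 1 n35151 = n35151 := d13_1 D35151 (iv D35151) F155133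
theorem F163051 : act 3 n35151 = n33822 := d26_1 D35151 F157199 (iv F155134)
theorem F163052 : act 4 n35151 = n33397 := d31_1 D35151 (iv D33397) (iv F155135)
theorem F163053 : act 7 n35151 = n33441 := d39_2 D33396 D35151 (iv D33441) (iv D31555) (iv F146527)
theorem F163054 : act 8 n35151 = n33811 := d40_2 (iv F155137) D35151 F157145
theorem F163055 : act 9 n35151 = n33820 := d41_2 (iv F155138) D35151 F157192
def n35152 : Q := act 8 n33397
theorem D35152 : act 8 n33397 = n35152 := rfl
theorem F163056 : act 0 n35152 = n34421 := d7_1 D35152 (iv D34421) (iv F155139)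
theorem F163057 : act 1 n35152 = n35152 := d15_1 D35152 (iv D35152) F155140
theorem F163058 : act 3 n35152 = n33399 := d28_1 D35152 (iv D33399) (iv F155141)
theorem F163059 : act 4 n35152 = n33811 := d33_1 D35152 (iv F163054) F163052
theorem F163060 : act 6 n35152 = n33398 := d40_1 D35152 (iv D33398) D33397
theorem F163061 : act 7 n35152 = n33442 := d42_1 D35152 (iv D33442) (iv F155143)
theorem F163062 : act 9 n35152 = n33810 := d44_2 (iv F155144) D35152 F157140 (iv F157187) F157186
def n35153 : Q := act 5 n33399
theorem D35153 : act 5 n33399 = n35153 := rfl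
theorem F163063 : act 0 n35153 = n34422 := d4_1 D35153 (iv D34422) (iv F155152)
theorem F163064 : act 1 n35153 = n35153 := d12_1 D35153 (iv D35153) F155153
theorem F163065 : act 6 n35153 = n35153 := d35_2 (iv F155155) D35153 (iv D35153) F155155 F146551
theorem F163066 : act 7 n35153 = n33443 := d36_2 (iv F155156) D35153 (iv D33443)
theorem F163067 : act 8 n35153 = n33426 := d37_2 D33399 D35153 (iv D33426) (iv D31536) (iv F146545)
theorem F163068 : act 9 n35153 = n34189 := d38_2 (iv F155157) D35153 (iv D34189)
def n35154 : Q := act 5 n33400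
theorem D35154 : act 5 n33400 = n35154 := rfl
theorem F163069 : act 0 n35154 = n33401 := d4_1 D35154 (iv D33401) (iv F155158)
theorem F163070 : act 1 n35154 = n33452 := d12_1 D35154 F155436 (iv F155159)
theorem F163071 : act 2 n35154 = n35154 := d19_1 D35154 (iv D35154) F155160
theorem F163072 : act 6 n35154 = n33445 := d35_2 D33400 D35154 (iv D33445) (iv D31560) (iv F146557)
theorem F163073 : act 8 n35154 = n33447 := d37_2 (iv F155162) D35154 F155415 D33502 F155679
theorem F163074 : act 9 n35154 = n33411 := d38_2 (iv F155163) D35154 (iv D33411)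
theorem F163075 : act 4 n33449 = n35154 := d33_3 F163073 (iv D33447) D33449
def n35155 : Q := act 7 n33400
theorem D35155 : act 7 n33400 = n35155 := rfl
theorem F163076 : act 0 n35155 = n33402 := d6_1 D35155 (iv D33402) (iv F155158)
theorem F163077 : act 1 n35155 = n34423 := d14_1 D35155 (iv D34423) (iv F155159)
theorem F163078 : act 2 n35155 = n35155 := d21_1 D35155 (iv D35155) F155160
theorem F163079 : act 4 n35155 = n35155 := d32_1 D35155 (iv D35155) F155161
theorem F163080 : act 6 n35155 = n34736 := d39_1 D35155 (iv D34736) (iv D32921) (iv F146558) D33400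
theorem F163081 : act 8 n35155 = n34739 := d42_2 (iv F155162) D35155 (iv D34739)
theorem F163082 : act 9 n35155 = n33412 := d43_2 (iv F155163) D35155 (iv D33412)
def n35156 : Q := act 4 n33401
theorem D35156 : act 4 n33401 = n35156 := rfl
theorem F163083 : act 0 n35156 = n33449 := d3_1 D35156 F163075 F163069
theorem F163084 : act 1 n35156 = n33403 := d11_1 D35156 (iv D33403) (iv F155164)
theorem F163085 : act 2 n35156 = n35156 := d18_1 D35156 (iv D35156) F155165
theorem F163086 : act 5 n35156 = n35156 := d30_2 D33401 D35156 (iv D35156) (iv D33401) F146563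
theorem F163087 : act 6 n35156 = n33447 := d31_2 (iv F155166) D35156 (iv D33447)
theorem F163088 : act 9 n35156 = n33413 := d34_2 (iv F155167) D35156 (iv D33413)
theorem F163089 : act 8 n33445 = n35156 := d40_0 F163087 (iv F163073) F163072
def n35157 : Q := act 7 n33401
theorem D35157 : act 7 n33401 = n35157 := rfl
theorem F163090 : act 1 n35157 = n33404 := d14_1 D35157 (iv D33404) (iv F155164)
theorem F163091 : act 2 n35157 = n35157 := d21_1 D35157 (iv D35157) F155165
theorem F163092 : act 5 n35157 = n33402 := d36_1 D35157 (iv D33402) D33401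
theorem F163093 : act 9 n35157 = n33414 := d43_2 (iv F155167) D35157 (iv D33414)
def n35158 : Q := act 8 n33401
theorem D35158 : act 8 n33401 = n35158 := rfl
theorem F163094 : act 0 n35158 = n33447 := d7_1 D35158 (iv F163073) F163069
theorem F163095 : act 1 n35158 = n33405 := d15_1 D35158 (iv D33405) (iv F155164)
theorem F163096 : act 2 n35158 = n35158 := d22_1 D35158 (iv D35158) F155165
theorem F163097 : act 4 n35158 = n33445 := d33_1 D35158 F163089 (iv D35156)
theorem F163098 : act 5 n35158 = n33497 := d37_1 D35158 (iv F155646) (iv D32927) (iv F146564) D33401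
theorem F163099 : act 6 n35158 = n33449 := d40_1 D35158 (iv D33449) (iv F155166)
theorem F163100 : act 9 n33462 = n35158 := d38_0 F163098 F155645 (iv F155486)
def n35159 : Q := act 3 n33403
theorem D35159 : act 3 n33403 = n35159 := rfl
theorem F163101 : act 0 n35159 = n34341 := d2_1 D35159 F159347 (iv F155174)
theorem F163102 : act 2 n35159 = n33781 := d17_1 D35159 (iv D33781) F148269 (iv F146578) (iv F155175)
theorem F163103 : act 5 n35159 = n35159 := d25_2 F155176 D35159 (iv D35159)
theorem F163104 : act 6 n35159 = n33450 := d26_2 (iv F155177) D35159 (iv D33450)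
theorem F163105 : act 8 n35159 = n34337 := d28_2 F155179 D35159 F159333
theorem F163106 : act 9 n35159 = n33416 := d29_2 (iv F155178) D35159 (iv D33416)
def n35160 : Q := act 7 n33403
theorem D35160 : act 7 n33403 = n35160 := rfl
theorem F163107 : act 0 n35160 = n34425 := d6_1 D35160 (iv D34425) (iv F155174)
theorem F163108 : act 2 n35160 = n33406 := d21_1 D35160 (iv D33406) (iv F155175)
theorem F163109 : act 4 n35160 = n33404 := d32_1 D35160 (iv D33404) D33403
theorem F163110 : act 5 n35160 = n35160 := d36_1 D35160 (iv D35160) F155176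
theorem F163111 : act 8 n35160 = n34465 := d42_2 F155179 D35160 (iv D34465)
theorem F163112 : act 9 n35160 = n33417 := d43_2 (iv F155178) D35160 (iv D33417)
def n35161 : Q := act 6 n33404
theorem D35161 : act 6 n33404 = n35161 := rfl
theorem F163113 : act 0 n35161 = n34426 := d5_1 D35161 (iv D34426) (iv F155180)
theorem F163114 : act 2 n35161 = n33407 := d20_1 D35161 (iv D33407) (iv F155181)
theorem F163115 : act 5 n35161 = n34738 := d35_1 D35161 (iv D34738) F152495 (iv F146573) (iv F155182)
theorem F163116 : act 7 n35161 = n33453 := d39_2 D33404 D35161 (iv D33453) (iv D31564) (iv F146568)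
theorem F163117 : act 9 n35161 = n33419 := d41_2 (iv F155183) D35161 (iv D33419)
def n35162 : Q := act 8 n33404
theorem D35162 : act 8 n33404 = n35162 := rfl
theorem F163118 : act 0 n35162 = n34427 := d7_1 D35162 (iv D34427) (iv F155180)
theorem F163119 : act 2 n35162 = n33408 := d22_1 D35162 (iv D33408) (iv F155181)
theorem F163120 : act 4 n35162 = n34465 := d33_1 D35162 (iv F163111) F163109
theorem F163121 : act 5 n35162 = n34501 := d37_1 D35162 F159968 F152515 (iv F146574) (iv F155182)
theorem F163122 : act 7 n35162 = n33405 := d42_1 D35162 (iv D33405) D33404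
theorem F163123 : act 9 n34477 = n35162 := d43_0 F163122 (iv F155189) D34477
def n35163 : Q := act 6 n33406
theorem D35163 : act 6 n33406 = n35163 := rfl
theorem F163124 : act 0 n35163 = n34428 := d5_1 D35163 (iv D34428) (iv F155190)
theorem F163125 : act 1 n35163 = n35163 := d13_1 D35163 (iv D35163) F155191
theorem F163126 : act 3 n35163 = n33787 := d26_1 D35163 (iv D33787) (iv F155192)
theorem F163127 : act 4 n35163 = n33407 := d31_1 D35163 (iv D33407) (iv F155193)
theorem F163128 : act 7 n35163 = n33456 := d39_2 D33406 D35163 (iv D33456) (iv D31566) (iv F146580)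
theorem F163129 : act 8 n35163 = n34778 := d40_2 (iv F155195) D35163 (iv D34778)
theorem F163130 : act 9 n35163 = n33422 := d41_2 (iv F155196) D35163 (iv D33422)
def n35164 : Q := act 8 n33407
theorem D35164 : act 8 n33407 = n35164 := rfl
theorem F163131 : act 0 n35164 = n34429 := d7_1 D35164 (iv D34429) (iv F155197)
theorem F163132 : act 1 n35164 = n35164 := d15_1 D35164 (iv D35164) F155198
theorem F163133 : act 3 n35164 = n33409 := d28_1 D35164 (iv D33409) (iv F155199)
theorem F163134 : act 4 n35164 = n34778 := d33_1 D35164 (iv F163129) F163127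
theorem F163135 : act 6 n35164 = n33408 := d40_1 D35164 (iv D33408) D33407
theorem F163136 : act 7 n35164 = n33458 := d42_1 D35164 (iv D33458) (iv F155201)
theorem F163137 : act 9 n34781 = n35164 := d41_0 F163135 (iv F155209) D34781
def n35165 : Q := act 5 n33409
theorem D35165 : act 5 n33409 = n35165 := rfl
theorem F163138 : act 0 n35165 = n34430 := d4_1 D35165 (iv D34430) (iv F155210)
theorem F163139 : act 1 n35165 = n35165 := d12_1 D35165 (iv D35165) F155211
theorem F163140 : act 6 n35165 = n33876 := d35_2 (iv F155213) D35165 F157470 F152539 (iv F146604)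
theorem F163141 : act 7 n35165 = n33460 := d36_2 (iv F155214) D35165 (iv D33460)
theorem F163142 : act 8 n35165 = n33825 := d37_2 D33409 D35165 (iv D33825) F148482 (iv F146598)
theorem F163143 : act 4 n33857 = n35165 := d33_3 F163142 F157213 D33857
def n35166 : Q := act 9 n33409
theorem D35166 : act 9 n33409 = n35166 := rfl
theorem F163144 : act 0 n35166 = n34431 := d8_1 D35166 (iv D34431) (iv F155210)
theorem F163145 : act 1 n35166 = n35166 := d16_1 D35166 (iv D35166) F155211
theorem F163146 : act 3 n35166 = n34781 := d29_1 D35166 F163137 F163133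
theorem F163147 : act 4 n35166 = n33792 := d34_1 D35166 (iv D33792) (iv F155212)
theorem F163148 : act 6 n35166 = n33410 := d41_1 D35166 (iv D33410) (iv F155213)
theorem F163149 : act 7 n35166 = n33461 := d43_1 D35166 (iv D33461) (iv F155214)
theorem F163150 : act 8 n35166 = n33427 := d44_1 D35166 (iv D33427) (iv D31536) (iv F146600) D33409
def n35167 : Q := act 4 n33411
theorem D35167 : act 4 n33411 = n35167 := rfl
theorem F163151 : act 0 n35167 = n33413 := d3_1 D35167 (iv D33413) (iv F155222)
theorem F163152 : act 1 n35167 = n33455 := d11_1 D35167 F155448 (iv F155223)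
theorem F163153 : act 2 n35167 = n35167 := d18_1 D35167 (iv D35167) F155224
theorem F163154 : act 5 n35167 = n35167 := d30_2 D33411 D35167 (iv D35167) (iv D33411) F146616
theorem F163155 : act 6 n35167 = n33462 := d31_2 (iv F155225) D35167 (iv D33462)
theorem F163156 : act 9 n35167 = n33449 := d34_2 F163074 D35167 F163075
theorem F163157 : act 8 n33470 = n35167 := d44_5 F163156 (iv D33449) F146811 D31577 D33470
def n35168 : Q := act 7 n33411
theorem D35168 : act 7 n33411 = n35168 := rfl
theorem F163158 : act 0 n35168 = n33414 := d6_1 D35168 (iv D33414) (iv F155222)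
theorem F163159 : act 1 n35168 = n34432 := d14_1 D35168 (iv D34432) (iv F155223)
theorem F163160 : act 2 n35168 = n35168 := d21_1 D35168 (iv D35168) F155224
theorem F163161 : act 5 n35168 = n33412 := d36_1 D35168 (iv D33412) D33411
def n35169 : Q := act 8 n33411
theorem D35169 : act 8 n33411 = n35169 := rfl
theorem F163162 : act 0 n35169 = n33415 := d7_1 D35169 (iv D33415) (iv F155222)
theorem F163163 : act 1 n35169 = n33475 := d15_1 D35169 F155535 (iv F155223)
theorem F163164 : act 2 n35169 = n35169 := d22_1 D35169 (iv D35169) F155224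
theorem F163165 : act 4 n35169 = n33470 := d33_1 D35169 F163157 (iv D35167)
theorem F163166 : act 5 n35169 = n35169 := d37_1 D35169 (iv D35169) (iv D33411) F146617 D33411
theorem F163167 : act 6 n35169 = n33464 := d40_1 D35169 (iv D33464) (iv F155225)
theorem F163168 : act 9 n35169 = n33467 := d44_2 F163074 D35169 (iv D33467) (iv F155416) (iv F163073)
def n35170 : Q := act 3 n33413
theorem D35170 : act 3 n33413 = n35170 := rfl
theorem F163169 : act 1 n35170 = n33416 := d10_1 D35170 (iv D33416) (iv F155231)
theorem F163170 : act 5 n35170 = n35170 := d25_2 F155233 D35170 (iv D35170)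
theorem F163171 : act 6 n35170 = n33465 := d26_2 (iv F155234) D35170 (iv D33465)
def n35171 : Q := act 7 n33413
theorem D35171 : act 7 n33413 = n35171 := rfl
theorem F163172 : act 1 n35171 = n33417 := d14_1 D35171 (iv D33417) (iv F155231)
theorem F163173 : act 2 n35171 = n35171 := d21_1 D35171 (iv D35171) F155232
theorem F163174 : act 4 n35171 = n33414 := d32_1 D35171 (iv D33414) D33413
theorem F163175 : act 5 n35171 = n35171 := d36_1 D35171 (iv D35171) F155233
def n35172 : Q := act 8 n33413
theorem D35172 : act 8 n33413 = n35172 := rfl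
theorem F163176 : act 0 n35172 = n33470 := d7_1 D35172 F163157 F163151
theorem F163177 : act 1 n35172 = n33418 := d15_1 D35172 (iv D33418) (iv F155231)
theorem F163178 : act 2 n35172 = n35172 := d22_1 D35172 (iv D35172) F155232
theorem F163179 : act 4 n35172 = n33415 := d33_1 D35172 (iv D33415) D33413
theorem F163180 : act 6 n35172 = n33467 := d40_1 D35172 (iv D33467) (iv F155234)
theorem F163181 : act 9 n35172 = n33464 := d44_2 F163088 D35172 (iv D33464) (iv F155405) F163089
theorem F163182 : act 5 n33489 = n35172 := d38_3 F163181 F155494 D33489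
def n35173 : Q := act 6 n33414
theorem D35173 : act 6 n33414 = n35173 := rfl
theorem F163183 : act 1 n35173 = n33419 := d13_1 D35173 (iv D33419) (iv F155235)
theorem F163184 : act 2 n35173 = n35173 := d20_1 D35173 (iv D35173) F155236
theorem F163185 : act 7 n35173 = n33468 := d39_2 D33414 D35173 (iv D33468) (iv D31576) (iv F146620)
def n35174 : Q := act 8 n33414
theorem D35174 : act 8 n33414 = n35174 := rfl
theorem F163186 : act 1 n35174 = n33420 := d15_1 D35174 (iv D33420) (iv F155235)
theorem F163187 : act 2 n35174 = n35174 := d22_1 D35174 (iv D35174) F155236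
theorem F163188 : act 5 n35174 = n35174 := d37_1 D35174 (iv D35174) F155237 F146624 (iv F155237)
theorem F163189 : act 7 n35174 = n33415 := d42_1 D35174 (iv D33415) D33414
def n35175 : Q := act 9 n33415
theorem D35175 : act 9 n33415 = n35175 := rfl
theorem F163190 : act 0 n35175 = n33467 := d8_1 D35175 (iv F163168) F163162
theorem F163191 : act 1 n35175 = n33421 := d16_1 D35175 (iv D33421) (iv F155238)
theorem F163192 : act 2 n35175 = n35175 := d23_1 D35175 (iv D35175) F155239
theorem F163193 : act 4 n35175 = n33464 := d34_1 D35175 (iv F163181) F163179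
theorem F163194 : act 5 n35175 = n35175 := d38_1 D35175 (iv D35175) F155240
theorem F163195 : act 6 n35175 = n33470 := d41_1 D35175 (iv D33470) (iv F155241)
theorem F163196 : act 8 n35175 = n33462 := d44_1 D35175 F163100 (iv D35158) F155167 D33415
def n35176 : Q := act 7 n33416
theorem D35176 : act 7 n33416 = n35176 := rfl
theorem F163197 : act 0 n35176 = n34436 := d6_1 D35176 (iv D34436) (iv F155242)
theorem F163198 : act 2 n35176 = n33799 := d21_1 D35176 (iv D33799) (iv F155243)
theorem F163199 : act 3 n35176 = n33417 := d27_1 D35176 (iv D33417) D33416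
theorem F163200 : act 5 n35176 = n35176 := d36_1 D35176 (iv D35176) F155244
def n35177 : Q := act 8 n33416
theorem D35177 : act 8 n33416 = n35177 := rfl
theorem F163201 : act 0 n35177 = n34364 := d7_1 D35177 F159419 (iv F155242)
theorem F163202 : act 2 n35177 = n33800 := d22_1 D35177 (iv D33800) (iv F155243)
theorem F163203 : act 3 n35177 = n33418 := d28_1 D35177 (iv D33418) D33416
theorem F163204 : act 6 n35177 = n33472 := d40_1 D35177 (iv D33472) (iv F155245)
theorem F163205 : act 9 n35177 = n34358 := d44_2 F163106 D35177 (iv D34358) (iv F159334) (iv F163105)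
theorem F163206 : act 5 n34391 = n35177 := d38_3 F163205 F159401 D34391
def n35178 : Q := act 6 n33417
theorem D35178 : act 6 n33417 = n35178 := rfl
theorem F163207 : act 0 n35178 = n34437 := d5_1 D35178 (iv D34437) (iv F155246)
theorem F163208 : act 2 n35178 = n33422 := d20_1 D35178 (iv D33422) (iv F155247)
theorem F163209 : act 4 n35178 = n33419 := d31_1 D35178 (iv D33419) (iv F155248)
theorem F163210 : act 7 n35178 = n33473 := d39_2 D33417 D35178 (iv D33473) (iv D31579) (iv F146628)
def n35179 : Q := act 8 n33417
theorem D35179 : act 8 n33417 = n35179 := rfl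
theorem F163211 : act 0 n35179 = n34438 := d7_1 D35179 (iv D34438) (iv F155246)
theorem F163212 : act 2 n35179 = n33423 := d22_1 D35179 (iv D33423) (iv F155247)
theorem F163213 : act 4 n35179 = n33420 := d33_1 D35179 (iv D33420) (iv F155248)
theorem F163214 : act 7 n35179 = n33418 := d42_1 D35179 (iv D33418) D33417
theorem F163215 : act 9 n35179 = n34479 := d44_2 F163112 D35179 (iv D34479) (iv F159833) (iv F163111)
theorem F163216 : act 5 n34032 = n35179 := d38_3 F163215 F159884 (iv F158223)
def n35180 : Q := act 8 n33419
theorem D35180 : act 8 n33419 = n35180 := rfl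
theorem F163217 : act 0 n35180 = n34439 := d7_1 D35180 (iv D34439) (iv F155256)
theorem F163218 : act 2 n35180 = n33424 := d22_1 D35180 (iv D33424) (iv F155257)
theorem F163219 : act 6 n35180 = n33420 := d40_1 D35180 (iv D33420) D33419
theorem F163220 : act 7 n35180 = n33476 := d42_1 D35180 (iv D33476) (iv F155258)
def n35181 : Q := act 9 n33420
theorem D35181 : act 9 n33420 = n35181 := rfl
theorem F163221 : act 0 n35181 = n34440 := d8_1 D35181 (iv D34440) (iv F155259)
theorem F163222 : act 2 n35181 = n33425 := d23_1 D35181 (iv D33425) (iv F155260)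
theorem F163223 : act 4 n35181 = n34479 := d34_1 D35181 (iv F163215) F163213
theorem F163224 : act 5 n35181 = n35181 := d38_1 D35181 (iv D35181) F155261
theorem F163225 : act 7 n35181 = n33421 := d43_1 D35181 (iv D33421) (iv F155262)
theorem F163226 : act 8 n35181 = n34477 := d44_1 D35181 F163123 (iv D35162) F155183 D33420
def n35182 : Q := act 5 n33422
theorem D35182 : act 5 n33422 = n35182 := rfl
theorem F163227 : act 0 n35182 = n34441 := d4_1 D35182 (iv D34441) (iv F155269)
theorem F163228 : act 1 n35182 = n35182 := d12_1 D35182 (iv D35182) F155270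
theorem F163229 : act 3 n35182 = n33806 := d25_1 D35182 (iv D33806) (iv F155271)
theorem F163230 : act 6 n35182 = n35182 := d35_2 D33422 D35182 (iv D35182) (iv D33422) F146640
theorem F163231 : act 7 n35182 = n33478 := d36_2 (iv F155273) D35182 (iv D33478)
def n35183 : Q := act 8 n33422
theorem D35183 : act 8 n33422 = n35183 := rfl
theorem F163232 : act 0 n35183 = n34442 := d7_1 D35183 (iv D34442) (iv F155269)
theorem F163233 : act 1 n35183 = n35183 := d15_1 D35183 (iv D35183) F155270
theorem F163234 : act 3 n35183 = n33807 := d28_1 D35183 (iv D33807) (iv F155271)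
theorem F163235 : act 4 n35183 = n33424 := d33_1 D35183 (iv D33424) (iv F155272)
theorem F163236 : act 6 n35183 = n33423 := d40_1 D35183 (iv D33423) D33422
theorem F163237 : act 7 n35183 = n33479 := d42_1 D35183 (iv D33479) (iv F155273)
theorem F163238 : act 9 n35183 = n34782 := d44_2 F163130 D35183 (iv D34782) (iv F160944) (iv F163129)
theorem F163239 : act 5 n34192 = n35183 := d35_5 F163236 (iv F155280) F149780 (iv F150311) (iv F158766)
def n35184 : Q := act 5 n33424
theorem D35184 : act 5 n33424 = n35184 := rfl
theorem F163240 : act 0 n35184 = n34443 := d4_1 D35184 (iv D34443) (iv F155281)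
theorem F163241 : act 1 n35184 = n35184 := d12_1 D35184 (iv D35184) F155282
theorem F163242 : act 3 n35184 = n33426 := d25_1 D35184 (iv D33426) (iv F155283)
theorem F163243 : act 6 n35184 = n35184 := d35_2 (iv F155284) D35184 (iv D35184) F155284 F146655
theorem F163244 : act 7 n35184 = n33481 := d36_2 (iv F155285) D35184 (iv D33481)
def n35185 : Q := act 9 n33424
theorem D35185 : act 9 n33424 = n35185 := rfl
theorem F163245 : act 0 n35185 = n34444 := d8_1 D35185 (iv D34444) (iv F155281)
theorem F163246 : act 1 n35185 = n35185 := d16_1 D35185 (iv D35185) F155282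
theorem F163247 : act 3 n35185 = n33427 := d29_1 D35185 (iv D33427) (iv F155283)
theorem F163248 : act 4 n35185 = n34782 := d34_1 D35185 (iv F163238) F163235
theorem F163249 : act 6 n35185 = n33425 := d41_1 D35185 (iv D33425) (iv F155284)
theorem F163250 : act 7 n35185 = n33482 := d43_1 D35185 (iv D33482) (iv F155285)
theorem F163251 : act 8 n35185 = n34781 := d44_1 D35185 F163137 (iv D35164) F155202 D33424
def n35186 : Q := act 4 n33426
theorem D35186 : act 4 n33426 = n35186 := rfl
theorem F163252 : act 0 n35186 = n34445 := d3_1 D35186 (iv D34445) (iv F155293)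
theorem F163253 : act 1 n35186 = n35186 := d11_1 D35186 (iv D35186) F155294
theorem F163254 : act 5 n35186 = n33810 := d30_2 D33426 D35186 (iv D33810) (iv D31894) (iv F146666)
theorem F163255 : act 6 n35186 = n35186 := d31_2 F155295 D35186 (iv D35186)
theorem F163256 : act 7 n35186 = n33483 := d32_2 (iv F155296) D35186 (iv D33483)
theorem F163257 : act 3 n34189 = n35186 := d25_3 F163254 F157137 D34189
def n35187 : Q := act 9 n33426
theorem D35187 : act 9 n33426 = n35187 := rfl
theorem F163258 : act 0 n35187 = n34446 := d8_1 D35187 (iv D34446) (iv F155293)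
theorem F163259 : act 1 n35187 = n35187 := d16_1 D35187 (iv D35187) F155294
theorem F163260 : act 5 n35187 = n33427 := d38_1 D35187 (iv D33427) D33426
theorem F163261 : act 6 n35187 = n35187 := d41_1 D35187 (iv D35187) F155295
theorem F163262 : act 7 n35187 = n33484 := d43_1 D35187 (iv D33484) (iv F155296)
def n35188 : Q := act 7 n33428
theorem D35188 : act 7 n33428 = n35188 := rfl
theorem F163263 : act 0 n35188 = n33990 := d6_1 D35188 F158068 (iv F155302)
theorem F163264 : act 1 n35188 = n33430 := d14_1 D35188 (iv D33430) (iv F155303)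
theorem F163265 : act 2 n35188 = n35188 := d21_1 D35188 (iv D35188) F155304
theorem F163266 : act 4 n35188 = n34047 := d32_1 D35188 F158288 (iv F155305)
theorem F163267 : act 5 n35188 = n33429 := d36_1 D35188 (iv D33429) D33428
theorem F163268 : act 8 n35188 = n34063 := d42_2 F155308 D35188 F158356
theorem F163269 : act 9 n35188 = n33569 := d43_2 (iv F155307) D35188 F156079
def n35189 : Q := act 6 n33430
theorem D35189 : act 6 n33430 = n35189 := rfl
theorem F163270 : act 0 n35189 = n34447 := d5_1 D35189 (iv D34447) (iv F155316)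
theorem F163271 : act 2 n35189 = n33432 := d20_1 D35189 (iv D33432) (iv F155317)
theorem F163272 : act 5 n35189 = n33817 := d35_1 D35189 (iv D33817) F148431 (iv F146696) (iv F155318)
theorem F163273 : act 7 n35189 = n33720 := d39_2 D33430 D35189 F156739 F147993 (iv F146690)
theorem F163274 : act 8 n35189 = n34112 := d40_2 (iv F155319) D35189 F158514
theorem F163275 : act 9 n35189 = n33667 := d41_2 (iv F155320) D35189 F156509
def n35190 : Q := act 6 n33431
theorem D35190 : act 6 n33431 = n35190 := rfl
theorem F163276 : act 0 n35190 = n34448 := d5_1 D35190 (iv D34448) (iv F155321)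
theorem F163277 : act 1 n35190 = n35190 := d13_1 D35190 (iv D35190) F155322
theorem F163278 : act 3 n35190 = n33441 := d26_1 D35190 (iv D33441) (iv F155323)
theorem F163279 : act 4 n35190 = n33432 := d31_1 D35190 (iv D33432) (iv F155324)
theorem F163280 : act 7 n35190 = n33822 := d39_2 D33431 D35190 F157199 F148462 (iv F146703)
theorem F163281 : act 8 n35190 = n33860 := d40_2 (iv F155326) D35190 F157373
theorem F163282 : act 9 n35190 = n33779 := d41_2 (iv F155327) D35190 F156974
def n35191 : Q := act 5 n33433
theorem D35191 : act 5 n33433 = n35191 := rfl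
theorem F163283 : act 0 n35191 = n34449 := d4_1 D35191 (iv D34449) (iv F155335)
theorem F163284 : act 1 n35191 = n35191 := d12_1 D35191 (iv D35191) F155336
theorem F163285 : act 3 n35191 = n34177 := d25_1 D35191 F158724 (iv F155337)
theorem F163286 : act 6 n35191 = n35191 := d35_2 (iv F155339) D35191 (iv D35191) F155339 F146722
theorem F163287 : act 7 n35191 = n34191 := d36_2 (iv F155340) D35191 F158763
theorem F163288 : act 8 n35191 = n33821 := d37_2 D33433 D35191 (iv D33821) (iv D31905) (iv F146715)
theorem F163289 : act 9 n35191 = n34176 := d38_2 (iv F155341) D35191 (iv D34176)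
def n35192 : Q := act 6 n33434
theorem D35192 : act 6 n33434 = n35192 := rfl
theorem F163290 : act 0 n35192 = n34452 := d5_1 D35192 (iv D34452) (iv F155342)
theorem F163291 : act 2 n35192 = n33437 := d20_1 D35192 (iv D33437) (iv F155343)
theorem F163292 : act 5 n35192 = n33453 := d35_1 D35192 (iv D33453) F146823 (iv F146740) (iv F155344)
theorem F163293 : act 7 n35192 = n34738 := d39_2 D33434 D35192 (iv D34738) (iv D32924) (iv F146735)
theorem F163294 : act 9 n35192 = n33440 := d41_2 (iv F155345) D35192 (iv D33440)
def n35193 : Q := act 8 n33434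
theorem D35193 : act 8 n33434 = n35193 := rfl
theorem F163295 : act 0 n35193 = n34453 := d7_1 D35193 (iv D34453) (iv F155342)
theorem F163296 : act 2 n35193 = n33438 := d22_1 D35193 (iv D33438) (iv F155343)
theorem F163297 : act 4 n35193 = n33763 := d33_1 D35193 (iv F161406) F161403
theorem F163298 : act 5 n35193 = n35193 := d37_1 D35193 (iv D35193) F155344 F146741 (iv F155344)
theorem F163299 : act 7 n35193 = n33435 := d42_1 D35193 (iv D33435) D33434
theorem F163300 : act 9 n35193 = n33762 := d44_2 (iv F155345) D35193 F156905 (iv F154425) F154424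
def n35194 : Q := act 6 n33436
theorem D35194 : act 6 n33436 = n35194 := rfl
theorem F163301 : act 0 n35194 = n34454 := d5_1 D35194 (iv D34454) (iv F155352)
theorem F163302 : act 1 n35194 = n35194 := d13_1 D35194 (iv D35194) F155353
theorem F163303 : act 3 n35194 = n33779 := d26_1 D35194 F156974 (iv F155354)
theorem F163304 : act 4 n35194 = n33437 := d31_1 D35194 (iv D33437) (iv F155355)
theorem F163305 : act 5 n35194 = n34194 := d35_1 D35194 F158771 F150318 F147038 (iv F155356)
theorem F163306 : act 7 n35194 = n33820 := d39_2 D33436 D35194 F157192 F148453 (iv F146747)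
theorem F163307 : act 8 n35194 = n33778 := d40_2 (iv F155357) D35194 (iv D33778)
theorem F163308 : act 9 n35194 = n33441 := d41_2 (iv F155358) D35194 (iv D33441)
def n35195 : Q := act 8 n33437
theorem D35195 : act 8 n33437 = n35195 := rfl
theorem F163309 : act 0 n35195 = n34455 := d7_1 D35195 (iv D34455) (iv F155359)
theorem F163310 : act 1 n35195 = n35195 := d15_1 D35195 (iv D35195) F155360
theorem F163311 : act 3 n35195 = n33439 := d28_1 D35195 (iv D33439) (iv F155361)
theorem F163312 : act 4 n35195 = n33778 := d33_1 D35195 (iv F163307) F163304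
theorem F163313 : act 6 n35195 = n33438 := d40_1 D35195 (iv D33438) D33437
theorem F163314 : act 7 n35195 = n33819 := d42_1 D35195 F157186 (iv F155363)
theorem F163315 : act 9 n35195 = n33826 := d44_2 (iv F155364) D35195 F157221 F155390 (iv D33442)
def n35196 : Q := act 5 n33439
theorem D35196 : act 5 n33439 = n35196 := rfl
theorem F163316 : act 0 n35196 = n34456 := d4_1 D35196 (iv D34456) (iv F155372)
theorem F163317 : act 1 n35196 = n35196 := d12_1 D35196 (iv D35196) F155373
theorem F163318 : act 4 n35196 = n33806 := d30_1 D35196 (iv D33806) F148367 (iv F148257) (iv F155374)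
theorem F163319 : act 6 n35196 = n35196 := d35_2 (iv F155375) D35196 (iv D35196) F155375 F146771
theorem F163320 : act 7 n35196 = n33825 := d36_2 (iv F155376) D35196 (iv D33825)
theorem F163321 : act 8 n35196 = n33460 := d37_2 D33439 D35196 (iv D33460) (iv D31571) (iv F146765)
theorem F163322 : act 9 n35196 = n34175 := d38_2 F155377 D35196 (iv D34175)
def n35197 : Q := act 5 n33441
theorem D35197 : act 5 n33441 = n35197 := rfl
theorem F163323 : act 0 n35197 = n34461 := d4_1 D35197 (iv D34461) (iv F155381)
theorem F163324 : act 1 n35197 = n35197 := d12_1 D35197 (iv D35197) F155382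
theorem F163325 : act 4 n35197 = n33478 := d30_1 D35197 (iv D33478) F146908 (iv F146785) (iv F155383)
theorem F163326 : act 6 n35197 = n33496 := d35_2 D33441 D35197 (iv D33496) (iv D31611) (iv F146780)
theorem F163327 : act 8 n35197 = n33840 := d37_2 (iv F155384) D35197 F157292 F148558 (iv F148635)
theorem F163328 : act 9 n35197 = n34194 := d38_2 F163308 D35197 (iv F163305)
def n35198 : Q := act 5 n33442
theorem D35198 : act 5 n33442 = n35198 := rfl
theorem F163329 : act 0 n35198 = n34462 := d4_1 D35198 (iv D34462) (iv F155385)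
theorem F163330 : act 1 n35198 = n35198 := d12_1 D35198 (iv D35198) F155386
theorem F163331 : act 3 n35198 = n33443 := d25_1 D35198 (iv D33443) (iv F155387)
theorem F163332 : act 4 n35198 = n33484 := d30_1 D35198 F155573 F146936 (iv F148635) (iv F155388)
theorem F163333 : act 6 n35198 = n33485 := d35_2 (iv F155389) D35198 (iv D33485) F146942 (iv F146790)
theorem F163334 : act 8 n35198 = n33481 := d37_2 D33442 D35198 (iv D33481) (iv D31587) (iv F146785)
theorem F163335 : act 9 n35198 = n33483 := d38_2 F155390 D35198 F155569
def n35199 : Q := act 4 n33443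
theorem D35199 : act 4 n33443 = n35199 := rfl
theorem F163336 : act 0 n35199 = n34463 := d3_1 D35199 (iv D34463) (iv F155391)
theorem F163337 : act 1 n35199 = n35199 := d11_1 D35199 (iv D35199) F155392
theorem F163338 : act 6 n35199 = n33486 := d31_2 (iv F155393) D35199 (iv D33486)
theorem F163339 : act 8 n35199 = n33483 := d33_2 (iv F155394) D35199 (iv D33483)
def n35200 : Q := act 9 n33443
theorem D35200 : act 9 n33443 = n35200 := rfl
theorem F163340 : act 0 n35200 = n34464 := d8_1 D35200 (iv D34464) (iv F155391)
theorem F163341 : act 1 n35200 = n35200 := d16_1 D35200 (iv D35200) F155392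
theorem F163342 : act 3 n35200 = n33483 := d29_1 D35200 (iv F163335) F163331
theorem F163343 : act 5 n35200 = n33444 := d38_1 D35200 (iv D33444) D33443
theorem F163344 : act 6 n35200 = n33487 := d41_1 D35200 (iv D33487) (iv F155393)
theorem F163345 : act 7 n35200 = n34189 := d43_1 D35200 (iv F163068) F163066
def n35201 : Q := act 7 n33445
theorem D35201 : act 7 n33445 = n35201 := rfl
theorem F163346 : act 0 n35201 = n33448 := d6_1 D35201 (iv D33448) (iv F155402)
theorem F163347 : act 1 n35201 = n34465 := d14_1 D35201 (iv D34465) (iv F155403)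
theorem F163348 : act 2 n35201 = n35201 := d21_1 D35201 (iv D35201) F155404
theorem F163349 : act 5 n35201 = n33446 := d36_1 D35201 (iv D33446) D33445
theorem F163350 : act 9 n35201 = n33463 := d43_2 (iv F155405) D35201 (iv D33463)
def n35202 : Q := act 3 n33447
theorem D35202 : act 3 n33447 = n35202 := rfl
theorem F163351 : act 1 n35202 = n33450 := d10_1 D35202 (iv D33450) (iv F155413)
theorem F163352 : act 5 n35202 = n33500 := d25_2 (iv F155415) D35202 (iv D33500)
theorem F163353 : act 9 n35202 = n33465 := d29_2 (iv F155416) D35202 (iv D33465)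
theorem F163354 : act 2 n34394 = n35202 := d19_3 F163352 (iv F155666) D34394
def n35203 : Q := act 7 n33447
theorem D35203 : act 7 n33447 = n35203 := rfl
theorem F163355 : act 1 n35203 = n33451 := d14_1 D35203 (iv D33451) (iv F155413)
theorem F163356 : act 2 n35203 = n35203 := d21_1 D35203 (iv D35203) F155414
theorem F163357 : act 4 n35203 = n33448 := d32_1 D35203 (iv D33448) D33447
theorem F163358 : act 5 n35203 = n33501 := d36_1 D35203 (iv D33501) (iv F155415)
theorem F163359 : act 9 n35203 = n33466 := d43_2 (iv F155416) D35203 (iv D33466)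
def n35204 : Q := act 6 n33448
theorem D35204 : act 6 n33448 = n35204 := rfl
theorem F163360 : act 1 n35204 = n33453 := d13_1 D35204 (iv D33453) (iv F155417)
theorem F163361 : act 2 n35204 = n35204 := d20_1 D35204 (iv D35204) F155418
theorem F163362 : act 9 n35204 = n33468 := d41_2 (iv F155420) D35204 (iv D33468)
def n35205 : Q := act 8 n33448
theorem D35205 : act 8 n33448 = n35205 := rfl
theorem F163363 : act 1 n35205 = n33454 := d15_1 D35205 (iv D33454) (iv F155417)
theorem F163364 : act 2 n35205 = n35205 := d22_1 D35205 (iv D35205) F155418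
theorem F163365 : act 5 n35205 = n35205 := d37_1 D35205 (iv D35205) F155419 F146815 (iv F155419)
theorem F163366 : act 7 n35205 = n33449 := d42_1 D35205 (iv D33449) D33448
def n35206 : Q := act 7 n33450
theorem D35206 : act 7 n33450 = n35206 := rfl
theorem F163367 : act 0 n35206 = n34467 := d6_1 D35206 (iv D34467) (iv F155424)
theorem F163368 : act 2 n35206 = n33827 := d21_1 D35206 (iv D33827) (iv F155425)
theorem F163369 : act 3 n35206 = n33451 := d27_1 D35206 (iv D33451) D33450
theorem F163370 : act 5 n35206 = n33504 := d36_1 D35206 (iv D33504) (iv F155426)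
theorem F163371 : act 9 n35206 = n33471 := d43_2 (iv F155427) D35206 (iv D33471)
def n35207 : Q := act 8 n33450
theorem D35207 : act 8 n33450 = n35207 := rfl
theorem F163372 : act 0 n35207 = n34231 := d7_1 D35207 F158938 (iv F155424)
theorem F163373 : act 2 n35207 = n33828 := d22_1 D35207 (iv D33828) (iv F155425)
theorem F163374 : act 3 n35207 = n33452 := d28_1 D35207 (iv D33452) D33450
theorem F163375 : act 5 n35207 = n33992 := d37_1 D35207 (iv D33992) F149616 F147095 (iv F155426)
theorem F163376 : act 6 n35207 = n34337 := d40_1 D35207 (iv F163105) F163104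
theorem F163377 : act 9 n34296 = n35207 := d41_0 F163376 F159334 (iv F159200)
def n35208 : Q := act 6 n33451
theorem D35208 : act 6 n33451 = n35208 := rfl
theorem F163378 : act 0 n35208 = n34468 := d5_1 D35208 (iv D34468) (iv F155428)
theorem F163379 : act 2 n35208 = n33456 := d20_1 D35208 (iv D33456) (iv F155429)
theorem F163380 : act 4 n35208 = n33453 := d31_1 D35208 (iv D33453) (iv F155430)
theorem F163381 : act 9 n35208 = n33473 := d41_2 (iv F155432) D35208 (iv D33473)
def n35209 : Q := act 8 n33451
theorem D35209 : act 8 n33451 = n35209 := rfl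
theorem F163382 : act 0 n35209 = n34424 := d7_1 D35209 F159634 (iv F155428)
theorem F163383 : act 2 n35209 = n33457 := d22_1 D35209 (iv D33457) (iv F155429)
theorem F163384 : act 4 n35209 = n33454 := d33_1 D35209 (iv D33454) (iv F155430)
theorem F163385 : act 5 n35209 = n34423 := d37_1 D35209 F159628 F155703 (iv D33506) (iv F155431)
theorem F163386 : act 7 n35209 = n33452 := d42_1 D35209 (iv D33452) D33451
theorem F163387 : act 9 n34432 = n35209 := d43_0 F163386 (iv F155438) D34432
def n35210 : Q := act 8 n33453
theorem D35210 : act 8 n33453 = n35210 := rfl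
theorem F163388 : act 0 n35210 = n34469 := d7_1 D35210 (iv D34469) (iv F155439)
theorem F163389 : act 2 n35210 = n33458 := d22_1 D35210 (iv D33458) (iv F155440)
theorem F163390 : act 6 n35210 = n33454 := d40_1 D35210 (iv D33454) D33453
def n35211 : Q := act 9 n33454
theorem D35211 : act 9 n33454 = n35211 := rfl
theorem F163391 : act 0 n35211 = n34433 := d8_1 D35211 F159683 (iv F155442)
theorem F163392 : act 2 n35211 = n33459 := d23_1 D35211 (iv D33459) (iv F155443)
theorem F163393 : act 4 n35211 = n34432 := d34_1 D35211 F163387 F163384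
theorem F163394 : act 5 n35211 = n35211 := d38_1 D35211 (iv D35211) F155444
theorem F163395 : act 7 n35211 = n33455 := d43_1 D35211 (iv D33455) (iv F155445)
theorem F163396 : act 8 n35211 = n33477 := d44_1 D35211 (iv D33477) (iv D31582) (iv F146824) D33454
def n35212 : Q := act 5 n33456
theorem D35212 : act 5 n33456 = n35212 := rfl
theorem F163397 : act 0 n35212 = n34470 := d4_1 D35212 (iv D34470) (iv F155452)
theorem F163398 : act 1 n35212 = n35212 := d12_1 D35212 (iv D35212) F155453
theorem F163399 : act 3 n35212 = n33834 := d25_1 D35212 (iv D33834) (iv F155454)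
theorem F163400 : act 4 n35212 = n34194 := d30_1 D35212 (iv F163305) F163304 F155362 (iv F155455)
theorem F163401 : act 6 n35212 = n33508 := d35_2 D33456 D35212 (iv D33508) (iv D31622) (iv F146832)
theorem F163402 : act 9 n35212 = n33478 := d38_2 (iv F155456) D35212 (iv D33478)
theorem F163403 : act 8 n34193 = n35212 := d40_0 F163401 (iv F155717) (iv F158769)
def n35213 : Q := act 8 n33456
theorem D35213 : act 8 n33456 = n35213 := rfl
theorem F163404 : act 0 n35213 = n34471 := d7_1 D35213 (iv D34471) (iv F155452)
theorem F163405 : act 1 n35213 = n35213 := d15_1 D35213 (iv D35213) F155453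
theorem F163406 : act 3 n35213 = n33835 := d28_1 D35213 (iv D33835) (iv F155454)
theorem F163407 : act 4 n35213 = n33458 := d33_1 D35213 (iv D33458) (iv F155455)
theorem F163408 : act 6 n35213 = n33457 := d40_1 D35213 (iv D33457) D33456
theorem F163409 : act 7 n35213 = n34778 := d42_1 D35213 (iv F163129) F163128
theorem F163410 : act 9 n34767 = n35213 := d43_0 F163409 F160944 (iv F160879)
theorem F163411 : act 5 n34759 = n35213 := d35_5 F163408 F155461 F152656 (iv F152738) D34759
def n35214 : Q := act 5 n33458
theorem D35214 : act 5 n33458 = n35214 := rfl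
theorem F163412 : act 0 n35214 = n34472 := d4_1 D35214 (iv D34472) (iv F155464)
theorem F163413 : act 1 n35214 = n35214 := d12_1 D35214 (iv D35214) F155465
theorem F163414 : act 3 n35214 = n33460 := d25_1 D35214 (iv D33460) (iv F155466)
theorem F163415 : act 6 n35214 = n35214 := d35_2 (iv F155467) D35214 (iv D35214) F155467 F146848
def n35215 : Q := act 9 n33458
theorem D35215 : act 9 n33458 = n35215 := rfl
theorem F163416 : act 0 n35215 = n34473 := d8_1 D35215 (iv D34473) (iv F155464)
theorem F163417 : act 1 n35215 = n35215 := d16_1 D35215 (iv D35215) F155465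
theorem F163418 : act 3 n35215 = n33461 := d29_1 D35215 (iv D33461) (iv F155466)
theorem F163419 : act 4 n35215 = n34767 := d34_1 D35215 F163410 F163407
theorem F163420 : act 6 n35215 = n33459 := d41_1 D35215 (iv D33459) (iv F155467)
theorem F163421 : act 7 n35215 = n34781 := d43_1 D35215 F163137 F163136
theorem F163422 : act 8 n35215 = n33482 := d44_1 D35215 (iv D33482) (iv D31587) (iv F146844) D33458
def n35216 : Q := act 4 n33460
theorem D35216 : act 4 n33460 = n35216 := rfl
theorem F163423 : act 0 n35216 = n34474 := d3_1 D35216 (iv D34474) (iv F155475)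
theorem F163424 : act 1 n35216 = n35216 := d11_1 D35216 (iv D35216) F155476
theorem F163425 : act 5 n35216 = n33839 := d30_2 D33460 D35216 (iv D33839) (iv D31924) (iv F146859)
theorem F163426 : act 6 n35216 = n35216 := d31_2 F155477 D35216 (iv D35216)
theorem F163427 : act 7 n35216 = n33857 := d32_2 F163141 D35216 F163143
theorem F163428 : act 8 n35216 = n33806 := d33_2 F163321 D35216 (iv F163318)
def n35217 : Q := act 9 n33460
theorem D35217 : act 9 n33460 = n35217 := rfl
theorem F163429 : act 0 n35217 = n34475 := d8_1 D35217 (iv D34475) (iv F155475)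
theorem F163430 : act 1 n35217 = n35217 := d16_1 D35217 (iv D35217) F155476
theorem F163431 : act 5 n35217 = n33461 := d38_1 D35217 (iv D33461) D33460
theorem F163432 : act 6 n35217 = n35217 := d41_1 D35217 (iv D35217) F155477
def n35218 : Q := act 3 n33462
theorem D35218 : act 3 n33462 = n35218 := rfl
theorem F163433 : act 0 n35218 = n33465 := d2_1 D35218 (iv D33465) (iv F155483)
theorem F163434 : act 1 n35218 = n34476 := d10_1 D35218 (iv D34476) (iv F155484)
theorem F163435 : act 5 n35218 = n33510 := d25_2 (iv F155486) D35218 (iv D33510)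
def n35219 : Q := act 7 n33462
theorem D35219 : act 7 n33462 = n35219 := rfl
theorem F163436 : act 0 n35219 = n33466 := d6_1 D35219 (iv D33466) (iv F155483)
theorem F163437 : act 1 n35219 = n34477 := d14_1 D35219 (iv D34477) (iv F155484)
theorem F163438 : act 2 n35219 = n35219 := d21_1 D35219 (iv D35219) F155485
theorem F163439 : act 4 n35219 = n33463 := d32_1 D35219 (iv D33463) D33462
theorem F163440 : act 5 n35219 = n33511 := d36_1 D35219 (iv D33511) (iv F155486)
def n35220 : Q := act 6 n33463
theorem D35220 : act 6 n33463 = n35220 := rfl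
theorem F163441 : act 0 n35220 = n33468 := d5_1 D35220 (iv D33468) (iv F155487)
theorem F163442 : act 1 n35220 = n34478 := d13_1 D35220 (iv D34478) (iv F155488)
theorem F163443 : act 2 n35220 = n35220 := d20_1 D35220 (iv D35220) F155489
theorem F163444 : act 5 n35220 = n34019 := d35_1 D35220 (iv D34019) (iv D32157) (iv F146874) (iv F155490)
def n35221 : Q := act 8 n33463
theorem D35221 : act 8 n33463 = n35221 := rfl
theorem F163445 : act 0 n35221 = n33469 := d7_1 D35221 (iv D33469) (iv F155487)
theorem F163446 : act 1 n35221 = n34479 := d15_1 D35221 (iv D34479) (iv F155488)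
theorem F163447 : act 2 n35221 = n35221 := d22_1 D35221 (iv D35221) F155489
theorem F163448 : act 5 n35221 = n33488 := d37_1 D35221 (iv D33488) F146960 (iv F146875) (iv F155490)
theorem F163449 : act 7 n35221 = n33464 := d42_1 D35221 (iv D33464) D33463
def n35222 : Q := act 2 n33465
theorem D35222 : act 2 n33465 = n35222 := rfl
theorem F163450 : act 1 n35222 = n33841 := d9_1 D35222 (iv D33841) F148559 (iv F146886) (iv F155495)
theorem F163451 : act 3 n35222 = n35222 := d17_2 D33465 D35222 (iv D35222) (iv D33465) F146877
theorem F163452 : act 5 n35222 = n33512 := d19_2 (iv F155496) D35222 (iv D33512)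
theorem F163453 : act 9 n35222 = n34394 := d23_2 F163353 D35222 F163354
def n35223 : Q := act 7 n33465
theorem D35223 : act 7 n33465 = n35223 := rfl
theorem F163454 : act 1 n35223 = n33471 := d14_1 D35223 (iv D33471) (iv F155495)
theorem F163455 : act 3 n35223 = n33466 := d27_1 D35223 (iv D33466) D33465
theorem F163456 : act 5 n35223 = n33513 := d36_1 D35223 (iv D33513) (iv F155496)
def n35224 : Q := act 8 n33465
theorem D35224 : act 8 n33465 = n35224 := rfl
theorem F163457 : act 1 n35224 = n33472 := d15_1 D35224 (iv D33472) (iv F155495)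
theorem F163458 : act 3 n35224 = n33467 := d28_1 D35224 (iv D33467) D33465
theorem F163459 : act 5 n35224 = n35224 := d37_1 D35224 (iv D35224) F155496 F147161 (iv F155496)
def n35225 : Q := act 6 n33466
theorem D35225 : act 6 n33466 = n35225 := rfl
theorem F163460 : act 1 n35225 = n33473 := d13_1 D35225 (iv D33473) (iv F155497)
theorem F163461 : act 2 n35225 = n35225 := d20_1 D35225 (iv D35225) F155498
theorem F163462 : act 4 n35225 = n33468 := d31_1 D35225 (iv D33468) (iv F155499)
def n35226 : Q := act 8 n33466
theorem D35226 : act 8 n33466 = n35226 := rfl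
theorem F163463 : act 1 n35226 = n33474 := d15_1 D35226 (iv D33474) (iv F155497)
theorem F163464 : act 2 n35226 = n35226 := d22_1 D35226 (iv D35226) F155498
theorem F163465 : act 4 n35226 = n33469 := d33_1 D35226 (iv D33469) (iv F155499)
theorem F163466 : act 5 n35226 = n35226 := d37_1 D35226 (iv D35226) F155500 F147165 (iv F155500)
theorem F163467 : act 7 n35226 = n33467 := d42_1 D35226 (iv D33467) D33466
def n35227 : Q := act 8 n33468
theorem D35227 : act 8 n33468 = n35227 := rfl
theorem F163468 : act 1 n35227 = n33476 := d15_1 D35227 (iv D33476) (iv F155505)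
theorem F163469 : act 2 n35227 = n35227 := d22_1 D35227 (iv D35227) F155506
theorem F163470 : act 6 n35227 = n33469 := d40_1 D35227 (iv D33469) D33468
def n35228 : Q := act 9 n33469
theorem D35228 : act 9 n33469 = n35228 := rfl
theorem F163471 : act 1 n35228 = n33477 := d16_1 D35228 (iv D33477) (iv F155507)
theorem F163472 : act 2 n35228 = n35228 := d23_1 D35228 (iv D35228) F155508
theorem F163473 : act 5 n35228 = n33490 := d38_1 D35228 (iv D33490) (iv F155509)
theorem F163474 : act 7 n35228 = n33470 := d43_1 D35228 (iv D33470) (iv F155510)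
def n35229 : Q := act 6 n33471
theorem D35229 : act 6 n33471 = n35229 := rfl
theorem F163475 : act 0 n35229 = n34483 := d5_1 D35229 (iv D34483) (iv F155514)
theorem F163476 : act 2 n35229 = n33849 := d20_1 D35229 (iv D33849) (iv F155515)
theorem F163477 : act 3 n35229 = n33473 := d26_1 D35229 (iv D33473) (iv F155516)
def n35230 : Q := act 8 n33471
theorem D35230 : act 8 n33471 = n35230 := rfl
theorem F163478 : act 0 n35230 = n34484 := d7_1 D35230 (iv D34484) (iv F155514)
theorem F163479 : act 2 n35230 = n33850 := d22_1 D35230 (iv D33850) (iv F155515)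
theorem F163480 : act 3 n35230 = n33474 := d28_1 D35230 (iv D33474) (iv F155516)
theorem F163481 : act 5 n35230 = n35230 := d37_1 D35230 (iv D35230) F155517 F147169 (iv F155517)
theorem F163482 : act 7 n35230 = n33472 := d42_1 D35230 (iv D33472) D33471
def n35231 : Q := act 9 n33472
theorem D35231 : act 9 n33472 = n35231 := rfl
theorem F163483 : act 0 n35231 = n34300 := d8_1 D35231 F159214 (iv F155518)
theorem F163484 : act 2 n35231 = n33851 := d23_1 D35231 (iv D33851) (iv F155519)
theorem F163485 : act 3 n35231 = n33475 := d29_1 D35231 (iv D33475) (iv F155520)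
theorem F163486 : act 5 n35231 = n35231 := d38_1 D35231 (iv D35231) F155521
theorem F163487 : act 6 n35231 = n34358 := d41_1 D35231 (iv F163205) F163204
theorem F163488 : act 8 n35231 = n34296 := d44_1 D35231 F163377 (iv D35207) F155427 D33472
def n35232 : Q := act 5 n33473
theorem D35232 : act 5 n33473 = n35232 := rfl
theorem F163489 : act 0 n35232 = n34485 := d4_1 D35232 (iv D34485) (iv F155522)
theorem F163490 : act 2 n35232 = n33478 := d19_1 D35232 (iv D33478) (iv F155523)
theorem F163491 : act 6 n35232 = n33515 := d35_2 D33473 D35232 (iv D33515) (iv D31631) (iv F146891)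
def n35233 : Q := act 8 n33473
theorem D35233 : act 8 n33473 = n35233 := rfl
theorem F163492 : act 0 n35233 = n34486 := d7_1 D35233 (iv D34486) (iv F155522)
theorem F163493 : act 2 n35233 = n33479 := d22_1 D35233 (iv D33479) (iv F155523)
theorem F163494 : act 4 n35233 = n33476 := d33_1 D35233 (iv D33476) (iv F155524)
theorem F163495 : act 6 n35233 = n33474 := d40_1 D35233 (iv D33474) D33473
def n35234 : Q := act 9 n33474
theorem D35234 : act 9 n33474 = n35234 := rfl
theorem F163496 : act 0 n35234 = n34435 := d8_1 D35234 F159692 (iv F155525)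
theorem F163497 : act 2 n35234 = n33480 := d23_1 D35234 (iv D33480) (iv F155526)
theorem F163498 : act 4 n35234 = n33477 := d34_1 D35234 (iv D33477) (iv F155527)
theorem F163499 : act 5 n35234 = n35234 := d38_1 D35234 (iv D35234) F155528
theorem F163500 : act 7 n35234 = n33475 := d43_1 D35234 (iv D33475) (iv F155529)
theorem F163501 : act 8 n35234 = n34432 := d44_1 D35234 F163387 (iv D35209) F155432 D33474
def n35235 : Q := act 5 n33476
theorem D35235 : act 5 n33476 = n35235 := rfl
theorem F163502 : act 0 n35235 = n34487 := d4_1 D35235 (iv D34487) (iv F155536)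
theorem F163503 : act 2 n35235 = n33481 := d19_1 D35235 (iv D33481) (iv F155537)
theorem F163504 : act 6 n35235 = n33491 := d35_2 (iv F155538) D35235 (iv D33491) F146980 (iv F146900)
def n35236 : Q := act 9 n33476
theorem D35236 : act 9 n33476 = n35236 := rfl
theorem F163505 : act 0 n35236 = n34488 := d8_1 D35236 (iv D34488) (iv F155536)
theorem F163506 : act 2 n35236 = n33482 := d23_1 D35236 (iv D33482) (iv F155537)
theorem F163507 : act 6 n35236 = n33477 := d41_1 D35236 (iv D33477) (iv F155538)
def n35237 : Q := act 8 n33478
theorem D35237 : act 8 n33478 = n35237 := rfl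
theorem F163508 : act 0 n35237 = n34489 := d7_1 D35237 (iv D34489) (iv F155543)
theorem F163509 : act 1 n35237 = n35237 := d15_1 D35237 (iv D35237) F155544
theorem F163510 : act 3 n35237 = n33857 := d28_1 D35237 (iv D33857) (iv F155545)
theorem F163511 : act 4 n35237 = n33840 := d33_1 D35237 (iv F163327) F163325
theorem F163512 : act 6 n35237 = n33516 := d40_1 D35237 (iv D33516) (iv F155546)
theorem F163513 : act 9 n35237 = n33839 := d44_2 F163402 D35237 F157289 D34193 F163403
def n35238 : Q := act 5 n33479
theorem D35238 : act 5 n33479 = n35238 := rfl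
theorem F163514 : act 0 n35238 = n34490 := d4_1 D35238 (iv D34490) (iv F155547)
theorem F163515 : act 1 n35238 = n35238 := d12_1 D35238 (iv D35238) F155548
theorem F163516 : act 3 n35238 = n33858 := d25_1 D35238 (iv D33858) (iv F155549)
theorem F163517 : act 6 n35238 = n35238 := d35_2 (iv F155551) D35238 (iv D35238) F155551 F146913
theorem F163518 : act 7 n35238 = n34192 := d36_2 F163237 D35238 F163239
def n35239 : Q := act 9 n33479
theorem D35239 : act 9 n33479 = n35239 := rfl
theorem F163519 : act 0 n35239 = n34491 := d8_1 D35239 (iv D34491) (iv F155547)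
theorem F163520 : act 1 n35239 = n35239 := d16_1 D35239 (iv D35239) F155548
theorem F163521 : act 3 n35239 = n33859 := d29_1 D35239 (iv D33859) (iv F155549)
theorem F163522 : act 4 n35239 = n33482 := d34_1 D35239 (iv D33482) (iv F155550)
theorem F163523 : act 6 n35239 = n33480 := d41_1 D35239 (iv D33480) (iv F155551)
theorem F163524 : act 7 n35239 = n34782 := d43_1 D35239 (iv F163238) F163237
theorem F163525 : act 8 n35239 = n34767 := d44_1 D35239 F163410 (iv D35213) F155456 D33479
def n35240 : Q := act 4 n33481
theorem D35240 : act 4 n33481 = n35240 := rfl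
theorem F163526 : act 0 n35240 = n34492 := d3_1 D35240 (iv D34492) (iv F155559)
theorem F163527 : act 1 n35240 = n35240 := d11_1 D35240 (iv D35240) F155560
theorem F163528 : act 6 n35240 = n33493 := d31_2 (iv F155562) D35240 (iv D33493)
theorem F163529 : act 8 n35240 = n33484 := d33_2 F163334 D35240 (iv F163332)
def n35241 : Q := act 9 n33481
theorem D35241 : act 9 n33481 = n35241 := rfl
theorem F163530 : act 0 n35241 = n34493 := d8_1 D35241 (iv D34493) (iv F155559)
theorem F163531 : act 1 n35241 = n35241 := d16_1 D35241 (iv D35241) F155560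
theorem F163532 : act 3 n35241 = n33484 := d29_1 D35241 (iv D33484) (iv F155561)
theorem F163533 : act 5 n35241 = n33482 := d38_1 D35241 (iv D33482) D33481
theorem F163534 : act 6 n35241 = n33494 := d41_1 D35241 (iv D33494) (iv F155562)
def n35242 : Q := act 3 n33486
theorem D35242 : act 3 n33486 = n35242 := rfl
theorem F163535 : act 0 n35242 = n34494 := d2_1 D35242 (iv D34494) (iv F155582)
theorem F163536 : act 1 n35242 = n35242 := d10_1 D35242 (iv D35242) F155583
theorem F163537 : act 4 n35242 = n33494 := d24_2 D33486 D35242 F155625 (iv F155578) F155577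
theorem F163538 : act 5 n35242 = n35242 := d25_2 F155584 D35242 (iv D35242)
theorem F163539 : act 7 n35242 = n35242 := d27_2 F155585 D35242 (iv D35242)
theorem F163540 : act 8 n35242 = n33487 := d28_2 (iv F155586) D35242 F155589
theorem F163541 : act 9 n33493 = n35242 := d44_0 F163540 (iv D33487) F146948 D31603 (iv F155622)
def n35243 : Q := act 9 n33486
theorem D35243 : act 9 n33486 = n35243 := rfl
theorem F163542 : act 0 n35243 = n34495 := d8_1 D35243 (iv D34495) (iv F155582)
theorem F163543 : act 1 n35243 = n35243 := d16_1 D35243 (iv D35243) F155583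
theorem F163544 : act 3 n35243 = n33493 := d29_1 D35243 F163541 (iv D35242)
theorem F163545 : act 4 n35243 = n33487 := d34_1 D35243 (iv D33487) D33486
theorem F163546 : act 5 n35243 = n35243 := d38_1 D35243 (iv D35243) F155584
theorem F163547 : act 7 n35243 = n35243 := d43_1 D35243 (iv D35243) F155585
theorem F163548 : act 8 n35243 = n33494 := d44_1 D35243 (iv D33494) (iv F155580) F155581 (iv F155586)
def n35244 : Q := act 9 n33488
theorem D35244 : act 9 n33488 = n35244 := rfl
theorem F163549 : act 0 n35244 = n33490 := d8_1 D35244 (iv D33490) (iv F155592)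
theorem F163550 : act 1 n35244 = n34032 := d16_1 D35244 F158223 (iv F155593)
theorem F163551 : act 2 n35244 = n35244 := d23_1 D35244 (iv D35244) F155594
theorem F163552 : act 4 n35244 = n35244 := d34_1 D35244 (iv D35244) F155595
theorem F163553 : act 6 n35244 = n34199 := d41_1 D35244 F158797 (iv F155596)
theorem F163554 : act 7 n35244 = n33489 := d43_1 D35244 (iv D33489) (iv F155597)
theorem F163555 : act 8 n35244 = n35244 := d44_1 D35244 (iv D35244) (iv D33488) F146961 D33488
def n35245 : Q := act 9 n33491
theorem D35245 : act 9 n33491 = n35245 := rfl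
theorem F163556 : act 0 n35245 = n34497 := d8_1 D35245 (iv D34497) (iv F155609)
theorem F163557 : act 2 n35245 = n33494 := d23_1 D35245 (iv D33494) (iv F155610)
theorem F163558 : act 5 n35245 = n33492 := d38_1 D35245 (iv D33492) D33491
theorem F163559 : act 7 n35245 = n35245 := d43_1 D35245 (iv D35245) F155611
def n35246 : Q := act 5 n33495
theorem D35246 : act 5 n33495 = n35246 := rfl
theorem F163560 : act 0 n35246 = n34498 := d4_1 D35246 (iv D34498) (iv F155628)
theorem F163561 : act 1 n35246 = n35246 := d12_1 D35246 (iv D35246) F155629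
theorem F163562 : act 3 n35246 = n33496 := d25_1 D35246 (iv D33496) (iv F155630)
theorem F163563 : act 4 n35246 = n33872 := d30_1 D35246 (iv D33872) F148721 (iv F147023) (iv F155631)
theorem F163564 : act 7 n35246 = n35246 := d36_2 F155632 D35246 (iv D35246)
theorem F163565 : act 8 n35246 = n33915 := d37_2 (iv F155633) D35246 F157692 F149105 (iv F149138)
theorem F163566 : act 9 n35246 = n34033 := d38_2 (iv F155634) D35246 (iv D34033)
def n35247 : Q := act 3 n33497
theorem D35247 : act 3 n33497 = n35247 := rfl
theorem F163567 : act 0 n35247 = n33500 := d2_1 D35247 (iv D33500) (iv F155641)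
theorem F163568 : act 1 n35247 = n33924 := d10_1 D35247 F157751 (iv F155642)
theorem F163569 : act 4 n35247 = n34278 := d24_2 D33497 D35247 F159140 (iv D32863) (iv F147065)
theorem F163570 : act 6 n35247 = n35247 := d26_2 F155644 D35247 (iv D35247)
theorem F163571 : act 8 n35247 = n33920 := d28_2 F155646 D35247 F157727
theorem F163572 : act 9 n35247 = n33510 := d29_2 (iv F155645) D35247 (iv D33510)
theorem F163573 : act 2 n33948 = n35247 := d22_3 F163571 F157726 D33948
def n35248 : Q := act 7 n33497
theorem D35248 : act 7 n33497 = n35248 := rfl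
theorem F163574 : act 0 n35248 = n33501 := d6_1 D35248 (iv D33501) (iv F155641)
theorem F163575 : act 1 n35248 = n34501 := d14_1 D35248 (iv D34501) (iv F155642)
theorem F163576 : act 2 n35248 = n35248 := d21_1 D35248 (iv D35248) F155643
theorem F163577 : act 4 n35248 = n33498 := d32_1 D35248 (iv D33498) D33497
theorem F163578 : act 8 n35248 = n34740 := d42_2 F155646 D35248 (iv D34740)
theorem F163579 : act 9 n35248 = n33511 := d43_2 (iv F155645) D35248 (iv D33511)
theorem F163580 : act 6 n34163 = n35248 := d41_3 F163579 (iv F155735) D34163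
def n35249 : Q := act 8 n33498
theorem D35249 : act 8 n33498 = n35249 := rfl
theorem F163581 : act 0 n35249 = n33503 := d7_1 D35249 (iv D33503) (iv F155647)
theorem F163582 : act 1 n35249 = n34502 := d15_1 D35249 (iv D34502) (iv F155648)
theorem F163583 : act 2 n35249 = n35249 := d22_1 D35249 (iv D35249) F155649
theorem F163584 : act 3 n35249 = n34025 := d28_1 D35249 (iv D34025) (iv F155650)
theorem F163585 : act 4 n35249 = n34740 := d33_1 D35249 (iv F163578) F163577
theorem F163586 : act 5 n35249 = n35249 := d37_1 D35249 (iv D35249) F155651 F147073 (iv F155651)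
theorem F163587 : act 6 n35249 = n34164 := d40_1 D35249 (iv D34164) F155653
theorem F163588 : act 7 n35249 = n33499 := d42_1 D35249 (iv D33499) D33498
theorem F163589 : act 9 n35249 = n35249 := d44_2 (iv F155652) D35249 (iv D35249) F155652 F147157
def n35250 : Q := act 7 n33500
theorem D35250 : act 7 n33500 = n35250 := rfl
theorem F163590 : act 1 n35250 = n33504 := d14_1 D35250 (iv D33504) (iv F155662)
theorem F163591 : act 2 n35250 = n34393 := d21_1 D35250 F159512 F155666
theorem F163592 : act 3 n35250 = n33501 := d27_1 D35250 (iv D33501) D33500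
theorem F163593 : act 4 n35250 = n34281 := d32_1 D35250 F159154 (iv F155663)
theorem F163594 : act 8 n35250 = n34279 := d42_2 F155667 D35250 (iv D34279)
theorem F163595 : act 9 n35250 = n33513 := d43_2 (iv F155665) D35250 (iv D33513)
def n35251 : Q := act 8 n33501
theorem D35251 : act 8 n33501 = n35251 := rfl
theorem F163596 : act 0 n35251 = n34740 := d7_1 D35251 (iv F163578) F163574
theorem F163597 : act 1 n35251 = n33506 := d15_1 D35251 (iv D33506) (iv F155668)
theorem F163598 : act 2 n35251 = n35251 := d22_1 D35251 (iv D35251) F155669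
theorem F163599 : act 3 n35251 = n34279 := d28_1 D35251 (iv F163594) F163592
theorem F163600 : act 4 n35251 = n33503 := d33_1 D35251 (iv D33503) (iv F155670)
theorem F163601 : act 7 n35251 = n33502 := d42_1 D35251 (iv D33502) D33501
theorem F163602 : act 9 n35251 = n35251 := d44_2 (iv F155671) D35251 (iv D35251) F155671 F147165
theorem F163603 : act 5 n34739 = n35251 := d36_3 F163601 F155679 D34739
def n35252 : Q := act 6 n33504
theorem D35252 : act 6 n33504 = n35252 := rfl
theorem F163604 : act 0 n35252 = n34505 := d5_1 D35252 (iv D34505) (iv F155686)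
theorem F163605 : act 2 n35252 = n33877 := d20_1 D35252 (iv D33877) (iv F155687)
theorem F163606 : act 3 n35252 = n33505 := d26_1 D35252 (iv D33505) (iv F155688)
theorem F163607 : act 4 n35252 = n34283 := d31_1 D35252 F159161 (iv F155689)
theorem F163608 : act 7 n35252 = n35252 := d39_2 D33504 D35252 (iv D35252) (iv D33504) F147093
theorem F163609 : act 8 n35252 = n34282 := d40_2 (iv F155690) D35252 (iv D34282)
theorem F163610 : act 9 n35252 = n33514 := d41_2 (iv F155691) D35252 (iv D33514)
def n35253 : Q := act 5 n33505
theorem D35253 : act 5 n33505 = n35253 := rfl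
theorem F163611 : act 0 n35253 = n34506 := d4_1 D35253 (iv D34506) (iv F155692)
theorem F163612 : act 2 n35253 = n33508 := d19_1 D35253 (iv D33508) (iv F155693)
theorem F163613 : act 4 n35253 = n34154 := d30_1 D35253 F158643 (iv F153580) F153581 (iv F155694)
theorem F163614 : act 7 n35253 = n35253 := d36_2 F155695 D35253 (iv D35253)
theorem F163615 : act 9 n35253 = n33515 := d38_2 (iv F155696) D35253 (iv D33515)
theorem F163616 : act 8 n34153 = n35253 := d33_0 F163613 (iv D34154) (iv F158639)
def n35254 : Q := act 8 n33505
theorem D35254 : act 8 n33505 = n35254 := rfl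
theorem F163617 : act 0 n35254 = n34507 := d7_1 D35254 (iv D34507) (iv F155692)
theorem F163618 : act 2 n35254 = n33509 := d22_1 D35254 (iv D33509) (iv F155693)
theorem F163619 : act 3 n35254 = n34282 := d28_1 D35254 (iv F163609) F163606
theorem F163620 : act 4 n35254 = n33507 := d33_1 D35254 (iv D33507) (iv F155694)
theorem F163621 : act 5 n35254 = n34167 := d37_1 D35254 (iv D34167) (iv F158640) F163616 (iv D35253)
theorem F163622 : act 6 n35254 = n33506 := d40_1 D35254 (iv D33506) D33505
theorem F163623 : act 7 n35254 = n35254 := d42_1 D35254 (iv D35254) F155695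
theorem F163624 : act 9 n35254 = n35254 := d44_2 (iv F155696) D35254 (iv D35254) F155696 F147174
def n35255 : Q := act 2 n33510
theorem D35255 : act 2 n33510 = n35255 := rfl
theorem F163625 : act 0 n35255 = n33512 := d1_1 D35255 (iv D33512) (iv F155726)
theorem F163626 : act 1 n35255 = n33951 := d9_1 D35255 F157902 (iv F157776) F157777 (iv F155727)
theorem F163627 : act 3 n35255 = n35255 := d17_2 D33510 D35255 (iv D35255) (iv D33510) F147149
theorem F163628 : act 4 n35255 = n34391 := d18_2 F161135 D35255 (iv F161134)
theorem F163629 : act 6 n35255 = n35255 := d20_2 F155728 D35255 (iv D35255)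
theorem F163630 : act 8 n35255 = n35255 := d22_2 F155729 D35255 (iv D35255)
theorem F163631 : act 9 n35255 = n33948 := d23_2 F163572 D35255 F163573
def n35256 : Q := act 7 n33510
theorem D35256 : act 7 n33510 = n35256 := rfl
theorem F163632 : act 0 n35256 = n33513 := d6_1 D35256 (iv D33513) (iv F155726)
theorem F163633 : act 1 n35256 = n34508 := d14_1 D35256 (iv D34508) (iv F155727)
theorem F163634 : act 3 n35256 = n33511 := d27_1 D35256 (iv D33511) D33510
theorem F163635 : act 4 n35256 = n34023 := d32_1 D35256 (iv F161138) F161135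
theorem F163636 : act 8 n35256 = n35256 := d42_2 F155729 D35256 (iv D35256)
theorem F163637 : act 6 n34162 = n35256 := d31_0 F163635 F158187 (iv F158665)
def n35257 : Q := act 7 n33512
theorem D35257 : act 7 n33512 = n35257 := rfl
theorem F163638 : act 1 n35257 = n33880 := d14_1 D35257 (iv D33880) (iv F155736)
theorem F163639 : act 2 n35257 = n33513 := d21_1 D35257 (iv D33513) D33512
theorem F163640 : act 3 n35257 = n35257 := d27_1 D35257 (iv D35257) F155737
theorem F163641 : act 4 n35257 = n34396 := d32_1 D35257 F159521 (iv F155738)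
theorem F163642 : act 8 n35257 = n35257 := d42_2 F155740 D35257 (iv D35257)
theorem F163643 : act 9 n35257 = n34393 := d43_2 (iv F155741) D35257 F159512
def n35258 : Q := act 5 n33514
theorem D35258 : act 5 n33514 = n35258 := rfl
theorem F163644 : act 0 n35258 = n34511 := d4_1 D35258 (iv D34511) (iv F155745)
theorem F163645 : act 2 n35258 = n33883 := d19_1 D35258 (iv D33883) (iv F155746)
theorem F163646 : act 3 n35258 = n33515 := d25_1 D35258 (iv D33515) (iv F155747)
theorem F163647 : act 7 n35258 = n35258 := d36_2 F155748 D35258 (iv D35258)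
def n35259 : Q := act 8 n33515
theorem D35259 : act 8 n33515 = n35259 := rfl
theorem F163648 : act 0 n35259 = n34512 := d7_1 D35259 (iv D34512) (iv F155750)
theorem F163649 : act 2 n35259 = n33516 := d22_1 D35259 (iv D33516) (iv F155751)
theorem F163650 : act 4 n35259 = n33908 := d33_1 D35259 (iv F161393) F161391
theorem F163651 : act 5 n35259 = n35259 := d37_1 D35259 (iv D35259) (iv D33515) F147174 D33515
theorem F163652 : act 7 n35259 = n35259 := d42_1 D35259 (iv D35259) F155752
theorem F163653 : act 9 n35259 = n33907 := d44_2 F163615 D35259 F157643 D34153 F163616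
def n35260 : Q := act 5 n33518
theorem D35260 : act 5 n33518 = n35260 := rfl
theorem F163654 : act 0 n35260 = n33983 := d4_1 D35260 F158043 (iv F155769)
theorem F163655 : act 1 n35260 = n33519 := d12_1 D35260 (iv D33519) (iv F155770)
theorem F163656 : act 2 n35260 = n33567 := d19_1 D35260 F156065 (iv F155771)
theorem F163657 : act 3 n35260 = n35260 := d25_1 D35260 (iv D35260) F155772
theorem F163658 : act 6 n35260 = n33544 := d35_2 D33518 D35260 (iv D33544) (iv D31652) (iv F147182)
theorem F163659 : act 8 n35260 = n33563 := d37_2 (iv F155774) D35260 (iv D33563) F147420 (iv F149154)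
theorem F163660 : act 9 n35260 = n34286 := d38_2 (iv F155775) D35260 (iv D34286)
def n35261 : Q := act 7 n33518
theorem D35261 : act 7 n33518 = n35261 := rfl
theorem F163661 : act 0 n35261 = n33993 := d6_1 D35261 F158084 (iv F155769)
theorem F163662 : act 1 n35261 = n33520 := d14_1 D35261 (iv D33520) (iv F155770)
theorem F163663 : act 2 n35261 = n33932 := d21_1 D35261 F157798 (iv F155771)
theorem F163664 : act 3 n35261 = n35261 := d27_1 D35261 (iv D35261) F155772
theorem F163665 : act 4 n35261 = n34232 := d32_1 D35261 (iv D34232) (iv F155773)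
theorem F163666 : act 6 n35261 = n33980 := d39_1 D35261 (iv D33980) (iv D32114) (iv F147183) D33518
theorem F163667 : act 8 n35261 = n33917 := d42_2 (iv F155774) D35261 (iv D33917)
theorem F163668 : act 9 n35261 = n34287 := d43_2 (iv F155775) D35261 (iv D34287)
def n35262 : Q := act 4 n33519
theorem D35262 : act 4 n33519 = n35262 := rfl
theorem F163669 : act 0 n35262 = n33573 := d3_1 D35262 (iv D33573) (iv F155776)
theorem F163670 : act 2 n35262 = n33521 := d18_1 D35262 (iv D33521) (iv F155777)
theorem F163671 : act 5 n35262 = n34233 := d30_2 D33519 D35262 (iv D34233) (iv D32374) (iv F147189)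
theorem F163672 : act 6 n35262 = n33546 := d31_2 (iv F155779) D35262 (iv D33546)
theorem F163673 : act 9 n35262 = n34288 := d34_2 (iv F155780) D35262 (iv D34288)
def n35263 : Q := act 7 n33519
theorem D35263 : act 7 n33519 = n35263 := rfl
theorem F163674 : act 0 n35263 = n33574 := d6_1 D35263 (iv D33574) (iv F155776)
theorem F163675 : act 2 n35263 = n33522 := d21_1 D35263 (iv D33522) (iv F155777)
theorem F163676 : act 3 n35263 = n35263 := d27_1 D35263 (iv D35263) F155778
theorem F163677 : act 5 n35263 = n33520 := d36_1 D35263 (iv D33520) D33519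
theorem F163678 : act 9 n35263 = n34289 := d43_2 (iv F155780) D35263 (iv D34289)
def n35264 : Q := act 8 n33519
theorem D35264 : act 8 n33519 = n35264 := rfl
theorem F163679 : act 0 n35264 = n33575 := d7_1 D35264 (iv D33575) (iv F155776)
theorem F163680 : act 1 n35264 = n33563 := d15_1 D35264 (iv F163659) F163655
theorem F163681 : act 2 n35264 = n33523 := d22_1 D35264 (iv D33523) (iv F155777)
theorem F163682 : act 3 n35264 = n35264 := d28_1 D35264 (iv D35264) F155778
theorem F163683 : act 5 n35264 = n33562 := d37_1 D35264 F156037 (iv D32033) (iv F147190) D33519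
theorem F163684 : act 6 n35264 = n33548 := d40_1 D35264 (iv D33548) (iv F155779)
theorem F163685 : act 9 n34053 = n35264 := d41_0 F163684 (iv F155950) (iv F158322)
def n35265 : Q := act 7 n33521
theorem D35265 : act 7 n33521 = n35265 := rfl
theorem F163686 : act 0 n35265 = n33576 := d6_1 D35265 (iv D33576) (iv F155788)
theorem F163687 : act 1 n35265 = n34001 := d14_1 D35265 (iv D34001) (iv F155789)
theorem F163688 : act 3 n35265 = n34546 := d27_1 D35265 (iv D34546) (iv F155790)
theorem F163689 : act 4 n35265 = n33522 := d32_1 D35265 (iv D33522) D33521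
theorem F163690 : act 5 n35265 = n34236 := d36_1 D35265 (iv D34236) (iv F155791)
theorem F163691 : act 9 n35265 = n34291 := d43_2 (iv F155793) D35265 (iv D34291)
def n35266 : Q := act 8 n33521
theorem D35266 : act 8 n33521 = n35266 := rfl
theorem F163692 : act 0 n35266 = n33577 := d7_1 D35266 (iv D33577) (iv F155788)
theorem F163693 : act 1 n35266 = n33661 := d15_1 D35266 F156481 (iv F155789)
theorem F163694 : act 3 n35266 = n34547 := d28_1 D35266 (iv D34547) (iv F155790)
theorem F163695 : act 4 n35266 = n33523 := d33_1 D35266 (iv D33523) D33521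
theorem F163696 : act 6 n35266 = n33550 := d40_1 D35266 (iv D33550) (iv F155792)
theorem F163697 : act 9 n34097 = n35266 := d41_0 F163696 (iv F155958) (iv F158474)
def n35267 : Q := act 6 n33522
theorem D35267 : act 6 n33522 = n35267 := rfl
theorem F163698 : act 0 n35267 = n33578 := d5_1 D35267 (iv D33578) (iv F155794)
theorem F163699 : act 1 n35267 = n34002 := d13_1 D35267 (iv D34002) (iv F155795)
theorem F163700 : act 3 n35267 = n33524 := d26_1 D35267 (iv D33524) (iv F155796)
theorem F163701 : act 5 n35267 = n33986 := d35_1 D35267 (iv D33986) F149593 (iv F147201) (iv F155797)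
theorem F163702 : act 7 n35267 = n33551 := d39_2 D33522 D35267 (iv D33551) (iv D31656) (iv F147195)
theorem F163703 : act 9 n35267 = n34293 := d41_2 (iv F155798) D35267 (iv D34293)
def n35268 : Q := act 8 n33522
theorem D35268 : act 8 n33522 = n35268 := rfl
theorem F163704 : act 0 n35268 = n33579 := d7_1 D35268 (iv D33579) (iv F155794)
theorem F163705 : act 1 n35268 = n33662 := d15_1 D35268 F156487 (iv F155795)
theorem F163706 : act 3 n35268 = n33525 := d28_1 D35268 (iv D33525) (iv F155796)
theorem F163707 : act 5 n35268 = n33660 := d37_1 D35268 F156476 F149172 (iv F147202) (iv F155797)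
theorem F163708 : act 7 n35268 = n33523 := d42_1 D35268 (iv D33523) D33522
theorem F163709 : act 9 n34098 = n35268 := d43_0 F163708 (iv F155804) D34098
def n35269 : Q := act 8 n33524
theorem D35269 : act 8 n33524 = n35269 := rfl
theorem F163710 : act 0 n35269 = n33581 := d7_1 D35269 (iv D33581) (iv F155805)
theorem F163711 : act 1 n35269 = n33780 := d15_1 D35269 F156980 (iv F155806)
theorem F163712 : act 2 n35269 = n35269 := d22_1 D35269 (iv D35269) F155807
theorem F163713 : act 4 n35269 = n34550 := d33_1 D35269 (iv D34550) (iv F155808)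
theorem F163714 : act 6 n35269 = n33525 := d40_1 D35269 (iv D33525) D33524
theorem F163715 : act 7 n35269 = n33553 := d42_1 D35269 (iv D33553) (iv F155810)
theorem F163716 : act 5 n33796 = n35269 := d36_3 F163715 (iv F155972) (iv F157069)
theorem F163717 : act 9 n34170 = n35269 := d43_0 F163715 (iv F155973) (iv F158701)
def n35270 : Q := act 5 n33526
theorem D35270 : act 5 n33526 = n35270 := rfl
theorem F163718 : act 0 n35270 = n33616 := d4_1 D35270 F156292 (iv F155819)
theorem F163719 : act 1 n35270 = n33527 := d12_1 D35270 (iv D33527) (iv F155820)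
theorem F163720 : act 2 n35270 = n33736 := d19_1 D35270 F156811 (iv F155821)
theorem F163721 : act 3 n35270 = n35270 := d25_1 D35270 (iv D35270) F155822
theorem F163722 : act 6 n35270 = n33979 := d35_2 D33526 D35270 (iv D33979) (iv D32114) (iv F147221)
theorem F163723 : act 8 n35270 = n33612 := d37_2 (iv F155824) D35270 (iv D33612) F147590 (iv F147337)
theorem F163724 : act 9 n35270 = n33633 := d38_2 (iv F155825) D35270 (iv D33633)
def n35271 : Q := act 7 n33526
theorem D35271 : act 7 n33526 = n35271 := rfl
theorem F163725 : act 0 n35271 = n33638 := d6_1 D35271 F156379 (iv F155819)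
theorem F163726 : act 1 n35271 = n33528 := d14_1 D35271 (iv D33528) (iv F155820)
theorem F163727 : act 2 n35271 = n33634 := d21_1 D35271 F156358 (iv F155821)
theorem F163728 : act 3 n35271 = n35271 := d27_1 D35271 (iv D35271) F155822
theorem F163729 : act 4 n35271 = n33635 := d32_1 D35271 F156361 (iv F155823)
theorem F163730 : act 6 n35271 = n33545 := d39_1 D35271 (iv D33545) (iv D31652) (iv F147222) D33526
theorem F163731 : act 8 n35271 = n33554 := d42_2 (iv F155824) D35271 (iv D33554)
theorem F163732 : act 9 n35271 = n33632 := d43_2 (iv F155825) D35271 F156350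
def n35272 : Q := act 4 n33527
theorem D35272 : act 4 n33527 = n35272 := rfl
theorem F163733 : act 0 n35272 = n33593 := d3_1 D35272 (iv D33593) (iv F155826)
theorem F163734 : act 2 n35272 = n33529 := d18_1 D35272 (iv D33529) (iv F155827)
theorem F163735 : act 5 n35272 = n33716 := d30_2 D33527 D35272 F156720 F147985 (iv F147228)
theorem F163736 : act 6 n35272 = n33981 := d31_2 (iv F155829) D35272 (iv D33981)
theorem F163737 : act 9 n35272 = n33715 := d34_2 (iv F155830) D35272 F156716
def n35273 : Q := act 7 n33527
theorem D35273 : act 7 n33527 = n35273 := rfl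
theorem F163738 : act 0 n35273 = n33594 := d6_1 D35273 (iv D33594) (iv F155826)
theorem F163739 : act 2 n35273 = n33530 := d21_1 D35273 (iv D33530) (iv F155827)
theorem F163740 : act 3 n35273 = n35273 := d27_1 D35273 (iv D35273) F155828
theorem F163741 : act 5 n35273 = n33528 := d36_1 D35273 (iv D33528) D33527
theorem F163742 : act 9 n35273 = n33760 := d43_2 (iv F155830) D35273 F156894
def n35274 : Q := act 8 n33527
theorem D35274 : act 8 n33527 = n35274 := rfl
theorem F163743 : act 0 n35274 = n33544 := d7_1 D35274 F155934 (iv F155826)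
theorem F163744 : act 1 n35274 = n33612 := d15_1 D35274 (iv F163723) F163719
theorem F163745 : act 2 n35274 = n33531 := d22_1 D35274 (iv D33531) (iv F155827)
theorem F163746 : act 3 n35274 = n35274 := d28_1 D35274 (iv D35274) F155828
theorem F163747 : act 5 n35274 = n33543 := d37_1 D35274 F155929 (iv D31661) (iv F147229) D33527
theorem F163748 : act 6 n35274 = n33983 := d40_1 D35274 (iv D33983) (iv F155829)
theorem F163749 : act 9 n35274 = n33765 := d44_2 (iv F155830) D35274 F156916 (iv D32891) (iv F148107)
def n35275 : Q := act 7 n33529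
theorem D35275 : act 7 n33529 = n35275 := rfl
theorem F163750 : act 0 n35275 = n33595 := d6_1 D35275 (iv D33595) (iv F155838)
theorem F163751 : act 1 n35275 = n33999 := d14_1 D35275 (iv D33999) (iv F155839)
theorem F163752 : act 3 n35275 = n34057 := d27_1 D35275 (iv D34057) (iv F155840)
theorem F163753 : act 4 n35275 = n33530 := d32_1 D35275 (iv D33530) D33529
theorem F163754 : act 5 n35275 = n34513 := d36_1 D35275 (iv D34513) (iv F155841)
theorem F163755 : act 9 n35275 = n34041 := d43_2 (iv F155843) D35275 (iv D34041)
def n35276 : Q := act 8 n33529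
theorem D35276 : act 8 n33529 = n35276 := rfl
theorem F163756 : act 0 n35276 = n33596 := d7_1 D35276 (iv D33596) (iv F155838)
theorem F163757 : act 1 n35276 = n33977 := d15_1 D35276 F158025 (iv F155839)
theorem F163758 : act 3 n35276 = n34058 := d28_1 D35276 (iv D34058) (iv F155840)
theorem F163759 : act 4 n35276 = n33531 := d33_1 D35276 (iv D33531) D33529
theorem F163760 : act 6 n35276 = n33985 := d40_1 D35276 (iv D33985) (iv F155842)
def n35277 : Q := act 6 n33530
theorem D35277 : act 6 n33530 = n35277 := rfl
theorem F163761 : act 0 n35277 = n33597 := d5_1 D35277 (iv D33597) (iv F155844)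
theorem F163762 : act 1 n35277 = n34000 := d13_1 D35277 (iv D34000) (iv F155845)
theorem F163763 : act 3 n35277 = n33532 := d26_1 D35277 (iv D33532) (iv F155846)
theorem F163764 : act 5 n35277 = n33551 := d35_1 D35277 (iv D33551) F147317 (iv F147240) (iv F155847)
theorem F163765 : act 7 n35277 = n33986 := d39_2 D33530 D35277 (iv D33986) (iv D32118) (iv F147234)
theorem F163766 : act 9 n35277 = n34043 := d41_2 (iv F155848) D35277 (iv D34043)
def n35278 : Q := act 8 n33530
theorem D35278 : act 8 n33530 = n35278 := rfl
theorem F163767 : act 0 n35278 = n33598 := d7_1 D35278 (iv D33598) (iv F155844)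
theorem F163768 : act 1 n35278 = n33770 := d15_1 D35278 F156940 (iv F155845)
theorem F163769 : act 3 n35278 = n33533 := d28_1 D35278 (iv D33533) (iv F155846)
theorem F163770 : act 5 n35278 = n33558 := d37_1 D35278 (iv D33558) F147362 (iv F147241) (iv F155847)
theorem F163771 : act 7 n35278 = n33531 := d42_1 D35278 (iv D33531) D33530
def n35279 : Q := act 9 n33531
theorem D35279 : act 9 n33531 = n35279 := rfl
theorem F163772 : act 0 n35279 = n33599 := d8_1 D35279 (iv D33599) (iv F155849)
theorem F163773 : act 1 n35279 = n33640 := d16_1 D35279 F156391 (iv F155850)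
theorem F163774 : act 2 n35279 = n33765 := d23_1 D35279 (iv F163749) F163745
theorem F163775 : act 3 n35279 = n33534 := d29_1 D35279 (iv D33534) (iv F155851)
theorem F163776 : act 5 n35279 = n33559 := d38_1 D35279 (iv D33559) (iv F155852)
theorem F163777 : act 6 n35279 = n33988 := d41_1 D35279 (iv D33988) (iv F155853)
theorem F163778 : act 8 n35279 = n34045 := d44_1 D35279 (iv D34045) (iv D32183) (iv F147235) D33531
def n35280 : Q := act 8 n33532
theorem D35280 : act 8 n33532 = n35280 := rfl
theorem F163779 : act 0 n35280 = n33600 := d7_1 D35280 (iv D33600) (iv F155854)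
theorem F163780 : act 1 n35280 = n33855 := d15_1 D35280 F157351 (iv F155855)
theorem F163781 : act 2 n35280 = n35280 := d22_1 D35280 (iv D35280) F155856
theorem F163782 : act 4 n35280 = n34062 := d33_1 D35280 (iv D34062) (iv F155857)
theorem F163783 : act 5 n35280 = n33847 := d37_1 D35280 (iv D33847) F155972 (iv D33553) (iv F155858)
theorem F163784 : act 6 n35280 = n33533 := d40_1 D35280 (iv D33533) D33532
theorem F163785 : act 7 n35280 = n33989 := d42_1 D35280 (iv D33989) (iv F155859)
def n35281 : Q := act 9 n33533
theorem D35281 : act 9 n33533 = n35281 := rfl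
theorem F163786 : act 0 n35281 = n33601 := d8_1 D35281 (iv D33601) (iv F155861)
theorem F163787 : act 1 n35281 = n33861 := d16_1 D35281 (iv D33861) (iv F155862)
theorem F163788 : act 2 n35281 = n35281 := d23_1 D35281 (iv D35281) F155863
theorem F163789 : act 4 n35281 = n34063 := d34_1 D35281 (iv D34063) (iv F155864)
theorem F163790 : act 5 n35281 = n33560 := d38_1 D35281 (iv D33560) (iv F155865)
theorem F163791 : act 7 n35281 = n33534 := d43_1 D35281 (iv D33534) (iv F155866)
theorem F163792 : act 8 n35281 = n34047 := d44_1 D35281 (iv D34047) (iv D32185) (iv F147248) D33533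
def n35282 : Q := act 5 n33535
theorem D35282 : act 5 n33535 = n35282 := rfl
theorem F163793 : act 0 n35282 = n33765 := d4_1 D35282 (iv D33765) (iv F155874)
theorem F163794 : act 1 n35282 = n33536 := d12_1 D35282 (iv D33536) (iv F155875)
theorem F163795 : act 2 n35282 = n33599 := d19_1 D35282 F156218 (iv F155876)
theorem F163796 : act 3 n35282 = n35282 := d25_1 D35282 (iv D35282) F155877
theorem F163797 : act 6 n35282 = n34286 := d35_2 D33535 D35282 (iv D34286) (iv D32424) (iv F147259)
theorem F163798 : act 8 n35282 = n33904 := d37_2 (iv F155879) D35282 F157629 F149013 (iv F148132)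
theorem F163799 : act 9 n35282 = n33544 := d38_2 (iv F155880) D35282 (iv D33544)
def n35283 : Q := act 7 n33535
theorem D35283 : act 7 n33535 = n35283 := rfl
theorem F163800 : act 0 n35283 = n33764 := d6_1 D35283 F156913 (iv F155874)
theorem F163801 : act 1 n35283 = n33537 := d14_1 D35283 (iv D33537) (iv F155875)
theorem F163802 : act 2 n35283 = n33635 := d21_1 D35283 F156361 (iv F155876)
theorem F163803 : act 3 n35283 = n35283 := d27_1 D35283 (iv D35283) F155877
theorem F163804 : act 4 n35283 = n33634 := d32_1 D35283 F156358 (iv F155878)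
theorem F163805 : act 6 n35283 = n33632 := d39_1 D35283 F156350 F147639 (iv F147260) D33535
theorem F163806 : act 8 n35283 = n33631 := d42_2 (iv F155879) D35283 F156344
theorem F163807 : act 9 n35283 = n33545 := d43_2 (iv F155880) D35283 (iv D33545)
def n35284 : Q := act 4 n33536
theorem D35284 : act 4 n33536 = n35284 := rfl
theorem F163808 : act 0 n35284 = n33602 := d3_1 D35284 (iv D33602) (iv F155881)
theorem F163809 : act 2 n35284 = n33538 := d18_1 D35284 (iv D33538) (iv F155882)
theorem F163810 : act 5 n35284 = n33973 := d30_2 D33536 D35284 (iv D33973) (iv D32101) (iv F147266)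
theorem F163811 : act 6 n35284 = n34288 := d31_2 (iv F155884) D35284 (iv D34288)
theorem F163812 : act 9 n35284 = n33546 := d34_2 (iv F155885) D35284 (iv D33546)
def n35285 : Q := act 7 n33536
theorem D35285 : act 7 n33536 = n35285 := rfl
theorem F163813 : act 0 n35285 = n33603 := d6_1 D35285 (iv D33603) (iv F155881)
theorem F163814 : act 2 n35285 = n33539 := d21_1 D35285 (iv D33539) (iv F155882)
theorem F163815 : act 3 n35285 = n35285 := d27_1 D35285 (iv D35285) F155883
theorem F163816 : act 5 n35285 = n33537 := d36_1 D35285 (iv D33537) D33536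
theorem F163817 : act 9 n35285 = n33547 := d43_2 (iv F155885) D35285 (iv D33547)
def n35286 : Q := act 8 n33536
theorem D35286 : act 8 n33536 = n35286 := rfl
theorem F163818 : act 0 n35286 = n33604 := d7_1 D35286 (iv D33604) (iv F155881)
theorem F163819 : act 1 n35286 = n33904 := d15_1 D35286 (iv F163798) F163794
theorem F163820 : act 2 n35286 = n33540 := d22_1 D35286 (iv D33540) (iv F155882)
theorem F163821 : act 3 n35286 = n35286 := d28_1 D35286 (iv D35286) F155883
theorem F163822 : act 5 n35286 = n33886 := d37_1 D35286 (iv D33886) (iv D31976) (iv F147267) D33536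
theorem F163823 : act 6 n35286 = n34290 := d40_1 D35286 (iv D34290) (iv F155884)
theorem F163824 : act 9 n35286 = n33895 := d44_2 (iv F155885) D35286 F157581 F155950 (iv D33548)
def n35287 : Q := act 7 n33538
theorem D35287 : act 7 n33538 = n35287 := rfl
theorem F163825 : act 0 n35287 = n33605 := d6_1 D35287 (iv D33605) (iv F155893)
theorem F163826 : act 1 n35287 = n34513 := d14_1 D35287 (iv D34513) (iv F155894)
theorem F163827 : act 3 n35287 = n34090 := d27_1 D35287 (iv D34090) (iv F155895)
theorem F163828 : act 4 n35287 = n33539 := d32_1 D35287 (iv D33539) D33538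
theorem F163829 : act 5 n35287 = n33999 := d36_1 D35287 (iv D33999) (iv F155896)
theorem F163830 : act 9 n35287 = n33549 := d43_2 (iv F155898) D35287 (iv D33549)
def n35288 : Q := act 8 n33538
theorem D35288 : act 8 n33538 = n35288 := rfl
theorem F163831 : act 0 n35288 = n33606 := d7_1 D35288 (iv D33606) (iv F155893)
theorem F163832 : act 1 n35288 = n34123 := d15_1 D35288 F158547 (iv F155894)
theorem F163833 : act 3 n35288 = n34091 := d28_1 D35288 (iv D34091) (iv F155895)
theorem F163834 : act 4 n35288 = n33540 := d33_1 D35288 (iv D33540) D33538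
theorem F163835 : act 6 n35288 = n34292 := d40_1 D35288 (iv D34292) (iv F155897)
theorem F163836 : act 9 n35288 = n34115 := d44_2 (iv F155898) D35288 (iv D34115) F155958 (iv D33550)
def n35289 : Q := act 6 n33539
theorem D35289 : act 6 n33539 = n35289 := rfl
theorem F163837 : act 0 n35289 = n33607 := d5_1 D35289 (iv D33607) (iv F155899)
theorem F163838 : act 1 n35289 = n34514 := d13_1 D35289 (iv D34514) (iv F155900)
theorem F163839 : act 3 n35289 = n33541 := d26_1 D35289 (iv D33541) (iv F155901)
theorem F163840 : act 5 n35289 = n34043 := d35_1 D35289 (iv D34043) F149839 (iv F147278) (iv F155902)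
theorem F163841 : act 7 n35289 = n34293 := d39_2 D33539 D35289 (iv D34293) (iv D32428) (iv F147272)
theorem F163842 : act 9 n35289 = n33551 := d41_2 (iv F155903) D35289 (iv D33551)
def n35290 : Q := act 8 n33539
theorem D35290 : act 8 n33539 = n35290 := rfl
theorem F163843 : act 0 n35290 = n33608 := d7_1 D35290 (iv D33608) (iv F155899)
theorem F163844 : act 1 n35290 = n34125 := d15_1 D35290 F158556 (iv F155900)
theorem F163845 : act 3 n35290 = n33542 := d28_1 D35290 (iv D33542) (iv F155901)
theorem F163846 : act 5 n35290 = n33889 := d37_1 D35290 (iv D33889) F148825 (iv F147279) (iv F155902)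
theorem F163847 : act 7 n35290 = n33540 := d42_1 D35290 (iv D33540) D33539
theorem F163848 : act 9 n35290 = n34117 := d44_2 (iv F155903) D35290 (iv D34117) F155967 (iv D33552)
def n35291 : Q := act 8 n33541
theorem D35291 : act 8 n33541 = n35291 := rfl
theorem F163849 : act 0 n35291 = n33610 := d7_1 D35291 (iv D33610) (iv F155910)
theorem F163850 : act 1 n35291 = n34187 := d15_1 D35291 F158753 (iv F155911)
theorem F163851 : act 2 n35291 = n35291 := d22_1 D35291 (iv D35291) F155912
theorem F163852 : act 4 n35291 = n34095 := d33_1 D35291 (iv D34095) (iv F155913)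
theorem F163853 : act 6 n35291 = n33542 := d40_1 D35291 (iv D33542) D33541
theorem F163854 : act 7 n35291 = n34295 := d42_1 D35291 (iv D34295) (iv F155915)
theorem F163855 : act 9 n35291 = n34181 := d44_2 (iv F155916) D35291 (iv D34181) F155973 (iv D33553)
def n35292 : Q := act 7 n33543
theorem D35292 : act 7 n33543 = n35292 := rfl
theorem F163856 : act 0 n35292 = n33545 := d6_1 D35292 (iv D33545) (iv F155924)
theorem F163857 : act 1 n35292 = n33613 := d14_1 D35292 (iv D33613) (iv F155925)
theorem F163858 : act 2 n35292 = n33558 := d21_1 D35292 F156009 (iv F155926)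
theorem F163859 : act 3 n35292 = n35292 := d27_1 D35292 (iv D35292) F155927
theorem F163860 : act 4 n35292 = n33766 := d32_1 D35292 F156919 (iv F155928)
theorem F163861 : act 6 n35292 = n33638 := d39_1 D35292 F156379 F147685 (iv F147298) D33543
theorem F163862 : act 8 n35292 = n33555 := d42_2 (iv F155929) D35292 (iv D33555)
theorem F163863 : act 9 n35292 = n33764 := d43_2 (iv F155930) D35292 F156913
def n35293 : Q := act 4 n33544
theorem D35293 : act 4 n33544 = n35293 := rfl
theorem F163864 : act 1 n35293 = n33546 := d11_1 D35293 (iv D33546) (iv F155931)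
theorem F163865 : act 2 n35293 = n33596 := d18_1 D35293 F156207 (iv F155932)
theorem F163866 : act 8 n35293 = n33593 := d33_2 (iv F155934) D35293 (iv D33593)
def n35294 : Q := act 7 n33544
theorem D35294 : act 7 n33544 = n35294 := rfl
theorem F163867 : act 1 n35294 = n33547 := d14_1 D35294 (iv D33547) (iv F155931)
theorem F163868 : act 2 n35294 = n33598 := d21_1 D35294 F156215 (iv F155932)
theorem F163869 : act 3 n35294 = n35294 := d27_1 D35294 (iv D35294) F155933
theorem F163870 : act 5 n35294 = n33545 := d36_1 D35294 (iv D33545) D33544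
theorem F163871 : act 8 n35294 = n33594 := d42_2 (iv F155934) D35294 (iv D33594)
def n35295 : Q := act 3 n33546
theorem D35295 : act 3 n33546 = n35295 := rfl
theorem F163872 : act 0 n35295 = n33617 := d2_1 D35295 (iv D33617) (iv F155939)
theorem F163873 : act 4 n35295 = n35295 := d24_2 D33546 D35295 (iv D35295) (iv D33546) F147307
def n35296 : Q := act 7 n33546
theorem D35296 : act 7 n33546 = n35296 := rfl
theorem F163874 : act 0 n35296 = n33618 := d6_1 D35296 (iv D33618) (iv F155939)
theorem F163875 : act 2 n35296 = n33549 := d21_1 D35296 (iv D33549) (iv F155940)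
theorem F163876 : act 4 n35296 = n33547 := d32_1 D35296 (iv D33547) D33546
def n35297 : Q := act 8 n33546
theorem D35297 : act 8 n33546 = n35297 := rfl
theorem F163877 : act 0 n35297 = n33619 := d7_1 D35297 (iv D33619) (iv F155939)
theorem F163878 : act 1 n35297 = n33593 := d15_1 D35297 (iv F163866) F163864
theorem F163879 : act 2 n35297 = n33550 := d22_1 D35297 (iv D33550) (iv F155940)
theorem F163880 : act 4 n35297 = n33548 := d33_1 D35297 (iv D33548) D33546
theorem F163881 : act 5 n34526 = n35297 := d30_0 F163880 F155949 F147398 (iv F151725) (iv F160069)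
theorem F163882 : act 9 n34064 = n35297 := d34_0 F163880 (iv F155950) D34064
def n35298 : Q := act 6 n33547
theorem D35298 : act 6 n33547 = n35298 := rfl
theorem F163883 : act 0 n35298 = n33620 := d5_1 D35298 (iv D33620) (iv F155941)
theorem F163884 : act 2 n35298 = n33551 := d20_1 D35298 (iv D33551) (iv F155942)
theorem F163885 : act 3 n35298 = n35298 := d26_1 D35298 (iv D35298) F155943
def n35299 : Q := act 8 n33547
theorem D35299 : act 8 n33547 = n35299 := rfl
theorem F163886 : act 0 n35299 = n33621 := d7_1 D35299 (iv D33621) (iv F155941)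
theorem F163887 : act 1 n35299 = n33594 := d15_1 D35299 (iv F163871) F163867
theorem F163888 : act 2 n35299 = n33552 := d22_1 D35299 (iv D33552) (iv F155942)
theorem F163889 : act 3 n35299 = n35299 := d28_1 D35299 (iv D35299) F155943
theorem F163890 : act 5 n35299 = n33561 := d37_1 D35299 (iv D33561) F147391 (iv F147311) (iv F155944)
theorem F163891 : act 7 n35299 = n33548 := d42_1 D35299 (iv D33548) D33547
theorem F163892 : act 9 n34065 = n35299 := d43_0 F163891 (iv F155950) D34065
def n35300 : Q := act 6 n33549
theorem D35300 : act 6 n33549 = n35300 := rfl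
theorem F163893 : act 0 n35300 = n33623 := d5_1 D35300 (iv D33623) (iv F155951)
theorem F163894 : act 1 n35300 = n34515 := d13_1 D35300 (iv D34515) (iv F155952)
theorem F163895 : act 4 n35300 = n33551 := d31_1 D35300 (iv D33551) (iv F155953)
def n35301 : Q := act 8 n33549
theorem D35301 : act 8 n33549 = n35301 := rfl
theorem F163896 : act 0 n35301 = n33624 := d7_1 D35301 (iv D33624) (iv F155951)
theorem F163897 : act 1 n35301 = n33711 := d15_1 D35301 F156699 (iv F155952)
theorem F163898 : act 4 n35301 = n33552 := d33_1 D35301 (iv D33552) (iv F155953)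
theorem F163899 : act 7 n35301 = n33550 := d42_1 D35301 (iv D33550) D33549
theorem F163900 : act 5 n34614 = n35301 := d36_3 F163899 (iv F155957) D34614
theorem F163901 : act 9 n34114 = n35301 := d43_0 F163899 (iv F155958) D34114
def n35302 : Q := act 8 n33551
theorem D35302 : act 8 n33551 = n35302 := rfl
theorem F163902 : act 0 n35302 = n33627 := d7_1 D35302 (iv D33627) (iv F155959)
theorem F163903 : act 1 n35302 = n33712 := d15_1 D35302 F156705 (iv F155960)
theorem F163904 : act 3 n35302 = n33553 := d28_1 D35302 (iv D33553) (iv F155961)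
theorem F163905 : act 6 n35302 = n33552 := d40_1 D35302 (iv D33552) D33551
theorem F163906 : act 5 n33740 = n35302 := d35_5 F163905 F155965 F147405 (iv F148046) D33740
theorem F163907 : act 9 n34116 = n35302 := d41_0 F163905 (iv F155967) D34116
def n35303 : Q := act 8 n33556
theorem D35303 : act 8 n33556 = n35303 := rfl
theorem F163908 : act 0 n35303 = n33632 := d7_1 D35303 (iv D33632) (iv F155990)
theorem F163909 : act 1 n35303 = n33641 := d15_1 D35303 F156398 (iv F155991)
theorem F163910 : act 2 n35303 = n33766 := d22_1 D35303 F156920 (iv F155992)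
theorem F163911 : act 3 n35303 = n35303 := d28_1 D35303 (iv D35303) F155993
theorem F163912 : act 4 n35303 = n33558 := d33_1 D35303 (iv D33558) (iv F155994)
theorem F163913 : act 6 n35303 = n33764 := d40_1 D35303 (iv D33764) (iv F155996)
theorem F163914 : act 7 n35303 = n33557 := d42_1 D35303 (iv D33557) D33556
theorem F163915 : act 9 n35303 = n33638 := d44_2 (iv F155997) D35303 (iv D33638) F147681 (iv F148898)
def n35304 : Q := act 5 n33557
theorem D35304 : act 5 n33557 = n35304 := rfl
theorem F163916 : act 0 n35304 = n33633 := d4_1 D35304 (iv D33633) (iv F155998)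
theorem F163917 : act 1 n35304 = n33622 := d12_1 D35304 F156307 (iv F155999)
theorem F163918 : act 2 n35304 = n33742 := d19_1 D35304 F156832 (iv F156000)
theorem F163919 : act 3 n35304 = n35304 := d25_1 D35304 (iv D35304) F156001
theorem F163920 : act 8 n35304 = n34141 := d37_2 D33557 D35304 F158604 F150131 (iv F147356)
theorem F163921 : act 9 n35304 = n33616 := d38_2 (iv F156004) D35304 F156292
def n35305 : Q := act 9 n33558
theorem D35305 : act 9 n33558 = n35305 := rfl
theorem F163922 : act 0 n35305 = n33635 := d8_1 D35305 (iv D33635) (iv F156005)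
theorem F163923 : act 1 n35305 = n33639 := d16_1 D35305 F156386 (iv F156006)
theorem F163924 : act 2 n35305 = n33764 := d23_1 D35305 (iv F163863) F163858
theorem F163925 : act 3 n35305 = n33560 := d29_1 D35305 (iv D33560) (iv F156007)
theorem F163926 : act 4 n35305 = n33638 := d34_1 D35305 (iv F163915) F163912
theorem F163927 : act 6 n35305 = n33766 := d41_1 D35305 (iv D33766) (iv F156008)
theorem F163928 : act 7 n35305 = n33559 := d43_1 D35305 (iv D33559) (iv F156009)
theorem F163929 : act 8 n35305 = n33637 := d44_1 D35305 F156375 (iv D31989) (iv F147364) D33558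
def n35306 : Q := act 7 n33562
theorem D35306 : act 7 n33562 = n35306 := rfl
theorem F163930 : act 0 n35306 = n33938 := d6_1 D35306 F157834 (iv F156032)
theorem F163931 : act 1 n35306 = n33564 := d14_1 D35306 (iv D33564) (iv F156033)
theorem F163932 : act 2 n35306 = n33660 := d21_1 D35306 (iv D33660) (iv F156034)
theorem F163933 : act 3 n35306 = n35306 := d27_1 D35306 (iv D35306) F156035
theorem F163934 : act 4 n35306 = n34212 := d32_1 D35306 (iv D34212) (iv F156036)
theorem F163935 : act 6 n35306 = n33572 := d39_1 D35306 (iv D33572) (iv D31679) (iv F147412) D33562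
theorem F163936 : act 8 n35306 = n33918 := d42_2 (iv F156037) D35306 (iv D33918)
theorem F163937 : act 9 n35306 = n34054 := d43_2 (iv F156038) D35306 (iv D34054)
def n35307 : Q := act 4 n33563
theorem D35307 : act 4 n33563 = n35307 := rfl
theorem F163938 : act 0 n35307 = n33981 := d3_1 D35307 (iv D33981) (iv F156039)
theorem F163939 : act 2 n35307 = n33565 := d18_1 D35307 (iv D33565) (iv F156040)
theorem F163940 : act 5 n35307 = n34213 := d30_2 D33563 D35307 (iv D34213) (iv D32351) (iv F147419)
theorem F163941 : act 6 n35307 = n33593 := d31_2 (iv F156042) D35307 (iv D33593)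
theorem F163942 : act 9 n35307 = n34055 := d34_2 (iv F156043) D35307 (iv D34055)
def n35308 : Q := act 7 n33563
theorem D35308 : act 7 n33563 = n35308 := rfl
theorem F163943 : act 0 n35308 = n33982 := d6_1 D35308 (iv D33982) (iv F156039)
theorem F163944 : act 2 n35308 = n33566 := d21_1 D35308 (iv D33566) (iv F156040)
theorem F163945 : act 3 n35308 = n35308 := d27_1 D35308 (iv D35308) F156041
theorem F163946 : act 5 n35308 = n33564 := d36_1 D35308 (iv D33564) D33563
theorem F163947 : act 9 n35308 = n34056 := d43_2 (iv F156043) D35308 (iv D34056)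
def n35309 : Q := act 7 n33565
theorem D35309 : act 7 n33565 = n35309 := rfl
theorem F163948 : act 0 n35309 = n33984 := d6_1 D35309 (iv D33984) (iv F156051)
theorem F163949 : act 1 n35309 = n33663 := d14_1 D35309 (iv D33663) (iv F156052)
theorem F163950 : act 3 n35309 = n34041 := d27_1 D35309 (iv D34041) (iv F156053)
theorem F163951 : act 4 n35309 = n33566 := d32_1 D35309 (iv D33566) D33565
theorem F163952 : act 5 n35309 = n34215 := d36_1 D35309 (iv D34215) (iv F156054)
theorem F163953 : act 9 n35309 = n34057 := d43_2 (iv F156056) D35309 (iv D34057)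
def n35310 : Q := act 8 n33565
theorem D35310 : act 8 n33565 = n35310 := rfl
theorem F163954 : act 0 n35310 = n33985 := d7_1 D35310 (iv D33985) (iv F156051)
theorem F163955 : act 1 n35310 = n33664 := d15_1 D35310 (iv D33664) (iv F156052)
theorem F163956 : act 3 n35310 = n34042 := d28_1 D35310 (iv D34042) (iv F156053)
theorem F163957 : act 4 n35310 = n33567 := d33_1 D35310 (iv D33567) D33565
theorem F163958 : act 5 n35310 = n34322 := d37_1 D35310 F159291 (iv F156692) F156693 (iv F156054)
theorem F163959 : act 6 n35310 = n33596 := d40_1 D35310 (iv D33596) (iv F156055)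
def n35311 : Q := act 6 n33566
theorem D35311 : act 6 n33566 = n35311 := rfl
theorem F163960 : act 0 n35311 = n33986 := d5_1 D35311 (iv D33986) (iv F156057)
theorem F163961 : act 1 n35311 = n33665 := d13_1 D35311 (iv D33665) (iv F156058)
theorem F163962 : act 3 n35311 = n33568 := d26_1 D35311 (iv D33568) (iv F156059)
theorem F163963 : act 5 n35311 = n33578 := d35_1 D35311 (iv D33578) F147467 (iv F147431) (iv F156060)
theorem F163964 : act 7 n35311 = n33597 := d39_2 D33566 D35311 (iv D33597) (iv D31697) (iv F147425)
theorem F163965 : act 9 n35311 = n34059 := d41_2 (iv F156061) D35311 (iv D34059)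
def n35312 : Q := act 8 n33566
theorem D35312 : act 8 n33566 = n35312 := rfl
theorem F163966 : act 0 n35312 = n33987 := d7_1 D35312 (iv D33987) (iv F156057)
theorem F163967 : act 1 n35312 = n33666 := d15_1 D35312 (iv D33666) (iv F156058)
theorem F163968 : act 3 n35312 = n33569 := d28_1 D35312 (iv D33569) (iv F156059)
theorem F163969 : act 5 n35312 = n33932 := d37_1 D35312 (iv D33932) F149262 (iv F147432) (iv F156060)
theorem F163970 : act 7 n35312 = n33567 := d42_1 D35312 (iv D33567) D33566
def n35313 : Q := act 8 n33568
theorem D35313 : act 8 n33568 = n35313 := rfl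
theorem F163971 : act 0 n35313 = n33989 := d7_1 D35313 (iv D33989) (iv F156067)
theorem F163972 : act 1 n35313 = n33667 := d15_1 D35313 (iv D33667) (iv F156068)
theorem F163973 : act 2 n35313 = n35313 := d22_1 D35313 (iv D35313) F156069
theorem F163974 : act 4 n35313 = n34046 := d33_1 D35313 (iv D34046) (iv F156070)
theorem F163975 : act 6 n35313 = n33569 := d40_1 D35313 (iv D33569) D33568
theorem F163976 : act 7 n35313 = n33600 := d42_1 D35313 (iv D33600) (iv F156072)
theorem F163977 : act 5 n34028 = n35313 := d35_5 F163975 F156078 F149274 (iv F149764) D34028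
def n35314 : Q := act 5 n33570
theorem D35314 : act 5 n33570 = n35314 := rfl
theorem F163978 : act 0 n35314 = n33571 := d4_1 D35314 (iv D33571) (iv F156080)
theorem F163979 : act 1 n35314 = n33983 := d12_1 D35314 F158043 (iv F156081)
theorem F163980 : act 2 n35314 = n33678 := d19_1 D35314 (iv D33678) (iv F156082)
theorem F163981 : act 3 n35314 = n35314 := d25_1 D35314 (iv D35314) F156083
theorem F163982 : act 6 n35314 = n33612 := d35_2 D33570 D35314 (iv D33612) (iv D31710) (iv F147448)
theorem F163983 : act 8 n35314 = n33979 := d37_2 (iv F156084) D35314 (iv D33979) F149581 (iv F149280)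
theorem F163984 : act 9 n35314 = n33769 := d38_2 (iv F156085) D35314 F156935
def n35315 : Q := act 7 n33570
theorem D35315 : act 7 n33570 = n35315 := rfl
theorem F163985 : act 0 n35315 = n33572 := d6_1 D35315 (iv D33572) (iv F156080)
theorem F163986 : act 1 n35315 = n33993 := d14_1 D35315 F158084 (iv F156081)
theorem F163987 : act 2 n35315 = n33679 := d21_1 D35315 (iv D33679) (iv F156082)
theorem F163988 : act 3 n35315 = n35315 := d27_1 D35315 (iv D35315) F156083
theorem F163989 : act 6 n35315 = n33938 := d39_1 D35315 F157834 F149305 (iv F147449) D33570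
theorem F163990 : act 8 n35315 = n33933 := d42_2 (iv F156084) D35315 (iv D33933)
theorem F163991 : act 9 n35315 = n33976 := d43_2 (iv F156085) D35315 (iv D33976)
def n35316 : Q := act 4 n33571
theorem D35316 : act 4 n33571 = n35316 := rfl
theorem F163992 : act 1 n35316 = n33573 := d11_1 D35316 (iv D33573) (iv F156086)
theorem F163993 : act 2 n35316 = n33680 := d18_1 D35316 (iv D33680) (iv F156087)
theorem F163994 : act 6 n35316 = n33614 := d31_2 (iv F156089) D35316 (iv D33614)
theorem F163995 : act 9 n35316 = n34642 := d34_2 (iv F156090) D35316 F160395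
def n35317 : Q := act 7 n33571
theorem D35317 : act 7 n33571 = n35317 := rfl
theorem F163996 : act 1 n35317 = n33574 := d14_1 D35317 (iv D33574) (iv F156086)
theorem F163997 : act 2 n35317 = n33681 := d21_1 D35317 (iv D33681) (iv F156087)
theorem F163998 : act 3 n35317 = n35317 := d27_1 D35317 (iv D35317) F156088
theorem F163999 : act 5 n35317 = n33572 := d36_1 D35317 (iv D33572) D33571
theorem F164000 : act 9 n35317 = n34652 := d43_2 (iv F156090) D35317 (iv D34652)
def n35318 : Q := act 8 n33571
theorem D35318 : act 8 n33571 = n35318 := rfl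
theorem F164001 : act 0 n35318 = n33979 := d7_1 D35318 (iv F163983) F163978
theorem F164002 : act 1 n35318 = n33575 := d15_1 D35318 (iv D33575) (iv F156086)
theorem F164003 : act 2 n35318 = n33682 := d22_1 D35318 (iv D33682) (iv F156087)
theorem F164004 : act 3 n35318 = n35318 := d28_1 D35318 (iv D35318) F156088
theorem F164005 : act 5 n35318 = n33935 := d37_1 D35318 (iv D33935) (iv D32054) (iv F147455) D33571
theorem F164006 : act 6 n35318 = n33616 := d40_1 D35318 (iv D33616) (iv F156089)
def n35319 : Q := act 3 n33573
theorem D35319 : act 3 n33573 = n35319 := rfl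
theorem F164007 : act 4 n35319 = n35319 := d24_2 D33573 D35319 (iv D35319) (iv D33573) F147458
theorem F164008 : act 6 n35319 = n33617 := d26_2 (iv F156097) D35319 (iv D33617)
def n35320 : Q := act 7 n33573
theorem D35320 : act 7 n33573 = n35320 := rfl
theorem F164009 : act 2 n35320 = n33576 := d21_1 D35320 (iv D33576) (iv F156096)
theorem F164010 : act 4 n35320 = n33574 := d32_1 D35320 (iv D33574) D33573
def n35321 : Q := act 8 n33573
theorem D35321 : act 8 n33573 = n35321 := rfl
theorem F164011 : act 2 n35321 = n33577 := d22_1 D35321 (iv D33577) (iv F156096)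
theorem F164012 : act 4 n35321 = n33575 := d33_1 D35321 (iv D33575) D33573
theorem F164013 : act 6 n35321 = n33619 := d40_1 D35321 (iv D33619) (iv F156097)
def n35322 : Q := act 6 n33574
theorem D35322 : act 6 n33574 = n35322 := rfl
theorem F164014 : act 2 n35322 = n33578 := d20_1 D35322 (iv D33578) (iv F156098)
theorem F164015 : act 3 n35322 = n35322 := d26_1 D35322 (iv D35322) F156099
theorem F164016 : act 7 n35322 = n33620 := d39_2 D33574 D35322 (iv D33620) (iv D31714) (iv F147459)
def n35323 : Q := act 8 n33574
theorem D35323 : act 8 n33574 = n35323 := rfl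
theorem F164017 : act 2 n35323 = n33579 := d22_1 D35323 (iv D33579) (iv F156098)
theorem F164018 : act 3 n35323 = n35323 := d28_1 D35323 (iv D35323) F156099
theorem F164019 : act 5 n35323 = n33938 := d37_1 D35323 (iv D33938) F149301 (iv F147462) (iv F156100)
theorem F164020 : act 7 n35323 = n33575 := d42_1 D35323 (iv D33575) D33574
def n35324 : Q := act 9 n33575
theorem D35324 : act 9 n33575 = n35324 := rfl
theorem F164021 : act 0 n35324 = n34053 := d8_1 D35324 F163685 F163679
theorem F164022 : act 2 n35324 = n33580 := d23_1 D35324 (iv D33580) (iv F156101)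
theorem F164023 : act 3 n35324 = n35324 := d29_1 D35324 (iv D35324) F156102
theorem F164024 : act 5 n35324 = n33939 := d38_1 D35324 (iv D33939) (iv F156103)
theorem F164025 : act 6 n35324 = n33622 := d41_1 D35324 (iv D33622) (iv F156104)
def n35325 : Q := act 6 n33576
theorem D35325 : act 6 n33576 = n35325 := rfl
theorem F164026 : act 1 n35325 = n33689 := d13_1 D35325 (iv D33689) (iv F156105)
theorem F164027 : act 4 n35325 = n33578 := d31_1 D35325 (iv D33578) (iv F156106)
theorem F164028 : act 7 n35325 = n33623 := d39_2 D33576 D35325 (iv D33623) (iv D31716) (iv F147464)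
def n35326 : Q := act 8 n33576
theorem D35326 : act 8 n33576 = n35326 := rfl
theorem F164029 : act 1 n35326 = n33690 := d15_1 D35326 (iv D33690) (iv F156105)
theorem F164030 : act 4 n35326 = n33579 := d33_1 D35326 (iv D33579) (iv F156106)
theorem F164031 : act 7 n35326 = n33577 := d42_1 D35326 (iv D33577) D33576
def n35327 : Q := act 5 n33577
theorem D35327 : act 5 n33577 = n35327 := rfl
theorem F164032 : act 1 n35327 = n33691 := d12_1 D35327 (iv D33691) (iv F156107)
theorem F164033 : act 4 n35327 = n33942 := d30_1 D35327 (iv D33942) F149312 (iv F147470) (iv F156108)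
def n35328 : Q := act 9 n33577
theorem D35328 : act 9 n33577 = n35328 := rfl
theorem F164034 : act 0 n35328 = n34097 := d8_1 D35328 F163697 F163692
theorem F164035 : act 1 n35328 = n33692 := d16_1 D35328 (iv D33692) (iv F156107)
theorem F164036 : act 4 n35328 = n33580 := d34_1 D35328 (iv D33580) (iv F156108)
theorem F164037 : act 6 n35328 = n33626 := d41_1 D35328 (iv D33626) (iv F156109)
def n35329 : Q := act 8 n33578
theorem D35329 : act 8 n33578 = n35329 := rfl
theorem F164038 : act 1 n35329 = n33693 := d15_1 D35329 (iv D33693) (iv F156110)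
theorem F164039 : act 3 n35329 = n33581 := d28_1 D35329 (iv D33581) (iv F156111)
theorem F164040 : act 6 n35329 = n33579 := d40_1 D35329 (iv D33579) D33578
theorem F164041 : act 7 n35329 = n33627 := d42_1 D35329 (iv D33627) (iv F156112)
def n35330 : Q := act 9 n33579
theorem D35330 : act 9 n33579 = n35330 := rfl
theorem F164042 : act 0 n35330 = n34098 := d8_1 D35330 F163709 F163704
theorem F164043 : act 1 n35330 = n33694 := d16_1 D35330 (iv D33694) (iv F156113)
theorem F164044 : act 3 n35330 = n33582 := d29_1 D35330 (iv D33582) (iv F156114)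
theorem F164045 : act 5 n35330 = n33944 := d38_1 D35330 (iv D33944) (iv F156115)
theorem F164046 : act 7 n35330 = n33580 := d43_1 D35330 (iv D33580) (iv F156116)
def n35331 : Q := act 5 n33581
theorem D35331 : act 5 n33581 = n35331 := rfl
theorem F164047 : act 0 n35331 = n33796 := d4_1 D35331 F163716 F163710
theorem F164048 : act 1 n35331 = n33695 := d12_1 D35331 (iv D33695) (iv F156122)
theorem F164049 : act 2 n35331 = n35331 := d19_1 D35331 (iv D35331) F156123
theorem F164050 : act 6 n35331 = n33777 := d35_2 (iv F156124) D35331 F156962 F148326 (iv F147477)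
theorem F164051 : act 7 n35331 = n33629 := d36_2 (iv F156125) D35331 (iv D33629)
theorem F164052 : act 8 n35331 = n34028 := d37_2 D33581 D35331 F163977 (iv D35313) F156071
theorem F164053 : act 9 n33776 = n35331 := d43_0 F164051 (iv F156333) D33776
def n35332 : Q := act 9 n33581
theorem D35332 : act 9 n33581 = n35332 := rfl
theorem F164054 : act 0 n35332 = n34170 := d8_1 D35332 F163717 F163710
theorem F164055 : act 1 n35332 = n33696 := d16_1 D35332 (iv D33696) (iv F156122)
theorem F164056 : act 2 n35332 = n35332 := d23_1 D35332 (iv D35332) F156123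
theorem F164057 : act 5 n35332 = n33776 := d38_1 D35332 F164053 (iv D35331)
theorem F164058 : act 6 n35332 = n33582 := d41_1 D35332 (iv D33582) (iv F156124)
theorem F164059 : act 7 n35332 = n33630 := d43_1 D35332 (iv D33630) (iv F156125)
def n35333 : Q := act 6 n33583
theorem D35333 : act 6 n33583 = n35333 := rfl
theorem F164060 : act 0 n35333 = n33584 := d5_1 D35333 (iv D33584) D33583
theorem F164061 : act 1 n35333 = n33939 := d13_1 D35333 F157838 (iv F156131)
theorem F164062 : act 2 n35333 = n33697 := d20_1 D35333 (iv D33697) (iv F156132)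
theorem F164063 : act 3 n35333 = n35333 := d26_1 D35333 (iv D35333) F156133
theorem F164064 : act 4 n35333 = n34243 := d31_1 D35333 (iv D34243) (iv F156134)
theorem F164065 : act 8 n35333 = n35333 := d40_2 F156137 D35333 (iv D35333)
theorem F164066 : act 9 n35333 = n33935 := d41_2 (iv F156138) D35333 F157819
def n35334 : Q := act 5 n33584
theorem D35334 : act 5 n33584 = n35334 := rfl
theorem F164067 : act 1 n35334 = n33585 := d12_1 D35334 (iv D33585) (iv F156139)
theorem F164068 : act 2 n35334 = n33698 := d19_1 D35334 (iv D33698) (iv F156140)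
theorem F164069 : act 3 n35334 = n35334 := d25_1 D35334 (iv D35334) F156141
theorem F164070 : act 6 n35334 = n33633 := d35_2 D33584 D35334 (iv D33633) F147639 (iv F147487)
theorem F164071 : act 9 n35334 = n33979 := d38_2 (iv F156144) D35334 (iv D33979)
theorem F164072 : act 8 n34705 = n35334 := d44_5 F164071 (iv F163983) F163984 (iv F161660) F161661
def n35335 : Q := act 7 n33584
theorem D35335 : act 7 n33584 = n35335 := rfl
theorem F164073 : act 1 n35335 = n33586 := d14_1 D35335 (iv D33586) (iv F156139)
theorem F164074 : act 2 n35335 = n33699 := d21_1 D35335 (iv D33699) (iv F156140)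
theorem F164075 : act 3 n35335 = n35335 := d27_1 D35335 (iv D35335) F156141
theorem F164076 : act 4 n35335 = n34245 := d32_1 D35335 (iv D34245) (iv F156142)
theorem F164077 : act 6 n35335 = n34287 := d39_1 D35335 (iv D34287) (iv D32424) (iv F147488) D33584
theorem F164078 : act 8 n35335 = n35335 := d42_2 F156143 D35335 (iv D35335)
theorem F164079 : act 9 n35335 = n33980 := d43_2 (iv F156144) D35335 (iv D33980)
def n35336 : Q := act 4 n33585
theorem D35336 : act 4 n33585 = n35336 := rfl
theorem F164080 : act 0 n35336 = n34055 := d3_1 D35336 (iv D34055) (iv F156145)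
theorem F164081 : act 2 n35336 = n33587 := d18_1 D35336 (iv D33587) (iv F156146)
theorem F164082 : act 5 n35336 = n34246 := d30_2 D33585 D35336 (iv D34246) (iv D32384) (iv F147494)
theorem F164083 : act 6 n35336 = n33715 := d31_2 (iv F156148) D35336 F156716
theorem F164084 : act 8 n35336 = n34626 := d33_2 F156150 D35336 F160357
theorem F164085 : act 9 n35336 = n33981 := d34_2 (iv F156149) D35336 (iv D33981)
def n35337 : Q := act 7 n33585
theorem D35337 : act 7 n33585 = n35337 := rfl
theorem F164086 : act 0 n35337 = n34056 := d6_1 D35337 (iv D34056) (iv F156145)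
theorem F164087 : act 2 n35337 = n33588 := d21_1 D35337 (iv D33588) (iv F156146)
theorem F164088 : act 3 n35337 = n35337 := d27_1 D35337 (iv D35337) F156147
theorem F164089 : act 5 n35337 = n33586 := d36_1 D35337 (iv D33586) D33585
theorem F164090 : act 8 n35337 = n34715 := d42_2 F156150 D35337 (iv D34715)
theorem F164091 : act 9 n35337 = n33982 := d43_2 (iv F156149) D35337 (iv D33982)
def n35338 : Q := act 7 n33587
theorem D35338 : act 7 n33587 = n35338 := rfl
theorem F164092 : act 0 n35338 = n34057 := d6_1 D35338 (iv D34057) (iv F156158)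
theorem F164093 : act 1 n35338 = n33703 := d14_1 D35338 (iv D33703) (iv F156159)
theorem F164094 : act 3 n35338 = n33595 := d27_1 D35338 (iv D33595) (iv F156160)
theorem F164095 : act 4 n35338 = n33588 := d32_1 D35338 (iv D33588) D33587
theorem F164096 : act 5 n35338 = n34249 := d36_1 D35338 (iv D34249) (iv F156161)
theorem F164097 : act 9 n35338 = n33984 := d43_2 (iv F156163) D35338 (iv D33984)
def n35339 : Q := act 8 n33587
theorem D35339 : act 8 n33587 = n35339 := rfl
theorem F164098 : act 0 n35339 = n34058 := d7_1 D35339 (iv D34058) (iv F156158)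
theorem F164099 : act 1 n35339 = n33704 := d15_1 D35339 (iv D33704) (iv F156159)
theorem F164100 : act 2 n35339 = n34626 := d22_1 D35339 (iv F164084) F164081
theorem F164101 : act 3 n35339 = n33596 := d28_1 D35339 (iv D33596) (iv F156160)
theorem F164102 : act 4 n35339 = n33589 := d33_1 D35339 (iv D33589) D33587
theorem F164103 : act 6 n35339 = n34042 := d40_1 D35339 (iv D34042) (iv F156162)
def n35340 : Q := act 6 n33588
theorem D35340 : act 6 n33588 = n35340 := rfl
theorem F164104 : act 0 n35340 = n34059 := d5_1 D35340 (iv D34059) (iv F156164)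
theorem F164105 : act 1 n35340 = n33705 := d13_1 D35340 (iv D33705) (iv F156165)
theorem F164106 : act 3 n35340 = n33590 := d26_1 D35340 (iv D33590) (iv F156166)
theorem F164107 : act 5 n35340 = n34293 := d35_1 D35340 (iv D34293) F150785 (iv F147506) (iv F156167)
theorem F164108 : act 7 n35340 = n34043 := d39_2 D33588 D35340 (iv D34043) (iv D32182) (iv F147500)
theorem F164109 : act 9 n35340 = n33986 := d41_2 (iv F156168) D35340 (iv D33986)
def n35341 : Q := act 8 n33588
theorem D35341 : act 8 n33588 = n35341 := rfl
theorem F164110 : act 0 n35341 = n34060 := d7_1 D35341 (iv D34060) (iv F156164)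
theorem F164111 : act 1 n35341 = n33706 := d15_1 D35341 (iv D33706) (iv F156165)
theorem F164112 : act 2 n35341 = n34715 := d22_1 D35341 (iv F164090) F164087
theorem F164113 : act 3 n35341 = n33591 := d28_1 D35341 (iv D33591) (iv F156166)
theorem F164114 : act 5 n35341 = n35341 := d37_1 D35341 (iv D35341) F156167 F147507 (iv F156167)
theorem F164115 : act 7 n35341 = n33589 := d42_1 D35341 (iv D33589) D33588
def n35342 : Q := act 9 n33589
theorem D35342 : act 9 n33589 = n35342 := rfl
theorem F164116 : act 0 n35342 = n34061 := d8_1 D35342 (iv D34061) (iv F156169)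
theorem F164117 : act 1 n35342 = n33707 := d16_1 D35342 (iv D33707) (iv F156170)
theorem F164118 : act 2 n35342 = n34716 := d23_1 D35342 (iv D34716) (iv F156171)
theorem F164119 : act 3 n35342 = n33592 := d29_1 D35342 (iv D33592) (iv F156172)
theorem F164120 : act 5 n35342 = n35342 := d38_1 D35342 (iv D35342) F156173
theorem F164121 : act 6 n35342 = n34045 := d41_1 D35342 (iv D34045) (iv F156174)
theorem F164122 : act 8 n35342 = n33988 := d44_1 D35342 (iv D33988) (iv D32119) (iv F147501) D33589
def n35343 : Q := act 8 n33590
theorem D35343 : act 8 n33590 = n35343 := rfl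
theorem F164123 : act 0 n35343 = n34062 := d7_1 D35343 (iv D34062) (iv F156175)
theorem F164124 : act 1 n35343 = n33708 := d15_1 D35343 (iv D33708) (iv F156176)
theorem F164125 : act 2 n35343 = n35343 := d22_1 D35343 (iv D35343) F156177
theorem F164126 : act 4 n35343 = n33600 := d33_1 D35343 (iv D33600) (iv F156178)
theorem F164127 : act 6 n35343 = n33591 := d40_1 D35343 (iv D33591) D33590
theorem F164128 : act 7 n35343 = n34046 := d42_1 D35343 (iv D34046) (iv F156180)
def n35344 : Q := act 9 n33591
theorem D35344 : act 9 n33591 = n35344 := rfl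
theorem F164129 : act 0 n35344 = n34063 := d8_1 D35344 (iv D34063) (iv F156182)
theorem F164130 : act 1 n35344 = n33709 := d16_1 D35344 (iv D33709) (iv F156183)
theorem F164131 : act 2 n35344 = n35344 := d23_1 D35344 (iv D35344) F156184
theorem F164132 : act 4 n35344 = n33601 := d34_1 D35344 (iv D33601) (iv F156185)
theorem F164133 : act 5 n35344 = n35344 := d38_1 D35344 (iv D35344) F156186
theorem F164134 : act 7 n35344 = n33592 := d43_1 D35344 (iv D33592) (iv F156187)
theorem F164135 : act 8 n35344 = n33990 := d44_1 D35344 (iv D33990) (iv D32121) (iv F147514) D33591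
def n35345 : Q := act 3 n33593
theorem D35345 : act 3 n33593 = n35345 := rfl
theorem F164136 : act 4 n35345 = n35345 := d24_2 D33593 D35345 (iv D35345) (iv D33593) F147522
theorem F164137 : act 5 n35345 = n34530 := d25_2 (iv F156196) D35345 (iv D34530)
theorem F164138 : act 9 n35345 = n34066 := d29_2 (iv F156197) D35345 (iv D34066)
def n35346 : Q := act 7 n33593
theorem D35346 : act 7 n33593 = n35346 := rfl
theorem F164139 : act 2 n35346 = n33595 := d21_1 D35346 (iv D33595) (iv F156195)
theorem F164140 : act 4 n35346 = n33594 := d32_1 D35346 (iv D33594) D33593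
theorem F164141 : act 5 n35346 = n34531 := d36_1 D35346 (iv D34531) (iv F156196)
theorem F164142 : act 9 n35346 = n34067 := d43_2 (iv F156197) D35346 (iv D34067)
def n35347 : Q := act 6 n33594
theorem D35347 : act 6 n33594 = n35347 := rfl
theorem F164143 : act 2 n35347 = n33597 := d20_1 D35347 (iv D33597) (iv F156198)
theorem F164144 : act 3 n35347 = n35347 := d26_1 D35347 (iv D35347) F156199
theorem F164145 : act 5 n35347 = n33620 := d35_1 D35347 (iv D33620) F147605 (iv F147527) (iv F156200)
theorem F164146 : act 9 n35347 = n34068 := d41_2 (iv F156201) D35347 (iv D34068)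
def n35348 : Q := act 6 n33595
theorem D35348 : act 6 n33595 = n35348 := rfl
theorem F164147 : act 1 n35348 = n33713 := d13_1 D35348 (iv D33713) (iv F156202)
theorem F164148 : act 4 n35348 = n33597 := d31_1 D35348 (iv D33597) (iv F156203)
theorem F164149 : act 9 n35348 = n34069 := d41_2 (iv F156205) D35348 (iv D34069)
def n35349 : Q := act 8 n33595
theorem D35349 : act 8 n33595 = n35349 := rfl
theorem F164150 : act 1 n35349 = n33714 := d15_1 D35349 (iv D33714) (iv F156202)
theorem F164151 : act 4 n35349 = n33598 := d33_1 D35349 (iv D33598) (iv F156203)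
theorem F164152 : act 7 n35349 = n33596 := d42_1 D35349 (iv D33596) D33595
def n35350 : Q := act 5 n33596
theorem D35350 : act 5 n33596 = n35350 := rfl
theorem F164153 : act 1 n35350 = n33715 := d12_1 D35350 (iv D33715) (iv F156206)
theorem F164154 : act 4 n35350 = n33633 := d30_1 D35350 (iv D33633) F147638 (iv F147539) (iv F156207)
theorem F164155 : act 8 n35350 = n34535 := d37_2 D33596 D35350 (iv D34535) (iv D32685) (iv F147531)
def n35351 : Q := act 9 n33596
theorem D35351 : act 9 n33596 = n35351 := rfl
theorem F164156 : act 1 n35351 = n33716 := d16_1 D35351 (iv D33716) (iv F156206)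
theorem F164157 : act 4 n35351 = n33599 := d34_1 D35351 (iv D33599) (iv F156207)
theorem F164158 : act 8 n35351 = n34071 := d44_1 D35351 (iv D34071) (iv D32209) (iv F147532) D33596
def n35352 : Q := act 8 n33597
theorem D35352 : act 8 n33597 = n35352 := rfl
theorem F164159 : act 1 n35352 = n33717 := d15_1 D35352 (iv D33717) (iv F156208)
theorem F164160 : act 3 n35352 = n33600 := d28_1 D35352 (iv D33600) (iv F156209)
theorem F164161 : act 6 n35352 = n33598 := d40_1 D35352 (iv D33598) D33597
def n35353 : Q := act 9 n33598
theorem D35353 : act 9 n33598 = n35353 := rfl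
theorem F164162 : act 1 n35353 = n33718 := d16_1 D35353 (iv D33718) (iv F156212)
theorem F164163 : act 3 n35353 = n33601 := d29_1 D35353 (iv D33601) (iv F156213)
theorem F164164 : act 5 n35353 = n33635 := d38_1 D35353 (iv D33635) (iv F156214)
theorem F164165 : act 7 n35353 = n33599 := d43_1 D35353 (iv D33599) (iv F156215)
theorem F164166 : act 8 n35353 = n34073 := d44_1 D35353 (iv D34073) (iv D32211) (iv F147536) D33598
def n35354 : Q := act 5 n33600
theorem D35354 : act 5 n33600 = n35354 := rfl
theorem F164167 : act 0 n35354 = n33847 := d4_1 D35354 (iv F163783) F163779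
theorem F164168 : act 1 n35354 = n33719 := d12_1 D35354 (iv D33719) (iv F156220)
theorem F164169 : act 2 n35354 = n35354 := d19_1 D35354 (iv D35354) F156221
theorem F164170 : act 6 n35354 = n33636 := d35_2 (iv F156222) D35354 (iv D33636) F147657 (iv F147546)
theorem F164171 : act 7 n35354 = n34028 := d36_2 F163976 D35354 F163977
theorem F164172 : act 8 n35354 = n33629 := d37_2 D33600 D35354 (iv D33629) (iv D31721) (iv F147542)
def n35355 : Q := act 9 n33600
theorem D35355 : act 9 n33600 = n35355 := rfl
theorem F164173 : act 1 n35355 = n33720 := d16_1 D35355 (iv D33720) (iv F156220)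
theorem F164174 : act 2 n35355 = n35355 := d23_1 D35355 (iv D35355) F156221
theorem F164175 : act 6 n35355 = n33601 := d41_1 D35355 (iv D33601) (iv F156222)
theorem F164176 : act 8 n35355 = n34075 := d44_1 D35355 (iv D34075) (iv D32213) (iv F147543) D33600
def n35356 : Q := act 3 n33602
theorem D35356 : act 3 n33602 = n35356 := rfl
theorem F164177 : act 1 n35356 = n34636 := d10_1 D35356 F160380 (iv F156228)
theorem F164178 : act 4 n35356 = n35356 := d24_2 D33602 D35356 (iv D35356) (iv D33602) F147554
theorem F164179 : act 5 n35356 = n34521 := d25_2 (iv F156230) D35356 (iv D34521)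
theorem F164180 : act 9 n35356 = n33617 := d29_2 (iv F156231) D35356 (iv D33617)
def n35357 : Q := act 7 n33602
theorem D35357 : act 7 n33602 = n35357 := rfl
theorem F164181 : act 1 n35357 = n34640 := d14_1 D35357 F160390 (iv F156228)
theorem F164182 : act 2 n35357 = n33605 := d21_1 D35357 (iv D33605) (iv F156229)
theorem F164183 : act 4 n35357 = n33603 := d32_1 D35357 (iv D33603) D33602
theorem F164184 : act 5 n35357 = n34522 := d36_1 D35357 (iv D34522) (iv F156230)
theorem F164185 : act 9 n35357 = n33618 := d43_2 (iv F156231) D35357 (iv D33618)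
def n35358 : Q := act 8 n33602
theorem D35358 : act 8 n33602 = n35358 := rfl
theorem F164186 : act 1 n35358 = n34122 := d15_1 D35358 F158543 (iv F156228)
theorem F164187 : act 2 n35358 = n33606 := d22_1 D35358 (iv D33606) (iv F156229)
theorem F164188 : act 4 n35358 = n33604 := d33_1 D35358 (iv D33604) D33602
theorem F164189 : act 5 n35358 = n34115 := d37_1 D35358 (iv D34115) F150066 (iv F151703) (iv F156230)
def n35359 : Q := act 6 n33603
theorem D35359 : act 6 n33603 = n35359 := rfl
theorem F164190 : act 1 n35359 = n34651 := d13_1 D35359 (iv D34651) (iv F156232)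
theorem F164191 : act 2 n35359 = n33607 := d20_1 D35359 (iv D33607) (iv F156233)
theorem F164192 : act 3 n35359 = n35359 := d26_1 D35359 (iv D35359) F156234
theorem F164193 : act 5 n35359 = n34068 := d35_1 D35359 (iv D34068) F149944 (iv F147560) (iv F156235)
theorem F164194 : act 9 n35359 = n33620 := d41_2 (iv F156236) D35359 (iv D33620)
def n35360 : Q := act 8 n33603
theorem D35360 : act 8 n33603 = n35360 := rfl
theorem F164195 : act 1 n35360 = n34138 := d15_1 D35360 F158590 (iv F156232)
theorem F164196 : act 2 n35360 = n33608 := d22_1 D35360 (iv D33608) (iv F156233)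
theorem F164197 : act 3 n35360 = n35360 := d28_1 D35360 (iv D35360) F156234
theorem F164198 : act 5 n35360 = n33892 := d37_1 D35360 (iv D33892) F148918 (iv F147561) (iv F156235)
theorem F164199 : act 7 n35360 = n33604 := d42_1 D35360 (iv D33604) D33603
def n35361 : Q := act 9 n33604
theorem D35361 : act 9 n33604 = n35361 := rfl
theorem F164200 : act 0 n35361 = n33895 := d8_1 D35361 (iv F163824) F163818
theorem F164201 : act 1 n35361 = n34141 := d16_1 D35361 (iv D34141) (iv F156237)
theorem F164202 : act 2 n35361 = n33609 := d23_1 D35361 (iv D33609) (iv F156238)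
theorem F164203 : act 3 n35361 = n35361 := d29_1 D35361 (iv D35361) F156239
theorem F164204 : act 5 n35361 = n33887 := d38_1 D35361 F157533 (iv F156240)
theorem F164205 : act 8 n35361 = n33622 := d44_1 D35361 (iv D33622) (iv D31715) (iv F147555) D33604
def n35362 : Q := act 6 n33605
theorem D35362 : act 6 n33605 = n35362 := rfl
theorem F164206 : act 1 n35362 = n33727 := d13_1 D35362 (iv D33727) (iv F156241)
theorem F164207 : act 4 n35362 = n33607 := d31_1 D35362 (iv D33607) (iv F156242)
theorem F164208 : act 9 n35362 = n33623 := d41_2 (iv F156244) D35362 (iv D33623)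
def n35363 : Q := act 8 n33605
theorem D35363 : act 8 n33605 = n35363 := rfl
theorem F164209 : act 1 n35363 = n33728 := d15_1 D35363 (iv D33728) (iv F156241)
theorem F164210 : act 4 n35363 = n33608 := d33_1 D35363 (iv D33608) (iv F156242)
theorem F164211 : act 7 n35363 = n33606 := d42_1 D35363 (iv D33606) D33605
def n35364 : Q := act 5 n33606
theorem D35364 : act 5 n33606 = n35364 := rfl
theorem F164212 : act 1 n35364 = n33729 := d12_1 D35364 (iv D33729) (iv F156245)
theorem F164213 : act 2 n35364 = n34115 := d19_1 D35364 (iv F164189) F164187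
theorem F164214 : act 4 n35364 = n33895 := d30_1 D35364 (iv D33895) F148934 (iv F147572) (iv F156246)
theorem F164215 : act 8 n35364 = n34064 := d37_2 D33606 D35364 F158359 (iv D32675) (iv F147564)
def n35365 : Q := act 9 n33606
theorem D35365 : act 9 n33606 = n35365 := rfl
theorem F164216 : act 0 n35365 = n34115 := d8_1 D35365 (iv F163836) F163831
theorem F164217 : act 1 n35365 = n33730 := d16_1 D35365 (iv D33730) (iv F156245)
theorem F164218 : act 4 n35365 = n33609 := d34_1 D35365 (iv D33609) (iv F156246)
theorem F164219 : act 8 n35365 = n33626 := d44_1 D35365 (iv D33626) (iv D31717) (iv F147565) D33606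
def n35366 : Q := act 8 n33607
theorem D35366 : act 8 n33607 = n35366 := rfl
theorem F164220 : act 1 n35366 = n33731 := d15_1 D35366 (iv D33731) (iv F156247)
theorem F164221 : act 3 n35366 = n33610 := d28_1 D35366 (iv D33610) (iv F156248)
theorem F164222 : act 6 n35366 = n33608 := d40_1 D35366 (iv D33608) D33607
def n35367 : Q := act 9 n33608
theorem D35367 : act 9 n33608 = n35367 := rfl
theorem F164223 : act 0 n35367 = n34117 := d8_1 D35367 (iv F163848) F163843
theorem F164224 : act 1 n35367 = n33732 := d16_1 D35367 (iv D33732) (iv F156251)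
theorem F164225 : act 3 n35367 = n33611 := d29_1 D35367 (iv D33611) (iv F156252)
theorem F164226 : act 5 n35367 = n33771 := d38_1 D35367 F156945 (iv F156253)
theorem F164227 : act 7 n35367 = n33609 := d43_1 D35367 (iv D33609) (iv F156254)
theorem F164228 : act 8 n35367 = n33628 := d44_1 D35367 (iv D33628) (iv D31719) (iv F147569) D33608
def n35368 : Q := act 5 n33610
theorem D35368 : act 5 n33610 = n35368 := rfl
theorem F164229 : act 1 n35368 = n33733 := d12_1 D35368 (iv D33733) (iv F156260)
theorem F164230 : act 2 n35368 = n35368 := d19_1 D35368 (iv D35368) F156261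
theorem F164231 : act 6 n35368 = n33897 := d35_2 (iv F156262) D35368 (iv D33897) F148952 (iv F147579)
theorem F164232 : act 8 n35368 = n34074 := d37_2 D33610 D35368 (iv D34074) (iv D32213) (iv F147575)
def n35369 : Q := act 9 n33610
theorem D35369 : act 9 n33610 = n35369 := rfl
theorem F164233 : act 0 n35369 = n34181 := d8_1 D35369 (iv F163855) F163849
theorem F164234 : act 1 n35369 = n33734 := d16_1 D35369 (iv D33734) (iv F156260)
theorem F164235 : act 2 n35369 = n35369 := d23_1 D35369 (iv D35369) F156261
theorem F164236 : act 6 n35369 = n33611 := d41_1 D35369 (iv D33611) (iv F156262)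
theorem F164237 : act 8 n35369 = n33630 := d44_1 D35369 (iv D33630) (iv D31721) (iv F147576) D33610
def n35370 : Q := act 4 n33612
theorem D35370 : act 4 n33612 = n35370 := rfl
theorem F164238 : act 0 n35370 = n33614 := d3_1 D35370 (iv D33614) (iv F156269)
theorem F164239 : act 2 n35370 = n33735 := d18_1 D35370 (iv D33735) (iv F156270)
theorem F164240 : act 5 n35370 = n33748 := d30_2 D33612 D35370 F156852 F148070 (iv F147589)
theorem F164241 : act 9 n35370 = n33747 := d34_2 (iv F156272) D35370 F156849
def n35371 : Q := act 7 n33612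
theorem D35371 : act 7 n33612 = n35371 := rfl
theorem F164242 : act 0 n35371 = n33615 := d6_1 D35371 (iv D33615) (iv F156269)
theorem F164243 : act 2 n35371 = n33644 := d21_1 D35371 F156413 (iv F156270)
theorem F164244 : act 3 n35371 = n35371 := d27_1 D35371 (iv D35371) F156271
theorem F164245 : act 5 n35371 = n33613 := d36_1 D35371 (iv D33613) D33612
theorem F164246 : act 9 n35371 = n33768 := d43_2 (iv F156272) D35371 F156931
def n35372 : Q := act 3 n33614
theorem D35372 : act 3 n33614 = n35372 := rfl
theorem F164247 : act 1 n35372 = n33617 := d10_1 D35372 (iv D33617) (iv F156280)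
theorem F164248 : act 4 n35372 = n35372 := d24_2 D33614 D35372 (iv D35372) (iv D33614) F147594
theorem F164249 : act 5 n35372 = n34637 := d25_2 (iv F156282) D35372 F160382
theorem F164250 : act 9 n35372 = n34636 := d29_2 (iv F156283) D35372 F160380
def n35373 : Q := act 7 n33614
theorem D35373 : act 7 n33614 = n35373 := rfl
theorem F164251 : act 1 n35373 = n33618 := d14_1 D35373 (iv D33618) (iv F156280)
theorem F164252 : act 2 n35373 = n33738 := d21_1 D35373 (iv D33738) (iv F156281)
theorem F164253 : act 4 n35373 = n33615 := d32_1 D35373 (iv D33615) D33614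
theorem F164254 : act 5 n35373 = n34641 := d36_1 D35373 F160393 (iv F156282)
theorem F164255 : act 9 n35373 = n34640 := d43_2 (iv F156283) D35373 F160390
def n35374 : Q := act 8 n33614
theorem D35374 : act 8 n33614 = n35374 := rfl
theorem F164256 : act 1 n35374 = n33619 := d15_1 D35374 (iv D33619) (iv F156280)
theorem F164257 : act 2 n35374 = n33739 := d22_1 D35374 (iv D33739) (iv F156281)
theorem F164258 : act 4 n35374 = n33616 := d33_1 D35374 (iv D33616) D33614
def n35375 : Q := act 6 n33615
theorem D35375 : act 6 n33615 = n35375 := rfl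
theorem F164259 : act 1 n35375 = n33620 := d13_1 D35375 (iv D33620) (iv F156284)
theorem F164260 : act 2 n35375 = n33740 := d20_1 D35375 (iv D33740) (iv F156285)
theorem F164261 : act 3 n35375 = n35375 := d26_1 D35375 (iv D35375) F156286
theorem F164262 : act 9 n35375 = n34651 := d41_2 (iv F156288) D35375 (iv D34651)
def n35376 : Q := act 8 n33615
theorem D35376 : act 8 n33615 = n35376 := rfl
theorem F164263 : act 1 n35376 = n33621 := d15_1 D35376 (iv D33621) (iv F156284)
theorem F164264 : act 2 n35376 = n33741 := d22_1 D35376 (iv D33741) (iv F156285)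
theorem F164265 : act 3 n35376 = n35376 := d28_1 D35376 (iv D35376) F156286
theorem F164266 : act 5 n35376 = n33638 := d37_1 D35376 (iv D33638) F147680 (iv F147600) (iv F156287)
theorem F164267 : act 7 n35376 = n33616 := d42_1 D35376 (iv D33616) D33615
def n35377 : Q := act 7 n33617
theorem D35377 : act 7 n33617 = n35377 := rfl
theorem F164268 : act 3 n35377 = n33618 := d27_1 D35377 (iv D33618) D33617
theorem F164269 : act 4 n35377 = n35377 := d32_1 D35377 (iv D35377) F156293
def n35378 : Q := act 8 n33617
theorem D35378 : act 8 n33617 = n35378 := rfl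
theorem F164270 : act 3 n35378 = n33619 := d28_1 D35378 (iv D33619) D33617
theorem F164271 : act 4 n35378 = n35378 := d33_1 D35378 (iv D35378) F156293
theorem F164272 : act 5 n35378 = n34108 := d37_1 D35378 (iv F162546) F162544 F161272 F161269
theorem F164273 : act 9 n34107 = n35378 := d38_0 F164272 (iv D34108) D34107
def n35379 : Q := act 6 n33618
theorem D35379 : act 6 n33618 = n35379 := rfl
theorem F164274 : act 2 n35379 = n33623 := d20_1 D35379 (iv D33623) (iv F156294)
theorem F164275 : act 4 n35379 = n33620 := d31_1 D35379 (iv D33620) (iv F156295)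
def n35380 : Q := act 8 n33618
theorem D35380 : act 8 n33618 = n35380 := rfl
theorem F164276 : act 2 n35380 = n33624 := d22_1 D35380 (iv D33624) (iv F156294)
theorem F164277 : act 4 n35380 = n33621 := d33_1 D35380 (iv D33621) (iv F156295)
theorem F164278 : act 7 n35380 = n33619 := d42_1 D35380 (iv D33619) D33618
def n35381 : Q := act 5 n33619
theorem D35381 : act 5 n33619 = n35381 := rfl
theorem F164279 : act 0 n35381 = n34526 := d4_1 D35381 F163881 F163877
theorem F164280 : act 2 n35381 = n33625 := d19_1 D35381 (iv D33625) (iv F156296)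
theorem F164281 : act 3 n35381 = n34108 := d25_1 D35381 (iv F164272) F164270
theorem F164282 : act 4 n35381 = n33640 := d30_1 D35381 (iv D33640) F147695 (iv F147608) (iv F156297)
theorem F164283 : act 6 n34011 = n35381 := d31_0 F164282 F156390 (iv F158151)
theorem F164284 : act 9 n33977 = n35381 := d34_0 F164282 F156391 D33977
def n35382 : Q := act 9 n33619
theorem D35382 : act 9 n33619 = n35382 := rfl
theorem F164285 : act 0 n35382 = n34064 := d8_1 D35382 F163882 F163877
theorem F164286 : act 2 n35382 = n33626 := d23_1 D35382 (iv D33626) (iv F156296)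
theorem F164287 : act 3 n35382 = n34107 := d29_1 D35382 F164273 F164270
theorem F164288 : act 4 n35382 = n33622 := d34_1 D35382 (iv D33622) (iv F156297)
theorem F164289 : act 5 n35382 = n33977 := d38_1 D35382 F164284 (iv D35381)
def n35383 : Q := act 8 n33620
theorem D35383 : act 8 n33620 = n35383 := rfl
theorem F164290 : act 2 n35383 = n33627 := d22_1 D35383 (iv D33627) (iv F156298)
theorem F164291 : act 3 n35383 = n35383 := d28_1 D35383 (iv D35383) F156299
theorem F164292 : act 6 n35383 = n33621 := d40_1 D35383 (iv D33621) D33620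
def n35384 : Q := act 9 n33621
theorem D35384 : act 9 n33621 = n35384 := rfl
theorem F164293 : act 0 n35384 = n34065 := d8_1 D35384 F163892 F163886
theorem F164294 : act 2 n35384 = n33628 := d23_1 D35384 (iv D33628) (iv F156300)
theorem F164295 : act 3 n35384 = n35384 := d29_1 D35384 (iv D35384) F156301
theorem F164296 : act 5 n35384 = n33641 := d38_1 D35384 (iv D33641) (iv F156302)
theorem F164297 : act 7 n35384 = n33622 := d43_1 D35384 (iv D33622) (iv F156303)
def n35385 : Q := act 5 n33623
theorem D35385 : act 5 n33623 = n35385 := rfl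
theorem F164298 : act 1 n35385 = n33751 := d12_1 D35385 (iv D33751) (iv F156308)
def n35386 : Q := act 8 n33623
theorem D35386 : act 8 n33623 = n35386 := rfl
theorem F164299 : act 1 n35386 = n33752 := d15_1 D35386 (iv D33752) (iv F156308)
theorem F164300 : act 4 n35386 = n33627 := d33_1 D35386 (iv D33627) (iv F156309)
theorem F164301 : act 6 n35386 = n33624 := d40_1 D35386 (iv D33624) D33623
def n35387 : Q := act 5 n33624
theorem D35387 : act 5 n33624 = n35387 := rfl
theorem F164302 : act 0 n35387 = n34614 := d4_1 D35387 F163900 F163896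
theorem F164303 : act 1 n35387 = n33753 := d12_1 D35387 (iv D33753) (iv F156310)
theorem F164304 : act 4 n35387 = n33642 := d30_1 D35387 (iv D33642) F147710 (iv F147617) (iv F156311)
theorem F164305 : act 7 n35387 = n33625 := d36_2 (iv F156312) D35387 (iv D33625)
theorem F164306 : act 9 n33774 = n35387 := d43_0 F164305 (iv F156316) (iv F156952)
def n35388 : Q := act 9 n33624
theorem D35388 : act 9 n33624 = n35388 := rfl
theorem F164307 : act 0 n35388 = n34114 := d8_1 D35388 F163901 F163896
theorem F164308 : act 1 n35388 = n33754 := d16_1 D35388 (iv D33754) (iv F156310)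
theorem F164309 : act 4 n35388 = n33628 := d34_1 D35388 (iv D33628) (iv F156311)
theorem F164310 : act 5 n35388 = n33774 := d38_1 D35388 F164306 (iv D35387)
theorem F164311 : act 7 n35388 = n33626 := d43_1 D35388 (iv D33626) (iv F156312)
def n35389 : Q := act 6 n33625
theorem D35389 : act 6 n33625 = n35389 := rfl
theorem F164312 : act 0 n35389 = n34568 := d5_1 D35389 F160183 (iv F156313)
theorem F164313 : act 1 n35389 = n33755 := d13_1 D35389 (iv D33755) (iv F156314)
theorem F164314 : act 2 n35389 = n34011 := d20_1 D35389 F164283 F164280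
theorem F164315 : act 4 n35389 = n33643 := d31_1 D35389 (iv D33643) (iv F156315)
theorem F164316 : act 9 n35389 = n33971 := d41_2 F156316 D35389 F157994
def n35390 : Q := act 5 n33627
theorem D35390 : act 5 n33627 = n35390 := rfl
theorem F164317 : act 0 n35390 = n33740 := d4_1 D35390 F163906 F163902
theorem F164318 : act 1 n35390 = n33756 := d12_1 D35390 (iv D33756) (iv F156321)
theorem F164319 : act 3 n35390 = n33629 := d25_1 D35390 (iv D33629) (iv F156322)
theorem F164320 : act 6 n35390 = n33644 := d35_2 (iv F156323) D35390 (iv D33644) F147722 (iv F147617)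
theorem F164321 : act 9 n33772 = n35390 := d41_0 F164320 F156414 D33772
def n35391 : Q := act 9 n33627
theorem D35391 : act 9 n33627 = n35391 := rfl
theorem F164322 : act 0 n35391 = n34116 := d8_1 D35391 F163907 F163902
theorem F164323 : act 1 n35391 = n33757 := d16_1 D35391 (iv D33757) (iv F156321)
theorem F164324 : act 3 n35391 = n33630 := d29_1 D35391 (iv D33630) (iv F156322)
theorem F164325 : act 5 n35391 = n33772 := d38_1 D35391 F164321 (iv D35390)
theorem F164326 : act 6 n35391 = n33628 := d41_1 D35391 (iv D33628) (iv F156323)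
def n35392 : Q := act 5 n33632
theorem D35392 : act 5 n33632 = n35392 := rfl
theorem F164327 : act 1 n35392 = n33760 := d12_1 D35392 (iv D33760) (iv F156347)
theorem F164328 : act 3 n35392 = n35392 := d25_1 D35392 (iv D35392) F156348
theorem F164329 : act 7 n35392 = n33633 := d36_2 (iv F156350) D35392 (iv D33633)
theorem F164330 : act 8 n35392 = n34704 := d37_2 D33632 D35392 (iv D34704) (iv D32879) (iv F147634)
def n35393 : Q := act 5 n33634
theorem D35393 : act 5 n33634 = n35393 := rfl
theorem F164331 : act 0 n35393 = n33741 := d4_1 D35393 F156828 (iv F156354)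
theorem F164332 : act 1 n35393 = n33761 := d12_1 D35393 (iv D33761) (iv F156355)
theorem F164333 : act 3 n35393 = n33636 := d25_1 D35393 (iv D33636) (iv F156356)
theorem F164334 : act 7 n35393 = n33736 := d36_2 (iv F156358) D35393 F156811
theorem F164335 : act 8 n35393 = n33644 := d37_2 D33634 D35393 (iv D33644) (iv D31740) (iv F147643)
def n35394 : Q := act 5 n33639
theorem D35394 : act 5 n33639 = n35394 := rfl
theorem F164336 : act 0 n35394 = n34528 := d4_1 D35394 F160078 (iv F156380)
theorem F164337 : act 2 n35394 = n33642 := d19_1 D35394 (iv D33642) (iv F156381)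
theorem F164338 : act 3 n35394 = n33861 := d25_1 D35394 F157378 (iv F156382)
theorem F164339 : act 7 n35394 = n33640 := d36_2 (iv F156385) D35394 (iv D33640)
theorem F164340 : act 9 n35394 = n33770 := d38_2 (iv F156386) D35394 (iv D33770)
def n35395 : Q := act 6 n33642
theorem D35395 : act 6 n33642 = n35395 := rfl
theorem F164341 : act 0 n35395 = n34615 := d5_1 D35395 (iv D34615) (iv F156399)
theorem F164342 : act 1 n35395 = n33772 := d13_1 D35395 (iv D33772) (iv F156400)
theorem F164343 : act 3 n35395 = n33645 := d26_1 D35395 (iv D33645) (iv F156401)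
theorem F164344 : act 5 n35395 = n33757 := d35_1 D35395 F156879 F148085 (iv F147711) D33642
theorem F164345 : act 9 n35395 = n33756 := d41_2 (iv F156403) D35395 F156876
def n35396 : Q := act 7 n33643
theorem D35396 : act 7 n33643 = n35396 := rfl
theorem F164346 : act 0 n35396 = n34569 := d6_1 D35396 (iv D34569) (iv F156404)
theorem F164347 : act 1 n35396 = n33773 := d14_1 D35396 (iv D33773) (iv F156405)
theorem F164348 : act 2 n35396 = n34013 := d21_1 D35396 F158156 (iv F156406)
theorem F164349 : act 3 n35396 = n33646 := d27_1 D35396 (iv D33646) (iv F156407)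
theorem F164350 : act 5 n35396 = n33946 := d36_1 D35396 (iv D33946) (iv F156408)
theorem F164351 : act 9 n35396 = n33967 := d43_2 (iv F156409) D35396 F157977
def n35397 : Q := act 4 n33644
theorem D35397 : act 4 n33644 = n35397 := rfl
theorem F164352 : act 0 n35397 = n33738 := d3_1 D35397 F156818 (iv F156410)
theorem F164353 : act 1 n35397 = n33774 := d11_1 D35397 (iv D33774) (iv F156411)
theorem F164354 : act 5 n35397 = n33754 := d30_2 D33644 D35397 F156870 F148085 (iv F147721)
theorem F164355 : act 7 n35397 = n33735 := d32_2 (iv F156413) D35397 (iv D33735)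
theorem F164356 : act 9 n35397 = n33753 := d34_2 (iv F156414) D35397 F156867
def n35398 : Q := act 7 n33645
theorem D35398 : act 7 n33645 = n35398 := rfl
theorem F164357 : act 0 n35398 = n34602 := d6_1 D35398 F160291 (iv F156415)
theorem F164358 : act 1 n35398 = n33776 := d14_1 D35398 (iv D33776) (iv F156416)
theorem F164359 : act 2 n35398 = n33811 := d21_1 D35398 F157146 (iv F156417)
theorem F164360 : act 5 n35398 = n33696 := d36_1 D35398 F156633 (iv F156418)
theorem F164361 : act 6 n35398 = n33646 := d39_1 D35398 (iv D33646) (iv D31744) (iv F147740) D33645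
theorem F164362 : act 9 n35398 = n33695 := d43_2 (iv F156419) D35398 F156628
def n35399 : Q := act 5 n33647
theorem D35399 : act 5 n33647 = n35399 := rfl
theorem F164363 : act 0 n35399 = n33648 := d4_1 D35399 (iv D33648) (iv F156425)
theorem F164364 : act 1 n35399 = n33969 := d12_1 D35399 (iv D33969) (iv F156426)
theorem F164365 : act 3 n35399 = n35399 := d25_1 D35399 (iv D35399) F156427
theorem F164366 : act 6 n35399 = n33966 := d35_2 D33647 D35399 F157973 F149485 (iv F147750)
theorem F164367 : act 8 n35399 = n34394 := d37_2 (iv F156429) D35399 (iv D34394) (iv D32508) F149357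
theorem F164368 : act 9 n35399 = n33965 := d38_2 (iv F156430) D35399 F157970
def n35400 : Q := act 7 n33647
theorem D35400 : act 7 n33647 = n35400 := rfl
theorem F164369 : act 0 n35400 = n33649 := d6_1 D35400 (iv D33649) (iv F156425)
theorem F164370 : act 1 n35400 = n33962 := d14_1 D35400 F157959 (iv F156426)
theorem F164371 : act 3 n35400 = n35400 := d27_1 D35400 (iv D35400) F156427
theorem F164372 : act 4 n35400 = n33679 := d32_1 D35400 (iv D33679) (iv F156428)
theorem F164373 : act 6 n35400 = n33941 := d39_1 D35400 F157850 F149313 (iv F147751) D33647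
theorem F164374 : act 8 n35400 = n33940 := d42_2 (iv F156429) D35400 F157844
theorem F164375 : act 9 n35400 = n33970 := d43_2 (iv F156430) D35400 (iv D33970)
def n35401 : Q := act 4 n33648
theorem D35401 : act 4 n33648 = n35401 := rfl
theorem F164376 : act 1 n35401 = n33650 := d11_1 D35401 (iv D33650) (iv F156431)
theorem F164377 : act 5 n35401 = n33680 := d30_2 D33648 D35401 (iv D33680) (iv D31772) (iv F147756)
theorem F164378 : act 6 n35401 = n34599 := d31_2 (iv F156433) D35401 F160278
theorem F164379 : act 9 n35401 = n34598 := d34_2 (iv F156434) D35401 F160276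
def n35402 : Q := act 7 n33648
theorem D35402 : act 7 n33648 = n35402 := rfl
theorem F164380 : act 1 n35402 = n33651 := d14_1 D35402 (iv D33651) (iv F156431)
theorem F164381 : act 3 n35402 = n35402 := d27_1 D35402 (iv D35402) F156432
theorem F164382 : act 5 n35402 = n33649 := d36_1 D35402 (iv D33649) D33648
theorem F164383 : act 9 n35402 = n34734 := d43_2 (iv F156434) D35402 (iv D34734)
def n35403 : Q := act 8 n33648
theorem D35403 : act 8 n33648 = n35403 := rfl
theorem F164384 : act 0 n35403 = n34394 := d7_1 D35403 (iv F164367) F164363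
theorem F164385 : act 1 n35403 = n33652 := d15_1 D35403 (iv D33652) (iv F156431)
theorem F164386 : act 3 n35403 = n35403 := d28_1 D35403 (iv D35403) F156432
theorem F164387 : act 5 n35403 = n33948 := d37_1 D35403 (iv D33948) (iv D32074) (iv F147757) D33648
theorem F164388 : act 6 n35403 = n34735 := d40_1 D35403 (iv D34735) (iv F156433)
def n35404 : Q := act 3 n33650
theorem D35404 : act 3 n33650 = n35404 := rfl
theorem F164389 : act 0 n35404 = n34553 := d2_1 D35404 (iv D34553) (iv F156440)
theorem F164390 : act 4 n35404 = n35404 := d24_2 D33650 D35404 (iv D35404) (iv D33650) F147761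
theorem F164391 : act 5 n35404 = n33683 := d25_2 (iv F156442) D35404 (iv D33683)
def n35405 : Q := act 7 n33650
theorem D35405 : act 7 n33650 = n35405 := rfl
theorem F164392 : act 0 n35405 = n34554 := d6_1 D35405 (iv D34554) (iv F156440)
theorem F164393 : act 2 n35405 = n33653 := d21_1 D35405 (iv D33653) (iv F156441)
theorem F164394 : act 4 n35405 = n33651 := d32_1 D35405 (iv D33651) D33650
theorem F164395 : act 5 n35405 = n33684 := d36_1 D35405 (iv D33684) (iv F156442)
def n35406 : Q := act 8 n33650
theorem D35406 : act 8 n33650 = n35406 := rfl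
theorem F164396 : act 0 n35406 = n34555 := d7_1 D35406 (iv D34555) (iv F156440)
theorem F164397 : act 2 n35406 = n33654 := d22_1 D35406 (iv D33654) (iv F156441)
theorem F164398 : act 4 n35406 = n33652 := d33_1 D35406 (iv D33652) D33650
def n35407 : Q := act 6 n33651
theorem D35407 : act 6 n33651 = n35407 := rfl
theorem F164399 : act 0 n35407 = n34556 := d5_1 D35407 (iv D34556) (iv F156443)
theorem F164400 : act 2 n35407 = n33655 := d20_1 D35407 (iv D33655) (iv F156444)
theorem F164401 : act 3 n35407 = n35407 := d26_1 D35407 (iv D35407) F156445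
def n35408 : Q := act 8 n33651
theorem D35408 : act 8 n33651 = n35408 := rfl
theorem F164402 : act 0 n35408 = n34557 := d7_1 D35408 (iv D34557) (iv F156443)
theorem F164403 : act 2 n35408 = n33656 := d22_1 D35408 (iv D33656) (iv F156444)
theorem F164404 : act 3 n35408 = n35408 := d28_1 D35408 (iv D35408) F156445
theorem F164405 : act 5 n35408 = n33950 := d37_1 D35408 (iv D33950) F149405 (iv F147766) (iv F156446)
theorem F164406 : act 7 n35408 = n33652 := d42_1 D35408 (iv D33652) D33651
def n35409 : Q := act 9 n33652
theorem D35409 : act 9 n33652 = n35409 := rfl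
theorem F164407 : act 0 n35409 = n34558 := d8_1 D35409 (iv D34558) (iv F156447)
theorem F164408 : act 2 n35409 = n33657 := d23_1 D35409 (iv D33657) (iv F156448)
theorem F164409 : act 3 n35409 = n35409 := d29_1 D35409 (iv D35409) F156449
theorem F164410 : act 5 n35409 = n33951 := d38_1 D35409 (iv D33951) (iv F156450)
def n35410 : Q := act 6 n33653
theorem D35410 : act 6 n33653 = n35410 := rfl
theorem F164411 : act 0 n35410 = n34559 := d5_1 D35410 (iv D34559) (iv F156451)
theorem F164412 : act 4 n35410 = n33655 := d31_1 D35410 (iv D33655) (iv F156452)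
def n35411 : Q := act 8 n33653
theorem D35411 : act 8 n33653 = n35411 := rfl
theorem F164413 : act 0 n35411 = n34560 := d7_1 D35411 (iv D34560) (iv F156451)
theorem F164414 : act 4 n35411 = n33656 := d33_1 D35411 (iv D33656) (iv F156452)
theorem F164415 : act 7 n35411 = n33654 := d42_1 D35411 (iv D33654) D33653
def n35412 : Q := act 5 n33654
theorem D35412 : act 5 n33654 = n35412 := rfl
theorem F164416 : act 0 n35412 = n34561 := d4_1 D35412 (iv D34561) (iv F156454)
theorem F164417 : act 4 n35412 = n33954 := d30_1 D35412 (iv D33954) F149418 (iv F147774) (iv F156455)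
theorem F164418 : act 8 n35412 = n33691 := d37_2 D33654 D35412 (iv D33691) (iv D31778) (iv F147768)
def n35413 : Q := act 9 n33654
theorem D35413 : act 9 n33654 = n35413 := rfl
theorem F164419 : act 0 n35413 = n34562 := d8_1 D35413 (iv D34562) (iv F156454)
theorem F164420 : act 4 n35413 = n33657 := d34_1 D35413 (iv D33657) (iv F156455)
def n35414 : Q := act 8 n33655
theorem D35414 : act 8 n33655 = n35414 := rfl
theorem F164421 : act 0 n35414 = n34563 := d7_1 D35414 (iv D34563) (iv F156456)
theorem F164422 : act 3 n35414 = n33658 := d28_1 D35414 (iv D33658) (iv F156457)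
theorem F164423 : act 6 n35414 = n33656 := d40_1 D35414 (iv D33656) D33655
def n35415 : Q := act 9 n33656
theorem D35415 : act 9 n33656 = n35415 := rfl
theorem F164424 : act 0 n35415 = n34564 := d8_1 D35415 (iv D34564) (iv F156458)
theorem F164425 : act 3 n35415 = n33659 := d29_1 D35415 (iv D33659) (iv F156459)
theorem F164426 : act 5 n35415 = n33957 := d38_1 D35415 (iv D33957) (iv F156460)
theorem F164427 : act 7 n35415 = n33657 := d43_1 D35415 (iv D33657) (iv F156461)
def n35416 : Q := act 5 n33658
theorem D35416 : act 5 n33658 = n35416 := rfl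
theorem F164428 : act 0 n35416 = n34565 := d4_1 D35416 (iv D34565) (iv F156465)
theorem F164429 : act 2 n35416 = n35416 := d19_1 D35416 (iv D35416) F156466
theorem F164430 : act 6 n35416 = n33958 := d35_2 (iv F156467) D35416 (iv D33958) F149434 (iv F147779)
def n35417 : Q := act 9 n33658
theorem D35417 : act 9 n33658 = n35417 := rfl
theorem F164431 : act 0 n35417 = n34566 := d8_1 D35417 (iv D34566) (iv F156465)
theorem F164432 : act 2 n35417 = n35417 := d23_1 D35417 (iv D35417) F156466
theorem F164433 : act 6 n35417 = n33659 := d41_1 D35417 (iv D33659) (iv F156467)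
def n35418 : Q := act 7 n33661
theorem D35418 : act 7 n33661 = n35418 := rfl
theorem F164434 : act 0 n35418 = n34519 := d6_1 D35418 F160042 (iv F156478)
theorem F164435 : act 2 n35418 = n33663 := d21_1 D35418 (iv D33663) (iv F156479)
theorem F164436 : act 4 n35418 = n33662 := d32_1 D35418 (iv D33662) D33661
theorem F164437 : act 8 n35418 = n34001 := d42_2 (iv F156481) D35418 (iv D34001)
theorem F164438 : act 9 n35418 = n34101 := d43_2 (iv F156482) D35418 (iv D34101)
def n35419 : Q := act 6 n33662
theorem D35419 : act 6 n33662 = n35419 := rfl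
theorem F164439 : act 0 n35419 = n34520 := d5_1 D35419 F160046 (iv F156483)
theorem F164440 : act 2 n35419 = n33665 := d20_1 D35419 (iv D33665) (iv F156484)
theorem F164441 : act 3 n35419 = n33780 := d26_1 D35419 (iv D33780) (iv F156485)
theorem F164442 : act 5 n35419 = n33686 := d35_1 D35419 (iv D33686) F147879 (iv F147798) (iv F156486)
theorem F164443 : act 7 n35419 = n33712 := d39_2 D33662 D35419 (iv D33712) (iv D31795) (iv F147792)
theorem F164444 : act 8 n35419 = n34002 := d40_2 (iv F156487) D35419 (iv D34002)
theorem F164445 : act 9 n35419 = n34103 := d41_2 (iv F156488) D35419 (iv D34103)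
def n35420 : Q := act 6 n33663
theorem D35420 : act 6 n33663 = n35420 := rfl
theorem F164446 : act 0 n35420 = n34567 := d5_1 D35420 (iv D34567) (iv F156489)
theorem F164447 : act 4 n35420 = n33665 := d31_1 D35420 (iv D33665) (iv F156490)
theorem F164448 : act 7 n35420 = n33713 := d39_2 D33663 D35420 (iv D33713) (iv D31796) (iv F147802)
theorem F164449 : act 9 n35420 = n34105 := d41_2 (iv F156491) D35420 (iv D34105)
def n35421 : Q := act 8 n33663
theorem D35421 : act 8 n33663 = n35421 := rfl
theorem F164450 : act 0 n35421 = n34516 := d7_1 D35421 F160031 (iv F156489)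
theorem F164451 : act 2 n35421 = n34001 := d22_1 D35421 (iv F164437) F164435
theorem F164452 : act 4 n35421 = n33666 := d33_1 D35421 (iv D33666) (iv F156490)
theorem F164453 : act 7 n35421 = n33664 := d42_1 D35421 (iv D33664) D33663
theorem F164454 : act 5 n34325 = n35421 := d36_3 F164453 (iv F156496) D34325
def n35422 : Q := act 8 n33665
theorem D35422 : act 8 n33665 = n35422 := rfl
theorem F164455 : act 0 n35422 = n34517 := d7_1 D35422 F160035 (iv F156497)
theorem F164456 : act 2 n35422 = n34002 := d22_1 D35422 (iv F164444) F164440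
theorem F164457 : act 3 n35422 = n33667 := d28_1 D35422 (iv D33667) (iv F156498)
theorem F164458 : act 6 n35422 = n33666 := d40_1 D35422 (iv D33666) D33665
theorem F164459 : act 7 n35422 = n33717 := d42_1 D35422 (iv D33717) (iv F156500)
theorem F164460 : act 5 n34007 = n35422 := d35_5 F164458 F156505 F149445 (iv F149707) D34007
def n35423 : Q := act 3 n33668
theorem D35423 : act 3 n33668 = n35423 := rfl
theorem F164461 : act 0 n35423 = n34570 := d2_1 D35423 (iv D34570) (iv F156512)
theorem F164462 : act 1 n35423 = n34377 := d10_1 D35423 F159452 (iv F156513)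
theorem F164463 : act 4 n35423 = n33781 := d24_2 D33668 D35423 (iv D33781) (iv D31868) (iv F147825)
theorem F164464 : act 6 n35423 = n33721 := d26_2 (iv F156515) D35423 (iv D33721)
theorem F164465 : act 9 n35423 = n33683 := d29_2 (iv F156516) D35423 (iv D33683)
def n35424 : Q := act 7 n33668
theorem D35424 : act 7 n33668 = n35424 := rfl
theorem F164466 : act 0 n35424 = n34571 := d6_1 D35424 (iv D34571) (iv F156512)
theorem F164467 : act 1 n35424 = n34648 := d14_1 D35424 (iv D34648) (iv F156513)
theorem F164468 : act 2 n35424 = n33671 := d21_1 D35424 (iv D33671) (iv F156514)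
theorem F164469 : act 4 n35424 = n33669 := d32_1 D35424 (iv D33669) D33668
theorem F164470 : act 9 n35424 = n33684 := d43_2 (iv F156516) D35424 (iv D33684)
def n35425 : Q := act 8 n33668
theorem D35425 : act 8 n33668 = n35425 := rfl
theorem F164471 : act 0 n35425 = n34572 := d7_1 D35425 (iv D34572) (iv F156512)
theorem F164472 : act 1 n35425 = n34130 := d15_1 D35425 F158566 (iv F156513)
theorem F164473 : act 2 n35425 = n33672 := d22_1 D35425 (iv D33672) (iv F156514)
theorem F164474 : act 4 n35425 = n33670 := d33_1 D35425 (iv D33670) D33668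
theorem F164475 : act 6 n35425 = n33723 := d40_1 D35425 (iv D33723) (iv F156515)
def n35426 : Q := act 6 n33669
theorem D35426 : act 6 n33669 = n35426 := rfl
theorem F164476 : act 0 n35426 = n34573 := d5_1 D35426 (iv D34573) (iv F156517)
theorem F164477 : act 1 n35426 = n34653 := d13_1 D35426 F160415 (iv F156518)
theorem F164478 : act 2 n35426 = n33673 := d20_1 D35426 (iv D33673) (iv F156519)
theorem F164479 : act 3 n35426 = n33784 := d26_1 D35426 (iv D33784) (iv F156520)
theorem F164480 : act 5 n35426 = n34103 := d35_1 D35426 (iv D34103) F150043 (iv F147832) (iv F156521)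
theorem F164481 : act 7 n35426 = n33724 := d39_2 D33669 D35426 (iv D33724) (iv D31804) (iv F147826)
theorem F164482 : act 9 n35426 = n33686 := d41_2 (iv F156522) D35426 (iv D33686)
def n35427 : Q := act 8 n33669
theorem D35427 : act 8 n33669 = n35427 := rfl
theorem F164483 : act 0 n35427 = n34574 := d7_1 D35427 (iv D34574) (iv F156517)
theorem F164484 : act 1 n35427 = n34148 := d15_1 D35427 F158628 (iv F156518)
theorem F164485 : act 2 n35427 = n33674 := d22_1 D35427 (iv D33674) (iv F156519)
theorem F164486 : act 3 n35427 = n33785 := d28_1 D35427 (iv D33785) (iv F156520)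
theorem F164487 : act 5 n35427 = n35427 := d37_1 D35427 (iv D35427) F156521 F147833 (iv F156521)
theorem F164488 : act 7 n35427 = n33670 := d42_1 D35427 (iv D33670) D33669
def n35428 : Q := act 9 n33670
theorem D35428 : act 9 n33670 = n35428 := rfl
theorem F164489 : act 0 n35428 = n34575 := d8_1 D35428 (iv D34575) (iv F156523)
theorem F164490 : act 1 n35428 = n34149 := d16_1 D35428 (iv D34149) (iv F156524)
theorem F164491 : act 2 n35428 = n33675 := d23_1 D35428 (iv D33675) (iv F156525)
theorem F164492 : act 3 n35428 = n33786 := d29_1 D35428 (iv D33786) (iv F156526)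
theorem F164493 : act 5 n35428 = n35428 := d38_1 D35428 (iv D35428) F156527
theorem F164494 : act 6 n35428 = n33726 := d41_1 D35428 (iv D33726) (iv F156528)
theorem F164495 : act 8 n35428 = n33688 := d44_1 D35428 (iv D33688) (iv D31776) (iv F147827) D33670
def n35429 : Q := act 6 n33671
theorem D35429 : act 6 n33671 = n35429 := rfl
theorem F164496 : act 0 n35429 = n34576 := d5_1 D35429 (iv D34576) (iv F156529)
theorem F164497 : act 4 n35429 = n33673 := d31_1 D35429 (iv D33673) (iv F156530)
theorem F164498 : act 7 n35429 = n33727 := d39_2 D33671 D35429 (iv D33727) (iv D31806) (iv F147836)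
theorem F164499 : act 9 n35429 = n33689 := d41_2 (iv F156531) D35429 (iv D33689)
def n35430 : Q := act 8 n33671
theorem D35430 : act 8 n33671 = n35430 := rfl
theorem F164500 : act 0 n35430 = n34577 := d7_1 D35430 (iv D34577) (iv F156529)
theorem F164501 : act 4 n35430 = n33674 := d33_1 D35430 (iv D33674) (iv F156530)
theorem F164502 : act 7 n35430 = n33672 := d42_1 D35430 (iv D33672) D33671
def n35431 : Q := act 5 n33672
theorem D35431 : act 5 n33672 = n35431 := rfl
theorem F164503 : act 0 n35431 = n34578 := d4_1 D35431 (iv D34578) (iv F156532)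
theorem F164504 : act 4 n35431 = n35431 := d30_1 D35431 (iv D35431) F156533 F147844 (iv F156533)
def n35432 : Q := act 9 n33672
theorem D35432 : act 9 n33672 = n35432 := rfl
theorem F164505 : act 0 n35432 = n34579 := d8_1 D35432 (iv D34579) (iv F156532)
theorem F164506 : act 4 n35432 = n33675 := d34_1 D35432 (iv D33675) (iv F156533)
theorem F164507 : act 6 n35432 = n33730 := d41_1 D35432 (iv D33730) (iv F156534)
theorem F164508 : act 8 n35432 = n33692 := d44_1 D35432 (iv D33692) (iv D31778) (iv F147837) D33672
def n35433 : Q := act 8 n33673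
theorem D35433 : act 8 n33673 = n35433 := rfl
theorem F164509 : act 0 n35433 = n34580 := d7_1 D35433 (iv D34580) (iv F156535)
theorem F164510 : act 3 n35433 = n33676 := d28_1 D35433 (iv D33676) (iv F156536)
theorem F164511 : act 6 n35433 = n33674 := d40_1 D35433 (iv D33674) D33673
theorem F164512 : act 7 n35433 = n33731 := d42_1 D35433 (iv D33731) (iv F156538)
def n35434 : Q := act 9 n33674
theorem D35434 : act 9 n33674 = n35434 := rfl
theorem F164513 : act 0 n35434 = n34581 := d8_1 D35434 (iv D34581) (iv F156540)
theorem F164514 : act 3 n35434 = n33677 := d29_1 D35434 (iv D33677) (iv F156541)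
theorem F164515 : act 5 n35434 = n35434 := d38_1 D35434 (iv D35434) F156542
theorem F164516 : act 7 n35434 = n33675 := d43_1 D35434 (iv D33675) (iv F156543)
theorem F164517 : act 8 n35434 = n33694 := d44_1 D35434 (iv D33694) (iv D31780) (iv F147841) D33674
def n35435 : Q := act 5 n33676
theorem D35435 : act 5 n33676 = n35435 := rfl
theorem F164518 : act 0 n35435 = n34582 := d4_1 D35435 (iv D34582) (iv F156549)
theorem F164519 : act 2 n35435 = n33791 := d19_1 D35435 (iv D33791) (iv F156550)
theorem F164520 : act 6 n35435 = n35435 := d35_2 (iv F156551) D35435 (iv D35435) F156551 F147853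
theorem F164521 : act 7 n35435 = n33733 := d36_2 (iv F156552) D35435 (iv D33733)
theorem F164522 : act 8 n35435 = n34111 := d37_2 D33676 D35435 (iv D34111) (iv D32242) (iv F147848)
def n35436 : Q := act 9 n33676
theorem D35436 : act 9 n33676 = n35436 := rfl
theorem F164523 : act 0 n35436 = n34583 := d8_1 D35436 (iv D34583) (iv F156549)
theorem F164524 : act 2 n35436 = n33792 := d23_1 D35436 (iv D33792) (iv F156550)
theorem F164525 : act 6 n35436 = n33677 := d41_1 D35436 (iv D33677) (iv F156551)
theorem F164526 : act 7 n35436 = n33734 := d43_1 D35436 (iv D33734) (iv F156552)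
theorem F164527 : act 8 n35436 = n33696 := d44_1 D35436 (iv D33696) (iv D31782) (iv F147850) D33676
def n35437 : Q := act 4 n33678
theorem D35437 : act 4 n33678 = n35437 := rfl
theorem F164528 : act 0 n35437 = n33680 := d3_1 D35437 (iv D33680) (iv F156558)
theorem F164529 : act 1 n35437 = n33971 := d11_1 D35437 (iv D33971) (iv F156559)
theorem F164530 : act 6 n35437 = n33735 := d31_2 (iv F156561) D35437 (iv D33735)
theorem F164531 : act 8 n35437 = n34003 := d33_2 (iv F156562) D35437 (iv D34003)
theorem F164532 : act 9 n35437 = n33755 := d34_2 (iv F156563) D35437 F156873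
def n35438 : Q := act 7 n33678
theorem D35438 : act 7 n33678 = n35438 := rfl
theorem F164533 : act 0 n35438 = n33681 := d6_1 D35438 (iv D33681) (iv F156558)
theorem F164534 : act 1 n35438 = n33967 := d14_1 D35438 F157977 (iv F156559)
theorem F164535 : act 3 n35438 = n33777 := d27_1 D35438 F156963 (iv F156560)
theorem F164536 : act 5 n35438 = n33679 := d36_1 D35438 (iv D33679) D33678
theorem F164537 : act 8 n35438 = n34004 := d42_2 (iv F156562) D35438 (iv D34004)
theorem F164538 : act 9 n35438 = n33773 := d43_2 (iv F156563) D35438 (iv D33773)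
def n35439 : Q := act 3 n33680
theorem D35439 : act 3 n33680 = n35439 := rfl
theorem F164539 : act 1 n35439 = n33683 := d10_1 D35439 (iv D33683) (iv F156570)
theorem F164540 : act 4 n35439 = n33793 := d24_2 D33680 D35439 (iv D33793) (iv D31879) (iv F147866)
theorem F164541 : act 6 n35439 = n33737 := d26_2 (iv F156571) D35439 (iv D33737)
theorem F164542 : act 9 n35439 = n34377 := d29_2 (iv F156572) D35439 F159452
def n35440 : Q := act 7 n33680
theorem D35440 : act 7 n33680 = n35440 := rfl
theorem F164543 : act 1 n35440 = n33684 := d14_1 D35440 (iv D33684) (iv F156570)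
theorem F164544 : act 4 n35440 = n33681 := d32_1 D35440 (iv D33681) D33680
theorem F164545 : act 9 n35440 = n34648 := d43_2 (iv F156572) D35440 (iv D34648)
def n35441 : Q := act 8 n33680
theorem D35441 : act 8 n33680 = n35441 := rfl
theorem F164546 : act 0 n35441 = n34003 := d7_1 D35441 (iv F164531) F164528
theorem F164547 : act 1 n35441 = n33685 := d15_1 D35441 (iv D33685) (iv F156570)
theorem F164548 : act 4 n35441 = n33682 := d33_1 D35441 (iv D33682) D33680
theorem F164549 : act 6 n35441 = n33739 := d40_1 D35441 (iv D33739) (iv F156571)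
theorem F164550 : act 5 n34356 = n35441 := d30_0 F164548 F156580 F149457 D32477 D34356
def n35442 : Q := act 6 n33681
theorem D35442 : act 6 n33681 = n35442 := rfl
theorem F164551 : act 1 n35442 = n33686 := d13_1 D35442 (iv D33686) (iv F156573)
theorem F164552 : act 3 n35442 = n33796 := d26_1 D35442 (iv D33796) (iv F156574)
theorem F164553 : act 7 n35442 = n33740 := d39_2 D33681 D35442 (iv D33740) (iv D31815) (iv F147867)
theorem F164554 : act 9 n35442 = n34653 := d41_2 (iv F156576) D35442 F160415
def n35443 : Q := act 8 n33681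
theorem D35443 : act 8 n33681 = n35443 := rfl
theorem F164555 : act 0 n35443 = n34004 := d7_1 D35443 (iv F164537) F164533
theorem F164556 : act 1 n35443 = n33687 := d15_1 D35443 (iv D33687) (iv F156573)
theorem F164557 : act 3 n35443 = n33797 := d28_1 D35443 (iv D33797) (iv F156574)
theorem F164558 : act 5 n35443 = n33960 := d37_1 D35443 (iv D33960) F149451 (iv F147871) (iv F156575)
theorem F164559 : act 7 n35443 = n33682 := d42_1 D35443 (iv D33682) D33681
def n35444 : Q := act 9 n33682
theorem D35444 : act 9 n33682 = n35444 := rfl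
theorem F164560 : act 0 n35444 = n33698 := d8_1 D35444 F156642 (iv F156577)
theorem F164561 : act 1 n35444 = n33688 := d16_1 D35444 (iv D33688) (iv F156578)
theorem F164562 : act 3 n35444 = n33798 := d29_1 D35444 (iv D33798) (iv F156579)
theorem F164563 : act 5 n35444 = n33697 := d38_1 D35444 F156639 (iv F156580)
theorem F164564 : act 6 n35444 = n33742 := d41_1 D35444 (iv D33742) (iv F156581)
theorem F164565 : act 8 n35444 = n34149 := d44_1 D35444 (iv D34149) F150154 (iv F147868) D33682
def n35445 : Q := act 7 n33683
theorem D35445 : act 7 n33683 = n35445 := rfl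
theorem F164566 : act 0 n35445 = n34587 := d6_1 D35445 (iv D34587) (iv F156582)
theorem F164567 : act 3 n35445 = n33684 := d27_1 D35445 (iv D33684) D33683
theorem F164568 : act 4 n35445 = n33799 := d32_1 D35445 (iv D33799) (iv F156583)
def n35446 : Q := act 8 n33683
theorem D35446 : act 8 n33683 = n35446 := rfl
theorem F164569 : act 0 n35446 = n34588 := d7_1 D35446 (iv D34588) (iv F156582)
theorem F164570 : act 3 n35446 = n33685 := d28_1 D35446 (iv D33685) D33683
theorem F164571 : act 4 n35446 = n33800 := d33_1 D35446 (iv D33800) (iv F156583)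
theorem F164572 : act 6 n35446 = n33744 := d40_1 D35446 (iv D33744) (iv F156584)
def n35447 : Q := act 6 n33684
theorem D35447 : act 6 n33684 = n35447 := rfl
theorem F164573 : act 0 n35447 = n34589 := d5_1 D35447 (iv D34589) (iv F156585)
theorem F164574 : act 2 n35447 = n33689 := d20_1 D35447 (iv D33689) (iv F156586)
theorem F164575 : act 4 n35447 = n33686 := d31_1 D35447 (iv D33686) (iv F156587)
theorem F164576 : act 7 n35447 = n33745 := d39_2 D33684 D35447 (iv D33745) (iv D31818) (iv F147875)
def n35448 : Q := act 8 n33684
theorem D35448 : act 8 n33684 = n35448 := rfl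
theorem F164577 : act 0 n35448 = n34590 := d7_1 D35448 (iv D34590) (iv F156585)
theorem F164578 : act 2 n35448 = n33690 := d22_1 D35448 (iv D33690) (iv F156586)
theorem F164579 : act 4 n35448 = n33687 := d33_1 D35448 (iv D33687) (iv F156587)
theorem F164580 : act 7 n35448 = n33685 := d42_1 D35448 (iv D33685) D33684
def n35449 : Q := act 9 n33685
theorem D35449 : act 9 n33685 = n35449 := rfl
theorem F164581 : act 0 n35449 = n34591 := d8_1 D35449 (iv D34591) (iv F156588)
theorem F164582 : act 2 n35449 = n33692 := d23_1 D35449 (iv D33692) (iv F156589)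
theorem F164583 : act 4 n35449 = n33688 := d34_1 D35449 (iv D33688) (iv F156590)
theorem F164584 : act 6 n35449 = n33748 := d41_1 D35449 (iv D33748) (iv F156591)
def n35450 : Q := act 8 n33686
theorem D35450 : act 8 n33686 = n35450 := rfl
theorem F164585 : act 0 n35450 = n34592 := d7_1 D35450 (iv D34592) (iv F156592)
theorem F164586 : act 2 n35450 = n33693 := d22_1 D35450 (iv D33693) (iv F156593)
theorem F164587 : act 3 n35450 = n33804 := d28_1 D35450 (iv D33804) (iv F156594)
theorem F164588 : act 5 n35450 = n34012 := d37_1 D35450 (iv D34012) (iv F158127) (iv F164444) F164442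
theorem F164589 : act 6 n35450 = n33687 := d40_1 D35450 (iv D33687) D33686
theorem F164590 : act 7 n35450 = n33749 := d42_1 D35450 (iv D33749) (iv F156595)
def n35451 : Q := act 9 n33687
theorem D35451 : act 9 n33687 = n35451 := rfl
theorem F164591 : act 0 n35451 = n34593 := d8_1 D35451 (iv D34593) (iv F156596)
theorem F164592 : act 2 n35451 = n33694 := d23_1 D35451 (iv D33694) (iv F156597)
theorem F164593 : act 3 n35451 = n33805 := d29_1 D35451 (iv D33805) (iv F156598)
theorem F164594 : act 5 n35451 = n33961 := d38_1 D35451 (iv D33961) (iv F156599)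
theorem F164595 : act 7 n35451 = n33688 := d43_1 D35451 (iv D33688) (iv F156600)
def n35452 : Q := act 5 n33689
theorem D35452 : act 5 n33689 = n35452 := rfl
theorem F164596 : act 0 n35452 = n34594 := d4_1 D35452 (iv D34594) (iv F156606)
theorem F164597 : act 7 n35452 = n33751 := d36_2 (iv F156608) D35452 (iv D33751)
def n35453 : Q := act 8 n33689
theorem D35453 : act 8 n33689 = n35453 := rfl
theorem F164598 : act 0 n35453 = n34595 := d7_1 D35453 (iv D34595) (iv F156606)
theorem F164599 : act 4 n35453 = n33693 := d33_1 D35453 (iv D33693) (iv F156607)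
theorem F164600 : act 6 n35453 = n33690 := d40_1 D35453 (iv D33690) D33689
theorem F164601 : act 7 n35453 = n33752 := d42_1 D35453 (iv D33752) (iv F156608)
def n35454 : Q := act 5 n33690
theorem D35454 : act 5 n33690 = n35454 := rfl
theorem F164602 : act 0 n35454 = n34596 := d4_1 D35454 (iv D34596) (iv F156609)
theorem F164603 : act 4 n35454 = n33963 := d30_1 D35454 (iv D33963) F149478 (iv F147895) (iv F156610)
theorem F164604 : act 7 n35454 = n33691 := d36_2 (iv F156611) D35454 (iv D33691)
def n35455 : Q := act 9 n33690
theorem D35455 : act 9 n33690 = n35455 := rfl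
theorem F164605 : act 0 n35455 = n34597 := d8_1 D35455 (iv D34597) (iv F156609)
theorem F164606 : act 4 n35455 = n33694 := d34_1 D35455 (iv D33694) (iv F156610)
theorem F164607 : act 7 n35455 = n33692 := d43_1 D35455 (iv D33692) (iv F156611)
def n35456 : Q := act 6 n33691
theorem D35456 : act 6 n33691 = n35456 := rfl
theorem F164608 : act 0 n35456 = n34598 := d5_1 D35456 (iv D34598) (iv F156612)
theorem F164609 : act 4 n35456 = n33965 := d31_1 D35456 (iv D33965) (iv F156613)
theorem F164610 : act 5 n35456 = n33755 := d35_1 D35456 (iv D33755) (iv D31825) (iv F147889) D33691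
def n35457 : Q := act 9 n33691
theorem D35457 : act 9 n33691 = n35457 := rfl
theorem F164611 : act 0 n35457 = n34599 := d8_1 D35457 (iv D34599) (iv F156612)
theorem F164612 : act 4 n35457 = n33966 := d34_1 D35457 (iv D33966) (iv F156613)
theorem F164613 : act 5 n35457 = n33692 := d38_1 D35457 (iv D33692) D33691
def n35458 : Q := act 5 n33693
theorem D35458 : act 5 n33693 = n35458 := rfl
theorem F164614 : act 0 n35458 = n34586 := d4_1 D35458 F160242 (iv F156617)
theorem F164615 : act 2 n35458 = n34012 := d19_1 D35458 (iv F164588) F164586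
theorem F164616 : act 3 n35458 = n33695 := d25_1 D35458 (iv D33695) (iv F156618)
theorem F164617 : act 6 n35458 = n33967 := d35_2 (iv F156619) D35458 (iv D33967) F149490 (iv F147895)
theorem F164618 : act 7 n35458 = n33756 := d36_2 (iv F156620) D35458 (iv D33756)
theorem F164619 : act 8 n35458 = n34007 := d37_2 D33693 D35458 F164460 (iv D35422) F156499
def n35459 : Q := act 9 n33693
theorem D35459 : act 9 n33693 = n35459 := rfl
theorem F164620 : act 0 n35459 = n34600 := d8_1 D35459 (iv D34600) (iv F156617)
theorem F164621 : act 3 n35459 = n33696 := d29_1 D35459 (iv D33696) (iv F156618)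
theorem F164622 : act 6 n35459 = n33694 := d41_1 D35459 (iv D33694) (iv F156619)
theorem F164623 : act 7 n35459 = n33757 := d43_1 D35459 (iv D33757) (iv F156620)
def n35460 : Q := act 4 n33695
theorem D35460 : act 4 n33695 = n35460 := rfl
theorem F164624 : act 0 n35460 = n34601 := d3_1 D35460 (iv D34601) (iv F156625)
theorem F164625 : act 2 n35460 = n33810 := d18_1 D35460 (iv D33810) (iv F156626)
theorem F164626 : act 6 n35460 = n33968 := d31_2 (iv F156627) D35460 (iv D33968)
theorem F164627 : act 7 n35460 = n33758 := d32_2 (iv F156628) D35460 (iv D33758)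
theorem F164628 : act 8 n35460 = n34030 := d33_2 (iv F156629) D35460 F158214
def n35461 : Q := act 7 n33697
theorem D35461 : act 7 n33697 = n35461 := rfl
theorem F164629 : act 0 n35461 = n33699 := d6_1 D35461 (iv D33699) (iv F156634)
theorem F164630 : act 1 n35461 = n33961 := d14_1 D35461 F157952 (iv F156635)
theorem F164631 : act 3 n35461 = n33812 := d27_1 D35461 (iv D33812) (iv F156636)
theorem F164632 : act 4 n35461 = n34338 := d32_1 D35461 (iv D34338) (iv F156637)
theorem F164633 : act 6 n35461 = n33996 := d39_1 D35461 F158100 F154672 F154669 D33697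
theorem F164634 : act 8 n35461 = n35461 := d42_2 F156638 D35461 (iv D35461)
theorem F164635 : act 9 n35461 = n33960 := d43_2 (iv F156639) D35461 F157947
def n35462 : Q := act 4 n33698
theorem D35462 : act 4 n33698 = n35462 := rfl
theorem F164636 : act 1 n35462 = n33700 := d11_1 D35462 (iv D33700) (iv F156640)
theorem F164637 : act 5 n35462 = n34339 := d30_2 D33698 D35462 (iv D34339) (iv D32465) (iv F147917)
theorem F164638 : act 9 n35462 = n34003 := d34_2 (iv F156642) D35462 (iv D34003)
def n35463 : Q := act 7 n33698
theorem D35463 : act 7 n33698 = n35463 := rfl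
theorem F164639 : act 1 n35463 = n33701 := d14_1 D35463 (iv D33701) (iv F156640)
theorem F164640 : act 3 n35463 = n33814 := d27_1 D35463 (iv D33814) (iv F156641)
theorem F164641 : act 5 n35463 = n33699 := d36_1 D35463 (iv D33699) D33698
theorem F164642 : act 9 n35463 = n34004 := d43_2 (iv F156642) D35463 (iv D34004)
def n35464 : Q := act 3 n33700
theorem D35464 : act 3 n33700 = n35464 := rfl
theorem F164643 : act 0 n35464 = n34261 := d2_1 D35464 F159070 (iv F156648)
theorem F164644 : act 2 n35464 = n33710 := d17_1 D35464 (iv D33710) F147956 (iv F147931) (iv F156649)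
theorem F164645 : act 4 n35464 = n33815 := d24_2 D33700 D35464 (iv D33815) (iv D31899) (iv F147922)
theorem F164646 : act 5 n35464 = n34342 := d25_2 (iv F156650) D35464 (iv D34342)
theorem F164647 : act 9 n35464 = n34005 := d29_2 (iv F156651) D35464 (iv D34005)
theorem F164648 : act 8 n34213 = n35464 := d33_0 F164645 F157166 D34213
def n35465 : Q := act 7 n33700
theorem D35465 : act 7 n33700 = n35465 := rfl
theorem F164649 : act 0 n35465 = n34603 := d6_1 D35465 (iv D34603) (iv F156648)
theorem F164650 : act 2 n35465 = n33703 := d21_1 D35465 (iv D33703) (iv F156649)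
theorem F164651 : act 4 n35465 = n33701 := d32_1 D35465 (iv D33701) D33700
theorem F164652 : act 5 n35465 = n34343 := d36_1 D35465 (iv D34343) (iv F156650)
theorem F164653 : act 9 n35465 = n34006 := d43_2 (iv F156651) D35465 (iv D34006)
def n35466 : Q := act 8 n33700
theorem D35466 : act 8 n33700 = n35466 := rfl
theorem F164654 : act 0 n35466 = n34259 := d7_1 D35466 (iv F159066) (iv F156648)
theorem F164655 : act 2 n35466 = n33704 := d22_1 D35466 (iv D33704) (iv F156649)
theorem F164656 : act 3 n35466 = n34213 := d28_1 D35466 F164648 (iv D35464)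
theorem F164657 : act 4 n35466 = n33702 := d33_1 D35466 (iv D33702) D33700
def n35467 : Q := act 6 n33701
theorem D35467 : act 6 n33701 = n35467 := rfl
theorem F164658 : act 0 n35467 = n34604 := d5_1 D35467 (iv D34604) (iv F156652)
theorem F164659 : act 2 n35467 = n33705 := d20_1 D35467 (iv D33705) (iv F156653)
theorem F164660 : act 3 n35467 = n33817 := d26_1 D35467 (iv D33817) (iv F156654)
theorem F164661 : act 9 n35467 = n34007 := d41_2 (iv F156656) D35467 (iv D34007)
def n35468 : Q := act 8 n33701
theorem D35468 : act 8 n33701 = n35468 := rfl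
theorem F164662 : act 0 n35468 = n34605 := d7_1 D35468 (iv D34605) (iv F156652)
theorem F164663 : act 2 n35468 = n33706 := d22_1 D35468 (iv D33706) (iv F156653)
theorem F164664 : act 3 n35468 = n33818 := d28_1 D35468 (iv D33818) (iv F156654)
theorem F164665 : act 5 n35468 = n35468 := d37_1 D35468 (iv D35468) F156655 F147928 (iv F156655)
theorem F164666 : act 7 n35468 = n33702 := d42_1 D35468 (iv D33702) D33701
def n35469 : Q := act 6 n33703
theorem D35469 : act 6 n33703 = n35469 := rfl
theorem F164667 : act 0 n35469 = n34606 := d5_1 D35469 (iv D34606) (iv F156661)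
theorem F164668 : act 3 n35469 = n33713 := d26_1 D35469 (iv D33713) (iv F156662)
theorem F164669 : act 4 n35469 = n33705 := d31_1 D35469 (iv D33705) (iv F156663)
theorem F164670 : act 9 n35469 = n34008 := d41_2 (iv F156665) D35469 (iv D34008)
def n35470 : Q := act 8 n33703
theorem D35470 : act 8 n33703 = n35470 := rfl
theorem F164671 : act 0 n35470 = n34538 := d7_1 D35470 F160108 (iv F156661)
theorem F164672 : act 3 n35470 = n33714 := d28_1 D35470 (iv D33714) (iv F156662)
theorem F164673 : act 4 n35470 = n33706 := d33_1 D35470 (iv D33706) (iv F156663)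
theorem F164674 : act 7 n35470 = n33704 := d42_1 D35470 (iv D33704) D33703
def n35471 : Q := act 5 n33704
theorem D35471 : act 5 n33704 = n35471 := rfl
theorem F164675 : act 0 n35471 = n34066 := d4_1 D35471 F158365 (iv F156666)
theorem F164676 : act 3 n35471 = n33715 := d25_1 D35471 (iv D33715) (iv F156667)
theorem F164677 : act 4 n35471 = n35471 := d30_1 D35471 (iv D35471) F156668 F147940 (iv F156668)
theorem F164678 : act 8 n35471 = n34350 := d37_2 D33704 D35471 (iv D34350) (iv D32471) (iv F147932)
def n35472 : Q := act 9 n33704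
theorem D35472 : act 9 n33704 = n35472 := rfl
theorem F164679 : act 0 n35472 = n34530 := d8_1 D35472 F160085 (iv F156666)
theorem F164680 : act 3 n35472 = n33716 := d29_1 D35472 (iv D33716) (iv F156667)
theorem F164681 : act 4 n35472 = n33707 := d34_1 D35472 (iv D33707) (iv F156668)
theorem F164682 : act 8 n35472 = n34011 := d44_1 D35472 (iv D34011) (iv D32147) (iv F147933) D33704
def n35473 : Q := act 8 n33705
theorem D35473 : act 8 n33705 = n35473 := rfl
theorem F164683 : act 0 n35473 = n34607 := d7_1 D35473 (iv D34607) (iv F156669)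
theorem F164684 : act 3 n35473 = n33708 := d28_1 D35473 (iv D33708) (iv F156670)
theorem F164685 : act 6 n35473 = n33706 := d40_1 D35473 (iv D33706) D33705
def n35474 : Q := act 9 n33706
theorem D35474 : act 9 n33706 = n35474 := rfl
theorem F164686 : act 0 n35474 = n34608 := d8_1 D35474 (iv D34608) (iv F156672)
theorem F164687 : act 3 n35474 = n33709 := d29_1 D35474 (iv D33709) (iv F156673)
theorem F164688 : act 5 n35474 = n35474 := d38_1 D35474 (iv D35474) F156674
theorem F164689 : act 7 n35474 = n33707 := d43_1 D35474 (iv D33707) (iv F156675)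
theorem F164690 : act 8 n35474 = n34013 := d44_1 D35474 (iv D34013) (iv D32149) (iv F147937) D33706
def n35475 : Q := act 5 n33708
theorem D35475 : act 5 n33708 = n35475 := rfl
theorem F164691 : act 0 n35475 = n34609 := d4_1 D35475 (iv D34609) (iv F156680)
theorem F164692 : act 2 n35475 = n33821 := d19_1 D35475 (iv D33821) (iv F156681)
theorem F164693 : act 6 n35475 = n35475 := d35_2 (iv F156683) D35475 (iv D35475) F156683 F147948
def n35476 : Q := act 9 n33708
theorem D35476 : act 9 n33708 = n35476 := rfl
theorem F164694 : act 0 n35476 = n34610 := d8_1 D35476 (iv D34610) (iv F156680)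
theorem F164695 : act 2 n35476 = n33822 := d23_1 D35476 (iv D33822) (iv F156681)
theorem F164696 : act 4 n35476 = n33720 := d34_1 D35476 (iv D33720) (iv F156682)
theorem F164697 : act 6 n35476 = n33709 := d41_1 D35476 (iv D33709) (iv F156683)
theorem F164698 : act 8 n35476 = n34014 := d44_1 D35476 (iv D34014) (iv D32151) (iv F147944) D33708
def n35477 : Q := act 7 n33710
theorem D35477 : act 7 n33710 = n35477 := rfl
theorem F164699 : act 0 n35477 = n34265 := d6_1 D35477 F159084 (iv F156690)
theorem F164700 : act 3 n35477 = n33711 := d27_1 D35477 (iv D33711) D33710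
theorem F164701 : act 4 n35477 = n33823 := d32_1 D35477 (iv D33823) (iv F156691)
theorem F164702 : act 5 n35477 = n34616 := d36_1 D35477 (iv D34616) (iv F156692)
theorem F164703 : act 8 n35477 = n34215 := d42_2 (iv F156693) D35477 (iv D34215)
theorem F164704 : act 9 n35477 = n34118 := d43_2 (iv F156694) D35477 (iv D34118)
def n35478 : Q := act 6 n33711
theorem D35478 : act 6 n33711 = n35478 := rfl
theorem F164705 : act 0 n35478 = n34541 := d5_1 D35478 F160116 (iv F156695)
theorem F164706 : act 2 n35478 = n33713 := d20_1 D35478 (iv D33713) (iv F156696)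
theorem F164707 : act 4 n35478 = n33712 := d31_1 D35478 (iv D33712) (iv F156697)
theorem F164708 : act 8 n35478 = n34515 := d40_2 (iv F156699) D35478 (iv D34515)
theorem F164709 : act 9 n35478 = n34120 := d41_2 (iv F156700) D35478 (iv D34120)
def n35479 : Q := act 5 n33713
theorem D35479 : act 5 n33713 = n35479 := rfl
theorem F164710 : act 0 n35479 = n34611 := d4_1 D35479 (iv D34611) (iv F156707)
theorem F164711 : act 4 n35479 = n33751 := d30_1 D35479 (iv D33751) F148072 (iv F147975) (iv F156708)
theorem F164712 : act 6 n35479 = n34622 := d35_2 D33713 D35479 (iv D34622) (iv D32767) (iv F147968)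
theorem F164713 : act 9 n35479 = n34126 := d38_2 (iv F156709) D35479 (iv D34126)
def n35480 : Q := act 8 n33713
theorem D35480 : act 8 n33713 = n35480 := rfl
theorem F164714 : act 0 n35480 = n34539 := d7_1 D35480 F160111 (iv F156707)
theorem F164715 : act 2 n35480 = n34515 := d22_1 D35480 (iv F164708) F164706
theorem F164716 : act 4 n35480 = n33717 := d33_1 D35480 (iv D33717) (iv F156708)
theorem F164717 : act 6 n35480 = n33714 := d40_1 D35480 (iv D33714) D33713
def n35481 : Q := act 5 n33714
theorem D35481 : act 5 n33714 = n35481 := rfl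
theorem F164718 : act 0 n35481 = n34067 := d4_1 D35481 F158368 (iv F156710)
theorem F164719 : act 2 n35481 = n34041 := d19_1 D35481 F158266 (iv F156711)
theorem F164720 : act 4 n35481 = n33760 := d30_1 D35481 (iv D33760) F148102 (iv F147980) (iv F156712)
theorem F164721 : act 7 n35481 = n33715 := d36_2 (iv F156713) D35481 (iv D33715)
theorem F164722 : act 8 n35481 = n34624 := d37_2 D33714 D35481 (iv D34624) (iv D32768) (iv F147968)
def n35482 : Q := act 9 n33714
theorem D35482 : act 9 n33714 = n35482 := rfl
theorem F164723 : act 0 n35482 = n34531 := d8_1 D35482 F160088 (iv F156710)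
theorem F164724 : act 2 n35482 = n34513 := d23_1 D35482 F160023 (iv F156711)
theorem F164725 : act 4 n35482 = n33718 := d34_1 D35482 (iv D33718) (iv F156712)
theorem F164726 : act 7 n35482 = n33716 := d43_1 D35482 (iv D33716) (iv F156713)
theorem F164727 : act 8 n35482 = n34129 := d44_1 D35482 (iv D34129) (iv D32254) (iv F147969) D33714
def n35483 : Q := act 5 n33717
theorem D35483 : act 5 n33717 = n35483 := rfl
theorem F164728 : act 0 n35483 = n34523 := d4_1 D35483 F160059 (iv F156722)
theorem F164729 : act 2 n35483 = n34000 := d19_1 D35483 F158120 (iv F156723)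
theorem F164730 : act 3 n35483 = n33719 := d25_1 D35483 (iv D33719) (iv F156724)
theorem F164731 : act 6 n35483 = n33761 := d35_2 (iv F156725) D35483 (iv D33761) F148111 (iv F147980)
theorem F164732 : act 7 n35483 = n34007 := d36_2 F164459 D35483 F164460
theorem F164733 : act 8 n35483 = n33756 := d37_2 D33717 D35483 (iv D33756) (iv D31827) (iv F147975)
def n35484 : Q := act 9 n33717
theorem D35484 : act 9 n33717 = n35484 := rfl
theorem F164734 : act 0 n35484 = n34532 := d8_1 D35484 F160091 (iv F156722)
theorem F164735 : act 2 n35484 = n34514 := d23_1 D35484 F160026 (iv F156723)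
theorem F164736 : act 3 n35484 = n33720 := d29_1 D35484 (iv D33720) (iv F156724)
theorem F164737 : act 6 n35484 = n33718 := d41_1 D35484 (iv D33718) (iv F156725)
theorem F164738 : act 8 n35484 = n34133 := d44_1 D35484 (iv D34133) (iv D32257) (iv F147976) D33717
def n35485 : Q := act 4 n33719
theorem D35485 : act 4 n33719 = n35485 := rfl
theorem F164739 : act 0 n35485 = n34612 := d3_1 D35485 (iv D34612) (iv F156732)
theorem F164740 : act 2 n35485 = n33826 := d18_1 D35485 (iv D33826) (iv F156733)
theorem F164741 : act 6 n35485 = n33762 := d31_2 (iv F156734) D35485 (iv D33762)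
theorem F164742 : act 7 n35485 = n34030 := d32_2 (iv F156735) D35485 F158214
theorem F164743 : act 8 n35485 = n33758 := d33_2 (iv F156736) D35485 (iv D33758)
def n35486 : Q := act 9 n33719
theorem D35486 : act 9 n33719 = n35486 := rfl
theorem F164744 : act 0 n35486 = n34613 := d8_1 D35486 (iv D34613) (iv F156732)
theorem F164745 : act 2 n35486 = n33778 := d23_1 D35486 F156970 (iv F156733)
theorem F164746 : act 5 n35486 = n33720 := d38_1 D35486 (iv D33720) D33719
theorem F164747 : act 6 n35486 = n33763 := d41_1 D35486 (iv D33763) (iv F156734)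
theorem F164748 : act 7 n35486 = n33817 := d43_1 D35486 F157176 (iv F156735)
def n35487 : Q := act 7 n33721
theorem D35487 : act 7 n33721 = n35487 := rfl
theorem F164749 : act 0 n35487 = n34616 := d6_1 D35487 (iv D34616) (iv F156741)
theorem F164750 : act 1 n35487 = n34375 := d14_1 D35487 F159448 (iv F156742)
theorem F164751 : act 3 n35487 = n33722 := d27_1 D35487 (iv D33722) D33721
theorem F164752 : act 4 n35487 = n33827 := d32_1 D35487 (iv D33827) (iv F156743)
theorem F164753 : act 5 n35487 = n34265 := d36_1 D35487 F159084 (iv F156744)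
theorem F164754 : act 9 n35487 = n33743 := d43_2 (iv F156745) D35487 (iv D33743)
def n35488 : Q := act 8 n33721
theorem D35488 : act 8 n33721 = n35488 := rfl
theorem F164755 : act 0 n35488 = n34322 := d7_1 D35488 F159291 (iv F156741)
theorem F164756 : act 1 n35488 = n34010 := d15_1 D35488 F158149 (iv F156742)
theorem F164757 : act 3 n35488 = n33723 := d28_1 D35488 (iv D33723) D33721
theorem F164758 : act 4 n35488 = n33828 := d33_1 D35488 (iv D33828) (iv F156743)
theorem F164759 : act 5 n35488 = n33985 := d37_1 D35488 (iv D33985) F149590 D32398 (iv F156744)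
def n35489 : Q := act 6 n33722
theorem D35489 : act 6 n33722 = n35489 := rfl
theorem F164760 : act 0 n35489 = n34617 := d5_1 D35489 (iv D34617) (iv F156746)
theorem F164761 : act 1 n35489 = n34647 := d13_1 D35489 (iv D34647) (iv F156747)
theorem F164762 : act 2 n35489 = n33727 := d20_1 D35489 (iv D33727) (iv F156748)
theorem F164763 : act 4 n35489 = n33724 := d31_1 D35489 (iv D33724) (iv F156749)
theorem F164764 : act 9 n35489 = n33745 := d41_2 (iv F156751) D35489 (iv D33745)
def n35490 : Q := act 8 n33722
theorem D35490 : act 8 n33722 = n35490 := rfl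
theorem F164765 : act 0 n35490 = n34618 := d7_1 D35490 (iv D34618) (iv F156746)
theorem F164766 : act 1 n35490 = n34128 := d15_1 D35490 F158562 (iv F156747)
theorem F164767 : act 2 n35490 = n33728 := d22_1 D35490 (iv D33728) (iv F156748)
theorem F164768 : act 4 n35490 = n33725 := d33_1 D35490 (iv D33725) (iv F156749)
theorem F164769 : act 5 n35490 = n34070 := d37_1 D35490 (iv D34070) F149947 D32693 (iv F156750)
theorem F164770 : act 7 n35490 = n33723 := d42_1 D35490 (iv D33723) D33722
def n35491 : Q := act 9 n33723
theorem D35491 : act 9 n33723 = n35491 := rfl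
theorem F164771 : act 0 n35491 = n34619 := d8_1 D35491 (iv D34619) (iv F156752)
theorem F164772 : act 1 n35491 = n34131 := d16_1 D35491 (iv D34131) (iv F156753)
theorem F164773 : act 2 n35491 = n33730 := d23_1 D35491 (iv D33730) (iv F156754)
theorem F164774 : act 4 n35491 = n33726 := d34_1 D35491 (iv D33726) (iv F156755)
theorem F164775 : act 5 n35491 = n34071 := d38_1 D35491 (iv D34071) (iv F156756)
theorem F164776 : act 8 n35491 = n33748 := d44_1 D35491 (iv D33748) (iv D31819) (iv F147999) D33723
def n35492 : Q := act 8 n33724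
theorem D35492 : act 8 n33724 = n35492 := rfl
theorem F164777 : act 0 n35492 = n34620 := d7_1 D35492 (iv D34620) (iv F156757)
theorem F164778 : act 1 n35492 = n34146 := d15_1 D35492 F158622 (iv F156758)
theorem F164779 : act 2 n35492 = n33731 := d22_1 D35492 (iv D33731) (iv F156759)
theorem F164780 : act 3 n35492 = n33832 := d28_1 D35492 (iv D33832) (iv F156760)
theorem F164781 : act 6 n35492 = n33725 := d40_1 D35492 (iv D33725) D33724
def n35493 : Q := act 9 n33725
theorem D35493 : act 9 n33725 = n35493 := rfl
theorem F164782 : act 0 n35493 = n34621 := d8_1 D35493 (iv D34621) (iv F156763)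
theorem F164783 : act 1 n35493 = n34147 := d16_1 D35493 (iv D34147) (iv F156764)
theorem F164784 : act 2 n35493 = n33732 := d23_1 D35493 (iv D33732) (iv F156765)
theorem F164785 : act 3 n35493 = n33833 := d29_1 D35493 (iv D33833) (iv F156766)
theorem F164786 : act 5 n35493 = n33899 := d38_1 D35493 (iv D33899) (iv F156767)
theorem F164787 : act 7 n35493 = n33726 := d43_1 D35493 (iv D33726) (iv F156768)
theorem F164788 : act 8 n35493 = n33750 := d44_1 D35493 (iv D33750) (iv D31821) (iv F148005) D33725
def n35494 : Q := act 5 n33727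
theorem D35494 : act 5 n33727 = n35494 := rfl
theorem F164789 : act 0 n35494 = n34622 := d4_1 D35494 (iv D34622) (iv F156775)
theorem F164790 : act 4 n35494 = n34126 := d30_1 D35494 (iv D34126) F150091 (iv F148019) (iv F156776)
theorem F164791 : act 6 n35494 = n34611 := d35_2 D33727 D35494 (iv D34611) (iv D32756) (iv F148013)
theorem F164792 : act 9 n35494 = n33751 := d38_2 (iv F156777) D35494 (iv D33751)
def n35495 : Q := act 8 n33727
theorem D35495 : act 8 n33727 = n35495 := rfl
theorem F164793 : act 0 n35495 = n34623 := d7_1 D35495 (iv D34623) (iv F156775)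
theorem F164794 : act 4 n35495 = n33731 := d33_1 D35495 (iv D33731) (iv F156776)
theorem F164795 : act 6 n35495 = n33728 := d40_1 D35495 (iv D33728) D33727
def n35496 : Q := act 5 n33728
theorem D35496 : act 5 n33728 = n35496 := rfl
theorem F164796 : act 0 n35496 = n34624 := d4_1 D35496 (iv D34624) (iv F156778)
theorem F164797 : act 2 n35496 = n34070 := d19_1 D35496 (iv F164769) F164767
theorem F164798 : act 4 n35496 = n33901 := d30_1 D35496 (iv D33901) F149002 (iv F148023) (iv F156779)
theorem F164799 : act 7 n35496 = n33729 := d36_2 (iv F156780) D35496 (iv D33729)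
theorem F164800 : act 8 n35496 = n34067 := d37_2 D33728 D35496 F158368 F151765 (iv F148013)
def n35497 : Q := act 9 n33728
theorem D35497 : act 9 n33728 = n35497 := rfl
theorem F164801 : act 0 n35497 = n34625 := d8_1 D35497 (iv D34625) (iv F156778)
theorem F164802 : act 4 n35497 = n33732 := d34_1 D35497 (iv D33732) (iv F156779)
theorem F164803 : act 7 n35497 = n33730 := d43_1 D35497 (iv D33730) (iv F156780)
theorem F164804 : act 8 n35497 = n33754 := d44_1 D35497 (iv D33754) (iv D31824) (iv F148014) D33728
def n35498 : Q := act 6 n33729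
theorem D35498 : act 6 n33729 = n35498 := rfl
theorem F164805 : act 0 n35498 = n34626 := d5_1 D35498 (iv D34626) (iv F156781)
theorem F164806 : act 2 n35498 = n34058 := d20_1 D35498 F158337 (iv F156782)
theorem F164807 : act 4 n35498 = n33903 := d31_1 D35498 (iv D33903) (iv F156783)
theorem F164808 : act 8 n35498 = n34055 := d40_2 (iv F156784) D35498 F158329
def n35499 : Q := act 9 n33729
theorem D35499 : act 9 n33729 = n35499 := rfl
theorem F164809 : act 0 n35499 = n34627 := d8_1 D35499 (iv D34627) (iv F156781)
theorem F164810 : act 2 n35499 = n34071 := d23_1 D35499 (iv D34071) (iv F156782)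
theorem F164811 : act 4 n35499 = n33904 := d34_1 D35499 (iv D33904) (iv F156783)
theorem F164812 : act 5 n35499 = n33730 := d38_1 D35499 (iv D33730) D33729
def n35500 : Q := act 5 n33731
theorem D35500 : act 5 n33731 = n35500 := rfl
theorem F164813 : act 0 n35500 = n34628 := d4_1 D35500 (iv D34628) (iv F156788)
theorem F164814 : act 3 n35500 = n33733 := d25_1 D35500 (iv D33733) (iv F156789)
theorem F164815 : act 6 n35500 = n33905 := d35_2 (iv F156790) D35500 (iv D33905) F149016 (iv F148023)
theorem F164816 : act 8 n35500 = n34132 := d37_2 D33731 D35500 (iv D34132) (iv D32257) (iv F148019)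
def n35501 : Q := act 9 n33731
theorem D35501 : act 9 n33731 = n35501 := rfl
theorem F164817 : act 0 n35501 = n34629 := d8_1 D35501 (iv D34629) (iv F156788)
theorem F164818 : act 3 n35501 = n33734 := d29_1 D35501 (iv D33734) (iv F156789)
theorem F164819 : act 6 n35501 = n33732 := d41_1 D35501 (iv D33732) (iv F156790)
theorem F164820 : act 8 n35501 = n33757 := d44_1 D35501 (iv D33757) (iv D31827) (iv F148020) D33731
def n35502 : Q := act 4 n33733
theorem D35502 : act 4 n33733 = n35502 := rfl
theorem F164821 : act 0 n35502 = n34630 := d3_1 D35502 (iv D34630) (iv F156796)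
theorem F164822 : act 2 n35502 = n33839 := d18_1 D35502 (iv D33839) (iv F156797)
theorem F164823 : act 6 n35502 = n33907 := d31_2 (iv F156798) D35502 (iv D33907)
theorem F164824 : act 8 n35502 = n34134 := d33_2 (iv F156799) D35502 (iv D34134)
def n35503 : Q := act 9 n33733
theorem D35503 : act 9 n33733 = n35503 := rfl
theorem F164825 : act 0 n35503 = n34631 := d8_1 D35503 (iv D34631) (iv F156796)
theorem F164826 : act 2 n35503 = n33840 := d23_1 D35503 (iv D33840) (iv F156797)
theorem F164827 : act 5 n35503 = n33734 := d38_1 D35503 (iv D33734) D33733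
theorem F164828 : act 6 n35503 = n33908 := d41_1 D35503 (iv D33908) (iv F156798)
def n35504 : Q := act 8 n33735
theorem D35504 : act 8 n33735 = n35504 := rfl
theorem F164829 : act 0 n35504 = n33739 := d7_1 D35504 (iv D33739) (iv F156804)
theorem F164830 : act 1 n35504 = n33973 := d15_1 D35504 F158004 (iv F156805)
theorem F164831 : act 4 n35504 = n33736 := d33_1 D35504 (iv D33736) D33735
theorem F164832 : act 6 n35504 = n34003 := d40_1 D35504 (iv F164531) F164530
def n35505 : Q := act 2 n33737
theorem D35505 : act 2 n33737 = n35505 := rfl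
theorem F164833 : act 4 n35505 = n33841 := d18_2 (iv F156814) D35505 (iv D33841)
theorem F164834 : act 5 n35505 = n34370 := d19_2 (iv F156815) D35505 F159433
theorem F164835 : act 9 n35505 = n34369 := d23_2 (iv F156816) D35505 F159431
def n35506 : Q := act 7 n33737
theorem D35506 : act 7 n33737 = n35506 := rfl
theorem F164836 : act 1 n35506 = n33743 := d14_1 D35506 (iv D33743) (iv F156813)
theorem F164837 : act 3 n35506 = n33738 := d27_1 D35506 (iv D33738) D33737
theorem F164838 : act 4 n35506 = n33842 := d32_1 D35506 (iv D33842) (iv F156814)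
theorem F164839 : act 5 n35506 = n34376 := d36_1 D35506 F159451 (iv F156815)
theorem F164840 : act 9 n35506 = n34375 := d43_2 (iv F156816) D35506 F159448
def n35507 : Q := act 8 n33737
theorem D35507 : act 8 n33737 = n35507 := rfl
theorem F164841 : act 1 n35507 = n33744 := d15_1 D35507 (iv D33744) (iv F156813)
theorem F164842 : act 3 n35507 = n33739 := d28_1 D35507 (iv D33739) D33737
theorem F164843 : act 4 n35507 = n33843 := d33_1 D35507 (iv D33843) (iv F156814)
def n35508 : Q := act 6 n33738
theorem D35508 : act 6 n33738 = n35508 := rfl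
theorem F164844 : act 1 n35508 = n33745 := d13_1 D35508 (iv D33745) (iv F156817)
theorem F164845 : act 4 n35508 = n33740 := d31_1 D35508 (iv D33740) (iv F156818)
theorem F164846 : act 9 n35508 = n34647 := d41_2 (iv F156820) D35508 (iv D34647)
def n35509 : Q := act 8 n33738
theorem D35509 : act 8 n33738 = n35509 := rfl
theorem F164847 : act 1 n35509 = n33746 := d15_1 D35509 (iv D33746) (iv F156817)
theorem F164848 : act 4 n35509 = n33741 := d33_1 D35509 (iv D33741) (iv F156818)
theorem F164849 : act 7 n35509 = n33739 := d42_1 D35509 (iv D33739) D33738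
def n35510 : Q := act 5 n33739
theorem D35510 : act 5 n33739 = n35510 := rfl
theorem F164850 : act 1 n35510 = n33747 := d12_1 D35510 (iv D33747) (iv F156821)
theorem F164851 : act 4 n35510 = n33765 := d30_1 D35510 (iv D33765) F148146 (iv F148050) (iv F156822)
theorem F164852 : act 8 n35510 = n34627 := d37_2 D33739 D35510 F160359 F151990 (iv F148042)
def n35511 : Q := act 9 n33739
theorem D35511 : act 9 n33739 = n35511 := rfl
theorem F164853 : act 1 n35511 = n33748 := d16_1 D35511 (iv D33748) (iv F156821)
theorem F164854 : act 4 n35511 = n33742 := d34_1 D35511 (iv D33742) (iv F156822)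
theorem F164855 : act 8 n35511 = n34131 := d44_1 D35511 (iv D34131) F150095 (iv F148043) D33739
def n35512 : Q := act 8 n33740
theorem D35512 : act 8 n33740 = n35512 := rfl
theorem F164856 : act 1 n35512 = n33749 := d15_1 D35512 (iv D33749) (iv F156823)
theorem F164857 : act 3 n35512 = n33847 := d28_1 D35512 (iv D33847) (iv F156824)
theorem F164858 : act 6 n35512 = n33741 := d40_1 D35512 (iv D33741) D33740
def n35513 : Q := act 9 n33741
theorem D35513 : act 9 n33741 = n35513 := rfl
theorem F164859 : act 1 n35513 = n33750 := d16_1 D35513 (iv D33750) (iv F156826)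
theorem F164860 : act 3 n35513 = n33848 := d29_1 D35513 (iv D33848) (iv F156827)
theorem F164861 : act 5 n35513 = n33766 := d38_1 D35513 (iv D33766) (iv F156828)
theorem F164862 : act 7 n35513 = n33742 := d43_1 D35513 (iv D33742) (iv F156829)
theorem F164863 : act 8 n35513 = n34147 := d44_1 D35513 (iv D34147) F150147 (iv F148047) D33741
def n35514 : Q := act 6 n33743
theorem D35514 : act 6 n33743 = n35514 := rfl
theorem F164864 : act 0 n35514 = n34634 := d5_1 D35514 (iv D34634) (iv F156834)
theorem F164865 : act 3 n35514 = n33745 := d26_1 D35514 (iv D33745) (iv F156835)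
theorem F164866 : act 4 n35514 = n33849 := d31_1 D35514 (iv D33849) (iv F156836)
def n35515 : Q := act 8 n33743
theorem D35515 : act 8 n33743 = n35515 := rfl
theorem F164867 : act 0 n35515 = n34635 := d7_1 D35515 (iv D34635) (iv F156834)
theorem F164868 : act 3 n35515 = n33746 := d28_1 D35515 (iv D33746) (iv F156835)
theorem F164869 : act 4 n35515 = n33850 := d33_1 D35515 (iv D33850) (iv F156836)
theorem F164870 : act 7 n35515 = n33744 := d42_1 D35515 (iv D33744) D33743
def n35516 : Q := act 5 n33744
theorem D35516 : act 5 n33744 = n35516 := rfl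
theorem F164871 : act 0 n35516 = n34636 := d4_1 D35516 (iv D34636) (iv F156837)
theorem F164872 : act 3 n35516 = n33747 := d25_1 D35516 (iv D33747) (iv F156838)
theorem F164873 : act 4 n35516 = n35516 := d30_1 D35516 (iv D35516) F156839 F148587 (iv F156839)
def n35517 : Q := act 9 n33744
theorem D35517 : act 9 n33744 = n35517 := rfl
theorem F164874 : act 0 n35517 = n34637 := d8_1 D35517 (iv D34637) (iv F156837)
theorem F164875 : act 3 n35517 = n33748 := d29_1 D35517 (iv D33748) (iv F156838)
theorem F164876 : act 4 n35517 = n33851 := d34_1 D35517 (iv D33851) (iv F156839)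
def n35518 : Q := act 5 n33745
theorem D35518 : act 5 n33745 = n35518 := rfl
theorem F164877 : act 0 n35518 = n34638 := d4_1 D35518 (iv D34638) (iv F156840)
theorem F164878 : act 2 n35518 = n33751 := d19_1 D35518 (iv D33751) (iv F156841)
def n35519 : Q := act 8 n33745
theorem D35519 : act 8 n33745 = n35519 := rfl
theorem F164879 : act 0 n35519 = n34639 := d7_1 D35519 (iv D34639) (iv F156840)
theorem F164880 : act 2 n35519 = n33752 := d22_1 D35519 (iv D33752) (iv F156841)
theorem F164881 : act 4 n35519 = n33749 := d33_1 D35519 (iv D33749) (iv F156842)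
theorem F164882 : act 6 n35519 = n33746 := d40_1 D35519 (iv D33746) D33745
def n35520 : Q := act 5 n33746
theorem D35520 : act 5 n33746 = n35520 := rfl
theorem F164883 : act 0 n35520 = n34640 := d4_1 D35520 (iv D34640) (iv F156843)
theorem F164884 : act 2 n35520 = n33753 := d19_1 D35520 (iv D33753) (iv F156844)
theorem F164885 : act 4 n35520 = n33768 := d30_1 D35520 (iv D33768) F148164 (iv F148065) (iv F156845)
theorem F164886 : act 7 n35520 = n33747 := d36_2 (iv F156846) D35520 (iv D33747)
def n35521 : Q := act 9 n33746
theorem D35521 : act 9 n33746 = n35521 := rfl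
theorem F164887 : act 0 n35521 = n34641 := d8_1 D35521 (iv D34641) (iv F156843)
theorem F164888 : act 2 n35521 = n33754 := d23_1 D35521 (iv D33754) (iv F156844)
theorem F164889 : act 4 n35521 = n33750 := d34_1 D35521 (iv D33750) (iv F156845)
theorem F164890 : act 7 n35521 = n33748 := d43_1 D35521 (iv D33748) (iv F156846)
def n35522 : Q := act 6 n33747
theorem D35522 : act 6 n33747 = n35522 := rfl
theorem F164891 : act 0 n35522 = n34642 := d5_1 D35522 (iv D34642) (iv F156847)
theorem F164892 : act 2 n35522 = n33755 := d20_1 D35522 (iv D33755) (iv F156848)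
theorem F164893 : act 4 n35522 = n33769 := d31_1 D35522 (iv D33769) (iv F156849)
def n35523 : Q := act 5 n33749
theorem D35523 : act 5 n33749 = n35523 := rfl
theorem F164894 : act 0 n35523 = n34527 := d4_1 D35523 F160073 (iv F156853)
theorem F164895 : act 2 n35523 = n33756 := d19_1 D35523 (iv D33756) (iv F156854)
theorem F164896 : act 3 n35523 = n33855 := d25_1 D35523 (iv D33855) (iv F156855)
theorem F164897 : act 6 n35523 = n33770 := d35_2 (iv F156856) D35523 (iv D33770) F148172 (iv F148065)
theorem F164898 : act 7 n35523 = n34012 := d36_2 F164590 D35523 (iv F164588)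
theorem F164899 : act 8 n35523 = n34000 := d37_2 D33749 D35523 F158120 (iv F156705) F156704
def n35524 : Q := act 9 n33749
theorem D35524 : act 9 n33749 = n35524 := rfl
theorem F164900 : act 0 n35524 = n34643 := d8_1 D35524 (iv D34643) (iv F156853)
theorem F164901 : act 2 n35524 = n33757 := d23_1 D35524 (iv D33757) (iv F156854)
theorem F164902 : act 3 n35524 = n33856 := d29_1 D35524 (iv D33856) (iv F156855)
theorem F164903 : act 6 n35524 = n33750 := d41_1 D35524 (iv D33750) (iv F156856)
def n35525 : Q := act 8 n33751
theorem D35525 : act 8 n33751 = n35525 := rfl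
theorem F164904 : act 0 n35525 = n34644 := d7_1 D35525 (iv D34644) (iv F156862)
def n35526 : Q := act 5 n33752
theorem D35526 : act 5 n33752 = n35526 := rfl
theorem F164905 : act 0 n35526 = n34645 := d4_1 D35526 (iv D34645) (iv F156863)
def n35527 : Q := act 9 n33752
theorem D35527 : act 9 n33752 = n35527 := rfl
theorem F164906 : act 0 n35527 = n34646 := d8_1 D35527 (iv D34646) (iv F156863)
theorem F164907 : act 4 n35527 = n33757 := d34_1 D35527 (iv D33757) (iv F156864)
theorem F164908 : act 6 n35527 = n33754 := d41_1 D35527 (iv D33754) (iv F156865)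
def n35528 : Q := act 6 n33753
theorem D35528 : act 6 n33753 = n35528 := rfl
theorem F164909 : act 0 n35528 = n34647 := d5_1 D35528 (iv D34647) (iv F156866)
theorem F164910 : act 4 n35528 = n33772 := d31_1 D35528 (iv D33772) (iv F156867)
def n35529 : Q := act 7 n33755
theorem D35529 : act 7 n33755 = n35529 := rfl
theorem F164911 : act 0 n35529 = n34648 := d6_1 D35529 (iv D34648) (iv F156872)
theorem F164912 : act 4 n35529 = n33773 := d32_1 D35529 (iv D33773) (iv F156873)
def n35530 : Q := act 4 n33756
theorem D35530 : act 4 n33756 = n35530 := rfl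
theorem F164913 : act 0 n35530 = n34633 := d3_1 D35530 F160374 (iv F156874)
theorem F164914 : act 6 n35530 = n33774 := d31_2 (iv F156876) D35530 (iv D33774)
def n35531 : Q := act 3 n33758
theorem D35531 : act 3 n33758 = n35531 := rfl
theorem F164915 : act 0 n35531 = n34649 := d2_1 D35531 (iv D34649) (iv F156880)
theorem F164916 : act 6 n35531 = n33775 := d26_2 (iv F156882) D35531 (iv D33775)
def n35532 : Q := act 8 n33759
theorem D35532 : act 8 n33759 = n35532 := rfl
theorem F164917 : act 0 n35532 = n33892 := d7_1 D35532 (iv D33892) (iv F156883)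
theorem F164918 : act 1 n35532 = n33902 := d15_1 D35532 F157620 (iv F156884)
theorem F164919 : act 2 n35532 = n33889 := d22_1 D35532 (iv D33889) (iv F156885)
theorem F164920 : act 3 n35532 = n35532 := d28_1 D35532 (iv D35532) F156886
theorem F164921 : act 4 n35532 = n33771 := d33_1 D35532 (iv D33771) (iv F156887)
theorem F164922 : act 6 n35532 = n34710 := d40_1 D35532 (iv D34710) (iv F156888)
theorem F164923 : act 7 n35532 = n33886 := d42_1 D35532 (iv D33886) (iv F156889)
theorem F164924 : act 9 n35532 = n33894 := d44_2 (iv F156890) D35532 (iv D33894) F148930 (iv F148859)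
def n35533 : Q := act 6 n33760
theorem D35533 : act 6 n33760 = n35533 := rfl
theorem F164925 : act 0 n35533 = n34068 := d5_1 D35533 (iv D34068) (iv F156891)
theorem F164926 : act 2 n35533 = n34043 := d20_1 D35533 (iv D34043) (iv F156892)
theorem F164927 : act 3 n35533 = n35533 := d26_1 D35533 (iv D35533) F156893
theorem F164928 : act 8 n35533 = n34713 := d40_2 (iv F156895) D35533 (iv D34713)
def n35534 : Q := act 4 n33761
theorem D35534 : act 4 n33761 = n35534 := rfl
theorem F164929 : act 0 n35534 = n34522 := d3_1 D35534 F160054 (iv F156896)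
theorem F164930 : act 2 n35534 = n33999 := d18_1 D35534 F158117 (iv F156897)
theorem F164931 : act 7 n35534 = n33973 := d32_2 (iv F156899) D35534 (iv D33973)
theorem F164932 : act 8 n35534 = n33774 := d33_2 (iv F156900) D35534 (iv D33774)
def n35535 : Q := act 3 n33762
theorem D35535 : act 3 n33762 = n35535 := rfl
theorem F164933 : act 0 n35535 = n34650 := d2_1 D35535 (iv D34650) (iv F156901)
theorem F164934 : act 2 n35535 = n34172 := d17_1 D35535 F158708 F150225 (iv F148639) (iv F156902)
theorem F164935 : act 5 n35535 = n35535 := d25_2 F156903 D35535 (iv D35535)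
theorem F164936 : act 7 n35535 = n33974 := d27_2 (iv F156904) D35535 (iv D33974)
theorem F164937 : act 8 n35535 = n33775 := d28_2 (iv F156905) D35535 (iv D33775)
def n35536 : Q := act 5 n33764
theorem D35536 : act 5 n33764 = n35536 := rfl
theorem F164938 : act 1 n35536 = n33768 := d12_1 D35536 (iv D33768) (iv F156910)
theorem F164939 : act 3 n35536 = n35536 := d25_1 D35536 (iv D35536) F156911
theorem F164940 : act 7 n35536 = n33765 := d36_2 (iv F156913) D35536 (iv D33765)
theorem F164941 : act 8 n35536 = n34714 := d37_2 D33764 D35536 F160628 F152379 (iv F148142)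
def n35537 : Q := act 6 n33765
theorem D35537 : act 6 n33765 = n35537 := rfl
theorem F164942 : act 0 n35537 = n34286 := d5_1 D35537 (iv F163797) F163793
theorem F164943 : act 1 n35537 = n33769 := d13_1 D35537 (iv D33769) (iv F156914)
theorem F164944 : act 2 n35537 = n33988 := d20_1 D35537 (iv F163777) F163774
theorem F164945 : act 3 n35537 = n35537 := d26_1 D35537 (iv D35537) F156915
theorem F164946 : act 5 n35537 = n33975 := d35_1 D35537 (iv D33975) (iv D32103) (iv F148147) D33765
theorem F164947 : act 8 n35537 = n34716 := d40_2 (iv F156916) D35537 F160634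
theorem F164948 : act 9 n35537 = n33983 := d41_2 F163749 D35537 (iv F163748)
def n35538 : Q := act 8 n33767
theorem D35538 : act 8 n33767 = n35538 := rfl
theorem F164949 : act 0 n35538 = n33894 := d7_1 D35538 (iv D33894) (iv F156921)
theorem F164950 : act 1 n35538 = n34139 := d15_1 D35538 F158596 (iv F156922)
theorem F164951 : act 2 n35538 = n33771 := d22_1 D35538 (iv D33771) (iv F156923)
theorem F164952 : act 3 n35538 = n35538 := d28_1 D35538 (iv D35538) F156924
theorem F164953 : act 4 n35538 = n33889 := d33_1 D35538 (iv D33889) (iv F156925)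
theorem F164954 : act 7 n35538 = n33887 := d42_1 D35538 (iv D33887) (iv F156926)
theorem F164955 : act 9 n35538 = n33892 := d44_2 (iv F156927) D35538 (iv D33892) F148919 (iv F148867)
def n35539 : Q := act 6 n33768
theorem D35539 : act 6 n33768 = n35539 := rfl
theorem F164956 : act 0 n35539 = n34651 := d5_1 D35539 (iv D34651) (iv F156928)
theorem F164957 : act 2 n35539 = n33772 := d20_1 D35539 (iv D33772) (iv F156929)
theorem F164958 : act 3 n35539 = n35539 := d26_1 D35539 (iv D35539) F156930
def n35540 : Q := act 7 n33769
theorem D35540 : act 7 n33769 = n35540 := rfl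
theorem F164959 : act 0 n35540 = n34652 := d6_1 D35540 (iv D34652) (iv F156932)
theorem F164960 : act 2 n35540 = n33773 := d21_1 D35540 (iv D33773) (iv F156933)
theorem F164961 : act 3 n35540 = n35540 := d27_1 D35540 (iv D35540) F156934
theorem F164962 : act 5 n35540 = n33976 := d36_1 D35540 (iv D33976) (iv F156935)
def n35541 : Q := act 4 n33770
theorem D35541 : act 4 n33770 = n35541 := rfl
theorem F164963 : act 0 n35541 = n34525 := d3_1 D35541 F160065 (iv F156936)
theorem F164964 : act 2 n35541 = n33774 := d18_1 D35541 (iv D33774) (iv F156937)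
theorem F164965 : act 3 n35541 = n34106 := d24_1 D35541 F158499 F150053 F148652 (iv F156938)
theorem F164966 : act 7 n35541 = n33977 := d32_2 (iv F156939) D35541 (iv D33977)
theorem F164967 : act 8 n35541 = n33999 := d33_2 (iv F156940) D35541 F158117
def n35542 : Q := act 7 n33772
theorem D35542 : act 7 n33772 = n35542 := rfl
theorem F164968 : act 0 n35542 = n34653 := d6_1 D35542 (iv D34653) (iv F156946)
theorem F164969 : act 3 n35542 = n33776 := d27_1 D35542 (iv D33776) (iv F156947)
theorem F164970 : act 6 n35542 = n33773 := d39_1 D35542 (iv D33773) (iv D31851) (iv F148186) D33772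
def n35543 : Q := act 3 n33774
theorem D35543 : act 3 n33774 = n35543 := rfl
theorem F164971 : act 0 n35543 = n34632 := d2_1 D35543 F160371 (iv F156951)
theorem F164972 : act 4 n35543 = n33775 := d24_2 D33774 D35543 (iv D33775) (iv D31853) (iv F148191)
theorem F164973 : act 7 n35543 = n33978 := d27_2 (iv F156952) D35543 (iv D33978)
def n35544 : Q := act 5 n33779
theorem D35544 : act 5 n33779 = n35544 := rfl
theorem F164974 : act 0 n35544 = n34654 := d4_1 D35544 (iv D34654) (iv F156971)
theorem F164975 : act 1 n35544 = n35544 := d12_1 D35544 (iv D35544) F156972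
theorem F164976 : act 3 n35544 = n34194 := d25_1 D35544 (iv F163305) F163303
theorem F164977 : act 4 n35544 = n34031 := d30_1 D35544 (iv D34031) F149773 F148266 (iv F156973)
theorem F164978 : act 6 n35544 = n34033 := d35_2 (iv F156974) D35544 (iv D34033) (iv D32173) (iv F148240)
theorem F164979 : act 7 n35544 = n33821 := d36_2 (iv F156975) D35544 (iv D33821)
theorem F164980 : act 8 n35544 = n34191 := d37_2 D33779 D35544 F158763 F150288 (iv F148234)
def n35545 : Q := act 7 n33781
theorem D35545 : act 7 n33781 = n35545 := rfl
theorem F164981 : act 0 n35545 = n34655 := d6_1 D35545 (iv D34655) (iv F156982)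
theorem F164982 : act 1 n35545 = n34405 := d14_1 D35545 (iv D34405) (iv F156983)
theorem F164983 : act 3 n35545 = n33782 := d27_1 D35545 (iv D33782) D33781
theorem F164984 : act 5 n35545 = n35545 := d36_1 D35545 (iv D35545) F156984
theorem F164985 : act 9 n35545 = n33799 := d43_2 (iv F156986) D35545 (iv D33799)
def n35546 : Q := act 8 n33781
theorem D35546 : act 8 n33781 = n35546 := rfl
theorem F164986 : act 0 n35546 = n34244 := d7_1 D35546 (iv F159003) (iv F156982)
theorem F164987 : act 1 n35546 = n34017 := d15_1 D35546 F158168 (iv F156983)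
theorem F164988 : act 2 n35546 = n34337 := d22_1 D35546 (iv F163105) F163102
theorem F164989 : act 3 n35546 = n33783 := d28_1 D35546 (iv D33783) D33781
theorem F164990 : act 6 n35546 = n33828 := d40_1 D35546 (iv D33828) (iv F156985)
theorem F164991 : act 5 n34243 = n35546 := d35_5 F164990 F157230 F149637 (iv F150600) D34243
theorem F164992 : act 9 n35546 = n34254 := d38_2 (iv F158997) F164991 (iv D34254)
def n35547 : Q := act 6 n33782
theorem D35547 : act 6 n33782 = n35547 := rfl
theorem F164993 : act 0 n35547 = n34656 := d5_1 D35547 (iv D34656) (iv F156987)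
theorem F164994 : act 1 n35547 = n34413 := d13_1 D35547 F159573 (iv F156988)
theorem F164995 : act 2 n35547 = n33787 := d20_1 D35547 (iv D33787) (iv F156989)
theorem F164996 : act 4 n35547 = n33784 := d31_1 D35547 (iv D33784) (iv F156990)
theorem F164997 : act 7 n35547 = n33829 := d39_2 D33782 D35547 (iv D33829) (iv D31914) (iv F148271)
theorem F164998 : act 9 n35547 = n33801 := d41_2 (iv F156992) D35547 (iv D33801)
def n35548 : Q := act 8 n33782
theorem D35548 : act 8 n33782 = n35548 := rfl
theorem F164999 : act 0 n35548 = n34415 := d7_1 D35548 F159584 (iv F156987)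
theorem F165000 : act 1 n35548 = n34021 := d15_1 D35548 F158180 (iv F156988)
theorem F165001 : act 2 n35548 = n33788 := d22_1 D35548 (iv D33788) (iv F156989)
theorem F165002 : act 4 n35548 = n33785 := d33_1 D35548 (iv D33785) (iv F156990)
theorem F165003 : act 7 n35548 = n33783 := d42_1 D35548 (iv D33783) D33782
theorem F165004 : act 5 n34414 = n35548 := d36_3 F165003 (iv F156998) D34414
theorem F165005 : act 9 n34747 = n35548 := d43_0 F165003 F156999 D34747
def n35549 : Q := act 8 n33784
theorem D35549 : act 8 n33784 = n35549 := rfl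
theorem F165006 : act 0 n35549 = n34657 := d7_1 D35549 (iv D34657) (iv F157000)
theorem F165007 : act 1 n35549 = n34159 := d15_1 D35549 F158659 (iv F157001)
theorem F165008 : act 2 n35549 = n33789 := d22_1 D35549 (iv D33789) (iv F157002)
theorem F165009 : act 6 n35549 = n33785 := d40_1 D35549 (iv D33785) D33784
theorem F165010 : act 7 n35549 = n33832 := d42_1 D35549 (iv D33832) (iv F157004)
def n35550 : Q := act 9 n33785
theorem D35550 : act 9 n33785 = n35550 := rfl
theorem F165011 : act 0 n35550 = n34658 := d8_1 D35550 (iv D34658) (iv F157006)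
theorem F165012 : act 1 n35550 = n34161 := d16_1 D35550 (iv D34161) (iv F157007)
theorem F165013 : act 2 n35550 = n33790 := d23_1 D35550 (iv D33790) (iv F157008)
theorem F165014 : act 4 n35550 = n34747 := d34_1 D35550 F165005 F165002
theorem F165015 : act 5 n35550 = n35550 := d38_1 D35550 (iv D35550) F157009
theorem F165016 : act 7 n35550 = n33786 := d43_1 D35550 (iv D33786) (iv F157010)
theorem F165017 : act 8 n35550 = n33805 := d44_1 D35550 (iv D33805) (iv D31886) (iv F148277) D33785
def n35551 : Q := act 5 n33787
theorem D35551 : act 5 n33787 = n35551 := rfl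
theorem F165018 : act 0 n35551 = n34659 := d4_1 D35551 (iv D34659) (iv F157018)
theorem F165019 : act 1 n35551 = n35551 := d12_1 D35551 (iv D35551) F157019
theorem F165020 : act 4 n35551 = n34175 := d30_1 D35551 (iv D34175) F150234 (iv F148298) (iv F157020)
theorem F165021 : act 6 n35551 = n35551 := d35_2 D33787 D35551 (iv D35551) (iv D33787) F148286
theorem F165022 : act 7 n35551 = n33834 := d36_2 (iv F157021) D35551 (iv D33834)
theorem F165023 : act 9 n35551 = n33806 := d38_2 (iv F157022) D35551 (iv D33806)
def n35552 : Q := act 8 n33787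
theorem D35552 : act 8 n33787 = n35552 := rfl
theorem F165024 : act 0 n35552 = n34660 := d7_1 D35552 (iv D34660) (iv F157018)
theorem F165025 : act 1 n35552 = n35552 := d15_1 D35552 (iv D35552) F157019
theorem F165026 : act 3 n35552 = n34778 := d28_1 D35552 (iv F163129) F163126
theorem F165027 : act 4 n35552 = n33789 := d33_1 D35552 (iv D33789) (iv F157020)
theorem F165028 : act 6 n35552 = n33788 := d40_1 D35552 (iv D33788) D33787
theorem F165029 : act 7 n35552 = n33835 := d42_1 D35552 (iv D33835) (iv F157021)
theorem F165030 : act 5 n34767 = n35552 := d36_3 F165029 (iv F157268) (iv F160879)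
theorem F165031 : act 9 n35552 = n34759 := d38_2 (iv F163410) F165030 F163411
def n35553 : Q := act 5 n33789
theorem D35553 : act 5 n33789 = n35553 := rfl
theorem F165032 : act 0 n35553 = n34661 := d4_1 D35553 (iv D34661) (iv F157030)
theorem F165033 : act 1 n35553 = n35553 := d12_1 D35553 (iv D35553) F157031
theorem F165034 : act 3 n35553 = n33791 := d25_1 D35553 (iv D33791) (iv F157032)
theorem F165035 : act 6 n35553 = n35553 := d35_2 (iv F157033) D35553 (iv D35553) F157033 F148304
theorem F165036 : act 7 n35553 = n33837 := d36_2 (iv F157034) D35553 (iv D33837)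
theorem F165037 : act 8 n35553 = n34176 := d37_2 D33789 D35553 (iv D34176) (iv D32298) (iv F148298)
def n35554 : Q := act 9 n33789
theorem D35554 : act 9 n33789 = n35554 := rfl
theorem F165038 : act 0 n35554 = n34662 := d8_1 D35554 (iv D34662) (iv F157030)
theorem F165039 : act 1 n35554 = n35554 := d16_1 D35554 (iv D35554) F157031
theorem F165040 : act 3 n35554 = n33792 := d29_1 D35554 (iv D33792) (iv F157032)
theorem F165041 : act 4 n35554 = n34759 := d34_1 D35554 (iv F165031) F165027
theorem F165042 : act 6 n35554 = n33790 := d41_1 D35554 (iv D33790) (iv F157033)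
theorem F165043 : act 7 n35554 = n33838 := d43_1 D35554 (iv D33838) (iv F157034)
theorem F165044 : act 8 n35554 = n33809 := d44_1 D35554 (iv D33809) (iv D31892) (iv F148300) D33789
def n35555 : Q := act 4 n33791
theorem D35555 : act 4 n33791 = n35555 := rfl
theorem F165045 : act 0 n35555 = n34663 := d3_1 D35555 (iv D34663) (iv F157042)
theorem F165046 : act 1 n35555 = n35555 := d11_1 D35555 (iv D35555) F157043
theorem F165047 : act 5 n35555 = n33857 := d30_2 D33791 D35555 F163143 (iv D35165) F155212
theorem F165048 : act 6 n35555 = n35555 := d31_2 F157044 D35555 (iv D35555)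
theorem F165049 : act 7 n35555 = n33839 := d32_2 (iv F157045) D35555 (iv D33839)
theorem F165050 : act 8 n35555 = n33858 := d33_2 (iv F157046) D35555 F157361
def n35556 : Q := act 9 n33791
theorem D35556 : act 9 n33791 = n35556 := rfl
theorem F165051 : act 0 n35556 = n34664 := d8_1 D35556 (iv D34664) (iv F157042)
theorem F165052 : act 1 n35556 = n35556 := d16_1 D35556 (iv D35556) F157043
theorem F165053 : act 5 n35556 = n33792 := d38_1 D35556 (iv D33792) D33791
theorem F165054 : act 6 n35556 = n35556 := d41_1 D35556 (iv D35556) F157044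
theorem F165055 : act 7 n35556 = n33840 := d43_1 D35556 (iv D33840) (iv F157045)
def n35557 : Q := act 2 n33793
theorem D35557 : act 2 n33793 = n35557 := rfl
theorem F165056 : act 3 n35557 = n35557 := d17_2 D33793 D35557 (iv D35557) (iv D33793) F148330
theorem F165057 : act 5 n35557 = n35557 := d19_2 F157053 D35557 (iv D35557)
theorem F165058 : act 6 n35557 = n33841 := d20_2 (iv F157054) D35557 (iv D33841)
theorem F165059 : act 9 n35557 = n34399 := d23_2 (iv F157055) D35557 F159531
def n35558 : Q := act 7 n33793
theorem D35558 : act 7 n33793 = n35558 := rfl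
theorem F165060 : act 1 n35558 = n33799 := d14_1 D35558 (iv D33799) (iv F157052)
theorem F165061 : act 3 n35558 = n33794 := d27_1 D35558 (iv D33794) D33793
theorem F165062 : act 5 n35558 = n35558 := d36_1 D35558 (iv D35558) F157053
theorem F165063 : act 9 n35558 = n34405 := d43_2 (iv F157055) D35558 (iv D34405)
def n35559 : Q := act 8 n33793
theorem D35559 : act 8 n33793 = n35559 := rfl
theorem F165064 : act 0 n35559 = n34026 := d7_1 D35559 F162979 F162974
theorem F165065 : act 1 n35559 = n33800 := d15_1 D35559 (iv D33800) (iv F157052)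
theorem F165066 : act 3 n35559 = n33795 := d28_1 D35559 (iv D33795) D33793
theorem F165067 : act 6 n35559 = n33843 := d40_1 D35559 (iv D33843) (iv F157054)
theorem F165068 : act 5 n34034 = n35559 := d25_0 F165066 (iv F157066) D34034
def n35560 : Q := act 6 n33794
theorem D35560 : act 6 n33794 = n35560 := rfl
theorem F165069 : act 1 n35560 = n33801 := d13_1 D35560 (iv D33801) (iv F157056)
theorem F165070 : act 2 n35560 = n35560 := d20_1 D35560 (iv D35560) F157057
theorem F165071 : act 4 n35560 = n33796 := d31_1 D35560 (iv D33796) (iv F157058)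
theorem F165072 : act 7 n35560 = n33844 := d39_2 D33794 D35560 (iv D33844) (iv D31927) (iv F148332)
theorem F165073 : act 9 n35560 = n34413 := d41_2 (iv F157060) D35560 F159573
def n35561 : Q := act 8 n33794
theorem D35561 : act 8 n33794 = n35561 := rfl
theorem F165074 : act 0 n35561 = n34027 := d7_1 D35561 F163035 F163029
theorem F165075 : act 1 n35561 = n33802 := d15_1 D35561 (iv D33802) (iv F157056)
theorem F165076 : act 2 n35561 = n35561 := d22_1 D35561 (iv D35561) F157057
theorem F165077 : act 4 n35561 = n33797 := d33_1 D35561 (iv D33797) (iv F157058)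
theorem F165078 : act 7 n35561 = n33795 := d42_1 D35561 (iv D33795) D33794
theorem F165079 : act 5 n33998 = n35561 := d36_3 F165078 (iv F157066) (iv F158113)
def n35562 : Q := act 9 n33795
theorem D35562 : act 9 n33795 = n35562 := rfl
theorem F165080 : act 0 n35562 = n33813 := d8_1 D35562 F157158 (iv F157061)
theorem F165081 : act 1 n35562 = n33803 := d16_1 D35562 (iv D33803) (iv F157062)
theorem F165082 : act 2 n35562 = n35562 := d23_1 D35562 (iv D35562) F157063
theorem F165083 : act 4 n35562 = n33798 := d34_1 D35562 (iv D33798) (iv F157064)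
theorem F165084 : act 5 n35562 = n33862 := d38_1 D35562 F157384 F157066
theorem F165085 : act 6 n35562 = n33846 := d41_1 D35562 (iv D33846) (iv F157065)
theorem F165086 : act 8 n35562 = n34022 := d44_1 D35562 (iv D34022) F149747 (iv F148333) D33795
def n35563 : Q := act 8 n33796
theorem D35563 : act 8 n33796 = n35563 := rfl
theorem F165087 : act 0 n35563 = n34028 := d7_1 D35563 (iv F164052) F164047
theorem F165088 : act 1 n35563 = n33804 := d15_1 D35563 (iv D33804) (iv F157067)
theorem F165089 : act 2 n35563 = n35563 := d22_1 D35563 (iv D35563) F157068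
theorem F165090 : act 5 n35563 = n33989 := d37_1 D35563 (iv D33989) (iv F155809) D35269 (iv F163716)
theorem F165091 : act 6 n35563 = n33797 := d40_1 D35563 (iv D33797) D33796
theorem F165092 : act 7 n35563 = n33847 := d42_1 D35563 (iv D33847) (iv F157069)
def n35564 : Q := act 9 n33797
theorem D35564 : act 9 n33797 = n35564 := rfl
theorem F165093 : act 0 n35564 = n33814 := d8_1 D35564 F157162 (iv F157071)
theorem F165094 : act 1 n35564 = n33805 := d16_1 D35564 (iv D33805) (iv F157072)
theorem F165095 : act 2 n35564 = n35564 := d23_1 D35564 (iv D35564) F157073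
theorem F165096 : act 5 n35564 = n33812 := d38_1 D35564 F157153 (iv F157074)
theorem F165097 : act 7 n35564 = n33798 := d43_1 D35564 (iv D33798) (iv F157075)
theorem F165098 : act 8 n35564 = n34161 := d44_1 D35564 (iv D34161) F150188 (iv F148337) D33797
def n35565 : Q := act 6 n33799
theorem D35565 : act 6 n33799 = n35565 := rfl
theorem F165099 : act 0 n35565 = n34666 := d5_1 D35565 (iv D34666) (iv F157082)
theorem F165100 : act 3 n35565 = n33801 := d26_1 D35565 (iv D33801) (iv F157083)
theorem F165101 : act 7 n35565 = n33849 := d39_2 D33799 D35565 (iv D33849) (iv D31932) (iv F148345)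
def n35566 : Q := act 8 n33799
theorem D35566 : act 8 n33799 = n35566 := rfl
theorem F165102 : act 0 n35566 = n34667 := d7_1 D35566 (iv D34667) (iv F157082)
theorem F165103 : act 3 n35566 = n33802 := d28_1 D35566 (iv D33802) (iv F157083)
theorem F165104 : act 7 n35566 = n33800 := d42_1 D35566 (iv D33800) D33799
theorem F165105 : act 5 n34023 = n35566 := d36_3 F165104 (iv F161136) F161138
def n35567 : Q := act 9 n33800
theorem D35567 : act 9 n33800 = n35567 := rfl
theorem F165106 : act 0 n35567 = n34258 := d8_1 D35567 F159063 (iv F157085)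
theorem F165107 : act 2 n35567 = n34358 := d23_1 D35567 (iv F163205) F163202
theorem F165108 : act 3 n35567 = n33803 := d29_1 D35567 (iv D33803) (iv F157086)
theorem F165109 : act 5 n35567 = n34278 := d38_1 D35567 (iv F161140) F161136
theorem F165110 : act 6 n35567 = n33851 := d41_1 D35567 (iv D33851) (iv F157087)
theorem F165111 : act 8 n35567 = n34254 := d44_1 D35567 (iv F164992) (iv D35546) F156986 D33800
def n35568 : Q := act 5 n33801
theorem D35568 : act 5 n33801 = n35568 := rfl
theorem F165112 : act 0 n35568 = n34668 := d4_1 D35568 (iv D34668) (iv F157088)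
theorem F165113 : act 2 n35568 = n33806 := d19_1 D35568 (iv D33806) (iv F157089)
theorem F165114 : act 6 n35568 = n35568 := d35_2 D33801 D35568 (iv D35568) (iv D33801) F148349
theorem F165115 : act 7 n35568 = n33852 := d36_2 (iv F157091) D35568 (iv D33852)
def n35569 : Q := act 8 n33801
theorem D35569 : act 8 n33801 = n35569 := rfl
theorem F165116 : act 0 n35569 = n34669 := d7_1 D35569 (iv D34669) (iv F157088)
theorem F165117 : act 2 n35569 = n33807 := d22_1 D35569 (iv D33807) (iv F157089)
theorem F165118 : act 4 n35569 = n33804 := d33_1 D35569 (iv D33804) (iv F157090)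
theorem F165119 : act 6 n35569 = n33802 := d40_1 D35569 (iv D33802) D33801
theorem F165120 : act 7 n35569 = n33853 := d42_1 D35569 (iv D33853) (iv F157091)
theorem F165121 : act 5 n34134 = n35569 := d35_5 F165119 (iv F157096) F149752 (iv F150164) (iv F158574)
def n35570 : Q := act 9 n33802
theorem D35570 : act 9 n33802 = n35570 := rfl
theorem F165122 : act 0 n35570 = n34670 := d8_1 D35570 (iv D34670) (iv F157092)
theorem F165123 : act 2 n35570 = n33808 := d23_1 D35570 (iv D33808) (iv F157093)
theorem F165124 : act 4 n35570 = n33805 := d34_1 D35570 (iv D33805) (iv F157094)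
theorem F165125 : act 5 n35570 = n34024 := d38_1 D35570 (iv D34024) F157096
theorem F165126 : act 7 n35570 = n33803 := d43_1 D35570 (iv D33803) (iv F157095)
theorem F165127 : act 8 n35570 = n34747 := d44_1 D35570 F165005 (iv D35548) F156992 D33802
def n35571 : Q := act 9 n33804
theorem D35571 : act 9 n33804 = n35571 := rfl
theorem F165128 : act 0 n35571 = n34671 := d8_1 D35571 (iv D34671) (iv F157103)
theorem F165129 : act 2 n35571 = n33809 := d23_1 D35571 (iv D33809) (iv F157104)
theorem F165130 : act 5 n35571 = n34014 := d38_1 D35571 (iv D34014) (iv F157105)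
theorem F165131 : act 6 n35571 = n33805 := d41_1 D35571 (iv D33805) (iv F157106)
theorem F165132 : act 7 n35571 = n33856 := d43_1 D35571 (iv D33856) (iv F157107)
def n35572 : Q := act 9 n33807
theorem D35572 : act 9 n33807 = n35572 := rfl
theorem F165133 : act 0 n35572 = n34672 := d8_1 D35572 (iv D34672) (iv F157116)
theorem F165134 : act 1 n35572 = n35572 := d16_1 D35572 (iv D35572) F157117
theorem F165135 : act 3 n35572 = n34782 := d29_1 D35572 (iv F163238) F163234
theorem F165136 : act 4 n35572 = n33809 := d34_1 D35572 (iv D33809) (iv F157118)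
theorem F165137 : act 5 n35572 = n34193 := d38_1 D35572 (iv D34193) F157121
theorem F165138 : act 6 n35572 = n33808 := d41_1 D35572 (iv D33808) (iv F157119)
theorem F165139 : act 7 n35572 = n33859 := d43_1 D35572 (iv D33859) (iv F157120)
theorem F165140 : act 8 n35572 = n34759 := d44_1 D35572 (iv F165031) (iv D35552) F157022 D33807
def n35573 : Q := act 3 n33813
theorem D35573 : act 3 n33813 = n35573 := rfl
theorem F165141 : act 1 n35573 = n33815 := d10_1 D35573 (iv D33815) (iv F157154)
theorem F165142 : act 5 n35573 = n33865 := d25_2 (iv F157156) D35573 (iv D33865)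
theorem F165143 : act 8 n35573 = n34211 := d28_2 (iv F157157) D35573 F158845
theorem F165144 : act 9 n35573 = n34026 := d29_2 (iv F157158) D35573 (iv D34026)
theorem F165145 : act 2 n34272 = n35573 := d22_3 F165143 (iv F161969) F161972
def n35574 : Q := act 7 n33813
theorem D35574 : act 7 n33813 = n35574 := rfl
theorem F165146 : act 1 n35574 = n33816 := d14_1 D35574 (iv D33816) (iv F157154)
theorem F165147 : act 2 n35574 = n35574 := d21_1 D35574 (iv D35574) F157155
theorem F165148 : act 4 n35574 = n33814 := d32_1 D35574 (iv D33814) D33813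
theorem F165149 : act 5 n35574 = n33866 := d36_1 D35574 (iv D33866) (iv F157156)
theorem F165150 : act 8 n35574 = n34737 := d42_2 (iv F157157) D35574 (iv D34737)
theorem F165151 : act 9 n35574 = n34027 := d43_2 (iv F157158) D35574 (iv D34027)
def n35575 : Q := act 6 n33814
theorem D35575 : act 6 n33814 = n35575 := rfl
theorem F165152 : act 1 n35575 = n33817 := d13_1 D35575 (iv D33817) (iv F157159)
theorem F165153 : act 2 n35575 = n35575 := d20_1 D35575 (iv D35575) F157160
theorem F165154 : act 9 n35575 = n34028 := d41_2 (iv F157162) D35575 (iv D34028)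
def n35576 : Q := act 7 n33815
theorem D35576 : act 7 n33815 = n35576 := rfl
theorem F165155 : act 0 n35576 = n34263 := d6_1 D35576 F159077 (iv F157163)
theorem F165156 : act 2 n35576 = n33823 := d21_1 D35576 (iv D33823) (iv F157164)
theorem F165157 : act 3 n35576 = n33816 := d27_1 D35576 (iv D33816) D33815
theorem F165158 : act 5 n35576 = n33869 := d36_1 D35576 (iv D33869) (iv F157165)
theorem F165159 : act 8 n35576 = n34214 := d42_2 (iv F157166) D35576 (iv D34214)
theorem F165160 : act 9 n35576 = n34029 := d43_2 (iv F157167) D35576 (iv D34029)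
def n35577 : Q := act 6 n33816
theorem D35577 : act 6 n33816 = n35577 := rfl
theorem F165161 : act 0 n35577 = n34673 := d5_1 D35577 (iv D34673) (iv F157168)
theorem F165162 : act 2 n35577 = n33819 := d20_1 D35577 (iv D33819) (iv F157169)
theorem F165163 : act 4 n35577 = n33817 := d31_1 D35577 (iv D33817) (iv F157170)
theorem F165164 : act 8 n35577 = n34738 := d40_2 (iv F157172) D35577 (iv D34738)
theorem F165165 : act 9 n35577 = n34030 := d41_2 (iv F157173) D35577 (iv D34030)
def n35578 : Q := act 8 n33817
theorem D35578 : act 8 n33817 = n35578 := rfl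
theorem F165166 : act 0 n35578 = n34674 := d7_1 D35578 (iv D34674) (iv F157174)
theorem F165167 : act 2 n35578 = n33820 := d22_1 D35578 (iv D33820) (iv F157175)
theorem F165168 : act 4 n35578 = n34738 := d33_1 D35578 (iv F165164) F165163
theorem F165169 : act 6 n35578 = n33818 := d40_1 D35578 (iv D33818) D33817
def n35579 : Q := act 5 n33819
theorem D35579 : act 5 n33819 = n35579 := rfl
theorem F165170 : act 0 n35579 = n34675 := d4_1 D35579 (iv D34675) (iv F157182)
theorem F165171 : act 1 n35579 = n35579 := d12_1 D35579 (iv D35579) F157183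
theorem F165172 : act 3 n35579 = n33825 := d25_1 D35579 (iv D33825) (iv F157184)
theorem F165173 : act 6 n35579 = n33872 := d35_2 D33819 D35579 (iv D33872) (iv D31960) (iv F148441)
theorem F165174 : act 9 n35579 = n34031 := d38_2 (iv F157187) D35579 (iv D34031)
def n35580 : Q := act 5 n33820
theorem D35580 : act 5 n33820 = n35580 := rfl
theorem F165175 : act 0 n35580 = n34676 := d4_1 D35580 (iv D34676) (iv F157188)
theorem F165176 : act 1 n35580 = n35580 := d12_1 D35580 (iv D35580) F157189
theorem F165177 : act 3 n35580 = n33821 := d25_1 D35580 (iv D33821) (iv F157190)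
theorem F165178 : act 6 n35580 = n35580 := d35_2 (iv F157192) D35580 (iv D35580) F157192 F148452
theorem F165179 : act 7 n35580 = n34194 := d36_2 F163306 D35580 (iv F163305)
theorem F165180 : act 8 n35580 = n34177 := d37_2 D33820 D35580 F158724 (iv F155333) F155331
def n35581 : Q := act 4 n33821
theorem D35581 : act 4 n33821 = n35581 := rfl
theorem F165181 : act 0 n35581 = n34677 := d3_1 D35581 (iv D34677) (iv F157193)
theorem F165182 : act 1 n35581 = n35581 := d11_1 D35581 (iv D35581) F157194
theorem F165183 : act 5 n35581 = n33826 := d30_2 D33821 D35581 (iv D33826) (iv D31911) (iv F148456)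
theorem F165184 : act 6 n35581 = n35581 := d31_2 F157195 D35581 (iv D35581)
theorem F165185 : act 7 n35581 = n34031 := d32_2 F164979 D35581 (iv F164977)
theorem F165186 : act 3 n34175 = n35581 := d27_3 F165185 F158216 (iv F158718)
def n35582 : Q := act 9 n33821
theorem D35582 : act 9 n33821 = n35582 := rfl
theorem F165187 : act 0 n35582 = n34678 := d8_1 D35582 (iv D34678) (iv F157193)
theorem F165188 : act 1 n35582 = n35582 := d16_1 D35582 (iv D35582) F157194
theorem F165189 : act 5 n35582 = n33822 := d38_1 D35582 (iv D33822) D33821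
theorem F165190 : act 6 n35582 = n35582 := d41_1 D35582 (iv D35582) F157195
def n35583 : Q := act 6 n33823
theorem D35583 : act 6 n33823 = n35583 := rfl
theorem F165191 : act 0 n35583 = n34266 := d5_1 D35583 F159087 (iv F157201)
theorem F165192 : act 3 n35583 = n33824 := d26_1 D35583 (iv D33824) (iv F157202)
theorem F165193 : act 8 n35583 = n34216 := d40_2 (iv F157204) D35583 (iv D34216)
theorem F165194 : act 9 n35583 = n34182 := d41_2 (iv F157205) D35583 (iv D34182)
def n35584 : Q := act 5 n33824
theorem D35584 : act 5 n33824 = n35584 := rfl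
theorem F165195 : act 0 n35584 = n34267 := d4_1 D35584 (iv D34267) (iv F157206)
theorem F165196 : act 2 n35584 = n33825 := d19_1 D35584 (iv D33825) (iv F157207)
theorem F165197 : act 4 n35584 = n33852 := d30_1 D35584 (iv D33852) F148590 (iv F148476) (iv F157208)
theorem F165198 : act 6 n35584 = n33875 := d35_2 D33824 D35584 (iv D33875) (iv D31964) (iv F148471)
theorem F165199 : act 9 n35584 = n34184 := d38_2 (iv F157210) D35584 (iv D34184)
def n35585 : Q := act 6 n33827
theorem D35585 : act 6 n33827 = n35585 := rfl
theorem F165200 : act 0 n35585 = n34679 := d5_1 D35585 (iv D34679) (iv F157222)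
theorem F165201 : act 1 n35585 = n34404 := d13_1 D35585 (iv D34404) (iv F157223)
theorem F165202 : act 3 n35585 = n33829 := d26_1 D35585 (iv D33829) (iv F157224)
theorem F165203 : act 9 n35585 = n33849 := d41_2 (iv F157226) D35585 (iv D33849)
def n35586 : Q := act 8 n33827
theorem D35586 : act 8 n33827 = n35586 := rfl
theorem F165204 : act 0 n35586 = n34323 := d7_1 D35586 F159295 (iv F157222)
theorem F165205 : act 1 n35586 = n34015 := d15_1 D35586 F158162 (iv F157223)
theorem F165206 : act 3 n35586 = n33830 := d28_1 D35586 (iv D33830) (iv F157224)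
theorem F165207 : act 5 n35586 = n33994 := d37_1 D35586 (iv D33994) F149630 (iv F148759) (iv F157225)
theorem F165208 : act 7 n35586 = n33828 := d42_1 D35586 (iv D33828) D33827
def n35587 : Q := act 9 n33828
theorem D35587 : act 9 n33828 = n35587 := rfl
theorem F165209 : act 0 n35587 = n34221 := d8_1 D35587 F158891 (iv F157227)
theorem F165210 : act 1 n35587 = n34018 := d16_1 D35587 (iv D34018) (iv F157228)
theorem F165211 : act 2 n35587 = n34296 := d23_1 D35587 F163377 F163373
theorem F165212 : act 3 n35587 = n33831 := d29_1 D35587 (iv D33831) (iv F157229)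
theorem F165213 : act 5 n35587 = n33995 := d38_1 D35587 (iv D33995) (iv F157230)
theorem F165214 : act 6 n35587 = n34254 := d41_1 D35587 (iv F164992) F164990
theorem F165215 : act 8 n35587 = n33851 := d44_1 D35587 (iv D33851) (iv D31933) (iv F148498) D33828
def n35588 : Q := act 5 n33829
theorem D35588 : act 5 n33829 = n35588 := rfl
theorem F165216 : act 0 n35588 = n34680 := d4_1 D35588 (iv D34680) (iv F157231)
theorem F165217 : act 1 n35588 = n34412 := d12_1 D35588 F159570 (iv F157232)
theorem F165218 : act 2 n35588 = n33834 := d19_1 D35588 (iv D33834) (iv F157233)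
theorem F165219 : act 4 n35588 = n34184 := d30_1 D35588 (iv D34184) F150264 (iv F148513) (iv F157234)
theorem F165220 : act 6 n35588 = n33878 := d35_2 D33829 D35588 (iv D33878) (iv D31967) (iv F148503)
theorem F165221 : act 9 n35588 = n33852 := d38_2 (iv F157235) D35588 (iv D33852)
def n35589 : Q := act 8 n33829
theorem D35589 : act 8 n33829 = n35589 := rfl
theorem F165222 : act 0 n35589 = n34457 := d7_1 D35589 F159799 (iv F157231)
theorem F165223 : act 1 n35589 = n34019 := d15_1 D35589 F158173 (iv F157232)
theorem F165224 : act 2 n35589 = n33835 := d22_1 D35589 (iv D33835) (iv F157233)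
theorem F165225 : act 4 n35589 = n33832 := d33_1 D35589 (iv D33832) (iv F157234)
theorem F165226 : act 6 n35589 = n33830 := d40_1 D35589 (iv D33830) D33829
theorem F165227 : act 5 n34478 = n35589 := d35_5 F165226 F157240 F149653 (iv F151444) D34478
def n35590 : Q := act 9 n33830
theorem D35590 : act 9 n33830 = n35590 := rfl
theorem F165228 : act 0 n35590 = n34450 := d8_1 D35590 F159761 (iv F157236)
theorem F165229 : act 1 n35590 = n34020 := d16_1 D35590 (iv D34020) (iv F157237)
theorem F165230 : act 2 n35590 = n33836 := d23_1 D35590 (iv D33836) (iv F157238)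
theorem F165231 : act 4 n35590 = n33833 := d34_1 D35590 (iv D33833) (iv F157239)
theorem F165232 : act 5 n35590 = n33997 := d38_1 D35590 (iv D33997) (iv F157240)
theorem F165233 : act 7 n35590 = n33831 := d43_1 D35590 (iv D33831) (iv F157241)
theorem F165234 : act 8 n35590 = n33854 := d44_1 D35590 (iv D33854) (iv D31935) (iv F148504) D33830
def n35591 : Q := act 5 n33832
theorem D35591 : act 5 n33832 = n35591 := rfl
theorem F165235 : act 0 n35591 = n34681 := d4_1 D35591 (iv D34681) (iv F157249)
theorem F165236 : act 1 n35591 = n34157 := d12_1 D35591 F158653 (iv F157250)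
theorem F165237 : act 2 n35591 = n33837 := d19_1 D35591 (iv D33837) (iv F157251)
theorem F165238 : act 6 n35591 = n33911 := d35_2 (iv F157252) D35591 (iv D33911) F149071 (iv F148518)
theorem F165239 : act 8 n35591 = n34186 := d37_2 D33832 D35591 (iv D34186) (iv D32309) (iv F148513)
def n35592 : Q := act 9 n33832
theorem D35592 : act 9 n33832 = n35592 := rfl
theorem F165240 : act 0 n35592 = n34682 := d8_1 D35592 (iv D34682) (iv F157249)
theorem F165241 : act 1 n35592 = n34160 := d16_1 D35592 (iv D34160) (iv F157250)
theorem F165242 : act 2 n35592 = n33838 := d23_1 D35592 (iv D33838) (iv F157251)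
theorem F165243 : act 6 n35592 = n33833 := d41_1 D35592 (iv D33833) (iv F157252)
theorem F165244 : act 8 n35592 = n33856 := d44_1 D35592 (iv D33856) (iv D31937) (iv F148514) D33832
def n35593 : Q := act 8 n33834
theorem D35593 : act 8 n33834 = n35593 := rfl
theorem F165245 : act 0 n35593 = n34683 := d7_1 D35593 (iv D34683) (iv F157259)
theorem F165246 : act 1 n35593 = n35593 := d15_1 D35593 (iv D35593) F157260
theorem F165247 : act 3 n35593 = n34193 := d28_1 D35593 F163403 F163399
theorem F165248 : act 4 n35593 = n34188 := d33_1 D35593 (iv D34188) (iv F157261)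
theorem F165249 : act 5 n35593 = n34782 := d37_1 D35593 (iv D34782) F157268 (iv D33835) D33834
theorem F165250 : act 6 n35593 = n33879 := d40_1 D35593 (iv D33879) (iv F157262)
theorem F165251 : act 9 n34192 = n35593 := d41_0 F165250 (iv F157491) (iv F158766)
def n35594 : Q := act 9 n33835
theorem D35594 : act 9 n33835 = n35594 := rfl
theorem F165252 : act 0 n35594 = n34684 := d8_1 D35594 (iv D34684) (iv F157264)
theorem F165253 : act 1 n35594 = n35594 := d16_1 D35594 (iv D35594) F157265
theorem F165254 : act 3 n35594 = n34767 := d29_1 D35594 F163410 F163406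
theorem F165255 : act 4 n35594 = n33838 := d34_1 D35594 (iv D33838) (iv F157266)
theorem F165256 : act 5 n35594 = n34778 := d38_1 D35594 F160944 F157268
theorem F165257 : act 6 n35594 = n33836 := d41_1 D35594 (iv D33836) (iv F157267)
theorem F165258 : act 7 n35594 = n34759 := d43_1 D35594 (iv F165031) F165029
theorem F165259 : act 8 n35594 = n33859 := d44_1 D35594 (iv D33859) (iv D31940) (iv F148528) D33835
def n35595 : Q := act 4 n33837
theorem D35595 : act 4 n33837 = n35595 := rfl
theorem F165260 : act 0 n35595 = n34685 := d3_1 D35595 (iv D34685) (iv F157276)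
theorem F165261 : act 1 n35595 = n35595 := d11_1 D35595 (iv D35595) F157277
theorem F165262 : act 5 n35595 = n34781 := d30_2 D33837 D35595 F160958 F157268 F157266
theorem F165263 : act 6 n35595 = n33914 := d31_2 (iv F157279) D35595 (iv D33914)
theorem F165264 : act 8 n35595 = n34190 := d33_2 (iv F157280) D35595 (iv D34190)
def n35596 : Q := act 9 n33837
theorem D35596 : act 9 n33837 = n35596 := rfl
theorem F165265 : act 0 n35596 = n34686 := d8_1 D35596 (iv D34686) (iv F157276)
theorem F165266 : act 1 n35596 = n35596 := d16_1 D35596 (iv D35596) F157277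
theorem F165267 : act 3 n35596 = n33840 := d29_1 D35596 (iv D33840) (iv F157278)
theorem F165268 : act 5 n35596 = n33838 := d38_1 D35596 (iv D33838) D33837
theorem F165269 : act 6 n35596 = n33915 := d41_1 D35596 (iv D33915) (iv F157279)
def n35597 : Q := act 3 n33839
theorem D35597 : act 3 n33839 = n35597 := rfl
theorem F165270 : act 0 n35597 = n34687 := d2_1 D35597 (iv D34687) (iv F157286)
theorem F165271 : act 1 n35597 = n35597 := d10_1 D35597 (iv D35597) F157287
theorem F165272 : act 6 n35597 = n33885 := d26_2 (iv F157288) D35597 F157516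
theorem F165273 : act 8 n35597 = n34192 := d28_2 (iv F157289) D35597 (iv D34192)
theorem F165274 : act 9 n35597 = n33857 := d29_2 F163513 D35597 (iv F163510)
def n35598 : Q := act 7 n33841
theorem D35598 : act 7 n33841 = n35598 := rfl
theorem F165275 : act 2 n35598 = n33842 := d21_1 D35598 (iv D33842) D33841
theorem F165276 : act 3 n35598 = n35598 := d27_1 D35598 (iv D35598) F157294
theorem F165277 : act 5 n35598 = n33880 := d36_1 D35598 (iv D33880) (iv F157295)
theorem F165278 : act 9 n35598 = n34398 := d43_2 (iv F157296) D35598 F159530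
def n35599 : Q := act 8 n33841
theorem D35599 : act 8 n33841 = n35599 := rfl
theorem F165279 : act 2 n35599 = n33843 := d22_1 D35599 (iv D33843) D33841
theorem F165280 : act 3 n35599 = n35599 := d28_1 D35599 (iv D35599) F157294
theorem F165281 : act 5 n35599 = n35599 := d37_1 D35599 (iv D35599) F157295 F148784 (iv F157295)
def n35600 : Q := act 6 n33842
theorem D35600 : act 6 n33842 = n35600 := rfl
theorem F165282 : act 1 n35600 = n33849 := d13_1 D35600 (iv D33849) (iv F157297)
theorem F165283 : act 3 n35600 = n33844 := d26_1 D35600 (iv D33844) (iv F157298)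
theorem F165284 : act 9 n35600 = n34404 := d41_2 (iv F157300) D35600 (iv D34404)
def n35601 : Q := act 8 n33842
theorem D35601 : act 8 n33842 = n35601 := rfl
theorem F165285 : act 1 n35601 = n33850 := d15_1 D35601 (iv D33850) (iv F157297)
theorem F165286 : act 3 n35601 = n33845 := d28_1 D35601 (iv D33845) (iv F157298)
theorem F165287 : act 5 n35601 = n35601 := d37_1 D35601 (iv D35601) F157299 F148789 (iv F157299)
theorem F165288 : act 7 n35601 = n33843 := d42_1 D35601 (iv D33843) D33842
def n35602 : Q := act 9 n33843
theorem D35602 : act 9 n33843 = n35602 := rfl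
theorem F165289 : act 1 n35602 = n33851 := d16_1 D35602 (iv D33851) (iv F157301)
theorem F165290 : act 3 n35602 = n33846 := d29_1 D35602 (iv D33846) (iv F157302)
theorem F165291 : act 5 n35602 = n35602 := d38_1 D35602 (iv D35602) F157303
theorem F165292 : act 8 n35602 = n34018 := d44_1 D35602 (iv D34018) F149730 (iv F148561) D33843
def n35603 : Q := act 5 n33844
theorem D35603 : act 5 n33844 = n35603 := rfl
theorem F165293 : act 1 n35603 = n33852 := d12_1 D35603 (iv D33852) (iv F157304)
theorem F165294 : act 2 n35603 = n35603 := d19_1 D35603 (iv D35603) F157305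
theorem F165295 : act 6 n35603 = n33882 := d35_2 D33844 D35603 (iv D33882) (iv D31972) (iv F148565)
theorem F165296 : act 9 n35603 = n34412 := d38_2 (iv F157307) D35603 F159570
def n35604 : Q := act 8 n33844
theorem D35604 : act 8 n33844 = n35604 := rfl
theorem F165297 : act 1 n35604 = n33853 := d15_1 D35604 (iv D33853) (iv F157304)
theorem F165298 : act 2 n35604 = n35604 := d22_1 D35604 (iv D35604) F157305
theorem F165299 : act 4 n35604 = n33847 := d33_1 D35604 (iv D33847) (iv F157306)
theorem F165300 : act 6 n35604 = n33845 := d40_1 D35604 (iv D33845) D33844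
def n35605 : Q := act 9 n33845
theorem D35605 : act 9 n33845 = n35605 := rfl
theorem F165301 : act 1 n35605 = n33854 := d16_1 D35605 (iv D33854) (iv F157308)
theorem F165302 : act 2 n35605 = n35605 := d23_1 D35605 (iv D35605) F157309
theorem F165303 : act 4 n35605 = n33848 := d34_1 D35605 (iv D33848) (iv F157310)
theorem F165304 : act 5 n35605 = n35605 := d38_1 D35605 (iv D35605) F157311
theorem F165305 : act 7 n35605 = n33846 := d43_1 D35605 (iv D33846) (iv F157312)
theorem F165306 : act 8 n35605 = n34020 := d44_1 D35605 (iv D34020) F149740 (iv F148566) D33845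
def n35606 : Q := act 9 n33847
theorem D35606 : act 9 n33847 = n35606 := rfl
theorem F165307 : act 1 n35606 = n33856 := d16_1 D35606 (iv D33856) (iv F157318)
theorem F165308 : act 2 n35606 = n35606 := d23_1 D35606 (iv D35606) F157319
theorem F165309 : act 6 n35606 = n33848 := d41_1 D35606 (iv D33848) (iv F157320)
theorem F165310 : act 8 n35606 = n34160 := d44_1 D35606 (iv D34160) F150182 (iv F148573) D33847
def n35607 : Q := act 5 n33849
theorem D35607 : act 5 n33849 = n35607 := rfl
theorem F165311 : act 0 n35607 = n34688 := d4_1 D35607 (iv D34688) (iv F157326)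
theorem F165312 : act 3 n35607 = n33852 := d25_1 D35607 (iv D33852) (iv F157327)
theorem F165313 : act 6 n35607 = n33883 := d35_2 D33849 D35607 (iv D33883) (iv D31973) (iv F148584)
def n35608 : Q := act 8 n33849
theorem D35608 : act 8 n33849 = n35608 := rfl
theorem F165314 : act 0 n35608 = n34689 := d7_1 D35608 (iv D34689) (iv F157326)
theorem F165315 : act 3 n35608 = n33853 := d28_1 D35608 (iv D33853) (iv F157327)
theorem F165316 : act 6 n35608 = n33850 := d40_1 D35608 (iv D33850) D33849
def n35609 : Q := act 9 n33850
theorem D35609 : act 9 n33850 = n35609 := rfl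
theorem F165317 : act 0 n35609 = n34690 := d8_1 D35609 (iv D34690) (iv F157328)
theorem F165318 : act 3 n35609 = n33854 := d29_1 D35609 (iv D33854) (iv F157329)
theorem F165319 : act 5 n35609 = n35609 := d38_1 D35609 (iv D35609) F157330
theorem F165320 : act 7 n35609 = n33851 := d43_1 D35609 (iv D33851) (iv F157331)
def n35610 : Q := act 8 n33852
theorem D35610 : act 8 n33852 = n35610 := rfl
theorem F165321 : act 0 n35610 = n34691 := d7_1 D35610 (iv D34691) (iv F157335)
theorem F165322 : act 2 n35610 = n33857 := d22_1 D35610 (iv D33857) (iv F157336)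
theorem F165323 : act 6 n35610 = n33884 := d40_1 D35610 (iv D33884) (iv F157337)
def n35611 : Q := act 5 n33853
theorem D35611 : act 5 n33853 = n35611 := rfl
theorem F165324 : act 0 n35611 = n34692 := d4_1 D35611 (iv D34692) (iv F157338)
theorem F165325 : act 2 n35611 = n33858 := d19_1 D35611 (iv D33858) (iv F157339)
theorem F165326 : act 4 n35611 = n34111 := d30_1 D35611 (iv D34111) F157352 (iv D33855) (iv F157340)
theorem F165327 : act 6 n35611 = n35611 := d35_2 (iv F157341) D35611 (iv D35611) F157341 F148594
theorem F165328 : act 7 n35611 = n34134 := d36_2 F165120 D35611 F165121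
def n35612 : Q := act 9 n33853
theorem D35612 : act 9 n33853 = n35612 := rfl
theorem F165329 : act 0 n35612 = n34693 := d8_1 D35612 (iv D34693) (iv F157338)
theorem F165330 : act 2 n35612 = n33859 := d23_1 D35612 (iv D33859) (iv F157339)
theorem F165331 : act 4 n35612 = n33856 := d34_1 D35612 (iv D33856) (iv F157340)
theorem F165332 : act 6 n35612 = n33854 := d41_1 D35612 (iv D33854) (iv F157341)
def n35613 : Q := act 9 n33855
theorem D35613 : act 9 n33855 = n35613 := rfl
theorem F165333 : act 0 n35613 = n34529 := d8_1 D35613 (iv D34529) (iv F157347)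
theorem F165334 : act 2 n35613 = n33860 := d23_1 D35613 (iv D33860) (iv F157348)
theorem F165335 : act 4 n35613 = n34112 := d34_1 D35613 (iv D34112) F157352
theorem F165336 : act 5 n35613 = n33856 := d38_1 D35613 (iv D33856) D33855
theorem F165337 : act 6 n35613 = n33861 := d41_1 D35613 (iv D33861) (iv F157349)
theorem F165338 : act 7 n35613 = n34014 := d43_1 D35613 (iv D34014) (iv F157350)
def n35614 : Q := act 9 n33858
theorem D35614 : act 9 n33858 = n35614 := rfl
theorem F165339 : act 0 n35614 = n34694 := d8_1 D35614 (iv D34694) (iv F157359)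
theorem F165340 : act 1 n35614 = n35614 := d16_1 D35614 (iv D35614) F157360
theorem F165341 : act 4 n35614 = n34177 := d34_1 D35614 (iv D34177) (iv F157361)
theorem F165342 : act 5 n35614 = n33859 := d38_1 D35614 (iv D33859) D33858
theorem F165343 : act 6 n35614 = n35614 := d41_1 D35614 (iv D35614) F157362
theorem F165344 : act 7 n35614 = n34193 := d43_1 D35614 (iv D34193) (iv F157363)
def n35615 : Q := act 3 n33862
theorem D35615 : act 3 n33862 = n35615 := rfl
theorem F165345 : act 0 n35615 = n33865 := d2_1 D35615 (iv D33865) (iv F157380)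
theorem F165346 : act 1 n35615 = n34278 := d10_1 D35615 F159140 (iv F157381)
theorem F165347 : act 4 n35615 = n33924 := d24_2 D33862 D35615 F157751 (iv D32641) (iv F148668)
theorem F165348 : act 6 n35615 = n35615 := d26_2 F157383 D35615 (iv D35615)
theorem F165349 : act 8 n35615 = n33922 := d28_2 F157385 D35615 F157740
theorem F165350 : act 9 n35615 = n34034 := d29_2 (iv F157384) D35615 (iv D34034)
theorem F165351 : act 2 n33926 = n35615 := d22_3 F165349 F157739 D33926
def n35616 : Q := act 7 n33862
theorem D35616 : act 7 n33862 = n35616 := rfl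
theorem F165352 : act 0 n35616 = n33866 := d6_1 D35616 (iv D33866) (iv F157380)
theorem F165353 : act 1 n35616 = n34024 := d14_1 D35616 F158193 (iv F157381)
theorem F165354 : act 2 n35616 = n35616 := d21_1 D35616 (iv D35616) F157382
theorem F165355 : act 4 n35616 = n33863 := d32_1 D35616 (iv D33863) D33862
theorem F165356 : act 8 n35616 = n34745 := d42_2 F157385 D35616 (iv D34745)
theorem F165357 : act 9 n35616 = n33998 := d43_2 (iv F157384) D35616 F158113
theorem F165358 : act 6 n34083 = n35616 := d41_3 F165357 F158112 D34083
def n35617 : Q := act 8 n33863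
theorem D35617 : act 8 n33863 = n35617 := rfl
theorem F165359 : act 0 n35617 = n33868 := d7_1 D35617 (iv D33868) (iv F157386)
theorem F165360 : act 1 n35617 = n34025 := d15_1 D35617 (iv D34025) (iv F157387)
theorem F165361 : act 2 n35617 = n35617 := d22_1 D35617 (iv D35617) F157388
theorem F165362 : act 3 n35617 = n34502 := d28_1 D35617 (iv D34502) (iv F157389)
theorem F165363 : act 4 n35617 = n34745 := d33_1 D35617 (iv F165356) F165355
theorem F165364 : act 5 n35617 = n35617 := d37_1 D35617 (iv D35617) F157390 F148676 (iv F157390)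
theorem F165365 : act 6 n35617 = n34084 := d40_1 D35617 (iv D34084) F157392
theorem F165366 : act 7 n35617 = n33864 := d42_1 D35617 (iv D33864) D33863
theorem F165367 : act 9 n35617 = n35617 := d44_2 (iv F157391) D35617 (iv D35617) F157391 F149675
def n35618 : Q := act 7 n33865
theorem D35618 : act 7 n33865 = n35618 := rfl
theorem F165368 : act 1 n35618 = n33869 := d14_1 D35618 (iv D33869) (iv F157401)
theorem F165369 : act 2 n35618 = n34271 := d21_1 D35618 F159110 F157406
theorem F165370 : act 3 n35618 = n33866 := d27_1 D35618 (iv D33866) D33865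
theorem F165371 : act 4 n35618 = n34269 := d32_1 D35618 F159100 (iv F157402)
theorem F165372 : act 8 n35618 = n34217 := d42_2 (iv F157404) D35618 (iv D34217)
theorem F165373 : act 9 n35618 = n34036 := d43_2 (iv F157405) D35618 (iv D34036)
def n35619 : Q := act 6 n33866
theorem D35619 : act 6 n33866 = n35619 := rfl
theorem F165374 : act 0 n35619 = n34083 := d5_1 D35619 F165358 F165352
theorem F165375 : act 1 n35619 = n33870 := d13_1 D35619 (iv D33870) (iv F157407)
theorem F165376 : act 2 n35619 = n35619 := d20_1 D35619 (iv D35619) F157408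
theorem F165377 : act 4 n35619 = n33867 := d31_1 D35619 (iv D33867) (iv F157409)
theorem F165378 : act 7 n35619 = n35619 := d39_2 D33866 D35619 (iv D35619) (iv D33866) F148680
theorem F165379 : act 8 n35619 = n34746 := d40_2 (iv F157410) D35619 (iv D34746)
theorem F165380 : act 9 n35619 = n34037 := d41_2 (iv F157411) D35619 (iv D34037)
def n35620 : Q := act 8 n33867
theorem D35620 : act 8 n33867 = n35620 := rfl
theorem F165381 : act 0 n35620 = n34084 := d7_1 D35620 (iv D34084) (iv F157412)
theorem F165382 : act 1 n35620 = n33871 := d15_1 D35620 (iv D33871) (iv F157413)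
theorem F165383 : act 2 n35620 = n35620 := d22_1 D35620 (iv D35620) F157414
theorem F165384 : act 3 n35620 = n34504 := d28_1 D35620 (iv D34504) (iv F157415)
theorem F165385 : act 4 n35620 = n34746 := d33_1 D35620 (iv F165379) F165377
theorem F165386 : act 5 n35620 = n34207 := d37_1 D35620 (iv D34207) F150387 (iv F149900) (iv F157416)
theorem F165387 : act 6 n35620 = n33868 := d40_1 D35620 (iv D33868) D33867
theorem F165388 : act 7 n35620 = n35620 := d42_1 D35620 (iv D35620) F157417
theorem F165389 : act 9 n35620 = n35620 := d44_2 (iv F157418) D35620 (iv D35620) F157418 F149823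
def n35621 : Q := act 6 n33869
theorem D35621 : act 6 n33869 = n35621 := rfl
theorem F165390 : act 0 n35621 = n34283 := d5_1 D35621 F159161 (iv F157426)
theorem F165391 : act 2 n35621 = n33874 := d20_1 D35621 (iv D33874) (iv F157427)
theorem F165392 : act 3 n35621 = n33870 := d26_1 D35621 (iv D33870) (iv F157428)
theorem F165393 : act 4 n35621 = n34505 := d31_1 D35621 (iv D34505) (iv F157429)
theorem F165394 : act 7 n35621 = n35621 := d39_2 D33869 D35621 (iv D35621) (iv D33869) F148698
theorem F165395 : act 8 n35621 = n34219 := d40_2 (iv F157430) D35621 (iv D34219)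
theorem F165396 : act 9 n35621 = n34038 := d41_2 (iv F157431) D35621 (iv D34038)
def n35622 : Q := act 5 n33870
theorem D35622 : act 5 n33870 = n35622 := rfl
theorem F165397 : act 0 n35622 = n34695 := d4_1 D35622 (iv D34695) (iv F157432)
theorem F165398 : act 2 n35622 = n33872 := d19_1 D35622 (iv D33872) (iv F157433)
theorem F165399 : act 7 n35622 = n35622 := d36_2 F157435 D35622 (iv D35622)
theorem F165400 : act 9 n35622 = n34039 := d38_2 (iv F157437) D35622 (iv D34039)
def n35623 : Q := act 8 n33872
theorem D35623 : act 8 n33872 = n35623 := rfl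
theorem F165401 : act 0 n35623 = n34696 := d7_1 D35623 (iv D34696) (iv F157445)
theorem F165402 : act 1 n35623 = n35623 := d15_1 D35623 (iv D35623) F157446
theorem F165403 : act 3 n35623 = n33876 := d28_1 D35623 (iv D33876) (iv F157447)
theorem F165404 : act 4 n35623 = n33915 := d33_1 D35623 (iv F163565) F163563
theorem F165405 : act 5 n35623 = n34743 := d37_1 D35623 (iv D34743) F152527 (iv F148723) D33872
theorem F165406 : act 7 n35623 = n35623 := d42_1 D35623 (iv D35623) F157448
theorem F165407 : act 9 n35623 = n33914 := d44_2 (iv F157449) D35623 F157688 F158263 (iv D34040)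
def n35624 : Q := act 4 n33873
theorem D35624 : act 4 n33873 = n35624 := rfl
theorem F165408 : act 0 n35624 = n34697 := d3_1 D35624 (iv D34697) (iv F157450)
theorem F165409 : act 1 n35624 = n35624 := d11_1 D35624 (iv D35624) F157451
theorem F165410 : act 2 n35624 = n34208 := d18_1 D35624 (iv F161953) F161951
theorem F165411 : act 3 n35624 = n35624 := d24_1 D35624 (iv D35624) F157452 F148735 (iv F157452)
theorem F165412 : act 5 n35624 = n34742 := d30_2 D33873 D35624 F160716 F152527 (iv F148728)
theorem F165413 : act 6 n35624 = n35624 := d31_2 F157453 D35624 (iv D35624)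
theorem F165414 : act 7 n35624 = n35624 := d32_2 F157454 D35624 (iv D35624)
theorem F165415 : act 8 n35624 = n33916 := d33_2 (iv F160977) D35624 (iv F160973)
theorem F165416 : act 9 n35624 = n35624 := d34_2 F157455 D35624 (iv D35624)
def n35625 : Q := act 5 n33874
theorem D35625 : act 5 n33874 = n35625 := rfl
theorem F165417 : act 0 n35625 = n34285 := d4_1 D35625 (iv D34285) (iv F157456)
theorem F165418 : act 3 n35625 = n33875 := d25_1 D35625 (iv D33875) (iv F157457)
theorem F165419 : act 7 n35625 = n35625 := d36_2 F157459 D35625 (iv D35625)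
theorem F165420 : act 9 n35625 = n34204 := d38_2 (iv F157461) D35625 (iv D34204)
def n35626 : Q := act 8 n33875
theorem D35626 : act 8 n33875 = n35626 := rfl
theorem F165421 : act 0 n35626 = n34275 := d7_1 D35626 F159125 (iv F157462)
theorem F165422 : act 1 n35626 = n33958 := d15_1 D35626 (iv F162041) F162037
theorem F165423 : act 2 n35626 = n33876 := d22_1 D35626 (iv D33876) (iv F157463)
theorem F165424 : act 4 n35626 = n33884 := d33_1 D35626 (iv D33884) (iv F157464)
theorem F165425 : act 5 n35626 = n33930 := d37_1 D35626 (iv D33930) F149238 (iv F148748) D33875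
theorem F165426 : act 7 n35626 = n35626 := d42_1 D35626 (iv D35626) F157465
def n35627 : Q := act 9 n33876
theorem D35627 : act 9 n33876 = n35627 := rfl
theorem F165427 : act 0 n35627 = n34698 := d8_1 D35627 (iv D34698) (iv F157467)
theorem F165428 : act 1 n35627 = n35627 := d16_1 D35627 (iv D35627) F157468
theorem F165429 : act 3 n35627 = n33914 := d29_1 D35627 (iv F165407) F165403
theorem F165430 : act 4 n35627 = n33885 := d34_1 D35627 (iv D33885) (iv F157469)
theorem F165431 : act 5 n35627 = n34744 := d38_1 D35627 (iv D34744) (iv F157470)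
theorem F165432 : act 7 n35627 = n35627 := d43_1 D35627 (iv D35627) F157471
theorem F165433 : act 8 n35627 = n34197 := d44_1 D35627 F158783 (iv D32332) (iv F148754) D33876
def n35628 : Q := act 5 n33877
theorem D35628 : act 5 n33877 = n35628 := rfl
theorem F165434 : act 0 n35628 = n34699 := d4_1 D35628 (iv D34699) (iv F157472)
theorem F165435 : act 1 n35628 = n34403 := d12_1 D35628 (iv D34403) (iv F157473)
theorem F165436 : act 3 n35628 = n33878 := d25_1 D35628 (iv D33878) (iv F157474)
theorem F165437 : act 7 n35628 = n35628 := d36_2 F157476 D35628 (iv D35628)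
theorem F165438 : act 9 n35628 = n33883 := d38_2 (iv F157478) D35628 (iv D33883)
def n35629 : Q := act 8 n33878
theorem D35629 : act 8 n33878 = n35629 := rfl
theorem F165439 : act 0 n35629 = n34496 := d7_1 D35629 F159946 (iv F157479)
theorem F165440 : act 1 n35629 = n34411 := d15_1 D35629 F159568 (iv F157480)
theorem F165441 : act 2 n35629 = n33879 := d22_1 D35629 (iv D33879) (iv F157481)
theorem F165442 : act 4 n35629 = n34205 := d33_1 D35629 (iv D34205) (iv F157482)
theorem F165443 : act 5 n35629 = n34200 := d37_1 D35629 (iv F158796) (iv D32423) (iv F148766) D33878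
theorem F165444 : act 7 n35629 = n35629 := d42_1 D35629 (iv D35629) F157483
theorem F165445 : act 9 n34198 = n35629 := d38_0 F165443 (iv D34200) (iv F158784)
def n35630 : Q := act 6 n33880
theorem D35630 : act 6 n33880 = n35630 := rfl
theorem F165446 : act 2 n35630 = n33881 := d20_1 D35630 (iv D33881) (iv F157492)
theorem F165447 : act 3 n35630 = n35630 := d26_1 D35630 (iv D35630) F157493
theorem F165448 : act 4 n35630 = n34401 := d31_1 D35630 F159539 (iv F157494)
theorem F165449 : act 7 n35630 = n35630 := d39_2 D33880 D35630 (iv D35630) (iv D33880) F148783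
theorem F165450 : act 8 n35630 = n35630 := d40_2 F157495 D35630 (iv D35630)
theorem F165451 : act 9 n35630 = n34397 := d41_2 (iv F157496) D35630 F159526
def n35631 : Q := act 5 n33881
theorem D35631 : act 5 n33881 = n35631 := rfl
theorem F165452 : act 1 n35631 = n33883 := d12_1 D35631 (iv D33883) (iv F157497)
theorem F165453 : act 3 n35631 = n33882 := d25_1 D35631 (iv D33882) (iv F157498)
theorem F165454 : act 7 n35631 = n35631 := d36_2 F157500 D35631 (iv D35631)
theorem F165455 : act 9 n35631 = n34403 := d38_2 (iv F157502) D35631 (iv D34403)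
def n35632 : Q := act 8 n33882
theorem D35632 : act 8 n33882 = n35632 := rfl
theorem F165456 : act 0 n35632 = n34730 := d7_1 D35632 (iv F162218) F162213
theorem F165457 : act 1 n35632 = n33884 := d15_1 D35632 (iv D33884) (iv F157503)
theorem F165458 : act 2 n35632 = n35632 := d22_1 D35632 (iv D35632) F157504
theorem F165459 : act 4 n35632 = n33958 := d33_1 D35632 (iv F162041) F162039
theorem F165460 : act 5 n35632 = n35632 := d37_1 D35632 (iv D35632) (iv D33882) F148795 D33882
theorem F165461 : act 7 n35632 = n35632 := d42_1 D35632 (iv D35632) F157505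
def n35633 : Q := act 4 n33883
theorem D35633 : act 4 n33883 = n35633 := rfl
theorem F165462 : act 0 n35633 = n34700 := d3_1 D35633 (iv D34700) (iv F157507)
theorem F165463 : act 7 n35633 = n35633 := d32_2 F157509 D35633 (iv D35633)
def n35634 : Q := act 8 n33883
theorem D35634 : act 8 n33883 = n35634 := rfl
theorem F165464 : act 0 n35634 = n34701 := d7_1 D35634 (iv D34701) (iv F157507)
theorem F165465 : act 3 n35634 = n33884 := d28_1 D35634 (iv D33884) (iv F157508)
theorem F165466 : act 5 n35634 = n35634 := d37_1 D35634 (iv D35634) (iv D33883) F148800 D33883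
theorem F165467 : act 7 n35634 = n35634 := d42_1 D35634 (iv D35634) F157509
def n35635 : Q := act 9 n33884
theorem D35635 : act 9 n33884 = n35635 := rfl
theorem F165468 : act 0 n35635 = n34702 := d8_1 D35635 (iv D34702) (iv F157510)
theorem F165469 : act 2 n35635 = n33885 := d23_1 D35635 (iv D33885) (iv F157511)
theorem F165470 : act 5 n35635 = n35635 := d38_1 D35635 (iv D35635) F157512
theorem F165471 : act 7 n35635 = n35635 := d43_1 D35635 (iv D35635) F157513
theorem F165472 : act 8 n35635 = n34198 := d44_1 D35635 F165445 (iv D35629) F157484 D33884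
def n35636 : Q := act 8 n33888
theorem D35636 : act 8 n33888 = n35636 := rfl
theorem F165473 : act 0 n35636 = n33896 := d7_1 D35636 (iv D33896) (iv F157534)
theorem F165474 : act 1 n35636 = n34143 := d15_1 D35636 F158613 (iv F157535)
theorem F165475 : act 2 n35636 = n34710 := d22_1 D35636 (iv D34710) (iv F157536)
theorem F165476 : act 3 n35636 = n33890 := d28_1 D35636 (iv D33890) (iv F157537)
theorem F165477 : act 6 n35636 = n33889 := d40_1 D35636 (iv D33889) D33888
theorem F165478 : act 7 n35636 = n35636 := d42_1 D35636 (iv D35636) F157539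
theorem F165479 : act 9 n35636 = n34136 := d44_2 (iv F157540) D35636 (iv D34136) F150110 (iv F148874)
def n35637 : Q := act 5 n33890
theorem D35637 : act 5 n33890 = n35637 := rfl
theorem F165480 : act 0 n35637 = n33897 := d4_1 D35637 (iv D33897) (iv F157546)
theorem F165481 : act 1 n35637 = n34196 := d12_1 D35637 F158777 (iv F157547)
theorem F165482 : act 2 n35637 = n35637 := d19_1 D35637 (iv D35637) F157548
theorem F165483 : act 7 n35637 = n35637 := d36_2 F157551 D35637 (iv D35637)
theorem F165484 : act 8 n35637 = n34050 := d37_2 D33890 D35637 (iv D34050) (iv D32190) (iv F148836)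
theorem F165485 : act 9 n35637 = n34155 := d38_2 (iv F157552) D35637 (iv D34155)
def n35638 : Q := act 8 n33891
theorem D35638 : act 8 n33891 = n35638 := rfl
theorem F165486 : act 0 n35638 = n34710 := d7_1 D35638 (iv D34710) (iv F157553)
theorem F165487 : act 1 n35638 = n34137 := d15_1 D35638 (iv D34137) (iv F157554)
theorem F165488 : act 2 n35638 = n33896 := d22_1 D35638 (iv D33896) (iv F157555)
theorem F165489 : act 3 n35638 = n35638 := d28_1 D35638 (iv D35638) F157556
theorem F165490 : act 4 n35638 = n34136 := d33_1 D35638 (iv D34136) (iv F157557)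
theorem F165491 : act 6 n35638 = n33892 := d40_1 D35638 (iv D33892) D33891
theorem F165492 : act 7 n35638 = n35638 := d42_1 D35638 (iv D35638) F157559
def n35639 : Q := act 8 n33893
theorem D35639 : act 8 n33893 = n35639 := rfl
theorem F165493 : act 1 n35639 = n33900 := d15_1 D35639 (iv D33900) (iv F157566)
theorem F165494 : act 2 n35639 = n34136 := d22_1 D35639 (iv D34136) (iv F157567)
theorem F165495 : act 3 n35639 = n35639 := d28_1 D35639 (iv D35639) F157568
theorem F165496 : act 4 n35639 = n33896 := d33_1 D35639 (iv D33896) (iv F157569)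
theorem F165497 : act 6 n35639 = n33894 := d40_1 D35639 (iv D33894) D33893
theorem F165498 : act 7 n35639 = n35639 := d42_1 D35639 (iv D35639) F157571
theorem F165499 : act 9 n35639 = n34710 := d44_2 (iv F157572) D35639 (iv D34710) F152369 (iv F148967)
def n35640 : Q := act 5 n33894
theorem D35640 : act 5 n33894 = n35640 := rfl
theorem F165500 : act 1 n35640 = n33901 := d12_1 D35640 (iv D33901) (iv F157573)
theorem F165501 : act 2 n35640 = n34117 := d19_1 D35640 F158529 (iv F157574)
theorem F165502 : act 3 n35640 = n35640 := d25_1 D35640 (iv D35640) F157575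
theorem F165503 : act 7 n35640 = n33895 := d36_2 (iv F157577) D35640 (iv D33895)
theorem F165504 : act 8 n35640 = n34065 := d37_2 D33894 D35640 F158363 F149939 (iv F148929)
def n35641 : Q := act 6 n33895
theorem D35641 : act 6 n33895 = n35641 := rfl
theorem F165505 : act 1 n35641 = n33903 := d13_1 D35641 (iv D33903) (iv F157578)
theorem F165506 : act 2 n35641 = n34099 := d20_1 D35641 F158481 (iv F157579)
theorem F165507 : act 3 n35641 = n35641 := d26_1 D35641 (iv D35641) F157580
theorem F165508 : act 5 n35641 = n35641 := d35_1 D35641 (iv D35641) (iv D33895) F148935 D33895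
theorem F165509 : act 8 n35641 = n34053 := d40_2 (iv F157581) D35641 F158322
theorem F165510 : act 9 n35641 = n34290 := d41_2 F163824 D35641 (iv F163823)
def n35642 : Q := act 5 n33896
theorem D35642 : act 5 n33896 = n35642 := rfl
theorem F165511 : act 1 n35642 = n33905 := d12_1 D35642 (iv D33905) (iv F157582)
theorem F165512 : act 3 n35642 = n33897 := d25_1 D35642 (iv D33897) (iv F157583)
theorem F165513 : act 7 n35642 = n35642 := d36_2 F157585 D35642 (iv D35642)
theorem F165514 : act 8 n35642 = n34076 := d37_2 D33896 D35642 (iv D34076) (iv D32215) (iv F148938)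
def n35643 : Q := act 4 n33897
theorem D35643 : act 4 n33897 = n35643 := rfl
theorem F165515 : act 1 n35643 = n33907 := d11_1 D35643 (iv D33907) (iv F157586)
theorem F165516 : act 2 n35643 = n35643 := d18_1 D35643 (iv D35643) F157587
theorem F165517 : act 5 n35643 = n35643 := d30_2 D33897 D35643 (iv D35643) (iv D33897) F148951
theorem F165518 : act 7 n35643 = n35643 := d32_2 F157588 D35643 (iv D35643)
theorem F165519 : act 8 n35643 = n34078 := d33_2 (iv F157589) D35643 (iv D34078)
def n35644 : Q := act 5 n33898
theorem D35644 : act 5 n33898 = n35644 := rfl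
theorem F165520 : act 0 n35644 = n34708 := d4_1 D35644 (iv D34708) (iv F157590)
theorem F165521 : act 1 n35644 = n34144 := d12_1 D35644 (iv D34144) (iv F157591)
theorem F165522 : act 2 n35644 = n33905 := d19_1 D35644 (iv D33905) (iv F157592)
theorem F165523 : act 3 n35644 = n33911 := d25_1 D35644 (iv D33911) (iv F157593)
theorem F165524 : act 7 n35644 = n35644 := d36_2 F157596 D35644 (iv D35644)
theorem F165525 : act 8 n35644 = n34142 := d37_2 D33898 D35644 (iv D34142) (iv D32267) (iv F148977)
def n35645 : Q := act 9 n33898
theorem D35645 : act 9 n33898 = n35645 := rfl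
theorem F165526 : act 0 n35645 = n34709 := d8_1 D35645 (iv D34709) (iv F157590)
theorem F165527 : act 1 n35645 = n34145 := d16_1 D35645 (iv D34145) (iv F157591)
theorem F165528 : act 2 n35645 = n33906 := d23_1 D35645 (iv D33906) (iv F157592)
theorem F165529 : act 3 n35645 = n33912 := d29_1 D35645 (iv D33912) (iv F157593)
theorem F165530 : act 4 n35645 = n34077 := d34_1 D35645 (iv D34077) (iv F157594)
theorem F165531 : act 6 n35645 = n33899 := d41_1 D35645 (iv D33899) (iv F157595)
theorem F165532 : act 7 n35645 = n35645 := d43_1 D35645 (iv D35645) F157596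
theorem F165533 : act 8 n35645 = n33909 := d44_1 D35645 (iv D33909) (iv D32013) (iv F148979) D33898
def n35646 : Q := act 5 n33900
theorem D35646 : act 5 n33900 = n35646 := rfl
theorem F165534 : act 0 n35646 = n34711 := d4_1 D35646 (iv D34711) (iv F157604)
theorem F165535 : act 2 n35646 = n34076 := d19_1 D35646 (iv D34076) (iv F157605)
theorem F165536 : act 3 n35646 = n35646 := d25_1 D35646 (iv D35646) F157606
theorem F165537 : act 7 n35646 = n35646 := d36_2 F157609 D35646 (iv D35646)
def n35647 : Q := act 9 n33900
theorem D35647 : act 9 n33900 = n35647 := rfl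
theorem F165538 : act 0 n35647 = n34712 := d8_1 D35647 (iv D34712) (iv F157604)
theorem F165539 : act 1 n35647 = n34710 := d16_1 D35647 (iv F165499) F165493
theorem F165540 : act 2 n35647 = n34077 := d23_1 D35647 (iv D34077) (iv F157605)
theorem F165541 : act 3 n35647 = n35647 := d29_1 D35647 (iv D35647) F157606
theorem F165542 : act 4 n35647 = n33906 := d34_1 D35647 (iv D33906) (iv F157607)
theorem F165543 : act 6 n35647 = n33902 := d41_1 D35647 (iv D33902) (iv F157608)
theorem F165544 : act 7 n35647 = n35647 := d43_1 D35647 (iv D35647) F157609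
theorem F165545 : act 8 n35647 = n33910 := d44_1 D35647 (iv D33910) (iv D32015) (iv F148998) D33900
def n35648 : Q := act 6 n33901
theorem D35648 : act 6 n33901 = n35648 := rfl
theorem F165546 : act 0 n35648 = n34713 := d5_1 D35648 (iv D34713) (iv F157610)
theorem F165547 : act 2 n35648 = n34072 := d20_1 D35648 F158380 (iv F157611)
theorem F165548 : act 3 n35648 = n35648 := d26_1 D35648 (iv D35648) F157612
theorem F165549 : act 8 n35648 = n34068 := d40_2 (iv F157614) D35648 (iv D34068)
def n35649 : Q := act 9 n33901
theorem D35649 : act 9 n33901 = n35649 := rfl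
theorem F165550 : act 0 n35649 = n34714 := d8_1 D35649 (iv D34714) (iv F157610)
theorem F165551 : act 2 n35649 = n34073 := d23_1 D35649 (iv D34073) (iv F157611)
theorem F165552 : act 3 n35649 = n35649 := d29_1 D35649 (iv D35649) F157612
theorem F165553 : act 5 n35649 = n33902 := d38_1 D35649 (iv D33902) D33901
theorem F165554 : act 7 n35649 = n33904 := d43_1 D35649 (iv D33904) (iv F157613)
def n35650 : Q := act 7 n33903
theorem D35650 : act 7 n33903 = n35650 := rfl
theorem F165555 : act 0 n35650 = n34715 := d6_1 D35650 (iv D34715) (iv F157621)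
theorem F165556 : act 2 n35650 = n34060 := d21_1 D35650 F158344 (iv F157622)
theorem F165557 : act 3 n35650 = n35650 := d27_1 D35650 (iv D35650) F157623
theorem F165558 : act 5 n35650 = n35650 := d36_1 D35650 (iv D35650) F157624
theorem F165559 : act 8 n35650 = n34056 := d42_2 (iv F157625) D35650 (iv D34056)
def n35651 : Q := act 9 n33903
theorem D35651 : act 9 n33903 = n35651 := rfl
theorem F165560 : act 0 n35651 = n34716 := d8_1 D35651 (iv D34716) (iv F157621)
theorem F165561 : act 1 n35651 = n34290 := d16_1 D35651 (iv F165510) F165505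
theorem F165562 : act 2 n35651 = n34061 := d23_1 D35651 (iv D34061) (iv F157622)
theorem F165563 : act 3 n35651 = n35651 := d29_1 D35651 (iv D35651) F157623
theorem F165564 : act 5 n35651 = n35651 := d38_1 D35651 (iv D35651) F157624
theorem F165565 : act 6 n35651 = n33904 := d41_1 D35651 (iv D33904) D33903
theorem F165566 : act 8 n35651 = n34286 := d44_1 D35651 (iv F163660) F163659 F156043 (iv F157625)
def n35652 : Q := act 4 n33905
theorem D35652 : act 4 n33905 = n35652 := rfl
theorem F165567 : act 0 n35652 = n34717 := d3_1 D35652 (iv D34717) (iv F157630)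
theorem F165568 : act 7 n35652 = n35652 := d32_2 F157632 D35652 (iv D35652)
theorem F165569 : act 8 n35652 = n34150 := d33_2 (iv F157633) D35652 (iv D34150)
def n35653 : Q := act 9 n33905
theorem D35653 : act 9 n33905 = n35653 := rfl
theorem F165570 : act 0 n35653 = n34718 := d8_1 D35653 (iv D34718) (iv F157630)
theorem F165571 : act 3 n35653 = n33908 := d29_1 D35653 (iv D33908) (iv F157631)
theorem F165572 : act 5 n35653 = n33906 := d38_1 D35653 (iv D33906) D33905
theorem F165573 : act 7 n35653 = n35653 := d43_1 D35653 (iv D35653) F157632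
def n35654 : Q := act 3 n33907
theorem D35654 : act 3 n33907 = n35654 := rfl
theorem F165574 : act 0 n35654 = n34719 := d2_1 D35654 (iv D34719) (iv F157639)
theorem F165575 : act 5 n35654 = n35654 := d25_2 F157641 D35654 (iv D35654)
theorem F165576 : act 7 n35654 = n35654 := d27_2 F157642 D35654 (iv D35654)
theorem F165577 : act 8 n35654 = n34152 := d28_2 (iv F157643) D35654 (iv D34152)
def n35655 : Q := act 4 n33911
theorem D35655 : act 4 n33911 = n35655 := rfl
theorem F165578 : act 0 n35655 = n34510 := d3_1 D35655 F160011 (iv F157663)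
theorem F165579 : act 1 n35655 = n34156 := d11_1 D35655 (iv D34156) (iv F157664)
theorem F165580 : act 2 n35655 = n33914 := d18_1 D35655 (iv D33914) (iv F157665)
theorem F165581 : act 5 n35655 = n34080 := d30_2 D33911 D35655 (iv D34080) (iv D32219) (iv F149070)
theorem F165582 : act 7 n35655 = n35655 := d32_2 F157666 D35655 (iv D35655)
theorem F165583 : act 8 n35655 = n34195 := d33_2 (iv F157667) D35655 (iv D34195)
def n35656 : Q := act 9 n33911
theorem D35656 : act 9 n33911 = n35656 := rfl
theorem F165584 : act 0 n35656 = n34720 := d8_1 D35656 (iv D34720) (iv F157663)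
theorem F165585 : act 1 n35656 = n34158 := d16_1 D35656 (iv D34158) (iv F157664)
theorem F165586 : act 2 n35656 = n33915 := d23_1 D35656 (iv D33915) (iv F157665)
theorem F165587 : act 5 n35656 = n33912 := d38_1 D35656 (iv D33912) D33911
theorem F165588 : act 7 n35656 = n35656 := d43_1 D35656 (iv D35656) F157666
def n35657 : Q := act 7 n33919
theorem D35657 : act 7 n33919 = n35657 := rfl
theorem F165589 : act 0 n35657 = n33921 := d6_1 D35657 (iv D33921) (iv F157717)
theorem F165590 : act 1 n35657 = n33991 := d14_1 D35657 (iv D33991) (iv F157718)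
theorem F165591 : act 2 n35657 = n33940 := d21_1 D35657 F157844 (iv F157719)
theorem F165592 : act 3 n35657 = n34739 := d27_1 D35657 (iv D34739) (iv F157720)
theorem F165593 : act 4 n35657 = n33933 := d32_1 D35657 (iv D33933) (iv F157721)
theorem F165594 : act 5 n35657 = n34279 := d36_1 D35657 (iv D34279) F157723
theorem F165595 : act 6 n35657 = n33936 := d39_1 D35657 (iv D33936) F149296 (iv F149201) D33919
theorem F165596 : act 9 n35657 = n35657 := d43_2 F157722 D35657 (iv D35657)
def n35658 : Q := act 7 n33920
theorem D35658 : act 7 n33920 = n35658 := rfl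
theorem F165597 : act 0 n35658 = n34279 := d6_1 D35658 (iv D34279) (iv F157724)
theorem F165598 : act 1 n35658 = n33923 := d14_1 D35658 (iv D33923) (iv F157725)
theorem F165599 : act 2 n35658 = n33947 := d21_1 D35658 (iv D33947) (iv F157726)
theorem F165600 : act 3 n35658 = n34740 := d27_1 D35658 (iv D34740) (iv F157727)
theorem F165601 : act 4 n35658 = n34277 := d32_1 D35658 (iv D34277) (iv F157728)
theorem F165602 : act 5 n35658 = n33921 := d36_1 D35658 (iv D33921) D33920
theorem F165603 : act 9 n35658 = n35658 := d43_2 F157730 D35658 (iv D35658)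
def n35659 : Q := act 7 n33922
theorem D35659 : act 7 n33922 = n35659 := rfl
theorem F165604 : act 0 n35659 = n34217 := d6_1 D35659 (iv D34217) (iv F157737)
theorem F165605 : act 1 n35659 = n34277 := d14_1 D35659 (iv D34277) (iv F157738)
theorem F165606 : act 2 n35659 = n33925 := d21_1 D35659 (iv D33925) (iv F157739)
theorem F165607 : act 3 n35659 = n34745 := d27_1 D35659 (iv D34745) (iv F157740)
theorem F165608 : act 4 n35659 = n33923 := d32_1 D35659 (iv D33923) D33922
theorem F165609 : act 5 n35659 = n33936 := d36_1 D35659 (iv D33936) (iv F157741)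
theorem F165610 : act 9 n35659 = n35659 := d43_2 F157743 D35659 (iv D35659)
def n35660 : Q := act 6 n33923
theorem D35660 : act 6 n33923 = n35660 := rfl
theorem F165611 : act 0 n35660 = n34268 := d5_1 D35660 (iv D34268) (iv F157744)
theorem F165612 : act 2 n35660 = n33927 := d20_1 D35660 (iv D33927) (iv F157745)
theorem F165613 : act 3 n35660 = n34741 := d26_1 D35660 (iv D34741) (iv F157746)
theorem F165614 : act 5 n35660 = n34219 := d35_1 D35660 (iv D34219) F150485 (iv F149217) (iv F157747)
theorem F165615 : act 7 n35660 = n35660 := d39_2 D33923 D35660 (iv D35660) (iv D33923) F149211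
theorem F165616 : act 9 n35660 = n35660 := d41_2 F157748 D35660 (iv D35660)
def n35661 : Q := act 8 n33923
theorem D35661 : act 8 n33923 = n35661 := rfl
theorem F165617 : act 0 n35661 = n34269 := d7_1 D35661 (iv D34269) (iv F157744)
theorem F165618 : act 2 n35661 = n33928 := d22_1 D35661 (iv D33928) (iv F157745)
theorem F165619 : act 3 n35661 = n34501 := d28_1 D35661 F159968 (iv F157746)
theorem F165620 : act 7 n35661 = n33924 := d42_1 D35661 (iv D33924) D33923
theorem F165621 : act 9 n34508 = n35661 := d43_0 F165620 (iv F157753) D34508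
def n35662 : Q := act 6 n33925
theorem D35662 : act 6 n33925 = n35662 := rfl
theorem F165622 : act 0 n35662 = n34270 := d5_1 D35662 (iv D34270) (iv F157754)
theorem F165623 : act 1 n35662 = n33952 := d13_1 D35662 (iv D33952) (iv F157755)
theorem F165624 : act 3 n35662 = n35662 := d26_1 D35662 (iv D35662) F157756
theorem F165625 : act 4 n35662 = n33927 := d31_1 D35662 (iv D33927) (iv F157757)
theorem F165626 : act 5 n35662 = n34392 := d35_1 D35662 (iv D34392) F157846 (iv D33940) (iv F157758)
theorem F165627 : act 7 n35662 = n35662 := d39_2 D33925 D35662 (iv D35662) (iv D33925) F149223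
theorem F165628 : act 9 n35662 = n35662 := d41_2 F157759 D35662 (iv D35662)
def n35663 : Q := act 8 n33925
theorem D35663 : act 8 n33925 = n35663 := rfl
theorem F165629 : act 0 n35663 = n34271 := d7_1 D35663 (iv D34271) (iv F157754)
theorem F165630 : act 1 n35663 = n33953 := d15_1 D35663 (iv D33953) (iv F157755)
theorem F165631 : act 3 n35663 = n35663 := d28_1 D35663 (iv D35663) F157756
theorem F165632 : act 4 n35663 = n33928 := d33_1 D35663 (iv D33928) (iv F157757)
theorem F165633 : act 7 n35663 = n33926 := d42_1 D35663 (iv D33926) D33925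
def n35664 : Q := act 5 n33926
theorem D35664 : act 5 n33926 = n35664 := rfl
theorem F165634 : act 0 n35664 = n34272 := d4_1 D35664 (iv D34272) (iv F157760)
theorem F165635 : act 1 n35664 = n33954 := d12_1 D35664 (iv D33954) (iv F157761)
theorem F165636 : act 3 n35664 = n35664 := d25_1 D35664 (iv D35664) F157762
theorem F165637 : act 8 n35664 = n33942 := d37_2 D33926 D35664 (iv D33942) (iv D32060) (iv F149222)
def n35665 : Q := act 9 n33926
theorem D35665 : act 9 n33926 = n35665 := rfl
theorem F165638 : act 0 n35665 = n34035 := d8_1 D35665 F158239 (iv F157760)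
theorem F165639 : act 1 n35665 = n33955 := d16_1 D35665 (iv D33955) (iv F157761)
theorem F165640 : act 2 n35665 = n34034 := d23_1 D35665 (iv F165350) (iv F165351)
theorem F165641 : act 3 n35665 = n35665 := d29_1 D35665 (iv D35665) F157762
theorem F165642 : act 4 n35665 = n33929 := d34_1 D35665 (iv D33929) (iv F157763)
theorem F165643 : act 6 n35665 = n35665 := d41_1 D35665 (iv D35665) F157764
theorem F165644 : act 8 n35665 = n35665 := d44_1 D35665 (iv D35665) (iv D33926) F149224 D33926
def n35666 : Q := act 8 n33927
theorem D35666 : act 8 n33927 = n35666 := rfl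
theorem F165645 : act 0 n35666 = n34273 := d7_1 D35666 (iv D34273) (iv F157765)
theorem F165646 : act 1 n35666 = n33956 := d15_1 D35666 (iv D33956) (iv F157766)
theorem F165647 : act 3 n35666 = n33930 := d28_1 D35666 (iv D33930) (iv F157767)
theorem F165648 : act 6 n35666 = n33928 := d40_1 D35666 (iv D33928) D33927
theorem F165649 : act 7 n35666 = n35666 := d42_1 D35666 (iv D35666) F157769
def n35667 : Q := act 9 n33928
theorem D35667 : act 9 n33928 = n35667 := rfl
theorem F165650 : act 0 n35667 = n34274 := d8_1 D35667 (iv D34274) (iv F157771)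
theorem F165651 : act 1 n35667 = n33957 := d16_1 D35667 (iv D33957) (iv F157772)
theorem F165652 : act 2 n35667 = n34508 := d23_1 D35667 F165621 F165618
theorem F165653 : act 3 n35667 = n33931 := d29_1 D35667 (iv D33931) (iv F157773)
theorem F165654 : act 7 n35667 = n33929 := d43_1 D35667 (iv D33929) (iv F157774)
theorem F165655 : act 8 n35667 = n35667 := d44_1 D35667 (iv D35667) (iv D33928) F149229 D33928
def n35668 : Q := act 9 n33930
theorem D35668 : act 9 n33930 = n35668 := rfl
theorem F165656 : act 0 n35668 = n34276 := d8_1 D35668 (iv D34276) (iv F157781)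
theorem F165657 : act 1 n35668 = n33959 := d16_1 D35668 (iv D33959) (iv F157782)
theorem F165658 : act 2 n35668 = n34744 := d23_1 D35668 (iv D34744) (iv F157783)
theorem F165659 : act 4 n35668 = n35668 := d34_1 D35668 (iv D35668) F157784
theorem F165660 : act 6 n35668 = n33931 := d41_1 D35668 (iv D33931) (iv F157785)
theorem F165661 : act 7 n35668 = n35668 := d43_1 D35668 (iv D35668) F157786
theorem F165662 : act 8 n35668 = n35668 := d44_1 D35668 (iv D35668) (iv D33930) F149240 D33930
def n35669 : Q := act 8 n33934
theorem D35669 : act 8 n33934 = n35669 := rfl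
theorem F165663 : act 0 n35669 = n33980 := d7_1 D35669 F158035 (iv F157806)
theorem F165664 : act 1 n35669 = n33938 := d15_1 D35669 (iv D33938) (iv F157807)
theorem F165665 : act 2 n35669 = n33960 := d22_1 D35669 (iv D33960) (iv F157808)
theorem F165666 : act 3 n35669 = n35669 := d28_1 D35669 (iv D35669) F157809
theorem F165667 : act 4 n35669 = n34255 := d33_1 D35669 F159051 (iv F157810)
theorem F165668 : act 6 n35669 = n33993 := d40_1 D35669 (iv D33993) (iv F157812)
theorem F165669 : act 7 n35669 = n33935 := d42_1 D35669 (iv D33935) D33934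
def n35670 : Q := act 8 n33936
theorem D35670 : act 8 n33936 = n35670 := rfl
theorem F165670 : act 0 n35670 = n34212 := d7_1 D35670 F158848 (iv F157820)
theorem F165671 : act 1 n35670 = n34255 := d15_1 D35670 F159051 (iv F157821)
theorem F165672 : act 2 n35670 = n33941 := d22_1 D35670 (iv D33941) (iv F157822)
theorem F165673 : act 3 n35670 = n34736 := d28_1 D35670 F160692 (iv F157823)
theorem F165674 : act 4 n35670 = n33938 := d33_1 D35670 (iv D33938) (iv F157824)
theorem F165675 : act 7 n35670 = n33937 := d42_1 D35670 (iv D33937) D33936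
def n35671 : Q := act 5 n33937
theorem D35671 : act 5 n33937 = n35671 := rfl
theorem F165676 : act 0 n35671 = n34211 := d4_1 D35671 (iv D34211) (iv F157826)
theorem F165677 : act 1 n35671 = n34254 := d12_1 D35671 (iv D34254) (iv F157827)
theorem F165678 : act 2 n35671 = n33942 := d19_1 D35671 (iv D33942) (iv F157828)
theorem F165679 : act 3 n35671 = n34022 := d25_1 D35671 F158185 (iv F157829)
theorem F165680 : act 6 n35671 = n34018 := d35_2 (iv F157831) D35671 F158170 (iv F154730) F154729
theorem F165681 : act 9 n35671 = n34017 := d38_2 F162319 D35671 (iv F162317)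
def n35672 : Q := act 9 n33938
theorem D35672 : act 9 n33938 = n35672 := rfl
theorem F165682 : act 0 n35672 = n34054 := d8_1 D35672 (iv F163937) F163930
theorem F165683 : act 2 n35672 = n33944 := d23_1 D35672 (iv D33944) (iv F157832)
theorem F165684 : act 3 n35672 = n35672 := d29_1 D35672 (iv D35672) F157833
theorem F165685 : act 6 n35672 = n33976 := d41_1 D35672 (iv F163991) F163989
theorem F165686 : act 7 n35672 = n33939 := d43_1 D35672 (iv D33939) (iv F157834)
theorem F165687 : act 8 n35672 = n35672 := d44_1 D35672 (iv D35672) (iv D33938) F149302 D33938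
def n35673 : Q := act 5 n33941
theorem D35673 : act 5 n33941 = n35673 := rfl
theorem F165688 : act 1 n35673 = n33963 := d12_1 D35673 (iv D33963) (iv F157847)
theorem F165689 : act 3 n35673 = n35673 := d25_1 D35673 (iv D35673) F157848
theorem F165690 : act 7 n35673 = n33942 := d36_2 (iv F157850) D35673 (iv D33942)
def n35674 : Q := act 9 n33941
theorem D35674 : act 9 n33941 = n35674 := rfl
theorem F165691 : act 0 n35674 = n34086 := d8_1 D35674 (iv F161981) F161974
theorem F165692 : act 1 n35674 = n33964 := d16_1 D35674 (iv D33964) (iv F157847)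
theorem F165693 : act 3 n35674 = n35674 := d29_1 D35674 (iv D35674) F157848
theorem F165694 : act 4 n35674 = n33944 := d34_1 D35674 (iv D33944) (iv F157849)
theorem F165695 : act 6 n35674 = n33970 := d41_1 D35674 (iv F164375) F164373
theorem F165696 : act 7 n35674 = n33943 := d43_1 D35674 (iv D33943) (iv F157850)
theorem F165697 : act 8 n35674 = n35674 := d44_1 D35674 (iv D35674) (iv D33941) F149309 D33941
def n35675 : Q := act 6 n33942
theorem D35675 : act 6 n33942 = n35675 := rfl
theorem F165698 : act 0 n35675 = n34542 := d5_1 D35675 (iv F161971) F161967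
theorem F165699 : act 1 n35675 = n33965 := d13_1 D35675 (iv D33965) (iv F157851)
theorem F165700 : act 2 n35675 = n34018 := d20_1 D35675 (iv F165680) F165678
theorem F165701 : act 3 n35675 = n35675 := d26_1 D35675 (iv D35675) F157852
theorem F165702 : act 5 n35675 = n33945 := d35_1 D35675 (iv D33945) (iv D32069) (iv F149313) D33942
theorem F165703 : act 9 n33969 = n35675 := d38_0 F165702 F157871 D33969
def n35676 : Q := act 9 n33942
theorem D35676 : act 9 n33942 = n35676 := rfl
theorem F165704 : act 0 n35676 = n34085 := d8_1 D35676 (iv F161973) F161967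
theorem F165705 : act 1 n35676 = n33966 := d16_1 D35676 (iv D33966) (iv F157851)
theorem F165706 : act 2 n35676 = n34017 := d23_1 D35676 (iv F165681) F165678
theorem F165707 : act 3 n35676 = n35676 := d29_1 D35676 (iv D35676) F157852
theorem F165708 : act 5 n35676 = n33943 := d38_1 D35676 (iv D33943) D33942
theorem F165709 : act 6 n35676 = n33969 := d41_1 D35676 F165703 (iv D35675)
theorem F165710 : act 8 n34399 = n35676 := d40_0 F165709 F157987 D34399
def n35677 : Q := act 7 n33945
theorem D35677 : act 7 n33945 = n35677 := rfl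
theorem F165711 : act 0 n35677 = n34543 := d6_1 D35677 (iv D34543) (iv F157865)
theorem F165712 : act 1 n35677 = n33970 := d14_1 D35677 (iv D33970) (iv F157866)
theorem F165713 : act 2 n35677 = n34016 := d21_1 D35677 F158165 (iv F157867)
theorem F165714 : act 3 n35677 = n35677 := d27_1 D35677 (iv D35677) F157868
theorem F165715 : act 4 n35677 = n33946 := d32_1 D35677 (iv D33946) (iv F157869)
theorem F165716 : act 6 n35677 = n33964 := d39_1 D35677 F157966 F149485 (iv F149362) D33945
theorem F165717 : act 8 n35677 = n35677 := d42_2 F157870 D35677 (iv D35677)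
theorem F165718 : act 9 n35677 = n33962 := d43_2 (iv F157871) D35677 F157959
def n35678 : Q := act 6 n33947
theorem D35678 : act 6 n33947 = n35678 := rfl
theorem F165719 : act 0 n35678 = n34392 := d5_1 D35678 (iv D34392) (iv F157879)
theorem F165720 : act 1 n35678 = n33949 := d13_1 D35678 (iv D33949) (iv F157880)
theorem F165721 : act 3 n35678 = n35678 := d26_1 D35678 (iv D35678) F157881
theorem F165722 : act 4 n35678 = n34284 := d31_1 D35678 F159166 (iv F157882)
theorem F165723 : act 5 n35678 = n34270 := d35_1 D35678 (iv D34270) (iv F154234) F154235 (iv F157883)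
theorem F165724 : act 7 n35678 = n35678 := d39_2 D33947 D35678 (iv D35678) (iv D33947) F149396
theorem F165725 : act 9 n35678 = n35678 := d41_2 F157884 D35678 (iv D35678)
def n35679 : Q := act 8 n33947
theorem D35679 : act 8 n33947 = n35679 := rfl
theorem F165726 : act 0 n35679 = n34393 := d7_1 D35679 (iv D34393) (iv F157879)
theorem F165727 : act 1 n35679 = n33950 := d15_1 D35679 (iv D33950) (iv F157880)
theorem F165728 : act 3 n35679 = n35679 := d28_1 D35679 (iv D35679) F157881
theorem F165729 : act 4 n35679 = n34390 := d33_1 D35679 (iv D34390) (iv F157882)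
theorem F165730 : act 7 n35679 = n33948 := d42_1 D35679 (iv D33948) D33947
def n35680 : Q := act 8 n33949
theorem D35680 : act 8 n33949 = n35680 := rfl
theorem F165731 : act 0 n35680 = n34721 := d7_1 D35680 (iv D34721) (iv F157890)
theorem F165732 : act 2 n35680 = n33956 := d22_1 D35680 (iv D33956) (iv F157891)
theorem F165733 : act 3 n35680 = n35680 := d28_1 D35680 (iv D35680) F157892
theorem F165734 : act 4 n35680 = n34402 := d33_1 D35680 (iv D34402) (iv F157893)
theorem F165735 : act 6 n35680 = n33950 := d40_1 D35680 (iv D33950) D33949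
theorem F165736 : act 7 n35680 = n35680 := d42_1 D35680 (iv D35680) F157895
def n35681 : Q := act 9 n33950
theorem D35681 : act 9 n33950 = n35681 := rfl
theorem F165737 : act 0 n35681 = n34722 := d8_1 D35681 (iv D34722) (iv F157897)
theorem F165738 : act 2 n35681 = n33957 := d23_1 D35681 (iv D33957) (iv F157898)
theorem F165739 : act 3 n35681 = n35681 := d29_1 D35681 (iv D35681) F157899
theorem F165740 : act 7 n35681 = n33951 := d43_1 D35681 (iv D33951) (iv F157900)
theorem F165741 : act 8 n35681 = n35681 := d44_1 D35681 (iv D35681) (iv D33950) F149406 D33950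
def n35682 : Q := act 8 n33952
theorem D35682 : act 8 n33952 = n35682 := rfl
theorem F165742 : act 0 n35682 = n34723 := d7_1 D35682 (iv D34723) (iv F157906)
theorem F165743 : act 2 n35682 = n34402 := d22_1 D35682 (iv D34402) (iv F157907)
theorem F165744 : act 3 n35682 = n35682 := d28_1 D35682 (iv D35682) F157908
theorem F165745 : act 4 n35682 = n33956 := d33_1 D35682 (iv D33956) (iv F157909)
theorem F165746 : act 6 n35682 = n33953 := d40_1 D35682 (iv D33953) D33952
theorem F165747 : act 7 n35682 = n35682 := d42_1 D35682 (iv D35682) F157911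
def n35683 : Q := act 5 n33953
theorem D35683 : act 5 n33953 = n35683 := rfl
theorem F165748 : act 0 n35683 = n34724 := d4_1 D35683 (iv D34724) (iv F157913)
theorem F165749 : act 3 n35683 = n35683 := d25_1 D35683 (iv D35683) F157914
theorem F165750 : act 7 n35683 = n33954 := d36_2 (iv F157916) D35683 (iv D33954)
theorem F165751 : act 8 n35683 = n33963 := d37_2 D33953 D35683 (iv D33963) (iv D32091) (iv F149414)
def n35684 : Q := act 9 n33953
theorem D35684 : act 9 n33953 = n35684 := rfl
theorem F165752 : act 0 n35684 = n34725 := d8_1 D35684 (iv D34725) (iv F157913)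
theorem F165753 : act 3 n35684 = n35684 := d29_1 D35684 (iv D35684) F157914
theorem F165754 : act 4 n35684 = n33957 := d34_1 D35684 (iv D33957) (iv F157915)
theorem F165755 : act 7 n35684 = n33955 := d43_1 D35684 (iv D33955) (iv F157916)
theorem F165756 : act 8 n35684 = n35684 := d44_1 D35684 (iv D35684) (iv D33953) F149415 D33953
def n35685 : Q := act 6 n33954
theorem D35685 : act 6 n33954 = n35685 := rfl
theorem F165757 : act 0 n35685 = n34726 := d5_1 D35685 (iv D34726) (iv F157917)
theorem F165758 : act 3 n35685 = n35685 := d26_1 D35685 (iv D35685) F157918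
theorem F165759 : act 5 n35685 = n35685 := d35_1 D35685 (iv D35685) (iv D33954) F149419 D33954
theorem F165760 : act 8 n35685 = n33965 := d40_2 (iv F157919) D35685 (iv D33965)
def n35686 : Q := act 9 n33954
theorem D35686 : act 9 n33954 = n35686 := rfl
theorem F165761 : act 0 n35686 = n34727 := d8_1 D35686 (iv D34727) (iv F157917)
theorem F165762 : act 3 n35686 = n35686 := d29_1 D35686 (iv D35686) F157918
theorem F165763 : act 5 n35686 = n33955 := d38_1 D35686 (iv D33955) D33954
def n35687 : Q := act 5 n33956
theorem D35687 : act 5 n33956 = n35687 := rfl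
theorem F165764 : act 0 n35687 = n34728 := d4_1 D35687 (iv D34728) (iv F157925)
theorem F165765 : act 3 n35687 = n33958 := d25_1 D35687 (iv D33958) (iv F157926)
theorem F165766 : act 7 n35687 = n35687 := d36_2 F157928 D35687 (iv D35687)
def n35688 : Q := act 9 n33956
theorem D35688 : act 9 n33956 = n35688 := rfl
theorem F165767 : act 0 n35688 = n34729 := d8_1 D35688 (iv D34729) (iv F157925)
theorem F165768 : act 3 n35688 = n33959 := d29_1 D35688 (iv D33959) (iv F157926)
theorem F165769 : act 6 n35688 = n33957 := d41_1 D35688 (iv D33957) (iv F157927)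
theorem F165770 : act 7 n35688 = n35688 := d43_1 D35688 (iv D35688) F157928
theorem F165771 : act 8 n35688 = n35688 := d44_1 D35688 (iv D35688) (iv D33956) F149423 D33956
def n35689 : Q := act 9 n33958
theorem D35689 : act 9 n33958 = n35689 := rfl
theorem F165772 : act 0 n35689 = n34731 := d8_1 D35689 (iv D34731) (iv F157933)
theorem F165773 : act 2 n35689 = n35689 := d23_1 D35689 (iv D35689) F157934
theorem F165774 : act 5 n35689 = n33959 := d38_1 D35689 (iv D33959) D33958
theorem F165775 : act 7 n35689 = n35689 := d43_1 D35689 (iv D35689) F157935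
def n35690 : Q := act 5 n33962
theorem D35690 : act 5 n33962 = n35690 := rfl
theorem F165776 : act 0 n35690 = n34552 := d4_1 D35690 F160148 (iv F157954)
theorem F165777 : act 2 n35690 = n34015 := d19_1 D35690 (iv D34015) (iv F157955)
theorem F165778 : act 3 n35690 = n35690 := d25_1 D35690 (iv D35690) F157956
theorem F165779 : act 7 n35690 = n33969 := d36_2 (iv F157959) D35690 (iv D33969)
theorem F165780 : act 8 n35690 = n34398 := d37_2 D33962 D35690 (iv D34398) (iv D32513) F149475
def n35691 : Q := act 6 n33963
theorem D35691 : act 6 n33963 = n35691 := rfl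
theorem F165781 : act 0 n35691 = n34732 := d5_1 D35691 (iv D34732) (iv F157960)
theorem F165782 : act 3 n35691 = n35691 := d26_1 D35691 (iv D35691) F157961
def n35692 : Q := act 9 n33963
theorem D35692 : act 9 n33963 = n35692 := rfl
theorem F165783 : act 0 n35692 = n34733 := d8_1 D35692 (iv D34733) (iv F157960)
theorem F165784 : act 3 n35692 = n35692 := d29_1 D35692 (iv D35692) F157961
theorem F165785 : act 5 n35692 = n33964 := d38_1 D35692 (iv D33964) D33963
theorem F165786 : act 7 n35692 = n33966 := d43_1 D35692 (iv D33966) (iv F157962)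
def n35693 : Q := act 7 n33965
theorem D35693 : act 7 n33965 = n35693 := rfl
theorem F165787 : act 0 n35693 = n34734 := d6_1 D35693 (iv D34734) (iv F157968)
theorem F165788 : act 3 n35693 = n35693 := d27_1 D35693 (iv D35693) F157969
theorem F165789 : act 5 n35693 = n33970 := d36_1 D35693 (iv D33970) (iv F157970)
def n35694 : Q := act 8 n33966
theorem D35694 : act 8 n33966 = n35694 := rfl
theorem F165790 : act 0 n35694 = n34735 := d7_1 D35694 (iv D34735) (iv F157971)
theorem F165791 : act 1 n35694 = n34399 := d15_1 D35694 F165710 F165705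
theorem F165792 : act 3 n35694 = n35694 := d28_1 D35694 (iv D35694) F157972
theorem F165793 : act 5 n35694 = n35694 := d37_1 D35694 (iv D35694) F157973 F149486 (iv F157973)
theorem F165794 : act 6 n35694 = n34394 := d40_1 D35694 (iv F164367) F164366
def n35695 : Q := act 4 n33967
theorem D35695 : act 4 n33967 = n35695 := rfl
theorem F165795 : act 0 n35695 = n34585 := d3_1 D35695 F160239 (iv F157974)
theorem F165796 : act 2 n35695 = n34009 := d18_1 D35695 F158145 (iv F157975)
theorem F165797 : act 7 n35695 = n33971 := d32_2 (iv F157977) D35695 (iv D33971)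
theorem F165798 : act 8 n35695 = n34006 := d33_2 (iv F157978) D35695 F158138
def n35696 : Q := act 3 n33968
theorem D35696 : act 3 n33968 = n35696 := rfl
theorem F165799 : act 0 n35696 = n34665 := d2_1 D35696 F160467 (iv F157979)
theorem F165800 : act 2 n35696 = n34183 := d17_1 D35696 F158740 F150265 (iv F149563) (iv F157980)
theorem F165801 : act 5 n35696 = n35696 := d25_2 F157981 D35696 (iv D35696)
theorem F165802 : act 7 n35696 = n33972 := d27_2 (iv F157982) D35696 (iv D33972)
theorem F165803 : act 8 n35696 = n34029 := d28_2 (iv F157983) D35696 F158211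
def n35697 : Q := act 4 n33969
theorem D35697 : act 4 n33969 = n35697 := rfl
theorem F165804 : act 0 n35697 = n34551 := d3_1 D35697 (iv D34551) (iv F157984)
theorem F165805 : act 2 n35697 = n34010 := d18_1 D35697 F158148 (iv F157985)
theorem F165806 : act 5 n35697 = n33971 := d30_2 D33969 D35697 (iv D33971) (iv D32099) (iv F149503)
theorem F165807 : act 8 n35697 = n34369 := d33_2 (iv F157987) D35697 F159432
def n35698 : Q := act 3 n33971
theorem D35698 : act 3 n33971 = n35698 := rfl
theorem F165808 : act 0 n35698 = n34584 := d2_1 D35698 (iv D34584) (iv F157992)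
theorem F165809 : act 2 n35698 = n34119 := d17_1 D35698 F158534 F150078 (iv F149711) (iv F157993)
theorem F165810 : act 4 n35698 = n33972 := d24_2 D33971 D35698 (iv D33972) (iv D32100) (iv F149511)
theorem F165811 : act 6 n35698 = n33978 := d26_2 (iv F157994) D35698 (iv D33978)
theorem F165812 : act 8 n35698 = n34005 := d28_2 (iv F157995) D35698 (iv D34005)
def n35699 : Q := act 3 n33973
theorem D35699 : act 3 n33973 = n35699 := rfl
theorem F165813 : act 0 n35699 = n34521 := d2_1 D35699 (iv D34521) (iv F158001)
theorem F165814 : act 2 n35699 = n34100 := d17_1 D35699 (iv D34100) F150039 (iv F149677) (iv F158002)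
theorem F165815 : act 4 n35699 = n33974 := d24_2 D33973 D35699 (iv D33974) (iv D32102) (iv F149521)
theorem F165816 : act 6 n35699 = n34005 := d26_2 (iv F158003) D35699 (iv D34005)
theorem F165817 : act 8 n35699 = n33978 := d28_2 (iv F158004) D35699 (iv D33978)
def n35700 : Q := act 7 n33975
theorem D35700 : act 7 n33975 = n35700 := rfl
theorem F165818 : act 0 n35700 = n34287 := d6_1 D35700 (iv D34287) (iv F158010)
theorem F165819 : act 1 n35700 = n33976 := d14_1 D35700 (iv D33976) (iv F158011)
theorem F165820 : act 2 n35700 = n33996 := d21_1 D35700 F158100 (iv F158012)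
theorem F165821 : act 3 n35700 = n35700 := d27_1 D35700 (iv D35700) F158013
theorem F165822 : act 4 n35700 = n34297 := d32_1 D35700 (iv D34297) (iv F158014)
theorem F165823 : act 8 n35700 = n35700 := d42_2 F158015 D35700 (iv D35700)
theorem F165824 : act 9 n35700 = n33993 := d43_2 (iv F158016) D35700 F158084
def n35701 : Q := act 4 n33979
theorem D35701 : act 4 n33979 = n35701 := rfl
theorem F165825 : act 1 n35701 = n33981 := d11_1 D35701 (iv D33981) (iv F158028)
theorem F165826 : act 2 n35701 = n34003 := d18_1 D35701 (iv D34003) (iv F158029)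
theorem F165827 : act 5 n35701 = n34256 := d30_2 D33979 D35701 (iv D34256) (iv D32392) (iv F149580)
def n35702 : Q := act 7 n33979
theorem D35702 : act 7 n33979 = n35702 := rfl
theorem F165828 : act 1 n35702 = n33982 := d14_1 D35702 (iv D33982) (iv F158028)
theorem F165829 : act 2 n35702 = n34004 := d21_1 D35702 (iv D34004) (iv F158029)
theorem F165830 : act 3 n35702 = n35702 := d27_1 D35702 (iv D35702) F158030
theorem F165831 : act 5 n35702 = n33980 := d36_1 D35702 (iv D33980) D33979
def n35703 : Q := act 3 n33981
theorem D35703 : act 3 n33981 = n35703 := rfl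
theorem F165832 : act 2 n35703 = n34066 := d17_1 D35703 (iv D34066) F149940 (iv F149589) (iv F158036)
theorem F165833 : act 4 n35703 = n35703 := d24_2 D33981 D35703 (iv D35703) (iv D33981) F149583
theorem F165834 : act 5 n35703 = n34259 := d25_2 (iv F158037) D35703 (iv D34259)
def n35704 : Q := act 7 n33981
theorem D35704 : act 7 n33981 = n35704 := rfl
theorem F165835 : act 2 n35704 = n33984 := d21_1 D35704 (iv D33984) (iv F158036)
theorem F165836 : act 4 n35704 = n33982 := d32_1 D35704 (iv D33982) D33981
theorem F165837 : act 5 n35704 = n34260 := d36_1 D35704 (iv D34260) (iv F158037)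
def n35705 : Q := act 8 n33981
theorem D35705 : act 8 n33981 = n35705 := rfl
theorem F165838 : act 2 n35705 = n33985 := d22_1 D35705 (iv D33985) (iv F158036)
theorem F165839 : act 4 n35705 = n33983 := d33_1 D35705 (iv D33983) D33981
def n35706 : Q := act 6 n33982
theorem D35706 : act 6 n33982 = n35706 := rfl
theorem F165840 : act 2 n35706 = n33986 := d20_1 D35706 (iv D33986) (iv F158038)
theorem F165841 : act 3 n35706 = n35706 := d26_1 D35706 (iv D35706) F158039
def n35707 : Q := act 8 n33982
theorem D35707 : act 8 n33982 = n35707 := rfl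
theorem F165842 : act 2 n35707 = n33987 := d22_1 D35707 (iv D33987) (iv F158038)
theorem F165843 : act 3 n35707 = n35707 := d28_1 D35707 (iv D35707) F158039
theorem F165844 : act 5 n35707 = n33993 := d37_1 D35707 (iv D33993) F149622 (iv F149587) (iv F158040)
theorem F165845 : act 7 n35707 = n33983 := d42_1 D35707 (iv D33983) D33982
def n35708 : Q := act 6 n33984
theorem D35708 : act 6 n33984 = n35708 := rfl
theorem F165846 : act 1 n35708 = n34008 := d13_1 D35708 (iv D34008) (iv F158044)
theorem F165847 : act 3 n35708 = n34069 := d26_1 D35708 (iv D34069) (iv F158045)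
theorem F165848 : act 4 n35708 = n33986 := d31_1 D35708 (iv D33986) (iv F158046)
def n35709 : Q := act 8 n33984
theorem D35709 : act 8 n33984 = n35709 := rfl
theorem F165849 : act 1 n35709 = n34009 := d15_1 D35709 (iv D34009) (iv F158044)
theorem F165850 : act 3 n35709 = n34070 := d28_1 D35709 (iv D34070) (iv F158045)
theorem F165851 : act 4 n35709 = n33987 := d33_1 D35709 (iv D33987) (iv F158046)
theorem F165852 : act 7 n35709 = n33985 := d42_1 D35709 (iv D33985) D33984
def n35710 : Q := act 9 n33985
theorem D35710 : act 9 n33985 = n35710 := rfl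
theorem F165853 : act 1 n35710 = n34011 := d16_1 D35710 (iv D34011) (iv F158048)
theorem F165854 : act 3 n35710 = n34071 := d29_1 D35710 (iv D34071) (iv F158049)
theorem F165855 : act 4 n35710 = n33988 := d34_1 D35710 (iv D33988) (iv F158050)
def n35711 : Q := act 8 n33986
theorem D35711 : act 8 n33986 = n35711 := rfl
theorem F165856 : act 1 n35711 = n34012 := d15_1 D35711 (iv D34012) (iv F158051)
theorem F165857 : act 3 n35711 = n33989 := d28_1 D35711 (iv D33989) (iv F158052)
theorem F165858 : act 6 n35711 = n33987 := d40_1 D35711 (iv D33987) D33986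
def n35712 : Q := act 9 n33987
theorem D35712 : act 9 n33987 = n35712 := rfl
theorem F165859 : act 1 n35712 = n34013 := d16_1 D35712 (iv D34013) (iv F158053)
theorem F165860 : act 3 n35712 = n33990 := d29_1 D35712 (iv D33990) (iv F158054)
theorem F165861 : act 5 n35712 = n33996 := d38_1 D35712 (iv D33996) (iv F158055)
theorem F165862 : act 7 n35712 = n33988 := d43_1 D35712 (iv D33988) (iv F158056)
def n35713 : Q := act 9 n33989
theorem D35713 : act 9 n33989 = n35713 := rfl
theorem F165863 : act 1 n35713 = n34014 := d16_1 D35713 (iv D34014) (iv F158060)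
theorem F165864 : act 2 n35713 = n35713 := d23_1 D35713 (iv D35713) F158061
theorem F165865 : act 4 n35713 = n34075 := d34_1 D35713 (iv D34075) (iv F158062)
theorem F165866 : act 6 n35713 = n33990 := d41_1 D35713 (iv D33990) (iv F158063)
def n35714 : Q := act 8 n33991
theorem D35714 : act 8 n33991 = n35714 := rfl
theorem F165867 : act 0 n35714 = n34232 := d7_1 D35714 F158944 (iv F158069)
theorem F165868 : act 2 n35714 = n33994 := d22_1 D35714 (iv D33994) (iv F158070)
theorem F165869 : act 3 n35714 = n34423 := d28_1 D35714 F159628 (iv F158071)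
theorem F165870 : act 4 n35714 = n33993 := d33_1 D35714 (iv D33993) (iv F158072)
theorem F165871 : act 6 n35714 = n34255 := d40_1 D35714 F159051 (iv F158074)
theorem F165872 : act 7 n35714 = n33992 := d42_1 D35714 (iv D33992) D33991
theorem F165873 : act 9 n34297 = n35714 := d43_0 F165872 (iv F158081) D34297
def n35715 : Q := act 9 n33994
theorem D35715 : act 9 n33994 = n35715 := rfl
theorem F165874 : act 0 n35715 = n34222 := d8_1 D35715 F158898 (iv F158085)
theorem F165875 : act 1 n35715 = n34016 := d16_1 D35715 (iv D34016) (iv F158086)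
theorem F165876 : act 2 n35715 = n34297 := d23_1 D35715 F165873 F165868
theorem F165877 : act 3 n35715 = n33997 := d29_1 D35715 (iv D33997) (iv F158087)
theorem F165878 : act 4 n35715 = n33996 := d34_1 D35715 (iv D33996) (iv F158088)
theorem F165879 : act 6 n35715 = n34338 := d41_1 D35715 F159338 (iv F158089)
theorem F165880 : act 7 n35715 = n33995 := d43_1 D35715 (iv D33995) (iv F158090)
theorem F165881 : act 8 n35715 = n35715 := d44_1 D35715 (iv D35715) (iv D33994) F149632 D33994
def n35716 : Q := act 3 n33998
theorem D35716 : act 3 n33998 = n35716 := rfl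
theorem F165882 : act 0 n35716 = n34036 := d2_1 D35716 F158241 (iv F158109)
theorem F165883 : act 1 n35716 = n34023 := d10_1 D35716 (iv D34023) (iv F158110)
theorem F165884 : act 4 n35716 = n34508 := d24_2 D33998 D35716 F160003 F151640 (iv F149672)
theorem F165885 : act 6 n35716 = n34082 := d26_2 (iv F158112) D35716 (iv D34082)
theorem F165886 : act 7 n35716 = n34034 := d27_2 (iv F158113) D35716 (iv D34034)
theorem F165887 : act 8 n35716 = n35716 := d28_2 F158114 D35716 (iv D35716)
def n35717 : Q := act 6 n33999
theorem D35717 : act 6 n33999 = n35717 := rfl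
theorem F165888 : act 0 n35717 = n34524 := d5_1 D35717 (iv D34524) (iv F158115)
theorem F165889 : act 3 n35717 = n34105 := d26_1 D35717 (iv D34105) (iv F158116)
theorem F165890 : act 4 n35717 = n34000 := d31_1 D35717 (iv D34000) (iv F158117)
theorem F165891 : act 7 n35717 = n34008 := d39_2 D33999 D35717 (iv D34008) (iv D32146) (iv F149678)
def n35718 : Q := act 6 n34001
theorem D35718 : act 6 n34001 = n35718 := rfl
theorem F165892 : act 0 n35718 = n34518 := d5_1 D35718 (iv D34518) (iv F158122)
theorem F165893 : act 4 n35718 = n34002 := d31_1 D35718 (iv D34002) (iv F158123)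
theorem F165894 : act 7 n35718 = n34515 := d39_2 D34001 D35718 (iv D34515) (iv D32663) (iv F149689)
def n35719 : Q := act 3 n34003
theorem D35719 : act 3 n34003 = n35719 := rfl
theorem F165895 : act 1 n35719 = n34005 := d10_1 D35719 (iv D34005) (iv F158129)
theorem F165896 : act 4 n35719 = n34026 := d24_2 D34003 D35719 (iv D34026) (iv D32163) (iv F149698)
theorem F165897 : act 5 n35719 = n34359 := d25_2 (iv F158130) D35719 (iv D34359)
def n35720 : Q := act 7 n34003
theorem D35720 : act 7 n34003 = n35720 := rfl
theorem F165898 : act 1 n35720 = n34006 := d14_1 D35720 (iv D34006) (iv F158129)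
theorem F165899 : act 4 n35720 = n34004 := d32_1 D35720 (iv D34004) D34003
theorem F165900 : act 5 n35720 = n34360 := d36_1 D35720 (iv D34360) (iv F158130)
def n35721 : Q := act 6 n34004
theorem D35721 : act 6 n34004 = n35721 := rfl
theorem F165901 : act 1 n35721 = n34007 := d13_1 D35721 (iv D34007) (iv F158131)
theorem F165902 : act 3 n35721 = n34028 := d26_1 D35721 (iv D34028) (iv F158132)
def n35722 : Q := act 7 n34005
theorem D35722 : act 7 n34005 = n35722 := rfl
theorem F165903 : act 2 n35722 = n34118 := d21_1 D35722 (iv D34118) (iv F158134)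
theorem F165904 : act 3 n35722 = n34006 := d27_1 D35722 (iv D34006) D34005
theorem F165905 : act 4 n35722 = n34029 := d32_1 D35722 (iv D34029) (iv F158135)
theorem F165906 : act 5 n35722 = n34365 := d36_1 D35722 (iv D34365) (iv F158136)
def n35723 : Q := act 6 n34006
theorem D35723 : act 6 n34006 = n35723 := rfl
theorem F165907 : act 2 n35723 = n34008 := d20_1 D35723 (iv D34008) (iv F158137)
theorem F165908 : act 4 n35723 = n34007 := d31_1 D35723 (iv D34007) (iv F158138)
def n35724 : Q := act 5 n34008
theorem D35724 : act 5 n34008 = n35724 := rfl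
theorem F165909 : act 3 n35724 = n34126 := d25_1 D35724 (iv D34126) (iv F158142)
theorem F165910 : act 6 n35724 = n34373 := d35_2 D34008 D35724 (iv D34373) (iv D32488) (iv F149710)
def n35725 : Q := act 8 n34008
theorem D35725 : act 8 n34008 = n35725 := rfl
theorem F165911 : act 3 n35725 = n34127 := d28_1 D35725 (iv D34127) (iv F158142)
theorem F165912 : act 4 n35725 = n34012 := d33_1 D35725 (iv D34012) (iv F158143)
theorem F165913 : act 6 n35725 = n34009 := d40_1 D35725 (iv D34009) D34008
def n35726 : Q := act 5 n34009
theorem D35726 : act 5 n34009 = n35726 := rfl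
theorem F165914 : act 3 n35726 = n34128 := d25_1 D35726 (iv D34128) (iv F158144)
theorem F165915 : act 4 n35726 = n34015 := d30_1 D35726 (iv D34015) F149727 (iv F149715) (iv F158145)
theorem F165916 : act 7 n35726 = n34010 := d36_2 (iv F158146) D35726 (iv D34010)
theorem F165917 : act 8 n35726 = n34375 := d37_2 D34009 D35726 (iv D34375) (iv D32489) (iv F149710)
def n35727 : Q := act 9 n34009
theorem D35727 : act 9 n34009 = n35727 := rfl
theorem F165918 : act 3 n35727 = n34129 := d29_1 D35727 (iv D34129) (iv F158144)
theorem F165919 : act 4 n35727 = n34013 := d34_1 D35727 (iv D34013) (iv F158145)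
theorem F165920 : act 7 n35727 = n34011 := d43_1 D35727 (iv D34011) (iv F158146)
def n35728 : Q := act 6 n34010
theorem D35728 : act 6 n34010 = n35728 := rfl
theorem F165921 : act 3 n35728 = n34130 := d26_1 D35728 (iv D34130) (iv F158147)
theorem F165922 : act 4 n35728 = n34017 := d31_1 D35728 (iv D34017) (iv F158148)
theorem F165923 : act 8 n35728 = n34377 := d40_2 (iv F158149) D35728 (iv D34377)
def n35729 : Q := act 9 n34010
theorem D35729 : act 9 n34010 = n35729 := rfl
theorem F165924 : act 3 n35729 = n34131 := d29_1 D35729 (iv D34131) (iv F158147)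
theorem F165925 : act 4 n35729 = n34018 := d34_1 D35729 (iv D34018) (iv F158148)
theorem F165926 : act 5 n35729 = n34011 := d38_1 D35729 (iv D34011) D34010
def n35730 : Q := act 9 n34012
theorem D35730 : act 9 n34012 = n35730 := rfl
theorem F165927 : act 3 n35730 = n34014 := d29_1 D35730 (iv D34014) (iv F158152)
theorem F165928 : act 6 n35730 = n34013 := d41_1 D35730 (iv D34013) (iv F158153)
def n35731 : Q := act 6 n34015
theorem D35731 : act 6 n34015 = n35731 := rfl
theorem F165929 : act 3 n35731 = n34019 := d26_1 D35731 (iv D34019) (iv F158160)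
theorem F165930 : act 8 n35731 = n34404 := d40_2 (iv F158162) D35731 (iv D34404)
def n35732 : Q := act 9 n34015
theorem D35732 : act 9 n34015 = n35732 := rfl
theorem F165931 : act 3 n35732 = n34020 := d29_1 D35732 (iv D34020) (iv F158160)
theorem F165932 : act 5 n35732 = n34016 := d38_1 D35732 (iv D34016) D34015
theorem F165933 : act 7 n35732 = n34018 := d43_1 D35732 (iv D34018) (iv F158161)
def n35733 : Q := act 7 n34017
theorem D35733 : act 7 n34017 = n35733 := rfl
theorem F165934 : act 3 n35733 = n34021 := d27_1 D35733 (iv D34021) (iv F158167)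
theorem F165935 : act 8 n35733 = n34405 := d42_2 (iv F158168) D35733 (iv D34405)
def n35734 : Q := act 7 n34019
theorem D35734 : act 7 n34019 = n35734 := rfl
theorem F165936 : act 2 n35734 = n35734 := d21_1 D35734 (iv D35734) F158171
theorem F165937 : act 4 n35734 = n34159 := d32_1 D35734 (iv D34159) (iv F158172)
theorem F165938 : act 6 n35734 = n34021 := d39_1 D35734 (iv D34021) (iv D32159) (iv F149739) D34019
theorem F165939 : act 8 n35734 = n34413 := d42_2 (iv F158173) D35734 (iv D34413)
def n35735 : Q := act 9 n34019
theorem D35735 : act 9 n34019 = n35735 := rfl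
theorem F165940 : act 2 n35735 = n35735 := d23_1 D35735 (iv D35735) F158171
theorem F165941 : act 4 n35735 = n34160 := d34_1 D35735 (iv D34160) (iv F158172)
theorem F165942 : act 6 n35735 = n34020 := d41_1 D35735 (iv D34020) D34019
def n35736 : Q := act 9 n34021
theorem D35736 : act 9 n34021 = n35736 := rfl
theorem F165943 : act 0 n35736 = n34737 := d8_1 D35736 (iv F161093) F161087
theorem F165944 : act 1 n35736 = n34747 := d16_1 D35736 F165005 F165000
theorem F165945 : act 2 n35736 = n35736 := d23_1 D35736 (iv D35736) F158178
theorem F165946 : act 4 n35736 = n34161 := d34_1 D35736 (iv D34161) (iv F158179)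
theorem F165947 : act 5 n35736 = n34736 := d38_1 D35736 (iv F163043) F163040
theorem F165948 : act 7 n35736 = n34022 := d43_1 D35736 (iv D34022) D34021
def n35737 : Q := act 2 n34023
theorem D35737 : act 2 n34023 = n35737 := rfl
theorem F165949 : act 0 n35737 = n34396 := d1_1 D35737 (iv F161103) F161101
theorem F165950 : act 3 n35737 = n34032 := d17_2 D34023 D35737 (iv D34032) (iv D32170) (iv F149751)
theorem F165951 : act 6 n35737 = n34165 := d20_2 (iv F158187) D35737 (iv D34165)
theorem F165952 : act 7 n35737 = n34391 := d21_2 F161138 D35737 (iv F161134)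
theorem F165953 : act 8 n35737 = n35737 := d22_2 F158188 D35737 (iv D35737)
theorem F165954 : act 9 n34390 = n35737 := d43_0 F165952 (iv D34391) (iv F159499)
def n35738 : Q := act 9 n34023
theorem D35738 : act 9 n34023 = n35738 := rfl
theorem F165955 : act 0 n35738 = n34281 := d8_1 D35738 (iv F161109) F161101
theorem F165956 : act 2 n35738 = n34390 := d23_1 D35738 F165954 (iv D35737)
theorem F165957 : act 3 n35738 = n34024 := d29_1 D35738 (iv D34024) D34023
theorem F165958 : act 6 n35738 = n34166 := d41_1 D35738 (iv D34166) (iv F158187)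
theorem F165959 : act 7 n35738 = n34278 := d43_1 D35738 (iv F161140) F161138
theorem F165960 : act 8 n34277 = n35738 := d42_0 F165959 (iv D34278) D34277
def n35739 : Q := act 2 n34026
theorem D35739 : act 2 n34026 = n35739 := rfl
theorem F165961 : act 1 n35739 = n34178 := d9_1 D35739 (iv D34178) F150246 (iv F149765) (iv F158202)
theorem F165962 : act 3 n35739 = n35739 := d17_2 D34026 D35739 (iv D35739) (iv D34026) F149760
theorem F165963 : act 5 n35739 = n34035 := d19_2 (iv F158203) D35739 (iv D34035)
theorem F165964 : act 9 n35739 = n34272 := d23_2 F165144 D35739 F165145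
def n35740 : Q := act 7 n34026
theorem D35740 : act 7 n34026 = n35740 := rfl
theorem F165965 : act 1 n35740 = n34029 := d14_1 D35740 (iv D34029) (iv F158202)
theorem F165966 : act 3 n35740 = n34027 := d27_1 D35740 (iv D34027) D34026
theorem F165967 : act 5 n35740 = n34036 := d36_1 D35740 (iv D34036) (iv F158203)
def n35741 : Q := act 6 n34027
theorem D35741 : act 6 n34027 = n35741 := rfl
theorem F165968 : act 1 n35741 = n34030 := d13_1 D35741 (iv D34030) (iv F158204)
theorem F165969 : act 2 n35741 = n35741 := d20_1 D35741 (iv D35741) F158205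
theorem F165970 : act 4 n35741 = n34028 := d31_1 D35741 (iv D34028) (iv F158206)
def n35742 : Q := act 6 n34029
theorem D35742 : act 6 n34029 = n35742 := rfl
theorem F165971 : act 2 n35742 = n34182 := d20_1 D35742 (iv D34182) (iv F158210)
theorem F165972 : act 3 n35742 = n34030 := d26_1 D35742 (iv D34030) (iv F158211)
def n35743 : Q := act 5 n34030
theorem D35743 : act 5 n34030 = n35743 := rfl
theorem F165973 : act 2 n35743 = n34031 := d19_1 D35743 (iv D34031) (iv F158213)
theorem F165974 : act 6 n35743 = n34039 := d35_2 D34030 D35743 (iv D34039) (iv D32179) (iv F149769)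
def n35744 : Q := act 8 n34031
theorem D35744 : act 8 n34031 = n35744 := rfl
theorem F165975 : act 0 n35744 = n34784 := d7_1 D35744 F161131 F161124
theorem F165976 : act 1 n35744 = n35744 := d15_1 D35744 (iv D35744) F158215
theorem F165977 : act 3 n35744 = n34188 := d28_1 D35744 (iv D34188) (iv F158216)
theorem F165978 : act 4 n35744 = n34191 := d33_1 D35744 (iv F164980) F164977
theorem F165979 : act 6 n35744 = n34040 := d40_1 D35744 (iv D34040) (iv F158217)
theorem F165980 : act 9 n34190 = n35744 := d41_0 F165979 (iv F158263) (iv F158759)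
def n35745 : Q := act 7 n34035
theorem D35745 : act 7 n34035 = n35745 := rfl
theorem F165981 : act 1 n35745 = n34201 := d14_1 D35745 (iv D34201) (iv F158234)
theorem F165982 : act 2 n35745 = n34036 := d21_1 D35745 (iv D34036) D34035
theorem F165983 : act 3 n35745 = n35745 := d27_1 D35745 (iv D35745) F158235
theorem F165984 : act 4 n35745 = n34274 := d32_1 D35745 F159120 (iv F158236)
theorem F165985 : act 8 n35745 = n35745 := d42_2 F158238 D35745 (iv D35745)
theorem F165986 : act 9 n35745 = n34271 := d43_2 (iv F158239) D35745 F159110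
def n35746 : Q := act 6 n34036
theorem D35746 : act 6 n34036 = n35746 := rfl
theorem F165987 : act 0 n35746 = n34082 := d5_1 D35746 (iv F165885) F165882
theorem F165988 : act 1 n35746 = n34038 := d13_1 D35746 (iv D34038) (iv F158240)
theorem F165989 : act 3 n35746 = n34037 := d26_1 D35746 (iv D34037) (iv F158241)
theorem F165990 : act 4 n35746 = n34509 := d31_1 D35746 (iv D34509) (iv F158242)
theorem F165991 : act 7 n35746 = n35746 := d39_2 D34036 D35746 (iv D35746) (iv D34036) F149811
theorem F165992 : act 8 n35746 = n35746 := d40_2 F158243 D35746 (iv D35746)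
def n35747 : Q := act 5 n34037
theorem D35747 : act 5 n34037 = n35747 := rfl
theorem F165993 : act 0 n35747 = n34078 := d4_1 D35747 F158401 (iv F158244)
theorem F165994 : act 1 n35747 = n34039 := d12_1 D35747 (iv D34039) (iv F158245)
theorem F165995 : act 2 n35747 = n35747 := d19_1 D35747 (iv D35747) F158246
theorem F165996 : act 4 n35747 = n34050 := d30_1 D35747 (iv D34050) F149872 (iv F149821) (iv F158247)
theorem F165997 : act 7 n35747 = n35747 := d36_2 F158248 D35747 (iv D35747)
def n35748 : Q := act 5 n34038
theorem D35748 : act 5 n34038 = n35748 := rfl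
theorem F165998 : act 2 n35748 = n34204 := d19_1 D35748 (iv D34204) (iv F158250)
theorem F165999 : act 3 n35748 = n34039 := d25_1 D35748 (iv D34039) (iv F158251)
theorem F166000 : act 7 n35748 = n35748 := d36_2 F158253 D35748 (iv D35748)
def n35749 : Q := act 8 n34039
theorem D35749 : act 8 n34039 = n35749 := rfl
theorem F166001 : act 0 n35749 = n34707 := d7_1 D35749 F161155 F161149
theorem F166002 : act 2 n35749 = n34040 := d22_1 D35749 (iv D34040) (iv F158255)
theorem F166003 : act 4 n35749 = n34196 := d33_1 D35749 (iv F161258) F161256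
theorem F166004 : act 5 n35749 = n35749 := d37_1 D35749 (iv D35749) (iv D34039) F149831 D34039
theorem F166005 : act 7 n35749 = n35749 := d42_1 D35749 (iv D35749) F158256
theorem F166006 : act 9 n34195 = n35749 := d34_0 F166003 (iv D34196) D34195
def n35750 : Q := act 6 n34041
theorem D35750 : act 6 n34041 = n35750 := rfl
theorem F166007 : act 0 n35750 = n34069 := d5_1 D35750 (iv D34069) (iv F158264)
theorem F166008 : act 4 n35750 = n34043 := d31_1 D35750 (iv D34043) (iv F158265)
def n35751 : Q := act 8 n34041
theorem D35751 : act 8 n34041 = n35751 := rfl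
theorem F166009 : act 0 n35751 = n34070 := d7_1 D35751 (iv D34070) (iv F158264)
theorem F166010 : act 2 n35751 = n34624 := d22_1 D35751 (iv F164722) F164719
theorem F166011 : act 4 n35751 = n34044 := d33_1 D35751 (iv D34044) (iv F158265)
theorem F166012 : act 5 n35751 = n34618 := d37_1 D35751 (iv D34618) (iv F156698) F156699 (iv F158266)
theorem F166013 : act 7 n35751 = n34042 := d42_1 D35751 (iv D34042) D34041
def n35752 : Q := act 9 n34042
theorem D35752 : act 9 n34042 = n35752 := rfl
theorem F166014 : act 0 n35752 = n34071 := d8_1 D35752 (iv D34071) (iv F158267)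
theorem F166015 : act 2 n35752 = n34627 := d23_1 D35752 (iv D34627) (iv F158268)
theorem F166016 : act 4 n35752 = n34045 := d34_1 D35752 (iv D34045) (iv F158269)
theorem F166017 : act 5 n35752 = n34619 := d38_1 D35752 (iv D34619) (iv F158270)
def n35753 : Q := act 8 n34043
theorem D35753 : act 8 n34043 = n35753 := rfl
theorem F166018 : act 0 n35753 = n34072 := d7_1 D35753 (iv D34072) (iv F158271)
theorem F166019 : act 2 n35753 = n34713 := d22_1 D35753 (iv F164928) F164926
theorem F166020 : act 3 n35753 = n34046 := d28_1 D35753 (iv D34046) (iv F158272)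
theorem F166021 : act 6 n35753 = n34044 := d40_1 D35753 (iv D34044) D34043
def n35754 : Q := act 9 n34044
theorem D35754 : act 9 n34044 = n35754 := rfl
theorem F166022 : act 0 n35754 = n34073 := d8_1 D35754 (iv D34073) (iv F158273)
theorem F166023 : act 2 n35754 = n34714 := d23_1 D35754 (iv D34714) (iv F158274)
theorem F166024 : act 3 n35754 = n34047 := d29_1 D35754 (iv D34047) (iv F158275)
theorem F166025 : act 5 n35754 = n34049 := d38_1 D35754 (iv D34049) (iv F158276)
theorem F166026 : act 7 n35754 = n34045 := d43_1 D35754 (iv D34045) (iv F158277)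
def n35755 : Q := act 5 n34046
theorem D35755 : act 5 n34046 = n35755 := rfl
theorem F166027 : act 0 n35755 = n34074 := d4_1 D35755 (iv D34074) (iv F158282)
theorem F166028 : act 2 n35755 = n35755 := d19_1 D35755 (iv D35755) F158283
theorem F166029 : act 6 n35755 = n34050 := d35_2 (iv F158284) D35755 (iv D34050) F149873 (iv F149848)
def n35756 : Q := act 9 n34046
theorem D35756 : act 9 n34046 = n35756 := rfl
theorem F166030 : act 0 n35756 = n34075 := d8_1 D35756 (iv D34075) (iv F158282)
theorem F166031 : act 2 n35756 = n35756 := d23_1 D35756 (iv D35756) F158283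
theorem F166032 : act 6 n35756 = n34047 := d41_1 D35756 (iv D34047) (iv F158284)
def n35757 : Q := act 5 n34048
theorem D35757 : act 5 n34048 = n35757 := rfl
theorem F166033 : act 0 n35757 = n34076 := d4_1 D35757 (iv D34076) (iv F158289)
theorem F166034 : act 2 n35757 = n34711 := d19_1 D35757 (iv D34711) (iv F158290)
theorem F166035 : act 3 n35757 = n34050 := d25_1 D35757 (iv D34050) (iv F158291)
theorem F166036 : act 7 n35757 = n35757 := d36_2 F158294 D35757 (iv D35757)
def n35758 : Q := act 9 n34048
theorem D35758 : act 9 n34048 = n35758 := rfl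
theorem F166037 : act 0 n35758 = n34077 := d8_1 D35758 (iv D34077) (iv F158289)
theorem F166038 : act 2 n35758 = n34712 := d23_1 D35758 (iv D34712) (iv F158290)
theorem F166039 : act 3 n35758 = n34051 := d29_1 D35758 (iv D34051) (iv F158291)
theorem F166040 : act 4 n35758 = n34709 := d34_1 D35758 (iv D34709) (iv F158292)
theorem F166041 : act 6 n35758 = n34049 := d41_1 D35758 (iv D34049) (iv F158293)
theorem F166042 : act 7 n35758 = n35758 := d43_1 D35758 (iv D35758) F158294
theorem F166043 : act 8 n35758 = n34206 := d44_1 D35758 (iv D34206) (iv D32333) (iv F149858) D34048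
def n35759 : Q := act 9 n34050
theorem D35759 : act 9 n34050 = n35759 := rfl
theorem F166044 : act 0 n35759 = n34079 := d8_1 D35759 (iv D34079) (iv F158301)
theorem F166045 : act 2 n35759 = n35759 := d23_1 D35759 (iv D35759) F158302
theorem F166046 : act 5 n35759 = n34051 := d38_1 D35759 (iv D34051) D34050
theorem F166047 : act 7 n35759 = n35759 := d43_1 D35759 (iv D35759) F158303
theorem F166048 : act 8 n35759 = n34158 := d44_1 D35759 (iv D34158) (iv F158648) (iv F165485) F165484
def n35760 : Q := act 4 n34053
theorem D35760 : act 4 n34053 = n35760 := rfl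
theorem F166049 : act 1 n35760 = n34055 := d11_1 D35760 (iv D34055) (iv F158319)
theorem F166050 : act 2 n35760 = n34097 := d18_1 D35760 (iv D34097) (iv F158320)
theorem F166051 : act 6 n35760 = n34064 := d31_2 (iv F158322) D35760 (iv D34064)
def n35761 : Q := act 7 n34053
theorem D35761 : act 7 n34053 = n35761 := rfl
theorem F166052 : act 1 n35761 = n34056 := d14_1 D35761 (iv D34056) (iv F158319)
theorem F166053 : act 2 n35761 = n34098 := d21_1 D35761 (iv D34098) (iv F158320)
theorem F166054 : act 3 n35761 = n35761 := d27_1 D35761 (iv D35761) F158321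
theorem F166055 : act 5 n35761 = n34054 := d36_1 D35761 (iv D34054) D34053
def n35762 : Q := act 3 n34055
theorem D35762 : act 3 n34055 = n35762 := rfl
theorem F166056 : act 4 n35762 = n35762 := d24_2 D34055 D35762 (iv D35762) (iv D34055) F149906
theorem F166057 : act 6 n35762 = n34066 := d26_2 (iv F158329) D35762 (iv D34066)
def n35763 : Q := act 7 n34055
theorem D35763 : act 7 n34055 = n35763 := rfl
theorem F166058 : act 2 n35763 = n34057 := d21_1 D35763 (iv D34057) (iv F158328)
theorem F166059 : act 4 n35763 = n34056 := d32_1 D35763 (iv D34056) D34055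
def n35764 : Q := act 6 n34056
theorem D35764 : act 6 n34056 = n35764 := rfl
theorem F166060 : act 2 n35764 = n34059 := d20_1 D35764 (iv D34059) (iv F158330)
theorem F166061 : act 3 n35764 = n35764 := d26_1 D35764 (iv D35764) F158331
theorem F166062 : act 7 n35764 = n34068 := d39_2 D34056 D35764 (iv D34068) (iv D32207) (iv F149907)
def n35765 : Q := act 6 n34057
theorem D35765 : act 6 n34057 = n35765 := rfl
theorem F166063 : act 1 n35765 = n34105 := d13_1 D35765 (iv D34105) (iv F158333)
theorem F166064 : act 4 n35765 = n34059 := d31_1 D35765 (iv D34059) (iv F158334)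
theorem F166065 : act 7 n35765 = n34069 := d39_2 D34057 D35765 (iv D34069) (iv D32208) (iv F149912)
def n35766 : Q := act 8 n34057
theorem D35766 : act 8 n34057 = n35766 := rfl
theorem F166066 : act 1 n35766 = n34106 := d15_1 D35766 (iv D34106) (iv F158333)
theorem F166067 : act 4 n35766 = n34060 := d33_1 D35766 (iv D34060) (iv F158334)
theorem F166068 : act 7 n35766 = n34058 := d42_1 D35766 (iv D34058) D34057
def n35767 : Q := act 5 n34058
theorem D35767 : act 5 n34058 = n35767 := rfl
theorem F166069 : act 1 n35767 = n34107 := d12_1 D35767 (iv D34107) (iv F158335)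
theorem F166070 : act 4 n35767 = n35767 := d30_1 D35767 (iv D35767) F158336 F149918 (iv F158336)
def n35768 : Q := act 9 n34058
theorem D35768 : act 9 n34058 = n35768 := rfl
theorem F166071 : act 1 n35768 = n34108 := d16_1 D35768 (iv D34108) (iv F158335)
theorem F166072 : act 4 n35768 = n34061 := d34_1 D35768 (iv D34061) (iv F158336)
theorem F166073 : act 6 n35768 = n34071 := d41_1 D35768 (iv D34071) (iv F158337)
def n35769 : Q := act 8 n34059
theorem D35769 : act 8 n34059 = n35769 := rfl
theorem F166074 : act 1 n35769 = n34109 := d15_1 D35769 (iv D34109) (iv F158338)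
theorem F166075 : act 3 n35769 = n34062 := d28_1 D35769 (iv D34062) (iv F158339)
theorem F166076 : act 6 n35769 = n34060 := d40_1 D35769 (iv D34060) D34059
theorem F166077 : act 7 n35769 = n34072 := d42_1 D35769 (iv D34072) (iv F158340)
def n35770 : Q := act 9 n34060
theorem D35770 : act 9 n34060 = n35770 := rfl
theorem F166078 : act 1 n35770 = n34110 := d16_1 D35770 (iv D34110) (iv F158341)
theorem F166079 : act 3 n35770 = n34063 := d29_1 D35770 (iv D34063) (iv F158342)
theorem F166080 : act 5 n35770 = n35770 := d38_1 D35770 (iv D35770) F158343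
theorem F166081 : act 7 n35770 = n34061 := d43_1 D35770 (iv D34061) (iv F158344)
def n35771 : Q := act 5 n34062
theorem D35771 : act 5 n34062 = n35771 := rfl
theorem F166082 : act 1 n35771 = n34111 := d12_1 D35771 (iv D34111) (iv F158349)
theorem F166083 : act 2 n35771 = n35771 := d19_1 D35771 (iv D35771) F158350
theorem F166084 : act 6 n35771 = n35771 := d35_2 (iv F158351) D35771 (iv D35771) F158351 F149925
theorem F166085 : act 7 n35771 = n34074 := d36_2 (iv F158352) D35771 (iv D34074)
def n35772 : Q := act 9 n34062
theorem D35772 : act 9 n34062 = n35772 := rfl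
theorem F166086 : act 1 n35772 = n34112 := d16_1 D35772 (iv D34112) (iv F158349)
theorem F166087 : act 2 n35772 = n35772 := d23_1 D35772 (iv D35772) F158350
theorem F166088 : act 6 n35772 = n34063 := d41_1 D35772 (iv D34063) (iv F158351)
theorem F166089 : act 7 n35772 = n34075 := d43_1 D35772 (iv D34075) (iv F158352)
def n35773 : Q := act 7 n34064
theorem D35773 : act 7 n34064 = n35773 := rfl
theorem F166090 : act 1 n35773 = n34067 := d14_1 D35773 (iv D34067) (iv F158357)
theorem F166091 : act 2 n35773 = n34114 := d21_1 D35773 (iv D34114) (iv F158358)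
theorem F166092 : act 4 n35773 = n34065 := d32_1 D35773 (iv D34065) D34064
theorem F166093 : act 5 n35773 = n34525 := d36_1 D35773 F160066 (iv F158359)
def n35774 : Q := act 6 n34065
theorem D35774 : act 6 n34065 = n35774 := rfl
theorem F166094 : act 1 n35774 = n34068 := d13_1 D35774 (iv D34068) (iv F158360)
theorem F166095 : act 2 n35774 = n34116 := d20_1 D35774 (iv D34116) (iv F158361)
theorem F166096 : act 3 n35774 = n35774 := d26_1 D35774 (iv D35774) F158362
theorem F166097 : act 5 n35774 = n34651 := d35_1 D35774 (iv D34651) (iv D32796) (iv F149938) (iv F158363)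
def n35775 : Q := act 7 n34066
theorem D35775 : act 7 n34066 = n35775 := rfl
theorem F166098 : act 3 n35775 = n34067 := d27_1 D35775 (iv D34067) D34066
theorem F166099 : act 4 n35775 = n35775 := d32_1 D35775 (iv D35775) F158364
theorem F166100 : act 5 n35775 = n34538 := d36_1 D35775 (iv D34538) (iv F158365)
def n35776 : Q := act 6 n34067
theorem D35776 : act 6 n34067 = n35776 := rfl
theorem F166101 : act 2 n35776 = n34069 := d20_1 D35776 (iv D34069) (iv F158366)
theorem F166102 : act 4 n35776 = n34068 := d31_1 D35776 (iv D34068) (iv F158367)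
def n35777 : Q := act 5 n34069
theorem D35777 : act 5 n34069 = n35777 := rfl
theorem F166103 : act 1 n35777 = n34126 := d12_1 D35777 (iv D34126) (iv F158371)
theorem F166104 : act 6 n35777 = n34540 := d35_2 D34069 D35777 (iv D34540) (iv D32692) (iv F149947)
def n35778 : Q := act 8 n34069
theorem D35778 : act 8 n34069 = n35778 := rfl
theorem F166105 : act 1 n35778 = n34127 := d15_1 D35778 (iv D34127) (iv F158371)
theorem F166106 : act 4 n35778 = n34072 := d33_1 D35778 (iv D34072) (iv F158372)
theorem F166107 : act 6 n35778 = n34070 := d40_1 D35778 (iv D34070) D34069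
def n35779 : Q := act 9 n34070
theorem D35779 : act 9 n34070 = n35779 := rfl
theorem F166108 : act 1 n35779 = n34129 := d16_1 D35779 (iv D34129) (iv F158373)
theorem F166109 : act 4 n35779 = n34073 := d34_1 D35779 (iv D34073) (iv F158374)
theorem F166110 : act 7 n35779 = n34071 := d43_1 D35779 (iv D34071) (iv F158375)
def n35780 : Q := act 5 n34072
theorem D35780 : act 5 n34072 = n35780 := rfl
theorem F166111 : act 1 n35780 = n34132 := d12_1 D35780 (iv D34132) (iv F158378)
theorem F166112 : act 3 n35780 = n34074 := d25_1 D35780 (iv D34074) (iv F158379)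
theorem F166113 : act 6 n35780 = n34076 := d35_2 (iv F158380) D35780 (iv D34076) F149968 (iv F149954)
def n35781 : Q := act 9 n34072
theorem D35781 : act 9 n34072 = n35781 := rfl
theorem F166114 : act 1 n35781 = n34133 := d16_1 D35781 (iv D34133) (iv F158378)
theorem F166115 : act 3 n35781 = n34075 := d29_1 D35781 (iv D34075) (iv F158379)
theorem F166116 : act 6 n35781 = n34073 := d41_1 D35781 (iv D34073) (iv F158380)
def n35782 : Q := act 4 n34074
theorem D35782 : act 4 n34074 = n35782 := rfl
theorem F166117 : act 1 n35782 = n34134 := d11_1 D35782 (iv D34134) (iv F158385)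
theorem F166118 : act 2 n35782 = n35782 := d18_1 D35782 (iv D35782) F158386
theorem F166119 : act 6 n35782 = n34078 := d31_2 (iv F158387) D35782 (iv D34078)
def n35783 : Q := act 9 n34074
theorem D35783 : act 9 n34074 = n35783 := rfl
theorem F166120 : act 1 n35783 = n34135 := d16_1 D35783 (iv D34135) (iv F158385)
theorem F166121 : act 2 n35783 = n35783 := d23_1 D35783 (iv D35783) F158386
theorem F166122 : act 5 n35783 = n34075 := d38_1 D35783 (iv D34075) D34074
theorem F166123 : act 6 n35783 = n34079 := d41_1 D35783 (iv D34079) (iv F158387)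
def n35784 : Q := act 4 n34076
theorem D35784 : act 4 n34076 = n35784 := rfl
theorem F166124 : act 1 n35784 = n34150 := d11_1 D35784 (iv D34150) (iv F158391)
theorem F166125 : act 7 n35784 = n35784 := d32_2 F158393 D35784 (iv D35784)
def n35785 : Q := act 9 n34076
theorem D35785 : act 9 n34076 = n35785 := rfl
theorem F166126 : act 1 n35785 = n34151 := d16_1 D35785 (iv D34151) (iv F158391)
theorem F166127 : act 3 n35785 = n34079 := d29_1 D35785 (iv D34079) (iv F158392)
theorem F166128 : act 5 n35785 = n34077 := d38_1 D35785 (iv D34077) D34076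
theorem F166129 : act 7 n35785 = n35785 := d43_1 D35785 (iv D35785) F158393
def n35786 : Q := act 3 n34078
theorem D35786 : act 3 n34078 = n35786 := rfl
theorem F166130 : act 1 n35786 = n34152 := d10_1 D35786 (iv D34152) (iv F158399)
theorem F166131 : act 5 n35786 = n34082 := d25_2 (iv F158401) D35786 (iv D34082)
theorem F166132 : act 7 n35786 = n35786 := d27_2 F158402 D35786 (iv D35786)
def n35787 : Q := act 9 n34078
theorem D35787 : act 9 n34078 = n35787 := rfl
theorem F166133 : act 1 n35787 = n34153 := d16_1 D35787 (iv D34153) (iv F158399)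
theorem F166134 : act 2 n35787 = n35787 := d23_1 D35787 (iv D35787) F158400
theorem F166135 : act 4 n35787 = n34079 := d34_1 D35787 (iv D34079) D34078
theorem F166136 : act 5 n35787 = n34083 := d38_1 D35787 (iv D34083) (iv F158401)
theorem F166137 : act 7 n35787 = n35787 := d43_1 D35787 (iv D35787) F158402
def n35788 : Q := act 3 n34080
theorem D35788 : act 3 n34080 = n35788 := rfl
theorem F166138 : act 0 n35788 = n34509 := d2_1 D35788 F160006 (iv F158407)
theorem F166139 : act 1 n35788 = n34162 := d10_1 D35788 (iv D34162) (iv F158408)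
theorem F166140 : act 4 n35788 = n34082 := d24_2 D34080 D35788 (iv D34082) (iv D32221) (iv F149986)
theorem F166141 : act 6 n35788 = n34508 := d26_2 (iv F158410) D35788 F160003
theorem F166142 : act 7 n35788 = n35788 := d27_2 F158411 D35788 (iv D35788)
theorem F166143 : act 8 n35788 = n35788 := d28_2 F158412 D35788 (iv D35788)
def n35789 : Q := act 9 n34080
theorem D35789 : act 9 n34080 = n35789 := rfl
theorem F166144 : act 0 n35789 = n34503 := d8_1 D35789 F159981 (iv F158407)
theorem F166145 : act 1 n35789 = n34163 := d16_1 D35789 (iv D34163) (iv F158408)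
theorem F166146 : act 2 n35789 = n34743 := d23_1 D35789 (iv F160726) (iv F158409)
theorem F166147 : act 4 n35789 = n34081 := d34_1 D35789 (iv D34081) D34080
theorem F166148 : act 6 n35789 = n34501 := d41_1 D35789 F159969 (iv F158410)
theorem F166149 : act 7 n35789 = n35789 := d43_1 D35789 (iv D35789) F158411
theorem F166150 : act 8 n34741 = n35789 := d40_0 F166148 F159968 D34741
def n35790 : Q := act 8 n34081
theorem D35790 : act 8 n34081 = n35790 := rfl
theorem F166151 : act 0 n35790 = n34504 := d7_1 D35790 (iv D34504) (iv F158413)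
theorem F166152 : act 1 n35790 = n34164 := d15_1 D35790 (iv D34164) (iv F158414)
theorem F166153 : act 2 n35790 = n34742 := d22_1 D35790 F160718 (iv F158415)
theorem F166154 : act 3 n35790 = n34084 := d28_1 D35790 (iv D34084) (iv F158416)
theorem F166155 : act 4 n35790 = n34741 := d33_1 D35790 F166150 F166147
theorem F166156 : act 5 n35790 = n34208 := d37_1 D35790 (iv D34208) F150396 (iv F149994) (iv F158417)
theorem F166157 : act 6 n35790 = n34502 := d40_1 D35790 (iv D34502) (iv F158418)
theorem F166158 : act 7 n35790 = n35790 := d42_1 D35790 (iv D35790) F158419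
theorem F166159 : act 9 n35790 = n35790 := d44_2 D34081 D35790 (iv D35790) (iv D34081) F149989
def n35791 : Q := act 2 n34082
theorem D35791 : act 2 n34082 = n35791 := rfl
theorem F166160 : act 3 n35791 = n35791 := d17_2 D34082 D35791 (iv D35791) (iv D34082) F149996
theorem F166161 : act 7 n35791 = n35791 := d21_2 F158421 D35791 (iv D35791)
theorem F166162 : act 8 n35791 = n35791 := d22_2 F158422 D35791 (iv D35791)
def n35792 : Q := act 9 n34082
theorem D35792 : act 9 n34082 = n35792 := rfl
theorem F166163 : act 1 n35792 = n34166 := d16_1 D35792 (iv D34166) (iv F158420)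
theorem F166164 : act 3 n35792 = n34083 := d29_1 D35792 (iv D34083) D34082
theorem F166165 : act 7 n35792 = n35792 := d43_1 D35792 (iv D35792) F158421
def n35793 : Q := act 8 n34083
theorem D35793 : act 8 n34083 = n35793 := rfl
theorem F166166 : act 0 n35793 = n34746 := d7_1 D35793 (iv F165379) F165374
theorem F166167 : act 1 n35793 = n34167 := d15_1 D35793 (iv D34167) (iv F158423)
theorem F166168 : act 2 n35793 = n35793 := d22_1 D35793 (iv D35793) F158424
theorem F166169 : act 4 n35793 = n34084 := d33_1 D35793 (iv D34084) (iv F158425)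
theorem F166170 : act 6 n35793 = n34745 := d40_1 D35793 (iv F165356) (iv F165358)
theorem F166171 : act 7 n35793 = n35793 := d42_1 D35793 (iv D35793) F158426
theorem F166172 : act 9 n35793 = n35793 := d44_2 D34083 D35793 (iv D35793) (iv D34083) F149998
def n35794 : Q := act 4 n34085
theorem D35794 : act 4 n34085 = n35794 := rfl
theorem F166173 : act 1 n35794 = n34087 := d11_1 D35794 (iv D34087) (iv F158432)
theorem F166174 : act 5 n35794 = n34097 := d30_2 D34085 D35794 (iv D34097) (iv D32232) (iv F150005)
theorem F166175 : act 6 n35794 = n34551 := d31_2 (iv F158434) D35794 (iv D34551)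
def n35795 : Q := act 7 n34085
theorem D35795 : act 7 n34085 = n35795 := rfl
theorem F166176 : act 1 n35795 = n34088 := d14_1 D35795 (iv D34088) (iv F158432)
theorem F166177 : act 3 n35795 = n35795 := d27_1 D35795 (iv D35795) F158433
theorem F166178 : act 5 n35795 = n34086 := d36_1 D35795 (iv D34086) D34085
def n35796 : Q := act 3 n34087
theorem D35796 : act 3 n34087 = n35796 := rfl
theorem F166179 : act 4 n35796 = n35796 := d24_2 D34087 D35796 (iv D35796) (iv D34087) F150008
theorem F166180 : act 5 n35796 = n34100 := d25_2 (iv F158441) D35796 (iv D34100)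
theorem F166181 : act 6 n35796 = n34553 := d26_2 (iv F158442) D35796 (iv D34553)
def n35797 : Q := act 7 n34087
theorem D35797 : act 7 n34087 = n35797 := rfl
theorem F166182 : act 2 n35797 = n34090 := d21_1 D35797 (iv D34090) (iv F158440)
theorem F166183 : act 4 n35797 = n34088 := d32_1 D35797 (iv D34088) D34087
theorem F166184 : act 5 n35797 = n34101 := d36_1 D35797 (iv D34101) (iv F158441)
def n35798 : Q := act 8 n34087
theorem D35798 : act 8 n34087 = n35798 := rfl
theorem F166185 : act 2 n35798 = n34091 := d22_1 D35798 (iv D34091) (iv F158440)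
theorem F166186 : act 4 n35798 = n34089 := d33_1 D35798 (iv D34089) D34087
theorem F166187 : act 6 n35798 = n34555 := d40_1 D35798 (iv D34555) (iv F158442)
def n35799 : Q := act 6 n34088
theorem D35799 : act 6 n34088 = n35799 := rfl
theorem F166188 : act 2 n35799 = n34092 := d20_1 D35799 (iv D34092) (iv F158443)
theorem F166189 : act 3 n35799 = n35799 := d26_1 D35799 (iv D35799) F158444
theorem F166190 : act 7 n35799 = n34556 := d39_2 D34088 D35799 (iv D34556) (iv D32706) (iv F150009)
def n35800 : Q := act 8 n34088
theorem D35800 : act 8 n34088 = n35800 := rfl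
theorem F166191 : act 2 n35800 = n34093 := d22_1 D35800 (iv D34093) (iv F158443)
theorem F166192 : act 3 n35800 = n35800 := d28_1 D35800 (iv D35800) F158444
theorem F166193 : act 5 n35800 = n35800 := d37_1 D35800 (iv D35800) F158445 F150013 (iv F158445)
theorem F166194 : act 7 n35800 = n34089 := d42_1 D35800 (iv D34089) D34088
def n35801 : Q := act 9 n34089
theorem D35801 : act 9 n34089 = n35801 := rfl
theorem F166195 : act 2 n35801 = n34094 := d23_1 D35801 (iv D34094) (iv F158446)
theorem F166196 : act 3 n35801 = n35801 := d29_1 D35801 (iv D35801) F158447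
theorem F166197 : act 5 n35801 = n35801 := d38_1 D35801 (iv D35801) F158448
theorem F166198 : act 6 n35801 = n34558 := d41_1 D35801 (iv D34558) (iv F158449)
theorem F166199 : act 8 n35801 = n34178 := d44_1 D35801 F158729 (iv F154188) F154189 D34089
def n35802 : Q := act 6 n34090
theorem D35802 : act 6 n34090 = n35802 := rfl
theorem F166200 : act 4 n35802 = n34092 := d31_1 D35802 (iv D34092) (iv F158450)
theorem F166201 : act 7 n35802 = n34559 := d39_2 D34090 D35802 (iv D34559) (iv D32708) (iv F150015)
def n35803 : Q := act 8 n34090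
theorem D35803 : act 8 n34090 = n35803 := rfl
theorem F166202 : act 4 n35803 = n34093 := d33_1 D35803 (iv D34093) (iv F158450)
theorem F166203 : act 7 n35803 = n34091 := d42_1 D35803 (iv D34091) D34090
def n35804 : Q := act 5 n34091
theorem D35804 : act 5 n34091 = n35804 := rfl
theorem F166204 : act 4 n35804 = n35804 := d30_1 D35804 (iv D35804) F158452 F150019 (iv F158452)
theorem F166205 : act 8 n35804 = n34107 := d37_2 D34091 D35804 (iv D34107) (iv D32238) (iv F150014)
def n35805 : Q := act 9 n34091
theorem D35805 : act 9 n34091 = n35805 := rfl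
theorem F166206 : act 1 n35805 = n34119 := d16_1 D35805 (iv F162348) F162344
theorem F166207 : act 3 n35805 = n34115 := d29_1 D35805 (iv F163836) F163833
theorem F166208 : act 4 n35805 = n34094 := d34_1 D35805 (iv D34094) (iv F158452)
theorem F166209 : act 6 n35805 = n34562 := d41_1 D35805 (iv D34562) (iv F158453)
theorem F166210 : act 8 n35805 = n34113 := d44_1 D35805 F162007 (iv D34951) F154202 D34091
def n35806 : Q := act 8 n34092
theorem D35806 : act 8 n34092 = n35806 := rfl
theorem F166211 : act 3 n35806 = n34095 := d28_1 D35806 (iv D34095) (iv F158454)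
theorem F166212 : act 6 n35806 = n34093 := d40_1 D35806 (iv D34093) D34092
theorem F166213 : act 7 n35806 = n34563 := d42_1 D35806 (iv D34563) (iv F158455)
def n35807 : Q := act 9 n34093
theorem D35807 : act 9 n34093 = n35807 := rfl
theorem F166214 : act 1 n35807 = n34183 := d16_1 D35807 (iv F162360) F162356
theorem F166215 : act 3 n35807 = n34096 := d29_1 D35807 (iv D34096) (iv F158456)
theorem F166216 : act 5 n35807 = n35807 := d38_1 D35807 (iv D35807) F158457
theorem F166217 : act 7 n35807 = n34094 := d43_1 D35807 (iv D34094) (iv F158458)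
theorem F166218 : act 8 n35807 = n34179 := d44_1 D35807 F162020 (iv D34953) F154207 D34093
def n35808 : Q := act 5 n34095
theorem D35808 : act 5 n34095 = n35808 := rfl
theorem F166219 : act 2 n35808 = n35808 := d19_1 D35808 (iv D35808) F158464
theorem F166220 : act 6 n35808 = n35808 := d35_2 (iv F158465) D35808 (iv D35808) F158465 F150024
theorem F166221 : act 7 n35808 = n34565 := d36_2 (iv F158466) D35808 (iv D34565)
def n35809 : Q := act 9 n34095
theorem D35809 : act 9 n34095 = n35809 := rfl
theorem F166222 : act 1 n35809 = n34185 := d16_1 D35809 (iv F162367) F162362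
theorem F166223 : act 2 n35809 = n35809 := d23_1 D35809 (iv D35809) F158464
theorem F166224 : act 4 n35809 = n34181 := d34_1 D35809 (iv F163855) F163852
theorem F166225 : act 6 n35809 = n34096 := d41_1 D35809 (iv D34096) (iv F158465)
theorem F166226 : act 7 n35809 = n34566 := d43_1 D35809 (iv D34566) (iv F158466)
theorem F166227 : act 8 n35809 = n34180 := d44_1 D35809 F162027 (iv D34954) F154221 D34095
def n35810 : Q := act 3 n34097
theorem D35810 : act 3 n34097 = n35810 := rfl
theorem F166228 : act 1 n35810 = n34100 := d10_1 D35810 (iv D34100) (iv F158473)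
theorem F166229 : act 4 n35810 = n34168 := d24_2 D34097 D35810 (iv D34168) (iv D32290) (iv F150033)
theorem F166230 : act 6 n35810 = n34113 := d26_2 (iv F158474) D35810 (iv D34113)
theorem F166231 : act 9 n35810 = n34547 := d29_2 (iv F163697) D35810 (iv F163694)
theorem F166232 : act 8 n34562 = n35810 := d44_5 F166231 (iv D34547) F151794 D32709 D34562
def n35811 : Q := act 7 n34097
theorem D35811 : act 7 n34097 = n35811 := rfl
theorem F166233 : act 1 n35811 = n34101 := d14_1 D35811 (iv D34101) (iv F158473)
theorem F166234 : act 4 n35811 = n34098 := d32_1 D35811 (iv D34098) D34097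
def n35812 : Q := act 8 n34097
theorem D35812 : act 8 n34097 = n35812 := rfl
theorem F166235 : act 1 n35812 = n34102 := d15_1 D35812 (iv D34102) (iv F158473)
theorem F166236 : act 3 n35812 = n34562 := d28_1 D35812 F166232 (iv D35810)
theorem F166237 : act 4 n35812 = n34099 := d33_1 D35812 (iv D34099) D34097
theorem F166238 : act 6 n35812 = n34115 := d40_1 D35812 (iv D34115) (iv F158474)
theorem F166239 : act 9 n35812 = n34292 := d44_2 (iv F163697) D35812 (iv D34292) (iv F155793) D35266
def n35813 : Q := act 6 n34098
theorem D35813 : act 6 n34098 = n35813 := rfl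
theorem F166240 : act 1 n35813 = n34103 := d13_1 D35813 (iv D34103) (iv F158475)
theorem F166241 : act 3 n35813 = n34170 := d26_1 D35813 (iv D34170) (iv F158476)
theorem F166242 : act 5 n35813 = n34653 := d35_1 D35813 F160415 F152062 (iv F150037) (iv F158477)
theorem F166243 : act 7 n35813 = n34116 := d39_2 D34098 D35813 (iv D34116) (iv D32245) (iv F150034)
def n35814 : Q := act 8 n34098
theorem D35814 : act 8 n34098 = n35814 := rfl
theorem F166244 : act 1 n35814 = n34104 := d15_1 D35814 (iv D34104) (iv F158475)
theorem F166245 : act 3 n35814 = n34171 := d28_1 D35814 (iv D34171) (iv F158476)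
theorem F166246 : act 5 n35814 = n35814 := d37_1 D35814 (iv D35814) F158477 F150038 (iv F158477)
theorem F166247 : act 7 n35814 = n34099 := d42_1 D35814 (iv D34099) D34098
theorem F166248 : act 9 n35814 = n34294 := d44_2 (iv F163709) D35814 (iv D34294) (iv F155798) D35268
def n35815 : Q := act 7 n34100
theorem D35815 : act 7 n34100 = n35815 := rfl
theorem F166249 : act 3 n35815 = n34101 := d27_1 D35815 (iv D34101) D34100
theorem F166250 : act 4 n35815 = n34172 := d32_1 D35815 (iv D34172) (iv F158483)
def n35816 : Q := act 6 n34101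
theorem D35816 : act 6 n34101 = n35816 := rfl
theorem F166251 : act 2 n35816 = n34105 := d20_1 D35816 (iv D34105) (iv F158485)
theorem F166252 : act 4 n35816 = n34103 := d31_1 D35816 (iv D34103) (iv F158486)
theorem F166253 : act 7 n35816 = n34120 := d39_2 D34101 D35816 (iv D34120) (iv D32248) (iv F150040)
def n35817 : Q := act 8 n34101
theorem D35817 : act 8 n34101 = n35817 := rfl
theorem F166254 : act 2 n35817 = n34106 := d22_1 D35817 (iv D34106) (iv F158485)
theorem F166255 : act 4 n35817 = n34104 := d33_1 D35817 (iv D34104) (iv F158486)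
theorem F166256 : act 7 n35817 = n34102 := d42_1 D35817 (iv D34102) D34101
def n35818 : Q := act 5 n34102
theorem D35818 : act 5 n34102 = n35818 := rfl
theorem F166257 : act 2 n35818 = n34107 := d19_1 D35818 (iv D34107) (iv F158487)
theorem F166258 : act 4 n35818 = n35818 := d30_1 D35818 (iv D35818) F158488 F150046 (iv F158488)
def n35819 : Q := act 8 n34103
theorem D35819 : act 8 n34103 = n35819 := rfl
theorem F166259 : act 2 n35819 = n34109 := d22_1 D35819 (iv D34109) (iv F158490)
theorem F166260 : act 3 n35819 = n34174 := d28_1 D35819 (iv D34174) (iv F158491)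
theorem F166261 : act 6 n35819 = n34104 := d40_1 D35819 (iv D34104) D34103
theorem F166262 : act 7 n35819 = n34124 := d42_1 D35819 (iv D34124) (iv F158492)
def n35820 : Q := act 5 n34105
theorem D35820 : act 5 n34105 = n35820 := rfl
theorem F166263 : act 7 n35820 = n34126 := d36_2 (iv F158498) D35820 (iv D34126)
def n35821 : Q := act 8 n34105
theorem D35821 : act 8 n34105 = n35821 := rfl
theorem F166264 : act 4 n35821 = n34109 := d33_1 D35821 (iv D34109) (iv F158497)
theorem F166265 : act 6 n35821 = n34106 := d40_1 D35821 (iv D34106) D34105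
theorem F166266 : act 7 n35821 = n34127 := d42_1 D35821 (iv D34127) (iv F158498)
def n35822 : Q := act 5 n34106
theorem D35822 : act 5 n34106 = n35822 := rfl
theorem F166267 : act 4 n35822 = n35822 := d30_1 D35822 (iv D35822) F158499 F150054 (iv F158499)
theorem F166268 : act 7 n35822 = n34107 := d36_2 (iv F158500) D35822 (iv D34107)
def n35823 : Q := act 9 n34106
theorem D35823 : act 9 n34106 = n35823 := rfl
theorem F166269 : act 4 n35823 = n34110 := d34_1 D35823 (iv D34110) (iv F158499)
theorem F166270 : act 7 n35823 = n34108 := d43_1 D35823 (iv D34108) (iv F158500)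
def n35824 : Q := act 6 n34107
theorem D35824 : act 6 n34107 = n35824 := rfl
theorem F166271 : act 4 n35824 = n35824 := d31_1 D35824 (iv D35824) F158501
theorem F166272 : act 5 n35824 = n34130 := d35_1 D35824 (iv D34130) (iv D32255) (iv F150050) D34107
def n35825 : Q := act 5 n34109
theorem D35825 : act 5 n34109 = n35825 := rfl
theorem F166273 : act 3 n35825 = n34111 := d25_1 D35825 (iv D34111) (iv F158504)
theorem F166274 : act 6 n35825 = n35825 := d35_2 (iv F158505) D35825 (iv D35825) F158505 F150054
theorem F166275 : act 7 n35825 = n34132 := d36_2 (iv F158506) D35825 (iv D34132)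
def n35826 : Q := act 9 n34109
theorem D35826 : act 9 n34109 = n35826 := rfl
theorem F166276 : act 3 n35826 = n34112 := d29_1 D35826 (iv D34112) (iv F158504)
theorem F166277 : act 6 n35826 = n34110 := d41_1 D35826 (iv D34110) (iv F158505)
theorem F166278 : act 7 n35826 = n34133 := d43_1 D35826 (iv D34133) (iv F158506)
def n35827 : Q := act 9 n34111
theorem D35827 : act 9 n34111 = n35827 := rfl
theorem F166279 : act 2 n35827 = n34177 := d23_1 D35827 (iv D34177) (iv F158510)
theorem F166280 : act 5 n35827 = n34112 := d38_1 D35827 (iv D34112) D34111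
theorem F166281 : act 6 n35827 = n35827 := d41_1 D35827 (iv D35827) F158511
theorem F166282 : act 7 n35827 = n34135 := d43_1 D35827 (iv D34135) (iv F158512)
def n35828 : Q := act 2 n34113
theorem D35828 : act 2 n34113 = n35828 := rfl
theorem F166283 : act 4 n35828 = n34178 := d18_2 (iv F158517) D35828 (iv D34178)
theorem F166284 : act 5 n35828 = n34332 := d19_2 (iv F158518) D35828 F159319
theorem F166285 : act 9 n35828 = n34331 := d23_2 (iv F162007) D35828 (iv F162002)
def n35829 : Q := act 7 n34113
theorem D35829 : act 7 n34113 = n35829 := rfl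
theorem F166286 : act 1 n35829 = n34118 := d14_1 D35829 (iv D34118) (iv F158516)
theorem F166287 : act 3 n35829 = n34114 := d27_1 D35829 (iv D34114) D34113
theorem F166288 : act 4 n35829 = n34179 := d32_1 D35829 (iv D34179) (iv F158517)
theorem F166289 : act 5 n35829 = n34632 := d36_1 D35829 (iv D34632) (iv F158518)
def n35830 : Q := act 6 n34114
theorem D35830 : act 6 n34114 = n35830 := rfl
theorem F166290 : act 1 n35830 = n34120 := d13_1 D35830 (iv D34120) (iv F158519)
theorem F166291 : act 4 n35830 = n34116 := d31_1 D35830 (iv D34116) (iv F158520)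
def n35831 : Q := act 8 n34114
theorem D35831 : act 8 n34114 = n35831 := rfl
theorem F166292 : act 1 n35831 = n34121 := d15_1 D35831 (iv D34121) (iv F158519)
theorem F166293 : act 4 n35831 = n34117 := d33_1 D35831 (iv D34117) (iv F158520)
theorem F166294 : act 7 n35831 = n34115 := d42_1 D35831 (iv D34115) D34114
def n35832 : Q := act 8 n34116
theorem D35832 : act 8 n34116 = n35832 := rfl
theorem F166295 : act 1 n35832 = n34124 := d15_1 D35832 (iv D34124) (iv F158524)
theorem F166296 : act 3 n35832 = n34181 := d28_1 D35832 (iv D34181) (iv F158525)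
theorem F166297 : act 6 n35832 = n34117 := d40_1 D35832 (iv D34117) D34116
def n35833 : Q := act 6 n34118
theorem D35833 : act 6 n34118 = n35833 := rfl
theorem F166298 : act 3 n35833 = n34120 := d26_1 D35833 (iv D34120) (iv F158531)
theorem F166299 : act 4 n35833 = n34182 := d31_1 D35833 (iv D34182) (iv F158532)
def n35834 : Q := act 8 n34118
theorem D35834 : act 8 n34118 = n35834 := rfl
theorem F166300 : act 3 n35834 = n34121 := d28_1 D35834 (iv D34121) (iv F158531)
theorem F166301 : act 4 n35834 = n34183 := d33_1 D35834 (iv D34183) (iv F158532)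
theorem F166302 : act 7 n35834 = n34119 := d42_1 D35834 (iv D34119) D34118
def n35835 : Q := act 5 n34119
theorem D35835 : act 5 n34119 = n35835 := rfl
theorem F166303 : act 3 n35835 = n34122 := d25_1 D35835 (iv D34122) (iv F158534)
theorem F166304 : act 4 n35835 = n35835 := d30_1 D35835 (iv D35835) F158535 F150262 (iv F158535)
theorem F166305 : act 8 n35835 = n34636 := d37_2 D34119 D35835 (iv D34636) (iv D32779) (iv F150074)
def n35836 : Q := act 5 n34120
theorem D35836 : act 5 n34120 = n35836 := rfl
theorem F166306 : act 2 n35836 = n34126 := d19_1 D35836 (iv D34126) (iv F158536)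
theorem F166307 : act 6 n35836 = n34638 := d35_2 D34120 D35836 (iv D34638) (iv D32780) (iv F150077)
def n35837 : Q := act 8 n34120
theorem D35837 : act 8 n34120 = n35837 := rfl
theorem F166308 : act 2 n35837 = n34127 := d22_1 D35837 (iv D34127) (iv F158536)
theorem F166309 : act 4 n35837 = n34124 := d33_1 D35837 (iv D34124) (iv F158537)
theorem F166310 : act 6 n35837 = n34121 := d40_1 D35837 (iv D34121) D34120
def n35838 : Q := act 5 n34121
theorem D35838 : act 5 n34121 = n35838 := rfl
theorem F166311 : act 2 n35838 = n34128 := d19_1 D35838 (iv D34128) (iv F158538)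
theorem F166312 : act 4 n35838 = n34138 := d30_1 D35838 (iv D34138) F150121 (iv F150084) (iv F158539)
theorem F166313 : act 7 n35838 = n34122 := d36_2 (iv F158540) D35838 (iv D34122)
theorem F166314 : act 8 n35838 = n34640 := d37_2 D34121 D35838 (iv D34640) (iv D32781) (iv F150077)
def n35839 : Q := act 9 n34121
theorem D35839 : act 9 n34121 = n35839 := rfl
theorem F166315 : act 0 n35839 = n34534 := d8_1 D35839 (iv F161577) F161572
theorem F166316 : act 2 n35839 = n34129 := d23_1 D35839 (iv D34129) (iv F158538)
theorem F166317 : act 4 n35839 = n34125 := d34_1 D35839 (iv D34125) (iv F158539)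
theorem F166318 : act 7 n35839 = n34123 := d43_1 D35839 (iv D34123) (iv F158540)
theorem F166319 : act 8 n35839 = n34513 := d44_1 D35839 F160023 (iv F156699) F156700 D34121
def n35840 : Q := act 6 n34122
theorem D35840 : act 6 n34122 = n35840 := rfl
theorem F166320 : act 2 n35840 = n34130 := d20_1 D35840 (iv D34130) (iv F158541)
theorem F166321 : act 4 n35840 = n34140 := d31_1 D35840 (iv D34140) (iv F158542)
theorem F166322 : act 8 n35840 = n34642 := d40_2 (iv F158543) D35840 (iv D34642)
def n35841 : Q := act 9 n34122
theorem D35841 : act 9 n34122 = n35841 := rfl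
theorem F166323 : act 0 n35841 = n34535 := d8_1 D35841 (iv F161583) F161578
theorem F166324 : act 2 n35841 = n34131 := d23_1 D35841 (iv D34131) (iv F158541)
theorem F166325 : act 4 n35841 = n34141 := d34_1 D35841 (iv D34141) (iv F158542)
theorem F166326 : act 5 n35841 = n34123 := d38_1 D35841 (iv D34123) D34122
def n35842 : Q := act 5 n34124
theorem D35842 : act 5 n34124 = n35842 := rfl
theorem F166327 : act 2 n35842 = n34132 := d19_1 D35842 (iv D34132) (iv F158548)
theorem F166328 : act 3 n35842 = n34186 := d25_1 D35842 (iv D34186) (iv F158549)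
theorem F166329 : act 6 n35842 = n34142 := d35_2 (iv F158550) D35842 (iv D34142) F150134 (iv F150084)
def n35843 : Q := act 9 n34124
theorem D35843 : act 9 n34124 = n35843 := rfl
theorem F166330 : act 0 n35843 = n34536 := d8_1 D35843 (iv F161589) F161584
theorem F166331 : act 2 n35843 = n34133 := d23_1 D35843 (iv D34133) (iv F158548)
theorem F166332 : act 3 n35843 = n34187 := d29_1 D35843 (iv D34187) (iv F158549)
theorem F166333 : act 6 n35843 = n34125 := d41_1 D35843 (iv D34125) (iv F158550)
theorem F166334 : act 8 n35843 = n34514 := d44_1 D35843 F160026 (iv F156705) F156706 D34124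
def n35844 : Q := act 8 n34126
theorem D35844 : act 8 n34126 = n35844 := rfl
theorem F166335 : act 6 n35844 = n34644 := d40_1 D35844 (iv D34644) (iv F158557)
def n35845 : Q := act 5 n34127
theorem D35845 : act 5 n34127 = n35845 := rfl
def n35846 : Q := act 9 n34127
theorem D35846 : act 9 n34127 = n35846 := rfl
theorem F166336 : act 4 n35846 = n34133 := d34_1 D35846 (iv D34133) (iv F158558)
theorem F166337 : act 6 n35846 = n34129 := d41_1 D35846 (iv D34129) (iv F158559)
def n35847 : Q := act 6 n34128
theorem D35847 : act 6 n34128 = n35847 := rfl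
theorem F166338 : act 4 n35847 = n34146 := d31_1 D35847 (iv D34146) (iv F158560)
theorem F166339 : act 8 n35847 = n34647 := d40_2 (iv F158562) D35847 (iv D34647)
def n35848 : Q := act 9 n34128
theorem D35848 : act 9 n34128 = n35848 := rfl
theorem F166340 : act 4 n35848 = n34147 := d34_1 D35848 (iv D34147) (iv F158560)
theorem F166341 : act 5 n35848 = n34129 := d38_1 D35848 (iv D34129) D34128
theorem F166342 : act 7 n35848 = n34131 := d43_1 D35848 (iv D34131) (iv F158561)
def n35849 : Q := act 7 n34130
theorem D35849 : act 7 n34130 = n35849 := rfl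
theorem F166343 : act 4 n35849 = n34148 := d32_1 D35849 (iv D34148) (iv F158565)
theorem F166344 : act 8 n35849 = n34648 := d42_2 (iv F158566) D35849 (iv D34648)
def n35850 : Q := act 9 n34130
theorem D35850 : act 9 n34130 = n35850 := rfl
theorem F166345 : act 4 n35850 = n34149 := d34_1 D35850 (iv D34149) (iv F158565)
theorem F166346 : act 6 n35850 = n34131 := d41_1 D35850 (iv D34131) D34130
def n35851 : Q := act 4 n34132
theorem D35851 : act 4 n34132 = n35851 := rfl
theorem F166347 : act 6 n35851 = n34150 := d31_2 (iv F158570) D35851 (iv D34150)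
def n35852 : Q := act 9 n34132
theorem D35852 : act 9 n34132 = n35852 := rfl
theorem F166348 : act 3 n35852 = n34135 := d29_1 D35852 (iv D34135) (iv F158569)
theorem F166349 : act 5 n35852 = n34133 := d38_1 D35852 (iv D34133) D34132
theorem F166350 : act 6 n35852 = n34151 := d41_1 D35852 (iv D34151) (iv F158570)
def n35853 : Q := act 3 n34134
theorem D35853 : act 3 n34134 = n35853 := rfl
theorem F166351 : act 6 n35853 = n34152 := d26_2 (iv F158574) D35853 (iv D34152)
def n35854 : Q := act 9 n34134
theorem D35854 : act 9 n34134 = n35854 := rfl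
theorem F166352 : act 2 n35854 = n34193 := d23_1 D35854 (iv D34193) (iv F158573)
theorem F166353 : act 4 n35854 = n34135 := d34_1 D35854 (iv D34135) D34134
theorem F166354 : act 6 n35854 = n34153 := d41_1 D35854 (iv D34153) (iv F158574)
def n35855 : Q := act 8 n34135
theorem D35855 : act 8 n34135 = n35855 := rfl
theorem F166355 : act 2 n35855 = n34194 := d22_1 D35855 (iv D34194) (iv F158575)
theorem F166356 : act 6 n35855 = n34154 := d40_1 D35855 (iv D34154) (iv F158577)
def n35856 : Q := act 5 n34136
theorem D35856 : act 5 n34136 = n35856 := rfl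
theorem F166357 : act 1 n35856 = n34142 := d12_1 D35856 (iv D34142) (iv F158578)
theorem F166358 : act 3 n35856 = n34155 := d25_1 D35856 (iv D34155) (iv F158579)
theorem F166359 : act 7 n35856 = n35856 := d36_2 F158581 D35856 (iv D35856)
theorem F166360 : act 8 n35856 = n34144 := d37_2 D34136 D35856 (iv D34144) (iv D32269) (iv F150108)
def n35857 : Q := act 5 n34137
theorem D35857 : act 5 n34137 = n35857 := rfl
theorem F166361 : act 2 n35857 = n34144 := d19_1 D35857 (iv D34144) (iv F158582)
theorem F166362 : act 3 n35857 = n35857 := d25_1 D35857 (iv D35857) F158583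
theorem F166363 : act 7 n35857 = n35857 := d36_2 F158586 D35857 (iv D35857)
def n35858 : Q := act 9 n34137
theorem D35858 : act 9 n34137 = n35858 := rfl
theorem F166364 : act 0 n35858 = n34703 := d8_1 D35858 (iv F161647) F161640
theorem F166365 : act 2 n35858 = n34145 := d23_1 D35858 (iv D34145) (iv F158582)
theorem F166366 : act 3 n35858 = n35858 := d29_1 D35858 (iv D35858) F158583
theorem F166367 : act 4 n35858 = n34143 := d34_1 D35858 (iv D34143) (iv F158584)
theorem F166368 : act 6 n35858 = n34139 := d41_1 D35858 (iv D34139) (iv F158585)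
theorem F166369 : act 7 n35858 = n35858 := d43_1 D35858 (iv D35858) F158586
theorem F166370 : act 8 n35858 = n34209 := d44_1 D35858 (iv D34209) (iv D32341) (iv F150118) D34137
def n35859 : Q := act 6 n34138
theorem D35859 : act 6 n34138 = n35859 := rfl
theorem F166371 : act 2 n35859 = n34146 := d20_1 D35859 (iv D34146) (iv F158587)
theorem F166372 : act 3 n35859 = n35859 := d26_1 D35859 (iv D35859) F158588
theorem F166373 : act 8 n35859 = n34651 := d40_2 (iv F158590) D35859 (iv D34651)
def n35860 : Q := act 9 n34138
theorem D35860 : act 9 n34138 = n35860 := rfl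
theorem F166374 : act 0 n35860 = n34704 := d8_1 D35860 (iv F161654) F161648
theorem F166375 : act 2 n35860 = n34147 := d23_1 D35860 (iv D34147) (iv F158587)
theorem F166376 : act 3 n35860 = n35860 := d29_1 D35860 (iv D35860) F158588
theorem F166377 : act 5 n35860 = n34139 := d38_1 D35860 (iv D34139) D34138
theorem F166378 : act 7 n35860 = n34141 := d43_1 D35860 (iv D34141) (iv F158589)
def n35861 : Q := act 7 n34140
theorem D35861 : act 7 n34140 = n35861 := rfl
theorem F166379 : act 2 n35861 = n34148 := d21_1 D35861 (iv D34148) (iv F158597)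
theorem F166380 : act 3 n35861 = n35861 := d27_1 D35861 (iv D35861) F158598
theorem F166381 : act 5 n35861 = n35861 := d36_1 D35861 (iv D35861) F158599
theorem F166382 : act 8 n35861 = n34652 := d42_2 (iv F158600) D35861 (iv D34652)
def n35862 : Q := act 9 n34140
theorem D35862 : act 9 n34140 = n35862 := rfl
theorem F166383 : act 0 n35862 = n34705 := d8_1 D35862 (iv F161661) F161655
theorem F166384 : act 2 n35862 = n34149 := d23_1 D35862 (iv D34149) (iv F158597)
theorem F166385 : act 3 n35862 = n35862 := d29_1 D35862 (iv D35862) F158598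
theorem F166386 : act 5 n35862 = n35862 := d38_1 D35862 (iv D35862) F158599
theorem F166387 : act 6 n35862 = n34141 := d41_1 D35862 (iv D34141) D34140
def n35863 : Q := act 4 n34142
theorem D35863 : act 4 n34142 = n35863 := rfl
theorem F166388 : act 2 n35863 = n34150 := d18_1 D35863 (iv D34150) (iv F158605)
theorem F166389 : act 7 n35863 = n35863 := d32_2 F158607 D35863 (iv D35863)
def n35864 : Q := act 9 n34142
theorem D35864 : act 9 n34142 = n35864 := rfl
theorem F166390 : act 0 n35864 = n34706 := d8_1 D35864 (iv F161668) F161662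
theorem F166391 : act 2 n35864 = n34151 := d23_1 D35864 (iv D34151) (iv F158605)
theorem F166392 : act 3 n35864 = n34196 := d29_1 D35864 (iv D34196) (iv F158606)
theorem F166393 : act 5 n35864 = n34143 := d38_1 D35864 (iv D34143) D34142
theorem F166394 : act 7 n35864 = n35864 := d43_1 D35864 (iv D35864) F158607
def n35865 : Q := act 4 n34144
theorem D35865 : act 4 n34144 = n35865 := rfl
theorem F166395 : act 5 n35865 = n34150 := d30_2 D34144 D35865 (iv D34150) (iv D32274) (iv F150142)
theorem F166396 : act 7 n35865 = n35865 := d32_2 F158615 D35865 (iv D35865)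
def n35866 : Q := act 6 n34144
theorem D35866 : act 6 n34144 = n35866 := rfl
theorem F166397 : act 3 n35866 = n34157 := d26_1 D35866 (iv D34157) (iv F158614)
theorem F166398 : act 5 n35866 = n34146 := d35_1 D35866 (iv D34146) (iv D32270) (iv F150143) D34144
def n35867 : Q := act 9 n34144
theorem D35867 : act 9 n34144 = n35867 := rfl
theorem F166399 : act 3 n35867 = n34158 := d29_1 D35867 (iv D34158) (iv F158614)
theorem F166400 : act 5 n35867 = n34145 := d38_1 D35867 (iv D34145) D34144
theorem F166401 : act 7 n35867 = n35867 := d43_1 D35867 (iv D35867) F158615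
def n35868 : Q := act 7 n34146
theorem D35868 : act 7 n34146 = n35868 := rfl
theorem F166402 : act 3 n35868 = n34159 := d27_1 D35868 (iv D34159) (iv F158621)
theorem F166403 : act 6 n35868 = n34148 := d39_1 D35868 (iv D34148) (iv D32272) (iv F150146) D34146
theorem F166404 : act 8 n35868 = n34653 := d42_2 (iv F158622) D35868 (iv D34653)
def n35869 : Q := act 9 n34146
theorem D35869 : act 9 n34146 = n35869 := rfl
theorem F166405 : act 3 n35869 = n34160 := d29_1 D35869 (iv D34160) (iv F158621)
theorem F166406 : act 6 n35869 = n34147 := d41_1 D35869 (iv D34147) D34146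
def n35870 : Q := act 9 n34148
theorem D35870 : act 9 n34148 = n35870 := rfl
theorem F166407 : act 3 n35870 = n34161 := d29_1 D35870 (iv D34161) (iv F158626)
theorem F166408 : act 5 n35870 = n35870 := d38_1 D35870 (iv D35870) F158627
theorem F166409 : act 7 n35870 = n34149 := d43_1 D35870 (iv D34149) D34148
def n35871 : Q := act 3 n34150
theorem D35871 : act 3 n34150 = n35871 := rfl
theorem F166410 : act 4 n35871 = n34152 := d24_2 D34150 D35871 (iv D34152) (iv D32276) (iv F150157)
theorem F166411 : act 7 n35871 = n35871 := d27_2 F158632 D35871 (iv D35871)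
def n35872 : Q := act 9 n34150
theorem D35872 : act 9 n34150 = n35872 := rfl
theorem F166412 : act 4 n35872 = n34151 := d34_1 D35872 (iv D34151) D34150
theorem F166413 : act 7 n35872 = n35872 := d43_1 D35872 (iv D35872) F158632
def n35873 : Q := act 8 n34151
theorem D35873 : act 8 n34151 = n35873 := rfl
theorem F166414 : act 3 n35873 = n34154 := d28_1 D35873 (iv D34154) (iv F158633)
theorem F166415 : act 5 n35873 = n34210 := d37_1 D35873 (iv D34210) F150426 (iv F150162) (iv F158634)
theorem F166416 : act 7 n35873 = n35873 := d42_1 D35873 (iv D35873) F158635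
def n35874 : Q := act 2 n34152
theorem D35874 : act 2 n34152 = n35874 := rfl
theorem F166417 : act 3 n35874 = n34198 := d17_2 D34152 D35874 (iv D34198) (iv D32321) (iv F150163)
theorem F166418 : act 5 n35874 = n34165 := d19_2 (iv F158636) D35874 (iv D34165)
theorem F166419 : act 7 n35874 = n35874 := d21_2 F158637 D35874 (iv D35874)
def n35875 : Q := act 9 n34152
theorem D35875 : act 9 n34152 = n35875 := rfl
theorem F166420 : act 3 n35875 = n34153 := d29_1 D35875 (iv D34153) D34152
theorem F166421 : act 5 n35875 = n34166 := d38_1 D35875 (iv D34166) (iv F158636)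
theorem F166422 : act 7 n35875 = n35875 := d43_1 D35875 (iv D35875) F158637
def n35876 : Q := act 4 n34155
theorem D35876 : act 4 n34155 = n35876 := rfl
theorem F166423 : act 1 n35876 = n34195 := d11_1 D35876 (iv D34195) (iv F158645)
theorem F166424 : act 2 n35876 = n35876 := d18_1 D35876 (iv D35876) F158646
theorem F166425 : act 5 n35876 = n35876 := d30_2 D34155 D35876 (iv D35876) (iv D34155) F150171
theorem F166426 : act 7 n35876 = n35876 := d32_2 F158647 D35876 (iv D35876)
theorem F166427 : act 8 n35876 = n34156 := d33_2 (iv F158648) D35876 (iv D34156)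
def n35877 : Q := act 6 n34155
theorem D35877 : act 6 n34155 = n35877 := rfl
theorem F166428 : act 1 n35877 = n34186 := d13_1 D35877 F158749 (iv F158645)
theorem F166429 : act 2 n35877 = n35877 := d20_1 D35877 (iv D35877) F158646
theorem F166430 : act 5 n35877 = n34181 := d35_1 D35877 F158738 F150257 (iv F150172) D34155
theorem F166431 : act 8 n35877 = n34157 := d40_2 (iv F158648) D35877 (iv D34157)
def n35878 : Q := act 3 n34156
theorem D35878 : act 3 n34156 = n35878 := rfl
theorem F166432 : act 5 n35878 = n34162 := d25_2 (iv F158650) D35878 (iv D34162)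
theorem F166433 : act 7 n35878 = n35878 := d27_2 F158651 D35878 (iv D35878)
def n35879 : Q := act 6 n34156
theorem D35879 : act 6 n34156 = n35879 := rfl
theorem F166434 : act 2 n35879 = n35879 := d20_1 D35879 (iv D35879) F158649
theorem F166435 : act 4 n35879 = n34157 := d31_1 D35879 (iv D34157) D34156
def n35880 : Q := act 9 n34156
theorem D35880 : act 9 n34156 = n35880 := rfl
theorem F166436 : act 2 n35880 = n35880 := d23_1 D35880 (iv D35880) F158649
theorem F166437 : act 4 n35880 = n34158 := d34_1 D35880 (iv D34158) D34156
theorem F166438 : act 5 n35880 = n34163 := d38_1 D35880 (iv D34163) (iv F158650)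
theorem F166439 : act 7 n35880 = n35880 := d43_1 D35880 (iv D35880) F158651
def n35881 : Q := act 7 n34157
theorem D35881 : act 7 n34157 = n35881 := rfl
theorem F166440 : act 2 n35881 = n35881 := d21_1 D35881 (iv D35881) F158652
theorem F166441 : act 5 n35881 = n34159 := d36_1 D35881 (iv D34159) (iv F158653)
theorem F166442 : act 6 n35881 = n35881 := d39_1 D35881 (iv D35881) (iv D34157) F150175 D34157
def n35882 : Q := act 9 n34157
theorem D35882 : act 9 n34157 = n35882 := rfl
theorem F166443 : act 2 n35882 = n35882 := d23_1 D35882 (iv D35882) F158652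
theorem F166444 : act 5 n35882 = n34160 := d38_1 D35882 (iv D34160) (iv F158653)
theorem F166445 : act 6 n35882 = n34158 := d41_1 D35882 (iv D34158) D34157
def n35883 : Q := act 9 n34159
theorem D35883 : act 9 n34159 = n35883 := rfl
theorem F166446 : act 2 n35883 = n35883 := d23_1 D35883 (iv D35883) F158657
theorem F166447 : act 6 n35883 = n34161 := d41_1 D35883 (iv D34161) (iv F158658)
theorem F166448 : act 7 n35883 = n34160 := d43_1 D35883 (iv D34160) D34159
def n35884 : Q := act 2 n34162
theorem D35884 : act 2 n34162 = n35884 := rfl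
theorem F166449 : act 3 n35884 = n35884 := d17_2 D34162 D35884 (iv D35884) (iv D34162) F150192
theorem F166450 : act 4 n35884 = n34165 := d18_2 (iv F158665) D35884 (iv D34165)
theorem F166451 : act 7 n35884 = n35884 := d21_2 F158666 D35884 (iv D35884)
theorem F166452 : act 8 n35884 = n35884 := d22_2 F158667 D35884 (iv D35884)
def n35885 : Q := act 9 n34162
theorem D35885 : act 9 n34162 = n35885 := rfl
theorem F166453 : act 3 n35885 = n34163 := d29_1 D35885 (iv D34163) D34162
theorem F166454 : act 4 n35885 = n34166 := d34_1 D35885 (iv D34166) (iv F158665)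
theorem F166455 : act 7 n35885 = n35885 := d43_1 D35885 (iv D35885) F158666
def n35886 : Q := act 8 n34163
theorem D35886 : act 8 n34163 = n35886 := rfl
theorem F166456 : act 1 n35886 = n34741 := d15_1 D35886 F166150 F166145
theorem F166457 : act 2 n35886 = n35886 := d22_1 D35886 (iv D35886) F158668
theorem F166458 : act 4 n35886 = n34164 := d33_1 D35886 (iv D34164) (iv F158669)
theorem F166459 : act 6 n35886 = n34740 := d40_1 D35886 (iv F163578) (iv F163580)
theorem F166460 : act 7 n35886 = n35886 := d42_1 D35886 (iv D35886) F158670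
theorem F166461 : act 9 n35886 = n35886 := d44_2 D34163 D35886 (iv D35886) (iv D34163) F150194
theorem F166462 : act 5 n34746 = n35886 := d35_5 F166459 F160706 F152511 (iv F152559) D34746
def n35887 : Q := act 1 n34165
theorem D35887 : act 1 n34165 = n35887 := rfl
theorem F166463 : act 3 n35887 = n34199 := d10_2 (iv F158676) D35887 (iv D34199)
theorem F166464 : act 7 n35887 = n35887 := d14_2 F158677 D35887 (iv D35887)
theorem F166465 : act 8 n35887 = n35887 := d15_2 F158678 D35887 (iv D35887)
theorem F166466 : act 9 n34402 = n35887 := d29_0 F166463 F158797 (iv F159542)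
def n35888 : Q := act 9 n34165
theorem D35888 : act 9 n34165 = n35888 := rfl
theorem F166467 : act 0 n35888 = n34395 := d8_1 D35888 F161798 F161792
theorem F166468 : act 1 n35888 = n34402 := d16_1 D35888 F166466 (iv D35887)
theorem F166469 : act 2 n35888 = n34166 := d23_1 D35888 (iv D34166) D34165
theorem F166470 : act 3 n35888 = n34200 := d29_1 D35888 (iv D34200) (iv F158676)
theorem F166471 : act 6 n35888 = n34390 := d41_1 D35888 F165954 F165951
theorem F166472 : act 7 n35888 = n35888 := d43_1 D35888 (iv D35888) F158677
theorem F166473 : act 8 n34284 = n35888 := d40_0 F166471 (iv D34390) (iv F159166)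
def n35889 : Q := act 8 n34166
theorem D35889 : act 8 n34166 = n35889 := rfl
theorem F166474 : act 0 n35889 = n34280 := d7_1 D35889 F161805 F161799
theorem F166475 : act 2 n35889 = n34284 := d22_1 D35889 F166473 F166469
theorem F166476 : act 3 n35889 = n34167 := d28_1 D35889 (iv D34167) (iv F158679)
theorem F166477 : act 6 n35889 = n34277 := d40_1 D35889 F165960 F165958
theorem F166478 : act 7 n35889 = n35889 := d42_1 D35889 (iv D35889) F158680
theorem F166479 : act 9 n35889 = n35889 := d44_2 D34166 D35889 (iv D35889) (iv D34166) F150200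
theorem F166480 : act 5 n34282 = n35889 := d35_5 F166477 F159136 (iv F158074) F158073 D34282
def n35890 : Q := act 2 n34168
theorem D35890 : act 2 n34168 = n35890 := rfl
theorem F166481 : act 3 n35890 = n35890 := d17_2 D34168 D35890 (iv D35890) (iv D34168) F150209
theorem F166482 : act 5 n35890 = n35890 := d19_2 F158688 D35890 (iv D35890)
theorem F166483 : act 6 n35890 = n34178 := d20_2 (iv F158689) D35890 (iv D34178)
theorem F166484 : act 8 n35890 = n34558 := d22_2 (iv F158690) D35890 F160162
theorem F166485 : act 9 n35890 = n34385 := d23_2 (iv F158691) D35890 F159477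
def n35891 : Q := act 7 n34168
theorem D35891 : act 7 n34168 = n35891 := rfl
theorem F166486 : act 1 n35891 = n34172 := d14_1 D35891 (iv D34172) (iv F158687)
theorem F166487 : act 3 n35891 = n34169 := d27_1 D35891 (iv D34169) D34168
theorem F166488 : act 5 n35891 = n35891 := d36_1 D35891 (iv D35891) F158688
theorem F166489 : act 8 n35891 = n34564 := d42_2 (iv F158690) D35891 F160175
theorem F166490 : act 9 n35891 = n34549 := d43_2 (iv F158691) D35891 F160141
def n35892 : Q := act 6 n34169
theorem D35892 : act 6 n34169 = n35892 := rfl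
theorem F166491 : act 1 n35892 = n34173 := d13_1 D35892 (iv D34173) (iv F158692)
theorem F166492 : act 2 n35892 = n35892 := d20_1 D35892 (iv D35892) F158693
theorem F166493 : act 4 n35892 = n34170 := d31_1 D35892 (iv D34170) (iv F158694)
theorem F166494 : act 7 n35892 = n34180 := d39_2 D34169 D35892 (iv D34180) (iv D32302) (iv F150211)
theorem F166495 : act 8 n35892 = n34566 := d40_2 (iv F158696) D35892 F160179
theorem F166496 : act 9 n35892 = n34550 := d41_2 (iv F158697) D35892 F160143
def n35893 : Q := act 8 n34170
theorem D35893 : act 8 n34170 = n35893 := rfl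
theorem F166497 : act 1 n35893 = n34174 := d15_1 D35893 (iv D34174) (iv F158698)
theorem F166498 : act 2 n35893 = n35893 := d22_1 D35893 (iv D35893) F158699
theorem F166499 : act 4 n35893 = n34566 := d33_1 D35893 (iv F166495) F166493
theorem F166500 : act 6 n35893 = n34171 := d40_1 D35893 (iv D34171) D34170
theorem F166501 : act 7 n35893 = n34181 := d42_1 D35893 (iv D34181) (iv F158701)
theorem F166502 : act 9 n35893 = n34295 := d44_2 (iv F163717) D35893 (iv D34295) (iv F155811) D35269
def n35894 : Q := act 6 n34172
theorem D35894 : act 6 n34172 = n35894 := rfl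
theorem F166503 : act 3 n35894 = n34173 := d26_1 D35894 (iv D34173) (iv F158708)
theorem F166504 : act 7 n35894 = n34182 := d39_2 D34172 D35894 (iv D34182) (iv D32305) (iv F150224)
def n35895 : Q := act 5 n34173
theorem D35895 : act 5 n34173 = n35895 := rfl
theorem F166505 : act 2 n35895 = n34175 := d19_1 D35895 (iv D34175) (iv F158710)
theorem F166506 : act 6 n35895 = n35895 := d35_2 D34173 D35895 (iv D35895) (iv D34173) F150227
theorem F166507 : act 7 n35895 = n34184 := d36_2 (iv F158712) D35895 (iv D34184)
def n35896 : Q := act 5 n34174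
theorem D35896 : act 5 n34174 = n35896 := rfl
theorem F166508 : act 2 n35896 = n34176 := d19_1 D35896 (iv D34176) (iv F158713)
theorem F166509 : act 6 n35896 = n35896 := d35_2 (iv F158714) D35896 (iv D35896) F158714 F150231
theorem F166510 : act 7 n35896 = n34186 := d36_2 (iv F158715) D35896 (iv D34186)
def n35897 : Q := act 8 n34175
theorem D35897 : act 8 n34175 = n35897 := rfl
theorem F166511 : act 1 n35897 = n35897 := d15_1 D35897 (iv D35897) F158716
theorem F166512 : act 6 n35897 = n35897 := d40_1 D35897 (iv D35897) F158717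
theorem F166513 : act 7 n35897 = n34188 := d42_1 D35897 (iv D34188) (iv F158718)
def n35898 : Q := act 4 n34176
theorem D35898 : act 4 n34176 = n35898 := rfl
theorem F166514 : act 1 n35898 = n35898 := d11_1 D35898 (iv D35898) F158719
theorem F166515 : act 6 n35898 = n35898 := d31_2 F158721 D35898 (iv D35898)
theorem F166516 : act 7 n35898 = n34190 := d32_2 (iv F158722) D35898 (iv D34190)
def n35899 : Q := act 7 n34178
theorem D35899 : act 7 n34178 = n35899 := rfl
theorem F166517 : act 2 n35899 = n34179 := d21_1 D35899 (iv D34179) D34178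
theorem F166518 : act 3 n35899 = n35899 := d27_1 D35899 (iv D35899) F158727
theorem F166519 : act 5 n35899 = n34201 := d36_1 D35899 (iv D34201) (iv F158728)
theorem F166520 : act 9 n35899 = n34384 := d43_2 (iv F158729) D35899 F159476
def n35900 : Q := act 6 n34179
theorem D35900 : act 6 n34179 = n35900 := rfl
theorem F166521 : act 1 n35900 = n34182 := d13_1 D35900 (iv D34182) (iv F158730)
theorem F166522 : act 3 n35900 = n34180 := d26_1 D35900 (iv D34180) (iv F158731)
def n35901 : Q := act 5 n34180
theorem D35901 : act 5 n34180 = n35901 := rfl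
theorem F166523 : act 1 n35901 = n34184 := d12_1 D35901 (iv D34184) (iv F158733)
theorem F166524 : act 2 n35901 = n35901 := d19_1 D35901 (iv D35901) F158734
theorem F166525 : act 4 n35901 = n34412 := d30_1 D35901 F159570 F151091 (iv F150254) (iv F158735)
theorem F166526 : act 6 n35901 = n34203 := d35_2 D34180 D35901 (iv D34203) (iv D32329) (iv F150251)
def n35902 : Q := act 5 n34182
theorem D35902 : act 5 n34182 = n35902 := rfl
theorem F166527 : act 3 n35902 = n34184 := d25_1 D35902 (iv D34184) (iv F158739)
theorem F166528 : act 6 n35902 = n34204 := d35_2 D34182 D35902 (iv D34204) (iv D32330) (iv F150260)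
def n35903 : Q := act 8 n34182
theorem D35903 : act 8 n34182 = n35903 := rfl
theorem F166529 : act 3 n35903 = n34185 := d28_1 D35903 (iv D34185) (iv F158739)
theorem F166530 : act 6 n35903 = n34183 := d40_1 D35903 (iv D34183) D34182
def n35904 : Q := act 8 n34184
theorem D35904 : act 8 n34184 = n35904 := rfl
theorem F166531 : act 2 n35904 = n34188 := d22_1 D35904 (iv D34188) (iv F158743)
theorem F166532 : act 6 n35904 = n34205 := d40_1 D35904 (iv D34205) (iv F158744)
def n35905 : Q := act 5 n34185
theorem D35905 : act 5 n34185 = n35905 := rfl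
theorem F166533 : act 2 n35905 = n34189 := d19_1 D35905 (iv D34189) (iv F158745)
theorem F166534 : act 6 n35905 = n35905 := d35_2 (iv F158747) D35905 (iv D35905) F158747 F150267
def n35906 : Q := act 4 n34186
theorem D35906 : act 4 n34186 = n35906 := rfl
theorem F166535 : act 2 n35906 = n34190 := d18_1 D35906 (iv D34190) (iv F158748)
theorem F166536 : act 6 n35906 = n34195 := d31_2 (iv F158749) D35906 (iv D34195)
def n35907 : Q := act 9 n34186
theorem D35907 : act 9 n34186 = n35907 := rfl
theorem F166537 : act 0 n35907 = n34537 := d8_1 D35907 (iv F161878) F161873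
theorem F166538 : act 2 n35907 = n34191 := d23_1 D35907 (iv D34191) (iv F158748)
theorem F166539 : act 5 n35907 = n34187 := d38_1 D35907 (iv D34187) D34186
theorem F166540 : act 6 n35907 = n34196 := d41_1 D35907 (iv D34196) (iv F158749)
def n35908 : Q := act 5 n34188
theorem D35908 : act 5 n34188 = n35908 := rfl
theorem F166541 : act 1 n35908 = n35908 := d12_1 D35908 (iv D35908) F158754
theorem F166542 : act 6 n35908 = n35908 := d35_2 (iv F158755) D35908 (iv D35908) F158755 F150358
theorem F166543 : act 8 n35908 = n34189 := d37_2 D34188 D35908 (iv D34189) (iv D32312) D32311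
def n35909 : Q := act 9 n34188
theorem D35909 : act 9 n34188 = n35909 := rfl
theorem F166544 : act 1 n35909 = n35909 := d16_1 D35909 (iv D35909) F158754
theorem F166545 : act 3 n35909 = n34190 := d29_1 D35909 F165980 F165977
theorem F166546 : act 4 n35909 = n34192 := d34_1 D35909 F165251 F165248
theorem F166547 : act 6 n35909 = n34197 := d41_1 D35909 F158783 (iv F158755)
def n35910 : Q := act 4 n34189
theorem D35910 : act 4 n34189 = n35910 := rfl
theorem F166548 : act 1 n35910 = n35910 := d11_1 D35910 (iv D35910) F158756
theorem F166549 : act 5 n35910 = n34190 := d30_2 D34189 D35910 (iv D34190) (iv D32313) (iv F150279)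
theorem F166550 : act 6 n35910 = n35910 := d31_2 F158757 D35910 (iv D35910)
def n35911 : Q := act 2 n34192
theorem D35911 : act 2 n34192 = n35911 := rfl
theorem F166551 : act 6 n35911 = n34198 := d20_2 (iv F158766) D35911 (iv D34198)
def n35912 : Q := act 3 n34195
theorem D35912 : act 3 n34195 = n35912 := rfl
theorem F166552 : act 5 n35912 = n35912 := d25_2 F158773 D35912 (iv D35912)
theorem F166553 : act 7 n35912 = n35912 := d27_2 F158774 D35912 (iv D35912)
def n35913 : Q := act 2 n34197
theorem D35913 : act 2 n34197 = n35913 := rfl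
theorem F166554 : act 4 n35913 = n34198 := d18_2 (iv F158780) D35913 (iv D34198)
theorem F166555 : act 5 n35913 = n35913 := d19_2 F158781 D35913 (iv D35913)
theorem F166556 : act 7 n35913 = n35913 := d21_2 F158782 D35913 (iv D35913)
theorem F166557 : act 9 n35913 = n34205 := d23_2 (iv F158783) D35913 F158814
def n35914 : Q := act 1 n34198
theorem D35914 : act 1 n34198 = n35914 := rfl
theorem F166558 : act 2 n35914 = n35914 := d9_2 D34198 D35914 (iv D35914) (iv D34198) F150310
theorem F166559 : act 5 n35914 = n34199 := d12_2 (iv F158784) D35914 (iv D34199)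
theorem F166560 : act 7 n35914 = n35914 := d14_2 F158785 D35914 (iv D35914)
theorem F166561 : act 9 n35914 = n34411 := d16_2 (iv F165445) D35914 (iv F165440)
def n35915 : Q := act 6 n34201
theorem D35915 : act 6 n34201 = n35915 := rfl
theorem F166562 : act 2 n35915 = n34202 := d20_1 D35915 (iv D34202) (iv F158798)
theorem F166563 : act 3 n35915 = n35915 := d26_1 D35915 (iv D35915) F158799
theorem F166564 : act 4 n35915 = n34387 := d31_1 D35915 F159486 (iv F158800)
theorem F166565 : act 7 n35915 = n35915 := d39_2 D34201 D35915 (iv D35915) (iv D34201) F150339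
theorem F166566 : act 8 n35915 = n35915 := d40_2 F158801 D35915 (iv D35915)
theorem F166567 : act 9 n35915 = n34383 := d41_2 (iv F158802) D35915 F159473
def n35916 : Q := act 5 n34202
theorem D35916 : act 5 n34202 = n35916 := rfl
theorem F166568 : act 1 n35916 = n34204 := d12_1 D35916 (iv D34204) (iv F158803)
theorem F166569 : act 3 n35916 = n34203 := d25_1 D35916 (iv D34203) (iv F158804)
theorem F166570 : act 7 n35916 = n35916 := d36_2 F158806 D35916 (iv D35916)
def n35917 : Q := act 8 n34203
theorem D35917 : act 8 n34203 = n35917 := rfl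
theorem F166571 : act 1 n35917 = n34205 := d15_1 D35917 (iv D34205) (iv F158808)
theorem F166572 : act 2 n35917 = n35917 := d22_1 D35917 (iv D35917) F158809
theorem F166573 : act 4 n35917 = n34411 := d33_1 D35917 F159568 (iv F158810)
theorem F166574 : act 5 n35917 = n35917 := d37_1 D35917 (iv D35917) (iv D34203) F150350 D34203
theorem F166575 : act 7 n35917 = n35917 := d42_1 D35917 (iv D35917) F158811
def n35918 : Q := act 4 n34204
theorem D35918 : act 4 n34204 = n35918 := rfl
theorem F166576 : act 5 n35918 = n34700 := d30_2 D34204 D35918 (iv D34700) (iv D32875) (iv F150352)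
theorem F166577 : act 7 n35918 = n35918 := d32_2 F158813 D35918 (iv D35918)
def n35919 : Q := act 8 n34204
theorem D35919 : act 8 n34204 = n35919 := rfl
theorem F166578 : act 3 n35919 = n34205 := d28_1 D35919 (iv D34205) (iv F158812)
theorem F166579 : act 5 n35919 = n35919 := d37_1 D35919 (iv D35919) (iv D34204) F150354 D34204
theorem F166580 : act 7 n35919 = n35919 := d42_1 D35919 (iv D35919) F158813
def n35920 : Q := act 4 n34211
theorem D35920 : act 4 n34211 = n35920 := rfl
theorem F166581 : act 1 n35920 = n34213 := d11_1 D35920 (iv D34213) (iv F158844)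
def n35921 : Q := act 7 n34211
theorem D35921 : act 7 n34211 = n35921 := rfl
theorem F166582 : act 1 n35921 = n34214 := d14_1 D35921 (iv D34214) (iv F158844)
theorem F166583 : act 3 n35921 = n34737 := d27_1 D35921 (iv D34737) (iv F158845)
theorem F166584 : act 5 n35921 = n34212 := d36_1 D35921 (iv D34212) D34211
def n35922 : Q := act 7 n34213
theorem D35922 : act 7 n34213 = n35922 := rfl
theorem F166585 : act 0 n35922 = n34260 := d6_1 D35922 (iv D34260) (iv F158849)
theorem F166586 : act 2 n35922 = n34215 := d21_1 D35922 (iv D34215) (iv F158850)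
theorem F166587 : act 4 n35922 = n34214 := d32_1 D35922 (iv D34214) D34213
def n35923 : Q := act 6 n34214
theorem D35923 : act 6 n34214 = n35923 := rfl
theorem F166588 : act 0 n35923 = n34262 := d5_1 D35923 (iv D34262) (iv F158851)
theorem F166589 : act 2 n35923 = n34216 := d20_1 D35923 (iv D34216) (iv F158852)
theorem F166590 : act 3 n35923 = n34738 := d26_1 D35923 (iv D34738) (iv F158853)
def n35924 : Q := act 6 n34215
theorem D35924 : act 6 n34215 = n35924 := rfl
theorem F166591 : act 0 n35924 = n34264 := d5_1 D35924 (iv D34264) (iv F158855)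
theorem F166592 : act 3 n35924 = n34515 := d26_1 D35924 (iv D34515) (iv F158856)
theorem F166593 : act 4 n35924 = n34216 := d31_1 D35924 (iv D34216) (iv F158857)
def n35925 : Q := act 6 n34217
theorem D35925 : act 6 n34217 = n35925 := rfl
theorem F166594 : act 1 n35925 = n34219 := d13_1 D35925 (iv D34219) (iv F158860)
theorem F166595 : act 2 n35925 = n34270 := d20_1 D35925 (iv D34270) (iv F158861)
theorem F166596 : act 3 n35925 = n34746 := d26_1 D35925 (iv D34746) (iv F158862)
theorem F166597 : act 4 n35925 = n34268 := d31_1 D35925 (iv D34268) (iv F158863)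
theorem F166598 : act 7 n35925 = n35925 := d39_2 D34217 D35925 (iv D35925) (iv D34217) F150469
theorem F166599 : act 9 n35925 = n35925 := d41_2 F158865 D35925 (iv D35925)
def n35926 : Q := act 6 n34218
theorem D35926 : act 6 n34218 = n35926 := rfl
theorem F166600 : act 0 n35926 = n34282 := d5_1 D35926 (iv D34282) (iv F158866)
theorem F166601 : act 1 n35926 = n34268 := d13_1 D35926 (iv D34268) (iv F158867)
theorem F166602 : act 2 n35926 = n34220 := d20_1 D35926 (iv D34220) (iv F158868)
theorem F166603 : act 3 n35926 = n34507 := d26_1 D35926 F159998 (iv F158869)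
theorem F166604 : act 4 n35926 = n34219 := d31_1 D35926 (iv D34219) (iv F158870)
theorem F166605 : act 5 n35926 = n34280 := d35_1 D35926 (iv D34280) F150736 (iv F150678) (iv F158871)
theorem F166606 : act 7 n35926 = n35926 := d39_2 D34218 D35926 (iv D35926) (iv D34218) F150479
theorem F166607 : act 8 n35926 = n34505 := d40_2 (iv F158872) D35926 (iv D34505)
theorem F166608 : act 9 n35926 = n35926 := d41_2 F158873 D35926 (iv D35926)
def n35927 : Q := act 4 n34221
theorem D35927 : act 4 n34221 = n35927 := rfl
theorem F166609 : act 1 n35927 = n34223 := d11_1 D35927 (iv D34223) (iv F158887)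
theorem F166610 : act 2 n35927 = n34298 := d18_1 D35927 (iv D34298) (iv F158888)
theorem F166611 : act 3 n35927 = n34619 := d24_1 D35927 F160339 F151981 (iv F151309) (iv F158889)
theorem F166612 : act 6 n35927 = n34256 := d31_2 (iv F158890) D35927 (iv D34256)
theorem F166613 : act 8 n35927 = n34637 := d33_2 F158892 D35927 F160383
theorem F166614 : act 9 n35927 = n34322 := d34_2 (iv F158891) D35927 (iv D34322)
def n35928 : Q := act 7 n34221
theorem D35928 : act 7 n34221 = n35928 := rfl
theorem F166615 : act 1 n35928 = n34224 := d14_1 D35928 (iv D34224) (iv F158887)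
theorem F166616 : act 2 n35928 = n34299 := d21_1 D35928 (iv D34299) (iv F158888)
theorem F166617 : act 3 n35928 = n34450 := d27_1 D35928 (iv D34450) (iv F158889)
theorem F166618 : act 5 n35928 = n34222 := d36_1 D35928 (iv D34222) D34221
theorem F166619 : act 8 n35928 = n34690 := d42_2 F158892 D35928 F160550
theorem F166620 : act 9 n35928 = n34323 := d43_2 (iv F158891) D35928 (iv D34323)
def n35929 : Q := act 7 n34223
theorem D35929 : act 7 n34223 = n35929 := rfl
theorem F166621 : act 2 n35929 = n34226 := d21_1 D35929 (iv D34226) (iv F158899)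
theorem F166622 : act 4 n35929 = n34224 := d32_1 D35929 (iv D34224) D34223
theorem F166623 : act 9 n35929 = n34325 := d43_2 (iv F158901) D35929 (iv D34325)
def n35930 : Q := act 6 n34224
theorem D35930 : act 6 n34224 = n35930 := rfl
theorem F166624 : act 2 n35930 = n34228 := d20_1 D35930 (iv D34228) (iv F158902)
theorem F166625 : act 3 n35930 = n34452 := d26_1 D35930 (iv D34452) (iv F158903)
theorem F166626 : act 5 n35930 = n34345 := d35_1 D35930 (iv D34345) F150911 (iv F150523) (iv F158904)
theorem F166627 : act 7 n35930 = n34262 := d39_2 D34224 D35930 (iv D34262) (iv D32395) (iv F150519)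
theorem F166628 : act 9 n35930 = n34327 := d41_2 (iv F158905) D35930 (iv D34327)
def n35931 : Q := act 8 n34224
theorem D35931 : act 8 n34224 = n35931 := rfl
theorem F166629 : act 1 n35931 = n34690 := d15_1 D35931 (iv F166619) F166615
theorem F166630 : act 2 n35931 = n34229 := d22_1 D35931 (iv D34229) (iv F158902)
theorem F166631 : act 3 n35931 = n34453 := d28_1 D35931 (iv D34453) (iv F158903)
theorem F166632 : act 5 n35931 = n35931 := d37_1 D35931 (iv D35931) F158904 F150524 (iv F158904)
theorem F166633 : act 7 n35931 = n34225 := d42_1 D35931 (iv D34225) D34224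
theorem F166634 : act 9 n35931 = n34650 := d44_2 (iv F158905) D35931 F160408 F159314 (iv D34328)
def n35932 : Q := act 6 n34226
theorem D35932 : act 6 n34226 = n35932 := rfl
theorem F166635 : act 1 n35932 = n34307 := d13_1 D35932 (iv D34307) (iv F158912)
theorem F166636 : act 3 n35932 = n34518 := d26_1 D35932 (iv D34518) (iv F158913)
theorem F166637 : act 4 n35932 = n34228 := d31_1 D35932 (iv D34228) (iv F158914)
theorem F166638 : act 7 n35932 = n34264 := d39_2 D34226 D35932 (iv D34264) (iv D32397) (iv F150528)
theorem F166639 : act 9 n35932 = n34329 := d41_2 (iv F158915) D35932 (iv D34329)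
def n35933 : Q := act 8 n34226
theorem D35933 : act 8 n34226 = n35933 := rfl
theorem F166640 : act 1 n35933 = n34308 := d15_1 D35933 (iv D34308) (iv F158912)
theorem F166641 : act 3 n35933 = n34519 := d28_1 D35933 (iv D34519) (iv F158913)
theorem F166642 : act 4 n35933 = n34229 := d33_1 D35933 (iv D34229) (iv F158914)
theorem F166643 : act 7 n35933 = n34227 := d42_1 D35933 (iv D34227) D34226
def n35934 : Q := act 8 n34228
theorem D35934 : act 8 n34228 = n35934 := rfl
theorem F166644 : act 1 n35934 = n34311 := d15_1 D35934 (iv D34311) (iv F158920)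
theorem F166645 : act 3 n35934 = n34230 := d28_1 D35934 (iv D34230) (iv F158921)
theorem F166646 : act 6 n35934 = n34229 := d40_1 D35934 (iv D34229) D34228
theorem F166647 : act 7 n35934 = n34266 := d42_1 D35934 (iv D34266) (iv F158923)
def n35935 : Q := act 5 n34230
theorem D35935 : act 5 n34230 = n35935 := rfl
theorem F166648 : act 1 n35935 = n34313 := d12_1 D35935 (iv D34313) (iv F158929)
theorem F166649 : act 2 n35935 = n34456 := d19_1 D35935 (iv D34456) (iv F158930)
theorem F166650 : act 4 n35935 = n34668 := d30_1 D35935 (iv D34668) F152139 F151700 (iv F158931)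
theorem F166651 : act 6 n35935 = n35935 := d35_2 (iv F158932) D35935 (iv D35935) F158932 F150547
theorem F166652 : act 7 n35935 = n34267 := d36_2 (iv F158933) D35935 (iv D34267)
theorem F166653 : act 8 n35935 = n34354 := d37_2 D34230 D35935 (iv D34354) (iv D32475) (iv F150541)
def n35936 : Q := act 4 n34231
theorem D35936 : act 4 n34231 = n35936 := rfl
theorem F166654 : act 1 n35936 = n34233 := d11_1 D35936 (iv D34233) (iv F158934)
theorem F166655 : act 2 n35936 = n34322 := d18_1 D35936 (iv D34322) (iv F158935)
theorem F166656 : act 3 n35936 = n34344 := d24_1 D35936 F159358 F150914 F151168 (iv F158936)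
theorem F166657 : act 6 n35936 = n34339 := d31_2 (iv F158937) D35936 (iv D34339)
theorem F166658 : act 8 n35936 = n34342 := d33_2 (iv F158938) D35936 F159352
theorem F166659 : act 9 n35936 = n34298 := d34_2 (iv F158939) D35936 (iv D34298)
def n35937 : Q := act 7 n34231
theorem D35937 : act 7 n34231 = n35937 := rfl
theorem F166660 : act 1 n35937 = n34234 := d14_1 D35937 (iv D34234) (iv F158934)
theorem F166661 : act 2 n35937 = n34323 := d21_1 D35937 (iv D34323) (iv F158935)
theorem F166662 : act 3 n35937 = n34424 := d27_1 D35937 (iv D34424) (iv F158936)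
theorem F166663 : act 5 n35937 = n34232 := d36_1 D35937 (iv D34232) D34231
theorem F166664 : act 8 n35937 = n34467 := d42_2 (iv F158938) D35937 (iv D34467)
theorem F166665 : act 9 n35937 = n34299 := d43_2 (iv F158939) D35937 (iv D34299)
def n35938 : Q := act 3 n34233
theorem D35938 : act 3 n34233 = n35938 := rfl
theorem F166666 : act 1 n35938 = n34344 := d10_1 D35938 (iv F166656) F166654
theorem F166667 : act 2 n35938 = n34570 := d17_1 D35938 (iv D34570) F151850 (iv F150570) (iv F158946)
theorem F166668 : act 4 n35938 = n34341 := d24_2 D34233 D35938 F159347 (iv D32544) (iv F150561)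
theorem F166669 : act 6 n35938 = n34342 := d26_2 (iv F158947) D35938 (iv D34342)
theorem F166670 : act 9 n35938 = n34301 := d29_2 (iv F158948) D35938 (iv D34301)
theorem F166671 : act 8 n34339 = n35938 := d40_0 F166669 (iv F166658) F166657
def n35939 : Q := act 7 n34233
theorem D35939 : act 7 n34233 = n35939 := rfl
theorem F166672 : act 2 n35939 = n34236 := d21_1 D35939 (iv D34236) (iv F158946)
theorem F166673 : act 4 n35939 = n34234 := d32_1 D35939 (iv D34234) D34233
theorem F166674 : act 9 n35939 = n34302 := d43_2 (iv F158948) D35939 (iv D34302)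
def n35940 : Q := act 8 n34233
theorem D35940 : act 8 n34233 = n35940 := rfl
theorem F166675 : act 1 n35940 = n34342 := d15_1 D35940 (iv F166658) F166654
theorem F166676 : act 2 n35940 = n34237 := d22_1 D35940 (iv D34237) (iv F158946)
theorem F166677 : act 3 n35940 = n34339 := d28_1 D35940 F166671 (iv D35938)
theorem F166678 : act 4 n35940 = n34235 := d33_1 D35940 (iv D34235) D34233
theorem F166679 : act 6 n35940 = n34344 := d40_1 D35940 (iv D34344) (iv F158947)
theorem F166680 : act 9 n34359 = n35940 := d34_0 F166678 (iv F158958) (iv F159403)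
def n35941 : Q := act 6 n34234
theorem D35941 : act 6 n34234 = n35941 := rfl
theorem F166681 : act 2 n35941 = n34238 := d20_1 D35941 (iv D34238) (iv F158949)
theorem F166682 : act 3 n35941 = n34426 := d26_1 D35941 (iv D34426) (iv F158950)
theorem F166683 : act 5 n35941 = n34262 := d35_1 D35941 (iv D34262) F150655 (iv F150566) (iv F158951)
theorem F166684 : act 7 n35941 = n34345 := d39_2 D34234 D35941 (iv D34345) (iv D32468) (iv F150562)
theorem F166685 : act 9 n35941 = n34304 := d41_2 (iv F158952) D35941 (iv D34304)
def n35942 : Q := act 8 n34234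
theorem D35942 : act 8 n34234 = n35942 := rfl
theorem F166686 : act 1 n35942 = n34467 := d15_1 D35942 (iv F166664) F166660
theorem F166687 : act 2 n35942 = n34239 := d22_1 D35942 (iv D34239) (iv F158949)
theorem F166688 : act 3 n35942 = n34427 := d28_1 D35942 (iv D34427) (iv F158950)
theorem F166689 : act 5 n35942 = n34269 := d37_1 D35942 (iv D34269) F150682 (iv F150567) (iv F158951)
theorem F166690 : act 7 n35942 = n34235 := d42_1 D35942 (iv D34235) D34234
theorem F166691 : act 9 n34480 = n35942 := d43_0 F166690 (iv F158958) D34480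
def n35943 : Q := act 6 n34236
theorem D35943 : act 6 n34236 = n35943 := rfl
theorem F166692 : act 1 n35943 = n34329 := d13_1 D35943 (iv D34329) (iv F158959)
theorem F166693 : act 3 n35943 = n34576 := d26_1 D35943 (iv D34576) (iv F158960)
theorem F166694 : act 4 n35943 = n34238 := d31_1 D35943 (iv D34238) (iv F158961)
theorem F166695 : act 7 n35943 = n34348 := d39_2 D34236 D35943 (iv D34348) (iv D32470) (iv F150571)
theorem F166696 : act 9 n35943 = n34307 := d41_2 (iv F158962) D35943 (iv D34307)
def n35944 : Q := act 8 n34236
theorem D35944 : act 8 n34236 = n35944 := rfl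
theorem F166697 : act 1 n35944 = n34330 := d15_1 D35944 (iv D34330) (iv F158959)
theorem F166698 : act 3 n35944 = n34577 := d28_1 D35944 (iv D34577) (iv F158960)
theorem F166699 : act 4 n35944 = n34239 := d33_1 D35944 (iv D34239) (iv F158961)
theorem F166700 : act 7 n35944 = n34237 := d42_1 D35944 (iv D34237) D34236
def n35945 : Q := act 5 n34237
theorem D35945 : act 5 n34237 = n35945 := rfl
theorem F166701 : act 1 n35945 = n34331 := d12_1 D35945 (iv D34331) (iv F158963)
theorem F166702 : act 3 n35945 = n34578 := d25_1 D35945 (iv D34578) (iv F158964)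
theorem F166703 : act 4 n35945 = n34272 := d30_1 D35945 (iv D34272) F150695 (iv F150579) (iv F158965)
def n35946 : Q := act 9 n34237
theorem D35946 : act 9 n34237 = n35946 := rfl
theorem F166704 : act 1 n35946 = n34332 := d16_1 D35946 (iv D34332) (iv F158963)
theorem F166705 : act 2 n35946 = n34359 := d23_1 D35946 F166680 F166676
theorem F166706 : act 3 n35946 = n34579 := d29_1 D35946 (iv D34579) (iv F158964)
theorem F166707 : act 4 n35946 = n34240 := d34_1 D35946 (iv D34240) (iv F158965)
theorem F166708 : act 6 n35946 = n34351 := d41_1 D35946 (iv D34351) (iv F158966)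
theorem F166709 : act 8 n35946 = n34310 := d44_1 D35946 (iv D34310) (iv D32439) (iv F150572) D34237
def n35947 : Q := act 8 n34238
theorem D35947 : act 8 n34238 = n35947 := rfl
theorem F166710 : act 1 n35947 = n34333 := d15_1 D35947 (iv D34333) (iv F158967)
theorem F166711 : act 3 n35947 = n34241 := d28_1 D35947 (iv D34241) (iv F158968)
theorem F166712 : act 6 n35947 = n34239 := d40_1 D35947 (iv D34239) D34238
theorem F166713 : act 7 n35947 = n34352 := d42_1 D35947 (iv D34352) (iv F158970)
def n35948 : Q := act 9 n34239
theorem D35948 : act 9 n34239 = n35948 := rfl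
theorem F166714 : act 1 n35948 = n34334 := d16_1 D35948 (iv D34334) (iv F158972)
theorem F166715 : act 2 n35948 = n34480 := d23_1 D35948 F166691 F166687
theorem F166716 : act 3 n35948 = n34242 := d29_1 D35948 (iv D34242) (iv F158973)
theorem F166717 : act 5 n35948 = n34274 := d38_1 D35948 (iv D34274) (iv F158974)
theorem F166718 : act 7 n35948 = n34240 := d43_1 D35948 (iv D34240) (iv F158975)
theorem F166719 : act 8 n35948 = n34312 := d44_1 D35948 (iv D34312) (iv D32441) (iv F150576) D34239
def n35949 : Q := act 5 n34241
theorem D35949 : act 5 n34241 = n35949 := rfl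
theorem F166720 : act 1 n35949 = n34335 := d12_1 D35949 (iv D34335) (iv F158982)
theorem F166721 : act 2 n35949 = n34430 := d19_1 D35949 (iv D34430) (iv F158983)
theorem F166722 : act 6 n35949 = n34275 := d35_2 (iv F158985) D35949 (iv D34275) F150713 (iv F150590)
theorem F166723 : act 7 n35949 = n34354 := d36_2 (iv F158986) D35949 (iv D34354)
theorem F166724 : act 8 n35949 = n34267 := d37_2 D34241 D35949 (iv D34267) (iv D32401) (iv F150584)
theorem F166725 : act 4 n34691 = n35949 := d33_3 F166724 F159090 D34691
def n35950 : Q := act 9 n34241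
theorem D35950 : act 9 n34241 = n35950 := rfl
theorem F166726 : act 1 n35950 = n34336 := d16_1 D35950 (iv D34336) (iv F158982)
theorem F166727 : act 2 n35950 = n34431 := d23_1 D35950 (iv D34431) (iv F158983)
theorem F166728 : act 4 n35950 = n34583 := d34_1 D35950 (iv D34583) (iv F158984)
theorem F166729 : act 6 n35950 = n34242 := d41_1 D35950 (iv D34242) (iv F158985)
theorem F166730 : act 7 n35950 = n34355 := d43_1 D35950 (iv D34355) (iv F158986)
theorem F166731 : act 8 n35950 = n34314 := d44_1 D35950 (iv D34314) (iv D32443) (iv F150586) D34241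
def n35951 : Q := act 7 n34243
theorem D35951 : act 7 n34243 = n35951 := rfl
theorem F166732 : act 0 n35951 = n34245 := d6_1 D35951 (iv D34245) (iv F158993)
theorem F166733 : act 2 n35951 = n34338 := d21_1 D35951 (iv D34338) (iv F158994)
theorem F166734 : act 3 n35951 = n34414 := d27_1 D35951 (iv D34414) (iv F158995)
theorem F166735 : act 6 n35951 = n34297 := d39_1 D35951 (iv D34297) (iv D32432) (iv F150601) D34243
theorem F166736 : act 8 n35951 = n35951 := d42_2 F158996 D35951 (iv D35951)
theorem F166737 : act 9 n35951 = n34255 := d43_2 (iv F158997) D35951 (iv D34255)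
def n35952 : Q := act 4 n34244
theorem D35952 : act 4 n34244 = n35952 := rfl
theorem F166738 : act 1 n35952 = n34246 := d11_1 D35952 (iv D34246) (iv F158998)
theorem F166739 : act 2 n35952 = n34339 := d18_1 D35952 (iv D34339) (iv F158999)
theorem F166740 : act 3 n35952 = n34572 := d24_1 D35952 F160196 F151858 F151114 (iv F159000)
theorem F166741 : act 6 n35952 = n34322 := d31_2 (iv F159001) D35952 (iv D34322)
theorem F166742 : act 8 n35952 = n34570 := d33_2 F159003 D35952 F160189
theorem F166743 : act 9 n35952 = n34256 := d34_2 (iv F159002) D35952 (iv D34256)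
def n35953 : Q := act 7 n34244
theorem D35953 : act 7 n34244 = n35953 := rfl
theorem F166744 : act 1 n35953 = n34247 := d14_1 D35953 (iv D34247) (iv F158998)
theorem F166745 : act 2 n35953 = n34340 := d21_1 D35953 (iv D34340) (iv F158999)
theorem F166746 : act 3 n35953 = n34415 := d27_1 D35953 (iv D34415) (iv F159000)
theorem F166747 : act 5 n35953 = n34245 := d36_1 D35953 (iv D34245) D34244
theorem F166748 : act 8 n35953 = n34655 := d42_2 F159003 D35953 (iv D34655)
theorem F166749 : act 9 n35953 = n34257 := d43_2 (iv F159002) D35953 (iv D34257)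
def n35954 : Q := act 3 n34246
theorem D35954 : act 3 n34246 = n35954 := rfl
theorem F166750 : act 1 n35954 = n34572 := d10_1 D35954 (iv F166740) F166738
theorem F166751 : act 2 n35954 = n34530 := d17_1 D35954 (iv D34530) F151740 (iv F150619) (iv F159010)
theorem F166752 : act 4 n35954 = n34416 := d24_2 D34246 D35954 (iv D34416) (iv D32534) (iv F150610)
theorem F166753 : act 6 n35954 = n34324 := d26_2 (iv F159011) D35954 (iv D34324)
theorem F166754 : act 9 n35954 = n34259 := d29_2 (iv F159012) D35954 (iv D34259)
theorem F166755 : act 8 n34568 = n35954 := d44_5 F166754 (iv F159066) (iv F153135) F153134 (iv F160184)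
def n35955 : Q := act 7 n34246
theorem D35955 : act 7 n34246 = n35955 := rfl
theorem F166756 : act 2 n35955 = n34249 := d21_1 D35955 (iv D34249) (iv F159010)
theorem F166757 : act 4 n35955 = n34247 := d32_1 D35955 (iv D34247) D34246
theorem F166758 : act 9 n35955 = n34260 := d43_2 (iv F159012) D35955 (iv D34260)
def n35956 : Q := act 8 n34246
theorem D35956 : act 8 n34246 = n35956 := rfl
theorem F166759 : act 1 n35956 = n34570 := d15_1 D35956 (iv F166742) F166738
theorem F166760 : act 2 n35956 = n34250 := d22_1 D35956 (iv D34250) (iv F159010)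
theorem F166761 : act 3 n35956 = n34568 := d28_1 D35956 F166755 (iv D35954)
theorem F166762 : act 4 n35956 = n34248 := d33_1 D35956 (iv D34248) D34246
theorem F166763 : act 6 n35956 = n34326 := d40_1 D35956 (iv D34326) (iv F159011)
theorem F166764 : act 9 n35956 = n34584 := d44_2 (iv F159012) D35956 (iv F160984) F160985 (iv D34261)
def n35957 : Q := act 6 n34247
theorem D35957 : act 6 n34247 = n35957 := rfl
theorem F166765 : act 2 n35957 = n34251 := d20_1 D35957 (iv D34251) (iv F159013)
theorem F166766 : act 3 n35957 = n34418 := d26_1 D35957 (iv D34418) (iv F159014)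
theorem F166767 : act 5 n35957 = n34304 := d35_1 D35957 (iv D34304) F150807 (iv F150615) (iv F159015)
theorem F166768 : act 7 n35957 = n34327 := d39_2 D34247 D35957 (iv D34327) (iv D32455) (iv F150611)
theorem F166769 : act 9 n35957 = n34262 := d41_2 (iv F159016) D35957 (iv D34262)
def n35958 : Q := act 8 n34247
theorem D35958 : act 8 n34247 = n35958 := rfl
theorem F166770 : act 1 n35958 = n34655 := d15_1 D35958 (iv F166748) F166744
theorem F166771 : act 2 n35958 = n34252 := d22_1 D35958 (iv D34252) (iv F159013)
theorem F166772 : act 3 n35958 = n34419 := d28_1 D35958 (iv D34419) (iv F159014)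
theorem F166773 : act 5 n35958 = n35958 := d37_1 D35958 (iv D35958) F159015 F150616 (iv F159015)
theorem F166774 : act 7 n35958 = n34248 := d42_1 D35958 (iv D34248) D34247
theorem F166775 : act 9 n35958 = n34665 := d44_2 (iv F159016) D35958 (iv F161115) F161116 (iv D34263)
def n35959 : Q := act 6 n34249
theorem D35959 : act 6 n34249 = n35959 := rfl
theorem F166776 : act 1 n35959 = n34348 := d13_1 D35959 (iv D34348) (iv F159023)
theorem F166777 : act 3 n35959 = n34533 := d26_1 D35959 (iv D34533) (iv F159024)
theorem F166778 : act 4 n35959 = n34251 := d31_1 D35959 (iv D34251) (iv F159025)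
theorem F166779 : act 7 n35959 = n34329 := d39_2 D34249 D35959 (iv D34329) (iv D32457) (iv F150620)
theorem F166780 : act 9 n35959 = n34264 := d41_2 (iv F159026) D35959 (iv D34264)
def n35960 : Q := act 8 n34249
theorem D35960 : act 8 n34249 = n35960 := rfl
theorem F166781 : act 1 n35960 = n34349 := d15_1 D35960 (iv D34349) (iv F159023)
theorem F166782 : act 3 n35960 = n34534 := d28_1 D35960 (iv D34534) (iv F159024)
theorem F166783 : act 4 n35960 = n34252 := d33_1 D35960 (iv D34252) (iv F159025)
theorem F166784 : act 7 n35960 = n34250 := d42_1 D35960 (iv D34250) D34249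
def n35961 : Q := act 5 n34250
theorem D35961 : act 5 n34250 = n35961 := rfl
theorem F166785 : act 1 n35961 = n34350 := d12_1 D35961 (iv D34350) (iv F159027)
theorem F166786 : act 3 n35961 = n34535 := d25_1 D35961 (iv D34535) (iv F159028)
theorem F166787 : act 4 n35961 = n35961 := d30_1 D35961 (iv D35961) F159029 F150628 (iv F159029)
def n35962 : Q := act 8 n34251
theorem D35962 : act 8 n34251 = n35962 := rfl
theorem F166788 : act 1 n35962 = n34352 := d15_1 D35962 (iv D34352) (iv F159031)
theorem F166789 : act 3 n35962 = n34253 := d28_1 D35962 (iv D34253) (iv F159032)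
theorem F166790 : act 6 n35962 = n34252 := d40_1 D35962 (iv D34252) D34251
theorem F166791 : act 7 n35962 = n34333 := d42_1 D35962 (iv D34333) (iv F159034)
def n35963 : Q := act 5 n34253
theorem D35963 : act 5 n34253 = n35963 := rfl
theorem F166792 : act 1 n35963 = n34354 := d12_1 D35963 (iv D34354) (iv F159040)
theorem F166793 : act 2 n35963 = n34422 := d19_1 D35963 (iv D34422) (iv F159041)
theorem F166794 : act 6 n35963 = n35963 := d35_2 (iv F159043) D35963 (iv D35963) F159043 F150639
theorem F166795 : act 7 n35963 = n34335 := d36_2 (iv F159044) D35963 (iv D34335)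
theorem F166796 : act 8 n35963 = n34313 := d37_2 D34253 D35963 (iv D34313) (iv D32443) (iv F150633)
def n35964 : Q := act 4 n34254
theorem D35964 : act 4 n34254 = n35964 := rfl
theorem F166797 : act 0 n35964 = n34256 := d3_1 D35964 (iv D34256) (iv F159045)
theorem F166798 : act 2 n35964 = n34356 := d18_1 D35964 (iv D34356) (iv F159046)
def n35965 : Q := act 7 n34254
theorem D35965 : act 7 n34254 = n35965 := rfl
theorem F166799 : act 0 n35965 = n34257 := d6_1 D35965 (iv D34257) (iv F159045)
theorem F166800 : act 2 n35965 = n34357 := d21_1 D35965 (iv D34357) (iv F159046)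
theorem F166801 : act 3 n35965 = n34747 := d27_1 D35965 (iv D34747) (iv F159047)
theorem F166802 : act 5 n35965 = n34255 := d36_1 D35965 (iv D34255) D34254
def n35966 : Q := act 3 n34256
theorem D35966 : act 3 n34256 = n35966 := rfl
theorem F166803 : act 1 n35966 = n34259 := d10_1 D35966 (iv D34259) (iv F159052)
theorem F166804 : act 2 n35966 = n34579 := d17_1 D35966 (iv F166706) F166705 (iv D34359) (iv F159053)
theorem F166805 : act 4 n35966 = n34575 := d24_2 D34256 D35966 F160208 F152096 (iv F150647)
theorem F166806 : act 6 n35966 = n34619 := d26_2 F166612 D35966 (iv F166611)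
theorem F166807 : act 9 n35966 = n34572 := d29_2 F166743 D35966 (iv F166740)
theorem F166808 : act 8 n34591 = n35966 := d44_5 F166807 (iv D34572) F151852 D32734 D34591
def n35967 : Q := act 7 n34256
theorem D35967 : act 7 n34256 = n35967 := rfl
theorem F166809 : act 1 n35967 = n34260 := d14_1 D35967 (iv D34260) (iv F159052)
theorem F166810 : act 2 n35967 = n34360 := d21_1 D35967 (iv D34360) (iv F159053)
theorem F166811 : act 4 n35967 = n34257 := d32_1 D35967 (iv D34257) D34256
def n35968 : Q := act 8 n34256
theorem D35968 : act 8 n34256 = n35968 := rfl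
theorem F166812 : act 1 n35968 = n34261 := d15_1 D35968 (iv D34261) (iv F159052)
theorem F166813 : act 2 n35968 = n34361 := d22_1 D35968 (iv D34361) (iv F159053)
theorem F166814 : act 3 n35968 = n34591 := d28_1 D35968 F166808 (iv D35966)
theorem F166815 : act 4 n35968 = n34258 := d33_1 D35968 (iv D34258) D34256
theorem F166816 : act 6 n35968 = n34637 := d40_1 D35968 (iv F166613) F166612
theorem F166817 : act 9 n35968 = n34588 := d44_2 F166743 D35968 (iv D34588) (iv F160191) (iv F166742)
def n35969 : Q := act 6 n34257
theorem D35969 : act 6 n34257 = n35969 := rfl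
theorem F166818 : act 1 n35969 = n34262 := d13_1 D35969 (iv D34262) (iv F159054)
theorem F166819 : act 2 n35969 = n34362 := d20_1 D35969 (iv D34362) (iv F159055)
theorem F166820 : act 3 n35969 = n34748 := d26_1 D35969 (iv D34748) (iv F159056)
def n35970 : Q := act 8 n34257
theorem D35970 : act 8 n34257 = n35970 := rfl
theorem F166821 : act 1 n35970 = n34263 := d15_1 D35970 (iv D34263) (iv F159054)
theorem F166822 : act 2 n35970 = n34363 := d22_1 D35970 (iv D34363) (iv F159055)
theorem F166823 : act 3 n35970 = n34670 := d28_1 D35970 F160485 (iv F159056)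
theorem F166824 : act 5 n35970 = n34281 := d37_1 D35970 (iv D34281) F150736 (iv F150651) (iv F159057)
theorem F166825 : act 7 n35970 = n34258 := d42_1 D35970 (iv D34258) D34257
theorem F166826 : act 9 n35970 = n34667 := d44_2 F166749 D35970 (iv D34667) (iv F160422) (iv F166748)
def n35971 : Q := act 7 n34259
theorem D35971 : act 7 n34259 = n35971 := rfl
theorem F166827 : act 2 n35971 = n34538 := d21_1 D35971 (iv D34538) (iv F159064)
theorem F166828 : act 3 n35971 = n34260 := d27_1 D35971 (iv D34260) D34259
theorem F166829 : act 4 n35971 = n34605 := d32_1 D35971 F160299 (iv F159065)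
theorem F166830 : act 8 n35971 = n34603 := d42_2 F159066 D35971 (iv D34603)
def n35972 : Q := act 6 n34260
theorem D35972 : act 6 n34260 = n35972 := rfl
theorem F166831 : act 2 n35972 = n34264 := d20_1 D35972 (iv D34264) (iv F159067)
theorem F166832 : act 4 n35972 = n34262 := d31_1 D35972 (iv D34262) (iv F159068)
def n35973 : Q := act 8 n34260
theorem D35973 : act 8 n34260 = n35973 := rfl
theorem F166833 : act 2 n35973 = n34265 := d22_1 D35973 (iv D34265) (iv F159067)
theorem F166834 : act 3 n35973 = n34603 := d28_1 D35973 (iv F166830) F166828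
theorem F166835 : act 4 n35973 = n34263 := d33_1 D35973 (iv D34263) (iv F159068)
theorem F166836 : act 7 n35973 = n34261 := d42_1 D35973 (iv D34261) D34260
def n35974 : Q := act 8 n34262
theorem D35974 : act 8 n34262 = n35974 := rfl
theorem F166837 : act 2 n35974 = n34266 := d22_1 D35974 (iv D34266) (iv F159072)
theorem F166838 : act 3 n35974 = n34673 := d28_1 D35974 F160498 (iv F159073)
theorem F166839 : act 6 n35974 = n34263 := d40_1 D35974 (iv D34263) D34262
def n35975 : Q := act 5 n34264
theorem D35975 : act 5 n34264 = n35975 := rfl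
theorem F166840 : act 1 n35975 = n34373 := d12_1 D35975 (iv D34373) (iv F159078)
theorem F166841 : act 3 n35975 = n34540 := d25_1 D35975 (iv D34540) (iv F159079)
def n35976 : Q := act 8 n34264
theorem D35976 : act 8 n34264 = n35976 := rfl
theorem F166842 : act 1 n35976 = n34374 := d15_1 D35976 (iv D34374) (iv F159078)
theorem F166843 : act 3 n35976 = n34541 := d28_1 D35976 (iv D34541) (iv F159079)
theorem F166844 : act 4 n35976 = n34266 := d33_1 D35976 (iv D34266) (iv F159080)
theorem F166845 : act 6 n35976 = n34265 := d40_1 D35976 (iv D34265) D34264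
def n35977 : Q := act 5 n34266
theorem D35977 : act 5 n34266 = n35977 := rfl
theorem F166846 : act 1 n35977 = n34378 := d12_1 D35977 (iv D34378) (iv F159085)
theorem F166847 : act 3 n35977 = n34267 := d25_1 D35977 (iv D34267) (iv F159086)
theorem F166848 : act 6 n35977 = n34285 := d35_2 (iv F159087) D35977 (iv D34285) F150759 (iv F150669)
def n35978 : Q := act 8 n34268
theorem D35978 : act 8 n34268 = n35978 := rfl
theorem F166849 : act 1 n35978 = n34505 := d15_1 D35978 (iv F166607) F166601
theorem F166850 : act 2 n35978 = n34273 := d22_1 D35978 (iv D34273) (iv F159092)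
theorem F166851 : act 3 n35978 = n34503 := d28_1 D35978 F159980 (iv F159093)
theorem F166852 : act 6 n35978 = n34269 := d40_1 D35978 (iv D34269) D34268
theorem F166853 : act 7 n35978 = n35978 := d42_1 D35978 (iv D35978) F159095
theorem F166854 : act 9 n34509 = n35978 := d41_0 F166852 (iv F159101) D34509
def n35979 : Q := act 8 n34270
theorem D35979 : act 8 n34270 = n35979 := rfl
theorem F166855 : act 1 n35979 = n34383 := d15_1 D35979 (iv D34383) (iv F159102)
theorem F166856 : act 3 n35979 = n35979 := d28_1 D35979 (iv D35979) F159103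
theorem F166857 : act 4 n35979 = n34273 := d33_1 D35979 (iv D34273) (iv F159104)
theorem F166858 : act 6 n35979 = n34271 := d40_1 D35979 (iv D34271) D34270
theorem F166859 : act 7 n35979 = n35979 := d42_1 D35979 (iv D35979) F159105
def n35980 : Q := act 5 n34271
theorem D35980 : act 5 n34271 = n35980 := rfl
theorem F166860 : act 1 n35980 = n34384 := d12_1 D35980 (iv D34384) (iv F159107)
theorem F166861 : act 3 n35980 = n35980 := d25_1 D35980 (iv D35980) F159108
theorem F166862 : act 7 n35980 = n34272 := d36_2 (iv F159110) D35980 (iv D34272)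
def n35981 : Q := act 6 n34272
theorem D35981 : act 6 n34272 = n35981 := rfl
theorem F166863 : act 1 n35981 = n34385 := d13_1 D35981 (iv D34385) (iv F159111)
theorem F166864 : act 3 n35981 = n35981 := d26_1 D35981 (iv D35981) F159112
theorem F166865 : act 5 n35981 = n35981 := d35_1 D35981 (iv D35981) (iv D34272) F150696 D34272
theorem F166866 : act 8 n35981 = n34542 := d40_2 F161972 D35981 (iv F161971)
def n35982 : Q := act 5 n34273
theorem D35982 : act 5 n34273 = n35982 := rfl
theorem F166867 : act 1 n35982 = n34386 := d12_1 D35982 (iv D34386) (iv F159113)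
theorem F166868 : act 3 n35982 = n34275 := d25_1 D35982 (iv D34275) (iv F159114)
theorem F166869 : act 7 n35982 = n35982 := d36_2 F159116 D35982 (iv D35982)
theorem F166870 : act 8 n35982 = n34285 := d37_2 D34273 D35982 (iv D34285) (iv D32421) (iv F150699)
def n35983 : Q := act 9 n34273
theorem D35983 : act 9 n34273 = n35983 := rfl
theorem F166871 : act 1 n35983 = n34387 := d16_1 D35983 (iv D34387) (iv F159113)
theorem F166872 : act 2 n35983 = n34509 := d23_1 D35983 F166854 F166850
theorem F166873 : act 3 n35983 = n34276 := d29_1 D35983 (iv D34276) (iv F159114)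
theorem F166874 : act 6 n35983 = n34274 := d41_1 D35983 (iv D34274) (iv F159115)
theorem F166875 : act 7 n35983 = n35983 := d43_1 D35983 (iv D35983) F159116
theorem F166876 : act 8 n35983 = n35983 := d44_1 D35983 (iv D35983) (iv D34273) F150701 D34273
def n35984 : Q := act 9 n34275
theorem D35984 : act 9 n34275 = n35984 := rfl
theorem F166877 : act 1 n35984 = n34389 := d16_1 D35984 (iv D34389) (iv F159122)
theorem F166878 : act 2 n35984 = n34698 := d23_1 D35984 (iv D34698) (iv F159123)
theorem F166879 : act 4 n35984 = n34702 := d34_1 D35984 (iv D34702) F159126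
theorem F166880 : act 5 n35984 = n34276 := d38_1 D35984 (iv D34276) D34275
theorem F166881 : act 7 n35984 = n35984 := d43_1 D35984 (iv D35984) F159124
def n35985 : Q := act 6 n34279
theorem D35985 : act 6 n34279 = n35985 := rfl
theorem F166882 : act 1 n35985 = n34282 := d13_1 D35985 (iv D34282) (iv F159142)
theorem F166883 : act 2 n35985 = n34392 := d20_1 D35985 (iv D34392) (iv F159143)
theorem F166884 : act 4 n35985 = n34280 := d31_1 D35985 (iv D34280) (iv F159144)
theorem F166885 : act 7 n35985 = n35985 := d39_2 D34279 D35985 (iv D35985) (iv D34279) F150731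
theorem F166886 : act 9 n35985 = n35985 := d41_2 F159145 D35985 (iv D35985)
def n35986 : Q := act 5 n34283
theorem D35986 : act 5 n34283 = n35986 := rfl
theorem F166887 : act 2 n35986 = n34285 := d19_1 D35986 (iv D34285) (iv F159159)
theorem F166888 : act 3 n35986 = n34695 := d25_1 D35986 (iv D34695) (iv F159160)
theorem F166889 : act 7 n35986 = n35986 := d36_2 F159162 D35986 (iv D35986)
def n35987 : Q := act 4 n34285
theorem D35987 : act 4 n34285 = n35987 := rfl
theorem F166890 : act 1 n35987 = n34406 := d11_1 D35987 (iv D34406) (iv F159169)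
theorem F166891 : act 3 n35987 = n34700 := d24_1 D35987 (iv D34700) F152327 (iv F150763) (iv F159170)
theorem F166892 : act 7 n35987 = n35987 := d32_2 F159171 D35987 (iv D35987)
def n35988 : Q := act 4 n34286
theorem D35988 : act 4 n34286 = n35988 := rfl
theorem F166893 : act 1 n35988 = n34288 := d11_1 D35988 (iv D34288) (iv F159172)
theorem F166894 : act 5 n35988 = n34298 := d30_2 D34286 D35988 (iv D34298) (iv D32433) (iv F150774)
def n35989 : Q := act 7 n34286
theorem D35989 : act 7 n34286 = n35989 := rfl
theorem F166895 : act 1 n35989 = n34289 := d14_1 D35989 (iv D34289) (iv F159172)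
theorem F166896 : act 3 n35989 = n35989 := d27_1 D35989 (iv D35989) F159173
theorem F166897 : act 5 n35989 = n34287 := d36_1 D35989 (iv D34287) D34286
def n35990 : Q := act 3 n34288
theorem D35990 : act 3 n34288 = n35990 := rfl
theorem F166898 : act 2 n35990 = n34553 := d17_1 D35990 (iv D34553) F151812 (iv F150782) (iv F159178)
theorem F166899 : act 4 n35990 = n35990 := d24_2 D34288 D35990 (iv D35990) (iv D34288) F150777
theorem F166900 : act 5 n35990 = n34301 := d25_2 (iv F159179) D35990 (iv D34301)
def n35991 : Q := act 7 n34288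
theorem D35991 : act 7 n34288 = n35991 := rfl
theorem F166901 : act 2 n35991 = n34291 := d21_1 D35991 (iv D34291) (iv F159178)
theorem F166902 : act 4 n35991 = n34289 := d32_1 D35991 (iv D34289) D34288
theorem F166903 : act 5 n35991 = n34302 := d36_1 D35991 (iv D34302) (iv F159179)
def n35992 : Q := act 8 n34288
theorem D35992 : act 8 n34288 = n35992 := rfl
theorem F166904 : act 2 n35992 = n34292 := d22_1 D35992 (iv D34292) (iv F159178)
theorem F166905 : act 4 n35992 = n34290 := d33_1 D35992 (iv D34290) D34288
def n35993 : Q := act 6 n34289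
theorem D35993 : act 6 n34289 = n35993 := rfl
theorem F166906 : act 2 n35993 = n34293 := d20_1 D35993 (iv D34293) (iv F159180)
theorem F166907 : act 3 n35993 = n35993 := d26_1 D35993 (iv D35993) F159181
def n35994 : Q := act 8 n34289
theorem D35994 : act 8 n34289 = n35994 := rfl
theorem F166908 : act 2 n35994 = n34294 := d22_1 D35994 (iv D34294) (iv F159180)
theorem F166909 : act 3 n35994 = n35994 := d28_1 D35994 (iv D35994) F159181
theorem F166910 : act 5 n35994 = n35994 := d37_1 D35994 (iv D35994) F159182 F150781 (iv F159182)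
theorem F166911 : act 7 n35994 = n34290 := d42_1 D35994 (iv D34290) D34289
def n35995 : Q := act 6 n34291
theorem D35995 : act 6 n34291 = n35995 := rfl
theorem F166912 : act 3 n35995 = n34559 := d26_1 D35995 (iv D34559) (iv F159186)
theorem F166913 : act 4 n35995 = n34293 := d31_1 D35995 (iv D34293) (iv F159187)
def n35996 : Q := act 8 n34291
theorem D35996 : act 8 n34291 = n35996 := rfl
theorem F166914 : act 3 n35996 = n34560 := d28_1 D35996 (iv D34560) (iv F159186)
theorem F166915 : act 4 n35996 = n34294 := d33_1 D35996 (iv D34294) (iv F159187)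
theorem F166916 : act 7 n35996 = n34292 := d42_1 D35996 (iv D34292) D34291
def n35997 : Q := act 5 n34292
theorem D35997 : act 5 n34292 = n35997 := rfl
theorem F166917 : act 3 n35997 = n34561 := d25_1 D35997 (iv D34561) (iv F159189)
theorem F166918 : act 4 n35997 = n35997 := d30_1 D35997 (iv D35997) F159190 F150787 (iv F159190)
theorem F166919 : act 8 n35997 = n34309 := d37_2 D34292 D35997 (iv D34309) (iv D32439) (iv F150783)
def n35998 : Q := act 8 n34293
theorem D35998 : act 8 n34293 = n35998 := rfl
theorem F166920 : act 3 n35998 = n34295 := d28_1 D35998 (iv D34295) (iv F159191)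
theorem F166921 : act 6 n35998 = n34294 := d40_1 D35998 (iv D34294) D34293
def n35999 : Q := act 5 n34295
theorem D35999 : act 5 n34295 = n35999 := rfl
theorem F166922 : act 2 n35999 = n35999 := d19_1 D35999 (iv D35999) F159195
theorem F166923 : act 6 n35999 = n35999 := d35_2 (iv F159197) D35999 (iv D35999) F159197 F150792
def n36000 : Q := act 4 n34296
theorem D36000 : act 4 n34296 = n36000 := rfl
theorem F166924 : act 0 n36000 = n34298 := d3_1 D36000 (iv D34298) (iv F159198)
theorem F166925 : act 6 n36000 = n34356 := d31_2 (iv F159200) D36000 (iv D34356)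
def n36001 : Q := act 7 n34296
theorem D36001 : act 7 n34296 = n36001 := rfl
theorem F166926 : act 0 n36001 = n34299 := d6_1 D36001 (iv D34299) (iv F159198)
theorem F166927 : act 3 n36001 = n34432 := d27_1 D36001 (iv D34432) (iv F159199)
theorem F166928 : act 5 n36001 = n34297 := d36_1 D36001 (iv D34297) D34296
def n36002 : Q := act 3 n34298
theorem D36002 : act 3 n34298 = n36002 := rfl
theorem F166929 : act 1 n36002 = n34301 := d10_1 D36002 (iv D34301) (iv F159204)
theorem F166930 : act 2 n36002 = n34351 := d17_1 D36002 F159380 (iv F160338) (iv F166611) F166610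
theorem F166931 : act 4 n36002 = n34347 := d24_2 D34298 D36002 F159368 (iv D32554) (iv F150798)
theorem F166932 : act 6 n36002 = n34359 := d26_2 (iv F159205) D36002 (iv D34359)
theorem F166933 : act 9 n36002 = n34344 := d29_2 F166659 D36002 (iv F166656)
theorem F166934 : act 8 n34370 = n36002 := d44_5 F166933 (iv D34344) F150908 D32484 D34370
def n36003 : Q := act 7 n34298
theorem D36003 : act 7 n34298 = n36003 := rfl
theorem F166935 : act 1 n36003 = n34302 := d14_1 D36003 (iv D34302) (iv F159204)
theorem F166936 : act 4 n36003 = n34299 := d32_1 D36003 (iv D34299) D34298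
def n36004 : Q := act 8 n34298
theorem D36004 : act 8 n34298 = n36004 := rfl
theorem F166937 : act 1 n36004 = n34303 := d15_1 D36004 (iv D34303) (iv F159204)
theorem F166938 : act 2 n36004 = n34637 := d22_1 D36004 (iv F166613) F166610
theorem F166939 : act 3 n36004 = n34370 := d28_1 D36004 F166934 (iv D36002)
theorem F166940 : act 4 n36004 = n34300 := d33_1 D36004 (iv D34300) D34298
theorem F166941 : act 6 n36004 = n34361 := d40_1 D36004 (iv D34361) (iv F159205)
theorem F166942 : act 9 n36004 = n34366 := d44_2 F166659 D36004 (iv D34366) (iv F159353) (iv F166658)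
def n36005 : Q := act 6 n34299
theorem D36005 : act 6 n34299 = n36005 := rfl
theorem F166943 : act 1 n36005 = n34304 := d13_1 D36005 (iv D34304) (iv F159206)
theorem F166944 : act 3 n36005 = n34434 := d26_1 D36005 (iv D34434) (iv F159207)
theorem F166945 : act 7 n36005 = n34362 := d39_2 D34299 D36005 (iv D34362) (iv D32480) (iv F150799)
def n36006 : Q := act 8 n34299
theorem D36006 : act 8 n34299 = n36006 := rfl
theorem F166946 : act 1 n36006 = n34305 := d15_1 D36006 (iv D34305) (iv F159206)
theorem F166947 : act 2 n36006 = n34690 := d22_1 D36006 (iv F166619) F166616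
theorem F166948 : act 3 n36006 = n34435 := d28_1 D36006 (iv D34435) (iv F159207)
theorem F166949 : act 5 n36006 = n36006 := d37_1 D36006 (iv D36006) F159208 F150802 (iv F159208)
theorem F166950 : act 7 n36006 = n34300 := d42_1 D36006 (iv D34300) D34299
theorem F166951 : act 9 n36006 = n34484 := d44_2 F166665 D36006 (iv D34484) (iv F159840) (iv F166664)
def n36007 : Q := act 7 n34301
theorem D36007 : act 7 n34301 = n36007 := rfl
theorem F166952 : act 2 n36007 = n34587 := d21_1 D36007 (iv D34587) (iv F159215)
theorem F166953 : act 3 n36007 = n34302 := d27_1 D36007 (iv D34302) D34301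
theorem F166954 : act 4 n36007 = n34436 := d32_1 D36007 (iv D34436) (iv F159216)
def n36008 : Q := act 8 n34301
theorem D36008 : act 8 n34301 = n36008 := rfl
theorem F166955 : act 1 n36008 = n34370 := d15_1 D36008 F166934 F166929
theorem F166956 : act 2 n36008 = n34588 := d22_1 D36008 (iv D34588) (iv F159215)
theorem F166957 : act 3 n36008 = n34303 := d28_1 D36008 (iv D34303) D34301
theorem F166958 : act 4 n36008 = n34364 := d33_1 D36008 F159419 (iv F159216)
theorem F166959 : act 6 n36008 = n34366 := d40_1 D36008 (iv D34366) (iv F159217)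
theorem F166960 : act 9 n36008 = n34361 := d44_2 F166670 D36008 (iv D34361) (iv F159340) F166671
def n36009 : Q := act 6 n34302
theorem D36009 : act 6 n34302 = n36009 := rfl
theorem F166961 : act 2 n36009 = n34307 := d20_1 D36009 (iv D34307) (iv F159218)
theorem F166962 : act 4 n36009 = n34304 := d31_1 D36009 (iv D34304) (iv F159219)
theorem F166963 : act 7 n36009 = n34367 := d39_2 D34302 D36009 (iv D34367) (iv D32483) (iv F150804)
def n36010 : Q := act 8 n34302
theorem D36010 : act 8 n34302 = n36010 := rfl
theorem F166964 : act 2 n36010 = n34308 := d22_1 D36010 (iv D34308) (iv F159218)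
theorem F166965 : act 4 n36010 = n34305 := d33_1 D36010 (iv D34305) (iv F159219)
theorem F166966 : act 7 n36010 = n34303 := d42_1 D36010 (iv D34303) D34302
def n36011 : Q := act 5 n34303
theorem D36011 : act 5 n34303 = n36011 := rfl
theorem F166967 : act 2 n36011 = n34309 := d19_1 D36011 (iv D34309) (iv F159220)
theorem F166968 : act 4 n36011 = n36011 := d30_1 D36011 (iv D36011) F159221 F150810 (iv F159221)
def n36012 : Q := act 9 n34303
theorem D36012 : act 9 n34303 = n36012 := rfl
theorem F166969 : act 1 n36012 = n34366 := d16_1 D36012 (iv F166942) F166937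
theorem F166970 : act 2 n36012 = n34310 := d23_1 D36012 (iv D34310) (iv F159220)
theorem F166971 : act 3 n36012 = n34361 := d29_1 D36012 (iv F166960) F166957
theorem F166972 : act 4 n36012 = n34306 := d34_1 D36012 (iv D34306) (iv F159221)
theorem F166973 : act 6 n36012 = n34370 := d41_1 D36012 (iv D34370) (iv F159222)
theorem F166974 : act 8 n36012 = n34359 := d44_1 D36012 F166680 (iv D35940) F158948 D34303
def n36013 : Q := act 8 n34304
theorem D36013 : act 8 n34304 = n36013 := rfl
theorem F166975 : act 2 n36013 = n34311 := d22_1 D36013 (iv D34311) (iv F159223)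
theorem F166976 : act 3 n36013 = n34439 := d28_1 D36013 (iv D34439) (iv F159224)
theorem F166977 : act 6 n36013 = n34305 := d40_1 D36013 (iv D34305) D34304
theorem F166978 : act 7 n36013 = n34371 := d42_1 D36013 (iv D34371) (iv F159225)
def n36014 : Q := act 9 n34305
theorem D36014 : act 9 n34305 = n36014 := rfl
theorem F166979 : act 1 n36014 = n34484 := d16_1 D36014 (iv F166951) F166946
theorem F166980 : act 2 n36014 = n34312 := d23_1 D36014 (iv D34312) (iv F159226)
theorem F166981 : act 3 n36014 = n34440 := d29_1 D36014 (iv D34440) (iv F159227)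
theorem F166982 : act 5 n36014 = n36014 := d38_1 D36014 (iv D36014) F159228
theorem F166983 : act 7 n36014 = n34306 := d43_1 D36014 (iv D34306) (iv F159229)
theorem F166984 : act 8 n36014 = n34480 := d44_1 D36014 F166691 (iv D35942) F158952 D34305
def n36015 : Q := act 5 n34307
theorem D36015 : act 5 n34307 = n36015 := rfl
theorem F166985 : act 3 n36015 = n34594 := d25_1 D36015 (iv D34594) (iv F159236)
theorem F166986 : act 7 n36015 = n34373 := d36_2 (iv F159238) D36015 (iv D34373)
def n36016 : Q := act 8 n34307
theorem D36016 : act 8 n34307 = n36016 := rfl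
theorem F166987 : act 3 n36016 = n34595 := d28_1 D36016 (iv D34595) (iv F159236)
theorem F166988 : act 4 n36016 = n34311 := d33_1 D36016 (iv D34311) (iv F159237)
theorem F166989 : act 6 n36016 = n34308 := d40_1 D36016 (iv D34308) D34307
theorem F166990 : act 7 n36016 = n34374 := d42_1 D36016 (iv D34374) (iv F159238)
def n36017 : Q := act 5 n34308
theorem D36017 : act 5 n34308 = n36017 := rfl
theorem F166991 : act 3 n36017 = n34596 := d25_1 D36017 (iv D34596) (iv F159239)
theorem F166992 : act 4 n36017 = n36017 := d30_1 D36017 (iv D36017) F159240 F150820 (iv F159240)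
theorem F166993 : act 7 n36017 = n34309 := d36_2 (iv F159241) D36017 (iv D34309)
def n36018 : Q := act 9 n34308
theorem D36018 : act 9 n34308 = n36018 := rfl
theorem F166994 : act 3 n36018 = n34597 := d29_1 D36018 (iv D34597) (iv F159239)
theorem F166995 : act 4 n36018 = n34312 := d34_1 D36018 (iv D34312) (iv F159240)
theorem F166996 : act 7 n36018 = n34310 := d43_1 D36018 (iv D34310) (iv F159241)
def n36019 : Q := act 6 n34309
theorem D36019 : act 6 n34309 = n36019 := rfl
theorem F166997 : act 3 n36019 = n34598 := d26_1 D36019 (iv D34598) (iv F159242)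
theorem F166998 : act 4 n36019 = n36019 := d31_1 D36019 (iv D36019) F159243
theorem F166999 : act 5 n36019 = n34377 := d35_1 D36019 (iv D34377) (iv D32490) (iv F150816) D34309
def n36020 : Q := act 9 n34309
theorem D36020 : act 9 n34309 = n36020 := rfl
theorem F167000 : act 3 n36020 = n34599 := d29_1 D36020 (iv D34599) (iv F159242)
theorem F167001 : act 4 n36020 = n36020 := d34_1 D36020 (iv D36020) F159243
theorem F167002 : act 5 n36020 = n34310 := d38_1 D36020 (iv D34310) D34309
def n36021 : Q := act 5 n34311
theorem D36021 : act 5 n34311 = n36021 := rfl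
theorem F167003 : act 3 n36021 = n34313 := d25_1 D36021 (iv D34313) (iv F159247)
theorem F167004 : act 6 n36021 = n36021 := d35_2 (iv F159248) D36021 (iv D36021) F159248 F150820
theorem F167005 : act 7 n36021 = n34378 := d36_2 (iv F159249) D36021 (iv D34378)
def n36022 : Q := act 9 n34311
theorem D36022 : act 9 n34311 = n36022 := rfl
theorem F167006 : act 3 n36022 = n34314 := d29_1 D36022 (iv D34314) (iv F159247)
theorem F167007 : act 6 n36022 = n34312 := d41_1 D36022 (iv D34312) (iv F159248)
theorem F167008 : act 7 n36022 = n34379 := d43_1 D36022 (iv D34379) (iv F159249)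
def n36023 : Q := act 4 n34313
theorem D36023 : act 4 n34313 = n36023 := rfl
theorem F167009 : act 1 n36023 = n34668 := d11_1 D36023 (iv F166650) F166648
theorem F167010 : act 2 n36023 = n34445 := d18_1 D36023 (iv D34445) (iv F159253)
theorem F167011 : act 5 n36023 = n34601 := d30_2 D34313 D36023 (iv D34601) (iv D32744) (iv F150826)
theorem F167012 : act 6 n36023 = n36023 := d31_2 F159254 D36023 (iv D36023)
theorem F167013 : act 7 n36023 = n34380 := d32_2 (iv F159255) D36023 (iv D34380)
def n36024 : Q := act 9 n34313
theorem D36024 : act 9 n34313 = n36024 := rfl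
theorem F167014 : act 2 n36024 = n34446 := d23_1 D36024 (iv D34446) (iv F159253)
theorem F167015 : act 5 n36024 = n34314 := d38_1 D36024 (iv D34314) D34313
theorem F167016 : act 6 n36024 = n36024 := d41_1 D36024 (iv D36024) F159254
theorem F167017 : act 7 n36024 = n34381 := d43_1 D36024 (iv D34381) (iv F159255)
def n36025 : Q := act 7 n34315
theorem D36025 : act 7 n34315 = n36025 := rfl
theorem F167018 : act 2 n36025 = n34317 := d21_1 D36025 (iv D34317) (iv F159260)
theorem F167019 : act 4 n36025 = n34316 := d32_1 D36025 (iv D34316) D34315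
theorem F167020 : act 9 n36025 = n34516 := d43_2 (iv F159262) D36025 (iv D34516)
def n36026 : Q := act 6 n34316
theorem D36026 : act 6 n34316 = n36026 := rfl
theorem F167021 : act 2 n36026 = n34319 := d20_1 D36026 (iv D34319) (iv F159263)
theorem F167022 : act 3 n36026 = n34447 := d26_1 D36026 (iv D34447) (iv F159264)
theorem F167023 : act 5 n36026 = n34604 := d35_1 D36026 (iv D34604) F151934 (iv F150839) (iv F159265)
theorem F167024 : act 7 n36026 = n34532 := d39_2 D34316 D36026 (iv D34532) (iv D32683) (iv F150835)
theorem F167025 : act 9 n36026 = n34517 := d41_2 (iv F159266) D36026 (iv D34517)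
def n36027 : Q := act 6 n34317
theorem D36027 : act 6 n34317 = n36027 := rfl
theorem F167026 : act 1 n36027 = n34576 := d13_1 D36027 (iv D34576) (iv F159267)
theorem F167027 : act 3 n36027 = n34329 := d26_1 D36027 (iv D34329) (iv F159268)
theorem F167028 : act 4 n36027 = n34319 := d31_1 D36027 (iv D34319) (iv F159269)
theorem F167029 : act 7 n36027 = n34533 := d39_2 D34317 D36027 (iv D34533) (iv D32684) (iv F150844)
theorem F167030 : act 9 n36027 = n34518 := d41_2 (iv F159270) D36027 (iv D34518)
def n36028 : Q := act 8 n34317
theorem D36028 : act 8 n34317 = n36028 := rfl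
theorem F167031 : act 1 n36028 = n34577 := d15_1 D36028 (iv D34577) (iv F159267)
theorem F167032 : act 3 n36028 = n34330 := d28_1 D36028 (iv D34330) (iv F159268)
theorem F167033 : act 4 n36028 = n34320 := d33_1 D36028 (iv D34320) (iv F159269)
theorem F167034 : act 7 n36028 = n34318 := d42_1 D36028 (iv D34318) D34317
def n36029 : Q := act 5 n34318
theorem D36029 : act 5 n34318 = n36029 := rfl
theorem F167035 : act 1 n36029 = n34578 := d12_1 D36029 (iv D34578) (iv F159271)
theorem F167036 : act 3 n36029 = n34331 := d25_1 D36029 (iv D34331) (iv F159272)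
theorem F167037 : act 4 n36029 = n36029 := d30_1 D36029 (iv D36029) F159273 F150852 (iv F159273)
def n36030 : Q := act 8 n34319
theorem D36030 : act 8 n34319 = n36030 := rfl
theorem F167038 : act 1 n36030 = n34580 := d15_1 D36030 (iv D34580) (iv F159275)
theorem F167039 : act 3 n36030 = n34321 := d28_1 D36030 (iv D34321) (iv F159276)
theorem F167040 : act 6 n36030 = n34320 := d40_1 D36030 (iv D34320) D34319
theorem F167041 : act 7 n36030 = n34536 := d42_1 D36030 (iv D34536) (iv F159278)
def n36031 : Q := act 5 n34321
theorem D36031 : act 5 n34321 = n36031 := rfl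
theorem F167042 : act 1 n36031 = n34582 := d12_1 D36031 (iv D34582) (iv F159284)
theorem F167043 : act 2 n36031 = n34449 := d19_1 D36031 (iv D34449) (iv F159285)
theorem F167044 : act 6 n36031 = n36031 := d35_2 (iv F159287) D36031 (iv D36031) F159287 F150863
theorem F167045 : act 7 n36031 = n34537 := d36_2 (iv F159288) D36031 (iv D34537)
theorem F167046 : act 8 n36031 = n34609 := d37_2 D34321 D36031 (iv D34609) (iv D32754) (iv F150857)
def n36032 : Q := act 7 n34322
theorem D36032 : act 7 n34322 = n36032 := rfl
theorem F167047 : act 1 n36032 = n34325 := d14_1 D36032 (iv D34325) (iv F159289)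
theorem F167048 : act 3 n36032 = n34618 := d27_1 D36032 F160337 (iv F159290)
theorem F167049 : act 4 n36032 = n34323 := d32_1 D36032 (iv D34323) D34322
theorem F167050 : act 8 n36032 = n34616 := d42_2 (iv F159291) D36032 (iv D34616)
def n36033 : Q := act 6 n34323
theorem D36033 : act 6 n34323 = n36033 := rfl
theorem F167051 : act 1 n36033 = n34327 := d13_1 D36033 (iv D34327) (iv F159292)
theorem F167052 : act 3 n36033 = n34457 := d26_1 D36033 (iv D34457) (iv F159293)
theorem F167053 : act 5 n36033 = n34362 := d35_1 D36033 (iv D34362) F150945 (iv F150870) (iv F159294)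
theorem F167054 : act 8 n36033 = n34679 := d40_2 (iv F159295) D36033 (iv D34679)
def n36034 : Q := act 7 n34324
theorem D36034 : act 7 n34324 = n36034 := rfl
theorem F167055 : act 1 n36034 = n34618 := d14_1 D36034 F160337 (iv F159296)
theorem F167056 : act 3 n36034 = n34325 := d27_1 D36034 (iv D34325) D34324
theorem F167057 : act 4 n36034 = n34458 := d32_1 D36034 (iv D34458) (iv F159297)
theorem F167058 : act 8 n36034 = n34614 := d42_2 F159298 D36034 (iv D34614)
def n36035 : Q := act 6 n34325
theorem D36035 : act 6 n34325 = n36035 := rfl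
theorem F167059 : act 2 n36035 = n34329 := d20_1 D36035 (iv D34329) (iv F159299)
theorem F167060 : act 4 n36035 = n34327 := d31_1 D36035 (iv D34327) (iv F159300)
def n36036 : Q := act 8 n34325
theorem D36036 : act 8 n34325 = n36036 := rfl
theorem F167061 : act 1 n36036 = n34616 := d15_1 D36036 (iv F167050) F167047
theorem F167062 : act 2 n36036 = n34330 := d22_1 D36036 (iv D34330) (iv F159299)
theorem F167063 : act 3 n36036 = n34614 := d28_1 D36036 (iv F167058) F167056
theorem F167064 : act 4 n36036 = n34328 := d33_1 D36036 (iv D34328) (iv F159300)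
theorem F167065 : act 7 n36036 = n34326 := d42_1 D36036 (iv D34326) D34325
theorem F167066 : act 9 n34632 = n36036 := d43_0 F167065 (iv F159305) D34632
def n36037 : Q := act 8 n34327
theorem D36037 : act 8 n34327 = n36037 := rfl
theorem F167067 : act 1 n36037 = n34679 := d15_1 D36037 (iv F167054) F167051
theorem F167068 : act 2 n36037 = n34333 := d22_1 D36037 (iv D34333) (iv F159306)
theorem F167069 : act 3 n36037 = n34460 := d28_1 D36037 (iv D34460) (iv F159307)
theorem F167070 : act 6 n36037 = n34328 := d40_1 D36037 (iv D34328) D34327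
theorem F167071 : act 9 n34649 = n36037 := d41_0 F167070 (iv F159314) (iv F160404)
def n36038 : Q := act 5 n34329
theorem D36038 : act 5 n34329 = n36038 := rfl
theorem F167072 : act 4 n36038 = n34373 := d30_1 D36038 (iv D34373) F150965 (iv F150884) (iv F159315)
def n36039 : Q := act 8 n34329
theorem D36039 : act 8 n34329 = n36039 := rfl
theorem F167073 : act 4 n36039 = n34333 := d33_1 D36039 (iv D34333) (iv F159315)
theorem F167074 : act 6 n36039 = n34330 := d40_1 D36039 (iv D34330) D34329
def n36040 : Q := act 5 n34330
theorem D36040 : act 5 n34330 = n36040 := rfl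
theorem F167075 : act 4 n36040 = n34384 := d30_1 D36040 (iv D34384) F150998 (iv F150886) (iv F159316)
theorem F167076 : act 7 n36040 = n34331 := d36_2 (iv F159317) D36040 (iv D34331)
def n36041 : Q := act 9 n34330
theorem D36041 : act 9 n34330 = n36041 := rfl
theorem F167077 : act 2 n36041 = n34632 := d23_1 D36041 F167066 F167062
theorem F167078 : act 4 n36041 = n34334 := d34_1 D36041 (iv D34334) (iv F159316)
theorem F167079 : act 7 n36041 = n34332 := d43_1 D36041 (iv D34332) (iv F159317)
def n36042 : Q := act 6 n34331
theorem D36042 : act 6 n34331 = n36042 := rfl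
theorem F167080 : act 2 n36042 = n34547 := d20_1 D36042 (iv F162006) F162002
theorem F167081 : act 4 n36042 = n34385 := d31_1 D36042 (iv D34385) (iv F159318)
theorem F167082 : act 8 n36042 = n34544 := d40_2 F161986 D36042 (iv F161985)
def n36043 : Q := act 5 n34333
theorem D36043 : act 5 n34333 = n36043 := rfl
theorem F167083 : act 3 n36043 = n34335 := d25_1 D36043 (iv D34335) (iv F159321)
theorem F167084 : act 6 n36043 = n34386 := d35_2 (iv F159322) D36043 (iv D34386) F151002 (iv F150886)
theorem F167085 : act 8 n36043 = n34378 := d37_2 D34333 D36043 (iv D34378) (iv D32492) (iv F150884)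
def n36044 : Q := act 9 n34333
theorem D36044 : act 9 n34333 = n36044 := rfl
theorem F167086 : act 2 n36044 = n34649 := d23_1 D36044 F167071 F167068
theorem F167087 : act 3 n36044 = n34336 := d29_1 D36044 (iv D34336) (iv F159321)
theorem F167088 : act 6 n36044 = n34334 := d41_1 D36044 (iv D34334) (iv F159322)
def n36045 : Q := act 4 n34335
theorem D36045 : act 4 n34335 = n36045 := rfl
theorem F167089 : act 1 n36045 = n34691 := d11_1 D36045 F166725 F166720
theorem F167090 : act 2 n36045 = n34463 := d18_1 D36045 (iv D34463) (iv F159327)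
theorem F167091 : act 6 n36045 = n34388 := d31_2 (iv F159328) D36045 (iv D34388)
theorem F167092 : act 8 n36045 = n34380 := d33_2 (iv F159329) D36045 (iv D34380)
def n36046 : Q := act 9 n34335
theorem D36046 : act 9 n34335 = n36046 := rfl
theorem F167093 : act 2 n36046 = n34464 := d23_1 D36046 (iv D34464) (iv F159327)
theorem F167094 : act 5 n36046 = n34336 := d38_1 D36046 (iv D34336) D34335
theorem F167095 : act 6 n36046 = n34389 := d41_1 D36046 (iv D34389) (iv F159328)
def n36047 : Q := act 4 n34337
theorem D36047 : act 4 n34337 = n36047 := rfl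
theorem F167096 : act 0 n36047 = n34339 := d3_1 D36047 (iv D34339) (iv F159332)
theorem F167097 : act 9 n36047 = n34356 := d34_2 (iv F159334) D36047 (iv D34356)
def n36048 : Q := act 7 n34337
theorem D36048 : act 7 n34337 = n36048 := rfl
theorem F167098 : act 0 n36048 = n34340 := d6_1 D36048 (iv D34340) (iv F159332)
theorem F167099 : act 3 n36048 = n34465 := d27_1 D36048 (iv D34465) (iv F159333)
theorem F167100 : act 5 n36048 = n34338 := d36_1 D36048 (iv D34338) D34337
theorem F167101 : act 9 n36048 = n34357 := d43_2 (iv F159334) D36048 (iv D34357)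
def n36049 : Q := act 7 n34339
theorem D36049 : act 7 n34339 = n36049 := rfl
theorem F167102 : act 1 n36049 = n34343 := d14_1 D36049 (iv D34343) (iv F159339)
theorem F167103 : act 4 n36049 = n34340 := d32_1 D36049 (iv D34340) D34339
theorem F167104 : act 9 n36049 = n34360 := d43_2 (iv F159340) D36049 (iv D34360)
def n36050 : Q := act 6 n34340
theorem D36050 : act 6 n34340 = n36050 := rfl
theorem F167105 : act 1 n36050 = n34345 := d13_1 D36050 (iv D34345) (iv F159341)
theorem F167106 : act 3 n36050 = n34466 := d26_1 D36050 (iv D34466) (iv F159342)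
theorem F167107 : act 9 n36050 = n34362 := d41_2 (iv F159344) D36050 (iv D34362)
def n36051 : Q := act 8 n34340
theorem D36051 : act 8 n34340 = n36051 := rfl
theorem F167108 : act 1 n36051 = n34346 := d15_1 D36051 (iv D34346) (iv F159341)
theorem F167109 : act 2 n36051 = n34655 := d22_1 D36051 (iv F166748) F166745
theorem F167110 : act 3 n36051 = n34425 := d28_1 D36051 F159640 (iv F159342)
theorem F167111 : act 5 n36051 = n36051 := d37_1 D36051 (iv D36051) F159343 F150905 (iv F159343)
theorem F167112 : act 7 n36051 = n34341 := d42_1 D36051 (iv D34341) D34340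
theorem F167113 : act 9 n34436 = n36051 := d43_0 F167112 (iv F159350) D34436
def n36052 : Q := act 7 n34342
theorem D36052 : act 7 n34342 = n36052 := rfl
theorem F167114 : act 2 n36052 = n34616 := d21_1 D36052 (iv D34616) (iv F159351)
theorem F167115 : act 3 n36052 = n34343 := d27_1 D36052 (iv D34343) D34342
theorem F167116 : act 4 n36052 = n34467 := d32_1 D36052 (iv D34467) (iv F159352)
theorem F167117 : act 9 n36052 = n34365 := d43_2 (iv F159353) D36052 (iv D34365)
def n36053 : Q := act 6 n34343
theorem D36053 : act 6 n34343 = n36053 := rfl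
theorem F167118 : act 2 n36053 = n34348 := d20_1 D36053 (iv D34348) (iv F159354)
theorem F167119 : act 4 n36053 = n34345 := d31_1 D36053 (iv D34345) (iv F159355)
theorem F167120 : act 9 n36053 = n34367 := d41_2 (iv F159356) D36053 (iv D34367)
def n36054 : Q := act 8 n34343
theorem D36054 : act 8 n34343 = n36054 := rfl
theorem F167121 : act 2 n36054 = n34349 := d22_1 D36054 (iv D34349) (iv F159354)
theorem F167122 : act 4 n36054 = n34346 := d33_1 D36054 (iv D34346) (iv F159355)
theorem F167123 : act 7 n36054 = n34344 := d42_1 D36054 (iv D34344) D34343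
def n36055 : Q := act 5 n34344
theorem D36055 : act 5 n34344 = n36055 := rfl
theorem F167124 : act 2 n36055 = n34350 := d19_1 D36055 (iv D34350) (iv F159357)
theorem F167125 : act 4 n36055 = n36055 := d30_1 D36055 (iv D36055) F159358 F150915 (iv F159358)
def n36056 : Q := act 8 n34345
theorem D36056 : act 8 n34345 = n36056 := rfl
theorem F167126 : act 2 n36056 = n34352 := d22_1 D36056 (iv D34352) (iv F159359)
theorem F167127 : act 3 n36056 = n34469 := d28_1 D36056 (iv D34469) (iv F159360)
theorem F167128 : act 6 n36056 = n34346 := d40_1 D36056 (iv D34346) D34345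
def n36057 : Q := act 9 n34346
theorem D36057 : act 9 n34346 = n36057 := rfl
theorem F167129 : act 1 n36057 = n34436 := d16_1 D36057 F167113 F167108
theorem F167130 : act 2 n36057 = n34353 := d23_1 D36057 (iv D34353) (iv F159362)
theorem F167131 : act 3 n36057 = n34433 := d29_1 D36057 F159683 (iv F159363)
theorem F167132 : act 5 n36057 = n36057 := d38_1 D36057 (iv D36057) F159364
theorem F167133 : act 7 n36057 = n34347 := d43_1 D36057 (iv D34347) (iv F159365)
theorem F167134 : act 8 n36057 = n34372 := d44_1 D36057 (iv D34372) (iv D32486) (iv F150912) D34346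
def n36058 : Q := act 5 n34348
theorem D36058 : act 5 n34348 = n36058 := rfl
theorem F167135 : act 3 n36058 = n34622 := d25_1 D36058 (iv D34622) (iv F159372)
theorem F167136 : act 9 n36058 = n34373 := d38_2 (iv F159374) D36058 (iv D34373)
def n36059 : Q := act 8 n34348
theorem D36059 : act 8 n34348 = n36059 := rfl
theorem F167137 : act 3 n36059 = n34623 := d28_1 D36059 (iv D34623) (iv F159372)
theorem F167138 : act 4 n36059 = n34352 := d33_1 D36059 (iv D34352) (iv F159373)
theorem F167139 : act 6 n36059 = n34349 := d40_1 D36059 (iv D34349) D34348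
def n36060 : Q := act 5 n34349
theorem D36060 : act 5 n34349 = n36060 := rfl
theorem F167140 : act 3 n36060 = n34624 := d25_1 D36060 (iv D34624) (iv F159375)
theorem F167141 : act 4 n36060 = n36060 := d30_1 D36060 (iv D36060) F159376 F150924 (iv F159376)
theorem F167142 : act 7 n36060 = n34350 := d36_2 (iv F159377) D36060 (iv D34350)
def n36061 : Q := act 9 n34349
theorem D36061 : act 9 n34349 = n36061 := rfl
theorem F167143 : act 3 n36061 = n34625 := d29_1 D36061 (iv D34625) (iv F159375)
theorem F167144 : act 4 n36061 = n34353 := d34_1 D36061 (iv D34353) (iv F159376)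
theorem F167145 : act 7 n36061 = n34351 := d43_1 D36061 (iv D34351) (iv F159377)
theorem F167146 : act 8 n36061 = n34376 := d44_1 D36061 (iv D34376) (iv D32489) (iv F150918) D34349
def n36062 : Q := act 6 n34350
theorem D36062 : act 6 n34350 = n36062 := rfl
theorem F167147 : act 3 n36062 = n34626 := d26_1 D36062 (iv D34626) (iv F159378)
theorem F167148 : act 4 n36062 = n36062 := d31_1 D36062 (iv D36062) F159379
def n36063 : Q := act 9 n34350
theorem D36063 : act 9 n34350 = n36063 := rfl
theorem F167149 : act 3 n36063 = n34627 := d29_1 D36063 (iv D34627) (iv F159378)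
theorem F167150 : act 4 n36063 = n36063 := d34_1 D36063 (iv D36063) F159379
theorem F167151 : act 5 n36063 = n34351 := d38_1 D36063 (iv D34351) D34350
def n36064 : Q := act 5 n34352
theorem D36064 : act 5 n34352 = n36064 := rfl
theorem F167152 : act 3 n36064 = n34354 := d25_1 D36064 (iv D34354) (iv F159383)
theorem F167153 : act 6 n36064 = n36064 := d35_2 (iv F159384) D36064 (iv D36064) F159384 F150924
def n36065 : Q := act 9 n34352
theorem D36065 : act 9 n34352 = n36065 := rfl
theorem F167154 : act 3 n36065 = n34355 := d29_1 D36065 (iv D34355) (iv F159383)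
theorem F167155 : act 6 n36065 = n34353 := d41_1 D36065 (iv D34353) (iv F159384)
theorem F167156 : act 8 n36065 = n34379 := d44_1 D36065 (iv D34379) (iv D32492) (iv F150922) D34352
def n36066 : Q := act 4 n34354
theorem D36066 : act 4 n34354 = n36066 := rfl
theorem F167157 : act 2 n36066 = n34474 := d18_1 D36066 (iv D34474) (iv F159389)
theorem F167158 : act 5 n36066 = n34630 := d30_2 D34354 D36066 (iv D34630) (iv D32773) (iv F150930)
theorem F167159 : act 6 n36066 = n36066 := d31_2 F159390 D36066 (iv D36066)
theorem F167160 : act 7 n36066 = n34691 := d32_2 F166723 D36066 F166725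
theorem F167161 : act 8 n36066 = n34668 := d33_2 F166653 D36066 (iv F166650)
def n36067 : Q := act 9 n34354
theorem D36067 : act 9 n34354 = n36067 := rfl
theorem F167162 : act 2 n36067 = n34475 := d23_1 D36067 (iv D34475) (iv F159389)
theorem F167163 : act 5 n36067 = n34355 := d38_1 D36067 (iv D34355) D34354
theorem F167164 : act 6 n36067 = n36067 := d41_1 D36067 (iv D36067) F159390
def n36068 : Q := act 3 n34356
theorem D36068 : act 3 n34356 = n36068 := rfl
theorem F167165 : act 0 n36068 = n34359 := d2_1 D36068 (iv D34359) (iv F159395)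
theorem F167166 : act 4 n36068 = n34476 := d24_2 D34356 D36068 (iv D34476) (iv D32604) (iv F150938)
def n36069 : Q := act 7 n34356
theorem D36069 : act 7 n34356 = n36069 := rfl
theorem F167167 : act 0 n36069 = n34360 := d6_1 D36069 (iv D34360) (iv F159395)
theorem F167168 : act 4 n36069 = n34357 := d32_1 D36069 (iv D34357) D34356
def n36070 : Q := act 8 n34356
theorem D36070 : act 8 n34356 = n36070 := rfl
theorem F167169 : act 0 n36070 = n34361 := d7_1 D36070 (iv D34361) (iv F159395)
theorem F167170 : act 4 n36070 = n34358 := d33_1 D36070 (iv D34358) D34356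
def n36071 : Q := act 6 n34357
theorem D36071 : act 6 n34357 = n36071 := rfl
theorem F167171 : act 0 n36071 = n34362 := d5_1 D36071 (iv D34362) (iv F159396)
theorem F167172 : act 3 n36071 = n34478 := d26_1 D36071 (iv D34478) (iv F159397)
def n36072 : Q := act 8 n34357
theorem D36072 : act 8 n34357 = n36072 := rfl
theorem F167173 : act 0 n36072 = n34363 := d7_1 D36072 (iv D34363) (iv F159396)
theorem F167174 : act 3 n36072 = n34479 := d28_1 D36072 (iv D34479) (iv F159397)
theorem F167175 : act 5 n36072 = n34390 := d37_1 D36072 (iv D34390) F151018 (iv F150941) (iv F159398)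
theorem F167176 : act 7 n36072 = n34358 := d42_1 D36072 (iv D34358) D34357
def n36073 : Q := act 7 n34359
theorem D36073 : act 7 n34359 = n36073 := rfl
theorem F167177 : act 1 n36073 = n34365 := d14_1 D36073 (iv D34365) (iv F159402)
theorem F167178 : act 3 n36073 = n34360 := d27_1 D36073 (iv D34360) D34359
theorem F167179 : act 4 n36073 = n34480 := d32_1 D36073 (iv D34480) (iv F159403)
def n36074 : Q := act 6 n34360
theorem D36074 : act 6 n34360 = n36074 := rfl
theorem F167180 : act 1 n36074 = n34367 := d13_1 D36074 (iv D34367) (iv F159404)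
theorem F167181 : act 4 n36074 = n34362 := d31_1 D36074 (iv D34362) (iv F159405)
def n36075 : Q := act 8 n34360
theorem D36075 : act 8 n34360 = n36075 := rfl
theorem F167182 : act 1 n36075 = n34368 := d15_1 D36075 (iv D34368) (iv F159404)
theorem F167183 : act 4 n36075 = n34363 := d33_1 D36075 (iv D34363) (iv F159405)
theorem F167184 : act 7 n36075 = n34361 := d42_1 D36075 (iv D34361) D34360
def n36076 : Q := act 5 n34361
theorem D36076 : act 5 n34361 = n36076 := rfl
theorem F167185 : act 1 n36076 = n34369 := d12_1 D36076 (iv D34369) (iv F159406)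
theorem F167186 : act 4 n36076 = n34394 := d30_1 D36076 (iv D34394) F151029 (iv F150948) (iv F159407)
def n36077 : Q := act 8 n34362
theorem D36077 : act 8 n34362 = n36077 := rfl
theorem F167187 : act 1 n36077 = n34371 := d15_1 D36077 (iv D34371) (iv F159408)
theorem F167188 : act 3 n36077 = n34482 := d28_1 D36077 (iv D34482) (iv F159409)
theorem F167189 : act 6 n36077 = n34363 := d40_1 D36077 (iv D34363) D34362
def n36078 : Q := act 9 n34363
theorem D36078 : act 9 n34363 = n36078 := rfl
theorem F167190 : act 1 n36078 = n34372 := d16_1 D36078 (iv D34372) (iv F159410)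
theorem F167191 : act 2 n36078 = n34667 := d23_1 D36078 (iv F166826) F166822
theorem F167192 : act 3 n36078 = n34438 := d29_1 D36078 F159703 (iv F159411)
theorem F167193 : act 5 n36078 = n34396 := d38_1 D36078 (iv D34396) (iv F159412)
theorem F167194 : act 7 n36078 = n34364 := d43_1 D36078 (iv D34364) (iv F159413)
theorem F167195 : act 8 n36078 = n34436 := d44_1 D36078 F167113 (iv D36051) F159344 D34363
def n36079 : Q := act 6 n34365
theorem D36079 : act 6 n34365 = n36079 := rfl
theorem F167196 : act 2 n36079 = n34634 := d20_1 D36079 (iv D34634) (iv F159420)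
theorem F167197 : act 3 n36079 = n34367 := d26_1 D36079 (iv D34367) (iv F159421)
theorem F167198 : act 4 n36079 = n34483 := d31_1 D36079 (iv D34483) (iv F159422)
def n36080 : Q := act 8 n34365
theorem D36080 : act 8 n34365 = n36080 := rfl
theorem F167199 : act 2 n36080 = n34635 := d22_1 D36080 (iv D34635) (iv F159420)
theorem F167200 : act 3 n36080 = n34368 := d28_1 D36080 (iv D34368) (iv F159421)
theorem F167201 : act 4 n36080 = n34484 := d33_1 D36080 (iv D34484) (iv F159422)
theorem F167202 : act 7 n36080 = n34366 := d42_1 D36080 (iv D34366) D34365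
def n36081 : Q := act 5 n34366
theorem D36081 : act 5 n34366 = n36081 := rfl
theorem F167203 : act 2 n36081 = n34636 := d19_1 D36081 (iv D34636) (iv F159423)
theorem F167204 : act 3 n36081 = n34369 := d25_1 D36081 (iv D34369) (iv F159424)
theorem F167205 : act 4 n36081 = n36081 := d30_1 D36081 (iv D36081) F159425 F151465 (iv F159425)
def n36082 : Q := act 5 n34367
theorem D36082 : act 5 n34367 = n36082 := rfl
theorem F167206 : act 2 n36082 = n34373 := d19_1 D36082 (iv D34373) (iv F159426)
def n36083 : Q := act 8 n34367
theorem D36083 : act 8 n34367 = n36083 := rfl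
theorem F167207 : act 2 n36083 = n34374 := d22_1 D36083 (iv D34374) (iv F159426)
theorem F167208 : act 4 n36083 = n34371 := d33_1 D36083 (iv D34371) (iv F159427)
theorem F167209 : act 6 n36083 = n34368 := d40_1 D36083 (iv D34368) D34367
def n36084 : Q := act 5 n34368
theorem D36084 : act 5 n34368 = n36084 := rfl
theorem F167210 : act 2 n36084 = n34375 := d19_1 D36084 (iv D34375) (iv F159428)
theorem F167211 : act 4 n36084 = n34398 := d30_1 D36084 (iv D34398) F151049 (iv F150959) (iv F159429)
theorem F167212 : act 7 n36084 = n34369 := d36_2 (iv F159430) D36084 (iv D34369)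
def n36085 : Q := act 9 n34368
theorem D36085 : act 9 n34368 = n36085 := rfl
theorem F167213 : act 2 n36085 = n34376 := d23_1 D36085 (iv D34376) (iv F159428)
theorem F167214 : act 4 n36085 = n34372 := d34_1 D36085 (iv D34372) (iv F159429)
theorem F167215 : act 7 n36085 = n34370 := d43_1 D36085 (iv D34370) (iv F159430)
def n36086 : Q := act 6 n34369
theorem D36086 : act 6 n34369 = n36086 := rfl
theorem F167216 : act 2 n36086 = n34377 := d20_1 D36086 (iv D34377) (iv F159431)
theorem F167217 : act 4 n36086 = n34399 := d31_1 D36086 (iv D34399) (iv F159432)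
def n36087 : Q := act 5 n34371
theorem D36087 : act 5 n34371 = n36087 := rfl
theorem F167218 : act 2 n36087 = n34378 := d19_1 D36087 (iv D34378) (iv F159435)
theorem F167219 : act 3 n36087 = n34487 := d25_1 D36087 (iv D34487) (iv F159436)
theorem F167220 : act 6 n36087 = n34400 := d35_2 (iv F159437) D36087 (iv D34400) F151055 (iv F150959)
def n36088 : Q := act 9 n34371
theorem D36088 : act 9 n34371 = n36088 := rfl
theorem F167221 : act 2 n36088 = n34379 := d23_1 D36088 (iv D34379) (iv F159435)
theorem F167222 : act 3 n36088 = n34488 := d29_1 D36088 (iv D34488) (iv F159436)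
theorem F167223 : act 6 n36088 = n34372 := d41_1 D36088 (iv D34372) (iv F159437)
def n36089 : Q := act 8 n34373
theorem D36089 : act 8 n34373 = n36089 := rfl
theorem F167224 : act 3 n36089 = n34644 := d28_1 D36089 (iv D34644) (iv F159442)
def n36090 : Q := act 5 n34374
theorem D36090 : act 5 n34374 = n36090 := rfl
theorem F167225 : act 3 n36090 = n34645 := d25_1 D36090 (iv D34645) (iv F159443)
def n36091 : Q := act 9 n34374
theorem D36091 : act 9 n34374 = n36091 := rfl
theorem F167226 : act 3 n36091 = n34646 := d29_1 D36091 (iv D34646) (iv F159443)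
theorem F167227 : act 4 n36091 = n34379 := d34_1 D36091 (iv D34379) (iv F159444)
theorem F167228 : act 6 n36091 = n34376 := d41_1 D36091 (iv D34376) (iv F159445)
def n36092 : Q := act 6 n34375
theorem D36092 : act 6 n34375 = n36092 := rfl
theorem F167229 : act 3 n36092 = n34647 := d26_1 D36092 (iv D34647) (iv F159446)
theorem F167230 : act 4 n36092 = n34404 := d31_1 D36092 (iv D34404) (iv F159447)
def n36093 : Q := act 7 n34377
theorem D36093 : act 7 n34377 = n36093 := rfl
theorem F167231 : act 3 n36093 = n34648 := d27_1 D36093 (iv D34648) (iv F159452)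
theorem F167232 : act 4 n36093 = n34405 := d32_1 D36093 (iv D34405) (iv F159453)
def n36094 : Q := act 4 n34378
theorem D36094 : act 4 n34378 = n36094 := rfl
theorem F167233 : act 6 n36094 = n34406 := d31_2 (iv F159455) D36094 (iv D34406)
def n36095 : Q := act 9 n34378
theorem D36095 : act 9 n34378 = n36095 := rfl
theorem F167234 : act 3 n36095 = n34381 := d29_1 D36095 (iv D34381) (iv F159454)
theorem F167235 : act 5 n36095 = n34379 := d38_1 D36095 (iv D34379) D34378
theorem F167236 : act 6 n36095 = n34407 := d41_1 D36095 (iv D34407) (iv F159455)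
def n36096 : Q := act 3 n34380
theorem D36096 : act 3 n34380 = n36096 := rfl
theorem F167237 : act 1 n36096 = n34688 := d10_1 D36096 F160544 (iv F159458)
theorem F167238 : act 5 n36096 = n34649 := d25_2 (iv F159460) D36096 (iv D34649)
theorem F167239 : act 6 n36096 = n34408 := d26_2 (iv F159461) D36096 (iv D34408)
def n36097 : Q := act 9 n34380
theorem D36097 : act 9 n34380 = n36097 := rfl
theorem F167240 : act 1 n36097 = n34680 := d16_1 D36097 F160518 (iv F159458)
theorem F167241 : act 2 n36097 = n34462 := d23_1 D36097 F159822 (iv F159459)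
theorem F167242 : act 4 n36097 = n34381 := d34_1 D36097 (iv D34381) D34380
theorem F167243 : act 5 n36097 = n34460 := d38_1 D36097 (iv F159812) (iv F159460)
theorem F167244 : act 6 n36097 = n34409 := d41_1 D36097 (iv D34409) (iv F159461)
theorem F167245 : act 8 n34487 = n36097 := d40_0 F167244 (iv F159561) (iv F159907)
def n36098 : Q := act 8 n34381
theorem D36098 : act 8 n34381 = n36098 := rfl
theorem F167246 : act 2 n36098 = n34492 := d22_1 D36098 F159926 (iv F159462)
theorem F167247 : act 4 n36098 = n34487 := d33_1 D36098 F167245 F167242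
theorem F167248 : act 6 n36098 = n34410 := d40_1 D36098 (iv D34410) (iv F159464)
def n36099 : Q := act 5 n34382
theorem D36099 : act 5 n34382 = n36099 := rfl
theorem F167249 : act 1 n36099 = n34699 := d12_1 D36099 (iv D34699) (iv F159465)
theorem F167250 : act 2 n36099 = n34386 := d19_1 D36099 (iv D34386) (iv F159466)
theorem F167251 : act 3 n36099 = n34409 := d25_1 D36099 F159559 (iv F159467)
theorem F167252 : act 7 n36099 = n36099 := d36_2 F159469 D36099 (iv D36099)
theorem F167253 : act 8 n36099 = n34400 := d37_2 D34382 D36099 (iv D34400) (iv D32515) (iv F150985)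
theorem F167254 : act 9 n36099 = n34408 := d38_2 F159470 D36099 F159554
def n36100 : Q := act 5 n34383
theorem D36100 : act 5 n34383 = n36100 := rfl
theorem F167255 : act 3 n36100 = n36100 := d25_1 D36100 (iv D36100) F159471
theorem F167256 : act 7 n36100 = n36100 := d36_2 F159474 D36100 (iv D36100)
def n36101 : Q := act 6 n34384
theorem D36101 : act 6 n34384 = n36101 := rfl
theorem F167257 : act 3 n36101 = n36101 := d26_1 D36101 (iv D36101) F159475
def n36102 : Q := act 7 n34385
theorem D36102 : act 7 n34385 = n36102 := rfl
theorem F167258 : act 2 n36102 = n34549 := d21_1 D36102 F160141 (iv F159477)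
theorem F167259 : act 3 n36102 = n36102 := d27_1 D36102 (iv D36102) F159478
theorem F167260 : act 5 n36102 = n36102 := d36_1 D36102 (iv D36102) F159479
theorem F167261 : act 8 n36102 = n34545 := d42_2 (iv F159480) D36102 (iv D34545)
def n36103 : Q := act 4 n34386
theorem D36103 : act 4 n34386 = n36103 := rfl
theorem F167262 : act 7 n36103 = n36103 := d32_2 F159482 D36103 (iv D36103)
theorem F167263 : act 8 n36103 = n34406 := d33_2 (iv F159483) D36103 (iv D34406)
def n36104 : Q := act 9 n34386
theorem D36104 : act 9 n34386 = n36104 := rfl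
theorem F167264 : act 2 n36104 = n34408 := d23_1 D36104 (iv F167254) F167250
theorem F167265 : act 3 n36104 = n34389 := d29_1 D36104 (iv D34389) (iv F159481)
theorem F167266 : act 5 n36104 = n34387 := d38_1 D36104 (iv D34387) D34386
theorem F167267 : act 7 n36104 = n36104 := d43_1 D36104 (iv D36104) F159482
def n36105 : Q := act 3 n34388
theorem D36105 : act 3 n34388 = n36105 := rfl
theorem F167268 : act 1 n36105 = n34701 := d10_1 D36105 F160585 (iv F159489)
theorem F167269 : act 5 n36105 = n36105 := d25_2 F159491 D36105 (iv D36105)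
theorem F167270 : act 7 n36105 = n36105 := d27_2 F159492 D36105 (iv D36105)
theorem F167271 : act 8 n36105 = n34408 := d28_2 (iv F159493) D36105 (iv D34408)
def n36106 : Q := act 9 n34388
theorem D36106 : act 9 n34388 = n36106 := rfl
theorem F167272 : act 1 n36106 = n34702 := d16_1 D36106 (iv D34702) (iv F159489)
theorem F167273 : act 2 n36106 = n34495 := d23_1 D36106 (iv D34495) (iv F159490)
theorem F167274 : act 4 n36106 = n34389 := d34_1 D36106 (iv D34389) D34388
theorem F167275 : act 5 n36106 = n36106 := d38_1 D36106 (iv D36106) F159491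
theorem F167276 : act 7 n36106 = n36106 := d43_1 D36106 (iv D36106) F159492
theorem F167277 : act 8 n36106 = n34497 := d44_1 D36106 (iv D34497) F159561 (iv D34409) (iv F159493)
def n36107 : Q := act 8 n34389
theorem D36107 : act 8 n34389 = n36107 := rfl
theorem F167278 : act 2 n36107 = n34494 := d22_1 D36107 F159935 (iv F159494)
theorem F167279 : act 4 n36107 = n34497 := d33_1 D36107 (iv F167277) F167274
theorem F167280 : act 5 n36107 = n36107 := d37_1 D36107 (iv D36107) F159495 F151015 (iv F159495)
theorem F167281 : act 7 n36107 = n36107 := d42_1 D36107 (iv D36107) F159496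
theorem F167282 : act 9 n36107 = n34410 := d44_2 D34389 D36107 (iv D34410) (iv D32524) (iv F151010)
def n36108 : Q := act 8 n34392
theorem D36108 : act 8 n34392 = n36108 := rfl
theorem F167283 : act 1 n36108 = n34397 := d15_1 D36108 (iv D34397) (iv F159504)
theorem F167284 : act 3 n36108 = n36108 := d28_1 D36108 (iv D36108) F159505
theorem F167285 : act 4 n36108 = n34395 := d33_1 D36108 (iv D34395) (iv F159506)
theorem F167286 : act 6 n36108 = n34393 := d40_1 D36108 (iv D34393) D34392
theorem F167287 : act 7 n36108 = n36108 := d42_1 D36108 (iv D36108) F159507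
def n36109 : Q := act 5 n34393
theorem D36109 : act 5 n34393 = n36109 := rfl
theorem F167288 : act 1 n36109 = n34398 := d12_1 D36109 (iv D34398) (iv F159509)
theorem F167289 : act 3 n36109 = n36109 := d25_1 D36109 (iv D36109) F159510
theorem F167290 : act 7 n36109 = n34394 := d36_2 (iv F159512) D36109 (iv D34394)
def n36110 : Q := act 5 n34395
theorem D36110 : act 5 n34395 = n36110 := rfl
theorem F167291 : act 1 n36110 = n34400 := d12_1 D36110 (iv D34400) (iv F159515)
theorem F167292 : act 3 n36110 = n34496 := d25_1 D36110 (iv D34496) (iv F159516)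
theorem F167293 : act 7 n36110 = n36110 := d36_2 F159518 D36110 (iv D36110)
theorem F167294 : act 8 n36110 = n34699 := d37_2 D34395 D36110 (iv D34699) (iv F158885) F158883
def n36111 : Q := act 5 n34397
theorem D36111 : act 5 n34397 = n36111 := rfl
theorem F167295 : act 2 n36111 = n34403 := d19_1 D36111 (iv D34403) (iv F159523)
theorem F167296 : act 3 n36111 = n36111 := d25_1 D36111 (iv D36111) F159524
theorem F167297 : act 7 n36111 = n36111 := d36_2 F159527 D36111 (iv D36111)
def n36112 : Q := act 6 n34398
theorem D36112 : act 6 n34398 = n36112 := rfl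
theorem F167298 : act 2 n36112 = n34404 := d20_1 D36112 (iv D34404) (iv F159528)
theorem F167299 : act 3 n36112 = n36112 := d26_1 D36112 (iv D36112) F159529
def n36113 : Q := act 7 n34399
theorem D36113 : act 7 n34399 = n36113 := rfl
theorem F167300 : act 2 n36113 = n34405 := d21_1 D36113 (iv D34405) (iv F159531)
theorem F167301 : act 3 n36113 = n36113 := d27_1 D36113 (iv D36113) F159532
theorem F167302 : act 5 n36113 = n36113 := d36_1 D36113 (iv D36113) F159533
def n36114 : Q := act 4 n34400
theorem D36114 : act 4 n34400 = n36114 := rfl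
theorem F167303 : act 2 n36114 = n34406 := d18_1 D36114 (iv D34406) (iv F159534)
theorem F167304 : act 7 n36114 = n36114 := d32_2 F159536 D36114 (iv D36114)
def n36115 : Q := act 9 n34400
theorem D36115 : act 9 n34400 = n36115 := rfl
theorem F167305 : act 2 n36115 = n34407 := d23_1 D36115 (iv D34407) (iv F159534)
theorem F167306 : act 3 n36115 = n34497 := d29_1 D36115 (iv D34497) (iv F159535)
theorem F167307 : act 5 n36115 = n34401 := d38_1 D36115 (iv D34401) D34400
theorem F167308 : act 7 n36115 = n36115 := d43_1 D36115 (iv D36115) F159536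
def n36116 : Q := act 5 n34402
theorem D36116 : act 5 n34402 = n36116 := rfl
theorem F167309 : act 3 n36116 = n34411 := d25_1 D36116 (iv D34411) (iv F159542)
theorem F167310 : act 7 n36116 = n36116 := d36_2 F159543 D36116 (iv D36116)
theorem F167311 : act 8 n36116 = n34403 := d37_2 D34402 D36116 (iv D34403) (iv D32518) D32517
def n36117 : Q := act 4 n34403
theorem D36117 : act 4 n34403 = n36117 := rfl
theorem F167312 : act 5 n36117 = n34406 := d30_2 D34403 D36117 (iv D34406) (iv D32521) (iv F151065)
theorem F167313 : act 7 n36117 = n36117 := d32_2 F159545 D36117 (iv D36117)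
def n36118 : Q := act 6 n34403
theorem D36118 : act 6 n34403 = n36118 := rfl
theorem F167314 : act 3 n36118 = n34412 := d26_1 D36118 (iv D34412) (iv F159544)
theorem F167315 : act 5 n36118 = n34404 := d35_1 D36118 (iv D34404) (iv D32519) (iv F151066) D34403
def n36119 : Q := act 7 n34404
theorem D36119 : act 7 n34404 = n36119 := rfl
theorem F167316 : act 3 n36119 = n34413 := d27_1 D36119 (iv D34413) (iv F159546)
theorem F167317 : act 6 n36119 = n34405 := d39_1 D36119 (iv D34405) (iv D32520) (iv F151069) D34404
def n36120 : Q := act 3 n34406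
theorem D36120 : act 3 n34406 = n36120 := rfl
theorem F167318 : act 1 n36120 = n34700 := d10_1 D36120 (iv F166891) F166890
theorem F167319 : act 4 n36120 = n34408 := d24_2 D34406 D36120 (iv D34408) (iv D32523) (iv F151072)
theorem F167320 : act 7 n36120 = n36120 := d27_2 F159549 D36120 (iv D36120)
def n36121 : Q := act 9 n34406
theorem D36121 : act 9 n34406 = n36121 := rfl
theorem F167321 : act 4 n36121 = n34407 := d34_1 D36121 (iv D34407) D34406
theorem F167322 : act 7 n36121 = n36121 := d43_1 D36121 (iv D36121) F159549
def n36122 : Q := act 8 n34407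
theorem D36122 : act 8 n34407 = n36122 := rfl
theorem F167323 : act 3 n36122 = n34410 := d28_1 D36122 (iv D34410) (iv F159550)
theorem F167324 : act 5 n36122 = n36122 := d37_1 D36122 (iv D36122) F159551 F151077 (iv F159551)
theorem F167325 : act 7 n36122 = n36122 := d42_1 D36122 (iv D36122) F159552
def n36123 : Q := act 6 n34411
theorem D36123 : act 6 n34411 = n36123 := rfl
theorem F167326 : act 2 n36123 = n36123 := d20_1 D36123 (iv D36123) F159566
theorem F167327 : act 8 n36123 = n34412 := d40_2 (iv F159568) D36123 (iv D34412)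
def n36124 : Q := act 7 n34412
theorem D36124 : act 7 n34412 = n36124 := rfl
theorem F167328 : act 2 n36124 = n36124 := d21_1 D36124 (iv D36124) F159569
theorem F167329 : act 5 n36124 = n34413 := d36_1 D36124 (iv D34413) (iv F159570)
theorem F167330 : act 6 n36124 = n36124 := d39_1 D36124 (iv D36124) (iv D34412) F151089 D34412
def n36125 : Q := act 6 n34415
theorem D36125 : act 6 n34415 = n36125 := rfl
theorem F167331 : act 1 n36125 = n34418 := d13_1 D36125 (iv D34418) (iv F159580)
theorem F167332 : act 2 n36125 = n34660 := d20_1 D36125 F160443 (iv F159581)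
theorem F167333 : act 4 n36125 = n34657 := d31_1 D36125 F160428 (iv F159582)
theorem F167334 : act 5 n36125 = n34434 := d35_1 D36125 (iv D34434) F151232 (iv F151119) (iv F159583)
theorem F167335 : act 7 n36125 = n34457 := d39_2 D34415 D36125 (iv D34457) (iv D32582) (iv F151112)
theorem F167336 : act 8 n36125 = n34656 := d40_2 (iv F159584) D36125 (iv D34656)
theorem F167337 : act 9 n36125 = n34748 := d41_2 (iv F159585) D36125 (iv D34748)
def n36126 : Q := act 7 n34416
theorem D36126 : act 7 n34416 = n36126 := rfl
theorem F167338 : act 1 n36126 = n34574 := d14_1 D36126 F160205 (iv F159586)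
theorem F167339 : act 2 n36126 = n34608 := d21_1 D36126 F160306 (iv F159587)
theorem F167340 : act 3 n36126 = n34417 := d27_1 D36126 (iv D34417) D34416
theorem F167341 : act 5 n36126 = n36126 := d36_1 D36126 (iv D36126) F159588
theorem F167342 : act 8 n36126 = n34569 := d42_2 (iv F159590) D36126 (iv D34569)
theorem F167343 : act 9 n36126 = n34605 := d43_2 (iv F159591) D36126 F160299
def n36127 : Q := act 6 n34417
theorem D36127 : act 6 n34417 = n36127 := rfl
theorem F167344 : act 1 n36127 = n34657 := d13_1 D36127 F160428 (iv F159592)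
theorem F167345 : act 2 n36127 = n34420 := d20_1 D36127 (iv D34420) (iv F159593)
theorem F167346 : act 4 n36127 = n34418 := d31_1 D36127 (iv D34418) (iv F159594)
theorem F167347 : act 7 n36127 = n34459 := d39_2 D34417 D36127 (iv D34459) (iv D32584) (iv F151125)
theorem F167348 : act 8 n36127 = n34602 := d40_2 (iv F159596) D36127 F160290
theorem F167349 : act 9 n36127 = n34674 := d41_2 (iv F159597) D36127 F160501
def n36128 : Q := act 8 n34418
theorem D36128 : act 8 n34418 = n36128 := rfl
theorem F167350 : act 1 n36128 = n34656 := d15_1 D36128 (iv F167336) F167331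
theorem F167351 : act 2 n36128 = n34421 := d22_1 D36128 (iv D34421) (iv F159598)
theorem F167352 : act 4 n36128 = n34602 := d33_1 D36128 (iv F167348) F167346
theorem F167353 : act 6 n36128 = n34419 := d40_1 D36128 (iv D34419) D34418
theorem F167354 : act 7 n36128 = n34460 := d42_1 D36128 (iv D34460) (iv F159600)
theorem F167355 : act 9 n36128 = n34601 := d44_2 (iv F159601) D36128 (iv F161122) F161123 F160498
def n36129 : Q := act 5 n34420
theorem D36129 : act 5 n34420 = n36129 := rfl
theorem F167356 : act 1 n36129 = n34755 := d12_1 D36129 (iv D34755) (iv F159608)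
theorem F167357 : act 3 n36129 = n34678 := d25_1 D36129 F160512 (iv F159609)
theorem F167358 : act 4 n36129 = n34441 := d30_1 D36129 (iv D34441) F151264 (iv F151145) (iv F159610)
theorem F167359 : act 6 n36129 = n36129 := d35_2 D34420 D36129 (iv D36129) (iv D34420) F151140
theorem F167360 : act 7 n36129 = n34461 := d36_2 (iv F159611) D36129 (iv D34461)
theorem F167361 : act 8 n36129 = n34664 := d37_2 (iv F159612) D36129 F160463 F152126 (iv F152178)
theorem F167362 : act 9 n36129 = n34676 := d38_2 (iv F159613) D36129 (iv D34676)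
def n36130 : Q := act 5 n34421
theorem D36130 : act 5 n34421 = n36130 := rfl
theorem F167363 : act 1 n36130 = n34756 := d12_1 D36130 (iv D34756) (iv F159614)
theorem F167364 : act 3 n36130 = n34422 := d25_1 D36130 (iv D34422) (iv F159615)
theorem F167365 : act 4 n36130 = n34446 := d30_1 D36130 F159739 F151286 (iv F152178) (iv F159616)
theorem F167366 : act 6 n36130 = n36130 := d35_2 (iv F159617) D36130 (iv D36130) F159617 F151151
theorem F167367 : act 7 n36130 = n34462 := d36_2 (iv F159618) D36130 (iv D34462)
theorem F167368 : act 8 n36130 = n34443 := d37_2 D34421 D36130 (iv D34443) (iv D32565) (iv F151145)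
theorem F167369 : act 9 n36130 = n34445 := d38_2 (iv F159619) D36130 F159735
def n36131 : Q := act 4 n34422
theorem D36131 : act 4 n34422 = n36131 := rfl
theorem F167370 : act 1 n36131 = n34757 := d11_1 D36131 (iv D34757) (iv F159620)
theorem F167371 : act 5 n36131 = n34784 := d30_2 D34422 D36131 (iv D34784) (iv D33026) (iv F151155)
theorem F167372 : act 6 n36131 = n36131 := d31_2 F159621 D36131 (iv D36131)
theorem F167373 : act 7 n36131 = n34463 := d32_2 (iv F159622) D36131 (iv D34463)
theorem F167374 : act 8 n36131 = n34445 := d33_2 (iv F159623) D36131 (iv D34445)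
def n36132 : Q := act 6 n34424
theorem D36132 : act 6 n34424 = n36132 := rfl
theorem F167375 : act 1 n36132 = n34426 := d13_1 D36132 (iv D34426) (iv F159630)
theorem F167376 : act 2 n36132 = n34471 := d20_1 D36132 F159853 (iv F159631)
theorem F167377 : act 4 n36132 = n34469 := d31_1 D36132 F159845 (iv F159632)
theorem F167378 : act 5 n36132 = n34748 := d35_1 D36132 (iv D34748) F152573 (iv F151172) (iv F159633)
theorem F167379 : act 7 n36132 = n34466 := d39_2 D34424 D36132 (iv D34466) (iv D32593) (iv F151165)
theorem F167380 : act 8 n36132 = n34468 := d40_2 (iv F159634) D36132 (iv D34468)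
theorem F167381 : act 9 n36132 = n34434 := d41_2 (iv F159635) D36132 (iv D34434)
def n36133 : Q := act 6 n34425
theorem D36133 : act 6 n34425 = n36133 := rfl
theorem F167382 : act 1 n36133 = n34469 := d13_1 D36133 F159845 (iv F159636)
theorem F167383 : act 2 n36133 = n34428 := d20_1 D36133 (iv D34428) (iv F159637)
theorem F167384 : act 4 n36133 = n34426 := d31_1 D36133 (iv D34426) (iv F159638)
theorem F167385 : act 7 n36133 = n34468 := d39_2 D34425 D36133 (iv D34468) (iv D32595) (iv F151178)
theorem F167386 : act 8 n36133 = n34466 := d40_2 (iv F159640) D36133 (iv D34466)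
theorem F167387 : act 9 n36133 = n34437 := d41_2 (iv F159641) D36133 (iv D34437)
def n36134 : Q := act 8 n34426
theorem D36134 : act 8 n34426 = n36134 := rfl
theorem F167388 : act 1 n36134 = n34468 := d15_1 D36134 (iv F167380) F167375
theorem F167389 : act 2 n36134 = n34429 := d22_1 D36134 (iv D34429) (iv F159642)
theorem F167390 : act 4 n36134 = n34466 := d33_1 D36134 (iv F167386) F167384
theorem F167391 : act 6 n36134 = n34427 := d40_1 D36134 (iv D34427) D34426
theorem F167392 : act 7 n36134 = n34469 := d42_1 D36134 (iv D34469) (iv F159644)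
theorem F167393 : act 9 n34481 = n36134 := d41_0 F167391 (iv F159651) D34481
def n36135 : Q := act 5 n34428
theorem D36135 : act 5 n34428 = n36135 := rfl
theorem F167394 : act 1 n36135 = n34752 := d12_1 D36135 (iv D34752) (iv F159652)
theorem F167395 : act 3 n36135 = n34659 := d25_1 D36135 (iv D34659) (iv F159653)
theorem F167396 : act 4 n36135 = n34676 := d30_1 D36135 (iv D34676) F152196 (iv F151198) (iv F159654)
theorem F167397 : act 6 n36135 = n36135 := d35_2 D34428 D36135 (iv D36135) (iv D34428) F151193
theorem F167398 : act 7 n36135 = n34470 := d36_2 (iv F159655) D36135 (iv D34470)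
theorem F167399 : act 8 n36135 = n34694 := d37_2 (iv F159656) D36135 F160559 (iv F160533) F160530
theorem F167400 : act 9 n36135 = n34441 := d38_2 (iv F159657) D36135 (iv D34441)
def n36136 : Q := act 5 n34429
theorem D36136 : act 5 n34429 = n36136 := rfl
theorem F167401 : act 1 n36136 = n34753 := d12_1 D36136 (iv D34753) (iv F159658)
theorem F167402 : act 3 n36136 = n34430 := d25_1 D36136 (iv D34430) (iv F159659)
theorem F167403 : act 4 n36136 = n34686 := d30_1 D36136 F160539 (iv F160529) F160530 (iv F159660)
theorem F167404 : act 6 n36136 = n34696 := d35_2 (iv F159661) D36136 F160566 F152593 (iv F151204)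
theorem F167405 : act 7 n36136 = n34472 := d36_2 (iv F159662) D36136 (iv D34472)
theorem F167406 : act 8 n36136 = n34675 := d37_2 D34429 D36136 (iv D34675) F152193 (iv F151198)
theorem F167407 : act 9 n36136 = n34685 := d38_2 F159663 D36136 F160535
def n36137 : Q := act 9 n34430
theorem D36137 : act 9 n34430 = n36137 := rfl
theorem F167408 : act 1 n36137 = n34754 := d16_1 D36137 (iv D34754) (iv F159664)
theorem F167409 : act 3 n36137 = n34685 := d29_1 D36137 (iv F167407) F167402
theorem F167410 : act 4 n36137 = n34687 := d34_1 D36137 F160543 F159668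
theorem F167411 : act 5 n36137 = n34431 := d38_1 D36137 (iv D34431) D34430
theorem F167412 : act 6 n36137 = n34698 := d41_1 D36137 (iv D34698) (iv F159665)
theorem F167413 : act 7 n36137 = n34475 := d43_1 D36137 (iv D34475) (iv F159666)
def n36138 : Q := act 6 n34432
theorem D36138 : act 6 n34432 = n36138 := rfl
theorem F167414 : act 0 n36138 = n34434 := d5_1 D36138 (iv D34434) (iv F159675)
theorem F167415 : act 2 n36138 = n34767 := d20_1 D36138 (iv D34767) (iv F159676)
theorem F167416 : act 7 n36138 = n34478 := d39_2 D34432 D36138 (iv D34478) (iv D32605) (iv F151219)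
def n36139 : Q := act 6 n34433
theorem D36139 : act 6 n34433 = n36139 := rfl
theorem F167417 : act 1 n36139 = n34437 := d13_1 D36139 (iv D34437) (iv F159678)
theorem F167418 : act 2 n36139 = n34473 := d20_1 D36139 F159863 (iv F159679)
theorem F167419 : act 4 n36139 = n34434 := d31_1 D36139 (iv D34434) (iv F159680)
theorem F167420 : act 7 n36139 = n34481 := d39_2 D34433 D36139 (iv D34481) (iv D32608) (iv F151227)
theorem F167421 : act 8 n36139 = n34488 := d40_2 (iv F159682) D36139 F159909
theorem F167422 : act 9 n36139 = n34469 := d41_2 (iv F159683) D36139 F159845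
def n36140 : Q := act 8 n34434
theorem D36140 : act 8 n34434 = n36140 := rfl
theorem F167423 : act 1 n36140 = n34439 := d15_1 D36140 (iv D34439) (iv F159684)
theorem F167424 : act 2 n36140 = n34491 := d22_1 D36140 F159923 (iv F159685)
theorem F167425 : act 4 n36140 = n34488 := d33_1 D36140 (iv F167421) F167419
theorem F167426 : act 6 n36140 = n34435 := d40_1 D36140 (iv D34435) D34434
theorem F167427 : act 7 n36140 = n34482 := d42_1 D36140 (iv D34482) (iv F159686)
theorem F167428 : act 9 n36140 = n34486 := d44_2 F167381 D36140 (iv D34486) (iv F159843) (iv F167380)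
def n36141 : Q := act 6 n34436
theorem D36141 : act 6 n34436 = n36141 := rfl
theorem F167429 : act 2 n36141 = n34666 := d20_1 D36141 (iv D34666) (iv F159693)
theorem F167430 : act 3 n36141 = n34437 := d26_1 D36141 (iv D34437) (iv F159694)
theorem F167431 : act 7 n36141 = n34483 := d39_2 D34436 D36141 (iv D34483) (iv D32611) (iv F151241)
def n36142 : Q := act 5 n34437
theorem D36142 : act 5 n34437 = n36142 := rfl
theorem F167432 : act 2 n36142 = n34441 := d19_1 D36142 (iv D34441) (iv F159696)
theorem F167433 : act 6 n36142 = n36142 := d35_2 D34437 D36142 (iv D36142) (iv D34437) F151244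
theorem F167434 : act 7 n36142 = n34485 := d36_2 (iv F159698) D36142 (iv D34485)
def n36143 : Q := act 8 n34437
theorem D36143 : act 8 n34437 = n36143 := rfl
theorem F167435 : act 1 n36143 = n34488 := d15_1 D36143 (iv F167421) F167417
theorem F167436 : act 2 n36143 = n34442 := d22_1 D36143 (iv D34442) (iv F159696)
theorem F167437 : act 4 n36143 = n34439 := d33_1 D36143 (iv D34439) (iv F159697)
theorem F167438 : act 6 n36143 = n34438 := d40_1 D36143 (iv D34438) D34437
theorem F167439 : act 7 n36143 = n34486 := d42_1 D36143 (iv D34486) (iv F159698)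
theorem F167440 : act 9 n36143 = n34482 := d44_2 F167387 D36143 (iv D34482) (iv F159836) (iv F167386)
def n36144 : Q := act 5 n34439
theorem D36144 : act 5 n34439 = n36144 := rfl
theorem F167441 : act 2 n36144 = n34443 := d19_1 D36144 (iv D34443) (iv F159705)
theorem F167442 : act 6 n36144 = n36144 := d35_2 (iv F159706) D36144 (iv D36144) F159706 F151254
theorem F167443 : act 7 n36144 = n34487 := d36_2 (iv F159707) D36144 (iv D34487)
def n36145 : Q := act 9 n34439
theorem D36145 : act 9 n34439 = n36145 := rfl
theorem F167444 : act 1 n36145 = n34486 := d16_1 D36145 (iv F167428) F167423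
theorem F167445 : act 2 n36145 = n34444 := d23_1 D36145 (iv D34444) (iv F159705)
theorem F167446 : act 4 n36145 = n34482 := d34_1 D36145 (iv F167440) F167437
theorem F167447 : act 6 n36145 = n34440 := d41_1 D36145 (iv D34440) (iv F159706)
theorem F167448 : act 7 n36145 = n34488 := d43_1 D36145 (iv D34488) (iv F159707)
theorem F167449 : act 8 n36145 = n34481 := d44_1 D36145 F167393 (iv D36134) F159645 D34439
def n36146 : Q := act 8 n34441
theorem D36146 : act 8 n34441 = n36146 := rfl
theorem F167450 : act 1 n36146 = n34770 := d15_1 D36146 (iv D34770) (iv F159714)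
theorem F167451 : act 3 n36146 = n34474 := d28_1 D36146 F159870 (iv F159715)
theorem F167452 : act 4 n36146 = n34664 := d33_1 D36146 (iv F167361) F167358
theorem F167453 : act 5 n36146 = n34687 := d37_1 D36146 (iv F161900) F161897 (iv D34442) D34441
theorem F167454 : act 6 n36146 = n36146 := d40_1 D36146 (iv D36146) F159716
theorem F167455 : act 7 n36146 = n34489 := d42_1 D36146 (iv D34489) (iv F159717)
theorem F167456 : act 9 n36146 = n34663 := d44_2 F167400 D36146 F160461 D34694 (iv F167399)
def n36147 : Q := act 4 n34443
theorem D36147 : act 4 n34443 = n36147 := rfl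
theorem F167457 : act 1 n36147 = n34772 := d11_1 D36147 (iv D34772) (iv F159724)
theorem F167458 : act 6 n36147 = n36147 := d31_2 F159726 D36147 (iv D36147)
theorem F167459 : act 7 n36147 = n34492 := d32_2 (iv F159727) D36147 (iv D34492)
theorem F167460 : act 8 n36147 = n34446 := d33_2 F167368 D36147 (iv F167365)
def n36148 : Q := act 9 n34443
theorem D36148 : act 9 n34443 = n36148 := rfl
theorem F167461 : act 1 n36148 = n34773 := d16_1 D36148 (iv D34773) (iv F159724)
theorem F167462 : act 3 n36148 = n34446 := d29_1 D36148 (iv D34446) (iv F159725)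
theorem F167463 : act 5 n36148 = n34444 := d38_1 D36148 (iv D34444) D34443
theorem F167464 : act 6 n36148 = n36148 := d41_1 D36148 (iv D36148) F159726
theorem F167465 : act 7 n36148 = n34493 := d43_1 D36148 (iv D34493) (iv F159727)
def n36149 : Q := act 5 n34448
theorem D36149 : act 5 n34448 = n36149 := rfl
theorem F167466 : act 1 n36149 = n34763 := d12_1 D36149 F160852 (iv F159746)
theorem F167467 : act 3 n36149 = n34461 := d25_1 D36149 (iv D34461) (iv F159747)
theorem F167468 : act 4 n36149 = n34675 := d30_1 D36149 (iv D34675) F152192 (iv F151300) (iv F159748)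
theorem F167469 : act 6 n36149 = n34498 := d35_2 D34448 D36149 (iv D34498) (iv D32635) (iv F151295)
theorem F167470 : act 7 n36149 = n34678 := d36_2 (iv F159749) D36149 F160512
theorem F167471 : act 8 n36149 = n34686 := d37_2 (iv F159750) D36149 F160539 F152240 (iv F152275)
theorem F167472 : act 9 n36149 = n34654 := d38_2 (iv F159751) D36149 (iv D34654)
def n36150 : Q := act 4 n34449
theorem D36150 : act 4 n34449 = n36150 := rfl
theorem F167473 : act 1 n36150 = n34774 := d11_1 D36150 (iv D34774) (iv F159752)
theorem F167474 : act 5 n36150 = n34463 := d30_2 D34449 D36150 (iv D34463) (iv D32589) (iv F151304)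
theorem F167475 : act 6 n36150 = n36150 := d31_2 F159753 D36150 (iv D36150)
theorem F167476 : act 7 n36150 = n34784 := d32_2 (iv F159754) D36150 (iv D34784)
theorem F167477 : act 8 n36150 = n34677 := d33_2 (iv F159755) D36150 (iv D34677)
def n36151 : Q := act 6 n34450
theorem D36151 : act 6 n34450 = n36151 := rfl
theorem F167478 : act 1 n36151 = n34452 := d13_1 D36151 (iv D34452) (iv F159756)
theorem F167479 : act 2 n36151 = n34684 := d20_1 D36151 F160531 (iv F159757)
theorem F167480 : act 4 n36151 = n34682 := d31_1 D36151 F160522 (iv F159758)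
theorem F167481 : act 5 n36151 = n34466 := d35_1 D36151 (iv D34466) F151400 (iv F151316) (iv F159759)
theorem F167482 : act 7 n36151 = n34748 := d39_2 D34450 D36151 (iv D34748) (iv D32941) (iv F151310)
theorem F167483 : act 8 n36151 = n34693 := d40_2 (iv F159760) D36151 F160557
theorem F167484 : act 9 n36151 = n34457 := d41_2 (iv F159761) D36151 (iv D34457)
def n36152 : Q := act 6 n34451
theorem D36152 : act 6 n34451 = n36152 := rfl
theorem F167485 : act 1 n36152 = n34682 := d13_1 D36152 F160522 (iv F159762)
theorem F167486 : act 2 n36152 = n34454 := d20_1 D36152 (iv D34454) (iv F159763)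
theorem F167487 : act 4 n36152 = n34452 := d31_1 D36152 (iv D34452) (iv F159764)
theorem F167488 : act 7 n36152 = n34674 := d39_2 D34451 D36152 F160501 F152189 (iv F151322)
theorem F167489 : act 8 n36152 = n34613 := d40_2 (iv F159766) D36152 F160320
theorem F167490 : act 9 n36152 = n34459 := d41_2 (iv F159767) D36152 (iv D34459)
def n36153 : Q := act 8 n34452
theorem D36153 : act 8 n34452 = n36153 := rfl
theorem F167491 : act 1 n36153 = n34693 := d15_1 D36153 (iv F167483) F167478
theorem F167492 : act 2 n36153 = n34455 := d22_1 D36153 (iv D34455) (iv F159768)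
theorem F167493 : act 4 n36153 = n34613 := d33_1 D36153 (iv F167489) F167487
theorem F167494 : act 6 n36153 = n34453 := d40_1 D36153 (iv D34453) D34452
theorem F167495 : act 7 n36153 = n34673 := d42_1 D36153 F160498 (iv F159770)
theorem F167496 : act 9 n36153 = n34612 := d44_2 (iv F159771) D36153 F160316 F159812 (iv D34460)
def n36154 : Q := act 5 n34455
theorem D36154 : act 5 n34455 = n36154 := rfl
theorem F167497 : act 1 n36154 = n34750 := d12_1 D36154 (iv D34750) (iv F159784)
theorem F167498 : act 3 n36154 = n34456 := d25_1 D36154 (iv D34456) (iv F159785)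
theorem F167499 : act 4 n36154 = n34678 := d30_1 D36154 F160512 F152201 (iv F152070) (iv F159786)
theorem F167500 : act 6 n36154 = n36154 := d35_2 (iv F159787) D36154 (iv D36154) F159787 F151348
theorem F167501 : act 7 n36154 = n34675 := d36_2 (iv F159788) D36154 (iv D34675)
theorem F167502 : act 8 n36154 = n34472 := d37_2 D34455 D36154 (iv D34472) (iv D32600) (iv F151342)
theorem F167503 : act 9 n36154 = n34677 := d38_2 (iv F159789) D36154 F160509
def n36155 : Q := act 6 n34458
theorem D36155 : act 6 n34458 = n36155 := rfl
theorem F167504 : act 1 n36155 = n34620 := d13_1 D36155 F160343 (iv F159800)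
theorem F167505 : act 3 n36155 = n34459 := d26_1 D36155 (iv D34459) (iv F159801)
theorem F167506 : act 8 n36155 = n34615 := d40_2 (iv F159803) D36155 (iv D34615)
def n36156 : Q := act 5 n34459
theorem D36156 : act 5 n34459 = n36156 := rfl
theorem F167507 : act 1 n36156 = n34681 := d12_1 D36156 (iv D34681) (iv F159804)
theorem F167508 : act 2 n36156 = n34461 := d19_1 D36156 (iv D34461) (iv F159805)
theorem F167509 : act 4 n36156 = n34485 := d30_1 D36156 (iv D34485) F151467 (iv F151369) (iv F159806)
theorem F167510 : act 6 n36156 = n34500 := d35_2 D34459 D36156 (iv D34500) (iv D32639) (iv F151366)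
theorem F167511 : act 8 n36156 = n34631 := d37_2 (iv F159807) D36156 F160368 F152001 (iv F152043)
def n36157 : Q := act 3 n34463
theorem D36157 : act 3 n34463 = n36157 := rfl
theorem F167512 : act 1 n36157 = n34776 := d10_1 D36157 (iv D34776) (iv F159823)
theorem F167513 : act 4 n36157 = n34493 := d24_2 D34463 D36157 F159928 (iv F159819) F159818
theorem F167514 : act 6 n36157 = n34494 := d26_2 (iv F159824) D36157 (iv D34494)
theorem F167515 : act 8 n36157 = n34464 := d28_2 (iv F159825) D36157 F159827
theorem F167516 : act 9 n34492 = n36157 := d44_0 F167515 (iv D34464) F151386 D32623 (iv F159926)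
def n36158 : Q := act 9 n34463
theorem D36158 : act 9 n34463 = n36158 := rfl
theorem F167517 : act 1 n36158 = n34777 := d16_1 D36158 (iv D34777) (iv F159823)
theorem F167518 : act 3 n36158 = n34492 := d29_1 D36158 F167516 (iv D36157)
theorem F167519 : act 4 n36158 = n34464 := d34_1 D36158 (iv D34464) D34463
theorem F167520 : act 6 n36158 = n34495 := d41_1 D36158 (iv D34495) (iv F159824)
theorem F167521 : act 8 n36158 = n34493 := d44_1 D36158 (iv D34493) (iv F159821) F159822 (iv F159825)
def n36159 : Q := act 6 n34465
theorem D36159 : act 6 n34465 = n36159 := rfl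
theorem F167522 : act 0 n36159 = n34466 := d5_1 D36159 (iv D34466) (iv F159830)
theorem F167523 : act 2 n36159 = n34778 := d20_1 D36159 (iv D34778) (iv F159831)
theorem F167524 : act 9 n36159 = n34478 := d41_2 (iv F159833) D36159 (iv D34478)
def n36160 : Q := act 6 n34467
theorem D36160 : act 6 n34467 = n36160 := rfl
theorem F167525 : act 2 n36160 = n34679 := d20_1 D36160 (iv D34679) (iv F159837)
theorem F167526 : act 3 n36160 = n34468 := d26_1 D36160 (iv D34468) (iv F159838)
theorem F167527 : act 9 n36160 = n34483 := d41_2 (iv F159840) D36160 (iv D34483)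
def n36161 : Q := act 5 n34468
theorem D36161 : act 5 n34468 = n36161 := rfl
theorem F167528 : act 2 n36161 = n34470 := d19_1 D36161 (iv D34470) (iv F159841)
theorem F167529 : act 6 n36161 = n34506 := d35_2 D34468 D36161 (iv D34506) (iv D32648) (iv F151407)
theorem F167530 : act 9 n36161 = n34485 := d38_2 (iv F159843) D36161 (iv D34485)
def n36162 : Q := act 5 n34469
theorem D36162 : act 5 n34469 = n36162 := rfl
theorem F167531 : act 2 n36162 = n34472 := d19_1 D36162 (iv D34472) (iv F159844)
theorem F167532 : act 6 n36162 = n36162 := d35_2 (iv F159845) D36162 (iv D36162) F159845 F151412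
def n36163 : Q := act 4 n34472
theorem D36163 : act 4 n34472 = n36163 := rfl
theorem F167533 : act 1 n36163 = n34760 := d11_1 D36163 F160828 (iv F159857)
theorem F167534 : act 3 n36163 = n34664 := d24_1 D36163 (iv F167452) F167451 (iv D34474) (iv F159858)
theorem F167535 : act 5 n36163 = n34662 := d30_2 D34472 D36163 F160453 F159856 F159852
theorem F167536 : act 6 n36163 = n36163 := d31_2 F159859 D36163 (iv D36163)
theorem F167537 : act 7 n36163 = n34686 := d32_2 F167405 D36163 (iv F167403)
theorem F167538 : act 8 n36163 = n34678 := d33_2 F167502 D36163 (iv F167499)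
theorem F167539 : act 9 n34661 = n36163 := d44_0 F167538 (iv D34678) (iv F159755) (iv F161840) F161839
def n36164 : Q := act 9 n34472
theorem D36164 : act 9 n34472 = n36164 := rfl
theorem F167540 : act 1 n36164 = n34768 := d16_1 D36164 F160886 (iv F159857)
theorem F167541 : act 3 n36164 = n34475 := d29_1 D36164 (iv D34475) (iv F159858)
theorem F167542 : act 4 n36164 = n34661 := d34_1 D36164 F167539 (iv D36163)
theorem F167543 : act 5 n36164 = n34473 := d38_1 D36164 (iv D34473) D34472
theorem F167544 : act 6 n36164 = n36164 := d41_1 D36164 (iv D36164) F159859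
theorem F167545 : act 7 n36164 = n34685 := d43_1 D36164 (iv F167407) F167405
def n36165 : Q := act 9 n34474
theorem D36165 : act 9 n34474 = n36165 := rfl
theorem F167546 : act 1 n36165 = n34779 := d16_1 D36165 (iv D34779) (iv F159866)
theorem F167547 : act 3 n36165 = n34663 := d29_1 D36165 (iv F167456) F167451
theorem F167548 : act 4 n36165 = n34475 := d34_1 D36165 (iv D34475) D34474
theorem F167549 : act 5 n36165 = n34489 := d38_1 D36165 (iv F159914) (iv F159867)
theorem F167550 : act 6 n36165 = n36165 := d41_1 D36165 (iv D36165) F159868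
theorem F167551 : act 7 n36165 = n34687 := d43_1 D36165 F160543 (iv F159869)
theorem F167552 : act 8 n34490 = n36165 := d42_0 F167551 (iv F161900) F161899
def n36166 : Q := act 8 n34475
theorem D36166 : act 8 n34475 = n36166 := rfl
theorem F167553 : act 1 n36166 = n34780 := d15_1 D36166 (iv D34780) (iv F159871)
theorem F167554 : act 4 n36166 = n34490 := d33_1 D36166 F167552 F167548
theorem F167555 : act 5 n36166 = n34492 := d37_1 D36166 F159926 F151500 (iv F151438) (iv F159872)
theorem F167556 : act 6 n36166 = n36166 := d40_1 D36166 (iv D36166) F159873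
def n36167 : Q := act 7 n34476
theorem D36167 : act 7 n34476 = n36167 := rfl
theorem F167557 : act 0 n36167 = n34480 := d6_1 D36167 (iv D34480) (iv F159874)
theorem F167558 : act 3 n36167 = n34477 := d27_1 D36167 (iv D34477) D34476
theorem F167559 : act 5 n36167 = n34508 := d36_1 D36167 (iv D34508) (iv F159875)
def n36168 : Q := act 6 n34477
theorem D36168 : act 6 n34477 = n36168 := rfl
theorem F167560 : act 0 n36168 = n34481 := d5_1 D36168 (iv D34481) (iv F159876)
theorem F167561 : act 2 n36168 = n34781 := d20_1 D36168 (iv D34781) (iv F159877)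
theorem F167562 : act 4 n36168 = n34478 := d31_1 D36168 (iv D34478) (iv F159878)
def n36169 : Q := act 8 n34478
theorem D36169 : act 8 n34478 = n36169 := rfl
theorem F167563 : act 0 n36169 = n34482 := d7_1 D36169 (iv D34482) (iv F159880)
theorem F167564 : act 2 n36169 = n34782 := d22_1 D36169 (iv D34782) (iv F159881)
theorem F167565 : act 6 n36169 = n34479 := d40_1 D36169 (iv D34479) D34478
def n36170 : Q := act 6 n34480
theorem D36170 : act 6 n34480 = n36170 := rfl
theorem F167566 : act 1 n36170 = n34483 := d13_1 D36170 (iv D34483) (iv F159886)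
theorem F167567 : act 3 n36170 = n34481 := d26_1 D36170 (iv D34481) (iv F159887)
def n36171 : Q := act 5 n34481
theorem D36171 : act 5 n34481 = n36171 := rfl
theorem F167568 : act 1 n36171 = n34485 := d12_1 D36171 (iv D34485) (iv F159889)
theorem F167569 : act 2 n36171 = n34685 := d19_1 D36171 F160535 (iv F159890)
theorem F167570 : act 4 n36171 = n34681 := d30_1 D36171 (iv D34681) (iv F159797) F159798 (iv F159891)
theorem F167571 : act 6 n36171 = n34510 := d35_2 D34481 D36171 (iv D34510) (iv D32656) (iv F151453)
def n36172 : Q := act 5 n34482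
theorem D36172 : act 5 n34482 = n36172 := rfl
theorem F167572 : act 1 n36172 = n34487 := d12_1 D36172 (iv D34487) (iv F159892)
theorem F167573 : act 2 n36172 = n34683 := d19_1 D36172 F160525 (iv F159893)
theorem F167574 : act 6 n36172 = n34496 := d35_2 (iv F159894) D36172 (iv D34496) F151528 (iv F151458)
theorem F167575 : act 8 n36172 = n34680 := d37_2 D34482 D36172 (iv D34680) (iv F159799) F159798
def n36173 : Q := act 5 n34483
theorem D36173 : act 5 n34483 = n36173 := rfl
theorem F167576 : act 2 n36173 = n34688 := d19_1 D36173 (iv D34688) (iv F159895)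
theorem F167577 : act 3 n36173 = n34485 := d25_1 D36173 (iv D34485) (iv F159896)
theorem F167578 : act 6 n36173 = n34511 := d35_2 D34483 D36173 (iv D34511) (iv D32657) (iv F151462)
def n36174 : Q := act 8 n34483
theorem D36174 : act 8 n34483 = n36174 := rfl
theorem F167579 : act 2 n36174 = n34689 := d22_1 D36174 (iv D34689) (iv F159895)
theorem F167580 : act 3 n36174 = n34486 := d28_1 D36174 (iv D34486) (iv F159896)
theorem F167581 : act 6 n36174 = n34484 := d40_1 D36174 (iv D34484) D34483
def n36175 : Q := act 8 n34485
theorem D36175 : act 8 n34485 = n36175 := rfl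
theorem F167582 : act 2 n36175 = n34489 := d22_1 D36175 (iv D34489) (iv F159901)
theorem F167583 : act 4 n36175 = n34631 := d33_1 D36175 (iv F167511) F167509
theorem F167584 : act 6 n36175 = n34512 := d40_1 D36175 (iv D34512) (iv F159902)
theorem F167585 : act 9 n34630 = n36175 := d41_0 F167584 (iv F160020) (iv F160366)
def n36176 : Q := act 5 n34486
theorem D36176 : act 5 n34486 = n36176 := rfl
theorem F167586 : act 2 n36176 = n34490 := d19_1 D36176 (iv D34490) (iv F159903)
theorem F167587 : act 6 n36176 = n36176 := d35_2 (iv F159905) D36176 (iv D36176) F159905 F151470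
def n36177 : Q := act 9 n34487
theorem D36177 : act 9 n34487 = n36177 := rfl
theorem F167588 : act 2 n36177 = n34493 := d23_1 D36177 (iv D34493) (iv F159906)
theorem F167589 : act 5 n36177 = n34488 := d38_1 D36177 (iv D34488) D34487
theorem F167590 : act 6 n36177 = n34497 := d41_1 D36177 (iv D34497) (iv F159907)
def n36178 : Q := act 9 n34490
theorem D36178 : act 9 n34490 = n36178 := rfl
theorem F167591 : act 1 n36178 = n34769 := d16_1 D36178 F160893 (iv F159915)
theorem F167592 : act 3 n36178 = n34694 := d29_1 D36178 (iv D34694) (iv F159916)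
theorem F167593 : act 5 n36178 = n34491 := d38_1 D36178 (iv D34491) D34490
theorem F167594 : act 6 n36178 = n36178 := d41_1 D36178 (iv D36178) F159917
theorem F167595 : act 7 n36178 = n34683 := d43_1 D36178 F161901 F161899
theorem F167596 : act 8 n36178 = n34659 := d44_1 D36178 F160439 (iv F159870) D36165 (iv F167552)
def n36179 : Q := act 5 n34499
theorem D36179 : act 5 n34499 = n36179 := rfl
theorem F167597 : act 1 n36179 = n34708 := d12_1 D36179 (iv D34708) (iv F159956)
theorem F167598 : act 3 n36179 = n34500 := d25_1 D36179 (iv D34500) (iv F159957)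
theorem F167599 : act 7 n36179 = n36179 := d36_2 F159958 D36179 (iv D36179)
theorem F167600 : act 8 n36179 = n34718 := d37_2 (iv F159959) D36179 F160637 F152389 (iv F152356)
def n36180 : Q := act 5 n34503
theorem D36180 : act 5 n34503 = n36180 := rfl
theorem F167601 : act 1 n36180 = n34506 := d12_1 D36180 (iv D34506) (iv F159976)
theorem F167602 : act 2 n36180 = n34696 := d19_1 D36180 F160566 (iv F159977)
theorem F167603 : act 4 n36180 = n34720 := d30_1 D36180 F160642 (iv F158314) F158315 (iv F159978)
theorem F167604 : act 7 n36180 = n36180 := d36_2 F159979 D36180 (iv D36180)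
theorem F167605 : act 8 n36180 = n34695 := d37_2 (iv F159980) D36180 (iv D34695) F152300 (iv F152581)
theorem F167606 : act 9 n36180 = n34510 := d38_2 (iv F159981) D36180 (iv D34510)
def n36181 : Q := act 5 n34505
theorem D36181 : act 5 n34505 = n36181 := rfl
theorem F167607 : act 2 n36181 = n34699 := d19_1 D36181 (iv D34699) (iv F159988)
theorem F167608 : act 3 n36181 = n34506 := d25_1 D36181 (iv D34506) (iv F159989)
theorem F167609 : act 7 n36181 = n36181 := d36_2 F159990 D36181 (iv D36181)
theorem F167610 : act 9 n36181 = n34511 := d38_2 (iv F159991) D36181 (iv D34511)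
def n36182 : Q := act 5 n34509
theorem D36182 : act 5 n34509 = n36182 := rfl
theorem F167611 : act 1 n36182 = n34511 := d12_1 D36182 (iv D34511) (iv F160005)
theorem F167612 : act 3 n36182 = n34510 := d25_1 D36182 (iv D34510) (iv F160006)
theorem F167613 : act 7 n36182 = n36182 := d36_2 F160007 D36182 (iv D36182)
def n36183 : Q := act 4 n34511
theorem D36183 : act 4 n34511 = n36183 := rfl
theorem F167614 : act 2 n36183 = n34700 := d18_1 D36183 (iv D34700) (iv F160013)
theorem F167615 : act 7 n36183 = n36183 := d32_2 F160015 D36183 (iv D36183)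
def n36184 : Q := act 8 n34511
theorem D36184 : act 8 n34511 = n36184 := rfl
theorem F167616 : act 2 n36184 = n34701 := d22_1 D36184 (iv D34701) (iv F160013)
theorem F167617 : act 3 n36184 = n34512 := d28_1 D36184 (iv D34512) (iv F160014)
theorem F167618 : act 5 n36184 = n36184 := d37_1 D36184 (iv D36184) (iv D34511) F151653 D34511
theorem F167619 : act 7 n36184 = n36184 := d42_1 D36184 (iv D36184) F160015
theorem F167620 : act 9 n34719 = n36184 := d29_0 F167617 (iv F160020) D34719
def n36185 : Q := act 6 n34513
theorem D36185 : act 6 n34513 = n36185 := rfl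
theorem F167621 : act 0 n36185 = n34533 := d5_1 D36185 (iv D34533) (iv F160021)
theorem F167622 : act 4 n36185 = n34514 := d31_1 D36185 (iv D34514) (iv F160022)
theorem F167623 : act 9 n36185 = n34515 := d41_2 (iv F160023) D36185 (iv D34515)
def n36186 : Q := act 5 n34515
theorem D36186 : act 5 n34515 = n36186 := rfl
theorem F167624 : act 0 n36186 = n34540 := d4_1 D36186 (iv D34540) (iv F160027)
def n36187 : Q := act 6 n34516
theorem D36187 : act 6 n34516 = n36187 := rfl
theorem F167625 : act 2 n36187 = n34518 := d20_1 D36187 (iv D34518) (iv F160029)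
theorem F167626 : act 4 n36187 = n34517 := d31_1 D36187 (iv D34517) (iv F160030)
theorem F167627 : act 7 n36187 = n34539 := d39_2 D34516 D36187 (iv D34539) (iv D32690) (iv F151676)
theorem F167628 : act 8 n36187 = n34567 := d40_2 (iv F160031) D36187 (iv D34567)
def n36188 : Q := act 5 n34518
theorem D36188 : act 5 n34518 = n36188 := rfl
theorem F167629 : act 1 n36188 = n34594 := d12_1 D36188 (iv D34594) (iv F160036)
theorem F167630 : act 7 n36188 = n34540 := d36_2 (iv F160038) D36188 (iv D34540)
def n36189 : Q := act 8 n34518
theorem D36189 : act 8 n34518 = n36189 := rfl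
theorem F167631 : act 1 n36189 = n34595 := d15_1 D36189 (iv D34595) (iv F160036)
theorem F167632 : act 2 n36189 = n34567 := d22_1 D36189 (iv F167628) F167625
theorem F167633 : act 4 n36189 = n34520 := d33_1 D36189 (iv D34520) (iv F160037)
theorem F167634 : act 6 n36189 = n34519 := d40_1 D36189 (iv D34519) D34518
theorem F167635 : act 7 n36189 = n34541 := d42_1 D36189 (iv D34541) (iv F160038)
def n36190 : Q := act 7 n34521
theorem D36190 : act 7 n34521 = n36190 := rfl
theorem F167636 : act 1 n36190 = n34635 := d14_1 D36190 F160379 (iv F160049)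
theorem F167637 : act 3 n36190 = n34522 := d27_1 D36190 (iv D34522) D34521
theorem F167638 : act 4 n36190 = n34650 := d32_1 D36190 F160407 (iv F160050)
theorem F167639 : act 8 n36190 = n34632 := d42_2 (iv F160051) D36190 (iv D34632)
def n36191 : Q := act 6 n34522
theorem D36191 : act 6 n34522 = n36191 := rfl
theorem F167640 : act 1 n36191 = n34639 := d13_1 D36191 F160387 (iv F160052)
theorem F167641 : act 2 n36191 = n34524 := d20_1 D36191 (iv D34524) (iv F160053)
theorem F167642 : act 4 n36191 = n34523 := d31_1 D36191 (iv D34523) (iv F160054)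
theorem F167643 : act 8 n36191 = n34633 := d40_2 (iv F160055) D36191 (iv D34633)
def n36192 : Q := act 5 n34524
theorem D36192 : act 5 n34524 = n36192 := rfl
theorem F167644 : act 1 n36192 = n34611 := d12_1 D36192 (iv D34611) (iv F160061)
theorem F167645 : act 4 n36192 = n34540 := d30_1 D36192 (iv D34540) F151770 (iv F151716) (iv F160062)
def n36193 : Q := act 8 n34524
theorem D36193 : act 8 n34524 = n36193 := rfl
theorem F167646 : act 1 n36193 = n34539 := d15_1 D36193 F160111 (iv F160061)
theorem F167647 : act 2 n36193 = n34633 := d22_1 D36193 (iv F167643) F167641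
theorem F167648 : act 4 n36193 = n34527 := d33_1 D36193 (iv D34527) (iv F160062)
theorem F167649 : act 6 n36193 = n34525 := d40_1 D36193 (iv D34525) D34524
def n36194 : Q := act 9 n34525
theorem D36194 : act 9 n34525 = n36194 := rfl
theorem F167650 : act 1 n36194 = n34531 := d16_1 D36194 F160088 (iv F160063)
theorem F167651 : act 2 n36194 = n34614 := d23_1 D36194 F160324 (iv F160064)
theorem F167652 : act 4 n36194 = n34528 := d34_1 D36194 (iv D34528) (iv F160065)
theorem F167653 : act 7 n36194 = n34526 := d43_1 D36194 (iv D34526) (iv F160066)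
def n36195 : Q := act 9 n34527
theorem D36195 : act 9 n34527 = n36195 := rfl
theorem F167654 : act 1 n36195 = n34532 := d16_1 D36195 F160091 (iv F160070)
theorem F167655 : act 2 n36195 = n34615 := d23_1 D36195 F160328 (iv F160071)
theorem F167656 : act 3 n36195 = n34529 := d29_1 D36195 (iv D34529) (iv F160072)
theorem F167657 : act 5 n36195 = n34643 := d38_1 D36195 (iv D34643) (iv F160073)
theorem F167658 : act 6 n36195 = n34528 := d41_1 D36195 (iv D34528) (iv F160074)
def n36196 : Q := act 7 n34530
theorem D36196 : act 7 n34530 = n36196 := rfl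
theorem F167659 : act 3 n36196 = n34531 := d27_1 D36196 (iv D34531) D34530
theorem F167660 : act 4 n36196 = n34608 := d32_1 D36196 F160306 (iv F160084)
theorem F167661 : act 9 n36196 = n34538 := d43_2 (iv F160085) D36196 (iv D34538)
def n36197 : Q := act 6 n34531
theorem D36197 : act 6 n34531 = n36197 := rfl
theorem F167662 : act 2 n36197 = n34533 := d20_1 D36197 (iv D34533) (iv F160086)
theorem F167663 : act 4 n36197 = n34532 := d31_1 D36197 (iv D34532) (iv F160087)
theorem F167664 : act 9 n36197 = n34539 := d41_2 (iv F160088) D36197 (iv D34539)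
def n36198 : Q := act 5 n34533
theorem D36198 : act 5 n34533 = n36198 := rfl
theorem F167665 : act 1 n36198 = n34622 := d12_1 D36198 (iv D34622) (iv F160092)
theorem F167666 : act 9 n36198 = n34540 := d38_2 (iv F160094) D36198 (iv D34540)
def n36199 : Q := act 8 n34533
theorem D36199 : act 8 n34533 = n36199 := rfl
theorem F167667 : act 1 n36199 = n34623 := d15_1 D36199 (iv D34623) (iv F160092)
theorem F167668 : act 4 n36199 = n34536 := d33_1 D36199 (iv D34536) (iv F160093)
theorem F167669 : act 6 n36199 = n34534 := d40_1 D36199 (iv D34534) D34533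
def n36200 : Q := act 5 n34534
theorem D36200 : act 5 n34534 = n36200 := rfl
theorem F167670 : act 1 n36200 = n34624 := d12_1 D36200 (iv D34624) (iv F160095)
theorem F167671 : act 4 n36200 = n34704 := d30_1 D36200 (iv D34704) F152343 (iv F151756) (iv F160096)
theorem F167672 : act 7 n36200 = n34535 := d36_2 (iv F160097) D36200 (iv D34535)
def n36201 : Q := act 6 n34535
theorem D36201 : act 6 n34535 = n36201 := rfl
theorem F167673 : act 1 n36201 = n34626 := d13_1 D36201 (iv D34626) (iv F160098)
theorem F167674 : act 4 n36201 = n34705 := d31_1 D36201 (iv D34705) (iv F160099)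
def n36202 : Q := act 5 n34536
theorem D36202 : act 5 n34536 = n36202 := rfl
theorem F167675 : act 1 n36202 = n34628 := d12_1 D36202 (iv D34628) (iv F160100)
theorem F167676 : act 3 n36202 = n34537 := d25_1 D36202 (iv D34537) (iv F160101)
theorem F167677 : act 6 n36202 = n34706 := d35_2 (iv F160102) D36202 (iv D34706) F152349 (iv F151756)
def n36203 : Q := act 4 n34537
theorem D36203 : act 4 n34537 = n36203 := rfl
theorem F167678 : act 1 n36203 = n34630 := d11_1 D36203 (iv D34630) (iv F160103)
theorem F167679 : act 2 n36203 = n34784 := d18_1 D36203 (iv D34784) (iv F160104)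
theorem F167680 : act 6 n36203 = n34707 := d31_2 (iv F160105) D36203 (iv D34707)
def n36204 : Q := act 6 n34538
theorem D36204 : act 6 n34538 = n36204 := rfl
theorem F167681 : act 3 n36204 = n34539 := d26_1 D36204 (iv D34539) (iv F160106)
theorem F167682 : act 4 n36204 = n34607 := d31_1 D36204 F160303 (iv F160107)
theorem F167683 : act 8 n36204 = n34606 := d40_2 (iv F160108) D36204 (iv D34606)
def n36205 : Q := act 5 n34539
theorem D36205 : act 5 n34539 = n36205 := rfl
theorem F167684 : act 2 n36205 = n34540 := d19_1 D36205 (iv D34540) (iv F160109)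
def n36206 : Q := act 8 n34540
theorem D36206 : act 8 n34540 = n36206 := rfl
theorem F167685 : act 1 n36206 = n34644 := d15_1 D36206 (iv D34644) (iv F160112)
def n36207 : Q := act 5 n34541
theorem D36207 : act 5 n34541 = n36207 := rfl
theorem F167686 : act 1 n36207 = n34645 := d12_1 D36207 (iv D34645) (iv F160113)
theorem F167687 : act 2 n36207 = n34611 := d19_1 D36207 (iv D34611) (iv F160114)
theorem F167688 : act 4 n36207 = n34638 := d30_1 D36207 (iv D34638) F152014 F151779 (iv F160115)
def n36208 : Q := act 4 n34542
theorem D36208 : act 4 n34542 = n36208 := rfl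
theorem F167689 : act 1 n36208 = n34544 := d11_1 D36208 (iv D34544) (iv F160117)
theorem F167690 : act 5 n36208 = n34568 := d30_2 D34542 D36208 (iv D34568) (iv D32718) (iv F151782)
theorem F167691 : act 9 n36208 = n34551 := d34_2 (iv F160119) D36208 (iv D34551)
def n36209 : Q := act 7 n34542
theorem D36209 : act 7 n34542 = n36209 := rfl
theorem F167692 : act 1 n36209 = n34545 := d14_1 D36209 (iv D34545) (iv F160117)
theorem F167693 : act 3 n36209 = n36209 := d27_1 D36209 (iv D36209) F160118
theorem F167694 : act 5 n36209 = n34543 := d36_1 D36209 (iv D34543) D34542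
theorem F167695 : act 9 n36209 = n34552 := d43_2 (iv F160119) D36209 (iv D34552)
def n36210 : Q := act 3 n34544
theorem D36210 : act 3 n34544 = n36210 := rfl
theorem F167696 : act 4 n36210 = n36210 := d24_2 D34544 D36210 (iv D36210) (iv D34544) F151786
theorem F167697 : act 5 n36210 = n34570 := d25_2 (iv F160127) D36210 (iv D34570)
theorem F167698 : act 9 n36210 = n34553 := d29_2 (iv F160128) D36210 (iv D34553)
def n36211 : Q := act 7 n34544
theorem D36211 : act 7 n34544 = n36211 := rfl
theorem F167699 : act 2 n36211 = n34546 := d21_1 D36211 (iv D34546) (iv F160126)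
theorem F167700 : act 4 n36211 = n34545 := d32_1 D36211 (iv D34545) D34544
theorem F167701 : act 5 n36211 = n34571 := d36_1 D36211 (iv D34571) (iv F160127)
theorem F167702 : act 9 n36211 = n34554 := d43_2 (iv F160128) D36211 (iv D34554)
def n36212 : Q := act 6 n34545
theorem D36212 : act 6 n34545 = n36212 := rfl
theorem F167703 : act 2 n36212 = n34548 := d20_1 D36212 (iv D34548) (iv F160129)
theorem F167704 : act 3 n36212 = n36212 := d26_1 D36212 (iv D36212) F160130
theorem F167705 : act 9 n36212 = n34556 := d41_2 (iv F160132) D36212 (iv D34556)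
def n36213 : Q := act 6 n34546
theorem D36213 : act 6 n34546 = n36213 := rfl
theorem F167706 : act 4 n36213 = n34548 := d31_1 D36213 (iv D34548) (iv F160133)
theorem F167707 : act 9 n36213 = n34559 := d41_2 (iv F160135) D36213 (iv D34559)
def n36214 : Q := act 8 n34546
theorem D36214 : act 8 n34546 = n36214 := rfl
theorem F167708 : act 4 n36214 = n34549 := d33_1 D36214 (iv D34549) (iv F160133)
theorem F167709 : act 7 n36214 = n34547 := d42_1 D36214 (iv D34547) D34546
def n36215 : Q := act 5 n34547
theorem D36215 : act 5 n34547 = n36215 := rfl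
theorem F167710 : act 4 n36215 = n36215 := d30_1 D36215 (iv D36215) F160136 F151799 (iv F160136)
theorem F167711 : act 8 n36215 = n34578 := d37_2 D34547 D36215 (iv D34578) (iv D32724) (iv F151793)
def n36216 : Q := act 8 n34548
theorem D36216 : act 8 n34548 = n36216 := rfl
theorem F167712 : act 3 n36216 = n34550 := d28_1 D36216 (iv D34550) (iv F160137)
theorem F167713 : act 6 n36216 = n34549 := d40_1 D36216 (iv D34549) D34548
def n36217 : Q := act 5 n34550
theorem D36217 : act 5 n34550 = n36217 := rfl
theorem F167714 : act 2 n36217 = n36217 := d19_1 D36217 (iv D36217) F160142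
theorem F167715 : act 6 n36217 = n36217 := d35_2 (iv F160143) D36217 (iv D36217) F160143 F151803
def n36218 : Q := act 3 n34551
theorem D36218 : act 3 n34551 = n36218 := rfl
theorem F167716 : act 1 n36218 = n34553 := d10_1 D36218 (iv D34553) (iv F160144)
theorem F167717 : act 4 n36218 = n36218 := d24_2 D34551 D36218 (iv D36218) (iv D34551) F151806
theorem F167718 : act 5 n36218 = n34584 := d25_2 (iv F160145) D36218 (iv D34584)
def n36219 : Q := act 7 n34551
theorem D36219 : act 7 n34551 = n36219 := rfl
theorem F167719 : act 1 n36219 = n34554 := d14_1 D36219 (iv D34554) (iv F160144)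
theorem F167720 : act 4 n36219 = n34552 := d32_1 D36219 (iv D34552) D34551
theorem F167721 : act 5 n36219 = n34585 := d36_1 D36219 (iv D34585) (iv F160145)
def n36220 : Q := act 6 n34552
theorem D36220 : act 6 n34552 = n36220 := rfl
theorem F167722 : act 1 n36220 = n34556 := d13_1 D36220 (iv D34556) (iv F160146)
theorem F167723 : act 3 n36220 = n36220 := d26_1 D36220 (iv D36220) F160147
theorem F167724 : act 5 n36220 = n34732 := d35_1 D36220 (iv D34732) (iv D32915) (iv F151810) (iv F160148)
def n36221 : Q := act 7 n34553
theorem D36221 : act 7 n34553 = n36221 := rfl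
theorem F167725 : act 3 n36221 = n34554 := d27_1 D36221 (iv D34554) D34553
theorem F167726 : act 4 n36221 = n36221 := d32_1 D36221 (iv D36221) F160149
theorem F167727 : act 5 n36221 = n34587 := d36_1 D36221 (iv D34587) (iv F160150)
def n36222 : Q := act 8 n34553
theorem D36222 : act 8 n34553 = n36222 := rfl
theorem F167728 : act 3 n36222 = n34555 := d28_1 D36222 (iv D34555) D34553
theorem F167729 : act 4 n36222 = n36222 := d33_1 D36222 (iv D36222) F160149
def n36223 : Q := act 6 n34554
theorem D36223 : act 6 n34554 = n36223 := rfl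
theorem F167730 : act 2 n36223 = n34559 := d20_1 D36223 (iv D34559) (iv F160151)
theorem F167731 : act 4 n36223 = n34556 := d31_1 D36223 (iv D34556) (iv F160152)
def n36224 : Q := act 8 n34554
theorem D36224 : act 8 n34554 = n36224 := rfl
theorem F167732 : act 2 n36224 = n34560 := d22_1 D36224 (iv D34560) (iv F160151)
theorem F167733 : act 4 n36224 = n34557 := d33_1 D36224 (iv D34557) (iv F160152)
theorem F167734 : act 7 n36224 = n34555 := d42_1 D36224 (iv D34555) D34554
def n36225 : Q := act 9 n34555
theorem D36225 : act 9 n34555 = n36225 := rfl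
theorem F167735 : act 2 n36225 = n34562 := d23_1 D36225 (iv D34562) (iv F160154)
theorem F167736 : act 4 n36225 = n34558 := d34_1 D36225 (iv D34558) (iv F160155)
def n36226 : Q := act 8 n34556
theorem D36226 : act 8 n34556 = n36226 := rfl
theorem F167737 : act 2 n36226 = n34563 := d22_1 D36226 (iv D34563) (iv F160156)
theorem F167738 : act 3 n36226 = n36226 := d28_1 D36226 (iv D36226) F160157
theorem F167739 : act 6 n36226 = n34557 := d40_1 D36226 (iv D34557) D34556
def n36227 : Q := act 9 n34557
theorem D36227 : act 9 n34557 = n36227 := rfl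
theorem F167740 : act 2 n36227 = n34564 := d23_1 D36227 (iv D34564) (iv F160158)
theorem F167741 : act 3 n36227 = n36227 := d29_1 D36227 (iv D36227) F160159
theorem F167742 : act 5 n36227 = n34722 := d38_1 D36227 (iv D34722) (iv F160160)
theorem F167743 : act 7 n36227 = n34558 := d43_1 D36227 (iv D34558) (iv F160161)
def n36228 : Q := act 5 n34559
theorem D36228 : act 5 n34559 = n36228 := rfl
theorem F167744 : act 6 n36228 = n34594 := d35_2 D34559 D36228 (iv D34594) (iv D32738) (iv F151821)
def n36229 : Q := act 8 n34559
theorem D36229 : act 8 n34559 = n36229 := rfl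
theorem F167745 : act 4 n36229 = n34563 := d33_1 D36229 (iv D34563) (iv F160165)
theorem F167746 : act 6 n36229 = n34560 := d40_1 D36229 (iv D34560) D34559
def n36230 : Q := act 5 n34560
theorem D36230 : act 5 n34560 = n36230 := rfl
theorem F167747 : act 4 n36230 = n34724 := d30_1 D36230 (iv D34724) F152445 (iv F151825) (iv F160166)
theorem F167748 : act 7 n36230 = n34561 := d36_2 (iv F160167) D36230 (iv D34561)
theorem F167749 : act 8 n36230 = n34596 := d37_2 D34560 D36230 (iv D34596) (iv D32739) (iv F151821)
def n36231 : Q := act 9 n34560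
theorem D36231 : act 9 n34560 = n36231 := rfl
theorem F167750 : act 4 n36231 = n34564 := d34_1 D36231 (iv D34564) (iv F160166)
theorem F167751 : act 7 n36231 = n34562 := d43_1 D36231 (iv D34562) (iv F160167)
def n36232 : Q := act 6 n34561
theorem D36232 : act 6 n34561 = n36232 := rfl
theorem F167752 : act 4 n36232 = n34726 := d31_1 D36232 (iv D34726) (iv F160168)
theorem F167753 : act 8 n36232 = n34598 := d40_2 (iv F160169) D36232 (iv D34598)
def n36233 : Q := act 9 n34561
theorem D36233 : act 9 n34561 = n36233 := rfl
theorem F167754 : act 4 n36233 = n34727 := d34_1 D36233 (iv D34727) (iv F160168)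
theorem F167755 : act 5 n36233 = n34562 := d38_1 D36233 (iv D34562) D34561
def n36234 : Q := act 5 n34563
theorem D36234 : act 5 n34563 = n36234 := rfl
theorem F167756 : act 3 n36234 = n34565 := d25_1 D36234 (iv D34565) (iv F160171)
theorem F167757 : act 6 n36234 = n34728 := d35_2 (iv F160172) D36234 (iv D34728) F152454 (iv F151825)
def n36235 : Q := act 9 n34563
theorem D36235 : act 9 n34563 = n36235 := rfl
theorem F167758 : act 3 n36235 = n34566 := d29_1 D36235 (iv D34566) (iv F160171)
theorem F167759 : act 6 n36235 = n34564 := d41_1 D36235 (iv D34564) (iv F160172)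
def n36236 : Q := act 4 n34565
theorem D36236 : act 4 n34565 = n36236 := rfl
theorem F167760 : act 2 n36236 = n36236 := d18_1 D36236 (iv D36236) F160176
theorem F167761 : act 6 n36236 = n34730 := d31_2 (iv F160177) D36236 (iv D34730)
def n36237 : Q := act 9 n34565
theorem D36237 : act 9 n34565 = n36237 := rfl
theorem F167762 : act 2 n36237 = n36237 := d23_1 D36237 (iv D36237) F160176
theorem F167763 : act 5 n36237 = n34566 := d38_1 D36237 (iv D34566) D34565
theorem F167764 : act 6 n36237 = n34731 := d41_1 D36237 (iv D34731) (iv F160177)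
def n36238 : Q := act 5 n34567
theorem D36238 : act 5 n34567 = n36238 := rfl
theorem F167765 : act 4 n36238 = n34594 := d30_1 D36238 (iv D34594) F151906 (iv F151836) (iv F160180)
theorem F167766 : act 7 n36238 = n34611 := d36_2 (iv F160181) D36238 (iv D34611)
def n36239 : Q := act 7 n34568
theorem D36239 : act 7 n34568 = n36239 := rfl
theorem F167767 : act 1 n36239 = n34571 := d14_1 D36239 (iv D34571) (iv F160182)
theorem F167768 : act 4 n36239 = n34569 := d32_1 D36239 (iv D34569) D34568
theorem F167769 : act 9 n36239 = n34585 := d43_2 (iv F160184) D36239 (iv D34585)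
def n36240 : Q := act 6 n34569
theorem D36240 : act 6 n34569 = n36240 := rfl
theorem F167770 : act 1 n36240 = n34573 := d13_1 D36240 (iv D34573) (iv F160185)
theorem F167771 : act 3 n36240 = n34602 := d26_1 D36240 F160290 (iv F160186)
theorem F167772 : act 5 n36240 = n34600 := d35_1 D36240 F160281 F151917 (iv F151847) (iv F160187)
theorem F167773 : act 7 n36240 = n34615 := d39_2 D34569 D36240 (iv D34615) (iv D32760) (iv F151843)
theorem F167774 : act 9 n36240 = n34586 := d41_2 (iv F160188) D36240 (iv D34586)
def n36241 : Q := act 7 n34570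
theorem D36241 : act 7 n34570 = n36241 := rfl
theorem F167775 : act 3 n36241 = n34571 := d27_1 D36241 (iv D34571) D34570
theorem F167776 : act 4 n36241 = n34655 := d32_1 D36241 (iv D34655) (iv F160189)
theorem F167777 : act 9 n36241 = n34587 := d43_2 (iv F160191) D36241 (iv D34587)
def n36242 : Q := act 6 n34571
theorem D36242 : act 6 n34571 = n36242 := rfl
theorem F167778 : act 2 n36242 = n34576 := d20_1 D36242 (iv D34576) (iv F160192)
theorem F167779 : act 4 n36242 = n34573 := d31_1 D36242 (iv D34573) (iv F160193)
theorem F167780 : act 7 n36242 = n34617 := d39_2 D34571 D36242 (iv D34617) (iv D32762) (iv F151851)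
theorem F167781 : act 9 n36242 = n34589 := d41_2 (iv F160194) D36242 (iv D34589)
def n36243 : Q := act 8 n34571
theorem D36243 : act 8 n34571 = n36243 := rfl
theorem F167782 : act 2 n36243 = n34577 := d22_1 D36243 (iv D34577) (iv F160192)
theorem F167783 : act 4 n36243 = n34574 := d33_1 D36243 (iv D34574) (iv F160193)
theorem F167784 : act 7 n36243 = n34572 := d42_1 D36243 (iv D34572) D34571
def n36244 : Q := act 5 n34572
theorem D36244 : act 5 n34572 = n36244 := rfl
theorem F167785 : act 2 n36244 = n34578 := d19_1 D36244 (iv D34578) (iv F160195)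
theorem F167786 : act 4 n36244 = n36244 := d30_1 D36244 (iv D36244) F160196 F151859 (iv F160196)
def n36245 : Q := act 8 n34573
theorem D36245 : act 8 n34573 = n36245 := rfl
theorem F167787 : act 2 n36245 = n34580 := d22_1 D36245 (iv D34580) (iv F160198)
theorem F167788 : act 3 n36245 = n34657 := d28_1 D36245 (iv D34657) (iv F160199)
theorem F167789 : act 6 n36245 = n34574 := d40_1 D36245 (iv D34574) D34573
theorem F167790 : act 7 n36245 = n34620 := d42_1 D36245 (iv D34620) (iv F160200)
def n36246 : Q := act 9 n34574
theorem D36246 : act 9 n34574 = n36246 := rfl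
theorem F167791 : act 1 n36246 = n34605 := d16_1 D36246 (iv F167343) F167338
theorem F167792 : act 2 n36246 = n34581 := d23_1 D36246 (iv D34581) (iv F160202)
theorem F167793 : act 3 n36246 = n34658 := d29_1 D36246 (iv D34658) (iv F160203)
theorem F167794 : act 5 n36246 = n36246 := d38_1 D36246 (iv D36246) F160204
theorem F167795 : act 7 n36246 = n34575 := d43_1 D36246 (iv D34575) (iv F160205)
theorem F167796 : act 8 n36246 = n34593 := d44_1 D36246 (iv D34593) (iv D32736) (iv F151856) D34574
def n36247 : Q := act 5 n34576
theorem D36247 : act 5 n34576 = n36247 := rfl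
theorem F167797 : act 7 n36247 = n34622 := d36_2 (iv F160213) D36247 (iv D34622)
theorem F167798 : act 9 n36247 = n34594 := d38_2 (iv F160214) D36247 (iv D34594)
def n36248 : Q := act 8 n34576
theorem D36248 : act 8 n34576 = n36248 := rfl
theorem F167799 : act 4 n36248 = n34580 := d33_1 D36248 (iv D34580) (iv F160212)
theorem F167800 : act 6 n36248 = n34577 := d40_1 D36248 (iv D34577) D34576
theorem F167801 : act 7 n36248 = n34623 := d42_1 D36248 (iv D34623) (iv F160213)
def n36249 : Q := act 5 n34577
theorem D36249 : act 5 n34577 = n36249 := rfl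
theorem F167802 : act 4 n36249 = n36249 := d30_1 D36249 (iv D36249) F160215 F151869 (iv F160215)
theorem F167803 : act 7 n36249 = n34578 := d36_2 (iv F160216) D36249 (iv D34578)
def n36250 : Q := act 9 n34577
theorem D36250 : act 9 n34577 = n36250 := rfl
theorem F167804 : act 4 n36250 = n34581 := d34_1 D36250 (iv D34581) (iv F160215)
theorem F167805 : act 7 n36250 = n34579 := d43_1 D36250 (iv D34579) (iv F160216)
theorem F167806 : act 8 n36250 = n34597 := d44_1 D36250 (iv D34597) (iv D32739) (iv F151862) D34577
def n36251 : Q := act 6 n34578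
theorem D36251 : act 6 n34578 = n36251 := rfl
theorem F167807 : act 4 n36251 = n36251 := d31_1 D36251 (iv D36251) F160217
theorem F167808 : act 5 n36251 = n34626 := d35_1 D36251 (iv D34626) (iv D32769) (iv F151864) D34578
def n36252 : Q := act 9 n34578
theorem D36252 : act 9 n34578 = n36252 := rfl
theorem F167809 : act 4 n36252 = n36252 := d34_1 D36252 (iv D36252) F160217
theorem F167810 : act 5 n36252 = n34579 := d38_1 D36252 (iv D34579) D34578
def n36253 : Q := act 5 n34580
theorem D36253 : act 5 n34580 = n36253 := rfl
theorem F167811 : act 3 n36253 = n34582 := d25_1 D36253 (iv D34582) (iv F160221)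
theorem F167812 : act 6 n36253 = n36253 := d35_2 (iv F160222) D36253 (iv D36253) F160222 F151869
theorem F167813 : act 7 n36253 = n34628 := d36_2 (iv F160223) D36253 (iv D34628)
def n36254 : Q := act 9 n34580
theorem D36254 : act 9 n34580 = n36254 := rfl
theorem F167814 : act 3 n36254 = n34583 := d29_1 D36254 (iv D34583) (iv F160221)
theorem F167815 : act 6 n36254 = n34581 := d41_1 D36254 (iv D34581) (iv F160222)
theorem F167816 : act 7 n36254 = n34629 := d43_1 D36254 (iv D34629) (iv F160223)
theorem F167817 : act 8 n36254 = n34600 := d44_1 D36254 (iv D34600) (iv D32742) (iv F151867) D34580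
def n36255 : Q := act 4 n34582
theorem D36255 : act 4 n34582 = n36255 := rfl
theorem F167818 : act 2 n36255 = n34663 := d18_1 D36255 (iv D34663) (iv F160228)
theorem F167819 : act 5 n36255 = n34691 := d30_2 D34582 D36255 F166725 (iv D35949) F158984
theorem F167820 : act 6 n36255 = n36255 := d31_2 F160229 D36255 (iv D36255)
theorem F167821 : act 7 n36255 = n34630 := d32_2 (iv F160230) D36255 (iv D34630)
theorem F167822 : act 8 n36255 = n34692 := d33_2 F161546 D36255 (iv F161543)
def n36256 : Q := act 9 n34582
theorem D36256 : act 9 n34582 = n36256 := rfl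
theorem F167823 : act 2 n36256 = n34664 := d23_1 D36256 (iv D34664) (iv F160228)
theorem F167824 : act 5 n36256 = n34583 := d38_1 D36256 (iv D34583) D34582
theorem F167825 : act 6 n36256 = n36256 := d41_1 D36256 (iv D36256) F160229
theorem F167826 : act 7 n36256 = n34631 := d43_1 D36256 (iv D34631) (iv F160230)
def n36257 : Q := act 7 n34584
theorem D36257 : act 7 n34584 = n36257 := rfl
theorem F167827 : act 1 n36257 = n34587 := d14_1 D36257 (iv D34587) (iv F160235)
theorem F167828 : act 3 n36257 = n34585 := d27_1 D36257 (iv D34585) D34584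
theorem F167829 : act 4 n36257 = n34665 := d32_1 D36257 (iv D34665) (iv F160236)
def n36258 : Q := act 6 n34585
theorem D36258 : act 6 n34585 = n36258 := rfl
theorem F167830 : act 1 n36258 = n34589 := d13_1 D36258 (iv D34589) (iv F160238)
theorem F167831 : act 4 n36258 = n34586 := d31_1 D36258 (iv D34586) (iv F160239)
theorem F167832 : act 7 n36258 = n34633 := d39_2 D34585 D36258 (iv D34633) (iv D32776) (iv F151883)
def n36259 : Q := act 6 n34587
theorem D36259 : act 6 n34587 = n36259 := rfl
theorem F167833 : act 3 n36259 = n34589 := d26_1 D36259 (iv D34589) (iv F160244)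
theorem F167834 : act 4 n36259 = n34666 := d31_1 D36259 (iv D34666) (iv F160245)
theorem F167835 : act 7 n36259 = n34634 := d39_2 D34587 D36259 (iv D34634) (iv D32778) (iv F151888)
def n36260 : Q := act 8 n34587
theorem D36260 : act 8 n34587 = n36260 := rfl
theorem F167836 : act 3 n36260 = n34590 := d28_1 D36260 (iv D34590) (iv F160244)
theorem F167837 : act 4 n36260 = n34667 := d33_1 D36260 (iv D34667) (iv F160245)
theorem F167838 : act 7 n36260 = n34588 := d42_1 D36260 (iv D34588) D34587
def n36261 : Q := act 5 n34589
theorem D36261 : act 5 n34589 = n36261 := rfl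
theorem F167839 : act 2 n36261 = n34594 := d19_1 D36261 (iv D34594) (iv F160249)
theorem F167840 : act 7 n36261 = n34638 := d36_2 (iv F160251) D36261 (iv D34638)
def n36262 : Q := act 8 n34589
theorem D36262 : act 8 n34589 = n36262 := rfl
theorem F167841 : act 2 n36262 = n34595 := d22_1 D36262 (iv D34595) (iv F160249)
theorem F167842 : act 4 n36262 = n34592 := d33_1 D36262 (iv D34592) (iv F160250)
theorem F167843 : act 6 n36262 = n34590 := d40_1 D36262 (iv D34590) D34589
theorem F167844 : act 7 n36262 = n34639 := d42_1 D36262 (iv D34639) (iv F160251)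
def n36263 : Q := act 9 n34590
theorem D36263 : act 9 n34590 = n36263 := rfl
theorem F167845 : act 1 n36263 = n34603 := d16_1 D36263 (iv F160992) F160987
theorem F167846 : act 2 n36263 = n34597 := d23_1 D36263 (iv D34597) (iv F160252)
theorem F167847 : act 4 n36263 = n34593 := d34_1 D36263 (iv D34593) (iv F160253)
theorem F167848 : act 7 n36263 = n34591 := d43_1 D36263 (iv D34591) (iv F160254)
def n36264 : Q := act 9 n34592
theorem D36264 : act 9 n34592 = n36264 := rfl
theorem F167849 : act 1 n36264 = n34604 := d16_1 D36264 (iv F161000) F160994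
theorem F167850 : act 2 n36264 = n34600 := d23_1 D36264 (iv D34600) (iv F160259)
theorem F167851 : act 3 n36264 = n34671 := d29_1 D36264 (iv D34671) (iv F160260)
theorem F167852 : act 6 n36264 = n34593 := d41_1 D36264 (iv D34593) (iv F160261)
theorem F167853 : act 7 n36264 = n34643 := d43_1 D36264 (iv D34643) (iv F160262)
def n36265 : Q := act 8 n34594
theorem D36265 : act 8 n34594 = n36265 := rfl
theorem F167854 : act 7 n36265 = n34644 := d42_1 D36265 (iv D34644) (iv F160268)
def n36266 : Q := act 5 n34595
theorem D36266 : act 5 n34595 = n36266 := rfl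
theorem F167855 : act 7 n36266 = n34645 := d36_2 (iv F160271) D36266 (iv D34645)
def n36267 : Q := act 9 n34595
theorem D36267 : act 9 n34595 = n36267 := rfl
theorem F167856 : act 4 n36267 = n34600 := d34_1 D36267 (iv D34600) (iv F160269)
theorem F167857 : act 6 n36267 = n34597 := d41_1 D36267 (iv D34597) (iv F160270)
theorem F167858 : act 7 n36267 = n34646 := d43_1 D36267 (iv D34646) (iv F160271)
def n36268 : Q := act 6 n34596
theorem D36268 : act 6 n34596 = n36268 := rfl
theorem F167859 : act 4 n36268 = n34732 := d31_1 D36268 (iv D34732) (iv F160272)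
def n36269 : Q := act 9 n34596
theorem D36269 : act 9 n34596 = n36269 := rfl
theorem F167860 : act 4 n36269 = n34733 := d34_1 D36269 (iv D34733) (iv F160272)
theorem F167861 : act 5 n36269 = n34597 := d38_1 D36269 (iv D34597) D34596
theorem F167862 : act 7 n36269 = n34599 := d43_1 D36269 (iv D34599) (iv F160273)
def n36270 : Q := act 7 n34598
theorem D36270 : act 7 n34598 = n36270 := rfl
theorem F167863 : act 4 n36270 = n34734 := d32_1 D36270 (iv D34734) (iv F160276)
theorem F167864 : act 5 n36270 = n34648 := d36_1 D36270 (iv D34648) (iv F160277)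
def n36271 : Q := act 8 n34599
theorem D36271 : act 8 n34599 = n36271 := rfl
theorem F167865 : act 4 n36271 = n34735 := d33_1 D36271 (iv D34735) (iv F160278)
def n36272 : Q := act 3 n34601
theorem D36272 : act 3 n34601 = n36272 := rfl
theorem F167866 : act 1 n36272 = n34666 := d10_1 D36272 F160469 (iv F160283)
theorem F167867 : act 6 n36272 = n34665 := d26_2 (iv F160285) D36272 F160467
theorem F167868 : act 7 n36272 = n34649 := d27_2 (iv F160286) D36272 (iv D34649)
def n36273 : Q := act 6 n34603
theorem D36273 : act 6 n34603 = n36273 := rfl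
theorem F167869 : act 2 n36273 = n34606 := d20_1 D36273 (iv D34606) (iv F160292)
theorem F167870 : act 4 n36273 = n34604 := d31_1 D36273 (iv D34604) (iv F160293)
def n36274 : Q := act 8 n34604
theorem D36274 : act 8 n34604 = n36274 := rfl
theorem F167871 : act 2 n36274 = n34607 := d22_1 D36274 (iv D34607) (iv F160294)
theorem F167872 : act 3 n36274 = n34674 := d28_1 D36274 (iv D34674) (iv F160295)
theorem F167873 : act 6 n36274 = n34605 := d40_1 D36274 (iv D34605) D34604
def n36275 : Q := act 5 n34606
theorem D36275 : act 5 n34606 = n36275 := rfl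
theorem F167874 : act 3 n36275 = n34611 := d25_1 D36275 (iv D34611) (iv F160300)
def n36276 : Q := act 5 n34607
theorem D36276 : act 5 n34607 = n36276 := rfl
theorem F167875 : act 3 n36276 = n34609 := d25_1 D36276 (iv D34609) (iv F160302)
theorem F167876 : act 6 n36276 = n36276 := d35_2 (iv F160303) D36276 (iv D36276) F160303 F151942
def n36277 : Q := act 9 n34607
theorem D36277 : act 9 n34607 = n36277 := rfl
theorem F167877 : act 3 n36277 = n34610 := d29_1 D36277 (iv D34610) (iv F160302)
theorem F167878 : act 6 n36277 = n34608 := d41_1 D36277 (iv D34608) (iv F160303)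
def n36278 : Q := act 4 n34609
theorem D36278 : act 4 n34609 = n36278 := rfl
theorem F167879 : act 1 n36278 = n34692 := d11_1 D36278 (iv F161543) F161541
theorem F167880 : act 2 n36278 = n34677 := d18_1 D36278 (iv D34677) (iv F160307)
theorem F167881 : act 5 n36278 = n34612 := d30_2 D34609 D36278 (iv D34612) (iv D32757) (iv F151947)
theorem F167882 : act 6 n36278 = n36278 := d31_2 F160308 D36278 (iv D36278)
def n36279 : Q := act 9 n34609
theorem D36279 : act 9 n34609 = n36279 := rfl
theorem F167883 : act 2 n36279 = n34678 := d23_1 D36279 (iv D34678) (iv F160307)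
theorem F167884 : act 5 n36279 = n34610 := d38_1 D36279 (iv D34610) D34609
theorem F167885 : act 6 n36279 = n36279 := d41_1 D36279 (iv D36279) F160308
def n36280 : Q := act 8 n34611
theorem D36280 : act 8 n34611 = n36280 := rfl
theorem F167886 : act 4 n36280 = n34644 := d33_1 D36280 (iv D34644) (iv F160312)
def n36281 : Q := act 3 n34612
theorem D36281 : act 3 n34612 = n36281 := rfl
theorem F167887 : act 1 n36281 = n34689 := d10_1 D36281 F160546 (iv F160313)
theorem F167888 : act 6 n36281 = n34650 := d26_2 (iv F160315) D36281 (iv D34650)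
theorem F167889 : act 8 n36281 = n34649 := d28_2 (iv F160316) D36281 (iv D34649)
def n36282 : Q := act 6 n34614
theorem D36282 : act 6 n34614 = n36282 := rfl
theorem F167890 : act 1 n36282 = n34617 := d13_1 D36282 (iv D34617) (iv F160322)
theorem F167891 : act 4 n36282 = n34615 := d31_1 D36282 (iv D34615) (iv F160323)
theorem F167892 : act 9 n36282 = n34633 := d41_2 (iv F160324) D36282 (iv D34633)
def n36283 : Q := act 6 n34616
theorem D36283 : act 6 n34616 = n36283 := rfl
theorem F167893 : act 3 n36283 = n34617 := d26_1 D36283 (iv D34617) (iv F160329)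
theorem F167894 : act 4 n36283 = n34679 := d31_1 D36283 (iv D34679) (iv F160330)
theorem F167895 : act 9 n36283 = n34634 := d41_2 (iv F160331) D36283 (iv D34634)
def n36284 : Q := act 5 n34617
theorem D36284 : act 5 n34617 = n36284 := rfl
theorem F167896 : act 2 n36284 = n34622 := d19_1 D36284 (iv D34622) (iv F160332)
theorem F167897 : act 9 n36284 = n34638 := d38_2 (iv F160334) D36284 (iv D34638)
def n36285 : Q := act 8 n34617
theorem D36285 : act 8 n34617 = n36285 := rfl
theorem F167898 : act 2 n36285 = n34623 := d22_1 D36285 (iv D34623) (iv F160332)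
theorem F167899 : act 4 n36285 = n34620 := d33_1 D36285 (iv D34620) (iv F160333)
theorem F167900 : act 6 n36285 = n34618 := d40_1 D36285 (iv D34618) D34617
def n36286 : Q := act 9 n34618
theorem D36286 : act 9 n34618 = n36286 := rfl
theorem F167901 : act 2 n36286 = n34625 := d23_1 D36286 (iv D34625) (iv F160335)
theorem F167902 : act 4 n36286 = n34621 := d34_1 D36286 (iv D34621) (iv F160336)
theorem F167903 : act 7 n36286 = n34619 := d43_1 D36286 (iv D34619) (iv F160337)
theorem F167904 : act 8 n36286 = n34641 := d44_1 D36286 (iv D34641) (iv D32781) (iv F151970) D34618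
def n36287 : Q := act 5 n34620
theorem D36287 : act 5 n34620 = n36287 := rfl
theorem F167905 : act 2 n36287 = n34628 := d19_1 D36287 (iv D34628) (iv F160341)
theorem F167906 : act 3 n36287 = n34681 := d25_1 D36287 (iv D34681) (iv F160342)
theorem F167907 : act 6 n36287 = n34708 := d35_2 (iv F160343) D36287 (iv D34708) F152361 (iv F151978)
def n36288 : Q := act 9 n34620
theorem D36288 : act 9 n34620 = n36288 := rfl
theorem F167908 : act 2 n36288 = n34629 := d23_1 D36288 (iv D34629) (iv F160341)
theorem F167909 : act 3 n36288 = n34682 := d29_1 D36288 (iv D34682) (iv F160342)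
theorem F167910 : act 6 n36288 = n34621 := d41_1 D36288 (iv D34621) (iv F160343)
theorem F167911 : act 8 n36288 = n34643 := d44_1 D36288 (iv D34643) (iv D32784) (iv F151975) D34620
def n36289 : Q := act 8 n34622
theorem D36289 : act 8 n34622 = n36289 := rfl
def n36290 : Q := act 5 n34623
theorem D36290 : act 5 n34623 = n36290 := rfl
def n36291 : Q := act 9 n34623
theorem D36291 : act 9 n34623 = n36291 := rfl
theorem F167912 : act 4 n36291 = n34629 := d34_1 D36291 (iv D34629) (iv F160350)
theorem F167913 : act 6 n36291 = n34625 := d41_1 D36291 (iv D34625) (iv F160351)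
theorem F167914 : act 8 n36291 = n34646 := d44_1 D36291 (iv D34646) (iv D32787) (iv F151985) D34623
def n36292 : Q := act 6 n34624
theorem D36292 : act 6 n34624 = n36292 := rfl
theorem F167915 : act 4 n36292 = n34713 := d31_1 D36292 (iv D34713) (iv F160352)
def n36293 : Q := act 9 n34624
theorem D36293 : act 9 n34624 = n36293 := rfl
theorem F167916 : act 4 n36293 = n34714 := d34_1 D36293 (iv D34714) (iv F160352)
theorem F167917 : act 5 n36293 = n34625 := d38_1 D36293 (iv D34625) D34624
theorem F167918 : act 7 n36293 = n34627 := d43_1 D36293 (iv D34627) (iv F160353)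
def n36294 : Q := act 7 n34626
theorem D36294 : act 7 n34626 = n36294 := rfl
theorem F167919 : act 4 n36294 = n34715 := d32_1 D36294 (iv D34715) (iv F160357)
def n36295 : Q := act 9 n34626
theorem D36295 : act 9 n34626 = n36295 := rfl
theorem F167920 : act 4 n36295 = n34716 := d34_1 D36295 (iv D34716) (iv F160357)
theorem F167921 : act 6 n36295 = n34627 := d41_1 D36295 (iv D34627) D34626
def n36296 : Q := act 4 n34628
theorem D36296 : act 4 n34628 = n36296 := rfl
theorem F167922 : act 6 n36296 = n34717 := d31_2 (iv F160361) D36296 (iv D34717)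
def n36297 : Q := act 9 n34628
theorem D36297 : act 9 n34628 = n36297 := rfl
theorem F167923 : act 3 n36297 = n34631 := d29_1 D36297 (iv D34631) (iv F160360)
theorem F167924 : act 5 n36297 = n34629 := d38_1 D36297 (iv D34629) D34628
theorem F167925 : act 6 n36297 = n34718 := d41_1 D36297 (iv D34718) (iv F160361)
def n36298 : Q := act 3 n34630
theorem D36298 : act 3 n34630 = n36298 := rfl
theorem F167926 : act 6 n36298 = n34719 := d26_2 (iv F160366) D36298 (iv D34719)
def n36299 : Q := act 6 n34632
theorem D36299 : act 6 n34632 = n36299 := rfl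
theorem F167927 : act 1 n36299 = n34634 := d13_1 D36299 (iv D34634) (iv F160370)
theorem F167928 : act 3 n36299 = n34633 := d26_1 D36299 (iv D34633) (iv F160371)
theorem F167929 : act 4 n36299 = n34649 := d31_1 D36299 F160404 (iv F160372)
def n36300 : Q := act 5 n34633
theorem D36300 : act 5 n34633 = n36300 := rfl
theorem F167930 : act 1 n36300 = n34638 := d12_1 D36300 (iv D34638) (iv F160373)
theorem F167931 : act 4 n36300 = n34645 := d30_1 D36300 (iv D34645) F152029 (iv F152008) (iv F160374)
def n36301 : Q := act 5 n34634
theorem D36301 : act 5 n34634 = n36301 := rfl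
theorem F167932 : act 3 n36301 = n34638 := d25_1 D36301 (iv D34638) (iv F160375)
def n36302 : Q := act 8 n34634
theorem D36302 : act 8 n34634 = n36302 := rfl
theorem F167933 : act 3 n36302 = n34639 := d28_1 D36302 (iv D34639) (iv F160375)
theorem F167934 : act 4 n36302 = n34689 := d33_1 D36302 (iv D34689) (iv F160376)
theorem F167935 : act 6 n36302 = n34635 := d40_1 D36302 (iv D34635) D34634
def n36303 : Q := act 5 n34635
theorem D36303 : act 5 n34635 = n36303 := rfl
theorem F167936 : act 3 n36303 = n34640 := d25_1 D36303 (iv D34640) (iv F160377)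
theorem F167937 : act 4 n36303 = n36303 := d30_1 D36303 (iv D36303) F160378 F152251 (iv F160378)
theorem F167938 : act 7 n36303 = n34636 := d36_2 (iv F160379) D36303 (iv D34636)
def n36304 : Q := act 9 n34635
theorem D36304 : act 9 n34635 = n36304 := rfl
theorem F167939 : act 3 n36304 = n34641 := d29_1 D36304 (iv D34641) (iv F160377)
theorem F167940 : act 4 n36304 = n34690 := d34_1 D36304 (iv D34690) (iv F160378)
theorem F167941 : act 7 n36304 = n34637 := d43_1 D36304 (iv D34637) (iv F160379)
def n36305 : Q := act 6 n34636
theorem D36305 : act 6 n34636 = n36305 := rfl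
theorem F167942 : act 3 n36305 = n34642 := d26_1 D36305 (iv D34642) (iv F160380)
theorem F167943 : act 4 n36305 = n36305 := d31_1 D36305 (iv D36305) F160381
def n36306 : Q := act 8 n34638
theorem D36306 : act 8 n34638 = n36306 := rfl
theorem F167944 : act 2 n36306 = n34644 := d22_1 D36306 (iv D34644) (iv F160384)
def n36307 : Q := act 5 n34639
theorem D36307 : act 5 n34639 = n36307 := rfl
theorem F167945 : act 2 n36307 = n34645 := d19_1 D36307 (iv D34645) (iv F160385)
def n36308 : Q := act 9 n34639
theorem D36308 : act 9 n34639 = n36308 := rfl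
theorem F167946 : act 2 n36308 = n34646 := d23_1 D36308 (iv D34646) (iv F160385)
theorem F167947 : act 4 n36308 = n34643 := d34_1 D36308 (iv D34643) (iv F160386)
theorem F167948 : act 6 n36308 = n34641 := d41_1 D36308 (iv D34641) (iv F160387)
def n36309 : Q := act 6 n34640
theorem D36309 : act 6 n34640 = n36309 := rfl
theorem F167949 : act 2 n36309 = n34647 := d20_1 D36309 (iv D34647) (iv F160388)
theorem F167950 : act 4 n36309 = n34651 := d31_1 D36309 (iv D34651) (iv F160389)
def n36310 : Q := act 7 n34642
theorem D36310 : act 7 n34642 = n36310 := rfl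
theorem F167951 : act 2 n36310 = n34648 := d21_1 D36310 (iv D34648) (iv F160394)
theorem F167952 : act 4 n36310 = n34652 := d32_1 D36310 (iv D34652) (iv F160395)
def n36311 : Q := act 5 n34644
theorem D36311 : act 5 n34644 = n36311 := rfl
theorem F167953 : act 8 n36311 = n34645 := d37_2 D34644 D36311 (iv D34645) (iv D32787) D32786
def n36312 : Q := act 9 n34644
theorem D36312 : act 9 n34644 = n36312 := rfl
def n36313 : Q := act 6 n34645
theorem D36313 : act 6 n34645 = n36313 := rfl
theorem F167954 : act 5 n36313 = n34647 := d35_1 D36313 (iv D34647) (iv D32788) (iv F152030) D34645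
def n36314 : Q := act 9 n34645
theorem D36314 : act 9 n34645 = n36314 := rfl
theorem F167955 : act 5 n36314 = n34646 := d38_1 D36314 (iv D34646) D34645
def n36315 : Q := act 7 n34647
theorem D36315 : act 7 n34647 = n36315 := rfl
theorem F167956 : act 4 n36315 = n34653 := d32_1 D36315 (iv D34653) (iv F160401)
theorem F167957 : act 6 n36315 = n34648 := d39_1 D36315 (iv D34648) (iv D32790) (iv F152032) D34647
def n36316 : Q := act 7 n34651
theorem D36316 : act 7 n34651 = n36316 := rfl
theorem F167958 : act 2 n36316 = n34653 := d21_1 D36316 (iv D34653) (iv F160409)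
theorem F167959 : act 3 n36316 = n36316 := d27_1 D36316 (iv D36316) F160410
theorem F167960 : act 6 n36316 = n34652 := d39_1 D36316 (iv D34652) (iv D32797) (iv F152056) D34651
def n36317 : Q := act 6 n34655
theorem D36317 : act 6 n34655 = n36317 := rfl
theorem F167961 : act 3 n36317 = n34656 := d26_1 D36317 (iv D34656) (iv F160420)
theorem F167962 : act 7 n36317 = n34679 := d39_2 D34655 D36317 (iv D34679) (iv D32840) (iv F152082)
theorem F167963 : act 9 n36317 = n34666 := d41_2 (iv F160422) D36317 (iv D34666)
def n36318 : Q := act 5 n34656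
theorem D36318 : act 5 n34656 = n36318 := rfl
theorem F167964 : act 2 n36318 = n34659 := d19_1 D36318 (iv D34659) (iv F160423)
theorem F167965 : act 6 n36318 = n36318 := d35_2 D34656 D36318 (iv D36318) (iv D34656) F152086
theorem F167966 : act 7 n36318 = n34680 := d36_2 (iv F160425) D36318 (iv D34680)
theorem F167967 : act 9 n36318 = n34668 := d38_2 (iv F160426) D36318 (iv D34668)
def n36319 : Q := act 5 n34657
theorem D36319 : act 5 n34657 = n36319 := rfl
theorem F167968 : act 2 n36319 = n34661 := d19_1 D36319 (iv D34661) (iv F160427)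
theorem F167969 : act 6 n36319 = n36319 := d35_2 (iv F160428) D36319 (iv D36319) F160428 F152092
theorem F167970 : act 7 n36319 = n34681 := d36_2 (iv F160429) D36319 (iv D34681)
def n36320 : Q := act 9 n34657
theorem D36320 : act 9 n34657 = n36320 := rfl
theorem F167971 : act 1 n36320 = n34674 := d16_1 D36320 (iv F167349) F167344
theorem F167972 : act 2 n36320 = n34662 := d23_1 D36320 (iv D34662) (iv F160427)
theorem F167973 : act 4 n36320 = n34748 := d34_1 D36320 (iv F167337) F167333
theorem F167974 : act 6 n36320 = n34658 := d41_1 D36320 (iv D34658) (iv F160428)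
theorem F167975 : act 7 n36320 = n34682 := d43_1 D36320 (iv D34682) (iv F160429)
theorem F167976 : act 8 n36320 = n34671 := d44_1 D36320 (iv D34671) (iv D32823) (iv F152090) D34657
def n36321 : Q := act 5 n34666
theorem D36321 : act 5 n34666 = n36321 := rfl
theorem F167977 : act 3 n36321 = n34668 := d25_1 D36321 (iv D34668) (iv F160469)
theorem F167978 : act 6 n36321 = n36321 := d35_2 D34666 D36321 (iv D36321) (iv D34666) F152135
theorem F167979 : act 7 n36321 = n34688 := d36_2 (iv F160470) D36321 (iv D34688)
def n36322 : Q := act 8 n34666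
theorem D36322 : act 8 n34666 = n36322 := rfl
theorem F167980 : act 3 n36322 = n34669 := d28_1 D36322 (iv D34669) (iv F160469)
theorem F167981 : act 6 n36322 = n34667 := d40_1 D36322 (iv D34667) D34666
theorem F167982 : act 7 n36322 = n34689 := d42_1 D36322 (iv D34689) (iv F160470)
def n36323 : Q := act 9 n34669
theorem D36323 : act 9 n34669 = n36323 := rfl
theorem F167983 : act 1 n36323 = n34673 := d16_1 D36323 (iv F161123) F161118
theorem F167984 : act 2 n36323 = n34672 := d23_1 D36323 (iv D34672) (iv F160476)
theorem F167985 : act 4 n36323 = n34671 := d34_1 D36323 (iv D34671) (iv F160477)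
theorem F167986 : act 6 n36323 = n34670 := d41_1 D36323 (iv D34670) (iv F160478)
theorem F167987 : act 7 n36323 = n34693 := d43_1 D36323 (iv D34693) (iv F160479)
theorem F167988 : act 8 n36323 = n34748 := d44_1 D36323 (iv F167337) F167336 F160426 D34669
def n36324 : Q := act 5 n34673
theorem D36324 : act 5 n34673 = n36324 := rfl
theorem F167989 : act 2 n36324 = n34675 := d19_1 D36324 (iv D34675) (iv F160496)
theorem F167990 : act 6 n36324 = n34695 := d35_2 D34673 D36324 (iv D34695) (iv D32867) (iv F152183)
def n36325 : Q := act 5 n34674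
theorem D36325 : act 5 n34674 = n36325 := rfl
theorem F167991 : act 2 n36325 = n34676 := d19_1 D36325 (iv D34676) (iv F160499)
theorem F167992 : act 6 n36325 = n36325 := d35_2 (iv F160501) D36325 (iv D36325) F160501 F152188
def n36326 : Q := act 5 n34679
theorem D36326 : act 5 n34679 = n36326 := rfl
theorem F167993 : act 3 n36326 = n34680 := d25_1 D36326 (iv D34680) (iv F160514)
theorem F167994 : act 6 n36326 = n34699 := d35_2 D34679 D36326 (iv D34699) (iv D32872) (iv F152210)
theorem F167995 : act 9 n36326 = n34688 := d38_2 (iv F160515) D36326 (iv D34688)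
def n36327 : Q := act 9 n34681
theorem D36327 : act 9 n34681 = n36327 := rfl
theorem F167996 : act 2 n36327 = n34686 := d23_1 D36327 (iv D34686) (iv F160519)
theorem F167997 : act 5 n36327 = n34682 := d38_1 D36327 (iv D34682) D34681
theorem F167998 : act 6 n36327 = n34720 := d41_1 D36327 (iv D34720) (iv F160520)
def n36328 : Q := act 2 n34687
theorem D36328 : act 2 n34687 = n36328 := rfl
theorem F167999 : act 6 n36328 = n34702 := d20_2 (iv F160542) D36328 F160588
theorem F168000 : act 9 n36328 = n34691 := d23_2 (iv F160543) D36328 F160551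
def n36329 : Q := act 4 n34688
theorem D36329 : act 4 n34688 = n36329 := rfl
theorem F168001 : act 6 n36329 = n34700 := d31_2 (iv F160545) D36329 (iv D34700)
def n36330 : Q := act 8 n34688
theorem D36330 : act 8 n34688 = n36330 := rfl
theorem F168002 : act 3 n36330 = n34691 := d28_1 D36330 (iv D34691) (iv F160544)
theorem F168003 : act 6 n36330 = n34701 := d40_1 D36330 (iv D34701) (iv F160545)
def n36331 : Q := act 5 n34689
theorem D36331 : act 5 n34689 = n36331 := rfl
theorem F168004 : act 3 n36331 = n34692 := d25_1 D36331 (iv D34692) (iv F160546)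
theorem F168005 : act 6 n36331 = n36331 := d35_2 (iv F160547) D36331 (iv D36331) F160547 F152251
def n36332 : Q := act 9 n34689
theorem D36332 : act 9 n34689 = n36332 := rfl
theorem F168006 : act 3 n36332 = n34693 := d29_1 D36332 (iv D34693) (iv F160546)
theorem F168007 : act 6 n36332 = n34690 := d41_1 D36332 (iv D34690) (iv F160547)
def n36333 : Q := act 9 n34692
theorem D36333 : act 9 n34692 = n36333 := rfl
theorem F168008 : act 2 n36333 = n34694 := d23_1 D36333 (iv D34694) (iv F160553)
theorem F168009 : act 5 n36333 = n34693 := d38_1 D36333 (iv D34693) D34692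
theorem F168010 : act 6 n36333 = n36333 := d41_1 D36333 (iv D36333) F160554
def n36334 : Q := act 4 n34699
theorem D36334 : act 4 n34699 = n36334 := rfl
theorem F168011 : act 7 n36334 = n36334 := d32_2 F160582 D36334 (iv D36334)
theorem F168012 : act 9 n36334 = n34700 := d34_2 (iv F160583) D36334 (iv D34700)
def n36335 : Q := act 8 n34700
theorem D36335 : act 8 n34700 = n36335 := rfl
theorem F168013 : act 4 n36335 = n34701 := d33_1 D36335 (iv D34701) D34700
theorem F168014 : act 7 n36335 = n36335 := d42_1 D36335 (iv D36335) F160584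
def n36336 : Q := act 9 n34701
theorem D36336 : act 9 n34701 = n36336 := rfl
theorem F168015 : act 2 n36336 = n34719 := d23_1 D36336 F167620 F167616
theorem F168016 : act 3 n36336 = n34702 := d29_1 D36336 (iv D34702) (iv F160585)
theorem F168017 : act 5 n36336 = n36336 := d38_1 D36336 (iv D36336) F160586
theorem F168018 : act 7 n36336 = n36336 := d43_1 D36336 (iv D36336) F160587
def n36337 : Q := act 5 n34703
theorem D36337 : act 5 n34703 = n36337 := rfl
theorem F168019 : act 1 n36337 = n34711 := d12_1 D36337 (iv D34711) (iv F160591)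
theorem F168020 : act 3 n36337 = n36337 := d25_1 D36337 (iv D36337) F160592
theorem F168021 : act 7 n36337 = n36337 := d36_2 F160595 D36337 (iv D36337)
def n36338 : Q := act 6 n34704
theorem D36338 : act 6 n34704 = n36338 := rfl
theorem F168022 : act 1 n36338 = n34713 := d13_1 D36338 (iv D34713) (iv F160596)
theorem F168023 : act 3 n36338 = n36338 := d26_1 D36338 (iv D36338) F160597
def n36339 : Q := act 7 n34705
theorem D36339 : act 7 n34705 = n36339 := rfl
theorem F168024 : act 1 n36339 = n34715 := d14_1 D36339 (iv D34715) (iv F160599)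
theorem F168025 : act 3 n36339 = n36339 := d27_1 D36339 (iv D36339) F160600
theorem F168026 : act 5 n36339 = n36339 := d36_1 D36339 (iv D36339) F160601
def n36340 : Q := act 4 n34706
theorem D36340 : act 4 n34706 = n36340 := rfl
theorem F168027 : act 1 n36340 = n34717 := d11_1 D36340 (iv D34717) (iv F160602)
theorem F168028 : act 7 n36340 = n36340 := d32_2 F160604 D36340 (iv D36340)
def n36341 : Q := act 3 n34707
theorem D36341 : act 3 n34707 = n36341 := rfl
theorem F168029 : act 1 n36341 = n34719 := d10_1 D36341 (iv D34719) (iv F160605)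
theorem F168030 : act 5 n36341 = n36341 := d25_2 F160607 D36341 (iv D36341)
theorem F168031 : act 7 n36341 = n36341 := d27_2 F160608 D36341 (iv D36341)
def n36342 : Q := act 4 n34708
theorem D36342 : act 4 n34708 = n36342 := rfl
theorem F168032 : act 2 n36342 = n34717 := d18_1 D36342 (iv D34717) (iv F160609)
theorem F168033 : act 7 n36342 = n36342 := d32_2 F160611 D36342 (iv D36342)
def n36343 : Q := act 9 n34708
theorem D36343 : act 9 n34708 = n36343 := rfl
theorem F168034 : act 2 n36343 = n34718 := d23_1 D36343 (iv D34718) (iv F160609)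
theorem F168035 : act 3 n36343 = n34720 := d29_1 D36343 (iv D34720) (iv F160610)
theorem F168036 : act 5 n36343 = n34709 := d38_1 D36343 (iv D34709) D34708
theorem F168037 : act 7 n36343 = n36343 := d43_1 D36343 (iv D36343) F160611
def n36344 : Q := act 5 n34710
theorem D36344 : act 5 n34710 = n36344 := rfl
theorem F168038 : act 3 n36344 = n36344 := d25_1 D36344 (iv D36344) F160617
theorem F168039 : act 7 n36344 = n36344 := d36_2 F160618 D36344 (iv D36344)
theorem F168040 : act 8 n36344 = n34711 := d37_2 D34710 D36344 (iv D34711) (iv D32887) D32886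
def n36345 : Q := act 4 n34711
theorem D36345 : act 4 n34711 = n36345 := rfl
theorem F168041 : act 5 n36345 = n34717 := d30_2 D34711 D36345 (iv D34717) (iv D32892) (iv F152371)
theorem F168042 : act 7 n36345 = n36345 := d32_2 F160620 D36345 (iv D36345)
def n36346 : Q := act 6 n34711
theorem D36346 : act 6 n34711 = n36346 := rfl
theorem F168043 : act 3 n36346 = n36346 := d26_1 D36346 (iv D36346) F160619
theorem F168044 : act 5 n36346 = n34713 := d35_1 D36346 (iv D34713) (iv D32888) (iv F152372) D34711
def n36347 : Q := act 9 n34711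
theorem D36347 : act 9 n34711 = n36347 := rfl
theorem F168045 : act 3 n36347 = n36347 := d29_1 D36347 (iv D36347) F160619
theorem F168046 : act 5 n36347 = n34712 := d38_1 D36347 (iv D34712) D34711
theorem F168047 : act 7 n36347 = n36347 := d43_1 D36347 (iv D36347) F160620
def n36348 : Q := act 7 n34713
theorem D36348 : act 7 n34713 = n36348 := rfl
theorem F168048 : act 3 n36348 = n36348 := d27_1 D36348 (iv D36348) F160626
theorem F168049 : act 6 n36348 = n34715 := d39_1 D36348 (iv D34715) (iv D32890) (iv F152375) D34713
def n36349 : Q := act 9 n34713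
theorem D36349 : act 9 n34713 = n36349 := rfl
theorem F168050 : act 3 n36349 = n36349 := d29_1 D36349 (iv D36349) F160626
theorem F168051 : act 6 n36349 = n34714 := d41_1 D36349 (iv D34714) D34713
def n36350 : Q := act 9 n34715
theorem D36350 : act 9 n34715 = n36350 := rfl
theorem F168052 : act 3 n36350 = n36350 := d29_1 D36350 (iv D36350) F160630
theorem F168053 : act 5 n36350 = n36350 := d38_1 D36350 (iv D36350) F160631
theorem F168054 : act 7 n36350 = n34716 := d43_1 D36350 (iv D34716) D34715
def n36351 : Q := act 3 n34717
theorem D36351 : act 3 n34717 = n36351 := rfl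
theorem F168055 : act 4 n36351 = n34719 := d24_2 D34717 D36351 (iv D34719) (iv D32894) (iv F152384)
theorem F168056 : act 7 n36351 = n36351 := d27_2 F160635 D36351 (iv D36351)
def n36352 : Q := act 9 n34717
theorem D36352 : act 9 n34717 = n36352 := rfl
theorem F168057 : act 4 n36352 = n34718 := d34_1 D36352 (iv D34718) D34717
theorem F168058 : act 7 n36352 = n36352 := d43_1 D36352 (iv D36352) F160635
def n36353 : Q := act 5 n34721
theorem D36353 : act 5 n34721 = n36353 := rfl
theorem F168059 : act 2 n36353 = n34728 := d19_1 D36353 (iv D34728) (iv F160644)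
theorem F168060 : act 3 n36353 = n36353 := d25_1 D36353 (iv D36353) F160645
theorem F168061 : act 7 n36353 = n36353 := d36_2 F160647 D36353 (iv D36353)
def n36354 : Q := act 9 n34721
theorem D36354 : act 9 n34721 = n36354 := rfl
theorem F168062 : act 2 n36354 = n34729 := d23_1 D36354 (iv D34729) (iv F160644)
theorem F168063 : act 3 n36354 = n36354 := d29_1 D36354 (iv D36354) F160645
theorem F168064 : act 6 n36354 = n34722 := d41_1 D36354 (iv D34722) (iv F160646)
theorem F168065 : act 7 n36354 = n36354 := d43_1 D36354 (iv D36354) F160647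
theorem F168066 : act 8 n36354 = n36354 := d44_1 D36354 (iv D36354) (iv D34721) F152432 D34721
def n36355 : Q := act 5 n34723
theorem D36355 : act 5 n34723 = n36355 := rfl
theorem F168067 : act 3 n36355 = n36355 := d25_1 D36355 (iv D36355) F160652
theorem F168068 : act 7 n36355 = n36355 := d36_2 F160655 D36355 (iv D36355)
def n36356 : Q := act 9 n34723
theorem D36356 : act 9 n34723 = n36356 := rfl
theorem F168069 : act 3 n36356 = n36356 := d29_1 D36356 (iv D36356) F160652
theorem F168070 : act 4 n36356 = n34729 := d34_1 D36356 (iv D34729) (iv F160653)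
theorem F168071 : act 6 n36356 = n34725 := d41_1 D36356 (iv D34725) (iv F160654)
theorem F168072 : act 7 n36356 = n36356 := d43_1 D36356 (iv D36356) F160655
theorem F168073 : act 8 n36356 = n36356 := d44_1 D36356 (iv D36356) (iv D34723) F152443 D34723
def n36357 : Q := act 6 n34724
theorem D36357 : act 6 n34724 = n36357 := rfl
theorem F168074 : act 3 n36357 = n36357 := d26_1 D36357 (iv D36357) F160656
theorem F168075 : act 8 n36357 = n34732 := d40_2 (iv F160658) D36357 (iv D34732)
def n36358 : Q := act 9 n34724
theorem D36358 : act 9 n34724 = n36358 := rfl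
theorem F168076 : act 3 n36358 = n36358 := d29_1 D36358 (iv D36358) F160656
theorem F168077 : act 5 n36358 = n34725 := d38_1 D36358 (iv D34725) D34724
theorem F168078 : act 7 n36358 = n34727 := d43_1 D36358 (iv D34727) (iv F160657)
def n36359 : Q := act 7 n34726
theorem D36359 : act 7 n34726 = n36359 := rfl
theorem F168079 : act 3 n36359 = n36359 := d27_1 D36359 (iv D36359) F160663
theorem F168080 : act 5 n36359 = n36359 := d36_1 D36359 (iv D36359) F160664
theorem F168081 : act 8 n36359 = n34734 := d42_2 (iv F160665) D36359 (iv D34734)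
def n36360 : Q := act 9 n34726
theorem D36360 : act 9 n34726 = n36360 := rfl
theorem F168082 : act 3 n36360 = n36360 := d29_1 D36360 (iv D36360) F160663
theorem F168083 : act 5 n36360 = n36360 := d38_1 D36360 (iv D36360) F160664
theorem F168084 : act 6 n36360 = n34727 := d41_1 D36360 (iv D34727) D34726
def n36361 : Q := act 8 n34727
theorem D36361 : act 8 n34727 = n36361 := rfl
theorem F168085 : act 3 n36361 = n36361 := d28_1 D36361 (iv D36361) F160666
theorem F168086 : act 5 n36361 = n36361 := d37_1 D36361 (iv D36361) F160667 F152452 (iv F160667)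
theorem F168087 : act 9 n36361 = n34735 := d44_2 D34727 D36361 (iv D34735) (iv D32918) (iv F152448)
def n36362 : Q := act 4 n34728
theorem D36362 : act 4 n34728 = n36362 := rfl
theorem F168088 : act 7 n36362 = n36362 := d32_2 F160669 D36362 (iv D36362)
def n36363 : Q := act 9 n34728
theorem D36363 : act 9 n34728 = n36363 := rfl
theorem F168089 : act 3 n36363 = n34731 := d29_1 D36363 (iv D34731) (iv F160668)
theorem F168090 : act 5 n36363 = n34729 := d38_1 D36363 (iv D34729) D34728
theorem F168091 : act 7 n36363 = n36363 := d43_1 D36363 (iv D36363) F160669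
def n36364 : Q := act 3 n34730
theorem D36364 : act 3 n34730 = n36364 := rfl
theorem F168092 : act 5 n36364 = n36364 := d25_2 F160675 D36364 (iv D36364)
theorem F168093 : act 7 n36364 = n36364 := d27_2 F160676 D36364 (iv D36364)
def n36365 : Q := act 9 n34730
theorem D36365 : act 9 n34730 = n36365 := rfl
theorem F168094 : act 2 n36365 = n36365 := d23_1 D36365 (iv D36365) F160674
theorem F168095 : act 4 n36365 = n34731 := d34_1 D36365 (iv D34731) D34730
theorem F168096 : act 5 n36365 = n36365 := d38_1 D36365 (iv D36365) F160675
theorem F168097 : act 7 n36365 = n36365 := d43_1 D36365 (iv D36365) F160676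
def n36366 : Q := act 8 n34731
theorem D36366 : act 8 n34731 = n36366 := rfl
theorem F168098 : act 2 n36366 = n36366 := d22_1 D36366 (iv D36366) F160677
theorem F168099 : act 5 n36366 = n36366 := d37_1 D36366 (iv D36366) F160678 F152465 (iv F160678)
theorem F168100 : act 7 n36366 = n36366 := d42_1 D36366 (iv D36366) F160679
def n36367 : Q := act 7 n34732
theorem D36367 : act 7 n34732 = n36367 := rfl
theorem F168101 : act 3 n36367 = n36367 := d27_1 D36367 (iv D36367) F160680
theorem F168102 : act 6 n36367 = n34734 := d39_1 D36367 (iv D34734) (iv D32917) (iv F152467) D34732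
def n36368 : Q := act 9 n34732
theorem D36368 : act 9 n34732 = n36368 := rfl
theorem F168103 : act 3 n36368 = n36368 := d29_1 D36368 (iv D36368) F160680
theorem F168104 : act 6 n36368 = n34733 := d41_1 D36368 (iv D34733) D34732
def n36369 : Q := act 8 n34733
theorem D36369 : act 8 n34733 = n36369 := rfl
theorem F168105 : act 3 n36369 = n36369 := d28_1 D36369 (iv D36369) F160681
theorem F168106 : act 5 n36369 = n36369 := d37_1 D36369 (iv D36369) F160682 F152471 (iv F160682)
theorem F168107 : act 7 n36369 = n34735 := d42_1 D36369 (iv D34735) (iv F160683)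
def n36370 : Q := act 6 n34737
theorem D36370 : act 6 n34737 = n36370 := rfl
theorem F168108 : act 1 n36370 = n34738 := d13_1 D36370 (iv D34738) (iv F160693)
theorem F168109 : act 2 n36370 = n36370 := d20_1 D36370 (iv D36370) F160694
def n36371 : Q := act 6 n34747
theorem D36371 : act 6 n34747 = n36371 := rfl
theorem F168110 : act 0 n36371 = n34748 := d5_1 D36371 (iv D34748) (iv F160743)
theorem F168111 : act 2 n36371 = n34759 := d20_1 D36371 (iv D34759) (iv F160744)
def n36372 : Q := act 8 n34751
theorem D36372 : act 8 n34751 = n36372 := rfl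
theorem F168112 : act 0 n36372 = n36372 := d7_1 D36372 (iv D36372) F160764
theorem F168113 : act 2 n36372 = n34772 := d22_1 D36372 F160911 (iv F160765)
theorem F168114 : act 3 n36372 = n34774 := d28_1 D36372 F160923 (iv F160766)
theorem F168115 : act 4 n36372 = n34769 := d33_1 D36372 F160892 (iv F160767)
theorem F168116 : act 5 n36372 = n34776 := d37_1 D36372 F160934 F152923 (iv F152651) (iv F160768)
theorem F168117 : act 6 n36372 = n36372 := d40_1 D36372 (iv D36372) F160769
theorem F168118 : act 7 n36372 = n34765 := d42_1 D36372 (iv D34765) (iv F160770)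
theorem F168119 : act 9 n36372 = n34780 := d44_2 D34751 D36372 (iv D34780) (iv D33007) (iv F152644)
def n36373 : Q := act 8 n34754
theorem D36373 : act 8 n34754 = n36373 := rfl
theorem F168120 : act 0 n36373 = n36373 := d7_1 D36373 (iv D36373) F160787
theorem F168121 : act 2 n36373 = n34776 := d22_1 D36373 F160934 (iv F160788)
theorem F168122 : act 3 n36373 = n34783 := d28_1 D36373 (iv D34783) (iv F160789)
theorem F168123 : act 4 n36373 = n34771 := d33_1 D36373 F160906 (iv F160790)
theorem F168124 : act 5 n36373 = n34772 := d37_1 D36373 F160911 F152868 (iv F152693) (iv F160791)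
theorem F168125 : act 6 n36373 = n34766 := d40_1 D36373 (iv D34766) (iv F160792)
theorem F168126 : act 7 n36373 = n34780 := d42_1 D36373 (iv D34780) (iv F160793)
theorem F168127 : act 9 n36373 = n34765 := d44_2 D34754 D36373 (iv D34765) (iv D32975) (iv F152685)
def n36374 : Q := act 3 n34757
theorem D36374 : act 3 n34757 = n36374 := rfl
theorem F168128 : act 0 n36374 = n36374 := d2_1 D36374 (iv D36374) F160810
theorem F168129 : act 4 n36374 = n34773 := d24_2 D34757 D36374 F160914 (iv F160805) F160804
theorem F168130 : act 5 n36374 = n34765 := d25_2 (iv F160812) D36374 F160867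
theorem F168131 : act 6 n36374 = n36374 := d26_2 F160813 D36374 (iv D36374)
theorem F168132 : act 7 n36374 = n34776 := d27_2 (iv F160814) D36374 (iv D34776)
theorem F168133 : act 8 n36374 = n34758 := d28_2 (iv F160815) D36374 F160818
theorem F168134 : act 2 n34780 = n36374 := d45_0 (iv D36374) (iv D34757) (iv D32966) F143775 F121326 (iv D21485) F75900 (iv F76111) D21557 F96646 F76397 D21635 (iv F121411) F121407 F96401 F75953 F75954 F59626 (iv D10163) (iv F47118) F47116 (iv F47228) F47229 D10214 F47374 D13123 F59959 (iv F76435) F76436 (iv F97034) (iv F121795) D31081 (iv F152830) F152831 (iv F152845) F152846 F144377 (iv F144298) F144299 F122736 (iv D21755) F76768 F135194 (iv F96266) F96267 F96268 (iv F96365) (iv D21494) F75925 (iv F76141) (iv F96685) F96686 D21645 F97044 F97045 (iv F122153) (iv F143870) F143871 (iv F152792) (iv F160792) F160793 D34780 F160952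
theorem F168135 : act 9 n36374 = n34772 := d23_2 F168119 F168134 (iv F168113)
def n36375 : Q := act 9 n34757
theorem D36375 : act 9 n34757 = n36375 := rfl
theorem F168136 : act 0 n36375 = n36375 := d8_1 D36375 (iv D36375) F160810
theorem F168137 : act 2 n36375 = n34779 := d23_1 D36375 (iv D34779) (iv F160811)
theorem F168138 : act 3 n36375 = n34772 := d29_1 D36375 (iv F168135) (iv D36374)
theorem F168139 : act 4 n36375 = n34758 := d34_1 D36375 (iv D34758) D34757
theorem F168140 : act 5 n36375 = n34783 := d38_1 D36375 F160966 (iv F160812)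
theorem F168141 : act 6 n36375 = n36375 := d41_1 D36375 (iv D36375) F160813
theorem F168142 : act 7 n36375 = n34777 := d43_1 D36375 (iv D34777) (iv F160814)
theorem F168143 : act 8 n36375 = n34773 := d44_1 D36375 (iv D34773) (iv F160808) F160809 (iv F160815)
def n36376 : Q := act 8 n34768
theorem D36376 : act 8 n34768 = n36376 := rfl
theorem F168144 : act 0 n36376 = n36376 := d7_1 D36376 (iv D36376) F160880
theorem F168145 : act 2 n36376 = n34770 := d22_1 D36376 (iv D34770) (iv F160881)
theorem F168146 : act 3 n36376 = n34780 := d28_1 D36376 (iv D34780) (iv F160882)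
theorem F168147 : act 4 n36376 = n34775 := d33_1 D36376 F160930 (iv F160883)
theorem F168148 : act 5 n36376 = n34777 := d37_1 D36376 F160941 F152981 (iv F152831) D34768
theorem F168149 : act 6 n36376 = n36376 := d40_1 D36376 (iv D36376) F160884
theorem F168150 : act 7 n36376 = n34783 := d42_1 D36376 (iv D34783) (iv F160885)
theorem F168151 : act 9 n36376 = n34774 := d44_2 (iv F160886) D36376 F160923 (iv F160763) F160762
def n36377 : Q := act 7 n34786
theorem D36377 : act 7 n34786 = n36377 := rfl
theorem F168152 : act 0 n36377 = n35722 := d6_1 D36377 (iv D35722) (iv F160978)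
theorem F168153 : act 1 n36377 = n36260 := d14_1 D36377 F167838 (iv F160979)
theorem F168154 : act 2 n36377 = n34876 := d21_1 D36377 (iv D34876) (iv F160980)
theorem F168155 : act 3 n36377 = n34787 := d27_1 D36377 (iv D34787) D34786
theorem F168156 : act 4 n36377 = n34805 := d32_1 D36377 (iv D34805) (iv F160981)
theorem F168157 : act 5 n36377 = n35099 := d36_1 D36377 (iv D35099) (iv F160982)
theorem F168158 : act 8 n36377 = n36257 := d42_2 (iv F160984) D36377 (iv D36257)
theorem F168159 : act 9 n36377 = n35973 := d43_2 (iv F160985) D36377 F166836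
def n36378 : Q := act 6 n34787
theorem D36378 : act 6 n34787 = n36378 := rfl
theorem F168160 : act 0 n36378 = n35723 := d5_1 D36378 (iv D35723) (iv F160986)
theorem F168161 : act 1 n36378 = n36262 := d13_1 D36378 F167843 (iv F160987)
theorem F168162 : act 2 n36378 = n34789 := d20_1 D36378 (iv D34789) (iv F160988)
theorem F168163 : act 4 n36378 = n34788 := d31_1 D36378 (iv D34788) (iv F160989)
theorem F168164 : act 7 n36378 = n36191 := d39_2 D34787 D36378 (iv D36191) (iv D34522) (iv F153133)
theorem F168165 : act 8 n36378 = n36258 := d40_2 (iv F160991) D36378 (iv D36258)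
theorem F168166 : act 9 n36378 = n36273 := d41_2 (iv F160992) D36378 (iv D36273)
def n36379 : Q := act 5 n34789
theorem D36379 : act 5 n34789 = n36379 := rfl
theorem F168167 : act 0 n36379 = n35724 := d4_1 D36379 (iv D35724) (iv F161001)
theorem F168168 : act 1 n36379 = n36238 := d12_1 D36379 (iv D36238) (iv F161002)
theorem F168169 : act 3 n36379 = n34882 := d25_1 D36379 (iv D34882) (iv F161003)
theorem F168170 : act 4 n36379 = n36188 := d30_1 D36379 (iv D36188) F160037 (iv F153158) (iv F161004)
theorem F168171 : act 6 n36379 = n35107 := d35_2 D34789 D36379 (iv D35107) (iv D33353) (iv F153147)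
theorem F168172 : act 7 n36379 = n36192 := d36_2 (iv F161005) D36379 (iv D36192)
theorem F168173 : act 9 n36379 = n36275 := d38_2 (iv F161006) D36379 (iv D36275)
def n36380 : Q := act 8 n34789
theorem D36380 : act 8 n34789 = n36380 := rfl
theorem F168174 : act 0 n36380 = n35725 := d7_1 D36380 (iv D35725) (iv F161001)
theorem F168175 : act 1 n36380 = n36187 := d15_1 D36380 F167628 (iv F161002)
theorem F168176 : act 2 n36380 = n36258 := d22_1 D36380 (iv F168165) F168162
theorem F168177 : act 3 n36380 = n34883 := d28_1 D36380 (iv D34883) (iv F161003)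
theorem F168178 : act 4 n36380 = n34793 := d33_1 D36380 (iv D34793) (iv F161004)
theorem F168179 : act 6 n36380 = n34790 := d40_1 D36380 (iv D34790) D34789
theorem F168180 : act 7 n36380 = n36193 := d42_1 D36380 (iv D36193) (iv F161005)
def n36381 : Q := act 5 n34790
theorem D36381 : act 5 n34790 = n36381 := rfl
theorem F168181 : act 0 n36381 = n35726 := d4_1 D36381 (iv D35726) (iv F161007)
theorem F168182 : act 1 n36381 = n35062 := d12_1 D36381 F162637 (iv F161008)
theorem F168183 : act 2 n36381 = n36219 := d19_1 D36381 F167721 (iv F161009)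
theorem F168184 : act 3 n36381 = n34884 := d25_1 D36381 (iv D34884) (iv F161010)
theorem F168185 : act 4 n36381 = n34796 := d30_1 D36381 (iv D34796) F153192 (iv F153165) (iv F161011)
theorem F168186 : act 7 n36381 = n34791 := d36_2 (iv F161012) D36381 (iv D34791)
theorem F168187 : act 8 n36381 = n35109 := d37_2 D34790 D36381 (iv D35109) (iv D33354) (iv F153147)
def n36382 : Q := act 9 n34790
theorem D36382 : act 9 n34790 = n36382 := rfl
theorem F168188 : act 0 n36382 = n35727 := d8_1 D36382 (iv D35727) (iv F161007)
theorem F168189 : act 1 n36382 = n36025 := d16_1 D36382 F167020 (iv F161008)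
theorem F168190 : act 2 n36382 = n36239 := d23_1 D36382 F167769 (iv F161009)
theorem F168191 : act 3 n36382 = n34885 := d29_1 D36382 (iv D34885) (iv F161010)
theorem F168192 : act 4 n36382 = n34794 := d34_1 D36382 (iv D34794) (iv F161011)
theorem F168193 : act 7 n36382 = n34792 := d43_1 D36382 (iv D34792) (iv F161012)
theorem F168194 : act 8 n36382 = n36196 := d44_1 D36382 F167661 F160108 (iv F153148) D34790
def n36383 : Q := act 6 n34791
theorem D36383 : act 6 n34791 = n36383 := rfl
theorem F168195 : act 0 n36383 = n35728 := d5_1 D36383 (iv D35728) (iv F161013)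
theorem F168196 : act 1 n36383 = n35006 := d13_1 D36383 F162330 (iv F161014)
theorem F168197 : act 2 n36383 = n35794 := d20_1 D36383 F166175 (iv F161015)
theorem F168198 : act 3 n36383 = n34886 := d26_1 D36383 (iv D34886) (iv F161016)
theorem F168199 : act 4 n36383 = n34798 := d31_1 D36383 (iv D34798) (iv F161017)
theorem F168200 : act 5 n36383 = n35760 := d35_1 D36383 F166051 F158359 (iv F153154) D34791
theorem F168201 : act 8 n36383 = n35111 := d40_2 (iv F161018) D36383 (iv D35111)
theorem F168202 : act 9 n35920 = n36383 := d34_0 F168199 (iv F161068) D35920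
def n36384 : Q := act 9 n34791
theorem D36384 : act 9 n34791 = n36384 := rfl
theorem F168203 : act 0 n36384 = n35729 := d8_1 D36384 (iv D35729) (iv F161013)
theorem F168204 : act 1 n36384 = n35054 := d16_1 D36384 F162591 (iv F161014)
theorem F168205 : act 2 n36384 = n36208 := d23_1 D36384 F167691 (iv F161015)
theorem F168206 : act 3 n36384 = n34887 := d29_1 D36384 (iv D34887) (iv F161016)
theorem F168207 : act 4 n36384 = n34799 := d34_1 D36384 (iv D34799) (iv F161017)
theorem F168208 : act 5 n36384 = n34792 := d38_1 D36384 (iv D34792) D34791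
theorem F168209 : act 6 n36384 = n35920 := d41_1 D36384 F168202 (iv D36383)
def n36385 : Q := act 9 n34793
theorem D36385 : act 9 n34793 = n36385 := rfl
theorem F168210 : act 0 n36385 = n35730 := d8_1 D36385 (iv D35730) (iv F161026)
theorem F168211 : act 1 n36385 = n36026 := d16_1 D36385 F167025 (iv F161027)
theorem F168212 : act 2 n36385 = n36240 := d23_1 D36385 F167774 (iv F161028)
theorem F168213 : act 3 n36385 = n34795 := d29_1 D36385 (iv D34795) (iv F161029)
theorem F168214 : act 5 n36385 = n36264 := d38_1 D36385 (iv D36264) (iv F161030)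
theorem F168215 : act 6 n36385 = n34794 := d41_1 D36385 (iv D34794) (iv F161031)
theorem F168216 : act 7 n36385 = n36195 := d43_1 D36385 (iv D36195) (iv F161032)
theorem F168217 : act 8 n36385 = n36277 := d44_1 D36385 (iv D36277) (iv D34607) (iv F153160) D34793
def n36386 : Q := act 6 n34796
theorem D36386 : act 6 n34796 = n36386 := rfl
theorem F168218 : act 0 n36386 = n35731 := d5_1 D36386 (iv D35731) (iv F161048)
theorem F168219 : act 1 n36386 = n35063 := d13_1 D36386 (iv D35063) (iv F161049)
theorem F168220 : act 2 n36386 = n36220 := d20_1 D36386 (iv D36220) (iv F161050)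
theorem F168221 : act 3 n36386 = n34800 := d26_1 D36386 (iv D34800) (iv F161051)
theorem F168222 : act 5 n36386 = n35096 := d35_1 D36386 (iv D35096) F154894 (iv F153193) D34796
theorem F168223 : act 8 n36386 = n35133 := d40_2 (iv F161053) D36386 (iv D35133)
def n36387 : Q := act 9 n34796
theorem D36387 : act 9 n34796 = n36387 := rfl
theorem F168224 : act 0 n36387 = n35732 := d8_1 D36387 (iv D35732) (iv F161048)
theorem F168225 : act 1 n36387 = n35055 := d16_1 D36387 F162596 (iv F161049)
theorem F168226 : act 2 n36387 = n36209 := d23_1 D36387 F167695 (iv F161050)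
theorem F168227 : act 3 n36387 = n34801 := d29_1 D36387 (iv D34801) (iv F161051)
theorem F168228 : act 5 n36387 = n34797 := d38_1 D36387 (iv D34797) D34796
theorem F168229 : act 7 n36387 = n34799 := d43_1 D36387 (iv D34799) (iv F161052)
def n36388 : Q := act 7 n34798
theorem D36388 : act 7 n34798 = n36388 := rfl
theorem F168230 : act 0 n36388 = n35733 := d6_1 D36388 (iv D35733) (iv F161062)
theorem F168231 : act 1 n36388 = n35007 := d14_1 D36388 (iv D35007) (iv F161063)
theorem F168232 : act 2 n36388 = n35795 := d21_1 D36388 (iv D35795) (iv F161064)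
theorem F168233 : act 3 n36388 = n34802 := d27_1 D36388 (iv D34802) (iv F161065)
theorem F168234 : act 5 n36388 = n35005 := d36_1 D36388 (iv D35005) (iv F161066)
theorem F168235 : act 8 n36388 = n35135 := d42_2 (iv F161067) D36388 (iv D35135)
theorem F168236 : act 9 n36388 = n35921 := d43_2 F161068 D36388 (iv D35921)
def n36389 : Q := act 8 n34799
theorem D36389 : act 8 n34799 = n36389 := rfl
theorem F168237 : act 0 n36389 = n35602 := d7_1 D36389 F165292 (iv F161069)
theorem F168238 : act 1 n36389 = n35056 := d15_1 D36389 (iv D35056) (iv F161070)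
theorem F168239 : act 2 n36389 = n35981 := d22_1 D36389 F166866 (iv F161071)
theorem F168240 : act 3 n36389 = n34803 := d28_1 D36389 (iv D34803) (iv F161072)
theorem F168241 : act 5 n36389 = n36389 := d37_1 D36389 (iv D36389) F161073 F153206 (iv F161073)
theorem F168242 : act 6 n36389 = n35573 := d40_1 D36389 F165143 (iv F161074)
theorem F168243 : act 9 n36389 = n35137 := d44_2 D34799 D36389 (iv D35137) (iv D33380) (iv F153199)
def n36390 : Q := act 7 n34800
theorem D36390 : act 7 n34800 = n36390 := rfl
theorem F168244 : act 0 n36390 = n35734 := d6_1 D36390 (iv D35734) (iv F161075)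
theorem F168245 : act 1 n36390 = n35150 := d14_1 D36390 F163047 (iv F161076)
theorem F168246 : act 2 n36390 = n36390 := d21_1 D36390 (iv D36390) F161077
theorem F168247 : act 4 n36390 = n34913 := d32_1 D36390 (iv D34913) (iv F161078)
theorem F168248 : act 5 n36390 = n35173 := d36_1 D36390 F163185 (iv F161079)
theorem F168249 : act 6 n36390 = n34802 := d39_1 D36390 (iv D34802) (iv D33063) (iv F153218) D34800
theorem F168250 : act 8 n36390 = n35145 := d42_2 (iv F161080) D36390 (iv D35145)
theorem F168251 : act 9 n36370 = n36390 := d41_0 F168249 F161093 D36370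
def n36391 : Q := act 9 n34800
theorem D36391 : act 9 n34800 = n36391 := rfl
theorem F168252 : act 0 n36391 = n35735 := d8_1 D36391 (iv D35735) (iv F161075)
theorem F168253 : act 1 n36391 = n35192 := d16_1 D36391 F163294 (iv F161076)
theorem F168254 : act 2 n36391 = n36391 := d23_1 D36391 (iv D36391) F161077
theorem F168255 : act 4 n36391 = n34914 := d34_1 D36391 (iv D34914) (iv F161078)
theorem F168256 : act 5 n36391 = n35204 := d38_1 D36391 F163362 (iv F161079)
theorem F168257 : act 6 n36391 = n34801 := d41_1 D36391 (iv D34801) D34800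
theorem F168258 : act 7 n36391 = n36370 := d43_1 D36391 F168251 (iv D36390)
def n36392 : Q := act 8 n34801
theorem D36392 : act 8 n34801 = n36392 := rfl
theorem F168259 : act 0 n36392 = n35605 := d7_1 D36392 F165306 (iv F161081)
theorem F168260 : act 1 n36392 = n35193 := d15_1 D36392 (iv D35193) (iv F161082)
theorem F168261 : act 2 n36392 = n36392 := d22_1 D36392 (iv D36392) F161083
theorem F168262 : act 4 n36392 = n34915 := d33_1 D36392 (iv D34915) (iv F161084)
theorem F168263 : act 5 n36392 = n36392 := d37_1 D36392 (iv D36392) F161085 F153226 (iv F161085)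
theorem F168264 : act 7 n36392 = n34803 := d42_1 D36392 (iv D34803) (iv F161086)
theorem F168265 : act 9 n36392 = n35147 := d44_2 D34801 D36392 (iv D35147) (iv D33388) (iv F153219)
def n36393 : Q := act 6 n34805
theorem D36393 : act 6 n34805 = n36393 := rfl
theorem F168266 : act 0 n36393 = n35742 := d5_1 D36393 (iv D35742) (iv F161110)
theorem F168267 : act 1 n36393 = n36322 := d13_1 D36393 F167981 (iv F161111)
theorem F168268 : act 2 n36393 = n34928 := d20_1 D36393 (iv D34928) (iv F161112)
theorem F168269 : act 3 n36393 = n34806 := d26_1 D36393 (iv D34806) (iv F161113)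
theorem F168270 : act 7 n36393 = n36281 := d39_2 D34805 D36393 F167888 F160407 (iv F153252)
theorem F168271 : act 8 n36393 = n36272 := d40_2 (iv F161115) D36393 F167867
theorem F168272 : act 9 n36393 = n35974 := d41_2 (iv F161116) D36393 F166839
def n36394 : Q := act 5 n34806
theorem D36394 : act 5 n34806 = n36394 := rfl
theorem F168273 : act 0 n36394 = n35743 := d4_1 D36394 (iv D35743) (iv F161117)
theorem F168274 : act 1 n36394 = n34890 := d12_1 D36394 F161624 (iv F161118)
theorem F168275 : act 2 n36394 = n34807 := d19_1 D36394 (iv D34807) (iv F161119)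
theorem F168276 : act 4 n36394 = n34839 := d30_1 D36394 (iv D34839) F153479 (iv F153265) (iv F161120)
theorem F168277 : act 6 n36394 = n34810 := d35_2 D34806 D36394 (iv D34810) (iv D33074) (iv F153259)
theorem F168278 : act 7 n36394 = n36278 := d36_2 (iv F161121) D36394 F167881
theorem F168279 : act 9 n36394 = n36324 := d38_2 (iv F161123) D36394 (iv D36324)
theorem F168280 : act 8 n36203 = n36394 := d40_0 F168277 (iv F161155) (iv F167680)
def n36395 : Q := act 5 n34809
theorem D36395 : act 5 n34809 = n36395 := rfl
theorem F168281 : act 0 n36395 = n35748 := d4_1 D36395 (iv D35748) (iv F161141)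
theorem F168282 : act 1 n36395 = n34906 := d12_1 D36395 F161715 (iv F161142)
theorem F168283 : act 2 n36395 = n34942 := d19_1 D36395 (iv D34942) (iv F161143)
theorem F168284 : act 3 n36395 = n34810 := d25_1 D36395 (iv D34810) (iv F161144)
theorem F168285 : act 7 n36395 = n36395 := d36_2 F161146 D36395 (iv D36395)
theorem F168286 : act 9 n36395 = n35986 := d38_2 (iv F161148) D36395 (iv D35986)
theorem F168287 : act 8 n36341 = n36395 := d28_0 F168284 (iv F161155) D36341
def n36396 : Q := act 4 n34811
theorem D36396 : act 4 n34811 = n36396 := rfl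
theorem F168288 : act 0 n36396 = n35511 := d3_1 D36396 F164854 (iv F161156)
theorem F168289 : act 1 n36396 = n34813 := d11_1 D36396 (iv D34813) (iv F161157)
theorem F168290 : act 2 n36396 = n35350 := d18_1 D36396 F164154 (iv F161158)
theorem F168291 : act 5 n36396 = n35293 := d30_2 D34811 D36396 (iv D35293) (iv D33544) (iv F153323)
theorem F168292 : act 6 n36396 = n35462 := d31_2 (iv F161160) D36396 (iv D35462)
theorem F168293 : act 8 n36396 = n34887 := d33_2 (iv F161161) D36396 F161611
theorem F168294 : act 9 n36396 = n35504 := d34_2 (iv F161162) D36396 F164831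
def n36397 : Q := act 7 n34811
theorem D36397 : act 7 n34811 = n36397 := rfl
theorem F168295 : act 0 n36397 = n35513 := d6_1 D36397 F164862 (iv F161156)
theorem F168296 : act 1 n36397 = n34814 := d14_1 D36397 (iv D34814) (iv F161157)
theorem F168297 : act 2 n36397 = n35392 := d21_1 D36397 F164329 (iv F161158)
theorem F168298 : act 3 n36397 = n34915 := d27_1 D36397 F161763 (iv F161159)
theorem F168299 : act 5 n36397 = n34812 := d36_1 D36397 (iv D34812) D34811
theorem F168300 : act 8 n36397 = n34901 := d42_2 (iv F161161) D36397 F161694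
theorem F168301 : act 9 n36397 = n35393 := d43_2 (iv F161162) D36397 F164334
def n36398 : Q := act 3 n34813
theorem D36398 : act 3 n34813 = n36398 := rfl
theorem F168302 : act 0 n36398 = n34828 := d2_1 D36398 (iv D34828) (iv F161171)
theorem F168303 : act 2 n36398 = n35058 := d17_1 D36398 F162611 F156479 (iv F153340) (iv F161172)
theorem F168304 : act 4 n36398 = n35056 := d24_2 D34813 D36398 F162599 F155348 (iv F153328)
theorem F168305 : act 5 n36398 = n35295 := d25_2 (iv F161173) D36398 (iv D35295)
theorem F168306 : act 6 n36398 = n35464 := d26_2 (iv F161174) D36398 (iv D35464)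
theorem F168307 : act 9 n36398 = n35699 := d29_2 (iv F161175) D36398 (iv D35699)
theorem F168308 : act 8 n35054 = n36398 := d44_5 F168307 F165817 F162143 F162142 (iv F162591)
def n36399 : Q := act 7 n34813
theorem D36399 : act 7 n34813 = n36399 := rfl
theorem F168309 : act 0 n36399 = n34829 := d6_1 D36399 (iv D34829) (iv F161171)
theorem F168310 : act 2 n36399 = n34816 := d21_1 D36399 (iv D34816) (iv F161172)
theorem F168311 : act 4 n36399 = n34814 := d32_1 D36399 (iv D34814) D34813
theorem F168312 : act 5 n36399 = n35296 := d36_1 D36399 (iv D35296) (iv F161173)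
theorem F168313 : act 9 n36399 = n35534 := d43_2 (iv F161175) D36399 F164931
def n36400 : Q := act 8 n34813
theorem D36400 : act 8 n34813 = n36400 := rfl
theorem F168314 : act 0 n36400 = n34830 := d7_1 D36400 (iv D34830) (iv F161171)
theorem F168315 : act 1 n36400 = n34887 := d15_1 D36400 (iv F168293) F168289
theorem F168316 : act 2 n36400 = n34817 := d22_1 D36400 (iv D34817) (iv F161172)
theorem F168317 : act 3 n36400 = n35054 := d28_1 D36400 F168308 (iv D36398)
theorem F168318 : act 4 n36400 = n34815 := d33_1 D36400 (iv D34815) D34813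
theorem F168319 : act 5 n36400 = n34836 := d37_1 D36400 F161315 F163881 (iv D35297) (iv F161173)
theorem F168320 : act 6 n36400 = n35466 := d40_1 D36400 (iv D35466) (iv F161174)
theorem F168321 : act 9 n36400 = n34835 := d44_2 (iv F161175) D36400 F161309 (iv F156316) (iv F158004)
def n36401 : Q := act 6 n34814
theorem D36401 : act 6 n34814 = n36401 := rfl
theorem F168322 : act 0 n36401 = n34831 := d5_1 D36401 (iv D34831) (iv F161176)
theorem F168323 : act 2 n36401 = n34818 := d20_1 D36401 (iv D34818) (iv F161177)
theorem F168324 : act 3 n36401 = n35486 := d26_1 D36401 F164747 (iv F161178)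
theorem F168325 : act 5 n36401 = n35484 := d35_1 D36401 F164737 F156729 (iv F153335) (iv F161179)
theorem F168326 : act 7 n36401 = n35467 := d39_2 D34814 D36401 (iv D35467) (iv D33701) (iv F153329)
theorem F168327 : act 9 n36401 = n35483 := d41_2 (iv F161180) D36401 F164731
def n36402 : Q := act 8 n34814
theorem D36402 : act 8 n34814 = n36402 := rfl
theorem F168328 : act 0 n36402 = n34832 := d7_1 D36402 (iv D34832) (iv F161176)
theorem F168329 : act 1 n36402 = n34901 := d15_1 D36402 (iv F168300) F168296
theorem F168330 : act 2 n36402 = n34819 := d22_1 D36402 (iv D34819) (iv F161177)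
theorem F168331 : act 3 n36402 = n34851 := d28_1 D36402 F161406 (iv F161178)
theorem F168332 : act 5 n36402 = n34823 := d37_1 D36402 (iv D34823) F153387 (iv F153336) (iv F161179)
theorem F168333 : act 7 n36402 = n34815 := d42_1 D36402 (iv D34815) D34814
theorem F168334 : act 9 n36402 = n34844 := d44_2 (iv F161180) D36402 F161363 F156403 (iv F156900)
def n36403 : Q := act 6 n34816
theorem D36403 : act 6 n34816 = n36403 := rfl
theorem F168335 : act 0 n36403 = n34833 := d5_1 D36403 (iv D34833) (iv F161188)
theorem F168336 : act 1 n36403 = n35750 := d13_1 D36403 (iv D35750) (iv F161189)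
theorem F168337 : act 3 n36403 = n35420 := d26_1 D36403 (iv D35420) (iv F161190)
theorem F168338 : act 4 n36403 = n34818 := d31_1 D36403 (iv D34818) (iv F161191)
theorem F168339 : act 7 n36403 = n35469 := d39_2 D34816 D36403 (iv D35469) (iv D33703) (iv F153342)
theorem F168340 : act 9 n36403 = n35717 := d41_2 (iv F161193) D36403 (iv D35717)
def n36404 : Q := act 8 n34816
theorem D36404 : act 8 n34816 = n36404 := rfl
theorem F168341 : act 0 n36404 = n34834 := d7_1 D36404 (iv D34834) (iv F161188)
theorem F168342 : act 1 n36404 = n35751 := d15_1 D36404 (iv D35751) (iv F161189)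
theorem F168343 : act 3 n36404 = n35421 := d28_1 D36404 (iv D35421) (iv F161190)
theorem F168344 : act 4 n36404 = n34819 := d33_1 D36404 (iv D34819) (iv F161191)
theorem F168345 : act 5 n36404 = n36034 := d37_1 D36404 F167058 F163900 (iv D35301) (iv F161192)
theorem F168346 : act 7 n36404 = n34817 := d42_1 D36404 (iv D34817) D34816
def n36405 : Q := act 9 n34817
theorem D36405 : act 9 n34817 = n36405 := rfl
theorem F168347 : act 0 n36405 = n34836 := d8_1 D36405 (iv D34836) (iv F161194)
theorem F168348 : act 1 n36405 = n35752 := d16_1 D36405 (iv D35752) (iv F161195)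
theorem F168349 : act 2 n36405 = n34835 := d23_1 D36405 (iv F168321) F168316
theorem F168350 : act 3 n36405 = n35047 := d29_1 D36405 F162547 (iv F161196)
theorem F168351 : act 4 n36405 = n34820 := d34_1 D36405 (iv D34820) (iv F161197)
theorem F168352 : act 5 n36405 = n34830 := d38_1 D36405 F161283 (iv F161198)
theorem F168353 : act 6 n36405 = n35472 := d41_1 D36405 (iv D35472) (iv F161199)
theorem F168354 : act 8 n36405 = n35381 := d44_1 D36405 (iv F164284) F158025 (iv F153343) D34817
def n36406 : Q := act 8 n34818
theorem D36406 : act 8 n34818 = n36406 := rfl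
theorem F168355 : act 0 n36406 = n34837 := d7_1 D36406 (iv D34837) (iv F161200)
theorem F168356 : act 1 n36406 = n35753 := d15_1 D36406 (iv D35753) (iv F161201)
theorem F168357 : act 3 n36406 = n34821 := d28_1 D36406 (iv D34821) (iv F161202)
theorem F168358 : act 6 n36406 = n34819 := d40_1 D36406 (iv D34819) D34818
theorem F168359 : act 7 n36406 = n35473 := d42_1 D36406 (iv D35473) (iv F161204)
def n36407 : Q := act 9 n34819
theorem D36407 : act 9 n34819 = n36407 := rfl
theorem F168360 : act 0 n36407 = n34838 := d8_1 D36407 (iv D34838) (iv F161206)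
theorem F168361 : act 1 n36407 = n35754 := d16_1 D36407 (iv D35754) (iv F161207)
theorem F168362 : act 2 n36407 = n34844 := d23_1 D36407 (iv F168334) F168330
theorem F168363 : act 3 n36407 = n34822 := d29_1 D36407 (iv D34822) (iv F161208)
theorem F168364 : act 5 n36407 = n34825 := d38_1 D36407 (iv D34825) (iv F161209)
theorem F168365 : act 7 n36407 = n34820 := d43_1 D36407 (iv D34820) (iv F161210)
theorem F168366 : act 8 n36407 = n35394 := d44_1 D36407 F164340 F156940 (iv F153348) D34819
def n36408 : Q := act 5 n34821
theorem D36408 : act 5 n34821 = n36408 := rfl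
theorem F168367 : act 0 n36408 = n34839 := d4_1 D36408 (iv D34839) (iv F161218)
theorem F168368 : act 1 n36408 = n35755 := d12_1 D36408 (iv D35755) (iv F161219)
theorem F168369 : act 2 n36408 = n35544 := d19_1 D36408 (iv D35544) (iv F161220)
theorem F168370 : act 4 n36408 = n35743 := d30_1 D36408 (iv D35743) F158214 F156511 (iv F161221)
theorem F168371 : act 6 n36408 = n34826 := d35_2 (iv F161222) D36408 (iv D34826) F153421 (iv F153365)
theorem F168372 : act 7 n36408 = n35475 := d36_2 (iv F161223) D36408 (iv D35475)
theorem F168373 : act 8 n36408 = n35907 := d37_2 D34821 D36408 F166539 F158753 (iv F153358)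
def n36409 : Q := act 9 n34821
theorem D36409 : act 9 n34821 = n36409 := rfl
theorem F168374 : act 0 n36409 = n34840 := d8_1 D36409 (iv D34840) (iv F161218)
theorem F168375 : act 1 n36409 = n35756 := d16_1 D36409 (iv D35756) (iv F161219)
theorem F168376 : act 2 n36409 = n35190 := d23_1 D36409 F163282 (iv F161220)
theorem F168377 : act 4 n36409 = n35189 := d34_1 D36409 F163275 (iv F161221)
theorem F168378 : act 6 n36409 = n34822 := d41_1 D36409 (iv D34822) (iv F161222)
theorem F168379 : act 7 n36409 = n35476 := d43_1 D36409 (iv D35476) (iv F161223)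
theorem F168380 : act 8 n36409 = n35613 := d44_1 D36409 (iv D35613) F157351 (iv F153360) D34821
def n36410 : Q := act 5 n34824
theorem D36410 : act 5 n34824 = n36410 := rfl
theorem F168381 : act 0 n36410 = n34846 := d4_1 D36410 (iv D34846) (iv F161239)
theorem F168382 : act 1 n36410 = n35757 := d12_1 D36410 (iv D35757) (iv F161240)
theorem F168383 : act 2 n36410 = n35873 := d19_1 D36410 F166415 (iv F161241)
theorem F168384 : act 3 n36410 = n34826 := d25_1 D36410 (iv D34826) (iv F161242)
theorem F168385 : act 7 n36410 = n36410 := d36_2 F161245 D36410 (iv D36410)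
theorem F168386 : act 8 n36410 = n35864 := d37_2 D34824 D36410 F166393 F158613 (iv F153402)
def n36411 : Q := act 9 n34824
theorem D36411 : act 9 n34824 = n36411 := rfl
theorem F168387 : act 0 n36411 = n34847 := d8_1 D36411 (iv D34847) (iv F161239)
theorem F168388 : act 1 n36411 = n35758 := d16_1 D36411 (iv D35758) (iv F161240)
theorem F168389 : act 2 n36411 = n34843 := d23_1 D36411 F161358 (iv F161241)
theorem F168390 : act 3 n36411 = n34827 := d29_1 D36411 (iv D34827) (iv F161242)
theorem F168391 : act 4 n36411 = n34842 := d34_1 D36411 F161351 (iv F161243)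
theorem F168392 : act 6 n36411 = n34825 := d41_1 D36411 (iv D34825) (iv F161244)
theorem F168393 : act 7 n36411 = n36411 := d43_1 D36411 (iv D36411) F161245
theorem F168394 : act 8 n36411 = n34841 := d44_1 D36411 F161344 (iv D33205) (iv F153404) D34824
def n36412 : Q := act 9 n34826
theorem D36412 : act 9 n34826 = n36412 := rfl
theorem F168395 : act 0 n36412 = n34848 := d8_1 D36412 (iv D34848) (iv F161253)
theorem F168396 : act 1 n36412 = n35759 := d16_1 D36412 (iv D35759) (iv F161254)
theorem F168397 : act 2 n36412 = n35246 := d23_1 D36412 F163566 (iv F161255)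
theorem F168398 : act 4 n36412 = n35622 := d34_1 D36412 F165400 (iv F161256)
theorem F168399 : act 5 n36412 = n34827 := d38_1 D36412 (iv D34827) D34826
theorem F168400 : act 7 n36412 = n36412 := d43_1 D36412 (iv D36412) F161257
theorem F168401 : act 8 n36412 = n35656 := d44_1 D36412 (iv D35656) F157667 D34196 (iv F161258)
def n36413 : Q := act 7 n34828
theorem D36413 : act 7 n34828 = n36413 := rfl
theorem F168402 : act 1 n36413 = n36304 := d14_1 D36413 F167941 (iv F161266)
theorem F168403 : act 2 n36413 = n35933 := d21_1 D36413 F166643 (iv F161267)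
theorem F168404 : act 3 n36413 = n34829 := d27_1 D36413 (iv D34829) D34828
theorem F168405 : act 4 n36413 = n35931 := d32_1 D36413 F166633 (iv F161268)
theorem F168406 : act 5 n36413 = n35377 := d36_1 D36413 (iv D35377) (iv F161269)
theorem F168407 : act 8 n36413 = n35929 := d42_2 F161272 D36413 (iv D35929)
theorem F168408 : act 9 n36413 = n36190 := d43_2 (iv F161271) D36413 (iv D36190)
def n36414 : Q := act 6 n34829
theorem D36414 : act 6 n34829 = n36414 := rfl
theorem F168409 : act 1 n36414 = n36308 := d13_1 D36414 F167948 (iv F161273)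
theorem F168410 : act 2 n36414 = n34833 := d20_1 D36414 (iv D34833) (iv F161274)
theorem F168411 : act 4 n36414 = n34831 := d31_1 D36414 (iv D34831) (iv F161275)
theorem F168412 : act 7 n36414 = n36273 := d39_2 D34829 D36414 (iv D36273) (iv D34603) (iv F153440)
theorem F168413 : act 9 n36414 = n36191 := d41_2 (iv F161277) D36414 (iv D36191)
def n36415 : Q := act 8 n34829
theorem D36415 : act 8 n34829 = n36415 := rfl
theorem F168414 : act 1 n36415 = n36286 := d15_1 D36415 F167904 (iv F161273)
theorem F168415 : act 2 n36415 = n34834 := d22_1 D36415 (iv D34834) (iv F161274)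
theorem F168416 : act 3 n36415 = n35929 := d28_1 D36415 (iv F168407) F168404
theorem F168417 : act 4 n36415 = n34832 := d33_1 D36415 (iv D34832) (iv F161275)
theorem F168418 : act 7 n36415 = n34830 := d42_1 D36415 (iv D34830) D34829
theorem F168419 : act 9 n36415 = n36034 := d44_2 (iv F161277) D36415 F167058 F160324 (iv F160055)
def n36416 : Q := act 8 n34831
theorem D36416 : act 8 n34831 = n36416 := rfl
theorem F168420 : act 1 n36416 = n36288 := d15_1 D36416 F167911 (iv F161284)
theorem F168421 : act 2 n36416 = n34837 := d22_1 D36416 (iv D34837) (iv F161285)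
theorem F168422 : act 3 n36416 = n36152 := d28_1 D36416 F167489 (iv F161286)
theorem F168423 : act 6 n36416 = n34832 := d40_1 D36416 (iv D34832) D34831
theorem F168424 : act 7 n36416 = n36274 := d42_1 D36416 (iv D36274) (iv F161288)
theorem F168425 : act 9 n36416 = n36155 := d44_2 (iv F161289) D36416 F167506 F160328 (iv F160060)
def n36417 : Q := act 5 n34833
theorem D36417 : act 5 n34833 = n36417 := rfl
theorem F168426 : act 1 n36417 = n34882 := d12_1 D36417 (iv D34882) (iv F161296)
theorem F168427 : act 3 n36417 = n36238 := d25_1 D36417 (iv D36238) (iv F161297)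
theorem F168428 : act 4 n36417 = n36198 := d30_1 D36417 (iv D36198) F160093 (iv F153464) (iv F161298)
theorem F168429 : act 6 n36417 = n35385 := d35_2 D34833 D36417 (iv D35385) (iv D33623) (iv F153456)
theorem F168430 : act 7 n36417 = n36275 := d36_2 (iv F161299) D36417 (iv D36275)
theorem F168431 : act 9 n36417 = n36192 := d38_2 (iv F161300) D36417 (iv D36192)
def n36418 : Q := act 8 n34833
theorem D36418 : act 8 n34833 = n36418 := rfl
theorem F168432 : act 1 n36418 = n34883 := d15_1 D36418 (iv D34883) (iv F161296)
theorem F168433 : act 3 n36418 = n36187 := d28_1 D36418 F167628 (iv F161297)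
theorem F168434 : act 4 n36418 = n34837 := d33_1 D36418 (iv D34837) (iv F161298)
theorem F168435 : act 6 n36418 = n34834 := d40_1 D36418 (iv D34834) D34833
theorem F168436 : act 7 n36418 = n36204 := d42_1 D36418 F167683 (iv F161299)
def n36419 : Q := act 5 n34834
theorem D36419 : act 5 n34834 = n36419 := rfl
theorem F168437 : act 0 n36419 = n36034 := d4_1 D36419 (iv F168345) F168341
theorem F168438 : act 1 n36419 = n34884 := d12_1 D36419 (iv D34884) (iv F161301)
theorem F168439 : act 3 n36419 = n35062 := d25_1 D36419 F162637 (iv F161302)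
theorem F168440 : act 4 n36419 = n34844 := d30_1 D36419 (iv D34844) F153517 (iv F153469) (iv F161303)
theorem F168441 : act 7 n36419 = n34835 := d36_2 (iv F161304) D36419 (iv D34835)
theorem F168442 : act 8 n36419 = n35387 := d37_2 D34834 D36419 (iv D35387) (iv D33624) (iv F153456)
def n36420 : Q := act 9 n34834
theorem D36420 : act 9 n34834 = n36420 := rfl
theorem F168443 : act 1 n36420 = n34885 := d16_1 D36420 (iv D34885) (iv F161301)
theorem F168444 : act 2 n36420 = n36034 := d23_1 D36420 (iv F168419) F168415
theorem F168445 : act 3 n36420 = n36025 := d29_1 D36420 F167020 (iv F161302)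
theorem F168446 : act 4 n36420 = n34838 := d34_1 D36420 (iv D34838) (iv F161303)
theorem F168447 : act 7 n36420 = n34836 := d43_1 D36420 (iv D34836) (iv F161304)
theorem F168448 : act 8 n36420 = n36194 := d44_1 D36420 (iv D36194) (iv D34525) (iv F153457) D34834
def n36421 : Q := act 6 n34835
theorem D36421 : act 6 n34835 = n36421 := rfl
theorem F168449 : act 0 n36421 = n35954 := d5_1 D36421 F166753 (iv F161305)
theorem F168450 : act 1 n36421 = n34886 := d13_1 D36421 (iv D34886) (iv F161306)
theorem F168451 : act 2 n36421 = n35472 := d20_1 D36421 (iv F168353) F168349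
theorem F168452 : act 3 n36421 = n35006 := d26_1 D36421 F162330 (iv F161307)
theorem F168453 : act 4 n36421 = n34845 := d31_1 D36421 (iv D34845) (iv F161308)
theorem F168454 : act 5 n36421 = n35762 := d35_1 D36421 F166057 F158365 (iv F153461) D34835
theorem F168455 : act 8 n36421 = n35389 := d40_2 (iv F161309) D36421 (iv D35389)
theorem F168456 : act 9 n36421 = n35466 := d41_2 F168321 D36421 (iv F168320)
def n36422 : Q := act 5 n34837
theorem D36422 : act 5 n34837 = n36422 := rfl
theorem F168457 : act 1 n36422 = n34888 := d12_1 D36422 (iv D34888) (iv F161316)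
theorem F168458 : act 3 n36422 = n34839 := d25_1 D36422 (iv D34839) (iv F161317)
theorem F168459 : act 6 n36422 = n34846 := d35_2 (iv F161318) D36422 (iv D34846) F153525 (iv F153469)
theorem F168460 : act 7 n36422 = n36276 := d36_2 (iv F161319) D36422 (iv D36276)
theorem F168461 : act 8 n36422 = n36202 := d37_2 D34837 D36422 (iv D36202) (iv D34536) (iv F153464)
def n36423 : Q := act 9 n34837
theorem D36423 : act 9 n34837 = n36423 := rfl
theorem F168462 : act 1 n36423 = n34889 := d16_1 D36423 (iv D34889) (iv F161316)
theorem F168463 : act 2 n36423 = n36155 := d23_1 D36423 (iv F168425) F168421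
theorem F168464 : act 3 n36423 = n34840 := d29_1 D36423 (iv D34840) (iv F161317)
theorem F168465 : act 6 n36423 = n34838 := d41_1 D36423 (iv D34838) (iv F161318)
theorem F168466 : act 7 n36423 = n36277 := d43_1 D36423 (iv D36277) (iv F161319)
theorem F168467 : act 8 n36423 = n36195 := d44_1 D36423 (iv D36195) (iv D34527) (iv F153466) D34837
def n36424 : Q := act 9 n34839
theorem D36424 : act 9 n34839 = n36424 := rfl
theorem F168468 : act 1 n36424 = n34891 := d16_1 D36424 (iv D34891) (iv F161326)
theorem F168469 : act 2 n36424 = n36149 := d23_1 D36424 F167472 (iv F161327)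
theorem F168470 : act 4 n36424 = n36324 := d34_1 D36424 (iv F168279) F168276
theorem F168471 : act 5 n36424 = n34840 := d38_1 D36424 (iv D34840) D34839
theorem F168472 : act 6 n36424 = n34848 := d41_1 D36424 (iv D34848) (iv F161328)
theorem F168473 : act 7 n36424 = n36279 := d43_1 D36424 (iv D36279) (iv F161329)
theorem F168474 : act 8 n36424 = n36327 := d44_1 D36424 (iv D36327) (iv F161877) F161878 (iv F161330)
def n36425 : Q := act 5 n34842
theorem D36425 : act 5 n34842 = n36425 := rfl
theorem F168475 : act 0 n36425 = n35873 := d4_1 D36425 F166415 (iv F161345)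
theorem F168476 : act 1 n36425 = n36343 := d12_1 D36425 F168036 (iv F161346)
theorem F168477 : act 2 n36425 = n34846 := d19_1 D36425 (iv D34846) (iv F161347)
theorem F168478 : act 3 n36425 = n34908 := d25_1 D36425 F161729 (iv F161348)
theorem F168479 : act 7 n36425 = n36425 := d36_2 F161350 D36425 (iv D36425)
theorem F168480 : act 8 n36425 = n34905 := d37_2 D34842 D36425 F161712 F153819 (iv F153499)
theorem F168481 : act 9 n36425 = n36179 := d38_2 (iv F161351) D36425 (iv D36179)
def n36426 : Q := act 5 n34843
theorem D36426 : act 5 n34843 = n36426 := rfl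
theorem F168482 : act 0 n36426 = n36179 := d4_1 D36426 (iv D36179) (iv F161352)
theorem F168483 : act 1 n36426 = n34898 := d12_1 D36426 (iv D34898) (iv F161353)
theorem F168484 : act 3 n36426 = n34849 := d25_1 D36426 (iv D34849) (iv F161354)
theorem F168485 : act 7 n36426 = n36426 := d36_2 F161357 D36426 (iv D36426)
theorem F168486 : act 8 n36426 = n35653 := d37_2 D34843 D36426 F165572 F157638 (iv F153511)
theorem F168487 : act 9 n36426 = n35873 := d38_2 (iv F161358) D36426 F166415
def n36427 : Q := act 6 n34844
theorem D36427 : act 6 n34844 = n36427 := rfl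
theorem F168488 : act 0 n36427 = n36155 := d5_1 D36427 (iv D36155) (iv F161359)
theorem F168489 : act 1 n36427 = n34900 := d13_1 D36427 (iv D34900) (iv F161360)
theorem F168490 : act 3 n36427 = n34850 := d26_1 D36427 (iv D34850) (iv F161361)
theorem F168491 : act 8 n36427 = n35395 := d40_2 (iv F161363) D36427 (iv D35395)
def n36428 : Q := act 7 n34845
theorem D36428 : act 7 n34845 = n36428 := rfl
theorem F168492 : act 0 n36428 = n36126 := d6_1 D36428 (iv D36126) (iv F161364)
theorem F168493 : act 1 n36428 = n34902 := d14_1 D36428 (iv D34902) (iv F161365)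
theorem F168494 : act 2 n36428 = n35474 := d21_1 D36428 F164689 (iv F161366)
theorem F168495 : act 3 n36428 = n34852 := d27_1 D36428 (iv D34852) (iv F161367)
theorem F168496 : act 5 n36428 = n36428 := d36_1 D36428 (iv D36428) F161368
theorem F168497 : act 8 n36428 = n35396 := d42_2 (iv F161369) D36428 (iv D35396)
theorem F168498 : act 9 n36428 = n35468 := d43_2 (iv F161370) D36428 F164666
def n36429 : Q := act 4 n34846
theorem D36429 : act 4 n34846 = n36429 := rfl
theorem F168499 : act 1 n36429 = n34904 := d11_1 D36429 (iv D34904) (iv F161371)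
theorem F168500 : act 7 n36429 = n36429 := d32_2 F161373 D36429 (iv D36429)
theorem F168501 : act 8 n36429 = n36340 := d33_2 (iv F161374) D36429 (iv D36340)
def n36430 : Q := act 9 n34846
theorem D36430 : act 9 n34846 = n36430 := rfl
theorem F168502 : act 1 n36430 = n34905 := d16_1 D36430 (iv D34905) (iv F161371)
theorem F168503 : act 2 n36430 = n36179 := d23_1 D36430 (iv F168481) F168477
theorem F168504 : act 3 n36430 = n34848 := d29_1 D36430 (iv D34848) (iv F161372)
theorem F168505 : act 5 n36430 = n34847 := d38_1 D36430 (iv D34847) D34846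
theorem F168506 : act 7 n36430 = n36430 := d43_1 D36430 (iv D36430) F161373
theorem F168507 : act 8 n36430 = n36343 := d44_1 D36430 (iv D36343) (iv F161667) F161668 (iv F161374)
def n36431 : Q := act 6 n34849
theorem D36431 : act 6 n34849 = n36431 := rfl
theorem F168508 : act 0 n36431 = n36156 := d5_1 D36431 F167510 (iv F161388)
theorem F168509 : act 1 n36431 = n34911 := d13_1 D36431 (iv D34911) (iv F161389)
theorem F168510 : act 2 n36431 = n35197 := d20_1 D36431 F163326 (iv F161390)
theorem F168511 : act 4 n36431 = n35232 := d31_1 D36431 F163491 (iv F161391)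
theorem F168512 : act 5 n36431 = n34850 := d35_1 D36431 (iv D34850) (iv D33115) (iv F153546) D34849
theorem F168513 : act 8 n36431 = n35503 := d40_2 (iv F161393) D36431 F164828
theorem F168514 : act 9 n36431 = n35855 := d41_2 (iv F161394) D36431 F166356
def n36432 : Q := act 7 n34850
theorem D36432 : act 7 n34850 = n36432 := rfl
theorem F168515 : act 0 n36432 = n36127 := d6_1 D36432 F167347 (iv F161395)
theorem F168516 : act 1 n36432 = n34913 := d14_1 D36432 (iv D34913) (iv F161396)
theorem F168517 : act 2 n36432 = n35151 := d21_1 D36432 F163053 (iv F161397)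
theorem F168518 : act 4 n36432 = n35150 := d32_1 D36432 F163047 (iv F161398)
theorem F168519 : act 6 n36432 = n34852 := d39_1 D36432 (iv D34852) (iv D33117) (iv F153553) D34850
theorem F168520 : act 8 n36432 = n35398 := d42_2 (iv F161399) D36432 (iv D35398)
theorem F168521 : act 9 n35578 = n36432 := d44_0 F168520 F164362 F156629 (iv F157176) D35578
def n36433 : Q := act 9 n34850
theorem D36433 : act 9 n34850 = n36433 := rfl
theorem F168522 : act 0 n36433 = n36152 := d8_1 D36433 F167490 (iv F161395)
theorem F168523 : act 1 n36433 = n34914 := d16_1 D36433 (iv D34914) (iv F161396)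
theorem F168524 : act 2 n36433 = n35194 := d23_1 D36433 F163308 (iv F161397)
theorem F168525 : act 4 n36433 = n35192 := d34_1 D36433 F163294 (iv F161398)
theorem F168526 : act 5 n36433 = n35855 := d38_1 D36433 (iv F168514) F168512
theorem F168527 : act 6 n36433 = n34851 := d41_1 D36433 (iv D34851) D34850
theorem F168528 : act 7 n36433 = n35578 := d43_1 D36433 F168521 (iv D36432)
theorem F168529 : act 8 n36433 = n35486 := d44_1 D36433 (iv D35486) F156736 (iv F156419) (iv F161399)
def n36434 : Q := act 3 n34853
theorem D36434 : act 3 n34853 = n36434 := rfl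
theorem F168530 : act 0 n36434 = n35796 := d2_1 D36434 (iv D35796) (iv F161414)
theorem F168531 : act 1 n36434 = n36020 := d10_1 D36434 F167000 (iv F161415)
theorem F168532 : act 2 n36434 = n35356 := d17_1 D36434 (iv D35356) F156229 (iv F153601) (iv F161416)
theorem F168533 : act 4 n36434 = n36434 := d24_2 D34853 D36434 (iv D36434) (iv D34853) F153588
theorem F168534 : act 5 n36434 = n34863 := d25_2 (iv F161417) D36434 (iv D34863)
theorem F168535 : act 6 n36434 = n35404 := d26_2 (iv F161418) D36434 (iv D35404)
theorem F168536 : act 9 n36434 = n34967 := d29_2 (iv F161419) D36434 (iv D34967)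
def n36435 : Q := act 7 n34853
theorem D36435 : act 7 n34853 = n36435 := rfl
theorem F168537 : act 0 n36435 = n35797 := d6_1 D36435 (iv D35797) (iv F161414)
theorem F168538 : act 1 n36435 = n36269 := d14_1 D36435 F167862 (iv F161415)
theorem F168539 : act 2 n36435 = n34856 := d21_1 D36435 (iv D34856) (iv F161416)
theorem F168540 : act 4 n36435 = n34854 := d32_1 D36435 (iv D34854) D34853
theorem F168541 : act 5 n36435 = n34864 := d36_1 D36435 (iv D34864) (iv F161417)
theorem F168542 : act 9 n36435 = n34968 := d43_2 (iv F161419) D36435 (iv D34968)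
def n36436 : Q := act 8 n34853
theorem D36436 : act 8 n34853 = n36436 := rfl
theorem F168543 : act 0 n36436 = n35798 := d7_1 D36436 (iv D35798) (iv F161414)
theorem F168544 : act 1 n36436 = n36271 := d15_1 D36436 (iv D36271) (iv F161415)
theorem F168545 : act 2 n36436 = n34857 := d22_1 D36436 (iv D34857) (iv F161416)
theorem F168546 : act 4 n36436 = n34855 := d33_1 D36436 (iv D34855) D34853
theorem F168547 : act 6 n36436 = n35406 := d40_1 D36436 (iv D35406) (iv F161418)
def n36437 : Q := act 6 n34854
theorem D36437 : act 6 n34854 = n36437 := rfl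
theorem F168548 : act 0 n36437 = n35799 := d5_1 D36437 (iv D35799) (iv F161420)
theorem F168549 : act 1 n36437 = n36368 := d13_1 D36437 F168104 (iv F161421)
theorem F168550 : act 2 n36437 = n34858 := d20_1 D36437 (iv D34858) (iv F161422)
theorem F168551 : act 3 n36437 = n36437 := d26_1 D36437 (iv D36437) F161423
theorem F168552 : act 5 n36437 = n36212 := d35_1 D36437 (iv D36212) F160131 (iv F153596) (iv F161424)
theorem F168553 : act 7 n36437 = n35407 := d39_2 D34854 D36437 (iv D35407) (iv D33651) (iv F153589)
theorem F168554 : act 9 n36437 = n34970 := d41_2 (iv F161425) D36437 (iv D34970)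
def n36438 : Q := act 8 n34854
theorem D36438 : act 8 n34854 = n36438 := rfl
theorem F168555 : act 0 n36438 = n35800 := d7_1 D36438 (iv D35800) (iv F161420)
theorem F168556 : act 1 n36438 = n36369 := d15_1 D36438 (iv D36369) (iv F161421)
theorem F168557 : act 2 n36438 = n34859 := d22_1 D36438 (iv D34859) (iv F161422)
theorem F168558 : act 3 n36438 = n36438 := d28_1 D36438 (iv D36438) F161423
theorem F168559 : act 5 n36438 = n36438 := d37_1 D36438 (iv D36438) F161424 F153597 (iv F161424)
theorem F168560 : act 7 n36438 = n34855 := d42_1 D36438 (iv D34855) D34854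
def n36439 : Q := act 9 n34855
theorem D36439 : act 9 n34855 = n36439 := rfl
theorem F168561 : act 0 n36439 = n35801 := d8_1 D36439 (iv D35801) (iv F161426)
theorem F168562 : act 1 n36439 = n36361 := d16_1 D36439 F168087 (iv F161427)
theorem F168563 : act 2 n36439 = n34860 := d23_1 D36439 (iv D34860) (iv F161428)
theorem F168564 : act 3 n36439 = n36439 := d29_1 D36439 (iv D36439) F161429
theorem F168565 : act 5 n36439 = n36439 := d38_1 D36439 (iv D36439) F161430
theorem F168566 : act 6 n36439 = n35409 := d41_1 D36439 (iv D35409) (iv F161431)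
theorem F168567 : act 8 n36439 = n34972 := d44_1 D36439 (iv D34972) (iv D33241) (iv F153590) D34855
def n36440 : Q := act 6 n34856
theorem D36440 : act 6 n34856 = n36440 := rfl
theorem F168568 : act 0 n36440 = n35802 := d5_1 D36440 (iv D35802) (iv F161432)
theorem F168569 : act 1 n36440 = n35082 := d13_1 D36440 (iv D35082) (iv F161433)
theorem F168570 : act 3 n36440 = n35362 := d26_1 D36440 (iv D35362) (iv F161434)
theorem F168571 : act 4 n36440 = n34858 := d31_1 D36440 (iv D34858) (iv F161435)
theorem F168572 : act 7 n36440 = n35410 := d39_2 D34856 D36440 (iv D35410) (iv D33653) (iv F153603)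
theorem F168573 : act 9 n36440 = n34973 := d41_2 (iv F161437) D36440 (iv D34973)
def n36441 : Q := act 8 n34856
theorem D36441 : act 8 n34856 = n36441 := rfl
theorem F168574 : act 0 n36441 = n35803 := d7_1 D36441 (iv D35803) (iv F161432)
theorem F168575 : act 1 n36441 = n35083 := d15_1 D36441 (iv D35083) (iv F161433)
theorem F168576 : act 3 n36441 = n35363 := d28_1 D36441 (iv D35363) (iv F161434)
theorem F168577 : act 4 n36441 = n34859 := d33_1 D36441 (iv D34859) (iv F161435)
theorem F168578 : act 7 n36441 = n34857 := d42_1 D36441 (iv D34857) D34856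
def n36442 : Q := act 5 n34857
theorem D36442 : act 5 n34857 = n36442 := rfl
theorem F168579 : act 0 n36442 = n35804 := d4_1 D36442 (iv D35804) (iv F161438)
theorem F168580 : act 1 n36442 = n35084 := d12_1 D36442 (iv D35084) (iv F161439)
theorem F168581 : act 3 n36442 = n35364 := d25_1 D36442 (iv D35364) (iv F161440)
theorem F168582 : act 4 n36442 = n36442 := d30_1 D36442 (iv D36442) F161441 F153613 (iv F161441)
theorem F168583 : act 8 n36442 = n34870 := d37_2 D34857 D36442 (iv D34870) (iv D33132) (iv F153602)
def n36443 : Q := act 9 n34857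
theorem D36443 : act 9 n34857 = n36443 := rfl
theorem F168584 : act 0 n36443 = n35805 := d8_1 D36443 (iv D35805) (iv F161438)
theorem F168585 : act 1 n36443 = n35085 := d16_1 D36443 (iv D35085) (iv F161439)
theorem F168586 : act 3 n36443 = n35365 := d29_1 D36443 (iv D35365) (iv F161440)
theorem F168587 : act 4 n36443 = n34860 := d34_1 D36443 (iv D34860) (iv F161441)
theorem F168588 : act 6 n36443 = n35413 := d41_1 D36443 (iv D35413) (iv F161442)
theorem F168589 : act 8 n36443 = n34976 := d44_1 D36443 (iv D34976) (iv D33243) (iv F153604) D34857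
def n36444 : Q := act 8 n34858
theorem D36444 : act 8 n34858 = n36444 := rfl
theorem F168590 : act 0 n36444 = n35806 := d7_1 D36444 (iv D35806) (iv F161443)
theorem F168591 : act 1 n36444 = n35086 := d15_1 D36444 (iv D35086) (iv F161444)
theorem F168592 : act 3 n36444 = n34861 := d28_1 D36444 (iv D34861) (iv F161445)
theorem F168593 : act 6 n36444 = n34859 := d40_1 D36444 (iv D34859) D34858
theorem F168594 : act 7 n36444 = n35414 := d42_1 D36444 (iv D35414) (iv F161447)
def n36445 : Q := act 9 n34859
theorem D36445 : act 9 n34859 = n36445 := rfl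
theorem F168595 : act 0 n36445 = n35807 := d8_1 D36445 (iv D35807) (iv F161449)
theorem F168596 : act 1 n36445 = n35087 := d16_1 D36445 (iv D35087) (iv F161450)
theorem F168597 : act 3 n36445 = n34862 := d29_1 D36445 (iv D34862) (iv F161451)
theorem F168598 : act 5 n36445 = n36445 := d38_1 D36445 (iv D36445) F161452
theorem F168599 : act 7 n36445 = n34860 := d43_1 D36445 (iv D34860) (iv F161453)
theorem F168600 : act 8 n36445 = n34978 := d44_1 D36445 (iv D34978) (iv D33245) (iv F153609) D34859
def n36446 : Q := act 5 n34861
theorem D36446 : act 5 n34861 = n36446 := rfl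
theorem F168601 : act 0 n36446 = n35808 := d4_1 D36446 (iv D35808) (iv F161460)
theorem F168602 : act 1 n36446 = n35088 := d12_1 D36446 (iv D35088) (iv F161461)
theorem F168603 : act 2 n36446 = n36446 := d19_1 D36446 (iv D36446) F161462
theorem F168604 : act 6 n36446 = n36446 := d35_2 (iv F161464) D36446 (iv D36446) F161464 F153626
theorem F168605 : act 7 n36446 = n35416 := d36_2 (iv F161465) D36446 (iv D35416)
theorem F168606 : act 8 n36446 = n36217 := d37_2 D34861 D36446 (iv D36217) (iv D34550) (iv F153619)
def n36447 : Q := act 9 n34861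
theorem D36447 : act 9 n34861 = n36447 := rfl
theorem F168607 : act 0 n36447 = n35809 := d8_1 D36447 (iv D35809) (iv F161460)
theorem F168608 : act 1 n36447 = n35089 := d16_1 D36447 (iv D35089) (iv F161461)
theorem F168609 : act 2 n36447 = n36447 := d23_1 D36447 (iv D36447) F161462
theorem F168610 : act 4 n36447 = n35369 := d34_1 D36447 (iv D35369) (iv F161463)
theorem F168611 : act 6 n36447 = n34862 := d41_1 D36447 (iv D34862) (iv F161464)
theorem F168612 : act 7 n36447 = n35417 := d43_1 D36447 (iv D35417) (iv F161465)
theorem F168613 : act 8 n36447 = n34980 := d44_1 D36447 (iv D34980) (iv D33247) (iv F153621) D34861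
def n36448 : Q := act 7 n34863
theorem D36448 : act 7 n34863 = n36448 := rfl
theorem F168614 : act 0 n36448 = n35815 := d6_1 D36448 (iv D35815) (iv F161473)
theorem F168615 : act 1 n36448 = n36018 := d14_1 D36448 F166996 (iv F161474)
theorem F168616 : act 2 n36448 = n36190 := d21_1 D36448 (iv D36190) (iv F161475)
theorem F168617 : act 3 n36448 = n34864 := d27_1 D36448 (iv D34864) D34863
theorem F168618 : act 4 n36448 = n34922 := d32_1 D36448 (iv D34922) (iv F161476)
theorem F168619 : act 8 n36448 = n36041 := d42_2 F161479 D36448 F167079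
theorem F168620 : act 9 n36448 = n35933 := d43_2 (iv F161478) D36448 F166643
def n36449 : Q := act 6 n34864
theorem D36449 : act 6 n34864 = n36449 := rfl
theorem F168621 : act 0 n36449 = n35816 := d5_1 D36449 (iv D35816) (iv F161480)
theorem F168622 : act 1 n36449 = n36267 := d13_1 D36449 F167857 (iv F161481)
theorem F168623 : act 2 n36449 = n34868 := d20_1 D36449 (iv D34868) (iv F161482)
theorem F168624 : act 4 n36449 = n34866 := d31_1 D36449 (iv D34866) (iv F161483)
theorem F168625 : act 7 n36449 = n34878 := d39_2 D34864 D36449 (iv D34878) (iv D33139) (iv F153638)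
theorem F168626 : act 9 n36449 = n36189 := d41_2 (iv F161484) D36449 F167634
def n36450 : Q := act 8 n34864
theorem D36450 : act 8 n34864 = n36450 := rfl
theorem F168627 : act 0 n36450 = n35817 := d7_1 D36450 (iv D35817) (iv F161480)
theorem F168628 : act 1 n36450 = n36250 := d15_1 D36450 F167806 (iv F161481)
theorem F168629 : act 2 n36450 = n34869 := d22_1 D36450 (iv D34869) (iv F161482)
theorem F168630 : act 3 n36450 = n36041 := d28_1 D36450 (iv F168619) F168617
theorem F168631 : act 4 n36450 = n34867 := d33_1 D36450 (iv D34867) (iv F161483)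
theorem F168632 : act 7 n36450 = n34865 := d42_1 D36450 (iv D34865) D34864
theorem F168633 : act 9 n36450 = n36028 := d44_2 (iv F161484) D36450 (iv D36028) F159270 D34519
def n36451 : Q := act 5 n34865
theorem D36451 : act 5 n34865 = n36451 := rfl
theorem F168634 : act 0 n36451 = n35818 := d4_1 D36451 (iv D35818) (iv F161485)
theorem F168635 : act 1 n36451 = n36252 := d12_1 D36451 F167810 (iv F161486)
theorem F168636 : act 2 n36451 = n34870 := d19_1 D36451 (iv D34870) (iv F161487)
theorem F168637 : act 3 n36451 = n35828 := d25_1 D36451 F166284 (iv F161488)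
theorem F168638 : act 4 n36451 = n36451 := d30_1 D36451 (iv D36451) F161489 F153650 (iv F161489)
theorem F168639 : act 9 n36451 = n36029 := d38_2 (iv F161491) D36451 (iv D36029)
def n36452 : Q := act 8 n34866
theorem D36452 : act 8 n34866 = n36452 := rfl
theorem F168640 : act 0 n36452 = n35819 := d7_1 D36452 (iv D35819) (iv F161492)
theorem F168641 : act 1 n36452 = n36254 := d15_1 D36452 F167817 (iv F161493)
theorem F168642 : act 2 n36452 = n34872 := d22_1 D36452 (iv D34872) (iv F161494)
theorem F168643 : act 3 n36452 = n34924 := d28_1 D36452 (iv D34924) (iv F161495)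
theorem F168644 : act 6 n36452 = n34867 := d40_1 D36452 (iv D34867) D34866
theorem F168645 : act 7 n36452 = n34881 := d42_1 D36452 (iv D34881) (iv F161497)
theorem F168646 : act 9 n36452 = n36030 := d44_2 (iv F161498) D36452 (iv D36030) F159279 D34520
def n36453 : Q := act 5 n34868
theorem D36453 : act 5 n34868 = n36453 := rfl
theorem F168647 : act 0 n36453 = n35820 := d4_1 D36453 (iv D35820) (iv F161506)
theorem F168648 : act 1 n36453 = n36275 := d12_1 D36453 (iv D36275) (iv F161507)
theorem F168649 : act 3 n36453 = n36192 := d25_1 D36453 (iv D36192) (iv F161508)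
theorem F168650 : act 4 n36453 = n36247 := d30_1 D36453 (iv D36247) F160212 (iv F153666) (iv F161509)
theorem F168651 : act 7 n36453 = n34882 := d36_2 (iv F161510) D36453 (iv D34882)
theorem F168652 : act 9 n36453 = n36238 := d38_2 (iv F161511) D36453 (iv D36238)
def n36454 : Q := act 8 n34868
theorem D36454 : act 8 n34868 = n36454 := rfl
theorem F168653 : act 0 n36454 = n35821 := d7_1 D36454 (iv D35821) (iv F161506)
theorem F168654 : act 1 n36454 = n36204 := d15_1 D36454 F167683 (iv F161507)
theorem F168655 : act 3 n36454 = n36193 := d28_1 D36454 (iv D36193) (iv F161508)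
theorem F168656 : act 4 n36454 = n34872 := d33_1 D36454 (iv D34872) (iv F161509)
theorem F168657 : act 6 n36454 = n34869 := d40_1 D36454 (iv D34869) D34868
theorem F168658 : act 7 n36454 = n34883 := d42_1 D36454 (iv D34883) (iv F161510)
def n36455 : Q := act 5 n34869
theorem D36455 : act 5 n34869 = n36455 := rfl
theorem F168659 : act 0 n36455 = n35822 := d4_1 D36455 (iv D35822) (iv F161512)
theorem F168660 : act 1 n36455 = n35775 := d12_1 D36455 F166100 (iv F161513)
theorem F168661 : act 3 n36455 = n35773 := d25_1 D36455 F166093 (iv F161514)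
theorem F168662 : act 4 n36455 = n36455 := d30_1 D36455 (iv D36455) F161515 F153672 (iv F161515)
theorem F168663 : act 7 n36455 = n34870 := d36_2 (iv F161516) D36455 (iv D34870)
def n36456 : Q := act 9 n34869
theorem D36456 : act 9 n34869 = n36456 := rfl
theorem F168664 : act 0 n36456 = n35823 := d8_1 D36456 (iv D35823) (iv F161512)
theorem F168665 : act 1 n36456 = n36196 := d16_1 D36456 F167661 (iv F161513)
theorem F168666 : act 2 n36456 = n36028 := d23_1 D36456 (iv F168633) F168629
theorem F168667 : act 3 n36456 = n36194 := d29_1 D36456 (iv D36194) (iv F161514)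
theorem F168668 : act 4 n36456 = n34873 := d34_1 D36456 (iv D34873) (iv F161515)
theorem F168669 : act 7 n36456 = n34871 := d43_1 D36456 (iv D34871) (iv F161516)
theorem F168670 : act 8 n36456 = n36025 := d44_1 D36456 F167020 F160031 (iv F153657) D34869
def n36457 : Q := act 6 n34870
theorem D36457 : act 6 n34870 = n36457 := rfl
theorem F168671 : act 0 n36457 = n35824 := d5_1 D36457 (iv D35824) (iv F161517)
theorem F168672 : act 1 n36457 = n35762 := d13_1 D36457 F166057 (iv F161518)
theorem F168673 : act 3 n36457 = n35760 := d26_1 D36457 F166051 (iv F161519)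
theorem F168674 : act 4 n36457 = n36457 := d31_1 D36457 (iv D36457) F161520
theorem F168675 : act 5 n36457 = n34886 := d35_1 D36457 (iv D34886) (iv D33145) (iv F153662) D34870
def n36458 : Q := act 9 n34870
theorem D36458 : act 9 n34870 = n36458 := rfl
theorem F168676 : act 0 n36458 = n35378 := d8_1 D36458 (iv F164273) (iv F161517)

end Cfsg.Agent.Helper17.SP6TC
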