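import Cfsg.Agent.Helper17.SP6TC.Facts12

set_option autoImplicit false
set_option linter.all false

noncomputable section

namespace Cfsg.Agent.Helper17.SP6TC

theorem F168677 : act 1 n36458 = n35345 := d16_1 D36458 F164138 (iv F161518)
theorem F168678 : act 2 n36458 = n36029 := d23_1 D36458 (iv F168639) F168636
theorem F168679 : act 3 n36458 = n35297 := d29_1 D36458 (iv F163882) (iv F161519)
theorem F168680 : act 4 n36458 = n36458 := d34_1 D36458 (iv D36458) F161520
theorem F168681 : act 5 n36458 = n34871 := d38_1 D36458 (iv D34871) D34870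
theorem F168682 : act 8 n35295 = n36458 := d37_0 F168681 F161527 (iv F162589) F168308 F168305
def n36459 : Q := act 5 n34872
theorem D36459 : act 5 n34872 = n36459 := rfl
theorem F168683 : act 0 n36459 = n35825 := d4_1 D36459 (iv D35825) (iv F161528)
theorem F168684 : act 1 n36459 = n36276 := d12_1 D36459 (iv D36276) (iv F161529)
theorem F168685 : act 3 n36459 = n34874 := d25_1 D36459 (iv D34874) (iv F161530)
theorem F168686 : act 6 n36459 = n36459 := d35_2 (iv F161531) D36459 (iv D36459) F161531 F153672
theorem F168687 : act 7 n36459 = n34888 := d36_2 (iv F161532) D36459 (iv D34888)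
theorem F168688 : act 8 n36459 = n36253 := d37_2 D34872 D36459 (iv D36253) (iv D34580) (iv F153666)
def n36460 : Q := act 9 n34872
theorem D36460 : act 9 n34872 = n36460 := rfl
theorem F168689 : act 0 n36460 = n35826 := d8_1 D36460 (iv D35826) (iv F161528)
theorem F168690 : act 1 n36460 = n36277 := d16_1 D36460 (iv D36277) (iv F161529)
theorem F168691 : act 2 n36460 = n36030 := d23_1 D36460 (iv F168646) F168642
theorem F168692 : act 3 n36460 = n34875 := d29_1 D36460 (iv D34875) (iv F161530)
theorem F168693 : act 6 n36460 = n34873 := d41_1 D36460 (iv D34873) (iv F161531)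
theorem F168694 : act 7 n36460 = n34889 := d43_1 D36460 (iv D34889) (iv F161532)
theorem F168695 : act 8 n36460 = n36026 := d44_1 D36460 F167025 F160035 (iv F153668) D34872
def n36461 : Q := act 9 n34874
theorem D36461 : act 9 n34874 = n36461 := rfl
theorem F168696 : act 0 n36461 = n35827 := d8_1 D36461 (iv D35827) (iv F161540)
theorem F168697 : act 1 n36461 = n36279 := d16_1 D36461 (iv D36279) (iv F161541)
theorem F168698 : act 2 n36461 = n34927 := d23_1 D36461 (iv D34927) (iv F161542)
theorem F168699 : act 4 n36461 = n36333 := d34_1 D36461 (iv D36333) (iv F161543)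
theorem F168700 : act 5 n36461 = n34875 := d38_1 D36461 (iv D34875) D34874
theorem F168701 : act 6 n36461 = n36461 := d41_1 D36461 (iv D36461) F161544
theorem F168702 : act 7 n36461 = n34891 := d43_1 D36461 (iv D34891) (iv F161545)
theorem F168703 : act 8 n36325 = n36461 := d37_0 F168700 F161553 F159743 D34674 D36325
def n36462 : Q := act 6 n34876
theorem D36462 : act 6 n34876 = n36462 := rfl
theorem F168704 : act 0 n36462 = n35833 := d5_1 D36462 (iv D35833) (iv F161554)
theorem F168705 : act 1 n36462 = n36091 := d13_1 D36462 F167228 (iv F161555)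
theorem F168706 : act 3 n36462 = n34878 := d26_1 D36462 (iv D34878) (iv F161556)
theorem F168707 : act 4 n36462 = n34928 := d31_1 D36462 (iv D34928) (iv F161557)
theorem F168708 : act 9 n36462 = n35976 := d41_2 (iv F161559) D36462 F166845
def n36463 : Q := act 8 n34876
theorem D36463 : act 8 n34876 = n36463 := rfl
theorem F168709 : act 0 n36463 = n35834 := d7_1 D36463 (iv D35834) (iv F161554)
theorem F168710 : act 1 n36463 = n36061 := d15_1 D36463 F167146 (iv F161555)
theorem F168711 : act 2 n36463 = n36257 := d22_1 D36463 (iv F168158) F168154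
theorem F168712 : act 3 n36463 = n34879 := d28_1 D36463 (iv D34879) (iv F161556)
theorem F168713 : act 4 n36463 = n34929 := d33_1 D36463 (iv D34929) (iv F161557)
theorem F168714 : act 7 n36463 = n34877 := d42_1 D36463 (iv D34877) D34876
theorem F168715 : act 9 n36463 = n35960 := d44_2 (iv F161559) D36463 (iv D35960) F159026 D34265
def n36464 : Q := act 5 n34877
theorem D36464 : act 5 n34877 = n36464 := rfl
theorem F168716 : act 0 n36464 = n35835 := d4_1 D36464 (iv D35835) (iv F161560)
theorem F168717 : act 1 n36464 = n36063 := d12_1 D36464 F167151 (iv F161561)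
theorem F168718 : act 2 n36464 = n36218 := d19_1 D36464 F167718 (iv F161562)
theorem F168719 : act 3 n36464 = n34880 := d25_1 D36464 (iv D34880) (iv F161563)
theorem F168720 : act 4 n36464 = n36464 := d30_1 D36464 (iv D36464) F161564 F153964 (iv F161564)
theorem F168721 : act 8 n36464 = n35516 := d37_2 D34877 D36464 (iv D35516) (iv D33744) (iv F153697)
theorem F168722 : act 9 n36464 = n35961 := d38_2 (iv F161566) D36464 (iv D35961)
def n36465 : Q := act 5 n34878
theorem D36465 : act 5 n34878 = n36465 := rfl
theorem F168723 : act 0 n36465 = n35836 := d4_1 D36465 (iv D35836) (iv F161567)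
theorem F168724 : act 1 n36465 = n36314 := d12_1 D36465 F167955 (iv F161568)
theorem F168725 : act 2 n36465 = n34882 := d19_1 D36465 (iv D34882) (iv F161569)
theorem F168726 : act 4 n36465 = n36284 := d30_1 D36465 (iv D36284) F160333 (iv F153714) (iv F161570)
theorem F168727 : act 6 n36465 = n35518 := d35_2 D34878 D36465 (iv D35518) (iv D33745) (iv F153703)
theorem F168728 : act 9 n36465 = n36207 := d38_2 (iv F161571) D36465 (iv D36207)
def n36466 : Q := act 8 n34878
theorem D36466 : act 8 n34878 = n36466 := rfl
theorem F168729 : act 0 n36466 = n35837 := d7_1 D36466 (iv D35837) (iv F161567)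
theorem F168730 : act 1 n36466 = n36291 := d15_1 D36466 F167914 (iv F161568)
theorem F168731 : act 2 n36466 = n34883 := d22_1 D36466 (iv D34883) (iv F161569)
theorem F168732 : act 4 n36466 = n34881 := d33_1 D36466 (iv D34881) (iv F161570)
theorem F168733 : act 6 n36466 = n34879 := d40_1 D36466 (iv D34879) D34878
theorem F168734 : act 9 n36466 = n36199 := d44_2 (iv F161571) D36466 (iv D36199) F160094 D34541
def n36467 : Q := act 5 n34879
theorem D36467 : act 5 n34879 = n36467 := rfl
theorem F168735 : act 0 n36467 = n35838 := d4_1 D36467 (iv D35838) (iv F161572)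
theorem F168736 : act 1 n36467 = n36293 := d12_1 D36467 F167917 (iv F161573)
theorem F168737 : act 2 n36467 = n34884 := d19_1 D36467 (iv D34884) (iv F161574)
theorem F168738 : act 4 n36467 = n34894 := d30_1 D36467 (iv D34894) F153764 (iv F153720) (iv F161575)
theorem F168739 : act 7 n36467 = n34880 := d36_2 (iv F161576) D36467 (iv D34880)
theorem F168740 : act 8 n36467 = n35520 := d37_2 D34879 D36467 (iv D35520) (iv D33746) (iv F153703)
theorem F168741 : act 9 n36467 = n36200 := d38_2 (iv F161577) D36467 (iv D36200)
def n36468 : Q := act 6 n34880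
theorem D36468 : act 6 n34880 = n36468 := rfl
theorem F168742 : act 0 n36468 = n35840 := d5_1 D36468 (iv D35840) (iv F161578)
theorem F168743 : act 1 n36468 = n36295 := d13_1 D36468 F167921 (iv F161579)
theorem F168744 : act 2 n36468 = n34886 := d20_1 D36468 (iv D34886) (iv F161580)
theorem F168745 : act 4 n36468 = n34895 := d31_1 D36468 (iv D34895) (iv F161581)
theorem F168746 : act 8 n36468 = n35522 := d40_2 (iv F161582) D36468 (iv D35522)
theorem F168747 : act 9 n36468 = n36201 := d41_2 (iv F161583) D36468 (iv D36201)
def n36469 : Q := act 5 n34881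
theorem D36469 : act 5 n34881 = n36469 := rfl
theorem F168748 : act 0 n36469 = n35842 := d4_1 D36469 (iv D35842) (iv F161584)
theorem F168749 : act 1 n36469 = n36297 := d12_1 D36469 F167924 (iv F161585)
theorem F168750 : act 2 n36469 = n34888 := d19_1 D36469 (iv D34888) (iv F161586)
theorem F168751 : act 3 n36469 = n34932 := d25_1 D36469 (iv D34932) (iv F161587)
theorem F168752 : act 6 n36469 = n34896 := d35_2 (iv F161588) D36469 (iv D34896) F153777 (iv F153720)
theorem F168753 : act 8 n36469 = n36287 := d37_2 D34881 D36469 (iv D36287) (iv D34620) (iv F153714)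
theorem F168754 : act 9 n36469 = n36202 := d38_2 (iv F161589) D36469 (iv D36202)
def n36470 : Q := act 8 n34882
theorem D36470 : act 8 n34882 = n36470 := rfl
theorem F168755 : act 0 n36470 = n35844 := d7_1 D36470 (iv D35844) (iv F161590)
theorem F168756 : act 4 n36470 = n36289 := d33_1 D36470 (iv D36289) (iv F161591)
theorem F168757 : act 6 n36470 = n35525 := d40_1 D36470 (iv D35525) (iv F161592)
def n36471 : Q := act 5 n34883
theorem D36471 : act 5 n34883 = n36471 := rfl
theorem F168758 : act 0 n36471 = n35845 := d4_1 D36471 (iv D35845) (iv F161594)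
def n36472 : Q := act 9 n34883
theorem D36472 : act 9 n34883 = n36472 := rfl
theorem F168759 : act 0 n36472 = n35846 := d8_1 D36472 (iv D35846) (iv F161594)
theorem F168760 : act 2 n36472 = n36199 := d23_1 D36472 (iv F168734) F168731
theorem F168761 : act 4 n36472 = n34889 := d34_1 D36472 (iv D34889) (iv F161595)
theorem F168762 : act 6 n36472 = n34885 := d41_1 D36472 (iv D34885) (iv F161596)
theorem F168763 : act 8 n36472 = n36197 := d44_1 D36472 F167664 F160111 (iv F153725) D34883
def n36473 : Q := act 6 n34884
theorem D36473 : act 6 n34884 = n36473 := rfl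
theorem F168764 : act 0 n36473 = n35847 := d5_1 D36473 (iv D35847) (iv F161597)
theorem F168765 : act 4 n36473 = n34900 := d31_1 D36473 (iv D34900) (iv F161598)
theorem F168766 : act 8 n36473 = n35528 := d40_2 (iv F161600) D36473 (iv D35528)
def n36474 : Q := act 9 n34884
theorem D36474 : act 9 n34884 = n36474 := rfl
theorem F168767 : act 0 n36474 = n35848 := d8_1 D36474 (iv D35848) (iv F161597)
theorem F168768 : act 2 n36474 = n36200 := d23_1 D36474 (iv F168741) F168737
theorem F168769 : act 4 n36474 = n34901 := d34_1 D36474 (iv D34901) (iv F161598)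
theorem F168770 : act 5 n36474 = n34885 := d38_1 D36474 (iv D34885) D34884
theorem F168771 : act 7 n36474 = n34887 := d43_1 D36474 (iv D34887) (iv F161599)
def n36475 : Q := act 7 n34886
theorem D36475 : act 7 n34886 = n36475 := rfl
theorem F168772 : act 0 n36475 = n35849 := d6_1 D36475 (iv D35849) (iv F161606)
theorem F168773 : act 4 n36475 = n34902 := d32_1 D36475 (iv D34902) (iv F161607)
theorem F168774 : act 8 n36475 = n35529 := d42_2 (iv F161608) D36475 (iv D35529)
def n36476 : Q := act 9 n34886
theorem D36476 : act 9 n34886 = n36476 := rfl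
theorem F168775 : act 0 n36476 = n35850 := d8_1 D36476 (iv D35850) (iv F161606)
theorem F168776 : act 1 n36476 = n35466 := d16_1 D36476 (iv F168456) F168450
theorem F168777 : act 2 n36476 = n36201 := d23_1 D36476 (iv F168747) F168744
theorem F168778 : act 3 n36476 = n35920 := d29_1 D36476 F168202 F168198
theorem F168779 : act 4 n36476 = n34903 := d34_1 D36476 (iv D34903) (iv F161607)
theorem F168780 : act 6 n36476 = n34887 := d41_1 D36476 (iv D34887) D34886
theorem F168781 : act 8 n36476 = n35462 := d44_1 D36476 F164638 (iv F164531) F164532 (iv F161608)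
def n36477 : Q := act 4 n34888
theorem D36477 : act 4 n34888 = n36477 := rfl
theorem F168782 : act 0 n36477 = n35851 := d3_1 D36477 (iv D35851) (iv F161613)
theorem F168783 : act 6 n36477 = n34904 := d31_2 (iv F161615) D36477 (iv D34904)
theorem F168784 : act 8 n36477 = n36296 := d33_2 (iv F161616) D36477 (iv D36296)
def n36478 : Q := act 9 n34888
theorem D36478 : act 9 n34888 = n36478 := rfl
theorem F168785 : act 0 n36478 = n35852 := d8_1 D36478 (iv D35852) (iv F161613)
theorem F168786 : act 2 n36478 = n36202 := d23_1 D36478 (iv F168754) F168750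
theorem F168787 : act 3 n36478 = n34891 := d29_1 D36478 (iv D34891) (iv F161614)
theorem F168788 : act 5 n36478 = n34889 := d38_1 D36478 (iv D34889) D34888
theorem F168789 : act 6 n36478 = n34905 := d41_1 D36478 (iv D34905) (iv F161615)
def n36479 : Q := act 3 n34890
theorem D36479 : act 3 n34890 = n36479 := rfl
theorem F168790 : act 0 n36479 = n35853 := d2_1 D36479 (iv D35853) (iv F161622)
theorem F168791 : act 5 n36479 = n36322 := d25_2 (iv F161624) D36479 F167980
theorem F168792 : act 6 n36479 = n34906 := d26_2 (iv F161625) D36479 (iv D34906)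
theorem F168793 : act 7 n36479 = n36331 := d27_2 (iv F161626) D36479 F168004
theorem F168794 : act 8 n36479 = n36298 := d28_2 (iv F161627) D36479 (iv D36298)
def n36480 : Q := act 9 n34890
theorem D36480 : act 9 n34890 = n36480 := rfl
theorem F168795 : act 0 n36480 = n35854 := d8_1 D36480 (iv D35854) (iv F161622)
theorem F168796 : act 1 n36480 = n36324 := d16_1 D36480 (iv F168279) F168274
theorem F168797 : act 2 n36480 = n34937 := d23_1 D36480 (iv D34937) (iv F161623)
theorem F168798 : act 4 n36480 = n34891 := d34_1 D36480 (iv D34891) D34890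
theorem F168799 : act 5 n36480 = n36323 := d38_1 D36480 (iv D36323) (iv F161624)
theorem F168800 : act 6 n36480 = n34907 := d41_1 D36480 (iv D34907) (iv F161625)
theorem F168801 : act 7 n36480 = n36333 := d43_1 D36480 (iv D36333) (iv F161626)
theorem F168802 : act 8 n36480 = n36161 := d44_1 D36480 F167530 D36175 (iv F167585) (iv F161627)
def n36481 : Q := act 8 n34891
theorem D36481 : act 8 n34891 = n36481 := rfl
theorem F168803 : act 0 n36481 = n35855 := d7_1 D36481 (iv D35855) (iv F161628)
theorem F168804 : act 1 n36481 = n36327 := d15_1 D36481 (iv F168474) F168468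
theorem F168805 : act 2 n36481 = n34938 := d22_1 D36481 (iv D34938) (iv F161629)
theorem F168806 : act 4 n36481 = n36161 := d33_1 D36481 (iv F168802) F168798
theorem F168807 : act 5 n36481 = n36152 := d37_1 D36481 F167489 F160319 (iv F153752) (iv F161630)
theorem F168808 : act 6 n36481 = n34908 := d40_1 D36481 (iv D34908) (iv F161631)
theorem F168809 : act 7 n36481 = n36325 := d42_1 D36481 F168703 F168702
theorem F168810 : act 9 n36481 = n36156 := d44_2 D34891 D36481 F167511 (iv D34631) (iv F153748)
def n36482 : Q := act 8 n34892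
theorem D36482 : act 8 n34892 = n36482 := rfl
theorem F168811 : act 0 n36482 = n35639 := d7_1 D36482 (iv D35639) (iv F161632)
theorem F168812 : act 1 n36482 = n35858 := d15_1 D36482 F166370 (iv F161633)
theorem F168813 : act 2 n36482 = n34897 := d22_1 D36482 (iv D34897) (iv F161634)
theorem F168814 : act 3 n36482 = n36482 := d28_1 D36482 (iv D36482) F161635
theorem F168815 : act 4 n36482 = n35636 := d33_1 D36482 (iv D35636) (iv F161636)
theorem F168816 : act 6 n36482 = n35538 := d40_1 D36482 (iv D35538) (iv F161637)
theorem F168817 : act 7 n36482 = n36482 := d42_1 D36482 (iv D36482) F161638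
theorem F168818 : act 9 n36482 = n35638 := d44_2 (iv F161639) D36482 (iv D35638) F157560 (iv F154131)
def n36483 : Q := act 5 n34893
theorem D36483 : act 5 n34893 = n36483 := rfl
theorem F168819 : act 0 n36483 = n35857 := d4_1 D36483 (iv D35857) (iv F161640)
theorem F168820 : act 1 n36483 = n36347 := d12_1 D36483 F168046 (iv F161641)
theorem F168821 : act 2 n36483 = n34898 := d19_1 D36483 (iv D34898) (iv F161642)
theorem F168822 : act 3 n36483 = n36483 := d25_1 D36483 (iv D36483) F161643
theorem F168823 : act 7 n36483 = n36483 := d36_2 F161646 D36483 (iv D36483)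
theorem F168824 : act 9 n36483 = n36337 := d38_2 (iv F161647) D36483 (iv D36337)
def n36484 : Q := act 6 n34894
theorem D36484 : act 6 n34894 = n36484 := rfl
theorem F168825 : act 0 n36484 = n35859 := d5_1 D36484 (iv D35859) (iv F161648)
theorem F168826 : act 1 n36484 = n36349 := d13_1 D36484 F168051 (iv F161649)
theorem F168827 : act 2 n36484 = n34900 := d20_1 D36484 (iv D34900) (iv F161650)
theorem F168828 : act 3 n36484 = n36484 := d26_1 D36484 (iv D36484) F161651
theorem F168829 : act 8 n36484 = n35539 := d40_2 (iv F161653) D36484 (iv D35539)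
theorem F168830 : act 9 n36484 = n36338 := d41_2 (iv F161654) D36484 (iv D36338)
def n36485 : Q := act 7 n34895
theorem D36485 : act 7 n34895 = n36485 := rfl
theorem F168831 : act 0 n36485 = n35861 := d6_1 D36485 (iv D35861) (iv F161655)
theorem F168832 : act 1 n36485 = n36350 := d14_1 D36485 F168054 (iv F161656)
theorem F168833 : act 2 n36485 = n34902 := d21_1 D36485 (iv D34902) (iv F161657)
theorem F168834 : act 3 n36485 = n36485 := d27_1 D36485 (iv D36485) F161658
theorem F168835 : act 5 n36485 = n36485 := d36_1 D36485 (iv D36485) F161659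
theorem F168836 : act 8 n36485 = n35540 := d42_2 (iv F161660) D36485 (iv D35540)
theorem F168837 : act 9 n36485 = n36339 := d43_2 (iv F161661) D36485 (iv D36339)
def n36486 : Q := act 4 n34896
theorem D36486 : act 4 n34896 = n36486 := rfl
theorem F168838 : act 0 n36486 = n35863 := d3_1 D36486 (iv D35863) (iv F161662)
theorem F168839 : act 1 n36486 = n36352 := d11_1 D36486 F168057 (iv F161663)
theorem F168840 : act 2 n36486 = n34904 := d18_1 D36486 (iv D34904) (iv F161664)
theorem F168841 : act 7 n36486 = n36486 := d32_2 F161666 D36486 (iv D36486)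
theorem F168842 : act 8 n36486 = n36342 := d33_2 (iv F161667) D36486 (iv D36342)
theorem F168843 : act 9 n36486 = n36340 := d34_2 (iv F161668) D36486 (iv D36340)
def n36487 : Q := act 5 n34897
theorem D36487 : act 5 n34897 = n36487 := rfl
theorem F168844 : act 0 n36487 = n35856 := d4_1 D36487 (iv D35856) (iv F161669)
theorem F168845 : act 1 n36487 = n35653 := d12_1 D36487 F165572 (iv F161670)
theorem F168846 : act 3 n36487 = n34909 := d25_1 D36487 (iv D34909) (iv F161671)
theorem F168847 : act 7 n36487 = n36487 := d36_2 F161674 D36487 (iv D36487)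
theorem F168848 : act 8 n36487 = n34898 := d37_2 D34897 D36487 (iv D34898) (iv D33156) D33155
theorem F168849 : act 9 n36487 = n35642 := d38_2 (iv F161675) D36487 (iv D35642)
def n36488 : Q := act 4 n34898
theorem D36488 : act 4 n34898 = n36488 := rfl
theorem F168850 : act 0 n36488 = n35865 := d3_1 D36488 (iv D35865) (iv F161676)
theorem F168851 : act 5 n36488 = n34904 := d30_2 D34898 D36488 (iv D34904) (iv D33161) (iv F153789)
theorem F168852 : act 7 n36488 = n36488 := d32_2 F161678 D36488 (iv D36488)
def n36489 : Q := act 6 n34898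
theorem D36489 : act 6 n34898 = n36489 := rfl
theorem F168853 : act 0 n36489 = n35866 := d5_1 D36489 (iv D35866) (iv F161676)
theorem F168854 : act 3 n36489 = n34911 := d26_1 D36489 (iv D34911) (iv F161677)
theorem F168855 : act 5 n36489 = n34900 := d35_1 D36489 (iv D34900) (iv D33157) (iv F153790) D34898
def n36490 : Q := act 9 n34898
theorem D36490 : act 9 n34898 = n36490 := rfl
theorem F168856 : act 0 n36490 = n35867 := d8_1 D36490 (iv D35867) (iv F161676)
theorem F168857 : act 1 n36490 = n35873 := d16_1 D36490 (iv F168487) F168483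
theorem F168858 : act 2 n36490 = n36337 := d23_1 D36490 (iv F168824) F168821
theorem F168859 : act 3 n36490 = n34912 := d29_1 D36490 (iv D34912) (iv F161677)
theorem F168860 : act 5 n36490 = n34899 := d38_1 D36490 (iv D34899) D34898
theorem F168861 : act 7 n36490 = n36490 := d43_1 D36490 (iv D36490) F161678
theorem F168862 : act 8 n36490 = n35785 := d44_1 D36490 (iv D35785) (iv F165514) (iv F168849) F168848
def n36491 : Q := act 7 n34900
theorem D36491 : act 7 n34900 = n36491 := rfl
theorem F168863 : act 0 n36491 = n35868 := d6_1 D36491 (iv D35868) (iv F161687)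
theorem F168864 : act 3 n36491 = n34913 := d27_1 D36491 (iv D34913) (iv F161688)
theorem F168865 : act 6 n36491 = n34902 := d39_1 D36491 (iv D34902) (iv D33159) (iv F153794) D34900
theorem F168866 : act 8 n36491 = n35542 := d42_2 (iv F161689) D36491 (iv D35542)
def n36492 : Q := act 9 n34900
theorem D36492 : act 9 n34900 = n36492 := rfl
theorem F168867 : act 0 n36492 = n35869 := d8_1 D36492 (iv D35869) (iv F161687)
theorem F168868 : act 2 n36492 = n36338 := d23_1 D36492 (iv F168830) F168827
theorem F168869 : act 3 n36492 = n34914 := d29_1 D36492 (iv D34914) (iv F161688)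
theorem F168870 : act 6 n36492 = n34901 := d41_1 D36492 (iv D34901) D34900
def n36493 : Q := act 9 n34902
theorem D36493 : act 9 n34902 = n36493 := rfl
theorem F168871 : act 0 n36493 = n35870 := d8_1 D36493 (iv D35870) (iv F161695)
theorem F168872 : act 1 n36493 = n35468 := d16_1 D36493 (iv F168498) F168493
theorem F168873 : act 2 n36493 = n36339 := d23_1 D36493 (iv F168837) F168833
theorem F168874 : act 3 n36493 = n34916 := d29_1 D36493 (iv D34916) (iv F161696)
theorem F168875 : act 5 n36493 = n36493 := d38_1 D36493 (iv D36493) F161697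
theorem F168876 : act 7 n36493 = n34903 := d43_1 D36493 (iv D34903) D34902
theorem F168877 : act 8 n36493 = n35463 := d44_1 D36493 F164642 (iv F164537) F164538 (iv F161698)
def n36494 : Q := act 3 n34904
theorem D36494 : act 3 n34904 = n36494 := rfl
theorem F168878 : act 0 n36494 = n35871 := d2_1 D36494 (iv D35871) (iv F161706)
theorem F168879 : act 4 n36494 = n34906 := d24_2 D34904 D36494 (iv D34906) (iv D33163) (iv F153811)
theorem F168880 : act 7 n36494 = n36494 := d27_2 F161707 D36494 (iv D36494)
theorem F168881 : act 8 n36494 = n36351 := d28_2 (iv F161708) D36494 (iv D36351)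
def n36495 : Q := act 9 n34904
theorem D36495 : act 9 n34904 = n36495 := rfl
theorem F168882 : act 0 n36495 = n35872 := d8_1 D36495 (iv D35872) (iv F161706)
theorem F168883 : act 2 n36495 = n36340 := d23_1 D36495 (iv F168843) F168840
theorem F168884 : act 4 n36495 = n34905 := d34_1 D36495 (iv D34905) D34904
theorem F168885 : act 7 n36495 = n36495 := d43_1 D36495 (iv D36495) F161707
def n36496 : Q := act 2 n34906
theorem D36496 : act 2 n34906 = n36496 := rfl
theorem F168886 : act 0 n36496 = n35874 := d1_1 D36496 (iv D35874) (iv F161714)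
theorem F168887 : act 1 n36496 = n36115 := d9_1 D36496 F167305 (iv F161939) (iv F168283) F168282
theorem F168888 : act 3 n36496 = n34941 := d17_2 D34906 D36496 (iv D34941) (iv D33198) (iv F153821)
theorem F168889 : act 5 n36496 = n34920 := d19_2 (iv F161715) D36496 (iv D34920)
theorem F168890 : act 7 n36496 = n36496 := d21_2 F161716 D36496 (iv D36496)
theorem F168891 : act 8 n36496 = n36336 := d22_2 (iv F161717) D36496 F168015
theorem F168892 : act 9 n36110 = n36496 := d44_0 F168891 (iv D36336) (iv D34701) (iv F160583) (iv F167294)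
def n36497 : Q := act 9 n34906
theorem D36497 : act 9 n34906 = n36497 := rfl
theorem F168893 : act 0 n36497 = n35875 := d8_1 D36497 (iv D35875) (iv F161714)
theorem F168894 : act 1 n36497 = n35986 := d16_1 D36497 (iv F168286) F168282
theorem F168895 : act 2 n36497 = n36110 := d23_1 D36497 F168892 (iv D36496)
theorem F168896 : act 3 n36497 = n34907 := d29_1 D36497 (iv D34907) D34906
theorem F168897 : act 5 n36497 = n34921 := d38_1 D36497 (iv D34921) (iv F161715)
theorem F168898 : act 7 n36497 = n36497 := d43_1 D36497 (iv D36497) F161716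
theorem F168899 : act 8 n36497 = n36181 := d44_1 D36497 F167610 D36184 (iv F167620) (iv F161717)
def n36498 : Q := act 4 n34909
theorem D36498 : act 4 n34909 = n36498 := rfl
theorem F168900 : act 0 n36498 = n35876 := d3_1 D36498 (iv D35876) (iv F161732)
theorem F168901 : act 1 n36498 = n35259 := d11_1 D36498 F163650 (iv F161733)
theorem F168902 : act 2 n36498 = n36498 := d18_1 D36498 (iv D36498) F161734
theorem F168903 : act 5 n36498 = n36498 := d30_2 D34909 D36498 (iv D36498) (iv D34909) F153832
theorem F168904 : act 7 n36498 = n36498 := d32_2 F161735 D36498 (iv D36498)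
theorem F168905 : act 8 n36498 = n34910 := d33_2 (iv F161736) D36498 (iv D34910)
theorem F168906 : act 9 n36498 = n35643 := d34_2 (iv F161737) D36498 (iv D35643)
def n36499 : Q := act 6 n34909
theorem D36499 : act 6 n34909 = n36499 := rfl
theorem F168907 : act 0 n36499 = n35877 := d5_1 D36499 (iv D35877) (iv F161732)
theorem F168908 : act 1 n36499 = n35503 := d13_1 D36499 F164828 (iv F161733)
theorem F168909 : act 2 n36499 = n36499 := d20_1 D36499 (iv D36499) F161734
theorem F168910 : act 5 n36499 = n35369 := d35_1 D36499 F164236 F156266 (iv F153833) D34909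
theorem F168911 : act 8 n36499 = n34911 := d40_2 (iv F161736) D36499 (iv D34911)
theorem F168912 : act 9 n36499 = n35368 := d41_2 (iv F161737) D36499 F164231
def n36500 : Q := act 3 n34910
theorem D36500 : act 3 n34910 = n36500 := rfl
theorem F168913 : act 0 n36500 = n35878 := d2_1 D36500 (iv D35878) (iv F161738)
theorem F168914 : act 1 n36500 = n35258 := d10_1 D36500 F163646 (iv F161739)
theorem F168915 : act 5 n36500 = n34917 := d25_2 (iv F161741) D36500 (iv D34917)
theorem F168916 : act 7 n36500 = n36500 := d27_2 F161742 D36500 (iv D36500)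
def n36501 : Q := act 6 n34910
theorem D36501 : act 6 n34910 = n36501 := rfl
theorem F168917 : act 0 n36501 = n35879 := d5_1 D36501 (iv D35879) (iv F161738)
theorem F168918 : act 1 n36501 = n35232 := d13_1 D36501 F163491 (iv F161739)
theorem F168919 : act 2 n36501 = n36501 := d20_1 D36501 (iv D36501) F161740
theorem F168920 : act 4 n36501 = n34911 := d31_1 D36501 (iv D34911) D34910
theorem F168921 : act 5 n36501 = n35225 := d35_1 D36501 (iv D35225) F155500 (iv F153873) (iv F161741)
def n36502 : Q := act 9 n34910
theorem D36502 : act 9 n34910 = n36502 := rfl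
theorem F168922 : act 0 n36502 = n35880 := d8_1 D36502 (iv D35880) (iv F161738)
theorem F168923 : act 1 n36502 = n35253 := d16_1 D36502 F163615 (iv F161739)
theorem F168924 : act 2 n36502 = n36502 := d23_1 D36502 (iv D36502) F161740
theorem F168925 : act 4 n36502 = n34912 := d34_1 D36502 (iv D34912) D34910
theorem F168926 : act 5 n36502 = n34918 := d38_1 D36502 (iv D34918) (iv F161741)
theorem F168927 : act 7 n36502 = n36502 := d43_1 D36502 (iv D36502) F161742
theorem F168928 : act 8 n36502 = n35787 := d44_1 D36502 (iv D35787) (iv F165519) (iv F168906) F168905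
def n36503 : Q := act 7 n34911
theorem D36503 : act 7 n34911 = n36503 := rfl
theorem F168929 : act 0 n36503 = n35881 := d6_1 D36503 (iv D35881) (iv F161743)
theorem F168930 : act 2 n36503 = n36503 := d21_1 D36503 (iv D36503) F161744
theorem F168931 : act 5 n36503 = n34913 := d36_1 D36503 (iv D34913) (iv F161745)
theorem F168932 : act 6 n36503 = n36503 := d39_1 D36503 (iv D36503) (iv D34911) F153838 D34911
def n36504 : Q := act 9 n34911
theorem D36504 : act 9 n34911 = n36504 := rfl
theorem F168933 : act 0 n36504 = n35882 := d8_1 D36504 (iv D35882) (iv F161743)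
theorem F168934 : act 1 n36504 = n35855 := d16_1 D36504 (iv F168514) F168509
theorem F168935 : act 2 n36504 = n36504 := d23_1 D36504 (iv D36504) F161744
theorem F168936 : act 5 n36504 = n34914 := d38_1 D36504 (iv D34914) (iv F161745)
theorem F168937 : act 6 n36504 = n34912 := d41_1 D36504 (iv D34912) D34911
theorem F168938 : act 8 n36504 = n35783 := d44_1 D36504 (iv D35783) (iv F164232) (iv F168912) F168911
def n36505 : Q := act 9 n34913
theorem D36505 : act 9 n34913 = n36505 := rfl
theorem F168939 : act 0 n36505 = n35883 := d8_1 D36505 (iv D35883) (iv F161752)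
theorem F168940 : act 1 n36505 = n35578 := d16_1 D36505 F168521 F168516
theorem F168941 : act 2 n36505 = n36505 := d23_1 D36505 (iv D36505) F161753
theorem F168942 : act 4 n36505 = n36370 := d34_1 D36505 F168251 F168247
theorem F168943 : act 6 n36505 = n34916 := d41_1 D36505 (iv D34916) (iv F161754)
theorem F168944 : act 7 n36505 = n34914 := d43_1 D36505 (iv D34914) D34913
theorem F168945 : act 8 n36505 = n35575 := d44_1 D36505 F165154 (iv F164052) (iv F164053) (iv F161755)
def n36506 : Q := act 8 n34914
theorem D36506 : act 8 n34914 = n36506 := rfl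
theorem F168946 : act 0 n36506 = n35606 := d7_1 D36506 F165310 (iv F161756)
theorem F168947 : act 1 n36506 = n35486 := d15_1 D36506 (iv F168529) F168523
theorem F168948 : act 2 n36506 = n36506 := d22_1 D36506 (iv D36506) F161757
theorem F168949 : act 5 n36506 = n35355 := d37_1 D36506 F164176 (iv F166122) (iv F168938) F168936
theorem F168950 : act 6 n36506 = n34915 := d40_1 D36506 (iv D34915) (iv F161758)
theorem F168951 : act 7 n36506 = n35575 := d42_1 D36506 (iv F168945) F168944
theorem F168952 : act 9 n36506 = n35354 := d44_2 D34914 D36506 F164172 (iv F156333) (iv F153848)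
def n36507 : Q := act 2 n34917
theorem D36507 : act 2 n34917 = n36507 := rfl
theorem F168953 : act 0 n36507 = n35884 := d1_1 D36507 (iv D35884) (iv F161772)
theorem F168954 : act 1 n36507 = n35630 := d9_1 D36507 F165446 F157497 (iv F155746) (iv F161773)
theorem F168955 : act 3 n36507 = n36507 := d17_2 D34917 D36507 (iv D36507) (iv D34917) F153872
theorem F168956 : act 4 n36507 = n34920 := d18_2 (iv F161774) D36507 (iv D34920)
theorem F168957 : act 6 n36507 = n35257 := d20_2 (iv F161775) D36507 F163639
theorem F168958 : act 7 n36507 = n36507 := d21_2 F161776 D36507 (iv D36507)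
theorem F168959 : act 8 n36507 = n36507 := d22_2 F161777 D36507 (iv D36507)
theorem F168960 : act 9 n36108 = n36507 := d41_0 F168957 F163643 (iv F167286)
def n36508 : Q := act 9 n34917
theorem D36508 : act 9 n34917 = n36508 := rfl
theorem F168961 : act 0 n36508 = n35885 := d8_1 D36508 (iv D35885) (iv F161772)
theorem F168962 : act 1 n36508 = n35252 := d16_1 D36508 F163610 (iv F161773)
theorem F168963 : act 2 n36508 = n36108 := d23_1 D36508 F168960 (iv D36507)
theorem F168964 : act 3 n36508 = n34918 := d29_1 D36508 (iv D34918) D34917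
theorem F168965 : act 4 n36508 = n34921 := d34_1 D36508 (iv D34921) (iv F161774)
theorem F168966 : act 6 n36508 = n35250 := d41_1 D36508 F163595 (iv F161775)
theorem F168967 : act 7 n36508 = n36508 := d43_1 D36508 (iv D36508) F161776
theorem F168968 : act 8 n35985 = n36508 := d40_0 F168966 F163594 D35985
def n36509 : Q := act 8 n34918
theorem D36509 : act 8 n34918 = n36509 := rfl
theorem F168969 : act 0 n36509 = n35886 := d7_1 D36509 (iv D35886) (iv F161778)
theorem F168970 : act 1 n36509 = n35254 := d15_1 D36509 (iv D35254) (iv F161779)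
theorem F168971 : act 2 n36509 = n36509 := d22_1 D36509 (iv D36509) F161780
theorem F168972 : act 3 n36509 = n35985 := d28_1 D36509 F168968 F168964
theorem F168973 : act 4 n36509 = n34919 := d33_1 D36509 (iv D34919) (iv F161781)
theorem F168974 : act 5 n36509 = n35793 := d37_1 D36509 (iv D35793) (iv F166136) (iv F168928) F168926
theorem F168975 : act 6 n36509 = n35251 := d40_1 D36509 (iv D35251) (iv F161782)
theorem F168976 : act 7 n36509 = n36509 := d42_1 D36509 (iv D36509) F161783
theorem F168977 : act 9 n36509 = n36509 := d44_2 D34918 D36509 (iv D36509) (iv D34918) F153875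
def n36510 : Q := act 6 n34922
theorem D36510 : act 6 n34922 = n36510 := rfl
theorem F168978 : act 0 n36510 = n35894 := d5_1 D36510 (iv D35894) (iv F161806)
theorem F168979 : act 1 n36510 = n36022 := d13_1 D36510 F167007 (iv F161807)
theorem F168980 : act 2 n36510 = n36281 := d20_1 D36510 F167888 (iv F161808)
theorem F168981 : act 3 n36510 = n34923 := d26_1 D36510 (iv D34923) (iv F161809)
theorem F168982 : act 7 n36510 = n34928 := d39_2 D34922 D36510 (iv D34928) (iv D33186) (iv F153905)
theorem F168983 : act 8 n36510 = n36044 := d40_2 (iv F161811) D36510 F167088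
theorem F168984 : act 9 n36510 = n35934 := d41_2 (iv F161812) D36510 F166646
def n36511 : Q := act 5 n34923
theorem D36511 : act 5 n34923 = n36511 := rfl
theorem F168985 : act 0 n36511 = n35895 := d4_1 D36511 (iv D35895) (iv F161813)
theorem F168986 : act 1 n36511 = n36024 := d12_1 D36511 F167015 (iv F161814)
theorem F168987 : act 2 n36511 = n34925 := d19_1 D36511 (iv D34925) (iv F161815)
theorem F168988 : act 4 n36511 = n36318 := d30_1 D36511 (iv D36318) F160424 (iv F153918) (iv F161816)
theorem F168989 : act 6 n36511 = n36511 := d35_2 D34923 D36511 (iv D36511) (iv D34923) F153912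
theorem F168990 : act 7 n36511 = n34930 := d36_2 (iv F161817) D36511 (iv D34930)
theorem F168991 : act 9 n36511 = n35935 := d38_2 (iv F161819) D36511 (iv D35935)
def n36512 : Q := act 5 n34924
theorem D36512 : act 5 n34924 = n36512 := rfl
theorem F168992 : act 0 n36512 = n35896 := d4_1 D36512 (iv D35896) (iv F161820)
theorem F168993 : act 1 n36512 = n36256 := d12_1 D36512 F167824 (iv F161821)
theorem F168994 : act 2 n36512 = n34926 := d19_1 D36512 (iv D34926) (iv F161822)
theorem F168995 : act 6 n36512 = n36512 := d35_2 (iv F161824) D36512 (iv D36512) F161824 F153925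
theorem F168996 : act 7 n36512 = n34932 := d36_2 (iv F161825) D36512 (iv D34932)
theorem F168997 : act 8 n36512 = n36319 := d37_2 D34924 D36512 (iv D36319) (iv D34657) (iv F153918)
theorem F168998 : act 9 n36512 = n36031 := d38_2 (iv F161826) D36512 (iv D36031)
def n36513 : Q := act 8 n34925
theorem D36513 : act 8 n34925 = n36513 := rfl
theorem F168999 : act 0 n36513 = n35897 := d7_1 D36513 (iv D35897) (iv F161827)
theorem F169000 : act 1 n36513 = n36372 := d15_1 D36513 (iv D36372) (iv F161828)
theorem F169001 : act 3 n36513 = n36150 := d28_1 D36513 F167477 (iv F161829)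
theorem F169002 : act 4 n36513 = n36178 := d33_1 D36513 F167596 (iv F161830)
theorem F169003 : act 5 n36513 = n36157 := d37_1 D36513 F167515 F159828 (iv F153933) D34925
theorem F169004 : act 6 n36513 = n36513 := d40_1 D36513 (iv D36513) F161831
theorem F169005 : act 7 n36513 = n34933 := d42_1 D36513 (iv D34933) (iv F161832)
theorem F169006 : act 9 n36513 = n36166 := d44_2 (iv F161833) D36513 (iv D36166) (iv D34475) (iv F159794)
def n36514 : Q := act 4 n34926
theorem D36514 : act 4 n34926 = n36514 := rfl
theorem F169007 : act 0 n36514 = n35898 := d3_1 D36514 (iv D35898) (iv F161834)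
theorem F169008 : act 1 n36514 = n36376 := d11_1 D36514 F168147 (iv F161835)
theorem F169009 : act 3 n36514 = n36166 := d24_1 D36514 F167554 F159916 (iv F153944) (iv F161836)
theorem F169010 : act 5 n36514 = n36158 := d30_2 D34926 D36514 F167519 F159828 (iv F153938)
theorem F169011 : act 6 n36514 = n36514 := d31_2 F161837 D36514 (iv D36514)
theorem F169012 : act 7 n36514 = n34935 := d32_2 (iv F161838) D36514 (iv D34935)
theorem F169013 : act 8 n36514 = n36164 := d33_2 (iv F161839) D36514 F167542
theorem F169014 : act 9 n36514 = n36150 := d34_2 (iv F161840) D36514 (iv D36150)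
def n36515 : Q := act 5 n34928
theorem D36515 : act 5 n34928 = n36515 := rfl
theorem F169015 : act 0 n36515 = n35902 := d4_1 D36515 (iv D35902) (iv F161849)
theorem F169016 : act 1 n36515 = n36095 := d12_1 D36515 F167235 (iv F161850)
theorem F169017 : act 3 n36515 = n34930 := d25_1 D36515 (iv D34930) (iv F161851)
theorem F169018 : act 6 n36515 = n34942 := d35_2 D34928 D36515 (iv D34942) (iv D33202) (iv F153958)
theorem F169019 : act 9 n36515 = n35977 := d38_2 (iv F161852) D36515 (iv D35977)
def n36516 : Q := act 8 n34928
theorem D36516 : act 8 n34928 = n36516 := rfl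
theorem F169020 : act 0 n36516 = n35903 := d7_1 D36516 (iv D35903) (iv F161849)
theorem F169021 : act 1 n36516 = n36065 := d15_1 D36516 F167156 (iv F161850)
theorem F169022 : act 2 n36516 = n36272 := d22_1 D36516 (iv F168271) F168268
theorem F169023 : act 3 n36516 = n34931 := d28_1 D36516 (iv D34931) (iv F161851)
theorem F169024 : act 6 n36516 = n34929 := d40_1 D36516 (iv D34929) D34928
theorem F169025 : act 7 n36516 = n36044 := d42_1 D36516 (iv F168983) F168982
theorem F169026 : act 9 n36516 = n35962 := d44_2 (iv F161852) D36516 (iv D35962) F159035 D34266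
def n36517 : Q := act 8 n34930
theorem D36517 : act 8 n34930 = n36517 := rfl
theorem F169027 : act 0 n36517 = n35904 := d7_1 D36517 (iv D35904) (iv F161860)
theorem F169028 : act 1 n36517 = n36098 := d15_1 D36517 (iv D36098) (iv F161861)
theorem F169029 : act 2 n36517 = n34933 := d22_1 D36517 (iv D34933) (iv F161862)
theorem F169030 : act 4 n36517 = n36172 := d33_1 D36517 F167575 (iv F161863)
theorem F169031 : act 6 n36517 = n34943 := d40_1 D36517 (iv D34943) (iv F161864)
def n36518 : Q := act 5 n34931
theorem D36518 : act 5 n34931 = n36518 := rfl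
theorem F169032 : act 0 n36518 = n35905 := d4_1 D36518 (iv D35905) (iv F161866)
theorem F169033 : act 1 n36518 = n36067 := d12_1 D36518 F167163 (iv F161867)
theorem F169034 : act 2 n36518 = n34934 := d19_1 D36518 (iv D34934) (iv F161868)
theorem F169035 : act 6 n36518 = n36518 := d35_2 (iv F161870) D36518 (iv D36518) F161870 F153976
theorem F169036 : act 7 n36518 = n36046 := d36_2 (iv F161871) D36518 F167094
theorem F169037 : act 9 n36518 = n35963 := d38_2 (iv F161872) D36518 (iv D35963)
def n36519 : Q := act 4 n34932
theorem D36519 : act 4 n34932 = n36519 := rfl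
theorem F169038 : act 0 n36519 = n35906 := d3_1 D36519 (iv D35906) (iv F161873)
theorem F169039 : act 1 n36519 = n36175 := d11_1 D36519 F167583 (iv F161874)
theorem F169040 : act 2 n36519 = n34935 := d18_1 D36519 (iv D34935) (iv F161875)
theorem F169041 : act 6 n36519 = n34939 := d31_2 (iv F161876) D36519 (iv D34939)
theorem F169042 : act 8 n36519 = n36171 := d33_2 (iv F161877) D36519 F167570
theorem F169043 : act 9 n36519 = n36203 := d34_2 (iv F161878) D36519 (iv D36203)
def n36520 : Q := act 5 n34933
theorem D36520 : act 5 n34933 = n36520 := rfl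
theorem F169044 : act 0 n36520 = n35908 := d4_1 D36520 (iv D35908) (iv F161879)
theorem F169045 : act 1 n36520 = n36374 := d12_1 D36520 F168130 (iv F161880)
theorem F169046 : act 3 n36520 = n36131 := d25_1 D36520 F167371 (iv F161881)
theorem F169047 : act 4 n36520 = n36148 := d30_1 D36520 F167463 F159730 (iv F160525) (iv F161882)
theorem F169048 : act 6 n36520 = n36520 := d35_2 (iv F161883) D36520 (iv D36520) F161883 F154069
theorem F169049 : act 7 n36520 = n36157 := d36_2 F169005 D36520 (iv F169003)
theorem F169050 : act 8 n36520 = n34934 := d37_2 D34933 D36520 (iv D34934) (iv D33192) D33191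
theorem F169051 : act 9 n36147 = n36520 := d44_0 F169050 F161889 F159623 D34446 (iv F167460)
def n36521 : Q := act 9 n34933
theorem D36521 : act 9 n34933 = n36521 := rfl
theorem F169052 : act 0 n36521 = n35909 := d8_1 D36521 (iv D35909) (iv F161879)
theorem F169053 : act 1 n36521 = n36373 := d16_1 D36521 F168127 (iv F161880)
theorem F169054 : act 3 n36521 = n34935 := d29_1 D36521 F161894 (iv F161881)
theorem F169055 : act 4 n36521 = n34936 := d34_1 D36521 (iv F161901) (iv F161882)
theorem F169056 : act 5 n36521 = n36147 := d38_1 D36521 F169051 (iv D36520)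
theorem F169057 : act 6 n36521 = n34940 := d41_1 D36521 F161931 (iv F161883)
theorem F169058 : act 7 n36521 = n36166 := d43_1 D36521 (iv F169006) F169005
theorem F169059 : act 8 n36521 = n36137 := d44_1 D36521 (iv D36137) F159667 (iv F153988) D34933
def n36522 : Q := act 4 n34934
theorem D36522 : act 4 n34934 = n36522 := rfl
theorem F169060 : act 0 n36522 = n35910 := d3_1 D36522 (iv D35910) (iv F161884)
theorem F169061 : act 1 n36522 = n36375 := d11_1 D36522 F168139 (iv F161885)
theorem F169062 : act 3 n36522 = n36147 := d24_1 D36522 (iv D36147) F159725 D34445 (iv F161886)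
theorem F169063 : act 5 n36522 = n34935 := d30_2 D34934 D36522 (iv D34935) (iv D33193) (iv F153992)
theorem F169064 : act 6 n36522 = n36522 := d31_2 F161887 D36522 (iv D36522)
theorem F169065 : act 7 n36522 = n36158 := d32_2 (iv F161888) D36522 F167519
theorem F169066 : act 8 n36522 = n36148 := d33_2 F169050 D36522 (iv F169047)
theorem F169067 : act 9 n36522 = n36131 := d34_2 (iv F161889) D36522 (iv D36131)
def n36523 : Q := act 2 n34936
theorem D36523 : act 2 n34936 = n36523 := rfl
theorem F169068 : act 0 n36523 = n35911 := d1_1 D36523 (iv D35911) (iv F161895)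
theorem F169069 : act 1 n36523 = n36177 := d9_1 D36523 F167588 F159927 (iv F160902) (iv F161896)
theorem F169070 : act 5 n36523 = n36143 := d19_2 (iv F161897) D36523 F167436
theorem F169071 : act 6 n36523 = n34941 := d20_2 (iv F161898) D36523 (iv D34941)
theorem F169072 : act 7 n36523 = n36176 := d21_2 (iv F161899) D36523 F167586
theorem F169073 : act 8 n36523 = n36328 := d22_2 (iv F161900) D36523 (iv D36328)
theorem F169074 : act 9 n36523 = n36172 := d23_2 F161901 D36523 F167573
def n36524 : Q := act 3 n34939
theorem D36524 : act 3 n34939 = n36524 := rfl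
theorem F169075 : act 0 n36524 = n35912 := d2_1 D36524 (iv D35912) (iv F161918)
theorem F169076 : act 1 n36524 = n36184 := d10_1 D36524 F167617 (iv F161919)
theorem F169077 : act 5 n36524 = n36524 := d25_2 F161921 D36524 (iv D36524)
theorem F169078 : act 7 n36524 = n36524 := d27_2 F161922 D36524 (iv D36524)
theorem F169079 : act 8 n36524 = n36182 := d28_2 (iv F161923) D36524 F167612
theorem F169080 : act 9 n36524 = n36341 := d29_2 (iv F161924) D36524 (iv D36341)
def n36525 : Q := act 2 n34940
theorem D36525 : act 2 n34940 = n36525 := rfl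
theorem F169081 : act 0 n36525 = n35913 := d1_1 D36525 (iv D35913) (iv F161925)
theorem F169082 : act 1 n36525 = n36107 := d9_1 D36525 F167278 F159931 (iv F160871) (iv F161926)
theorem F169083 : act 4 n36525 = n34941 := d18_2 (iv F161927) D36525 (iv D34941)
theorem F169084 : act 5 n36525 = n36525 := d19_2 F161928 D36525 (iv D36525)
theorem F169085 : act 7 n36525 = n36525 := d21_2 F161929 D36525 (iv D36525)
theorem F169086 : act 8 n36525 = n35984 := d22_2 (iv F161930) D36525 F166878
theorem F169087 : act 9 n36525 = n34943 := d23_2 (iv F161931) D36525 F161945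
def n36526 : Q := act 4 n34942
theorem D36526 : act 4 n34942 = n36526 := rfl
theorem F169088 : act 0 n36526 = n35918 := d3_1 D36526 (iv D35918) (iv F161938)
theorem F169089 : act 1 n36526 = n36121 := d11_1 D36526 F167321 (iv F161939)
theorem F169090 : act 3 n36526 = n36334 := d24_1 D36526 (iv D36334) F160581 (iv F154062) (iv F161940)
theorem F169091 : act 5 n36526 = n35633 := d30_2 D34942 D36526 (iv D35633) (iv D33883) (iv F154055)
theorem F169092 : act 7 n36526 = n36526 := d32_2 F161941 D36526 (iv D36526)
theorem F169093 : act 9 n36526 = n35987 := d34_2 (iv F161942) D36526 (iv D35987)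
def n36527 : Q := act 8 n34942
theorem D36527 : act 8 n34942 = n36527 := rfl
theorem F169094 : act 0 n36527 = n35919 := d7_1 D36527 (iv D35919) (iv F161938)
theorem F169095 : act 1 n36527 = n36122 := d15_1 D36527 (iv D36122) (iv F161939)
theorem F169096 : act 2 n36527 = n36341 := d22_1 D36527 F168287 F168283
theorem F169097 : act 3 n36527 = n34943 := d28_1 D36527 (iv D34943) (iv F161940)
theorem F169098 : act 5 n36527 = n36527 := d37_1 D36527 (iv D36527) (iv D34942) F154057 D34942
theorem F169099 : act 7 n36527 = n36527 := d42_1 D36527 (iv D36527) F161941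
def n36528 : Q := act 4 n34946
theorem D36528 : act 4 n34946 = n36528 := rfl
theorem F169100 : act 0 n36528 = n35327 := d3_1 D36528 F164033 (iv F161967)
theorem F169101 : act 1 n36528 = n34948 := d11_1 D36528 (iv D34948) (iv F161968)
theorem F169102 : act 2 n36528 = n35920 := d18_1 D36528 (iv D35920) (iv F161969)
theorem F169103 : act 5 n36528 = n35266 := d30_2 D34946 D36528 F163695 F155802 (iv F154181)
theorem F169104 : act 6 n36528 = n36208 := d31_2 (iv F161971) D36528 (iv D36208)
theorem F169105 : act 8 n36528 = n35945 := d33_2 (iv F161972) D36528 F166703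
theorem F169106 : act 9 n36528 = n35794 := d34_2 (iv F161973) D36528 (iv D35794)
theorem F169107 : act 3 n36215 = n36528 := d28_3 F169105 F166702 (iv F167711)
def n36529 : Q := act 7 n34946
theorem D36529 : act 7 n34946 = n36529 := rfl
theorem F169108 : act 0 n36529 = n35673 := d6_1 D36529 F165690 (iv F161967)
theorem F169109 : act 1 n36529 = n34949 := d14_1 D36529 (iv D34949) (iv F161968)
theorem F169110 : act 2 n36529 = n35921 := d21_1 D36529 (iv D35921) (iv F161969)
theorem F169111 : act 3 n36529 = n36529 := d27_1 D36529 (iv D36529) F161970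
theorem F169112 : act 5 n36529 = n34947 := d36_1 D36529 (iv D34947) D34946
theorem F169113 : act 8 n36529 = n35980 := d42_2 (iv F161972) D36529 F166862
theorem F169114 : act 9 n36529 = n35795 := d43_2 (iv F161973) D36529 (iv D35795)
def n36530 : Q := act 3 n34948
theorem D36530 : act 3 n34948 = n36530 := rfl
theorem F169115 : act 0 n36530 = n34967 := d2_1 D36530 (iv D34967) (iv F161982)
theorem F169116 : act 1 n36530 = n36215 := d10_1 D36530 F169107 F169101
theorem F169117 : act 2 n36530 = n35295 := d17_1 D36530 (iv D35295) F155940 (iv F154199) (iv F161983)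
theorem F169118 : act 4 n36530 = n36530 := d24_2 D34948 D36530 (iv D36530) (iv D34948) F154186
theorem F169119 : act 5 n36530 = n35058 := d25_2 (iv F161984) D36530 F162611
theorem F169120 : act 6 n36530 = n36210 := d26_2 (iv F161985) D36530 (iv D36210)
theorem F169121 : act 8 n36530 = n36029 := d28_2 (iv F161986) D36530 F167036
theorem F169122 : act 9 n36530 = n35796 := d29_2 (iv F161987) D36530 (iv D35796)
def n36531 : Q := act 7 n34948
theorem D36531 : act 7 n34948 = n36531 := rfl
theorem F169123 : act 0 n36531 = n34968 := d6_1 D36531 (iv D34968) (iv F161982)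
theorem F169124 : act 2 n36531 = n34950 := d21_1 D36531 (iv D34950) (iv F161983)
theorem F169125 : act 4 n36531 = n34949 := d32_1 D36531 (iv D34949) D34948
theorem F169126 : act 5 n36531 = n35418 := d36_1 D36531 (iv D35418) (iv F161984)
theorem F169127 : act 8 n36531 = n36040 := d42_2 (iv F161986) D36531 F167076
theorem F169128 : act 9 n36531 = n35797 := d43_2 (iv F161987) D36531 (iv D35797)
def n36532 : Q := act 6 n34949
theorem D36532 : act 6 n34949 = n36532 := rfl
theorem F169129 : act 0 n36532 = n34970 := d5_1 D36532 (iv D34970) (iv F161988)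
theorem F169130 : act 2 n36532 = n34952 := d20_1 D36532 (iv D34952) (iv F161989)
theorem F169131 : act 3 n36532 = n36532 := d26_1 D36532 (iv D36532) F161990
theorem F169132 : act 5 n36532 = n35407 := d35_1 D36532 (iv D35407) F156446 (iv F154194) (iv F161991)
theorem F169133 : act 7 n36532 = n36212 := d39_2 D34949 D36532 (iv D36212) (iv D34545) (iv F154187)
theorem F169134 : act 8 n36532 = n36101 := d40_2 (iv F161992) D36532 (iv D36101)
theorem F169135 : act 9 n36532 = n35799 := d41_2 (iv F161993) D36532 (iv D35799)
def n36533 : Q := act 6 n34950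
theorem D36533 : act 6 n34950 = n36533 := rfl
theorem F169136 : act 0 n36533 = n34973 := d5_1 D36533 (iv D34973) (iv F161994)
theorem F169137 : act 1 n36533 = n35924 := d13_1 D36533 (iv D35924) (iv F161995)
theorem F169138 : act 3 n36533 = n35300 := d26_1 D36533 (iv D35300) (iv F161996)
theorem F169139 : act 4 n36533 = n34952 := d31_1 D36533 (iv D34952) (iv F161997)
theorem F169140 : act 7 n36533 = n36213 := d39_2 D34950 D36533 (iv D36213) (iv D34546) (iv F154201)
theorem F169141 : act 9 n36533 = n35802 := d41_2 (iv F161999) D36533 (iv D35802)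
def n36534 : Q := act 8 n34950
theorem D36534 : act 8 n34950 = n36534 := rfl
theorem F169142 : act 0 n36534 = n34974 := d7_1 D36534 (iv D34974) (iv F161994)
theorem F169143 : act 1 n36534 = n35477 := d15_1 D36534 F164703 (iv F161995)
theorem F169144 : act 2 n36534 = n36040 := d22_1 D36534 (iv F169127) F169124
theorem F169145 : act 3 n36534 = n35301 := d28_1 D36534 (iv D35301) (iv F161996)
theorem F169146 : act 4 n36534 = n34953 := d33_1 D36534 (iv D34953) (iv F161997)
theorem F169147 : act 5 n36534 = n36036 := d37_1 D36534 (iv D36036) F164454 (iv D35421) (iv F161998)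
theorem F169148 : act 7 n36534 = n34951 := d42_1 D36534 (iv D34951) D34950
theorem F169149 : act 9 n35829 = n36534 := d43_0 F169148 (iv F162007) D35829
def n36535 : Q := act 8 n34952
theorem D36535 : act 8 n34952 = n36535 := rfl
theorem F169150 : act 0 n36535 = n34977 := d7_1 D36535 (iv D34977) (iv F162008)
theorem F169151 : act 1 n36535 = n35583 := d15_1 D36535 F165193 (iv F162009)
theorem F169152 : act 2 n36535 = n36101 := d22_1 D36535 (iv F169134) F169130
theorem F169153 : act 3 n36535 = n34954 := d28_1 D36535 (iv D34954) (iv F162010)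
theorem F169154 : act 6 n36535 = n34953 := d40_1 D36535 (iv D34953) D34952
theorem F169155 : act 7 n36535 = n36216 := d42_1 D36535 (iv D36216) (iv F162012)
theorem F169156 : act 9 n35900 = n36535 := d41_0 F169154 (iv F162020) D35900
def n36536 : Q := act 5 n34954
theorem D36536 : act 5 n34954 = n36536 := rfl
theorem F169157 : act 0 n36536 = n34979 := d4_1 D36536 (iv D34979) (iv F162021)
theorem F169158 : act 1 n36536 = n35584 := d12_1 D36536 (iv D35584) (iv F162022)
theorem F169159 : act 2 n36536 = n36536 := d19_1 D36536 (iv D36536) F162023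
theorem F169160 : act 4 n36536 = n35603 := d30_1 D36536 (iv D35603) F157306 F155972 (iv F162024)
theorem F169161 : act 6 n36536 = n34956 := d35_2 (iv F162025) D36536 (iv D34956) F154256 (iv F154226)
theorem F169162 : act 7 n36536 = n36217 := d36_2 (iv F162026) D36536 (iv D36217)
theorem F169163 : act 8 n36536 = n35416 := d37_2 D34954 D36536 (iv D35416) (iv D33658) (iv F154219)
theorem F169164 : act 9 n36536 = n35901 := d38_2 F162027 D36536 (iv D35901)
def n36537 : Q := act 5 n34955
theorem D36537 : act 5 n34955 = n36537 := rfl
theorem F169165 : act 0 n36537 = n34986 := d4_1 D36537 (iv D34986) (iv F162028)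
theorem F169166 : act 1 n36537 = n35625 := d12_1 D36537 (iv D35625) (iv F162029)
theorem F169167 : act 2 n36537 = n36100 := d19_1 D36537 (iv D36100) (iv F162030)
theorem F169168 : act 3 n36537 = n34956 := d25_1 D36537 (iv D34956) (iv F162031)
theorem F169169 : act 7 n36537 = n36537 := d36_2 F162034 D36537 (iv D36537)
theorem F169170 : act 8 n36537 = n35687 := d37_2 D34955 D36537 (iv D35687) (iv D33956) (iv F154242)
theorem F169171 : act 9 n36537 = n35916 := d38_2 F162035 D36537 (iv D35916)
def n36538 : Q := act 3 n34957
theorem D36538 : act 3 n34957 = n36538 := rfl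
theorem F169172 : act 0 n36538 = n36210 := d2_1 D36538 (iv D36210) (iv F162043)
theorem F169173 : act 1 n36538 = n36019 := d10_1 D36538 F166997 (iv F162044)
theorem F169174 : act 2 n36538 = n35319 := d17_1 D36538 (iv D35319) F156096 (iv F154275) (iv F162045)
theorem F169175 : act 4 n36538 = n36538 := d24_2 D34957 D36538 (iv D36538) (iv D34957) F154262
theorem F169176 : act 5 n36538 = n35423 := d25_2 (iv F162046) D36538 (iv D35423)
theorem F169177 : act 6 n36538 = n34967 := d26_2 (iv F162047) D36538 (iv D34967)
theorem F169178 : act 9 n36538 = n35404 := d29_2 (iv F162048) D36538 (iv D35404)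
def n36539 : Q := act 7 n34957
theorem D36539 : act 7 n34957 = n36539 := rfl
theorem F169179 : act 0 n36539 = n36211 := d6_1 D36539 (iv D36211) (iv F162043)
theorem F169180 : act 1 n36539 = n36270 := d14_1 D36539 (iv D36270) (iv F162044)
theorem F169181 : act 2 n36539 = n34960 := d21_1 D36539 (iv D34960) (iv F162045)
theorem F169182 : act 4 n36539 = n34958 := d32_1 D36539 (iv D34958) D34957
theorem F169183 : act 5 n36539 = n35424 := d36_1 D36539 (iv D35424) (iv F162046)
theorem F169184 : act 9 n36539 = n35405 := d43_2 (iv F162048) D36539 (iv D35405)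
def n36540 : Q := act 8 n34957
theorem D36540 : act 8 n34957 = n36540 := rfl
theorem F169185 : act 0 n36540 = n36042 := d7_1 D36540 F167082 (iv F162043)
theorem F169186 : act 1 n36540 = n36232 := d15_1 D36540 F167753 (iv F162044)
theorem F169187 : act 2 n36540 = n34961 := d22_1 D36540 (iv D34961) (iv F162045)
theorem F169188 : act 4 n36540 = n34959 := d33_1 D36540 (iv D34959) D34957
theorem F169189 : act 6 n36540 = n34969 := d40_1 D36540 (iv D34969) (iv F162047)
def n36541 : Q := act 6 n34958
theorem D36541 : act 6 n34958 = n36541 := rfl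
theorem F169190 : act 0 n36541 = n36212 := d5_1 D36541 (iv D36212) (iv F162049)
theorem F169191 : act 1 n36541 = n36367 := d13_1 D36541 F168102 (iv F162050)
theorem F169192 : act 2 n36541 = n34962 := d20_1 D36541 (iv D34962) (iv F162051)
theorem F169193 : act 3 n36541 = n36541 := d26_1 D36541 (iv D36541) F162052
theorem F169194 : act 5 n36541 = n35799 := d35_1 D36541 (iv D35799) F158445 (iv F154270) (iv F162053)
theorem F169195 : act 7 n36541 = n34970 := d39_2 D34958 D36541 (iv D34970) (iv D33240) (iv F154263)
theorem F169196 : act 9 n36541 = n35407 := d41_2 (iv F162054) D36541 (iv D35407)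
def n36542 : Q := act 8 n34958
theorem D36542 : act 8 n34958 = n36542 := rfl
theorem F169197 : act 0 n36542 = n36102 := d7_1 D36542 F167261 (iv F162049)
theorem F169198 : act 1 n36542 = n36359 := d15_1 D36542 F168081 (iv F162050)
theorem F169199 : act 2 n36542 = n34963 := d22_1 D36542 (iv D34963) (iv F162051)
theorem F169200 : act 3 n36542 = n36542 := d28_1 D36542 (iv D36542) F162052
theorem F169201 : act 5 n36542 = n36542 := d37_1 D36542 (iv D36542) F162053 F154271 (iv F162053)
theorem F169202 : act 7 n36542 = n34959 := d42_1 D36542 (iv D34959) D34958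
def n36543 : Q := act 9 n34959
theorem D36543 : act 9 n34959 = n36543 := rfl
theorem F169203 : act 0 n36543 = n35890 := d8_1 D36543 F166485 (iv F162055)
theorem F169204 : act 1 n36543 = n36360 := d16_1 D36543 (iv D36360) (iv F162056)
theorem F169205 : act 2 n36543 = n34964 := d23_1 D36543 (iv D34964) (iv F162057)
theorem F169206 : act 3 n36543 = n36543 := d29_1 D36543 (iv D36543) F162058
theorem F169207 : act 5 n36543 = n36543 := d38_1 D36543 (iv D36543) F162059
theorem F169208 : act 6 n36543 = n34972 := d41_1 D36543 (iv D34972) (iv F162060)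
theorem F169209 : act 8 n36543 = n35409 := d44_1 D36543 (iv D35409) (iv D33652) (iv F154264) D34959
def n36544 : Q := act 6 n34960
theorem D36544 : act 6 n34960 = n36544 := rfl
theorem F169210 : act 0 n36544 = n36213 := d5_1 D36544 (iv D36213) (iv F162061)
theorem F169211 : act 1 n36544 = n35037 := d13_1 D36544 (iv D35037) (iv F162062)
theorem F169212 : act 3 n36544 = n35325 := d26_1 D36544 (iv D35325) (iv F162063)
theorem F169213 : act 4 n36544 = n34962 := d31_1 D36544 (iv D34962) (iv F162064)
theorem F169214 : act 7 n36544 = n34973 := d39_2 D34960 D36544 (iv D34973) (iv D33242) (iv F154277)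
theorem F169215 : act 9 n36544 = n35410 := d41_2 (iv F162066) D36544 (iv D35410)
def n36545 : Q := act 8 n34960
theorem D36545 : act 8 n34960 = n36545 := rfl
theorem F169216 : act 0 n36545 = n36214 := d7_1 D36545 (iv D36214) (iv F162061)
theorem F169217 : act 1 n36545 = n35038 := d15_1 D36545 (iv D35038) (iv F162062)
theorem F169218 : act 3 n36545 = n35326 := d28_1 D36545 (iv D35326) (iv F162063)
theorem F169219 : act 4 n36545 = n34963 := d33_1 D36545 (iv D34963) (iv F162064)
theorem F169220 : act 7 n36545 = n34961 := d42_1 D36545 (iv D34961) D34960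
def n36546 : Q := act 5 n34961
theorem D36546 : act 5 n34961 = n36546 := rfl
theorem F169221 : act 0 n36546 = n36215 := d4_1 D36546 (iv D36215) (iv F162067)
theorem F169222 : act 1 n36546 = n35039 := d12_1 D36546 (iv D35039) (iv F162068)
theorem F169223 : act 3 n36546 = n35327 := d25_1 D36546 (iv D35327) (iv F162069)
theorem F169224 : act 4 n36546 = n36546 := d30_1 D36546 (iv D36546) F162070 F154287 (iv F162070)
theorem F169225 : act 8 n36546 = n35431 := d37_2 D34961 D36546 (iv D35431) (iv D33672) (iv F154276)
def n36547 : Q := act 9 n34961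
theorem D36547 : act 9 n34961 = n36547 := rfl
theorem F169226 : act 0 n36547 = n35810 := d8_1 D36547 F166231 (iv F162067)
theorem F169227 : act 1 n36547 = n35040 := d16_1 D36547 (iv D35040) (iv F162068)
theorem F169228 : act 3 n36547 = n35328 := d29_1 D36547 (iv D35328) (iv F162069)
theorem F169229 : act 4 n36547 = n34964 := d34_1 D36547 (iv D34964) (iv F162070)
theorem F169230 : act 6 n36547 = n34976 := d41_1 D36547 (iv D34976) (iv F162071)
theorem F169231 : act 8 n36547 = n35413 := d44_1 D36547 (iv D35413) (iv D33654) (iv F154278) D34961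
def n36548 : Q := act 8 n34962
theorem D36548 : act 8 n34962 = n36548 := rfl
theorem F169232 : act 0 n36548 = n36216 := d7_1 D36548 (iv D36216) (iv F162072)
theorem F169233 : act 1 n36548 = n35041 := d15_1 D36548 (iv D35041) (iv F162073)
theorem F169234 : act 3 n36548 = n34965 := d28_1 D36548 (iv D34965) (iv F162074)
theorem F169235 : act 6 n36548 = n34963 := d40_1 D36548 (iv D34963) D34962
theorem F169236 : act 7 n36548 = n34977 := d42_1 D36548 (iv D34977) (iv F162076)
def n36549 : Q := act 9 n34963
theorem D36549 : act 9 n34963 = n36549 := rfl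
theorem F169237 : act 0 n36549 = n35891 := d8_1 D36549 F166490 (iv F162078)
theorem F169238 : act 1 n36549 = n35042 := d16_1 D36549 (iv D35042) (iv F162079)
theorem F169239 : act 3 n36549 = n34966 := d29_1 D36549 (iv D34966) (iv F162080)
theorem F169240 : act 5 n36549 = n36549 := d38_1 D36549 (iv D36549) F162081
theorem F169241 : act 7 n36549 = n34964 := d43_1 D36549 (iv D34964) (iv F162082)
theorem F169242 : act 8 n36549 = n35415 := d44_1 D36549 (iv D35415) (iv D33656) (iv F154283) D34963
def n36550 : Q := act 5 n34965
theorem D36550 : act 5 n34965 = n36550 := rfl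
theorem F169243 : act 0 n36550 = n36217 := d4_1 D36550 (iv D36217) (iv F162089)
theorem F169244 : act 1 n36550 = n35043 := d12_1 D36550 (iv D35043) (iv F162090)
theorem F169245 : act 2 n36550 = n36550 := d19_1 D36550 (iv D36550) F162091
theorem F169246 : act 6 n36550 = n36550 := d35_2 (iv F162093) D36550 (iv D36550) F162093 F154300
theorem F169247 : act 7 n36550 = n34979 := d36_2 (iv F162094) D36550 (iv D34979)
theorem F169248 : act 8 n36550 = n35808 := d37_2 D34965 D36550 (iv D35808) (iv D34095) (iv F154293)
def n36551 : Q := act 9 n34965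
theorem D36551 : act 9 n34965 = n36551 := rfl
theorem F169249 : act 0 n36551 = n35892 := d8_1 D36551 F166496 (iv F162089)
theorem F169250 : act 1 n36551 = n35044 := d16_1 D36551 (iv D35044) (iv F162090)
theorem F169251 : act 2 n36551 = n36551 := d23_1 D36551 (iv D36551) F162091
theorem F169252 : act 4 n36551 = n35332 := d34_1 D36551 (iv D35332) (iv F162092)
theorem F169253 : act 6 n36551 = n34966 := d41_1 D36551 (iv D34966) (iv F162093)
theorem F169254 : act 7 n36551 = n34980 := d43_1 D36551 (iv D34980) (iv F162094)
theorem F169255 : act 8 n36551 = n35417 := d44_1 D36551 (iv D35417) (iv D33658) (iv F154295) D34965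
def n36552 : Q := act 7 n34967
theorem D36552 : act 7 n34967 = n36552 := rfl
theorem F169256 : act 1 n36552 = n36017 := d14_1 D36552 F166993 (iv F162102)
theorem F169257 : act 2 n36552 = n35377 := d21_1 D36552 (iv D35377) (iv F162103)
theorem F169258 : act 3 n36552 = n34968 := d27_1 D36552 (iv D34968) D34967
theorem F169259 : act 4 n36552 = n36552 := d32_1 D36552 (iv D36552) F162104
theorem F169260 : act 5 n36552 = n35933 := d36_1 D36552 F166643 (iv F162105)
def n36553 : Q := act 8 n34967
theorem D36553 : act 8 n34967 = n36553 := rfl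
theorem F169261 : act 0 n36553 = n36029 := d7_1 D36553 (iv F169121) F169115
theorem F169262 : act 1 n36553 = n35997 := d15_1 D36553 F166919 (iv F162102)
theorem F169263 : act 2 n36553 = n35378 := d22_1 D36553 (iv D35378) (iv F162103)
theorem F169264 : act 3 n36553 = n34969 := d28_1 D36553 (iv D34969) D34967
theorem F169265 : act 4 n36553 = n36553 := d33_1 D36553 (iv D36553) F162104
theorem F169266 : act 5 n36553 = n35050 := d37_1 D36553 (iv D35050) F154696 D34227 (iv F162105)
theorem F169267 : act 9 n35818 = n36553 := d38_0 F169266 F162566 D35818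
def n36554 : Q := act 6 n34968
theorem D36554 : act 6 n34968 = n36554 := rfl
theorem F169268 : act 1 n36554 = n36268 := d13_1 D36554 (iv D36268) (iv F162106)
theorem F169269 : act 2 n36554 = n34973 := d20_1 D36554 (iv D34973) (iv F162107)
theorem F169270 : act 4 n36554 = n34970 := d31_1 D36554 (iv D34970) (iv F162108)
def n36555 : Q := act 8 n34968
theorem D36555 : act 8 n34968 = n36555 := rfl
theorem F169271 : act 0 n36555 = n36040 := d7_1 D36555 (iv F169127) F169123
theorem F169272 : act 1 n36555 = n36230 := d15_1 D36555 F167749 (iv F162106)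
theorem F169273 : act 2 n36555 = n34974 := d22_1 D36555 (iv D34974) (iv F162107)
theorem F169274 : act 4 n36555 = n34971 := d33_1 D36555 (iv D34971) (iv F162108)
theorem F169275 : act 5 n36555 = n35065 := d37_1 D36555 (iv D35065) F154787 D34519 (iv F162109)
theorem F169276 : act 7 n36555 = n34969 := d42_1 D36555 (iv D34969) D34968
def n36556 : Q := act 9 n34969
theorem D36556 : act 9 n34969 = n36556 := rfl
theorem F169277 : act 0 n36556 = n35828 := d8_1 D36556 F166285 (iv F162110)
theorem F169278 : act 1 n36556 = n36233 := d16_1 D36556 (iv D36233) (iv F162111)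
theorem F169279 : act 2 n36556 = n34976 := d23_1 D36556 (iv D34976) (iv F162112)
theorem F169280 : act 3 n36556 = n35818 := d29_1 D36556 F169267 F169264
theorem F169281 : act 4 n36556 = n34972 := d34_1 D36556 (iv D34972) (iv F162113)
theorem F169282 : act 5 n36556 = n35066 := d38_1 D36556 (iv D35066) (iv F162114)
def n36557 : Q := act 8 n34970
theorem D36557 : act 8 n34970 = n36557 := rfl
theorem F169283 : act 0 n36557 = n36101 := d7_1 D36557 (iv F169134) F169129
theorem F169284 : act 1 n36557 = n36357 := d15_1 D36557 F168075 (iv F162115)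
theorem F169285 : act 2 n36557 = n34977 := d22_1 D36557 (iv D34977) (iv F162116)
theorem F169286 : act 3 n36557 = n36557 := d28_1 D36557 (iv D36557) F162117
theorem F169287 : act 6 n36557 = n34971 := d40_1 D36557 (iv D34971) D34970
def n36558 : Q := act 9 n34971
theorem D36558 : act 9 n34971 = n36558 := rfl
theorem F169288 : act 0 n36558 = n35899 := d8_1 D36558 F166520 (iv F162119)
theorem F169289 : act 1 n36558 = n36358 := d16_1 D36558 (iv D36358) (iv F162120)
theorem F169290 : act 2 n36558 = n34978 := d23_1 D36558 (iv D34978) (iv F162121)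
theorem F169291 : act 3 n36558 = n36558 := d29_1 D36558 (iv D36558) F162122
theorem F169292 : act 5 n36558 = n34982 := d38_1 D36558 (iv D34982) (iv F162123)
theorem F169293 : act 7 n36558 = n34972 := d43_1 D36558 (iv D34972) (iv F162124)
def n36559 : Q := act 5 n34973
theorem D36559 : act 5 n34973 = n36559 := rfl
theorem F169294 : act 1 n36559 = n35107 := d12_1 D36559 (iv D35107) (iv F162130)
theorem F169295 : act 3 n36559 = n35385 := d25_1 D36559 (iv D35385) (iv F162131)
theorem F169296 : act 4 n36559 = n36228 := d30_1 D36559 (iv D36228) F160165 (iv F154330) (iv F162132)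
theorem F169297 : act 6 n36559 = n36238 := d35_2 D34973 D36559 (iv D36238) (iv D34567) (iv F154324)
def n36560 : Q := act 8 n34973
theorem D36560 : act 8 n34973 = n36560 := rfl
theorem F169298 : act 1 n36560 = n35108 := d15_1 D36560 (iv D35108) (iv F162130)
theorem F169299 : act 3 n36560 = n35386 := d28_1 D36560 (iv D35386) (iv F162131)
theorem F169300 : act 4 n36560 = n34977 := d33_1 D36560 (iv D34977) (iv F162132)
theorem F169301 : act 6 n36560 = n34974 := d40_1 D36560 (iv D34974) D34973
def n36561 : Q := act 5 n34974
theorem D36561 : act 5 n34974 = n36561 := rfl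
theorem F169302 : act 0 n36561 = n36036 := d4_1 D36561 (iv F169147) F169142
theorem F169303 : act 1 n36561 = n35109 := d12_1 D36561 (iv D35109) (iv F162133)
theorem F169304 : act 2 n36561 = n35065 := d19_1 D36561 (iv F169275) F169273
theorem F169305 : act 3 n36561 = n35387 := d25_1 D36561 (iv D35387) (iv F162134)
theorem F169306 : act 4 n36561 = n34984 := d30_1 D36561 (iv D34984) F154382 (iv F154333) (iv F162135)
theorem F169307 : act 7 n36561 = n34975 := d36_2 (iv F162136) D36561 (iv D34975)
theorem F169308 : act 8 n36561 = n35062 := d37_2 D34974 D36561 F162637 F160031 (iv F154324)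
theorem F169309 : act 9 n35543 = n36561 := d43_0 F169307 (iv F162143) (iv F164973)
def n36562 : Q := act 9 n34974
theorem D36562 : act 9 n34974 = n36562 := rfl
theorem F169310 : act 0 n36562 = n35829 := d8_1 D36562 F169149 F169142
theorem F169311 : act 1 n36562 = n35110 := d16_1 D36562 (iv D35110) (iv F162133)
theorem F169312 : act 3 n36562 = n35388 := d29_1 D36562 (iv D35388) (iv F162134)
theorem F169313 : act 4 n36562 = n34978 := d34_1 D36562 (iv D34978) (iv F162135)
theorem F169314 : act 5 n36562 = n35543 := d38_1 D36562 F169309 (iv D36561)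
theorem F169315 : act 7 n36562 = n34976 := d43_1 D36562 (iv D34976) (iv F162136)
def n36563 : Q := act 6 n34975
theorem D36563 : act 6 n34975 = n36563 := rfl
theorem F169316 : act 0 n36563 = n35956 := d5_1 D36563 F166763 (iv F162137)
theorem F169317 : act 1 n36563 = n35111 := d13_1 D36563 (iv D35111) (iv F162138)
theorem F169318 : act 2 n36563 = n35009 := d20_1 D36563 F162347 (iv F162139)
theorem F169319 : act 3 n36563 = n35389 := d26_1 D36563 (iv D35389) (iv F162140)
theorem F169320 : act 4 n36563 = n34985 := d31_1 D36563 (iv D34985) (iv F162141)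
theorem F169321 : act 8 n36563 = n35006 := d40_2 (iv F162142) D36563 F162330
theorem F169322 : act 9 n36563 = n35698 := d41_2 F162143 D36563 F165811
def n36564 : Q := act 5 n34977
theorem D36564 : act 5 n34977 = n36564 := rfl
theorem F169323 : act 1 n36564 = n35113 := d12_1 D36564 (iv D35113) (iv F162149)
theorem F169324 : act 3 n36564 = n34979 := d25_1 D36564 (iv D34979) (iv F162150)
theorem F169325 : act 6 n36564 = n34986 := d35_2 (iv F162151) D36564 (iv D34986) F154393 (iv F154333)
theorem F169326 : act 8 n36564 = n36234 := d37_2 D34977 D36564 (iv D36234) (iv D34563) (iv F154330)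
def n36565 : Q := act 9 n34977
theorem D36565 : act 9 n34977 = n36565 := rfl
theorem F169327 : act 0 n36565 = n35900 := d8_1 D36565 F169156 F169150
theorem F169328 : act 1 n36565 = n35114 := d16_1 D36565 (iv D35114) (iv F162149)
theorem F169329 : act 3 n36565 = n34980 := d29_1 D36565 (iv D34980) (iv F162150)
theorem F169330 : act 6 n36565 = n34978 := d41_1 D36565 (iv D34978) (iv F162151)
def n36566 : Q := act 4 n34979
theorem D36566 : act 4 n34979 = n36566 := rfl
theorem F169331 : act 0 n36566 = n35603 := d3_1 D36566 (iv F169160) F169157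
theorem F169332 : act 1 n36566 = n35115 := d11_1 D36566 (iv D35115) (iv F162157)
theorem F169333 : act 2 n36566 = n36566 := d18_1 D36566 (iv D36566) F162158
theorem F169334 : act 5 n36566 = n35146 := d30_2 D34979 D36566 F163021 (iv D33629) (iv F154341)
theorem F169335 : act 6 n36566 = n34988 := d31_2 (iv F162159) D36566 (iv D34988)
theorem F169336 : act 8 n36566 = n36236 := d33_2 (iv F162160) D36566 (iv D36236)
theorem F169337 : act 9 n35144 = n36566 := d41_0 F169335 (iv F162219) D35144
def n36567 : Q := act 9 n34979
theorem D36567 : act 9 n34979 = n36567 := rfl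
theorem F169338 : act 0 n36567 = n35901 := d8_1 D36567 (iv F169164) F169157
theorem F169339 : act 1 n36567 = n35116 := d16_1 D36567 (iv D35116) (iv F162157)
theorem F169340 : act 2 n36567 = n36567 := d23_1 D36567 (iv D36567) F162158
theorem F169341 : act 4 n36567 = n35144 := d34_1 D36567 F169337 (iv D36566)
theorem F169342 : act 5 n36567 = n34980 := d38_1 D36567 (iv D34980) D34979
theorem F169343 : act 6 n36567 = n34989 := d41_1 D36567 (iv D34989) (iv F162159)
def n36568 : Q := act 5 n34981
theorem D36568 : act 5 n34981 = n36568 := rfl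
theorem F169344 : act 0 n36568 = n36100 := d4_1 D36568 (iv D36100) (iv F162166)
theorem F169345 : act 1 n36568 = n36355 := d12_1 D36568 (iv D36355) (iv F162167)
theorem F169346 : act 2 n36568 = n34986 := d19_1 D36568 (iv D34986) (iv F162168)
theorem F169347 : act 3 n36568 = n36568 := d25_1 D36568 (iv D36568) F162169
theorem F169348 : act 7 n36568 = n36568 := d36_2 F162172 D36568 (iv D36568)
theorem F169349 : act 8 n36568 = n36353 := d37_2 D34981 D36568 (iv D36353) (iv D34721) (iv F154354)
def n36569 : Q := act 9 n34981
theorem D36569 : act 9 n34981 = n36569 := rfl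
theorem F169350 : act 0 n36569 = n35915 := d8_1 D36569 F166567 (iv F162166)
theorem F169351 : act 1 n36569 = n36356 := d16_1 D36569 (iv D36356) (iv F162167)
theorem F169352 : act 2 n36569 = n34987 := d23_1 D36569 (iv D34987) (iv F162168)
theorem F169353 : act 3 n36569 = n36569 := d29_1 D36569 (iv D36569) F162169
theorem F169354 : act 4 n36569 = n35118 := d34_1 D36569 (iv D35118) (iv F162170)
theorem F169355 : act 6 n36569 = n34982 := d41_1 D36569 (iv D34982) (iv F162171)
theorem F169356 : act 7 n36569 = n36569 := d43_1 D36569 (iv D36569) F162172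
theorem F169357 : act 8 n36569 = n36569 := d44_1 D36569 (iv D36569) (iv D34981) F154356 D34981
def n36570 : Q := act 5 n34983
theorem D36570 : act 5 n34983 = n36570 := rfl
theorem F169358 : act 0 n36570 = n36099 := d4_1 D36570 (iv D36099) (iv F162180)
theorem F169359 : act 1 n36570 = n35132 := d12_1 D36570 (iv D35132) (iv F162181)
theorem F169360 : act 2 n36570 = n35117 := d19_1 D36570 (iv D35117) (iv F162182)
theorem F169361 : act 3 n36570 = n34990 := d25_1 D36570 (iv D34990) (iv F162183)
theorem F169362 : act 7 n36570 = n36570 := d36_2 F162186 D36570 (iv D36570)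
theorem F169363 : act 8 n36570 = n35130 := d37_2 D34983 D36570 (iv D35130) (iv D33374) (iv F154375)
theorem F169364 : act 9 n36570 = n35140 := d38_2 F162187 D36570 F162992
def n36571 : Q := act 6 n34984
theorem D36571 : act 6 n34984 = n36571 := rfl
theorem F169365 : act 0 n36571 = n36037 := d5_1 D36571 F167070 (iv F162188)
theorem F169366 : act 1 n36571 = n35133 := d13_1 D36571 (iv D35133) (iv F162189)
theorem F169367 : act 2 n36571 = n35067 := d20_1 D36571 F162659 (iv F162190)
theorem F169368 : act 3 n36571 = n34991 := d26_1 D36571 (iv D34991) (iv F162191)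
theorem F169369 : act 8 n36571 = n35063 := d40_2 (iv F162193) D36571 (iv D35063)
theorem F169370 : act 9 n36571 = n35531 := d41_2 (iv F162194) D36571 F164916
def n36572 : Q := act 7 n34985
theorem D36572 : act 7 n34985 = n36572 := rfl
theorem F169371 : act 0 n36572 = n35958 := d6_1 D36572 F166774 (iv F162195)
theorem F169372 : act 1 n36572 = n35135 := d14_1 D36572 (iv D35135) (iv F162196)
theorem F169373 : act 2 n36572 = n35011 := d21_1 D36572 F162359 (iv F162197)
theorem F169374 : act 3 n36572 = n34992 := d27_1 D36572 (iv D34992) (iv F162198)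
theorem F169375 : act 5 n36572 = n36572 := d36_1 D36572 (iv D36572) F162199
theorem F169376 : act 8 n36572 = n35007 := d42_2 (iv F162200) D36572 (iv D35007)
theorem F169377 : act 9 n36572 = n35696 := d43_2 (iv F162201) D36572 F165802
def n36573 : Q := act 4 n34986
theorem D36573 : act 4 n34986 = n36573 := rfl
theorem F169378 : act 1 n36573 = n35138 := d11_1 D36573 (iv D35138) (iv F162202)
theorem F169379 : act 7 n36573 = n36573 := d32_2 F162204 D36573 (iv D36573)
theorem F169380 : act 8 n36573 = n36362 := d33_2 (iv F162205) D36573 (iv D36362)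
def n36574 : Q := act 9 n34986
theorem D36574 : act 9 n34986 = n36574 := rfl
theorem F169381 : act 0 n36574 = n35916 := d8_1 D36574 (iv F169171) F169165
theorem F169382 : act 1 n36574 = n35139 := d16_1 D36574 (iv D35139) (iv F162202)
theorem F169383 : act 3 n36574 = n34989 := d29_1 D36574 (iv D34989) (iv F162203)
theorem F169384 : act 5 n36574 = n34987 := d38_1 D36574 (iv D34987) D34986
theorem F169385 : act 7 n36574 = n36574 := d43_1 D36574 (iv D36574) F162204
def n36575 : Q := act 3 n34988
theorem D36575 : act 3 n34988 = n36575 := rfl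
theorem F169386 : act 0 n36575 = n35631 := d2_1 D36575 F165453 (iv F162213)
theorem F169387 : act 1 n36575 = n35140 := d10_1 D36575 (iv D35140) (iv F162214)
theorem F169388 : act 5 n36575 = n34993 := d25_2 (iv F162216) D36575 (iv D34993)
theorem F169389 : act 7 n36575 = n36575 := d27_2 F162217 D36575 (iv D36575)
theorem F169390 : act 8 n36575 = n36364 := d28_2 (iv F162218) D36575 (iv D36364)
theorem F169391 : act 9 n36575 = n35132 := d29_2 F162219 D36575 F162962
def n36576 : Q := act 8 n34989
theorem D36576 : act 8 n34989 = n36576 := rfl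
theorem F169392 : act 0 n36576 = n35917 := d7_1 D36576 (iv D35917) (iv F162220)
theorem F169393 : act 1 n36576 = n35141 := d15_1 D36576 (iv D35141) (iv F162221)
theorem F169394 : act 2 n36576 = n36576 := d22_1 D36576 (iv D36576) F162222
theorem F169395 : act 4 n36576 = n35142 := d33_1 D36576 F163003 (iv F162223)
theorem F169396 : act 5 n36576 = n36576 := d37_1 D36576 (iv D36576) F162224 F154411 (iv F162224)
theorem F169397 : act 7 n36576 = n36576 := d42_1 D36576 (iv D36576) F162225
theorem F169398 : act 9 n36576 = n36366 := d44_2 D34989 D36576 (iv D36366) (iv D34731) (iv F154404)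
def n36577 : Q := act 6 n34990
theorem D36577 : act 6 n34990 = n36577 := rfl
theorem F169399 : act 0 n36577 = n36097 := d5_1 D36577 F167244 (iv F162226)
theorem F169400 : act 1 n36577 = n35144 := d13_1 D36577 (iv D35144) (iv F162227)
theorem F169401 : act 2 n36577 = n35198 := d20_1 D36577 F163333 (iv F162228)
theorem F169402 : act 4 n36577 = n35116 := d31_1 D36577 F162869 (iv F162229)
theorem F169403 : act 5 n36577 = n34991 := d35_1 D36577 (iv D34991) (iv D33260) (iv F154416) D34990
theorem F169404 : act 8 n36577 = n35235 := d40_2 (iv F162231) D36577 F163504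
theorem F169405 : act 9 n36577 = n35115 := d41_2 (iv F162232) D36577 F162865
def n36578 : Q := act 7 n34991
theorem D36578 : act 7 n34991 = n36578 := rfl
theorem F169406 : act 0 n36578 = n36128 := d6_1 D36578 F167354 (iv F162233)
theorem F169407 : act 1 n36578 = n35145 := d14_1 D36578 (iv D35145) (iv F162234)
theorem F169408 : act 2 n36578 = n35152 := d21_1 D36578 F163061 (iv F162235)
theorem F169409 : act 4 n36578 = n35398 := d32_1 D36578 (iv D35398) (iv F162236)
theorem F169410 : act 6 n36578 = n34992 := d39_1 D36578 (iv D34992) (iv D33261) (iv F154423) D34991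
theorem F169411 : act 8 n36578 = n35150 := d42_2 (iv F162237) D36578 F163047
theorem F169412 : act 9 n36578 = n35460 := d43_2 (iv F162238) D36578 F164627
def n36579 : Q := act 2 n34993
theorem D36579 : act 2 n34993 = n36579 := rfl
theorem F169413 : act 0 n36579 = n35630 := d1_1 D36579 F165446 (iv F162246)
theorem F169414 : act 1 n36579 = n36354 := d9_1 D36579 F168062 (iv F162876) F162877 (iv F162247)
theorem F169415 : act 3 n36579 = n36579 := d17_2 D34993 D36579 (iv D36579) (iv D34993) F154435
theorem F169416 : act 4 n36579 = n35131 := d18_2 (iv F162248) D36579 F162956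
theorem F169417 : act 6 n36579 = n35127 := d20_2 (iv F162249) D36579 F162935
theorem F169418 : act 7 n36579 = n36579 := d21_2 F162250 D36579 (iv D36579)
theorem F169419 : act 8 n36579 = n36579 := d22_2 F162251 D36579 (iv D36579)
theorem F169420 : act 9 n36579 = n35125 := d23_2 (iv F162252) D36579 F162922
def n36580 : Q := act 3 n34994
theorem D36580 : act 3 n34994 = n36580 := rfl
theorem F169421 : act 0 n36580 = n35990 := d2_1 D36580 (iv D35990) (iv F162253)
theorem F169422 : act 1 n36580 = n36305 := d10_1 D36580 F167942 (iv F162254)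
theorem F169423 : act 2 n36580 = n35404 := d17_1 D36580 (iv D35404) F156441 (iv F154456) (iv F162255)
theorem F169424 : act 4 n36580 = n36580 := d24_2 D34994 D36580 (iv D36580) (iv D34994) F154443
theorem F169425 : act 5 n36580 = n35031 := d25_2 (iv F162256) D36580 (iv D35031)
theorem F169426 : act 6 n36580 = n35356 := d26_2 (iv F162257) D36580 (iv D35356)
theorem F169427 : act 9 n36580 = n35319 := d29_2 (iv F162258) D36580 (iv D35319)
def n36581 : Q := act 7 n34994
theorem D36581 : act 7 n34994 = n36581 := rfl
theorem F169428 : act 0 n36581 = n35991 := d6_1 D36581 (iv D35991) (iv F162253)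
theorem F169429 : act 1 n36581 = n36310 := d14_1 D36581 (iv D36310) (iv F162254)
theorem F169430 : act 2 n36581 = n34997 := d21_1 D36581 (iv D34997) (iv F162255)
theorem F169431 : act 4 n36581 = n34995 := d32_1 D36581 (iv D34995) D34994
theorem F169432 : act 5 n36581 = n35032 := d36_1 D36581 (iv D35032) (iv F162256)
theorem F169433 : act 9 n36581 = n35320 := d43_2 (iv F162258) D36581 (iv D35320)
def n36582 : Q := act 8 n34994
theorem D36582 : act 8 n34994 = n36582 := rfl
theorem F169434 : act 0 n36582 = n35992 := d7_1 D36582 (iv D35992) (iv F162253)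
theorem F169435 : act 1 n36582 = n35840 := d15_1 D36582 F166322 (iv F162254)
theorem F169436 : act 2 n36582 = n34998 := d22_1 D36582 (iv D34998) (iv F162255)
theorem F169437 : act 4 n36582 = n34996 := d33_1 D36582 (iv D34996) D34994
theorem F169438 : act 6 n36582 = n35358 := d40_1 D36582 (iv D35358) (iv F162257)
def n36583 : Q := act 6 n34995
theorem D36583 : act 6 n34995 = n36583 := rfl
theorem F169439 : act 0 n36583 = n35993 := d5_1 D36583 (iv D35993) (iv F162259)
theorem F169440 : act 1 n36583 = n36316 := d13_1 D36583 F167960 (iv F162260)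
theorem F169441 : act 2 n36583 = n34999 := d20_1 D36583 (iv D34999) (iv F162261)
theorem F169442 : act 3 n36583 = n36583 := d26_1 D36583 (iv D36583) F162262
theorem F169443 : act 5 n36583 = n35764 := d35_1 D36583 (iv D35764) F158332 (iv F154451) (iv F162263)
theorem F169444 : act 7 n36583 = n35359 := d39_2 D34995 D36583 (iv D35359) (iv D33603) (iv F154444)
theorem F169445 : act 9 n36583 = n35322 := d41_2 (iv F162264) D36583 (iv D35322)
def n36584 : Q := act 8 n34995
theorem D36584 : act 8 n34995 = n36584 := rfl
theorem F169446 : act 0 n36584 = n35994 := d7_1 D36584 (iv D35994) (iv F162259)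
theorem F169447 : act 1 n36584 = n35861 := d15_1 D36584 F166382 (iv F162260)
theorem F169448 : act 2 n36584 = n35000 := d22_1 D36584 (iv D35000) (iv F162261)
theorem F169449 : act 3 n36584 = n36584 := d28_1 D36584 (iv D36584) F162262
theorem F169450 : act 5 n36584 = n36584 := d37_1 D36584 (iv D36584) F162263 F154452 (iv F162263)
theorem F169451 : act 7 n36584 = n34996 := d42_1 D36584 (iv D34996) D34995
def n36585 : Q := act 9 n34996
theorem D36585 : act 9 n34996 = n36585 := rfl
theorem F169452 : act 0 n36585 = n35641 := d8_1 D36585 F165510 (iv F162265)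
theorem F169453 : act 1 n36585 = n35862 := d16_1 D36585 (iv D35862) (iv F162266)
theorem F169454 : act 2 n36585 = n35001 := d23_1 D36585 (iv D35001) (iv F162267)
theorem F169455 : act 3 n36585 = n36585 := d29_1 D36585 (iv D36585) F162268
theorem F169456 : act 5 n36585 = n36585 := d38_1 D36585 (iv D36585) F162269
theorem F169457 : act 6 n36585 = n35361 := d41_1 D36585 (iv D35361) (iv F162270)
theorem F169458 : act 8 n36585 = n35324 := d44_1 D36585 (iv D35324) (iv D33575) (iv F154445) D34996
def n36586 : Q := act 6 n34997
theorem D36586 : act 6 n34997 = n36586 := rfl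
theorem F169459 : act 0 n36586 = n35995 := d5_1 D36586 (iv D35995) (iv F162271)
theorem F169460 : act 1 n36586 = n35429 := d13_1 D36586 (iv D35429) (iv F162272)
theorem F169461 : act 3 n36586 = n35410 := d26_1 D36586 (iv D35410) (iv F162273)
theorem F169462 : act 4 n36586 = n34999 := d31_1 D36586 (iv D34999) (iv F162274)
theorem F169463 : act 7 n36586 = n35362 := d39_2 D34997 D36586 (iv D35362) (iv D33605) (iv F154458)
theorem F169464 : act 9 n36586 = n35325 := d41_2 (iv F162276) D36586 (iv D35325)
def n36587 : Q := act 8 n34997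
theorem D36587 : act 8 n34997 = n36587 := rfl
theorem F169465 : act 0 n36587 = n35996 := d7_1 D36587 (iv D35996) (iv F162271)
theorem F169466 : act 1 n36587 = n35430 := d15_1 D36587 (iv D35430) (iv F162272)
theorem F169467 : act 3 n36587 = n35411 := d28_1 D36587 (iv D35411) (iv F162273)
theorem F169468 : act 4 n36587 = n35000 := d33_1 D36587 (iv D35000) (iv F162274)
theorem F169469 : act 7 n36587 = n34998 := d42_1 D36587 (iv D34998) D34997
def n36588 : Q := act 5 n34998
theorem D36588 : act 5 n34998 = n36588 := rfl
theorem F169470 : act 0 n36588 = n35997 := d4_1 D36588 (iv D35997) (iv F162277)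
theorem F169471 : act 1 n36588 = n35431 := d12_1 D36588 (iv D35431) (iv F162278)
theorem F169472 : act 3 n36588 = n35412 := d25_1 D36588 (iv D35412) (iv F162279)
theorem F169473 : act 4 n36588 = n36588 := d30_1 D36588 (iv D36588) F162280 F154468 (iv F162280)
theorem F169474 : act 8 n36588 = n35039 := d37_2 D34998 D36588 (iv D35039) (iv D33297) (iv F154457)
def n36589 : Q := act 9 n34998
theorem D36589 : act 9 n34998 = n36589 := rfl
theorem F169475 : act 0 n36589 = n35812 := d8_1 D36589 F166239 (iv F162277)
theorem F169476 : act 1 n36589 = n35432 := d16_1 D36589 (iv D35432) (iv F162278)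
theorem F169477 : act 3 n36589 = n35413 := d29_1 D36589 (iv D35413) (iv F162279)
theorem F169478 : act 4 n36589 = n35001 := d34_1 D36589 (iv D35001) (iv F162280)
theorem F169479 : act 6 n36589 = n35365 := d41_1 D36589 (iv D35365) (iv F162281)
theorem F169480 : act 8 n36589 = n35328 := d44_1 D36589 (iv D35328) (iv D33577) (iv F154459) D34998
def n36590 : Q := act 8 n34999
theorem D36590 : act 8 n34999 = n36590 := rfl
theorem F169481 : act 0 n36590 = n35998 := d7_1 D36590 (iv D35998) (iv F162282)
theorem F169482 : act 1 n36590 = n35433 := d15_1 D36590 (iv D35433) (iv F162283)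
theorem F169483 : act 3 n36590 = n35002 := d28_1 D36590 (iv D35002) (iv F162284)
theorem F169484 : act 6 n36590 = n35000 := d40_1 D36590 (iv D35000) D34999
theorem F169485 : act 7 n36590 = n35366 := d42_1 D36590 (iv D35366) (iv F162286)
def n36591 : Q := act 9 n35000
theorem D36591 : act 9 n35000 = n36591 := rfl
theorem F169486 : act 0 n36591 = n35814 := d8_1 D36591 F166248 (iv F162288)
theorem F169487 : act 1 n36591 = n35434 := d16_1 D36591 (iv D35434) (iv F162289)
theorem F169488 : act 3 n36591 = n35003 := d29_1 D36591 (iv D35003) (iv F162290)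
theorem F169489 : act 5 n36591 = n36591 := d38_1 D36591 (iv D36591) F162291
theorem F169490 : act 7 n36591 = n35001 := d43_1 D36591 (iv D35001) (iv F162292)
theorem F169491 : act 8 n36591 = n35330 := d44_1 D36591 (iv D35330) (iv D33579) (iv F154464) D35000
def n36592 : Q := act 5 n35002
theorem D36592 : act 5 n35002 = n36592 := rfl
theorem F169492 : act 0 n36592 = n35999 := d4_1 D36592 (iv D35999) (iv F162299)
theorem F169493 : act 1 n36592 = n35435 := d12_1 D36592 (iv D35435) (iv F162300)
theorem F169494 : act 2 n36592 = n36592 := d19_1 D36592 (iv D36592) F162301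
theorem F169495 : act 6 n36592 = n36592 := d35_2 (iv F162303) D36592 (iv D36592) F162303 F154481
theorem F169496 : act 7 n36592 = n35368 := d36_2 (iv F162304) D36592 (iv D35368)
theorem F169497 : act 8 n36592 = n35771 := d37_2 D35002 D36592 (iv D35771) (iv D34062) (iv F154474)
def n36593 : Q := act 9 n35002
theorem D36593 : act 9 n35002 = n36593 := rfl
theorem F169498 : act 0 n36593 = n35893 := d8_1 D36593 F166502 (iv F162299)
theorem F169499 : act 1 n36593 = n35436 := d16_1 D36593 (iv D35436) (iv F162300)
theorem F169500 : act 2 n36593 = n36593 := d23_1 D36593 (iv D36593) F162301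
theorem F169501 : act 4 n36593 = n35417 := d34_1 D36593 (iv D35417) (iv F162302)
theorem F169502 : act 6 n36593 = n35003 := d41_1 D36593 (iv D35003) (iv F162303)
theorem F169503 : act 7 n36593 = n35369 := d43_1 D36593 (iv D35369) (iv F162304)
theorem F169504 : act 8 n36593 = n35332 := d44_1 D36593 (iv D35332) (iv D33581) (iv F154476) D35002
def n36594 : Q := act 7 n35004
theorem D36594 : act 7 n35004 = n36594 := rfl
theorem F169505 : act 0 n36594 = n35005 := d6_1 D36594 (iv D35005) (iv F162312)
theorem F169506 : act 1 n36594 = n35951 := d14_1 D36594 (iv D35951) (iv F162313)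
theorem F169507 : act 2 n36594 = n35674 := d21_1 D36594 F165696 (iv F162314)
theorem F169508 : act 3 n36594 = n35149 := d27_1 D36594 (iv D35149) (iv F162315)
theorem F169509 : act 4 n36594 = n35672 := d32_1 D36594 F165686 (iv F162316)
theorem F169510 : act 5 n36594 = n35733 := d36_1 D36594 (iv D35733) (iv F162317)
theorem F169511 : act 6 n36594 = n35027 := d39_1 D36594 (iv D35027) (iv D33290) (iv F154495) D35004
theorem F169512 : act 8 n36594 = n36594 := d42_2 F162318 D36594 (iv D36594)
theorem F169513 : act 9 n36594 = n35670 := d43_2 (iv F162319) D36594 F165675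
def n36595 : Q := act 7 n35006
theorem D36595 : act 7 n35006 = n36595 := rfl
theorem F169514 : act 0 n36595 = n35955 := d6_1 D36595 (iv D35955) (iv F162327)
theorem F169515 : act 2 n36595 = n35008 := d21_1 D36595 (iv D35008) (iv F162328)
theorem F169516 : act 4 n36595 = n35007 := d32_1 D36595 (iv D35007) D35006
theorem F169517 : act 5 n36595 = n35763 := d36_1 D36595 (iv D35763) (iv F162329)
theorem F169518 : act 9 n36595 = n35922 := d43_2 (iv F162331) D36595 (iv D35922)
def n36596 : Q := act 6 n35007
theorem D36596 : act 6 n35007 = n36596 := rfl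
theorem F169519 : act 0 n36596 = n35957 := d5_1 D36596 (iv D35957) (iv F162332)
theorem F169520 : act 2 n36596 = n35010 := d20_1 D36596 (iv D35010) (iv F162333)
theorem F169521 : act 3 n36596 = n35150 := d26_1 D36596 (iv D35150) (iv F162334)
theorem F169522 : act 5 n36596 = n35034 := d35_1 D36596 (iv D35034) F154630 (iv F154513) (iv F162335)
theorem F169523 : act 7 n36596 = n35063 := d39_2 D35007 D36596 (iv D35063) (iv D33321) (iv F154507)
theorem F169524 : act 9 n36596 = n35923 := d41_2 (iv F162336) D36596 (iv D35923)
def n36597 : Q := act 6 n35008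
theorem D36597 : act 6 n35008 = n36597 := rfl
theorem F169525 : act 0 n36597 = n35959 := d5_1 D36597 (iv D35959) (iv F162337)
theorem F169526 : act 1 n36597 = n35802 := d13_1 D36597 (iv D35802) (iv F162338)
theorem F169527 : act 3 n36597 = n36185 := d26_1 D36597 (iv D36185) (iv F162339)
theorem F169528 : act 4 n36597 = n35010 := d31_1 D36597 (iv D35010) (iv F162340)
theorem F169529 : act 7 n36597 = n35064 := d39_2 D35008 D36597 (iv D35064) (iv D33322) (iv F154520)
theorem F169530 : act 9 n36597 = n35924 := d41_2 (iv F162342) D36597 (iv D35924)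
def n36598 : Q := act 8 n35008
theorem D36598 : act 8 n35008 = n36598 := rfl
theorem F169531 : act 0 n36598 = n35960 := d7_1 D36598 (iv D35960) (iv F162337)
theorem F169532 : act 1 n36598 = n35803 := d15_1 D36598 (iv D35803) (iv F162338)
theorem F169533 : act 3 n36598 = n35839 := d28_1 D36598 F166319 (iv F162339)
theorem F169534 : act 4 n36598 = n35011 := d33_1 D36598 (iv D35011) (iv F162340)
theorem F169535 : act 7 n36598 = n35009 := d42_1 D36598 (iv D35009) D35008
theorem F169536 : act 9 n36598 = n35834 := d44_2 (iv F162342) D36598 (iv D35834) (iv F164704) F164703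
def n36599 : Q := act 5 n35009
theorem D36599 : act 5 n35009 = n36599 := rfl
theorem F169537 : act 0 n36599 = n35961 := d4_1 D36599 (iv D35961) (iv F162343)
theorem F169538 : act 1 n36599 = n35804 := d12_1 D36599 (iv D35804) (iv F162344)
theorem F169539 : act 3 n36599 = n35841 := d25_1 D36599 F166326 (iv F162345)
theorem F169540 : act 4 n36599 = n36599 := d30_1 D36599 (iv D36599) F162346 F154530 (iv F162346)
theorem F169541 : act 8 n36599 = n35767 := d37_2 D35009 D36599 (iv D35767) (iv D34058) (iv F154519)
theorem F169542 : act 9 n36599 = n35835 := d38_2 (iv F162348) D36599 (iv D35835)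
def n36600 : Q := act 8 n35010
theorem D36600 : act 8 n35010 = n36600 := rfl
theorem F169543 : act 0 n36600 = n35962 := d7_1 D36600 (iv D35962) (iv F162349)
theorem F169544 : act 1 n36600 = n35806 := d15_1 D36600 (iv D35806) (iv F162350)
theorem F169545 : act 3 n36600 = n35012 := d28_1 D36600 (iv D35012) (iv F162351)
theorem F169546 : act 6 n36600 = n35011 := d40_1 D36600 (iv D35011) D35010
theorem F169547 : act 7 n36600 = n35067 := d42_1 D36600 (iv D35067) (iv F162353)
theorem F169548 : act 9 n36600 = n35903 := d44_2 (iv F162354) D36600 (iv D35903) (iv F165194) F165193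
def n36601 : Q := act 5 n35012
theorem D36601 : act 5 n35012 = n36601 := rfl
theorem F169549 : act 0 n36601 = n35963 := d4_1 D36601 (iv D35963) (iv F162361)
theorem F169550 : act 1 n36601 = n35808 := d12_1 D36601 (iv D35808) (iv F162362)
theorem F169551 : act 2 n36601 = n35153 := d19_1 D36601 (iv D35153) (iv F162363)
theorem F169552 : act 6 n36601 = n36601 := d35_2 (iv F162365) D36601 (iv D36601) F162365 F154544
theorem F169553 : act 7 n36601 = n35069 := d36_2 (iv F162366) D36601 (iv D35069)
theorem F169554 : act 8 n36601 = n35043 := d37_2 D35012 D36601 (iv D35043) (iv D33301) (iv F154537)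
theorem F169555 : act 9 n36601 = n35905 := d38_2 (iv F162367) D36601 (iv D35905)
def n36602 : Q := act 5 n35013
theorem D36602 : act 5 n35013 = n36602 := rfl
theorem F169556 : act 0 n36602 = n35014 := d4_1 D36602 (iv D35014) (iv F162368)
theorem F169557 : act 1 n36602 = n35207 := d12_1 D36602 F163375 (iv F162369)
theorem F169558 : act 2 n36602 = n35399 := d19_1 D36602 (iv D35399) (iv F162370)
theorem F169559 : act 3 n36602 = n35154 := d25_1 D36602 (iv D35154) (iv F162371)
theorem F169560 : act 6 n36602 = n35071 := d35_2 D35013 D36602 (iv D35071) (iv D33329) (iv F154551)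
theorem F169561 : act 8 n36602 = n35202 := d37_2 (iv F162373) D36602 F163352 (iv F155667) F157723
theorem F169562 : act 9 n36602 = n35026 := d38_2 (iv F162374) D36602 (iv D35026)
def n36603 : Q := act 7 n35013
theorem D36603 : act 7 n35013 = n36603 := rfl
theorem F169563 : act 0 n36603 = n35015 := d6_1 D36603 (iv D35015) (iv F162368)
theorem F169564 : act 1 n36603 = n35714 := d14_1 D36603 F165872 (iv F162369)
theorem F169565 : act 2 n36603 = n35400 := d21_1 D36603 (iv D35400) (iv F162370)
theorem F169566 : act 3 n36603 = n35155 := d27_1 D36603 (iv D35155) (iv F162371)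
theorem F169567 : act 4 n36603 = n35315 := d32_1 D36603 (iv D35315) (iv F162372)
theorem F169568 : act 6 n36603 = n35670 := d39_1 D36603 F165675 F157831 (iv F154552) D35013
theorem F169569 : act 8 n36603 = n35657 := d42_2 (iv F162373) D36603 (iv D35657)
theorem F169570 : act 9 n36603 = n35027 := d43_2 (iv F162374) D36603 (iv D35027)
def n36604 : Q := act 4 n35014
theorem D36604 : act 4 n35014 = n36604 := rfl
theorem F169571 : act 1 n36604 = n35016 := d11_1 D36604 (iv D35016) (iv F162375)
theorem F169572 : act 2 n36604 = n35401 := d18_1 D36604 (iv D35401) (iv F162376)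
theorem F169573 : act 5 n36604 = n35316 := d30_2 D35014 D36604 (iv D35316) (iv D33571) (iv F154558)
theorem F169574 : act 6 n36604 = n35073 := d31_2 (iv F162378) D36604 (iv D35073)
theorem F169575 : act 9 n36604 = n35028 := d34_2 (iv F162379) D36604 (iv D35028)
def n36605 : Q := act 7 n35014
theorem D36605 : act 7 n35014 = n36605 := rfl
theorem F169576 : act 1 n36605 = n35017 := d14_1 D36605 (iv D35017) (iv F162375)
theorem F169577 : act 2 n36605 = n35402 := d21_1 D36605 (iv D35402) (iv F162376)
theorem F169578 : act 3 n36605 = n35157 := d27_1 D36605 (iv D35157) (iv F162377)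
theorem F169579 : act 5 n36605 = n35015 := d36_1 D36605 (iv D35015) D35014
theorem F169580 : act 9 n36605 = n35029 := d43_2 (iv F162379) D36605 (iv D35029)
def n36606 : Q := act 8 n35014
theorem D36606 : act 8 n35014 = n36606 := rfl
theorem F169581 : act 0 n36606 = n35202 := d7_1 D36606 (iv F169561) F169556
theorem F169582 : act 1 n36606 = n35018 := d15_1 D36606 (iv D35018) (iv F162375)
theorem F169583 : act 2 n36606 = n35403 := d22_1 D36606 (iv D35403) (iv F162376)
theorem F169584 : act 3 n36606 = n35158 := d28_1 D36606 (iv D35158) (iv F162377)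
theorem F169585 : act 5 n36606 = n35247 := d37_1 D36606 F163571 (iv D33920) (iv F154559) D35014
theorem F169586 : act 6 n36606 = n35075 := d40_1 D36606 (iv D35075) (iv F162378)
theorem F169587 : act 9 n35218 = n36606 := d38_0 F169585 F163572 (iv F163435)
def n36607 : Q := act 3 n35016
theorem D36607 : act 3 n35016 = n36607 := rfl
theorem F169588 : act 0 n36607 = n35938 := d2_1 D36607 (iv D35938) (iv F162387)
theorem F169589 : act 2 n36607 = n35423 := d17_1 D36607 (iv D35423) F156514 (iv F154575) (iv F162388)
theorem F169590 : act 4 n36607 = n35159 := d24_2 D35016 D36607 (iv D35159) (iv D33403) (iv F154563)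
theorem F169591 : act 5 n36607 = n35319 := d25_2 (iv F162389) D36607 (iv D35319)
theorem F169592 : act 6 n36607 = n35076 := d26_2 (iv F162390) D36607 (iv D35076)
theorem F169593 : act 9 n36607 = n35031 := d29_2 (iv F162391) D36607 (iv D35031)
theorem F169594 : act 8 n36047 = n36607 := d33_0 F169590 F163105 D36047
def n36608 : Q := act 7 n35016
theorem D36608 : act 7 n35016 = n36608 := rfl
theorem F169595 : act 0 n36608 = n35939 := d6_1 D36608 (iv D35939) (iv F162387)
theorem F169596 : act 2 n36608 = n35019 := d21_1 D36608 (iv D35019) (iv F162388)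
theorem F169597 : act 4 n36608 = n35017 := d32_1 D36608 (iv D35017) D35016
theorem F169598 : act 5 n36608 = n35320 := d36_1 D36608 (iv D35320) (iv F162389)
theorem F169599 : act 9 n36608 = n35032 := d43_2 (iv F162391) D36608 (iv D35032)
def n36609 : Q := act 8 n35016
theorem D36609 : act 8 n35016 = n36609 := rfl
theorem F169600 : act 0 n36609 = n35940 := d7_1 D36609 (iv D35940) (iv F162387)
theorem F169601 : act 2 n36609 = n35020 := d22_1 D36609 (iv D35020) (iv F162388)
theorem F169602 : act 3 n36609 = n36047 := d28_1 D36609 F169594 (iv D36607)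
theorem F169603 : act 4 n36609 = n35018 := d33_1 D36609 (iv D35018) D35016
theorem F169604 : act 6 n36609 = n35078 := d40_1 D36609 (iv D35078) (iv F162390)
theorem F169605 : act 9 n36068 = n36609 := d34_0 F169603 (iv F162402) (iv F167166)
def n36610 : Q := act 6 n35017
theorem D36610 : act 6 n35017 = n36610 := rfl
theorem F169606 : act 0 n36610 = n35941 := d5_1 D36610 (iv D35941) (iv F162392)
theorem F169607 : act 2 n36610 = n35021 := d20_1 D36610 (iv D35021) (iv F162393)
theorem F169608 : act 3 n36610 = n35161 := d26_1 D36610 (iv D35161) (iv F162394)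
theorem F169609 : act 5 n36610 = n35923 := d35_1 D36610 (iv D35923) F158854 (iv F154570) (iv F162395)
theorem F169610 : act 7 n36610 = n35079 := d39_2 D35017 D36610 (iv D35079) (iv D33333) (iv F154564)
theorem F169611 : act 9 n36610 = n35034 := d41_2 (iv F162396) D36610 (iv D35034)
def n36611 : Q := act 8 n35017
theorem D36611 : act 8 n35017 = n36611 := rfl
theorem F169612 : act 0 n36611 = n35942 := d7_1 D36611 (iv D35942) (iv F162392)
theorem F169613 : act 2 n36611 = n35022 := d22_1 D36611 (iv D35022) (iv F162393)
theorem F169614 : act 3 n36611 = n35162 := d28_1 D36611 (iv D35162) (iv F162394)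
theorem F169615 : act 5 n36611 = n35661 := d37_1 D36611 (iv D35661) F157747 (iv F154571) (iv F162395)
theorem F169616 : act 7 n36611 = n35018 := d42_1 D36611 (iv D35018) D35017
theorem F169617 : act 9 n36167 = n36611 := d43_0 F169616 (iv F162402) D36167
def n36612 : Q := act 6 n35019
theorem D36612 : act 6 n35019 = n36612 := rfl
theorem F169618 : act 0 n36612 = n35943 := d5_1 D36612 (iv D35943) (iv F162403)
theorem F169619 : act 1 n36612 = n35410 := d13_1 D36612 (iv D35410) (iv F162404)
theorem F169620 : act 3 n36612 = n35429 := d26_1 D36612 (iv D35429) (iv F162405)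
theorem F169621 : act 4 n36612 = n35021 := d31_1 D36612 (iv D35021) (iv F162406)
theorem F169622 : act 7 n36612 = n35082 := d39_2 D35019 D36612 (iv D35082) (iv D33335) (iv F154577)
theorem F169623 : act 9 n36612 = n35037 := d41_2 (iv F162408) D36612 (iv D35037)
def n36613 : Q := act 8 n35019
theorem D36613 : act 8 n35019 = n36613 := rfl
theorem F169624 : act 0 n36613 = n35944 := d7_1 D36613 (iv D35944) (iv F162403)
theorem F169625 : act 1 n36613 = n35411 := d15_1 D36613 (iv D35411) (iv F162404)
theorem F169626 : act 3 n36613 = n35430 := d28_1 D36613 (iv D35430) (iv F162405)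
theorem F169627 : act 4 n36613 = n35022 := d33_1 D36613 (iv D35022) (iv F162406)
theorem F169628 : act 7 n36613 = n35020 := d42_1 D36613 (iv D35020) D35019
def n36614 : Q := act 5 n35020
theorem D36614 : act 5 n35020 = n36614 := rfl
theorem F169629 : act 0 n36614 = n35945 := d4_1 D36614 (iv D35945) (iv F162409)
theorem F169630 : act 1 n36614 = n35412 := d12_1 D36614 (iv D35412) (iv F162410)
theorem F169631 : act 3 n36614 = n35431 := d25_1 D36614 (iv D35431) (iv F162411)
theorem F169632 : act 4 n36614 = n35664 := d30_1 D36614 (iv D35664) F157763 (iv F154587) (iv F162412)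
theorem F169633 : act 8 n36614 = n35327 := d37_2 D35020 D36614 (iv D35327) (iv D33577) (iv F154576)
def n36615 : Q := act 9 n35020
theorem D36615 : act 9 n35020 = n36615 := rfl
theorem F169634 : act 0 n36615 = n35946 := d8_1 D36615 (iv D35946) (iv F162409)
theorem F169635 : act 1 n36615 = n35413 := d16_1 D36615 (iv D35413) (iv F162410)
theorem F169636 : act 2 n36615 = n36068 := d23_1 D36615 F169605 F169601
theorem F169637 : act 3 n36615 = n35432 := d29_1 D36615 (iv D35432) (iv F162411)
theorem F169638 : act 4 n36615 = n35023 := d34_1 D36615 (iv D35023) (iv F162412)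
theorem F169639 : act 6 n36615 = n35085 := d41_1 D36615 (iv D35085) (iv F162413)
theorem F169640 : act 8 n36615 = n35040 := d44_1 D36615 (iv D35040) (iv D33297) (iv F154578) D35020
def n36616 : Q := act 8 n35021
theorem D36616 : act 8 n35021 = n36616 := rfl
theorem F169641 : act 0 n36616 = n35947 := d7_1 D36616 (iv D35947) (iv F162414)
theorem F169642 : act 1 n36616 = n35414 := d15_1 D36616 (iv D35414) (iv F162415)
theorem F169643 : act 3 n36616 = n35024 := d28_1 D36616 (iv D35024) (iv F162416)
theorem F169644 : act 6 n36616 = n35022 := d40_1 D36616 (iv D35022) D35021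
theorem F169645 : act 7 n36616 = n35086 := d42_1 D36616 (iv D35086) (iv F162418)
def n36617 : Q := act 9 n35022
theorem D36617 : act 9 n35022 = n36617 := rfl
theorem F169646 : act 0 n36617 = n35948 := d8_1 D36617 (iv D35948) (iv F162420)
theorem F169647 : act 1 n36617 = n35415 := d16_1 D36617 (iv D35415) (iv F162421)
theorem F169648 : act 2 n36617 = n36167 := d23_1 D36617 F169617 F169613
theorem F169649 : act 3 n36617 = n35025 := d29_1 D36617 (iv D35025) (iv F162422)
theorem F169650 : act 5 n36617 = n35667 := d38_1 D36617 (iv D35667) (iv F162423)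
theorem F169651 : act 7 n36617 = n35023 := d43_1 D36617 (iv D35023) (iv F162424)
theorem F169652 : act 8 n36617 = n35042 := d44_1 D36617 (iv D35042) (iv D33299) (iv F154583) D35022
def n36618 : Q := act 5 n35024
theorem D36618 : act 5 n35024 = n36618 := rfl
theorem F169653 : act 0 n36618 = n35949 := d4_1 D36618 (iv D35949) (iv F162432)
theorem F169654 : act 1 n36618 = n35416 := d12_1 D36618 (iv D35416) (iv F162433)
theorem F169655 : act 2 n36618 = n35165 := d19_1 D36618 (iv D35165) (iv F162434)
theorem F169656 : act 6 n36618 = n35626 := d35_2 (iv F162436) D36618 F165425 F157785 (iv F154600)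
theorem F169657 : act 7 n36618 = n35088 := d36_2 (iv F162437) D36618 (iv D35088)
theorem F169658 : act 8 n36618 = n35584 := d37_2 D35024 D36618 (iv D35584) F157209 (iv F154593)
theorem F169659 : act 4 n35610 = n36618 := d33_3 F169658 F165197 D35610
def n36619 : Q := act 9 n35024
theorem D36619 : act 9 n35024 = n36619 := rfl
theorem F169660 : act 0 n36619 = n35950 := d8_1 D36619 (iv D35950) (iv F162432)
theorem F169661 : act 1 n36619 = n35417 := d16_1 D36619 (iv D35417) (iv F162433)
theorem F169662 : act 2 n36619 = n35166 := d23_1 D36619 (iv D35166) (iv F162434)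
theorem F169663 : act 4 n36619 = n35436 := d34_1 D36619 (iv D35436) (iv F162435)
theorem F169664 : act 6 n36619 = n35025 := d41_1 D36619 (iv D35025) (iv F162436)
theorem F169665 : act 7 n36619 = n35089 := d43_1 D36619 (iv D35089) (iv F162437)
theorem F169666 : act 8 n36619 = n35044 := d44_1 D36619 (iv D35044) (iv D33301) (iv F154595) D35024
def n36620 : Q := act 4 n35026
theorem D36620 : act 4 n35026 = n36620 := rfl
theorem F169667 : act 0 n36620 = n35028 := d3_1 D36620 (iv D35028) (iv F162445)
theorem F169668 : act 1 n36620 = n36000 := d11_1 D36620 (iv D36000) (iv F162446)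
theorem F169669 : act 2 n36620 = n35456 := d18_1 D36620 F164609 (iv F162447)
theorem F169670 : act 5 n36620 = n35522 := d30_2 D35026 D36620 F164893 F156935 (iv F154613)
theorem F169671 : act 6 n36620 = n35090 := d31_2 (iv F162449) D36620 (iv D35090)
def n36621 : Q := act 7 n35026
theorem D36621 : act 7 n35026 = n36621 := rfl
theorem F169672 : act 0 n36621 = n35029 := d6_1 D36621 (iv D35029) (iv F162445)
theorem F169673 : act 1 n36621 = n36001 := d14_1 D36621 (iv D36001) (iv F162446)
theorem F169674 : act 2 n36621 = n35693 := d21_1 D36621 (iv D35693) (iv F162447)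
theorem F169675 : act 3 n36621 = n35168 := d27_1 D36621 (iv D35168) (iv F162448)
theorem F169676 : act 5 n36621 = n35027 := d36_1 D36621 (iv D35027) D35026
def n36622 : Q := act 8 n35026
theorem D36622 : act 8 n35026 = n36622 := rfl
theorem F169677 : act 0 n36622 = n35030 := d7_1 D36622 (iv D35030) (iv F162445)
theorem F169678 : act 1 n36622 = n35231 := d15_1 D36622 F163488 (iv F162446)
theorem F169679 : act 2 n36622 = n35685 := d22_1 D36622 F165760 (iv F162447)
theorem F169680 : act 3 n36622 = n35169 := d28_1 D36622 (iv D35169) (iv F162448)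
theorem F169681 : act 5 n36622 = n36622 := d37_1 D36622 (iv D36622) (iv D35026) F154614 D35026
theorem F169682 : act 6 n36622 = n35092 := d40_1 D36622 (iv D35092) (iv F162449)
theorem F169683 : act 9 n36622 = n35224 := d44_2 F169562 D36622 (iv D35224) (iv F163353) (iv F169561)
def n36623 : Q := act 3 n35028
theorem D36623 : act 3 n35028 = n36623 := rfl
theorem F169684 : act 1 n36623 = n35031 := d10_1 D36623 (iv D35031) (iv F162456)
theorem F169685 : act 4 n36623 = n35170 := d24_2 D35028 D36623 (iv D35170) (iv D33413) (iv F154617)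
theorem F169686 : act 5 n36623 = n36305 := d25_2 (iv F162458) D36623 F167942
theorem F169687 : act 6 n36623 = n35093 := d26_2 (iv F162459) D36623 (iv D35093)
def n36624 : Q := act 7 n35028
theorem D36624 : act 7 n35028 = n36624 := rfl
theorem F169688 : act 1 n36624 = n35032 := d14_1 D36624 (iv D35032) (iv F162456)
theorem F169689 : act 2 n36624 = n36270 := d21_1 D36624 (iv D36270) (iv F162457)
theorem F169690 : act 4 n36624 = n35029 := d32_1 D36624 (iv D35029) D35028
theorem F169691 : act 5 n36624 = n36310 := d36_1 D36624 (iv D36310) (iv F162458)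
def n36625 : Q := act 8 n35028
theorem D36625 : act 8 n35028 = n36625 := rfl
theorem F169692 : act 1 n36625 = n35033 := d15_1 D36625 (iv D35033) (iv F162456)
theorem F169693 : act 2 n36625 = n36232 := d22_1 D36625 F167753 (iv F162457)
theorem F169694 : act 4 n36625 = n35030 := d33_1 D36625 (iv D35030) D35028
theorem F169695 : act 6 n36625 = n35095 := d40_1 D36625 (iv D35095) (iv F162459)
def n36626 : Q := act 6 n35029
theorem D36626 : act 6 n35029 = n36626 := rfl
theorem F169696 : act 1 n36626 = n35034 := d13_1 D36626 (iv D35034) (iv F162460)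
theorem F169697 : act 2 n36626 = n36367 := d20_1 D36626 F168102 (iv F162461)
theorem F169698 : act 3 n36626 = n35173 := d26_1 D36626 (iv D35173) (iv F162462)
theorem F169699 : act 7 n36626 = n35096 := d39_2 D35029 D36626 (iv D35096) (iv D33345) (iv F154618)
def n36627 : Q := act 8 n35029
theorem D36627 : act 8 n35029 = n36627 := rfl
theorem F169700 : act 1 n36627 = n35035 := d15_1 D36627 (iv D35035) (iv F162460)
theorem F169701 : act 2 n36627 = n36359 := d22_1 D36627 F168081 (iv F162461)
theorem F169702 : act 3 n36627 = n35174 := d28_1 D36627 (iv D35174) (iv F162462)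
theorem F169703 : act 5 n36627 = n36627 := d37_1 D36627 (iv D36627) F162463 F154623 (iv F162463)
theorem F169704 : act 7 n36627 = n35030 := d42_1 D36627 (iv D35030) D35029
def n36628 : Q := act 9 n35030
theorem D36628 : act 9 n35030 = n36628 := rfl
theorem F169705 : act 0 n36628 = n35224 := d8_1 D36628 (iv F169683) F169677
theorem F169706 : act 1 n36628 = n35036 := d16_1 D36628 (iv D35036) (iv F162464)
theorem F169707 : act 2 n36628 = n36360 := d23_1 D36628 (iv D36360) (iv F162465)
theorem F169708 : act 3 n36628 = n35175 := d29_1 D36628 (iv D35175) (iv F162466)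
theorem F169709 : act 5 n36628 = n36628 := d38_1 D36628 (iv D36628) F162467
theorem F169710 : act 6 n36628 = n35098 := d41_1 D36628 (iv D35098) (iv F162468)
theorem F169711 : act 8 n36628 = n35218 := d44_1 D36628 F169587 (iv D36606) F162379 D35030
def n36629 : Q := act 7 n35031
theorem D36629 : act 7 n35031 = n36629 := rfl
theorem F169712 : act 0 n36629 = n36007 := d6_1 D36629 (iv D36007) (iv F162469)
theorem F169713 : act 2 n36629 = n35445 := d21_1 D36629 (iv D35445) (iv F162470)
theorem F169714 : act 3 n36629 = n35032 := d27_1 D36629 (iv D35032) D35031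
theorem F169715 : act 4 n36629 = n35176 := d32_1 D36629 (iv D35176) (iv F162471)
def n36630 : Q := act 8 n35031
theorem D36630 : act 8 n35031 = n36630 := rfl
theorem F169716 : act 0 n36630 = n36008 := d7_1 D36630 (iv D36008) (iv F162469)
theorem F169717 : act 2 n36630 = n35446 := d22_1 D36630 (iv D35446) (iv F162470)
theorem F169718 : act 3 n36630 = n35033 := d28_1 D36630 (iv D35033) D35031
theorem F169719 : act 4 n36630 = n35177 := d33_1 D36630 (iv D35177) (iv F162471)
theorem F169720 : act 6 n36630 = n35100 := d40_1 D36630 (iv D35100) (iv F162472)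
theorem F169721 : act 9 n36630 = n36070 := d44_2 F169593 D36630 (iv D36070) (iv F167097) F169594
def n36631 : Q := act 6 n35032
theorem D36631 : act 6 n35032 = n36631 := rfl
theorem F169722 : act 0 n36631 = n36009 := d5_1 D36631 (iv D36009) (iv F162473)
theorem F169723 : act 2 n36631 = n35037 := d20_1 D36631 (iv D35037) (iv F162474)
theorem F169724 : act 4 n36631 = n35034 := d31_1 D36631 (iv D35034) (iv F162475)
theorem F169725 : act 7 n36631 = n35101 := d39_2 D35032 D36631 (iv D35101) (iv D33348) (iv F154626)
def n36632 : Q := act 8 n35032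
theorem D36632 : act 8 n35032 = n36632 := rfl
theorem F169726 : act 0 n36632 = n36010 := d7_1 D36632 (iv D36010) (iv F162473)
theorem F169727 : act 2 n36632 = n35038 := d22_1 D36632 (iv D35038) (iv F162474)
theorem F169728 : act 4 n36632 = n35035 := d33_1 D36632 (iv D35035) (iv F162475)
theorem F169729 : act 7 n36632 = n35033 := d42_1 D36632 (iv D35033) D35032
def n36633 : Q := act 5 n35033
theorem D36633 : act 5 n35033 = n36633 := rfl
theorem F169730 : act 0 n36633 = n36011 := d4_1 D36633 (iv D36011) (iv F162476)
theorem F169731 : act 2 n36633 = n35039 := d19_1 D36633 (iv D35039) (iv F162477)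
theorem F169732 : act 4 n36633 = n36633 := d30_1 D36633 (iv D36633) F162478 F154634 (iv F162478)
def n36634 : Q := act 9 n35033
theorem D36634 : act 9 n35033 = n36634 := rfl
theorem F169733 : act 0 n36634 = n36012 := d8_1 D36634 (iv D36012) (iv F162476)
theorem F169734 : act 2 n36634 = n35040 := d23_1 D36634 (iv D35040) (iv F162477)
theorem F169735 : act 3 n36634 = n36070 := d29_1 D36634 (iv F169721) F169718
theorem F169736 : act 4 n36634 = n35036 := d34_1 D36634 (iv D35036) (iv F162478)
theorem F169737 : act 6 n36634 = n35104 := d41_1 D36634 (iv D35104) (iv F162479)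
theorem F169738 : act 8 n36634 = n36068 := d44_1 D36634 F169605 (iv D36609) F162391 D35033
def n36635 : Q := act 8 n35034
theorem D36635 : act 8 n35034 = n36635 := rfl
theorem F169739 : act 0 n36635 = n36013 := d7_1 D36635 (iv D36013) (iv F162480)
theorem F169740 : act 2 n36635 = n35041 := d22_1 D36635 (iv D35041) (iv F162481)
theorem F169741 : act 3 n36635 = n35180 := d28_1 D36635 (iv D35180) (iv F162482)
theorem F169742 : act 6 n36635 = n35035 := d40_1 D36635 (iv D35035) D35034
theorem F169743 : act 7 n36635 = n35105 := d42_1 D36635 (iv D35105) (iv F162483)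
def n36636 : Q := act 9 n35035
theorem D36636 : act 9 n35035 = n36636 := rfl
theorem F169744 : act 0 n36636 = n36014 := d8_1 D36636 (iv D36014) (iv F162484)
theorem F169745 : act 2 n36636 = n35042 := d23_1 D36636 (iv D35042) (iv F162485)
theorem F169746 : act 3 n36636 = n35181 := d29_1 D36636 (iv D35181) (iv F162486)
theorem F169747 : act 5 n36636 = n36636 := d38_1 D36636 (iv D36636) F162487
theorem F169748 : act 7 n36636 = n35036 := d43_1 D36636 (iv D35036) (iv F162488)
theorem F169749 : act 8 n36636 = n36167 := d44_1 D36636 F169617 (iv D36611) F162396 D35035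
def n36637 : Q := act 5 n35037
theorem D36637 : act 5 n35037 = n36637 := rfl
theorem F169750 : act 0 n36637 = n36015 := d4_1 D36637 (iv D36015) (iv F162495)
theorem F169751 : act 3 n36637 = n35452 := d25_1 D36637 (iv D35452) (iv F162496)
theorem F169752 : act 7 n36637 = n35107 := d36_2 (iv F162498) D36637 (iv D35107)
def n36638 : Q := act 8 n35037
theorem D36638 : act 8 n35037 = n36638 := rfl
theorem F169753 : act 0 n36638 = n36016 := d7_1 D36638 (iv D36016) (iv F162495)
theorem F169754 : act 3 n36638 = n35453 := d28_1 D36638 (iv D35453) (iv F162496)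
theorem F169755 : act 4 n36638 = n35041 := d33_1 D36638 (iv D35041) (iv F162497)
theorem F169756 : act 6 n36638 = n35038 := d40_1 D36638 (iv D35038) D35037
theorem F169757 : act 7 n36638 = n35108 := d42_1 D36638 (iv D35108) (iv F162498)
def n36639 : Q := act 5 n35038
theorem D36639 : act 5 n35038 = n36639 := rfl
theorem F169758 : act 0 n36639 = n36017 := d4_1 D36639 (iv D36017) (iv F162499)
theorem F169759 : act 3 n36639 = n35454 := d25_1 D36639 (iv D35454) (iv F162500)
theorem F169760 : act 4 n36639 = n36639 := d30_1 D36639 (iv D36639) F162501 F154648 (iv F162501)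
theorem F169761 : act 7 n36639 = n35039 := d36_2 (iv F162502) D36639 (iv D35039)
def n36640 : Q := act 9 n35038
theorem D36640 : act 9 n35038 = n36640 := rfl
theorem F169762 : act 0 n36640 = n36018 := d8_1 D36640 (iv D36018) (iv F162499)
theorem F169763 : act 3 n36640 = n35455 := d29_1 D36640 (iv D35455) (iv F162500)
theorem F169764 : act 4 n36640 = n35042 := d34_1 D36640 (iv D35042) (iv F162501)
theorem F169765 : act 7 n36640 = n35040 := d43_1 D36640 (iv D35040) (iv F162502)
def n36641 : Q := act 6 n35039
theorem D36641 : act 6 n35039 = n36641 := rfl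
theorem F169766 : act 0 n36641 = n36019 := d5_1 D36641 (iv D36019) (iv F162503)
theorem F169767 : act 3 n36641 = n35456 := d26_1 D36641 (iv D35456) (iv F162504)
theorem F169768 : act 4 n36641 = n36641 := d31_1 D36641 (iv D36641) F162505
theorem F169769 : act 5 n36641 = n35111 := d35_1 D36641 (iv D35111) (iv D33355) (iv F154642) D35039
def n36642 : Q := act 9 n35039
theorem D36642 : act 9 n35039 = n36642 := rfl
theorem F169770 : act 0 n36642 = n36020 := d8_1 D36642 (iv D36020) (iv F162503)
theorem F169771 : act 3 n36642 = n35457 := d29_1 D36642 (iv D35457) (iv F162504)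
theorem F169772 : act 4 n36642 = n36642 := d34_1 D36642 (iv D36642) F162505
theorem F169773 : act 5 n36642 = n35040 := d38_1 D36642 (iv D35040) D35039
def n36643 : Q := act 5 n35041
theorem D36643 : act 5 n35041 = n36643 := rfl
theorem F169774 : act 0 n36643 = n36021 := d4_1 D36643 (iv D36021) (iv F162510)
theorem F169775 : act 3 n36643 = n35043 := d25_1 D36643 (iv D35043) (iv F162511)
theorem F169776 : act 6 n36643 = n36643 := d35_2 (iv F162512) D36643 (iv D36643) F162512 F154648
theorem F169777 : act 7 n36643 = n35113 := d36_2 (iv F162513) D36643 (iv D35113)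
def n36644 : Q := act 9 n35041
theorem D36644 : act 9 n35041 = n36644 := rfl
theorem F169778 : act 0 n36644 = n36022 := d8_1 D36644 (iv D36022) (iv F162510)
theorem F169779 : act 3 n36644 = n35044 := d29_1 D36644 (iv D35044) (iv F162511)
theorem F169780 : act 6 n36644 = n35042 := d41_1 D36644 (iv D35042) (iv F162512)
theorem F169781 : act 7 n36644 = n35114 := d43_1 D36644 (iv D35114) (iv F162513)
def n36645 : Q := act 4 n35043
theorem D36645 : act 4 n35043 = n36645 := rfl
theorem F169782 : act 0 n36645 = n36023 := d3_1 D36645 (iv D36023) (iv F162518)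
theorem F169783 : act 2 n36645 = n35186 := d18_1 D36645 (iv D35186) (iv F162519)
theorem F169784 : act 5 n36645 = n35460 := d30_2 D35043 D36645 (iv D35460) (iv D33695) (iv F154656)
theorem F169785 : act 6 n36645 = n36645 := d31_2 F162520 D36645 (iv D36645)
theorem F169786 : act 7 n36645 = n35115 := d32_2 (iv F162521) D36645 (iv D35115)
def n36646 : Q := act 9 n35043
theorem D36646 : act 9 n35043 = n36646 := rfl
theorem F169787 : act 0 n36646 = n36024 := d8_1 D36646 (iv D36024) (iv F162518)
theorem F169788 : act 2 n36646 = n35187 := d23_1 D36646 (iv D35187) (iv F162519)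
theorem F169789 : act 5 n36646 = n35044 := d38_1 D36646 (iv D35044) D35043
theorem F169790 : act 6 n36646 = n36646 := d41_1 D36646 (iv D36646) F162520
theorem F169791 : act 7 n36646 = n35116 := d43_1 D36646 (iv D35116) (iv F162521)
def n36647 : Q := act 4 n35045
theorem D36647 : act 4 n35045 = n36647 := rfl
theorem F169792 : act 0 n36647 = n35710 := d3_1 D36647 F165855 (iv F162527)
theorem F169793 : act 1 n36647 = n35047 := d11_1 D36647 (iv D35047) (iv F162528)
theorem F169794 : act 2 n36647 = n35988 := d18_1 D36647 (iv D35988) (iv F162529)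
theorem F169795 : act 3 n36647 = n35752 := d24_1 D36647 F166016 F158280 (iv F155305) (iv F162530)
theorem F169796 : act 5 n36647 = n35927 := d30_2 D35045 D36647 (iv D35927) (iv D34221) (iv F154677)
theorem F169797 : act 6 n36647 = n35351 := d31_2 (iv F162531) D36647 F164157
theorem F169798 : act 8 n36647 = n35768 := d33_2 F162533 D36647 F166072
theorem F169799 : act 9 n36647 = n35310 := d34_2 (iv F162532) D36647 F163957
def n36648 : Q := act 7 n35045
theorem D36648 : act 7 n35045 = n36648 := rfl
theorem F169800 : act 0 n36648 = n35712 := d6_1 D36648 F165862 (iv F162527)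
theorem F169801 : act 1 n36648 = n35048 := d14_1 D36648 (iv D35048) (iv F162528)
theorem F169802 : act 2 n36648 = n35989 := d21_1 D36648 (iv D35989) (iv F162529)
theorem F169803 : act 3 n36648 = n35188 := d27_1 D36648 (iv D35188) (iv F162530)
theorem F169804 : act 5 n36648 = n35046 := d36_1 D36648 (iv D35046) D35045
theorem F169805 : act 8 n36648 = n35770 := d42_2 F162533 D36648 F166081
theorem F169806 : act 9 n36648 = n35312 := d43_2 (iv F162532) D36648 F163970
def n36649 : Q := act 7 n35047
theorem D36649 : act 7 n35047 = n36649 := rfl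
theorem F169807 : act 0 n36649 = n36025 := d6_1 D36649 (iv D36025) (iv F162542)
theorem F169808 : act 2 n36649 = n35049 := d21_1 D36649 (iv D35049) (iv F162543)
theorem F169809 : act 4 n36649 = n35048 := d32_1 D36649 (iv D35048) D35047
theorem F169810 : act 5 n36649 = n35929 := d36_1 D36649 (iv D35929) (iv F162544)
theorem F169811 : act 8 n36649 = n35823 := d42_2 (iv F162546) D36649 F166270
theorem F169812 : act 9 n36649 = n35421 := d43_2 (iv F162547) D36649 F164453
def n36650 : Q := act 6 n35048
theorem D36650 : act 6 n35048 = n36650 := rfl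
theorem F169813 : act 0 n36650 = n36026 := d5_1 D36650 (iv D36026) (iv F162548)
theorem F169814 : act 2 n36650 = n35051 := d20_1 D36650 (iv D35051) (iv F162549)
theorem F169815 : act 3 n36650 = n35189 := d26_1 D36650 (iv D35189) (iv F162550)
theorem F169816 : act 5 n36650 = n35467 := d35_1 D36650 (iv D35467) F156655 (iv F154690) (iv F162551)
theorem F169817 : act 7 n36650 = n35484 := d39_2 D35048 D36650 F164737 F156730 (iv F154683)
theorem F169818 : act 8 n36650 = n35826 := d40_2 (iv F162552) D36650 F166277
theorem F169819 : act 9 n36650 = n35422 := d41_2 (iv F162553) D36650 F164458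
def n36651 : Q := act 6 n35049
theorem D36651 : act 6 n35049 = n36651 := rfl
theorem F169820 : act 0 n36651 = n36027 := d5_1 D36651 (iv D36027) (iv F162554)
theorem F169821 : act 1 n36651 = n35995 := d13_1 D36651 (iv D35995) (iv F162555)
theorem F169822 : act 3 n36651 = n35064 := d26_1 D36651 (iv D35064) (iv F162556)
theorem F169823 : act 4 n36651 = n35051 := d31_1 D36651 (iv D35051) (iv F162557)
theorem F169824 : act 7 n36651 = n36185 := d39_2 D35049 D36651 (iv D36185) (iv D34513) (iv F154697)
theorem F169825 : act 9 n36651 = n35718 := d41_2 (iv F162559) D36651 (iv D35718)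
def n36652 : Q := act 8 n35049
theorem D36652 : act 8 n35049 = n36652 := rfl
theorem F169826 : act 0 n36652 = n36028 := d7_1 D36652 (iv D36028) (iv F162554)
theorem F169827 : act 1 n36652 = n35996 := d15_1 D36652 (iv D35996) (iv F162555)
theorem F169828 : act 2 n36652 = n35823 := d22_1 D36652 (iv F169811) F169808
theorem F169829 : act 3 n36652 = n35065 := d28_1 D36652 (iv D35065) (iv F162556)
theorem F169830 : act 4 n36652 = n35052 := d33_1 D36652 (iv D35052) (iv F162557)
theorem F169831 : act 7 n36652 = n35050 := d42_1 D36652 (iv D35050) D35049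
theorem F169832 : act 9 n36652 = n35817 := d44_2 (iv F162559) D36652 (iv D35817) (iv F164438) F164437
def n36653 : Q := act 8 n35051
theorem D36653 : act 8 n35051 = n36653 := rfl
theorem F169833 : act 0 n36653 = n36030 := d7_1 D36653 (iv D36030) (iv F162567)
theorem F169834 : act 1 n36653 = n35998 := d15_1 D36653 (iv D35998) (iv F162568)
theorem F169835 : act 2 n36653 = n35826 := d22_1 D36653 (iv F169818) F169814
theorem F169836 : act 3 n36653 = n35053 := d28_1 D36653 (iv D35053) (iv F162569)
theorem F169837 : act 6 n36653 = n35052 := d40_1 D36653 (iv D35052) D35051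
theorem F169838 : act 7 n36653 = n35843 := d42_1 D36653 F166334 (iv F162571)
theorem F169839 : act 9 n36653 = n35819 := d44_2 (iv F162572) D36653 (iv D35819) (iv F164445) F164444
def n36654 : Q := act 5 n35053
theorem D36654 : act 5 n35053 = n36654 := rfl
theorem F169840 : act 0 n36654 = n36031 := d4_1 D36654 (iv D36031) (iv F162580)
theorem F169841 : act 1 n36654 = n35999 := d12_1 D36654 (iv D35999) (iv F162581)
theorem F169842 : act 2 n36654 = n35191 := d19_1 D36654 (iv D35191) (iv F162582)
theorem F169843 : act 6 n36654 = n36654 := d35_2 (iv F162584) D36654 (iv D36654) F162584 F154722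
theorem F169844 : act 7 n36654 = n35907 := d36_2 (iv F162585) D36654 F166539
theorem F169845 : act 8 n36654 = n35475 := d37_2 D35053 D36654 (iv D35475) (iv D33708) (iv F154715)
theorem F169846 : act 9 n36654 = n35896 := d38_2 (iv F162586) D36654 (iv D35896)
def n36655 : Q := act 7 n35054
theorem D36655 : act 7 n35054 = n36655 := rfl
theorem F169847 : act 0 n36655 = n35929 := d6_1 D36655 (iv D35929) (iv F162587)
theorem F169848 : act 2 n36655 = n35057 := d21_1 D36655 (iv D35057) (iv F162588)
theorem F169849 : act 4 n36655 = n35055 := d32_1 D36655 (iv D35055) D35054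
theorem F169850 : act 5 n36655 = n36025 := d36_1 D36655 (iv D36025) (iv F162589)
theorem F169851 : act 9 n36655 = n35062 := d43_2 (iv F162591) D36655 (iv D35062)
def n36656 : Q := act 6 n35055
theorem D36656 : act 6 n35055 = n36656 := rfl
theorem F169852 : act 0 n36656 = n35930 := d5_1 D36656 (iv D35930) (iv F162592)
theorem F169853 : act 2 n36656 = n35059 := d20_1 D36656 (iv D35059) (iv F162593)
theorem F169854 : act 3 n36656 = n35192 := d26_1 D36656 (iv D35192) (iv F162594)
theorem F169855 : act 5 n36656 = n35079 := d35_1 D36656 (iv D35079) F154842 (iv F154743) (iv F162595)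
theorem F169856 : act 7 n36656 = n35923 := d39_2 D35055 D36656 (iv D35923) (iv D34214) (iv F154737)
theorem F169857 : act 9 n36656 = n35063 := d41_2 (iv F162596) D36656 (iv D35063)
def n36657 : Q := act 8 n35055
theorem D36657 : act 8 n35055 = n36657 := rfl
theorem F169858 : act 0 n36657 = n35931 := d7_1 D36657 (iv D35931) (iv F162592)
theorem F169859 : act 2 n36657 = n35060 := d22_1 D36657 (iv D35060) (iv F162593)
theorem F169860 : act 3 n36657 = n35193 := d28_1 D36657 (iv D35193) (iv F162594)
theorem F169861 : act 5 n36657 = n36657 := d37_1 D36657 (iv D36657) F162595 F154744 (iv F162595)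
theorem F169862 : act 7 n36657 = n35056 := d42_1 D36657 (iv D35056) D35055
theorem F169863 : act 9 n36657 = n35535 := d44_2 (iv F162596) D36657 F164937 (iv F162194) F162193
def n36658 : Q := act 6 n35057
theorem D36658 : act 6 n35057 = n36658 := rfl
theorem F169864 : act 0 n36658 = n35932 := d5_1 D36658 (iv D35932) (iv F162603)
theorem F169865 : act 1 n36658 = n36213 := d13_1 D36658 (iv D36213) (iv F162604)
theorem F169866 : act 3 n36658 = n35718 := d26_1 D36658 (iv D35718) (iv F162605)
theorem F169867 : act 4 n36658 = n35059 := d31_1 D36658 (iv D35059) (iv F162606)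
theorem F169868 : act 7 n36658 = n35924 := d39_2 D35057 D36658 (iv D35924) (iv D34215) (iv F154750)
theorem F169869 : act 9 n36658 = n35064 := d41_2 (iv F162608) D36658 (iv D35064)
def n36659 : Q := act 8 n35057
theorem D36659 : act 8 n35057 = n36659 := rfl
theorem F169870 : act 0 n36659 = n35933 := d7_1 D36659 (iv D35933) (iv F162603)
theorem F169871 : act 1 n36659 = n36214 := d15_1 D36659 (iv D36214) (iv F162604)
theorem F169872 : act 3 n36659 = n35418 := d28_1 D36659 F164437 (iv F162605)
theorem F169873 : act 4 n36659 = n35060 := d33_1 D36659 (iv D35060) (iv F162606)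
theorem F169874 : act 7 n36659 = n35058 := d42_1 D36659 (iv D35058) D35057
theorem F169875 : act 9 n35815 = n36659 := d43_0 F169874 (iv F162614) D35815
def n36660 : Q := act 8 n35059
theorem D36660 : act 8 n35059 = n36660 := rfl
theorem F169876 : act 0 n36660 = n35934 := d7_1 D36660 (iv D35934) (iv F162615)
theorem F169877 : act 1 n36660 = n36216 := d15_1 D36660 (iv D36216) (iv F162616)
theorem F169878 : act 3 n36660 = n35061 := d28_1 D36660 (iv D35061) (iv F162617)
theorem F169879 : act 6 n36660 = n35060 := d40_1 D36660 (iv D35060) D35059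
theorem F169880 : act 7 n36660 = n35583 := d42_1 D36660 F165193 (iv F162619)
theorem F169881 : act 9 n35894 = n36660 := d43_0 F169880 F165194 (iv F166504)
def n36661 : Q := act 5 n35061
theorem D36661 : act 5 n35061 = n36661 := rfl
theorem F169882 : act 0 n36661 = n35935 := d4_1 D36661 (iv D35935) (iv F162627)
theorem F169883 : act 1 n36661 = n36217 := d12_1 D36661 (iv D36217) (iv F162628)
theorem F169884 : act 2 n36661 = n35196 := d19_1 D36661 (iv D35196) (iv F162629)
theorem F169885 : act 4 n36661 = n35568 := d30_1 D36661 (iv D35568) F157090 (iv F156978) (iv F162630)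
theorem F169886 : act 6 n36661 = n36661 := d35_2 (iv F162631) D36661 (iv D36661) F162631 F154774
theorem F169887 : act 7 n36661 = n35584 := d36_2 (iv F162632) D36661 (iv D35584)
theorem F169888 : act 8 n36661 = n35088 := d37_2 D35061 D36661 (iv D35088) (iv D33340) (iv F154767)
theorem F169889 : act 9 n36661 = n35895 := d38_2 F162633 D36661 (iv D35895)
def n36662 : Q := act 6 n35062
theorem D36662 : act 6 n35062 = n36662 := rfl
theorem F169890 : act 0 n36662 = n36035 := d5_1 D36662 (iv D36035) (iv F162634)
theorem F169891 : act 2 n36662 = n35064 := d20_1 D36662 (iv D35064) (iv F162635)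
theorem F169892 : act 4 n36662 = n35063 := d31_1 D36662 (iv D35063) (iv F162636)
def n36663 : Q := act 5 n35064
theorem D36663 : act 5 n35064 = n36663 := rfl
theorem F169893 : act 0 n36663 = n36038 := d4_1 D36663 (iv D36038) (iv F162642)
theorem F169894 : act 1 n36663 = n36228 := d12_1 D36663 (iv D36228) (iv F162643)
theorem F169895 : act 4 n36663 = n35107 := d30_1 D36663 (iv D35107) F154922 (iv F154794) (iv F162644)
theorem F169896 : act 6 n36663 = n36188 := d35_2 D35064 D36663 (iv D36188) (iv D34518) (iv F154787)
def n36664 : Q := act 8 n35064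
theorem D36664 : act 8 n35064 = n36664 := rfl
theorem F169897 : act 0 n36664 = n36039 := d7_1 D36664 (iv D36039) (iv F162642)
theorem F169898 : act 1 n36664 = n36229 := d15_1 D36664 (iv D36229) (iv F162643)
theorem F169899 : act 4 n36664 = n35067 := d33_1 D36664 (iv D35067) (iv F162644)
theorem F169900 : act 6 n36664 = n35065 := d40_1 D36664 (iv D35065) D35064
def n36665 : Q := act 9 n35065
theorem D36665 : act 9 n35065 = n36665 := rfl
theorem F169901 : act 0 n36665 = n36041 := d8_1 D36665 (iv D36041) (iv F162645)
theorem F169902 : act 1 n36665 = n36231 := d16_1 D36665 (iv D36231) (iv F162646)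
theorem F169903 : act 2 n36665 = n35543 := d23_1 D36665 F169309 F169304
theorem F169904 : act 3 n36665 = n35817 := d29_1 D36665 (iv F169832) F169829
theorem F169905 : act 4 n36665 = n35068 := d34_1 D36665 (iv D35068) (iv F162647)
theorem F169906 : act 7 n36665 = n35066 := d43_1 D36665 (iv D35066) (iv F162648)
theorem F169907 : act 8 n36665 = n35815 := d44_1 D36665 F169875 (iv D36659) F162608 D35065
def n36666 : Q := act 5 n35067
theorem D36666 : act 5 n35067 = n36666 := rfl
theorem F169908 : act 0 n36666 = n36043 := d4_1 D36666 (iv D36043) (iv F162656)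
theorem F169909 : act 1 n36666 = n36234 := d12_1 D36666 (iv D36234) (iv F162657)
theorem F169910 : act 3 n36666 = n35069 := d25_1 D36666 (iv D35069) (iv F162658)
theorem F169911 : act 6 n36666 = n35117 := d35_2 (iv F162659) D36666 (iv D35117) F154950 (iv F154798)
theorem F169912 : act 8 n36666 = n35113 := d37_2 D35067 D36666 (iv D35113) (iv D33357) (iv F154794)
def n36667 : Q := act 9 n35067
theorem D36667 : act 9 n35067 = n36667 := rfl
theorem F169913 : act 0 n36667 = n36044 := d8_1 D36667 (iv D36044) (iv F162656)
theorem F169914 : act 1 n36667 = n36235 := d16_1 D36667 (iv D36235) (iv F162657)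
theorem F169915 : act 2 n36667 = n35531 := d23_1 D36667 (iv F169370) F169367
theorem F169916 : act 3 n36667 = n35070 := d29_1 D36667 (iv D35070) (iv F162658)
theorem F169917 : act 6 n36667 = n35068 := d41_1 D36667 (iv D35068) (iv F162659)
theorem F169918 : act 7 n36667 = n35903 := d43_1 D36667 (iv F169548) F169547
theorem F169919 : act 8 n36667 = n35894 := d44_1 D36667 F169881 (iv D36660) F162620 D35067
def n36668 : Q := act 4 n35069
theorem D36668 : act 4 n35069 = n36668 := rfl
theorem F169920 : act 0 n36668 = n36045 := d3_1 D36668 (iv D36045) (iv F162667)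
theorem F169921 : act 1 n36668 = n36236 := d11_1 D36668 (iv D36236) (iv F162668)
theorem F169922 : act 2 n36668 = n35199 := d18_1 D36668 (iv D35199) (iv F162669)
theorem F169923 : act 6 n36668 = n35119 := d31_2 (iv F162670) D36668 (iv D35119)
theorem F169924 : act 8 n36668 = n35115 := d33_2 (iv F162671) D36668 (iv D35115)
def n36669 : Q := act 9 n35069
theorem D36669 : act 9 n35069 = n36669 := rfl
theorem F169925 : act 0 n36669 = n36046 := d8_1 D36669 (iv D36046) (iv F162667)
theorem F169926 : act 1 n36669 = n36237 := d16_1 D36669 (iv D36237) (iv F162668)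
theorem F169927 : act 2 n36669 = n35200 := d23_1 D36669 (iv D35200) (iv F162669)
theorem F169928 : act 5 n36669 = n35070 := d38_1 D36669 (iv D35070) D35069
theorem F169929 : act 6 n36669 = n35120 := d41_1 D36669 (iv D35120) (iv F162670)
theorem F169930 : act 7 n36669 = n35905 := d43_1 D36669 (iv F169555) F169553
def n36670 : Q := act 4 n35071
theorem D36670 : act 4 n35071 = n36670 := rfl
theorem F169931 : act 0 n36670 = n35073 := d3_1 D36670 (iv D35073) (iv F162679)
theorem F169932 : act 1 n36670 = n36047 := d11_1 D36670 (iv D36047) (iv F162680)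
theorem F169933 : act 2 n36670 = n35457 := d18_1 D36670 F164612 (iv F162681)
theorem F169934 : act 5 n36670 = n35449 := d30_2 D35071 D36670 F164583 F156604 (iv F154822)
theorem F169935 : act 9 n36670 = n35090 := d34_2 (iv F162683) D36670 (iv D35090)
def n36671 : Q := act 7 n35071
theorem D36671 : act 7 n35071 = n36671 := rfl
theorem F169936 : act 0 n36671 = n35074 := d6_1 D36671 (iv D35074) (iv F162679)
theorem F169937 : act 1 n36671 = n36048 := d14_1 D36671 (iv D36048) (iv F162680)
theorem F169938 : act 2 n36671 = n35692 := d21_1 D36671 F165786 (iv F162681)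
theorem F169939 : act 3 n36671 = n35201 := d27_1 D36671 (iv D35201) (iv F162682)
theorem F169940 : act 5 n36671 = n35072 := d36_1 D36671 (iv D35072) D35071
theorem F169941 : act 9 n36671 = n35091 := d43_2 (iv F162683) D36671 (iv D35091)
def n36672 : Q := act 8 n35071
theorem D36672 : act 8 n35071 = n36672 := rfl
theorem F169942 : act 0 n36672 = n35075 := d7_1 D36672 (iv D35075) (iv F162679)
theorem F169943 : act 1 n36672 = n35159 := d15_1 D36672 F163105 (iv F162680)
theorem F169944 : act 2 n36672 = n35694 := d22_1 D36672 (iv D35694) (iv F162681)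
theorem F169945 : act 3 n36672 = n35156 := d28_1 D36672 (iv F163089) (iv F162682)
theorem F169946 : act 5 n36672 = n36672 := d37_1 D36672 (iv D36672) (iv D35071) F154823 D35071
theorem F169947 : act 6 n36672 = n35202 := d40_1 D36672 (iv F169561) F169560
theorem F169948 : act 9 n35170 = n36672 := d41_0 F169947 F163353 (iv F163171)
def n36673 : Q := act 3 n35073
theorem D36673 : act 3 n35073 = n36673 := rfl
theorem F169949 : act 1 n36673 = n35076 := d10_1 D36673 (iv D35076) (iv F162692)
theorem F169950 : act 4 n36673 = n35202 := d24_2 D35073 D36673 (iv D35202) (iv D33447) (iv F154827)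
theorem F169951 : act 5 n36673 = n35968 := d25_2 (iv F162694) D36673 F166814
theorem F169952 : act 9 n36673 = n35093 := d29_2 (iv F162695) D36673 (iv D35093)
theorem F169953 : act 2 n36076 = n36673 := d19_3 F169951 F166813 D36076
def n36674 : Q := act 7 n35073
theorem D36674 : act 7 n35073 = n36674 := rfl
theorem F169954 : act 1 n36674 = n35077 := d14_1 D36674 (iv D35077) (iv F162692)
theorem F169955 : act 2 n36674 = n36269 := d21_1 D36674 F167862 (iv F162693)
theorem F169956 : act 4 n36674 = n35074 := d32_1 D36674 (iv D35074) D35073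
theorem F169957 : act 5 n36674 = n36263 := d36_1 D36674 F167848 (iv F162694)
theorem F169958 : act 9 n36674 = n35094 := d43_2 (iv F162695) D36674 (iv D35094)
def n36675 : Q := act 8 n35073
theorem D36675 : act 8 n35073 = n36675 := rfl
theorem F169959 : act 1 n36675 = n35078 := d15_1 D36675 (iv D35078) (iv F162692)
theorem F169960 : act 2 n36675 = n36271 := d22_1 D36675 (iv D36271) (iv F162693)
theorem F169961 : act 4 n36675 = n35075 := d33_1 D36675 (iv D35075) D35073
def n36676 : Q := act 6 n35074
theorem D36676 : act 6 n35074 = n36676 := rfl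
theorem F169962 : act 1 n36676 = n35079 := d13_1 D36676 (iv D35079) (iv F162696)
theorem F169963 : act 2 n36676 = n36368 := d20_1 D36676 F168104 (iv F162697)
theorem F169964 : act 3 n36676 = n35204 := d26_1 D36676 (iv D35204) (iv F162698)
theorem F169965 : act 9 n36676 = n35096 := d41_2 (iv F162700) D36676 (iv D35096)
def n36677 : Q := act 8 n35074
theorem D36677 : act 8 n35074 = n36677 := rfl
theorem F169966 : act 1 n36677 = n35080 := d15_1 D36677 (iv D35080) (iv F162696)
theorem F169967 : act 2 n36677 = n36369 := d22_1 D36677 (iv D36369) (iv F162697)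
theorem F169968 : act 3 n36677 = n35205 := d28_1 D36677 (iv D35205) (iv F162698)
theorem F169969 : act 5 n36677 = n36677 := d37_1 D36677 (iv D36677) F162699 F154833 (iv F162699)
theorem F169970 : act 7 n36677 = n35075 := d42_1 D36677 (iv D35075) D35074
def n36678 : Q := act 9 n35075
theorem D36678 : act 9 n35075 = n36678 := rfl
theorem F169971 : act 0 n36678 = n35170 := d8_1 D36678 F169948 F169942
theorem F169972 : act 1 n36678 = n35081 := d16_1 D36678 (iv D35081) (iv F162701)
theorem F169973 : act 2 n36678 = n36361 := d23_1 D36678 F168087 (iv F162702)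
theorem F169974 : act 3 n36678 = n35167 := d29_1 D36678 F163156 (iv F162703)
theorem F169975 : act 5 n36678 = n36678 := d38_1 D36678 (iv D36678) F162704
theorem F169976 : act 6 n36678 = n35218 := d41_1 D36678 F169587 F169586
theorem F169977 : act 8 n36678 = n35098 := d44_1 D36678 (iv D35098) (iv D33346) (iv F154828) D35075
def n36679 : Q := act 7 n35076
theorem D36679 : act 7 n35076 = n36679 := rfl
theorem F169978 : act 0 n36679 = n36052 := d6_1 D36679 (iv D36052) (iv F162705)
theorem F169979 : act 2 n36679 = n35487 := d21_1 D36679 (iv D35487) (iv F162706)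
theorem F169980 : act 3 n36679 = n35077 := d27_1 D36679 (iv D35077) D35076
theorem F169981 : act 4 n36679 = n35206 := d32_1 D36679 (iv D35206) (iv F162707)
theorem F169982 : act 5 n36679 = n35973 := d36_1 D36679 F166836 (iv F162708)
theorem F169983 : act 9 n36679 = n35099 := d43_2 (iv F162709) D36679 (iv D35099)
def n36680 : Q := act 8 n35076
theorem D36680 : act 8 n35076 = n36680 := rfl
theorem F169984 : act 0 n36680 = n35936 := d7_1 D36680 F166658 (iv F162705)
theorem F169985 : act 2 n36680 = n35488 := d22_1 D36680 (iv D35488) (iv F162706)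
theorem F169986 : act 3 n36680 = n35078 := d28_1 D36680 (iv D35078) D35076
theorem F169987 : act 4 n36680 = n35207 := d33_1 D36680 (iv D35207) (iv F162707)
theorem F169988 : act 5 n36680 = n35705 := d37_1 D36680 (iv D35705) F158037 D34261 (iv F162708)
theorem F169989 : act 6 n36680 = n36047 := d40_1 D36680 F169594 F169592
theorem F169990 : act 9 n36000 = n36680 := d41_0 F169989 F167097 (iv F166925)
def n36681 : Q := act 6 n35077
theorem D36681 : act 6 n35077 = n36681 := rfl
theorem F169991 : act 0 n36681 = n36053 := d5_1 D36681 (iv D36053) (iv F162710)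
theorem F169992 : act 2 n36681 = n35082 := d20_1 D36681 (iv D35082) (iv F162711)
theorem F169993 : act 4 n36681 = n35079 := d31_1 D36681 (iv D35079) (iv F162712)
theorem F169994 : act 9 n36681 = n35101 := d41_2 (iv F162714) D36681 (iv D35101)
def n36682 : Q := act 8 n35077
theorem D36682 : act 8 n35077 = n36682 := rfl
theorem F169995 : act 0 n36682 = n36054 := d7_1 D36682 (iv D36054) (iv F162710)
theorem F169996 : act 2 n36682 = n35083 := d22_1 D36682 (iv D35083) (iv F162711)
theorem F169997 : act 4 n36682 = n35080 := d33_1 D36682 (iv D35080) (iv F162712)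
theorem F169998 : act 7 n36682 = n35078 := d42_1 D36682 (iv D35078) D35077
def n36683 : Q := act 5 n35078
theorem D36683 : act 5 n35078 = n36683 := rfl
theorem F169999 : act 0 n36683 = n36055 := d4_1 D36683 (iv D36055) (iv F162715)
theorem F170000 : act 2 n36683 = n35084 := d19_1 D36683 (iv D35084) (iv F162716)
theorem F170001 : act 3 n36683 = n35705 := d25_1 D36683 (iv F169988) F169986
theorem F170002 : act 4 n36683 = n36683 := d30_1 D36683 (iv D36683) F162717 F154847 (iv F162717)
theorem F170003 : act 8 n36683 = n35703 := d37_2 D35078 D36683 F165834 (iv F159066) (iv F154837)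
def n36684 : Q := act 9 n35078
theorem D36684 : act 9 n35078 = n36684 := rfl
theorem F170004 : act 0 n36684 = n36002 := d8_1 D36684 F166933 (iv F162715)
theorem F170005 : act 2 n36684 = n35085 := d23_1 D36684 (iv D35085) (iv F162716)
theorem F170006 : act 3 n36684 = n36000 := d29_1 D36684 F169990 F169986
theorem F170007 : act 4 n36684 = n35081 := d34_1 D36684 (iv D35081) (iv F162717)
theorem F170008 : act 6 n36684 = n36068 := d41_1 D36684 F169605 F169604
theorem F170009 : act 8 n36684 = n35104 := d44_1 D36684 (iv D35104) (iv D33349) (iv F154838) D35078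
def n36685 : Q := act 8 n35079
theorem D36685 : act 8 n35079 = n36685 := rfl
theorem F170010 : act 0 n36685 = n36056 := d7_1 D36685 (iv D36056) (iv F162718)
theorem F170011 : act 2 n36685 = n35086 := d22_1 D36685 (iv D35086) (iv F162719)
theorem F170012 : act 3 n36685 = n35210 := d28_1 D36685 (iv D35210) (iv F162720)
theorem F170013 : act 6 n36685 = n35080 := d40_1 D36685 (iv D35080) D35079
def n36686 : Q := act 9 n35080
theorem D36686 : act 9 n35080 = n36686 := rfl
theorem F170014 : act 0 n36686 = n36057 := d8_1 D36686 (iv D36057) (iv F162722)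
theorem F170015 : act 2 n36686 = n35087 := d23_1 D36686 (iv D35087) (iv F162723)
theorem F170016 : act 3 n36686 = n35211 := d29_1 D36686 (iv D35211) (iv F162724)
theorem F170017 : act 5 n36686 = n36686 := d38_1 D36686 (iv D36686) F162725
theorem F170018 : act 7 n36686 = n35081 := d43_1 D36686 (iv D35081) (iv F162726)
theorem F170019 : act 8 n36686 = n35106 := d44_1 D36686 (iv D35106) (iv D33351) (iv F154843) D35080
def n36687 : Q := act 5 n35082
theorem D36687 : act 5 n35082 = n36687 := rfl
theorem F170020 : act 0 n36687 = n36058 := d4_1 D36687 (iv D36058) (iv F162733)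
theorem F170021 : act 3 n36687 = n35494 := d25_1 D36687 (iv D35494) (iv F162734)
theorem F170022 : act 6 n36687 = n36275 := d35_2 D35082 D36687 (iv D36275) (iv D34606) (iv F154851)
theorem F170023 : act 9 n36687 = n35107 := d38_2 (iv F162736) D36687 (iv D35107)
def n36688 : Q := act 8 n35082
theorem D36688 : act 8 n35082 = n36688 := rfl
theorem F170024 : act 0 n36688 = n36059 := d7_1 D36688 (iv D36059) (iv F162733)
theorem F170025 : act 3 n36688 = n35495 := d28_1 D36688 (iv D35495) (iv F162734)
theorem F170026 : act 4 n36688 = n35086 := d33_1 D36688 (iv D35086) (iv F162735)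
theorem F170027 : act 6 n36688 = n35083 := d40_1 D36688 (iv D35083) D35082
def n36689 : Q := act 5 n35083
theorem D36689 : act 5 n35083 = n36689 := rfl
theorem F170028 : act 0 n36689 = n36060 := d4_1 D36689 (iv D36060) (iv F162737)
theorem F170029 : act 3 n36689 = n35496 := d25_1 D36689 (iv D35496) (iv F162738)
theorem F170030 : act 4 n36689 = n36689 := d30_1 D36689 (iv D36689) F162739 F154861 (iv F162739)
theorem F170031 : act 7 n36689 = n35084 := d36_2 (iv F162740) D36689 (iv D35084)
theorem F170032 : act 8 n36689 = n35775 := d37_2 D35083 D36689 F166100 F160108 (iv F154851)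
def n36690 : Q := act 9 n35083
theorem D36690 : act 9 n35083 = n36690 := rfl
theorem F170033 : act 0 n36690 = n36061 := d8_1 D36690 (iv D36061) (iv F162737)
theorem F170034 : act 3 n36690 = n35497 := d29_1 D36690 (iv D35497) (iv F162738)
theorem F170035 : act 4 n36690 = n35087 := d34_1 D36690 (iv D35087) (iv F162739)
theorem F170036 : act 7 n36690 = n35085 := d43_1 D36690 (iv D35085) (iv F162740)
theorem F170037 : act 8 n36690 = n35110 := d44_1 D36690 (iv D35110) (iv D33354) (iv F154852) D35083
def n36691 : Q := act 6 n35084
theorem D36691 : act 6 n35084 = n36691 := rfl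
theorem F170038 : act 0 n36691 = n36062 := d5_1 D36691 (iv D36062) (iv F162741)
theorem F170039 : act 3 n36691 = n35498 := d26_1 D36691 (iv D35498) (iv F162742)
theorem F170040 : act 4 n36691 = n36691 := d31_1 D36691 (iv D36691) F162743
theorem F170041 : act 8 n36691 = n35762 := d40_2 (iv F162744) D36691 F166057
def n36692 : Q := act 9 n35084
theorem D36692 : act 9 n35084 = n36692 := rfl
theorem F170042 : act 0 n36692 = n36063 := d8_1 D36692 (iv D36063) (iv F162741)
theorem F170043 : act 3 n36692 = n35499 := d29_1 D36692 (iv D35499) (iv F162742)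
theorem F170044 : act 4 n36692 = n36692 := d34_1 D36692 (iv D36692) F162743
theorem F170045 : act 5 n36692 = n35085 := d38_1 D36692 (iv D35085) D35084
def n36693 : Q := act 5 n35086
theorem D36693 : act 5 n35086 = n36693 := rfl
theorem F170046 : act 0 n36693 = n36064 := d4_1 D36693 (iv D36064) (iv F162749)
theorem F170047 : act 3 n36693 = n35088 := d25_1 D36693 (iv D35088) (iv F162750)
theorem F170048 : act 6 n36693 = n36693 := d35_2 (iv F162751) D36693 (iv D36693) F162751 F154861
def n36694 : Q := act 9 n35086
theorem D36694 : act 9 n35086 = n36694 := rfl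
theorem F170049 : act 0 n36694 = n36065 := d8_1 D36694 (iv D36065) (iv F162749)
theorem F170050 : act 3 n36694 = n35089 := d29_1 D36694 (iv D35089) (iv F162750)
theorem F170051 : act 6 n36694 = n35087 := d41_1 D36694 (iv D35087) (iv F162751)
theorem F170052 : act 8 n36694 = n35114 := d44_1 D36694 (iv D35114) (iv D33357) (iv F154858) D35086
def n36695 : Q := act 4 n35088
theorem D36695 : act 4 n35088 = n36695 := rfl
theorem F170053 : act 0 n36695 = n36066 := d3_1 D36695 (iv D36066) (iv F162757)
theorem F170054 : act 2 n36695 = n35216 := d18_1 D36695 (iv D35216) (iv F162758)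
theorem F170055 : act 5 n36695 = n35502 := d30_2 D35088 D36695 (iv D35502) (iv D33733) (iv F154869)
theorem F170056 : act 6 n36695 = n36695 := d31_2 F162759 D36695 (iv D36695)
theorem F170057 : act 7 n36695 = n35610 := d32_2 F169657 D36695 F169659
theorem F170058 : act 8 n36695 = n35568 := d33_2 F169888 D36695 (iv F169885)
def n36696 : Q := act 9 n35088
theorem D36696 : act 9 n35088 = n36696 := rfl
theorem F170059 : act 0 n36696 = n36067 := d8_1 D36696 (iv D36067) (iv F162757)
theorem F170060 : act 2 n36696 = n35217 := d23_1 D36696 (iv D35217) (iv F162758)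
theorem F170061 : act 5 n36696 = n35089 := d38_1 D36696 (iv D35089) D35088
theorem F170062 : act 6 n36696 = n36696 := d41_1 D36696 (iv D36696) F162759
def n36697 : Q := act 3 n35090
theorem D36697 : act 3 n35090 = n36697 := rfl
theorem F170063 : act 0 n36697 = n35093 := d2_1 D36697 (iv D35093) (iv F162765)
theorem F170064 : act 1 n36697 = n36068 := d10_1 D36697 (iv D36068) (iv F162766)
theorem F170065 : act 4 n36697 = n35218 := d24_2 D35090 D36697 (iv D35218) (iv D33462) (iv F154880)
theorem F170066 : act 5 n36697 = n35446 := d25_2 (iv F162768) D36697 F164570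
def n36698 : Q := act 7 n35090
theorem D36698 : act 7 n35090 = n36698 := rfl
theorem F170067 : act 0 n36698 = n35094 := d6_1 D36698 (iv D35094) (iv F162765)
theorem F170068 : act 1 n36698 = n36069 := d14_1 D36698 (iv D36069) (iv F162766)
theorem F170069 : act 2 n36698 = n35454 := d21_1 D36698 F164604 (iv F162767)
theorem F170070 : act 4 n36698 = n35091 := d32_1 D36698 (iv D35091) D35090
theorem F170071 : act 5 n36698 = n35448 := d36_1 D36698 F164580 (iv F162768)
def n36699 : Q := act 8 n35090
theorem D36699 : act 8 n35090 = n36699 := rfl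
theorem F170072 : act 0 n36699 = n35095 := d7_1 D36699 (iv D35095) (iv F162765)
theorem F170073 : act 1 n36699 = n36070 := d15_1 D36699 (iv D36070) (iv F162766)
theorem F170074 : act 2 n36699 = n35412 := d22_1 D36699 F164418 (iv F162767)
theorem F170075 : act 4 n36699 = n35092 := d33_1 D36699 (iv D35092) D35090
theorem F170076 : act 5 n36699 = n35406 := d37_1 D36699 (iv D35406) F156442 D33685 (iv F162768)
def n36700 : Q := act 6 n35091
theorem D36700 : act 6 n35091 = n36700 := rfl
theorem F170077 : act 0 n36700 = n35096 := d5_1 D36700 (iv D35096) (iv F162769)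
theorem F170078 : act 1 n36700 = n36071 := d13_1 D36700 (iv D36071) (iv F162770)
theorem F170079 : act 2 n36700 = n35691 := d20_1 D36700 (iv D35691) (iv F162771)
theorem F170080 : act 3 n36700 = n35220 := d26_1 D36700 (iv D35220) (iv F162772)
theorem F170081 : act 5 n36700 = n35731 := d35_1 D36700 (iv D35731) (iv D34015) (iv F154886) (iv F162773)
def n36701 : Q := act 8 n35091
theorem D36701 : act 8 n35091 = n36701 := rfl
theorem F170082 : act 0 n36701 = n35097 := d7_1 D36701 (iv D35097) (iv F162769)
theorem F170083 : act 1 n36701 = n36072 := d15_1 D36701 (iv D36072) (iv F162770)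
theorem F170084 : act 2 n36701 = n35683 := d22_1 D36701 F165751 (iv F162771)
theorem F170085 : act 3 n36701 = n35221 := d28_1 D36701 (iv D35221) (iv F162772)
theorem F170086 : act 5 n36701 = n35121 := d37_1 D36701 (iv D35121) F154975 (iv F154887) (iv F162773)
theorem F170087 : act 7 n36701 = n35092 := d42_1 D36701 (iv D35092) D35091
def n36702 : Q := act 9 n35092
theorem D36702 : act 9 n35092 = n36702 := rfl
theorem F170088 : act 0 n36702 = n35098 := d8_1 D36702 (iv D35098) (iv F162774)
theorem F170089 : act 1 n36702 = n35177 := d16_1 D36702 F163205 (iv F162775)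
theorem F170090 : act 2 n36702 = n35686 := d23_1 D36702 (iv D35686) (iv F162776)
theorem F170091 : act 3 n36702 = n35172 := d29_1 D36702 F163181 (iv F162777)
theorem F170092 : act 5 n36702 = n35122 := d38_1 D36702 (iv D35122) (iv F162778)
theorem F170093 : act 6 n36702 = n35224 := d41_1 D36702 (iv F169683) F169682
theorem F170094 : act 8 n36702 = n35170 := d44_1 D36702 F169948 (iv D36672) F162683 D35092
def n36703 : Q := act 2 n35093
theorem D36703 : act 2 n35093 = n36703 := rfl
theorem F170095 : act 1 n36703 = n35505 := d9_1 D36703 (iv D35505) F156813 (iv F154900) (iv F162779)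
theorem F170096 : act 3 n36703 = n36011 := d17_2 D35093 D36703 F166967 F159242 (iv F154889)
theorem F170097 : act 4 n36703 = n35222 := d18_2 (iv F162780) D36703 (iv D35222)
theorem F170098 : act 5 n36703 = n36008 := d19_2 (iv F162781) D36703 F166956
theorem F170099 : act 9 n36703 = n36076 := d23_2 F169952 D36703 F169953
def n36704 : Q := act 7 n35093
theorem D36704 : act 7 n35093 = n36704 := rfl
theorem F170100 : act 1 n36704 = n35099 := d14_1 D36704 (iv D35099) (iv F162779)
theorem F170101 : act 3 n36704 = n35094 := d27_1 D36704 (iv D35094) D35093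
theorem F170102 : act 4 n36704 = n35223 := d32_1 D36704 (iv D35223) (iv F162780)
theorem F170103 : act 5 n36704 = n36260 := d36_1 D36704 F167838 (iv F162781)
def n36705 : Q := act 8 n35093
theorem D36705 : act 8 n35093 = n36705 := rfl
theorem F170104 : act 1 n36705 = n35100 := d15_1 D36705 (iv D35100) (iv F162779)
theorem F170105 : act 3 n36705 = n35095 := d28_1 D36705 (iv D35095) D35093
theorem F170106 : act 4 n36705 = n35224 := d33_1 D36705 (iv D35224) (iv F162780)
theorem F170107 : act 5 n36705 = n36222 := d37_1 D36705 (iv D36222) F160150 D34588 (iv F162781)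
def n36706 : Q := act 6 n35094
theorem D36706 : act 6 n35094 = n36706 := rfl
theorem F170108 : act 1 n36706 = n35101 := d13_1 D36706 (iv D35101) (iv F162782)
theorem F170109 : act 2 n36706 = n36268 := d20_1 D36706 (iv D36268) (iv F162783)
theorem F170110 : act 4 n36706 = n35096 := d31_1 D36706 (iv D35096) (iv F162784)
def n36707 : Q := act 8 n35094
theorem D36707 : act 8 n35094 = n36707 := rfl
theorem F170111 : act 1 n36707 = n35102 := d15_1 D36707 (iv D35102) (iv F162782)
theorem F170112 : act 2 n36707 = n36230 := d22_1 D36707 F167749 (iv F162783)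
theorem F170113 : act 4 n36707 = n35097 := d33_1 D36707 (iv D35097) (iv F162784)
theorem F170114 : act 5 n36707 = n36224 := d37_1 D36707 (iv D36224) F160153 D34590 (iv F162785)
theorem F170115 : act 7 n36707 = n35095 := d42_1 D36707 (iv D35095) D35094
def n36708 : Q := act 9 n35095
theorem D36708 : act 9 n35095 = n36708 := rfl
theorem F170116 : act 1 n36708 = n35104 := d16_1 D36708 (iv D35104) (iv F162786)
theorem F170117 : act 2 n36708 = n36233 := d23_1 D36708 (iv D36233) (iv F162787)
theorem F170118 : act 4 n36708 = n35098 := d34_1 D36708 (iv D35098) (iv F162788)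
theorem F170119 : act 5 n36708 = n36225 := d38_1 D36708 (iv D36225) (iv F162789)
def n36709 : Q := act 8 n35096
theorem D36709 : act 8 n35096 = n36709 := rfl
theorem F170120 : act 1 n36709 = n35105 := d15_1 D36709 (iv D35105) (iv F162790)
theorem F170121 : act 2 n36709 = n36357 := d22_1 D36709 F168075 (iv F162791)
theorem F170122 : act 3 n36709 = n35227 := d28_1 D36709 (iv D35227) (iv F162792)
theorem F170123 : act 6 n36709 = n35097 := d40_1 D36709 (iv D35097) D35096
def n36710 : Q := act 9 n35097
theorem D36710 : act 9 n35097 = n36710 := rfl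
theorem F170124 : act 1 n36710 = n35106 := d16_1 D36710 (iv D35106) (iv F162793)
theorem F170125 : act 2 n36710 = n36358 := d23_1 D36710 (iv D36358) (iv F162794)
theorem F170126 : act 3 n36710 = n35228 := d29_1 D36710 (iv D35228) (iv F162795)
theorem F170127 : act 5 n36710 = n35124 := d38_1 D36710 (iv D35124) (iv F162796)
theorem F170128 : act 7 n36710 = n35098 := d43_1 D36710 (iv D35098) (iv F162797)
def n36711 : Q := act 6 n35099
theorem D36711 : act 6 n35099 = n36711 := rfl
theorem F170129 : act 0 n36711 = n36079 := d5_1 D36711 (iv D36079) (iv F162802)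
theorem F170130 : act 2 n36711 = n35514 := d20_1 D36711 (iv D35514) (iv F162803)
theorem F170131 : act 3 n36711 = n35101 := d26_1 D36711 (iv D35101) (iv F162804)
theorem F170132 : act 4 n36711 = n35229 := d31_1 D36711 (iv D35229) (iv F162805)
def n36712 : Q := act 8 n35099
theorem D36712 : act 8 n35099 = n36712 := rfl
theorem F170133 : act 0 n36712 = n36080 := d7_1 D36712 (iv D36080) (iv F162802)
theorem F170134 : act 2 n36712 = n35515 := d22_1 D36712 (iv D35515) (iv F162803)
theorem F170135 : act 3 n36712 = n35102 := d28_1 D36712 (iv D35102) (iv F162804)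
theorem F170136 : act 4 n36712 = n35230 := d33_1 D36712 (iv D35230) (iv F162805)
theorem F170137 : act 7 n36712 = n35100 := d42_1 D36712 (iv D35100) D35099
def n36713 : Q := act 5 n35100
theorem D36713 : act 5 n35100 = n36713 := rfl
theorem F170138 : act 0 n36713 = n36081 := d4_1 D36713 (iv D36081) (iv F162806)
theorem F170139 : act 1 n36713 = n36222 := d12_1 D36713 (iv F170107) F170104
theorem F170140 : act 2 n36713 = n35516 := d19_1 D36713 (iv D35516) (iv F162807)
theorem F170141 : act 3 n36713 = n35103 := d25_1 D36713 (iv D35103) (iv F162808)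
theorem F170142 : act 4 n36713 = n36713 := d30_1 D36713 (iv D36713) F162809 F155521 (iv F162809)
theorem F170143 : act 8 n36713 = n36218 := d37_2 D35100 D36713 F167718 (iv F160984) F160982
def n36714 : Q := act 9 n35100
theorem D36714 : act 9 n35100 = n36714 := rfl
theorem F170144 : act 0 n36714 = n36004 := d8_1 D36714 F166942 (iv F162806)
theorem F170145 : act 2 n36714 = n35517 := d23_1 D36714 (iv D35517) (iv F162807)
theorem F170146 : act 3 n36714 = n35104 := d29_1 D36714 (iv D35104) (iv F162808)
theorem F170147 : act 4 n36714 = n35231 := d34_1 D36714 (iv D35231) (iv F162809)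
theorem F170148 : act 6 n36714 = n36070 := d41_1 D36714 (iv F169721) F169720
theorem F170149 : act 8 n36714 = n36000 := d44_1 D36714 F169990 (iv D36680) F162709 D35100
def n36715 : Q := act 5 n35101
theorem D36715 : act 5 n35101 = n36715 := rfl
theorem F170150 : act 0 n36715 = n36082 := d4_1 D36715 (iv D36082) (iv F162810)
theorem F170151 : act 2 n36715 = n35107 := d19_1 D36715 (iv D35107) (iv F162811)
def n36716 : Q := act 8 n35101
theorem D36716 : act 8 n35101 = n36716 := rfl
theorem F170152 : act 0 n36716 = n36083 := d7_1 D36716 (iv D36083) (iv F162810)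
theorem F170153 : act 2 n36716 = n35108 := d22_1 D36716 (iv D35108) (iv F162811)
theorem F170154 : act 4 n36716 = n35105 := d33_1 D36716 (iv D35105) (iv F162812)
theorem F170155 : act 6 n36716 = n35102 := d40_1 D36716 (iv D35102) D35101
def n36717 : Q := act 5 n35102
theorem D36717 : act 5 n35102 = n36717 := rfl
theorem F170156 : act 0 n36717 = n36084 := d4_1 D36717 (iv D36084) (iv F162813)
theorem F170157 : act 1 n36717 = n36224 := d12_1 D36717 (iv F170114) F170111
theorem F170158 : act 2 n36717 = n35109 := d19_1 D36717 (iv D35109) (iv F162814)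
theorem F170159 : act 4 n36717 = n35126 := d30_1 D36717 (iv D35126) F155015 (iv F154914) (iv F162815)
theorem F170160 : act 7 n36717 = n35103 := d36_2 (iv F162816) D36717 (iv D35103)
theorem F170161 : act 8 n36717 = n36219 := d37_2 D35102 D36717 F167721 (iv F160991) F160990
def n36718 : Q := act 9 n35102
theorem D36718 : act 9 n35102 = n36718 := rfl
theorem F170162 : act 0 n36718 = n36085 := d8_1 D36718 (iv D36085) (iv F162813)
theorem F170163 : act 2 n36718 = n35110 := d23_1 D36718 (iv D35110) (iv F162814)
theorem F170164 : act 4 n36718 = n35106 := d34_1 D36718 (iv D35106) (iv F162815)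
theorem F170165 : act 7 n36718 = n35104 := d43_1 D36718 (iv D35104) (iv F162816)
def n36719 : Q := act 6 n35103
theorem D36719 : act 6 n35103 = n36719 := rfl
theorem F170166 : act 0 n36719 = n36086 := d5_1 D36719 (iv D36086) (iv F162817)
theorem F170167 : act 1 n36719 = n35798 := d13_1 D36719 F166187 (iv F162818)
theorem F170168 : act 2 n36719 = n35111 := d20_1 D36719 (iv D35111) (iv F162819)
theorem F170169 : act 4 n36719 = n35128 := d31_1 D36719 (iv D35128) (iv F162820)
theorem F170170 : act 8 n36719 = n35794 := d40_2 (iv F162821) D36719 F166175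
def n36720 : Q := act 9 n35103
theorem D36720 : act 9 n35103 = n36720 := rfl
theorem F170171 : act 0 n36720 = n35505 := d8_1 D36720 F164835 (iv F162817)
theorem F170172 : act 1 n36720 = n36225 := d16_1 D36720 (iv D36225) (iv F162818)
theorem F170173 : act 2 n36720 = n35112 := d23_1 D36720 (iv D35112) (iv F162819)
theorem F170174 : act 4 n36720 = n35129 := d34_1 D36720 (iv D35129) (iv F162820)
theorem F170175 : act 5 n36720 = n35104 := d38_1 D36720 (iv D35104) D35103
def n36721 : Q := act 5 n35105
theorem D36721 : act 5 n35105 = n36721 := rfl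
theorem F170176 : act 0 n36721 = n36087 := d4_1 D36721 (iv D36087) (iv F162825)
theorem F170177 : act 2 n36721 = n35113 := d19_1 D36721 (iv D35113) (iv F162826)
theorem F170178 : act 3 n36721 = n35235 := d25_1 D36721 (iv D35235) (iv F162827)
theorem F170179 : act 6 n36721 = n35130 := d35_2 (iv F162828) D36721 (iv D35130) F155032 (iv F154914)
def n36722 : Q := act 9 n35105
theorem D36722 : act 9 n35105 = n36722 := rfl
theorem F170180 : act 0 n36722 = n36088 := d8_1 D36722 (iv D36088) (iv F162825)
theorem F170181 : act 2 n36722 = n35114 := d23_1 D36722 (iv D35114) (iv F162826)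
theorem F170182 : act 3 n36722 = n35236 := d29_1 D36722 (iv D35236) (iv F162827)
theorem F170183 : act 6 n36722 = n35106 := d41_1 D36722 (iv D35106) (iv F162828)
def n36723 : Q := act 8 n35107
theorem D36723 : act 8 n35107 = n36723 := rfl
theorem F170184 : act 0 n36723 = n36089 := d7_1 D36723 (iv D36089) (iv F162834)
theorem F170185 : act 3 n36723 = n35525 := d28_1 D36723 (iv D35525) (iv F162835)
def n36724 : Q := act 5 n35108
theorem D36724 : act 5 n35108 = n36724 := rfl
theorem F170186 : act 0 n36724 = n36090 := d4_1 D36724 (iv D36090) (iv F162836)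
theorem F170187 : act 3 n36724 = n35526 := d25_1 D36724 (iv D35526) (iv F162837)
def n36725 : Q := act 9 n35108
theorem D36725 : act 9 n35108 = n36725 := rfl
theorem F170188 : act 0 n36725 = n36091 := d8_1 D36725 (iv D36091) (iv F162836)
theorem F170189 : act 3 n36725 = n35527 := d29_1 D36725 (iv D35527) (iv F162837)
theorem F170190 : act 4 n36725 = n35114 := d34_1 D36725 (iv D35114) (iv F162838)
theorem F170191 : act 6 n36725 = n35110 := d41_1 D36725 (iv D35110) (iv F162839)
def n36726 : Q := act 6 n35109
theorem D36726 : act 6 n35109 = n36726 := rfl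
theorem F170192 : act 0 n36726 = n36092 := d5_1 D36726 (iv D36092) (iv F162840)
theorem F170193 : act 3 n36726 = n35528 := d26_1 D36726 (iv D35528) (iv F162841)
theorem F170194 : act 4 n36726 = n35133 := d31_1 D36726 (iv D35133) (iv F162842)
def n36727 : Q := act 9 n35109
theorem D36727 : act 9 n35109 = n36727 := rfl
theorem F170195 : act 0 n36727 = n35506 := d8_1 D36727 F164840 (iv F162840)
theorem F170196 : act 1 n36727 = n35543 := d16_1 D36727 F169309 F169303
theorem F170197 : act 3 n36727 = n35397 := d29_1 D36727 F164356 (iv F162841)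
theorem F170198 : act 4 n36727 = n35134 := d34_1 D36727 (iv D35134) (iv F162842)
theorem F170199 : act 5 n36727 = n35110 := d38_1 D36727 (iv D35110) D35109
theorem F170200 : act 7 n36727 = n35112 := d43_1 D36727 (iv D35112) (iv F162843)
def n36728 : Q := act 7 n35111
theorem D36728 : act 7 n35111 = n36728 := rfl
theorem F170201 : act 0 n36728 = n36093 := d6_1 D36728 (iv D36093) (iv F162848)
theorem F170202 : act 3 n36728 = n35529 := d27_1 D36728 (iv D35529) (iv F162849)
theorem F170203 : act 4 n36728 = n35135 := d32_1 D36728 (iv D35135) (iv F162850)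
def n36729 : Q := act 9 n35111
theorem D36729 : act 9 n35111 = n36729 := rfl
theorem F170204 : act 0 n36729 = n35439 := d8_1 D36729 F164542 (iv F162848)
theorem F170205 : act 1 n36729 = n35698 := d16_1 D36729 (iv F169322) F169317
theorem F170206 : act 3 n36729 = n35437 := d29_1 D36729 F164532 (iv F162849)
theorem F170207 : act 4 n36729 = n35136 := d34_1 D36729 (iv D35136) (iv F162850)
theorem F170208 : act 6 n36729 = n35112 := d41_1 D36729 (iv D35112) D35111
theorem F170209 : act 8 n35719 = n36729 := d33_0 F170207 (iv F162979) (iv F165896)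
def n36730 : Q := act 8 n35112
theorem D36730 : act 8 n35112 = n36730 := rfl
theorem F170210 : act 0 n36730 = n35507 := d7_1 D36730 (iv D35507) (iv F162851)
theorem F170211 : act 1 n36730 = n35699 := d15_1 D36730 F165817 (iv F162852)
theorem F170212 : act 3 n36730 = n35504 := d28_1 D36730 (iv D35504) (iv F162853)
theorem F170213 : act 4 n36730 = n35137 := d33_1 D36730 (iv D35137) (iv F162854)
theorem F170214 : act 6 n36730 = n35719 := d40_1 D36730 F170209 F170208
def n36731 : Q := act 4 n35113
theorem D36731 : act 4 n35113 = n36731 := rfl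
theorem F170215 : act 0 n36731 = n36094 := d3_1 D36731 (iv D36094) (iv F162856)
theorem F170216 : act 6 n36731 = n35138 := d31_2 (iv F162858) D36731 (iv D35138)
def n36732 : Q := act 9 n35113
theorem D36732 : act 9 n35113 = n36732 := rfl
theorem F170217 : act 0 n36732 = n36095 := d8_1 D36732 (iv D36095) (iv F162856)
theorem F170218 : act 3 n36732 = n35116 := d29_1 D36732 (iv D35116) (iv F162857)
theorem F170219 : act 5 n36732 = n35114 := d38_1 D36732 (iv D35114) D35113
theorem F170220 : act 6 n36732 = n35139 := d41_1 D36732 (iv D35139) (iv F162858)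
def n36733 : Q := act 3 n35115
theorem D36733 : act 3 n35115 = n36733 := rfl
theorem F170221 : act 0 n36733 = n36096 := d2_1 D36733 (iv D36096) (iv F162862)
theorem F170222 : act 5 n36733 = n35531 := d25_2 (iv F162864) D36733 (iv D35531)
theorem F170223 : act 6 n36733 = n35140 := d26_2 (iv F162865) D36733 (iv D35140)
def n36734 : Q := act 8 n35116
theorem D36734 : act 8 n35116 = n36734 := rfl
theorem F170224 : act 0 n36734 = n36098 := d7_1 D36734 (iv D36098) (iv F162866)
theorem F170225 : act 2 n36734 = n35240 := d22_1 D36734 F163529 (iv F162867)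
theorem F170226 : act 4 n36734 = n35235 := d33_1 D36734 (iv F169404) F169402
theorem F170227 : act 6 n36734 = n35141 := d40_1 D36734 (iv D35141) (iv F162869)
def n36735 : Q := act 4 n35117
theorem D36735 : act 4 n35117 = n36735 := rfl
theorem F170228 : act 0 n36735 = n36103 := d3_1 D36735 (iv D36103) (iv F162870)
theorem F170229 : act 1 n36735 = n36362 := d11_1 D36735 (iv D36362) (iv F162871)
theorem F170230 : act 7 n36735 = n36735 := d32_2 F162873 D36735 (iv D36735)
theorem F170231 : act 8 n36735 = n35138 := d33_2 (iv F162874) D36735 (iv D35138)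
def n36736 : Q := act 9 n35117
theorem D36736 : act 9 n35117 = n36736 := rfl
theorem F170232 : act 0 n36736 = n36104 := d8_1 D36736 (iv D36104) (iv F162870)
theorem F170233 : act 1 n36736 = n36363 := d16_1 D36736 (iv D36363) (iv F162871)
theorem F170234 : act 2 n36736 = n35140 := d23_1 D36736 (iv F169364) F169360
theorem F170235 : act 3 n36736 = n35120 := d29_1 D36736 (iv D35120) (iv F162872)
theorem F170236 : act 5 n36736 = n35118 := d38_1 D36736 (iv D35118) D35117
theorem F170237 : act 7 n36736 = n36736 := d43_1 D36736 (iv D36736) F162873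
def n36737 : Q := act 3 n35119
theorem D36737 : act 3 n35119 = n36737 := rfl
theorem F170238 : act 0 n36737 = n36105 := d2_1 D36737 (iv D36105) (iv F162882)
theorem F170239 : act 1 n36737 = n36364 := d10_1 D36737 (iv D36364) (iv F162883)
theorem F170240 : act 5 n36737 = n36737 := d25_2 F162885 D36737 (iv D36737)
theorem F170241 : act 7 n36737 = n36737 := d27_2 F162886 D36737 (iv D36737)
theorem F170242 : act 8 n36737 = n35140 := d28_2 (iv F162887) D36737 (iv D35140)
def n36738 : Q := act 9 n35119
theorem D36738 : act 9 n35119 = n36738 := rfl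
theorem F170243 : act 0 n36738 = n36106 := d8_1 D36738 (iv D36106) (iv F162882)
theorem F170244 : act 1 n36738 = n36365 := d16_1 D36738 (iv D36365) (iv F162883)
theorem F170245 : act 2 n36738 = n35243 := d23_1 D36738 (iv D35243) (iv F162884)
theorem F170246 : act 4 n36738 = n35120 := d34_1 D36738 (iv D35120) D35119
theorem F170247 : act 5 n36738 = n36738 := d38_1 D36738 (iv D36738) F162885
theorem F170248 : act 7 n36738 = n36738 := d43_1 D36738 (iv D36738) F162886
theorem F170249 : act 8 n36738 = n35245 := d44_1 D36738 (iv D35245) (iv F162231) F162232 (iv F162887)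
def n36739 : Q := act 8 n35120
theorem D36739 : act 8 n35120 = n36739 := rfl
theorem F170250 : act 0 n36739 = n36107 := d7_1 D36739 (iv D36107) (iv F162888)
theorem F170251 : act 1 n36739 = n36366 := d15_1 D36739 (iv D36366) (iv F162889)
theorem F170252 : act 2 n36739 = n35242 := d22_1 D36739 F163540 (iv F162890)
theorem F170253 : act 4 n36739 = n35245 := d33_1 D36739 (iv F170249) F170246
theorem F170254 : act 5 n36739 = n36739 := d37_1 D36739 (iv D36739) F162891 F154969 (iv F162891)
theorem F170255 : act 7 n36739 = n36739 := d42_1 D36739 (iv D36739) F162892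
theorem F170256 : act 9 n36739 = n35141 := d44_2 D35120 D36739 (iv D35141) (iv D33384) (iv F154962)
def n36740 : Q := act 9 n35121
theorem D36740 : act 9 n35121 = n36740 := rfl
theorem F170257 : act 0 n36740 = n35124 := d8_1 D36740 (iv D35124) (iv F162893)
theorem F170258 : act 1 n36740 = n35737 := d16_1 D36740 (iv F165954) (iv F162894)
theorem F170259 : act 2 n36740 = n35684 := d23_1 D36740 (iv D35684) (iv F162895)
theorem F170260 : act 3 n36740 = n35244 := d29_1 D36740 (iv D35244) (iv F162896)
theorem F170261 : act 4 n36740 = n35681 := d34_1 D36740 (iv D35681) (iv F162897)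
theorem F170262 : act 6 n36740 = n35887 := d41_1 D36740 (iv F166466) (iv F162898)
theorem F170263 : act 7 n36740 = n35122 := d43_1 D36740 (iv D35122) (iv F162899)
theorem F170264 : act 8 n36740 = n36740 := d44_1 D36740 (iv D36740) (iv D35121) F154976 D35121
def n36741 : Q := act 5 n35123
theorem D36741 : act 5 n35123 = n36741 := rfl
theorem F170265 : act 0 n36741 = n36116 := d4_1 D36741 (iv D36116) (iv F162907)
theorem F170266 : act 1 n36741 = n35130 := d12_1 D36741 (iv D35130) (iv F162908)
theorem F170267 : act 2 n36741 = n36355 := d19_1 D36741 (iv D36355) (iv F162909)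
theorem F170268 : act 3 n36741 = n35142 := d25_1 D36741 (iv D35142) (iv F162910)
theorem F170269 : act 7 n36741 = n36741 := d36_2 F162913 D36741 (iv D36741)
theorem F170270 : act 8 n36741 = n35132 := d37_2 D35123 D36741 (iv D35132) (iv D33376) (iv F154989)
def n36742 : Q := act 9 n35123
theorem D36742 : act 9 n35123 = n36742 := rfl
theorem F170271 : act 0 n36742 = n35887 := d8_1 D36742 (iv F166466) (iv F162907)
theorem F170272 : act 1 n36742 = n35131 := d16_1 D36742 (iv D35131) (iv F162908)
theorem F170273 : act 2 n36742 = n36356 := d23_1 D36742 (iv D36356) (iv F162909)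
theorem F170274 : act 3 n36742 = n35143 := d29_1 D36742 (iv D35143) (iv F162910)
theorem F170275 : act 4 n36742 = n36354 := d34_1 D36742 (iv D36354) (iv F162911)
theorem F170276 : act 6 n36742 = n35124 := d41_1 D36742 (iv D35124) (iv F162912)
theorem F170277 : act 7 n36742 = n36742 := d43_1 D36742 (iv D36742) F162913
theorem F170278 : act 8 n36742 = n36742 := d44_1 D36742 (iv D36742) (iv D35123) F154991 D35123
def n36743 : Q := act 5 n35125
theorem D36743 : act 5 n35125 = n36743 := rfl
theorem F170279 : act 0 n36743 = n36111 := d4_1 D36743 (iv D36111) (iv F162920)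
theorem F170280 : act 1 n36743 = n36353 := d12_1 D36743 (iv D36353) (iv F162921)
theorem F170281 : act 2 n36743 = n35132 := d19_1 D36743 (iv D35132) (iv F162922)
theorem F170282 : act 3 n36743 = n36743 := d25_1 D36743 (iv D36743) F162923
theorem F170283 : act 7 n36743 = n36743 := d36_2 F162926 D36743 (iv D36743)
theorem F170284 : act 8 n36743 = n36355 := d37_2 D35125 D36743 (iv D36355) (iv D34723) (iv F155008)
def n36744 : Q := act 6 n35126
theorem D36744 : act 6 n35126 = n36744 := rfl
theorem F170285 : act 0 n36744 = n36112 := d5_1 D36744 (iv D36112) (iv F162927)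
theorem F170286 : act 1 n36744 = n36226 := d13_1 D36744 F167739 (iv F162928)
theorem F170287 : act 2 n36744 = n35133 := d20_1 D36744 (iv D35133) (iv F162929)
theorem F170288 : act 3 n36744 = n36744 := d26_1 D36744 (iv D36744) F162930
theorem F170289 : act 8 n36744 = n36220 := d40_2 (iv F162932) D36744 (iv D36220)
def n36745 : Q := act 9 n35126
theorem D36745 : act 9 n35126 = n36745 := rfl
theorem F170290 : act 0 n36745 = n35598 := d8_1 D36745 F165278 (iv F162927)
theorem F170291 : act 1 n36745 = n36227 := d16_1 D36745 (iv D36227) (iv F162928)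
theorem F170292 : act 2 n36745 = n35134 := d23_1 D36745 (iv D35134) (iv F162929)
theorem F170293 : act 3 n36745 = n36745 := d29_1 D36745 (iv D36745) F162930
theorem F170294 : act 5 n36745 = n35127 := d38_1 D36745 (iv D35127) D35126
theorem F170295 : act 7 n36745 = n35129 := d43_1 D36745 (iv D35129) (iv F162931)
def n36746 : Q := act 7 n35128
theorem D36746 : act 7 n35128 = n36746 := rfl
theorem F170296 : act 0 n36746 = n36113 := d6_1 D36746 (iv D36113) (iv F162940)
theorem F170297 : act 1 n36746 = n35800 := d14_1 D36746 F166194 (iv F162941)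
theorem F170298 : act 2 n36746 = n35135 := d21_1 D36746 (iv D35135) (iv F162942)
theorem F170299 : act 3 n36746 = n36746 := d27_1 D36746 (iv D36746) F162943
theorem F170300 : act 5 n36746 = n36746 := d36_1 D36746 (iv D36746) F162944
theorem F170301 : act 8 n36746 = n35795 := d42_2 (iv F162945) D36746 (iv D35795)
def n36747 : Q := act 9 n35128
theorem D36747 : act 9 n35128 = n36747 := rfl
theorem F170302 : act 0 n36747 = n35557 := d8_1 D36747 F165059 (iv F162940)
theorem F170303 : act 1 n36747 = n35801 := d16_1 D36747 (iv D35801) (iv F162941)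
theorem F170304 : act 2 n36747 = n35136 := d23_1 D36747 (iv D35136) (iv F162942)
theorem F170305 : act 3 n36747 = n36747 := d29_1 D36747 (iv D36747) F162943
theorem F170306 : act 5 n36747 = n36747 := d38_1 D36747 (iv D36747) F162944
theorem F170307 : act 6 n36747 = n35129 := d41_1 D36747 (iv D35129) D35128
theorem F170308 : act 8 n36747 = n35739 := d44_1 D36747 F165964 (iv F161972) F161973 (iv F162945)
def n36748 : Q := act 8 n35129
theorem D36748 : act 8 n35129 = n36748 := rfl
theorem F170309 : act 0 n36748 = n35599 := d7_1 D36748 (iv D35599) (iv F162946)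
theorem F170310 : act 1 n36748 = n35890 := d15_1 D36748 F166484 (iv F162947)
theorem F170311 : act 2 n36748 = n35137 := d22_1 D36748 (iv D35137) (iv F162948)
theorem F170312 : act 3 n36748 = n36748 := d28_1 D36748 (iv D36748) F162949
theorem F170313 : act 5 n36748 = n36748 := d37_1 D36748 (iv D36748) F162950 F155028 (iv F162950)
theorem F170314 : act 6 n36748 = n35739 := d40_1 D36748 (iv F170308) F170307
theorem F170315 : act 9 n36748 = n35981 := d44_2 D35129 D36748 F166866 F160119 (iv F155021)
def n36749 : Q := act 4 n35130
theorem D36749 : act 4 n35130 = n36749 := rfl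
theorem F170316 : act 0 n36749 = n36114 := d3_1 D36749 (iv D36114) (iv F162951)
theorem F170317 : act 2 n36749 = n35138 := d18_1 D36749 (iv D35138) (iv F162952)
theorem F170318 : act 7 n36749 = n36749 := d32_2 F162954 D36749 (iv D36749)
def n36750 : Q := act 9 n35130
theorem D36750 : act 9 n35130 = n36750 := rfl
theorem F170319 : act 0 n36750 = n36115 := d8_1 D36750 (iv D36115) (iv F162951)
theorem F170320 : act 2 n36750 = n35139 := d23_1 D36750 (iv D35139) (iv F162952)
theorem F170321 : act 3 n36750 = n35245 := d29_1 D36750 (iv D35245) (iv F162953)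
theorem F170322 : act 5 n36750 = n35131 := d38_1 D36750 (iv D35131) D35130
theorem F170323 : act 7 n36750 = n36750 := d43_1 D36750 (iv D36750) F162954
def n36751 : Q := act 4 n35132
theorem D36751 : act 4 n35132 = n36751 := rfl
theorem F170324 : act 0 n36751 = n36117 := d3_1 D36751 (iv D36117) (iv F162961)
theorem F170325 : act 5 n36751 = n35138 := d30_2 D35132 D36751 (iv D35138) (iv D33381) (iv F155041)
theorem F170326 : act 7 n36751 = n36751 := d32_2 F162963 D36751 (iv D36751)
def n36752 : Q := act 6 n35132
theorem D36752 : act 6 n35132 = n36752 := rfl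
theorem F170327 : act 0 n36752 = n36118 := d5_1 D36752 (iv D36118) (iv F162961)
theorem F170328 : act 3 n36752 = n35144 := d26_1 D36752 (iv D35144) (iv F162962)
theorem F170329 : act 5 n36752 = n35133 := d35_1 D36752 (iv D35133) (iv D33377) (iv F155042) D35132
def n36753 : Q := act 7 n35133
theorem D36753 : act 7 n35133 = n36753 := rfl
theorem F170330 : act 0 n36753 = n36119 := d6_1 D36753 (iv D36119) (iv F162964)
theorem F170331 : act 3 n36753 = n35145 := d27_1 D36753 (iv D35145) (iv F162965)
theorem F170332 : act 6 n36753 = n35135 := d39_1 D36753 (iv D35135) (iv D33379) (iv F155046) D35133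
def n36754 : Q := act 9 n35133
theorem D36754 : act 9 n35133 = n36754 := rfl
theorem F170333 : act 0 n36754 = n35600 := d8_1 D36754 F165284 (iv F162964)
theorem F170334 : act 1 n36754 = n35531 := d16_1 D36754 (iv F169370) F169366
theorem F170335 : act 3 n36754 = n35146 := d29_1 D36754 (iv D35146) (iv F162965)
theorem F170336 : act 6 n36754 = n35134 := d41_1 D36754 (iv D35134) D35133
def n36755 : Q := act 8 n35134
theorem D36755 : act 8 n35134 = n36755 := rfl
theorem F170337 : act 0 n36755 = n35601 := d7_1 D36755 (iv D35601) (iv F162966)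
theorem F170338 : act 1 n36755 = n35535 := d15_1 D36755 F164937 (iv F162967)
theorem F170339 : act 3 n36755 = n35147 := d28_1 D36755 (iv D35147) (iv F162968)
theorem F170340 : act 5 n36755 = n36755 := d37_1 D36755 (iv D36755) F162969 F155052 (iv F162969)
theorem F170341 : act 7 n36755 = n35137 := d42_1 D36755 (iv D35137) (iv F162970)
def n36756 : Q := act 9 n35135
theorem D36756 : act 9 n35135 = n36756 := rfl
theorem F170342 : act 0 n36756 = n35558 := d8_1 D36756 F165063 (iv F162971)
theorem F170343 : act 1 n36756 = n35696 := d16_1 D36756 (iv F169377) F169372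
theorem F170344 : act 3 n36756 = n35148 := d29_1 D36756 (iv D35148) (iv F162972)
theorem F170345 : act 5 n36756 = n36756 := d38_1 D36756 (iv D36756) F162973
theorem F170346 : act 7 n36756 = n35136 := d43_1 D36756 (iv D35136) D35135
theorem F170347 : act 8 n35740 = n36756 := d42_0 F170346 (iv F162979) D35740
def n36757 : Q := act 3 n35138
theorem D36757 : act 3 n35138 = n36757 := rfl
theorem F170348 : act 0 n36757 = n36120 := d2_1 D36757 (iv D36120) (iv F162985)
theorem F170349 : act 4 n36757 = n35140 := d24_2 D35138 D36757 (iv D35140) (iv D33383) (iv F155061)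
theorem F170350 : act 7 n36757 = n36757 := d27_2 F162986 D36757 (iv D36757)
def n36758 : Q := act 9 n35138
theorem D36758 : act 9 n35138 = n36758 := rfl
theorem F170351 : act 0 n36758 = n36121 := d8_1 D36758 (iv D36121) (iv F162985)
theorem F170352 : act 4 n36758 = n35139 := d34_1 D36758 (iv D35139) D35138
theorem F170353 : act 7 n36758 = n36758 := d43_1 D36758 (iv D36758) F162986
def n36759 : Q := act 8 n35139
theorem D36759 : act 8 n35139 = n36759 := rfl
theorem F170354 : act 0 n36759 = n36122 := d7_1 D36759 (iv D36122) (iv F162987)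
theorem F170355 : act 3 n36759 = n35141 := d28_1 D36759 (iv D35141) (iv F162988)
theorem F170356 : act 5 n36759 = n36759 := d37_1 D36759 (iv D36759) F162989 F155067 (iv F162989)
theorem F170357 : act 7 n36759 = n36759 := d42_1 D36759 (iv D36759) F162990
def n36760 : Q := act 6 n35142
theorem D36760 : act 6 n35142 = n36760 := rfl
theorem F170358 : act 0 n36760 = n36123 := d5_1 D36760 (iv D36123) (iv F162999)
theorem F170359 : act 1 n36760 = n35235 := d13_1 D36760 F163504 (iv F163000)
theorem F170360 : act 2 n36760 = n36760 := d20_1 D36760 (iv D36760) F163001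
theorem F170361 : act 5 n36760 = n35227 := d35_1 D36760 F163470 F155509 (iv F155080) D35142
theorem F170362 : act 8 n36760 = n35144 := d40_2 (iv F163003) D36760 (iv D35144)
def n36761 : Q := act 9 n35142
theorem D36761 : act 9 n35142 = n36761 := rfl
theorem F170363 : act 0 n36761 = n35914 := d8_1 D36761 F166561 (iv F162999)
theorem F170364 : act 1 n36761 = n35245 := d16_1 D36761 (iv D35245) (iv F163000)
theorem F170365 : act 2 n36761 = n36761 := d23_1 D36761 (iv D36761) F163001
theorem F170366 : act 4 n36761 = n36366 := d34_1 D36761 (iv F169398) F169395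
theorem F170367 : act 5 n36761 = n35143 := d38_1 D36761 (iv D35143) D35142
theorem F170368 : act 7 n36761 = n36761 := d43_1 D36761 (iv D36761) F163002
theorem F170369 : act 8 n36761 = n36365 := d44_1 D36761 (iv D36365) (iv F162218) (iv F162219) (iv F163003)
def n36762 : Q := act 7 n35144
theorem D36762 : act 7 n35144 = n36762 := rfl
theorem F170370 : act 0 n36762 = n36124 := d6_1 D36762 (iv D36124) (iv F163011)
theorem F170371 : act 2 n36762 = n36762 := d21_1 D36762 (iv D36762) F163012
theorem F170372 : act 5 n36762 = n35145 := d36_1 D36762 (iv D35145) (iv F163013)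
theorem F170373 : act 6 n36762 = n36762 := d39_1 D36762 (iv D36762) (iv D35144) F155084 D35144
def n36763 : Q := act 9 n35145
theorem D36763 : act 9 n35145 = n36763 := rfl
theorem F170374 : act 0 n36763 = n35560 := d8_1 D36763 F165073 (iv F163014)
theorem F170375 : act 1 n36763 = n35460 := d16_1 D36763 (iv F169412) F169407
theorem F170376 : act 2 n36763 = n36763 := d23_1 D36763 (iv D36763) F163015
theorem F170377 : act 4 n36763 = n35331 := d34_1 D36763 (iv F164053) (iv F163016)
theorem F170378 : act 6 n36763 = n35148 := d41_1 D36763 (iv D35148) (iv F163017)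
theorem F170379 : act 7 n36763 = n35146 := d43_1 D36763 (iv D35146) D35145
theorem F170380 : act 8 n35741 = n36763 := d40_0 F170378 (iv F163035) D35741
def n36764 : Q := act 8 n35146
theorem D36764 : act 8 n35146 = n36764 := rfl
theorem F170381 : act 0 n36764 = n35604 := d7_1 D36764 (iv D35604) (iv F163018)
theorem F170382 : act 1 n36764 = n35485 := d15_1 D36764 F164743 (iv F163019)
theorem F170383 : act 2 n36764 = n36764 := d22_1 D36764 (iv D36764) F163020
theorem F170384 : act 4 n36764 = n35354 := d33_1 D36764 F164172 (iv F163021)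
theorem F170385 : act 6 n36764 = n35147 := d40_1 D36764 (iv D35147) (iv F163022)
theorem F170386 : act 7 n36764 = n35741 := d42_1 D36764 F170380 F170379
def n36765 : Q := act 5 n35151
theorem D36765 : act 5 n35151 = n36765 := rfl
theorem F170387 : act 0 n36765 = n36129 := d4_1 D36765 (iv D36129) (iv F163049)
theorem F170388 : act 1 n36765 = n36765 := d12_1 D36765 (iv D36765) F163050
theorem F170389 : act 3 n36765 = n35582 := d25_1 D36765 F165189 (iv F163051)
theorem F170390 : act 4 n36765 = n35182 := d30_1 D36765 (iv D35182) F155272 (iv F155142) (iv F163052)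
theorem F170391 : act 6 n36765 = n36765 := d35_2 D35151 D36765 (iv D36765) (iv D35151) F155136
theorem F170392 : act 7 n36765 = n35197 := d36_2 (iv F163053) D36765 (iv D35197)
theorem F170393 : act 8 n36765 = n35556 := d37_2 (iv F163054) D36765 F165053 F157051 (iv F157144)
theorem F170394 : act 9 n36765 = n35580 := d38_2 (iv F163055) D36765 (iv D35580)
def n36766 : Q := act 5 n35152
theorem D36766 : act 5 n35152 = n36766 := rfl
theorem F170395 : act 0 n36766 = n36130 := d4_1 D36766 (iv D36130) (iv F163056)
theorem F170396 : act 1 n36766 = n36766 := d12_1 D36766 (iv D36766) F163057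
theorem F170397 : act 3 n36766 = n35153 := d25_1 D36766 (iv D35153) (iv F163058)
theorem F170398 : act 4 n36766 = n35187 := d30_1 D36766 F163260 F155299 (iv F157144) (iv F163059)
theorem F170399 : act 6 n36766 = n36766 := d35_2 (iv F163060) D36766 (iv D36766) F163060 F155149
theorem F170400 : act 7 n36766 = n35198 := d36_2 (iv F163061) D36766 (iv D35198)
theorem F170401 : act 8 n36766 = n35184 := d37_2 D35152 D36766 (iv D35184) (iv D33424) (iv F155142)
theorem F170402 : act 9 n36766 = n35186 := d38_2 (iv F163062) D36766 F163254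
def n36767 : Q := act 4 n35153
theorem D36767 : act 4 n35153 = n36767 := rfl
theorem F170403 : act 0 n36767 = n36131 := d3_1 D36767 (iv D36131) (iv F163063)
theorem F170404 : act 1 n36767 = n36767 := d11_1 D36767 (iv D36767) F163064
theorem F170405 : act 5 n36767 = n35744 := d30_2 D35153 D36767 F165978 F158763 (iv F155154)
theorem F170406 : act 6 n36767 = n36767 := d31_2 F163065 D36767 (iv D36767)
theorem F170407 : act 7 n36767 = n35199 := d32_2 (iv F163066) D36767 (iv D35199)
theorem F170408 : act 8 n36767 = n35186 := d33_2 (iv F163067) D36767 (iv D35186)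
theorem F170409 : act 9 n36767 = n35910 := d34_2 (iv F163068) D36767 (iv D35910)
theorem F170410 : act 3 n35908 = n36767 := d28_3 F170408 (iv F163257) (iv F166543)
def n36768 : Q := act 7 n35154
theorem D36768 : act 7 n35154 = n36768 := rfl
theorem F170411 : act 0 n36768 = n35157 := d6_1 D36768 (iv D35157) (iv F163069)
theorem F170412 : act 1 n36768 = n35209 := d14_1 D36768 F163386 (iv F163070)
theorem F170413 : act 2 n36768 = n36768 := d21_1 D36768 (iv D36768) F163071
theorem F170414 : act 4 n36768 = n35205 := d32_1 D36768 F163366 F163075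
theorem F170415 : act 5 n36768 = n35155 := d36_1 D36768 (iv D35155) D35154
theorem F170416 : act 8 n36768 = n35203 := d42_2 (iv F163073) D36768 (iv D35203)
theorem F170417 : act 9 n36768 = n35168 := d43_2 (iv F163074) D36768 (iv D35168)
def n36769 : Q := act 7 n35156
theorem D36769 : act 7 n35156 = n36769 := rfl
theorem F170418 : act 0 n36769 = n35205 := d6_1 D36769 F163366 (iv F163083)
theorem F170419 : act 1 n36769 = n35160 := d14_1 D36769 (iv D35160) (iv F163084)
theorem F170420 : act 2 n36769 = n36769 := d21_1 D36769 (iv D36769) F163085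
theorem F170421 : act 4 n36769 = n35157 := d32_1 D36769 (iv D35157) D35156
theorem F170422 : act 5 n36769 = n36769 := d36_1 D36769 (iv D36769) F163086
theorem F170423 : act 8 n36769 = n35201 := d42_2 F163089 D36769 (iv D35201)
theorem F170424 : act 9 n36769 = n35171 := d43_2 (iv F163088) D36769 (iv D35171)
def n36770 : Q := act 6 n35157
theorem D36770 : act 6 n35157 = n36770 := rfl
theorem F170425 : act 1 n36770 = n35161 := d13_1 D36770 (iv D35161) (iv F163090)
theorem F170426 : act 2 n36770 = n36770 := d20_1 D36770 (iv D36770) F163091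
theorem F170427 : act 5 n36770 = n36370 := d35_1 D36770 (iv D36370) F160695 (iv F155171) (iv F163092)
theorem F170428 : act 7 n36770 = n35204 := d39_2 D35157 D36770 (iv D35204) (iv D33448) (iv F155166)
theorem F170429 : act 9 n36770 = n35173 := d41_2 (iv F163093) D36770 (iv D35173)
def n36771 : Q := act 8 n35157
theorem D36771 : act 8 n35157 = n36771 := rfl
theorem F170430 : act 0 n36771 = n35203 := d7_1 D36771 (iv F170416) F170411
theorem F170431 : act 1 n36771 = n35162 := d15_1 D36771 (iv D35162) (iv F163090)
theorem F170432 : act 2 n36771 = n36771 := d22_1 D36771 (iv D36771) F163091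
theorem F170433 : act 4 n36771 = n35201 := d33_1 D36771 (iv F170423) F170421
theorem F170434 : act 5 n36771 = n35248 := d37_1 D36771 F163578 F160706 (iv F155172) (iv F163092)
theorem F170435 : act 7 n36771 = n35158 := d42_1 D36771 (iv D35158) D35157
theorem F170436 : act 9 n35219 = n36771 := d43_0 F170435 (iv F163100) D35219
def n36772 : Q := act 7 n35159
theorem D36772 : act 7 n35159 = n36772 := rfl
theorem F170437 : act 0 n36772 = n36051 := d6_1 D36772 F167112 (iv F163101)
theorem F170438 : act 2 n36772 = n35545 := d21_1 D36772 (iv D35545) (iv F163102)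
theorem F170439 : act 3 n36772 = n35160 := d27_1 D36772 (iv D35160) D35159
theorem F170440 : act 5 n36772 = n36772 := d36_1 D36772 (iv D36772) F163103
theorem F170441 : act 8 n36772 = n36048 := d42_2 (iv F163105) D36772 (iv D36048)
theorem F170442 : act 9 n36772 = n35176 := d43_2 (iv F163106) D36772 (iv D35176)
def n36773 : Q := act 6 n35160
theorem D36773 : act 6 n35160 = n36773 := rfl
theorem F170443 : act 0 n36773 = n36133 := d5_1 D36773 (iv D36133) (iv F163107)
theorem F170444 : act 2 n36773 = n35163 := d20_1 D36773 (iv D35163) (iv F163108)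
theorem F170445 : act 4 n36773 = n35161 := d31_1 D36773 (iv D35161) (iv F163109)
theorem F170446 : act 7 n36773 = n35208 := d39_2 D35160 D36773 (iv D35208) (iv D33451) (iv F155177)
theorem F170447 : act 8 n36773 = n36159 := d40_2 (iv F163111) D36773 (iv D36159)
theorem F170448 : act 9 n36773 = n35178 := d41_2 (iv F163112) D36773 (iv D35178)
def n36774 : Q := act 8 n35161
theorem D36774 : act 8 n35161 = n36774 := rfl
theorem F170449 : act 0 n36774 = n36134 := d7_1 D36774 (iv D36134) (iv F163113)
theorem F170450 : act 2 n36774 = n35164 := d22_1 D36774 (iv D35164) (iv F163114)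
theorem F170451 : act 4 n36774 = n36159 := d33_1 D36774 (iv F170447) F170445
theorem F170452 : act 6 n36774 = n35162 := d40_1 D36774 (iv D35162) D35161
theorem F170453 : act 7 n36774 = n35210 := d42_1 D36774 (iv D35210) (iv F163116)
theorem F170454 : act 9 n36168 = n36774 := d41_0 F170452 (iv F163123) D36168
def n36775 : Q := act 5 n35163
theorem D36775 : act 5 n35163 = n36775 := rfl
theorem F170455 : act 0 n36775 = n36135 := d4_1 D36775 (iv D36135) (iv F163124)
theorem F170456 : act 1 n36775 = n36775 := d12_1 D36775 (iv D36775) F163125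
theorem F170457 : act 3 n36775 = n35551 := d25_1 D36775 (iv D35551) (iv F163126)
theorem F170458 : act 4 n36775 = n35580 := d30_1 D36775 (iv D35580) F157191 (iv F155200) (iv F163127)
theorem F170459 : act 6 n36775 = n36775 := d35_2 D35163 D36775 (iv D36775) (iv D35163) F155194
theorem F170460 : act 7 n36775 = n35212 := d36_2 (iv F163128) D36775 (iv D35212)
theorem F170461 : act 8 n36775 = n35614 := d37_2 (iv F163129) D36775 F165342 (iv F165259) F165256
theorem F170462 : act 9 n36775 = n35182 := d38_2 (iv F163130) D36775 (iv D35182)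
def n36776 : Q := act 5 n35164
theorem D36776 : act 5 n35164 = n36776 := rfl
theorem F170463 : act 0 n36776 = n36136 := d4_1 D36776 (iv D36136) (iv F163131)
theorem F170464 : act 1 n36776 = n36776 := d12_1 D36776 (iv D36776) F163132
theorem F170465 : act 3 n36776 = n35165 := d25_1 D36776 (iv D35165) (iv F163133)
theorem F170466 : act 4 n36776 = n35596 := d30_1 D36776 F165268 (iv F165255) F165256 (iv F163134)
theorem F170467 : act 6 n36776 = n35623 := d35_2 (iv F163135) D36776 F165405 F160724 (iv F155207)
theorem F170468 : act 7 n36776 = n35214 := d36_2 (iv F163136) D36776 (iv D35214)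
theorem F170469 : act 8 n36776 = n35579 := d37_2 D35164 D36776 (iv D35579) F157186 (iv F155200)
theorem F170470 : act 9 n36776 = n35595 := d38_2 F163137 D36776 F165262
def n36777 : Q := act 9 n35165
theorem D36777 : act 9 n35165 = n36777 := rfl
theorem F170471 : act 0 n36777 = n36137 := d8_1 D36777 (iv D36137) (iv F163138)
theorem F170472 : act 1 n36777 = n36777 := d16_1 D36777 (iv D36777) F163139
theorem F170473 : act 3 n36777 = n35595 := d29_1 D36777 (iv F170470) F170465
theorem F170474 : act 4 n36777 = n35597 := d34_1 D36777 F165274 F163143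
theorem F170475 : act 5 n36777 = n35166 := d38_1 D36777 (iv D35166) D35165
theorem F170476 : act 6 n36777 = n35627 := d41_1 D36777 (iv D35627) (iv F163140)
theorem F170477 : act 7 n36777 = n35217 := d43_1 D36777 (iv D35217) (iv F163141)
theorem F170478 : act 8 n36777 = n35909 := d44_1 D36777 (iv D35909) (iv D34188) (iv F157215) (iv F163142)
def n36778 : Q := act 7 n35167
theorem D36778 : act 7 n35167 = n36778 := rfl
theorem F170479 : act 0 n36778 = n35171 := d6_1 D36778 (iv D35171) (iv F163151)
theorem F170480 : act 1 n36778 = n35211 := d14_1 D36778 F163395 (iv F163152)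
theorem F170481 : act 2 n36778 = n36778 := d21_1 D36778 (iv D36778) F163153
theorem F170482 : act 4 n36778 = n35168 := d32_1 D36778 (iv D35168) D35167
theorem F170483 : act 5 n36778 = n36778 := d36_1 D36778 (iv D36778) F163154
theorem F170484 : act 8 n36778 = n35228 := d42_2 F163157 D36778 F163474
theorem F170485 : act 9 n36778 = n35205 := d43_2 (iv F163156) D36778 F163366
def n36779 : Q := act 6 n35168
theorem D36779 : act 6 n35168 = n36779 := rfl
theorem F170486 : act 0 n36779 = n35173 := d5_1 D36779 (iv D35173) (iv F163158)
theorem F170487 : act 1 n36779 = n36138 := d13_1 D36779 (iv D36138) (iv F163159)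
theorem F170488 : act 2 n36779 = n36779 := d20_1 D36779 (iv D36779) F163160
theorem F170489 : act 5 n36779 = n35734 := d35_1 D36779 F165938 (iv F163040) F163041 (iv F163161)
theorem F170490 : act 7 n36779 = n35220 := d39_2 D35168 D36779 (iv D35220) (iv D33463) (iv F155225)
def n36780 : Q := act 8 n35168
theorem D36780 : act 8 n35168 = n36780 := rfl
theorem F170491 : act 0 n36780 = n35174 := d7_1 D36780 (iv D35174) (iv F163158)
theorem F170492 : act 1 n36780 = n35234 := d15_1 D36780 F163501 (iv F163159)
theorem F170493 : act 2 n36780 = n36780 := d22_1 D36780 (iv D36780) F163160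
theorem F170494 : act 4 n36780 = n35228 := d33_1 D36780 (iv F170484) F170482
theorem F170495 : act 5 n36780 = n36780 := d37_1 D36780 (iv D36780) F163161 F155230 (iv F163161)
theorem F170496 : act 7 n36780 = n35169 := d42_1 D36780 (iv D35169) D35168
theorem F170497 : act 9 n36780 = n35226 := d44_2 F170417 D36780 (iv D35226) (iv F163359) (iv F170416)
def n36781 : Q := act 2 n35170
theorem D36781 : act 2 n35170 = n36781 := rfl
theorem F170498 : act 0 n36781 = n36361 := d1_1 D36781 (iv F169973) F169971
theorem F170499 : act 1 n36781 = n35557 := d9_1 D36781 (iv D35557) F157052 (iv F155243) (iv F163169)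
theorem F170500 : act 3 n36781 = n36781 := d17_2 D35170 D36781 (iv D36781) (iv D35170) F155232
theorem F170501 : act 5 n36781 = n36781 := d19_2 F163170 D36781 (iv D36781)
theorem F170502 : act 6 n36781 = n35222 := d20_2 (iv F163171) D36781 (iv D35222)
theorem F170503 : act 8 n36781 = n35686 := d22_2 F170094 D36781 (iv F170090)
theorem F170504 : act 9 n36781 = n35694 := d23_2 (iv F169948) D36781 (iv F169944)
def n36782 : Q := act 7 n35170
theorem D36782 : act 7 n35170 = n36782 := rfl
theorem F170505 : act 1 n36782 = n35176 := d14_1 D36782 (iv D35176) (iv F163169)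
theorem F170506 : act 3 n36782 = n35171 := d27_1 D36782 (iv D35171) D35170
theorem F170507 : act 5 n36782 = n36782 := d36_1 D36782 (iv D36782) F163170
def n36783 : Q := act 6 n35171
theorem D36783 : act 6 n35171 = n36783 := rfl
theorem F170508 : act 1 n36783 = n35178 := d13_1 D36783 (iv D35178) (iv F163172)
theorem F170509 : act 2 n36783 = n36783 := d20_1 D36783 (iv D36783) F163173
theorem F170510 : act 4 n36783 = n35173 := d31_1 D36783 (iv D35173) (iv F163174)
theorem F170511 : act 7 n36783 = n35225 := d39_2 D35171 D36783 (iv D35225) (iv D33466) (iv F155234)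
def n36784 : Q := act 8 n35171
theorem D36784 : act 8 n35171 = n36784 := rfl
theorem F170512 : act 0 n36784 = n35228 := d7_1 D36784 (iv F170484) F170479
theorem F170513 : act 1 n36784 = n35179 := d15_1 D36784 (iv D35179) (iv F163172)
theorem F170514 : act 2 n36784 = n36784 := d22_1 D36784 (iv D36784) F163173
theorem F170515 : act 4 n36784 = n35174 := d33_1 D36784 (iv D35174) (iv F163174)
theorem F170516 : act 7 n36784 = n35172 := d42_1 D36784 (iv D35172) D35171
theorem F170517 : act 9 n36784 = n35221 := d44_2 F170424 D36784 (iv D35221) (iv F163350) (iv F170423)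
theorem F170518 : act 5 n35244 = n36784 := d38_3 F170517 F163448 D35244
def n36785 : Q := act 8 n35173
theorem D36785 : act 8 n35173 = n36785 := rfl
theorem F170519 : act 1 n36785 = n35180 := d15_1 D36785 (iv D35180) (iv F163183)
theorem F170520 : act 2 n36785 = n36785 := d22_1 D36785 (iv D36785) F163184
theorem F170521 : act 6 n36785 = n35174 := d40_1 D36785 (iv D35174) D35173
theorem F170522 : act 7 n36785 = n35227 := d42_1 D36785 (iv D35227) (iv F163185)
def n36786 : Q := act 9 n35174
theorem D36786 : act 9 n35174 = n36786 := rfl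
theorem F170523 : act 0 n36786 = n35226 := d8_1 D36786 (iv F170497) F170491
theorem F170524 : act 1 n36786 = n35181 := d16_1 D36786 (iv D35181) (iv F163186)
theorem F170525 : act 2 n36786 = n36786 := d23_1 D36786 (iv D36786) F163187
theorem F170526 : act 4 n36786 = n35221 := d34_1 D36786 (iv F170517) F170515
theorem F170527 : act 5 n36786 = n36786 := d38_1 D36786 (iv D36786) F163188
theorem F170528 : act 7 n36786 = n35175 := d43_1 D36786 (iv D35175) (iv F163189)
theorem F170529 : act 8 n36786 = n35219 := d44_1 D36786 F170436 (iv D36771) F163093 D35174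
def n36787 : Q := act 6 n35176
theorem D36787 : act 6 n35176 = n36787 := rfl
theorem F170530 : act 0 n36787 = n36141 := d5_1 D36787 (iv D36141) (iv F163197)
theorem F170531 : act 2 n36787 = n35565 := d20_1 D36787 (iv D35565) (iv F163198)
theorem F170532 : act 3 n36787 = n35178 := d26_1 D36787 (iv D35178) (iv F163199)
theorem F170533 : act 7 n36787 = n35229 := d39_2 D35176 D36787 (iv D35229) (iv D33471) (iv F155245)
def n36788 : Q := act 8 n35176
theorem D36788 : act 8 n35176 = n36788 := rfl
theorem F170534 : act 0 n36788 = n36078 := d7_1 D36788 F167195 (iv F163197)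
theorem F170535 : act 2 n36788 = n35566 := d22_1 D36788 (iv D35566) (iv F163198)
theorem F170536 : act 3 n36788 = n35179 := d28_1 D36788 (iv D35179) (iv F163199)
theorem F170537 : act 7 n36788 = n35177 := d42_1 D36788 (iv D35177) D35176
theorem F170538 : act 9 n36788 = n36072 := d44_2 F170442 D36788 (iv D36072) (iv F167101) (iv F170441)
theorem F170539 : act 5 n35737 = n36788 := d38_3 F170538 F167175 F165954
def n36789 : Q := act 5 n35178
theorem D36789 : act 5 n35178 = n36789 := rfl
theorem F170540 : act 0 n36789 = n36142 := d4_1 D36789 (iv D36142) (iv F163207)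
theorem F170541 : act 2 n36789 = n35182 := d19_1 D36789 (iv D35182) (iv F163208)
theorem F170542 : act 6 n36789 = n36789 := d35_2 D35178 D36789 (iv D36789) (iv D35178) F155249
theorem F170543 : act 7 n36789 = n35232 := d36_2 (iv F163210) D36789 (iv D35232)
def n36790 : Q := act 8 n35178
theorem D36790 : act 8 n35178 = n36790 := rfl
theorem F170544 : act 0 n36790 = n36143 := d7_1 D36790 (iv D36143) (iv F163207)
theorem F170545 : act 2 n36790 = n35183 := d22_1 D36790 (iv D35183) (iv F163208)
theorem F170546 : act 4 n36790 = n35180 := d33_1 D36790 (iv D35180) (iv F163209)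
theorem F170547 : act 6 n36790 = n35179 := d40_1 D36790 (iv D35179) D35178
theorem F170548 : act 7 n36790 = n35233 := d42_1 D36790 (iv D35233) (iv F163210)
theorem F170549 : act 9 n36790 = n36169 := d44_2 F170448 D36790 (iv D36169) (iv F167524) (iv F170447)
theorem F170550 : act 5 n35911 = n36790 := d35_5 F170547 (iv F163216) F158220 (iv F158784) (iv F166551)
def n36791 : Q := act 5 n35180
theorem D36791 : act 5 n35180 = n36791 := rfl
theorem F170551 : act 0 n36791 = n36144 := d4_1 D36791 (iv D36144) (iv F163217)
theorem F170552 : act 2 n36791 = n35184 := d19_1 D36791 (iv D35184) (iv F163218)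
theorem F170553 : act 6 n36791 = n36791 := d35_2 (iv F163219) D36791 (iv D36791) F163219 F155261
theorem F170554 : act 7 n36791 = n35235 := d36_2 (iv F163220) D36791 (iv D35235)
def n36792 : Q := act 9 n35180
theorem D36792 : act 9 n35180 = n36792 := rfl
theorem F170555 : act 0 n36792 = n36145 := d8_1 D36792 (iv D36145) (iv F163217)
theorem F170556 : act 2 n36792 = n35185 := d23_1 D36792 (iv D35185) (iv F163218)
theorem F170557 : act 4 n36792 = n36169 := d34_1 D36792 (iv F170549) F170546
theorem F170558 : act 6 n36792 = n35181 := d41_1 D36792 (iv D35181) (iv F163219)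
theorem F170559 : act 7 n36792 = n35236 := d43_1 D36792 (iv D35236) (iv F163220)
theorem F170560 : act 8 n36792 = n36168 := d44_1 D36792 F170454 (iv D36774) F163117 D35180
def n36793 : Q := act 8 n35182
theorem D36793 : act 8 n35182 = n36793 := rfl
theorem F170561 : act 0 n36793 = n36146 := d7_1 D36793 (iv D36146) (iv F163227)
theorem F170562 : act 1 n36793 = n36793 := d15_1 D36793 (iv D36793) F163228
theorem F170563 : act 3 n36793 = n35216 := d28_1 D36793 F163428 (iv F163229)
theorem F170564 : act 4 n36793 = n35556 := d33_1 D36793 (iv F170393) F170390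
theorem F170565 : act 5 n36793 = n35597 := d37_1 D36793 F165273 F163239 (iv D35183) D35182
theorem F170566 : act 6 n36793 = n36793 := d40_1 D36793 (iv D36793) F163230
theorem F170567 : act 7 n36793 = n35237 := d42_1 D36793 (iv D35237) (iv F163231)
theorem F170568 : act 9 n36793 = n35555 := d44_2 F170462 D36793 F165050 D35614 (iv F170461)
def n36794 : Q := act 4 n35184
theorem D36794 : act 4 n35184 = n36794 := rfl
theorem F170569 : act 0 n36794 = n36147 := d3_1 D36794 (iv D36147) (iv F163240)
theorem F170570 : act 1 n36794 = n36794 := d11_1 D36794 (iv D36794) F163241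
theorem F170571 : act 3 n36794 = n35910 := d24_1 D36794 (iv D35910) F163257 (iv D35186) (iv F163242)
theorem F170572 : act 5 n36794 = n35909 := d30_2 D35184 D36794 F166546 F163239 F163235
theorem F170573 : act 6 n36794 = n36794 := d31_2 F163243 D36794 (iv D36794)
theorem F170574 : act 7 n36794 = n35240 := d32_2 (iv F163244) D36794 (iv D35240)
theorem F170575 : act 8 n36794 = n35187 := d33_2 F170401 D36794 (iv F170398)
theorem F170576 : act 9 n35908 = n36794 := d44_0 F170575 (iv D35187) (iv F163067) F163068 (iv F166543)
def n36795 : Q := act 9 n35184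
theorem D36795 : act 9 n35184 = n36795 := rfl
theorem F170577 : act 0 n36795 = n36148 := d8_1 D36795 (iv D36148) (iv F163240)
theorem F170578 : act 1 n36795 = n36795 := d16_1 D36795 (iv D36795) F163241
theorem F170579 : act 3 n36795 = n35187 := d29_1 D36795 (iv D35187) (iv F163242)
theorem F170580 : act 4 n36795 = n35908 := d34_1 D36795 F170576 (iv D36794)
theorem F170581 : act 5 n36795 = n35185 := d38_1 D36795 (iv D35185) D35184
theorem F170582 : act 6 n36795 = n36795 := d41_1 D36795 (iv D36795) F163243
theorem F170583 : act 7 n36795 = n35241 := d43_1 D36795 (iv D35241) (iv F163244)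
theorem F170584 : act 8 n36795 = n35910 := d44_1 D36795 (iv F170409) F170408 (iv F170402) F170401
def n36796 : Q := act 6 n35188
theorem D36796 : act 6 n35188 = n36796 := rfl
theorem F170585 : act 0 n36796 = n35713 := d5_1 D36796 F165866 (iv F163263)
theorem F170586 : act 1 n36796 = n35189 := d13_1 D36796 (iv D35189) (iv F163264)
theorem F170587 : act 2 n36796 = n36796 := d20_1 D36796 (iv D36796) F163265
theorem F170588 : act 4 n36796 = n35756 := d31_1 D36796 F166032 (iv F163266)
theorem F170589 : act 5 n36796 = n35575 := d35_1 D36796 (iv D35575) F157161 (iv F155313) (iv F163267)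
theorem F170590 : act 7 n36796 = n35355 := d39_2 D35188 D36796 F164175 F156226 (iv F155306)
theorem F170591 : act 8 n36796 = n35772 := d40_2 (iv F163268) D36796 F166088
theorem F170592 : act 9 n36796 = n35313 := d41_2 (iv F163269) D36796 F163975
def n36797 : Q := act 5 n35190
theorem D36797 : act 5 n35190 = n36797 := rfl
theorem F170593 : act 0 n36797 = n36149 := d4_1 D36797 (iv D36149) (iv F163276)
theorem F170594 : act 1 n36797 = n36797 := d12_1 D36797 (iv D36797) F163277
theorem F170595 : act 3 n36797 = n35197 := d25_1 D36797 (iv D35197) (iv F163278)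
theorem F170596 : act 4 n36797 = n35579 := d30_1 D36797 (iv D35579) F157185 (iv F155331) (iv F163279)
theorem F170597 : act 6 n36797 = n35246 := d35_2 D35190 D36797 (iv D35246) (iv D33495) (iv F155325)
theorem F170598 : act 7 n36797 = n35582 := d36_2 (iv F163280) D36797 F165189
theorem F170599 : act 8 n36797 = n35596 := d37_2 (iv F163281) D36797 F165268 F157285 (iv F157372)
theorem F170600 : act 9 n36797 = n35544 := d38_2 (iv F163282) D36797 (iv D35544)
def n36798 : Q := act 4 n35191
theorem D36798 : act 4 n35191 = n36798 := rfl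
theorem F170601 : act 0 n36798 = n36150 := d3_1 D36798 (iv D36150) (iv F163283)
theorem F170602 : act 1 n36798 = n36798 := d11_1 D36798 (iv D36798) F163284
theorem F170603 : act 5 n36798 = n35199 := d30_2 D35191 D36798 (iv D35199) (iv D33443) (iv F155338)
theorem F170604 : act 6 n36798 = n36798 := d31_2 F163286 D36798 (iv D36798)
theorem F170605 : act 7 n36798 = n35744 := d32_2 (iv F163287) D36798 F165978
theorem F170606 : act 8 n36798 = n35581 := d33_2 (iv F163288) D36798 (iv D35581)
theorem F170607 : act 9 n36798 = n35898 := d34_2 (iv F163289) D36798 (iv D35898)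
theorem F170608 : act 3 n35897 = n36798 := d28_3 F170606 (iv F165186) D35897
def n36799 : Q := act 8 n35192
theorem D36799 : act 8 n35192 = n36799 := rfl
theorem F170609 : act 0 n36799 = n36153 := d7_1 D36799 (iv D36153) (iv F163290)
theorem F170610 : act 2 n36799 = n35195 := d22_1 D36799 (iv D35195) (iv F163291)
theorem F170611 : act 4 n36799 = n35486 := d33_1 D36799 (iv F168529) F168525
theorem F170612 : act 6 n36799 = n35193 := d40_1 D36799 (iv D35193) D35192
theorem F170613 : act 7 n36799 = n35577 := d42_1 D36799 F165164 (iv F163293)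
theorem F170614 : act 9 n36799 = n35485 := d44_2 (iv F163294) D36799 F164743 (iv F162238) F162237
def n36800 : Q := act 5 n35195
theorem D36800 : act 5 n35195 = n36800 := rfl
theorem F170615 : act 0 n36800 = n36154 := d4_1 D36800 (iv D36154) (iv F163309)
theorem F170616 : act 1 n36800 = n36800 := d12_1 D36800 (iv D36800) F163310
theorem F170617 : act 3 n36800 = n35196 := d25_1 D36800 (iv D35196) (iv F163311)
theorem F170618 : act 4 n36800 = n35582 := d30_1 D36800 F165189 F157198 (iv F156968) (iv F163312)
theorem F170619 : act 6 n36800 = n36800 := d35_2 (iv F163313) D36800 (iv D36800) F163313 F155369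
theorem F170620 : act 7 n36800 = n35579 := d36_2 (iv F163314) D36800 (iv D35579)
theorem F170621 : act 8 n36800 = n35214 := d37_2 D35195 D36800 (iv D35214) (iv D33458) (iv F155362)
theorem F170622 : act 9 n36800 = n35581 := d38_2 (iv F163315) D36800 F165183
def n36801 : Q := act 3 n35199
theorem D36801 : act 3 n35199 = n36801 := rfl
theorem F170623 : act 0 n36801 = n36157 := d2_1 D36801 (iv D36157) (iv F163336)
theorem F170624 : act 1 n36801 = n36801 := d10_1 D36801 (iv D36801) F163337
theorem F170625 : act 4 n36801 = n35241 := d24_2 D35199 D36801 F163532 (iv F163332) F163331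
theorem F170626 : act 5 n36801 = n35897 := d25_2 F170603 D36801 F170608
theorem F170627 : act 6 n36801 = n35242 := d26_2 (iv F163338) D36801 (iv D35242)
theorem F170628 : act 7 n36801 = n35908 := d27_2 F170407 D36801 F170410
theorem F170629 : act 8 n36801 = n35200 := d28_2 (iv F163339) D36801 F163342
theorem F170630 : act 9 n35240 = n36801 := d44_0 F170629 (iv D35200) F155394 D33484 (iv F163529)
def n36802 : Q := act 9 n35199
theorem D36802 : act 9 n35199 = n36802 := rfl
theorem F170631 : act 0 n36802 = n36158 := d8_1 D36802 (iv D36158) (iv F163336)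
theorem F170632 : act 1 n36802 = n36802 := d16_1 D36802 (iv D36802) F163337
theorem F170633 : act 3 n36802 = n35240 := d29_1 D36802 F170630 (iv D36801)
theorem F170634 : act 4 n36802 = n35200 := d34_1 D36802 (iv D35200) D35199
theorem F170635 : act 5 n36802 = n35898 := d38_1 D36802 (iv F170607) F170603
theorem F170636 : act 6 n36802 = n35243 := d41_1 D36802 (iv D35243) (iv F163338)
theorem F170637 : act 7 n36802 = n35910 := d43_1 D36802 (iv F170409) F170407
theorem F170638 : act 8 n36802 = n35241 := d44_1 D36802 (iv D35241) (iv F163334) F163335 (iv F163339)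
def n36803 : Q := act 6 n35201
theorem D36803 : act 6 n35201 = n36803 := rfl
theorem F170639 : act 0 n36803 = n35204 := d5_1 D36803 (iv D35204) (iv F163346)
theorem F170640 : act 1 n36803 = n36159 := d13_1 D36803 (iv D36159) (iv F163347)
theorem F170641 : act 2 n36803 = n36803 := d20_1 D36803 (iv D36803) F163348
theorem F170642 : act 5 n36803 = n35735 := d35_1 D36803 F165942 F158176 (iv F155410) (iv F163349)
theorem F170643 : act 9 n36803 = n35220 := d41_2 (iv F163350) D36803 (iv D35220)
def n36804 : Q := act 7 n35202
theorem D36804 : act 7 n35202 = n36804 := rfl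
theorem F170644 : act 1 n36804 = n35206 := d14_1 D36804 (iv D35206) (iv F163351)
theorem F170645 : act 2 n36804 = n36109 := d21_1 D36804 F167290 F163354
theorem F170646 : act 3 n36804 = n35203 := d27_1 D36804 (iv D35203) D35202
theorem F170647 : act 5 n36804 = n35250 := d36_1 D36804 (iv D35250) (iv F163352)
theorem F170648 : act 9 n36804 = n35223 := d43_2 (iv F163353) D36804 (iv D35223)
def n36805 : Q := act 6 n35203
theorem D36805 : act 6 n35203 = n36805 := rfl
theorem F170649 : act 1 n36805 = n35208 := d13_1 D36805 (iv D35208) (iv F163355)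
theorem F170650 : act 2 n36805 = n36805 := d20_1 D36805 (iv D36805) F163356
theorem F170651 : act 4 n36805 = n35204 := d31_1 D36805 (iv D35204) (iv F163357)
theorem F170652 : act 9 n36805 = n35225 := d41_2 (iv F163359) D36805 (iv D35225)
def n36806 : Q := act 8 n35204
theorem D36806 : act 8 n35204 = n36806 := rfl
theorem F170653 : act 1 n36806 = n35210 := d15_1 D36806 (iv D35210) (iv F163360)
theorem F170654 : act 2 n36806 = n36806 := d22_1 D36806 (iv D36806) F163361
theorem F170655 : act 6 n36806 = n35205 := d40_1 D36806 (iv D35205) D35204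
def n36807 : Q := act 6 n35206
theorem D36807 : act 6 n35206 = n36807 := rfl
theorem F170656 : act 0 n36807 = n36160 := d5_1 D36807 (iv D36160) (iv F163367)
theorem F170657 : act 2 n36807 = n35585 := d20_1 D36807 (iv D35585) (iv F163368)
theorem F170658 : act 3 n36807 = n35208 := d26_1 D36807 (iv D35208) (iv F163369)
theorem F170659 : act 9 n36807 = n35229 := d41_2 (iv F163371) D36807 (iv D35229)
def n36808 : Q := act 8 n35206
theorem D36808 : act 8 n35206 = n36808 := rfl
theorem F170660 : act 0 n36808 = n35937 := d7_1 D36808 F166664 (iv F163367)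
theorem F170661 : act 2 n36808 = n35586 := d22_1 D36808 (iv D35586) (iv F163368)
theorem F170662 : act 3 n36808 = n35209 := d28_1 D36808 (iv D35209) (iv F163369)
theorem F170663 : act 5 n36808 = n35714 := d37_1 D36808 (iv D35714) F158073 (iv F155690) (iv F163370)
theorem F170664 : act 7 n36808 = n35207 := d42_1 D36808 (iv D35207) D35206
theorem F170665 : act 9 n36001 = n36808 := d43_0 F170664 (iv F163377) D36001
def n36809 : Q := act 5 n35208
theorem D36809 : act 5 n35208 = n36809 := rfl
theorem F170666 : act 0 n36809 = n36161 := d4_1 D36809 (iv D36161) (iv F163378)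
theorem F170667 : act 2 n36809 = n35212 := d19_1 D36809 (iv D35212) (iv F163379)
theorem F170668 : act 4 n36809 = n35855 := d30_1 D36809 (iv F168526) F168525 F163292 (iv F163380)
theorem F170669 : act 6 n36809 = n35253 := d35_2 D35208 D36809 (iv D35253) (iv D33505) (iv F155431)
theorem F170670 : act 9 n36809 = n35232 := d38_2 (iv F163381) D36809 (iv D35232)
theorem F170671 : act 8 n35854 = n36809 := d40_0 F170669 (iv F163616) (iv F166354)
def n36810 : Q := act 8 n35208
theorem D36810 : act 8 n35208 = n36810 := rfl
theorem F170672 : act 0 n36810 = n36132 := d7_1 D36810 F167380 (iv F163378)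
theorem F170673 : act 2 n36810 = n35213 := d22_1 D36810 (iv D35213) (iv F163379)
theorem F170674 : act 4 n36810 = n35210 := d33_1 D36810 (iv D35210) (iv F163380)
theorem F170675 : act 6 n36810 = n35209 := d40_1 D36810 (iv D35209) D35208
theorem F170676 : act 7 n36810 = n36159 := d42_1 D36810 (iv F170447) F170446
theorem F170677 : act 9 n36138 = n36810 := d43_0 F170676 F167524 (iv F167416)
theorem F170678 : act 5 n36371 = n36810 := d35_5 F170675 F163385 F159627 (iv F160745) D36371
def n36811 : Q := act 5 n35210
theorem D36811 : act 5 n35210 = n36811 := rfl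
theorem F170679 : act 0 n36811 = n36162 := d4_1 D36811 (iv D36162) (iv F163388)
theorem F170680 : act 2 n36811 = n35214 := d19_1 D36811 (iv D35214) (iv F163389)
theorem F170681 : act 6 n36811 = n36811 := d35_2 (iv F163390) D36811 (iv D36811) F163390 F155444
def n36812 : Q := act 9 n35210
theorem D36812 : act 9 n35210 = n36812 := rfl
theorem F170682 : act 0 n36812 = n36139 := d8_1 D36812 F167422 (iv F163388)
theorem F170683 : act 2 n36812 = n35215 := d23_1 D36812 (iv D35215) (iv F163389)
theorem F170684 : act 4 n36812 = n36138 := d34_1 D36812 F170677 F170674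
theorem F170685 : act 6 n36812 = n35211 := d41_1 D36812 (iv D35211) (iv F163390)
theorem F170686 : act 7 n36812 = n36168 := d43_1 D36812 F170454 F170453
theorem F170687 : act 8 n36812 = n35236 := d44_1 D36812 (iv D35236) (iv D33476) (iv F155441) D35210
def n36813 : Q := act 4 n35214
theorem D36813 : act 4 n35214 = n36813 := rfl
theorem F170688 : act 0 n36813 = n36163 := d3_1 D36813 (iv D36163) (iv F163412)
theorem F170689 : act 1 n36813 = n36813 := d11_1 D36813 (iv D36813) F163413
theorem F170690 : act 3 n36813 = n35556 := d24_1 D36813 (iv F170564) F170563 (iv D35216) (iv F163414)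
theorem F170691 : act 5 n36813 = n35554 := d30_2 D35214 D36813 F165041 F163411 F163407
theorem F170692 : act 6 n36813 = n36813 := d31_2 F163415 D36813 (iv D36813)
theorem F170693 : act 7 n36813 = n35596 := d32_2 F170468 D36813 (iv F170466)
theorem F170694 : act 8 n36813 = n35582 := d33_2 F170621 D36813 (iv F170618)
theorem F170695 : act 9 n35553 = n36813 := d44_0 F170694 (iv D35582) (iv F163288) F163289 (iv F165037)
def n36814 : Q := act 9 n35214
theorem D36814 : act 9 n35214 = n36814 := rfl
theorem F170696 : act 0 n36814 = n36164 := d8_1 D36814 (iv D36164) (iv F163412)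
theorem F170697 : act 1 n36814 = n36814 := d16_1 D36814 (iv D36814) F163413
theorem F170698 : act 3 n36814 = n35217 := d29_1 D36814 (iv D35217) (iv F163414)
theorem F170699 : act 4 n36814 = n35553 := d34_1 D36814 F170695 (iv D36813)
theorem F170700 : act 5 n36814 = n35215 := d38_1 D36814 (iv D35215) D35214
theorem F170701 : act 6 n36814 = n36814 := d41_1 D36814 (iv D36814) F163415
theorem F170702 : act 7 n36814 = n35595 := d43_1 D36814 (iv F170470) F170468
theorem F170703 : act 8 n36814 = n35898 := d44_1 D36814 (iv F170607) F170606 (iv F170622) F170621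
def n36815 : Q := act 9 n35216
theorem D36815 : act 9 n35216 = n36815 := rfl
theorem F170704 : act 0 n36815 = n36165 := d8_1 D36815 (iv D36165) (iv F163423)
theorem F170705 : act 1 n36815 = n36815 := d16_1 D36815 (iv D36815) F163424
theorem F170706 : act 3 n36815 = n35555 := d29_1 D36815 (iv F170568) F170563
theorem F170707 : act 4 n36815 = n35217 := d34_1 D36815 (iv D35217) D35216
theorem F170708 : act 5 n36815 = n35237 := d38_1 D36815 F163513 (iv F163425)
theorem F170709 : act 6 n36815 = n36815 := d41_1 D36815 (iv D36815) F163426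
theorem F170710 : act 7 n36815 = n35597 := d43_1 D36815 F165274 (iv F163427)
theorem F170711 : act 8 n35238 = n36815 := d42_0 F170710 F165273 (iv F163518)
def n36816 : Q := act 8 n35217
theorem D36816 : act 8 n35217 = n36816 := rfl
theorem F170712 : act 0 n36816 = n36166 := d7_1 D36816 (iv D36166) (iv F163429)
theorem F170713 : act 1 n36816 = n36816 := d15_1 D36816 (iv D36816) F163430
theorem F170714 : act 3 n36816 = n35898 := d28_1 D36816 (iv F170703) F170698
theorem F170715 : act 4 n36816 = n35238 := d33_1 D36816 F170711 F170707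
theorem F170716 : act 5 n36816 = n35240 := d37_1 D36816 F163529 F155573 (iv F155482) (iv F163431)
theorem F170717 : act 6 n36816 = n36816 := d40_1 D36816 (iv D36816) F163432
theorem F170718 : act 7 n36816 = n35909 := d42_1 D36816 (iv F170478) F170477
theorem F170719 : act 9 n36816 = n35897 := d44_2 D35217 D36816 (iv D35897) (iv F163322) F163321
def n36817 : Q := act 2 n35218
theorem D36817 : act 2 n35218 = n36817 := rfl
theorem F170720 : act 0 n36817 = n35222 := d1_1 D36817 (iv D35222) (iv F163433)
theorem F170721 : act 1 n36817 = n35409 := d9_1 D36817 F164408 (iv F162426) F162427 (iv F163434)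
theorem F170722 : act 3 n36817 = n36817 := d17_2 D35218 D36817 (iv D36817) (iv D35218) F155485
theorem F170723 : act 5 n36817 = n35255 := d19_2 (iv F163435) D36817 (iv D35255)
theorem F170724 : act 6 n36817 = n36361 := d20_2 F169976 D36817 (iv F169973)
theorem F170725 : act 8 n36817 = n36360 := d22_2 F169711 D36817 (iv F169707)
theorem F170726 : act 9 n36817 = n35403 := d23_2 (iv F169587) D36817 (iv F169583)
def n36818 : Q := act 7 n35218
theorem D36818 : act 7 n35218 = n36818 := rfl
theorem F170727 : act 0 n36818 = n35223 := d6_1 D36818 (iv D35223) (iv F163433)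
theorem F170728 : act 1 n36818 = n36167 := d14_1 D36818 (iv D36167) (iv F163434)
theorem F170729 : act 3 n36818 = n35219 := d27_1 D36818 (iv D35219) D35218
theorem F170730 : act 5 n36818 = n35256 := d36_1 D36818 (iv D35256) (iv F163435)
def n36819 : Q := act 6 n35219
theorem D36819 : act 6 n35219 = n36819 := rfl
theorem F170731 : act 0 n36819 = n35225 := d5_1 D36819 (iv D35225) (iv F163436)
theorem F170732 : act 1 n36819 = n36168 := d13_1 D36819 (iv D36168) (iv F163437)
theorem F170733 : act 2 n36819 = n36819 := d20_1 D36819 (iv D36819) F163438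
theorem F170734 : act 4 n36819 = n35220 := d31_1 D36819 (iv D35220) (iv F163439)
theorem F170735 : act 5 n36819 = n35879 := d35_1 D36819 (iv D35879) F158650 F155735 (iv F163440)
def n36820 : Q := act 8 n35220
theorem D36820 : act 8 n35220 = n36820 := rfl
theorem F170736 : act 0 n36820 = n35227 := d7_1 D36820 (iv D35227) (iv F163441)
theorem F170737 : act 1 n36820 = n36169 := d15_1 D36820 (iv D36169) (iv F163442)
theorem F170738 : act 2 n36820 = n36820 := d22_1 D36820 (iv D36820) F163443
theorem F170739 : act 5 n36820 = n36123 := d37_1 D36820 F167327 F159570 (iv F158173) (iv F163444)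
theorem F170740 : act 6 n36820 = n35221 := d40_1 D36820 (iv D35221) D35220
def n36821 : Q := act 7 n35222
theorem D36821 : act 7 n35222 = n36821 := rfl
theorem F170741 : act 1 n36821 = n35598 := d14_1 D36821 (iv D35598) (iv F163450)
theorem F170742 : act 2 n36821 = n35223 := d21_1 D36821 (iv D35223) D35222
theorem F170743 : act 3 n36821 = n36821 := d27_1 D36821 (iv D36821) F163451
theorem F170744 : act 5 n36821 = n35257 := d36_1 D36821 (iv D35257) (iv F163452)
theorem F170745 : act 9 n36821 = n36109 := d43_2 (iv F163453) D36821 F167290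
def n36822 : Q := act 8 n35222
theorem D36822 : act 8 n35222 = n36822 := rfl
theorem F170746 : act 0 n36822 = n36360 := d7_1 D36822 (iv F170725) F170720
theorem F170747 : act 1 n36822 = n35599 := d15_1 D36822 (iv D35599) (iv F163450)
theorem F170748 : act 2 n36822 = n35224 := d22_1 D36822 (iv D35224) D35222
theorem F170749 : act 3 n36822 = n36822 := d28_1 D36822 (iv D36822) F163451
theorem F170750 : act 5 n36822 = n36822 := d37_1 D36822 (iv D36822) F163452 F155740 (iv F163452)
theorem F170751 : act 6 n36822 = n35686 := d40_1 D36822 (iv F170503) F170502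
theorem F170752 : act 9 n36822 = n35685 := d44_2 (iv F163453) D36822 F165760 (iv F164368) F164367
def n36823 : Q := act 6 n35223
theorem D36823 : act 6 n35223 = n36823 := rfl
theorem F170753 : act 1 n36823 = n35229 := d13_1 D36823 (iv D35229) (iv F163454)
theorem F170754 : act 3 n36823 = n35225 := d26_1 D36823 (iv D35225) (iv F163455)
def n36824 : Q := act 8 n35223
theorem D36824 : act 8 n35223 = n36824 := rfl
theorem F170755 : act 1 n36824 = n35230 := d15_1 D36824 (iv D35230) (iv F163454)
theorem F170756 : act 3 n36824 = n35226 := d28_1 D36824 (iv D35226) (iv F163455)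
theorem F170757 : act 5 n36824 = n36824 := d37_1 D36824 (iv D36824) F163456 F155744 (iv F163456)
theorem F170758 : act 7 n36824 = n35224 := d42_1 D36824 (iv D35224) D35223
def n36825 : Q := act 8 n35225
theorem D36825 : act 8 n35225 = n36825 := rfl
theorem F170759 : act 1 n36825 = n35233 := d15_1 D36825 (iv D35233) (iv F163460)
theorem F170760 : act 2 n36825 = n36825 := d22_1 D36825 (iv D36825) F163461
theorem F170761 : act 4 n36825 = n35227 := d33_1 D36825 (iv D35227) (iv F163462)
theorem F170762 : act 6 n36825 = n35226 := d40_1 D36825 (iv D35226) D35225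
def n36826 : Q := act 9 n35227
theorem D36826 : act 9 n35227 = n36826 := rfl
theorem F170763 : act 1 n36826 = n35236 := d16_1 D36826 (iv D35236) (iv F163468)
theorem F170764 : act 2 n36826 = n36826 := d23_1 D36826 (iv D36826) F163469
theorem F170765 : act 6 n36826 = n35228 := d41_1 D36826 (iv D35228) (iv F163470)
def n36827 : Q := act 5 n35229
theorem D36827 : act 5 n35229 = n36827 := rfl
theorem F170766 : act 0 n36827 = n36173 := d4_1 D36827 (iv D36173) (iv F163475)
theorem F170767 : act 2 n36827 = n35607 := d19_1 D36827 (iv D35607) (iv F163476)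
theorem F170768 : act 3 n36827 = n35232 := d25_1 D36827 (iv D35232) (iv F163477)
theorem F170769 : act 6 n36827 = n35258 := d35_2 D35229 D36827 (iv D35258) (iv D33514) (iv F155517)
def n36828 : Q := act 8 n35229
theorem D36828 : act 8 n35229 = n36828 := rfl
theorem F170770 : act 0 n36828 = n36174 := d7_1 D36828 (iv D36174) (iv F163475)
theorem F170771 : act 2 n36828 = n35608 := d22_1 D36828 (iv D35608) (iv F163476)
theorem F170772 : act 3 n36828 = n35233 := d28_1 D36828 (iv D35233) (iv F163477)
theorem F170773 : act 6 n36828 = n35230 := d40_1 D36828 (iv D35230) D35229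
def n36829 : Q := act 9 n35230
theorem D36829 : act 9 n35230 = n36829 := rfl
theorem F170774 : act 0 n36829 = n36006 := d8_1 D36829 F166951 (iv F163478)
theorem F170775 : act 2 n36829 = n35609 := d23_1 D36829 (iv D35609) (iv F163479)
theorem F170776 : act 3 n36829 = n35234 := d29_1 D36829 (iv D35234) (iv F163480)
theorem F170777 : act 5 n36829 = n36829 := d38_1 D36829 (iv D36829) F163481
theorem F170778 : act 7 n36829 = n35231 := d43_1 D36829 (iv D35231) (iv F163482)
theorem F170779 : act 8 n36829 = n36001 := d44_1 D36829 F170665 (iv D36808) F163371 D35230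
def n36830 : Q := act 8 n35232
theorem D36830 : act 8 n35232 = n36830 := rfl
theorem F170780 : act 0 n36830 = n36175 := d7_1 D36830 (iv D36175) (iv F163489)
theorem F170781 : act 2 n36830 = n35237 := d22_1 D36830 (iv D35237) (iv F163490)
theorem F170782 : act 4 n36830 = n35503 := d33_1 D36830 (iv F168513) F168511
theorem F170783 : act 6 n36830 = n35259 := d40_1 D36830 (iv D35259) (iv F163491)
theorem F170784 : act 9 n36830 = n35502 := d44_2 F170670 D36830 F164824 D35854 F170671
def n36831 : Q := act 5 n35233
theorem D36831 : act 5 n35233 = n36831 := rfl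
theorem F170785 : act 0 n36831 = n36176 := d4_1 D36831 (iv D36176) (iv F163492)
theorem F170786 : act 2 n36831 = n35238 := d19_1 D36831 (iv D35238) (iv F163493)
theorem F170787 : act 6 n36831 = n36831 := d35_2 (iv F163495) D36831 (iv D36831) F163495 F155528
theorem F170788 : act 7 n36831 = n35911 := d36_2 F170548 D36831 F170550
def n36832 : Q := act 9 n35233
theorem D36832 : act 9 n35233 = n36832 := rfl
theorem F170789 : act 0 n36832 = n36140 := d8_1 D36832 F167428 (iv F163492)
theorem F170790 : act 2 n36832 = n35239 := d23_1 D36832 (iv D35239) (iv F163493)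
theorem F170791 : act 4 n36832 = n35236 := d34_1 D36832 (iv D35236) (iv F163494)
theorem F170792 : act 6 n36832 = n35234 := d41_1 D36832 (iv D35234) (iv F163495)
theorem F170793 : act 7 n36832 = n36169 := d43_1 D36832 (iv F170549) F170548
theorem F170794 : act 8 n36832 = n36138 := d44_1 D36832 F170677 (iv D36810) F163381 D35233
def n36833 : Q := act 9 n35235
theorem D36833 : act 9 n35235 = n36833 := rfl
theorem F170795 : act 0 n36833 = n36177 := d8_1 D36833 (iv D36177) (iv F163502)
theorem F170796 : act 2 n36833 = n35241 := d23_1 D36833 (iv D35241) (iv F163503)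
theorem F170797 : act 5 n36833 = n35236 := d38_1 D36833 (iv D35236) D35235
theorem F170798 : act 6 n36833 = n35245 := d41_1 D36833 (iv D35245) (iv F163504)
def n36834 : Q := act 9 n35238
theorem D36834 : act 9 n35238 = n36834 := rfl
theorem F170799 : act 0 n36834 = n36178 := d8_1 D36834 (iv D36178) (iv F163514)
theorem F170800 : act 1 n36834 = n36834 := d16_1 D36834 (iv D36834) F163515
theorem F170801 : act 3 n36834 = n35614 := d29_1 D36834 (iv D35614) (iv F163516)
theorem F170802 : act 4 n36834 = n35897 := d34_1 D36834 (iv F170719) F170715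
theorem F170803 : act 5 n36834 = n35239 := d38_1 D36834 (iv D35239) D35238
theorem F170804 : act 6 n36834 = n36834 := d41_1 D36834 (iv D36834) F163517
theorem F170805 : act 7 n36834 = n35593 := d43_1 D36834 (iv F165251) (iv F163518)
theorem F170806 : act 8 n36834 = n35551 := d44_1 D36834 F165023 (iv F163428) D36815 (iv F170711)
def n36835 : Q := act 7 n35247
theorem D36835 : act 7 n35247 = n36835 := rfl
theorem F170807 : act 0 n36835 = n35250 := d6_1 D36835 (iv D35250) (iv F163567)
theorem F170808 : act 1 n36835 = n35661 := d14_1 D36835 F165620 (iv F163568)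
theorem F170809 : act 2 n36835 = n35679 := d21_1 D36835 F165730 F163573
theorem F170810 : act 3 n36835 = n35248 := d27_1 D36835 (iv D35248) D35247
theorem F170811 : act 4 n36835 = n35738 := d32_1 D36835 F165959 (iv F163569)
theorem F170812 : act 8 n36835 = n35658 := d42_2 (iv F163571) D36835 (iv D35658)
theorem F170813 : act 9 n36835 = n35256 := d43_2 (iv F163572) D36835 (iv D35256)
theorem F170814 : act 6 n35885 = n36835 := d41_3 F170813 (iv F163637) D35885
def n36836 : Q := act 5 n35252
theorem D36836 : act 5 n35252 = n36836 := rfl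
theorem F170815 : act 0 n36836 = n36181 := d4_1 D36836 (iv D36181) (iv F163604)
theorem F170816 : act 2 n36836 = n35628 := d19_1 D36836 (iv D35628) (iv F163605)
theorem F170817 : act 3 n36836 = n35253 := d25_1 D36836 (iv D35253) (iv F163606)
theorem F170818 : act 7 n36836 = n36836 := d36_2 F163608 D36836 (iv D36836)
theorem F170819 : act 8 n36836 = n35875 := d37_2 (iv F163609) D36836 F166421 D35889 (iv F166480)
theorem F170820 : act 9 n36836 = n35258 := d38_2 (iv F163610) D36836 (iv D35258)
def n36837 : Q := act 7 n35255
theorem D36837 : act 7 n35255 = n36837 := rfl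
theorem F170821 : act 0 n36837 = n35257 := d6_1 D36837 (iv D35257) (iv F163625)
theorem F170822 : act 1 n36837 = n35681 := d14_1 D36837 F165740 (iv F163626)
theorem F170823 : act 2 n36837 = n35256 := d21_1 D36837 (iv D35256) D35255
theorem F170824 : act 3 n36837 = n36837 := d27_1 D36837 (iv D36837) F163627
theorem F170825 : act 4 n36837 = n35737 := d32_1 D36837 F165952 (iv F163628)
theorem F170826 : act 8 n36837 = n36837 := d42_2 F163630 D36837 (iv D36837)
theorem F170827 : act 9 n36837 = n35679 := d43_2 (iv F163631) D36837 F165730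
theorem F170828 : act 6 n35884 = n36837 := d31_0 F170825 F165951 (iv F166450)
def n36838 : Q := act 4 n35258
theorem D36838 : act 4 n35258 = n36838 := rfl
theorem F170829 : act 0 n36838 = n36183 := d3_1 D36838 (iv D36183) (iv F163644)
theorem F170830 : act 2 n36838 = n35633 := d18_1 D36838 (iv D35633) (iv F163645)
theorem F170831 : act 7 n36838 = n36838 := d32_2 F163647 D36838 (iv D36838)
def n36839 : Q := act 8 n35258
theorem D36839 : act 8 n35258 = n36839 := rfl
theorem F170832 : act 0 n36839 = n36184 := d7_1 D36839 (iv D36184) (iv F163644)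
theorem F170833 : act 2 n36839 = n35634 := d22_1 D36839 (iv D35634) (iv F163645)
theorem F170834 : act 3 n36839 = n35259 := d28_1 D36839 (iv D35259) (iv F163646)
theorem F170835 : act 5 n36839 = n36839 := d37_1 D36839 (iv D36839) (iv D35258) F155749 D35258
theorem F170836 : act 7 n36839 = n36839 := d42_1 D36839 (iv D36839) F163647
theorem F170837 : act 9 n36839 = n35654 := d44_2 F170820 D36839 F165577 D35875 (iv F170819)
def n36840 : Q := act 4 n35260
theorem D36840 : act 4 n35260 = n36840 := rfl
theorem F170838 : act 0 n36840 = n35705 := d3_1 D36840 F165839 (iv F163654)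
theorem F170839 : act 1 n36840 = n35262 := d11_1 D36840 (iv D35262) (iv F163655)
theorem F170840 : act 2 n36840 = n35310 := d18_1 D36840 F163957 (iv F163656)
theorem F170841 : act 5 n36840 = n35936 := d30_2 D35260 D36840 (iv D35936) (iv D34231) (iv F155773)
theorem F170842 : act 6 n36840 = n35293 := d31_2 (iv F163658) D36840 (iv D35293)
theorem F170843 : act 8 n36840 = n35307 := d33_2 (iv F163659) D36840 (iv D35307)
theorem F170844 : act 9 n36840 = n35988 := d34_2 (iv F163660) D36840 (iv D35988)
theorem F170845 : act 3 n36055 = n36840 := d25_3 F170841 F166656 D36055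
def n36841 : Q := act 7 n35260
theorem D36841 : act 7 n35260 = n36841 := rfl
theorem F170846 : act 0 n36841 = n35707 := d6_1 D36841 F165845 (iv F163654)
theorem F170847 : act 1 n36841 = n35263 := d14_1 D36841 (iv D35263) (iv F163655)
theorem F170848 : act 2 n36841 = n35312 := d21_1 D36841 F163970 (iv F163656)
theorem F170849 : act 3 n36841 = n36841 := d27_1 D36841 (iv D36841) F163657
theorem F170850 : act 5 n36841 = n35261 := d36_1 D36841 (iv D35261) D35260
theorem F170851 : act 8 n36841 = n35308 := d42_2 (iv F163659) D36841 (iv D35308)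
theorem F170852 : act 9 n36841 = n35989 := d43_2 (iv F163660) D36841 (iv D35989)
def n36842 : Q := act 3 n35262
theorem D36842 : act 3 n35262 = n36842 := rfl
theorem F170853 : act 0 n36842 = n35319 := d2_1 D36842 (iv D35319) (iv F163669)
theorem F170854 : act 1 n36842 = n36055 := d10_1 D36842 F170845 F170839
theorem F170855 : act 2 n36842 = n36210 := d17_1 D36842 (iv D36210) F160126 (iv F155790) (iv F163670)
theorem F170856 : act 4 n36842 = n36842 := d24_2 D35262 D36842 (iv D36842) (iv D35262) F155778
theorem F170857 : act 5 n36842 = n35938 := d25_2 (iv F163671) D36842 (iv D35938)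
theorem F170858 : act 6 n36842 = n35295 := d26_2 (iv F163672) D36842 (iv D35295)
theorem F170859 : act 9 n36842 = n35990 := d29_2 (iv F163673) D36842 (iv D35990)
def n36843 : Q := act 7 n35262
theorem D36843 : act 7 n35262 = n36843 := rfl
theorem F170860 : act 0 n36843 = n35320 := d6_1 D36843 (iv D35320) (iv F163669)
theorem F170861 : act 2 n36843 = n35265 := d21_1 D36843 (iv D35265) (iv F163670)
theorem F170862 : act 4 n36843 = n35263 := d32_1 D36843 (iv D35263) D35262
theorem F170863 : act 5 n36843 = n35939 := d36_1 D36843 (iv D35939) (iv F163671)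
theorem F170864 : act 9 n36843 = n35991 := d43_2 (iv F163673) D36843 (iv D35991)
def n36844 : Q := act 8 n35262
theorem D36844 : act 8 n35262 = n36844 := rfl
theorem F170865 : act 0 n36844 = n35321 := d7_1 D36844 (iv D35321) (iv F163669)
theorem F170866 : act 1 n36844 = n35307 := d15_1 D36844 (iv F170843) F170839
theorem F170867 : act 2 n36844 = n35266 := d22_1 D36844 (iv D35266) (iv F163670)
theorem F170868 : act 4 n36844 = n35264 := d33_1 D36844 (iv D35264) D35262
theorem F170869 : act 6 n36844 = n35297 := d40_1 D36844 (iv D35297) (iv F163672)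
theorem F170870 : act 5 n35920 = n36844 := d35_5 F170869 (iv F163881) (iv F161024) (iv F168208) F168209
theorem F170871 : act 9 n35760 = n36844 := d41_0 F170869 (iv F163882) (iv F166051)
def n36845 : Q := act 6 n35263
theorem D36845 : act 6 n35263 = n36845 := rfl
theorem F170872 : act 0 n36845 = n35322 := d5_1 D36845 (iv D35322) (iv F163674)
theorem F170873 : act 2 n36845 = n35267 := d20_1 D36845 (iv D35267) (iv F163675)
theorem F170874 : act 3 n36845 = n36845 := d26_1 D36845 (iv D36845) F163676
theorem F170875 : act 5 n36845 = n35706 := d35_1 D36845 (iv D35706) F158040 (iv F155785) (iv F163677)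
theorem F170876 : act 7 n36845 = n35298 := d39_2 D35263 D36845 (iv D35298) (iv D33547) (iv F155779)
theorem F170877 : act 9 n36845 = n35993 := d41_2 (iv F163678) D36845 (iv D35993)
def n36846 : Q := act 8 n35263
theorem D36846 : act 8 n35263 = n36846 := rfl
theorem F170878 : act 0 n36846 = n35323 := d7_1 D36846 (iv D35323) (iv F163674)
theorem F170879 : act 1 n36846 = n35308 := d15_1 D36846 (iv F170851) F170847
theorem F170880 : act 2 n36846 = n35268 := d22_1 D36846 (iv D35268) (iv F163675)
theorem F170881 : act 3 n36846 = n36846 := d28_1 D36846 (iv D36846) F163676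
theorem F170882 : act 5 n36846 = n35306 := d37_1 D36846 F163936 F157714 (iv F155786) (iv F163677)
theorem F170883 : act 7 n36846 = n35264 := d42_1 D36846 (iv D35264) D35263
theorem F170884 : act 9 n35761 = n36846 := d43_0 F170883 (iv F163685) D35761
def n36847 : Q := act 6 n35265
theorem D36847 : act 6 n35265 = n36847 := rfl
theorem F170885 : act 0 n36847 = n35325 := d5_1 D36847 (iv D35325) (iv F163686)
theorem F170886 : act 1 n36847 = n35718 := d13_1 D36847 (iv D35718) (iv F163687)
theorem F170887 : act 3 n36847 = n36213 := d26_1 D36847 (iv D36213) (iv F163688)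
theorem F170888 : act 4 n36847 = n35267 := d31_1 D36847 (iv D35267) (iv F163689)
theorem F170889 : act 7 n36847 = n35300 := d39_2 D35265 D36847 (iv D35300) (iv D33549) (iv F155792)
theorem F170890 : act 9 n36847 = n35995 := d41_2 (iv F163691) D36847 (iv D35995)
def n36848 : Q := act 8 n35265
theorem D36848 : act 8 n35265 = n36848 := rfl
theorem F170891 : act 0 n36848 = n35326 := d7_1 D36848 (iv D35326) (iv F163686)
theorem F170892 : act 1 n36848 = n35418 := d15_1 D36848 F164437 (iv F163687)
theorem F170893 : act 3 n36848 = n36214 := d28_1 D36848 (iv D36214) (iv F163688)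
theorem F170894 : act 4 n36848 = n35268 := d33_1 D36848 (iv D35268) (iv F163689)
theorem F170895 : act 7 n36848 = n35266 := d42_1 D36848 (iv D35266) D35265
theorem F170896 : act 9 n35811 = n36848 := d43_0 F170895 (iv F163697) D35811
def n36849 : Q := act 8 n35267
theorem D36849 : act 8 n35267 = n36849 := rfl
theorem F170897 : act 0 n36849 = n35329 := d7_1 D36849 (iv D35329) (iv F163698)
theorem F170898 : act 1 n36849 = n35419 := d15_1 D36849 F164444 (iv F163699)
theorem F170899 : act 3 n36849 = n35269 := d28_1 D36849 (iv D35269) (iv F163700)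
theorem F170900 : act 6 n36849 = n35268 := d40_1 D36849 (iv D35268) D35267
theorem F170901 : act 7 n36849 = n35302 := d42_1 D36849 (iv D35302) (iv F163702)
theorem F170902 : act 5 n35442 = n36849 := d36_3 F170901 (iv F163906) (iv F164553)
theorem F170903 : act 9 n35813 = n36849 := d43_0 F170901 (iv F163907) (iv F166243)
def n36850 : Q := act 4 n35270
theorem D36850 : act 4 n35270 = n36850 := rfl
theorem F170904 : act 0 n36850 = n35374 := d3_1 D36850 F164258 (iv F163718)
theorem F170905 : act 1 n36850 = n35272 := d11_1 D36850 (iv D35272) (iv F163719)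
theorem F170906 : act 2 n36850 = n35504 := d18_1 D36850 F164831 (iv F163720)
theorem F170907 : act 5 n36850 = n35351 := d30_2 D35270 D36850 F164157 F156218 (iv F155823)
theorem F170908 : act 6 n36850 = n35701 := d31_2 (iv F163722) D36850 (iv D35701)
theorem F170909 : act 8 n36850 = n35370 := d33_2 (iv F163723) D36850 (iv D35370)
theorem F170910 : act 9 n36850 = n35350 := d34_2 (iv F163724) D36850 F164154
def n36851 : Q := act 7 n35270
theorem D36851 : act 7 n35270 = n36851 := rfl
theorem F170911 : act 0 n36851 = n35376 := d6_1 D36851 F164267 (iv F163718)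
theorem F170912 : act 1 n36851 = n35273 := d14_1 D36851 (iv D35273) (iv F163719)
theorem F170913 : act 2 n36851 = n35393 := d21_1 D36851 F164334 (iv F163720)
theorem F170914 : act 3 n36851 = n36851 := d27_1 D36851 (iv D36851) F163721
theorem F170915 : act 5 n36851 = n35271 := d36_1 D36851 (iv D35271) D35270
theorem F170916 : act 8 n36851 = n35371 := d42_2 (iv F163723) D36851 (iv D35371)
theorem F170917 : act 9 n36851 = n35392 := d43_2 (iv F163724) D36851 F164329
def n36852 : Q := act 3 n35272
theorem D36852 : act 3 n35272 = n36852 := rfl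
theorem F170918 : act 0 n36852 = n35345 := d2_1 D36852 (iv D35345) (iv F163733)
theorem F170919 : act 2 n36852 = n35762 := d17_1 D36852 (iv D35762) F158328 (iv F155840) (iv F163734)
theorem F170920 : act 4 n36852 = n36852 := d24_2 D35272 D36852 (iv D36852) (iv D35272) F155828
theorem F170921 : act 5 n36852 = n35472 := d25_2 (iv F163735) D36852 F164680
theorem F170922 : act 6 n36852 = n35703 := d26_2 (iv F163736) D36852 (iv D35703)
theorem F170923 : act 9 n36852 = n35471 := d29_2 (iv F163737) D36852 F164676
def n36853 : Q := act 7 n35272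
theorem D36853 : act 7 n35272 = n36853 := rfl
theorem F170924 : act 0 n36853 = n35346 := d6_1 D36853 (iv D35346) (iv F163733)
theorem F170925 : act 2 n36853 = n35275 := d21_1 D36853 (iv D35275) (iv F163734)
theorem F170926 : act 4 n36853 = n35273 := d32_1 D36853 (iv D35273) D35272
theorem F170927 : act 5 n36853 = n35482 := d36_1 D36853 F164726 (iv F163735)
theorem F170928 : act 9 n36853 = n35481 := d43_2 (iv F163737) D36853 F164721
def n36854 : Q := act 8 n35272
theorem D36854 : act 8 n35272 = n36854 := rfl
theorem F170929 : act 0 n36854 = n35293 := d7_1 D36854 F163866 (iv F163733)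
theorem F170930 : act 1 n36854 = n35370 := d15_1 D36854 (iv F170909) F170905
theorem F170931 : act 2 n36854 = n35276 := d22_1 D36854 (iv D35276) (iv F163734)
theorem F170932 : act 4 n36854 = n35274 := d33_1 D36854 (iv D35274) D35272
theorem F170933 : act 5 n36854 = n35511 := d37_1 D36854 F164855 F158568 (iv F156721) (iv F163735)
theorem F170934 : act 6 n36854 = n35705 := d40_1 D36854 (iv D35705) (iv F163736)
theorem F170935 : act 9 n36854 = n35510 := d44_2 (iv F163737) D36854 F164852 (iv D34627) (iv F156717)
def n36855 : Q := act 6 n35273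
theorem D36855 : act 6 n35273 = n36855 := rfl
theorem F170936 : act 0 n36855 = n35347 := d5_1 D36855 (iv D35347) (iv F163738)
theorem F170937 : act 2 n36855 = n35277 := d20_1 D36855 (iv D35277) (iv F163739)
theorem F170938 : act 3 n36855 = n36855 := d26_1 D36855 (iv D36855) F163740
theorem F170939 : act 5 n36855 = n35298 := d35_1 D36855 (iv D35298) F155944 (iv F155835) (iv F163741)
theorem F170940 : act 7 n36855 = n35706 := d39_2 D35273 D36855 (iv D35706) (iv D33982) (iv F155829)
theorem F170941 : act 9 n36855 = n35533 := d41_2 (iv F163742) D36855 (iv D35533)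
def n36856 : Q := act 8 n35273
theorem D36856 : act 8 n35273 = n36856 := rfl
theorem F170942 : act 0 n36856 = n35294 := d7_1 D36856 F163871 (iv F163738)
theorem F170943 : act 1 n36856 = n35371 := d15_1 D36856 (iv F170916) F170912
theorem F170944 : act 2 n36856 = n35278 := d22_1 D36856 (iv D35278) (iv F163739)
theorem F170945 : act 3 n36856 = n36856 := d28_1 D36856 (iv D36856) F163740
theorem F170946 : act 5 n36856 = n35292 := d37_1 D36856 F163862 F155987 (iv F155836) (iv F163741)
theorem F170947 : act 7 n36856 = n35274 := d42_1 D36856 (iv D35274) D35273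
theorem F170948 : act 9 n36856 = n35536 := d44_2 (iv F163742) D36856 F164941 (iv D34714) (iv F156895)
def n36857 : Q := act 6 n35275
theorem D36857 : act 6 n35275 = n36857 := rfl
theorem F170949 : act 0 n36857 = n35348 := d5_1 D36857 (iv D35348) (iv F163750)
theorem F170950 : act 1 n36857 = n35717 := d13_1 D36857 (iv D35717) (iv F163751)
theorem F170951 : act 3 n36857 = n35765 := d26_1 D36857 (iv D35765) (iv F163752)
theorem F170952 : act 4 n36857 = n35277 := d31_1 D36857 (iv D35277) (iv F163753)
theorem F170953 : act 7 n36857 = n35708 := d39_2 D35275 D36857 (iv D35708) (iv D33984) (iv F155842)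
theorem F170954 : act 9 n36857 = n35750 := d41_2 (iv F163755) D36857 (iv D35750)
def n36858 : Q := act 8 n35275
theorem D36858 : act 8 n35275 = n36858 := rfl
theorem F170955 : act 0 n36858 = n35349 := d7_1 D36858 (iv D35349) (iv F163750)
theorem F170956 : act 1 n36858 = n35541 := d15_1 D36858 F164967 (iv F163751)
theorem F170957 : act 3 n36858 = n35766 := d28_1 D36858 (iv D35766) (iv F163752)
theorem F170958 : act 4 n36858 = n35278 := d33_1 D36858 (iv D35278) (iv F163753)
theorem F170959 : act 7 n36858 = n35276 := d42_1 D36858 (iv D35276) D35275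
def n36859 : Q := act 5 n35276
theorem D36859 : act 5 n35276 = n36859 := rfl
theorem F170960 : act 0 n36859 = n35350 := d4_1 D36859 (iv D35350) (iv F163756)
theorem F170961 : act 1 n36859 = n35382 := d12_1 D36859 F164289 (iv F163757)
theorem F170962 : act 2 n36859 = n35511 := d19_1 D36859 (iv F170933) F170931
theorem F170963 : act 3 n36859 = n35767 := d25_1 D36859 (iv D35767) (iv F163758)
theorem F170964 : act 4 n36859 = n35304 := d30_1 D36859 (iv D35304) F156002 (iv F155852) (iv F163759)
theorem F170965 : act 8 n36859 = n35841 := d37_2 D35276 D36859 F166326 F158547 (iv F155841)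
theorem F170966 : act 9 n35374 = n36859 := d44_0 F170965 (iv D35841) F158543 (iv F156283) D35374
def n36860 : Q := act 9 n35276
theorem D36860 : act 9 n35276 = n36860 := rfl
theorem F170967 : act 0 n36860 = n35351 := d8_1 D36860 (iv D35351) (iv F163756)
theorem F170968 : act 1 n36860 = n35381 := d16_1 D36860 (iv F164284) (iv F163757)
theorem F170969 : act 2 n36860 = n35510 := d23_1 D36860 (iv F170935) F170931
theorem F170970 : act 3 n36860 = n35768 := d29_1 D36860 (iv D35768) (iv F163758)
theorem F170971 : act 4 n36860 = n35279 := d34_1 D36860 (iv D35279) (iv F163759)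
theorem F170972 : act 5 n36860 = n35374 := d38_1 D36860 F170966 (iv D36859)
theorem F170973 : act 6 n36860 = n35710 := d41_1 D36860 (iv D35710) (iv F163760)
theorem F170974 : act 8 n36860 = n35752 := d44_1 D36860 (iv D35752) (iv D34042) (iv F155843) D35276
def n36861 : Q := act 8 n35277
theorem D36861 : act 8 n35277 = n36861 := rfl
theorem F170975 : act 0 n36861 = n35352 := d7_1 D36861 (iv D35352) (iv F163761)
theorem F170976 : act 1 n36861 = n35523 := d15_1 D36861 F164899 (iv F163762)
theorem F170977 : act 3 n36861 = n35280 := d28_1 D36861 (iv D35280) (iv F163763)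
theorem F170978 : act 5 n36861 = n35512 := d37_1 D36861 (iv D35512) F163906 (iv D35302) (iv F163764)
theorem F170979 : act 6 n36861 = n35278 := d40_1 D36861 (iv D35278) D35277
theorem F170980 : act 7 n36861 = n35711 := d42_1 D36861 (iv D35711) (iv F163765)
def n36862 : Q := act 9 n35278
theorem D36862 : act 9 n35278 = n36862 := rfl
theorem F170981 : act 0 n36862 = n35353 := d8_1 D36862 (iv D35353) (iv F163767)
theorem F170982 : act 1 n36862 = n35394 := d16_1 D36862 F164340 (iv F163768)
theorem F170983 : act 2 n36862 = n35536 := d23_1 D36862 (iv F170948) F170944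
theorem F170984 : act 3 n36862 = n35281 := d29_1 D36862 (iv D35281) (iv F163769)
theorem F170985 : act 5 n36862 = n35305 := d38_1 D36862 (iv D35305) (iv F163770)
theorem F170986 : act 7 n36862 = n35279 := d43_1 D36862 (iv D35279) (iv F163771)
theorem F170987 : act 8 n36862 = n35754 := d44_1 D36862 (iv D35754) (iv D34044) (iv F155848) D35278
def n36863 : Q := act 9 n35280
theorem D36863 : act 9 n35280 = n36863 := rfl
theorem F170988 : act 0 n36863 = n35355 := d8_1 D36863 (iv D35355) (iv F163779)
theorem F170989 : act 1 n36863 = n35613 := d16_1 D36863 (iv D35613) (iv F163780)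
theorem F170990 : act 2 n36863 = n36863 := d23_1 D36863 (iv D36863) F163781
theorem F170991 : act 4 n36863 = n35772 := d34_1 D36863 (iv D35772) (iv F163782)
theorem F170992 : act 5 n36863 = n35606 := d38_1 D36863 (iv D35606) (iv F163783)
theorem F170993 : act 6 n36863 = n35281 := d41_1 D36863 (iv D35281) (iv F163784)
theorem F170994 : act 7 n36863 = n35713 := d43_1 D36863 (iv D35713) (iv F163785)
theorem F170995 : act 8 n36863 = n35756 := d44_1 D36863 (iv D35756) (iv D34046) (iv F155860) D35280
def n36864 : Q := act 4 n35282
theorem D36864 : act 4 n35282 = n36864 := rfl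
theorem F170996 : act 0 n36864 = n35510 := d3_1 D36864 F164851 (iv F163793)
theorem F170997 : act 1 n36864 = n35284 := d11_1 D36864 (iv D35284) (iv F163794)
theorem F170998 : act 2 n36864 = n35351 := d18_1 D36864 F164157 (iv F163795)
theorem F170999 : act 5 n36864 = n35504 := d30_2 D35282 D36864 F164831 F156811 (iv F155878)
theorem F171000 : act 6 n36864 = n35988 := d31_2 (iv F163797) D36864 (iv D35988)
theorem F171001 : act 8 n36864 = n35499 := d33_2 (iv F163798) D36864 F164811
theorem F171002 : act 9 n36864 = n35293 := d34_2 (iv F163799) D36864 (iv D35293)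
def n36865 : Q := act 7 n35282
theorem D36865 : act 7 n35282 = n36865 := rfl
theorem F171003 : act 0 n36865 = n35536 := d6_1 D36865 F164940 (iv F163793)
theorem F171004 : act 1 n36865 = n35285 := d14_1 D36865 (iv D35285) (iv F163794)
theorem F171005 : act 2 n36865 = n35353 := d21_1 D36865 F164165 (iv F163795)
theorem F171006 : act 3 n36865 = n36865 := d27_1 D36865 (iv D36865) F163796
theorem F171007 : act 5 n36865 = n35283 := d36_1 D36865 (iv D35283) D35282
theorem F171008 : act 8 n36865 = n35649 := d42_2 (iv F163798) D36865 F165554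
theorem F171009 : act 9 n36865 = n35294 := d43_2 (iv F163799) D36865 (iv D35294)
def n36866 : Q := act 3 n35284
theorem D36866 : act 3 n35284 = n36866 := rfl
theorem F171010 : act 0 n36866 = n35356 := d2_1 D36866 (iv D35356) (iv F163808)
theorem F171011 : act 2 n36866 = n35796 := d17_1 D36866 (iv D35796) F158440 (iv F155895) (iv F163809)
theorem F171012 : act 4 n36866 = n36866 := d24_2 D35284 D36866 (iv D36866) (iv D35284) F155883
theorem F171013 : act 5 n36866 = n35699 := d25_2 (iv F163810) D36866 (iv D35699)
theorem F171014 : act 6 n36866 = n35990 := d26_2 (iv F163811) D36866 (iv D35990)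
theorem F171015 : act 9 n36866 = n35295 := d29_2 (iv F163812) D36866 (iv D35295)
def n36867 : Q := act 7 n35284
theorem D36867 : act 7 n35284 = n36867 := rfl
theorem F171016 : act 0 n36867 = n35357 := d6_1 D36867 (iv D35357) (iv F163808)
theorem F171017 : act 2 n36867 = n35287 := d21_1 D36867 (iv D35287) (iv F163809)
theorem F171018 : act 4 n36867 = n35285 := d32_1 D36867 (iv D35285) D35284
theorem F171019 : act 5 n36867 = n35534 := d36_1 D36867 F164931 (iv F163810)
theorem F171020 : act 9 n36867 = n35296 := d43_2 (iv F163812) D36867 (iv D35296)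
def n36868 : Q := act 8 n35284
theorem D36868 : act 8 n35284 = n36868 := rfl
theorem F171021 : act 0 n36868 = n35358 := d7_1 D36868 (iv D35358) (iv F163808)
theorem F171022 : act 1 n36868 = n35499 := d15_1 D36868 (iv F171001) F170997
theorem F171023 : act 2 n36868 = n35288 := d22_1 D36868 (iv D35288) (iv F163809)
theorem F171024 : act 4 n36868 = n35286 := d33_1 D36868 (iv D35286) D35284
theorem F171025 : act 5 n36868 = n35365 := d37_1 D36868 F164219 F156320 (iv F158004) (iv F163810)
theorem F171026 : act 6 n36868 = n35992 := d40_1 D36868 (iv D35992) (iv F163811)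
theorem F171027 : act 9 n36868 = n35364 := d44_2 (iv F163812) D36868 F164215 F163882 (iv D35297)
def n36869 : Q := act 6 n35285
theorem D36869 : act 6 n35285 = n36869 := rfl
theorem F171028 : act 0 n36869 = n35359 := d5_1 D36869 (iv D35359) (iv F163813)
theorem F171029 : act 2 n36869 = n35289 := d20_1 D36869 (iv D35289) (iv F163814)
theorem F171030 : act 3 n36869 = n36869 := d26_1 D36869 (iv D36869) F163815
theorem F171031 : act 5 n36869 = n35533 := d35_1 D36869 (iv D35533) (iv D33760) (iv F155890) (iv F163816)
theorem F171032 : act 7 n36869 = n35993 := d39_2 D35285 D36869 (iv D35993) (iv D34289) (iv F155884)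
theorem F171033 : act 9 n36869 = n35298 := d41_2 (iv F163817) D36869 (iv D35298)
def n36870 : Q := act 8 n35285
theorem D36870 : act 8 n35285 = n36870 := rfl
theorem F171034 : act 0 n36870 = n35360 := d7_1 D36870 (iv D35360) (iv F163813)
theorem F171035 : act 1 n36870 = n35649 := d15_1 D36870 (iv F171008) F171004
theorem F171036 : act 2 n36870 = n35290 := d22_1 D36870 (iv D35290) (iv F163814)
theorem F171037 : act 3 n36870 = n36870 := d28_1 D36870 (iv D36870) F163815
theorem F171038 : act 5 n36870 = n35532 := d37_1 D36870 (iv D35532) (iv D33759) (iv F155891) (iv F163816)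
theorem F171039 : act 7 n36870 = n35286 := d42_1 D36870 (iv D35286) D35285
theorem F171040 : act 9 n36870 = n35640 := d44_2 (iv F163817) D36870 F165504 F163892 (iv D35299)
def n36871 : Q := act 6 n35287
theorem D36871 : act 6 n35287 = n36871 := rfl
theorem F171041 : act 0 n36871 = n35362 := d5_1 D36871 (iv D35362) (iv F163825)
theorem F171042 : act 1 n36871 = n36185 := d13_1 D36871 (iv D36185) (iv F163826)
theorem F171043 : act 3 n36871 = n35802 := d26_1 D36871 (iv D35802) (iv F163827)
theorem F171044 : act 4 n36871 = n35289 := d31_1 D36871 (iv D35289) (iv F163828)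
theorem F171045 : act 7 n36871 = n35995 := d39_2 D35287 D36871 (iv D35995) (iv D34291) (iv F155897)
theorem F171046 : act 9 n36871 = n35300 := d41_2 (iv F163830) D36871 (iv D35300)
def n36872 : Q := act 8 n35287
theorem D36872 : act 8 n35287 = n36872 := rfl
theorem F171047 : act 0 n36872 = n35363 := d7_1 D36872 (iv D35363) (iv F163825)
theorem F171048 : act 1 n36872 = n35839 := d15_1 D36872 F166319 (iv F163826)
theorem F171049 : act 3 n36872 = n35803 := d28_1 D36872 (iv D35803) (iv F163827)
theorem F171050 : act 4 n36872 = n35290 := d33_1 D36872 (iv D35290) (iv F163828)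
theorem F171051 : act 7 n36872 = n35288 := d42_1 D36872 (iv D35288) D35287
theorem F171052 : act 9 n36872 = n35831 := d44_2 (iv F163830) D36872 (iv D35831) F163901 (iv D35301)
def n36873 : Q := act 5 n35288
theorem D36873 : act 5 n35288 = n36873 := rfl
theorem F171053 : act 0 n36873 = n35364 := d4_1 D36873 (iv D35364) (iv F163831)
theorem F171054 : act 1 n36873 = n35841 := d12_1 D36873 F166326 (iv F163832)
theorem F171055 : act 2 n36873 = n35365 := d19_1 D36873 (iv F171025) F171023
theorem F171056 : act 3 n36873 = n35804 := d25_1 D36873 (iv D35804) (iv F163833)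
theorem F171057 : act 4 n36873 = n35361 := d30_1 D36873 F164204 F157531 (iv F155907) (iv F163834)
theorem F171058 : act 8 n36873 = n35382 := d37_2 D35288 D36873 F164289 F158025 (iv F155896)
theorem F171059 : act 9 n36873 = n35358 := d38_2 (iv F163836) D36873 F164189
def n36874 : Q := act 8 n35289
theorem D36874 : act 8 n35289 = n36874 := rfl
theorem F171060 : act 0 n36874 = n35366 := d7_1 D36874 (iv D35366) (iv F163837)
theorem F171061 : act 1 n36874 = n35843 := d15_1 D36874 F166334 (iv F163838)
theorem F171062 : act 3 n36874 = n35291 := d28_1 D36874 (iv D35291) (iv F163839)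
theorem F171063 : act 6 n36874 = n35290 := d40_1 D36874 (iv D35290) D35289
theorem F171064 : act 7 n36874 = n35998 := d42_1 D36874 (iv D35998) (iv F163841)
theorem F171065 : act 9 n36874 = n35832 := d44_2 (iv F163842) D36874 (iv D35832) F163907 (iv D35302)
def n36875 : Q := act 5 n35291
theorem D36875 : act 5 n35291 = n36875 := rfl
theorem F171066 : act 0 n36875 = n35368 := d4_1 D36875 (iv D35368) (iv F163849)
theorem F171067 : act 1 n36875 = n35907 := d12_1 D36875 F166539 (iv F163850)
theorem F171068 : act 2 n36875 = n36875 := d19_1 D36875 (iv D36875) F163851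
theorem F171069 : act 6 n36875 = n35637 := d35_2 (iv F163853) D36875 (iv D35637) F157550 (iv F155921)
theorem F171070 : act 7 n36875 = n35999 := d36_2 (iv F163854) D36875 (iv D35999)
theorem F171071 : act 8 n36875 = n35755 := d37_2 D35291 D36875 (iv D35755) (iv D34046) (iv F155914)
theorem F171072 : act 9 n36875 = n35877 := d38_2 (iv F163855) D36875 F166430
def n36876 : Q := act 3 n35293
theorem D36876 : act 3 n35293 = n36876 := rfl
theorem F171073 : act 1 n36876 = n35295 := d10_1 D36876 (iv D35295) (iv F163864)
theorem F171074 : act 2 n36876 = n36062 := d17_1 D36876 F167147 (iv F164100) F164101 (iv F163865)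
theorem F171075 : act 4 n36876 = n36876 := d24_2 D35293 D36876 (iv D36876) (iv D35293) F155933
theorem F171076 : act 6 n36876 = n36055 := d26_2 F170842 D36876 F170845
theorem F171077 : act 8 n36876 = n35345 := d28_2 (iv F163866) D36876 (iv D35345)
def n36877 : Q := act 7 n35293
theorem D36877 : act 7 n35293 = n36877 := rfl
theorem F171078 : act 1 n36877 = n35296 := d14_1 D36877 (iv D35296) (iv F163864)
theorem F171079 : act 2 n36877 = n35349 := d21_1 D36877 F164152 (iv F163865)
theorem F171080 : act 4 n36877 = n35294 := d32_1 D36877 (iv D35294) D35293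
theorem F171081 : act 8 n36877 = n35346 := d42_2 (iv F163866) D36877 (iv D35346)
def n36878 : Q := act 6 n35294
theorem D36878 : act 6 n35294 = n36878 := rfl
theorem F171082 : act 1 n36878 = n35298 := d13_1 D36878 (iv D35298) (iv F163867)
theorem F171083 : act 2 n36878 = n35352 := d20_1 D36878 F164161 (iv F163868)
theorem F171084 : act 3 n36878 = n36878 := d26_1 D36878 (iv D36878) F163869
theorem F171085 : act 8 n36878 = n35347 := d40_2 (iv F163871) D36878 (iv D35347)
def n36879 : Q := act 7 n35295
theorem D36879 : act 7 n35295 = n36879 := rfl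
theorem F171086 : act 0 n36879 = n35377 := d6_1 D36879 (iv D35377) (iv F163872)
theorem F171087 : act 3 n36879 = n35296 := d27_1 D36879 (iv D35296) D35295
theorem F171088 : act 4 n36879 = n36879 := d32_1 D36879 (iv D36879) F163873
def n36880 : Q := act 6 n35296
theorem D36880 : act 6 n35296 = n36880 := rfl
theorem F171089 : act 0 n36880 = n35379 := d5_1 D36880 (iv D35379) (iv F163874)
theorem F171090 : act 2 n36880 = n35300 := d20_1 D36880 (iv D35300) (iv F163875)
theorem F171091 : act 4 n36880 = n35298 := d31_1 D36880 (iv D35298) (iv F163876)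
def n36881 : Q := act 8 n35296
theorem D36881 : act 8 n35296 = n36881 := rfl
theorem F171092 : act 0 n36881 = n35380 := d7_1 D36881 (iv D35380) (iv F163874)
theorem F171093 : act 1 n36881 = n35346 := d15_1 D36881 (iv F171081) F171078
theorem F171094 : act 2 n36881 = n35301 := d22_1 D36881 (iv D35301) (iv F163875)
theorem F171095 : act 4 n36881 = n35299 := d33_1 D36881 (iv D35299) (iv F163876)
theorem F171096 : act 7 n36881 = n35297 := d42_1 D36881 (iv D35297) D35296
theorem F171097 : act 5 n36194 = n36881 := d36_3 F171096 (iv F163881) (iv F167653)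
theorem F171098 : act 9 n35773 = n36881 := d43_0 F171096 (iv F163882) D35773
def n36882 : Q := act 8 n35298
theorem D36882 : act 8 n35298 = n36882 := rfl
theorem F171099 : act 0 n36882 = n35383 := d7_1 D36882 (iv D35383) (iv F163883)
theorem F171100 : act 1 n36882 = n35347 := d15_1 D36882 (iv F171085) F171082
theorem F171101 : act 2 n36882 = n35302 := d22_1 D36882 (iv D35302) (iv F163884)
theorem F171102 : act 3 n36882 = n36882 := d28_1 D36882 (iv D36882) F163885
theorem F171103 : act 6 n36882 = n35299 := d40_1 D36882 (iv D35299) D35298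
theorem F171104 : act 5 n35375 = n36882 := d35_5 F171103 F163890 F156029 (iv F156287) D35375
theorem F171105 : act 9 n35774 = n36882 := d41_0 F171103 (iv F163892) D35774
def n36883 : Q := act 5 n35300
theorem D36883 : act 5 n35300 = n36883 := rfl
theorem F171106 : act 0 n36883 = n35385 := d4_1 D36883 (iv D35385) (iv F163893)
theorem F171107 : act 1 n36883 = n36186 := d12_1 D36883 (iv D36186) (iv F163894)
def n36884 : Q := act 8 n35300
theorem D36884 : act 8 n35300 = n36884 := rfl
theorem F171108 : act 0 n36884 = n35386 := d7_1 D36884 (iv D35386) (iv F163893)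
theorem F171109 : act 1 n36884 = n35478 := d15_1 D36884 F164708 (iv F163894)
theorem F171110 : act 4 n36884 = n35302 := d33_1 D36884 (iv D35302) (iv F163895)
theorem F171111 : act 6 n36884 = n35301 := d40_1 D36884 (iv D35301) D35300
theorem F171112 : act 9 n35830 = n36884 := d41_0 F171111 (iv F163901) D35830
def n36885 : Q := act 5 n35303
theorem D36885 : act 5 n35303 = n36885 := rfl
theorem F171113 : act 0 n36885 = n35392 := d4_1 D36885 (iv D35392) (iv F163908)
theorem F171114 : act 1 n36885 = n35384 := d12_1 D36885 F164296 (iv F163909)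
theorem F171115 : act 2 n36885 = n35513 := d19_1 D36885 F164861 (iv F163910)
theorem F171116 : act 3 n36885 = n36885 := d25_1 D36885 (iv D36885) F163911
theorem F171117 : act 7 n36885 = n35304 := d36_2 (iv F163914) D36885 (iv D35304)
theorem F171118 : act 8 n36885 = n35860 := d37_2 D35303 D36885 F166377 F158596 (iv F155995)
theorem F171119 : act 9 n36885 = n35376 := d38_2 (iv F163915) D36885 F164266
def n36886 : Q := act 6 n35304
theorem D36886 : act 6 n35304 = n36886 := rfl
theorem F171120 : act 0 n36886 = n35334 := d5_1 D36886 F164070 (iv F163916)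
theorem F171121 : act 1 n36886 = n35324 := d13_1 D36886 F164025 (iv F163917)
theorem F171122 : act 2 n36886 = n35444 := d20_1 D36886 F164564 (iv F163918)
theorem F171123 : act 3 n36886 = n36886 := d26_1 D36886 (iv D36886) F163919
theorem F171124 : act 5 n36886 = n35333 := d35_1 D36886 (iv D35333) F156135 (iv F156003) D35304
theorem F171125 : act 8 n36886 = n35862 := d40_2 (iv F163920) D36886 F166387
theorem F171126 : act 9 n36886 = n35318 := d41_2 (iv F163921) D36886 F164006
def n36887 : Q := act 3 n35307
theorem D36887 : act 3 n35307 = n36887 := rfl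
theorem F171127 : act 0 n36887 = n35703 := d2_1 D36887 (iv D35703) (iv F163938)
theorem F171128 : act 2 n36887 = n35471 := d17_1 D36887 F164676 F156715 (iv F156053) (iv F163939)
theorem F171129 : act 4 n36887 = n36887 := d24_2 D35307 D36887 (iv D36887) (iv D35307) F156041
theorem F171130 : act 5 n36887 = n35466 := d25_2 (iv F163940) D36887 F164656
theorem F171131 : act 6 n36887 = n35345 := d26_2 (iv F163941) D36887 (iv D35345)
theorem F171132 : act 8 n36887 = n36055 := d28_2 F170843 D36887 F170845
theorem F171133 : act 9 n36887 = n35762 := d29_2 (iv F163942) D36887 (iv D35762)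
def n36888 : Q := act 7 n35307
theorem D36888 : act 7 n35307 = n36888 := rfl
theorem F171134 : act 0 n36888 = n35704 := d6_1 D36888 (iv D35704) (iv F163938)
theorem F171135 : act 2 n36888 = n35309 := d21_1 D36888 (iv D35309) (iv F163939)
theorem F171136 : act 4 n36888 = n35308 := d32_1 D36888 (iv D35308) D35307
theorem F171137 : act 5 n36888 = n35922 := d36_1 D36888 (iv D35922) (iv F163940)
theorem F171138 : act 9 n36888 = n35763 := d43_2 (iv F163942) D36888 (iv D35763)
def n36889 : Q := act 6 n35308
theorem D36889 : act 6 n35308 = n36889 := rfl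
theorem F171139 : act 0 n36889 = n35706 := d5_1 D36889 (iv D35706) (iv F163943)
theorem F171140 : act 2 n36889 = n35311 := d20_1 D36889 (iv D35311) (iv F163944)
theorem F171141 : act 3 n36889 = n36889 := d26_1 D36889 (iv D36889) F163945
theorem F171142 : act 5 n36889 = n35322 := d35_1 D36889 (iv D35322) F156100 (iv F156048) (iv F163946)
theorem F171143 : act 7 n36889 = n35347 := d39_2 D35308 D36889 (iv D35347) (iv D33594) (iv F156042)
theorem F171144 : act 9 n36889 = n35764 := d41_2 (iv F163947) D36889 (iv D35764)
def n36890 : Q := act 6 n35309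
theorem D36890 : act 6 n35309 = n36890 := rfl
theorem F171145 : act 0 n36890 = n35708 := d5_1 D36890 (iv D35708) (iv F163948)
theorem F171146 : act 1 n36890 = n35420 := d13_1 D36890 (iv D35420) (iv F163949)
theorem F171147 : act 3 n36890 = n35750 := d26_1 D36890 (iv D35750) (iv F163950)
theorem F171148 : act 4 n36890 = n35311 := d31_1 D36890 (iv D35311) (iv F163951)
theorem F171149 : act 7 n36890 = n35348 := d39_2 D35309 D36890 (iv D35348) (iv D33595) (iv F156055)
theorem F171150 : act 9 n36890 = n35765 := d41_2 (iv F163953) D36890 (iv D35765)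
def n36891 : Q := act 8 n35309
theorem D36891 : act 8 n35309 = n36891 := rfl
theorem F171151 : act 0 n36891 = n35709 := d7_1 D36891 (iv D35709) (iv F163948)
theorem F171152 : act 1 n36891 = n35421 := d15_1 D36891 (iv D35421) (iv F163949)
theorem F171153 : act 3 n36891 = n35751 := d28_1 D36891 (iv D35751) (iv F163950)
theorem F171154 : act 4 n36891 = n35312 := d33_1 D36891 (iv D35312) (iv F163951)
theorem F171155 : act 5 n36891 = n36032 := d37_1 D36891 F167050 (iv F164702) F164703 (iv F163952)
theorem F171156 : act 7 n36891 = n35310 := d42_1 D36891 (iv D35310) D35309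
def n36892 : Q := act 8 n35311
theorem D36892 : act 8 n35311 = n36892 := rfl
theorem F171157 : act 0 n36892 = n35711 := d7_1 D36892 (iv D35711) (iv F163960)
theorem F171158 : act 1 n36892 = n35422 := d15_1 D36892 (iv D35422) (iv F163961)
theorem F171159 : act 3 n36892 = n35313 := d28_1 D36892 (iv D35313) (iv F163962)
theorem F171160 : act 6 n36892 = n35312 := d40_1 D36892 (iv D35312) D35311
theorem F171161 : act 7 n36892 = n35352 := d42_1 D36892 (iv D35352) (iv F163964)
theorem F171162 : act 5 n35721 = n36892 := d35_5 F171160 F163969 F157797 (iv F158133) D35721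
def n36893 : Q := act 4 n35314
theorem D36893 : act 4 n35314 = n36893 := rfl
theorem F171163 : act 0 n36893 = n35316 := d3_1 D36893 (iv D35316) (iv F163978)
theorem F171164 : act 1 n36893 = n35705 := d11_1 D36893 F165839 (iv F163979)
theorem F171165 : act 2 n36893 = n35437 := d18_1 D36893 (iv D35437) (iv F163980)
theorem F171166 : act 6 n36893 = n35370 := d31_2 (iv F163982) D36893 (iv D35370)
theorem F171167 : act 8 n36893 = n35701 := d33_2 (iv F163983) D36893 (iv D35701)
theorem F171168 : act 9 n36893 = n35522 := d34_2 (iv F163984) D36893 F164893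
def n36894 : Q := act 7 n35314
theorem D36894 : act 7 n35314 = n36894 := rfl
theorem F171169 : act 0 n36894 = n35317 := d6_1 D36894 (iv D35317) (iv F163978)
theorem F171170 : act 1 n36894 = n35707 := d14_1 D36894 F165845 (iv F163979)
theorem F171171 : act 2 n36894 = n35438 := d21_1 D36894 (iv D35438) (iv F163980)
theorem F171172 : act 3 n36894 = n36894 := d27_1 D36894 (iv D36894) F163981
theorem F171173 : act 5 n36894 = n35315 := d36_1 D36894 (iv D35315) D35314
theorem F171174 : act 8 n36894 = n35702 := d42_2 (iv F163983) D36894 (iv D35702)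
theorem F171175 : act 9 n36894 = n35540 := d43_2 (iv F163984) D36894 (iv D35540)
def n36895 : Q := act 3 n35316
theorem D36895 : act 3 n35316 = n36895 := rfl
theorem F171176 : act 1 n36895 = n35319 := d10_1 D36895 (iv D35319) (iv F163992)
theorem F171177 : act 4 n36895 = n36895 := d24_2 D35316 D36895 (iv D36895) (iv D35316) F156088
theorem F171178 : act 6 n36895 = n35372 := d26_2 (iv F163994) D36895 (iv D35372)
theorem F171179 : act 9 n36895 = n36305 := d29_2 (iv F163995) D36895 F167942
def n36896 : Q := act 7 n35316
theorem D36896 : act 7 n35316 = n36896 := rfl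
theorem F171180 : act 1 n36896 = n35320 := d14_1 D36896 (iv D35320) (iv F163992)
theorem F171181 : act 2 n36896 = n35440 := d21_1 D36896 (iv D35440) (iv F163993)
theorem F171182 : act 4 n36896 = n35317 := d32_1 D36896 (iv D35317) D35316
theorem F171183 : act 9 n36896 = n36310 := d43_2 (iv F163995) D36896 (iv D36310)
def n36897 : Q := act 8 n35316
theorem D36897 : act 8 n35316 = n36897 := rfl
theorem F171184 : act 0 n36897 = n35701 := d7_1 D36897 (iv F171167) F171163
theorem F171185 : act 1 n36897 = n35321 := d15_1 D36897 (iv D35321) (iv F163992)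
theorem F171186 : act 2 n36897 = n35441 := d22_1 D36897 (iv D35441) (iv F163993)
theorem F171187 : act 4 n36897 = n35318 := d33_1 D36897 (iv D35318) D35316
theorem F171188 : act 6 n36897 = n35374 := d40_1 D36897 (iv D35374) (iv F163994)
theorem F171189 : act 5 n35964 = n36897 := d30_0 F171187 F164005 F157818 D34254 D35964
def n36898 : Q := act 6 n35317
theorem D36898 : act 6 n35317 = n36898 := rfl
theorem F171190 : act 1 n36898 = n35322 := d13_1 D36898 (iv D35322) (iv F163996)
theorem F171191 : act 2 n36898 = n35442 := d20_1 D36898 (iv D35442) (iv F163997)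
theorem F171192 : act 3 n36898 = n36898 := d26_1 D36898 (iv D36898) F163998
theorem F171193 : act 7 n36898 = n35375 := d39_2 D35317 D36898 (iv D35375) (iv D33615) (iv F156089)
theorem F171194 : act 9 n36898 = n36316 := d41_2 (iv F164000) D36898 F167960
def n36899 : Q := act 8 n35317
theorem D36899 : act 8 n35317 = n36899 := rfl
theorem F171195 : act 0 n36899 = n35702 := d7_1 D36899 (iv F171174) F171169
theorem F171196 : act 1 n36899 = n35323 := d15_1 D36899 (iv D35323) (iv F163996)
theorem F171197 : act 2 n36899 = n35443 := d22_1 D36899 (iv D35443) (iv F163997)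
theorem F171198 : act 3 n36899 = n36899 := d28_1 D36899 (iv D36899) F163998
theorem F171199 : act 5 n36899 = n35669 := d37_1 D36899 (iv D35669) F157811 (iv F156094) (iv F163999)
theorem F171200 : act 7 n36899 = n35318 := d42_1 D36899 (iv D35318) D35317
def n36900 : Q := act 7 n35319
theorem D36900 : act 7 n35319 = n36900 := rfl
theorem F171201 : act 3 n36900 = n35320 := d27_1 D36900 (iv D35320) D35319
theorem F171202 : act 4 n36900 = n36900 := d32_1 D36900 (iv D36900) F164007
def n36901 : Q := act 8 n35319
theorem D36901 : act 8 n35319 = n36901 := rfl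
theorem F171203 : act 3 n36901 = n35321 := d28_1 D36901 (iv D35321) D35319
theorem F171204 : act 4 n36901 = n36901 := d33_1 D36901 (iv D36901) F164007
theorem F171205 : act 6 n36901 = n35378 := d40_1 D36901 (iv D35378) (iv F164008)
theorem F171206 : act 5 n35850 = n36901 := d35_5 F171205 F164272 F158503 (iv F158568) (iv F166346)
theorem F171207 : act 9 n35824 = n36901 := d41_0 F171205 (iv F164273) D35824
def n36902 : Q := act 6 n35320
theorem D36902 : act 6 n35320 = n36902 := rfl
theorem F171208 : act 2 n36902 = n35325 := d20_1 D36902 (iv D35325) (iv F164009)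
theorem F171209 : act 4 n36902 = n35322 := d31_1 D36902 (iv D35322) (iv F164010)
theorem F171210 : act 7 n36902 = n35379 := d39_2 D35320 D36902 (iv D35379) (iv D33618) (iv F156097)
def n36903 : Q := act 8 n35320
theorem D36903 : act 8 n35320 = n36903 := rfl
theorem F171211 : act 2 n36903 = n35326 := d22_1 D36903 (iv D35326) (iv F164009)
theorem F171212 : act 4 n36903 = n35323 := d33_1 D36903 (iv D35323) (iv F164010)
theorem F171213 : act 7 n36903 = n35321 := d42_1 D36903 (iv D35321) D35320
def n36904 : Q := act 5 n35321
theorem D36904 : act 5 n35321 = n36904 := rfl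
theorem F171214 : act 0 n36904 = n35920 := d4_1 D36904 F170870 F170865
theorem F171215 : act 1 n36904 = n35964 := d12_1 D36904 F171189 F171185
theorem F171216 : act 2 n36904 = n35327 := d19_1 D36904 (iv D35327) (iv F164011)
theorem F171217 : act 3 n36904 = n35850 := d25_1 D36904 F171206 F171203
theorem F171218 : act 4 n36904 = n35671 := d30_1 D36904 (iv D35671) F157830 (iv F156103) (iv F164012)
theorem F171219 : act 6 n36904 = n35729 := d35_2 (iv F164013) D36904 F165926 F164283 (iv D35381)
theorem F171220 : act 9 n35728 = n36904 := d41_0 F171219 (iv D35729) D35728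
def n36905 : Q := act 9 n35321
theorem D36905 : act 9 n35321 = n36905 := rfl
theorem F171221 : act 0 n36905 = n35760 := d8_1 D36905 F170871 F170865
theorem F171222 : act 2 n36905 = n35328 := d23_1 D36905 (iv D35328) (iv F164011)
theorem F171223 : act 3 n36905 = n35824 := d29_1 D36905 F171207 F171203
theorem F171224 : act 4 n36905 = n35324 := d34_1 D36905 (iv D35324) (iv F164012)
theorem F171225 : act 5 n36905 = n35728 := d38_1 D36905 F171220 (iv D36904)
theorem F171226 : act 6 n36905 = n35382 := d41_1 D36905 (iv D35382) (iv F164013)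
def n36906 : Q := act 8 n35322
theorem D36906 : act 8 n35322 = n36906 := rfl
theorem F171227 : act 2 n36906 = n35329 := d22_1 D36906 (iv D35329) (iv F164014)
theorem F171228 : act 3 n36906 = n36906 := d28_1 D36906 (iv D36906) F164015
theorem F171229 : act 6 n36906 = n35323 := d40_1 D36906 (iv D35323) D35322
theorem F171230 : act 7 n36906 = n35383 := d42_1 D36906 (iv D35383) (iv F164016)
def n36907 : Q := act 9 n35323
theorem D36907 : act 9 n35323 = n36907 := rfl
theorem F171231 : act 0 n36907 = n35761 := d8_1 D36907 F170884 F170878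
theorem F171232 : act 2 n36907 = n35330 := d23_1 D36907 (iv D35330) (iv F164017)
theorem F171233 : act 3 n36907 = n36907 := d29_1 D36907 (iv D36907) F164018
theorem F171234 : act 5 n36907 = n35672 := d38_1 D36907 (iv D35672) (iv F164019)
theorem F171235 : act 7 n36907 = n35324 := d43_1 D36907 (iv D35324) (iv F164020)
def n36908 : Q := act 5 n35325
theorem D36908 : act 5 n35325 = n36908 := rfl
theorem F171236 : act 1 n36908 = n35452 := d12_1 D36908 (iv D35452) (iv F164026)
theorem F171237 : act 7 n36908 = n35385 := d36_2 (iv F164028) D36908 (iv D35385)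
def n36909 : Q := act 8 n35325
theorem D36909 : act 8 n35325 = n36909 := rfl
theorem F171238 : act 1 n36909 = n35453 := d15_1 D36909 (iv D35453) (iv F164026)
theorem F171239 : act 4 n36909 = n35329 := d33_1 D36909 (iv D35329) (iv F164027)
theorem F171240 : act 6 n36909 = n35326 := d40_1 D36909 (iv D35326) D35325
theorem F171241 : act 7 n36909 = n35386 := d42_1 D36909 (iv D35386) (iv F164028)
def n36910 : Q := act 5 n35326
theorem D36910 : act 5 n35326 = n36910 := rfl
theorem F171242 : act 1 n36910 = n35454 := d12_1 D36910 (iv D35454) (iv F164029)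
theorem F171243 : act 4 n36910 = n35673 := d30_1 D36910 (iv D35673) F157849 (iv F156115) (iv F164030)
theorem F171244 : act 7 n36910 = n35327 := d36_2 (iv F164031) D36910 (iv D35327)
def n36911 : Q := act 9 n35326
theorem D36911 : act 9 n35326 = n36911 := rfl
theorem F171245 : act 0 n36911 = n35811 := d8_1 D36911 F170896 F170891
theorem F171246 : act 1 n36911 = n35455 := d16_1 D36911 (iv D35455) (iv F164029)
theorem F171247 : act 4 n36911 = n35330 := d34_1 D36911 (iv D35330) (iv F164030)
theorem F171248 : act 7 n36911 = n35328 := d43_1 D36911 (iv D35328) (iv F164031)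
def n36912 : Q := act 6 n35327
theorem D36912 : act 6 n35327 = n36912 := rfl
theorem F171249 : act 0 n36912 = n36208 := d5_1 D36912 (iv F169104) F169100
theorem F171250 : act 1 n36912 = n35456 := d13_1 D36912 (iv D35456) (iv F164032)
theorem F171251 : act 2 n36912 = n35729 := d20_1 D36912 (iv F171219) F171216
theorem F171252 : act 4 n36912 = n35675 := d31_1 D36912 (iv D35675) (iv F164033)
theorem F171253 : act 5 n36912 = n35389 := d35_1 D36912 (iv D35389) (iv D33625) (iv F156109) D35327
theorem F171254 : act 9 n35697 = n36912 := d38_0 F171253 F164316 (iv F165806)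
def n36913 : Q := act 9 n35327
theorem D36913 : act 9 n35327 = n36913 := rfl
theorem F171255 : act 0 n36913 = n35794 := d8_1 D36913 (iv F169106) F169100
theorem F171256 : act 1 n36913 = n35457 := d16_1 D36913 (iv D35457) (iv F164032)
theorem F171257 : act 2 n36913 = n35728 := d23_1 D36913 F171220 F171216
theorem F171258 : act 4 n36913 = n35676 := d34_1 D36913 (iv D35676) (iv F164033)
theorem F171259 : act 5 n36913 = n35328 := d38_1 D36913 (iv D35328) D35327
theorem F171260 : act 6 n36913 = n35697 := d41_1 D36913 F171254 (iv D36912)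
theorem F171261 : act 8 n36086 = n36913 := d40_0 F171260 F165807 D36086
def n36914 : Q := act 5 n35329
theorem D36914 : act 5 n35329 = n36914 := rfl
theorem F171262 : act 0 n36914 = n35442 := d4_1 D36914 F170902 F170897
theorem F171263 : act 1 n36914 = n35458 := d12_1 D36914 (iv D35458) (iv F164038)
theorem F171264 : act 3 n36914 = n35331 := d25_1 D36914 (iv D35331) (iv F164039)
theorem F171265 : act 6 n36914 = n35438 := d35_2 (iv F164040) D36914 F164536 F156567 (iv F156115)
theorem F171266 : act 7 n36914 = n35390 := d36_2 (iv F164041) D36914 (iv D35390)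
theorem F171267 : act 8 n36914 = n35721 := d37_2 D35329 D36914 F171162 (iv D36892) F163963
theorem F171268 : act 9 n35542 = n36914 := d43_0 F171266 (iv F164321) D35542
def n36915 : Q := act 9 n35329
theorem D36915 : act 9 n35329 = n36915 := rfl
theorem F171269 : act 0 n36915 = n35813 := d8_1 D36915 F170903 F170897
theorem F171270 : act 1 n36915 = n35459 := d16_1 D36915 (iv D35459) (iv F164038)
theorem F171271 : act 3 n36915 = n35332 := d29_1 D36915 (iv D35332) (iv F164039)
theorem F171272 : act 5 n36915 = n35542 := d38_1 D36915 F171268 (iv D36914)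
theorem F171273 : act 6 n36915 = n35330 := d41_1 D36915 (iv D35330) (iv F164040)
theorem F171274 : act 7 n36915 = n35391 := d43_1 D36915 (iv D35391) (iv F164041)
def n36916 : Q := act 7 n35333
theorem D36916 : act 7 n35333 = n36916 := rfl
theorem F171275 : act 0 n36916 = n35335 := d6_1 D36916 (iv D35335) (iv F164060)
theorem F171276 : act 1 n36916 = n35672 := d14_1 D36916 F165686 (iv F164061)
theorem F171277 : act 2 n36916 = n35461 := d21_1 D36916 (iv D35461) (iv F164062)
theorem F171278 : act 3 n36916 = n36916 := d27_1 D36916 (iv D36916) F164063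
theorem F171279 : act 4 n36916 = n35951 := d32_1 D36916 (iv D35951) (iv F164064)
theorem F171280 : act 6 n36916 = n35700 := d39_1 D36916 (iv D35700) (iv D33975) (iv F156136) D35333
theorem F171281 : act 8 n36916 = n36916 := d42_2 F164065 D36916 (iv D36916)
theorem F171282 : act 9 n36916 = n35669 := d43_2 (iv F164066) D36916 F165669
def n36917 : Q := act 4 n35334
theorem D36917 : act 4 n35334 = n36917 := rfl
theorem F171283 : act 1 n36917 = n35336 := d11_1 D36917 (iv D35336) (iv F164067)
theorem F171284 : act 2 n36917 = n35462 := d18_1 D36917 (iv D35462) (iv F164068)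
theorem F171285 : act 5 n36917 = n35952 := d30_2 D35334 D36917 (iv D35952) (iv D34244) (iv F156142)
theorem F171286 : act 6 n36917 = n35350 := d31_2 (iv F164070) D36917 F164154
theorem F171287 : act 8 n36917 = n36201 := d33_2 F164072 D36917 F167674
theorem F171288 : act 9 n36917 = n35701 := d34_2 (iv F164071) D36917 (iv D35701)
theorem F171289 : act 3 n36244 = n36917 := d25_3 F171285 F166740 D36244
def n36918 : Q := act 7 n35334
theorem D36918 : act 7 n35334 = n36918 := rfl
theorem F171290 : act 1 n36918 = n35337 := d14_1 D36918 (iv D35337) (iv F164067)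
theorem F171291 : act 2 n36918 = n35463 := d21_1 D36918 (iv D35463) (iv F164068)
theorem F171292 : act 3 n36918 = n36918 := d27_1 D36918 (iv D36918) F164069
theorem F171293 : act 5 n36918 = n35335 := d36_1 D36918 (iv D35335) D35334
theorem F171294 : act 8 n36918 = n36339 := d42_2 F164072 D36918 (iv D36339)
theorem F171295 : act 9 n36918 = n35702 := d43_2 (iv F164071) D36918 (iv D35702)
def n36919 : Q := act 3 n35336
theorem D36919 : act 3 n35336 = n36919 := rfl
theorem F171296 : act 0 n36919 = n35762 := d2_1 D36919 (iv D35762) (iv F164080)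
theorem F171297 : act 1 n36919 = n36244 := d10_1 D36919 F171289 F171283
theorem F171298 : act 2 n36919 = n35345 := d17_1 D36919 (iv D35345) F156195 (iv F156160) (iv F164081)
theorem F171299 : act 4 n36919 = n36919 := d24_2 D35336 D36919 (iv D36919) (iv D35336) F156147
theorem F171300 : act 5 n36919 = n35954 := d25_2 (iv F164082) D36919 (iv D35954)
theorem F171301 : act 6 n36919 = n35471 := d26_2 (iv F164083) D36919 F164676
theorem F171302 : act 8 n36919 = n36062 := d28_2 (iv F164084) D36919 F167147
theorem F171303 : act 9 n36919 = n35703 := d29_2 (iv F164085) D36919 (iv D35703)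
def n36920 : Q := act 7 n35336
theorem D36920 : act 7 n35336 = n36920 := rfl
theorem F171304 : act 0 n36920 = n35763 := d6_1 D36920 (iv D35763) (iv F164080)
theorem F171305 : act 2 n36920 = n35338 := d21_1 D36920 (iv D35338) (iv F164081)
theorem F171306 : act 4 n36920 = n35337 := d32_1 D36920 (iv D35337) D35336
theorem F171307 : act 5 n36920 = n35955 := d36_1 D36920 (iv D35955) (iv F164082)
theorem F171308 : act 8 n36920 = n36294 := d42_2 (iv F164084) D36920 (iv D36294)
theorem F171309 : act 9 n36920 = n35704 := d43_2 (iv F164085) D36920 (iv D35704)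
def n36921 : Q := act 6 n35337
theorem D36921 : act 6 n35337 = n36921 := rfl
theorem F171310 : act 0 n36921 = n35764 := d5_1 D36921 (iv D35764) (iv F164086)
theorem F171311 : act 2 n36921 = n35340 := d20_1 D36921 (iv D35340) (iv F164087)
theorem F171312 : act 3 n36921 = n36921 := d26_1 D36921 (iv D36921) F164088
theorem F171313 : act 5 n36921 = n35993 := d35_1 D36921 (iv D35993) F159182 (iv F156155) (iv F164089)
theorem F171314 : act 7 n36921 = n35533 := d39_2 D35337 D36921 (iv D35533) F156894 (iv F156148)
theorem F171315 : act 8 n36921 = n36348 := d40_2 (iv F164090) D36921 F168049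
theorem F171316 : act 9 n36921 = n35706 := d41_2 (iv F164091) D36921 (iv D35706)
def n36922 : Q := act 6 n35338
theorem D36922 : act 6 n35338 = n36922 := rfl
theorem F171317 : act 0 n36922 = n35765 := d5_1 D36922 (iv D35765) (iv F164092)
theorem F171318 : act 1 n36922 = n35469 := d13_1 D36922 (iv D35469) (iv F164093)
theorem F171319 : act 3 n36922 = n35348 := d26_1 D36922 (iv D35348) (iv F164094)
theorem F171320 : act 4 n36922 = n35340 := d31_1 D36922 (iv D35340) (iv F164095)
theorem F171321 : act 7 n36922 = n35750 := d39_2 D35338 D36922 (iv D35750) (iv D34041) (iv F156162)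
theorem F171322 : act 9 n36922 = n35708 := d41_2 (iv F164097) D36922 (iv D35708)
def n36923 : Q := act 8 n35338
theorem D36923 : act 8 n35338 = n36923 := rfl
theorem F171323 : act 0 n36923 = n35766 := d7_1 D36923 (iv D35766) (iv F164092)
theorem F171324 : act 1 n36923 = n35470 := d15_1 D36923 (iv D35470) (iv F164093)
theorem F171325 : act 2 n36923 = n36294 := d22_1 D36923 (iv F171308) F171305
theorem F171326 : act 3 n36923 = n35349 := d28_1 D36923 (iv D35349) (iv F164094)
theorem F171327 : act 4 n36923 = n35341 := d33_1 D36923 (iv D35341) (iv F164095)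
theorem F171328 : act 7 n36923 = n35339 := d42_1 D36923 (iv D35339) D35338
def n36924 : Q := act 5 n35339
theorem D36924 : act 5 n35339 = n36924 := rfl
theorem F171329 : act 0 n36924 = n35767 := d4_1 D36924 (iv D35767) (iv F164098)
theorem F171330 : act 1 n36924 = n35471 := d12_1 D36924 (iv D35471) (iv F164099)
theorem F171331 : act 2 n36924 = n36251 := d19_1 D36924 F167808 (iv F164100)
theorem F171332 : act 3 n36924 = n35350 := d25_1 D36924 (iv D35350) (iv F164101)
theorem F171333 : act 4 n36924 = n36924 := d30_1 D36924 (iv D36924) F164102 F156173 (iv F164102)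
theorem F171334 : act 6 n36924 = n36244 := d35_2 (iv F164103) D36924 (iv D36244) F160197 (iv F158270)
theorem F171335 : act 8 n36924 = n35961 := d37_2 D35339 D36924 (iv D35961) (iv D34250) (iv F156161)
def n36925 : Q := act 9 n35339
theorem D36925 : act 9 n35339 = n36925 := rfl
theorem F171336 : act 0 n36925 = n35768 := d8_1 D36925 (iv D35768) (iv F164098)
theorem F171337 : act 1 n36925 = n35472 := d16_1 D36925 (iv D35472) (iv F164099)
theorem F171338 : act 2 n36925 = n36295 := d23_1 D36925 (iv D36295) (iv F164100)
theorem F171339 : act 3 n36925 = n35351 := d29_1 D36925 (iv D35351) (iv F164101)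
theorem F171340 : act 4 n36925 = n35342 := d34_1 D36925 (iv D35342) (iv F164102)
theorem F171341 : act 6 n36925 = n35752 := d41_1 D36925 (iv D35752) (iv F164103)
theorem F171342 : act 8 n36925 = n35710 := d44_1 D36925 (iv D35710) (iv D33985) (iv F156163) D35339
def n36926 : Q := act 8 n35340
theorem D36926 : act 8 n35340 = n36926 := rfl
theorem F171343 : act 0 n36926 = n35769 := d7_1 D36926 (iv D35769) (iv F164104)
theorem F171344 : act 1 n36926 = n35473 := d15_1 D36926 (iv D35473) (iv F164105)
theorem F171345 : act 2 n36926 = n36348 := d22_1 D36926 (iv F171315) F171311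
theorem F171346 : act 3 n36926 = n35343 := d28_1 D36926 (iv D35343) (iv F164106)
theorem F171347 : act 6 n36926 = n35341 := d40_1 D36926 (iv D35341) D35340
theorem F171348 : act 7 n36926 = n35753 := d42_1 D36926 (iv D35753) (iv F164108)
def n36927 : Q := act 9 n35341
theorem D36927 : act 9 n35341 = n36927 := rfl
theorem F171349 : act 0 n36927 = n35770 := d8_1 D36927 (iv D35770) (iv F164110)
theorem F171350 : act 1 n36927 = n35474 := d16_1 D36927 (iv D35474) (iv F164111)
theorem F171351 : act 2 n36927 = n36350 := d23_1 D36927 (iv D36350) (iv F164112)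
theorem F171352 : act 3 n36927 = n35344 := d29_1 D36927 (iv D35344) (iv F164113)
theorem F171353 : act 5 n36927 = n36927 := d38_1 D36927 (iv D36927) F164114
theorem F171354 : act 7 n36927 = n35342 := d43_1 D36927 (iv D35342) (iv F164115)
theorem F171355 : act 8 n36927 = n35712 := d44_1 D36927 (iv D35712) (iv D33987) (iv F156168) D35341
def n36928 : Q := act 5 n35343
theorem D36928 : act 5 n35343 = n36928 := rfl
theorem F171356 : act 0 n36928 = n35771 := d4_1 D36928 (iv D35771) (iv F164123)
theorem F171357 : act 1 n36928 = n35475 := d12_1 D36928 (iv D35475) (iv F164124)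
theorem F171358 : act 2 n36928 = n36928 := d19_1 D36928 (iv D36928) F164125
theorem F171359 : act 6 n36928 = n36928 := d35_2 (iv F164127) D36928 (iv D36928) F164127 F156186
theorem F171360 : act 7 n36928 = n35755 := d36_2 (iv F164128) D36928 (iv D35755)
theorem F171361 : act 8 n36928 = n35999 := d37_2 D35343 D36928 (iv D35999) (iv D34295) (iv F156179)
def n36929 : Q := act 9 n35343
theorem D36929 : act 9 n35343 = n36929 := rfl
theorem F171362 : act 0 n36929 = n35772 := d8_1 D36929 (iv D35772) (iv F164123)
theorem F171363 : act 1 n36929 = n35476 := d16_1 D36929 (iv D35476) (iv F164124)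
theorem F171364 : act 2 n36929 = n36929 := d23_1 D36929 (iv D36929) F164125
theorem F171365 : act 4 n36929 = n35355 := d34_1 D36929 (iv D35355) (iv F164126)
theorem F171366 : act 6 n36929 = n35344 := d41_1 D36929 (iv D35344) (iv F164127)
theorem F171367 : act 7 n36929 = n35756 := d43_1 D36929 (iv D35756) (iv F164128)
theorem F171368 : act 8 n36929 = n35713 := d44_1 D36929 (iv D35713) (iv D33989) (iv F156181) D35343
def n36930 : Q := act 7 n35345
theorem D36930 : act 7 n35345 = n36930 := rfl
theorem F171369 : act 3 n36930 = n35346 := d27_1 D36930 (iv D35346) D35345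
theorem F171370 : act 4 n36930 = n36930 := d32_1 D36930 (iv D36930) F164136
theorem F171371 : act 5 n36930 = n36196 := d36_1 D36930 (iv D36196) (iv F164137)
theorem F171372 : act 9 n36930 = n35775 := d43_2 (iv F164138) D36930 (iv D35775)
def n36931 : Q := act 6 n35346
theorem D36931 : act 6 n35346 = n36931 := rfl
theorem F171373 : act 2 n36931 = n35348 := d20_1 D36931 (iv D35348) (iv F164139)
theorem F171374 : act 4 n36931 = n35347 := d31_1 D36931 (iv D35347) (iv F164140)
theorem F171375 : act 9 n36931 = n35776 := d41_2 (iv F164142) D36931 (iv D35776)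
def n36932 : Q := act 5 n35348
theorem D36932 : act 5 n35348 = n36932 := rfl
theorem F171376 : act 1 n36932 = n35479 := d12_1 D36932 (iv D35479) (iv F164147)
theorem F171377 : act 4 n36932 = n35385 := d30_1 D36932 (iv D35385) F156309 (iv F156210) (iv F164148)
theorem F171378 : act 6 n36932 = n36198 := d35_2 D35348 D36932 (iv D36198) (iv D34533) (iv F156204)
theorem F171379 : act 9 n36932 = n35777 := d38_2 (iv F164149) D36932 (iv D35777)
def n36933 : Q := act 8 n35348
theorem D36933 : act 8 n35348 = n36933 := rfl
theorem F171380 : act 1 n36933 = n35480 := d15_1 D36933 (iv D35480) (iv F164147)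
theorem F171381 : act 4 n36933 = n35352 := d33_1 D36933 (iv D35352) (iv F164148)
theorem F171382 : act 6 n36933 = n35349 := d40_1 D36933 (iv D35349) D35348
def n36934 : Q := act 5 n35349
theorem D36934 : act 5 n35349 = n36934 := rfl
theorem F171383 : act 1 n36934 = n35481 := d12_1 D36934 (iv D35481) (iv F164150)
theorem F171384 : act 4 n36934 = n35392 := d30_1 D36934 (iv D35392) F156349 (iv F156214) (iv F164151)
theorem F171385 : act 7 n36934 = n35350 := d36_2 (iv F164152) D36934 (iv D35350)
theorem F171386 : act 8 n36934 = n36200 := d37_2 D35349 D36934 (iv D36200) (iv D34534) (iv F156204)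
def n36935 : Q := act 9 n35349
theorem D36935 : act 9 n35349 = n36935 := rfl
theorem F171387 : act 1 n36935 = n35482 := d16_1 D36935 (iv D35482) (iv F164150)
theorem F171388 : act 4 n36935 = n35353 := d34_1 D36935 (iv D35353) (iv F164151)
theorem F171389 : act 7 n36935 = n35351 := d43_1 D36935 (iv D35351) (iv F164152)
theorem F171390 : act 8 n36935 = n35779 := d44_1 D36935 (iv D35779) (iv D34070) (iv F156205) D35349
def n36936 : Q := act 5 n35352
theorem D36936 : act 5 n35352 = n36936 := rfl
theorem F171391 : act 0 n36936 = n35512 := d4_1 D36936 (iv F170978) F170975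
theorem F171392 : act 1 n36936 = n35483 := d12_1 D36936 (iv D35483) (iv F164159)
theorem F171393 : act 3 n36936 = n35354 := d25_1 D36936 (iv D35354) (iv F164160)
theorem F171394 : act 6 n36936 = n35393 := d35_2 (iv F164161) D36936 (iv D35393) F156357 (iv F156214)
theorem F171395 : act 7 n36936 = n35721 := d36_2 F171161 D36936 F171162
theorem F171396 : act 8 n36936 = n35390 := d37_2 D35352 D36936 (iv D35390) (iv D33627) (iv F156210)
def n36937 : Q := act 9 n35352
theorem D36937 : act 9 n35352 = n36937 := rfl
theorem F171397 : act 1 n36937 = n35484 := d16_1 D36937 (iv D35484) (iv F164159)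
theorem F171398 : act 3 n36937 = n35355 := d29_1 D36937 (iv D35355) (iv F164160)
theorem F171399 : act 6 n36937 = n35353 := d41_1 D36937 (iv D35353) (iv F164161)
theorem F171400 : act 8 n36937 = n35781 := d44_1 D36937 (iv D35781) (iv D34072) (iv F156211) D35352
def n36938 : Q := act 7 n35356
theorem D36938 : act 7 n35356 = n36938 := rfl
theorem F171401 : act 1 n36938 = n36303 := d14_1 D36938 F167938 (iv F164177)
theorem F171402 : act 3 n36938 = n35357 := d27_1 D36938 (iv D35357) D35356
theorem F171403 : act 4 n36938 = n36938 := d32_1 D36938 (iv D36938) F164178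
theorem F171404 : act 5 n36938 = n36190 := d36_1 D36938 (iv D36190) (iv F164179)
theorem F171405 : act 9 n36938 = n35377 := d43_2 (iv F164180) D36938 (iv D35377)
def n36939 : Q := act 8 n35356
theorem D36939 : act 8 n35356 = n36939 := rfl
theorem F171406 : act 1 n36939 = n35835 := d15_1 D36939 F166305 (iv F164177)
theorem F171407 : act 3 n36939 = n35358 := d28_1 D36939 (iv D35358) D35356
theorem F171408 : act 4 n36939 = n36939 := d33_1 D36939 (iv D36939) F164178
theorem F171409 : act 5 n36939 = n35805 := d37_1 D36939 F166210 F158518 (iv F160051) (iv F164179)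
theorem F171410 : act 9 n36939 = n35804 := d44_2 (iv F164180) D36939 F166205 F164273 (iv D35378)
def n36940 : Q := act 6 n35357
theorem D36940 : act 6 n35357 = n36940 := rfl
theorem F171411 : act 1 n36940 = n36309 := d13_1 D36940 (iv D36309) (iv F164181)
theorem F171412 : act 2 n36940 = n35362 := d20_1 D36940 (iv D35362) (iv F164182)
theorem F171413 : act 4 n36940 = n35359 := d31_1 D36940 (iv D35359) (iv F164183)
theorem F171414 : act 9 n36940 = n35379 := d41_2 (iv F164185) D36940 (iv D35379)
def n36941 : Q := act 8 n35357
theorem D36941 : act 8 n35357 = n36941 := rfl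
theorem F171415 : act 1 n36941 = n35838 := d15_1 D36941 F166314 (iv F164181)
theorem F171416 : act 2 n36941 = n35363 := d22_1 D36941 (iv D35363) (iv F164182)
theorem F171417 : act 4 n36941 = n35360 := d33_1 D36941 (iv D35360) (iv F164183)
theorem F171418 : act 5 n36941 = n35831 := d37_1 D36941 (iv D35831) F158521 (iv F160055) (iv F164184)
theorem F171419 : act 7 n36941 = n35358 := d42_1 D36941 (iv D35358) D35357
def n36942 : Q := act 8 n35359
theorem D36942 : act 8 n35359 = n36942 := rfl
theorem F171420 : act 1 n36942 = n35859 := d15_1 D36942 F166373 (iv F164190)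
theorem F171421 : act 2 n36942 = n35366 := d22_1 D36942 (iv D35366) (iv F164191)
theorem F171422 : act 3 n36942 = n36942 := d28_1 D36942 (iv D36942) F164192
theorem F171423 : act 6 n36942 = n35360 := d40_1 D36942 (iv D35360) D35359
def n36943 : Q := act 9 n35360
theorem D36943 : act 9 n35360 = n36943 := rfl
theorem F171424 : act 0 n36943 = n35640 := d8_1 D36943 (iv F171040) F171034
theorem F171425 : act 1 n36943 = n35860 := d16_1 D36943 (iv D35860) (iv F164195)
theorem F171426 : act 2 n36943 = n35367 := d23_1 D36943 (iv D35367) (iv F164196)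
theorem F171427 : act 3 n36943 = n36943 := d29_1 D36943 (iv D36943) F164197
theorem F171428 : act 5 n36943 = n35538 := d38_1 D36943 F164955 (iv F164198)
theorem F171429 : act 7 n36943 = n35361 := d43_1 D36943 (iv D35361) (iv F164199)
theorem F171430 : act 8 n36943 = n35384 := d44_1 D36943 (iv D35384) (iv D33621) (iv F156236) D35360
def n36944 : Q := act 5 n35362
theorem D36944 : act 5 n35362 = n36944 := rfl
theorem F171431 : act 1 n36944 = n35494 := d12_1 D36944 (iv D35494) (iv F164206)
theorem F171432 : act 4 n36944 = n35777 := d30_1 D36944 (iv D35777) F158372 (iv F156249) (iv F164207)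
theorem F171433 : act 6 n36944 = n36192 := d35_2 D35362 D36944 (iv D36192) (iv D34524) (iv F156243)
theorem F171434 : act 9 n36944 = n35385 := d38_2 (iv F164208) D36944 (iv D35385)
def n36945 : Q := act 8 n35362
theorem D36945 : act 8 n35362 = n36945 := rfl
theorem F171435 : act 1 n36945 = n35495 := d15_1 D36945 (iv D35495) (iv F164206)
theorem F171436 : act 4 n36945 = n35366 := d33_1 D36945 (iv D35366) (iv F164207)
theorem F171437 : act 6 n36945 = n35363 := d40_1 D36945 (iv D35363) D35362
def n36946 : Q := act 5 n35363
theorem D36946 : act 5 n35363 = n36946 := rfl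
theorem F171438 : act 1 n36946 = n35496 := d12_1 D36946 (iv D35496) (iv F164209)
theorem F171439 : act 2 n36946 = n35831 := d19_1 D36946 (iv F171418) F171416
theorem F171440 : act 4 n36946 = n35640 := d30_1 D36946 (iv D35640) F157576 (iv F156253) (iv F164210)
theorem F171441 : act 7 n36946 = n35364 := d36_2 (iv F164211) D36946 (iv D35364)
theorem F171442 : act 8 n36946 = n35773 := d37_2 D35363 D36946 F166093 (iv D34525) (iv F156243)
def n36947 : Q := act 9 n35363
theorem D36947 : act 9 n35363 = n36947 := rfl
theorem F171443 : act 0 n36947 = n35831 := d8_1 D36947 (iv F171052) F171047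
theorem F171444 : act 1 n36947 = n35497 := d16_1 D36947 (iv D35497) (iv F164209)
theorem F171445 : act 4 n36947 = n35367 := d34_1 D36947 (iv D35367) (iv F164210)
theorem F171446 : act 7 n36947 = n35365 := d43_1 D36947 (iv D35365) (iv F164211)
theorem F171447 : act 8 n36947 = n35388 := d44_1 D36947 (iv D35388) (iv D33624) (iv F156244) D35363
def n36948 : Q := act 6 n35364
theorem D36948 : act 6 n35364 = n36948 := rfl
theorem F171448 : act 1 n36948 = n35498 := d13_1 D36948 (iv D35498) (iv F164212)
theorem F171449 : act 2 n36948 = n35812 := d20_1 D36948 F166238 (iv F164213)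
theorem F171450 : act 4 n36948 = n35641 := d31_1 D36948 (iv D35641) (iv F164214)
theorem F171451 : act 8 n36948 = n35760 := d40_2 (iv F164215) D36948 F166051
theorem F171452 : act 9 n36948 = n35992 := d41_2 F171027 D36948 (iv F171026)
def n36949 : Q := act 5 n35366
theorem D36949 : act 5 n35366 = n36949 := rfl
theorem F171453 : act 1 n36949 = n35500 := d12_1 D36949 (iv D35500) (iv F164220)
theorem F171454 : act 3 n36949 = n35368 := d25_1 D36949 (iv D35368) (iv F164221)
theorem F171455 : act 6 n36949 = n35642 := d35_2 (iv F164222) D36949 (iv D35642) F157584 (iv F156253)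
theorem F171456 : act 8 n36949 = n35780 := d37_2 D35366 D36949 (iv D35780) (iv D34072) (iv F156249)
def n36950 : Q := act 9 n35366
theorem D36950 : act 9 n35366 = n36950 := rfl
theorem F171457 : act 0 n36950 = n35832 := d8_1 D36950 (iv F171065) F171060
theorem F171458 : act 1 n36950 = n35501 := d16_1 D36950 (iv D35501) (iv F164220)
theorem F171459 : act 3 n36950 = n35369 := d29_1 D36950 (iv D35369) (iv F164221)
theorem F171460 : act 6 n36950 = n35367 := d41_1 D36950 (iv D35367) (iv F164222)
theorem F171461 : act 8 n36950 = n35391 := d44_1 D36950 (iv D35391) (iv D33627) (iv F156250) D35366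
def n36951 : Q := act 4 n35368
theorem D36951 : act 4 n35368 = n36951 := rfl
theorem F171462 : act 1 n36951 = n35502 := d11_1 D36951 (iv D35502) (iv F164229)
theorem F171463 : act 2 n36951 = n36951 := d18_1 D36951 (iv D36951) F164230
theorem F171464 : act 6 n36951 = n35643 := d31_2 (iv F164231) D36951 (iv D35643)
theorem F171465 : act 8 n36951 = n35782 := d33_2 (iv F164232) D36951 (iv D35782)
def n36952 : Q := act 3 n35370
theorem D36952 : act 3 n35370 = n36952 := rfl
theorem F171466 : act 0 n36952 = n35372 := d2_1 D36952 (iv D35372) (iv F164238)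
theorem F171467 : act 4 n36952 = n36952 := d24_2 D35370 D36952 (iv D36952) (iv D35370) F156271
theorem F171468 : act 5 n36952 = n35517 := d25_2 (iv F164240) D36952 F164875
theorem F171469 : act 9 n36952 = n35516 := d29_2 (iv F164241) D36952 F164872
def n36953 : Q := act 7 n35370
theorem D36953 : act 7 n35370 = n36953 := rfl
theorem F171470 : act 0 n36953 = n35373 := d6_1 D36953 (iv D35373) (iv F164238)
theorem F171471 : act 2 n36953 = n35397 := d21_1 D36953 F164355 (iv F164239)
theorem F171472 : act 4 n36953 = n35371 := d32_1 D36953 (iv D35371) D35370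
theorem F171473 : act 5 n36953 = n35521 := d36_1 D36953 F164890 (iv F164240)
theorem F171474 : act 9 n36953 = n35520 := d43_2 (iv F164241) D36953 F164886
def n36954 : Q := act 6 n35371
theorem D36954 : act 6 n35371 = n36954 := rfl
theorem F171475 : act 0 n36954 = n35375 := d5_1 D36954 (iv D35375) (iv F164242)
theorem F171476 : act 2 n36954 = n35390 := d20_1 D36954 F164320 (iv F164243)
theorem F171477 : act 3 n36954 = n36954 := d26_1 D36954 (iv D36954) F164244
theorem F171478 : act 5 n36954 = n35383 := d35_1 D36954 F164292 F156302 (iv F156277) (iv F164245)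
theorem F171479 : act 9 n36954 = n35539 := d41_2 (iv F164246) D36954 (iv D35539)
def n36955 : Q := act 2 n35372
theorem D36955 : act 2 n35372 = n36955 := rfl
theorem F171480 : act 1 n36955 = n36011 := d9_1 D36955 F166967 (iv F162102) F162103 (iv F164247)
theorem F171481 : act 3 n36955 = n35505 := d17_2 D35372 D36955 (iv D35505) (iv D33737) (iv F156281)
theorem F171482 : act 4 n36955 = n36955 := d18_2 F164248 D36955 (iv D36955)
theorem F171483 : act 5 n36955 = n36004 := d19_2 (iv F164249) D36955 F166938
theorem F171484 : act 9 n36955 = n36081 := d23_2 (iv F164250) D36955 F167203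
def n36956 : Q := act 7 n35372
theorem D36956 : act 7 n35372 = n36956 := rfl
theorem F171485 : act 1 n36956 = n35377 := d14_1 D36956 (iv D35377) (iv F164247)
theorem F171486 : act 3 n36956 = n35373 := d27_1 D36956 (iv D35373) D35372
theorem F171487 : act 4 n36956 = n36956 := d32_1 D36956 (iv D36956) F164248
theorem F171488 : act 5 n36956 = n36304 := d36_1 D36956 F167941 (iv F164249)
theorem F171489 : act 9 n36956 = n36303 := d43_2 (iv F164250) D36956 F167938
def n36957 : Q := act 8 n35372
theorem D36957 : act 8 n35372 = n36957 := rfl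
theorem F171490 : act 1 n36957 = n35378 := d15_1 D36957 (iv D35378) (iv F164247)
theorem F171491 : act 3 n36957 = n35374 := d28_1 D36957 (iv D35374) D35372
theorem F171492 : act 4 n36957 = n36957 := d33_1 D36957 (iv D36957) F164248
theorem F171493 : act 5 n36957 = n35768 := d37_1 D36957 (iv F169798) F169796 F166613 (iv F164249)
theorem F171494 : act 9 n36957 = n35767 := d44_2 (iv F164250) D36957 (iv F169541) F169542 F166305
def n36958 : Q := act 6 n35373
theorem D36958 : act 6 n35373 = n36958 := rfl
theorem F171495 : act 1 n36958 = n35379 := d13_1 D36958 (iv D35379) (iv F164251)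
theorem F171496 : act 2 n36958 = n35508 := d20_1 D36958 (iv D35508) (iv F164252)
theorem F171497 : act 4 n36958 = n35375 := d31_1 D36958 (iv D35375) (iv F164253)
theorem F171498 : act 9 n36958 = n36309 := d41_2 (iv F164255) D36958 (iv D36309)
def n36959 : Q := act 8 n35373
theorem D36959 : act 8 n35373 = n36959 := rfl
theorem F171499 : act 1 n36959 = n35380 := d15_1 D36959 (iv D35380) (iv F164251)
theorem F171500 : act 2 n36959 = n35509 := d22_1 D36959 (iv D35509) (iv F164252)
theorem F171501 : act 4 n36959 = n35376 := d33_1 D36959 (iv D35376) (iv F164253)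
theorem F171502 : act 7 n36959 = n35374 := d42_1 D36959 (iv D35374) D35373
def n36960 : Q := act 8 n35375
theorem D36960 : act 8 n35375 = n36960 := rfl
theorem F171503 : act 1 n36960 = n35383 := d15_1 D36960 (iv D35383) (iv F164259)
theorem F171504 : act 2 n36960 = n35512 := d22_1 D36960 (iv D35512) (iv F164260)
theorem F171505 : act 3 n36960 = n36960 := d28_1 D36960 (iv D36960) F164261
theorem F171506 : act 6 n36960 = n35376 := d40_1 D36960 (iv D35376) D35375
def n36961 : Q := act 6 n35377
theorem D36961 : act 6 n35377 = n36961 := rfl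
theorem F171507 : act 3 n36961 = n35379 := d26_1 D36961 (iv D35379) (iv F164268)
theorem F171508 : act 4 n36961 = n36961 := d31_1 D36961 (iv D36961) F164269
def n36962 : Q := act 8 n35377
theorem D36962 : act 8 n35377 = n36962 := rfl
theorem F171509 : act 3 n36962 = n35380 := d28_1 D36962 (iv D35380) (iv F164268)
theorem F171510 : act 4 n36962 = n36962 := d33_1 D36962 (iv D36962) F164269
theorem F171511 : act 5 n36962 = n35823 := d37_1 D36962 (iv F169811) F169810 (iv F168407) F168406
theorem F171512 : act 7 n36962 = n35378 := d42_1 D36962 (iv D35378) D35377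
theorem F171513 : act 9 n35822 = n36962 := d43_0 F171512 (iv F164273) (iv F166268)
def n36963 : Q := act 5 n35379
theorem D36963 : act 5 n35379 = n36963 := rfl
theorem F171514 : act 2 n36963 = n35385 := d19_1 D36963 (iv D35385) (iv F164274)
def n36964 : Q := act 8 n35379
theorem D36964 : act 8 n35379 = n36964 := rfl
theorem F171515 : act 2 n36964 = n35386 := d22_1 D36964 (iv D35386) (iv F164274)
theorem F171516 : act 4 n36964 = n35383 := d33_1 D36964 (iv D35383) (iv F164275)
theorem F171517 : act 6 n36964 = n35380 := d40_1 D36964 (iv D35380) D35379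
def n36965 : Q := act 5 n35380
theorem D36965 : act 5 n35380 = n36965 := rfl
theorem F171518 : act 0 n36965 = n36194 := d4_1 D36965 F171097 F171092
theorem F171519 : act 2 n36965 = n35387 := d19_1 D36965 (iv D35387) (iv F164276)
theorem F171520 : act 3 n36965 = n35823 := d25_1 D36965 (iv F171511) F171509
theorem F171521 : act 4 n36965 = n35394 := d30_1 D36965 (iv D35394) F156383 (iv F156302) (iv F164277)
theorem F171522 : act 7 n36965 = n35381 := d36_2 (iv F164278) D36965 (iv D35381)
theorem F171523 : act 9 n35541 = n36965 := d43_0 F171522 (iv F164284) (iv F164966)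
def n36966 : Q := act 9 n35380
theorem D36966 : act 9 n35380 = n36966 := rfl
theorem F171524 : act 0 n36966 = n35773 := d8_1 D36966 F171098 F171092
theorem F171525 : act 2 n36966 = n35388 := d23_1 D36966 (iv D35388) (iv F164276)
theorem F171526 : act 3 n36966 = n35822 := d29_1 D36966 F171513 F171509
theorem F171527 : act 4 n36966 = n35384 := d34_1 D36966 (iv D35384) (iv F164277)
theorem F171528 : act 5 n36966 = n35541 := d38_1 D36966 F171523 (iv D36965)
theorem F171529 : act 7 n36966 = n35382 := d43_1 D36966 (iv D35382) (iv F164278)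
def n36967 : Q := act 9 n35383
theorem D36967 : act 9 n35383 = n36967 := rfl
theorem F171530 : act 0 n36967 = n35774 := d8_1 D36967 F171105 F171099
theorem F171531 : act 2 n36967 = n35391 := d23_1 D36967 (iv D35391) (iv F164290)
theorem F171532 : act 3 n36967 = n36967 := d29_1 D36967 (iv D36967) F164291
theorem F171533 : act 5 n36967 = n35539 := d38_1 D36967 (iv F171479) F171478
theorem F171534 : act 6 n36967 = n35384 := d41_1 D36967 (iv D35384) (iv F164292)
def n36968 : Q := act 8 n35385
theorem D36968 : act 8 n35385 = n36968 := rfl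
theorem F171535 : act 1 n36968 = n35525 := d15_1 D36968 (iv D35525) (iv F164298)
def n36969 : Q := act 5 n35386
theorem D36969 : act 5 n35386 = n36969 := rfl
theorem F171536 : act 1 n36969 = n35526 := d12_1 D36969 (iv D35526) (iv F164299)
def n36970 : Q := act 9 n35386
theorem D36970 : act 9 n35386 = n36970 := rfl
theorem F171537 : act 0 n36970 = n35830 := d8_1 D36970 F171112 F171108
theorem F171538 : act 1 n36970 = n35527 := d16_1 D36970 (iv D35527) (iv F164299)
theorem F171539 : act 4 n36970 = n35391 := d34_1 D36970 (iv D35391) (iv F164300)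
theorem F171540 : act 6 n36970 = n35388 := d41_1 D36970 (iv D35388) (iv F164301)
def n36971 : Q := act 6 n35387
theorem D36971 : act 6 n35387 = n36971 := rfl
theorem F171541 : act 0 n36971 = n36282 := d5_1 D36971 (iv D36282) (iv F164302)
theorem F171542 : act 1 n36971 = n35528 := d13_1 D36971 (iv D35528) (iv F164303)
theorem F171543 : act 4 n36971 = n35395 := d31_1 D36971 (iv D35395) (iv F164304)
theorem F171544 : act 9 n36971 = n35530 := d41_2 F164306 D36971 F164914
def n36972 : Q := act 7 n35389
theorem D36972 : act 7 n35389 = n36972 := rfl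
theorem F171545 : act 0 n36972 = n36239 := d6_1 D36972 (iv D36239) (iv F164312)
theorem F171546 : act 1 n36972 = n35529 := d14_1 D36972 (iv D35529) (iv F164313)
theorem F171547 : act 2 n36972 = n35727 := d21_1 D36972 F165920 (iv F164314)
theorem F171548 : act 4 n36972 = n35396 := d32_1 D36972 (iv D35396) (iv F164315)
theorem F171549 : act 9 n36972 = n35695 := d43_2 (iv F164316) D36972 F165797
def n36973 : Q := act 4 n35390
theorem D36973 : act 4 n35390 = n36973 := rfl
theorem F171550 : act 0 n36973 = n35508 := d3_1 D36973 F164845 (iv F164317)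
theorem F171551 : act 1 n36973 = n35530 := d11_1 D36973 (iv D35530) (iv F164318)
theorem F171552 : act 6 n36973 = n35397 := d31_2 (iv F164320) D36973 (iv D35397)
theorem F171553 : act 9 n36973 = n35528 := d34_2 F164321 D36973 F164910
def n36974 : Q := act 6 n35392
theorem D36974 : act 6 n35392 = n36974 := rfl
theorem F171554 : act 1 n36974 = n35533 := d13_1 D36974 (iv D35533) (iv F164327)
theorem F171555 : act 3 n36974 = n36974 := d26_1 D36974 (iv D36974) F164328
theorem F171556 : act 8 n36974 = n36338 := d40_2 (iv F164330) D36974 (iv D36338)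
def n36975 : Q := act 4 n35393
theorem D36975 : act 4 n35393 = n36975 := rfl
theorem F171557 : act 0 n36975 = n35509 := d3_1 D36975 F164848 (iv F164331)
theorem F171558 : act 1 n36975 = n35534 := d11_1 D36975 (iv D35534) (iv F164332)
theorem F171559 : act 7 n36975 = n35504 := d32_2 (iv F164334) D36975 F164831
theorem F171560 : act 8 n36975 = n35397 := d33_2 (iv F164335) D36975 (iv D35397)
def n36976 : Q := act 6 n35394
theorem D36976 : act 6 n35394 = n36976 := rfl
theorem F171561 : act 0 n36976 = n36195 := d5_1 D36976 F167658 (iv F164336)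
theorem F171562 : act 2 n36976 = n35395 := d20_1 D36976 (iv D35395) (iv F164337)
theorem F171563 : act 3 n36976 = n35613 := d26_1 D36976 F165337 (iv F164338)
theorem F171564 : act 5 n36976 = n35524 := d35_1 D36976 F164903 F156860 (iv F156384) D35394
theorem F171565 : act 7 n36976 = n35730 := d39_2 (iv F164339) D36976 F165928 F158156 (iv F156390)
theorem F171566 : act 9 n36976 = n35523 := d41_2 (iv F164340) D36976 F164897
def n36977 : Q := act 7 n35395
theorem D36977 : act 7 n35395 = n36977 := rfl
theorem F171567 : act 0 n36977 = n36240 := d6_1 D36977 F167773 (iv F164341)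
theorem F171568 : act 1 n36977 = n35542 := d14_1 D36977 (iv D35542) (iv F164342)
theorem F171569 : act 2 n36977 = n35730 := d21_1 D36977 (iv F171565) F171562
theorem F171570 : act 3 n36977 = n35398 := d27_1 D36977 (iv D35398) (iv F164343)
theorem F171571 : act 5 n36977 = n35459 := d36_1 D36977 F164623 (iv F164344)
theorem F171572 : act 6 n36977 = n35396 := d39_1 D36977 (iv D35396) (iv D33643) (iv F156402) D35395
theorem F171573 : act 9 n36977 = n35458 := d43_2 (iv F164345) D36977 F164618
def n36978 : Q := act 4 n35399
theorem D36978 : act 4 n35399 = n36978 := rfl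
theorem F171574 : act 0 n36978 = n35401 := d3_1 D36978 (iv D35401) (iv F164363)
theorem F171575 : act 1 n36978 = n35697 := d11_1 D36978 (iv D35697) (iv F164364)
theorem F171576 : act 5 n36978 = n35437 := d30_2 D35399 D36978 (iv D35437) (iv D33678) (iv F156428)
theorem F171577 : act 6 n36978 = n35457 := d31_2 (iv F164366) D36978 F164612
theorem F171578 : act 8 n36978 = n36076 := d33_2 (iv F164367) D36978 F167186
theorem F171579 : act 9 n36978 = n35456 := d34_2 (iv F164368) D36978 F164609
def n36979 : Q := act 7 n35399
theorem D36979 : act 7 n35399 = n36979 := rfl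
theorem F171580 : act 0 n36979 = n35402 := d6_1 D36979 (iv D35402) (iv F164363)
theorem F171581 : act 1 n36979 = n35690 := d14_1 D36979 F165779 (iv F164364)
theorem F171582 : act 3 n36979 = n36979 := d27_1 D36979 (iv D36979) F164365
theorem F171583 : act 5 n36979 = n35400 := d36_1 D36979 (iv D35400) D35399
theorem F171584 : act 8 n36979 = n36109 := d42_2 (iv F164367) D36979 F167290
theorem F171585 : act 9 n36979 = n35693 := d43_2 (iv F164368) D36979 (iv D35693)
def n36980 : Q := act 3 n35401
theorem D36980 : act 3 n35401 = n36980 := rfl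
theorem F171586 : act 1 n36980 = n35404 := d10_1 D36980 (iv D35404) (iv F164376)
theorem F171587 : act 4 n36980 = n36980 := d24_2 D35401 D36980 (iv D36980) (iv D35401) F156432
theorem F171588 : act 5 n36980 = n35439 := d25_2 (iv F164377) D36980 (iv D35439)
theorem F171589 : act 6 n36980 = n36020 := d26_2 (iv F164378) D36980 F167000
theorem F171590 : act 9 n36980 = n36019 := d29_2 (iv F164379) D36980 F166997
def n36981 : Q := act 7 n35401
theorem D36981 : act 7 n35401 = n36981 := rfl
theorem F171591 : act 1 n36981 = n35405 := d14_1 D36981 (iv D35405) (iv F164376)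
theorem F171592 : act 4 n36981 = n35402 := d32_1 D36981 (iv D35402) D35401
theorem F171593 : act 5 n36981 = n35440 := d36_1 D36981 (iv D35440) (iv F164377)
theorem F171594 : act 9 n36981 = n36270 := d43_2 (iv F164379) D36981 (iv D36270)
def n36982 : Q := act 8 n35401
theorem D36982 : act 8 n35401 = n36982 := rfl
theorem F171595 : act 0 n36982 = n36076 := d7_1 D36982 (iv F171578) F171574
theorem F171596 : act 1 n36982 = n35406 := d15_1 D36982 (iv D35406) (iv F164376)
theorem F171597 : act 4 n36982 = n35403 := d33_1 D36982 (iv D35403) D35401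
theorem F171598 : act 5 n36982 = n36070 := d37_1 D36982 (iv D36070) F164550 (iv D35441) (iv F164377)
theorem F171599 : act 6 n36982 = n36271 := d40_1 D36982 (iv D36271) (iv F164378)
def n36983 : Q := act 6 n35402
theorem D36983 : act 6 n35402 = n36983 := rfl
theorem F171600 : act 1 n36983 = n35407 := d13_1 D36983 (iv D35407) (iv F164380)
theorem F171601 : act 3 n36983 = n36983 := d26_1 D36983 (iv D36983) F164381
theorem F171602 : act 7 n36983 = n36368 := d39_2 D35402 D36983 F168104 F160683 (iv F156433)
theorem F171603 : act 9 n36983 = n36367 := d41_2 (iv F164383) D36983 F168102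
def n36984 : Q := act 8 n35402
theorem D36984 : act 8 n35402 = n36984 := rfl
theorem F171604 : act 0 n36984 = n36109 := d7_1 D36984 (iv F171584) F171580
theorem F171605 : act 1 n36984 = n35408 := d15_1 D36984 (iv D35408) (iv F164380)
theorem F171606 : act 3 n36984 = n36984 := d28_1 D36984 (iv D36984) F164381
theorem F171607 : act 5 n36984 = n35679 := d37_1 D36984 (iv D35679) F157883 (iv F156438) (iv F164382)
theorem F171608 : act 7 n36984 = n35403 := d42_1 D36984 (iv D35403) D35402
def n36985 : Q := act 7 n35404
theorem D36985 : act 7 n35404 = n36985 := rfl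
theorem F171609 : act 0 n36985 = n36221 := d6_1 D36985 (iv D36221) (iv F164389)
theorem F171610 : act 3 n36985 = n35405 := d27_1 D36985 (iv D35405) D35404
theorem F171611 : act 4 n36985 = n36985 := d32_1 D36985 (iv D36985) F164390
theorem F171612 : act 5 n36985 = n35445 := d36_1 D36985 (iv D35445) (iv F164391)
def n36986 : Q := act 8 n35404
theorem D36986 : act 8 n35404 = n36986 := rfl
theorem F171613 : act 0 n36986 = n36222 := d7_1 D36986 (iv D36222) (iv F164389)
theorem F171614 : act 3 n36986 = n35406 := d28_1 D36986 (iv D35406) D35404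
theorem F171615 : act 4 n36986 = n36986 := d33_1 D36986 (iv D36986) F164390
def n36987 : Q := act 6 n35405
theorem D36987 : act 6 n35405 = n36987 := rfl
theorem F171616 : act 0 n36987 = n36223 := d5_1 D36987 (iv D36223) (iv F164392)
theorem F171617 : act 2 n36987 = n35410 := d20_1 D36987 (iv D35410) (iv F164393)
theorem F171618 : act 4 n36987 = n35407 := d31_1 D36987 (iv D35407) (iv F164394)
def n36988 : Q := act 8 n35405
theorem D36988 : act 8 n35405 = n36988 := rfl
theorem F171619 : act 0 n36988 = n36224 := d7_1 D36988 (iv D36224) (iv F164392)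
theorem F171620 : act 2 n36988 = n35411 := d22_1 D36988 (iv D35411) (iv F164393)
theorem F171621 : act 4 n36988 = n35408 := d33_1 D36988 (iv D35408) (iv F164394)
theorem F171622 : act 7 n36988 = n35406 := d42_1 D36988 (iv D35406) D35405
def n36989 : Q := act 9 n35406
theorem D36989 : act 9 n35406 = n36989 := rfl
theorem F171623 : act 0 n36989 = n36225 := d8_1 D36989 (iv D36225) (iv F164396)
theorem F171624 : act 2 n36989 = n35413 := d23_1 D36989 (iv D35413) (iv F164397)
theorem F171625 : act 4 n36989 = n35409 := d34_1 D36989 (iv D35409) (iv F164398)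
def n36990 : Q := act 8 n35407
theorem D36990 : act 8 n35407 = n36990 := rfl
theorem F171626 : act 0 n36990 = n36226 := d7_1 D36990 (iv D36226) (iv F164399)
theorem F171627 : act 2 n36990 = n35414 := d22_1 D36990 (iv D35414) (iv F164400)
theorem F171628 : act 3 n36990 = n36990 := d28_1 D36990 (iv D36990) F164401
theorem F171629 : act 6 n36990 = n35408 := d40_1 D36990 (iv D35408) D35407
def n36991 : Q := act 9 n35408
theorem D36991 : act 9 n35408 = n36991 := rfl
theorem F171630 : act 0 n36991 = n36227 := d8_1 D36991 (iv D36227) (iv F164402)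
theorem F171631 : act 2 n36991 = n35415 := d23_1 D36991 (iv D35415) (iv F164403)
theorem F171632 : act 3 n36991 = n36991 := d29_1 D36991 (iv D36991) F164404
theorem F171633 : act 5 n36991 = n35681 := d38_1 D36991 (iv D35681) (iv F164405)
theorem F171634 : act 7 n36991 = n35409 := d43_1 D36991 (iv D35409) (iv F164406)
def n36992 : Q := act 5 n35410
theorem D36992 : act 5 n35410 = n36992 := rfl
theorem F171635 : act 0 n36992 = n36228 := d4_1 D36992 (iv D36228) (iv F164411)
theorem F171636 : act 6 n36992 = n35452 := d35_2 D35410 D36992 (iv D35452) (iv D33689) (iv F156453)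
def n36993 : Q := act 8 n35410
theorem D36993 : act 8 n35410 = n36993 := rfl
theorem F171637 : act 0 n36993 = n36229 := d7_1 D36993 (iv D36229) (iv F164411)
theorem F171638 : act 4 n36993 = n35414 := d33_1 D36993 (iv D35414) (iv F164412)
theorem F171639 : act 6 n36993 = n35411 := d40_1 D36993 (iv D35411) D35410
def n36994 : Q := act 5 n35411
theorem D36994 : act 5 n35411 = n36994 := rfl
theorem F171640 : act 0 n36994 = n36230 := d4_1 D36994 (iv D36230) (iv F164413)
theorem F171641 : act 4 n36994 = n35683 := d30_1 D36994 (iv D35683) F157915 (iv F156460) (iv F164414)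
theorem F171642 : act 7 n36994 = n35412 := d36_2 (iv F164415) D36994 (iv D35412)
theorem F171643 : act 8 n36994 = n35454 := d37_2 D35411 D36994 (iv D35454) (iv D33690) (iv F156453)
def n36995 : Q := act 9 n35411
theorem D36995 : act 9 n35411 = n36995 := rfl
theorem F171644 : act 0 n36995 = n36231 := d8_1 D36995 (iv D36231) (iv F164413)
theorem F171645 : act 4 n36995 = n35415 := d34_1 D36995 (iv D35415) (iv F164414)
theorem F171646 : act 7 n36995 = n35413 := d43_1 D36995 (iv D35413) (iv F164415)
def n36996 : Q := act 6 n35412
theorem D36996 : act 6 n35412 = n36996 := rfl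
theorem F171647 : act 0 n36996 = n36232 := d5_1 D36996 (iv D36232) (iv F164416)
theorem F171648 : act 4 n36996 = n35685 := d31_1 D36996 (iv D35685) (iv F164417)
theorem F171649 : act 8 n36996 = n35456 := d40_2 (iv F164418) D36996 (iv D35456)
def n36997 : Q := act 9 n35412
theorem D36997 : act 9 n35412 = n36997 := rfl
theorem F171650 : act 0 n36997 = n36233 := d8_1 D36997 (iv D36233) (iv F164416)
theorem F171651 : act 4 n36997 = n35686 := d34_1 D36997 (iv D35686) (iv F164417)
theorem F171652 : act 5 n36997 = n35413 := d38_1 D36997 (iv D35413) D35412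
def n36998 : Q := act 5 n35414
theorem D36998 : act 5 n35414 = n36998 := rfl
theorem F171653 : act 0 n36998 = n36234 := d4_1 D36998 (iv D36234) (iv F164421)
theorem F171654 : act 3 n36998 = n35416 := d25_1 D36998 (iv D35416) (iv F164422)
theorem F171655 : act 6 n36998 = n35687 := d35_2 (iv F164423) D36998 (iv D35687) F157927 (iv F156460)
def n36999 : Q := act 9 n35414
theorem D36999 : act 9 n35414 = n36999 := rfl
theorem F171656 : act 0 n36999 = n36235 := d8_1 D36999 (iv D36235) (iv F164421)
theorem F171657 : act 3 n36999 = n35417 := d29_1 D36999 (iv D35417) (iv F164422)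
theorem F171658 : act 6 n36999 = n35415 := d41_1 D36999 (iv D35415) (iv F164423)
def n37000 : Q := act 4 n35416
theorem D37000 : act 4 n35416 = n37000 := rfl
theorem F171659 : act 0 n37000 = n36236 := d3_1 D37000 (iv D36236) (iv F164428)
theorem F171660 : act 1 n37000 = n35610 := d11_1 D37000 F169659 F169654
theorem F171661 : act 2 n37000 = n37000 := d18_1 D37000 (iv D37000) F164429
theorem F171662 : act 6 n37000 = n35632 := d31_2 (iv F164430) D37000 F165459
theorem F171663 : act 8 n37000 = n35603 := d33_2 F169163 D37000 (iv F169160)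
def n37001 : Q := act 9 n35416
theorem D37001 : act 9 n35416 = n37001 := rfl
theorem F171664 : act 0 n37001 = n36237 := d8_1 D37001 (iv D36237) (iv F164428)
theorem F171665 : act 2 n37001 = n37001 := d23_1 D37001 (iv D37001) F164429
theorem F171666 : act 5 n37001 = n35417 := d38_1 D37001 (iv D35417) D35416
theorem F171667 : act 6 n37001 = n35689 := d41_1 D37001 (iv D35689) (iv F164430)
def n37002 : Q := act 6 n35418
theorem D37002 : act 6 n35418 = n37002 := rfl
theorem F171668 : act 0 n37002 = n36189 := d5_1 D37002 F167634 (iv F164434)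
theorem F171669 : act 2 n37002 = n35420 := d20_1 D37002 (iv D35420) (iv F164435)
theorem F171670 : act 4 n37002 = n35419 := d31_1 D37002 (iv D35419) (iv F164436)
theorem F171671 : act 7 n37002 = n35478 := d39_2 D35418 D37002 (iv D35478) (iv D33711) (iv F156480)
theorem F171672 : act 8 n37002 = n35718 := d40_2 (iv F164437) D37002 (iv D35718)
theorem F171673 : act 9 n37002 = n35816 := d41_2 (iv F164438) D37002 (iv D35816)
def n37003 : Q := act 5 n35420
theorem D37003 : act 5 n35420 = n37003 := rfl
theorem F171674 : act 0 n37003 = n36238 := d4_1 D37003 (iv D36238) (iv F164446)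
theorem F171675 : act 4 n37003 = n35452 := d30_1 D37003 (iv D35452) F156607 (iv F156499) (iv F164447)
theorem F171676 : act 7 n37003 = n35479 := d36_2 (iv F164448) D37003 (iv D35479)
theorem F171677 : act 9 n37003 = n35820 := d38_2 (iv F164449) D37003 (iv D35820)
def n37004 : Q := act 8 n35420
theorem D37004 : act 8 n35420 = n37004 := rfl
theorem F171678 : act 0 n37004 = n36187 := d7_1 D37004 F167628 (iv F164446)
theorem F171679 : act 2 n37004 = n35718 := d22_1 D37004 (iv F171672) F171669
theorem F171680 : act 4 n37004 = n35422 := d33_1 D37004 (iv D35422) (iv F164447)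
theorem F171681 : act 6 n37004 = n35421 := d40_1 D37004 (iv D35421) D35420
theorem F171682 : act 7 n37004 = n35480 := d42_1 D37004 (iv D35480) (iv F164448)
def n37005 : Q := act 7 n35423
theorem D37005 : act 7 n35423 = n37005 := rfl
theorem F171683 : act 0 n37005 = n36241 := d6_1 D37005 (iv D36241) (iv F164461)
theorem F171684 : act 1 n37005 = n36093 := d14_1 D37005 (iv D36093) (iv F164462)
theorem F171685 : act 3 n37005 = n35424 := d27_1 D37005 (iv D35424) D35423
theorem F171686 : act 4 n37005 = n35545 := d32_1 D37005 (iv D35545) (iv F164463)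
theorem F171687 : act 9 n37005 = n35445 := d43_2 (iv F164465) D37005 (iv D35445)
def n37006 : Q := act 8 n35423
theorem D37006 : act 8 n35423 = n37006 := rfl
theorem F171688 : act 0 n37006 = n35952 := d7_1 D37006 F166742 (iv F164461)
theorem F171689 : act 1 n37006 = n35728 := d15_1 D37006 F165923 (iv F164462)
theorem F171690 : act 2 n37006 = n36047 := d22_1 D37006 F169594 F169589
theorem F171691 : act 3 n37006 = n35425 := d28_1 D37006 (iv D35425) D35423
theorem F171692 : act 4 n37006 = n35546 := d33_1 D37006 (iv D35546) (iv F164463)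
theorem F171693 : act 6 n37006 = n35488 := d40_1 D37006 (iv D35488) (iv F164464)
theorem F171694 : act 9 n35964 = n37006 := d34_0 F171692 F164992 D35964
def n37007 : Q := act 6 n35424
theorem D37007 : act 6 n35424 = n37007 := rfl
theorem F171695 : act 0 n37007 = n36242 := d5_1 D37007 (iv D36242) (iv F164466)
theorem F171696 : act 1 n37007 = n36315 := d13_1 D37007 F167957 (iv F164467)
theorem F171697 : act 2 n37007 = n35429 := d20_1 D37007 (iv D35429) (iv F164468)
theorem F171698 : act 4 n37007 = n35426 := d31_1 D37007 (iv D35426) (iv F164469)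
theorem F171699 : act 7 n37007 = n35489 := d39_2 D35424 D37007 (iv D35489) (iv D33722) (iv F156515)
theorem F171700 : act 9 n37007 = n35447 := d41_2 (iv F164470) D37007 (iv D35447)
def n37008 : Q := act 8 n35424
theorem D37008 : act 8 n35424 = n37008 := rfl
theorem F171701 : act 0 n37008 = n36243 := d7_1 D37008 (iv D36243) (iv F164466)
theorem F171702 : act 1 n37008 = n35849 := d15_1 D37008 F166344 (iv F164467)
theorem F171703 : act 2 n37008 = n35430 := d22_1 D37008 (iv D35430) (iv F164468)
theorem F171704 : act 4 n37008 = n35427 := d33_1 D37008 (iv D35427) (iv F164469)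
theorem F171705 : act 7 n37008 = n35425 := d42_1 D37008 (iv D35425) D35424
def n37009 : Q := act 5 n35425
theorem D37009 : act 5 n35425 = n37009 := rfl
theorem F171706 : act 0 n37009 = n36244 := d4_1 D37009 (iv D36244) (iv F164471)
theorem F171707 : act 1 n37009 = n35824 := d12_1 D37009 F166272 (iv F164472)
theorem F171708 : act 2 n37009 = n35431 := d19_1 D37009 (iv D35431) (iv F164473)
theorem F171709 : act 4 n37009 = n37009 := d30_1 D37009 (iv D37009) F164474 F156527 (iv F164474)
theorem F171710 : act 6 n37009 = n35767 := d35_2 (iv F164475) D37009 (iv D35767) F158337 (iv F156756)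
def n37010 : Q := act 9 n35425
theorem D37010 : act 9 n35425 = n37010 := rfl
theorem F171711 : act 0 n37010 = n35966 := d8_1 D37010 F166807 (iv F164471)
theorem F171712 : act 1 n37010 = n35850 := d16_1 D37010 (iv D35850) (iv F164472)
theorem F171713 : act 2 n37010 = n35432 := d23_1 D37010 (iv D35432) (iv F164473)
theorem F171714 : act 3 n37010 = n35964 := d29_1 D37010 F171694 F171691
theorem F171715 : act 4 n37010 = n35428 := d34_1 D37010 (iv D35428) (iv F164474)
theorem F171716 : act 6 n37010 = n35491 := d41_1 D37010 (iv D35491) (iv F164475)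
theorem F171717 : act 8 n37010 = n35449 := d44_1 D37010 (iv D35449) (iv D33685) (iv F156516) D35425
def n37011 : Q := act 8 n35426
theorem D37011 : act 8 n35426 = n37011 := rfl
theorem F171718 : act 0 n37011 = n36245 := d7_1 D37011 (iv D36245) (iv F164476)
theorem F171719 : act 1 n37011 = n35868 := d15_1 D37011 F166404 (iv F164477)
theorem F171720 : act 2 n37011 = n35433 := d22_1 D37011 (iv D35433) (iv F164478)
theorem F171721 : act 3 n37011 = n35549 := d28_1 D37011 (iv D35549) (iv F164479)
theorem F171722 : act 6 n37011 = n35427 := d40_1 D37011 (iv D35427) D35426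
theorem F171723 : act 7 n37011 = n35492 := d42_1 D37011 (iv D35492) (iv F164481)
def n37012 : Q := act 9 n35427
theorem D37012 : act 9 n35427 = n37012 := rfl
theorem F171724 : act 0 n37012 = n36246 := d8_1 D37012 (iv D36246) (iv F164483)
theorem F171725 : act 1 n37012 = n35870 := d16_1 D37012 (iv D35870) (iv F164484)
theorem F171726 : act 2 n37012 = n35434 := d23_1 D37012 (iv D35434) (iv F164485)
theorem F171727 : act 3 n37012 = n35550 := d29_1 D37012 (iv D35550) (iv F164486)
theorem F171728 : act 5 n37012 = n37012 := d38_1 D37012 (iv D37012) F164487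
theorem F171729 : act 7 n37012 = n35428 := d43_1 D37012 (iv D35428) (iv F164488)
theorem F171730 : act 8 n37012 = n35451 := d44_1 D37012 (iv D35451) (iv D33687) (iv F156522) D35427
def n37013 : Q := act 5 n35429
theorem D37013 : act 5 n35429 = n37013 := rfl
theorem F171731 : act 0 n37013 = n36247 := d4_1 D37013 (iv D36247) (iv F164496)
theorem F171732 : act 4 n37013 = n35820 := d30_1 D37013 (iv D35820) F158497 (iv F156537) (iv F164497)
theorem F171733 : act 7 n37013 = n35494 := d36_2 (iv F164498) D37013 (iv D35494)
theorem F171734 : act 9 n37013 = n35452 := d38_2 (iv F164499) D37013 (iv D35452)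
def n37014 : Q := act 8 n35429
theorem D37014 : act 8 n35429 = n37014 := rfl
theorem F171735 : act 0 n37014 = n36248 := d7_1 D37014 (iv D36248) (iv F164496)
theorem F171736 : act 4 n37014 = n35433 := d33_1 D37014 (iv D35433) (iv F164497)
theorem F171737 : act 6 n37014 = n35430 := d40_1 D37014 (iv D35430) D35429
theorem F171738 : act 7 n37014 = n35495 := d42_1 D37014 (iv D35495) (iv F164498)
def n37015 : Q := act 5 n35430
theorem D37015 : act 5 n35430 = n37015 := rfl
theorem F171739 : act 0 n37015 = n36249 := d4_1 D37015 (iv D36249) (iv F164500)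
theorem F171740 : act 4 n37015 = n37015 := d30_1 D37015 (iv D37015) F164501 F156542 (iv F164501)
theorem F171741 : act 7 n37015 = n35431 := d36_2 (iv F164502) D37015 (iv D35431)
def n37016 : Q := act 9 n35430
theorem D37016 : act 9 n35430 = n37016 := rfl
theorem F171742 : act 0 n37016 = n36250 := d8_1 D37016 (iv D36250) (iv F164500)
theorem F171743 : act 4 n37016 = n35434 := d34_1 D37016 (iv D35434) (iv F164501)
theorem F171744 : act 7 n37016 = n35432 := d43_1 D37016 (iv D35432) (iv F164502)
theorem F171745 : act 8 n37016 = n35455 := d44_1 D37016 (iv D35455) (iv D33690) (iv F156531) D35430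
def n37017 : Q := act 6 n35431
theorem D37017 : act 6 n35431 = n37017 := rfl
theorem F171746 : act 0 n37017 = n36251 := d5_1 D37017 (iv D36251) (iv F164503)
theorem F171747 : act 2 n37017 = n35767 := d20_1 D37017 (iv F171710) F171708
theorem F171748 : act 4 n37017 = n37017 := d31_1 D37017 (iv D37017) F164504
theorem F171749 : act 5 n37017 = n35498 := d35_1 D37017 (iv D35498) (iv D33729) (iv F156534) D35431
def n37018 : Q := act 9 n35431
theorem D37018 : act 9 n35431 = n37018 := rfl
theorem F171750 : act 0 n37018 = n36252 := d8_1 D37018 (iv D36252) (iv F164503)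
theorem F171751 : act 4 n37018 = n37018 := d34_1 D37018 (iv D37018) F164504
theorem F171752 : act 5 n37018 = n35432 := d38_1 D37018 (iv D35432) D35431
def n37019 : Q := act 5 n35433
theorem D37019 : act 5 n35433 = n37019 := rfl
theorem F171753 : act 0 n37019 = n36253 := d4_1 D37019 (iv D36253) (iv F164509)
theorem F171754 : act 3 n37019 = n35435 := d25_1 D37019 (iv D35435) (iv F164510)
theorem F171755 : act 6 n37019 = n37019 := d35_2 (iv F164511) D37019 (iv D37019) F164511 F156542
theorem F171756 : act 7 n37019 = n35500 := d36_2 (iv F164512) D37019 (iv D35500)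
theorem F171757 : act 8 n37019 = n35825 := d37_2 D35433 D37019 (iv D35825) (iv D34109) (iv F156537)
def n37020 : Q := act 9 n35433
theorem D37020 : act 9 n35433 = n37020 := rfl
theorem F171758 : act 0 n37020 = n36254 := d8_1 D37020 (iv D36254) (iv F164509)
theorem F171759 : act 3 n37020 = n35436 := d29_1 D37020 (iv D35436) (iv F164510)
theorem F171760 : act 6 n37020 = n35434 := d41_1 D37020 (iv D35434) (iv F164511)
theorem F171761 : act 7 n37020 = n35501 := d43_1 D37020 (iv D35501) (iv F164512)
theorem F171762 : act 8 n37020 = n35459 := d44_1 D37020 (iv D35459) (iv D33693) (iv F156539) D35433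
def n37021 : Q := act 4 n35435
theorem D37021 : act 4 n35435 = n37021 := rfl
theorem F171763 : act 0 n37021 = n36255 := d3_1 D37021 (iv D36255) (iv F164518)
theorem F171764 : act 2 n37021 = n35555 := d18_1 D37021 (iv D35555) (iv F164519)
theorem F171765 : act 5 n37021 = n35610 := d30_2 D35435 D37021 F169659 (iv D36618) F162435
theorem F171766 : act 6 n37021 = n37021 := d31_2 F164520 D37021 (iv D37021)
theorem F171767 : act 7 n37021 = n35502 := d32_2 (iv F164521) D37021 (iv D35502)
theorem F171768 : act 8 n37021 = n35611 := d33_2 (iv F164522) D37021 F165326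
def n37022 : Q := act 9 n35435
theorem D37022 : act 9 n35435 = n37022 := rfl
theorem F171769 : act 0 n37022 = n36256 := d8_1 D37022 (iv D36256) (iv F164518)
theorem F171770 : act 2 n37022 = n35556 := d23_1 D37022 (iv D35556) (iv F164519)
theorem F171771 : act 5 n37022 = n35436 := d38_1 D37022 (iv D35436) D35435
theorem F171772 : act 6 n37022 = n37022 := d41_1 D37022 (iv D37022) F164520
theorem F171773 : act 7 n37022 = n35503 := d43_1 D37022 (iv D35503) (iv F164521)
def n37023 : Q := act 7 n35437
theorem D37023 : act 7 n35437 = n37023 := rfl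
theorem F171774 : act 0 n37023 = n35440 := d6_1 D37023 (iv D35440) (iv F164528)
theorem F171775 : act 1 n37023 = n35695 := d14_1 D37023 F165797 (iv F164529)
theorem F171776 : act 4 n37023 = n35438 := d32_1 D37023 (iv D35438) D35437
theorem F171777 : act 8 n37023 = n35720 := d42_2 (iv F164531) D37023 (iv D35720)
theorem F171778 : act 9 n37023 = n35529 := d43_2 (iv F164532) D37023 (iv D35529)
def n37024 : Q := act 2 n35439
theorem D37024 : act 2 n35439 = n37024 := rfl
theorem F171779 : act 4 n37024 = n35557 := d18_2 (iv F164540) D37024 (iv D35557)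
theorem F171780 : act 6 n37024 = n35505 := d20_2 (iv F164541) D37024 (iv D35505)
theorem F171781 : act 9 n37024 = n36086 := d23_2 (iv F164542) D37024 F167216
def n37025 : Q := act 7 n35439
theorem D37025 : act 7 n35439 = n37025 := rfl
theorem F171782 : act 1 n37025 = n35445 := d14_1 D37025 (iv D35445) (iv F164539)
theorem F171783 : act 3 n37025 = n35440 := d27_1 D37025 (iv D35440) D35439
theorem F171784 : act 4 n37025 = n35558 := d32_1 D37025 (iv D35558) (iv F164540)
theorem F171785 : act 9 n37025 = n36093 := d43_2 (iv F164542) D37025 (iv D36093)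
def n37026 : Q := act 8 n35439
theorem D37026 : act 8 n35439 = n37026 := rfl
theorem F171786 : act 0 n37026 = n35719 := d7_1 D37026 F170209 F170204
theorem F171787 : act 1 n37026 = n35446 := d15_1 D37026 (iv D35446) (iv F164539)
theorem F171788 : act 3 n37026 = n35441 := d28_1 D37026 (iv D35441) D35439
theorem F171789 : act 4 n37026 = n35559 := d33_1 D37026 (iv D35559) (iv F164540)
theorem F171790 : act 6 n37026 = n35507 := d40_1 D37026 (iv D35507) (iv F164541)
theorem F171791 : act 5 n36068 = n37026 := d30_0 F171789 (iv F165068) F158231 (iv F159875) (iv F167166)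
def n37027 : Q := act 6 n35440
theorem D37027 : act 6 n35440 = n37027 := rfl
theorem F171792 : act 1 n37027 = n35447 := d13_1 D37027 (iv D35447) (iv F164543)
theorem F171793 : act 4 n37027 = n35442 := d31_1 D37027 (iv D35442) (iv F164544)
theorem F171794 : act 7 n37027 = n35508 := d39_2 D35440 D37027 (iv D35508) (iv D33738) (iv F156571)
theorem F171795 : act 9 n37027 = n36315 := d41_2 (iv F164545) D37027 F167957
def n37028 : Q := act 8 n35440
theorem D37028 : act 8 n35440 = n37028 := rfl
theorem F171796 : act 0 n37028 = n35720 := d7_1 D37028 (iv F171777) F171774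
theorem F171797 : act 1 n37028 = n35448 := d15_1 D37028 (iv D35448) (iv F164543)
theorem F171798 : act 4 n37028 = n35443 := d33_1 D37028 (iv D35443) (iv F164544)
theorem F171799 : act 7 n37028 = n35441 := d42_1 D37028 (iv D35441) D35440
theorem F171800 : act 5 n36069 = n37028 := d36_3 F171799 (iv F164550) D36069
def n37029 : Q := act 9 n35441
theorem D37029 : act 9 n35441 = n37029 := rfl
theorem F171801 : act 0 n37029 = n35462 := d8_1 D37029 F164638 (iv F164546)
theorem F171802 : act 1 n37029 = n35449 := d16_1 D37029 (iv D35449) (iv F164547)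
theorem F171803 : act 4 n37029 = n35444 := d34_1 D37029 (iv D35444) (iv F164548)
theorem F171804 : act 5 n37029 = n36047 := d38_1 D37029 F167097 F164550
theorem F171805 : act 6 n37029 = n35511 := d41_1 D37029 (iv D35511) (iv F164549)
theorem F171806 : act 8 n37029 = n35850 := d44_1 D37029 (iv D35850) F158566 (iv F156572) D35441
def n37030 : Q := act 8 n35442
theorem D37030 : act 8 n35442 = n37030 := rfl
theorem F171807 : act 0 n37030 = n35721 := d7_1 D37030 (iv F171267) F171262
theorem F171808 : act 1 n37030 = n35450 := d15_1 D37030 (iv D35450) (iv F164551)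
theorem F171809 : act 3 n37030 = n35563 := d28_1 D37030 (iv D35563) (iv F164552)
theorem F171810 : act 5 n37030 = n35711 := d37_1 D37030 (iv D35711) (iv F163701) D36849 (iv F170902)
theorem F171811 : act 6 n37030 = n35443 := d40_1 D37030 (iv D35443) D35442
theorem F171812 : act 7 n37030 = n35512 := d42_1 D37030 (iv D35512) (iv F164553)
def n37031 : Q := act 9 n35443
theorem D37031 : act 9 n35443 = n37031 := rfl
theorem F171813 : act 0 n37031 = n35463 := d8_1 D37031 F164642 (iv F164555)
theorem F171814 : act 1 n37031 = n35451 := d16_1 D37031 (iv D35451) (iv F164556)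
theorem F171815 : act 3 n37031 = n35564 := d29_1 D37031 (iv D35564) (iv F164557)
theorem F171816 : act 5 n37031 = n35461 := d38_1 D37031 F164635 (iv F164558)
theorem F171817 : act 7 n37031 = n35444 := d43_1 D37031 (iv D35444) (iv F164559)
theorem F171818 : act 8 n37031 = n35870 := d44_1 D37031 (iv D35870) F158628 (iv F156576) D35443
def n37032 : Q := act 6 n35445
theorem D37032 : act 6 n35445 = n37032 := rfl
theorem F171819 : act 0 n37032 = n36259 := d5_1 D37032 (iv D36259) (iv F164566)
theorem F171820 : act 3 n37032 = n35447 := d26_1 D37032 (iv D35447) (iv F164567)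
theorem F171821 : act 4 n37032 = n35565 := d31_1 D37032 (iv D35565) (iv F164568)
theorem F171822 : act 7 n37032 = n35514 := d39_2 D35445 D37032 (iv D35514) (iv D33743) (iv F156584)
def n37033 : Q := act 8 n35445
theorem D37033 : act 8 n35445 = n37033 := rfl
theorem F171823 : act 0 n37033 = n36260 := d7_1 D37033 (iv D36260) (iv F164566)
theorem F171824 : act 3 n37033 = n35448 := d28_1 D37033 (iv D35448) (iv F164567)
theorem F171825 : act 4 n37033 = n35566 := d33_1 D37033 (iv D35566) (iv F164568)
theorem F171826 : act 7 n37033 = n35446 := d42_1 D37033 (iv D35446) D35445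
def n37034 : Q := act 9 n35446
theorem D37034 : act 9 n35446 = n37034 := rfl
theorem F171827 : act 0 n37034 = n35968 := d8_1 D37034 F166817 (iv F164569)
theorem F171828 : act 2 n37034 = n36070 := d23_1 D37034 (iv F169721) F169717
theorem F171829 : act 3 n37034 = n35449 := d29_1 D37034 (iv D35449) (iv F164570)
theorem F171830 : act 4 n37034 = n35567 := d34_1 D37034 (iv D35567) (iv F164571)
theorem F171831 : act 6 n37034 = n35517 := d41_1 D37034 (iv D35517) (iv F164572)
theorem F171832 : act 8 n37034 = n35964 := d44_1 D37034 F171694 (iv D37006) F164465 D35446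
def n37035 : Q := act 5 n35447
theorem D37035 : act 5 n35447 = n37035 := rfl
theorem F171833 : act 0 n37035 = n36261 := d4_1 D37035 (iv D36261) (iv F164573)
theorem F171834 : act 2 n37035 = n35452 := d19_1 D37035 (iv D35452) (iv F164574)
theorem F171835 : act 7 n37035 = n35518 := d36_2 (iv F164576) D37035 (iv D35518)
def n37036 : Q := act 8 n35447
theorem D37036 : act 8 n35447 = n37036 := rfl
theorem F171836 : act 0 n37036 = n36262 := d7_1 D37036 (iv D36262) (iv F164573)
theorem F171837 : act 2 n37036 = n35453 := d22_1 D37036 (iv D35453) (iv F164574)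
theorem F171838 : act 4 n37036 = n35450 := d33_1 D37036 (iv D35450) (iv F164575)
theorem F171839 : act 6 n37036 = n35448 := d40_1 D37036 (iv D35448) D35447
theorem F171840 : act 7 n37036 = n35519 := d42_1 D37036 (iv D35519) (iv F164576)
def n37037 : Q := act 9 n35448
theorem D37037 : act 9 n35448 = n37037 := rfl
theorem F171841 : act 0 n37037 = n36263 := d8_1 D37037 (iv D36263) (iv F164577)
theorem F171842 : act 2 n37037 = n35455 := d23_1 D37037 (iv D35455) (iv F164578)
theorem F171843 : act 4 n37037 = n35451 := d34_1 D37037 (iv D35451) (iv F164579)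
theorem F171844 : act 7 n37037 = n35449 := d43_1 D37037 (iv D35449) (iv F164580)
def n37038 : Q := act 9 n35450
theorem D37038 : act 9 n35450 = n37038 := rfl
theorem F171845 : act 0 n37038 = n36264 := d8_1 D37038 (iv D36264) (iv F164585)
theorem F171846 : act 2 n37038 = n35459 := d23_1 D37038 (iv D35459) (iv F164586)
theorem F171847 : act 3 n37038 = n35571 := d29_1 D37038 (iv D35571) (iv F164587)
theorem F171848 : act 5 n37038 = n35730 := d38_1 D37038 (iv D35730) (iv F164588)
theorem F171849 : act 6 n37038 = n35451 := d41_1 D37038 (iv D35451) (iv F164589)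
theorem F171850 : act 7 n37038 = n35524 := d43_1 D37038 (iv D35524) (iv F164590)
def n37039 : Q := act 8 n35452
theorem D37039 : act 8 n35452 = n37039 := rfl
theorem F171851 : act 0 n37039 = n36265 := d7_1 D37039 (iv D36265) (iv F164596)
theorem F171852 : act 7 n37039 = n35525 := d42_1 D37039 (iv D35525) (iv F164597)
def n37040 : Q := act 5 n35453
theorem D37040 : act 5 n35453 = n37040 := rfl
theorem F171853 : act 0 n37040 = n36266 := d4_1 D37040 (iv D36266) (iv F164598)
theorem F171854 : act 7 n37040 = n35526 := d36_2 (iv F164601) D37040 (iv D35526)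
def n37041 : Q := act 9 n35453
theorem D37041 : act 9 n35453 = n37041 := rfl
theorem F171855 : act 0 n37041 = n36267 := d8_1 D37041 (iv D36267) (iv F164598)
theorem F171856 : act 4 n37041 = n35459 := d34_1 D37041 (iv D35459) (iv F164599)
theorem F171857 : act 6 n37041 = n35455 := d41_1 D37041 (iv D35455) (iv F164600)
theorem F171858 : act 7 n37041 = n35527 := d43_1 D37041 (iv D35527) (iv F164601)
def n37042 : Q := act 6 n35454
theorem D37042 : act 6 n35454 = n37042 := rfl
theorem F171859 : act 0 n37042 = n36268 := d5_1 D37042 (iv D36268) (iv F164602)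
theorem F171860 : act 4 n37042 = n35691 := d31_1 D37042 (iv D35691) (iv F164603)
def n37043 : Q := act 9 n35454
theorem D37043 : act 9 n35454 = n37043 := rfl
theorem F171861 : act 0 n37043 = n36269 := d8_1 D37043 (iv D36269) (iv F164602)
theorem F171862 : act 4 n37043 = n35692 := d34_1 D37043 (iv D35692) (iv F164603)
theorem F171863 : act 5 n37043 = n35455 := d38_1 D37043 (iv D35455) D35454
theorem F171864 : act 7 n37043 = n35457 := d43_1 D37043 (iv D35457) (iv F164604)
def n37044 : Q := act 7 n35456
theorem D37044 : act 7 n35456 = n37044 := rfl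
theorem F171865 : act 0 n37044 = n36270 := d6_1 D37044 (iv D36270) (iv F164608)
theorem F171866 : act 4 n37044 = n35693 := d32_1 D37044 (iv D35693) (iv F164609)
theorem F171867 : act 5 n37044 = n35529 := d36_1 D37044 (iv D35529) (iv F164610)
def n37045 : Q := act 8 n35457
theorem D37045 : act 8 n35457 = n37045 := rfl
theorem F171868 : act 0 n37045 = n36271 := d7_1 D37045 (iv D36271) (iv F164611)
theorem F171869 : act 1 n37045 = n36086 := d15_1 D37045 F171261 F171256
theorem F171870 : act 4 n37045 = n35694 := d33_1 D37045 (iv D35694) (iv F164612)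
theorem F171871 : act 6 n37045 = n36076 := d40_1 D37045 (iv F171578) F171577
def n37046 : Q := act 4 n35458
theorem D37046 : act 4 n35458 = n37046 := rfl
theorem F171872 : act 0 n37046 = n36258 := d3_1 D37046 F167831 (iv F164614)
theorem F171873 : act 2 n37046 = n35725 := d18_1 D37046 F165912 (iv F164615)
theorem F171874 : act 6 n37046 = n35695 := d31_2 (iv F164617) D37046 (iv D35695)
theorem F171875 : act 7 n37046 = n35530 := d32_2 (iv F164618) D37046 (iv D35530)
theorem F171876 : act 8 n37046 = n35723 := d33_2 (iv F164619) D37046 F165908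
def n37047 : Q := act 3 n35460
theorem D37047 : act 3 n35460 = n37047 := rfl
theorem F171877 : act 0 n37047 = n36272 := d2_1 D37047 (iv D36272) (iv F164624)
theorem F171878 : act 2 n37047 = n35903 := d17_1 D37047 F166529 F158745 (iv F157137) (iv F164625)
theorem F171879 : act 6 n37047 = n35696 := d26_2 (iv F164626) D37047 (iv D35696)
theorem F171880 : act 7 n37047 = n35531 := d27_2 (iv F164627) D37047 (iv D35531)
theorem F171881 : act 8 n37047 = n35742 := d28_2 (iv F164628) D37047 F165972
def n37048 : Q := act 3 n35462
theorem D37048 : act 3 n35462 = n37048 := rfl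
theorem F171882 : act 1 n37048 = n35464 := d10_1 D37048 (iv D35464) (iv F164636)
theorem F171883 : act 2 n37048 = n35945 := d17_1 D37048 F166702 (iv F167785) F171289 F171284
theorem F171884 : act 4 n37048 = n35573 := d24_2 D35462 D37048 (iv D35573) (iv D33813) (iv F156641)
theorem F171885 : act 5 n37048 = n35940 := d25_2 (iv F164637) D37048 F166677
theorem F171886 : act 8 n37048 = n35920 := d28_2 F168781 D37048 (iv F168778)
theorem F171887 : act 9 n37048 = n35719 := d29_2 (iv F164638) D37048 (iv D35719)
def n37049 : Q := act 7 n35462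
theorem D37049 : act 7 n35462 = n37049 := rfl
theorem F171888 : act 1 n37049 = n35465 := d14_1 D37049 (iv D35465) (iv F164636)
theorem F171889 : act 4 n37049 = n35463 := d32_1 D37049 (iv D35463) D35462
theorem F171890 : act 5 n37049 = n36049 := d36_1 D37049 (iv D36049) (iv F164637)
theorem F171891 : act 9 n37049 = n35720 := d43_2 (iv F164638) D37049 (iv D35720)
def n37050 : Q := act 6 n35463
theorem D37050 : act 6 n35463 = n37050 := rfl
theorem F171892 : act 1 n37050 = n35467 := d13_1 D37050 (iv D35467) (iv F164639)
theorem F171893 : act 3 n37050 = n35575 := d26_1 D37050 (iv D35575) (iv F164640)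
theorem F171894 : act 9 n37050 = n35721 := d41_2 (iv F164642) D37050 (iv D35721)
def n37051 : Q := act 7 n35464
theorem D37051 : act 7 n35464 = n37051 := rfl
theorem F171895 : act 0 n37051 = n35973 := d6_1 D37051 F166836 (iv F164643)
theorem F171896 : act 2 n37051 = n35477 := d21_1 D37051 (iv D35477) (iv F164644)
theorem F171897 : act 3 n37051 = n35465 := d27_1 D37051 (iv D35465) D35464
theorem F171898 : act 4 n37051 = n35576 := d32_1 D37051 (iv D35576) (iv F164645)
theorem F171899 : act 5 n37051 = n36052 := d36_1 D37051 (iv D36052) (iv F164646)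
theorem F171900 : act 8 n37051 = n35922 := d42_2 F164648 D37051 (iv D35922)
theorem F171901 : act 9 n37051 = n35722 := d43_2 (iv F164647) D37051 (iv D35722)
def n37052 : Q := act 6 n35465
theorem D37052 : act 6 n35465 = n37052 := rfl
theorem F171902 : act 0 n37052 = n36273 := d5_1 D37052 (iv D36273) (iv F164649)
theorem F171903 : act 2 n37052 = n35469 := d20_1 D37052 (iv D35469) (iv F164650)
theorem F171904 : act 4 n37052 = n35467 := d31_1 D37052 (iv D35467) (iv F164651)
theorem F171905 : act 9 n37052 = n35723 := d41_2 (iv F164653) D37052 (iv D35723)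
def n37053 : Q := act 8 n35465
theorem D37053 : act 8 n35465 = n37053 := rfl
theorem F171906 : act 0 n37053 = n35971 := d7_1 D37053 F166830 (iv F164649)
theorem F171907 : act 2 n37053 = n35470 := d22_1 D37053 (iv D35470) (iv F164650)
theorem F171908 : act 3 n37053 = n35922 := d28_1 D37053 (iv F171900) F171897
theorem F171909 : act 4 n37053 = n35468 := d33_1 D37053 (iv D35468) (iv F164651)
theorem F171910 : act 7 n37053 = n35466 := d42_1 D37053 (iv D35466) D35465
def n37054 : Q := act 8 n35467
theorem D37054 : act 8 n35467 = n37054 := rfl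
theorem F171911 : act 0 n37054 = n36274 := d7_1 D37054 (iv D36274) (iv F164658)
theorem F171912 : act 2 n37054 = n35473 := d22_1 D37054 (iv D35473) (iv F164659)
theorem F171913 : act 3 n37054 = n35578 := d28_1 D37054 (iv D35578) (iv F164660)
theorem F171914 : act 6 n37054 = n35468 := d40_1 D37054 (iv D35468) D35467
def n37055 : Q := act 5 n35469
theorem D37055 : act 5 n35469 = n37055 := rfl
theorem F171915 : act 0 n37055 = n36275 := d4_1 D37055 (iv D36275) (iv F164667)
theorem F171916 : act 3 n37055 = n35479 := d25_1 D37055 (iv D35479) (iv F164668)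
theorem F171917 : act 6 n37055 = n36058 := d35_2 D35469 D37055 (iv D36058) (iv D34348) (iv F156664)
theorem F171918 : act 9 n37055 = n35724 := d38_2 (iv F164670) D37055 (iv D35724)
def n37056 : Q := act 8 n35469
theorem D37056 : act 8 n35469 = n37056 := rfl
theorem F171919 : act 0 n37056 = n36204 := d7_1 D37056 F167683 (iv F164667)
theorem F171920 : act 3 n37056 = n35480 := d28_1 D37056 (iv D35480) (iv F164668)
theorem F171921 : act 4 n37056 = n35473 := d33_1 D37056 (iv D35473) (iv F164669)
theorem F171922 : act 6 n37056 = n35470 := d40_1 D37056 (iv D35470) D35469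
def n37057 : Q := act 5 n35470
theorem D37057 : act 5 n35470 = n37057 := rfl
theorem F171923 : act 0 n37057 = n35775 := d4_1 D37057 F166100 (iv F164671)
theorem F171924 : act 3 n37057 = n35481 := d25_1 D37057 (iv D35481) (iv F164672)
theorem F171925 : act 4 n37057 = n37057 := d30_1 D37057 (iv D37057) F164673 F156674 (iv F164673)
theorem F171926 : act 7 n37057 = n35471 := d36_2 (iv F164674) D37057 (iv D35471)
theorem F171927 : act 8 n37057 = n36060 := d37_2 D35470 D37057 (iv D36060) (iv D34349) (iv F156664)
def n37058 : Q := act 9 n35470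
theorem D37058 : act 9 n35470 = n37058 := rfl
theorem F171928 : act 0 n37058 = n36196 := d8_1 D37058 F167661 (iv F164671)
theorem F171929 : act 3 n37058 = n35482 := d29_1 D37058 (iv D35482) (iv F164672)
theorem F171930 : act 4 n37058 = n35474 := d34_1 D37058 (iv D35474) (iv F164673)
theorem F171931 : act 7 n37058 = n35472 := d43_1 D37058 (iv D35472) (iv F164674)
theorem F171932 : act 8 n37058 = n35727 := d44_1 D37058 (iv D35727) (iv D34009) (iv F156665) D35470
def n37059 : Q := act 5 n35473
theorem D37059 : act 5 n35473 = n37059 := rfl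
theorem F171933 : act 0 n37059 = n36276 := d4_1 D37059 (iv D36276) (iv F164683)
theorem F171934 : act 3 n37059 = n35475 := d25_1 D37059 (iv D35475) (iv F164684)
theorem F171935 : act 6 n37059 = n37059 := d35_2 (iv F164685) D37059 (iv D37059) F164685 F156674
def n37060 : Q := act 9 n35473
theorem D37060 : act 9 n35473 = n37060 := rfl
theorem F171936 : act 0 n37060 = n36277 := d8_1 D37060 (iv D36277) (iv F164683)
theorem F171937 : act 3 n37060 = n35476 := d29_1 D37060 (iv D35476) (iv F164684)
theorem F171938 : act 6 n37060 = n35474 := d41_1 D37060 (iv D35474) (iv F164685)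
theorem F171939 : act 8 n37060 = n35730 := d44_1 D37060 (iv D35730) (iv D34012) (iv F156671) D35473
def n37061 : Q := act 4 n35475
theorem D37061 : act 4 n35475 = n37061 := rfl
theorem F171940 : act 0 n37061 = n36278 := d3_1 D37061 (iv D36278) (iv F164691)
theorem F171941 : act 2 n37061 = n35581 := d18_1 D37061 (iv D35581) (iv F164692)
theorem F171942 : act 5 n37061 = n35485 := d30_2 D35475 D37061 (iv D35485) (iv D33719) (iv F156682)
theorem F171943 : act 6 n37061 = n37061 := d31_2 F164693 D37061 (iv D37061)
theorem F171944 : act 7 n37061 = n35743 := d32_2 F168372 D37061 (iv F168370)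
def n37062 : Q := act 9 n35475
theorem D37062 : act 9 n35475 = n37062 := rfl
theorem F171945 : act 0 n37062 = n36279 := d8_1 D37062 (iv D36279) (iv F164691)
theorem F171946 : act 2 n37062 = n35582 := d23_1 D37062 (iv D35582) (iv F164692)
theorem F171947 : act 5 n37062 = n35476 := d38_1 D37062 (iv D35476) D35475
theorem F171948 : act 6 n37062 = n37062 := d41_1 D37062 (iv D37062) F164693
def n37063 : Q := act 6 n35477
theorem D37063 : act 6 n35477 = n37063 := rfl
theorem F171949 : act 0 n37063 = n35976 := d5_1 D37063 F166845 (iv F164699)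
theorem F171950 : act 3 n37063 = n35478 := d26_1 D37063 (iv D35478) (iv F164700)
theorem F171951 : act 4 n37063 = n35583 := d31_1 D37063 (iv D35583) (iv F164701)
theorem F171952 : act 8 n37063 = n35924 := d40_2 (iv F164703) D37063 (iv D35924)
theorem F171953 : act 9 n37063 = n35833 := d41_2 (iv F164704) D37063 (iv D35833)
def n37064 : Q := act 5 n35478
theorem D37064 : act 5 n35478 = n37064 := rfl
theorem F171954 : act 0 n37064 = n36207 := d4_1 D37064 (iv D36207) (iv F164705)
theorem F171955 : act 2 n37064 = n35479 := d19_1 D37064 (iv D35479) (iv F164706)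
theorem F171956 : act 4 n37064 = n35518 := d30_1 D37064 (iv D35518) F156842 (iv F156704) (iv F164707)
theorem F171957 : act 6 n37064 = n36284 := d35_2 D35478 D37064 (iv D36284) (iv D34617) (iv F156698)
theorem F171958 : act 9 n37064 = n35836 := d38_2 (iv F164709) D37064 (iv D35836)
def n37065 : Q := act 8 n35479
theorem D37065 : act 8 n35479 = n37065 := rfl
theorem F171959 : act 0 n37065 = n36280 := d7_1 D37065 (iv D36280) (iv F164710)
theorem F171960 : act 4 n37065 = n35525 := d33_1 D37065 (iv D35525) (iv F164711)
theorem F171961 : act 6 n37065 = n36289 := d40_1 D37065 (iv D36289) (iv F164712)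
def n37066 : Q := act 5 n35480
theorem D37066 : act 5 n35480 = n37066 := rfl
theorem F171962 : act 0 n37066 = n36205 := d4_1 D37066 (iv D36205) (iv F164714)
theorem F171963 : act 2 n37066 = n36186 := d19_1 D37066 (iv D36186) (iv F164715)
def n37067 : Q := act 9 n35480
theorem D37067 : act 9 n35480 = n37067 := rfl
theorem F171964 : act 0 n37067 = n36197 := d8_1 D37067 F167664 (iv F164714)
theorem F171965 : act 2 n37067 = n36185 := d23_1 D37067 F167623 (iv F164715)
theorem F171966 : act 4 n37067 = n35484 := d34_1 D37067 (iv D35484) (iv F164716)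
theorem F171967 : act 6 n37067 = n35482 := d41_1 D37067 (iv D35482) (iv F164717)
theorem F171968 : act 8 n37067 = n35846 := d44_1 D37067 (iv D35846) (iv D34127) (iv F156709) D35480
def n37068 : Q := act 6 n35481
theorem D37068 : act 6 n35481 = n37068 := rfl
theorem F171969 : act 0 n37068 = n35776 := d5_1 D37068 (iv D35776) (iv F164718)
theorem F171970 : act 2 n37068 = n35750 := d20_1 D37068 (iv D35750) (iv F164719)
theorem F171971 : act 4 n37068 = n35533 := d31_1 D37068 (iv D35533) (iv F164720)
theorem F171972 : act 8 n37068 = n36292 := d40_2 (iv F164722) D37068 (iv D36292)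
def n37069 : Q := act 4 n35483
theorem D37069 : act 4 n35483 = n37069 := rfl
theorem F171973 : act 0 n37069 = n36191 := d3_1 D37069 F167642 (iv F164728)
theorem F171974 : act 2 n37069 = n35717 := d18_1 D37069 F165890 (iv F164729)
theorem F171975 : act 6 n37069 = n35534 := d31_2 (iv F164731) D37069 (iv D35534)
theorem F171976 : act 7 n37069 = n35723 := d32_2 (iv F164732) D37069 F165908
theorem F171977 : act 8 n37069 = n35530 := d33_2 (iv F164733) D37069 (iv D35530)
def n37070 : Q := act 3 n35485
theorem D37070 : act 3 n35485 = n37070 := rfl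
theorem F171978 : act 0 n37070 = n36281 := d2_1 D37070 (iv D36281) (iv F164739)
theorem F171979 : act 2 n37070 = n35894 := d17_1 D37070 F166503 F158710 (iv F157218) (iv F164740)
theorem F171980 : act 6 n37070 = n35535 := d26_2 (iv F164741) D37070 (iv D35535)
theorem F171981 : act 7 n37070 = n35742 := d27_2 (iv F164742) D37070 F165972
theorem F171982 : act 8 n37070 = n35531 := d28_2 (iv F164743) D37070 (iv D35531)
def n37071 : Q := act 6 n35487
theorem D37071 : act 6 n35487 = n37071 := rfl
theorem F171983 : act 0 n37071 = n36283 := d5_1 D37071 (iv D36283) (iv F164749)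
theorem F171984 : act 1 n37071 = n36092 := d13_1 D37071 (iv D36092) (iv F164750)
theorem F171985 : act 3 n37071 = n35489 := d26_1 D37071 (iv D35489) (iv F164751)
theorem F171986 : act 4 n37071 = n35585 := d31_1 D37071 (iv D35585) (iv F164752)
theorem F171987 : act 9 n37071 = n35514 := d41_2 (iv F164754) D37071 (iv D35514)
def n37072 : Q := act 8 n35487
theorem D37072 : act 8 n35487 = n37072 := rfl
theorem F171988 : act 0 n37072 = n36032 := d7_1 D37072 F167050 (iv F164749)
theorem F171989 : act 1 n37072 = n35726 := d15_1 D37072 F165917 (iv F164750)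
theorem F171990 : act 3 n37072 = n35490 := d28_1 D37072 (iv D35490) (iv F164751)
theorem F171991 : act 4 n37072 = n35586 := d33_1 D37072 (iv D35586) (iv F164752)
theorem F171992 : act 5 n37072 = n35709 := d37_1 D37072 (iv D35709) F158047 D34265 (iv F164753)
theorem F171993 : act 7 n37072 = n35488 := d42_1 D37072 (iv D35488) D35487
def n37073 : Q := act 9 n35488
theorem D37073 : act 9 n35488 = n37073 := rfl
theorem F171994 : act 0 n37073 = n35927 := d8_1 D37073 F166614 (iv F164755)
theorem F171995 : act 1 n37073 = n35729 := d16_1 D37073 (iv D35729) (iv F164756)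
theorem F171996 : act 2 n37073 = n36000 := d23_1 D37073 F169990 F169985
theorem F171997 : act 3 n37073 = n35491 := d29_1 D37073 (iv D35491) (iv F164757)
theorem F171998 : act 4 n37073 = n35587 := d34_1 D37073 (iv D35587) (iv F164758)
theorem F171999 : act 5 n37073 = n35710 := d38_1 D37073 (iv D35710) (iv F164759)
theorem F172000 : act 6 n37073 = n35964 := d41_1 D37073 F171694 F171693
theorem F172001 : act 8 n37073 = n35517 := d44_1 D37073 (iv D35517) (iv D33744) (iv F156745) D35488
def n37074 : Q := act 5 n35489
theorem D37074 : act 5 n35489 = n37074 := rfl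
theorem F172002 : act 0 n37074 = n36284 := d4_1 D37074 (iv D36284) (iv F164760)
theorem F172003 : act 1 n37074 = n36313 := d12_1 D37074 F167954 (iv F164761)
theorem F172004 : act 2 n37074 = n35494 := d19_1 D37074 (iv D35494) (iv F164762)
theorem F172005 : act 4 n37074 = n35836 := d30_1 D37074 (iv D35836) F158537 (iv F156761) (iv F164763)
theorem F172006 : act 6 n37074 = n36207 := d35_2 D35489 D37074 (iv D36207) F160116 (iv F156750)
theorem F172007 : act 9 n37074 = n35518 := d38_2 (iv F164764) D37074 (iv D35518)
def n37075 : Q := act 8 n35489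
theorem D37075 : act 8 n35489 = n37075 := rfl
theorem F172008 : act 0 n37075 = n36285 := d7_1 D37075 (iv D36285) (iv F164760)
theorem F172009 : act 1 n37075 = n35847 := d15_1 D37075 F166339 (iv F164761)
theorem F172010 : act 2 n37075 = n35495 := d22_1 D37075 (iv D35495) (iv F164762)
theorem F172011 : act 4 n37075 = n35492 := d33_1 D37075 (iv D35492) (iv F164763)
theorem F172012 : act 6 n37075 = n35490 := d40_1 D37075 (iv D35490) D35489
def n37076 : Q := act 9 n35490
theorem D37076 : act 9 n35490 = n37076 := rfl
theorem F172013 : act 0 n37076 = n36286 := d8_1 D37076 (iv D36286) (iv F164765)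
theorem F172014 : act 1 n37076 = n35848 := d16_1 D37076 (iv D35848) (iv F164766)
theorem F172015 : act 2 n37076 = n35497 := d23_1 D37076 (iv D35497) (iv F164767)
theorem F172016 : act 4 n37076 = n35493 := d34_1 D37076 (iv D35493) (iv F164768)
theorem F172017 : act 5 n37076 = n35779 := d38_1 D37076 (iv D35779) (iv F164769)
theorem F172018 : act 7 n37076 = n35491 := d43_1 D37076 (iv D35491) (iv F164770)
theorem F172019 : act 8 n37076 = n35521 := d44_1 D37076 (iv D35521) (iv D33746) (iv F156751) D35490
def n37077 : Q := act 5 n35492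
theorem D37077 : act 5 n35492 = n37077 := rfl
theorem F172020 : act 0 n37077 = n36287 := d4_1 D37077 (iv D36287) (iv F164777)
theorem F172021 : act 1 n37077 = n35866 := d12_1 D37077 F166398 (iv F164778)
theorem F172022 : act 2 n37077 = n35500 := d19_1 D37077 (iv D35500) (iv F164779)
theorem F172023 : act 3 n37077 = n35591 := d25_1 D37077 (iv D35591) (iv F164780)
theorem F172024 : act 6 n37077 = n35644 := d35_2 (iv F164781) D37077 (iv D35644) F157595 (iv F156767)
theorem F172025 : act 8 n37077 = n35842 := d37_2 D35492 D37077 (iv D35842) (iv D34124) (iv F156761)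
def n37078 : Q := act 9 n35492
theorem D37078 : act 9 n35492 = n37078 := rfl
theorem F172026 : act 0 n37078 = n36288 := d8_1 D37078 (iv D36288) (iv F164777)
theorem F172027 : act 1 n37078 = n35869 := d16_1 D37078 (iv D35869) (iv F164778)
theorem F172028 : act 2 n37078 = n35501 := d23_1 D37078 (iv D35501) (iv F164779)
theorem F172029 : act 3 n37078 = n35592 := d29_1 D37078 (iv D35592) (iv F164780)
theorem F172030 : act 6 n37078 = n35493 := d41_1 D37078 (iv D35493) (iv F164781)
theorem F172031 : act 8 n37078 = n35524 := d44_1 D37078 (iv D35524) (iv D33749) (iv F156762) D35492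
def n37079 : Q := act 8 n35494
theorem D37079 : act 8 n35494 = n37079 := rfl
theorem F172032 : act 0 n37079 = n36289 := d7_1 D37079 (iv D36289) (iv F164789)
theorem F172033 : act 4 n37079 = n35844 := d33_1 D37079 (iv D35844) (iv F164790)
theorem F172034 : act 6 n37079 = n36280 := d40_1 D37079 (iv D36280) (iv F164791)
def n37080 : Q := act 5 n35495
theorem D37080 : act 5 n35495 = n37080 := rfl
theorem F172035 : act 0 n37080 = n36290 := d4_1 D37080 (iv D36290) (iv F164793)
def n37081 : Q := act 9 n35495
theorem D37081 : act 9 n35495 = n37081 := rfl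
theorem F172036 : act 0 n37081 = n36291 := d8_1 D37081 (iv D36291) (iv F164793)
theorem F172037 : act 4 n37081 = n35501 := d34_1 D37081 (iv D35501) (iv F164794)
theorem F172038 : act 6 n37081 = n35497 := d41_1 D37081 (iv D35497) (iv F164795)
theorem F172039 : act 8 n37081 = n35527 := d44_1 D37081 (iv D35527) (iv D33752) (iv F156777) D35495
def n37082 : Q := act 6 n35496
theorem D37082 : act 6 n35496 = n37082 := rfl
theorem F172040 : act 0 n37082 = n36292 := d5_1 D37082 (iv D36292) (iv F164796)
theorem F172041 : act 2 n37082 = n35778 := d20_1 D37082 F166107 (iv F164797)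
theorem F172042 : act 4 n37082 = n35648 := d31_1 D37082 (iv D35648) (iv F164798)
theorem F172043 : act 8 n37082 = n35776 := d40_2 (iv F164800) D37082 (iv D35776)
def n37083 : Q := act 9 n35496
theorem D37083 : act 9 n35496 = n37083 := rfl
theorem F172044 : act 0 n37083 = n36293 := d8_1 D37083 (iv D36293) (iv F164796)
theorem F172045 : act 2 n37083 = n35779 := d23_1 D37083 (iv D35779) (iv F164797)
theorem F172046 : act 4 n37083 = n35649 := d34_1 D37083 (iv D35649) (iv F164798)
theorem F172047 : act 5 n37083 = n35497 := d38_1 D37083 (iv D35497) D35496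
theorem F172048 : act 7 n37083 = n35499 := d43_1 D37083 (iv D35499) (iv F164799)
def n37084 : Q := act 7 n35498
theorem D37084 : act 7 n35498 = n37084 := rfl
theorem F172049 : act 0 n37084 = n36294 := d6_1 D37084 (iv D36294) (iv F164805)
theorem F172050 : act 2 n37084 = n35766 := d21_1 D37084 F166068 (iv F164806)
theorem F172051 : act 4 n37084 = n35650 := d32_1 D37084 (iv D35650) (iv F164807)
theorem F172052 : act 8 n37084 = n35763 := d42_2 (iv F164808) D37084 (iv D35763)
def n37085 : Q := act 9 n35498
theorem D37085 : act 9 n35498 = n37085 := rfl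
theorem F172053 : act 0 n37085 = n36295 := d8_1 D37085 (iv D36295) (iv F164805)
theorem F172054 : act 1 n37085 = n35992 := d16_1 D37085 (iv F171452) F171448
theorem F172055 : act 2 n37085 = n35768 := d23_1 D37085 (iv D35768) (iv F164806)
theorem F172056 : act 4 n37085 = n35651 := d34_1 D37085 (iv D35651) (iv F164807)
theorem F172057 : act 6 n37085 = n35499 := d41_1 D37085 (iv D35499) D35498
theorem F172058 : act 8 n37085 = n35988 := d44_1 D37085 (iv F170844) F170843 F163942 (iv F164808)
def n37086 : Q := act 4 n35500
theorem D37086 : act 4 n35500 = n37086 := rfl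
theorem F172059 : act 0 n37086 = n36296 := d3_1 D37086 (iv D36296) (iv F164813)
theorem F172060 : act 6 n37086 = n35652 := d31_2 (iv F164815) D37086 (iv D35652)
theorem F172061 : act 8 n37086 = n35851 := d33_2 (iv F164816) D37086 (iv D35851)
def n37087 : Q := act 9 n35500
theorem D37087 : act 9 n35500 = n37087 := rfl
theorem F172062 : act 0 n37087 = n36297 := d8_1 D37087 (iv D36297) (iv F164813)
theorem F172063 : act 3 n37087 = n35503 := d29_1 D37087 (iv D35503) (iv F164814)
theorem F172064 : act 5 n37087 = n35501 := d38_1 D37087 (iv D35501) D35500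
theorem F172065 : act 6 n37087 = n35653 := d41_1 D37087 (iv D35653) (iv F164815)
def n37088 : Q := act 3 n35502
theorem D37088 : act 3 n35502 = n37088 := rfl
theorem F172066 : act 0 n37088 = n36298 := d2_1 D37088 (iv D36298) (iv F164821)
theorem F172067 : act 6 n37088 = n35654 := d26_2 (iv F164823) D37088 (iv D35654)
theorem F172068 : act 8 n37088 = n35853 := d28_2 (iv F164824) D37088 (iv D35853)
def n37089 : Q := act 7 n35505
theorem D37089 : act 7 n35505 = n37089 := rfl
theorem F172069 : act 2 n37089 = n35506 := d21_1 D37089 (iv D35506) D35505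
theorem F172070 : act 4 n37089 = n35598 := d32_1 D37089 (iv D35598) (iv F164833)
theorem F172071 : act 5 n37089 = n36085 := d36_1 D37089 F167215 (iv F164834)
theorem F172072 : act 9 n37089 = n36084 := d43_2 (iv F164835) D37089 F167212
def n37090 : Q := act 8 n35505
theorem D37090 : act 8 n35505 = n37090 := rfl
theorem F172073 : act 2 n37090 = n35507 := d22_1 D37090 (iv D35507) D35505
theorem F172074 : act 4 n37090 = n35599 := d33_1 D37090 (iv D35599) (iv F164833)
def n37091 : Q := act 6 n35506
theorem D37091 : act 6 n35506 = n37091 := rfl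
theorem F172075 : act 1 n37091 = n35514 := d13_1 D37091 (iv D35514) (iv F164836)
theorem F172076 : act 3 n37091 = n35508 := d26_1 D37091 (iv D35508) (iv F164837)
theorem F172077 : act 4 n37091 = n35600 := d31_1 D37091 (iv D35600) (iv F164838)
theorem F172078 : act 9 n37091 = n36092 := d41_2 (iv F164840) D37091 (iv D36092)
def n37092 : Q := act 8 n35506
theorem D37092 : act 8 n35506 = n37092 := rfl
theorem F172079 : act 1 n37092 = n35515 := d15_1 D37092 (iv D35515) (iv F164836)
theorem F172080 : act 3 n37092 = n35509 := d28_1 D37092 (iv D35509) (iv F164837)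
theorem F172081 : act 4 n37092 = n35601 := d33_1 D37092 (iv D35601) (iv F164838)
theorem F172082 : act 7 n37092 = n35507 := d42_1 D37092 (iv D35507) D35506
def n37093 : Q := act 5 n35507
theorem D37093 : act 5 n35507 = n37093 := rfl
theorem F172083 : act 1 n37093 = n35516 := d12_1 D37093 (iv D35516) (iv F164841)
theorem F172084 : act 3 n37093 = n35510 := d25_1 D37093 (iv D35510) (iv F164842)
theorem F172085 : act 4 n37093 = n37093 := d30_1 D37093 (iv D37093) F164843 F157303 (iv F164843)
theorem F172086 : act 8 n37093 = n36063 := d37_2 D35507 D37093 F167151 F159382 (iv F156815)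
def n37094 : Q := act 9 n35507
theorem D37094 : act 9 n35507 = n37094 := rfl
theorem F172087 : act 1 n37094 = n35517 := d16_1 D37094 (iv D35517) (iv F164841)
theorem F172088 : act 3 n37094 = n35511 := d29_1 D37094 (iv D35511) (iv F164842)
theorem F172089 : act 4 n37094 = n35602 := d34_1 D37094 (iv D35602) (iv F164843)
theorem F172090 : act 8 n37094 = n35729 := d44_1 D37094 (iv D35729) F158149 (iv F156816) D35507
def n37095 : Q := act 5 n35508
theorem D37095 : act 5 n35508 = n37095 := rfl
theorem F172091 : act 1 n37095 = n35518 := d12_1 D37095 (iv D35518) (iv F164844)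
theorem F172092 : act 6 n37095 = n36314 := d35_2 D35508 D37095 F167955 F160400 (iv F156819)
theorem F172093 : act 9 n37095 = n36313 := d38_2 (iv F164846) D37095 F167954
def n37096 : Q := act 8 n35508
theorem D37096 : act 8 n35508 = n37096 := rfl
theorem F172094 : act 1 n37096 = n35519 := d15_1 D37096 (iv D35519) (iv F164844)
theorem F172095 : act 4 n37096 = n35512 := d33_1 D37096 (iv D35512) (iv F164845)
theorem F172096 : act 6 n37096 = n35509 := d40_1 D37096 (iv D35509) D35508
def n37097 : Q := act 5 n35509
theorem D37097 : act 5 n35509 = n37097 := rfl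
theorem F172097 : act 1 n37097 = n35520 := d12_1 D37097 (iv D35520) (iv F164847)
theorem F172098 : act 4 n37097 = n35536 := d30_1 D37097 (iv D35536) F156912 (iv F156828) (iv F164848)
theorem F172099 : act 7 n37097 = n35510 := d36_2 (iv F164849) D37097 (iv D35510)
theorem F172100 : act 8 n37097 = n36293 := d37_2 D35509 D37097 F167917 F160356 (iv F156819)
def n37098 : Q := act 9 n35509
theorem D37098 : act 9 n35509 = n37098 := rfl
theorem F172101 : act 1 n37098 = n35521 := d16_1 D37098 (iv D35521) (iv F164847)
theorem F172102 : act 4 n37098 = n35513 := d34_1 D37098 (iv D35513) (iv F164848)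
theorem F172103 : act 7 n37098 = n35511 := d43_1 D37098 (iv D35511) (iv F164849)
theorem F172104 : act 8 n37098 = n35848 := d44_1 D37098 (iv D35848) F158562 (iv F156820) D35509
def n37099 : Q := act 6 n35510
theorem D37099 : act 6 n35510 = n37099 := rfl
theorem F172105 : act 0 n37099 = n35988 := d5_1 D37099 (iv F171000) F170996
theorem F172106 : act 1 n37099 = n35522 := d13_1 D37099 (iv D35522) (iv F164850)
theorem F172107 : act 2 n37099 = n35710 := d20_1 D37099 (iv F170973) F170969
theorem F172108 : act 4 n37099 = n35537 := d31_1 D37099 (iv D35537) (iv F164851)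
theorem F172109 : act 5 n37099 = n36000 := d35_1 D37099 F166925 F164550 F164549 D35510
theorem F172110 : act 8 n37099 = n36295 := d40_2 (iv F164852) D37099 F167921
theorem F172111 : act 9 n37099 = n35705 := d41_2 F170935 D37099 (iv F170934)
def n37100 : Q := act 9 n35512
theorem D37100 : act 9 n35512 = n37100 := rfl
theorem F172112 : act 1 n37100 = n35524 := d16_1 D37100 (iv D35524) (iv F164856)
theorem F172113 : act 3 n37100 = n35606 := d29_1 D37100 (iv D35606) (iv F164857)
theorem F172114 : act 6 n37100 = n35513 := d41_1 D37100 (iv D35513) (iv F164858)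
theorem F172115 : act 8 n37100 = n35869 := d44_1 D37100 (iv D35869) F158622 (iv F156825) D35512
def n37101 : Q := act 5 n35514
theorem D37101 : act 5 n35514 = n37101 := rfl
theorem F172116 : act 0 n37101 = n36301 := d4_1 D37101 (iv D36301) (iv F164864)
theorem F172117 : act 3 n37101 = n35518 := d25_1 D37101 (iv D35518) (iv F164865)
def n37102 : Q := act 8 n35514
theorem D37102 : act 8 n35514 = n37102 := rfl
theorem F172118 : act 0 n37102 = n36302 := d7_1 D37102 (iv D36302) (iv F164864)
theorem F172119 : act 3 n37102 = n35519 := d28_1 D37102 (iv D35519) (iv F164865)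
theorem F172120 : act 4 n37102 = n35608 := d33_1 D37102 (iv D35608) (iv F164866)
theorem F172121 : act 6 n37102 = n35515 := d40_1 D37102 (iv D35515) D35514
def n37103 : Q := act 5 n35515
theorem D37103 : act 5 n35515 = n37103 := rfl
theorem F172122 : act 0 n37103 = n36303 := d4_1 D37103 (iv D36303) (iv F164867)
theorem F172123 : act 3 n37103 = n35520 := d25_1 D37103 (iv D35520) (iv F164868)
theorem F172124 : act 4 n37103 = n37103 := d30_1 D37103 (iv D37103) F164869 F157330 (iv F164869)
theorem F172125 : act 7 n37103 = n35516 := d36_2 (iv F164870) D37103 (iv D35516)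
def n37104 : Q := act 9 n35515
theorem D37104 : act 9 n35515 = n37104 := rfl
theorem F172126 : act 0 n37104 = n36304 := d8_1 D37104 (iv D36304) (iv F164867)
theorem F172127 : act 3 n37104 = n35521 := d29_1 D37104 (iv D35521) (iv F164868)
theorem F172128 : act 4 n37104 = n35609 := d34_1 D37104 (iv D35609) (iv F164869)
theorem F172129 : act 7 n37104 = n35517 := d43_1 D37104 (iv D35517) (iv F164870)
def n37105 : Q := act 6 n35516
theorem D37105 : act 6 n35516 = n37105 := rfl
theorem F172130 : act 0 n37105 = n36305 := d5_1 D37105 (iv D36305) (iv F164871)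
theorem F172131 : act 3 n37105 = n35522 := d26_1 D37105 (iv D35522) (iv F164872)
theorem F172132 : act 4 n37105 = n37105 := d31_1 D37105 (iv D37105) F164873
def n37106 : Q := act 8 n35518
theorem D37106 : act 8 n35518 = n37106 := rfl
theorem F172133 : act 0 n37106 = n36306 := d7_1 D37106 (iv D36306) (iv F164877)
theorem F172134 : act 2 n37106 = n35525 := d22_1 D37106 (iv D35525) (iv F164878)
def n37107 : Q := act 5 n35519
theorem D37107 : act 5 n35519 = n37107 := rfl
theorem F172135 : act 0 n37107 = n36307 := d4_1 D37107 (iv D36307) (iv F164879)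
theorem F172136 : act 2 n37107 = n35526 := d19_1 D37107 (iv D35526) (iv F164880)
def n37108 : Q := act 9 n35519
theorem D37108 : act 9 n35519 = n37108 := rfl
theorem F172137 : act 0 n37108 = n36308 := d8_1 D37108 (iv D36308) (iv F164879)
theorem F172138 : act 2 n37108 = n35527 := d23_1 D37108 (iv D35527) (iv F164880)
theorem F172139 : act 4 n37108 = n35524 := d34_1 D37108 (iv D35524) (iv F164881)
theorem F172140 : act 6 n37108 = n35521 := d41_1 D37108 (iv D35521) (iv F164882)
def n37109 : Q := act 6 n35520
theorem D37109 : act 6 n35520 = n37109 := rfl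
theorem F172141 : act 0 n37109 = n36309 := d5_1 D37109 (iv D36309) (iv F164883)
theorem F172142 : act 2 n37109 = n35528 := d20_1 D37109 (iv D35528) (iv F164884)
theorem F172143 : act 4 n37109 = n35539 := d31_1 D37109 (iv D35539) (iv F164885)
def n37110 : Q := act 7 n35522
theorem D37110 : act 7 n35522 = n37110 := rfl
theorem F172144 : act 0 n37110 = n36310 := d6_1 D37110 (iv D36310) (iv F164891)
theorem F172145 : act 2 n37110 = n35529 := d21_1 D37110 (iv D35529) (iv F164892)
theorem F172146 : act 4 n37110 = n35540 := d32_1 D37110 (iv D35540) (iv F164893)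
def n37111 : Q := act 4 n35523
theorem D37111 : act 4 n35523 = n37111 := rfl
theorem F172147 : act 0 n37111 = n36193 := d3_1 D37111 F167648 (iv F164894)
theorem F172148 : act 2 n37111 = n35530 := d18_1 D37111 (iv D35530) (iv F164895)
theorem F172149 : act 3 n37111 = n35821 := d24_1 D37111 F166264 F158504 F157352 (iv F164896)
theorem F172150 : act 6 n37111 = n35541 := d31_2 (iv F164897) D37111 (iv D35541)
theorem F172151 : act 7 n37111 = n35725 := d32_2 (iv F164898) D37111 F165912
theorem F172152 : act 8 n37111 = n35717 := d33_2 (iv F164899) D37111 F165890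
def n37112 : Q := act 5 n35525
theorem D37112 : act 5 n35525 = n37112 := rfl
theorem F172153 : act 0 n37112 = n36311 := d4_1 D37112 (iv D36311) (iv F164904)
theorem F172154 : act 8 n37112 = n35526 := d37_2 D35525 D37112 (iv D35526) (iv D33752) D33751
def n37113 : Q := act 9 n35525
theorem D37113 : act 9 n35525 = n37113 := rfl
theorem F172155 : act 0 n37113 = n36312 := d8_1 D37113 (iv D36312) (iv F164904)
def n37114 : Q := act 4 n35526
theorem D37114 : act 4 n35526 = n37114 := rfl
theorem F172156 : act 0 n37114 = n36300 := d3_1 D37114 F167931 (iv F164905)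
theorem F172157 : act 5 n37114 = n35530 := d30_2 D35526 D37114 (iv D35530) (iv D33756) (iv F156864)
def n37115 : Q := act 6 n35526
theorem D37115 : act 6 n35526 = n37115 := rfl
theorem F172158 : act 0 n37115 = n36313 := d5_1 D37115 (iv D36313) (iv F164905)
theorem F172159 : act 5 n37115 = n35528 := d35_1 D37115 (iv D35528) (iv D33753) (iv F156865) D35526
def n37116 : Q := act 9 n35526
theorem D37116 : act 9 n35526 = n37116 := rfl
theorem F172160 : act 0 n37116 = n36314 := d8_1 D37116 (iv D36314) (iv F164905)
theorem F172161 : act 5 n37116 = n35527 := d38_1 D37116 (iv D35527) D35526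
def n37117 : Q := act 7 n35528
theorem D37117 : act 7 n35528 = n37117 := rfl
theorem F172162 : act 0 n37117 = n36315 := d6_1 D37117 (iv D36315) (iv F164909)
theorem F172163 : act 4 n37117 = n35542 := d32_1 D37117 (iv D35542) (iv F164910)
theorem F172164 : act 6 n37117 = n35529 := d39_1 D37117 (iv D35529) (iv D33755) (iv F156868) D35528
def n37118 : Q := act 3 n35530
theorem D37118 : act 3 n35530 = n37118 := rfl
theorem F172165 : act 0 n37118 = n36299 := d2_1 D37118 F167928 (iv F164913)
theorem F172166 : act 4 n37118 = n35531 := d24_2 D35530 D37118 (iv D35531) (iv D33758) (iv F156875)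
theorem F172167 : act 6 n37118 = n35543 := d26_2 (iv F164914) D37118 (iv D35543)
def n37119 : Q := act 3 n35534
theorem D37119 : act 3 n35534 = n37119 := rfl
theorem F172168 : act 0 n37119 = n36190 := d2_1 D37119 F167637 (iv F164929)
theorem F172169 : act 2 n37119 = n35815 := d17_1 D37119 F166249 F158485 (iv F158116) (iv F164930)
theorem F172170 : act 4 n37119 = n35535 := d24_2 D35534 D37119 (iv D35535) (iv D33762) (iv F156898)
theorem F172171 : act 7 n37119 = n35699 := d27_2 (iv F164931) D37119 (iv D35699)
theorem F172172 : act 8 n37119 = n35543 := d28_2 (iv F164932) D37119 (iv D35543)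
def n37120 : Q := act 6 n35536
theorem D37120 : act 6 n35536 = n37120 := rfl
theorem F172173 : act 1 n37120 = n35539 := d13_1 D37120 (iv D35539) (iv F164938)
theorem F172174 : act 3 n37120 = n37120 := d26_1 D37120 (iv D37120) F164939
theorem F172175 : act 8 n37120 = n36349 := d40_2 (iv F164941) D37120 F168051
def n37121 : Q := act 7 n35537
theorem D37121 : act 7 n35537 = n37121 := rfl
theorem F172176 : act 0 n37121 = n35989 := d6_1 D37121 (iv D35989) (iv F164942)
theorem F172177 : act 1 n37121 = n35540 := d14_1 D37121 (iv D35540) (iv F164943)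
theorem F172178 : act 2 n37121 = n35712 := d21_1 D37121 F165862 (iv F164944)
theorem F172179 : act 3 n37121 = n37121 := d27_1 D37121 (iv D37121) F164945
theorem F172180 : act 5 n37121 = n35700 := d36_1 D37121 (iv D35700) (iv F164946)
theorem F172181 : act 8 n37121 = n36350 := d42_2 (iv F164947) D37121 F168054
theorem F172182 : act 9 n37121 = n35707 := d43_2 (iv F164948) D37121 F165845
def n37122 : Q := act 7 n35539
theorem D37122 : act 7 n35539 = n37122 := rfl
theorem F172183 : act 0 n37122 = n36316 := d6_1 D37122 (iv D36316) (iv F164956)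
theorem F172184 : act 2 n37122 = n35542 := d21_1 D37122 (iv D35542) (iv F164957)
theorem F172185 : act 3 n37122 = n37122 := d27_1 D37122 (iv D37122) F164958
theorem F172186 : act 6 n37122 = n35540 := d39_1 D37122 (iv D35540) (iv D33769) (iv F156931) D35539
def n37123 : Q := act 6 n35545
theorem D37123 : act 6 n35545 = n37123 := rfl
theorem F172187 : act 0 n37123 = n36317 := d5_1 D37123 (iv D36317) (iv F164981)
theorem F172188 : act 1 n37123 = n36119 := d13_1 D37123 F167317 (iv F164982)
theorem F172189 : act 3 n37123 = n35547 := d26_1 D37123 (iv D35547) (iv F164983)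
theorem F172190 : act 7 n37123 = n35585 := d39_2 D35545 D37123 (iv D35585) (iv D33827) (iv F156985)
theorem F172191 : act 9 n37123 = n35565 := d41_2 (iv F164985) D37123 (iv D35565)
def n37124 : Q := act 8 n35545
theorem D37124 : act 8 n35545 = n37124 := rfl
theorem F172192 : act 0 n37124 = n35953 := d7_1 D37124 F166748 (iv F164981)
theorem F172193 : act 1 n37124 = n35733 := d15_1 D37124 F165935 (iv F164982)
theorem F172194 : act 2 n37124 = n36048 := d22_1 D37124 (iv F170441) F170438
theorem F172195 : act 3 n37124 = n35548 := d28_1 D37124 (iv D35548) (iv F164983)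
theorem F172196 : act 7 n37124 = n35546 := d42_1 D37124 (iv D35546) D35545
theorem F172197 : act 5 n35951 = n37124 := d36_3 F172196 (iv F164991) D35951
theorem F172198 : act 9 n35965 = n37124 := d43_0 F172196 F164992 D35965
def n37125 : Q := act 5 n35547
theorem D37125 : act 5 n35547 = n37125 := rfl
theorem F172199 : act 0 n37125 = n36318 := d4_1 D37125 (iv D36318) (iv F164993)
theorem F172200 : act 1 n37125 = n36124 := d12_1 D37125 F167329 (iv F164994)
theorem F172201 : act 2 n37125 = n35551 := d19_1 D37125 (iv D35551) (iv F164995)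
theorem F172202 : act 4 n37125 = n35895 := d30_1 D37125 (iv D35895) F158711 (iv F157003) (iv F164996)
theorem F172203 : act 6 n37125 = n37125 := d35_2 D35547 D37125 (iv D37125) (iv D35547) F156991
theorem F172204 : act 7 n37125 = n35588 := d36_2 (iv F164997) D37125 (iv D35588)
theorem F172205 : act 9 n37125 = n35568 := d38_2 (iv F164998) D37125 (iv D35568)
def n37126 : Q := act 8 n35547
theorem D37126 : act 8 n35547 = n37126 := rfl
theorem F172206 : act 0 n37126 = n36125 := d7_1 D37126 F167336 (iv F164993)
theorem F172207 : act 1 n37126 = n35734 := d15_1 D37126 F165939 (iv F164994)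
theorem F172208 : act 2 n37126 = n35552 := d22_1 D37126 (iv D35552) (iv F164995)
theorem F172209 : act 4 n37126 = n35549 := d33_1 D37126 (iv D35549) (iv F164996)
theorem F172210 : act 6 n37126 = n35548 := d40_1 D37126 (iv D35548) D35547
theorem F172211 : act 7 n37126 = n35589 := d42_1 D37126 (iv D35589) (iv F164997)
theorem F172212 : act 5 n36138 = n37126 := d36_3 F172211 (iv F165227) (iv F167416)
theorem F172213 : act 9 n37126 = n36371 := d38_2 (iv F170677) F172212 F170678
def n37127 : Q := act 5 n35549
theorem D37127 : act 5 n35549 = n37127 := rfl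
theorem F172214 : act 0 n37127 = n36319 := d4_1 D37127 (iv D36319) (iv F165006)
theorem F172215 : act 1 n37127 = n35881 := d12_1 D37127 F166441 (iv F165007)
theorem F172216 : act 2 n37127 = n35553 := d19_1 D37127 (iv D35553) (iv F165008)
theorem F172217 : act 6 n37127 = n37127 := d35_2 (iv F165009) D37127 (iv D37127) F165009 F157009
theorem F172218 : act 7 n37127 = n35591 := d36_2 (iv F165010) D37127 (iv D35591)
theorem F172219 : act 8 n37127 = n35896 := d37_2 D35549 D37127 (iv D35896) (iv D34174) (iv F157003)
def n37128 : Q := act 9 n35549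
theorem D37128 : act 9 n35549 = n37128 := rfl
theorem F172220 : act 0 n37128 = n36320 := d8_1 D37128 (iv D36320) (iv F165006)
theorem F172221 : act 1 n37128 = n35883 := d16_1 D37128 (iv D35883) (iv F165007)
theorem F172222 : act 2 n37128 = n35554 := d23_1 D37128 (iv D35554) (iv F165008)
theorem F172223 : act 4 n37128 = n36371 := d34_1 D37128 (iv F172213) F172209
theorem F172224 : act 6 n37128 = n35550 := d41_1 D37128 (iv D35550) (iv F165009)
theorem F172225 : act 7 n37128 = n35592 := d43_1 D37128 (iv D35592) (iv F165010)
theorem F172226 : act 8 n37128 = n35571 := d44_1 D37128 (iv D35571) (iv D33804) (iv F157005) D35549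
def n37129 : Q := act 7 n35557
theorem D37129 : act 7 n35557 = n37129 := rfl
theorem F172227 : act 2 n37129 = n35558 := d21_1 D37129 (iv D35558) D35557
theorem F172228 : act 3 n37129 = n37129 := d27_1 D37129 (iv D37129) F165056
theorem F172229 : act 5 n37129 = n37129 := d36_1 D37129 (iv D37129) F165057
theorem F172230 : act 9 n37129 = n36113 := d43_2 (iv F165059) D37129 (iv D36113)
def n37130 : Q := act 8 n35557
theorem D37130 : act 8 n35557 = n37130 := rfl
theorem F172231 : act 0 n37130 = n35739 := d7_1 D37130 (iv F170308) F170302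
theorem F172232 : act 1 n37130 = n35686 := d15_1 D37130 (iv F170503) F170499
theorem F172233 : act 2 n37130 = n35559 := d22_1 D37130 (iv D35559) D35557
theorem F172234 : act 3 n37130 = n37130 := d28_1 D37130 (iv D37130) F165056
theorem F172235 : act 6 n37130 = n35599 := d40_1 D37130 (iv D35599) (iv F165058)
theorem F172236 : act 9 n37130 = n35664 := d44_2 (iv F165059) D37130 F165637 D35676 (iv F165710)
theorem F172237 : act 5 n35665 = n37130 := d38_3 F172236 (iv D35664) D35665
def n37131 : Q := act 6 n35558
theorem D37131 : act 6 n35558 = n37131 := rfl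
theorem F172238 : act 1 n37131 = n35565 := d13_1 D37131 (iv D35565) (iv F165060)
theorem F172239 : act 3 n37131 = n35560 := d26_1 D37131 (iv D35560) (iv F165061)
theorem F172240 : act 7 n37131 = n35600 := d39_2 D35558 D37131 (iv D35600) (iv D33842) (iv F157054)
theorem F172241 : act 9 n37131 = n36119 := d41_2 (iv F165063) D37131 F167317
def n37132 : Q := act 8 n35558
theorem D37132 : act 8 n35558 = n37132 := rfl
theorem F172242 : act 0 n37132 = n35740 := d7_1 D37132 F170347 F170342
theorem F172243 : act 1 n37132 = n35566 := d15_1 D37132 (iv D35566) (iv F165060)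
theorem F172244 : act 3 n37132 = n35561 := d28_1 D37132 (iv D35561) (iv F165061)
theorem F172245 : act 7 n37132 = n35559 := d42_1 D37132 (iv D35559) D35558
theorem F172246 : act 5 n35716 = n37132 := d36_3 F172245 (iv F165068) (iv F165886)
def n37133 : Q := act 9 n35559
theorem D37133 : act 9 n35559 = n37133 := rfl
theorem F172247 : act 0 n37133 = n35573 := d8_1 D37133 F165144 (iv F165064)
theorem F172248 : act 1 n37133 = n35567 := d16_1 D37133 (iv D35567) (iv F165065)
theorem F172249 : act 2 n37133 = n35664 := d23_1 D37133 (iv F172236) F172233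
theorem F172250 : act 3 n37133 = n35562 := d29_1 D37133 (iv D35562) (iv F165066)
theorem F172251 : act 5 n37133 = n35615 := d38_1 D37133 F165350 F165068
theorem F172252 : act 6 n37133 = n35602 := d41_1 D37133 (iv D35602) (iv F165067)
theorem F172253 : act 8 n37133 = n35671 := d44_1 D37133 F165681 F158168 (iv F157055) D35559
def n37134 : Q := act 5 n35560
theorem D37134 : act 5 n35560 = n37134 := rfl
theorem F172254 : act 1 n37134 = n35568 := d12_1 D37134 (iv D35568) (iv F165069)
theorem F172255 : act 2 n37134 = n37134 := d19_1 D37134 (iv D37134) F165070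
theorem F172256 : act 4 n37134 = n36217 := d30_1 D37134 (iv D36217) (iv F163713) (iv F163716) (iv F165071)
theorem F172257 : act 6 n37134 = n37134 := d35_2 D35560 D37134 (iv D37134) (iv D35560) F157059
theorem F172258 : act 7 n37134 = n35603 := d36_2 (iv F165072) D37134 (iv D35603)
theorem F172259 : act 9 n37134 = n36124 := d38_2 (iv F165073) D37134 F167329
def n37135 : Q := act 8 n35560
theorem D37135 : act 8 n35560 = n37135 := rfl
theorem F172260 : act 0 n37135 = n35741 := d7_1 D37135 F170380 F170374
theorem F172261 : act 1 n37135 = n35569 := d15_1 D37135 (iv D35569) (iv F165069)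
theorem F172262 : act 2 n37135 = n37135 := d22_1 D37135 (iv D37135) F165070
theorem F172263 : act 4 n37135 = n35563 := d33_1 D37135 (iv D35563) (iv F165071)
theorem F172264 : act 6 n37135 = n35561 := d40_1 D37135 (iv D35561) D35560
theorem F172265 : act 7 n37135 = n35604 := d42_1 D37135 (iv D35604) (iv F165072)
theorem F172266 : act 5 n35782 = n37135 := d35_5 F172264 (iv F165079) F158112 (iv F158401) (iv F166119)
def n37136 : Q := act 9 n35561
theorem D37136 : act 9 n35561 = n37136 := rfl
theorem F172267 : act 0 n37136 = n35574 := d8_1 D37136 F165151 (iv F165074)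
theorem F172268 : act 1 n37136 = n35570 := d16_1 D37136 (iv D35570) (iv F165075)
theorem F172269 : act 2 n37136 = n37136 := d23_1 D37136 (iv D37136) F165076
theorem F172270 : act 4 n37136 = n35564 := d34_1 D37136 (iv D35564) (iv F165077)
theorem F172271 : act 5 n37136 = n35616 := d38_1 D37136 F165357 F165079
theorem F172272 : act 7 n37136 = n35562 := d43_1 D37136 (iv D35562) (iv F165078)
theorem F172273 : act 8 n37136 = n35736 := d44_1 D37136 (iv D35736) F158180 (iv F157060) D35561
def n37137 : Q := act 9 n35563
theorem D37137 : act 9 n35563 = n37137 := rfl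
theorem F172274 : act 0 n37137 = n35575 := d8_1 D37137 F165154 (iv F165087)
theorem F172275 : act 1 n37137 = n35571 := d16_1 D37137 (iv D35571) (iv F165088)
theorem F172276 : act 2 n37137 = n37137 := d23_1 D37137 (iv D37137) F165089
theorem F172277 : act 5 n37137 = n35713 := d38_1 D37137 (iv D35713) (iv F165090)
theorem F172278 : act 6 n37137 = n35564 := d41_1 D37137 (iv D35564) (iv F165091)
theorem F172279 : act 7 n37137 = n35606 := d43_1 D37137 (iv D35606) (iv F165092)
theorem F172280 : act 8 n37137 = n35883 := d44_1 D37137 (iv D35883) F158659 (iv F157070) D35563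
def n37138 : Q := act 5 n35565
theorem D37138 : act 5 n35565 = n37138 := rfl
theorem F172281 : act 0 n37138 = n36321 := d4_1 D37138 (iv D36321) (iv F165099)
theorem F172282 : act 3 n37138 = n35568 := d25_1 D37138 (iv D35568) (iv F165100)
theorem F172283 : act 6 n37138 = n37138 := d35_2 D35565 D37138 (iv D37138) (iv D35565) F157084
theorem F172284 : act 7 n37138 = n35607 := d36_2 (iv F165101) D37138 (iv D35607)
def n37139 : Q := act 8 n35565
theorem D37139 : act 8 n35565 = n37139 := rfl
theorem F172285 : act 0 n37139 = n36322 := d7_1 D37139 (iv D36322) (iv F165099)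
theorem F172286 : act 3 n37139 = n35569 := d28_1 D37139 (iv D35569) (iv F165100)
theorem F172287 : act 6 n37139 = n35566 := d40_1 D37139 (iv D35566) D35565
theorem F172288 : act 7 n37139 = n35608 := d42_1 D37139 (iv D35608) (iv F165101)
theorem F172289 : act 5 n35853 = n37139 := d35_5 F172287 (iv F165105) F158187 (iv F158636) (iv F166351)
def n37140 : Q := act 9 n35566
theorem D37140 : act 9 n35566 = n37140 := rfl
theorem F172290 : act 0 n37140 = n35970 := d8_1 D37140 F166826 (iv F165102)
theorem F172291 : act 2 n37140 = n36072 := d23_1 D37140 (iv F170538) F170535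
theorem F172292 : act 3 n37140 = n35570 := d29_1 D37140 (iv D35570) (iv F165103)
theorem F172293 : act 5 n37140 = n35738 := d38_1 D37140 (iv D35738) F165105
theorem F172294 : act 7 n37140 = n35567 := d43_1 D37140 (iv D35567) (iv F165104)
theorem F172295 : act 8 n37140 = n35965 := d44_1 D37140 F172198 (iv D37124) F164985 D35566
def n37141 : Q := act 9 n35569
theorem D37141 : act 9 n35569 = n37141 := rfl
theorem F172296 : act 0 n37141 = n36323 := d8_1 D37141 (iv D36323) (iv F165116)
theorem F172297 : act 2 n37141 = n35572 := d23_1 D37141 (iv D35572) (iv F165117)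
theorem F172298 : act 4 n37141 = n35571 := d34_1 D37141 (iv D35571) (iv F165118)
theorem F172299 : act 5 n37141 = n35854 := d38_1 D37141 (iv D35854) F165121
theorem F172300 : act 6 n37141 = n35570 := d41_1 D37141 (iv D35570) (iv F165119)
theorem F172301 : act 7 n37141 = n35612 := d43_1 D37141 (iv D35612) (iv F165120)
theorem F172302 : act 8 n37141 = n36371 := d44_1 D37141 (iv F172213) (iv D37126) F164998 D35569
def n37142 : Q := act 7 n35573
theorem D37142 : act 7 n35573 = n37142 := rfl
theorem F172303 : act 1 n37142 = n35576 := d14_1 D37142 (iv D35576) (iv F165141)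
theorem F172304 : act 2 n37142 = n35980 := d21_1 D37142 F166862 F165145
theorem F172305 : act 3 n37142 = n35574 := d27_1 D37142 (iv D35574) D35573
theorem F172306 : act 5 n37142 = n35618 := d36_1 D37142 (iv D35618) (iv F165142)
theorem F172307 : act 8 n37142 = n35921 := d42_2 (iv F165143) D37142 (iv D35921)
theorem F172308 : act 9 n37142 = n35740 := d43_2 (iv F165144) D37142 (iv D35740)
def n37143 : Q := act 6 n35574
theorem D37143 : act 6 n35574 = n37143 := rfl
theorem F172309 : act 1 n37143 = n35577 := d13_1 D37143 (iv D35577) (iv F165146)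
theorem F172310 : act 2 n37143 = n37143 := d20_1 D37143 (iv D37143) F165147
theorem F172311 : act 4 n37143 = n35575 := d31_1 D37143 (iv D35575) (iv F165148)
theorem F172312 : act 8 n37143 = n36370 := d40_2 (iv F165150) D37143 (iv D36370)
theorem F172313 : act 9 n37143 = n35741 := d41_2 (iv F165151) D37143 (iv D35741)
def n37144 : Q := act 6 n35576
theorem D37144 : act 6 n35576 = n37144 := rfl
theorem F172314 : act 0 n37144 = n35974 := d5_1 D37144 F166839 (iv F165155)
theorem F172315 : act 2 n37144 = n35583 := d20_1 D37144 (iv D35583) (iv F165156)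
theorem F172316 : act 3 n37144 = n35577 := d26_1 D37144 (iv D35577) (iv F165157)
theorem F172317 : act 8 n37144 = n35923 := d40_2 (iv F165159) D37144 (iv D35923)
theorem F172318 : act 9 n37144 = n35742 := d41_2 (iv F165160) D37144 (iv D35742)
def n37145 : Q := act 5 n35577
theorem D37145 : act 5 n35577 = n37145 := rfl
theorem F172319 : act 0 n37145 = n36324 := d4_1 D37145 (iv D36324) (iv F165161)
theorem F172320 : act 2 n37145 = n35579 := d19_1 D37145 (iv D35579) (iv F165162)
theorem F172321 : act 6 n37145 = n35622 := d35_2 D35577 D37145 (iv D35622) (iv D33870) (iv F157171)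
theorem F172322 : act 9 n37145 = n35743 := d38_2 (iv F165165) D37145 (iv D35743)
def n37146 : Q := act 5 n35578
theorem D37146 : act 5 n35578 = n37146 := rfl
theorem F172323 : act 0 n37146 = n36325 := d4_1 D37146 (iv D36325) (iv F165166)
theorem F172324 : act 2 n37146 = n35580 := d19_1 D37146 (iv D35580) (iv F165167)
theorem F172325 : act 6 n37146 = n37146 := d35_2 (iv F165169) D37146 (iv D37146) F165169 F157180
theorem F172326 : act 7 n37146 = n35855 := d36_2 F168528 D37146 (iv F168526)
theorem F172327 : act 8 n37146 = n35827 := d37_2 D35578 D37146 F166280 (iv F163274) F163272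
def n37147 : Q := act 5 n35583
theorem D37147 : act 5 n35583 = n37147 := rfl
theorem F172328 : act 0 n37147 = n35977 := d4_1 D37147 (iv D35977) (iv F165191)
theorem F172329 : act 3 n37147 = n35584 := d25_1 D37147 (iv D35584) (iv F165192)
theorem F172330 : act 6 n37147 = n35625 := d35_2 D35583 D37147 (iv D35625) (iv D33874) (iv F157203)
theorem F172331 : act 9 n37147 = n35902 := d38_2 (iv F165194) D37147 (iv D35902)
def n37148 : Q := act 5 n35585
theorem D37148 : act 5 n35585 = n37148 := rfl
theorem F172332 : act 0 n37148 = n36326 := d4_1 D37148 (iv D36326) (iv F165200)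
theorem F172333 : act 1 n37148 = n36118 := d12_1 D37148 F167315 (iv F165201)
theorem F172334 : act 3 n37148 = n35588 := d25_1 D37148 (iv D35588) (iv F165202)
theorem F172335 : act 6 n37148 = n35628 := d35_2 D35585 D37148 (iv D35628) (iv D33877) (iv F157225)
theorem F172336 : act 9 n37148 = n35607 := d38_2 (iv F165203) D37148 (iv D35607)
def n37149 : Q := act 8 n35585
theorem D37149 : act 8 n35585 = n37149 := rfl
theorem F172337 : act 0 n37149 = n36033 := d7_1 D37149 F167054 (iv F165200)
theorem F172338 : act 1 n37149 = n35731 := d15_1 D37149 F165930 (iv F165201)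
theorem F172339 : act 3 n37149 = n35589 := d28_1 D37149 (iv D35589) (iv F165202)
theorem F172340 : act 6 n37149 = n35586 := d40_1 D37149 (iv D35586) D35585
theorem F172341 : act 5 n36071 = n37149 := d35_5 F172340 F165207 F158089 (iv F159398) D36071
def n37150 : Q := act 9 n35586
theorem D37150 : act 9 n35586 = n37150 := rfl
theorem F172342 : act 0 n37150 = n35928 := d8_1 D37150 F166620 (iv F165204)
theorem F172343 : act 1 n37150 = n35732 := d16_1 D37150 (iv D35732) (iv F165205)
theorem F172344 : act 2 n37150 = n36001 := d23_1 D37150 F170665 F170661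
theorem F172345 : act 3 n37150 = n35590 := d29_1 D37150 (iv D35590) (iv F165206)
theorem F172346 : act 5 n37150 = n35715 := d38_1 D37150 (iv D35715) (iv F165207)
theorem F172347 : act 7 n37150 = n35587 := d43_1 D37150 (iv D35587) (iv F165208)
theorem F172348 : act 8 n37150 = n35609 := d44_1 D37150 (iv D35609) (iv D33850) (iv F157226) D35586
def n37151 : Q := act 8 n35588
theorem D37151 : act 8 n35588 = n37151 := rfl
theorem F172349 : act 0 n37151 = n36172 := d7_1 D37151 F167575 (iv F165216)
theorem F172350 : act 1 n37151 = n36123 := d15_1 D37151 F167327 (iv F165217)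
theorem F172351 : act 2 n37151 = n35593 := d22_1 D37151 (iv D35593) (iv F165218)
theorem F172352 : act 4 n37151 = n35904 := d33_1 D37151 (iv D35904) (iv F165219)
theorem F172353 : act 5 n37151 = n36169 := d37_1 D37151 (iv D36169) F165227 (iv D35589) D35588
theorem F172354 : act 6 n37151 = n35629 := d40_1 D37151 (iv D35629) (iv F165220)
theorem F172355 : act 9 n35911 = n37151 := d41_0 F172354 (iv F165445) (iv F166551)
def n37152 : Q := act 9 n35589
theorem D37152 : act 9 n35589 = n37152 := rfl
theorem F172356 : act 0 n37152 = n36151 := d8_1 D37152 F167484 (iv F165222)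
theorem F172357 : act 1 n37152 = n35735 := d16_1 D37152 (iv D35735) (iv F165223)
theorem F172358 : act 2 n37152 = n35594 := d23_1 D37152 (iv D35594) (iv F165224)
theorem F172359 : act 4 n37152 = n35592 := d34_1 D37152 (iv D35592) (iv F165225)
theorem F172360 : act 5 n37152 = n36159 := d38_1 D37152 F167524 F165227
theorem F172361 : act 6 n37152 = n35590 := d41_1 D37152 (iv D35590) (iv F165226)
theorem F172362 : act 7 n37152 = n36371 := d43_1 D37152 (iv F172213) F172211
theorem F172363 : act 8 n37152 = n35612 := d44_1 D37152 (iv D35612) (iv D33853) (iv F157235) D35589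
def n37153 : Q := act 4 n35591
theorem D37153 : act 4 n35591 = n37153 := rfl
theorem F172364 : act 0 n37153 = n36171 := d3_1 D37153 F167570 (iv F165235)
theorem F172365 : act 1 n37153 = n35879 := d11_1 D37153 F166435 (iv F165236)
theorem F172366 : act 2 n37153 = n35595 := d18_1 D37153 (iv D35595) (iv F165237)
theorem F172367 : act 5 n37153 = n36168 := d30_2 D35591 D37153 F167562 F165227 F165225
theorem F172368 : act 6 n37153 = n35655 := d31_2 (iv F165238) D37153 (iv D35655)
theorem F172369 : act 8 n37153 = n35906 := d33_2 (iv F165239) D37153 (iv D35906)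
def n37154 : Q := act 9 n35591
theorem D37154 : act 9 n35591 = n37154 := rfl
theorem F172370 : act 0 n37154 = n36327 := d8_1 D37154 (iv D36327) (iv F165235)
theorem F172371 : act 1 n37154 = n35882 := d16_1 D37154 (iv D35882) (iv F165236)
theorem F172372 : act 2 n37154 = n35596 := d23_1 D37154 (iv D35596) (iv F165237)
theorem F172373 : act 5 n37154 = n35592 := d38_1 D37154 (iv D35592) D35591
theorem F172374 : act 6 n37154 = n35656 := d41_1 D37154 (iv D35656) (iv F165238)
def n37155 : Q := act 2 n35597
theorem D37155 : act 2 n35597 = n37155 := rfl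
theorem F172375 : act 0 n37155 = n36328 := d1_1 D37155 (iv D36328) (iv F165270)
theorem F172376 : act 6 n37155 = n35635 := d20_2 (iv F165272) D37155 F165469
theorem F172377 : act 8 n37155 = n35911 := d22_2 (iv F165273) D37155 (iv D35911)
theorem F172378 : act 9 n37155 = n35610 := d23_2 (iv F165274) D37155 F165322
def n37156 : Q := act 6 n35598
theorem D37156 : act 6 n35598 = n37156 := rfl
theorem F172379 : act 2 n37156 = n35600 := d20_1 D37156 (iv D35600) (iv F165275)
theorem F172380 : act 3 n37156 = n37156 := d26_1 D37156 (iv D37156) F165276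
theorem F172381 : act 9 n37156 = n36112 := d41_2 (iv F165278) D37156 (iv D36112)
def n37157 : Q := act 8 n35598
theorem D37157 : act 8 n35598 = n37157 := rfl
theorem F172382 : act 2 n37157 = n35601 := d22_1 D37157 (iv D35601) (iv F165275)
theorem F172383 : act 3 n37157 = n37157 := d28_1 D37157 (iv D37157) F165276
theorem F172384 : act 5 n37157 = n37157 := d37_1 D37157 (iv D37157) F165277 F157495 (iv F165277)
theorem F172385 : act 7 n37157 = n35599 := d42_1 D37157 (iv D35599) D35598
def n37158 : Q := act 9 n35599
theorem D37158 : act 9 n35599 = n37158 := rfl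
theorem F172386 : act 0 n37158 = n35981 := d8_1 D37158 (iv F170315) F170309
theorem F172387 : act 1 n37158 = n35685 := d16_1 D37158 (iv F170752) F170747
theorem F172388 : act 2 n37158 = n35602 := d23_1 D37158 (iv D35602) (iv F165279)
theorem F172389 : act 3 n37158 = n37158 := d29_1 D37158 (iv D37158) F165280
theorem F172390 : act 5 n37158 = n37158 := d38_1 D37158 (iv D37158) F165281
theorem F172391 : act 6 n37158 = n35664 := d41_1 D37158 (iv F172236) F172235
theorem F172392 : act 8 n37158 = n35675 := d44_1 D37158 (iv F165703) F157987 (iv F157296) D35599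
def n37159 : Q := act 5 n35600
theorem D37159 : act 5 n35600 = n37159 := rfl
theorem F172393 : act 1 n37159 = n35607 := d12_1 D37159 (iv D35607) (iv F165282)
theorem F172394 : act 3 n37159 = n35603 := d25_1 D37159 (iv D35603) (iv F165283)
theorem F172395 : act 6 n37159 = n35631 := d35_2 D35600 D37159 (iv D35631) (iv D33881) (iv F157299)
theorem F172396 : act 9 n37159 = n36118 := d38_2 (iv F165284) D37159 F167315
def n37160 : Q := act 8 n35600
theorem D37160 : act 8 n35600 = n37160 := rfl
theorem F172397 : act 1 n37160 = n35608 := d15_1 D37160 (iv D35608) (iv F165282)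
theorem F172398 : act 3 n37160 = n35604 := d28_1 D37160 (iv D35604) (iv F165283)
theorem F172399 : act 6 n37160 = n35601 := d40_1 D37160 (iv D35601) D35600
def n37161 : Q := act 9 n35601
theorem D37161 : act 9 n35601 = n37161 := rfl
theorem F172400 : act 1 n37161 = n35609 := d16_1 D37161 (iv D35609) (iv F165285)
theorem F172401 : act 3 n37161 = n35605 := d29_1 D37161 (iv D35605) (iv F165286)
theorem F172402 : act 5 n37161 = n37161 := d38_1 D37161 (iv D37161) F165287
theorem F172403 : act 7 n37161 = n35602 := d43_1 D37161 (iv D35602) (iv F165288)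
theorem F172404 : act 8 n37161 = n35732 := d44_1 D37161 (iv D35732) F158162 (iv F157300) D35601
def n37162 : Q := act 5 n35604
theorem D37162 : act 5 n35604 = n37162 := rfl
theorem F172405 : act 1 n37162 = n35611 := d12_1 D37162 (iv D35611) (iv F165297)
theorem F172406 : act 2 n37162 = n37162 := d19_1 D37162 (iv D37162) F165298
theorem F172407 : act 4 n37162 = n35771 := d30_1 D37162 (iv D35771) (iv F163782) F163783 (iv F165299)
theorem F172408 : act 6 n37162 = n37162 := d35_2 (iv F165300) D37162 (iv D37162) F165300 F157311
theorem F172409 : act 7 n37162 = n35782 := d36_2 F172265 D37162 F172266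
def n37163 : Q := act 9 n35604
theorem D37163 : act 9 n35604 = n37163 := rfl
theorem F172410 : act 1 n37163 = n35612 := d16_1 D37163 (iv D35612) (iv F165297)
theorem F172411 : act 2 n37163 = n37163 := d23_1 D37163 (iv D37163) F165298
theorem F172412 : act 4 n37163 = n35606 := d34_1 D37163 (iv D35606) (iv F165299)
theorem F172413 : act 6 n37163 = n35605 := d41_1 D37163 (iv D35605) (iv F165300)
theorem F172414 : act 8 n37163 = n35735 := d44_1 D37163 (iv D35735) F158173 (iv F157307) D35604
def n37164 : Q := act 4 n35607
theorem D37164 : act 4 n35607 = n37164 := rfl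
theorem F172415 : act 0 n37164 = n36329 := d3_1 D37164 (iv D36329) (iv F165311)
theorem F172416 : act 6 n37164 = n35633 := d31_2 (iv F165313) D37164 (iv D35633)
def n37165 : Q := act 8 n35607
theorem D37165 : act 8 n35607 = n37165 := rfl
theorem F172417 : act 0 n37165 = n36330 := d7_1 D37165 (iv D36330) (iv F165311)
theorem F172418 : act 3 n37165 = n35610 := d28_1 D37165 (iv D35610) (iv F165312)
theorem F172419 : act 6 n37165 = n35634 := d40_1 D37165 (iv D35634) (iv F165313)
def n37166 : Q := act 5 n35608
theorem D37166 : act 5 n35608 = n37166 := rfl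
theorem F172420 : act 0 n37166 = n36331 := d4_1 D37166 (iv D36331) (iv F165314)
theorem F172421 : act 3 n37166 = n35611 := d25_1 D37166 (iv D35611) (iv F165315)
theorem F172422 : act 6 n37166 = n37166 := d35_2 (iv F165316) D37166 (iv D37166) F165316 F157330
theorem F172423 : act 7 n37166 = n35853 := d36_2 F172288 D37166 F172289
def n37167 : Q := act 9 n35608
theorem D37167 : act 9 n35608 = n37167 := rfl
theorem F172424 : act 0 n37167 = n36332 := d8_1 D37167 (iv D36332) (iv F165314)
theorem F172425 : act 3 n37167 = n35612 := d29_1 D37167 (iv D35612) (iv F165315)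
theorem F172426 : act 6 n37167 = n35609 := d41_1 D37167 (iv D35609) (iv F165316)
def n37168 : Q := act 9 n35611
theorem D37168 : act 9 n35611 = n37168 := rfl
theorem F172427 : act 0 n37168 = n36333 := d8_1 D37168 (iv D36333) (iv F165324)
theorem F172428 : act 2 n37168 = n35614 := d23_1 D37168 (iv D35614) (iv F165325)
theorem F172429 : act 4 n37168 = n35827 := d34_1 D37168 (iv D35827) (iv F165326)
theorem F172430 : act 5 n37168 = n35612 := d38_1 D37168 (iv D35612) D35611
theorem F172431 : act 6 n37168 = n37168 := d41_1 D37168 (iv D37168) F165327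
theorem F172432 : act 7 n37168 = n35854 := d43_1 D37168 (iv D35854) (iv F165328)
def n37169 : Q := act 7 n35615
theorem D37169 : act 7 n35615 = n37169 := rfl
theorem F172433 : act 0 n37169 = n35618 := d6_1 D37169 (iv D35618) (iv F165345)
theorem F172434 : act 1 n37169 = n35738 := d14_1 D37169 F165959 (iv F165346)
theorem F172435 : act 2 n37169 = n35663 := d21_1 D37169 F165633 F165351
theorem F172436 : act 3 n37169 = n35616 := d27_1 D37169 (iv D35616) D35615
theorem F172437 : act 4 n37169 = n35661 := d32_1 D37169 F165620 (iv F165347)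
theorem F172438 : act 8 n37169 = n35659 := d42_2 (iv F165349) D37169 (iv D35659)
theorem F172439 : act 9 n37169 = n35716 := d43_2 (iv F165350) D37169 F165886
theorem F172440 : act 6 n35792 = n37169 := d41_3 F172439 F165885 D35792
def n37170 : Q := act 6 n35618
theorem D37170 : act 6 n35618 = n37170 := rfl
theorem F172441 : act 0 n37170 = n35792 := d5_1 D37170 F172440 F172433
theorem F172442 : act 1 n37170 = n35621 := d13_1 D37170 (iv D35621) (iv F165368)
theorem F172443 : act 2 n37170 = n35979 := d20_1 D37170 F166858 (iv F165369)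
theorem F172444 : act 3 n37170 = n35619 := d26_1 D37170 (iv D35619) (iv F165370)
theorem F172445 : act 4 n37170 = n35978 := d31_1 D37170 F166852 (iv F165371)
theorem F172446 : act 7 n37170 = n37170 := d39_2 D35618 D37170 (iv D37170) (iv D35618) F157403
theorem F172447 : act 8 n37170 = n35925 := d40_2 (iv F165372) D37170 (iv D35925)
theorem F172448 : act 9 n37170 = n35746 := d41_2 (iv F165373) D37170 (iv D35746)
def n37171 : Q := act 5 n35619
theorem D37171 : act 5 n35619 = n37171 := rfl
theorem F172449 : act 0 n37171 = n35787 := d4_1 D37171 F166136 (iv F165374)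
theorem F172450 : act 1 n37171 = n35622 := d12_1 D37171 (iv D35622) (iv F165375)
theorem F172451 : act 2 n37171 = n37171 := d19_1 D37171 (iv D37171) F165376
theorem F172452 : act 4 n37171 = n35759 := d30_1 D37171 F166046 F158306 (iv F157416) (iv F165377)
theorem F172453 : act 7 n37171 = n37171 := d36_2 F165378 D37171 (iv D37171)
theorem F172454 : act 8 n37171 = n35880 := d37_2 (iv F165379) D37171 F166438 D35886 (iv F166462)
theorem F172455 : act 9 n37171 = n35747 := d38_2 (iv F165380) D37171 (iv D35747)
def n37172 : Q := act 5 n35621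
theorem D37172 : act 5 n35621 = n37172 := rfl
theorem F172456 : act 0 n37172 = n35986 := d4_1 D37172 (iv D35986) (iv F165390)
theorem F172457 : act 2 n37172 = n35625 := d19_1 D37172 (iv D35625) (iv F165391)
theorem F172458 : act 3 n37172 = n35622 := d25_1 D37172 (iv D35622) (iv F165392)
theorem F172459 : act 7 n37172 = n37172 := d36_2 F165394 D37172 (iv D37172)
theorem F172460 : act 9 n37172 = n35748 := d38_2 (iv F165396) D37172 (iv D35748)
def n37173 : Q := act 8 n35622
theorem D37173 : act 8 n35622 = n37173 := rfl
theorem F172461 : act 0 n37173 = n36180 := d7_1 D37173 F167605 (iv F165397)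
theorem F172462 : act 1 n37173 = n35880 := d15_1 D37173 (iv F172454) F172450
theorem F172463 : act 2 n37173 = n35623 := d22_1 D37173 (iv D35623) (iv F165398)
theorem F172464 : act 4 n37173 = n35656 := d33_1 D37173 (iv F168401) F168398
theorem F172465 : act 5 n37173 = n35789 := d37_1 D37173 (iv F166150) F160710 (iv F157436) D35622
theorem F172466 : act 7 n37173 = n37173 := d42_1 D37173 (iv D37173) F165399
theorem F172467 : act 9 n37173 = n35655 := d44_2 (iv F165400) D37173 F165583 F166006 (iv D35749)
def n37174 : Q := act 4 n35625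
theorem D37174 : act 4 n35625 = n37174 := rfl
theorem F172468 : act 0 n37174 = n35987 := d3_1 D37174 (iv D35987) (iv F165417)
theorem F172469 : act 3 n37174 = n35633 := d24_1 D37174 (iv D35633) F157508 (iv F157464) (iv F165418)
theorem F172470 : act 5 n37174 = n36334 := d30_2 D35625 D37174 (iv D36334) (iv D34699) (iv F157458)
theorem F172471 : act 7 n37174 = n37174 := d32_2 F165419 D37174 (iv D37174)
theorem F172472 : act 9 n37174 = n35918 := d34_2 (iv F165420) D37174 (iv D35918)
def n37175 : Q := act 8 n35625
theorem D37175 : act 8 n35625 = n37175 := rfl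
theorem F172473 : act 0 n37175 = n35982 := d7_1 D37175 F166870 (iv F165417)
theorem F172474 : act 1 n37175 = n35687 := d15_1 D37175 (iv F169170) F169166
theorem F172475 : act 3 n37175 = n35626 := d28_1 D37175 (iv D35626) (iv F165418)
theorem F172476 : act 5 n37175 = n35666 := d37_1 D37175 (iv D35666) F157768 (iv F157460) D35625
theorem F172477 : act 7 n37175 = n37175 := d42_1 D37175 (iv D37175) F165419
def n37176 : Q := act 9 n35626
theorem D37176 : act 9 n35626 = n37176 := rfl
theorem F172478 : act 0 n37176 = n35984 := d8_1 D37176 (iv D35984) (iv F165421)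
theorem F172479 : act 1 n37176 = n35689 := d16_1 D37176 (iv D35689) (iv F165422)
theorem F172480 : act 2 n37176 = n35627 := d23_1 D37176 (iv D35627) (iv F165423)
theorem F172481 : act 4 n37176 = n35635 := d34_1 D37176 (iv D35635) (iv F165424)
theorem F172482 : act 5 n37176 = n35668 := d38_1 D37176 (iv D35668) (iv F165425)
theorem F172483 : act 7 n37176 = n37176 := d43_1 D37176 (iv D37176) F165426
theorem F172484 : act 8 n37176 = n35913 := d44_1 D37176 F166557 (iv D34205) (iv F157466) D35626
def n37177 : Q := act 4 n35628
theorem D37177 : act 4 n35628 = n37177 := rfl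
theorem F172485 : act 0 n37177 = n36334 := d3_1 D37177 (iv D36334) (iv F165434)
theorem F172486 : act 1 n37177 = n36117 := d11_1 D37177 (iv D36117) (iv F165435)
theorem F172487 : act 3 n37177 = n35918 := d24_1 D37177 (iv D35918) F158812 (iv F157482) (iv F165436)
theorem F172488 : act 5 n37177 = n35987 := d30_2 D35628 D37177 (iv D35987) (iv D34285) (iv F157475)
theorem F172489 : act 7 n37177 = n37177 := d32_2 F165437 D37177 (iv D37177)
theorem F172490 : act 9 n37177 = n35633 := d34_2 (iv F165438) D37177 (iv D35633)
def n37178 : Q := act 8 n35628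
theorem D37178 : act 8 n35628 = n37178 := rfl
theorem F172491 : act 0 n37178 = n36110 := d7_1 D37178 F167294 (iv F165434)
theorem F172492 : act 1 n37178 = n36116 := d15_1 D37178 F167311 (iv F165435)
theorem F172493 : act 2 n37178 = n35875 := d22_1 D37178 (iv F170819) F170816
theorem F172494 : act 3 n37178 = n35629 := d28_1 D37178 (iv D35629) (iv F165436)
theorem F172495 : act 5 n37178 = n35888 := d37_1 D37178 (iv F166473) (iv D34284) (iv F157477) D35628
theorem F172496 : act 7 n37178 = n37178 := d42_1 D37178 (iv D37178) F165437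
theorem F172497 : act 9 n35874 = n37178 := d38_0 F172495 (iv D35888) (iv F166418)
def n37179 : Q := act 5 n35630
theorem D37179 : act 5 n35630 = n37179 := rfl
theorem F172498 : act 2 n37179 = n35631 := d19_1 D37179 (iv D35631) (iv F165446)
theorem F172499 : act 3 n37179 = n37179 := d25_1 D37179 (iv D37179) F165447
theorem F172500 : act 7 n37179 = n37179 := d36_2 F165449 D37179 (iv D37179)
theorem F172501 : act 9 n37179 = n36111 := d38_2 (iv F165451) D37179 (iv D36111)
def n37180 : Q := act 4 n35631
theorem D37180 : act 4 n35631 = n37180 := rfl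
theorem F172502 : act 1 n37180 = n35633 := d11_1 D37180 (iv D35633) (iv F165452)
theorem F172503 : act 5 n37180 = n36121 := d30_2 D35631 D37180 F167321 F159551 (iv F157499)
theorem F172504 : act 7 n37180 = n37180 := d32_2 F165454 D37180 (iv D37180)
theorem F172505 : act 9 n37180 = n36117 := d34_2 (iv F165455) D37180 (iv D36117)
def n37181 : Q := act 8 n35631
theorem D37181 : act 8 n35631 = n37181 := rfl
theorem F172506 : act 0 n37181 = n36364 := d7_1 D37181 (iv F169390) F169386
theorem F172507 : act 1 n37181 = n35634 := d15_1 D37181 (iv D35634) (iv F165452)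
theorem F172508 : act 3 n37181 = n35632 := d28_1 D37181 (iv D35632) (iv F165453)
theorem F172509 : act 5 n37181 = n37181 := d37_1 D37181 (iv D37181) (iv D35631) F157501 D35631
theorem F172510 : act 7 n37181 = n37181 := d42_1 D37181 (iv D37181) F165454
def n37182 : Q := act 9 n35632
theorem D37182 : act 9 n35632 = n37182 := rfl
theorem F172511 : act 0 n37182 = n36365 := d8_1 D37182 (iv D36365) (iv F165456)
theorem F172512 : act 1 n37182 = n35635 := d16_1 D37182 (iv D35635) (iv F165457)
theorem F172513 : act 2 n37182 = n37182 := d23_1 D37182 (iv D37182) F165458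
theorem F172514 : act 4 n37182 = n35689 := d34_1 D37182 (iv D35689) (iv F165459)
theorem F172515 : act 5 n37182 = n37182 := d38_1 D37182 (iv D37182) F165460
theorem F172516 : act 7 n37182 = n37182 := d43_1 D37182 (iv D37182) F165461
theorem F172517 : act 8 n37182 = n35914 := d44_1 D37182 F166561 F159568 (iv F157506) D35632
def n37183 : Q := act 8 n35633
theorem D37183 : act 8 n35633 = n37183 := rfl
theorem F172518 : act 0 n37183 = n36335 := d7_1 D37183 (iv D36335) (iv F165462)
theorem F172519 : act 4 n37183 = n35634 := d33_1 D37183 (iv D35634) D35633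
theorem F172520 : act 7 n37183 = n37183 := d42_1 D37183 (iv D37183) F165463
def n37184 : Q := act 9 n35634
theorem D37184 : act 9 n35634 = n37184 := rfl
theorem F172521 : act 0 n37184 = n36336 := d8_1 D37184 (iv D36336) (iv F165464)
theorem F172522 : act 2 n37184 = n35654 := d23_1 D37184 (iv F170837) F170833
theorem F172523 : act 3 n37184 = n35635 := d29_1 D37184 (iv D35635) (iv F165465)
theorem F172524 : act 5 n37184 = n37184 := d38_1 D37184 (iv D37184) F165466
theorem F172525 : act 7 n37184 = n37184 := d43_1 D37184 (iv D37184) F165467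
theorem F172526 : act 8 n37184 = n35874 := d44_1 D37184 F172497 (iv D37178) F165438 D35634
def n37185 : Q := act 5 n35636
theorem D37185 : act 5 n35636 = n37185 := rfl
theorem F172527 : act 0 n37185 = n35642 := d4_1 D37185 (iv D35642) (iv F165473)
theorem F172528 : act 1 n37185 = n35864 := d12_1 D37185 F166393 (iv F165474)
theorem F172529 : act 2 n37185 = n36344 := d19_1 D37185 (iv D36344) (iv F165475)
theorem F172530 : act 3 n37185 = n35637 := d25_1 D37185 (iv D35637) (iv F165476)
theorem F172531 : act 7 n37185 = n37185 := d36_2 F165478 D37185 (iv D37185)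
theorem F172532 : act 8 n37185 = n35757 := d37_2 D35636 D37185 (iv D35757) (iv D34048) (iv F157538)
theorem F172533 : act 9 n37185 = n35856 := d38_2 (iv F165479) D37185 (iv D35856)
def n37186 : Q := act 4 n35637
theorem D37186 : act 4 n35637 = n37186 := rfl
theorem F172534 : act 0 n37186 = n35643 := d3_1 D37186 (iv D35643) (iv F165480)
theorem F172535 : act 1 n37186 = n35749 := d11_1 D37186 F166003 (iv F165481)
theorem F172536 : act 2 n37186 = n37186 := d18_1 D37186 (iv D37186) F165482
theorem F172537 : act 5 n37186 = n37186 := d30_2 D35637 D37186 (iv D37186) (iv D35637) F157549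
theorem F172538 : act 7 n37186 = n37186 := d32_2 F165483 D37186 (iv D37186)
theorem F172539 : act 8 n37186 = n35747 := d33_2 (iv F165484) D37186 F165996
theorem F172540 : act 9 n37186 = n35876 := d34_2 (iv F165485) D37186 (iv D35876)
def n37187 : Q := act 5 n35638
theorem D37187 : act 5 n35638 = n37187 := rfl
theorem F172541 : act 0 n37187 = n36344 := d4_1 D37187 (iv D36344) (iv F165486)
theorem F172542 : act 1 n37187 = n35857 := d12_1 D37187 (iv D35857) (iv F165487)
theorem F172543 : act 2 n37187 = n35642 := d19_1 D37187 (iv D35642) (iv F165488)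
theorem F172544 : act 3 n37187 = n37187 := d25_1 D37187 (iv D37187) F165489
theorem F172545 : act 7 n37187 = n37187 := d36_2 F165492 D37187 (iv D37187)
theorem F172546 : act 8 n37187 = n35646 := d37_2 D35638 D37187 (iv D35646) (iv D33900) (iv F157558)
def n37188 : Q := act 5 n35639
theorem D37188 : act 5 n35639 = n37188 := rfl
theorem F172547 : act 1 n37188 = n35646 := d12_1 D37188 (iv D35646) (iv F165493)
theorem F172548 : act 2 n37188 = n35856 := d19_1 D37188 (iv D35856) (iv F165494)
theorem F172549 : act 3 n37188 = n37188 := d25_1 D37188 (iv D37188) F165495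
theorem F172550 : act 7 n37188 = n37188 := d36_2 F165498 D37188 (iv D37188)
theorem F172551 : act 8 n37188 = n35857 := d37_2 D35639 D37188 (iv D35857) (iv D34137) (iv F157570)
theorem F172552 : act 9 n37188 = n36344 := d38_2 (iv F165499) D37188 (iv D36344)
def n37189 : Q := act 6 n35640
theorem D37189 : act 6 n35640 = n37189 := rfl
theorem F172553 : act 1 n37189 = n35648 := d13_1 D37189 (iv D35648) (iv F165500)
theorem F172554 : act 2 n37189 = n35832 := d20_1 D37189 F166297 (iv F165501)
theorem F172555 : act 3 n37189 = n37189 := d26_1 D37189 (iv D37189) F165502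
theorem F172556 : act 8 n37189 = n35774 := d40_2 (iv F165504) D37189 (iv D35774)
def n37190 : Q := act 7 n35641
theorem D37190 : act 7 n35641 = n37190 := rfl
theorem F172557 : act 1 n37190 = n35650 := d14_1 D37190 (iv D35650) (iv F165505)
theorem F172558 : act 2 n37190 = n35814 := d21_1 D37190 F166247 (iv F165506)
theorem F172559 : act 3 n37190 = n37190 := d27_1 D37190 (iv D37190) F165507
theorem F172560 : act 5 n37190 = n37190 := d36_1 D37190 (iv D37190) F165508
theorem F172561 : act 8 n37190 = n35761 := d42_2 (iv F165509) D37190 (iv D35761)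
theorem F172562 : act 9 n37190 = n35994 := d43_2 (iv F165510) D37190 F166911
def n37191 : Q := act 4 n35642
theorem D37191 : act 4 n35642 = n37191 := rfl
theorem F172563 : act 1 n37191 = n35652 := d11_1 D37191 (iv D35652) (iv F165511)
theorem F172564 : act 7 n37191 = n37191 := d32_2 F165513 D37191 (iv D37191)
theorem F172565 : act 8 n37191 = n35784 := d33_2 (iv F165514) D37191 (iv D35784)
def n37192 : Q := act 3 n35643
theorem D37192 : act 3 n35643 = n37192 := rfl
theorem F172566 : act 1 n37192 = n35654 := d10_1 D37192 (iv D35654) (iv F165515)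
theorem F172567 : act 5 n37192 = n37192 := d25_2 F165517 D37192 (iv D37192)
theorem F172568 : act 7 n37192 = n37192 := d27_2 F165518 D37192 (iv D37192)
theorem F172569 : act 8 n37192 = n35786 := d28_2 (iv F165519) D37192 (iv D35786)
def n37193 : Q := act 4 n35644
theorem D37193 : act 4 n35644 = n37193 := rfl
theorem F172570 : act 0 n37193 = n36342 := d3_1 D37193 (iv D36342) (iv F165520)
theorem F172571 : act 1 n37193 = n35865 := d11_1 D37193 (iv D35865) (iv F165521)
theorem F172572 : act 2 n37193 = n35652 := d18_1 D37193 (iv D35652) (iv F165522)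
theorem F172573 : act 5 n37193 = n35784 := d30_2 D35644 D37193 (iv D35784) (iv D34076) (iv F157594)
theorem F172574 : act 7 n37193 = n37193 := d32_2 F165524 D37193 (iv D37193)
theorem F172575 : act 8 n37193 = n35863 := d33_2 (iv F165525) D37193 (iv D35863)
def n37194 : Q := act 9 n35644
theorem D37194 : act 9 n35644 = n37194 := rfl
theorem F172576 : act 0 n37194 = n36343 := d8_1 D37194 (iv D36343) (iv F165520)
theorem F172577 : act 1 n37194 = n35867 := d16_1 D37194 (iv D35867) (iv F165521)
theorem F172578 : act 2 n37194 = n35653 := d23_1 D37194 (iv D35653) (iv F165522)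
theorem F172579 : act 3 n37194 = n35656 := d29_1 D37194 (iv D35656) (iv F165523)
theorem F172580 : act 5 n37194 = n35645 := d38_1 D37194 (iv D35645) D35644
theorem F172581 : act 7 n37194 = n37194 := d43_1 D37194 (iv D37194) F165524
def n37195 : Q := act 4 n35646
theorem D37195 : act 4 n35646 = n37195 := rfl
theorem F172582 : act 0 n37195 = n36345 := d3_1 D37195 (iv D36345) (iv F165534)
theorem F172583 : act 2 n37195 = n35784 := d18_1 D37195 (iv D35784) (iv F165535)
theorem F172584 : act 5 n37195 = n35652 := d30_2 D35646 D37195 (iv D35652) (iv D33905) (iv F157607)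
theorem F172585 : act 7 n37195 = n37195 := d32_2 F165537 D37195 (iv D37195)
def n37196 : Q := act 6 n35646
theorem D37196 : act 6 n35646 = n37196 := rfl
theorem F172586 : act 0 n37196 = n36346 := d5_1 D37196 (iv D36346) (iv F165534)
theorem F172587 : act 2 n37196 = n35780 := d20_1 D37196 F166113 (iv F165535)
theorem F172588 : act 3 n37196 = n37196 := d26_1 D37196 (iv D37196) F165536
theorem F172589 : act 5 n37196 = n35648 := d35_1 D37196 (iv D35648) (iv D33901) (iv F157608) D35646
def n37197 : Q := act 9 n35646
theorem D37197 : act 9 n35646 = n37197 := rfl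
theorem F172590 : act 0 n37197 = n36347 := d8_1 D37197 (iv D36347) (iv F165534)
theorem F172591 : act 1 n37197 = n36344 := d16_1 D37197 (iv F172552) F172547
theorem F172592 : act 2 n37197 = n35785 := d23_1 D37197 (iv D35785) (iv F165535)
theorem F172593 : act 3 n37197 = n37197 := d29_1 D37197 (iv D37197) F165536
theorem F172594 : act 5 n37197 = n35647 := d38_1 D37197 (iv D35647) D35646
theorem F172595 : act 7 n37197 = n37197 := d43_1 D37197 (iv D37197) F165537
theorem F172596 : act 8 n36337 = n37197 := d37_0 F172594 F165545 F157660 D34703 D36337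
def n37198 : Q := act 7 n35648
theorem D37198 : act 7 n35648 = n37198 := rfl
theorem F172597 : act 0 n37198 = n36348 := d6_1 D37198 (iv D36348) (iv F165546)
theorem F172598 : act 2 n37198 = n35769 := d21_1 D37198 F166077 (iv F165547)
theorem F172599 : act 3 n37198 = n37198 := d27_1 D37198 (iv D37198) F165548
theorem F172600 : act 6 n37198 = n35650 := d39_1 D37198 (iv D35650) (iv D33903) (iv F157613) D35648
theorem F172601 : act 8 n37198 = n35764 := d42_2 (iv F165549) D37198 F166062
def n37199 : Q := act 9 n35648
theorem D37199 : act 9 n35648 = n37199 := rfl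
theorem F172602 : act 0 n37199 = n36349 := d8_1 D37199 (iv D36349) (iv F165546)
theorem F172603 : act 2 n37199 = n35781 := d23_1 D37199 (iv D35781) (iv F165547)
theorem F172604 : act 3 n37199 = n37199 := d29_1 D37199 (iv D37199) F165548
theorem F172605 : act 6 n37199 = n35649 := d41_1 D37199 (iv D35649) D35648
def n37200 : Q := act 9 n35650
theorem D37200 : act 9 n35650 = n37200 := rfl
theorem F172606 : act 0 n37200 = n36350 := d8_1 D37200 (iv D36350) (iv F165555)
theorem F172607 : act 1 n37200 = n35994 := d16_1 D37200 (iv F172562) F172557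
theorem F172608 : act 2 n37200 = n35770 := d23_1 D37200 (iv D35770) (iv F165556)
theorem F172609 : act 3 n37200 = n37200 := d29_1 D37200 (iv D37200) F165557
theorem F172610 : act 5 n37200 = n37200 := d38_1 D37200 (iv D37200) F165558
theorem F172611 : act 7 n37200 = n35651 := d43_1 D37200 (iv D35651) D35650
theorem F172612 : act 8 n37200 = n35989 := d44_1 D37200 (iv F170852) F170851 F163947 (iv F165559)
def n37201 : Q := act 3 n35652
theorem D37201 : act 3 n35652 = n37201 := rfl
theorem F172613 : act 0 n37201 = n36351 := d2_1 D37201 (iv D36351) (iv F165567)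
theorem F172614 : act 4 n37201 = n35654 := d24_2 D35652 D37201 (iv D35654) (iv D33907) (iv F157631)
theorem F172615 : act 7 n37201 = n37201 := d27_2 F165568 D37201 (iv D37201)
theorem F172616 : act 8 n37201 = n35871 := d28_2 (iv F165569) D37201 (iv D35871)
def n37202 : Q := act 9 n35652
theorem D37202 : act 9 n35652 = n37202 := rfl
theorem F172617 : act 0 n37202 = n36352 := d8_1 D37202 (iv D36352) (iv F165567)
theorem F172618 : act 4 n37202 = n35653 := d34_1 D37202 (iv D35653) D35652
theorem F172619 : act 7 n37202 = n37202 := d43_1 D37202 (iv D37202) F165568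
def n37203 : Q := act 3 n35655
theorem D37203 : act 3 n35655 = n37203 := rfl
theorem F172620 : act 0 n37203 = n36182 := d2_1 D37203 F167612 (iv F165578)
theorem F172621 : act 1 n37203 = n35878 := d10_1 D37203 (iv D35878) (iv F165579)
theorem F172622 : act 5 n37203 = n35788 := d25_2 (iv F165581) D37203 (iv D35788)
theorem F172623 : act 7 n37203 = n37203 := d27_2 F165582 D37203 (iv D37203)
theorem F172624 : act 8 n37203 = n35912 := d28_2 (iv F165583) D37203 (iv D35912)
def n37204 : Q := act 6 n35658
theorem D37204 : act 6 n35658 = n37204 := rfl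
theorem F172625 : act 0 n37204 = n35985 := d5_1 D37204 (iv D35985) (iv F165597)
theorem F172626 : act 1 n37204 = n35660 := d13_1 D37204 (iv D35660) (iv F165598)
theorem F172627 : act 2 n37204 = n35678 := d20_1 D37204 (iv D35678) (iv F165599)
theorem F172628 : act 3 n37204 = n35886 := d26_1 D37204 F166459 (iv F165600)
theorem F172629 : act 4 n37204 = n35889 := d31_1 D37204 F166477 (iv F165601)
theorem F172630 : act 5 n37204 = n35925 := d35_1 D37204 (iv D35925) F158864 (iv F157735) (iv F165602)
theorem F172631 : act 7 n37204 = n37204 := d39_2 D35658 D37204 (iv D37204) (iv D35658) F157729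
theorem F172632 : act 8 n37204 = n35885 := d40_2 F170812 D37204 F170814
theorem F172633 : act 9 n37204 = n37204 := d41_2 F165603 D37204 (iv D37204)
def n37205 : Q := act 6 n35659
theorem D37205 : act 6 n35659 = n37205 := rfl
theorem F172634 : act 0 n37205 = n35925 := d5_1 D37205 (iv D35925) (iv F165604)
theorem F172635 : act 1 n37205 = n35889 := d13_1 D37205 F166477 (iv F165605)
theorem F172636 : act 2 n37205 = n35662 := d20_1 D37205 (iv D35662) (iv F165606)
theorem F172637 : act 3 n37205 = n35793 := d26_1 D37205 F166170 (iv F165607)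
theorem F172638 : act 4 n37205 = n35660 := d31_1 D37205 (iv D35660) (iv F165608)
theorem F172639 : act 5 n37205 = n35985 := d35_1 D37205 (iv D35985) (iv F165594) F165595 (iv F165609)
theorem F172640 : act 7 n37205 = n37205 := d39_2 D35659 D37205 (iv D37205) (iv D35659) F157742
theorem F172641 : act 8 n37205 = n35792 := d40_2 F172438 D37205 F172440
theorem F172642 : act 9 n37205 = n37205 := d41_2 F165610 D37205 (iv D37205)
def n37206 : Q := act 8 n35660
theorem D37206 : act 8 n35660 = n37206 := rfl
theorem F172643 : act 0 n37206 = n35978 := d7_1 D37206 (iv D35978) (iv F165611)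
theorem F172644 : act 1 n37206 = n35885 := d15_1 D37206 (iv F172632) F172626
theorem F172645 : act 2 n37206 = n35666 := d22_1 D37206 (iv D35666) (iv F165612)
theorem F172646 : act 3 n37206 = n35789 := d28_1 D37206 (iv F166150) (iv F165613)
theorem F172647 : act 4 n37206 = n35792 := d33_1 D37206 (iv F172641) F172638
theorem F172648 : act 6 n37206 = n35661 := d40_1 D37206 (iv D35661) D35660
theorem F172649 : act 7 n37206 = n37206 := d42_1 D37206 (iv D37206) F165615
theorem F172650 : act 9 n35788 = n37206 := d41_0 F172648 (iv F165621) (iv F166141)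
def n37207 : Q := act 8 n35662
theorem D37207 : act 8 n35662 = n37207 := rfl
theorem F172651 : act 0 n37207 = n35979 := d7_1 D37207 (iv D35979) (iv F165622)
theorem F172652 : act 1 n37207 = n35682 := d15_1 D37207 (iv D35682) (iv F165623)
theorem F172653 : act 2 n37207 = n35792 := d22_1 D37207 (iv F172641) F172636
theorem F172654 : act 3 n37207 = n37207 := d28_1 D37207 (iv D37207) F165624
theorem F172655 : act 4 n37207 = n35666 := d33_1 D37207 (iv D35666) (iv F165625)
theorem F172656 : act 6 n37207 = n35663 := d40_1 D37207 (iv D35663) D35662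
theorem F172657 : act 7 n37207 = n37207 := d42_1 D37207 (iv D37207) F165627
theorem F172658 : act 9 n35791 = n37207 := d23_0 F172653 (iv D35792) D35791
def n37208 : Q := act 5 n35663
theorem D37208 : act 5 n35663 = n37208 := rfl
theorem F172659 : act 0 n37208 = n35980 := d4_1 D37208 (iv D35980) (iv F165629)
theorem F172660 : act 1 n37208 = n35683 := d12_1 D37208 (iv D35683) (iv F165630)
theorem F172661 : act 3 n37208 = n37208 := d25_1 D37208 (iv D37208) F165631
theorem F172662 : act 7 n37208 = n35664 := d36_2 (iv F165633) D37208 (iv D35664)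
theorem F172663 : act 8 n37208 = n35673 := d37_2 D35663 D37208 (iv D35673) (iv D33941) (iv F157758)
def n37209 : Q := act 9 n35663
theorem D37209 : act 9 n35663 = n37209 := rfl
theorem F172664 : act 0 n37209 = n35745 := d8_1 D37209 F165986 (iv F165629)
theorem F172665 : act 1 n37209 = n35684 := d16_1 D37209 (iv D35684) (iv F165630)
theorem F172666 : act 2 n37209 = n35716 := d23_1 D37209 (iv F172439) F172435
theorem F172667 : act 3 n37209 = n37209 := d29_1 D37209 (iv D37209) F165631
theorem F172668 : act 4 n37209 = n35667 := d34_1 D37209 (iv D35667) (iv F165632)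
theorem F172669 : act 6 n37209 = n35791 := d41_1 D37209 F172658 F172656
theorem F172670 : act 7 n37209 = n35665 := d43_1 D37209 (iv D35665) (iv F165633)
theorem F172671 : act 8 n37209 = n37209 := d44_1 D37209 (iv D37209) (iv D35663) F157759 D35663
def n37210 : Q := act 9 n35666
theorem D37210 : act 9 n35666 = n37210 := rfl
theorem F172672 : act 0 n37210 = n35983 := d8_1 D37210 (iv D35983) (iv F165645)
theorem F172673 : act 1 n37210 = n35688 := d16_1 D37210 (iv D35688) (iv F165646)
theorem F172674 : act 2 n37210 = n35788 := d23_1 D37210 F172650 F172645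
theorem F172675 : act 3 n37210 = n35668 := d29_1 D37210 (iv D35668) (iv F165647)
theorem F172676 : act 4 n37210 = n35791 := d34_1 D37210 F172658 F172655
theorem F172677 : act 6 n37210 = n35667 := d41_1 D37210 (iv D35667) (iv F165648)
theorem F172678 : act 7 n37210 = n37210 := d43_1 D37210 (iv D37210) F165649
theorem F172679 : act 8 n37210 = n37210 := d44_1 D37210 (iv D37210) (iv D35666) F157770 D35666
def n37211 : Q := act 5 n35670
theorem D37211 : act 5 n35670 = n37211 := rfl
theorem F172680 : act 0 n37211 = n35921 := d4_1 D37211 F166584 (iv F165670)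
theorem F172681 : act 1 n37211 = n35965 := d12_1 D37211 F166802 (iv F165671)
theorem F172682 : act 2 n37211 = n35673 := d19_1 D37211 (iv D35673) (iv F165672)
theorem F172683 : act 3 n37211 = n35736 := d25_1 D37211 F165947 (iv F165673)
theorem F172684 : act 7 n37211 = n35671 := d36_2 (iv F165675) D37211 (iv D35671)
theorem F172685 : act 9 n37211 = n35733 := d38_2 F169513 D37211 (iv F169510)
def n37212 : Q := act 6 n35673
theorem D37212 : act 6 n35673 = n37212 := rfl
theorem F172686 : act 1 n37212 = n35691 := d13_1 D37212 (iv D35691) (iv F165688)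
theorem F172687 : act 3 n37212 = n37212 := d26_1 D37212 (iv D37212) F165689
def n37213 : Q := act 9 n35673
theorem D37213 : act 9 n35673 = n37213 := rfl
theorem F172688 : act 0 n37213 = n35795 := d8_1 D37213 (iv F169114) F169108
theorem F172689 : act 1 n37213 = n35692 := d16_1 D37213 (iv D35692) (iv F165688)
theorem F172690 : act 2 n37213 = n35733 := d23_1 D37213 (iv F172685) F172682
theorem F172691 : act 3 n37213 = n37213 := d29_1 D37213 (iv D37213) F165689
theorem F172692 : act 5 n37213 = n35674 := d38_1 D37213 (iv D35674) D35673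
theorem F172693 : act 7 n37213 = n35676 := d43_1 D37213 (iv D35676) (iv F165690)
theorem F172694 : act 8 n36113 = n37213 := d42_0 F172693 (iv F165710) D36113
def n37214 : Q := act 7 n35675
theorem D37214 : act 7 n35675 = n37214 := rfl
theorem F172695 : act 0 n37214 = n36209 := d6_1 D37214 (iv D36209) (iv F165698)
theorem F172696 : act 1 n37214 = n35693 := d14_1 D37214 (iv D35693) (iv F165699)
theorem F172697 : act 2 n37214 = n35732 := d21_1 D37214 F165933 (iv F165700)
theorem F172698 : act 3 n37214 = n37214 := d27_1 D37214 (iv D37214) F165701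
theorem F172699 : act 5 n37214 = n35677 := d36_1 D37214 (iv D35677) (iv F165702)
theorem F172700 : act 9 n37214 = n35690 := d43_2 F165703 D37214 F165779
def n37215 : Q := act 8 n35678
theorem D37215 : act 8 n35678 = n37215 := rfl
theorem F172701 : act 0 n37215 = n36108 := d7_1 D37215 (iv D36108) (iv F165719)
theorem F172702 : act 1 n37215 = n35680 := d15_1 D37215 (iv D35680) (iv F165720)
theorem F172703 : act 2 n37215 = n35885 := d22_1 D37215 (iv F172632) F172627
theorem F172704 : act 3 n37215 = n37215 := d28_1 D37215 (iv D37215) F165721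
theorem F172705 : act 4 n37215 = n35888 := d33_1 D37215 (iv F166473) (iv F165722)
theorem F172706 : act 6 n37215 = n35679 := d40_1 D37215 (iv D35679) D35678
theorem F172707 : act 7 n37215 = n37215 := d42_1 D37215 (iv D37215) F165724
theorem F172708 : act 9 n35884 = n37215 := d41_0 F172706 (iv F170827) (iv F170828)
def n37216 : Q := act 5 n35680
theorem D37216 : act 5 n35680 = n37216 := rfl
theorem F172709 : act 0 n37216 = n36353 := d4_1 D37216 (iv D36353) (iv F165731)
theorem F172710 : act 2 n37216 = n35687 := d19_1 D37216 (iv D35687) (iv F165732)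
theorem F172711 : act 3 n37216 = n37216 := d25_1 D37216 (iv D37216) F165733
theorem F172712 : act 7 n37216 = n37216 := d36_2 F165736 D37216 (iv D37216)
theorem F172713 : act 8 n37216 = n36100 := d37_2 D35680 D37216 (iv D36100) (iv D34383) (iv F157894)
def n37217 : Q := act 9 n35680
theorem D37217 : act 9 n35680 = n37217 := rfl
theorem F172714 : act 0 n37217 = n36354 := d8_1 D37217 (iv D36354) (iv F165731)
theorem F172715 : act 1 n37217 = n35884 := d16_1 D37217 F172708 F172702
theorem F172716 : act 2 n37217 = n35688 := d23_1 D37217 (iv D35688) (iv F165732)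
theorem F172717 : act 3 n37217 = n37217 := d29_1 D37217 (iv D37217) F165733
theorem F172718 : act 4 n37217 = n35887 := d34_1 D37217 (iv F166466) (iv F165734)
theorem F172719 : act 6 n37217 = n35681 := d41_1 D37217 (iv D35681) (iv F165735)
theorem F172720 : act 7 n37217 = n37217 := d43_1 D37217 (iv D37217) F165736
theorem F172721 : act 8 n37217 = n37217 := d44_1 D37217 (iv D37217) (iv D35680) F157896 D35680
def n37218 : Q := act 5 n35682
theorem D37218 : act 5 n35682 = n37218 := rfl
theorem F172722 : act 0 n37218 = n36355 := d4_1 D37218 (iv D36355) (iv F165742)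
theorem F172723 : act 2 n37218 = n36116 := d19_1 D37218 (iv D36116) (iv F165743)
theorem F172724 : act 3 n37218 = n37218 := d25_1 D37218 (iv D37218) F165744
theorem F172725 : act 7 n37218 = n37218 := d36_2 F165747 D37218 (iv D37218)
theorem F172726 : act 8 n37218 = n36111 := d37_2 D35682 D37218 (iv D36111) (iv D34397) (iv F157910)
def n37219 : Q := act 9 n35682
theorem D37219 : act 9 n35682 = n37219 := rfl
theorem F172727 : act 0 n37219 = n36356 := d8_1 D37219 (iv D36356) (iv F165742)
theorem F172728 : act 1 n37219 = n35791 := d16_1 D37219 F172658 F172652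
theorem F172729 : act 2 n37219 = n35887 := d23_1 D37219 (iv F166466) (iv F165743)
theorem F172730 : act 3 n37219 = n37219 := d29_1 D37219 (iv D37219) F165744
theorem F172731 : act 4 n37219 = n35688 := d34_1 D37219 (iv D35688) (iv F165745)
theorem F172732 : act 6 n37219 = n35684 := d41_1 D37219 (iv D35684) (iv F165746)
theorem F172733 : act 7 n37219 = n37219 := d43_1 D37219 (iv D37219) F165747
theorem F172734 : act 8 n37219 = n37219 := d44_1 D37219 (iv D37219) (iv D35682) F157912 D35682
def n37220 : Q := act 6 n35683
theorem D37220 : act 6 n35683 = n37220 := rfl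
theorem F172735 : act 0 n37220 = n36357 := d5_1 D37220 (iv D36357) (iv F165748)
theorem F172736 : act 3 n37220 = n37220 := d26_1 D37220 (iv D37220) F165749
theorem F172737 : act 8 n37220 = n35691 := d40_2 (iv F165751) D37220 (iv D35691)
def n37221 : Q := act 9 n35683
theorem D37221 : act 9 n35683 = n37221 := rfl
theorem F172738 : act 0 n37221 = n36358 := d8_1 D37221 (iv D36358) (iv F165748)
theorem F172739 : act 3 n37221 = n37221 := d29_1 D37221 (iv D37221) F165749
theorem F172740 : act 5 n37221 = n35684 := d38_1 D37221 (iv D35684) D35683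
theorem F172741 : act 7 n37221 = n35686 := d43_1 D37221 (iv D35686) (iv F165750)
def n37222 : Q := act 7 n35685
theorem D37222 : act 7 n35685 = n37222 := rfl
theorem F172742 : act 0 n37222 = n36359 := d6_1 D37222 (iv D36359) (iv F165757)
theorem F172743 : act 3 n37222 = n37222 := d27_1 D37222 (iv D37222) F165758
theorem F172744 : act 5 n37222 = n37222 := d36_1 D37222 (iv D37222) F165759
theorem F172745 : act 8 n37222 = n35693 := d42_2 (iv F165760) D37222 (iv D35693)
def n37223 : Q := act 4 n35687
theorem D37223 : act 4 n35687 = n37223 := rfl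
theorem F172746 : act 0 n37223 = n36362 := d3_1 D37223 (iv D36362) (iv F165764)
theorem F172747 : act 7 n37223 = n37223 := d32_2 F165766 D37223 (iv D37223)
def n37224 : Q := act 9 n35687
theorem D37224 : act 9 n35687 = n37224 := rfl
theorem F172748 : act 0 n37224 = n36363 := d8_1 D37224 (iv D36363) (iv F165764)
theorem F172749 : act 3 n37224 = n35689 := d29_1 D37224 (iv D35689) (iv F165765)
theorem F172750 : act 5 n37224 = n35688 := d38_1 D37224 (iv D35688) D35687
theorem F172751 : act 7 n37224 = n37224 := d43_1 D37224 (iv D37224) F165766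
def n37225 : Q := act 8 n35689
theorem D37225 : act 8 n35689 = n37225 := rfl
theorem F172752 : act 0 n37225 = n36366 := d7_1 D37225 (iv D36366) (iv F165772)
theorem F172753 : act 1 n37225 = n35913 := d15_1 D37225 (iv F172484) F172479
theorem F172754 : act 2 n37225 = n37225 := d22_1 D37225 (iv D37225) F165773
theorem F172755 : act 4 n37225 = n35914 := d33_1 D37225 (iv F172517) F172514
theorem F172756 : act 5 n37225 = n37225 := d37_1 D37225 (iv D37225) F165774 F157941 (iv F165774)
theorem F172757 : act 7 n37225 = n37225 := d42_1 D37225 (iv D37225) F165775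
theorem F172758 : act 9 n37225 = n35917 := d44_2 D35689 D37225 (iv D35917) (iv F162042) F162041
def n37226 : Q := act 4 n35690
theorem D37226 : act 4 n35690 = n37226 := rfl
theorem F172759 : act 0 n37226 = n36219 := d3_1 D37226 F167720 (iv F165776)
theorem F172760 : act 2 n37226 = n35726 := d18_1 D37226 F165915 (iv F165777)
theorem F172761 : act 5 n37226 = n35695 := d30_2 D35690 D37226 (iv D35695) (iv D33967) (iv F157957)
theorem F172762 : act 7 n37226 = n35697 := d32_2 (iv F165779) D37226 (iv D35697)
theorem F172763 : act 8 n37226 = n36084 := d33_2 (iv F165780) D37226 F167211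
def n37227 : Q := act 6 n35690
theorem D37227 : act 6 n35690 = n37227 := rfl
theorem F172764 : act 0 n37227 = n36220 := d5_1 D37227 (iv D36220) (iv F165776)
theorem F172765 : act 2 n37227 = n35731 := d20_1 D37227 (iv D35731) (iv F165777)
theorem F172766 : act 3 n37227 = n37227 := d26_1 D37227 (iv D37227) F165778
theorem F172767 : act 5 n37227 = n35691 := d35_1 D37227 (iv D35691) (iv D33963) (iv F157958) D35690
theorem F172768 : act 8 n37227 = n36112 := d40_2 (iv F165780) D37227 (iv D36112)
def n37228 : Q := act 7 n35691
theorem D37228 : act 7 n35691 = n37228 := rfl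
theorem F172769 : act 0 n37228 = n36367 := d6_1 D37228 (iv D36367) (iv F165781)
theorem F172770 : act 3 n37228 = n37228 := d27_1 D37228 (iv D37228) F165782
theorem F172771 : act 6 n37228 = n35693 := d39_1 D37228 (iv D35693) (iv D33965) (iv F157962) D35691
def n37229 : Q := act 9 n35691
theorem D37229 : act 9 n35691 = n37229 := rfl
theorem F172772 : act 0 n37229 = n36368 := d8_1 D37229 (iv D36368) (iv F165781)
theorem F172773 : act 3 n37229 = n37229 := d29_1 D37229 (iv D37229) F165782
theorem F172774 : act 6 n37229 = n35692 := d41_1 D37229 (iv D35692) D35691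
def n37230 : Q := act 8 n35692
theorem D37230 : act 8 n35692 = n37230 := rfl
theorem F172775 : act 0 n37230 = n36369 := d7_1 D37230 (iv D36369) (iv F165783)
theorem F172776 : act 1 n37230 = n36113 := d15_1 D37230 F172694 F172689
theorem F172777 : act 3 n37230 = n37230 := d28_1 D37230 (iv D37230) F165784
theorem F172778 : act 5 n37230 = n37230 := d37_1 D37230 (iv D37230) F165785 F157967 (iv F165785)
theorem F172779 : act 7 n37230 = n35694 := d42_1 D37230 (iv D35694) (iv F165786)
def n37231 : Q := act 3 n35695
theorem D37231 : act 3 n35695 = n37231 := rfl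
theorem F172780 : act 0 n37231 = n36257 := d2_1 D37231 F167828 (iv F165795)
theorem F172781 : act 2 n37231 = n35834 := d17_1 D37231 F166300 F158538 (iv F158144) (iv F165796)
theorem F172782 : act 4 n37231 = n35696 := d24_2 D35695 D37231 (iv D35696) (iv D33968) (iv F157976)
theorem F172783 : act 7 n37231 = n35698 := d27_2 (iv F165797) D37231 (iv D35698)
theorem F172784 : act 8 n37231 = n35722 := d28_2 (iv F165798) D37231 F165904
def n37232 : Q := act 3 n35697
theorem D37232 : act 3 n35697 = n37232 := rfl
theorem F172785 : act 0 n37232 = n36218 := d2_1 D37232 (iv D36218) (iv F165804)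
theorem F172786 : act 2 n37232 = n35835 := d17_1 D37232 F166303 F158541 (iv F158147) (iv F165805)
theorem F172787 : act 4 n37232 = n37232 := d24_2 D35697 D37232 (iv D37232) (iv D35697) F157986
theorem F172788 : act 5 n37232 = n35698 := d25_2 (iv F165806) D37232 (iv D35698)
theorem F172789 : act 8 n37232 = n36081 := d28_2 (iv F165807) D37232 F167204
def n37233 : Q := act 3 n35701
theorem D37233 : act 3 n35701 = n37233 := rfl
theorem F172790 : act 1 n37233 = n35703 := d10_1 D37233 (iv D35703) (iv F165825)
theorem F172791 : act 4 n37233 = n37233 := d24_2 D35701 D37233 (iv D37233) (iv D35701) F158030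
theorem F172792 : act 5 n37233 = n35966 := d25_2 (iv F165827) D37233 (iv D35966)
theorem F172793 : act 9 n37233 = n36244 := d29_2 F171288 D37233 F171289
theorem F172794 : act 2 n36252 = n37233 := d23_3 F172793 F167785 D36252
def n37234 : Q := act 7 n35701
theorem D37234 : act 7 n35701 = n37234 := rfl
theorem F172795 : act 1 n37234 = n35704 := d14_1 D37234 (iv D35704) (iv F165825)
theorem F172796 : act 2 n37234 = n35720 := d21_1 D37234 (iv D35720) (iv F165826)
theorem F172797 : act 4 n37234 = n35702 := d32_1 D37234 (iv D35702) D35701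
theorem F172798 : act 5 n37234 = n35967 := d36_1 D37234 (iv D35967) (iv F165827)
def n37235 : Q := act 6 n35702
theorem D37235 : act 6 n35702 = n37235 := rfl
theorem F172799 : act 1 n37235 = n35706 := d13_1 D37235 (iv D35706) (iv F165828)
theorem F172800 : act 2 n37235 = n35721 := d20_1 D37235 (iv D35721) (iv F165829)
theorem F172801 : act 3 n37235 = n37235 := d26_1 D37235 (iv D37235) F165830
def n37236 : Q := act 7 n35703
theorem D37236 : act 7 n35703 = n37236 := rfl
theorem F172802 : act 2 n37236 = n35775 := d21_1 D37236 (iv D35775) (iv F165832)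
theorem F172803 : act 3 n37236 = n35704 := d27_1 D37236 (iv D35704) D35703
theorem F172804 : act 4 n37236 = n37236 := d32_1 D37236 (iv D37236) F165833
theorem F172805 : act 5 n37236 = n35971 := d36_1 D37236 (iv D35971) (iv F165834)
def n37237 : Q := act 6 n35704
theorem D37237 : act 6 n35704 = n37237 := rfl
theorem F172806 : act 2 n37237 = n35708 := d20_1 D37237 (iv D35708) (iv F165835)
theorem F172807 : act 4 n37237 = n35706 := d31_1 D37237 (iv D35706) (iv F165836)
def n37238 : Q := act 8 n35704
theorem D37238 : act 8 n35704 = n37238 := rfl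
theorem F172808 : act 2 n37238 = n35709 := d22_1 D37238 (iv D35709) (iv F165835)
theorem F172809 : act 4 n37238 = n35707 := d33_1 D37238 (iv D35707) (iv F165836)
theorem F172810 : act 7 n37238 = n35705 := d42_1 D37238 (iv D35705) D35704
def n37239 : Q := act 8 n35706
theorem D37239 : act 8 n35706 = n37239 := rfl
theorem F172811 : act 2 n37239 = n35711 := d22_1 D37239 (iv D35711) (iv F165840)
theorem F172812 : act 3 n37239 = n37239 := d28_1 D37239 (iv D37239) F165841
theorem F172813 : act 6 n37239 = n35707 := d40_1 D37239 (iv D35707) D35706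
def n37240 : Q := act 5 n35708
theorem D37240 : act 5 n35708 = n37240 := rfl
theorem F172814 : act 1 n37240 = n35724 := d12_1 D37240 (iv D35724) (iv F165846)
theorem F172815 : act 3 n37240 = n35777 := d25_1 D37240 (iv D35777) (iv F165847)
theorem F172816 : act 6 n37240 = n35975 := d35_2 D35708 D37240 (iv D35975) (iv D34264) (iv F158047)
def n37241 : Q := act 8 n35708
theorem D37241 : act 8 n35708 = n37241 := rfl
theorem F172817 : act 1 n37241 = n35725 := d15_1 D37241 (iv D35725) (iv F165846)
theorem F172818 : act 3 n37241 = n35778 := d28_1 D37241 (iv D35778) (iv F165847)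
theorem F172819 : act 4 n37241 = n35711 := d33_1 D37241 (iv D35711) (iv F165848)
theorem F172820 : act 6 n37241 = n35709 := d40_1 D37241 (iv D35709) D35708
def n37242 : Q := act 9 n35709
theorem D37242 : act 9 n35709 = n37242 := rfl
theorem F172821 : act 1 n37242 = n35727 := d16_1 D37242 (iv D35727) (iv F165849)
theorem F172822 : act 3 n37242 = n35779 := d29_1 D37242 (iv D35779) (iv F165850)
theorem F172823 : act 4 n37242 = n35712 := d34_1 D37242 (iv D35712) (iv F165851)
theorem F172824 : act 7 n37242 = n35710 := d43_1 D37242 (iv D35710) (iv F165852)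
def n37243 : Q := act 9 n35711
theorem D37243 : act 9 n35711 = n37243 := rfl
theorem F172825 : act 1 n37243 = n35730 := d16_1 D37243 (iv D35730) (iv F165856)
theorem F172826 : act 3 n37243 = n35713 := d29_1 D37243 (iv D35713) (iv F165857)
theorem F172827 : act 6 n37243 = n35712 := d41_1 D37243 (iv D35712) (iv F165858)
def n37244 : Q := act 5 n35717
theorem D37244 : act 5 n35717 = n37244 := rfl
theorem F172828 : act 0 n37244 = n36192 := d4_1 D37244 (iv D36192) (iv F165888)
theorem F172829 : act 3 n37244 = n35820 := d25_1 D37244 (iv D35820) (iv F165889)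
theorem F172830 : act 4 n37244 = n36186 := d30_1 D37244 (iv D36186) F160028 (iv F158120) (iv F165890)
theorem F172831 : act 7 n37244 = n35724 := d36_2 (iv F165891) D37244 (iv D35724)
def n37245 : Q := act 5 n35718
theorem D37245 : act 5 n35718 = n37245 := rfl
theorem F172832 : act 0 n37245 = n36188 := d4_1 D37245 (iv D36188) (iv F165892)
theorem F172833 : act 4 n37245 = n35724 := d30_1 D37245 (iv D35724) F158143 (iv F158127) (iv F165893)
theorem F172834 : act 6 n37245 = n36038 := d35_2 D35718 D37245 (iv D36038) (iv D34329) (iv F158124)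
theorem F172835 : act 7 n37245 = n36186 := d36_2 (iv F165894) D37245 (iv D36186)
def n37246 : Q := act 2 n35719
theorem D37246 : act 2 n35719 = n37246 := rfl
theorem F172836 : act 1 n37246 = n35828 := d9_1 D37246 (iv D35828) F158516 (iv F158134) (iv F165895)
theorem F172837 : act 3 n37246 = n36252 := d17_2 D35719 D37246 F172794 (iv D37233) F165826
theorem F172838 : act 4 n37246 = n35739 := d18_2 (iv F165896) D37246 (iv D35739)
theorem F172839 : act 5 n37246 = n35946 := d19_2 (iv F165897) D37246 F166705
theorem F172840 : act 9 n37246 = n35945 := d23_2 F171887 D37246 (iv F171883)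
def n37247 : Q := act 7 n35719
theorem D37247 : act 7 n35719 = n37247 := rfl
theorem F172841 : act 1 n37247 = n35722 := d14_1 D37247 (iv D35722) (iv F165895)
theorem F172842 : act 3 n37247 = n35720 := d27_1 D37247 (iv D35720) D35719
theorem F172843 : act 4 n37247 = n35740 := d32_1 D37247 (iv D35740) (iv F165896)
theorem F172844 : act 5 n37247 = n36073 := d36_1 D37247 (iv D36073) (iv F165897)
def n37248 : Q := act 6 n35720
theorem D37248 : act 6 n35720 = n37248 := rfl
theorem F172845 : act 1 n37248 = n35723 := d13_1 D37248 (iv D35723) (iv F165898)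
theorem F172846 : act 4 n37248 = n35721 := d31_1 D37248 (iv D35721) (iv F165899)
def n37249 : Q := act 6 n35722
theorem D37249 : act 6 n35722 = n37249 := rfl
theorem F172847 : act 2 n37249 = n35833 := d20_1 D37249 (iv D35833) (iv F165903)
theorem F172848 : act 3 n37249 = n35723 := d26_1 D37249 (iv D35723) (iv F165904)
theorem F172849 : act 4 n37249 = n35742 := d31_1 D37249 (iv D35742) (iv F165905)
def n37250 : Q := act 5 n35723
theorem D37250 : act 5 n35723 = n37250 := rfl
theorem F172850 : act 2 n37250 = n35724 := d19_1 D37250 (iv D35724) (iv F165907)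
theorem F172851 : act 6 n37250 = n36082 := d35_2 D35723 D37250 (iv D36082) (iv D34367) (iv F158139)
def n37251 : Q := act 8 n35724
theorem D37251 : act 8 n35724 = n37251 := rfl
theorem F172852 : act 3 n37251 = n35844 := d28_1 D37251 (iv D35844) (iv F165909)
theorem F172853 : act 6 n37251 = n36089 := d40_1 D37251 (iv D36089) (iv F165910)
def n37252 : Q := act 5 n35725
theorem D37252 : act 5 n35725 = n37252 := rfl
theorem F172854 : act 3 n37252 = n35845 := d25_1 D37252 (iv D35845) (iv F165911)
def n37253 : Q := act 9 n35725
theorem D37253 : act 9 n35725 = n37253 := rfl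
theorem F172855 : act 3 n37253 = n35846 := d29_1 D37253 (iv D35846) (iv F165911)
theorem F172856 : act 4 n37253 = n35730 := d34_1 D37253 (iv D35730) (iv F165912)
theorem F172857 : act 6 n37253 = n35727 := d41_1 D37253 (iv D35727) (iv F165913)
def n37254 : Q := act 6 n35726
theorem D37254 : act 6 n35726 = n37254 := rfl
theorem F172858 : act 3 n37254 = n35847 := d26_1 D37254 (iv D35847) (iv F165914)
theorem F172859 : act 4 n37254 = n35731 := d31_1 D37254 (iv D35731) (iv F165915)
theorem F172860 : act 8 n37254 = n36092 := d40_2 (iv F165917) D37254 (iv D36092)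
def n37255 : Q := act 9 n35726
theorem D37255 : act 9 n35726 = n37255 := rfl
theorem F172861 : act 3 n37255 = n35848 := d29_1 D37255 (iv D35848) (iv F165914)
theorem F172862 : act 4 n37255 = n35732 := d34_1 D37255 (iv D35732) (iv F165915)
theorem F172863 : act 5 n37255 = n35727 := d38_1 D37255 (iv D35727) D35726
theorem F172864 : act 7 n37255 = n35729 := d43_1 D37255 (iv D35729) (iv F165916)
def n37256 : Q := act 7 n35728
theorem D37256 : act 7 n35728 = n37256 := rfl
theorem F172865 : act 3 n37256 = n35849 := d27_1 D37256 (iv D35849) (iv F165921)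
theorem F172866 : act 4 n37256 = n35733 := d32_1 D37256 (iv D35733) (iv F165922)
theorem F172867 : act 8 n37256 = n36093 := d42_2 (iv F165923) D37256 (iv D36093)
def n37257 : Q := act 7 n35731
theorem D37257 : act 7 n35731 = n37257 := rfl
theorem F172868 : act 3 n37257 = n35734 := d27_1 D37257 (iv D35734) (iv F165929)
theorem F172869 : act 6 n37257 = n35733 := d39_1 D37257 (iv D35733) (iv D34017) (iv F158161) D35731
theorem F172870 : act 8 n37257 = n36119 := d42_2 (iv F165930) D37257 (iv D36119)
def n37258 : Q := act 9 n35731
theorem D37258 : act 9 n35731 = n37258 := rfl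
theorem F172871 : act 3 n37258 = n35735 := d29_1 D37258 (iv D35735) (iv F165929)
theorem F172872 : act 6 n37258 = n35732 := d41_1 D37258 (iv D35732) D35731
def n37259 : Q := act 9 n35734
theorem D37259 : act 9 n35734 = n37259 := rfl
theorem F172873 : act 0 n37259 = n36370 := d8_1 D37259 F168251 F168244
theorem F172874 : act 1 n37259 = n36371 := d16_1 D37259 (iv F172213) F172207
theorem F172875 : act 2 n37259 = n37259 := d23_1 D37259 (iv D37259) F165936
theorem F172876 : act 4 n37259 = n35883 := d34_1 D37259 (iv D35883) (iv F165937)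
theorem F172877 : act 6 n37259 = n35736 := d41_1 D37259 (iv D35736) (iv F165938)
theorem F172878 : act 7 n37259 = n35735 := d43_1 D37259 (iv D35735) D35734
def n37260 : Q := act 7 n35739
theorem D37260 : act 7 n35739 = n37260 := rfl
theorem F172879 : act 1 n37260 = n35899 := d14_1 D37260 (iv D35899) (iv F165961)
theorem F172880 : act 2 n37260 = n35740 := d21_1 D37260 (iv D35740) D35739
theorem F172881 : act 3 n37260 = n37260 := d27_1 D37260 (iv D37260) F165962
theorem F172882 : act 5 n37260 = n35745 := d36_1 D37260 (iv D35745) (iv F165963)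
theorem F172883 : act 9 n37260 = n35980 := d43_2 (iv F165964) D37260 F166862
def n37261 : Q := act 6 n35740
theorem D37261 : act 6 n35740 = n37261 := rfl
theorem F172884 : act 1 n37261 = n35742 := d13_1 D37261 (iv D35742) (iv F165965)
theorem F172885 : act 3 n37261 = n35741 := d26_1 D37261 (iv D35741) (iv F165966)
def n37262 : Q := act 5 n35741
theorem D37262 : act 5 n35741 = n37262 := rfl
theorem F172886 : act 0 n37262 = n35782 := d4_1 D37262 F172266 F172260
theorem F172887 : act 1 n37262 = n35743 := d12_1 D37262 (iv D35743) (iv F165968)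
theorem F172888 : act 2 n37262 = n37262 := d19_1 D37262 (iv D37262) F165969
theorem F172889 : act 4 n37262 = n35755 := d30_1 D37262 (iv D35755) (iv F163974) (iv F163977) (iv F165970)
theorem F172890 : act 6 n37262 = n35747 := d35_2 D35741 D37262 (iv D35747) (iv D34037) (iv F158207)
def n37263 : Q := act 5 n35742
theorem D37263 : act 5 n35742 = n37263 := rfl
theorem F172891 : act 2 n37263 = n35902 := d19_1 D37263 (iv D35902) (iv F165971)
theorem F172892 : act 3 n37263 = n35743 := d25_1 D37263 (iv D35743) (iv F165972)
theorem F172893 : act 6 n37263 = n35748 := d35_2 D35742 D37263 (iv D35748) (iv D34038) (iv F158212)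
def n37264 : Q := act 8 n35743
theorem D37264 : act 8 n35743 = n37264 := rfl
theorem F172894 : act 0 n37264 = n36203 := d7_1 D37264 F168280 F168273
theorem F172895 : act 2 n37264 = n35744 := d22_1 D37264 (iv D35744) (iv F165973)
theorem F172896 : act 4 n37264 = n35907 := d33_1 D37264 (iv F168373) F168370
theorem F172897 : act 6 n37264 = n35749 := d40_1 D37264 (iv D35749) (iv F165974)
theorem F172898 : act 9 n35906 = n37264 := d41_0 F172897 (iv F166006) (iv F166536)
def n37265 : Q := act 6 n35745
theorem D37265 : act 6 n35745 = n37265 := rfl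
theorem F172899 : act 0 n37265 = n35791 := d5_1 D37265 (iv F172669) F172664
theorem F172900 : act 1 n37265 = n35915 := d13_1 D37265 (iv D35915) (iv F165981)
theorem F172901 : act 2 n37265 = n35746 := d20_1 D37265 (iv D35746) (iv F165982)
theorem F172902 : act 3 n37265 = n37265 := d26_1 D37265 (iv D37265) F165983
theorem F172903 : act 4 n37265 = n35983 := d31_1 D37265 F166874 (iv F165984)
theorem F172904 : act 7 n37265 = n37265 := d39_2 D35745 D37265 (iv D37265) (iv D35745) F158237
theorem F172905 : act 8 n37265 = n37265 := d40_2 F165985 D37265 (iv D37265)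
theorem F172906 : act 9 n37265 = n35979 := d41_2 (iv F165986) D37265 F166858
def n37266 : Q := act 5 n35746
theorem D37266 : act 5 n35746 = n37266 := rfl
theorem F172907 : act 0 n37266 = n35786 := d4_1 D37266 F166131 (iv F165987)
theorem F172908 : act 1 n37266 = n35748 := d12_1 D37266 (iv D35748) (iv F165988)
theorem F172909 : act 3 n37266 = n35747 := d25_1 D37266 (iv D35747) (iv F165989)
theorem F172910 : act 7 n37266 = n37266 := d36_2 F165991 D37266 (iv D37266)
def n37267 : Q := act 4 n35748
theorem D37267 : act 4 n35748 = n37267 := rfl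
theorem F172911 : act 2 n37267 = n35918 := d18_1 D37267 (iv D35918) (iv F165998)
theorem F172912 : act 5 n37267 = n36183 := d30_2 D35748 D37267 (iv D36183) (iv D34511) (iv F158252)
theorem F172913 : act 7 n37267 = n37267 := d32_2 F166000 D37267 (iv D37267)
def n37268 : Q := act 8 n35748
theorem D37268 : act 8 n35748 = n37268 := rfl
theorem F172914 : act 0 n37268 = n36341 := d7_1 D37268 F168287 F168281
theorem F172915 : act 2 n37268 = n35919 := d22_1 D37268 (iv D35919) (iv F165998)
theorem F172916 : act 3 n37268 = n35749 := d28_1 D37268 (iv D35749) (iv F165999)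
theorem F172917 : act 5 n37268 = n37268 := d37_1 D37268 (iv D37268) (iv D35748) F158254 D35748
theorem F172918 : act 7 n37268 = n37268 := d42_1 D37268 (iv D37268) F166000
theorem F172919 : act 9 n35912 = n37268 := d29_0 F172916 (iv F166006) D35912
def n37269 : Q := act 5 n35750
theorem D37269 : act 5 n35750 = n37269 := rfl
theorem F172920 : act 0 n37269 = n35777 := d4_1 D37269 (iv D35777) (iv F166007)
theorem F172921 : act 6 n37269 = n36186 := d35_2 D35750 D37269 (iv D36186) (iv D34515) (iv F158266)
def n37270 : Q := act 8 n35750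
theorem D37270 : act 8 n35750 = n37270 := rfl
theorem F172922 : act 0 n37270 = n35778 := d7_1 D37270 (iv D35778) (iv F166007)
theorem F172923 : act 2 n37270 = n36292 := d22_1 D37270 (iv F171972) F171970
theorem F172924 : act 4 n37270 = n35753 := d33_1 D37270 (iv D35753) (iv F166008)
theorem F172925 : act 6 n37270 = n35751 := d40_1 D37270 (iv D35751) D35750
def n37271 : Q := act 9 n35751
theorem D37271 : act 9 n35751 = n37271 := rfl
theorem F172926 : act 0 n37271 = n35779 := d8_1 D37271 (iv D35779) (iv F166009)
theorem F172927 : act 2 n37271 = n36293 := d23_1 D37271 (iv D36293) (iv F166010)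
theorem F172928 : act 4 n37271 = n35754 := d34_1 D37271 (iv D35754) (iv F166011)
theorem F172929 : act 5 n37271 = n36286 := d38_1 D37271 (iv D36286) (iv F166012)
theorem F172930 : act 7 n37271 = n35752 := d43_1 D37271 (iv D35752) (iv F166013)
def n37272 : Q := act 5 n35753
theorem D37272 : act 5 n35753 = n37272 := rfl
theorem F172931 : act 0 n37272 = n35780 := d4_1 D37272 (iv D35780) (iv F166018)
theorem F172932 : act 2 n37272 = n36346 := d19_1 D37272 F168044 (iv F166019)
theorem F172933 : act 3 n37272 = n35755 := d25_1 D37272 (iv D35755) (iv F166020)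
theorem F172934 : act 6 n37272 = n35757 := d35_2 (iv F166021) D37272 (iv D35757) F158293 (iv F158276)
def n37273 : Q := act 9 n35753
theorem D37273 : act 9 n35753 = n37273 := rfl
theorem F172935 : act 0 n37273 = n35781 := d8_1 D37273 (iv D35781) (iv F166018)
theorem F172936 : act 2 n37273 = n36349 := d23_1 D37273 (iv D36349) (iv F166019)
theorem F172937 : act 3 n37273 = n35756 := d29_1 D37273 (iv D35756) (iv F166020)
theorem F172938 : act 6 n37273 = n35754 := d41_1 D37273 (iv D35754) (iv F166021)
def n37274 : Q := act 9 n35755
theorem D37274 : act 9 n35755 = n37274 := rfl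
theorem F172939 : act 0 n37274 = n35783 := d8_1 D37274 (iv D35783) (iv F166027)
theorem F172940 : act 2 n37274 = n37274 := d23_1 D37274 (iv D37274) F166028
theorem F172941 : act 5 n37274 = n35756 := d38_1 D37274 (iv D35756) D35755
theorem F172942 : act 6 n37274 = n35759 := d41_1 D37274 (iv D35759) (iv F166029)
theorem F172943 : act 8 n37274 = n35882 := d44_1 D37274 (iv D35882) (iv F166431) (iv F171072) F171071
def n37275 : Q := act 4 n35757
theorem D37275 : act 4 n35757 = n37275 := rfl
theorem F172944 : act 0 n37275 = n35784 := d3_1 D37275 (iv D35784) (iv F166033)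
theorem F172945 : act 2 n37275 = n36345 := d18_1 D37275 (iv D36345) (iv F166034)
theorem F172946 : act 5 n37275 = n36342 := d30_2 D35757 D37275 (iv D36342) (iv D34708) (iv F158292)
theorem F172947 : act 7 n37275 = n37275 := d32_2 F166036 D37275 (iv D37275)
def n37276 : Q := act 9 n35757
theorem D37276 : act 9 n35757 = n37276 := rfl
theorem F172948 : act 0 n37276 = n35785 := d8_1 D37276 (iv D35785) (iv F166033)
theorem F172949 : act 2 n37276 = n36347 := d23_1 D37276 (iv D36347) (iv F166034)
theorem F172950 : act 3 n37276 = n35759 := d29_1 D37276 (iv D35759) (iv F166035)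
theorem F172951 : act 5 n37276 = n35758 := d38_1 D37276 (iv D35758) D35757
theorem F172952 : act 7 n37276 = n37276 := d43_1 D37276 (iv D37276) F166036
theorem F172953 : act 8 n37276 = n35867 := d44_1 D37276 (iv D35867) (iv F166360) (iv F172533) F172532
def n37277 : Q := act 7 n35760
theorem D37277 : act 7 n35760 = n37277 := rfl
theorem F172954 : act 1 n37277 = n35763 := d14_1 D37277 (iv D35763) (iv F166049)
theorem F172955 : act 2 n37277 = n35811 := d21_1 D37277 (iv D35811) (iv F166050)
theorem F172956 : act 4 n37277 = n35761 := d32_1 D37277 (iv D35761) D35760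
def n37278 : Q := act 6 n35761
theorem D37278 : act 6 n35761 = n37278 := rfl
theorem F172957 : act 1 n37278 = n35764 := d13_1 D37278 (iv D35764) (iv F166052)
theorem F172958 : act 2 n37278 = n35813 := d20_1 D37278 (iv D35813) (iv F166053)
theorem F172959 : act 3 n37278 = n37278 := d26_1 D37278 (iv D37278) F166054
theorem F172960 : act 5 n37278 = n36316 := d35_1 D37278 F167960 F160413 (iv F158326) (iv F166055)
theorem F172961 : act 7 n37278 = n35774 := d39_2 D35761 D37278 (iv D35774) (iv D34065) (iv F158322)
def n37279 : Q := act 7 n35762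
theorem D37279 : act 7 n35762 = n37279 := rfl
theorem F172962 : act 3 n37279 = n35763 := d27_1 D37279 (iv D35763) D35762
theorem F172963 : act 4 n37279 = n37279 := d32_1 D37279 (iv D37279) F166056
def n37280 : Q := act 6 n35763
theorem D37280 : act 6 n35763 = n37280 := rfl
theorem F172964 : act 2 n37280 = n35765 := d20_1 D37280 (iv D35765) (iv F166058)
theorem F172965 : act 4 n37280 = n35764 := d31_1 D37280 (iv D35764) (iv F166059)
theorem F172966 : act 7 n37280 = n35776 := d39_2 D35763 D37280 (iv D35776) (iv D34067) (iv F158329)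
def n37281 : Q := act 5 n35765
theorem D37281 : act 5 n35765 = n37281 := rfl
theorem F172967 : act 1 n37281 = n35820 := d12_1 D37281 (iv D35820) (iv F166063)
theorem F172968 : act 7 n37281 = n35777 := d36_2 (iv F166065) D37281 (iv D35777)
def n37282 : Q := act 8 n35765
theorem D37282 : act 8 n35765 = n37282 := rfl
theorem F172969 : act 1 n37282 = n35821 := d15_1 D37282 (iv D35821) (iv F166063)
theorem F172970 : act 4 n37282 = n35769 := d33_1 D37282 (iv D35769) (iv F166064)
theorem F172971 : act 6 n37282 = n35766 := d40_1 D37282 (iv D35766) D35765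
theorem F172972 : act 7 n37282 = n35778 := d42_1 D37282 (iv D35778) (iv F166065)
def n37283 : Q := act 5 n35766
theorem D37283 : act 5 n35766 = n37283 := rfl
theorem F172973 : act 1 n37283 = n35822 := d12_1 D37283 (iv D35822) (iv F166066)
theorem F172974 : act 4 n37283 = n37283 := d30_1 D37283 (iv D37283) F166067 F158343 (iv F166067)
theorem F172975 : act 7 n37283 = n35767 := d36_2 (iv F166068) D37283 (iv D35767)
def n37284 : Q := act 9 n35766
theorem D37284 : act 9 n35766 = n37284 := rfl
theorem F172976 : act 1 n37284 = n35823 := d16_1 D37284 (iv D35823) (iv F166066)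
theorem F172977 : act 4 n37284 = n35770 := d34_1 D37284 (iv D35770) (iv F166067)
theorem F172978 : act 7 n37284 = n35768 := d43_1 D37284 (iv D35768) (iv F166068)
def n37285 : Q := act 5 n35769
theorem D37285 : act 5 n35769 = n37285 := rfl
theorem F172979 : act 1 n37285 = n35825 := d12_1 D37285 (iv D35825) (iv F166074)
theorem F172980 : act 3 n37285 = n35771 := d25_1 D37285 (iv D35771) (iv F166075)
theorem F172981 : act 6 n37285 = n37285 := d35_2 (iv F166076) D37285 (iv D37285) F166076 F158343
theorem F172982 : act 7 n37285 = n35780 := d36_2 (iv F166077) D37285 (iv D35780)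
def n37286 : Q := act 9 n35769
theorem D37286 : act 9 n35769 = n37286 := rfl
theorem F172983 : act 1 n37286 = n35826 := d16_1 D37286 (iv D35826) (iv F166074)
theorem F172984 : act 3 n37286 = n35772 := d29_1 D37286 (iv D35772) (iv F166075)
theorem F172985 : act 6 n37286 = n35770 := d41_1 D37286 (iv D35770) (iv F166076)
theorem F172986 : act 7 n37286 = n35781 := d43_1 D37286 (iv D35781) (iv F166077)
def n37287 : Q := act 9 n35771
theorem D37287 : act 9 n35771 = n37287 := rfl
theorem F172987 : act 1 n37287 = n35827 := d16_1 D37287 (iv D35827) (iv F166082)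
theorem F172988 : act 2 n37287 = n37287 := d23_1 D37287 (iv D37287) F166083
theorem F172989 : act 5 n37287 = n35772 := d38_1 D37287 (iv D35772) D35771
theorem F172990 : act 6 n37287 = n37287 := d41_1 D37287 (iv D37287) F166084
theorem F172991 : act 7 n37287 = n35783 := d43_1 D37287 (iv D35783) (iv F166085)
def n37288 : Q := act 6 n35773
theorem D37288 : act 6 n35773 = n37288 := rfl
theorem F172992 : act 1 n37288 = n35776 := d13_1 D37288 (iv D35776) (iv F166090)
theorem F172993 : act 2 n37288 = n35830 := d20_1 D37288 (iv D35830) (iv F166091)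
theorem F172994 : act 4 n37288 = n35774 := d31_1 D37288 (iv D35774) (iv F166092)
def n37289 : Q := act 6 n35775
theorem D37289 : act 6 n35775 = n37289 := rfl
theorem F172995 : act 3 n37289 = n35776 := d26_1 D37289 (iv D35776) (iv F166098)
theorem F172996 : act 4 n37289 = n37289 := d31_1 D37289 (iv D37289) F166099
def n37290 : Q := act 5 n35776
theorem D37290 : act 5 n35776 = n37290 := rfl
theorem F172997 : act 2 n37290 = n35777 := d19_1 D37290 (iv D35777) (iv F166101)
theorem F172998 : act 6 n37290 = n36205 := d35_2 D35776 D37290 (iv D36205) (iv D34539) (iv F158368)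
def n37291 : Q := act 8 n35777
theorem D37291 : act 8 n35777 = n37291 := rfl
theorem F172999 : act 1 n37291 = n35844 := d15_1 D37291 (iv D35844) (iv F166103)
theorem F173000 : act 6 n37291 = n36206 := d40_1 D37291 (iv D36206) (iv F166104)
def n37292 : Q := act 5 n35778
theorem D37292 : act 5 n35778 = n37292 := rfl
theorem F173001 : act 1 n37292 = n35845 := d12_1 D37292 (iv D35845) (iv F166105)
def n37293 : Q := act 9 n35778
theorem D37293 : act 9 n35778 = n37293 := rfl
theorem F173002 : act 1 n37293 = n35846 := d16_1 D37293 (iv D35846) (iv F166105)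
theorem F173003 : act 4 n37293 = n35781 := d34_1 D37293 (iv D35781) (iv F166106)
theorem F173004 : act 6 n37293 = n35779 := d41_1 D37293 (iv D35779) (iv F166107)
def n37294 : Q := act 4 n35780
theorem D37294 : act 4 n35780 = n37294 := rfl
theorem F173005 : act 1 n37294 = n35851 := d11_1 D37294 (iv D35851) (iv F166111)
theorem F173006 : act 6 n37294 = n35784 := d31_2 (iv F166113) D37294 (iv D35784)
def n37295 : Q := act 9 n35780
theorem D37295 : act 9 n35780 = n37295 := rfl
theorem F173007 : act 1 n37295 = n35852 := d16_1 D37295 (iv D35852) (iv F166111)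
theorem F173008 : act 3 n37295 = n35783 := d29_1 D37295 (iv D35783) (iv F166112)
theorem F173009 : act 5 n37295 = n35781 := d38_1 D37295 (iv D35781) D35780
theorem F173010 : act 6 n37295 = n35785 := d41_1 D37295 (iv D35785) (iv F166113)
def n37296 : Q := act 3 n35782
theorem D37296 : act 3 n35782 = n37296 := rfl
theorem F173011 : act 1 n37296 = n35853 := d10_1 D37296 (iv D35853) (iv F166117)
theorem F173012 : act 6 n37296 = n35786 := d26_2 (iv F166119) D37296 (iv D35786)
def n37297 : Q := act 9 n35782
theorem D37297 : act 9 n35782 = n37297 := rfl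
theorem F173013 : act 1 n37297 = n35854 := d16_1 D37297 (iv D35854) (iv F166117)
theorem F173014 : act 2 n37297 = n37297 := d23_1 D37297 (iv D37297) F166118
theorem F173015 : act 4 n37297 = n35783 := d34_1 D37297 (iv D35783) D35782
theorem F173016 : act 6 n37297 = n35787 := d41_1 D37297 (iv D35787) (iv F166119)
def n37298 : Q := act 3 n35784
theorem D37298 : act 3 n35784 = n37298 := rfl
theorem F173017 : act 1 n37298 = n35871 := d10_1 D37298 (iv D35871) (iv F166124)
theorem F173018 : act 4 n37298 = n35786 := d24_2 D35784 D37298 (iv D35786) (iv D34078) (iv F158392)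
theorem F173019 : act 7 n37298 = n37298 := d27_2 F166125 D37298 (iv D37298)
def n37299 : Q := act 9 n35784
theorem D37299 : act 9 n35784 = n37299 := rfl
theorem F173020 : act 1 n37299 = n35872 := d16_1 D37299 (iv D35872) (iv F166124)
theorem F173021 : act 4 n37299 = n35785 := d34_1 D37299 (iv D35785) D35784
theorem F173022 : act 7 n37299 = n37299 := d43_1 D37299 (iv D37299) F166125
def n37300 : Q := act 2 n35786
theorem D37300 : act 2 n35786 = n37300 := rfl
theorem F173023 : act 3 n37300 = n37300 := d17_2 D35786 D37300 (iv D37300) (iv D35786) F158400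
theorem F173024 : act 5 n37300 = n35791 := d19_2 (iv F166131) D37300 (iv D35791)
theorem F173025 : act 7 n37300 = n37300 := d21_2 F166132 D37300 (iv D37300)
def n37301 : Q := act 9 n35786
theorem D37301 : act 9 n35786 = n37301 := rfl
theorem F173026 : act 1 n37301 = n35875 := d16_1 D37301 (iv D35875) (iv F166130)
theorem F173027 : act 3 n37301 = n35787 := d29_1 D37301 (iv D35787) D35786
theorem F173028 : act 5 n37301 = n35792 := d38_1 D37301 (iv D35792) (iv F166131)
theorem F173029 : act 7 n37301 = n37301 := d43_1 D37301 (iv D37301) F166132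
def n37302 : Q := act 3 n35794
theorem D37302 : act 3 n35794 = n37302 := rfl
theorem F173030 : act 1 n37302 = n35796 := d10_1 D37302 (iv D35796) (iv F166173)
theorem F173031 : act 4 n37302 = n37302 := d24_2 D35794 D37302 (iv D37302) (iv D35794) F158433
theorem F173032 : act 5 n37302 = n35810 := d25_2 (iv F166174) D37302 (iv D35810)
theorem F173033 : act 6 n37302 = n36218 := d26_2 (iv F166175) D37302 (iv D36218)
theorem F173034 : act 9 n37302 = n36215 := d29_2 F169106 D37302 F169107
def n37303 : Q := act 7 n35794
theorem D37303 : act 7 n35794 = n37303 := rfl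
theorem F173035 : act 1 n37303 = n35797 := d14_1 D37303 (iv D35797) (iv F166173)
theorem F173036 : act 4 n37303 = n35795 := d32_1 D37303 (iv D35795) D35794
theorem F173037 : act 5 n37303 = n35811 := d36_1 D37303 (iv D35811) (iv F166174)
def n37304 : Q := act 6 n35795
theorem D37304 : act 6 n35795 = n37304 := rfl
theorem F173038 : act 1 n37304 = n35799 := d13_1 D37304 (iv D35799) (iv F166176)
theorem F173039 : act 3 n37304 = n37304 := d26_1 D37304 (iv D37304) F166177
theorem F173040 : act 5 n37304 = n36367 := d35_1 D37304 F168102 F160685 (iv F158438) (iv F166178)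
theorem F173041 : act 7 n37304 = n36220 := d39_2 D35795 D37304 (iv D36220) (iv D34552) (iv F158434)
def n37305 : Q := act 7 n35796
theorem D37305 : act 7 n35796 = n37305 := rfl
theorem F173042 : act 3 n37305 = n35797 := d27_1 D37305 (iv D35797) D35796
theorem F173043 : act 4 n37305 = n37305 := d32_1 D37305 (iv D37305) F166179
theorem F173044 : act 5 n37305 = n35815 := d36_1 D37305 (iv D35815) (iv F166180)
def n37306 : Q := act 8 n35796
theorem D37306 : act 8 n35796 = n37306 := rfl
theorem F173045 : act 3 n37306 = n35798 := d28_1 D37306 (iv D35798) D35796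
theorem F173046 : act 4 n37306 = n37306 := d33_1 D37306 (iv D37306) F166179
theorem F173047 : act 6 n37306 = n36222 := d40_1 D37306 (iv D36222) (iv F166181)
def n37307 : Q := act 6 n35797
theorem D37307 : act 6 n35797 = n37307 := rfl
theorem F173048 : act 2 n37307 = n35802 := d20_1 D37307 (iv D35802) (iv F166182)
theorem F173049 : act 4 n37307 = n35799 := d31_1 D37307 (iv D35799) (iv F166183)
theorem F173050 : act 7 n37307 = n36223 := d39_2 D35797 D37307 (iv D36223) (iv D34554) (iv F158442)
def n37308 : Q := act 8 n35797
theorem D37308 : act 8 n35797 = n37308 := rfl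
theorem F173051 : act 2 n37308 = n35803 := d22_1 D37308 (iv D35803) (iv F166182)
theorem F173052 : act 4 n37308 = n35800 := d33_1 D37308 (iv D35800) (iv F166183)
theorem F173053 : act 7 n37308 = n35798 := d42_1 D37308 (iv D35798) D35797
def n37309 : Q := act 5 n35798
theorem D37309 : act 5 n35798 = n37309 := rfl
theorem F173054 : act 2 n37309 = n35804 := d19_1 D37309 (iv D35804) (iv F166185)
theorem F173055 : act 4 n37309 = n37309 := d30_1 D37309 (iv D37309) F166186 F158448 (iv F166186)
theorem F173056 : act 8 n37309 = n35818 := d37_2 D35798 D37309 (iv D35818) (iv D34102) (iv F158441)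
def n37310 : Q := act 9 n35798
theorem D37310 : act 9 n35798 = n37310 := rfl
theorem F173057 : act 2 n37310 = n35805 := d23_1 D37310 (iv D35805) (iv F166185)
theorem F173058 : act 4 n37310 = n35801 := d34_1 D37310 (iv D35801) (iv F166186)
theorem F173059 : act 6 n37310 = n36225 := d41_1 D37310 (iv D36225) (iv F166187)
theorem F173060 : act 8 n37310 = n35828 := d44_1 D37310 F166285 (iv F161986) F161987 D35798
def n37311 : Q := act 8 n35799
theorem D37311 : act 8 n35799 = n37311 := rfl
theorem F173061 : act 2 n37311 = n35806 := d22_1 D37311 (iv D35806) (iv F166188)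
theorem F173062 : act 3 n37311 = n37311 := d28_1 D37311 (iv D37311) F166189
theorem F173063 : act 6 n37311 = n35800 := d40_1 D37311 (iv D35800) D35799
theorem F173064 : act 7 n37311 = n36226 := d42_1 D37311 (iv D36226) (iv F166190)
def n37312 : Q := act 9 n35800
theorem D37312 : act 9 n35800 = n37312 := rfl
theorem F173065 : act 2 n37312 = n35807 := d23_1 D37312 (iv D35807) (iv F166191)
theorem F173066 : act 3 n37312 = n37312 := d29_1 D37312 (iv D37312) F166192
theorem F173067 : act 5 n37312 = n37312 := d38_1 D37312 (iv D37312) F166193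
theorem F173068 : act 7 n37312 = n35801 := d43_1 D37312 (iv D35801) (iv F166194)
theorem F173069 : act 8 n37312 = n35899 := d44_1 D37312 F166520 (iv F161992) F161993 D35800
def n37313 : Q := act 5 n35802
theorem D37313 : act 5 n35802 = n37313 := rfl
theorem F173070 : act 6 n37313 = n35820 := d35_2 D35802 D37313 (iv D35820) (iv D34105) (iv F158451)
theorem F173071 : act 7 n37313 = n36228 := d36_2 (iv F166201) D37313 (iv D36228)
def n37314 : Q := act 8 n35802
theorem D37314 : act 8 n35802 = n37314 := rfl
theorem F173072 : act 4 n37314 = n35806 := d33_1 D37314 (iv D35806) (iv F166200)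
theorem F173073 : act 6 n37314 = n35803 := d40_1 D37314 (iv D35803) D35802
theorem F173074 : act 7 n37314 = n36229 := d42_1 D37314 (iv D36229) (iv F166201)
def n37315 : Q := act 5 n35803
theorem D37315 : act 5 n35803 = n37315 := rfl
theorem F173075 : act 4 n37315 = n37315 := d30_1 D37315 (iv D37315) F166202 F158457 (iv F166202)
theorem F173076 : act 7 n37315 = n35804 := d36_2 (iv F166203) D37315 (iv D35804)
theorem F173077 : act 8 n37315 = n35822 := d37_2 D35803 D37315 (iv D35822) (iv D34106) (iv F158451)
def n37316 : Q := act 9 n35803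
theorem D37316 : act 9 n35803 = n37316 := rfl
theorem F173078 : act 1 n37316 = n35834 := d16_1 D37316 (iv F169536) F169532
theorem F173079 : act 3 n37316 = n35831 := d29_1 D37316 (iv F171052) F171049
theorem F173080 : act 4 n37316 = n35807 := d34_1 D37316 (iv D35807) (iv F166202)
theorem F173081 : act 7 n37316 = n35805 := d43_1 D37316 (iv D35805) (iv F166203)
theorem F173082 : act 8 n37316 = n35829 := d44_1 D37316 F169149 (iv D36534) F161999 D35803
def n37317 : Q := act 6 n35804
theorem D37317 : act 6 n35804 = n37317 := rfl
theorem F173083 : act 4 n37317 = n37317 := d31_1 D37317 (iv D37317) F166204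
theorem F173084 : act 5 n37317 = n36232 := d35_1 D37317 (iv D36232) (iv D34561) (iv F158453) D35804
theorem F173085 : act 8 n37317 = n35824 := d40_2 (iv F166205) D37317 (iv D35824)
def n37318 : Q := act 5 n35806
theorem D37318 : act 5 n35806 = n37318 := rfl
theorem F173086 : act 3 n37318 = n35808 := d25_1 D37318 (iv D35808) (iv F166211)
theorem F173087 : act 6 n37318 = n37318 := d35_2 (iv F166212) D37318 (iv D37318) F166212 F158457
theorem F173088 : act 7 n37318 = n36234 := d36_2 (iv F166213) D37318 (iv D36234)
def n37319 : Q := act 9 n35806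
theorem D37319 : act 9 n35806 = n37319 := rfl
theorem F173089 : act 1 n37319 = n35903 := d16_1 D37319 (iv F169548) F169544
theorem F173090 : act 3 n37319 = n35809 := d29_1 D37319 (iv D35809) (iv F166211)
theorem F173091 : act 6 n37319 = n35807 := d41_1 D37319 (iv D35807) (iv F166212)
theorem F173092 : act 7 n37319 = n36235 := d43_1 D37319 (iv D36235) (iv F166213)
theorem F173093 : act 8 n37319 = n35900 := d44_1 D37319 F169156 (iv D36535) F162013 D35806
def n37320 : Q := act 4 n35808
theorem D37320 : act 4 n35808 = n37320 := rfl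
theorem F173094 : act 2 n37320 = n37320 := d18_1 D37320 (iv D37320) F166219
theorem F173095 : act 6 n37320 = n37320 := d31_2 F166220 D37320 (iv D37320)
theorem F173096 : act 7 n37320 = n36236 := d32_2 (iv F166221) D37320 (iv D36236)
def n37321 : Q := act 9 n35808
theorem D37321 : act 9 n35808 = n37321 := rfl
theorem F173097 : act 1 n37321 = n35905 := d16_1 D37321 (iv F169555) F169550
theorem F173098 : act 2 n37321 = n37321 := d23_1 D37321 (iv D37321) F166219
theorem F173099 : act 5 n37321 = n35809 := d38_1 D37321 (iv D35809) D35808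
theorem F173100 : act 6 n37321 = n37321 := d41_1 D37321 (iv D37321) F166220
theorem F173101 : act 7 n37321 = n36237 := d43_1 D37321 (iv D36237) (iv F166221)
def n37322 : Q := act 2 n35810
theorem D37322 : act 2 n35810 = n37322 := rfl
theorem F173102 : act 4 n37322 = n35890 := d18_2 (iv F166229) D37322 (iv D35890)
theorem F173103 : act 6 n37322 = n35828 := d20_2 (iv F166230) D37322 (iv D35828)
theorem F173104 : act 8 n37322 = n36225 := d22_2 F166232 D37322 F167735
theorem F173105 : act 9 n37322 = n36042 := d23_2 (iv F166231) D37322 F167080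
def n37323 : Q := act 7 n35810
theorem D37323 : act 7 n35810 = n37323 := rfl
theorem F173106 : act 1 n37323 = n35815 := d14_1 D37323 (iv D35815) (iv F166228)
theorem F173107 : act 3 n37323 = n35811 := d27_1 D37323 (iv D35811) D35810
theorem F173108 : act 4 n37323 = n35891 := d32_1 D37323 (iv D35891) (iv F166229)
theorem F173109 : act 8 n37323 = n36231 := d42_2 F166232 D37323 F167751
theorem F173110 : act 9 n37323 = n36214 := d43_2 (iv F166231) D37323 F167709
def n37324 : Q := act 6 n35811
theorem D37324 : act 6 n35811 = n37324 := rfl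
theorem F173111 : act 1 n37324 = n35816 := d13_1 D37324 (iv D35816) (iv F166233)
theorem F173112 : act 4 n37324 = n35813 := d31_1 D37324 (iv D35813) (iv F166234)
theorem F173113 : act 7 n37324 = n35830 := d39_2 D35811 D37324 (iv D35830) (iv D34114) (iv F158474)
def n37325 : Q := act 8 n35811
theorem D37325 : act 8 n35811 = n37325 := rfl
theorem F173114 : act 1 n37325 = n35817 := d15_1 D37325 (iv D35817) (iv F166233)
theorem F173115 : act 3 n37325 = n36231 := d28_1 D37325 (iv F173109) F173107
theorem F173116 : act 4 n37325 = n35814 := d33_1 D37325 (iv D35814) (iv F166234)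
theorem F173117 : act 7 n37325 = n35812 := d42_1 D37325 (iv D35812) D35811
theorem F173118 : act 9 n37325 = n35996 := d44_2 (iv F170896) D37325 (iv D35996) (iv F163691) D36848
def n37326 : Q := act 5 n35812
theorem D37326 : act 5 n35812 = n37326 := rfl
theorem F173119 : act 1 n37326 = n35818 := d12_1 D37326 (iv D35818) (iv F166235)
theorem F173120 : act 3 n37326 = n36233 := d25_1 D37326 F167755 (iv F166236)
theorem F173121 : act 4 n37326 = n37326 := d30_1 D37326 (iv D37326) F166237 F158480 (iv F166237)
theorem F173122 : act 9 n37326 = n35997 := d38_2 (iv F166239) D37326 (iv D35997)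
def n37327 : Q := act 8 n35813
theorem D37327 : act 8 n35813 = n37327 := rfl
theorem F173123 : act 1 n37327 = n35819 := d15_1 D37327 (iv D35819) (iv F166240)
theorem F173124 : act 3 n37327 = n35893 := d28_1 D37327 (iv D35893) (iv F166241)
theorem F173125 : act 6 n37327 = n35814 := d40_1 D37327 (iv D35814) D35813
theorem F173126 : act 7 n37327 = n35832 := d42_1 D37327 (iv D35832) (iv F166243)
theorem F173127 : act 9 n37327 = n35998 := d44_2 (iv F170903) D37327 (iv D35998) (iv F163703) D36849
def n37328 : Q := act 6 n35815
theorem D37328 : act 6 n35815 = n37328 := rfl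
theorem F173128 : act 3 n37328 = n35816 := d26_1 D37328 (iv D35816) (iv F166249)
theorem F173129 : act 4 n37328 = n35894 := d31_1 D37328 (iv D35894) (iv F166250)
theorem F173130 : act 7 n37328 = n35833 := d39_2 D35815 D37328 (iv D35833) (iv D34118) (iv F158484)
def n37329 : Q := act 5 n35816
theorem D37329 : act 5 n35816 = n37329 := rfl
theorem F173131 : act 2 n37329 = n35820 := d19_1 D37329 (iv D35820) (iv F166251)
theorem F173132 : act 7 n37329 = n35836 := d36_2 (iv F166253) D37329 (iv D35836)
def n37330 : Q := act 8 n35816
theorem D37330 : act 8 n35816 = n37330 := rfl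
theorem F173133 : act 2 n37330 = n35821 := d22_1 D37330 (iv D35821) (iv F166251)
theorem F173134 : act 4 n37330 = n35819 := d33_1 D37330 (iv D35819) (iv F166252)
theorem F173135 : act 6 n37330 = n35817 := d40_1 D37330 (iv D35817) D35816
theorem F173136 : act 7 n37330 = n35837 := d42_1 D37330 (iv D35837) (iv F166253)
def n37331 : Q := act 5 n35817
theorem D37331 : act 5 n35817 = n37331 := rfl
theorem F173137 : act 2 n37331 = n35822 := d19_1 D37331 (iv D35822) (iv F166254)
theorem F173138 : act 4 n37331 = n37331 := d30_1 D37331 (iv D37331) F166255 F158495 (iv F166255)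
theorem F173139 : act 7 n37331 = n35818 := d36_2 (iv F166256) D37331 (iv D35818)
def n37332 : Q := act 6 n35818
theorem D37332 : act 6 n35818 = n37332 := rfl
theorem F173140 : act 2 n37332 = n35824 := d20_1 D37332 (iv D35824) (iv F166257)
theorem F173141 : act 4 n37332 = n37332 := d31_1 D37332 (iv D37332) F166258
theorem F173142 : act 5 n37332 = n35840 := d35_1 D37332 (iv D35840) (iv D34122) (iv F158489) D35818
def n37333 : Q := act 5 n35819
theorem D37333 : act 5 n35819 = n37333 := rfl
theorem F173143 : act 2 n37333 = n35825 := d19_1 D37333 (iv D35825) (iv F166259)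
theorem F173144 : act 3 n37333 = n35896 := d25_1 D37333 (iv D35896) (iv F166260)
theorem F173145 : act 6 n37333 = n37333 := d35_2 (iv F166261) D37333 (iv D37333) F166261 F158495
theorem F173146 : act 7 n37333 = n35842 := d36_2 (iv F166262) D37333 (iv D35842)
def n37334 : Q := act 8 n35820
theorem D37334 : act 8 n35820 = n37334 := rfl
theorem F173147 : act 7 n37334 = n35844 := d42_1 D37334 (iv D35844) (iv F166263)
def n37335 : Q := act 5 n35821
theorem D37335 : act 5 n35821 = n37335 := rfl
theorem F173148 : act 7 n37335 = n35845 := d36_2 (iv F166266) D37335 (iv D35845)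
def n37336 : Q := act 9 n35821
theorem D37336 : act 9 n35821 = n37336 := rfl
theorem F173149 : act 4 n37336 = n35826 := d34_1 D37336 (iv D35826) (iv F166264)
theorem F173150 : act 6 n37336 = n35823 := d41_1 D37336 (iv D35823) (iv F166265)
theorem F173151 : act 7 n37336 = n35846 := d43_1 D37336 (iv D35846) (iv F166266)
def n37337 : Q := act 6 n35822
theorem D37337 : act 6 n35822 = n37337 := rfl
theorem F173152 : act 4 n37337 = n37337 := d31_1 D37337 (iv D37337) F166267
def n37338 : Q := act 7 n35824
theorem D37338 : act 7 n35824 = n37338 := rfl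
theorem F173153 : act 4 n37338 = n37338 := d32_1 D37338 (iv D37338) F166271
theorem F173154 : act 5 n37338 = n35849 := d36_1 D37338 (iv D35849) (iv F166272)
def n37339 : Q := act 4 n35825
theorem D37339 : act 4 n35825 = n37339 := rfl
theorem F173155 : act 6 n37339 = n37339 := d31_2 F166274 D37339 (iv D37339)
theorem F173156 : act 7 n37339 = n35851 := d32_2 (iv F166275) D37339 (iv D35851)
def n37340 : Q := act 9 n35825
theorem D37340 : act 9 n35825 = n37340 := rfl
theorem F173157 : act 3 n37340 = n35827 := d29_1 D37340 (iv D35827) (iv F166273)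
theorem F173158 : act 5 n37340 = n35826 := d38_1 D37340 (iv D35826) D35825
theorem F173159 : act 6 n37340 = n37340 := d41_1 D37340 (iv D37340) F166274
theorem F173160 : act 7 n37340 = n35852 := d43_1 D37340 (iv D35852) (iv F166275)
def n37341 : Q := act 7 n35828
theorem D37341 : act 7 n35828 = n37341 := rfl
theorem F173161 : act 2 n37341 = n35829 := d21_1 D37341 (iv D35829) D35828
theorem F173162 : act 4 n37341 = n35899 := d32_1 D37341 (iv D35899) (iv F166283)
theorem F173163 : act 5 n37341 = n36041 := d36_1 D37341 F167079 (iv F166284)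
theorem F173164 : act 9 n37341 = n36040 := d43_2 (iv F166285) D37341 F167076
def n37342 : Q := act 6 n35829
theorem D37342 : act 6 n35829 = n37342 := rfl
theorem F173165 : act 1 n37342 = n35833 := d13_1 D37342 (iv D35833) (iv F166286)
theorem F173166 : act 3 n37342 = n35830 := d26_1 D37342 (iv D35830) (iv F166287)
theorem F173167 : act 4 n37342 = n35900 := d31_1 D37342 (iv D35900) (iv F166288)
def n37343 : Q := act 5 n35830
theorem D37343 : act 5 n35830 = n37343 := rfl
theorem F173168 : act 1 n37343 = n35836 := d12_1 D37343 (iv D35836) (iv F166290)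
theorem F173169 : act 4 n37343 = n36313 := d30_1 D37343 F167954 F160401 (iv F158526) (iv F166291)
theorem F173170 : act 6 n37343 = n36300 := d35_2 D35830 D37343 (iv D36300) (iv D34633) (iv F158521)
def n37344 : Q := act 8 n35830
theorem D37344 : act 8 n35830 = n37344 := rfl
theorem F173171 : act 1 n37344 = n35837 := d15_1 D37344 (iv D35837) (iv F166290)
theorem F173172 : act 4 n37344 = n35832 := d33_1 D37344 (iv D35832) (iv F166291)
theorem F173173 : act 6 n37344 = n35831 := d40_1 D37344 (iv D35831) D35830
def n37345 : Q := act 5 n35832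
theorem D37345 : act 5 n35832 = n37345 := rfl
theorem F173174 : act 1 n37345 = n35842 := d12_1 D37345 (iv D35842) (iv F166295)
theorem F173175 : act 3 n37345 = n35877 := d25_1 D37345 F166430 (iv F166296)
theorem F173176 : act 6 n37345 = n35856 := d35_2 (iv F166297) D37345 (iv D35856) F158580 (iv F158529)
theorem F173177 : act 8 n37345 = n35866 := d37_2 D35832 D37345 F166398 F158622 (iv F158526)
def n37346 : Q := act 5 n35833
theorem D37346 : act 5 n35833 = n37346 := rfl
theorem F173178 : act 3 n37346 = n35836 := d25_1 D37346 (iv D35836) (iv F166298)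
theorem F173179 : act 6 n37346 = n36301 := d35_2 D35833 D37346 (iv D36301) (iv D34634) (iv F158533)
def n37347 : Q := act 8 n35833
theorem D37347 : act 8 n35833 = n37347 := rfl
theorem F173180 : act 3 n37347 = n35837 := d28_1 D37347 (iv D35837) (iv F166298)
theorem F173181 : act 4 n37347 = n35903 := d33_1 D37347 (iv D35903) (iv F166299)
theorem F173182 : act 6 n37347 = n35834 := d40_1 D37347 (iv D35834) D35833
def n37348 : Q := act 5 n35834
theorem D37348 : act 5 n35834 = n37348 := rfl
theorem F173183 : act 3 n37348 = n35838 := d25_1 D37348 (iv D35838) (iv F166300)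
theorem F173184 : act 4 n37348 = n37348 := d30_1 D37348 (iv D37348) F166301 F158741 (iv F166301)
theorem F173185 : act 7 n37348 = n35835 := d36_2 (iv F166302) D37348 (iv D35835)
theorem F173186 : act 8 n37348 = n36303 := d37_2 D35834 D37348 (iv D36303) (iv D34635) (iv F158533)
def n37349 : Q := act 6 n35835
theorem D37349 : act 6 n35835 = n37349 := rfl
theorem F173187 : act 3 n37349 = n35840 := d26_1 D37349 (iv D35840) (iv F166303)
theorem F173188 : act 4 n37349 = n37349 := d31_1 D37349 (iv D37349) F166304
theorem F173189 : act 8 n37349 = n36305 := d40_2 (iv F166305) D37349 (iv D36305)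
def n37350 : Q := act 8 n35836
theorem D37350 : act 8 n35836 = n37350 := rfl
theorem F173190 : act 2 n37350 = n35844 := d22_1 D37350 (iv D35844) (iv F166306)
theorem F173191 : act 6 n37350 = n36306 := d40_1 D37350 (iv D36306) (iv F166307)
def n37351 : Q := act 5 n35837
theorem D37351 : act 5 n35837 = n37351 := rfl
theorem F173192 : act 2 n37351 = n35845 := d19_1 D37351 (iv D35845) (iv F166308)
def n37352 : Q := act 9 n35837
theorem D37352 : act 9 n35837 = n37352 := rfl
theorem F173193 : act 0 n37352 = n36199 := d8_1 D37352 (iv F168734) F168729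
theorem F173194 : act 2 n37352 = n35846 := d23_1 D37352 (iv D35846) (iv F166308)
theorem F173195 : act 4 n37352 = n35843 := d34_1 D37352 (iv D35843) (iv F166309)
theorem F173196 : act 6 n37352 = n35839 := d41_1 D37352 (iv D35839) (iv F166310)
theorem F173197 : act 8 n37352 = n36185 := d44_1 D37352 F167623 (iv F164708) F164709 D35837
def n37353 : Q := act 6 n35838
theorem D37353 : act 6 n35838 = n37353 := rfl
theorem F173198 : act 2 n37353 = n35847 := d20_1 D37353 (iv D35847) (iv F166311)
theorem F173199 : act 4 n37353 = n35859 := d31_1 D37353 (iv D35859) (iv F166312)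
theorem F173200 : act 8 n37353 = n36309 := d40_2 (iv F166314) D37353 (iv D36309)
def n37354 : Q := act 9 n35838
theorem D37354 : act 9 n35838 = n37354 := rfl
theorem F173201 : act 0 n37354 = n36200 := d8_1 D37354 (iv F168741) F168735
theorem F173202 : act 2 n37354 = n35848 := d23_1 D37354 (iv D35848) (iv F166311)
theorem F173203 : act 4 n37354 = n35860 := d34_1 D37354 (iv D35860) (iv F166312)
theorem F173204 : act 5 n37354 = n35839 := d38_1 D37354 (iv D35839) D35838
theorem F173205 : act 7 n37354 = n35841 := d43_1 D37354 (iv D35841) (iv F166313)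
def n37355 : Q := act 7 n35840
theorem D37355 : act 7 n35840 = n37355 := rfl
theorem F173206 : act 2 n37355 = n35849 := d21_1 D37355 (iv D35849) (iv F166320)
theorem F173207 : act 4 n37355 = n35861 := d32_1 D37355 (iv D35861) (iv F166321)
theorem F173208 : act 8 n37355 = n36310 := d42_2 (iv F166322) D37355 (iv D36310)
def n37356 : Q := act 9 n35840
theorem D37356 : act 9 n35840 = n37356 := rfl
theorem F173209 : act 0 n37356 = n36201 := d8_1 D37356 (iv F168747) F168742
theorem F173210 : act 2 n37356 = n35850 := d23_1 D37356 (iv D35850) (iv F166320)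
theorem F173211 : act 4 n37356 = n35862 := d34_1 D37356 (iv D35862) (iv F166321)
theorem F173212 : act 6 n37356 = n35841 := d41_1 D37356 (iv D35841) D35840
def n37357 : Q := act 4 n35842
theorem D37357 : act 4 n35842 = n37357 := rfl
theorem F173213 : act 2 n37357 = n35851 := d18_1 D37357 (iv D35851) (iv F166327)
theorem F173214 : act 6 n37357 = n35863 := d31_2 (iv F166329) D37357 (iv D35863)
def n37358 : Q := act 9 n35842
theorem D37358 : act 9 n35842 = n37358 := rfl
theorem F173215 : act 0 n37358 = n36202 := d8_1 D37358 (iv F168754) F168748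
theorem F173216 : act 2 n37358 = n35852 := d23_1 D37358 (iv D35852) (iv F166327)
theorem F173217 : act 3 n37358 = n35907 := d29_1 D37358 (iv D35907) (iv F166328)
theorem F173218 : act 5 n37358 = n35843 := d38_1 D37358 (iv D35843) D35842
theorem F173219 : act 6 n37358 = n35864 := d41_1 D37358 (iv D35864) (iv F166329)
def n37359 : Q := act 5 n35844
theorem D37359 : act 5 n35844 = n37359 := rfl
theorem F173220 : act 8 n37359 = n35845 := d37_2 D35844 D37359 (iv D35845) (iv D34127) D34126
def n37360 : Q := act 9 n35844
theorem D37360 : act 9 n35844 = n37360 := rfl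
theorem F173221 : act 6 n37360 = n36312 := d41_1 D37360 (iv D36312) (iv F166335)
def n37361 : Q := act 4 n35845
theorem D37361 : act 4 n35845 = n37361 := rfl
theorem F173222 : act 5 n37361 = n35851 := d30_2 D35845 D37361 (iv D35851) (iv D34132) (iv F158558)
def n37362 : Q := act 6 n35845
theorem D37362 : act 6 n35845 = n37362 := rfl
theorem F173223 : act 5 n37362 = n35847 := d35_1 D37362 (iv D35847) (iv D34128) (iv F158559) D35845
def n37363 : Q := act 9 n35845
theorem D37363 : act 9 n35845 = n37363 := rfl
theorem F173224 : act 5 n37363 = n35846 := d38_1 D37363 (iv D35846) D35845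
def n37364 : Q := act 7 n35847
theorem D37364 : act 7 n35847 = n37364 := rfl
theorem F173225 : act 4 n37364 = n35868 := d32_1 D37364 (iv D35868) (iv F166338)
theorem F173226 : act 6 n37364 = n35849 := d39_1 D37364 (iv D35849) (iv D34130) (iv F158561) D35847
theorem F173227 : act 8 n37364 = n36315 := d42_2 (iv F166339) D37364 (iv D36315)
def n37365 : Q := act 9 n35847
theorem D37365 : act 9 n35847 = n37365 := rfl
theorem F173228 : act 4 n37365 = n35869 := d34_1 D37365 (iv D35869) (iv F166338)
theorem F173229 : act 6 n37365 = n35848 := d41_1 D37365 (iv D35848) D35847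
def n37366 : Q := act 9 n35849
theorem D37366 : act 9 n35849 = n37366 := rfl
theorem F173230 : act 4 n37366 = n35870 := d34_1 D37366 (iv D35870) (iv F166343)
theorem F173231 : act 7 n37366 = n35850 := d43_1 D37366 (iv D35850) D35849
def n37367 : Q := act 3 n35851
theorem D37367 : act 3 n35851 = n37367 := rfl
theorem F173232 : act 4 n37367 = n35853 := d24_2 D35851 D37367 (iv D35853) (iv D34134) (iv F158569)
theorem F173233 : act 6 n37367 = n35871 := d26_2 (iv F166347) D37367 (iv D35871)
def n37368 : Q := act 9 n35851
theorem D37368 : act 9 n35851 = n37368 := rfl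
theorem F173234 : act 4 n37368 = n35852 := d34_1 D37368 (iv D35852) D35851
theorem F173235 : act 6 n37368 = n35872 := d41_1 D37368 (iv D35872) (iv F166347)
def n37369 : Q := act 8 n35852
theorem D37369 : act 8 n35852 = n37369 := rfl
theorem F173236 : act 3 n37369 = n35855 := d28_1 D37369 (iv D35855) (iv F166348)
theorem F173237 : act 6 n37369 = n35873 := d40_1 D37369 (iv D35873) (iv F166350)
def n37370 : Q := act 2 n35853
theorem D37370 : act 2 n35853 = n37370 := rfl
theorem F173238 : act 3 n37370 = n35911 := d17_2 D35853 D37370 (iv D35911) (iv D34192) (iv F158573)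
theorem F173239 : act 6 n37370 = n35874 := d20_2 (iv F166351) D37370 (iv D35874)
def n37371 : Q := act 9 n35853
theorem D37371 : act 9 n35853 = n37371 := rfl
theorem F173240 : act 3 n37371 = n35854 := d29_1 D37371 (iv D35854) D35853
theorem F173241 : act 6 n37371 = n35875 := d41_1 D37371 (iv D35875) (iv F166351)
def n37372 : Q := act 4 n35856
theorem D37372 : act 4 n35856 = n37372 := rfl
theorem F173242 : act 1 n37372 = n35863 := d11_1 D37372 (iv D35863) (iv F166357)
theorem F173243 : act 7 n37372 = n37372 := d32_2 F166359 D37372 (iv D37372)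
theorem F173244 : act 8 n37372 = n35865 := d33_2 (iv F166360) D37372 (iv D35865)
def n37373 : Q := act 4 n35857
theorem D37373 : act 4 n35857 = n37373 := rfl
theorem F173245 : act 2 n37373 = n35865 := d18_1 D37373 (iv D35865) (iv F166361)
theorem F173246 : act 5 n37373 = n35863 := d30_2 D35857 D37373 (iv D35863) (iv D34142) (iv F158584)
theorem F173247 : act 7 n37373 = n37373 := d32_2 F166363 D37373 (iv D37373)
def n37374 : Q := act 6 n35857
theorem D37374 : act 6 n35857 = n37374 := rfl
theorem F173248 : act 2 n37374 = n35866 := d20_1 D37374 (iv D35866) (iv F166361)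
theorem F173249 : act 3 n37374 = n37374 := d26_1 D37374 (iv D37374) F166362
theorem F173250 : act 5 n37374 = n35859 := d35_1 D37374 (iv D35859) (iv D34138) (iv F158585) D35857
def n37375 : Q := act 9 n35857
theorem D37375 : act 9 n35857 = n37375 := rfl
theorem F173251 : act 0 n37375 = n36337 := d8_1 D37375 (iv F168824) F168819
theorem F173252 : act 2 n37375 = n35867 := d23_1 D37375 (iv D35867) (iv F166361)
theorem F173253 : act 3 n37375 = n37375 := d29_1 D37375 (iv D37375) F166362
theorem F173254 : act 5 n37375 = n35858 := d38_1 D37375 (iv D35858) D35857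
theorem F173255 : act 7 n37375 = n37375 := d43_1 D37375 (iv D37375) F166363
theorem F173256 : act 8 n37375 = n36347 := d44_1 D37375 (iv D36347) (iv F168040) (iv F172552) F172551
def n37376 : Q := act 7 n35859
theorem D37376 : act 7 n35859 = n37376 := rfl
theorem F173257 : act 2 n37376 = n35868 := d21_1 D37376 (iv D35868) (iv F166371)
theorem F173258 : act 3 n37376 = n37376 := d27_1 D37376 (iv D37376) F166372
theorem F173259 : act 6 n37376 = n35861 := d39_1 D37376 (iv D35861) (iv D34140) (iv F158589) D35859
theorem F173260 : act 8 n37376 = n36316 := d42_2 (iv F166373) D37376 (iv D36316)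
def n37377 : Q := act 9 n35859
theorem D37377 : act 9 n35859 = n37377 := rfl
theorem F173261 : act 0 n37377 = n36338 := d8_1 D37377 (iv F168830) F168825
theorem F173262 : act 2 n37377 = n35869 := d23_1 D37377 (iv D35869) (iv F166371)
theorem F173263 : act 3 n37377 = n37377 := d29_1 D37377 (iv D37377) F166372
theorem F173264 : act 6 n37377 = n35860 := d41_1 D37377 (iv D35860) D35859
def n37378 : Q := act 9 n35861
theorem D37378 : act 9 n35861 = n37378 := rfl
theorem F173265 : act 0 n37378 = n36339 := d8_1 D37378 (iv F168837) F168831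
theorem F173266 : act 2 n37378 = n35870 := d23_1 D37378 (iv D35870) (iv F166379)
theorem F173267 : act 3 n37378 = n37378 := d29_1 D37378 (iv D37378) F166380
theorem F173268 : act 5 n37378 = n37378 := d38_1 D37378 (iv D37378) F166381
theorem F173269 : act 7 n37378 = n35862 := d43_1 D37378 (iv D35862) D35861
def n37379 : Q := act 3 n35863
theorem D37379 : act 3 n35863 = n37379 := rfl
theorem F173270 : act 4 n37379 = n35912 := d24_2 D35863 D37379 (iv D35912) (iv D34195) (iv F158606)
theorem F173271 : act 7 n37379 = n37379 := d27_2 F166389 D37379 (iv D37379)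
def n37380 : Q := act 9 n35863
theorem D37380 : act 9 n35863 = n37380 := rfl
theorem F173272 : act 0 n37380 = n36340 := d8_1 D37380 (iv F168843) F168838
theorem F173273 : act 2 n37380 = n35872 := d23_1 D37380 (iv D35872) (iv F166388)
theorem F173274 : act 4 n37380 = n35864 := d34_1 D37380 (iv D35864) D35863
theorem F173275 : act 7 n37380 = n37380 := d43_1 D37380 (iv D37380) F166389
def n37381 : Q := act 3 n35865
theorem D37381 : act 3 n35865 = n37381 := rfl
theorem F173276 : act 4 n37381 = n35878 := d24_2 D35865 D37381 (iv D35878) (iv D34156) (iv F158614)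
theorem F173277 : act 5 n37381 = n35871 := d25_2 (iv F166395) D37381 (iv D35871)
theorem F173278 : act 7 n37381 = n37381 := d27_2 F166396 D37381 (iv D37381)
def n37382 : Q := act 6 n35865
theorem D37382 : act 6 n35865 = n37382 := rfl
theorem F173279 : act 4 n37382 = n35866 := d31_1 D37382 (iv D35866) D35865
def n37383 : Q := act 9 n35865
theorem D37383 : act 9 n35865 = n37383 := rfl
theorem F173280 : act 4 n37383 = n35867 := d34_1 D37383 (iv D35867) D35865
theorem F173281 : act 5 n37383 = n35872 := d38_1 D37383 (iv D35872) (iv F166395)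
theorem F173282 : act 7 n37383 = n37383 := d43_1 D37383 (iv D37383) F166396
def n37384 : Q := act 7 n35866
theorem D37384 : act 7 n35866 = n37384 := rfl
theorem F173283 : act 3 n37384 = n35881 := d27_1 D37384 (iv D35881) (iv F166397)
theorem F173284 : act 5 n37384 = n35868 := d36_1 D37384 (iv D35868) (iv F166398)
theorem F173285 : act 6 n37384 = n37384 := d39_1 D37384 (iv D37384) (iv D35866) F158615 D35866
def n37385 : Q := act 9 n35866
theorem D37385 : act 9 n35866 = n37385 := rfl
theorem F173286 : act 3 n37385 = n35882 := d29_1 D37385 (iv D35882) (iv F166397)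
theorem F173287 : act 5 n37385 = n35869 := d38_1 D37385 (iv D35869) (iv F166398)
theorem F173288 : act 6 n37385 = n35867 := d41_1 D37385 (iv D35867) D35866
def n37386 : Q := act 9 n35868
theorem D37386 : act 9 n35868 = n37386 := rfl
theorem F173289 : act 3 n37386 = n35883 := d29_1 D37386 (iv D35883) (iv F166402)
theorem F173290 : act 6 n37386 = n35870 := d41_1 D37386 (iv D35870) (iv F166403)
theorem F173291 : act 7 n37386 = n35869 := d43_1 D37386 (iv D35869) D35868
def n37387 : Q := act 2 n35871
theorem D37387 : act 2 n35871 = n37387 := rfl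
theorem F173292 : act 4 n37387 = n35874 := d18_2 (iv F166410) D37387 (iv D35874)
theorem F173293 : act 7 n37387 = n37387 := d21_2 F166411 D37387 (iv D37387)
def n37388 : Q := act 9 n35871
theorem D37388 : act 9 n35871 = n37388 := rfl
theorem F173294 : act 3 n37388 = n35872 := d29_1 D37388 (iv D35872) D35871
theorem F173295 : act 4 n37388 = n35875 := d34_1 D37388 (iv D35875) (iv F166410)
theorem F173296 : act 7 n37388 = n37388 := d43_1 D37388 (iv D37388) F166411
def n37389 : Q := act 8 n35872
theorem D37389 : act 8 n35872 = n37389 := rfl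
theorem F173297 : act 4 n37389 = n35873 := d33_1 D37389 (iv D35873) (iv F166412)
theorem F173298 : act 7 n37389 = n37389 := d42_1 D37389 (iv D37389) F166413
def n37390 : Q := act 1 n35874
theorem D37390 : act 1 n35874 = n37390 := rfl
theorem F173299 : act 3 n37390 = n35914 := d10_2 (iv F166417) D37390 (iv D35914)
theorem F173300 : act 5 n37390 = n35887 := d12_2 (iv F166418) D37390 (iv D35887)
theorem F173301 : act 7 n37390 = n37390 := d14_2 F166419 D37390 (iv D37390)
theorem F173302 : act 9 n37390 = n36116 := d16_2 (iv F172497) D37390 (iv F172492)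
def n37391 : Q := act 3 n35876
theorem D37391 : act 3 n35876 = n37391 := rfl
theorem F173303 : act 1 n37391 = n35912 := d10_1 D37391 (iv D35912) (iv F166423)
theorem F173304 : act 5 n37391 = n37391 := d25_2 F166425 D37391 (iv D37391)
theorem F173305 : act 7 n37391 = n37391 := d27_2 F166426 D37391 (iv D37391)
theorem F173306 : act 8 n37391 = n35878 := d28_2 (iv F166427) D37391 (iv D35878)
def n37392 : Q := act 6 n35876
theorem D37392 : act 6 n35876 = n37392 := rfl
theorem F173307 : act 1 n37392 = n35906 := d13_1 D37392 F166536 (iv F166423)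
theorem F173308 : act 2 n37392 = n37392 := d20_1 D37392 (iv D37392) F166424
theorem F173309 : act 4 n37392 = n35877 := d31_1 D37392 (iv D35877) D35876
theorem F173310 : act 8 n37392 = n35879 := d40_2 (iv F166427) D37392 (iv D35879)
def n37393 : Q := act 7 n35877
theorem D37393 : act 7 n35877 = n37393 := rfl
theorem F173311 : act 1 n37393 = n35896 := d14_1 D37393 F166510 (iv F166428)
theorem F173312 : act 2 n37393 = n37393 := d21_1 D37393 (iv D37393) F166429
theorem F173313 : act 5 n37393 = n35893 := d36_1 D37393 F166501 (iv F166430)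
theorem F173314 : act 6 n37393 = n37393 := d39_1 D37393 (iv D37393) (iv D35877) F158647 D35877
theorem F173315 : act 8 n37393 = n35881 := d42_2 (iv F166431) D37393 (iv D35881)
theorem F173316 : act 9 n37393 = n35999 := d43_2 F171072 D37393 (iv F171070)
def n37394 : Q := act 2 n35878
theorem D37394 : act 2 n35878 = n37394 := rfl
theorem F173317 : act 3 n37394 = n37394 := d17_2 D35878 D37394 (iv D37394) (iv D35878) F158649
theorem F173318 : act 5 n37394 = n35884 := d19_2 (iv F166432) D37394 (iv D35884)
theorem F173319 : act 7 n37394 = n37394 := d21_2 F166433 D37394 (iv D37394)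
def n37395 : Q := act 6 n35878
theorem D37395 : act 6 n35878 = n37395 := rfl
theorem F173320 : act 3 n37395 = n35879 := d26_1 D37395 (iv D35879) D35878
def n37396 : Q := act 9 n35878
theorem D37396 : act 9 n35878 = n37396 := rfl
theorem F173321 : act 3 n37396 = n35880 := d29_1 D37396 (iv D35880) D35878
theorem F173322 : act 5 n37396 = n35885 := d38_1 D37396 (iv D35885) (iv F166432)
theorem F173323 : act 7 n37396 = n37396 := d43_1 D37396 (iv D37396) F166433
def n37397 : Q := act 7 n35879
theorem D37397 : act 7 n35879 = n37397 := rfl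
theorem F173324 : act 2 n37397 = n37397 := d21_1 D37397 (iv D37397) F166434
theorem F173325 : act 4 n37397 = n35881 := d32_1 D37397 (iv D35881) (iv F166435)
theorem F173326 : act 6 n37397 = n37397 := d39_1 D37397 (iv D37397) (iv D35879) F158651 D35879
def n37398 : Q := act 9 n35879
theorem D37398 : act 9 n35879 = n37398 := rfl
theorem F173327 : act 2 n37398 = n37398 := d23_1 D37398 (iv D37398) F166434
theorem F173328 : act 4 n37398 = n35882 := d34_1 D37398 (iv D35882) (iv F166435)
theorem F173329 : act 6 n37398 = n35880 := d41_1 D37398 (iv D35880) D35879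
def n37399 : Q := act 9 n35881
theorem D37399 : act 9 n35881 = n37399 := rfl
theorem F173330 : act 2 n37399 = n37399 := d23_1 D37399 (iv D37399) F166440
theorem F173331 : act 5 n37399 = n35883 := d38_1 D37399 (iv D35883) (iv F166441)
theorem F173332 : act 6 n37399 = n37399 := d41_1 D37399 (iv D37399) F166442
theorem F173333 : act 7 n37399 = n35882 := d43_1 D37399 (iv D35882) D35881
def n37400 : Q := act 7 n35890
theorem D37400 : act 7 n35890 = n37400 := rfl
theorem F173334 : act 2 n37400 = n35891 := d21_1 D37400 (iv D35891) D35890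
theorem F173335 : act 3 n37400 = n37400 := d27_1 D37400 (iv D37400) F166481
theorem F173336 : act 5 n37400 = n37400 := d36_1 D37400 (iv D37400) F166482
theorem F173337 : act 8 n37400 = n36227 := d42_2 (iv F166484) D37400 F167743
theorem F173338 : act 9 n37400 = n36102 := d43_2 (iv F166485) D37400 (iv D36102)
def n37401 : Q := act 6 n35891
theorem D37401 : act 6 n35891 = n37401 := rfl
theorem F173339 : act 1 n37401 = n35894 := d13_1 D37401 (iv D35894) (iv F166486)
theorem F173340 : act 3 n37401 = n35892 := d26_1 D37401 (iv D35892) (iv F166487)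
theorem F173341 : act 7 n37401 = n35900 := d39_2 D35891 D37401 (iv D35900) (iv D34179) (iv F158689)
theorem F173342 : act 8 n37401 = n36235 := d40_2 (iv F166489) D37401 F167759
theorem F173343 : act 9 n37401 = n36216 := d41_2 (iv F166490) D37401 F167713
def n37402 : Q := act 5 n35892
theorem D37402 : act 5 n35892 = n37402 := rfl
theorem F173344 : act 1 n37402 = n35895 := d12_1 D37402 (iv D35895) (iv F166491)
theorem F173345 : act 2 n37402 = n37402 := d19_1 D37402 (iv D37402) F166492
theorem F173346 : act 4 n37402 = n36124 := d30_1 D37402 F167329 F159572 (iv F158700) (iv F166493)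
theorem F173347 : act 6 n37402 = n37402 := d35_2 D35892 D37402 (iv D37402) (iv D35892) F158695
theorem F173348 : act 7 n37402 = n35901 := d36_2 (iv F166494) D37402 (iv D35901)
theorem F173349 : act 9 n37402 = n36217 := d38_2 (iv F166496) D37402 (iv D36217)
def n37403 : Q := act 5 n35894
theorem D37403 : act 5 n35894 = n37403 := rfl
theorem F173350 : act 3 n37403 = n35895 := d25_1 D37403 (iv D35895) (iv F166503)
theorem F173351 : act 6 n37403 = n37403 := d35_2 D35894 D37403 (iv D37403) (iv D35894) F158709
theorem F173352 : act 7 n37403 = n35902 := d36_2 (iv F166504) D37403 (iv D35902)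
def n37404 : Q := act 8 n35895
theorem D37404 : act 8 n35895 = n37404 := rfl
theorem F173353 : act 2 n37404 = n35897 := d22_1 D37404 (iv D35897) (iv F166505)
theorem F173354 : act 6 n37404 = n37404 := d40_1 D37404 (iv D37404) F166506
theorem F173355 : act 7 n37404 = n35904 := d42_1 D37404 (iv D35904) (iv F166507)
def n37405 : Q := act 4 n35896
theorem D37405 : act 4 n35896 = n37405 := rfl
theorem F173356 : act 2 n37405 = n35898 := d18_1 D37405 (iv D35898) (iv F166508)
theorem F173357 : act 6 n37405 = n37405 := d31_2 F166509 D37405 (iv D37405)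
theorem F173358 : act 7 n37405 = n35906 := d32_2 (iv F166510) D37405 (iv D35906)
def n37406 : Q := act 6 n35899
theorem D37406 : act 6 n35899 = n37406 := rfl
theorem F173359 : act 2 n37406 = n35900 := d20_1 D37406 (iv D35900) (iv F166517)
theorem F173360 : act 3 n37406 = n37406 := d26_1 D37406 (iv D37406) F166518
theorem F173361 : act 9 n37406 = n36101 := d41_2 (iv F166520) D37406 (iv D36101)
def n37407 : Q := act 5 n35900
theorem D37407 : act 5 n35900 = n37407 := rfl
theorem F173362 : act 1 n37407 = n35902 := d12_1 D37407 (iv D35902) (iv F166521)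
theorem F173363 : act 3 n37407 = n35901 := d25_1 D37407 (iv D35901) (iv F166522)
theorem F173364 : act 6 n37407 = n35916 := d35_2 D35900 D37407 (iv D35916) (iv D34202) (iv F158732)
def n37408 : Q := act 8 n35901
theorem D37408 : act 8 n35901 = n37408 := rfl
theorem F173365 : act 1 n37408 = n35904 := d15_1 D37408 (iv D35904) (iv F166523)
theorem F173366 : act 2 n37408 = n37408 := d22_1 D37408 (iv D37408) F166524
theorem F173367 : act 4 n37408 = n36123 := d33_1 D37408 F167327 (iv F166525)
theorem F173368 : act 6 n37408 = n35917 := d40_1 D37408 (iv D35917) (iv F166526)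
def n37409 : Q := act 4 n35902
theorem D37409 : act 4 n35902 = n37409 := rfl
theorem F173369 : act 6 n37409 = n35918 := d31_2 (iv F166528) D37409 (iv D35918)
def n37410 : Q := act 8 n35902
theorem D37410 : act 8 n35902 = n37410 := rfl
theorem F173370 : act 3 n37410 = n35904 := d28_1 D37410 (iv D35904) (iv F166527)
theorem F173371 : act 6 n37410 = n35919 := d40_1 D37410 (iv D35919) (iv F166528)
def n37411 : Q := act 5 n35903
theorem D37411 : act 5 n35903 = n37411 := rfl
theorem F173372 : act 3 n37411 = n35905 := d25_1 D37411 (iv D35905) (iv F166529)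
theorem F173373 : act 6 n37411 = n37411 := d35_2 (iv F166530) D37411 (iv D37411) F166530 F158741
def n37412 : Q := act 5 n35904
theorem D37412 : act 5 n35904 = n37412 := rfl
theorem F173374 : act 2 n37412 = n35908 := d19_1 D37412 (iv D35908) (iv F166531)
theorem F173375 : act 6 n37412 = n37412 := d35_2 (iv F166532) D37412 (iv D37412) F166532 F158815
theorem F173376 : act 8 n37412 = n35905 := d37_2 D35904 D37412 (iv D35905) (iv D34185) D34184
def n37413 : Q := act 9 n35904
theorem D37413 : act 9 n35904 = n37413 := rfl
theorem F173377 : act 2 n37413 = n35909 := d23_1 D37413 (iv D35909) (iv F166531)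
theorem F173378 : act 4 n37413 = n35911 := d34_1 D37413 F172355 F172352
theorem F173379 : act 6 n37413 = n35913 := d41_1 D37413 F166557 (iv F166532)
def n37414 : Q := act 4 n35905
theorem D37414 : act 4 n35905 = n37414 := rfl
theorem F173380 : act 2 n37414 = n35910 := d18_1 D37414 (iv D35910) (iv F166533)
theorem F173381 : act 5 n37414 = n35906 := d30_2 D35905 D37414 (iv D35906) (iv D34186) (iv F158746)
theorem F173382 : act 6 n37414 = n37414 := d31_2 F166534 D37414 (iv D37414)
def n37415 : Q := act 3 n35906
theorem D37415 : act 3 n35906 = n37415 := rfl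
theorem F173383 : act 6 n37415 = n35912 := d26_2 (iv F166536) D37415 (iv D35912)
def n37416 : Q := act 1 n35911
theorem D37416 : act 1 n35911 = n37416 := rfl
theorem F173384 : act 2 n37416 = n37416 := d9_2 D35911 D37416 (iv D37416) (iv D35911) F158765
theorem F173385 : act 6 n37416 = n35914 := d13_2 (iv F166551) D37416 (iv D35914)
theorem F173386 : act 9 n37416 = n36123 := d16_2 (iv F172355) D37416 (iv F172350)
def n37417 : Q := act 2 n35912
theorem D37417 : act 2 n35912 = n37417 := rfl
theorem F173387 : act 3 n37417 = n35913 := d17_2 D35912 D37417 (iv D35913) (iv D34197) (iv F158772)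
theorem F173388 : act 5 n37417 = n37417 := d19_2 F166552 D37417 (iv D37417)
theorem F173389 : act 7 n37417 = n37417 := d21_2 F166553 D37417 (iv D37417)
theorem F173390 : act 9 n37417 = n35919 := d23_2 (iv F172919) D37417 (iv F172915)
def n37418 : Q := act 5 n35915
theorem D37418 : act 5 n35915 = n37418 := rfl
theorem F173391 : act 2 n37418 = n35916 := d19_1 D37418 (iv D35916) (iv F166562)
theorem F173392 : act 3 n37418 = n37418 := d25_1 D37418 (iv D37418) F166563
theorem F173393 : act 7 n37418 = n37418 := d36_2 F166565 D37418 (iv D37418)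
theorem F173394 : act 9 n37418 = n36100 := d38_2 (iv F166567) D37418 (iv D36100)
def n37419 : Q := act 4 n35916
theorem D37419 : act 4 n35916 = n37419 := rfl
theorem F173395 : act 1 n37419 = n35918 := d11_1 D37419 (iv D35918) (iv F166568)
theorem F173396 : act 3 n37419 = n36117 := d24_1 D37419 (iv D36117) F159544 (iv F158810) (iv F166569)
theorem F173397 : act 5 n37419 = n36120 := d30_2 D35916 D37419 F167319 F159554 (iv F158805)
theorem F173398 : act 7 n37419 = n37419 := d32_2 F166570 D37419 (iv D37419)
def n37420 : Q := act 8 n35916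
theorem D37420 : act 8 n35916 = n37420 := rfl
theorem F173399 : act 1 n37420 = n35919 := d15_1 D37420 (iv D35919) (iv F166568)
theorem F173400 : act 3 n37420 = n35917 := d28_1 D37420 (iv D35917) (iv F166569)
theorem F173401 : act 5 n37420 = n37420 := d37_1 D37420 (iv D37420) (iv D35916) F158807 D35916
theorem F173402 : act 7 n37420 = n37420 := d42_1 D37420 (iv D37420) F166570
def n37421 : Q := act 8 n35918
theorem D37421 : act 8 n35918 = n37421 := rfl
theorem F173403 : act 4 n37421 = n35919 := d33_1 D37421 (iv D35919) D35918
theorem F173404 : act 7 n37421 = n37421 := d42_1 D37421 (iv D37421) F166577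
def n37422 : Q := act 7 n35920
theorem D37422 : act 7 n35920 = n37422 := rfl
theorem F173405 : act 1 n37422 = n35922 := d14_1 D37422 (iv D35922) (iv F166581)
theorem F173406 : act 4 n37422 = n35921 := d32_1 D37422 (iv D35921) D35920
def n37423 : Q := act 6 n35921
theorem D37423 : act 6 n35921 = n37423 := rfl
theorem F173407 : act 1 n37423 = n35923 := d13_1 D37423 (iv D35923) (iv F166582)
theorem F173408 : act 3 n37423 = n36370 := d26_1 D37423 (iv D36370) (iv F166583)
def n37424 : Q := act 6 n35922
theorem D37424 : act 6 n35922 = n37424 := rfl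
theorem F173409 : act 0 n37424 = n35972 := d5_1 D37424 (iv D35972) (iv F166585)
theorem F173410 : act 2 n37424 = n35924 := d20_1 D37424 (iv D35924) (iv F166586)
theorem F173411 : act 4 n37424 = n35923 := d31_1 D37424 (iv D35923) (iv F166587)
def n37425 : Q := act 5 n35924
theorem D37425 : act 5 n35924 = n37425 := rfl
theorem F173412 : act 0 n37425 = n35975 := d4_1 D37425 (iv D35975) (iv F166591)
theorem F173413 : act 3 n37425 = n36186 := d25_1 D37425 (iv D36186) (iv F166592)
def n37426 : Q := act 7 n35927
theorem D37426 : act 7 n35927 = n37426 := rfl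
theorem F173414 : act 1 n37426 = n35929 := d14_1 D37426 (iv D35929) (iv F166609)
theorem F173415 : act 2 n37426 = n36003 := d21_1 D37426 (iv D36003) (iv F166610)
theorem F173416 : act 3 n37426 = n36286 := d27_1 D37426 F167903 (iv F166611)
theorem F173417 : act 4 n37426 = n35928 := d32_1 D37426 (iv D35928) D35927
theorem F173418 : act 8 n37426 = n36304 := d42_2 (iv F166613) D37426 F167941
theorem F173419 : act 9 n37426 = n36032 := d43_2 (iv F166614) D37426 (iv D36032)
def n37427 : Q := act 6 n35928
theorem D37427 : act 6 n35928 = n37427 := rfl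
theorem F173420 : act 1 n37427 = n35930 := d13_1 D37427 (iv D35930) (iv F166615)
theorem F173421 : act 2 n37427 = n36005 := d20_1 D37427 (iv D36005) (iv F166616)
theorem F173422 : act 3 n37427 = n36151 := d26_1 D37427 (iv D36151) (iv F166617)
theorem F173423 : act 5 n37427 = n36050 := d35_1 D37427 (iv D36050) F159343 (iv F158896) (iv F166618)
theorem F173424 : act 7 n37427 = n35969 := d39_2 D35928 D37427 (iv D35969) (iv D34257) (iv F158890)
theorem F173425 : act 8 n37427 = n36332 := d40_2 (iv F166619) D37427 F168007
theorem F173426 : act 9 n37427 = n36033 := d41_2 (iv F166620) D37427 (iv D36033)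
def n37428 : Q := act 6 n35929
theorem D37428 : act 6 n35929 = n37428 := rfl
theorem F173427 : act 2 n37428 = n35932 := d20_1 D37428 (iv D35932) (iv F166621)
theorem F173428 : act 4 n37428 = n35930 := d31_1 D37428 (iv D35930) (iv F166622)
theorem F173429 : act 7 n37428 = n35972 := d39_2 D35929 D37428 (iv D35972) (iv D34260) (iv F158900)
theorem F173430 : act 9 n37428 = n36035 := d41_2 (iv F166623) D37428 (iv D36035)
def n37429 : Q := act 8 n35930
theorem D37429 : act 8 n35930 = n37429 := rfl
theorem F173431 : act 1 n37429 = n36332 := d15_1 D37429 (iv F173425) F173420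
theorem F173432 : act 2 n37429 = n35934 := d22_1 D37429 (iv D35934) (iv F166624)
theorem F173433 : act 3 n37429 = n36153 := d28_1 D37429 (iv D36153) (iv F166625)
theorem F173434 : act 6 n37429 = n35931 := d40_1 D37429 (iv D35931) D35930
theorem F173435 : act 7 n37429 = n35974 := d42_1 D37429 (iv D35974) (iv F166627)
theorem F173436 : act 9 n37429 = n36281 := d44_2 (iv F166628) D37429 F167889 F167071 (iv D36037)
def n37430 : Q := act 5 n35932
theorem D37430 : act 5 n35932 = n37430 := rfl
theorem F173437 : act 1 n37430 = n36015 := d12_1 D37430 (iv D36015) (iv F166635)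
theorem F173438 : act 3 n37430 = n36188 := d25_1 D37430 (iv D36188) (iv F166636)
theorem F173439 : act 4 n37430 = n36058 := d30_1 D37430 (iv D36058) F159373 (iv F158922) (iv F166637)
theorem F173440 : act 7 n37430 = n35975 := d36_2 (iv F166638) D37430 (iv D35975)
theorem F173441 : act 9 n37430 = n36038 := d38_2 (iv F166639) D37430 (iv D36038)
def n37431 : Q := act 8 n35932
theorem D37431 : act 8 n35932 = n37431 := rfl
theorem F173442 : act 1 n37431 = n36016 := d15_1 D37431 (iv D36016) (iv F166635)
theorem F173443 : act 3 n37431 = n36189 := d28_1 D37431 (iv D36189) (iv F166636)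
theorem F173444 : act 4 n37431 = n35934 := d33_1 D37431 (iv D35934) (iv F166637)
theorem F173445 : act 6 n37431 = n35933 := d40_1 D37431 (iv D35933) D35932
theorem F173446 : act 7 n37431 = n35976 := d42_1 D37431 (iv D35976) (iv F166638)
def n37432 : Q := act 5 n35934
theorem D37432 : act 5 n35934 = n37432 := rfl
theorem F173447 : act 1 n37432 = n36021 := d12_1 D37432 (iv D36021) (iv F166644)
theorem F173448 : act 3 n37432 = n35935 := d25_1 D37432 (iv D35935) (iv F166645)
theorem F173449 : act 6 n37432 = n37432 := d35_2 (iv F166646) D37432 (iv D37432) F166646 F158927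
theorem F173450 : act 7 n37432 = n35977 := d36_2 (iv F166647) D37432 (iv D35977)
theorem F173451 : act 8 n37432 = n36064 := d37_2 D35934 D37432 (iv D36064) (iv D34352) (iv F158922)
def n37433 : Q := act 7 n35936
theorem D37433 : act 7 n35936 = n37433 := rfl
theorem F173452 : act 1 n37433 = n35939 := d14_1 D37433 (iv D35939) (iv F166654)
theorem F173453 : act 2 n37433 = n36032 := d21_1 D37433 (iv D36032) (iv F166655)
theorem F173454 : act 3 n37433 = n36054 := d27_1 D37433 F167123 (iv F166656)
theorem F173455 : act 4 n37433 = n35937 := d32_1 D37433 (iv D35937) D35936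
theorem F173456 : act 8 n37433 = n36052 := d42_2 (iv F166658) D37433 (iv D36052)
theorem F173457 : act 9 n37433 = n36003 := d43_2 (iv F166659) D37433 (iv D36003)
def n37434 : Q := act 6 n35937
theorem D37434 : act 6 n35937 = n37434 := rfl
theorem F173458 : act 1 n37434 = n35941 := d13_1 D37434 (iv D35941) (iv F166660)
theorem F173459 : act 2 n37434 = n36033 := d20_1 D37434 (iv D36033) (iv F166661)
theorem F173460 : act 3 n37434 = n36132 := d26_1 D37434 (iv D36132) (iv F166662)
theorem F173461 : act 5 n37434 = n35969 := d35_1 D37434 (iv D35969) F159057 (iv F158943) (iv F166663)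
theorem F173462 : act 7 n37434 = n36050 := d39_2 D35937 D37434 (iv D36050) (iv D34340) (iv F158937)
theorem F173463 : act 8 n37434 = n36160 := d40_2 (iv F166664) D37434 (iv D36160)
theorem F173464 : act 9 n37434 = n36005 := d41_2 (iv F166665) D37434 (iv D36005)
def n37435 : Q := act 7 n35938
theorem D37435 : act 7 n35938 = n37435 := rfl
theorem F173465 : act 1 n37435 = n36054 := d14_1 D37435 F167123 (iv F166666)
theorem F173466 : act 2 n37435 = n36241 := d21_1 D37435 (iv D36241) (iv F166667)
theorem F173467 : act 3 n37435 = n35939 := d27_1 D37435 (iv D35939) D35938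
theorem F173468 : act 4 n37435 = n36051 := d32_1 D37435 F167112 (iv F166668)
theorem F173469 : act 8 n37435 = n36049 := d42_2 F166671 D37435 (iv D36049)
theorem F173470 : act 9 n37435 = n36007 := d43_2 (iv F166670) D37435 (iv D36007)
def n37436 : Q := act 6 n35939
theorem D37436 : act 6 n35939 = n37436 := rfl
theorem F173471 : act 2 n37436 = n35943 := d20_1 D37436 (iv D35943) (iv F166672)
theorem F173472 : act 4 n37436 = n35941 := d31_1 D37436 (iv D35941) (iv F166673)
theorem F173473 : act 7 n37436 = n36053 := d39_2 D35939 D37436 (iv D36053) (iv D34343) (iv F158947)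
theorem F173474 : act 9 n37436 = n36009 := d41_2 (iv F166674) D37436 (iv D36009)
def n37437 : Q := act 8 n35939
theorem D37437 : act 8 n35939 = n37437 := rfl
theorem F173475 : act 1 n37437 = n36052 := d15_1 D37437 (iv F173456) F173452
theorem F173476 : act 2 n37437 = n35944 := d22_1 D37437 (iv D35944) (iv F166672)
theorem F173477 : act 3 n37437 = n36049 := d28_1 D37437 (iv F173469) F173467
theorem F173478 : act 4 n37437 = n35942 := d33_1 D37437 (iv D35942) (iv F166673)
theorem F173479 : act 7 n37437 = n35940 := d42_1 D37437 (iv D35940) D35939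
theorem F173480 : act 9 n36073 = n37437 := d43_0 F173479 (iv F166680) D36073
def n37438 : Q := act 8 n35941
theorem D37438 : act 8 n35941 = n37438 := rfl
theorem F173481 : act 1 n37438 = n36160 := d15_1 D37438 (iv F173463) F173458
theorem F173482 : act 2 n37438 = n35947 := d22_1 D37438 (iv D35947) (iv F166681)
theorem F173483 : act 3 n37438 = n36134 := d28_1 D37438 (iv D36134) (iv F166682)
theorem F173484 : act 6 n37438 = n35942 := d40_1 D37438 (iv D35942) D35941
theorem F173485 : act 7 n37438 = n36056 := d42_1 D37438 (iv D36056) (iv F166684)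
theorem F173486 : act 9 n36170 = n37438 := d41_0 F173484 (iv F166691) D36170
def n37439 : Q := act 5 n35943
theorem D37439 : act 5 n35943 = n37439 := rfl
theorem F173487 : act 1 n37439 = n36038 := d12_1 D37439 (iv D36038) (iv F166692)
theorem F173488 : act 3 n37439 = n36247 := d25_1 D37439 (iv D36247) (iv F166693)
theorem F173489 : act 4 n37439 = n35975 := d30_1 D37439 (iv D35975) F159080 (iv F158969) (iv F166694)
theorem F173490 : act 7 n37439 = n36058 := d36_2 (iv F166695) D37439 (iv D36058)
theorem F173491 : act 9 n37439 = n36015 := d38_2 (iv F166696) D37439 (iv D36015)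
def n37440 : Q := act 8 n35943
theorem D37440 : act 8 n35943 = n37440 := rfl
theorem F173492 : act 1 n37440 = n36039 := d15_1 D37440 (iv D36039) (iv F166692)
theorem F173493 : act 3 n37440 = n36248 := d28_1 D37440 (iv D36248) (iv F166693)
theorem F173494 : act 4 n37440 = n35947 := d33_1 D37440 (iv D35947) (iv F166694)
theorem F173495 : act 6 n37440 = n35944 := d40_1 D37440 (iv D35944) D35943
theorem F173496 : act 7 n37440 = n36059 := d42_1 D37440 (iv D36059) (iv F166695)
def n37441 : Q := act 5 n35944
theorem D37441 : act 5 n35944 = n37441 := rfl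
theorem F173497 : act 1 n37441 = n36040 := d12_1 D37441 (iv D36040) (iv F166697)
theorem F173498 : act 3 n37441 = n36249 := d25_1 D37441 (iv D36249) (iv F166698)
theorem F173499 : act 4 n37441 = n35980 := d30_1 D37441 (iv D35980) F159109 (iv F158974) (iv F166699)
theorem F173500 : act 7 n37441 = n35945 := d36_2 (iv F166700) D37441 (iv D35945)
def n37442 : Q := act 9 n35944
theorem D37442 : act 9 n35944 = n37442 := rfl
theorem F173501 : act 1 n37442 = n36041 := d16_1 D37442 (iv D36041) (iv F166697)
theorem F173502 : act 2 n37442 = n36073 := d23_1 D37442 F173480 F173476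
theorem F173503 : act 3 n37442 = n36250 := d29_1 D37442 (iv D36250) (iv F166698)
theorem F173504 : act 4 n37442 = n35948 := d34_1 D37442 (iv D35948) (iv F166699)
theorem F173505 : act 7 n37442 = n35946 := d43_1 D37442 (iv D35946) (iv F166700)
theorem F173506 : act 8 n37442 = n36018 := d44_1 D37442 (iv D36018) (iv D34308) (iv F158962) D35944
def n37443 : Q := act 6 n35945
theorem D37443 : act 6 n35945 = n37443 := rfl
theorem F173507 : act 1 n37443 = n36042 := d13_1 D37443 (iv D36042) (iv F166701)
theorem F173508 : act 3 n37443 = n36251 := d26_1 D37443 (iv D36251) (iv F166702)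
theorem F173509 : act 4 n37443 = n35981 := d31_1 D37443 (iv D35981) (iv F166703)
theorem F173510 : act 5 n37443 = n36062 := d35_1 D37443 (iv D36062) (iv D34350) (iv F158966) D35945
theorem F173511 : act 8 n37443 = n36208 := d40_2 F169105 D37443 (iv F169104)
def n37444 : Q := act 5 n35947
theorem D37444 : act 5 n35947 = n37444 := rfl
theorem F173512 : act 1 n37444 = n36043 := d12_1 D37444 (iv D36043) (iv F166710)
theorem F173513 : act 3 n37444 = n35949 := d25_1 D37444 (iv D35949) (iv F166711)
theorem F173514 : act 6 n37444 = n35982 := d35_2 (iv F166712) D37444 (iv D35982) F159115 (iv F158974)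
theorem F173515 : act 7 n37444 = n36064 := d36_2 (iv F166713) D37444 (iv D36064)
theorem F173516 : act 8 n37444 = n35977 := d37_2 D35947 D37444 (iv D35977) (iv D34266) (iv F158969)
def n37445 : Q := act 9 n35947
theorem D37445 : act 9 n35947 = n37445 := rfl
theorem F173517 : act 1 n37445 = n36044 := d16_1 D37445 (iv D36044) (iv F166710)
theorem F173518 : act 2 n37445 = n36170 := d23_1 D37445 F173486 F173482
theorem F173519 : act 3 n37445 = n35950 := d29_1 D37445 (iv D35950) (iv F166711)
theorem F173520 : act 6 n37445 = n35948 := d41_1 D37445 (iv D35948) (iv F166712)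
theorem F173521 : act 7 n37445 = n36065 := d43_1 D37445 (iv D36065) (iv F166713)
theorem F173522 : act 8 n37445 = n36022 := d44_1 D37445 (iv D36022) (iv D34311) (iv F158971) D35947
def n37446 : Q := act 9 n35949
theorem D37446 : act 9 n35949 = n37446 := rfl
theorem F173523 : act 1 n37446 = n36046 := d16_1 D37446 (iv D36046) (iv F166720)
theorem F173524 : act 2 n37446 = n36137 := d23_1 D37446 (iv D36137) (iv F166721)
theorem F173525 : act 4 n37446 = n36328 := d34_1 D37446 F168000 F166725
theorem F173526 : act 5 n37446 = n35950 := d38_1 D37446 (iv D35950) D35949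
theorem F173527 : act 6 n37446 = n35984 := d41_1 D37446 (iv D35984) (iv F166722)
theorem F173528 : act 7 n37446 = n36067 := d43_1 D37446 (iv D36067) (iv F166723)
def n37447 : Q := act 7 n35952
theorem D37447 : act 7 n35952 = n37447 := rfl
theorem F173529 : act 1 n37447 = n35955 := d14_1 D37447 (iv D35955) (iv F166738)
theorem F173530 : act 2 n37447 = n36049 := d21_1 D37447 (iv D36049) (iv F166739)
theorem F173531 : act 3 n37447 = n36243 := d27_1 D37447 F167784 (iv F166740)
theorem F173532 : act 4 n37447 = n35953 := d32_1 D37447 (iv D35953) D35952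
theorem F173533 : act 8 n37447 = n36241 := d42_2 (iv F166742) D37447 (iv D36241)
theorem F173534 : act 9 n37447 = n35967 := d43_2 (iv F166743) D37447 (iv D35967)
def n37448 : Q := act 6 n35953
theorem D37448 : act 6 n35953 = n37448 := rfl
theorem F173535 : act 1 n37448 = n35957 := d13_1 D37448 (iv D35957) (iv F166744)
theorem F173536 : act 2 n37448 = n36050 := d20_1 D37448 (iv D36050) (iv F166745)
theorem F173537 : act 3 n37448 = n36125 := d26_1 D37448 (iv D36125) (iv F166746)
theorem F173538 : act 5 n37448 = n36005 := d35_1 D37448 (iv D36005) F159208 (iv F159007) (iv F166747)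
theorem F173539 : act 7 n37448 = n36033 := d39_2 D35953 D37448 (iv D36033) (iv D34323) (iv F159001)
theorem F173540 : act 8 n37448 = n36317 := d40_2 (iv F166748) D37448 (iv D36317)
theorem F173541 : act 9 n37448 = n35969 := d41_2 (iv F166749) D37448 (iv D35969)
def n37449 : Q := act 7 n35954
theorem D37449 : act 7 n35954 = n37449 := rfl
theorem F173542 : act 1 n37449 = n36243 := d14_1 D37449 F167784 (iv F166750)
theorem F173543 : act 2 n37449 = n36196 := d21_1 D37449 (iv D36196) (iv F166751)
theorem F173544 : act 3 n37449 = n35955 := d27_1 D37449 (iv D35955) D35954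
theorem F173545 : act 4 n37449 = n36126 := d32_1 D37449 (iv D36126) (iv F166752)
theorem F173546 : act 8 n37449 = n36239 := d42_2 F166755 D37449 (iv D36239)
theorem F173547 : act 9 n37449 = n35971 := d43_2 (iv F166754) D37449 (iv D35971)
def n37450 : Q := act 6 n35955
theorem D37450 : act 6 n35955 = n37450 := rfl
theorem F173548 : act 2 n37450 = n35959 := d20_1 D37450 (iv D35959) (iv F166756)
theorem F173549 : act 4 n37450 = n35957 := d31_1 D37450 (iv D35957) (iv F166757)
theorem F173550 : act 7 n37450 = n36035 := d39_2 D35955 D37450 (iv D36035) (iv D34325) (iv F159011)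
theorem F173551 : act 9 n37450 = n35972 := d41_2 (iv F166758) D37450 (iv D35972)
def n37451 : Q := act 8 n35955
theorem D37451 : act 8 n35955 = n37451 := rfl
theorem F173552 : act 1 n37451 = n36241 := d15_1 D37451 (iv F173533) F173529
theorem F173553 : act 2 n37451 = n35960 := d22_1 D37451 (iv D35960) (iv F166756)
theorem F173554 : act 3 n37451 = n36239 := d28_1 D37451 (iv F173546) F173544
theorem F173555 : act 4 n37451 = n35958 := d33_1 D37451 (iv D35958) (iv F166757)
theorem F173556 : act 7 n37451 = n35956 := d42_1 D37451 (iv D35956) D35955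
theorem F173557 : act 9 n37451 = n36257 := d44_2 (iv F166758) D37451 (iv F168158) F168159 (iv D35973)
def n37452 : Q := act 5 n35956
theorem D37452 : act 5 n35956 = n37452 := rfl
theorem F173558 : act 1 n37452 = n36210 := d12_1 D37452 F167697 (iv F166759)
theorem F173559 : act 2 n37452 = n35961 := d19_1 D37452 (iv D35961) (iv F166760)
theorem F173560 : act 3 n37452 = n36208 := d25_1 D37452 F167690 (iv F166761)
theorem F173561 : act 4 n37452 = n37452 := d30_1 D37452 (iv D37452) F166762 F159020 (iv F166762)
theorem F173562 : act 6 n37452 = n36215 := d35_2 (iv F166763) D37452 (iv D36215) (iv F162006) F162005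
theorem F173563 : act 8 n37452 = n36251 := d37_2 D35956 D37452 F167808 (iv F164084) F164082
theorem F173564 : act 9 n37452 = n36218 := d38_2 (iv F166764) D37452 F167718
def n37453 : Q := act 8 n35957
theorem D37453 : act 8 n35957 = n37453 := rfl
theorem F173565 : act 1 n37453 = n36317 := d15_1 D37453 (iv F173540) F173535
theorem F173566 : act 2 n37453 = n35962 := d22_1 D37453 (iv D35962) (iv F166765)
theorem F173567 : act 3 n37453 = n36128 := d28_1 D37453 (iv D36128) (iv F166766)
theorem F173568 : act 6 n37453 = n35958 := d40_1 D37453 (iv D35958) D35957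
theorem F173569 : act 7 n37453 = n36037 := d42_1 D37453 (iv D36037) (iv F166768)
theorem F173570 : act 9 n37453 = n36272 := d44_2 (iv F166769) D37453 (iv F168271) F168272 (iv D35974)
def n37454 : Q := act 5 n35959
theorem D37454 : act 5 n35959 = n37454 := rfl
theorem F173571 : act 1 n37454 = n36058 := d12_1 D37454 (iv D36058) (iv F166776)
theorem F173572 : act 3 n37454 = n36198 := d25_1 D37454 (iv D36198) (iv F166777)
theorem F173573 : act 4 n37454 = n36015 := d30_1 D37454 (iv D36015) F159237 (iv F159033) (iv F166778)
theorem F173574 : act 7 n37454 = n36038 := d36_2 (iv F166779) D37454 (iv D36038)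
theorem F173575 : act 9 n37454 = n35975 := d38_2 (iv F166780) D37454 (iv D35975)
def n37455 : Q := act 8 n35959
theorem D37455 : act 8 n35959 = n37455 := rfl
theorem F173576 : act 1 n37455 = n36059 := d15_1 D37455 (iv D36059) (iv F166776)
theorem F173577 : act 3 n37455 = n36199 := d28_1 D37455 (iv D36199) (iv F166777)
theorem F173578 : act 4 n37455 = n35962 := d33_1 D37455 (iv D35962) (iv F166778)
theorem F173579 : act 6 n37455 = n35960 := d40_1 D37455 (iv D35960) D35959
theorem F173580 : act 7 n37455 = n36039 := d42_1 D37455 (iv D36039) (iv F166779)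
def n37456 : Q := act 5 n35960
theorem D37456 : act 5 n35960 = n37456 := rfl
theorem F173581 : act 1 n37456 = n36060 := d12_1 D37456 (iv D36060) (iv F166781)
theorem F173582 : act 3 n37456 = n36200 := d25_1 D37456 (iv D36200) (iv F166782)
theorem F173583 : act 4 n37456 = n37456 := d30_1 D37456 (iv D37456) F166783 F159038 (iv F166783)
theorem F173584 : act 7 n37456 = n35961 := d36_2 (iv F166784) D37456 (iv D35961)
def n37457 : Q := act 6 n35961
theorem D37457 : act 6 n35961 = n37457 := rfl
theorem F173585 : act 1 n37457 = n36062 := d13_1 D37457 (iv D36062) (iv F166785)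
theorem F173586 : act 2 n37457 = n36215 := d20_1 D37457 (iv F173562) F173559
theorem F173587 : act 3 n37457 = n36201 := d26_1 D37457 (iv D36201) (iv F166786)
theorem F173588 : act 4 n37457 = n37457 := d31_1 D37457 (iv D37457) F166787
theorem F173589 : act 5 n37457 = n36042 := d35_1 D37457 (iv D36042) (iv D34331) (iv F159030) D35961
theorem F173590 : act 8 n37457 = n36244 := d40_2 F171335 D37457 (iv F171334)
def n37458 : Q := act 5 n35962
theorem D37458 : act 5 n35962 = n37458 := rfl
theorem F173591 : act 1 n37458 = n36064 := d12_1 D37458 (iv D36064) (iv F166788)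
theorem F173592 : act 3 n37458 = n35963 := d25_1 D37458 (iv D35963) (iv F166789)
theorem F173593 : act 6 n37458 = n37458 := d35_2 (iv F166790) D37458 (iv D37458) F166790 F159038
theorem F173594 : act 7 n37458 = n36043 := d36_2 (iv F166791) D37458 (iv D36043)
theorem F173595 : act 8 n37458 = n36021 := d37_2 D35962 D37458 (iv D36021) (iv D34311) (iv F159033)
def n37459 : Q := act 4 n35963
theorem D37459 : act 4 n35963 = n37459 := rfl
theorem F173596 : act 1 n37459 = n36066 := d11_1 D37459 (iv D36066) (iv F166792)
theorem F173597 : act 2 n37459 = n36131 := d18_1 D37459 (iv D36131) (iv F166793)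
theorem F173598 : act 5 n37459 = n36203 := d30_2 D35963 D37459 (iv D36203) (iv D34537) (iv F159042)
theorem F173599 : act 6 n37459 = n37459 := d31_2 F166794 D37459 (iv D37459)
theorem F173600 : act 7 n37459 = n36045 := d32_2 (iv F166795) D37459 (iv D36045)
theorem F173601 : act 8 n37459 = n36023 := d33_2 (iv F166796) D37459 (iv D36023)
def n37460 : Q := act 7 n35964
theorem D37460 : act 7 n35964 = n37460 := rfl
theorem F173602 : act 0 n37460 = n35967 := d6_1 D37460 (iv D35967) (iv F166797)
theorem F173603 : act 2 n37460 = n36069 := d21_1 D37460 (iv D36069) (iv F166798)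
theorem F173604 : act 4 n37460 = n35965 := d32_1 D37460 (iv D35965) D35964
def n37461 : Q := act 6 n35965
theorem D37461 : act 6 n35965 = n37461 := rfl
theorem F173605 : act 0 n37461 = n35969 := d5_1 D37461 (iv D35969) (iv F166799)
theorem F173606 : act 2 n37461 = n36071 := d20_1 D37461 (iv D36071) (iv F166800)
theorem F173607 : act 3 n37461 = n36371 := d26_1 D37461 (iv D36371) (iv F166801)
def n37462 : Q := act 7 n35966
theorem D37462 : act 7 n35966 = n37462 := rfl
theorem F173608 : act 1 n37462 = n35971 := d14_1 D37462 (iv D35971) (iv F166803)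
theorem F173609 : act 2 n37462 = n36250 := d21_1 D37462 F167805 (iv F166804)
theorem F173610 : act 3 n37462 = n35967 := d27_1 D37462 (iv D35967) D35966
theorem F173611 : act 4 n37462 = n36246 := d32_1 D37462 F167795 (iv F166805)
theorem F173612 : act 8 n37462 = n36263 := d42_2 F166808 D37462 F167848
theorem F173613 : act 9 n37462 = n36243 := d43_2 (iv F166807) D37462 F167784
def n37463 : Q := act 6 n35967
theorem D37463 : act 6 n35967 = n37463 := rfl
theorem F173614 : act 1 n37463 = n35972 := d13_1 D37463 (iv D35972) (iv F166809)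
theorem F173615 : act 2 n37463 = n36074 := d20_1 D37463 (iv D36074) (iv F166810)
theorem F173616 : act 4 n37463 = n35969 := d31_1 D37463 (iv D35969) (iv F166811)
def n37464 : Q := act 8 n35967
theorem D37464 : act 8 n35967 = n37464 := rfl
theorem F173617 : act 1 n37464 = n35973 := d15_1 D37464 (iv D35973) (iv F166809)
theorem F173618 : act 2 n37464 = n36075 := d22_1 D37464 (iv D36075) (iv F166810)
theorem F173619 : act 3 n37464 = n36263 := d28_1 D37464 (iv F173612) F173610
theorem F173620 : act 4 n37464 = n35970 := d33_1 D37464 (iv D35970) (iv F166811)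
theorem F173621 : act 7 n37464 = n35968 := d42_1 D37464 (iv D35968) D35967
theorem F173622 : act 9 n37464 = n36260 := d44_2 F173534 D37464 (iv D36260) (iv F167777) (iv F173533)
def n37465 : Q := act 8 n35969
theorem D37465 : act 8 n35969 = n37465 := rfl
theorem F173623 : act 1 n37465 = n35974 := d15_1 D37465 (iv D35974) (iv F166818)
theorem F173624 : act 2 n37465 = n36077 := d22_1 D37465 (iv D36077) (iv F166819)
theorem F173625 : act 3 n37465 = n36323 := d28_1 D37465 F167988 (iv F166820)
theorem F173626 : act 6 n37465 = n35970 := d40_1 D37465 (iv D35970) D35969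
theorem F173627 : act 7 n37465 = n36332 := d42_1 D37465 (iv F173425) F173424
theorem F173628 : act 9 n37465 = n36322 := d44_2 F173541 D37465 (iv D36322) (iv F167963) (iv F173540)
def n37466 : Q := act 6 n35971
theorem D37466 : act 6 n35971 = n37466 := rfl
theorem F173629 : act 2 n37466 = n36204 := d20_1 D37466 (iv D36204) (iv F166827)
theorem F173630 : act 3 n37466 = n35972 := d26_1 D37466 (iv D35972) (iv F166828)
theorem F173631 : act 4 n37466 = n36274 := d31_1 D37466 F167873 (iv F166829)
theorem F173632 : act 8 n37466 = n36273 := d40_2 (iv F166830) D37466 (iv D36273)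
def n37467 : Q := act 5 n35972
theorem D37467 : act 5 n35972 = n37467 := rfl
theorem F173633 : act 2 n37467 = n35975 := d19_1 D37467 (iv D35975) (iv F166831)
def n37468 : Q := act 8 n35972
theorem D37468 : act 8 n35972 = n37468 := rfl
theorem F173634 : act 2 n37468 = n35976 := d22_1 D37468 (iv D35976) (iv F166831)
theorem F173635 : act 3 n37468 = n36273 := d28_1 D37468 (iv F173632) F173630
theorem F173636 : act 4 n37468 = n35974 := d33_1 D37468 (iv D35974) (iv F166832)
theorem F173637 : act 6 n37468 = n35973 := d40_1 D37468 (iv D35973) D35972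
def n37469 : Q := act 5 n35974
theorem D37469 : act 5 n35974 = n37469 := rfl
theorem F173638 : act 2 n37469 = n35977 := d19_1 D37469 (iv D35977) (iv F166837)
theorem F173639 : act 3 n37469 = n36324 := d25_1 D37469 (iv D36324) (iv F166838)
theorem F173640 : act 6 n37469 = n35986 := d35_2 (iv F166839) D37469 (iv D35986) F159161 (iv F159076)
def n37470 : Q := act 8 n35975
theorem D37470 : act 8 n35975 = n37470 := rfl
theorem F173641 : act 1 n37470 = n36089 := d15_1 D37470 (iv D36089) (iv F166840)
theorem F173642 : act 3 n37470 = n36206 := d28_1 D37470 (iv D36206) (iv F166841)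
def n37471 : Q := act 5 n35976
theorem D37471 : act 5 n35976 = n37471 := rfl
theorem F173643 : act 1 n37471 = n36090 := d12_1 D37471 (iv D36090) (iv F166842)
theorem F173644 : act 3 n37471 = n36207 := d25_1 D37471 (iv D36207) (iv F166843)
def n37472 : Q := act 4 n35977
theorem D37472 : act 4 n35977 = n37472 := rfl
theorem F173645 : act 1 n37472 = n36094 := d11_1 D37472 (iv D36094) (iv F166846)
theorem F173646 : act 3 n37472 = n36329 := d24_1 D37472 (iv D36329) F160544 (iv F159090) (iv F166847)
theorem F173647 : act 6 n37472 = n35987 := d31_2 (iv F166848) D37472 (iv D35987)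
def n37473 : Q := act 5 n35978
theorem D37473 : act 5 n35978 = n37473 := rfl
theorem F173648 : act 1 n37473 = n36181 := d12_1 D37473 (iv D36181) (iv F166849)
theorem F173649 : act 2 n37473 = n35982 := d19_1 D37473 (iv D35982) (iv F166850)
theorem F173650 : act 3 n37473 = n36180 := d25_1 D37473 (iv D36180) (iv F166851)
theorem F173651 : act 7 n37473 = n37473 := d36_2 F166853 D37473 (iv D37473)
theorem F173652 : act 8 n37473 = n35986 := d37_2 D35978 D37473 (iv D35986) (iv D34283) (iv F159094)
theorem F173653 : act 9 n37473 = n36182 := d38_2 F166854 D37473 (iv D36182)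
def n37474 : Q := act 5 n35979
theorem D37474 : act 5 n35979 = n37474 := rfl
theorem F173654 : act 1 n37474 = n36100 := d12_1 D37474 (iv D36100) (iv F166855)
theorem F173655 : act 3 n37474 = n37474 := d25_1 D37474 (iv D37474) F166856
theorem F173656 : act 7 n37474 = n37474 := d36_2 F166859 D37474 (iv D37474)
def n37475 : Q := act 6 n35980
theorem D37475 : act 6 n35980 = n37475 := rfl
theorem F173657 : act 1 n37475 = n36101 := d13_1 D37475 (iv D36101) (iv F166860)
theorem F173658 : act 3 n37475 = n37475 := d26_1 D37475 (iv D37475) F166861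
def n37476 : Q := act 7 n35981
theorem D37476 : act 7 n35981 = n37476 := rfl
theorem F173659 : act 1 n37476 = n36102 := d14_1 D37476 (iv D36102) (iv F166863)
theorem F173660 : act 3 n37476 = n37476 := d27_1 D37476 (iv D37476) F166864
theorem F173661 : act 5 n37476 = n37476 := d36_1 D37476 (iv D37476) F166865
theorem F173662 : act 8 n37476 = n36209 := d42_2 (iv F166866) D37476 (iv D36209)
def n37477 : Q := act 4 n35982
theorem D37477 : act 4 n35982 = n37477 := rfl
theorem F173663 : act 1 n37477 = n36103 := d11_1 D37477 (iv D36103) (iv F166867)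
theorem F173664 : act 3 n37477 = n36335 := d24_1 D37477 F168013 F160585 F159126 (iv F166868)
theorem F173665 : act 7 n37477 = n37477 := d32_2 F166869 D37477 (iv D37477)
theorem F173666 : act 8 n37477 = n35987 := d33_2 (iv F166870) D37477 (iv D35987)
def n37478 : Q := act 9 n35982
theorem D37478 : act 9 n35982 = n37478 := rfl
theorem F173667 : act 1 n37478 = n36104 := d16_1 D37478 (iv D36104) (iv F166867)
theorem F173668 : act 2 n37478 = n36182 := d23_1 D37478 (iv F173653) F173649
theorem F173669 : act 3 n37478 = n35984 := d29_1 D37478 (iv D35984) (iv F166868)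
theorem F173670 : act 5 n37478 = n35983 := d38_1 D37478 (iv D35983) D35982
theorem F173671 : act 7 n37478 = n37478 := d43_1 D37478 (iv D37478) F166869
def n37479 : Q := act 4 n35986
theorem D37479 : act 4 n35986 = n37479 := rfl
theorem F173672 : act 2 n37479 = n35987 := d18_1 D37479 (iv D35987) (iv F166887)
theorem F173673 : act 7 n37479 = n37479 := d32_2 F166889 D37479 (iv D37479)
def n37480 : Q := act 3 n35988
theorem D37480 : act 3 n35988 = n37480 := rfl
theorem F173674 : act 1 n37480 = n35990 := d10_1 D37480 (iv D35990) (iv F166893)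
theorem F173675 : act 2 n37480 = n36063 := d17_1 D37480 F167149 (iv F166015) (iv F169795) F169794
theorem F173676 : act 4 n37480 = n37480 := d24_2 D35988 D37480 (iv D37480) (iv D35988) F159173
theorem F173677 : act 5 n37480 = n36002 := d25_2 (iv F166894) D37480 (iv D36002)
theorem F173678 : act 9 n37480 = n36055 := d29_2 F170844 D37480 F170845
def n37481 : Q := act 7 n35988
theorem D37481 : act 7 n35988 = n37481 := rfl
theorem F173679 : act 1 n37481 = n35991 := d14_1 D37481 (iv D35991) (iv F166893)
theorem F173680 : act 4 n37481 = n35989 := d32_1 D37481 (iv D35989) D35988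
theorem F173681 : act 5 n37481 = n36003 := d36_1 D37481 (iv D36003) (iv F166894)
def n37482 : Q := act 6 n35989
theorem D37482 : act 6 n35989 = n37482 := rfl
theorem F173682 : act 1 n37482 = n35993 := d13_1 D37482 (iv D35993) (iv F166895)
theorem F173683 : act 3 n37482 = n37482 := d26_1 D37482 (iv D37482) F166896
def n37483 : Q := act 7 n35990
theorem D37483 : act 7 n35990 = n37483 := rfl
theorem F173684 : act 2 n37483 = n36221 := d21_1 D37483 (iv D36221) (iv F166898)
theorem F173685 : act 3 n37483 = n35991 := d27_1 D37483 (iv D35991) D35990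
theorem F173686 : act 4 n37483 = n37483 := d32_1 D37483 (iv D37483) F166899
theorem F173687 : act 5 n37483 = n36007 := d36_1 D37483 (iv D36007) (iv F166900)
def n37484 : Q := act 8 n35990
theorem D37484 : act 8 n35990 = n37484 := rfl
theorem F173688 : act 2 n37484 = n36222 := d22_1 D37484 (iv D36222) (iv F166898)
theorem F173689 : act 3 n37484 = n35992 := d28_1 D37484 (iv D35992) D35990
theorem F173690 : act 4 n37484 = n37484 := d33_1 D37484 (iv D37484) F166899
def n37485 : Q := act 6 n35991
theorem D37485 : act 6 n35991 = n37485 := rfl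
theorem F173691 : act 2 n37485 = n35995 := d20_1 D37485 (iv D35995) (iv F166901)
theorem F173692 : act 4 n37485 = n35993 := d31_1 D37485 (iv D35993) (iv F166902)
def n37486 : Q := act 8 n35991
theorem D37486 : act 8 n35991 = n37486 := rfl
theorem F173693 : act 2 n37486 = n35996 := d22_1 D37486 (iv D35996) (iv F166901)
theorem F173694 : act 4 n37486 = n35994 := d33_1 D37486 (iv D35994) (iv F166902)
theorem F173695 : act 7 n37486 = n35992 := d42_1 D37486 (iv D35992) D35991
def n37487 : Q := act 5 n35992
theorem D37487 : act 5 n35992 = n37487 := rfl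
theorem F173696 : act 2 n37487 = n35997 := d19_1 D37487 (iv D35997) (iv F166904)
theorem F173697 : act 4 n37487 = n37487 := d30_1 D37487 (iv D37487) F166905 F159185 (iv F166905)
theorem F173698 : act 8 n37487 = n36011 := d37_2 D35992 D37487 (iv D36011) (iv D34303) (iv F159179)
def n37488 : Q := act 8 n35993
theorem D37488 : act 8 n35993 = n37488 := rfl
theorem F173699 : act 2 n37488 = n35998 := d22_1 D37488 (iv D35998) (iv F166906)
theorem F173700 : act 3 n37488 = n37488 := d28_1 D37488 (iv D37488) F166907
theorem F173701 : act 6 n37488 = n35994 := d40_1 D37488 (iv D35994) D35993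
def n37489 : Q := act 5 n35995
theorem D37489 : act 5 n35995 = n37489 := rfl
theorem F173702 : act 3 n37489 = n36228 := d25_1 D37489 (iv D36228) (iv F166912)
theorem F173703 : act 6 n37489 = n36015 := d35_2 D35995 D37489 (iv D36015) (iv D34307) (iv F159188)
def n37490 : Q := act 8 n35995
theorem D37490 : act 8 n35995 = n37490 := rfl
theorem F173704 : act 3 n37490 = n36229 := d28_1 D37490 (iv D36229) (iv F166912)
theorem F173705 : act 4 n37490 = n35998 := d33_1 D37490 (iv D35998) (iv F166913)
theorem F173706 : act 6 n37490 = n35996 := d40_1 D37490 (iv D35996) D35995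
def n37491 : Q := act 5 n35996
theorem D37491 : act 5 n35996 = n37491 := rfl
theorem F173707 : act 3 n37491 = n36230 := d25_1 D37491 (iv D36230) (iv F166914)
theorem F173708 : act 4 n37491 = n37491 := d30_1 D37491 (iv D37491) F166915 F159193 (iv F166915)
theorem F173709 : act 7 n37491 = n35997 := d36_2 (iv F166916) D37491 (iv D35997)
theorem F173710 : act 8 n37491 = n36017 := d37_2 D35996 D37491 (iv D36017) (iv D34308) (iv F159188)
def n37492 : Q := act 6 n35997
theorem D37492 : act 6 n35997 = n37492 := rfl
theorem F173711 : act 3 n37492 = n36232 := d26_1 D37492 (iv D36232) (iv F166917)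
theorem F173712 : act 4 n37492 = n37492 := d31_1 D37492 (iv D37492) F166918
theorem F173713 : act 8 n37492 = n36019 := d40_2 (iv F166919) D37492 (iv D36019)
def n37493 : Q := act 5 n35998
theorem D37493 : act 5 n35998 = n37493 := rfl
theorem F173714 : act 3 n37493 = n35999 := d25_1 D37493 (iv D35999) (iv F166920)
theorem F173715 : act 6 n37493 = n37493 := d35_2 (iv F166921) D37493 (iv D37493) F166921 F159193
def n37494 : Q := act 4 n35999
theorem D37494 : act 4 n35999 = n37494 := rfl
theorem F173716 : act 2 n37494 = n37494 := d18_1 D37494 (iv D37494) F166922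
theorem F173717 : act 5 n37494 = n36236 := d30_2 D35999 D37494 (iv D36236) (iv D34565) (iv F159196)
theorem F173718 : act 6 n37494 = n37494 := d31_2 F166923 D37494 (iv D37494)
def n37495 : Q := act 7 n36000
theorem D37495 : act 7 n36000 = n37495 := rfl
theorem F173719 : act 0 n37495 = n36003 := d6_1 D37495 (iv D36003) (iv F166924)
theorem F173720 : act 4 n37495 = n36001 := d32_1 D37495 (iv D36001) D36000
def n37496 : Q := act 6 n36001
theorem D37496 : act 6 n36001 = n37496 := rfl
theorem F173721 : act 0 n37496 = n36005 := d5_1 D37496 (iv D36005) (iv F166926)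
theorem F173722 : act 3 n37496 = n36138 := d26_1 D37496 (iv D36138) (iv F166927)
theorem F173723 : act 7 n37496 = n36071 := d39_2 D36001 D37496 (iv D36071) (iv D34357) (iv F159200)
def n37497 : Q := act 7 n36002
theorem D37497 : act 7 n36002 = n37497 := rfl
theorem F173724 : act 1 n37497 = n36007 := d14_1 D37497 (iv D36007) (iv F166929)
theorem F173725 : act 2 n37497 = n36061 := d21_1 D37497 F167145 (iv F166930)
theorem F173726 : act 3 n37497 = n36003 := d27_1 D37497 (iv D36003) D36002
theorem F173727 : act 4 n37497 = n36057 := d32_1 D37497 F167133 (iv F166931)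
theorem F173728 : act 8 n37497 = n36085 := d42_2 F166934 D37497 F167215
theorem F173729 : act 9 n37497 = n36054 := d43_2 (iv F166933) D37497 F167123
def n37498 : Q := act 6 n36003
theorem D37498 : act 6 n36003 = n37498 := rfl
theorem F173730 : act 1 n37498 = n36009 := d13_1 D37498 (iv D36009) (iv F166935)
theorem F173731 : act 4 n37498 = n36005 := d31_1 D37498 (iv D36005) (iv F166936)
theorem F173732 : act 7 n37498 = n36074 := d39_2 D36003 D37498 (iv D36074) (iv D34360) (iv F159205)
def n37499 : Q := act 8 n36003
theorem D37499 : act 8 n36003 = n37499 := rfl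
theorem F173733 : act 1 n37499 = n36010 := d15_1 D37499 (iv D36010) (iv F166935)
theorem F173734 : act 2 n37499 = n36304 := d22_1 D37499 (iv F173418) F173415
theorem F173735 : act 3 n37499 = n36085 := d28_1 D37499 (iv F173728) F173726
theorem F173736 : act 4 n37499 = n36006 := d33_1 D37499 (iv D36006) (iv F166936)
theorem F173737 : act 7 n37499 = n36004 := d42_1 D37499 (iv D36004) D36003
theorem F173738 : act 9 n37499 = n36080 := d44_2 F173457 D37499 (iv D36080) (iv F167117) (iv F173456)
def n37500 : Q := act 8 n36005
theorem D37500 : act 8 n36005 = n37500 := rfl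
theorem F173739 : act 1 n37500 = n36013 := d15_1 D37500 (iv D36013) (iv F166943)
theorem F173740 : act 2 n37500 = n36332 := d22_1 D37500 (iv F173425) F173421
theorem F173741 : act 3 n37500 = n36140 := d28_1 D37500 (iv D36140) (iv F166944)
theorem F173742 : act 6 n37500 = n36006 := d40_1 D37500 (iv D36006) D36005
theorem F173743 : act 7 n37500 = n36077 := d42_1 D37500 (iv D36077) (iv F166945)
theorem F173744 : act 9 n37500 = n36174 := d44_2 F173464 D37500 (iv D36174) (iv F167527) (iv F173463)
def n37501 : Q := act 6 n36007
theorem D37501 : act 6 n36007 = n37501 := rfl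
theorem F173745 : act 2 n37501 = n36259 := d20_1 D37501 (iv D36259) (iv F166952)
theorem F173746 : act 3 n37501 = n36009 := d26_1 D37501 (iv D36009) (iv F166953)
theorem F173747 : act 4 n37501 = n36141 := d31_1 D37501 (iv D36141) (iv F166954)
theorem F173748 : act 7 n37501 = n36079 := d39_2 D36007 D37501 (iv D36079) (iv D34365) (iv F159217)
def n37502 : Q := act 8 n36007
theorem D37502 : act 8 n36007 = n37502 := rfl
theorem F173749 : act 1 n37502 = n36085 := d15_1 D37502 (iv F173728) F173724
theorem F173750 : act 2 n37502 = n36260 := d22_1 D37502 (iv D36260) (iv F166952)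
theorem F173751 : act 3 n37502 = n36010 := d28_1 D37502 (iv D36010) (iv F166953)
theorem F173752 : act 4 n37502 = n36078 := d33_1 D37502 F167195 (iv F166954)
theorem F173753 : act 7 n37502 = n36008 := d42_1 D37502 (iv D36008) D36007
theorem F173754 : act 9 n37502 = n36075 := d44_2 F173470 D37502 (iv D36075) (iv F167104) (iv F173469)
def n37503 : Q := act 5 n36009
theorem D37503 : act 5 n36009 = n37503 := rfl
theorem F173755 : act 2 n37503 = n36015 := d19_1 D37503 (iv D36015) (iv F166961)
theorem F173756 : act 7 n37503 = n36082 := d36_2 (iv F166963) D37503 (iv D36082)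
def n37504 : Q := act 8 n36009
theorem D37504 : act 8 n36009 = n37504 := rfl
theorem F173757 : act 2 n37504 = n36016 := d22_1 D37504 (iv D36016) (iv F166961)
theorem F173758 : act 4 n37504 = n36013 := d33_1 D37504 (iv D36013) (iv F166962)
theorem F173759 : act 6 n37504 = n36010 := d40_1 D37504 (iv D36010) D36009
theorem F173760 : act 7 n37504 = n36083 := d42_1 D37504 (iv D36083) (iv F166963)
def n37505 : Q := act 5 n36010
theorem D37505 : act 5 n36010 = n37505 := rfl
theorem F173761 : act 2 n37505 = n36017 := d19_1 D37505 (iv D36017) (iv F166964)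
theorem F173762 : act 4 n37505 = n37505 := d30_1 D37505 (iv D37505) F166965 F159228 (iv F166965)
theorem F173763 : act 7 n37505 = n36011 := d36_2 (iv F166966) D37505 (iv D36011)
def n37506 : Q := act 9 n36010
theorem D37506 : act 9 n36010 = n37506 := rfl
theorem F173764 : act 1 n37506 = n36080 := d16_1 D37506 (iv F173738) F173733
theorem F173765 : act 2 n37506 = n36018 := d23_1 D37506 (iv D36018) (iv F166964)
theorem F173766 : act 3 n37506 = n36075 := d29_1 D37506 (iv F173754) F173751
theorem F173767 : act 4 n37506 = n36014 := d34_1 D37506 (iv D36014) (iv F166965)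
theorem F173768 : act 7 n37506 = n36012 := d43_1 D37506 (iv D36012) (iv F166966)
theorem F173769 : act 8 n37506 = n36073 := d44_1 D37506 F173480 (iv D37437) F166674 D36010
def n37507 : Q := act 6 n36011
theorem D37507 : act 6 n36011 = n37507 := rfl
theorem F173770 : act 2 n37507 = n36019 := d20_1 D37507 (iv D36019) (iv F166967)
theorem F173771 : act 4 n37507 = n37507 := d31_1 D37507 (iv D37507) F166968
theorem F173772 : act 5 n37507 = n36086 := d35_1 D37507 (iv D36086) (iv D34369) (iv F159222) D36011
def n37508 : Q := act 9 n36011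
theorem D37508 : act 9 n36011 = n37508 := rfl
theorem F173773 : act 1 n37508 = n36081 := d16_1 D37508 (iv F171484) F171480
theorem F173774 : act 2 n37508 = n36020 := d23_1 D37508 (iv D36020) (iv F166967)
theorem F173775 : act 3 n37508 = n36076 := d29_1 D37508 (iv F170099) F170096
theorem F173776 : act 4 n37508 = n37508 := d34_1 D37508 (iv D37508) F166968
theorem F173777 : act 5 n37508 = n36012 := d38_1 D37508 (iv D36012) D36011
def n37509 : Q := act 5 n36013
theorem D37509 : act 5 n36013 = n37509 := rfl
theorem F173778 : act 2 n37509 = n36021 := d19_1 D37509 (iv D36021) (iv F166975)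
theorem F173779 : act 3 n37509 = n36144 := d25_1 D37509 (iv D36144) (iv F166976)
theorem F173780 : act 6 n37509 = n37509 := d35_2 (iv F166977) D37509 (iv D37509) F166977 F159228
theorem F173781 : act 7 n37509 = n36087 := d36_2 (iv F166978) D37509 (iv D36087)
def n37510 : Q := act 9 n36013
theorem D37510 : act 9 n36013 = n37510 := rfl
theorem F173782 : act 1 n37510 = n36174 := d16_1 D37510 (iv F173744) F173739
theorem F173783 : act 2 n37510 = n36022 := d23_1 D37510 (iv D36022) (iv F166975)
theorem F173784 : act 3 n37510 = n36145 := d29_1 D37510 (iv D36145) (iv F166976)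
theorem F173785 : act 6 n37510 = n36014 := d41_1 D37510 (iv D36014) (iv F166977)
theorem F173786 : act 7 n37510 = n36088 := d43_1 D37510 (iv D36088) (iv F166978)
theorem F173787 : act 8 n37510 = n36170 := d44_1 D37510 F173486 (iv D37438) F166685 D36013
def n37511 : Q := act 8 n36015
theorem D37511 : act 8 n36015 = n37511 := rfl
theorem F173788 : act 3 n37511 = n36265 := d28_1 D37511 (iv D36265) (iv F166985)
theorem F173789 : act 7 n37511 = n36089 := d42_1 D37511 (iv D36089) (iv F166986)
def n37512 : Q := act 5 n36016
theorem D37512 : act 5 n36016 = n37512 := rfl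
theorem F173790 : act 3 n37512 = n36266 := d25_1 D37512 (iv D36266) (iv F166987)
theorem F173791 : act 7 n37512 = n36090 := d36_2 (iv F166990) D37512 (iv D36090)
def n37513 : Q := act 9 n36016
theorem D37513 : act 9 n36016 = n37513 := rfl
theorem F173792 : act 3 n37513 = n36267 := d29_1 D37513 (iv D36267) (iv F166987)
theorem F173793 : act 4 n37513 = n36022 := d34_1 D37513 (iv D36022) (iv F166988)
theorem F173794 : act 6 n37513 = n36018 := d41_1 D37513 (iv D36018) (iv F166989)
theorem F173795 : act 7 n37513 = n36091 := d43_1 D37513 (iv D36091) (iv F166990)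
def n37514 : Q := act 6 n36017
theorem D37514 : act 6 n36017 = n37514 := rfl
theorem F173796 : act 3 n37514 = n36268 := d26_1 D37514 (iv D36268) (iv F166991)
theorem F173797 : act 4 n37514 = n37514 := d31_1 D37514 (iv D37514) F166992
def n37515 : Q := act 9 n36017
theorem D37515 : act 9 n36017 = n37515 := rfl
theorem F173798 : act 3 n37515 = n36269 := d29_1 D37515 (iv D36269) (iv F166991)
theorem F173799 : act 4 n37515 = n37515 := d34_1 D37515 (iv D37515) F166992
theorem F173800 : act 5 n37515 = n36018 := d38_1 D37515 (iv D36018) D36017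
theorem F173801 : act 7 n37515 = n36020 := d43_1 D37515 (iv D36020) (iv F166993)
def n37516 : Q := act 7 n36019
theorem D37516 : act 7 n36019 = n37516 := rfl
theorem F173802 : act 3 n37516 = n36270 := d27_1 D37516 (iv D36270) (iv F166997)
theorem F173803 : act 4 n37516 = n37516 := d32_1 D37516 (iv D37516) F166998
theorem F173804 : act 5 n37516 = n36093 := d36_1 D37516 (iv D36093) (iv F166999)
def n37517 : Q := act 8 n36020
theorem D37517 : act 8 n36020 = n37517 := rfl
theorem F173805 : act 3 n37517 = n36271 := d28_1 D37517 (iv D36271) (iv F167000)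
theorem F173806 : act 4 n37517 = n37517 := d33_1 D37517 (iv D37517) F167001
def n37518 : Q := act 4 n36021
theorem D37518 : act 4 n36021 = n37518 := rfl
theorem F173807 : act 6 n37518 = n37518 := d31_2 F167004 D37518 (iv D37518)
theorem F173808 : act 7 n37518 = n36094 := d32_2 (iv F167005) D37518 (iv D36094)
def n37519 : Q := act 9 n36021
theorem D37519 : act 9 n36021 = n37519 := rfl
theorem F173809 : act 3 n37519 = n36024 := d29_1 D37519 (iv D36024) (iv F167003)
theorem F173810 : act 5 n37519 = n36022 := d38_1 D37519 (iv D36022) D36021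
theorem F173811 : act 6 n37519 = n37519 := d41_1 D37519 (iv D37519) F167004
theorem F173812 : act 7 n37519 = n36095 := d43_1 D37519 (iv D36095) (iv F167005)
def n37520 : Q := act 3 n36023
theorem D37520 : act 3 n36023 = n37520 := rfl
theorem F173813 : act 1 n37520 = n36321 := d10_1 D37520 F167977 (iv F167009)
theorem F173814 : act 5 n37520 = n36272 := d25_2 (iv F167011) D37520 (iv D36272)
theorem F173815 : act 6 n37520 = n37520 := d26_2 F167012 D37520 (iv D37520)
theorem F173816 : act 7 n37520 = n36096 := d27_2 (iv F167013) D37520 (iv D36096)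
def n37521 : Q := act 9 n36023
theorem D37521 : act 9 n36023 = n37521 := rfl
theorem F173817 : act 1 n37521 = n36318 := d16_1 D37521 F167967 (iv F167009)
theorem F173818 : act 2 n37521 = n36130 := d23_1 D37521 F167369 (iv F167010)
theorem F173819 : act 4 n37521 = n36024 := d34_1 D37521 (iv D36024) D36023
theorem F173820 : act 5 n37521 = n36128 := d38_1 D37521 F167355 (iv F167011)
theorem F173821 : act 6 n37521 = n37521 := d41_1 D37521 (iv D37521) F167012
theorem F173822 : act 7 n37521 = n36097 := d43_1 D37521 (iv D36097) (iv F167013)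
theorem F173823 : act 8 n36144 = n37521 := d42_0 F173822 (iv F167245) (iv F167443)
def n37522 : Q := act 8 n36024
theorem D37522 : act 8 n36024 = n37522 := rfl
theorem F173824 : act 2 n37522 = n36147 := d22_1 D37522 F167460 (iv F167014)
theorem F173825 : act 4 n37522 = n36144 := d33_1 D37522 F173823 F173819
theorem F173826 : act 6 n37522 = n37522 := d40_1 D37522 (iv D37522) F167016
theorem F173827 : act 7 n37522 = n36098 := d42_1 D37522 (iv D36098) (iv F167017)
def n37523 : Q := act 6 n36025
theorem D37523 : act 6 n36025 = n37523 := rfl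
theorem F173828 : act 2 n37523 = n36027 := d20_1 D37523 (iv D36027) (iv F167018)
theorem F173829 : act 4 n37523 = n36026 := d31_1 D37523 (iv D36026) (iv F167019)
theorem F173830 : act 7 n37523 = n36197 := d39_2 D36025 D37523 (iv D36197) (iv D34531) (iv F159261)
theorem F173831 : act 9 n37523 = n36187 := d41_2 (iv F167020) D37523 (iv D36187)
def n37524 : Q := act 5 n36027
theorem D37524 : act 5 n36027 = n37524 := rfl
theorem F173832 : act 1 n37524 = n36247 := d12_1 D37524 (iv D36247) (iv F167026)
theorem F173833 : act 3 n37524 = n36038 := d25_1 D37524 (iv D36038) (iv F167027)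
theorem F173834 : act 4 n37524 = n36275 := d30_1 D37524 (iv D36275) F160301 (iv F159277) (iv F167028)
theorem F173835 : act 7 n37524 = n36198 := d36_2 (iv F167029) D37524 (iv D36198)
theorem F173836 : act 9 n37524 = n36188 := d38_2 (iv F167030) D37524 (iv D36188)
def n37525 : Q := act 8 n36027
theorem D37525 : act 8 n36027 = n37525 := rfl
theorem F173837 : act 1 n37525 = n36248 := d15_1 D37525 (iv D36248) (iv F167026)
theorem F173838 : act 3 n37525 = n36039 := d28_1 D37525 (iv D36039) (iv F167027)
theorem F173839 : act 4 n37525 = n36030 := d33_1 D37525 (iv D36030) (iv F167028)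
theorem F173840 : act 6 n37525 = n36028 := d40_1 D37525 (iv D36028) D36027
theorem F173841 : act 7 n37525 = n36199 := d42_1 D37525 (iv D36199) (iv F167029)
def n37526 : Q := act 5 n36028
theorem D37526 : act 5 n36028 = n37526 := rfl
theorem F173842 : act 1 n37526 = n36249 := d12_1 D37526 (iv D36249) (iv F167031)
theorem F173843 : act 3 n37526 = n36040 := d25_1 D37526 (iv D36040) (iv F167032)
theorem F173844 : act 4 n37526 = n37526 := d30_1 D37526 (iv D37526) F167033 F159282 (iv F167033)
theorem F173845 : act 7 n37526 = n36029 := d36_2 (iv F167034) D37526 (iv D36029)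
def n37527 : Q := act 6 n36029
theorem D37527 : act 6 n36029 = n37527 := rfl
theorem F173846 : act 1 n37527 = n36251 := d13_1 D37527 (iv D36251) (iv F167035)
theorem F173847 : act 3 n37527 = n36042 := d26_1 D37527 (iv D36042) (iv F167036)
theorem F173848 : act 4 n37527 = n37527 := d31_1 D37527 (iv D37527) F167037
theorem F173849 : act 5 n37527 = n36201 := d35_1 D37527 (iv D36201) (iv D34535) (iv F159274) D36029
theorem F173850 : act 8 n37527 = n36210 := d40_2 F169121 D37527 (iv F169120)
def n37528 : Q := act 5 n36030
theorem D37528 : act 5 n36030 = n37528 := rfl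
theorem F173851 : act 1 n37528 = n36253 := d12_1 D37528 (iv D36253) (iv F167038)
theorem F173852 : act 3 n37528 = n36031 := d25_1 D37528 (iv D36031) (iv F167039)
theorem F173853 : act 6 n37528 = n37528 := d35_2 (iv F167040) D37528 (iv D37528) F167040 F159282
theorem F173854 : act 7 n37528 = n36202 := d36_2 (iv F167041) D37528 (iv D36202)
theorem F173855 : act 8 n37528 = n36276 := d37_2 D36030 D37528 (iv D36276) (iv D34607) (iv F159277)
def n37529 : Q := act 4 n36031
theorem D37529 : act 4 n36031 = n37529 := rfl
theorem F173856 : act 1 n37529 = n36255 := d11_1 D37529 (iv D36255) (iv F167042)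
theorem F173857 : act 2 n37529 = n36150 := d18_1 D37529 (iv D36150) (iv F167043)
theorem F173858 : act 5 n37529 = n36045 := d30_2 D36031 D37529 (iv D36045) (iv D34335) (iv F159286)
theorem F173859 : act 6 n37529 = n37529 := d31_2 F167044 D37529 (iv D37529)
theorem F173860 : act 7 n37529 = n36203 := d32_2 (iv F167045) D37529 (iv D36203)
theorem F173861 : act 8 n37529 = n36278 := d33_2 (iv F167046) D37529 (iv D36278)
def n37530 : Q := act 6 n36032
theorem D37530 : act 6 n36032 = n37530 := rfl
theorem F173862 : act 1 n37530 = n36035 := d13_1 D37530 (iv D36035) (iv F167047)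
theorem F173863 : act 3 n37530 = n36285 := d26_1 D37530 F167900 (iv F167048)
theorem F173864 : act 4 n37530 = n36033 := d31_1 D37530 (iv D36033) (iv F167049)
theorem F173865 : act 8 n37530 = n36283 := d40_2 (iv F167050) D37530 (iv D36283)
def n37531 : Q := act 6 n36034
theorem D37531 : act 6 n36034 = n37531 := rfl
theorem F173866 : act 1 n37531 = n36285 := d13_1 D37531 F167900 (iv F167055)
theorem F173867 : act 3 n37531 = n36035 := d26_1 D37531 (iv D36035) (iv F167056)
theorem F173868 : act 4 n37531 = n36155 := d31_1 D37531 (iv D36155) (iv F167057)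
theorem F173869 : act 8 n37531 = n36282 := d40_2 (iv F167058) D37531 (iv D36282)
def n37532 : Q := act 5 n36035
theorem D37532 : act 5 n36035 = n37532 := rfl
theorem F173870 : act 2 n37532 = n36038 := d19_1 D37532 (iv D36038) (iv F167059)
theorem F173871 : act 4 n37532 = n36082 := d30_1 D37532 (iv D36082) F159427 (iv F159308) (iv F167060)
def n37533 : Q := act 8 n36035
theorem D37533 : act 8 n36035 = n37533 := rfl
theorem F173872 : act 1 n37533 = n36283 := d15_1 D37533 (iv F173865) F173862
theorem F173873 : act 2 n37533 = n36039 := d22_1 D37533 (iv D36039) (iv F167059)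
theorem F173874 : act 3 n37533 = n36282 := d28_1 D37533 (iv F173869) F173867
theorem F173875 : act 4 n37533 = n36037 := d33_1 D37533 (iv D36037) (iv F167060)
theorem F173876 : act 6 n37533 = n36036 := d40_1 D37533 (iv D36036) D36035
theorem F173877 : act 9 n36299 = n37533 := d41_0 F173876 (iv F167066) D36299
def n37534 : Q := act 5 n36037
theorem D37534 : act 5 n36037 = n37534 := rfl
theorem F173878 : act 1 n37534 = n36326 := d12_1 D37534 (iv D36326) (iv F167067)
theorem F173879 : act 2 n37534 = n36043 := d19_1 D37534 (iv D36043) (iv F167068)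
theorem F173880 : act 3 n37534 = n36097 := d25_1 D37534 F167243 (iv F167069)
theorem F173881 : act 6 n37534 = n36099 := d35_2 (iv F167070) D37534 (iv D36099) F159468 (iv F159312)
theorem F173882 : act 8 n37534 = n36087 := d37_2 D36037 D37534 (iv D36087) (iv D34371) (iv F159308)
theorem F173883 : act 9 n37534 = n36096 := d38_2 F167071 D37534 F167238
def n37535 : Q := act 8 n36038
theorem D37535 : act 8 n36038 = n37535 := rfl
theorem F173884 : act 4 n37535 = n36089 := d33_1 D37535 (iv D36089) (iv F167072)
def n37536 : Q := act 5 n36039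
theorem D37536 : act 5 n36039 = n37536 := rfl
def n37537 : Q := act 9 n36039
theorem D37537 : act 9 n36039 = n37537 := rfl
theorem F173885 : act 2 n37537 = n36299 := d23_1 D37537 F173877 F173873
theorem F173886 : act 4 n37537 = n36044 := d34_1 D37537 (iv D36044) (iv F167073)
theorem F173887 : act 6 n37537 = n36041 := d41_1 D37537 (iv D36041) (iv F167074)
def n37538 : Q := act 6 n36040
theorem D37538 : act 6 n36040 = n37538 := rfl
theorem F173888 : act 4 n37538 = n36101 := d31_1 D37538 (iv D36101) (iv F167075)
def n37539 : Q := act 7 n36042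
theorem D37539 : act 7 n36042 = n37539 := rfl
theorem F173889 : act 2 n37539 = n36214 := d21_1 D37539 F167709 (iv F167080)
theorem F173890 : act 4 n37539 = n36102 := d32_1 D37539 (iv D36102) (iv F167081)
theorem F173891 : act 8 n37539 = n36211 := d42_2 (iv F167082) D37539 (iv D36211)
def n37540 : Q := act 4 n36043
theorem D37540 : act 4 n36043 = n37540 := rfl
theorem F173892 : act 6 n37540 = n36103 := d31_2 (iv F167084) D37540 (iv D36103)
theorem F173893 : act 8 n37540 = n36094 := d33_2 (iv F167085) D37540 (iv D36094)
def n37541 : Q := act 9 n36043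
theorem D37541 : act 9 n36043 = n37541 := rfl
theorem F173894 : act 2 n37541 = n36096 := d23_1 D37541 (iv F173883) F173879
theorem F173895 : act 3 n37541 = n36046 := d29_1 D37541 (iv D36046) (iv F167083)
theorem F173896 : act 5 n37541 = n36044 := d38_1 D37541 (iv D36044) D36043
theorem F173897 : act 6 n37541 = n36104 := d41_1 D37541 (iv D36104) (iv F167084)
def n37542 : Q := act 3 n36045
theorem D37542 : act 3 n36045 = n37542 := rfl
theorem F173898 : act 1 n37542 = n36330 := d10_1 D37542 F168002 (iv F167089)
theorem F173899 : act 6 n37542 = n36105 := d26_2 (iv F167091) D37542 (iv D36105)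
theorem F173900 : act 8 n37542 = n36096 := d28_2 (iv F167092) D37542 (iv D36096)
def n37543 : Q := act 9 n36045
theorem D37543 : act 9 n36045 = n37543 := rfl
theorem F173901 : act 1 n37543 = n36328 := d16_1 D37543 F168000 (iv F167089)
theorem F173902 : act 2 n37543 = n36158 := d23_1 D37543 (iv D36158) (iv F167090)
theorem F173903 : act 4 n37543 = n36046 := d34_1 D37543 (iv D36046) D36045
theorem F173904 : act 6 n37543 = n36106 := d41_1 D37543 (iv D36106) (iv F167091)
theorem F173905 : act 8 n37543 = n36177 := d44_1 D37543 (iv D36177) F167245 (iv D36097) (iv F167092)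
def n37544 : Q := act 8 n36046
theorem D37544 : act 8 n36046 = n37544 := rfl
theorem F173906 : act 2 n37544 = n36157 := d22_1 D37544 F167515 (iv F167093)
theorem F173907 : act 4 n37544 = n36177 := d33_1 D37544 (iv F173905) F173903
theorem F173908 : act 6 n37544 = n36107 := d40_1 D37544 (iv D36107) (iv F167095)
theorem F173909 : act 9 n37544 = n36098 := d44_2 D36046 D37544 (iv D36098) (iv D34381) (iv F159329)
def n37545 : Q := act 7 n36047
theorem D37545 : act 7 n36047 = n37545 := rfl
theorem F173910 : act 0 n37545 = n36049 := d6_1 D37545 (iv D36049) (iv F167096)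
theorem F173911 : act 4 n37545 = n36048 := d32_1 D37545 (iv D36048) D36047
theorem F173912 : act 9 n37545 = n36069 := d43_2 (iv F167097) D37545 (iv D36069)
def n37546 : Q := act 6 n36048
theorem D37546 : act 6 n36048 = n37546 := rfl
theorem F173913 : act 0 n37546 = n36050 := d5_1 D37546 (iv D36050) (iv F167098)
theorem F173914 : act 3 n37546 = n36159 := d26_1 D37546 (iv D36159) (iv F167099)
theorem F173915 : act 9 n37546 = n36071 := d41_2 (iv F167101) D37546 (iv D36071)
def n37547 : Q := act 6 n36049
theorem D37547 : act 6 n36049 = n37547 := rfl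
theorem F173916 : act 1 n37547 = n36053 := d13_1 D37547 (iv D36053) (iv F167102)
theorem F173917 : act 4 n37547 = n36050 := d31_1 D37547 (iv D36050) (iv F167103)
theorem F173918 : act 9 n37547 = n36074 := d41_2 (iv F167104) D37547 (iv D36074)
def n37548 : Q := act 8 n36050
theorem D37548 : act 8 n36050 = n37548 := rfl
theorem F173919 : act 1 n37548 = n36056 := d15_1 D37548 (iv D36056) (iv F167105)
theorem F173920 : act 2 n37548 = n36317 := d22_1 D37548 (iv F173540) F173536
theorem F173921 : act 3 n37548 = n36133 := d28_1 D37548 F167386 (iv F167106)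
theorem F173922 : act 6 n37548 = n36051 := d40_1 D37548 (iv D36051) D36050
theorem F173923 : act 7 n37548 = n36160 := d42_1 D37548 (iv F173463) F173462
theorem F173924 : act 9 n36141 = n37548 := d43_0 F173923 F167527 (iv F167431)
def n37549 : Q := act 6 n36052
theorem D37549 : act 6 n36052 = n37549 := rfl
theorem F173925 : act 2 n37549 = n36283 := d20_1 D37549 (iv D36283) (iv F167114)
theorem F173926 : act 3 n37549 = n36053 := d26_1 D37549 (iv D36053) (iv F167115)
theorem F173927 : act 4 n37549 = n36160 := d31_1 D37549 (iv D36160) (iv F167116)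
theorem F173928 : act 9 n37549 = n36079 := d41_2 (iv F167117) D37549 (iv D36079)
def n37550 : Q := act 5 n36053
theorem D37550 : act 5 n36053 = n37550 := rfl
theorem F173929 : act 2 n37550 = n36058 := d19_1 D37550 (iv D36058) (iv F167118)
theorem F173930 : act 9 n37550 = n36082 := d38_2 (iv F167120) D37550 (iv D36082)
def n37551 : Q := act 8 n36053
theorem D37551 : act 8 n36053 = n37551 := rfl
theorem F173931 : act 2 n37551 = n36059 := d22_1 D37551 (iv D36059) (iv F167118)
theorem F173932 : act 4 n37551 = n36056 := d33_1 D37551 (iv D36056) (iv F167119)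
theorem F173933 : act 6 n37551 = n36054 := d40_1 D37551 (iv D36054) D36053
def n37552 : Q := act 5 n36054
theorem D37552 : act 5 n36054 = n37552 := rfl
theorem F173934 : act 2 n37552 = n36060 := d19_1 D37552 (iv D36060) (iv F167121)
theorem F173935 : act 4 n37552 = n37552 := d30_1 D37552 (iv D37552) F167122 F159364 (iv F167122)
theorem F173936 : act 7 n37552 = n36055 := d36_2 (iv F167123) D37552 (iv D36055)
def n37553 : Q := act 5 n36056
theorem D37553 : act 5 n36056 = n37553 := rfl
theorem F173937 : act 2 n37553 = n36064 := d19_1 D37553 (iv D36064) (iv F167126)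
theorem F173938 : act 3 n37553 = n36162 := d25_1 D37553 (iv D36162) (iv F167127)
theorem F173939 : act 6 n37553 = n37553 := d35_2 (iv F167128) D37553 (iv D37553) F167128 F159364
def n37554 : Q := act 9 n36056
theorem D37554 : act 9 n36056 = n37554 := rfl
theorem F173940 : act 1 n37554 = n36141 := d16_1 D37554 F173924 F173919
theorem F173941 : act 2 n37554 = n36065 := d23_1 D37554 (iv D36065) (iv F167126)
theorem F173942 : act 3 n37554 = n36139 := d29_1 D37554 F167422 (iv F167127)
theorem F173943 : act 6 n37554 = n36057 := d41_1 D37554 (iv D36057) (iv F167128)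
theorem F173944 : act 7 n37554 = n36170 := d43_1 D37554 F173486 F173485
theorem F173945 : act 8 n37554 = n36088 := d44_1 D37554 (iv D36088) (iv D34371) (iv F159361) D36056
def n37555 : Q := act 8 n36058
theorem D37555 : act 8 n36058 = n37555 := rfl
theorem F173946 : act 3 n37555 = n36289 := d28_1 D37555 (iv D36289) (iv F167135)
def n37556 : Q := act 5 n36059
theorem D37556 : act 5 n36059 = n37556 := rfl
theorem F173947 : act 3 n37556 = n36290 := d25_1 D37556 (iv D36290) (iv F167137)
def n37557 : Q := act 9 n36059
theorem D37557 : act 9 n36059 = n37557 := rfl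
theorem F173948 : act 3 n37557 = n36291 := d29_1 D37557 (iv D36291) (iv F167137)
theorem F173949 : act 4 n37557 = n36065 := d34_1 D37557 (iv D36065) (iv F167138)
theorem F173950 : act 6 n37557 = n36061 := d41_1 D37557 (iv D36061) (iv F167139)
theorem F173951 : act 8 n37557 = n36091 := d44_1 D37557 (iv D36091) (iv D34374) (iv F159374) D36059
def n37558 : Q := act 6 n36060
theorem D37558 : act 6 n36060 = n37558 := rfl
theorem F173952 : act 3 n37558 = n36292 := d26_1 D37558 (iv D36292) (iv F167140)
theorem F173953 : act 4 n37558 = n37558 := d31_1 D37558 (iv D37558) F167141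
def n37559 : Q := act 9 n36060
theorem D37559 : act 9 n36060 = n37559 := rfl
theorem F173954 : act 3 n37559 = n36293 := d29_1 D37559 (iv D36293) (iv F167140)
theorem F173955 : act 4 n37559 = n37559 := d34_1 D37559 (iv D37559) F167141
theorem F173956 : act 5 n37559 = n36061 := d38_1 D37559 (iv D36061) D36060
theorem F173957 : act 7 n37559 = n36063 := d43_1 D37559 (iv D36063) (iv F167142)
def n37560 : Q := act 7 n36062
theorem D37560 : act 7 n36062 = n37560 := rfl
theorem F173958 : act 3 n37560 = n36294 := d27_1 D37560 (iv D36294) (iv F167147)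
theorem F173959 : act 4 n37560 = n37560 := d32_1 D37560 (iv D37560) F167148
def n37561 : Q := act 9 n36062
theorem D37561 : act 9 n36062 = n37561 := rfl
theorem F173960 : act 3 n37561 = n36295 := d29_1 D37561 (iv D36295) (iv F167147)
theorem F173961 : act 4 n37561 = n37561 := d34_1 D37561 (iv D37561) F167148
theorem F173962 : act 6 n37561 = n36063 := d41_1 D37561 (iv D36063) D36062
def n37562 : Q := act 4 n36064
theorem D37562 : act 4 n36064 = n37562 := rfl
theorem F173963 : act 6 n37562 = n37562 := d31_2 F167153 D37562 (iv D37562)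
def n37563 : Q := act 9 n36064
theorem D37563 : act 9 n36064 = n37563 := rfl
theorem F173964 : act 3 n37563 = n36067 := d29_1 D37563 (iv D36067) (iv F167152)
theorem F173965 : act 5 n37563 = n36065 := d38_1 D37563 (iv D36065) D36064
theorem F173966 : act 6 n37563 = n37563 := d41_1 D37563 (iv D37563) F167153
def n37564 : Q := act 3 n36066
theorem D37564 : act 3 n36066 = n37564 := rfl
theorem F173967 : act 5 n37564 = n36298 := d25_2 (iv F167158) D37564 (iv D36298)
theorem F173968 : act 6 n37564 = n37564 := d26_2 F167159 D37564 (iv D37564)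
theorem F173969 : act 7 n37564 = n36330 := d27_2 (iv F167160) D37564 F168002
theorem F173970 : act 8 n37564 = n36321 := d28_2 (iv F167161) D37564 F167977
def n37565 : Q := act 9 n36066
theorem D37565 : act 9 n36066 = n37565 := rfl
theorem F173971 : act 2 n37565 = n36165 := d23_1 D37565 (iv D36165) (iv F167157)
theorem F173972 : act 4 n37565 = n36067 := d34_1 D37565 (iv D36067) D36066
theorem F173973 : act 5 n37565 = n36175 := d38_1 D37565 (iv F167585) (iv F167158)
theorem F173974 : act 6 n37565 = n37565 := d41_1 D37565 (iv D37565) F167159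
theorem F173975 : act 7 n37565 = n36328 := d43_1 D37565 F168000 (iv F167160)
theorem F173976 : act 8 n36176 = n37565 := d42_0 F173975 (iv F169073) F169072
def n37566 : Q := act 8 n36067
theorem D37566 : act 8 n36067 = n37566 := rfl
theorem F173977 : act 2 n37566 = n36166 := d22_1 D37566 (iv D36166) (iv F167162)
theorem F173978 : act 4 n37566 = n36176 := d33_1 D37566 F173976 F173972
theorem F173979 : act 5 n37566 = n36098 := d37_1 D37566 (iv D36098) F159463 (iv F159394) (iv F167163)
theorem F173980 : act 6 n37566 = n37566 := d40_1 D37566 (iv D37566) F167164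
def n37567 : Q := act 7 n36068
theorem D37567 : act 7 n36068 = n37567 := rfl
theorem F173981 : act 0 n37567 = n36073 := d6_1 D37567 (iv D36073) (iv F167165)
theorem F173982 : act 3 n37567 = n36069 := d27_1 D37567 (iv D36069) D36068
theorem F173983 : act 4 n37567 = n36167 := d32_1 D37567 (iv D36167) (iv F167166)
def n37568 : Q := act 6 n36069
theorem D37568 : act 6 n36069 = n37568 := rfl
theorem F173984 : act 0 n37568 = n36074 := d5_1 D37568 (iv D36074) (iv F167167)
theorem F173985 : act 4 n37568 = n36071 := d31_1 D37568 (iv D36071) (iv F167168)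
def n37569 : Q := act 8 n36069
theorem D37569 : act 8 n36069 = n37569 := rfl
theorem F173986 : act 0 n37569 = n36075 := d7_1 D37569 (iv D36075) (iv F167167)
theorem F173987 : act 4 n37569 = n36072 := d33_1 D37569 (iv D36072) (iv F167168)
theorem F173988 : act 7 n37569 = n36070 := d42_1 D37569 (iv D36070) D36069
def n37570 : Q := act 8 n36071
theorem D37570 : act 8 n36071 = n37570 := rfl
theorem F173989 : act 0 n37570 = n36077 := d7_1 D37570 (iv D36077) (iv F167171)
theorem F173990 : act 3 n37570 = n36169 := d28_1 D37570 (iv D36169) (iv F167172)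
theorem F173991 : act 6 n37570 = n36072 := d40_1 D37570 (iv D36072) D36071
def n37571 : Q := act 6 n36073
theorem D37571 : act 6 n36073 = n37571 := rfl
theorem F173992 : act 1 n37571 = n36079 := d13_1 D37571 (iv D36079) (iv F167177)
theorem F173993 : act 3 n37571 = n36074 := d26_1 D37571 (iv D36074) (iv F167178)
theorem F173994 : act 4 n37571 = n36170 := d31_1 D37571 (iv D36170) (iv F167179)
def n37572 : Q := act 5 n36074
theorem D37572 : act 5 n36074 = n37572 := rfl
theorem F173995 : act 1 n37572 = n36082 := d12_1 D37572 (iv D36082) (iv F167180)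
def n37573 : Q := act 8 n36074
theorem D37573 : act 8 n36074 = n37573 := rfl
theorem F173996 : act 1 n37573 = n36083 := d15_1 D37573 (iv D36083) (iv F167180)
theorem F173997 : act 4 n37573 = n36077 := d33_1 D37573 (iv D36077) (iv F167181)
theorem F173998 : act 6 n37573 = n36075 := d40_1 D37573 (iv D36075) D36074
def n37574 : Q := act 5 n36075
theorem D37574 : act 5 n36075 = n37574 := rfl
theorem F173999 : act 1 n37574 = n36084 := d12_1 D37574 (iv D36084) (iv F167182)
theorem F174000 : act 4 n37574 = n36109 := d30_1 D37574 (iv D36109) F159511 (iv F159412) (iv F167183)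
theorem F174001 : act 7 n37574 = n36076 := d36_2 (iv F167184) D37574 (iv D36076)
def n37575 : Q := act 5 n36077
theorem D37575 : act 5 n36077 = n37575 := rfl
theorem F174002 : act 1 n37575 = n36087 := d12_1 D37575 (iv D36087) (iv F167187)
theorem F174003 : act 3 n37575 = n36172 := d25_1 D37575 (iv D36172) (iv F167188)
theorem F174004 : act 6 n37575 = n36110 := d35_2 (iv F167189) D37575 (iv D36110) F159517 (iv F159412)
theorem F174005 : act 8 n37575 = n36326 := d37_2 D36077 D37575 (iv D36326) (iv F167054) F167053
def n37576 : Q := act 9 n36077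
theorem D37576 : act 9 n36077 = n37576 := rfl
theorem F174006 : act 1 n37576 = n36088 := d16_1 D37576 (iv D36088) (iv F167187)
theorem F174007 : act 2 n37576 = n36322 := d23_1 D37576 (iv F173628) F173624
theorem F174008 : act 3 n37576 = n36143 := d29_1 D37576 F167440 (iv F167188)
theorem F174009 : act 6 n37576 = n36078 := d41_1 D37576 (iv D36078) (iv F167189)
theorem F174010 : act 7 n37576 = n36174 := d43_1 D37576 (iv F173744) F173743
theorem F174011 : act 8 n37576 = n36141 := d44_1 D37576 F173924 (iv D37548) F167107 D36077
def n37577 : Q := act 5 n36079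
theorem D37577 : act 5 n36079 = n37577 := rfl
theorem F174012 : act 2 n37577 = n36301 := d19_1 D37577 (iv D36301) (iv F167196)
theorem F174013 : act 3 n37577 = n36082 := d25_1 D37577 (iv D36082) (iv F167197)
def n37578 : Q := act 8 n36079
theorem D37578 : act 8 n36079 = n37578 := rfl
theorem F174014 : act 2 n37578 = n36302 := d22_1 D37578 (iv D36302) (iv F167196)
theorem F174015 : act 3 n37578 = n36083 := d28_1 D37578 (iv D36083) (iv F167197)
theorem F174016 : act 4 n37578 = n36174 := d33_1 D37578 (iv D36174) (iv F167198)
theorem F174017 : act 6 n37578 = n36080 := d40_1 D37578 (iv D36080) D36079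
def n37579 : Q := act 5 n36080
theorem D37579 : act 5 n36080 = n37579 := rfl
theorem F174018 : act 2 n37579 = n36303 := d19_1 D37579 (iv D36303) (iv F167199)
theorem F174019 : act 3 n37579 = n36084 := d25_1 D37579 (iv D36084) (iv F167200)
theorem F174020 : act 4 n37579 = n37579 := d30_1 D37579 (iv D37579) F167201 F159899 (iv F167201)
theorem F174021 : act 7 n37579 = n36081 := d36_2 (iv F167202) D37579 (iv D36081)
def n37580 : Q := act 6 n36081
theorem D37580 : act 6 n36081 = n37580 := rfl
theorem F174022 : act 2 n37580 = n36305 := d20_1 D37580 (iv D36305) (iv F167203)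
theorem F174023 : act 3 n37580 = n36086 := d26_1 D37580 (iv D36086) (iv F167204)
theorem F174024 : act 4 n37580 = n37580 := d31_1 D37580 (iv D37580) F167205
def n37581 : Q := act 8 n36082
theorem D37581 : act 8 n36082 = n37581 := rfl
theorem F174025 : act 2 n37581 = n36089 := d22_1 D37581 (iv D36089) (iv F167206)
def n37582 : Q := act 5 n36083
theorem D37582 : act 5 n36083 = n37582 := rfl
theorem F174026 : act 2 n37582 = n36090 := d19_1 D37582 (iv D36090) (iv F167207)
def n37583 : Q := act 9 n36083
theorem D37583 : act 9 n36083 = n37583 := rfl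
theorem F174027 : act 2 n37583 = n36091 := d23_1 D37583 (iv D36091) (iv F167207)
theorem F174028 : act 4 n37583 = n36088 := d34_1 D37583 (iv D36088) (iv F167208)
theorem F174029 : act 6 n37583 = n36085 := d41_1 D37583 (iv D36085) (iv F167209)
def n37584 : Q := act 6 n36084
theorem D37584 : act 6 n36084 = n37584 := rfl
theorem F174030 : act 2 n37584 = n36092 := d20_1 D37584 (iv D36092) (iv F167210)
theorem F174031 : act 4 n37584 = n36112 := d31_1 D37584 (iv D36112) (iv F167211)
def n37585 : Q := act 7 n36086
theorem D37585 : act 7 n36086 = n37585 := rfl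
theorem F174032 : act 2 n37585 = n36093 := d21_1 D37585 (iv D36093) (iv F167216)
theorem F174033 : act 4 n37585 = n36113 := d32_1 D37585 (iv D36113) (iv F167217)
def n37586 : Q := act 4 n36087
theorem D37586 : act 4 n36087 = n37586 := rfl
theorem F174034 : act 2 n37586 = n36094 := d18_1 D37586 (iv D36094) (iv F167218)
theorem F174035 : act 6 n37586 = n36114 := d31_2 (iv F167220) D37586 (iv D36114)
def n37587 : Q := act 9 n36087
theorem D37587 : act 9 n36087 = n37587 := rfl
theorem F174036 : act 2 n37587 = n36095 := d23_1 D37587 (iv D36095) (iv F167218)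
theorem F174037 : act 3 n37587 = n36177 := d29_1 D37587 (iv D36177) (iv F167219)
theorem F174038 : act 5 n37587 = n36088 := d38_1 D37587 (iv D36088) D36087
theorem F174039 : act 6 n37587 = n36115 := d41_1 D37587 (iv D36115) (iv F167220)
def n37588 : Q := act 5 n36089
theorem D37588 : act 5 n36089 = n37588 := rfl
theorem F174040 : act 3 n37588 = n36311 := d25_1 D37588 (iv D36311) (iv F167224)
theorem F174041 : act 8 n37588 = n36090 := d37_2 D36089 D37588 (iv D36090) (iv D34374) D34373
def n37589 : Q := act 9 n36089
theorem D37589 : act 9 n36089 = n37589 := rfl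
theorem F174042 : act 3 n37589 = n36312 := d29_1 D37589 (iv D36312) (iv F167224)
def n37590 : Q := act 4 n36090
theorem D37590 : act 4 n36090 = n37590 := rfl
theorem F174043 : act 5 n37590 = n36094 := d30_2 D36090 D37590 (iv D36094) (iv D34378) (iv F159444)
def n37591 : Q := act 6 n36090
theorem D37591 : act 6 n36090 = n37591 := rfl
theorem F174044 : act 3 n37591 = n36313 := d26_1 D37591 (iv D36313) (iv F167225)
theorem F174045 : act 5 n37591 = n36092 := d35_1 D37591 (iv D36092) (iv D34375) (iv F159445) D36090
def n37592 : Q := act 9 n36090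
theorem D37592 : act 9 n36090 = n37592 := rfl
theorem F174046 : act 3 n37592 = n36314 := d29_1 D37592 (iv D36314) (iv F167225)
theorem F174047 : act 5 n37592 = n36091 := d38_1 D37592 (iv D36091) D36090
def n37593 : Q := act 7 n36092
theorem D37593 : act 7 n36092 = n37593 := rfl
theorem F174048 : act 3 n37593 = n36315 := d27_1 D37593 (iv D36315) (iv F167229)
theorem F174049 : act 4 n37593 = n36119 := d32_1 D37593 (iv D36119) (iv F167230)
theorem F174050 : act 6 n37593 = n36093 := d39_1 D37593 (iv D36093) (iv D34377) (iv F159448) D36092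
def n37594 : Q := act 3 n36094
theorem D37594 : act 3 n36094 = n37594 := rfl
theorem F174051 : act 1 n37594 = n36329 := d10_1 D37594 (iv F173646) F173645
theorem F174052 : act 4 n37594 = n36096 := d24_2 D36094 D37594 (iv D36096) (iv D34380) (iv F159454)
theorem F174053 : act 6 n37594 = n36120 := d26_2 (iv F167233) D37594 (iv D36120)
def n37595 : Q := act 9 n36094
theorem D37595 : act 9 n36094 = n37595 := rfl
theorem F174054 : act 4 n37595 = n36095 := d34_1 D37595 (iv D36095) D36094
theorem F174055 : act 6 n37595 = n36121 := d41_1 D37595 (iv D36121) (iv F167233)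
def n37596 : Q := act 8 n36095
theorem D37596 : act 8 n36095 = n37596 := rfl
theorem F174056 : act 3 n37596 = n36098 := d28_1 D37596 (iv D36098) (iv F167234)
theorem F174057 : act 6 n37596 = n36122 := d40_1 D37596 (iv D36122) (iv F167236)
def n37597 : Q := act 4 n36099
theorem D37597 : act 4 n36099 = n37597 := rfl
theorem F174058 : act 1 n37597 = n36334 := d11_1 D37597 (iv D36334) (iv F167249)
theorem F174059 : act 2 n37597 = n36103 := d18_1 D37597 (iv D36103) (iv F167250)
theorem F174060 : act 3 n37597 = n36121 := d24_1 D37597 F167321 F159550 (iv F159558) (iv F167251)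
theorem F174061 : act 7 n37597 = n37597 := d32_2 F167252 D37597 (iv D37597)
theorem F174062 : act 8 n37597 = n36114 := d33_2 (iv F167253) D37597 (iv D36114)
theorem F174063 : act 9 n37597 = n36120 := d34_2 (iv F167254) D37597 F167319
def n37598 : Q := act 4 n36100
theorem D37598 : act 4 n36100 = n37598 := rfl
theorem F174064 : act 5 n37598 = n36103 := d30_2 D36100 D37598 (iv D36103) (iv D34386) (iv F159472)
theorem F174065 : act 7 n37598 = n37598 := d32_2 F167256 D37598 (iv D37598)
def n37599 : Q := act 6 n36100
theorem D37599 : act 6 n36100 = n37599 := rfl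
theorem F174066 : act 3 n37599 = n37599 := d26_1 D37599 (iv D37599) F167255
theorem F174067 : act 5 n37599 = n36101 := d35_1 D37599 (iv D36101) (iv D34384) (iv F159473) D36100
def n37600 : Q := act 7 n36101
theorem D37600 : act 7 n36101 = n37600 := rfl
theorem F174068 : act 2 n37600 = n36216 := d21_1 D37600 (iv F169155) F169152
theorem F174069 : act 3 n37600 = n37600 := d27_1 D37600 (iv D37600) F167257
theorem F174070 : act 6 n37600 = n36102 := d39_1 D37600 (iv D36102) (iv D34385) (iv F159476) D36101
theorem F174071 : act 8 n37600 = n36212 := d42_2 F169134 D37600 (iv F169133)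
def n37601 : Q := act 3 n36103
theorem D37601 : act 3 n36103 = n37601 := rfl
theorem F174072 : act 1 n37601 = n36335 := d10_1 D37601 (iv F173664) F173663
theorem F174073 : act 4 n37601 = n36105 := d24_2 D36103 D37601 (iv D36105) (iv D34388) (iv F159481)
theorem F174074 : act 7 n37601 = n37601 := d27_2 F167262 D37601 (iv D37601)
theorem F174075 : act 8 n37601 = n36120 := d28_2 (iv F167263) D37601 (iv D36120)
def n37602 : Q := act 9 n36103
theorem D37602 : act 9 n36103 = n37602 := rfl
theorem F174076 : act 2 n37602 = n36120 := d23_1 D37602 (iv F174063) F174059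
theorem F174077 : act 4 n37602 = n36104 := d34_1 D37602 (iv D36104) D36103
theorem F174078 : act 7 n37602 = n37602 := d43_1 D37602 (iv D37602) F167262
def n37603 : Q := act 8 n36104
theorem D37603 : act 8 n36104 = n37603 := rfl
theorem F174079 : act 2 n37603 = n36105 := d22_1 D37603 F167271 (iv F167264)
theorem F174080 : act 3 n37603 = n36107 := d28_1 D37603 (iv D36107) (iv F167265)
theorem F174081 : act 5 n37603 = n37603 := d37_1 D37603 (iv D37603) F167266 F159488 (iv F167266)
theorem F174082 : act 7 n37603 = n37603 := d42_1 D37603 (iv D37603) F167267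
theorem F174083 : act 9 n37603 = n36122 := d44_2 D36104 D37603 (iv D36122) (iv D34407) (iv F159483)
def n37604 : Q := act 9 n36105
theorem D37604 : act 9 n36105 = n37604 := rfl
theorem F174084 : act 1 n37604 = n36336 := d16_1 D37604 (iv D36336) (iv F167268)
theorem F174085 : act 2 n37604 = n36122 := d23_1 D37604 (iv F174083) F174079
theorem F174086 : act 3 n37604 = n36106 := d29_1 D37604 (iv D36106) D36105
theorem F174087 : act 5 n37604 = n37604 := d38_1 D37604 (iv D37604) F167269
theorem F174088 : act 7 n37604 = n37604 := d43_1 D37604 (iv D37604) F167270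
theorem F174089 : act 8 n37604 = n36115 := d44_1 D37604 (iv D36115) (iv F167253) F167254 (iv F167271)
def n37605 : Q := act 5 n36108
theorem D37605 : act 5 n36108 = n37605 := rfl
theorem F174090 : act 1 n37605 = n36111 := d12_1 D37605 (iv D36111) (iv F167283)
theorem F174091 : act 3 n37605 = n37605 := d25_1 D37605 (iv D37605) F167284
theorem F174092 : act 7 n37605 = n37605 := d36_2 F167287 D37605 (iv D37605)
def n37606 : Q := act 6 n36109
theorem D37606 : act 6 n36109 = n37606 := rfl
theorem F174093 : act 1 n37606 = n36112 := d13_1 D37606 (iv D36112) (iv F167288)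
theorem F174094 : act 3 n37606 = n37606 := d26_1 D37606 (iv D37606) F167289
def n37607 : Q := act 4 n36110
theorem D37607 : act 4 n36110 = n37607 := rfl
theorem F174095 : act 1 n37607 = n36114 := d11_1 D37607 (iv D36114) (iv F167291)
theorem F174096 : act 7 n37607 = n37607 := d32_2 F167293 D37607 (iv D37607)
theorem F174097 : act 8 n37607 = n36334 := d33_2 (iv F167294) D37607 (iv D36334)
def n37608 : Q := act 4 n36111
theorem D37608 : act 4 n36111 = n37608 := rfl
theorem F174098 : act 2 n37608 = n36117 := d18_1 D37608 (iv D36117) (iv F167295)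
theorem F174099 : act 5 n37608 = n36114 := d30_2 D36111 D37608 (iv D36114) (iv D34400) (iv F159525)
theorem F174100 : act 7 n37608 = n37608 := d32_2 F167297 D37608 (iv D37608)
def n37609 : Q := act 6 n36111
theorem D37609 : act 6 n36111 = n37609 := rfl
theorem F174101 : act 2 n37609 = n36118 := d20_1 D37609 (iv D36118) (iv F167295)
theorem F174102 : act 3 n37609 = n37609 := d26_1 D37609 (iv D37609) F167296
theorem F174103 : act 5 n37609 = n36112 := d35_1 D37609 (iv D36112) (iv D34398) (iv F159526) D36111
def n37610 : Q := act 7 n36112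
theorem D37610 : act 7 n36112 = n37610 := rfl
theorem F174104 : act 2 n37610 = n36119 := d21_1 D37610 (iv D36119) (iv F167298)
theorem F174105 : act 3 n37610 = n37610 := d27_1 D37610 (iv D37610) F167299
theorem F174106 : act 6 n37610 = n36113 := d39_1 D37610 (iv D36113) (iv D34399) (iv F159530) D36112
def n37611 : Q := act 3 n36114
theorem D37611 : act 3 n36114 = n37611 := rfl
theorem F174107 : act 4 n37611 = n36122 := d24_2 D36114 D37611 F167323 F159563 (iv F159535)
theorem F174108 : act 7 n37611 = n37611 := d27_2 F167304 D37611 (iv D37611)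
theorem F174109 : act 8 n37611 = n36121 := d28_2 F174062 D37611 (iv F174060)
def n37612 : Q := act 9 n36114
theorem D37612 : act 9 n36114 = n37612 := rfl
theorem F174110 : act 2 n37612 = n36121 := d23_1 D37612 (iv D36121) (iv F167303)
theorem F174111 : act 4 n37612 = n36115 := d34_1 D37612 (iv D36115) D36114
theorem F174112 : act 7 n37612 = n37612 := d43_1 D37612 (iv D37612) F167304
def n37613 : Q := act 4 n36116
theorem D37613 : act 4 n36116 = n37613 := rfl
theorem F174113 : act 7 n37613 = n37613 := d32_2 F167310 D37613 (iv D37613)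
theorem F174114 : act 8 n37613 = n36117 := d33_2 (iv F167311) D37613 (iv D36117)
def n37614 : Q := act 6 n36116
theorem D37614 : act 6 n36116 = n37614 := rfl
theorem F174115 : act 3 n37614 = n36123 := d26_1 D37614 (iv D36123) (iv F167309)
theorem F174116 : act 8 n37614 = n36118 := d40_2 (iv F167311) D37614 (iv D36118)
def n37615 : Q := act 6 n36117
theorem D37615 : act 6 n36117 = n37615 := rfl
theorem F174117 : act 4 n37615 = n36118 := d31_1 D37615 (iv D36118) D36117
def n37616 : Q := act 7 n36118
theorem D37616 : act 7 n36118 = n37616 := rfl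
theorem F174118 : act 3 n37616 = n36124 := d27_1 D37616 (iv D36124) (iv F167314)
theorem F174119 : act 5 n37616 = n36119 := d36_1 D37616 (iv D36119) (iv F167315)
theorem F174120 : act 6 n37616 = n37616 := d39_1 D37616 (iv D37616) (iv D36118) F159545 D36118
def n37617 : Q := act 7 n36123
theorem D37617 : act 7 n36123 = n37617 := rfl
theorem F174121 : act 2 n37617 = n37617 := d21_1 D37617 (iv D37617) F167326
theorem F174122 : act 6 n37617 = n37617 := d39_1 D37617 (iv D37617) (iv D36123) F159567 D36123
theorem F174123 : act 8 n37617 = n36124 := d42_2 (iv F167327) D37617 (iv D36124)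
def n37618 : Q := act 6 n36126
theorem D37618 : act 6 n36126 = n37618 := rfl
theorem F174124 : act 1 n37618 = n36245 := d13_1 D37618 F167789 (iv F167338)
theorem F174125 : act 2 n37618 = n36277 := d20_1 D37618 F167878 (iv F167339)
theorem F174126 : act 3 n37618 = n36127 := d26_1 D37618 (iv D36127) (iv F167340)
theorem F174127 : act 7 n37618 = n36155 := d39_2 D36126 D37618 (iv D36155) (iv D34458) (iv F159589)
theorem F174128 : act 8 n37618 = n36240 := d40_2 (iv F167342) D37618 (iv D36240)
theorem F174129 : act 9 n37618 = n36274 := d41_2 (iv F167343) D37618 F167873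
def n37619 : Q := act 5 n36127
theorem D37619 : act 5 n36127 = n37619 := rfl
theorem F174130 : act 1 n37619 = n36319 := d12_1 D37619 (iv D36319) (iv F167344)
theorem F174131 : act 2 n37619 = n36129 := d19_1 D37619 (iv D36129) (iv F167345)
theorem F174132 : act 4 n37619 = n36142 := d30_1 D37619 (iv D36142) F159697 (iv F159599) (iv F167346)
theorem F174133 : act 6 n37619 = n37619 := d35_2 D36127 D37619 (iv D37619) (iv D36127) F159595
theorem F174134 : act 7 n37619 = n36156 := d36_2 (iv F167347) D37619 (iv D36156)
theorem F174135 : act 8 n37619 = n36256 := d37_2 (iv F167348) D37619 F167824 F160234 (iv F160289)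
theorem F174136 : act 9 n37619 = n36325 := d38_2 (iv F167349) D37619 (iv D36325)
def n37620 : Q := act 5 n36133
theorem D37620 : act 5 n36133 = n37620 := rfl
theorem F174137 : act 1 n37620 = n36162 := d12_1 D37620 (iv D36162) (iv F167382)
theorem F174138 : act 2 n37620 = n36135 := d19_1 D37620 (iv D36135) (iv F167383)
theorem F174139 : act 4 n37620 = n36325 := d30_1 D37620 (iv D36325) F160500 (iv F159643) (iv F167384)
theorem F174140 : act 6 n37620 = n37620 := d35_2 D36133 D37620 (iv D37620) (iv D36133) F159639
theorem F174141 : act 7 n37620 = n36161 := d36_2 (iv F167385) D37620 (iv D36161)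
theorem F174142 : act 8 n37620 = n36333 := d37_2 (iv F167386) D37620 F168009 (iv F167483) F167481
theorem F174143 : act 9 n37620 = n36142 := d38_2 (iv F167387) D37620 (iv D36142)
def n37621 : Q := act 5 n36134
theorem D37621 : act 5 n36134 = n37621 := rfl
theorem F174144 : act 1 n37621 = n36161 := d12_1 D37621 (iv D36161) (iv F167388)
theorem F174145 : act 2 n37621 = n36136 := d19_1 D37621 (iv D36136) (iv F167389)
theorem F174146 : act 4 n37621 = n36327 := d30_1 D37621 F167997 (iv F167480) F167481 (iv F167390)
theorem F174147 : act 6 n37621 = n36180 := d35_2 (iv F167391) D37621 (iv D36180) (iv D34503) (iv F159649)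
theorem F174148 : act 7 n37621 = n36162 := d36_2 (iv F167392) D37621 (iv D36162)
theorem F174149 : act 8 n37621 = n36324 := d37_2 D36134 D37621 (iv D36324) F160498 (iv F159643)
theorem F174150 : act 9 n37621 = n36171 := d38_2 F167393 D37621 (iv D36171)
def n37622 : Q := act 5 n36139
theorem D37622 : act 5 n36139 = n37622 := rfl
theorem F174151 : act 1 n37622 = n36142 := d12_1 D37622 (iv D36142) (iv F167417)
theorem F174152 : act 2 n37622 = n36164 := d19_1 D37622 F167543 (iv F167418)
theorem F174153 : act 4 n37622 = n36319 := d30_1 D37622 (iv D36319) (iv F167333) F167334 (iv F167419)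
theorem F174154 : act 6 n37622 = n37622 := d35_2 D36139 D37622 (iv D37622) (iv D36139) F159681
theorem F174155 : act 7 n37622 = n36171 := d36_2 (iv F167420) D37622 (iv D36171)
theorem F174156 : act 9 n37622 = n36162 := d38_2 (iv F167422) D37622 (iv D36162)
def n37623 : Q := act 5 n36140
theorem D37623 : act 5 n36140 = n37623 := rfl
theorem F174157 : act 1 n37623 = n36144 := d12_1 D37623 (iv D36144) (iv F167423)
theorem F174158 : act 2 n37623 = n36178 := d19_1 D37623 F167593 (iv F167424)
theorem F174159 : act 6 n37623 = n37623 := d35_2 (iv F167426) D37623 (iv D37623) F167426 F159690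
theorem F174160 : act 7 n37623 = n36172 := d36_2 (iv F167427) D37623 (iv D36172)
theorem F174161 : act 8 n37623 = n36318 := d37_2 D36140 D37623 (iv D36318) (iv F167336) F167334
theorem F174162 : act 9 n37623 = n36176 := d38_2 (iv F167428) D37623 (iv D36176)
def n37624 : Q := act 5 n36141
theorem D37624 : act 5 n36141 = n37624 := rfl
theorem F174163 : act 2 n37624 = n36321 := d19_1 D37624 (iv D36321) (iv F167429)
theorem F174164 : act 3 n37624 = n36142 := d25_1 D37624 (iv D36142) (iv F167430)
theorem F174165 : act 6 n37624 = n37624 := d35_2 D36141 D37624 (iv D37624) (iv D36141) F159695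
theorem F174166 : act 7 n37624 = n36173 := d36_2 (iv F167431) D37624 (iv D36173)
def n37625 : Q := act 8 n36142
theorem D37625 : act 8 n36142 = n37625 := rfl
theorem F174167 : act 2 n37625 = n36146 := d22_1 D37625 (iv D36146) (iv F167432)
theorem F174168 : act 4 n37625 = n36256 := d33_1 D37625 (iv F174135) F174132
theorem F174169 : act 5 n37625 = n36328 := d37_1 D37625 (iv F169073) F169070 (iv D36143) D36142
theorem F174170 : act 6 n37625 = n37625 := d40_1 D37625 (iv D37625) F167433
theorem F174171 : act 7 n37625 = n36175 := d42_1 D37625 (iv D36175) (iv F167434)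
theorem F174172 : act 9 n37625 = n36255 := d44_2 F174143 D37625 F167822 D36333 (iv F174142)
def n37626 : Q := act 9 n36144
theorem D37626 : act 9 n36144 = n37626 := rfl
theorem F174173 : act 1 n37626 = n36176 := d16_1 D37626 (iv F174162) F174157
theorem F174174 : act 2 n37626 = n36148 := d23_1 D37626 (iv D36148) (iv F167441)
theorem F174175 : act 5 n37626 = n36145 := d38_1 D37626 (iv D36145) D36144
theorem F174176 : act 6 n37626 = n37626 := d41_1 D37626 (iv D37626) F167442
theorem F174177 : act 7 n37626 = n36177 := d43_1 D37626 (iv D36177) (iv F167443)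
def n37627 : Q := act 5 n36153
theorem D37627 : act 5 n36153 = n37627 := rfl
theorem F174178 : act 1 n37627 = n36333 := d12_1 D37627 F168009 (iv F167491)
theorem F174179 : act 2 n37627 = n36154 := d19_1 D37627 (iv D36154) (iv F167492)
theorem F174180 : act 4 n37627 = n36279 := d30_1 D37627 F167884 F160310 (iv F160319) (iv F167493)
theorem F174181 : act 6 n37627 = n37627 := d35_2 (iv F167494) D37627 (iv D37627) F167494 F159775
theorem F174182 : act 7 n37627 = n36324 := d36_2 (iv F167495) D37627 (iv D36324)
theorem F174183 : act 8 n37627 = n36162 := d37_2 D36153 D37627 (iv D36162) (iv D34469) (iv F159769)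
theorem F174184 : act 9 n37627 = n36278 := d38_2 (iv F167496) D37627 F167881
def n37628 : Q := act 5 n36155
theorem D37628 : act 5 n36155 = n37628 := rfl
theorem F174185 : act 1 n37628 = n36287 := d12_1 D37628 (iv D36287) (iv F167504)
theorem F174186 : act 3 n37628 = n36156 := d25_1 D37628 (iv D36156) (iv F167505)
theorem F174187 : act 6 n37628 = n36179 := d35_2 D36155 D37628 (iv D36179) (iv D34499) (iv F159802)
theorem F174188 : act 8 n37628 = n36297 := d37_2 (iv F167506) D37628 F167924 F160364 (iv F160327)
def n37629 : Q := act 5 n36160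
theorem D37629 : act 5 n36160 = n37629 := rfl
theorem F174189 : act 2 n37629 = n36326 := d19_1 D37629 (iv D36326) (iv F167525)
theorem F174190 : act 3 n37629 = n36161 := d25_1 D37629 (iv D36161) (iv F167526)
theorem F174191 : act 6 n37629 = n36181 := d35_2 D36160 D37629 (iv D36181) (iv D34505) (iv F159839)
theorem F174192 : act 9 n37629 = n36173 := d38_2 (iv F167527) D37629 (iv D36173)
def n37630 : Q := act 4 n36162
theorem D37630 : act 4 n36162 = n37630 := rfl
theorem F174193 : act 1 n37630 = n36325 := d11_1 D37630 (iv F174139) F174137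
theorem F174194 : act 2 n37630 = n36163 := d18_1 D37630 (iv D36163) (iv F167531)
theorem F174195 : act 5 n37630 = n36320 := d30_2 D36162 D37630 F167973 (iv F167378) F167377
theorem F174196 : act 6 n37630 = n37630 := d31_2 F167532 D37630 (iv D37630)
theorem F174197 : act 7 n37630 = n36327 := d32_2 F174148 D37630 (iv F174146)
theorem F174198 : act 8 n37630 = n36279 := d33_2 F174183 D37630 (iv F174180)
theorem F174199 : act 9 n37630 = n36319 := d34_2 F174156 D37630 (iv F174153)
def n37631 : Q := act 6 n36167
theorem D37631 : act 6 n36167 = n37631 := rfl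
theorem F174200 : act 0 n37631 = n36170 := d5_1 D37631 (iv D36170) (iv F167557)
theorem F174201 : act 3 n37631 = n36168 := d26_1 D37631 (iv D36168) (iv F167558)
def n37632 : Q := act 5 n36170
theorem D37632 : act 5 n36170 = n37632 := rfl
theorem F174202 : act 1 n37632 = n36173 := d12_1 D37632 (iv D36173) (iv F167566)
theorem F174203 : act 3 n37632 = n36171 := d25_1 D37632 (iv D36171) (iv F167567)
theorem F174204 : act 6 n37632 = n36182 := d35_2 D36170 D37632 (iv D36182) (iv D34509) (iv F159888)
def n37633 : Q := act 4 n36173
theorem D37633 : act 4 n36173 = n37633 := rfl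
theorem F174205 : act 2 n37633 = n36329 := d18_1 D37633 (iv D36329) (iv F167576)
theorem F174206 : act 6 n37633 = n36183 := d31_2 (iv F167578) D37633 (iv D36183)
def n37634 : Q := act 8 n36173
theorem D37634 : act 8 n36173 = n37634 := rfl
theorem F174207 : act 2 n37634 = n36330 := d22_1 D37634 (iv D36330) (iv F167576)
theorem F174208 : act 3 n37634 = n36175 := d28_1 D37634 (iv D36175) (iv F167577)
theorem F174209 : act 6 n37634 = n36184 := d40_1 D37634 (iv D36184) (iv F167578)
theorem F174210 : act 9 n36298 = n37634 := d41_0 F174209 (iv F167620) (iv F167926)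
def n37635 : Q := act 5 n36174
theorem D37635 : act 5 n36174 = n37635 := rfl
theorem F174211 : act 2 n37635 = n36331 := d19_1 D37635 (iv D36331) (iv F167579)
theorem F174212 : act 3 n37635 = n36176 := d25_1 D37635 (iv D36176) (iv F167580)
theorem F174213 : act 6 n37635 = n37635 := d35_2 (iv F167581) D37635 (iv D37635) F167581 F159899
def n37636 : Q := act 4 n36179
theorem D37636 : act 4 n36179 = n37636 := rfl
theorem F174214 : act 1 n37636 = n36342 := d11_1 D37636 (iv D36342) (iv F167597)
theorem F174215 : act 3 n37636 = n36183 := d24_1 D37636 (iv D36183) F160014 (iv F159962) (iv F167598)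
theorem F174216 : act 7 n37636 = n37636 := d32_2 F167599 D37636 (iv D37636)
theorem F174217 : act 8 n37636 = n36352 := d33_2 (iv F167600) D37636 F168057
def n37637 : Q := act 4 n36181
theorem D37637 : act 4 n36181 = n37637 := rfl
theorem F174218 : act 2 n37637 = n36334 := d18_1 D37637 (iv D36334) (iv F167607)
theorem F174219 : act 7 n37637 = n37637 := d32_2 F167609 D37637 (iv D37637)
theorem F174220 : act 9 n37637 = n36183 := d34_2 (iv F167610) D37637 (iv D36183)
def n37638 : Q := act 4 n36182
theorem D37638 : act 4 n36182 = n37638 := rfl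
theorem F174221 : act 1 n37638 = n36183 := d11_1 D37638 (iv D36183) (iv F167611)
theorem F174222 : act 3 n37638 = n36342 := d24_1 D37638 (iv D36342) F160610 (iv F160011) (iv F167612)
theorem F174223 : act 7 n37638 = n37638 := d32_2 F167613 D37638 (iv D37638)
def n37639 : Q := act 8 n36183
theorem D37639 : act 8 n36183 = n37639 := rfl
theorem F174224 : act 2 n37639 = n36335 := d22_1 D37639 (iv D36335) (iv F167614)
theorem F174225 : act 3 n37639 = n36352 := d28_1 D37639 (iv F174217) F174215
theorem F174226 : act 4 n37639 = n36184 := d33_1 D37639 (iv D36184) D36183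
theorem F174227 : act 7 n37639 = n37639 := d42_1 D37639 (iv D37639) F167615
theorem F174228 : act 9 n36351 = n37639 := d34_0 F174226 (iv F167620) (iv F168055)
def n37640 : Q := act 5 n36185
theorem D37640 : act 5 n36185 = n37640 := rfl
theorem F174229 : act 0 n37640 = n36198 := d4_1 D37640 (iv D36198) (iv F167621)
theorem F174230 : act 9 n37640 = n36186 := d38_2 (iv F167623) D37640 (iv D36186)
def n37641 : Q := act 8 n36186
theorem D37641 : act 8 n36186 = n37641 := rfl
theorem F174231 : act 0 n37641 = n36206 := d7_1 D37641 (iv D36206) (iv F167624)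
def n37642 : Q := act 5 n36187
theorem D37642 : act 5 n36187 = n37642 := rfl
theorem F174232 : act 2 n37642 = n36188 := d19_1 D37642 (iv D36188) (iv F167625)
theorem F174233 : act 7 n37642 = n36205 := d36_2 (iv F167627) D37642 (iv D36205)
def n37643 : Q := act 8 n36188
theorem D37643 : act 8 n36188 = n37643 := rfl
theorem F174234 : act 1 n37643 = n36265 := d15_1 D37643 (iv D36265) (iv F167629)
theorem F174235 : act 7 n37643 = n36206 := d42_1 D37643 (iv D36206) (iv F167630)
def n37644 : Q := act 5 n36189
theorem D37644 : act 5 n36189 = n37644 := rfl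
theorem F174236 : act 1 n37644 = n36266 := d12_1 D37644 (iv D36266) (iv F167631)
theorem F174237 : act 2 n37644 = n36238 := d19_1 D37644 (iv D36238) (iv F167632)
theorem F174238 : act 4 n37644 = n36261 := d30_1 D37644 (iv D36261) F160250 F160048 (iv F167633)
theorem F174239 : act 7 n37644 = n36207 := d36_2 (iv F167635) D37644 (iv D36207)
def n37645 : Q := act 6 n36190
theorem D37645 : act 6 n36190 = n37645 := rfl
theorem F174240 : act 1 n37645 = n36302 := d13_1 D37645 F167935 (iv F167636)
theorem F174241 : act 3 n37645 = n36191 := d26_1 D37645 (iv D36191) (iv F167637)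
theorem F174242 : act 4 n37645 = n36281 := d31_1 D37645 F167888 (iv F167638)
theorem F174243 : act 8 n37645 = n36299 := d40_2 (iv F167639) D37645 (iv D36299)
def n37646 : Q := act 5 n36191
theorem D37646 : act 5 n36191 = n37646 := rfl
theorem F174244 : act 1 n37646 = n36307 := d12_1 D37646 (iv D36307) (iv F167640)
theorem F174245 : act 2 n37646 = n36192 := d19_1 D37646 (iv D36192) (iv F167641)
theorem F174246 : act 4 n37646 = n36205 := d30_1 D37646 (iv D36205) F160110 (iv F160059) (iv F167642)
def n37647 : Q := act 8 n36192
theorem D37647 : act 8 n36192 = n37647 := rfl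
theorem F174247 : act 1 n37647 = n36280 := d15_1 D37647 (iv D36280) (iv F167644)
theorem F174248 : act 4 n37647 = n36206 := d33_1 D37647 (iv D36206) (iv F167645)
def n37648 : Q := act 5 n36193
theorem D37648 : act 5 n36193 = n37648 := rfl
theorem F174249 : act 1 n37648 = n36205 := d12_1 D37648 (iv D36205) (iv F167646)
theorem F174250 : act 2 n37648 = n36300 := d19_1 D37648 (iv D36300) (iv F167647)
theorem F174251 : act 4 n37648 = n36307 := d30_1 D37648 (iv D36307) F160386 (iv F160073) (iv F167648)
def n37649 : Q := act 9 n36193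
theorem D37649 : act 9 n36193 = n37649 := rfl
theorem F174252 : act 1 n37649 = n36197 := d16_1 D37649 F167664 (iv F167646)
theorem F174253 : act 2 n37649 = n36282 := d23_1 D37649 F167892 (iv F167647)
theorem F174254 : act 4 n37649 = n36195 := d34_1 D37649 (iv D36195) (iv F167648)
theorem F174255 : act 6 n37649 = n36194 := d41_1 D37649 (iv D36194) (iv F167649)
def n37650 : Q := act 6 n36196
theorem D37650 : act 6 n36196 = n37650 := rfl
theorem F174256 : act 3 n37650 = n36197 := d26_1 D37650 (iv D36197) (iv F167659)
theorem F174257 : act 4 n37650 = n36277 := d31_1 D37650 F167878 (iv F167660)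
theorem F174258 : act 9 n37650 = n36204 := d41_2 (iv F167661) D37650 (iv D36204)
def n37651 : Q := act 5 n36197
theorem D37651 : act 5 n36197 = n37651 := rfl
theorem F174259 : act 2 n37651 = n36198 := d19_1 D37651 (iv D36198) (iv F167662)
theorem F174260 : act 9 n37651 = n36205 := d38_2 (iv F167664) D37651 (iv D36205)
def n37652 : Q := act 8 n36198
theorem D37652 : act 8 n36198 = n37652 := rfl
theorem F174261 : act 1 n37652 = n36289 := d15_1 D37652 (iv D36289) (iv F167665)
def n37653 : Q := act 5 n36199
theorem D37653 : act 5 n36199 = n37653 := rfl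
theorem F174262 : act 1 n37653 = n36290 := d12_1 D37653 (iv D36290) (iv F167667)
def n37654 : Q := act 6 n36200
theorem D37654 : act 6 n36200 = n37654 := rfl
theorem F174263 : act 1 n37654 = n36292 := d13_1 D37654 (iv D36292) (iv F167670)
theorem F174264 : act 4 n37654 = n36338 := d31_1 D37654 (iv D36338) (iv F167671)
def n37655 : Q := act 7 n36201
theorem D37655 : act 7 n36201 = n37655 := rfl
theorem F174265 : act 1 n37655 = n36294 := d14_1 D37655 (iv D36294) (iv F167673)
theorem F174266 : act 4 n37655 = n36339 := d32_1 D37655 (iv D36339) (iv F167674)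
def n37656 : Q := act 4 n36202
theorem D37656 : act 4 n36202 = n37656 := rfl
theorem F174267 : act 1 n37656 = n36296 := d11_1 D37656 (iv D36296) (iv F167675)
theorem F174268 : act 6 n37656 = n36340 := d31_2 (iv F167677) D37656 (iv D36340)
def n37657 : Q := act 3 n36203
theorem D37657 : act 3 n36203 = n37657 := rfl
theorem F174269 : act 1 n37657 = n36298 := d10_1 D37657 (iv D36298) (iv F167678)
theorem F174270 : act 6 n37657 = n36341 := d26_2 (iv F167680) D37657 (iv D36341)
def n37658 : Q := act 5 n36204
theorem D37658 : act 5 n36204 = n37658 := rfl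
theorem F174271 : act 3 n37658 = n36205 := d25_1 D37658 (iv D36205) (iv F167681)
def n37659 : Q := act 8 n36205
theorem D37659 : act 8 n36205 = n37659 := rfl
theorem F174272 : act 2 n37659 = n36206 := d22_1 D37659 (iv D36206) (iv F167684)
theorem F174273 : act 5 n37659 = n36280 := d37_1 D37659 (iv D36280) (iv D34611) (iv F160111) D36205
def n37660 : Q := act 5 n36206
theorem D37660 : act 5 n36206 = n37660 := rfl
theorem F174274 : act 1 n37660 = n36311 := d12_1 D37660 (iv D36311) (iv F167685)
theorem F174275 : act 2 n37660 = n36280 := d19_1 D37660 (iv F174273) F174272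
theorem F174276 : act 8 n37660 = n36207 := d37_2 D36206 D37660 (iv D36207) (iv D34541) D34540
theorem F174277 : act 4 n36306 = n37660 := d33_3 F174276 F167688 D36306
def n37661 : Q := act 9 n36206
theorem D37661 : act 9 n36206 = n37661 := rfl
theorem F174278 : act 1 n37661 = n36312 := d16_1 D37661 (iv D36312) (iv F167685)
def n37662 : Q := act 7 n36208
theorem D37662 : act 7 n36208 = n37662 := rfl
theorem F174279 : act 1 n37662 = n36211 := d14_1 D37662 (iv D36211) (iv F167689)
theorem F174280 : act 4 n37662 = n36209 := d32_1 D37662 (iv D36209) D36208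
theorem F174281 : act 5 n37662 = n36239 := d36_1 D37662 (iv D36239) (iv F167690)
theorem F174282 : act 9 n37662 = n36219 := d43_2 (iv F167691) D37662 (iv D36219)
def n37663 : Q := act 6 n36209
theorem D37663 : act 6 n36209 = n37663 := rfl
theorem F174283 : act 1 n37663 = n36212 := d13_1 D37663 (iv D36212) (iv F167692)
theorem F174284 : act 3 n37663 = n37663 := d26_1 D37663 (iv D37663) F167693
theorem F174285 : act 5 n37663 = n36368 := d35_1 D37663 F168104 F160682 (iv F160123) (iv F167694)
theorem F174286 : act 9 n37663 = n36220 := d41_2 (iv F167695) D37663 (iv D36220)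
def n37664 : Q := act 7 n36210
theorem D37664 : act 7 n36210 = n37664 := rfl
theorem F174287 : act 3 n37664 = n36211 := d27_1 D37664 (iv D36211) D36210
theorem F174288 : act 4 n37664 = n37664 := d32_1 D37664 (iv D37664) F167696
theorem F174289 : act 5 n37664 = n36241 := d36_1 D37664 (iv D36241) (iv F167697)
theorem F174290 : act 9 n37664 = n36221 := d43_2 (iv F167698) D37664 (iv D36221)
def n37665 : Q := act 6 n36211
theorem D37665 : act 6 n36211 = n37665 := rfl
theorem F174291 : act 2 n37665 = n36213 := d20_1 D37665 (iv D36213) (iv F167699)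
theorem F174292 : act 4 n37665 = n36212 := d31_1 D37665 (iv D36212) (iv F167700)
theorem F174293 : act 9 n37665 = n36223 := d41_2 (iv F167702) D37665 (iv D36223)
def n37666 : Q := act 5 n36213
theorem D37666 : act 5 n36213 = n37666 := rfl
theorem F174294 : act 6 n37666 = n36247 := d35_2 D36213 D37666 (iv D36247) (iv D34576) (iv F160134)
theorem F174295 : act 9 n37666 = n36228 := d38_2 (iv F167707) D37666 (iv D36228)
def n37667 : Q := act 8 n36213
theorem D37667 : act 8 n36213 = n37667 := rfl
theorem F174296 : act 4 n37667 = n36216 := d33_1 D37667 (iv D36216) (iv F167706)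
theorem F174297 : act 6 n37667 = n36214 := d40_1 D37667 (iv D36214) D36213
def n37668 : Q := act 5 n36214
theorem D37668 : act 5 n36214 = n37668 := rfl
theorem F174298 : act 4 n37668 = n37668 := d30_1 D37668 (iv D37668) F167708 F160140 (iv F167708)
theorem F174299 : act 7 n37668 = n36215 := d36_2 (iv F167709) D37668 (iv D36215)
theorem F174300 : act 8 n37668 = n36249 := d37_2 D36214 D37668 (iv D36249) (iv D34577) (iv F160134)
def n37669 : Q := act 5 n36216
theorem D37669 : act 5 n36216 = n37669 := rfl
theorem F174301 : act 3 n37669 = n36217 := d25_1 D37669 (iv D36217) (iv F167712)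
theorem F174302 : act 6 n37669 = n37669 := d35_2 (iv F167713) D37669 (iv D37669) F167713 F160140
def n37670 : Q := act 7 n36218
theorem D37670 : act 7 n36218 = n37670 := rfl
theorem F174303 : act 1 n37670 = n36221 := d14_1 D37670 (iv D36221) (iv F167716)
theorem F174304 : act 3 n37670 = n36219 := d27_1 D37670 (iv D36219) D36218
theorem F174305 : act 4 n37670 = n37670 := d32_1 D37670 (iv D37670) F167717
theorem F174306 : act 5 n37670 = n36257 := d36_1 D37670 (iv D36257) (iv F167718)
def n37671 : Q := act 6 n36219
theorem D37671 : act 6 n36219 = n37671 := rfl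
theorem F174307 : act 1 n37671 = n36223 := d13_1 D37671 (iv D36223) (iv F167719)
theorem F174308 : act 4 n37671 = n36220 := d31_1 D37671 (iv D36220) (iv F167720)
def n37672 : Q := act 6 n36221
theorem D37672 : act 6 n36221 = n37672 := rfl
theorem F174309 : act 3 n37672 = n36223 := d26_1 D37672 (iv D36223) (iv F167725)
theorem F174310 : act 4 n37672 = n37672 := d31_1 D37672 (iv D37672) F167726
def n37673 : Q := act 8 n36221
theorem D37673 : act 8 n36221 = n37673 := rfl
theorem F174311 : act 3 n37673 = n36224 := d28_1 D37673 (iv D36224) (iv F167725)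
theorem F174312 : act 4 n37673 = n37673 := d33_1 D37673 (iv D37673) F167726
theorem F174313 : act 7 n37673 = n36222 := d42_1 D37673 (iv D36222) D36221
def n37674 : Q := act 9 n36222
theorem D37674 : act 9 n36222 = n37674 := rfl
theorem F174314 : act 3 n37674 = n36225 := d29_1 D37674 (iv D36225) (iv F167728)
theorem F174315 : act 4 n37674 = n37674 := d34_1 D37674 (iv D37674) F167729
def n37675 : Q := act 5 n36223
theorem D37675 : act 5 n36223 = n37675 := rfl
theorem F174316 : act 2 n37675 = n36228 := d19_1 D37675 (iv D36228) (iv F167730)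
theorem F174317 : act 6 n37675 = n36261 := d35_2 D36223 D37675 (iv D36261) (iv D34589) (iv F160153)
def n37676 : Q := act 8 n36223
theorem D37676 : act 8 n36223 = n37676 := rfl
theorem F174318 : act 2 n37676 = n36229 := d22_1 D37676 (iv D36229) (iv F167730)
theorem F174319 : act 4 n37676 = n36226 := d33_1 D37676 (iv D36226) (iv F167731)
theorem F174320 : act 6 n37676 = n36224 := d40_1 D37676 (iv D36224) D36223
def n37677 : Q := act 9 n36224
theorem D37677 : act 9 n36224 = n37677 := rfl
theorem F174321 : act 2 n37677 = n36231 := d23_1 D37677 (iv D36231) (iv F167732)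
theorem F174322 : act 4 n37677 = n36227 := d34_1 D37677 (iv D36227) (iv F167733)
theorem F174323 : act 7 n37677 = n36225 := d43_1 D37677 (iv D36225) (iv F167734)
def n37678 : Q := act 5 n36226
theorem D37678 : act 5 n36226 = n37678 := rfl
theorem F174324 : act 2 n37678 = n36234 := d19_1 D37678 (iv D36234) (iv F167737)
theorem F174325 : act 3 n37678 = n37678 := d25_1 D37678 (iv D37678) F167738
theorem F174326 : act 6 n37678 = n36353 := d35_2 (iv F167739) D37678 (iv D36353) F160646 (iv F160160)
def n37679 : Q := act 9 n36226
theorem D37679 : act 9 n36226 = n37679 := rfl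
theorem F174327 : act 2 n37679 = n36235 := d23_1 D37679 (iv D36235) (iv F167737)
theorem F174328 : act 3 n37679 = n37679 := d29_1 D37679 (iv D37679) F167738
theorem F174329 : act 6 n37679 = n36227 := d41_1 D37679 (iv D36227) (iv F167739)
def n37680 : Q := act 8 n36228
theorem D37680 : act 8 n36228 = n37680 := rfl
theorem F174330 : act 6 n37680 = n36265 := d40_1 D37680 (iv D36265) (iv F167744)
def n37681 : Q := act 5 n36229
theorem D37681 : act 5 n36229 = n37681 := rfl
def n37682 : Q := act 9 n36229
theorem D37682 : act 9 n36229 = n37682 := rfl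
theorem F174331 : act 4 n37682 = n36235 := d34_1 D37682 (iv D36235) (iv F167745)
theorem F174332 : act 6 n37682 = n36231 := d41_1 D37682 (iv D36231) (iv F167746)
def n37683 : Q := act 6 n36230
theorem D37683 : act 6 n36230 = n37683 := rfl
theorem F174333 : act 4 n37683 = n36357 := d31_1 D37683 (iv D36357) (iv F167747)
theorem F174334 : act 8 n37683 = n36268 := d40_2 (iv F167749) D37683 (iv D36268)
def n37684 : Q := act 9 n36230
theorem D37684 : act 9 n36230 = n37684 := rfl
theorem F174335 : act 4 n37684 = n36358 := d34_1 D37684 (iv D36358) (iv F167747)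
theorem F174336 : act 5 n37684 = n36231 := d38_1 D37684 (iv D36231) D36230
theorem F174337 : act 7 n37684 = n36233 := d43_1 D37684 (iv D36233) (iv F167748)
def n37685 : Q := act 7 n36232
theorem D37685 : act 7 n36232 = n37685 := rfl
theorem F174338 : act 4 n37685 = n36359 := d32_1 D37685 (iv D36359) (iv F167752)
theorem F174339 : act 8 n37685 = n36270 := d42_2 (iv F167753) D37685 (iv D36270)
def n37686 : Q := act 9 n36232
theorem D37686 : act 9 n36232 = n37686 := rfl
theorem F174340 : act 4 n37686 = n36360 := d34_1 D37686 (iv D36360) (iv F167752)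
theorem F174341 : act 6 n37686 = n36233 := d41_1 D37686 (iv D36233) D36232
def n37687 : Q := act 8 n36233
theorem D37687 : act 8 n36233 = n37687 := rfl
theorem F174342 : act 4 n37687 = n36361 := d33_1 D37687 (iv D36361) (iv F167754)
theorem F174343 : act 9 n37687 = n36271 := d44_2 D36233 D37687 (iv D36271) (iv D34599) (iv F160169)
def n37688 : Q := act 4 n36234
theorem D37688 : act 4 n36234 = n37688 := rfl
theorem F174344 : act 6 n37688 = n36362 := d31_2 (iv F167757) D37688 (iv D36362)
def n37689 : Q := act 9 n36234
theorem D37689 : act 9 n36234 = n37689 := rfl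
theorem F174345 : act 3 n37689 = n36237 := d29_1 D37689 (iv D36237) (iv F167756)
theorem F174346 : act 5 n37689 = n36235 := d38_1 D37689 (iv D36235) D36234
theorem F174347 : act 6 n37689 = n36363 := d41_1 D37689 (iv D36363) (iv F167757)
def n37690 : Q := act 3 n36236
theorem D37690 : act 3 n36236 = n37690 := rfl
theorem F174348 : act 6 n37690 = n36364 := d26_2 (iv F167761) D37690 (iv D36364)
def n37691 : Q := act 9 n36236
theorem D37691 : act 9 n36236 = n37691 := rfl
theorem F174349 : act 2 n37691 = n37691 := d23_1 D37691 (iv D37691) F167760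
theorem F174350 : act 4 n37691 = n36237 := d34_1 D37691 (iv D36237) D36236
theorem F174351 : act 6 n37691 = n36365 := d41_1 D37691 (iv D36365) (iv F167761)
def n37692 : Q := act 8 n36237
theorem D37692 : act 8 n36237 = n37692 := rfl
theorem F174352 : act 2 n37692 = n37692 := d22_1 D37692 (iv D37692) F167762
theorem F174353 : act 6 n37692 = n36366 := d40_1 D37692 (iv D36366) (iv F167764)
def n37693 : Q := act 8 n36238
theorem D37693 : act 8 n36238 = n37693 := rfl
theorem F174354 : act 4 n37693 = n36265 := d33_1 D37693 (iv D36265) (iv F167765)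
theorem F174355 : act 7 n37693 = n36280 := d42_1 D37693 (iv D36280) (iv F167766)
def n37694 : Q := act 6 n36239
theorem D37694 : act 6 n36239 = n37694 := rfl
theorem F174356 : act 1 n37694 = n36242 := d13_1 D37694 (iv D36242) (iv F167767)
theorem F174357 : act 4 n37694 = n36240 := d31_1 D37694 (iv D36240) (iv F167768)
theorem F174358 : act 7 n37694 = n36282 := d39_2 D36239 D37694 (iv D36282) (iv D34614) (iv F160183)
theorem F174359 : act 9 n37694 = n36258 := d41_2 (iv F167769) D37694 (iv D36258)
def n37695 : Q := act 6 n36241
theorem D37695 : act 6 n36241 = n37695 := rfl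
theorem F174360 : act 3 n37695 = n36242 := d26_1 D37695 (iv D36242) (iv F167775)
theorem F174361 : act 4 n37695 = n36317 := d31_1 D37695 (iv D36317) (iv F167776)
theorem F174362 : act 7 n37695 = n36283 := d39_2 D36241 D37695 (iv D36283) (iv D34616) (iv F160190)
theorem F174363 : act 9 n37695 = n36259 := d41_2 (iv F167777) D37695 (iv D36259)
def n37696 : Q := act 5 n36242
theorem D37696 : act 5 n36242 = n37696 := rfl
theorem F174364 : act 2 n37696 = n36247 := d19_1 D37696 (iv D36247) (iv F167778)
theorem F174365 : act 7 n37696 = n36284 := d36_2 (iv F167780) D37696 (iv D36284)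
theorem F174366 : act 9 n37696 = n36261 := d38_2 (iv F167781) D37696 (iv D36261)
def n37697 : Q := act 8 n36242
theorem D37697 : act 8 n36242 = n37697 := rfl
theorem F174367 : act 2 n37697 = n36248 := d22_1 D37697 (iv D36248) (iv F167778)
theorem F174368 : act 4 n37697 = n36245 := d33_1 D37697 (iv D36245) (iv F167779)
theorem F174369 : act 6 n37697 = n36243 := d40_1 D37697 (iv D36243) D36242
theorem F174370 : act 7 n37697 = n36285 := d42_1 D37697 (iv D36285) (iv F167780)
def n37698 : Q := act 5 n36243
theorem D37698 : act 5 n36243 = n37698 := rfl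
theorem F174371 : act 2 n37698 = n36249 := d19_1 D37698 (iv D36249) (iv F167782)
theorem F174372 : act 4 n37698 = n37698 := d30_1 D37698 (iv D37698) F167783 F160204 (iv F167783)
theorem F174373 : act 7 n37698 = n36244 := d36_2 (iv F167784) D37698 (iv D36244)
def n37699 : Q := act 5 n36245
theorem D37699 : act 5 n36245 = n37699 := rfl
theorem F174374 : act 2 n37699 = n36253 := d19_1 D37699 (iv D36253) (iv F167787)
theorem F174375 : act 3 n37699 = n36319 := d25_1 D37699 (iv D36319) (iv F167788)
theorem F174376 : act 6 n37699 = n37699 := d35_2 (iv F167789) D37699 (iv D37699) F167789 F160204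
theorem F174377 : act 7 n37699 = n36287 := d36_2 (iv F167790) D37699 (iv D36287)
def n37700 : Q := act 9 n36245
theorem D37700 : act 9 n36245 = n37700 := rfl
theorem F174378 : act 1 n37700 = n36274 := d16_1 D37700 (iv F174129) F174124
theorem F174379 : act 2 n37700 = n36254 := d23_1 D37700 (iv D36254) (iv F167787)
theorem F174380 : act 3 n37700 = n36320 := d29_1 D37700 (iv D36320) (iv F167788)
theorem F174381 : act 6 n37700 = n36246 := d41_1 D37700 (iv D36246) (iv F167789)
theorem F174382 : act 7 n37700 = n36288 := d43_1 D37700 (iv D36288) (iv F167790)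
theorem F174383 : act 8 n37700 = n36264 := d44_1 D37700 (iv D36264) (iv D34592) (iv F160201) D36245
def n37701 : Q := act 8 n36247
theorem D37701 : act 8 n36247 = n37701 := rfl
theorem F174384 : act 7 n37701 = n36289 := d42_1 D37701 (iv D36289) (iv F167797)
def n37702 : Q := act 5 n36248
theorem D37702 : act 5 n36248 = n37702 := rfl
theorem F174385 : act 7 n37702 = n36290 := d36_2 (iv F167801) D37702 (iv D36290)
def n37703 : Q := act 9 n36248
theorem D37703 : act 9 n36248 = n37703 := rfl
theorem F174386 : act 4 n37703 = n36254 := d34_1 D37703 (iv D36254) (iv F167799)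
theorem F174387 : act 6 n37703 = n36250 := d41_1 D37703 (iv D36250) (iv F167800)
theorem F174388 : act 7 n37703 = n36291 := d43_1 D37703 (iv D36291) (iv F167801)
theorem F174389 : act 8 n37703 = n36267 := d44_1 D37703 (iv D36267) (iv D34595) (iv F160214) D36248
def n37704 : Q := act 6 n36249
theorem D37704 : act 6 n36249 = n37704 := rfl
theorem F174390 : act 4 n37704 = n37704 := d31_1 D37704 (iv D37704) F167802
def n37705 : Q := act 9 n36249
theorem D37705 : act 9 n36249 = n37705 := rfl
theorem F174391 : act 4 n37705 = n37705 := d34_1 D37705 (iv D37705) F167802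
theorem F174392 : act 5 n37705 = n36250 := d38_1 D37705 (iv D36250) D36249
theorem F174393 : act 7 n37705 = n36252 := d43_1 D37705 (iv D36252) (iv F167803)
def n37706 : Q := act 7 n36251
theorem D37706 : act 7 n36251 = n37706 := rfl
theorem F174394 : act 4 n37706 = n37706 := d32_1 D37706 (iv D37706) F167807
theorem F174395 : act 5 n37706 = n36294 := d36_1 D37706 (iv D36294) (iv F167808)
def n37707 : Q := act 9 n36251
theorem D37707 : act 9 n36251 = n37707 := rfl
theorem F174396 : act 4 n37707 = n37707 := d34_1 D37707 (iv D37707) F167807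
theorem F174397 : act 5 n37707 = n36295 := d38_1 D37707 (iv D36295) (iv F167808)
theorem F174398 : act 6 n37707 = n36252 := d41_1 D37707 (iv D36252) D36251
def n37708 : Q := act 8 n36252
theorem D37708 : act 8 n36252 = n37708 := rfl
theorem F174399 : act 4 n37708 = n37708 := d33_1 D37708 (iv D37708) F167809
theorem F174400 : act 5 n37708 = n36271 := d37_1 D37708 (iv D36271) F160279 (iv F160220) (iv F167810)
def n37709 : Q := act 4 n36253
theorem D37709 : act 4 n36253 = n37709 := rfl
theorem F174401 : act 6 n37709 = n37709 := d31_2 F167812 D37709 (iv D37709)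
theorem F174402 : act 7 n37709 = n36296 := d32_2 (iv F167813) D37709 (iv D36296)
def n37710 : Q := act 9 n36253
theorem D37710 : act 9 n36253 = n37710 := rfl
theorem F174403 : act 3 n37710 = n36256 := d29_1 D37710 (iv D36256) (iv F167811)
theorem F174404 : act 5 n37710 = n36254 := d38_1 D37710 (iv D36254) D36253
theorem F174405 : act 6 n37710 = n37710 := d41_1 D37710 (iv D37710) F167812
theorem F174406 : act 7 n37710 = n36297 := d43_1 D37710 (iv D36297) (iv F167813)
def n37711 : Q := act 3 n36255
theorem D37711 : act 3 n36255 = n37711 := rfl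
theorem F174407 : act 5 n37711 = n36330 := d25_2 (iv F167819) D37711 F168002
theorem F174408 : act 6 n37711 = n37711 := d26_2 F167820 D37711 (iv D37711)
theorem F174409 : act 7 n37711 = n36298 := d27_2 (iv F167821) D37711 (iv D36298)
theorem F174410 : act 8 n37711 = n36331 := d28_2 (iv F167822) D37711 F168004
def n37712 : Q := act 6 n36257
theorem D37712 : act 6 n36257 = n37712 := rfl
theorem F174411 : act 1 n37712 = n36259 := d13_1 D37712 (iv D36259) (iv F167827)
theorem F174412 : act 3 n37712 = n36258 := d26_1 D37712 (iv D36258) (iv F167828)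
theorem F174413 : act 4 n37712 = n36272 := d31_1 D37712 F167867 (iv F167829)
theorem F174414 : act 7 n37712 = n36299 := d39_2 D36257 D37712 (iv D36299) (iv D34632) (iv F160237)
def n37713 : Q := act 5 n36258
theorem D37713 : act 5 n36258 = n37713 := rfl
theorem F174415 : act 1 n37713 = n36261 := d12_1 D37713 (iv D36261) (iv F167830)
theorem F174416 : act 4 n37713 = n36266 := d30_1 D37713 (iv D36266) F160269 (iv F160242) (iv F167831)
theorem F174417 : act 7 n37713 = n36300 := d36_2 (iv F167832) D37713 (iv D36300)
def n37714 : Q := act 5 n36259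
theorem D37714 : act 5 n36259 = n37714 := rfl
theorem F174418 : act 3 n37714 = n36261 := d25_1 D37714 (iv D36261) (iv F167833)
theorem F174419 : act 7 n37714 = n36301 := d36_2 (iv F167835) D37714 (iv D36301)
def n37715 : Q := act 8 n36259
theorem D37715 : act 8 n36259 = n37715 := rfl
theorem F174420 : act 3 n37715 = n36262 := d28_1 D37715 (iv D36262) (iv F167833)
theorem F174421 : act 4 n37715 = n36322 := d33_1 D37715 (iv D36322) (iv F167834)
theorem F174422 : act 6 n37715 = n36260 := d40_1 D37715 (iv D36260) D36259
theorem F174423 : act 7 n37715 = n36302 := d42_1 D37715 (iv D36302) (iv F167835)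
def n37716 : Q := act 8 n36261
theorem D37716 : act 8 n36261 = n37716 := rfl
theorem F174424 : act 2 n37716 = n36265 := d22_1 D37716 (iv D36265) (iv F167839)
theorem F174425 : act 7 n37716 = n36306 := d42_1 D37716 (iv D36306) (iv F167840)
def n37717 : Q := act 5 n36262
theorem D37717 : act 5 n36262 = n37717 := rfl
theorem F174426 : act 2 n37717 = n36266 := d19_1 D37717 (iv D36266) (iv F167841)
theorem F174427 : act 7 n37717 = n36307 := d36_2 (iv F167844) D37717 (iv D36307)
def n37718 : Q := act 9 n36262
theorem D37718 : act 9 n36262 = n37718 := rfl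
theorem F174428 : act 1 n37718 = n36273 := d16_1 D37718 (iv F168166) F168161
theorem F174429 : act 2 n37718 = n36267 := d23_1 D37718 (iv D36267) (iv F167841)
theorem F174430 : act 4 n37718 = n36264 := d34_1 D37718 (iv D36264) (iv F167842)
theorem F174431 : act 6 n37718 = n36263 := d41_1 D37718 (iv D36263) (iv F167843)
theorem F174432 : act 7 n37718 = n36308 := d43_1 D37718 (iv D36308) (iv F167844)
def n37719 : Q := act 5 n36265
theorem D37719 : act 5 n36265 = n37719 := rfl
theorem F174433 : act 7 n37719 = n36311 := d36_2 (iv F167854) D37719 (iv D36311)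
theorem F174434 : act 8 n37719 = n36266 := d37_2 D36265 D37719 (iv D36266) (iv D34595) D34594
def n37720 : Q := act 9 n36265
theorem D37720 : act 9 n36265 = n37720 := rfl
theorem F174435 : act 7 n37720 = n36312 := d43_1 D37720 (iv D36312) (iv F167854)
def n37721 : Q := act 6 n36266
theorem D37721 : act 6 n36266 = n37721 := rfl
theorem F174436 : act 5 n37721 = n36268 := d35_1 D37721 (iv D36268) (iv D34596) (iv F160270) D36266
def n37722 : Q := act 9 n36266
theorem D37722 : act 9 n36266 = n37722 := rfl
theorem F174437 : act 5 n37722 = n36267 := d38_1 D37722 (iv D36267) D36266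
theorem F174438 : act 7 n37722 = n36314 := d43_1 D37722 (iv D36314) (iv F167855)
def n37723 : Q := act 7 n36268
theorem D37723 : act 7 n36268 = n37723 := rfl
theorem F174439 : act 4 n37723 = n36367 := d32_1 D37723 (iv D36367) (iv F167859)
theorem F174440 : act 6 n37723 = n36270 := d39_1 D37723 (iv D36270) (iv D34598) (iv F160273) D36268
def n37724 : Q := act 9 n36268
theorem D37724 : act 9 n36268 = n37724 := rfl
theorem F174441 : act 4 n37724 = n36368 := d34_1 D37724 (iv D36368) (iv F167859)
theorem F174442 : act 6 n37724 = n36269 := d41_1 D37724 (iv D36269) D36268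
def n37725 : Q := act 8 n36269
theorem D37725 : act 8 n36269 = n37725 := rfl
theorem F174443 : act 4 n37725 = n36369 := d33_1 D37725 (iv D36369) (iv F167860)
theorem F174444 : act 7 n37725 = n36271 := d42_1 D37725 (iv D36271) (iv F167862)
def n37726 : Q := act 5 n36273
theorem D37726 : act 5 n36273 = n37726 := rfl
theorem F174445 : act 2 n37726 = n36275 := d19_1 D37726 (iv D36275) (iv F167869)
def n37727 : Q := act 5 n36274
theorem D37727 : act 5 n36274 = n37727 := rfl
theorem F174446 : act 2 n37727 = n36276 := d19_1 D37727 (iv D36276) (iv F167871)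
theorem F174447 : act 3 n37727 = n36325 := d25_1 D37727 (iv D36325) (iv F167872)
theorem F174448 : act 6 n37727 = n37727 := d35_2 (iv F167873) D37727 (iv D37727) F167873 F160298
def n37728 : Q := act 8 n36275
theorem D37728 : act 8 n36275 = n37728 := rfl
theorem F174449 : act 3 n37728 = n36280 := d28_1 D37728 (iv D36280) (iv F167874)
def n37729 : Q := act 4 n36276
theorem D37729 : act 4 n36276 = n37729 := rfl
theorem F174450 : act 6 n37729 = n37729 := d31_2 F167876 D37729 (iv D37729)
def n37730 : Q := act 9 n36276
theorem D37730 : act 9 n36276 = n37730 := rfl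
theorem F174451 : act 3 n37730 = n36279 := d29_1 D37730 (iv D36279) (iv F167875)
theorem F174452 : act 5 n37730 = n36277 := d38_1 D37730 (iv D36277) D36276
theorem F174453 : act 6 n37730 = n37730 := d41_1 D37730 (iv D37730) F167876
def n37731 : Q := act 3 n36278
theorem D37731 : act 3 n36278 = n37731 := rfl
theorem F174454 : act 1 n37731 = n36331 := d10_1 D37731 F168004 (iv F167879)
theorem F174455 : act 5 n37731 = n36281 := d25_2 (iv F167881) D37731 (iv D36281)
theorem F174456 : act 6 n37731 = n37731 := d26_2 F167882 D37731 (iv D37731)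
def n37732 : Q := act 9 n36280
theorem D37732 : act 9 n36280 = n37732 := rfl
theorem F174457 : act 4 n37732 = n36312 := d34_1 D37732 (iv D36312) (iv F167886)
def n37733 : Q := act 5 n36282
theorem D37733 : act 5 n36282 = n37733 := rfl
theorem F174458 : act 1 n37733 = n36284 := d12_1 D37733 (iv D36284) (iv F167890)
theorem F174459 : act 4 n37733 = n36314 := d30_1 D37733 F167955 F160399 (iv F160327) (iv F167891)
theorem F174460 : act 9 n37733 = n36300 := d38_2 (iv F167892) D37733 (iv D36300)
def n37734 : Q := act 5 n36283
theorem D37734 : act 5 n36283 = n37734 := rfl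
theorem F174461 : act 3 n37734 = n36284 := d25_1 D37734 (iv D36284) (iv F167893)
theorem F174462 : act 9 n37734 = n36301 := d38_2 (iv F167895) D37734 (iv D36301)
def n37735 : Q := act 8 n36284
theorem D37735 : act 8 n36284 = n37735 := rfl
theorem F174463 : act 2 n37735 = n36289 := d22_1 D37735 (iv D36289) (iv F167896)
def n37736 : Q := act 5 n36285
theorem D37736 : act 5 n36285 = n37736 := rfl
theorem F174464 : act 2 n37736 = n36290 := d19_1 D37736 (iv D36290) (iv F167898)
def n37737 : Q := act 9 n36285
theorem D37737 : act 9 n36285 = n37737 := rfl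
theorem F174465 : act 2 n37737 = n36291 := d23_1 D37737 (iv D36291) (iv F167898)
theorem F174466 : act 4 n37737 = n36288 := d34_1 D37737 (iv D36288) (iv F167899)
theorem F174467 : act 6 n37737 = n36286 := d41_1 D37737 (iv D36286) (iv F167900)
theorem F174468 : act 8 n37737 = n36308 := d44_1 D37737 (iv D36308) (iv D34639) (iv F160334) D36285
def n37738 : Q := act 4 n36287
theorem D37738 : act 4 n36287 = n37738 := rfl
theorem F174469 : act 2 n37738 = n36296 := d18_1 D37738 (iv D36296) (iv F167905)
theorem F174470 : act 6 n37738 = n36342 := d31_2 (iv F167907) D37738 (iv D36342)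
def n37739 : Q := act 9 n36287
theorem D37739 : act 9 n36287 = n37739 := rfl
theorem F174471 : act 2 n37739 = n36297 := d23_1 D37739 (iv D36297) (iv F167905)
theorem F174472 : act 3 n37739 = n36327 := d29_1 D37739 (iv D36327) (iv F167906)
theorem F174473 : act 5 n37739 = n36288 := d38_1 D37739 (iv D36288) D36287
theorem F174474 : act 6 n37739 = n36343 := d41_1 D37739 (iv D36343) (iv F167907)
def n37740 : Q := act 5 n36289
theorem D37740 : act 5 n36289 = n37740 := rfl
theorem F174475 : act 8 n37740 = n36290 := d37_2 D36289 D37740 (iv D36290) (iv D34623) D34622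
def n37741 : Q := act 9 n36289
theorem D37741 : act 9 n36289 = n37741 := rfl
theorem F174476 : act 8 n37741 = n36312 := d44_1 D37741 (iv D36312) (iv D34644) (iv F160349) D36289
def n37742 : Q := act 4 n36290
theorem D37742 : act 4 n36290 = n37742 := rfl
theorem F174477 : act 5 n37742 = n36296 := d30_2 D36290 D37742 (iv D36296) (iv D34628) (iv F160350)
def n37743 : Q := act 6 n36290
theorem D37743 : act 6 n36290 = n37743 := rfl
theorem F174478 : act 5 n37743 = n36292 := d35_1 D37743 (iv D36292) (iv D34624) (iv F160351) D36290
def n37744 : Q := act 9 n36290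
theorem D37744 : act 9 n36290 = n37744 := rfl
theorem F174479 : act 5 n37744 = n36291 := d38_1 D37744 (iv D36291) D36290
def n37745 : Q := act 7 n36292
theorem D37745 : act 7 n36292 = n37745 := rfl
theorem F174480 : act 4 n37745 = n36348 := d32_1 D37745 (iv D36348) (iv F167915)
theorem F174481 : act 6 n37745 = n36294 := d39_1 D37745 (iv D36294) (iv D34626) (iv F160353) D36292
def n37746 : Q := act 9 n36292
theorem D37746 : act 9 n36292 = n37746 := rfl
theorem F174482 : act 4 n37746 = n36349 := d34_1 D37746 (iv D36349) (iv F167915)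
theorem F174483 : act 6 n37746 = n36293 := d41_1 D37746 (iv D36293) D36292
def n37747 : Q := act 9 n36294
theorem D37747 : act 9 n36294 = n37747 := rfl
theorem F174484 : act 4 n37747 = n36350 := d34_1 D37747 (iv D36350) (iv F167919)
theorem F174485 : act 7 n37747 = n36295 := d43_1 D37747 (iv D36295) D36294
def n37748 : Q := act 3 n36296
theorem D37748 : act 3 n36296 = n37748 := rfl
theorem F174486 : act 4 n37748 = n36298 := d24_2 D36296 D37748 (iv D36298) (iv D34630) (iv F160360)
theorem F174487 : act 6 n37748 = n36351 := d26_2 (iv F167922) D37748 (iv D36351)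
def n37749 : Q := act 9 n36296
theorem D37749 : act 9 n36296 = n37749 := rfl
theorem F174488 : act 4 n37749 = n36297 := d34_1 D37749 (iv D36297) D36296
theorem F174489 : act 6 n37749 = n36352 := d41_1 D37749 (iv D36352) (iv F167922)
def n37750 : Q := act 2 n36298
theorem D37750 : act 2 n36298 = n37750 := rfl
theorem F174490 : act 3 n37750 = n36328 := d17_2 D36298 D37750 (iv D36328) (iv D34687) (iv F160365)
theorem F174491 : act 6 n37750 = n36336 := d20_2 (iv F167926) D37750 F168015
theorem F174492 : act 9 n37750 = n36330 := d23_2 (iv F174210) D37750 (iv F174207)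
def n37751 : Q := act 5 n36299
theorem D37751 : act 5 n36299 = n37751 := rfl
theorem F174493 : act 1 n37751 = n36301 := d12_1 D37751 (iv D36301) (iv F167927)
theorem F174494 : act 3 n37751 = n36300 := d25_1 D37751 (iv D36300) (iv F167928)
def n37752 : Q := act 8 n36300
theorem D37752 : act 8 n36300 = n37752 := rfl
theorem F174495 : act 1 n37752 = n36306 := d15_1 D37752 (iv D36306) (iv F167930)
theorem F174496 : act 4 n37752 = n36311 := d33_1 D37752 F167953 (iv F167931)
def n37753 : Q := act 4 n36301
theorem D37753 : act 4 n36301 = n37753 := rfl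
theorem F174497 : act 5 n37753 = n36329 := d30_2 D36301 D37753 (iv D36329) (iv D34688) (iv F160376)
def n37754 : Q := act 8 n36301
theorem D37754 : act 8 n36301 = n37754 := rfl
theorem F174498 : act 3 n37754 = n36306 := d28_1 D37754 (iv D36306) (iv F167932)
def n37755 : Q := act 5 n36302
theorem D37755 : act 5 n36302 = n37755 := rfl
theorem F174499 : act 3 n37755 = n36307 := d25_1 D37755 (iv D36307) (iv F167933)
def n37756 : Q := act 9 n36302
theorem D37756 : act 9 n36302 = n37756 := rfl
theorem F174500 : act 3 n37756 = n36308 := d29_1 D37756 (iv D36308) (iv F167933)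
theorem F174501 : act 4 n37756 = n36332 := d34_1 D37756 (iv D36332) (iv F167934)
theorem F174502 : act 6 n37756 = n36304 := d41_1 D37756 (iv D36304) (iv F167935)
def n37757 : Q := act 6 n36303
theorem D37757 : act 6 n36303 = n37757 := rfl
theorem F174503 : act 3 n37757 = n36309 := d26_1 D37757 (iv D36309) (iv F167936)
theorem F174504 : act 4 n37757 = n37757 := d31_1 D37757 (iv D37757) F167937
def n37758 : Q := act 7 n36305
theorem D37758 : act 7 n36305 = n37758 := rfl
theorem F174505 : act 3 n37758 = n36310 := d27_1 D37758 (iv D36310) (iv F167942)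
theorem F174506 : act 4 n37758 = n37758 := d32_1 D37758 (iv D37758) F167943
def n37759 : Q := act 5 n36306
theorem D37759 : act 5 n36306 = n37759 := rfl
theorem F174507 : act 2 n37759 = n36311 := d19_1 D37759 (iv D36311) (iv F167944)
theorem F174508 : act 8 n37759 = n36307 := d37_2 D36306 D37759 (iv D36307) (iv D34639) D34638
def n37760 : Q := act 9 n36306
theorem D37760 : act 9 n36306 = n37760 := rfl
theorem F174509 : act 2 n37760 = n36312 := d23_1 D37760 (iv D36312) (iv F167944)
def n37761 : Q := act 6 n36307
theorem D37761 : act 6 n36307 = n37761 := rfl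
theorem F174510 : act 2 n37761 = n36313 := d20_1 D37761 (iv D36313) (iv F167945)
theorem F174511 : act 5 n37761 = n36309 := d35_1 D37761 (iv D36309) (iv D34640) (iv F160387) D36307
def n37762 : Q := act 9 n36307
theorem D37762 : act 9 n36307 = n37762 := rfl
theorem F174512 : act 2 n37762 = n36314 := d23_1 D37762 (iv D36314) (iv F167945)
theorem F174513 : act 5 n37762 = n36308 := d38_1 D37762 (iv D36308) D36307
def n37763 : Q := act 7 n36309
theorem D37763 : act 7 n36309 = n37763 := rfl
theorem F174514 : act 2 n37763 = n36315 := d21_1 D37763 (iv D36315) (iv F167949)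
theorem F174515 : act 4 n37763 = n36316 := d32_1 D37763 (iv D36316) (iv F167950)
theorem F174516 : act 6 n37763 = n36310 := d39_1 D37763 (iv D36310) (iv D34642) (iv F160390) D36309
def n37764 : Q := act 6 n36311
theorem D37764 : act 6 n36311 = n37764 := rfl
theorem F174517 : act 8 n37764 = n36313 := d40_2 (iv F167953) D37764 (iv D36313)
def n37765 : Q := act 9 n36311
theorem D37765 : act 9 n36311 = n37765 := rfl
theorem F174518 : act 5 n37765 = n36312 := d38_1 D37765 (iv D36312) D36311
def n37766 : Q := act 7 n36313
theorem D37766 : act 7 n36313 = n37766 := rfl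
theorem F174519 : act 5 n37766 = n36315 := d36_1 D37766 (iv D36315) (iv F167954)
def n37767 : Q := act 8 n36314
theorem D37767 : act 8 n36314 = n37767 := rfl
def n37768 : Q := act 5 n36317
theorem D37768 : act 5 n36317 = n37768 := rfl
theorem F174520 : act 3 n37768 = n36318 := d25_1 D37768 (iv D36318) (iv F167961)
theorem F174521 : act 6 n37768 = n37768 := d35_2 D36317 D37768 (iv D37768) (iv D36317) F160421
theorem F174522 : act 7 n37768 = n36326 := d36_2 (iv F167962) D37768 (iv D36326)
theorem F174523 : act 9 n37768 = n36321 := d38_2 (iv F167963) D37768 (iv D36321)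
def n37769 : Q := act 4 n36321
theorem D37769 : act 4 n36321 = n37769 := rfl
theorem F174524 : act 6 n37769 = n37769 := d31_2 F167978 D37769 (iv D37769)
theorem F174525 : act 7 n37769 = n36329 := d32_2 (iv F167979) D37769 (iv D36329)
def n37770 : Q := act 4 n36326
theorem D37770 : act 4 n36326 = n37770 := rfl
theorem F174526 : act 6 n37770 = n36334 := d31_2 (iv F167994) D37770 (iv D36334)
theorem F174527 : act 9 n37770 = n36329 := d34_2 (iv F167995) D37770 (iv D36329)
def n37771 : Q := act 8 n36329
theorem D37771 : act 8 n36329 = n37771 := rfl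
theorem F174528 : act 4 n37771 = n36330 := d33_1 D37771 (iv D36330) D36329
theorem F174529 : act 6 n37771 = n36335 := d40_1 D37771 (iv D36335) (iv F168001)
def n37772 : Q := act 4 n36331
theorem D37772 : act 4 n36331 = n37772 := rfl
theorem F174530 : act 6 n37772 = n37772 := d31_2 F168005 D37772 (iv D37772)
def n37773 : Q := act 9 n36331
theorem D37773 : act 9 n36331 = n37773 := rfl
theorem F174531 : act 3 n37773 = n36333 := d29_1 D37773 (iv D36333) (iv F168004)
theorem F174532 : act 5 n37773 = n36332 := d38_1 D37773 (iv D36332) D36331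
theorem F174533 : act 6 n37773 = n37773 := d41_1 D37773 (iv D37773) F168005
def n37774 : Q := act 5 n36335
theorem D37774 : act 5 n36335 = n37774 := rfl
theorem F174534 : act 4 n37774 = n37774 := d30_1 D37774 (iv D37774) F168013 F160586 (iv F168013)
theorem F174535 : act 7 n37774 = n37774 := d36_2 F168014 D37774 (iv D37774)
def n37775 : Q := act 9 n36335
theorem D37775 : act 9 n36335 = n37775 := rfl
theorem F174536 : act 2 n37775 = n36351 := d23_1 D37775 F174228 F174224
theorem F174537 : act 4 n37775 = n36336 := d34_1 D37775 (iv D36336) (iv F168013)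
theorem F174538 : act 7 n37775 = n37775 := d43_1 D37775 (iv D37775) F168014
def n37776 : Q := act 4 n36337
theorem D37776 : act 4 n36337 = n37776 := rfl
theorem F174539 : act 1 n37776 = n36345 := d11_1 D37776 (iv D36345) (iv F168019)
theorem F174540 : act 5 n37776 = n36340 := d30_2 D36337 D37776 (iv D36340) (iv D34706) (iv F160593)
theorem F174541 : act 7 n37776 = n37776 := d32_2 F168021 D37776 (iv D37776)
def n37777 : Q := act 6 n36337
theorem D37777 : act 6 n36337 = n37777 := rfl
theorem F174542 : act 1 n37777 = n36346 := d13_1 D37777 (iv D36346) (iv F168019)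
theorem F174543 : act 3 n37777 = n37777 := d26_1 D37777 (iv D37777) F168020
theorem F174544 : act 5 n37777 = n36338 := d35_1 D37777 (iv D36338) (iv D34704) (iv F160594) D36337
def n37778 : Q := act 7 n36338
theorem D37778 : act 7 n36338 = n37778 := rfl
theorem F174545 : act 1 n37778 = n36348 := d14_1 D37778 (iv D36348) (iv F168022)
theorem F174546 : act 3 n37778 = n37778 := d27_1 D37778 (iv D37778) F168023
theorem F174547 : act 6 n37778 = n36339 := d39_1 D37778 (iv D36339) (iv D34705) (iv F160598) D36338
def n37779 : Q := act 3 n36340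
theorem D37779 : act 3 n36340 = n37779 := rfl
theorem F174548 : act 1 n37779 = n36351 := d10_1 D37779 (iv D36351) (iv F168027)
theorem F174549 : act 4 n37779 = n36341 := d24_2 D36340 D37779 (iv D36341) (iv D34707) (iv F160603)
theorem F174550 : act 7 n37779 = n37779 := d27_2 F168028 D37779 (iv D37779)
def n37780 : Q := act 9 n36342
theorem D37780 : act 9 n36342 = n37780 := rfl
theorem F174551 : act 2 n37780 = n36352 := d23_1 D37780 (iv D36352) (iv F168032)
theorem F174552 : act 4 n37780 = n36343 := d34_1 D37780 (iv D36343) D36342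
theorem F174553 : act 7 n37780 = n37780 := d43_1 D37780 (iv D37780) F168033
def n37781 : Q := act 4 n36344
theorem D37781 : act 4 n36344 = n37781 := rfl
theorem F174554 : act 7 n37781 = n37781 := d32_2 F168039 D37781 (iv D37781)
theorem F174555 : act 8 n37781 = n36345 := d33_2 (iv F168040) D37781 (iv D36345)
def n37782 : Q := act 6 n36344
theorem D37782 : act 6 n36344 = n37782 := rfl
theorem F174556 : act 3 n37782 = n37782 := d26_1 D37782 (iv D37782) F168038
theorem F174557 : act 8 n37782 = n36346 := d40_2 (iv F168040) D37782 (iv D36346)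
def n37783 : Q := act 3 n36345
theorem D37783 : act 3 n36345 = n37783 := rfl
theorem F174558 : act 4 n37783 = n37783 := d24_2 D36345 D37783 (iv D37783) (iv D36345) F160619
theorem F174559 : act 5 n37783 = n36351 := d25_2 (iv F168041) D37783 (iv D36351)
theorem F174560 : act 7 n37783 = n37783 := d27_2 F168042 D37783 (iv D37783)
def n37784 : Q := act 6 n36345
theorem D37784 : act 6 n36345 = n37784 := rfl
theorem F174561 : act 4 n37784 = n36346 := d31_1 D37784 (iv D36346) D36345
def n37785 : Q := act 9 n36345
theorem D37785 : act 9 n36345 = n37785 := rfl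
theorem F174562 : act 4 n37785 = n36347 := d34_1 D37785 (iv D36347) D36345
theorem F174563 : act 5 n37785 = n36352 := d38_1 D37785 (iv D36352) (iv F168041)
theorem F174564 : act 7 n37785 = n37785 := d43_1 D37785 (iv D37785) F168042
def n37786 : Q := act 7 n36346
theorem D37786 : act 7 n36346 = n37786 := rfl
theorem F174565 : act 3 n37786 = n37786 := d27_1 D37786 (iv D37786) F168043
theorem F174566 : act 5 n37786 = n36348 := d36_1 D37786 (iv D36348) (iv F168044)
theorem F174567 : act 6 n37786 = n37786 := d39_1 D37786 (iv D37786) (iv D36346) F160620 D36346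
def n37787 : Q := act 9 n36346
theorem D37787 : act 9 n36346 = n37787 := rfl
theorem F174568 : act 3 n37787 = n37787 := d29_1 D37787 (iv D37787) F168043
theorem F174569 : act 5 n37787 = n36349 := d38_1 D37787 (iv D36349) (iv F168044)
theorem F174570 : act 6 n37787 = n36347 := d41_1 D37787 (iv D36347) D36346
def n37788 : Q := act 9 n36348
theorem D37788 : act 9 n36348 = n37788 := rfl
theorem F174571 : act 3 n37788 = n37788 := d29_1 D37788 (iv D37788) F168048
theorem F174572 : act 6 n37788 = n36350 := d41_1 D37788 (iv D36350) (iv F168049)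
theorem F174573 : act 7 n37788 = n36349 := d43_1 D37788 (iv D36349) D36348
def n37789 : Q := act 4 n36353
theorem D37789 : act 4 n36353 = n37789 := rfl
theorem F174574 : act 2 n37789 = n36362 := d18_1 D37789 (iv D36362) (iv F168059)
theorem F174575 : act 7 n37789 = n37789 := d32_2 F168061 D37789 (iv D37789)
def n37790 : Q := act 9 n36353
theorem D37790 : act 9 n36353 = n37790 := rfl
theorem F174576 : act 2 n37790 = n36363 := d23_1 D37790 (iv D36363) (iv F168059)
theorem F174577 : act 3 n37790 = n37790 := d29_1 D37790 (iv D37790) F168060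
theorem F174578 : act 5 n37790 = n36354 := d38_1 D37790 (iv D36354) D36353
theorem F174579 : act 7 n37790 = n37790 := d43_1 D37790 (iv D37790) F168061
def n37791 : Q := act 4 n36355
theorem D37791 : act 4 n36355 = n37791 := rfl
theorem F174580 : act 5 n37791 = n36362 := d30_2 D36355 D37791 (iv D36362) (iv D34728) (iv F160653)
theorem F174581 : act 7 n37791 = n37791 := d32_2 F168068 D37791 (iv D37791)
def n37792 : Q := act 6 n36355
theorem D37792 : act 6 n36355 = n37792 := rfl
theorem F174582 : act 3 n37792 = n37792 := d26_1 D37792 (iv D37792) F168067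
theorem F174583 : act 5 n37792 = n36357 := d35_1 D37792 (iv D36357) (iv D34724) (iv F160654) D36355
def n37793 : Q := act 9 n36355
theorem D37793 : act 9 n36355 = n37793 := rfl
theorem F174584 : act 3 n37793 = n37793 := d29_1 D37793 (iv D37793) F168067
theorem F174585 : act 5 n37793 = n36356 := d38_1 D37793 (iv D36356) D36355
theorem F174586 : act 7 n37793 = n37793 := d43_1 D37793 (iv D37793) F168068
def n37794 : Q := act 7 n36357
theorem D37794 : act 7 n36357 = n37794 := rfl
theorem F174587 : act 3 n37794 = n37794 := d27_1 D37794 (iv D37794) F168074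
theorem F174588 : act 6 n37794 = n36359 := d39_1 D37794 (iv D36359) (iv D34726) (iv F160657) D36357
theorem F174589 : act 8 n37794 = n36367 := d42_2 (iv F168075) D37794 (iv D36367)
def n37795 : Q := act 9 n36357
theorem D37795 : act 9 n36357 = n37795 := rfl
theorem F174590 : act 3 n37795 = n37795 := d29_1 D37795 (iv D37795) F168074
theorem F174591 : act 6 n37795 = n36358 := d41_1 D37795 (iv D36358) D36357
def n37796 : Q := act 8 n36358
theorem D37796 : act 8 n36358 = n37796 := rfl
theorem F174592 : act 3 n37796 = n37796 := d28_1 D37796 (iv D37796) F168076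
theorem F174593 : act 5 n37796 = n37796 := d37_1 D37796 (iv D37796) F168077 F160662 (iv F168077)
theorem F174594 : act 7 n37796 = n36361 := d42_1 D37796 (iv D36361) (iv F168078)
theorem F174595 : act 9 n37796 = n36369 := d44_2 D36358 D37796 (iv D36369) (iv D34733) (iv F160658)
def n37797 : Q := act 9 n36359
theorem D37797 : act 9 n36359 = n37797 := rfl
theorem F174596 : act 3 n37797 = n37797 := d29_1 D37797 (iv D37797) F168079
theorem F174597 : act 5 n37797 = n37797 := d38_1 D37797 (iv D37797) F168080
theorem F174598 : act 7 n37797 = n36360 := d43_1 D37797 (iv D36360) D36359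
def n37798 : Q := act 3 n36362
theorem D37798 : act 3 n36362 = n37798 := rfl
theorem F174599 : act 4 n37798 = n36364 := d24_2 D36362 D37798 (iv D36364) (iv D34730) (iv F160668)
theorem F174600 : act 7 n37798 = n37798 := d27_2 F168088 D37798 (iv D37798)
def n37799 : Q := act 9 n36362
theorem D37799 : act 9 n36362 = n37799 := rfl
theorem F174601 : act 4 n37799 = n36363 := d34_1 D37799 (iv D36363) D36362
theorem F174602 : act 7 n37799 = n37799 := d43_1 D37799 (iv D37799) F168088
def n37800 : Q := act 8 n36363
theorem D37800 : act 8 n36363 = n37800 := rfl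
theorem F174603 : act 3 n37800 = n36366 := d28_1 D37800 (iv D36366) (iv F168089)
theorem F174604 : act 5 n37800 = n37800 := d37_1 D37800 (iv D37800) F168090 F160673 (iv F168090)
theorem F174605 : act 7 n37800 = n37800 := d42_1 D37800 (iv D37800) F168091
def n37801 : Q := act 2 n36364
theorem D37801 : act 2 n36364 = n37801 := rfl
theorem F174606 : act 3 n37801 = n37801 := d17_2 D36364 D37801 (iv D37801) (iv D36364) F160674
theorem F174607 : act 5 n37801 = n37801 := d19_2 F168092 D37801 (iv D37801)
theorem F174608 : act 7 n37801 = n37801 := d21_2 F168093 D37801 (iv D37801)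
def n37802 : Q := act 9 n36364
theorem D37802 : act 9 n36364 = n37802 := rfl
theorem F174609 : act 3 n37802 = n36365 := d29_1 D37802 (iv D36365) D36364
theorem F174610 : act 5 n37802 = n37802 := d38_1 D37802 (iv D37802) F168092
theorem F174611 : act 7 n37802 = n37802 := d43_1 D37802 (iv D37802) F168093
def n37803 : Q := act 8 n36368
theorem D37803 : act 8 n36368 = n37803 := rfl
theorem F174612 : act 3 n37803 = n37803 := d28_1 D37803 (iv D37803) F168103
theorem F174613 : act 6 n37803 = n36369 := d40_1 D37803 (iv D36369) (iv F168104)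
def n37804 : Q := act 6 n36377
theorem D37804 : act 6 n36377 = n37804 := rfl
theorem F174614 : act 0 n37804 = n37249 := d5_1 D37804 (iv D37249) (iv F168152)
theorem F174615 : act 1 n37804 = n37715 := d13_1 D37804 F174422 (iv F168153)
theorem F174616 : act 2 n37804 = n36462 := d20_1 D37804 (iv D36462) (iv F168154)
theorem F174617 : act 3 n37804 = n36378 := d26_1 D37804 (iv D36378) (iv F168155)
theorem F174618 : act 4 n37804 = n36393 := d31_1 D37804 (iv D36393) (iv F168156)
theorem F174619 : act 7 n37804 = n37645 := d39_2 D36377 D37804 (iv D37645) (iv D36190) (iv F160983)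
theorem F174620 : act 8 n37804 = n37712 := d40_2 (iv F168158) D37804 (iv D37712)
theorem F174621 : act 9 n37804 = n37468 := d41_2 (iv F168159) D37804 F173637
def n37805 : Q := act 5 n36378
theorem D37805 : act 5 n36378 = n37805 := rfl
theorem F174622 : act 0 n37805 = n37250 := d4_1 D37805 (iv D37250) (iv F168160)
theorem F174623 : act 1 n37805 = n37717 := d12_1 D37805 (iv D37717) (iv F168161)
theorem F174624 : act 2 n37805 = n36379 := d19_1 D37805 (iv D36379) (iv F168162)
theorem F174625 : act 4 n37805 = n37642 := d30_1 D37805 (iv D37642) F167626 (iv F160997) (iv F168163)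
theorem F174626 : act 6 n37805 = n36715 := d35_2 D36378 D37805 (iv D36715) (iv D35101) (iv F160990)
theorem F174627 : act 7 n37805 = n37646 := d36_2 (iv F168164) D37805 (iv D37646)
theorem F174628 : act 9 n37805 = n37726 := d38_2 (iv F168166) D37805 (iv D37726)
def n37806 : Q := act 8 n36379
theorem D37806 : act 8 n36379 = n37806 := rfl
theorem F174629 : act 0 n37806 = n37251 := d7_1 D37806 (iv D37251) (iv F168167)
theorem F174630 : act 1 n37806 = n37693 := d15_1 D37806 (iv D37693) (iv F168168)
theorem F174631 : act 3 n37806 = n36470 := d28_1 D37806 (iv D36470) (iv F168169)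
theorem F174632 : act 4 n37806 = n37643 := d33_1 D37806 (iv D37643) (iv F168170)
theorem F174633 : act 6 n37806 = n36723 := d40_1 D37806 (iv D36723) (iv F168171)
theorem F174634 : act 7 n37806 = n37647 := d42_1 D37806 (iv D37647) (iv F168172)
def n37807 : Q := act 5 n36380
theorem D37807 : act 5 n36380 = n37807 := rfl
theorem F174635 : act 0 n37807 = n37252 := d4_1 D37807 (iv D37252) (iv F168174)
theorem F174636 : act 1 n37807 = n37642 := d12_1 D37807 (iv D37642) (iv F168175)
theorem F174637 : act 2 n37807 = n37713 := d19_1 D37807 (iv D37713) (iv F168176)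
theorem F174638 : act 3 n37807 = n36471 := d25_1 D37807 (iv D36471) (iv F168177)
theorem F174639 : act 4 n37807 = n37717 := d30_1 D37807 (iv D37717) F167842 (iv F161030) (iv F168178)
theorem F174640 : act 7 n37807 = n37648 := d36_2 (iv F168180) D37807 (iv D37648)
def n37808 : Q := act 9 n36380
theorem D37808 : act 9 n36380 = n37808 := rfl
theorem F174641 : act 0 n37808 = n37253 := d8_1 D37808 (iv D37253) (iv F168174)
theorem F174642 : act 1 n37808 = n37523 := d16_1 D37808 F173831 (iv F168175)
theorem F174643 : act 2 n37808 = n37694 := d23_1 D37808 F174359 (iv F168176)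
theorem F174644 : act 3 n37808 = n36472 := d29_1 D37808 (iv D36472) (iv F168177)
theorem F174645 : act 4 n37808 = n36385 := d34_1 D37808 (iv D36385) (iv F168178)
theorem F174646 : act 6 n37808 = n36382 := d41_1 D37808 (iv D36382) (iv F168179)
theorem F174647 : act 7 n37808 = n37649 := d43_1 D37808 (iv D37649) (iv F168180)
theorem F174648 : act 8 n37808 = n37650 := d44_1 D37808 F174258 F167683 (iv F161006) D36380
def n37809 : Q := act 6 n36381
theorem D37809 : act 6 n36381 = n37809 := rfl
theorem F174649 : act 0 n37809 = n37254 := d5_1 D37809 (iv D37254) (iv F168181)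
theorem F174650 : act 1 n37809 = n36662 := d13_1 D37809 (iv D36662) (iv F168182)
theorem F174651 : act 2 n37809 = n37671 := d20_1 D37809 (iv D37671) (iv F168183)
theorem F174652 : act 3 n37809 = n36473 := d26_1 D37809 (iv D36473) (iv F168184)
theorem F174653 : act 4 n37809 = n36386 := d31_1 D37809 (iv D36386) (iv F168185)
theorem F174654 : act 8 n37809 = n36726 := d40_2 (iv F168187) D37809 (iv D36726)
def n37810 : Q := act 9 n36381
theorem D37810 : act 9 n36381 = n37810 := rfl
theorem F174655 : act 0 n37810 = n37255 := d8_1 D37810 (iv D37255) (iv F168181)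
theorem F174656 : act 1 n37810 = n36655 := d16_1 D37810 F169851 (iv F168182)
theorem F174657 : act 2 n37810 = n37662 := d23_1 D37810 F174282 (iv F168183)
theorem F174658 : act 3 n37810 = n36474 := d29_1 D37810 (iv D36474) (iv F168184)
theorem F174659 : act 4 n37810 = n36387 := d34_1 D37810 (iv D36387) (iv F168185)
theorem F174660 : act 5 n37810 = n36382 := d38_1 D37810 (iv D36382) D36381
theorem F174661 : act 7 n37810 = n36384 := d43_1 D37810 (iv D36384) (iv F168186)
def n37811 : Q := act 7 n36383
theorem D37811 : act 7 n36383 = n37811 := rfl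
theorem F174662 : act 0 n37811 = n37256 := d6_1 D37811 (iv D37256) (iv F168195)
theorem F174663 : act 1 n37811 = n36595 := d14_1 D37811 (iv D36595) (iv F168196)
theorem F174664 : act 2 n37811 = n37303 := d21_1 D37811 (iv D37303) (iv F168197)
theorem F174665 : act 3 n37811 = n36475 := d27_1 D37811 (iv D36475) (iv F168198)
theorem F174666 : act 4 n37811 = n36388 := d32_1 D37811 (iv D36388) (iv F168199)
theorem F174667 : act 5 n37811 = n37277 := d36_1 D37811 (iv D37277) (iv F168200)
theorem F174668 : act 8 n37811 = n36728 := d42_2 (iv F168201) D37811 (iv D36728)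
theorem F174669 : act 9 n37811 = n37422 := d43_2 F168202 D37811 (iv D37422)
def n37812 : Q := act 8 n36384
theorem D37812 : act 8 n36384 = n37812 := rfl
theorem F174670 : act 0 n37812 = n37094 := d7_1 D37812 F172090 (iv F168203)
theorem F174671 : act 1 n37812 = n36398 := d15_1 D37812 (iv F168308) (iv F168204)
theorem F174672 : act 2 n37812 = n37443 := d22_1 D37812 F173511 (iv F168205)
theorem F174673 : act 3 n37812 = n36396 := d28_1 D37812 F168293 (iv F168206)
theorem F174674 : act 4 n37812 = n36389 := d33_1 D37812 (iv D36389) (iv F168207)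
theorem F174675 : act 5 n37812 = n36876 := d37_1 D37812 F171077 F164137 (iv F161025) (iv F168208)
theorem F174676 : act 6 n37812 = n37048 := d40_1 D37812 F171886 (iv F168209)
theorem F174677 : act 9 n37812 = n36730 := d44_2 D36384 D37812 (iv D36730) (iv D35112) (iv F161018)
def n37813 : Q := act 7 n36386
theorem D37813 : act 7 n36386 = n37813 := rfl
theorem F174678 : act 0 n37813 = n37257 := d6_1 D37813 (iv D37257) (iv F168218)
theorem F174679 : act 1 n37813 = n36596 := d14_1 D37813 F169523 (iv F168219)
theorem F174680 : act 2 n37813 = n37304 := d21_1 D37813 F173041 (iv F168220)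
theorem F174681 : act 3 n37813 = n36390 := d27_1 D37813 (iv D36390) (iv F168221)
theorem F174682 : act 5 n37813 = n36626 := d36_1 D37813 F169699 (iv F168222)
theorem F174683 : act 6 n37813 = n36388 := d39_1 D37813 (iv D36388) (iv D34798) (iv F161052) D36386
theorem F174684 : act 8 n37813 = n36753 := d42_2 (iv F168223) D37813 (iv D36753)
theorem F174685 : act 9 n37423 = n37813 := d41_0 F174683 F168236 D37423
def n37814 : Q := act 9 n36386
theorem D37814 : act 9 n36386 = n37814 := rfl
theorem F174686 : act 0 n37814 = n37258 := d8_1 D37814 (iv D37258) (iv F168218)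
theorem F174687 : act 1 n37814 = n36656 := d16_1 D37814 F169857 (iv F168219)
theorem F174688 : act 2 n37814 = n37663 := d23_1 D37814 F174286 (iv F168220)
theorem F174689 : act 3 n37814 = n36391 := d29_1 D37814 (iv D36391) (iv F168221)
theorem F174690 : act 5 n37814 = n36676 := d38_1 D37814 F169965 (iv F168222)
theorem F174691 : act 6 n37814 = n36387 := d41_1 D37814 (iv D36387) D36386
theorem F174692 : act 7 n37814 = n37423 := d43_1 D37814 F174685 (iv D37813)
def n37815 : Q := act 8 n36387
theorem D37815 : act 8 n36387 = n37815 := rfl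
theorem F174693 : act 0 n37815 = n37161 := d7_1 D37815 F172404 (iv F168224)
theorem F174694 : act 1 n37815 = n36657 := d15_1 D37815 (iv D36657) (iv F168225)
theorem F174695 : act 2 n37815 = n37476 := d22_1 D37815 F173662 (iv F168226)
theorem F174696 : act 3 n37815 = n36392 := d28_1 D37815 (iv D36392) (iv F168227)
theorem F174697 : act 5 n37815 = n37815 := d37_1 D37815 (iv D37815) F168228 F161061 (iv F168228)
theorem F174698 : act 7 n37815 = n36389 := d42_1 D37815 (iv D36389) (iv F168229)
theorem F174699 : act 9 n37815 = n36755 := d44_2 D36387 D37815 (iv D36755) (iv D35134) (iv F161053)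
def n37816 : Q := act 8 n36391
theorem D37816 : act 8 n36391 = n37816 := rfl
theorem F174700 : act 0 n37816 = n37163 := d7_1 D37816 F172414 (iv F168252)
theorem F174701 : act 1 n37816 = n36799 := d15_1 D37816 (iv D36799) (iv F168253)
theorem F174702 : act 2 n37816 = n37816 := d22_1 D37816 (iv D37816) F168254
theorem F174703 : act 4 n37816 = n36506 := d33_1 D37816 (iv D36506) (iv F168255)
theorem F174704 : act 6 n37816 = n36392 := d40_1 D37816 (iv D36392) (iv F168257)
theorem F174705 : act 7 n37816 = n37143 := d42_1 D37816 F172312 (iv F168258)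
theorem F174706 : act 9 n37816 = n36764 := d44_2 D36391 D37816 (iv D36764) (iv D35146) (iv F161080)
def n37817 : Q := act 5 n36393
theorem D37817 : act 5 n36393 = n37817 := rfl
theorem F174707 : act 0 n37817 = n37263 := d4_1 D37817 (iv D37263) (iv F168266)
theorem F174708 : act 1 n37817 = n36479 := d12_1 D37817 F168791 (iv F168267)
theorem F174709 : act 2 n37817 = n36515 := d19_1 D37817 (iv D36515) (iv F168268)
theorem F174710 : act 3 n37817 = n36394 := d25_1 D37817 (iv D36394) (iv F168269)
theorem F174711 : act 6 n37817 = n36395 := d35_2 D36393 D37817 (iv D36395) (iv D34809) (iv F161114)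
theorem F174712 : act 7 n37817 = n37731 := d36_2 (iv F168270) D37817 F174455
theorem F174713 : act 9 n37817 = n37469 := d38_2 (iv F168272) D37817 (iv D37469)
theorem F174714 : act 8 n37657 = n37817 := d40_0 F174711 (iv F168287) (iv F174270)
def n37818 : Q := act 4 n36395
theorem D37818 : act 4 n36395 = n37818 := rfl
theorem F174715 : act 0 n37818 = n37267 := d3_1 D37818 (iv D37267) (iv F168281)
theorem F174716 : act 1 n37818 = n36494 := d11_1 D37818 F168879 (iv F168282)
theorem F174717 : act 2 n37818 = n36526 := d18_1 D37818 (iv D36526) (iv F168283)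
theorem F174718 : act 3 n37818 = n36429 := d24_1 D37818 (iv D36429) F161372 (iv F161152) (iv F168284)
theorem F174719 : act 5 n37818 = n36838 := d30_2 D36395 D37818 (iv D36838) (iv D35258) (iv F161145)
theorem F174720 : act 7 n37818 = n37818 := d32_2 F168285 D37818 (iv D37818)
theorem F174721 : act 8 n37818 = n37779 := d33_2 F168287 D37818 F174549
theorem F174722 : act 9 n37818 = n37479 := d34_2 (iv F168286) D37818 (iv D37479)
def n37819 : Q := act 7 n36396
theorem D37819 : act 7 n36396 = n37819 := rfl
theorem F174723 : act 0 n37819 = n37098 := d6_1 D37819 F172103 (iv F168288)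
theorem F174724 : act 1 n37819 = n36399 := d14_1 D37819 (iv D36399) (iv F168289)
theorem F174725 : act 2 n37819 = n36934 := d21_1 D37819 F171385 (iv F168290)
theorem F174726 : act 4 n37819 = n36397 := d32_1 D37819 (iv D36397) D36396
theorem F174727 : act 5 n37819 = n36877 := d36_1 D37819 (iv D36877) (iv F168291)
theorem F174728 : act 8 n37819 = n36474 := d42_2 (iv F168293) D37819 F168771
theorem F174729 : act 9 n37819 = n36975 := d43_2 (iv F168294) D37819 F171559
def n37820 : Q := act 6 n36397
theorem D37820 : act 6 n36397 = n37820 := rfl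
theorem F174730 : act 0 n37820 = n37100 := d5_1 D37820 F172114 (iv F168295)
theorem F174731 : act 1 n37820 = n36401 := d13_1 D37820 (iv D36401) (iv F168296)
theorem F174732 : act 2 n37820 = n36974 := d20_1 D37820 (iv D36974) (iv F168297)
theorem F174733 : act 3 n37820 = n36506 := d26_1 D37820 F168950 (iv F168298)
theorem F174734 : act 5 n37820 = n36937 := d35_1 D37820 F171399 F164164 (iv F161168) (iv F168299)
theorem F174735 : act 7 n37820 = n37050 := d39_2 D36397 D37820 (iv D37050) (iv D35463) (iv F161160)
theorem F174736 : act 8 n37820 = n36492 := d40_2 (iv F168300) D37820 F168870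
theorem F174737 : act 9 n37820 = n36936 := d41_2 (iv F168301) D37820 F171394
def n37821 : Q := act 7 n36398
theorem D37821 : act 7 n36398 = n37821 := rfl
theorem F174738 : act 0 n37821 = n36413 := d6_1 D37821 (iv D36413) (iv F168302)
theorem F174739 : act 2 n37821 = n36659 := d21_1 D37821 F169874 (iv F168303)
theorem F174740 : act 3 n37821 = n36399 := d27_1 D37821 (iv D36399) D36398
theorem F174741 : act 4 n37821 = n36657 := d32_1 D37821 F169862 (iv F168304)
theorem F174742 : act 5 n37821 = n36879 := d36_1 D37821 (iv D36879) (iv F168305)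
theorem F174743 : act 8 n37821 = n36655 := d42_2 F168308 D37821 (iv D36655)
theorem F174744 : act 9 n37821 = n37119 := d43_2 (iv F168307) D37821 F172171
def n37822 : Q := act 6 n36399
theorem D37822 : act 6 n36399 = n37822 := rfl
theorem F174745 : act 0 n37822 = n36414 := d5_1 D37822 (iv D36414) (iv F168309)
theorem F174746 : act 2 n37822 = n36403 := d20_1 D37822 (iv D36403) (iv F168310)
theorem F174747 : act 4 n37822 = n36401 := d31_1 D37822 (iv D36401) (iv F168311)
theorem F174748 : act 7 n37822 = n37052 := d39_2 D36399 D37822 (iv D37052) (iv D35465) (iv F161174)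
theorem F174749 : act 9 n37822 = n37069 := d41_2 (iv F168313) D37822 F171975
def n37823 : Q := act 8 n36399
theorem D37823 : act 8 n36399 = n37823 := rfl
theorem F174750 : act 0 n37823 = n36415 := d7_1 D37823 (iv D36415) (iv F168309)
theorem F174751 : act 1 n37823 = n36474 := d15_1 D37823 (iv F174728) F174724
theorem F174752 : act 2 n37823 = n36404 := d22_1 D37823 (iv D36404) (iv F168310)
theorem F174753 : act 3 n37823 = n36655 := d28_1 D37823 (iv F174743) F174740
theorem F174754 : act 4 n37823 = n36402 := d33_1 D37823 (iv D36402) (iv F168311)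
theorem F174755 : act 5 n37823 = n36420 := d37_1 D37823 F168448 F171097 (iv D36881) (iv F168312)
theorem F174756 : act 7 n37823 = n36400 := d42_1 D37823 (iv D36400) D36399
theorem F174757 : act 9 n37823 = n36419 := d44_2 (iv F168313) D37823 F168442 (iv F164306) (iv F164932)
def n37824 : Q := act 8 n36401
theorem D37824 : act 8 n36401 = n37824 := rfl
theorem F174758 : act 0 n37824 = n36416 := d7_1 D37824 (iv D36416) (iv F168322)
theorem F174759 : act 1 n37824 = n36492 := d15_1 D37824 (iv F174736) F174731
theorem F174760 : act 2 n37824 = n36406 := d22_1 D37824 (iv D36406) (iv F168323)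
theorem F174761 : act 3 n37824 = n36433 := d28_1 D37824 F168529 (iv F168324)
theorem F174762 : act 5 n37824 = n37369 := d37_1 D37824 (iv D37369) F166349 (iv F164738) (iv F168325)
theorem F174763 : act 6 n37824 = n36402 := d40_1 D37824 (iv D36402) D36401
theorem F174764 : act 7 n37824 = n37054 := d42_1 D37824 (iv D37054) (iv F168326)
theorem F174765 : act 9 n37824 = n36427 := d44_2 (iv F168327) D37824 F168491 F164345 (iv F164733)
def n37825 : Q := act 5 n36403
theorem D37825 : act 5 n36403 = n37825 := rfl
theorem F174766 : act 0 n37825 = n36417 := d4_1 D37825 (iv D36417) (iv F168335)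
theorem F174767 : act 1 n37825 = n37269 := d12_1 D37825 (iv D37269) (iv F168336)
theorem F174768 : act 3 n37825 = n37003 := d25_1 D37825 (iv D37003) (iv F168337)
theorem F174769 : act 4 n37825 = n37640 := d30_1 D37825 (iv D37640) F167622 (iv F161203) (iv F168338)
theorem F174770 : act 6 n37825 = n36883 := d35_2 D36403 D37825 (iv D36883) (iv D35300) (iv F161192)
theorem F174771 : act 7 n37825 = n37055 := d36_2 (iv F168339) D37825 (iv D37055)
theorem F174772 : act 9 n37825 = n37244 := d38_2 (iv F168340) D37825 (iv D37244)
def n37826 : Q := act 8 n36403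
theorem D37826 : act 8 n36403 = n37826 := rfl
theorem F174773 : act 0 n37826 = n36418 := d7_1 D37826 (iv D36418) (iv F168335)
theorem F174774 : act 1 n37826 = n37270 := d15_1 D37826 (iv D37270) (iv F168336)
theorem F174775 : act 3 n37826 = n37004 := d28_1 D37826 (iv D37004) (iv F168337)
theorem F174776 : act 4 n37826 = n36406 := d33_1 D37826 (iv D36406) (iv F168338)
theorem F174777 : act 6 n37826 = n36404 := d40_1 D37826 (iv D36404) D36403
theorem F174778 : act 7 n37826 = n37056 := d42_1 D37826 (iv D37056) (iv F168339)
def n37827 : Q := act 9 n36404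
theorem D37827 : act 9 n36404 = n37827 := rfl
theorem F174779 : act 0 n37827 = n36420 := d8_1 D37827 (iv D36420) (iv F168341)
theorem F174780 : act 1 n37827 = n37271 := d16_1 D37827 (iv D37271) (iv F168342)
theorem F174781 : act 2 n37827 = n36419 := d23_1 D37827 (iv F174757) F174752
theorem F174782 : act 3 n37827 = n36649 := d29_1 D37827 F169812 (iv F168343)
theorem F174783 : act 4 n37827 = n36407 := d34_1 D37827 (iv D36407) (iv F168344)
theorem F174784 : act 5 n37827 = n36415 := d38_1 D37827 F168419 (iv F168345)
theorem F174785 : act 7 n37827 = n36405 := d43_1 D37827 (iv D36405) (iv F168346)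
theorem F174786 : act 8 n37827 = n36965 := d44_1 D37827 (iv F171523) F164967 (iv F161193) D36404
def n37828 : Q := act 5 n36406
theorem D37828 : act 5 n36406 = n37828 := rfl
theorem F174787 : act 0 n37828 = n36422 := d4_1 D37828 (iv D36422) (iv F168355)
theorem F174788 : act 1 n37828 = n37272 := d12_1 D37828 (iv D37272) (iv F168356)
theorem F174789 : act 2 n37828 = n37369 := d19_1 D37828 (iv F174762) F174760
theorem F174790 : act 3 n37828 = n36408 := d25_1 D37828 (iv D36408) (iv F168357)
theorem F174791 : act 6 n37828 = n36410 := d35_2 (iv F168358) D37828 (iv D36410) F161244 (iv F161209)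
theorem F174792 : act 7 n37828 = n37059 := d36_2 (iv F168359) D37828 (iv D37059)
theorem F174793 : act 8 n37828 = n37358 := d37_2 D36406 D37828 F173218 F166334 (iv F161203)
def n37829 : Q := act 9 n36406
theorem D37829 : act 9 n36406 = n37829 := rfl
theorem F174794 : act 0 n37829 = n36423 := d8_1 D37829 (iv D36423) (iv F168355)
theorem F174795 : act 1 n37829 = n37273 := d16_1 D37829 (iv D37273) (iv F168356)
theorem F174796 : act 2 n37829 = n36427 := d23_1 D37829 (iv F174765) F174760
theorem F174797 : act 3 n37829 = n36409 := d29_1 D37829 (iv D36409) (iv F168357)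
theorem F174798 : act 6 n37829 = n36407 := d41_1 D37829 (iv D36407) (iv F168358)
theorem F174799 : act 7 n37829 = n37060 := d43_1 D37829 (iv D37060) (iv F168359)
theorem F174800 : act 8 n37829 = n36976 := d44_1 D37829 F171566 F164899 (iv F161205) D36406
def n37830 : Q := act 9 n36408
theorem D37830 : act 9 n36408 = n37830 := rfl
theorem F174801 : act 0 n37830 = n36424 := d8_1 D37830 (iv D36424) (iv F168367)
theorem F174802 : act 1 n37830 = n37274 := d16_1 D37830 (iv D37274) (iv F168368)
theorem F174803 : act 2 n37830 = n36797 := d23_1 D37830 F170600 (iv F168369)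
theorem F174804 : act 4 n37830 = n37145 := d34_1 D37830 F172322 (iv F168370)
theorem F174805 : act 5 n37830 = n36409 := d38_1 D37830 (iv D36409) D36408
theorem F174806 : act 6 n37830 = n36412 := d41_1 D37830 (iv D36412) (iv F168371)
theorem F174807 : act 7 n37830 = n37062 := d43_1 D37830 (iv D37062) (iv F168372)
theorem F174808 : act 8 n37830 = n37154 := d44_1 D37830 (iv D37154) F165239 D35907 (iv F168373)
def n37831 : Q := act 4 n36410
theorem D37831 : act 4 n36410 = n37831 := rfl
theorem F174809 : act 0 n37831 = n36429 := d3_1 D37831 (iv D36429) (iv F168381)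
theorem F174810 : act 1 n37831 = n37275 := d11_1 D37831 (iv D37275) (iv F168382)
theorem F174811 : act 2 n37831 = n37389 := d18_1 D37831 F173297 (iv F168383)
theorem F174812 : act 3 n37831 = n37267 := d24_1 D37831 (iv D37267) F165999 (iv F161256) (iv F168384)
theorem F174813 : act 5 n37831 = n37636 := d30_2 D36410 D37831 (iv D37636) (iv D36179) (iv F161243)
theorem F174814 : act 7 n37831 = n37831 := d32_2 F168385 D37831 (iv D37831)
theorem F174815 : act 8 n37831 = n37380 := d33_2 (iv F168386) D37831 F173274
def n37832 : Q := act 9 n36410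
theorem D37832 : act 9 n36410 = n37832 := rfl
theorem F174816 : act 0 n37832 = n36430 := d8_1 D37832 (iv D36430) (iv F168381)
theorem F174817 : act 1 n37832 = n37276 := d16_1 D37832 (iv D37276) (iv F168382)
theorem F174818 : act 2 n37832 = n36426 := d23_1 D37832 F168487 (iv F168383)
theorem F174819 : act 3 n37832 = n36412 := d29_1 D37832 (iv D36412) (iv F168384)
theorem F174820 : act 5 n37832 = n36411 := d38_1 D37832 (iv D36411) D36410
theorem F174821 : act 7 n37832 = n37832 := d43_1 D37832 (iv D37832) F168385
theorem F174822 : act 8 n37832 = n37194 := d44_1 D37832 (iv D37194) F165525 D35864 (iv F168386)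
def n37833 : Q := act 6 n36413
theorem D37833 : act 6 n36413 = n37833 := rfl
theorem F174823 : act 1 n37833 = n37756 := d13_1 D37833 F174502 (iv F168402)
theorem F174824 : act 2 n37833 = n37431 := d20_1 D37833 F173445 (iv F168403)
theorem F174825 : act 3 n37833 = n36414 := d26_1 D37833 (iv D36414) (iv F168404)
theorem F174826 : act 4 n37833 = n37429 := d31_1 D37833 F173434 (iv F168405)
theorem F174827 : act 7 n37833 = n37468 := d39_2 D36413 D37833 F173637 F166836 (iv F161270)
theorem F174828 : act 8 n37833 = n37428 := d40_2 (iv F168407) D37833 (iv D37428)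
theorem F174829 : act 9 n37833 = n37645 := d41_2 (iv F168408) D37833 (iv D37645)
def n37834 : Q := act 5 n36414
theorem D37834 : act 5 n36414 = n37834 := rfl
theorem F174830 : act 1 n37834 = n37762 := d12_1 D37834 F174513 (iv F168409)
theorem F174831 : act 2 n37834 = n36417 := d19_1 D37834 (iv D36417) (iv F168410)
theorem F174832 : act 4 n37834 = n37651 := d30_1 D37834 (iv D37651) F167663 (iv F161287) (iv F168411)
theorem F174833 : act 6 n37834 = n36963 := d35_2 D36414 D37834 (iv D36963) (iv D35379) (iv F161276)
theorem F174834 : act 7 n37834 = n37726 := d36_2 (iv F168412) D37834 (iv D37726)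
theorem F174835 : act 9 n37834 = n37646 := d38_2 (iv F168413) D37834 (iv D37646)
def n37835 : Q := act 8 n36414
theorem D37835 : act 8 n36414 = n37835 := rfl
theorem F174836 : act 1 n37835 = n37737 := d15_1 D37835 F174468 (iv F168409)
theorem F174837 : act 2 n37835 = n36418 := d22_1 D37835 (iv D36418) (iv F168410)
theorem F174838 : act 3 n37835 = n37428 := d28_1 D37835 (iv F174828) F174825
theorem F174839 : act 4 n37835 = n36416 := d33_1 D37835 (iv D36416) (iv F168411)
theorem F174840 : act 6 n37835 = n36415 := d40_1 D37835 (iv D36415) D36414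
theorem F174841 : act 7 n37835 = n37466 := d42_1 D37835 F173632 (iv F168412)
theorem F174842 : act 9 n37835 = n37531 := d44_2 (iv F168413) D37835 F173869 F167892 (iv F167643)
def n37836 : Q := act 5 n36416
theorem D37836 : act 5 n36416 = n37836 := rfl
theorem F174843 : act 0 n37836 = n37369 := d4_1 D37836 (iv F174762) F174758
theorem F174844 : act 1 n37836 = n37739 := d12_1 D37836 F174473 (iv F168420)
theorem F174845 : act 2 n37836 = n36422 := d19_1 D37836 (iv D36422) (iv F168421)
theorem F174846 : act 3 n37836 = n36481 := d25_1 D37836 F168807 (iv F168422)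
theorem F174847 : act 6 n37836 = n36425 := d35_2 (iv F168423) D37836 (iv D36425) F161349 (iv F161293)
theorem F174848 : act 7 n37836 = n37727 := d36_2 (iv F168424) D37836 (iv D37727)
theorem F174849 : act 8 n37836 = n36478 := d37_2 D36416 D37836 F168788 F161621 (iv F161287)
theorem F174850 : act 9 n37836 = n37628 := d38_2 (iv F168425) D37836 (iv D37628)
def n37837 : Q := act 8 n36417
theorem D37837 : act 8 n36417 = n37837 := rfl
theorem F174851 : act 1 n37837 = n36470 := d15_1 D37837 (iv D36470) (iv F168426)
theorem F174852 : act 3 n37837 = n37693 := d28_1 D37837 (iv D37693) (iv F168427)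
theorem F174853 : act 4 n37837 = n37652 := d33_1 D37837 (iv D37652) (iv F168428)
theorem F174854 : act 6 n37837 = n36968 := d40_1 D37837 (iv D36968) (iv F168429)
theorem F174855 : act 7 n37837 = n37728 := d42_1 D37837 (iv D37728) (iv F168430)
def n37838 : Q := act 5 n36418
theorem D37838 : act 5 n36418 = n37838 := rfl
theorem F174856 : act 1 n37838 = n36471 := d12_1 D37838 (iv D36471) (iv F168432)
theorem F174857 : act 3 n37838 = n37642 := d25_1 D37838 (iv D37642) (iv F168433)
theorem F174858 : act 7 n37838 = n37658 := d36_2 (iv F168436) D37838 (iv D37658)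
def n37839 : Q := act 9 n36418
theorem D37839 : act 9 n36418 = n37839 := rfl
theorem F174859 : act 1 n37839 = n36472 := d16_1 D37839 (iv D36472) (iv F168432)
theorem F174860 : act 2 n37839 = n37531 := d23_1 D37839 (iv F174842) F174837
theorem F174861 : act 3 n37839 = n37523 := d29_1 D37839 F173831 (iv F168433)
theorem F174862 : act 4 n37839 = n36423 := d34_1 D37839 (iv D36423) (iv F168434)
theorem F174863 : act 6 n37839 = n36420 := d41_1 D37839 (iv D36420) (iv F168435)
theorem F174864 : act 7 n37839 = n37650 := d43_1 D37839 F174258 (iv F168436)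
theorem F174865 : act 8 n37839 = n37649 := d44_1 D37839 (iv D37649) (iv D36193) (iv F161300) D36418
def n37840 : Q := act 6 n36419
theorem D37840 : act 6 n36419 = n37840 := rfl
theorem F174866 : act 0 n37840 = n37531 := d5_1 D37840 (iv D37531) (iv F168437)
theorem F174867 : act 1 n37840 = n36473 := d13_1 D37840 (iv D36473) (iv F168438)
theorem F174868 : act 3 n37840 = n36662 := d26_1 D37840 (iv D36662) (iv F168439)
theorem F174869 : act 4 n37840 = n36427 := d31_1 D37840 (iv D36427) (iv F168440)
theorem F174870 : act 8 n37840 = n36971 := d40_2 (iv F168442) D37840 (iv D36971)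
def n37841 : Q := act 7 n36421
theorem D37841 : act 7 n36421 = n37841 := rfl
theorem F174871 : act 0 n37841 = n37449 := d6_1 D37841 (iv D37449) (iv F168449)
theorem F174872 : act 1 n37841 = n36475 := d14_1 D37841 (iv D36475) (iv F168450)
theorem F174873 : act 2 n37841 = n37058 := d21_1 D37841 F171931 (iv F168451)
theorem F174874 : act 3 n37841 = n36595 := d27_1 D37841 (iv D36595) (iv F168452)
theorem F174875 : act 4 n37841 = n36428 := d32_1 D37841 (iv D36428) (iv F168453)
theorem F174876 : act 5 n37841 = n37279 := d36_1 D37841 (iv D37279) (iv F168454)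
theorem F174877 : act 8 n37841 = n36972 := d42_2 (iv F168455) D37841 (iv D36972)
theorem F174878 : act 9 n37841 = n37053 := d43_2 (iv F168456) D37841 F171910
def n37842 : Q := act 4 n36422
theorem D37842 : act 4 n36422 = n37842 := rfl
theorem F174879 : act 1 n37842 = n36477 := d11_1 D37842 (iv D36477) (iv F168457)
theorem F174880 : act 6 n37842 = n36429 := d31_2 (iv F168459) D37842 (iv D36429)
theorem F174881 : act 7 n37842 = n37729 := d32_2 (iv F168460) D37842 (iv D37729)
theorem F174882 : act 8 n37842 = n37656 := d33_2 (iv F168461) D37842 (iv D37656)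
def n37843 : Q := act 9 n36422
theorem D37843 : act 9 n36422 = n37843 := rfl
theorem F174883 : act 1 n37843 = n36478 := d16_1 D37843 (iv D36478) (iv F168457)
theorem F174884 : act 2 n37843 = n37628 := d23_1 D37843 (iv F174850) F174845
theorem F174885 : act 3 n37843 = n36424 := d29_1 D37843 (iv D36424) (iv F168458)
theorem F174886 : act 5 n37843 = n36423 := d38_1 D37843 (iv D36423) D36422
theorem F174887 : act 6 n37843 = n36430 := d41_1 D37843 (iv D36430) (iv F168459)
theorem F174888 : act 7 n37843 = n37730 := d43_1 D37843 (iv D37730) (iv F168460)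
theorem F174889 : act 8 n37843 = n37739 := d44_1 D37843 (iv D37739) (iv F168753) F168754 (iv F168461)
def n37844 : Q := act 4 n36425
theorem D37844 : act 4 n36425 = n37844 := rfl
theorem F174890 : act 0 n37844 = n37389 := d3_1 D37844 F173297 (iv F168475)
theorem F174891 : act 1 n37844 = n37780 := d11_1 D37844 F174552 (iv F168476)
theorem F174892 : act 2 n37844 = n36429 := d18_1 D37844 (iv D36429) (iv F168477)
theorem F174893 : act 3 n37844 = n37637 := d24_1 D37844 (iv D37637) F167608 (iv F161728) (iv F168478)
theorem F174894 : act 7 n37844 = n37844 := d32_2 F168479 D37844 (iv D37844)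
theorem F174895 : act 8 n37844 = n36495 := d33_2 (iv F168480) D37844 F168884
theorem F174896 : act 9 n37844 = n37636 := d34_2 (iv F168481) D37844 (iv D37636)
def n37845 : Q := act 4 n36426
theorem D37845 : act 4 n36426 = n37845 := rfl
theorem F174897 : act 0 n37845 = n37636 := d3_1 D37845 (iv D37636) (iv F168482)
theorem F174898 : act 1 n37845 = n36488 := d11_1 D37845 (iv D36488) (iv F168483)
theorem F174899 : act 3 n37845 = n36838 := d24_1 D37845 (iv D36838) F163646 (iv F161391) (iv F168484)
theorem F174900 : act 5 n37845 = n36429 := d30_2 D36426 D37845 (iv D36429) (iv D34846) (iv F161355)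
theorem F174901 : act 7 n37845 = n37845 := d32_2 F168485 D37845 (iv D37845)
theorem F174902 : act 8 n37845 = n37202 := d33_2 (iv F168486) D37845 F172618
theorem F174903 : act 9 n37845 = n37389 := d34_2 (iv F168487) D37845 F173297
def n37846 : Q := act 6 n36426
theorem D37846 : act 6 n36426 = n37846 := rfl
theorem F174904 : act 0 n37846 = n37628 := d5_1 D37846 F174187 (iv F168482)
theorem F174905 : act 1 n37846 = n36489 := d13_1 D37846 (iv D36489) (iv F168483)
theorem F174906 : act 3 n37846 = n36431 := d26_1 D37846 (iv D36431) (iv F168484)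
theorem F174907 : act 5 n37846 = n36427 := d35_1 D37846 (iv D36427) (iv D34844) (iv F161356) D36426
theorem F174908 : act 8 n37846 = n37087 := d40_2 (iv F168486) D37846 F172065
theorem F174909 : act 9 n37846 = n37369 := d41_2 (iv F168487) D37846 F173237
def n37847 : Q := act 7 n36427
theorem D37847 : act 7 n36427 = n37847 := rfl
theorem F174910 : act 0 n37847 = n37618 := d6_1 D37847 F174127 (iv F168488)
theorem F174911 : act 1 n37847 = n36491 := d14_1 D37847 (iv D36491) (iv F168489)
theorem F174912 : act 2 n37847 = n37060 := d21_1 D37847 (iv F174799) F174796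
theorem F174913 : act 3 n37847 = n36432 := d27_1 D37847 (iv D36432) (iv F168490)
theorem F174914 : act 6 n37847 = n36428 := d39_1 D37847 (iv D36428) (iv D34845) (iv F161362) D36427
theorem F174915 : act 8 n37847 = n36977 := d42_2 (iv F168491) D37847 (iv D36977)
theorem F174916 : act 9 n37847 = n37054 := d43_2 F174765 D37847 (iv F174764)
def n37848 : Q := act 9 n36429
theorem D37848 : act 9 n36429 = n37848 := rfl
theorem F174917 : act 1 n37848 = n36495 := d16_1 D37848 (iv D36495) (iv F168499)
theorem F174918 : act 2 n37848 = n37636 := d23_1 D37848 (iv F174896) F174892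
theorem F174919 : act 3 n37848 = n37479 := d29_1 D37848 (iv F174722) F174718
theorem F174920 : act 4 n37848 = n36430 := d34_1 D37848 (iv D36430) D36429
theorem F174921 : act 5 n37848 = n37389 := d38_1 D37848 (iv F174903) F174900
theorem F174922 : act 7 n37848 = n37848 := d43_1 D37848 (iv D37848) F168500
theorem F174923 : act 8 n37848 = n37780 := d44_1 D37848 (iv D37780) (iv F168842) F168843 (iv F168501)
def n37849 : Q := act 7 n36431
theorem D37849 : act 7 n36431 = n37849 := rfl
theorem F174924 : act 0 n37849 = n37619 := d6_1 D37849 F174134 (iv F168508)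
theorem F174925 : act 1 n37849 = n36503 := d14_1 D37849 (iv D36503) (iv F168509)
theorem F174926 : act 2 n37849 = n36765 := d21_1 D37849 F170392 (iv F168510)
theorem F174927 : act 4 n37849 = n36789 := d32_1 D37849 F170543 (iv F168511)
theorem F174928 : act 5 n37849 = n36432 := d36_1 D37849 (iv D36432) (iv F168512)
theorem F174929 : act 6 n37849 = n37849 := d39_1 D37849 (iv D37849) (iv D36431) F161392 D36431
theorem F174930 : act 8 n37849 = n37022 := d42_2 (iv F168513) D37849 F171773
theorem F174931 : act 9 n37849 = n37146 := d43_2 (iv F168514) D37849 F172326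
def n37850 : Q := act 7 n36434
theorem D37850 : act 7 n36434 = n37850 := rfl
theorem F174932 : act 0 n37850 = n37305 := d6_1 D37850 (iv D37305) (iv F168530)
theorem F174933 : act 1 n37850 = n37515 := d14_1 D37850 F173801 (iv F168531)
theorem F174934 : act 2 n37850 = n36938 := d21_1 D37850 (iv D36938) (iv F168532)
theorem F174935 : act 3 n37850 = n36435 := d27_1 D37850 (iv D36435) D36434
theorem F174936 : act 4 n37850 = n37850 := d32_1 D37850 (iv D37850) F168533
theorem F174937 : act 5 n37850 = n36448 := d36_1 D37850 (iv D36448) (iv F168534)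
theorem F174938 : act 9 n37850 = n36552 := d43_2 (iv F168536) D37850 (iv D36552)
def n37851 : Q := act 8 n36434
theorem D37851 : act 8 n36434 = n37851 := rfl
theorem F174939 : act 0 n37851 = n37306 := d7_1 D37851 (iv D37306) (iv F168530)
theorem F174940 : act 1 n37851 = n37517 := d15_1 D37851 (iv D37517) (iv F168531)
theorem F174941 : act 2 n37851 = n36939 := d22_1 D37851 (iv D36939) (iv F168532)
theorem F174942 : act 3 n37851 = n36436 := d28_1 D37851 (iv D36436) D36434
theorem F174943 : act 4 n37851 = n37851 := d33_1 D37851 (iv D37851) F168533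
theorem F174944 : act 5 n37851 = n37310 := d37_1 D37851 F173060 F166284 F161479 (iv F168534)
theorem F174945 : act 6 n37851 = n36986 := d40_1 D37851 (iv D36986) (iv F168535)
theorem F174946 : act 9 n37851 = n37309 := d44_2 (iv F168536) D37851 F173056 F169267 (iv D36553)
def n37852 : Q := act 6 n36435
theorem D37852 : act 6 n36435 = n37852 := rfl
theorem F174947 : act 0 n37852 = n37307 := d5_1 D37852 (iv D37307) (iv F168537)
theorem F174948 : act 1 n37852 = n37724 := d13_1 D37852 F174442 (iv F168538)
theorem F174949 : act 2 n37852 = n36440 := d20_1 D37852 (iv D36440) (iv F168539)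
theorem F174950 : act 4 n37852 = n36437 := d31_1 D37852 (iv D36437) (iv F168540)
theorem F174951 : act 7 n37852 = n36987 := d39_2 D36435 D37852 (iv D36987) (iv D35405) (iv F161418)
theorem F174952 : act 9 n37852 = n36554 := d41_2 (iv F168542) D37852 (iv D36554)
def n37853 : Q := act 8 n36435
theorem D37853 : act 8 n36435 = n37853 := rfl
theorem F174953 : act 0 n37853 = n37308 := d7_1 D37853 (iv D37308) (iv F168537)
theorem F174954 : act 1 n37853 = n37725 := d15_1 D37853 (iv D37725) (iv F168538)
theorem F174955 : act 2 n37853 = n36441 := d22_1 D37853 (iv D36441) (iv F168539)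
theorem F174956 : act 4 n37853 = n36438 := d33_1 D37853 (iv D36438) (iv F168540)
theorem F174957 : act 7 n37853 = n36436 := d42_1 D37853 (iv D36436) D36435
def n37854 : Q := act 5 n36436
theorem D37854 : act 5 n36436 = n37854 := rfl
theorem F174958 : act 0 n37854 = n37309 := d4_1 D37854 (iv D37309) (iv F168543)
theorem F174959 : act 1 n37854 = n37708 := d12_1 D37854 F174400 (iv F168544)
theorem F174960 : act 2 n37854 = n36442 := d19_1 D37854 (iv D36442) (iv F168545)
theorem F174961 : act 3 n37854 = n37310 := d25_1 D37854 (iv F174944) F174942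
theorem F174962 : act 4 n37854 = n37854 := d30_1 D37854 (iv D37854) F168546 F161430 (iv F168546)
theorem F174963 : act 8 n37854 = n36451 := d37_2 D36436 D37854 (iv D36451) (iv D34865) (iv F161417)
theorem F174964 : act 9 n37306 = n37854 := d44_0 F174963 F168639 (iv F169121) F169122 D37306
theorem F174965 : act 6 n37854 = n37674 := d41_1 F174964 (iv D37674) (iv F173047)
def n37855 : Q := act 9 n36436
theorem D37855 : act 9 n36436 = n37855 := rfl
theorem F174966 : act 0 n37855 = n37310 := d8_1 D37855 (iv D37310) (iv F168543)
theorem F174967 : act 1 n37855 = n37687 := d16_1 D37855 F174343 (iv F168544)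
theorem F174968 : act 2 n37855 = n36443 := d23_1 D37855 (iv D36443) (iv F168545)
theorem F174969 : act 3 n37855 = n37309 := d29_1 D37855 (iv F174946) F174942
theorem F174970 : act 4 n37855 = n36439 := d34_1 D37855 (iv D36439) (iv F168546)
theorem F174971 : act 5 n37855 = n37306 := d38_1 D37855 F174964 (iv D37854)
theorem F174972 : act 6 n37855 = n36989 := d41_1 D37855 (iv D36989) (iv F168547)
theorem F174973 : act 8 n37855 = n36556 := d44_1 D37855 (iv D36556) (iv D34969) (iv F161419) D36436
def n37856 : Q := act 8 n36437
theorem D37856 : act 8 n36437 = n37856 := rfl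
theorem F174974 : act 0 n37856 = n37311 := d7_1 D37856 (iv D37311) (iv F168548)
theorem F174975 : act 1 n37856 = n37803 := d15_1 D37856 (iv D37803) (iv F168549)
theorem F174976 : act 2 n37856 = n36444 := d22_1 D37856 (iv D36444) (iv F168550)
theorem F174977 : act 3 n37856 = n37856 := d28_1 D37856 (iv D37856) F168551
theorem F174978 : act 6 n37856 = n36438 := d40_1 D37856 (iv D36438) D36437
theorem F174979 : act 7 n37856 = n36990 := d42_1 D37856 (iv D36990) (iv F168553)
def n37857 : Q := act 9 n36438
theorem D37857 : act 9 n36438 = n37857 := rfl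
theorem F174980 : act 0 n37857 = n37312 := d8_1 D37857 (iv D37312) (iv F168555)
theorem F174981 : act 1 n37857 = n37796 := d16_1 D37857 F174595 (iv F168556)
theorem F174982 : act 2 n37857 = n36445 := d23_1 D37857 (iv D36445) (iv F168557)
theorem F174983 : act 3 n37857 = n37857 := d29_1 D37857 (iv D37857) F168558
theorem F174984 : act 5 n37857 = n37857 := d38_1 D37857 (iv D37857) F168559
theorem F174985 : act 7 n37857 = n36439 := d43_1 D37857 (iv D36439) (iv F168560)
theorem F174986 : act 8 n37857 = n36558 := d44_1 D37857 (iv D36558) (iv D34971) (iv F161425) D36438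
def n37858 : Q := act 5 n36440
theorem D37858 : act 5 n36440 = n37858 := rfl
theorem F174987 : act 0 n37858 = n37313 := d4_1 D37858 (iv D37313) (iv F168568)
theorem F174988 : act 1 n37858 = n36687 := d12_1 D37858 (iv D36687) (iv F168569)
theorem F174989 : act 3 n37858 = n36944 := d25_1 D37858 (iv D36944) (iv F168570)
theorem F174990 : act 4 n37858 = n37666 := d30_1 D37858 (iv D37666) F167706 (iv F161446) (iv F168571)
theorem F174991 : act 6 n37858 = n36453 := d35_2 D36440 D37858 (iv D36453) (iv D34868) (iv F161436)
theorem F174992 : act 7 n37858 = n36992 := d36_2 (iv F168572) D37858 (iv D36992)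
theorem F174993 : act 9 n37858 = n36559 := d38_2 (iv F168573) D37858 (iv D36559)
def n37859 : Q := act 8 n36440
theorem D37859 : act 8 n36440 = n37859 := rfl
theorem F174994 : act 0 n37859 = n37314 := d7_1 D37859 (iv D37314) (iv F168568)
theorem F174995 : act 1 n37859 = n36688 := d15_1 D37859 (iv D36688) (iv F168569)
theorem F174996 : act 3 n37859 = n36945 := d28_1 D37859 (iv D36945) (iv F168570)
theorem F174997 : act 4 n37859 = n36444 := d33_1 D37859 (iv D36444) (iv F168571)
theorem F174998 : act 6 n37859 = n36441 := d40_1 D37859 (iv D36441) D36440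
theorem F174999 : act 7 n37859 = n36993 := d42_1 D37859 (iv D36993) (iv F168572)
def n37860 : Q := act 5 n36441
theorem D37860 : act 5 n36441 = n37860 := rfl
theorem F175000 : act 0 n37860 = n37315 := d4_1 D37860 (iv D37315) (iv F168574)
theorem F175001 : act 1 n37860 = n36689 := d12_1 D37860 (iv D36689) (iv F168575)
theorem F175002 : act 3 n37860 = n36946 := d25_1 D37860 (iv D36946) (iv F168576)
theorem F175003 : act 4 n37860 = n37860 := d30_1 D37860 (iv D37860) F168577 F161452 (iv F168577)
theorem F175004 : act 7 n37860 = n36442 := d36_2 (iv F168578) D37860 (iv D36442)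
theorem F175005 : act 8 n37860 = n36455 := d37_2 D36441 D37860 (iv D36455) (iv D34869) (iv F161436)
def n37861 : Q := act 9 n36441
theorem D37861 : act 9 n36441 = n37861 := rfl
theorem F175006 : act 0 n37861 = n37316 := d8_1 D37861 (iv D37316) (iv F168574)
theorem F175007 : act 1 n37861 = n36690 := d16_1 D37861 (iv D36690) (iv F168575)
theorem F175008 : act 3 n37861 = n36947 := d29_1 D37861 (iv D36947) (iv F168576)
theorem F175009 : act 4 n37861 = n36445 := d34_1 D37861 (iv D36445) (iv F168577)
theorem F175010 : act 7 n37861 = n36443 := d43_1 D37861 (iv D36443) (iv F168578)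
theorem F175011 : act 8 n37861 = n36562 := d44_1 D37861 (iv D36562) (iv D34974) (iv F161437) D36441
def n37862 : Q := act 6 n36442
theorem D37862 : act 6 n36442 = n37862 := rfl
theorem F175012 : act 0 n37862 = n37317 := d5_1 D37862 (iv D37317) (iv F168579)
theorem F175013 : act 1 n37862 = n36691 := d13_1 D37862 (iv D36691) (iv F168580)
theorem F175014 : act 2 n37862 = n37674 := d20_1 D37862 (iv F174965) F174960
theorem F175015 : act 3 n37862 = n36948 := d26_1 D37862 (iv D36948) (iv F168581)
theorem F175016 : act 4 n37862 = n37862 := d31_1 D37862 (iv D37862) F168582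
theorem F175017 : act 5 n37862 = n36996 := d35_1 D37862 (iv D36996) (iv D35412) (iv F161442) D36442
theorem F175018 : act 8 n37862 = n36457 := d40_2 (iv F168583) D37862 (iv D36457)
theorem F175019 : act 9 n37484 = n37862 := d29_0 F175015 F171452 (iv F173689)
def n37863 : Q := act 9 n36442
theorem D37863 : act 9 n36442 = n37863 := rfl
theorem F175020 : act 0 n37863 = n36939 := d8_1 D37863 F171410 (iv F168579)
theorem F175021 : act 1 n37863 = n36692 := d16_1 D37863 (iv D36692) (iv F168580)
theorem F175022 : act 2 n37863 = n37306 := d23_1 D37863 F174964 F174960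
theorem F175023 : act 3 n37863 = n36868 := d29_1 D37863 F171027 (iv F168581)
theorem F175024 : act 4 n37863 = n37863 := d34_1 D37863 (iv D37863) F168582
theorem F175025 : act 5 n37863 = n36443 := d38_1 D37863 (iv D36443) D36442
theorem F175026 : act 6 n37863 = n37484 := d41_1 D37863 F175019 (iv D37862)
theorem F175027 : act 8 n37863 = n36866 := d44_1 D37863 F171015 F168682 (iv D36458) (iv F168583)
def n37864 : Q := act 5 n36444
theorem D37864 : act 5 n36444 = n37864 := rfl
theorem F175028 : act 0 n37864 = n37318 := d4_1 D37864 (iv D37318) (iv F168590)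
theorem F175029 : act 1 n37864 = n36693 := d12_1 D37864 (iv D36693) (iv F168591)
theorem F175030 : act 3 n37864 = n36446 := d25_1 D37864 (iv D36446) (iv F168592)
theorem F175031 : act 6 n37864 = n37864 := d35_2 (iv F168593) D37864 (iv D37864) F168593 F161452
theorem F175032 : act 7 n37864 = n36998 := d36_2 (iv F168594) D37864 (iv D36998)
theorem F175033 : act 8 n37864 = n37669 := d37_2 D36444 D37864 (iv D37669) (iv D36216) (iv F161446)
def n37865 : Q := act 9 n36444
theorem D37865 : act 9 n36444 = n37865 := rfl
theorem F175034 : act 0 n37865 = n37319 := d8_1 D37865 (iv D37319) (iv F168590)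
theorem F175035 : act 1 n37865 = n36694 := d16_1 D37865 (iv D36694) (iv F168591)
theorem F175036 : act 3 n37865 = n36447 := d29_1 D37865 (iv D36447) (iv F168592)
theorem F175037 : act 6 n37865 = n36445 := d41_1 D37865 (iv D36445) (iv F168593)
theorem F175038 : act 7 n37865 = n36999 := d43_1 D37865 (iv D36999) (iv F168594)
theorem F175039 : act 8 n37865 = n36565 := d44_1 D37865 (iv D36565) (iv D34977) (iv F161448) D36444
def n37866 : Q := act 4 n36446
theorem D37866 : act 4 n36446 = n37866 := rfl
theorem F175040 : act 0 n37866 = n37320 := d3_1 D37866 (iv D37320) (iv F168601)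
theorem F175041 : act 1 n37866 = n36695 := d11_1 D37866 (iv D36695) (iv F168602)
theorem F175042 : act 2 n37866 = n37866 := d18_1 D37866 (iv D37866) F168603
theorem F175043 : act 5 n37866 = n36951 := d30_2 D36446 D37866 (iv D36951) (iv D35368) (iv F161463)
theorem F175044 : act 6 n37866 = n37866 := d31_2 F168604 D37866 (iv D37866)
theorem F175045 : act 7 n37866 = n37000 := d32_2 (iv F168605) D37866 (iv D37000)
theorem F175046 : act 8 n37866 = n37134 := d33_2 (iv F168606) D37866 F172256
def n37867 : Q := act 9 n36446
theorem D37867 : act 9 n36446 = n37867 := rfl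
theorem F175047 : act 0 n37867 = n37321 := d8_1 D37867 (iv D37321) (iv F168601)
theorem F175048 : act 1 n37867 = n36696 := d16_1 D37867 (iv D36696) (iv F168602)
theorem F175049 : act 2 n37867 = n37867 := d23_1 D37867 (iv D37867) F168603
theorem F175050 : act 5 n37867 = n36447 := d38_1 D37867 (iv D36447) D36446
theorem F175051 : act 6 n37867 = n37867 := d41_1 D37867 (iv D37867) F168604
theorem F175052 : act 7 n37867 = n37001 := d43_1 D37867 (iv D37001) (iv F168605)
def n37868 : Q := act 6 n36448
theorem D37868 : act 6 n36448 = n37868 := rfl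
theorem F175053 : act 0 n37868 = n37328 := d5_1 D37868 (iv D37328) (iv F168614)
theorem F175054 : act 1 n37868 = n37513 := d13_1 D37868 F173794 (iv F168615)
theorem F175055 : act 2 n37868 = n37645 := d20_1 D37868 (iv D37645) (iv F168616)
theorem F175056 : act 3 n37868 = n36449 := d26_1 D37868 (iv D36449) (iv F168617)
theorem F175057 : act 4 n37868 = n36510 := d31_1 D37868 (iv D36510) (iv F168618)
theorem F175058 : act 7 n37868 = n36462 := d39_2 D36448 D37868 (iv D36462) (iv D34876) (iv F161477)
theorem F175059 : act 8 n37868 = n37537 := d40_2 (iv F168619) D37868 F173887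
theorem F175060 : act 9 n37868 = n37431 := d41_2 (iv F168620) D37868 F173445
def n37869 : Q := act 5 n36449
theorem D37869 : act 5 n36449 = n37869 := rfl
theorem F175061 : act 0 n37869 = n37329 := d4_1 D37869 (iv D37329) (iv F168621)
theorem F175062 : act 1 n37869 = n37722 := d12_1 D37869 F174437 (iv F168622)
theorem F175063 : act 2 n37869 = n36453 := d19_1 D37869 (iv D36453) (iv F168623)
theorem F175064 : act 4 n37869 = n37696 := d30_1 D37869 (iv D37696) F167779 (iv F161496) (iv F168624)
theorem F175065 : act 7 n37869 = n36465 := d36_2 (iv F168625) D37869 (iv D36465)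
theorem F175066 : act 9 n37869 = n37644 := d38_2 (iv F168626) D37869 (iv D37644)
def n37870 : Q := act 8 n36449
theorem D37870 : act 8 n36449 = n37870 := rfl
theorem F175067 : act 0 n37870 = n37330 := d7_1 D37870 (iv D37330) (iv F168621)
theorem F175068 : act 1 n37870 = n37703 := d15_1 D37870 F174389 (iv F168622)
theorem F175069 : act 2 n37870 = n36454 := d22_1 D37870 (iv D36454) (iv F168623)
theorem F175070 : act 3 n37870 = n37537 := d28_1 D37870 (iv F175059) F175056
theorem F175071 : act 4 n37870 = n36452 := d33_1 D37870 (iv D36452) (iv F168624)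
theorem F175072 : act 6 n37870 = n36450 := d40_1 D37870 (iv D36450) D36449
theorem F175073 : act 7 n37870 = n36466 := d42_1 D37870 (iv D36466) (iv F168625)
theorem F175074 : act 9 n37870 = n37525 := d44_2 (iv F168626) D37870 (iv D37525) F167030 D36189
def n37871 : Q := act 5 n36450
theorem D37871 : act 5 n36450 = n37871 := rfl
theorem F175075 : act 0 n37871 = n37331 := d4_1 D37871 (iv D37331) (iv F168627)
theorem F175076 : act 1 n37871 = n37705 := d12_1 D37871 F174392 (iv F168628)
theorem F175077 : act 2 n37871 = n36455 := d19_1 D37871 (iv D36455) (iv F168629)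
theorem F175078 : act 3 n37871 = n37341 := d25_1 D37871 F173163 (iv F168630)
theorem F175079 : act 4 n37871 = n37871 := d30_1 D37871 (iv D37871) F168631 F161503 (iv F168631)
theorem F175080 : act 7 n37871 = n36451 := d36_2 (iv F168632) D37871 (iv D36451)
theorem F175081 : act 9 n37871 = n37526 := d38_2 (iv F168633) D37871 (iv D37526)
def n37872 : Q := act 6 n36451
theorem D37872 : act 6 n36451 = n37872 := rfl
theorem F175082 : act 0 n37872 = n37332 := d5_1 D37872 (iv D37332) (iv F168634)
theorem F175083 : act 1 n37872 = n37707 := d13_1 D37872 F174398 (iv F168635)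
theorem F175084 : act 2 n37872 = n36457 := d20_1 D37872 (iv D36457) (iv F168636)
theorem F175085 : act 3 n37872 = n37322 := d26_1 D37872 F173103 (iv F168637)
theorem F175086 : act 4 n37872 = n37872 := d31_1 D37872 (iv D37872) F168638
theorem F175087 : act 5 n37872 = n36468 := d35_1 D37872 (iv D36468) (iv D34880) (iv F161490) D36451
theorem F175088 : act 8 n37872 = n37674 := d40_2 F174963 D37872 (iv F174965)
theorem F175089 : act 9 n37872 = n37527 := d41_2 (iv F168639) D37872 (iv D37527)
def n37873 : Q := act 5 n36452
theorem D37873 : act 5 n36452 = n37873 := rfl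
theorem F175090 : act 0 n37873 = n37333 := d4_1 D37873 (iv D37333) (iv F168640)
theorem F175091 : act 1 n37873 = n37710 := d12_1 D37873 F174404 (iv F168641)
theorem F175092 : act 2 n37873 = n36459 := d19_1 D37873 (iv D36459) (iv F168642)
theorem F175093 : act 3 n37873 = n36512 := d25_1 D37873 (iv D36512) (iv F168643)
theorem F175094 : act 6 n37873 = n37873 := d35_2 (iv F168644) D37873 (iv D37873) F168644 F161503
theorem F175095 : act 7 n37873 = n36469 := d36_2 (iv F168645) D37873 (iv D36469)
theorem F175096 : act 8 n37873 = n37699 := d37_2 D36452 D37873 (iv D37699) (iv D36245) (iv F161496)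
theorem F175097 : act 9 n37873 = n37528 := d38_2 (iv F168646) D37873 (iv D37528)
def n37874 : Q := act 8 n36453
theorem D37874 : act 8 n36453 = n37874 := rfl
theorem F175098 : act 0 n37874 = n37334 := d7_1 D37874 (iv D37334) (iv F168647)
theorem F175099 : act 1 n37874 = n37728 := d15_1 D37874 (iv D37728) (iv F168648)
theorem F175100 : act 3 n37874 = n37647 := d28_1 D37874 (iv D37647) (iv F168649)
theorem F175101 : act 4 n37874 = n37701 := d33_1 D37874 (iv D37701) (iv F168650)
theorem F175102 : act 7 n37874 = n36470 := d42_1 D37874 (iv D36470) (iv F168651)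
def n37875 : Q := act 5 n36454
theorem D37875 : act 5 n36454 = n37875 := rfl
theorem F175103 : act 0 n37875 = n37335 := d4_1 D37875 (iv D37335) (iv F168653)
theorem F175104 : act 1 n37875 = n37658 := d12_1 D37875 (iv D37658) (iv F168654)
theorem F175105 : act 3 n37875 = n37648 := d25_1 D37875 (iv D37648) (iv F168655)
theorem F175106 : act 7 n37875 = n36471 := d36_2 (iv F168658) D37875 (iv D36471)
def n37876 : Q := act 9 n36454
theorem D37876 : act 9 n36454 = n37876 := rfl
theorem F175107 : act 0 n37876 = n37336 := d8_1 D37876 (iv D37336) (iv F168653)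
theorem F175108 : act 1 n37876 = n37650 := d16_1 D37876 F174258 (iv F168654)
theorem F175109 : act 2 n37876 = n37525 := d23_1 D37876 (iv F175074) F175069
theorem F175110 : act 3 n37876 = n37649 := d29_1 D37876 (iv D37649) (iv F168655)
theorem F175111 : act 4 n37876 = n36460 := d34_1 D37876 (iv D36460) (iv F168656)
theorem F175112 : act 6 n37876 = n36456 := d41_1 D37876 (iv D36456) (iv F168657)
theorem F175113 : act 7 n37876 = n36472 := d43_1 D37876 (iv D36472) (iv F168658)
theorem F175114 : act 8 n37876 = n37523 := d44_1 D37876 F173831 F167628 (iv F161511) D36454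
def n37877 : Q := act 6 n36455
theorem D37877 : act 6 n36455 = n37877 := rfl
theorem F175115 : act 0 n37877 = n37337 := d5_1 D37877 (iv D37337) (iv F168659)
theorem F175116 : act 1 n37877 = n37289 := d13_1 D37877 (iv D37289) (iv F168660)
theorem F175117 : act 3 n37877 = n37288 := d26_1 D37877 (iv D37288) (iv F168661)
theorem F175118 : act 4 n37877 = n37877 := d31_1 D37877 (iv D37877) F168662
def n37878 : Q := act 9 n36455
theorem D37878 : act 9 n36455 = n37878 := rfl
theorem F175119 : act 0 n37878 = n36962 := d8_1 D37878 (iv F171513) (iv F168659)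
theorem F175120 : act 1 n37878 = n36930 := d16_1 D37878 F171372 (iv F168660)
theorem F175121 : act 2 n37878 = n37526 := d23_1 D37878 (iv F175081) F175077
theorem F175122 : act 3 n37878 = n36881 := d29_1 D37878 (iv F171098) (iv F168661)
theorem F175123 : act 4 n37878 = n37878 := d34_1 D37878 (iv D37878) F168662
theorem F175124 : act 5 n37878 = n36456 := d38_1 D37878 (iv D36456) D36455
theorem F175125 : act 7 n37878 = n36458 := d43_1 D37878 (iv D36458) (iv F168663)
theorem F175126 : act 8 n36879 = n37878 := d42_0 F175125 (iv F168682) D36879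
def n37879 : Q := act 7 n36457
theorem D37879 : act 7 n36457 = n37879 := rfl
theorem F175127 : act 0 n37879 = n37338 := d6_1 D37879 (iv D37338) (iv F168671)
theorem F175128 : act 1 n37879 = n37279 := d14_1 D37879 (iv D37279) (iv F168672)
theorem F175129 : act 3 n37879 = n37277 := d27_1 D37879 (iv D37277) (iv F168673)
theorem F175130 : act 4 n37879 = n37879 := d32_1 D37879 (iv D37879) F168674
theorem F175131 : act 5 n37879 = n36475 := d36_1 D37879 (iv D36475) (iv F168675)
def n37880 : Q := act 9 n36457
theorem D37880 : act 9 n36457 = n37880 := rfl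
theorem F175132 : act 0 n37880 = n36901 := d8_1 D37880 (iv F171207) (iv F168671)
theorem F175133 : act 1 n37880 = n36887 := d16_1 D37880 F171133 (iv F168672)
theorem F175134 : act 2 n37880 = n37527 := d23_1 D37880 (iv F175089) F175084
theorem F175135 : act 3 n37880 = n36844 := d29_1 D37880 (iv F170871) (iv F168673)
theorem F175136 : act 4 n37880 = n37880 := d34_1 D37880 (iv D37880) F168674
theorem F175137 : act 5 n37880 = n36476 := d38_1 D37880 (iv D36476) (iv F168675)
theorem F175138 : act 6 n37880 = n36458 := d41_1 D37880 (iv D36458) D36457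
theorem F175139 : act 8 n37880 = n36842 := d44_1 D37880 F170859 D37484 F175019 F175018
def n37881 : Q := act 4 n36459
theorem D37881 : act 4 n36459 = n37881 := rfl
theorem F175140 : act 0 n37881 = n37339 := d3_1 D37881 (iv D37339) (iv F168683)
theorem F175141 : act 1 n37881 = n37729 := d11_1 D37881 (iv D37729) (iv F168684)
theorem F175142 : act 3 n37881 = n37772 := d24_1 D37881 (iv D37772) F168004 (iv F161543) (iv F168685)
theorem F175143 : act 6 n37881 = n37881 := d31_2 F168686 D37881 (iv D37881)
theorem F175144 : act 7 n37881 = n36477 := d32_2 (iv F168687) D37881 (iv D36477)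
theorem F175145 : act 8 n37881 = n37709 := d33_2 (iv F168688) D37881 (iv D37709)
def n37882 : Q := act 9 n36459
theorem D37882 : act 9 n36459 = n37882 := rfl
theorem F175146 : act 0 n37882 = n37340 := d8_1 D37882 (iv D37340) (iv F168683)
theorem F175147 : act 1 n37882 = n37730 := d16_1 D37882 (iv D37730) (iv F168684)
theorem F175148 : act 2 n37882 = n37528 := d23_1 D37882 (iv F175097) F175092
theorem F175149 : act 3 n37882 = n36461 := d29_1 D37882 (iv D36461) (iv F168685)
theorem F175150 : act 5 n37882 = n36460 := d38_1 D37882 (iv D36460) D36459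
theorem F175151 : act 6 n37882 = n37882 := d41_1 D37882 (iv D37882) F168686
theorem F175152 : act 7 n37882 = n36478 := d43_1 D37882 (iv D36478) (iv F168687)
theorem F175153 : act 8 n37727 = n37882 := d42_0 F175152 (iv F174849) F174848
def n37883 : Q := act 5 n36462
theorem D37883 : act 5 n36462 = n37883 := rfl
theorem F175154 : act 0 n37883 = n37346 := d4_1 D37883 (iv D37346) (iv F168704)
theorem F175155 : act 1 n37883 = n37592 := d12_1 D37883 F174047 (iv F168705)
theorem F175156 : act 3 n37883 = n36465 := d25_1 D37883 (iv D36465) (iv F168706)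
theorem F175157 : act 6 n37883 = n37101 := d35_2 D36462 D37883 (iv D37101) (iv D35514) (iv F161558)
theorem F175158 : act 9 n37883 = n37471 := d38_2 (iv F168708) D37883 (iv D37471)
def n37884 : Q := act 8 n36462
theorem D37884 : act 8 n36462 = n37884 := rfl
theorem F175159 : act 0 n37884 = n37347 := d7_1 D37884 (iv D37347) (iv F168704)
theorem F175160 : act 1 n37884 = n37557 := d15_1 D37884 F173951 (iv F168705)
theorem F175161 : act 2 n37884 = n37712 := d22_1 D37884 (iv F174620) F174616
theorem F175162 : act 3 n37884 = n36466 := d28_1 D37884 (iv D36466) (iv F168706)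
theorem F175163 : act 4 n37884 = n36516 := d33_1 D37884 (iv D36516) (iv F168707)
theorem F175164 : act 6 n37884 = n36463 := d40_1 D37884 (iv D36463) D36462
theorem F175165 : act 7 n37884 = n37537 := d42_1 D37884 (iv F175059) F175058
theorem F175166 : act 9 n37884 = n37455 := d44_2 (iv F168708) D37884 (iv D37455) F166780 D35976
def n37885 : Q := act 5 n36463
theorem D37885 : act 5 n36463 = n37885 := rfl
theorem F175167 : act 0 n37885 = n37348 := d4_1 D37885 (iv D37348) (iv F168709)
theorem F175168 : act 1 n37885 = n37559 := d12_1 D37885 F173956 (iv F168710)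
theorem F175169 : act 2 n37885 = n37670 := d19_1 D37885 F174306 (iv F168711)
theorem F175170 : act 3 n37885 = n36467 := d25_1 D37885 (iv D36467) (iv F168712)
theorem F175171 : act 4 n37885 = n37885 := d30_1 D37885 (iv D37885) F168713 F161857 (iv F168713)
theorem F175172 : act 7 n37885 = n36464 := d36_2 (iv F168714) D37885 (iv D36464)
theorem F175173 : act 8 n37885 = n37103 := d37_2 D36463 D37885 (iv D37103) (iv D35515) (iv F161558)
theorem F175174 : act 9 n37885 = n37456 := d38_2 (iv F168715) D37885 (iv D37456)
def n37886 : Q := act 6 n36464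
theorem D37886 : act 6 n36464 = n37886 := rfl
theorem F175175 : act 0 n37886 = n37349 := d5_1 D37886 (iv D37349) (iv F168716)
theorem F175176 : act 1 n37886 = n37561 := d13_1 D37886 F173962 (iv F168717)
theorem F175177 : act 2 n37886 = n37302 := d20_1 D37886 F173033 (iv F168718)
theorem F175178 : act 3 n37886 = n36468 := d26_1 D37886 (iv D36468) (iv F168719)
theorem F175179 : act 4 n37886 = n37886 := d31_1 D37886 (iv D37886) F168720
theorem F175180 : act 5 n37886 = n37322 := d35_1 D37886 F173103 F166284 (iv F161565) D36464
theorem F175181 : act 8 n37886 = n37105 := d40_2 (iv F168721) D37886 (iv D37105)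
theorem F175182 : act 9 n37886 = n37457 := d41_2 (iv F168722) D37886 (iv D37457)
def n37887 : Q := act 8 n36465
theorem D37887 : act 8 n36465 = n37887 := rfl
theorem F175183 : act 0 n37887 = n37350 := d7_1 D37887 (iv D37350) (iv F168723)
theorem F175184 : act 1 n37887 = n37767 := d15_1 D37887 (iv D37767) (iv F168724)
theorem F175185 : act 2 n37887 = n36470 := d22_1 D37887 (iv D36470) (iv F168725)
theorem F175186 : act 4 n37887 = n37735 := d33_1 D37887 (iv D37735) (iv F168726)
theorem F175187 : act 6 n37887 = n37106 := d40_1 D37887 (iv D37106) (iv F168727)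
def n37888 : Q := act 5 n36466
theorem D37888 : act 5 n36466 = n37888 := rfl
theorem F175188 : act 0 n37888 = n37351 := d4_1 D37888 (iv D37351) (iv F168729)
theorem F175189 : act 1 n37888 = n37744 := d12_1 D37888 F174479 (iv F168730)
theorem F175190 : act 2 n37888 = n36471 := d19_1 D37888 (iv D36471) (iv F168731)
theorem F175191 : act 9 n37888 = n37653 := d38_2 (iv F168734) D37888 (iv D37653)
def n37889 : Q := act 6 n36467
theorem D37889 : act 6 n36467 = n37889 := rfl
theorem F175192 : act 0 n37889 = n37353 := d5_1 D37889 (iv D37353) (iv F168735)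
theorem F175193 : act 1 n37889 = n37746 := d13_1 D37889 F174483 (iv F168736)
theorem F175194 : act 2 n37889 = n36473 := d20_1 D37889 (iv D36473) (iv F168737)
theorem F175195 : act 4 n37889 = n36484 := d31_1 D37889 (iv D36484) (iv F168738)
theorem F175196 : act 8 n37889 = n37109 := d40_2 (iv F168740) D37889 (iv D37109)
theorem F175197 : act 9 n37889 = n37654 := d41_2 (iv F168741) D37889 (iv D37654)
def n37890 : Q := act 7 n36468
theorem D37890 : act 7 n36468 = n37890 := rfl
theorem F175198 : act 0 n37890 = n37355 := d6_1 D37890 (iv D37355) (iv F168742)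
theorem F175199 : act 1 n37890 = n37747 := d14_1 D37890 F174485 (iv F168743)
theorem F175200 : act 2 n37890 = n36475 := d21_1 D37890 (iv D36475) (iv F168744)
theorem F175201 : act 4 n37890 = n36485 := d32_1 D37890 (iv D36485) (iv F168745)
theorem F175202 : act 8 n37890 = n37110 := d42_2 (iv F168746) D37890 (iv D37110)
theorem F175203 : act 9 n37890 = n37655 := d43_2 (iv F168747) D37890 (iv D37655)
def n37891 : Q := act 4 n36469
theorem D37891 : act 4 n36469 = n37891 := rfl
theorem F175204 : act 0 n37891 = n37357 := d3_1 D37891 (iv D37357) (iv F168748)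
theorem F175205 : act 1 n37891 = n37749 := d11_1 D37891 F174488 (iv F168749)
theorem F175206 : act 2 n37891 = n36477 := d18_1 D37891 (iv D36477) (iv F168750)
theorem F175207 : act 6 n37891 = n36486 := d31_2 (iv F168752) D37891 (iv D36486)
theorem F175208 : act 8 n37891 = n37738 := d33_2 (iv F168753) D37891 (iv D37738)
theorem F175209 : act 9 n37891 = n37656 := d34_2 (iv F168754) D37891 (iv D37656)
def n37892 : Q := act 5 n36470
theorem D37892 : act 5 n36470 = n37892 := rfl
theorem F175210 : act 0 n37892 = n37359 := d4_1 D37892 (iv D37359) (iv F168755)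
theorem F175211 : act 8 n37892 = n36471 := d37_2 D36470 D37892 (iv D36471) (iv D34883) D34882
def n37893 : Q := act 9 n36470
theorem D37893 : act 9 n36470 = n37893 := rfl
theorem F175212 : act 0 n37893 = n37360 := d8_1 D37893 (iv D37360) (iv F168755)
theorem F175213 : act 4 n37893 = n37741 := d34_1 D37893 (iv D37741) (iv F168756)
theorem F175214 : act 6 n37893 = n37113 := d41_1 D37893 (iv D37113) (iv F168757)
theorem F175215 : act 8 n37893 = n37732 := d44_1 D37893 (iv D37732) (iv D36280) (iv F161593) D36470
def n37894 : Q := act 4 n36471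
theorem D37894 : act 4 n36471 = n37894 := rfl
theorem F175216 : act 0 n37894 = n37361 := d3_1 D37894 (iv D37361) (iv F168758)
theorem F175217 : act 5 n37894 = n36477 := d30_2 D36471 D37894 (iv D36477) (iv D34888) (iv F161595)
def n37895 : Q := act 6 n36471
theorem D37895 : act 6 n36471 = n37895 := rfl
theorem F175218 : act 0 n37895 = n37362 := d5_1 D37895 (iv D37362) (iv F168758)
theorem F175219 : act 5 n37895 = n36473 := d35_1 D37895 (iv D36473) (iv D34884) (iv F161596) D36471
def n37896 : Q := act 9 n36471
theorem D37896 : act 9 n36471 = n37896 := rfl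
theorem F175220 : act 0 n37896 = n37363 := d8_1 D37896 (iv D37363) (iv F168758)
theorem F175221 : act 2 n37896 = n37653 := d23_1 D37896 (iv F175191) F175190
theorem F175222 : act 5 n37896 = n36472 := d38_1 D37896 (iv D36472) D36471
def n37897 : Q := act 7 n36473
theorem D37897 : act 7 n36473 = n37897 := rfl
theorem F175223 : act 0 n37897 = n37364 := d6_1 D37897 (iv D37364) (iv F168764)
theorem F175224 : act 4 n37897 = n36491 := d32_1 D37897 (iv D36491) (iv F168765)
theorem F175225 : act 6 n37897 = n36475 := d39_1 D37897 (iv D36475) (iv D34886) (iv F161599) D36473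
theorem F175226 : act 8 n37897 = n37117 := d42_2 (iv F168766) D37897 (iv D37117)
def n37898 : Q := act 9 n36473
theorem D37898 : act 9 n36473 = n37898 := rfl
theorem F175227 : act 0 n37898 = n37365 := d8_1 D37898 (iv D37365) (iv F168764)
theorem F175228 : act 2 n37898 = n37654 := d23_1 D37898 (iv F175197) F175194
theorem F175229 : act 4 n37898 = n36492 := d34_1 D37898 (iv D36492) (iv F168765)
theorem F175230 : act 6 n37898 = n36474 := d41_1 D37898 (iv D36474) D36473
def n37899 : Q := act 9 n36475
theorem D37899 : act 9 n36475 = n37899 := rfl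
theorem F175231 : act 0 n37899 = n37366 := d8_1 D37899 (iv D37366) (iv F168772)
theorem F175232 : act 1 n37899 = n37053 := d16_1 D37899 (iv F174878) F174872
theorem F175233 : act 2 n37899 = n37655 := d23_1 D37899 (iv F175203) F175200
theorem F175234 : act 3 n37899 = n37422 := d29_1 D37899 (iv F174669) F174665
theorem F175235 : act 4 n37899 = n36493 := d34_1 D37899 (iv D36493) (iv F168773)
theorem F175236 : act 7 n37899 = n36476 := d43_1 D37899 (iv D36476) D36475
theorem F175237 : act 8 n37899 = n37049 := d44_1 D37899 F171891 (iv F171777) F171778 (iv F168774)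
def n37900 : Q := act 3 n36477
theorem D37900 : act 3 n36477 = n37900 := rfl
theorem F175238 : act 0 n37900 = n37367 := d2_1 D37900 (iv D37367) (iv F168782)
theorem F175239 : act 4 n37900 = n36479 := d24_2 D36477 D37900 (iv D36479) (iv D34890) (iv F161614)
theorem F175240 : act 6 n37900 = n36494 := d26_2 (iv F168783) D37900 (iv D36494)
theorem F175241 : act 7 n37900 = n37772 := d27_2 F175144 D37900 (iv F175142)
theorem F175242 : act 8 n37900 = n37748 := d28_2 (iv F168784) D37900 (iv D37748)
def n37901 : Q := act 9 n36477
theorem D37901 : act 9 n36477 = n37901 := rfl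
theorem F175243 : act 0 n37901 = n37368 := d8_1 D37901 (iv D37368) (iv F168782)
theorem F175244 : act 2 n37901 = n37656 := d23_1 D37901 (iv F175209) F175206
theorem F175245 : act 4 n37901 = n36478 := d34_1 D37901 (iv D36478) D36477
theorem F175246 : act 6 n37901 = n36495 := d41_1 D37901 (iv D36495) (iv F168783)
def n37902 : Q := act 2 n36479
theorem D37902 : act 2 n36479 = n37902 := rfl
theorem F175247 : act 0 n37902 = n37370 := d1_1 D37902 (iv D37370) (iv F168790)
theorem F175248 : act 1 n37902 = n37587 := d9_1 D37902 F174036 (iv F169016) (iv F174709) F174708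
theorem F175249 : act 3 n37902 = n36523 := d17_2 D36479 D37902 (iv D36523) (iv D34936) (iv F161623)
theorem F175250 : act 5 n37902 = n37576 := d19_2 (iv F168791) D37902 F174007
theorem F175251 : act 6 n37902 = n36496 := d20_2 (iv F168792) D37902 (iv D36496)
theorem F175252 : act 7 n37902 = n37635 := d21_2 (iv F168793) D37902 F174211
theorem F175253 : act 8 n37902 = n37750 := d22_2 (iv F168794) D37902 (iv D37750)
theorem F175254 : act 9 n37575 = n37902 := d44_0 F175253 F174492 (iv D36330) (iv F167995) (iv F174005)
def n37903 : Q := act 9 n36479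
theorem D37903 : act 9 n36479 = n37903 := rfl
theorem F175255 : act 0 n37903 = n37371 := d8_1 D37903 (iv D37371) (iv F168790)
theorem F175256 : act 1 n37903 = n37469 := d16_1 D37903 (iv F174713) F174708
theorem F175257 : act 2 n37903 = n37575 := d23_1 D37903 F175254 (iv D37902)
theorem F175258 : act 3 n37903 = n36480 := d29_1 D37903 (iv D36480) D36479
theorem F175259 : act 5 n37903 = n37465 := d38_1 D37903 F173628 (iv F168791)
theorem F175260 : act 6 n37903 = n36497 := d41_1 D37903 (iv D36497) (iv F168792)
theorem F175261 : act 7 n37903 = n37773 := d43_1 D37903 (iv D37773) (iv F168793)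
theorem F175262 : act 8 n37903 = n37629 := d44_1 D37903 F174192 D37634 (iv F174210) (iv F168794)
def n37904 : Q := act 5 n36482
theorem D37904 : act 5 n36482 = n37904 := rfl
theorem F175263 : act 0 n37904 = n37188 := d4_1 D37904 (iv D37188) (iv F168811)
theorem F175264 : act 1 n37904 = n37375 := d12_1 D37904 F173254 (iv F168812)
theorem F175265 : act 2 n37904 = n36487 := d19_1 D37904 (iv D36487) (iv F168813)
theorem F175266 : act 3 n37904 = n37904 := d25_1 D37904 (iv D37904) F168814
theorem F175267 : act 7 n37904 = n37904 := d36_2 F168817 D37904 (iv D37904)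
theorem F175268 : act 8 n37904 = n36483 := d37_2 D36482 D37904 (iv D36483) (iv D34893) D34892
theorem F175269 : act 9 n37904 = n37187 := d38_2 (iv F168818) D37904 (iv D37187)
def n37905 : Q := act 4 n36483
theorem D37905 : act 4 n36483 = n37905 := rfl
theorem F175270 : act 0 n37905 = n37373 := d3_1 D37905 (iv D37373) (iv F168819)
theorem F175271 : act 1 n37905 = n37785 := d11_1 D37905 F174562 (iv F168820)
theorem F175272 : act 2 n37905 = n36488 := d18_1 D37905 (iv D36488) (iv F168821)
theorem F175273 : act 5 n37905 = n36486 := d30_2 D36483 D37905 (iv D36486) (iv D34896) (iv F161644)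
theorem F175274 : act 7 n37905 = n37905 := d32_2 F168823 D37905 (iv D37905)
theorem F175275 : act 9 n37905 = n37776 := d34_2 (iv F168824) D37905 (iv D37776)
def n37906 : Q := act 6 n36483
theorem D37906 : act 6 n36483 = n37906 := rfl
theorem F175276 : act 0 n37906 = n37374 := d5_1 D37906 (iv D37374) (iv F168819)
theorem F175277 : act 1 n37906 = n37787 := d13_1 D37906 F174570 (iv F168820)
theorem F175278 : act 2 n37906 = n36489 := d20_1 D37906 (iv D36489) (iv F168821)
theorem F175279 : act 3 n37906 = n37906 := d26_1 D37906 (iv D37906) F168822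
theorem F175280 : act 5 n37906 = n36484 := d35_1 D37906 (iv D36484) (iv D34894) (iv F161645) D36483
theorem F175281 : act 9 n37906 = n37777 := d41_2 (iv F168824) D37906 (iv D37777)
def n37907 : Q := act 7 n36484
theorem D37907 : act 7 n36484 = n37907 := rfl
theorem F175282 : act 0 n37907 = n37376 := d6_1 D37907 (iv D37376) (iv F168825)
theorem F175283 : act 1 n37907 = n37788 := d14_1 D37907 F174573 (iv F168826)
theorem F175284 : act 2 n37907 = n36491 := d21_1 D37907 (iv D36491) (iv F168827)
theorem F175285 : act 3 n37907 = n37907 := d27_1 D37907 (iv D37907) F168828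
theorem F175286 : act 6 n37907 = n36485 := d39_1 D37907 (iv D36485) (iv D34895) (iv F161652) D36484
theorem F175287 : act 8 n37907 = n37122 := d42_2 (iv F168829) D37907 (iv D37122)
theorem F175288 : act 9 n37907 = n37778 := d43_2 (iv F168830) D37907 (iv D37778)
def n37908 : Q := act 3 n36486
theorem D37908 : act 3 n36486 = n37908 := rfl
theorem F175289 : act 0 n37908 = n37379 := d2_1 D37908 (iv D37379) (iv F168838)
theorem F175290 : act 1 n37908 = n37639 := d10_1 D37908 F174225 (iv F168839)
theorem F175291 : act 4 n37908 = n36524 := d24_2 D36486 D37908 (iv D36524) (iv D34939) (iv F161665)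
theorem F175292 : act 7 n37908 = n37908 := d27_2 F168841 D37908 (iv D37908)
theorem F175293 : act 8 n37908 = n37638 := d28_2 (iv F168842) D37908 F174222
theorem F175294 : act 9 n37908 = n37779 := d29_2 (iv F168843) D37908 (iv D37779)
def n37909 : Q := act 4 n36487
theorem D37909 : act 4 n36487 = n37909 := rfl
theorem F175295 : act 0 n37909 = n37372 := d3_1 D37909 (iv D37372) (iv F168844)
theorem F175296 : act 1 n37909 = n37202 := d11_1 D37909 F172618 (iv F168845)
theorem F175297 : act 5 n37909 = n37781 := d30_2 D36487 D37909 (iv D37781) (iv D36344) (iv F161672)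
theorem F175298 : act 7 n37909 = n37909 := d32_2 F168847 D37909 (iv D37909)
theorem F175299 : act 8 n37909 = n36488 := d33_2 (iv F168848) D37909 (iv D36488)
theorem F175300 : act 9 n37909 = n37191 := d34_2 (iv F168849) D37909 (iv D37191)
def n37910 : Q := act 6 n36487
theorem D37910 : act 6 n36487 = n37910 := rfl
theorem F175301 : act 0 n37910 = n37345 := d5_1 D37910 F173176 (iv F168844)
theorem F175302 : act 1 n37910 = n37087 := d13_1 D37910 F172065 (iv F168845)
theorem F175303 : act 3 n37910 = n36499 := d26_1 D37910 (iv D36499) (iv F168846)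
theorem F175304 : act 5 n37910 = n36950 := d35_1 D37910 F171460 F164226 (iv F161673) D36487
theorem F175305 : act 8 n37910 = n36489 := d40_2 (iv F168848) D37910 (iv D36489)
theorem F175306 : act 9 n37910 = n36949 := d41_2 (iv F168849) D37910 F171455
def n37911 : Q := act 3 n36488
theorem D37911 : act 3 n36488 = n37911 := rfl
theorem F175307 : act 0 n37911 = n37381 := d2_1 D37911 (iv D37381) (iv F168850)
theorem F175308 : act 1 n37911 = n36838 := d10_1 D37911 (iv F174899) F174898
theorem F175309 : act 4 n37911 = n36500 := d24_2 D36488 D37911 (iv D36500) (iv D34910) (iv F161677)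
theorem F175310 : act 5 n37911 = n36494 := d25_2 (iv F168851) D37911 (iv D36494)
theorem F175311 : act 7 n37911 = n37911 := d27_2 F168852 D37911 (iv D37911)
def n37912 : Q := act 6 n36488
theorem D37912 : act 6 n36488 = n37912 := rfl
theorem F175312 : act 0 n37912 = n37382 := d5_1 D37912 (iv D37382) (iv F168850)
theorem F175313 : act 4 n37912 = n36489 := d31_1 D37912 (iv D36489) D36488
def n37913 : Q := act 9 n36488
theorem D37913 : act 9 n36488 = n37913 := rfl
theorem F175314 : act 0 n37913 = n37383 := d8_1 D37913 (iv D37383) (iv F168850)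
theorem F175315 : act 1 n37913 = n37389 := d16_1 D37913 (iv F174903) F174898
theorem F175316 : act 2 n37913 = n37776 := d23_1 D37913 (iv F175275) F175272
theorem F175317 : act 4 n37913 = n36490 := d34_1 D37913 (iv D36490) D36488
theorem F175318 : act 5 n37913 = n36495 := d38_1 D37913 (iv D36495) (iv F168851)
theorem F175319 : act 7 n37913 = n37913 := d43_1 D37913 (iv D37913) F168852
theorem F175320 : act 8 n37913 = n37299 := d44_1 D37913 (iv D37299) (iv F172565) (iv F175300) F175299
def n37914 : Q := act 7 n36489
theorem D37914 : act 7 n36489 = n37914 := rfl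
theorem F175321 : act 0 n37914 = n37384 := d6_1 D37914 (iv D37384) (iv F168853)
theorem F175322 : act 3 n37914 = n36503 := d27_1 D37914 (iv D36503) (iv F168854)
theorem F175323 : act 5 n37914 = n36491 := d36_1 D37914 (iv D36491) (iv F168855)
theorem F175324 : act 6 n37914 = n37914 := d39_1 D37914 (iv D37914) (iv D36489) F161678 D36489
def n37915 : Q := act 9 n36489
theorem D37915 : act 9 n36489 = n37915 := rfl
theorem F175325 : act 0 n37915 = n37385 := d8_1 D37915 (iv D37385) (iv F168853)
theorem F175326 : act 1 n37915 = n37369 := d16_1 D37915 (iv F174909) F174905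
theorem F175327 : act 2 n37915 = n37777 := d23_1 D37915 (iv F175281) F175278
theorem F175328 : act 3 n37915 = n36504 := d29_1 D37915 (iv D36504) (iv F168854)
theorem F175329 : act 5 n37915 = n36492 := d38_1 D37915 (iv D36492) (iv F168855)
theorem F175330 : act 6 n37915 = n36490 := d41_1 D37915 (iv D36490) D36489
theorem F175331 : act 8 n37915 = n37295 := d44_1 D37915 (iv D37295) (iv F171456) (iv F175306) F175305
def n37916 : Q := act 9 n36491
theorem D37916 : act 9 n36491 = n37916 := rfl
theorem F175332 : act 0 n37916 = n37386 := d8_1 D37916 (iv D37386) (iv F168863)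
theorem F175333 : act 1 n37916 = n37054 := d16_1 D37916 (iv F174916) F174911
theorem F175334 : act 2 n37916 = n37778 := d23_1 D37916 (iv F175288) F175284
theorem F175335 : act 3 n37916 = n36505 := d29_1 D37916 (iv D36505) (iv F168864)
theorem F175336 : act 6 n37916 = n36493 := d41_1 D37916 (iv D36493) (iv F168865)
theorem F175337 : act 7 n37916 = n36492 := d43_1 D37916 (iv D36492) D36491
theorem F175338 : act 8 n37916 = n37050 := d44_1 D37916 F171894 (iv F171267) (iv F171268) (iv F168866)
def n37917 : Q := act 2 n36494
theorem D37917 : act 2 n36494 = n37917 := rfl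
theorem F175339 : act 0 n37917 = n37387 := d1_1 D37917 (iv D37387) (iv F168878)
theorem F175340 : act 1 n37917 = n37612 := d9_1 D37917 F174110 (iv F169089) (iv F174717) F174716
theorem F175341 : act 4 n37917 = n36496 := d18_2 (iv F168879) D37917 (iv D36496)
theorem F175342 : act 7 n37917 = n37917 := d21_2 F168880 D37917 (iv D37917)
theorem F175343 : act 8 n37917 = n37775 := d22_2 (iv F168881) D37917 F174536
theorem F175344 : act 9 n37607 = n37917 := d44_0 F175343 (iv D37775) (iv D36335) (iv F168012) (iv F174097)
def n37918 : Q := act 9 n36494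
theorem D37918 : act 9 n36494 = n37918 := rfl
theorem F175345 : act 0 n37918 = n37388 := d8_1 D37918 (iv D37388) (iv F168878)
theorem F175346 : act 1 n37918 = n37479 := d16_1 D37918 (iv F174722) F174716
theorem F175347 : act 2 n37918 = n37607 := d23_1 D37918 F175344 (iv D37917)
theorem F175348 : act 3 n37918 = n36495 := d29_1 D37918 (iv D36495) D36494
theorem F175349 : act 4 n37918 = n36497 := d34_1 D37918 (iv D36497) (iv F168879)
theorem F175350 : act 7 n37918 = n37918 := d43_1 D37918 (iv D37918) F168880
theorem F175351 : act 8 n37918 = n37637 := d44_1 D37918 F174220 D37639 (iv F174228) (iv F168881)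
def n37919 : Q := act 3 n36498
theorem D37919 : act 3 n36498 = n37919 := rfl
theorem F175352 : act 0 n37919 = n37391 := d2_1 D37919 (iv D37391) (iv F168900)
theorem F175353 : act 1 n37919 = n36839 := d10_1 D37919 F170834 (iv F168901)
theorem F175354 : act 5 n37919 = n37919 := d25_2 F168903 D37919 (iv D37919)
theorem F175355 : act 7 n37919 = n37919 := d27_2 F168904 D37919 (iv D37919)
theorem F175356 : act 8 n37919 = n36500 := d28_2 (iv F168905) D37919 (iv D36500)
theorem F175357 : act 9 n37919 = n37192 := d29_2 (iv F168906) D37919 (iv D37192)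
def n37920 : Q := act 6 n36498
theorem D37920 : act 6 n36498 = n37920 := rfl
theorem F175358 : act 0 n37920 = n37392 := d5_1 D37920 (iv D37392) (iv F168900)
theorem F175359 : act 1 n37920 = n36830 := d13_1 D37920 F170783 (iv F168901)
theorem F175360 : act 2 n37920 = n37920 := d20_1 D37920 (iv D37920) F168902
theorem F175361 : act 4 n37920 = n36499 := d31_1 D37920 (iv D36499) D36498
theorem F175362 : act 8 n37920 = n36501 := d40_2 (iv F168905) D37920 (iv D36501)
theorem F175363 : act 9 n37920 = n36951 := d41_2 (iv F168906) D37920 F171464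
def n37921 : Q := act 7 n36499
theorem D37921 : act 7 n36499 = n37921 := rfl
theorem F175364 : act 0 n37921 = n37393 := d6_1 D37921 (iv D37393) (iv F168907)
theorem F175365 : act 1 n37921 = n37022 := d14_1 D37921 F171773 (iv F168908)
theorem F175366 : act 2 n37921 = n37921 := d21_1 D37921 (iv D37921) F168909
theorem F175367 : act 5 n37921 = n36593 := d36_1 D37921 F169503 (iv F168910)
theorem F175368 : act 6 n37921 = n37921 := d39_1 D37921 (iv D37921) (iv D36499) F161735 D36499
theorem F175369 : act 8 n37921 = n36503 := d42_2 (iv F168911) D37921 (iv D36503)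
theorem F175370 : act 9 n37921 = n36592 := d43_2 (iv F168912) D37921 F169496
def n37922 : Q := act 2 n36500
theorem D37922 : act 2 n36500 = n37922 := rfl
theorem F175371 : act 0 n37922 = n37394 := d1_1 D37922 (iv D37394) (iv F168913)
theorem F175372 : act 1 n37922 = n37179 := d9_1 D37922 F172498 F165452 (iv F163645) (iv F168914)
theorem F175373 : act 3 n37922 = n37922 := d17_2 D36500 D37922 (iv D37922) (iv D36500) F161740
theorem F175374 : act 5 n37922 = n36507 := d19_2 (iv F168915) D37922 (iv D36507)
theorem F175375 : act 7 n37922 = n37922 := d21_2 F168916 D37922 (iv D37922)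
theorem F175376 : act 9 n37605 = n37922 := d38_0 F175374 (iv F168960) D37605
def n37923 : Q := act 6 n36500
theorem D37923 : act 6 n36500 = n37923 := rfl
theorem F175377 : act 0 n37923 = n37395 := d5_1 D37923 (iv D37395) (iv F168913)
theorem F175378 : act 1 n37923 = n36827 := d13_1 D37923 F170769 (iv F168914)
theorem F175379 : act 3 n37923 = n36501 := d26_1 D37923 (iv D36501) D36500
theorem F175380 : act 5 n37923 = n36823 := d35_1 D37923 (iv D36823) F163456 (iv F161775) (iv F168915)
def n37924 : Q := act 9 n36500
theorem D37924 : act 9 n36500 = n37924 := rfl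
theorem F175381 : act 0 n37924 = n37396 := d8_1 D37924 (iv D37396) (iv F168913)
theorem F175382 : act 1 n37924 = n36836 := d16_1 D37924 F170820 (iv F168914)
theorem F175383 : act 2 n37924 = n37605 := d23_1 D37924 F175376 (iv D37922)
theorem F175384 : act 3 n37924 = n36502 := d29_1 D37924 (iv D36502) D36500
theorem F175385 : act 5 n37924 = n36508 := d38_1 D37924 (iv D36508) (iv F168915)
theorem F175386 : act 7 n37924 = n37924 := d43_1 D37924 (iv D37924) F168916
theorem F175387 : act 8 n37924 = n37301 := d44_1 D37924 (iv D37301) (iv F172569) (iv F175357) F175356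
def n37925 : Q := act 7 n36501
theorem D37925 : act 7 n36501 = n37925 := rfl
theorem F175388 : act 0 n37925 = n37397 := d6_1 D37925 (iv D37397) (iv F168917)
theorem F175389 : act 1 n37925 = n36789 := d14_1 D37925 F170543 (iv F168918)
theorem F175390 : act 2 n37925 = n37925 := d21_1 D37925 (iv D37925) F168919
theorem F175391 : act 4 n37925 = n36503 := d32_1 D37925 (iv D36503) (iv F168920)
theorem F175392 : act 5 n37925 = n36783 := d36_1 D37925 F170511 (iv F168921)
theorem F175393 : act 6 n37925 = n37925 := d39_1 D37925 (iv D37925) (iv D36501) F161742 D36501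
def n37926 : Q := act 9 n36501
theorem D37926 : act 9 n36501 = n37926 := rfl
theorem F175394 : act 0 n37926 = n37398 := d8_1 D37926 (iv D37398) (iv F168917)
theorem F175395 : act 1 n37926 = n36809 := d16_1 D37926 F170670 (iv F168918)
theorem F175396 : act 2 n37926 = n37926 := d23_1 D37926 (iv D37926) F168919
theorem F175397 : act 4 n37926 = n36504 := d34_1 D37926 (iv D36504) (iv F168920)
theorem F175398 : act 5 n37926 = n36805 := d38_1 D37926 F170652 (iv F168921)
theorem F175399 : act 6 n37926 = n36502 := d41_1 D37926 (iv D36502) D36501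
theorem F175400 : act 8 n37926 = n37297 := d44_1 D37926 (iv D37297) (iv F171465) (iv F175363) F175362
def n37927 : Q := act 9 n36503
theorem D37927 : act 9 n36503 = n37927 := rfl
theorem F175401 : act 0 n37927 = n37399 := d8_1 D37927 (iv D37399) (iv F168929)
theorem F175402 : act 1 n37927 = n37146 := d16_1 D37927 (iv F174931) F174925
theorem F175403 : act 2 n37927 = n37927 := d23_1 D37927 (iv D37927) F168930
theorem F175404 : act 5 n37927 = n36505 := d38_1 D37927 (iv D36505) (iv F168931)
theorem F175405 : act 6 n37927 = n37927 := d41_1 D37927 (iv D37927) F168932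
theorem F175406 : act 7 n37927 = n36504 := d43_1 D37927 (iv D36504) D36503
theorem F175407 : act 8 n37927 = n37287 := d44_1 D37927 (iv D37287) (iv F169497) (iv F175370) F175369
def n37928 : Q := act 5 n36510
theorem D37928 : act 5 n36510 = n37928 := rfl
theorem F175408 : act 0 n37928 = n37403 := d4_1 D37928 (iv D37403) (iv F168978)
theorem F175409 : act 1 n37928 = n37519 := d12_1 D37928 F173810 (iv F168979)
theorem F175410 : act 2 n37928 = n37731 := d19_1 D37928 F174455 (iv F168980)
theorem F175411 : act 3 n37928 = n36511 := d25_1 D37928 (iv D36511) (iv F168981)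
theorem F175412 : act 6 n37928 = n37928 := d35_2 D36510 D37928 (iv D37928) (iv D36510) F161810
theorem F175413 : act 7 n37928 = n36515 := d36_2 (iv F168982) D37928 (iv D36515)
theorem F175414 : act 9 n37928 = n37432 := d38_2 (iv F168984) D37928 (iv D37432)
def n37929 : Q := act 8 n36511
theorem D37929 : act 8 n36511 = n37929 := rfl
theorem F175415 : act 0 n37929 = n37404 := d7_1 D37929 (iv D37404) (iv F168985)
theorem F175416 : act 1 n37929 = n37522 := d15_1 D37929 (iv D37522) (iv F168986)
theorem F175417 : act 2 n37929 = n36513 := d22_1 D37929 (iv D36513) (iv F168987)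
theorem F175418 : act 4 n37929 = n37623 := d33_1 D37929 F174161 (iv F168988)
theorem F175419 : act 5 n37929 = n37544 := d37_1 D37929 (iv D37544) F167094 (iv F161818) D36511
theorem F175420 : act 6 n37929 = n37929 := d40_1 D37929 (iv D37929) F168989
theorem F175421 : act 7 n37929 = n36517 := d42_1 D37929 (iv D36517) (iv F168990)
theorem F175422 : act 9 n37929 = n37566 := d44_2 (iv F168991) D37929 (iv D37566) (iv D36067) (iv F166653)
def n37930 : Q := act 4 n36512
theorem D37930 : act 4 n36512 = n37930 := rfl
theorem F175423 : act 0 n37930 = n37405 := d3_1 D37930 (iv D37405) (iv F168992)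
theorem F175424 : act 1 n37930 = n37625 := d11_1 D37930 F174168 (iv F168993)
theorem F175425 : act 2 n37930 = n36514 := d18_1 D37930 (iv D36514) (iv F168994)
theorem F175426 : act 5 n37930 = n37543 := d30_2 D36512 D37930 F173903 F167094 (iv F161823)
theorem F175427 : act 6 n37930 = n37930 := d31_2 F168995 D37930 (iv D37930)
theorem F175428 : act 7 n37930 = n36519 := d32_2 (iv F168996) D37930 (iv D36519)
theorem F175429 : act 8 n37930 = n37622 := d33_2 (iv F168997) D37930 F174153
theorem F175430 : act 9 n37930 = n37529 := d34_2 (iv F168998) D37930 (iv D37529)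
def n37931 : Q := act 4 n36515
theorem D37931 : act 4 n36515 = n37931 := rfl
theorem F175431 : act 0 n37931 = n37409 := d3_1 D37931 (iv D37409) (iv F169015)
theorem F175432 : act 1 n37931 = n37595 := d11_1 D37931 F174054 (iv F169016)
theorem F175433 : act 3 n37931 = n37770 := d24_1 D37931 (iv D37770) F167993 (iv F161863) (iv F169017)
theorem F175434 : act 6 n37931 = n36526 := d31_2 (iv F169018) D37931 (iv D36526)
theorem F175435 : act 9 n37931 = n37472 := d34_2 (iv F169019) D37931 (iv D37472)
def n37932 : Q := act 8 n36515
theorem D37932 : act 8 n36515 = n37932 := rfl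
theorem F175436 : act 0 n37932 = n37410 := d7_1 D37932 (iv D37410) (iv F169015)
theorem F175437 : act 1 n37932 = n37596 := d15_1 D37932 (iv D37596) (iv F169016)
theorem F175438 : act 2 n37932 = n37657 := d22_1 D37932 F174714 F174709
theorem F175439 : act 3 n37932 = n36517 := d28_1 D37932 (iv D36517) (iv F169017)
theorem F175440 : act 6 n37932 = n36527 := d40_1 D37932 (iv D36527) (iv F169018)
def n37933 : Q := act 5 n36516
theorem D37933 : act 5 n36516 = n37933 := rfl
theorem F175441 : act 0 n37933 = n37411 := d4_1 D37933 (iv D37411) (iv F169020)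
theorem F175442 : act 1 n37933 = n37563 := d12_1 D37933 F173965 (iv F169021)
theorem F175443 : act 2 n37933 = n37520 := d19_1 D37933 F173814 (iv F169022)
theorem F175444 : act 3 n37933 = n36518 := d25_1 D37933 (iv D36518) (iv F169023)
theorem F175445 : act 6 n37933 = n37933 := d35_2 (iv F169024) D37933 (iv D37933) F169024 F161857
theorem F175446 : act 7 n37933 = n37541 := d36_2 (iv F169025) D37933 F173896
theorem F175447 : act 9 n37933 = n37458 := d38_2 (iv F169026) D37933 (iv D37458)
def n37934 : Q := act 5 n36517
theorem D37934 : act 5 n36517 = n37934 := rfl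
theorem F175448 : act 0 n37934 = n37412 := d4_1 D37934 (iv D37412) (iv F169027)
theorem F175449 : act 1 n37934 = n37566 := d12_1 D37934 F173979 (iv F169028)
theorem F175450 : act 2 n37934 = n36520 := d19_1 D37934 (iv D36520) (iv F169029)
theorem F175451 : act 4 n37934 = n37626 := d30_1 D37934 F174175 F167446 D36172 (iv F169030)
theorem F175452 : act 6 n37934 = n37934 := d35_2 (iv F169031) D37934 (iv D37934) F169031 F161947
theorem F175453 : act 7 n37934 = n37544 := d36_2 F175421 D37934 (iv F175419)
theorem F175454 : act 8 n37934 = n36518 := d37_2 D36517 D37934 (iv D36518) (iv D34931) D34930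
theorem F175455 : act 9 n37522 = n37934 := d44_0 F175454 F169037 F166796 D36024 D37522
def n37935 : Q := act 9 n36517
theorem D37935 : act 9 n36517 = n37935 := rfl
theorem F175456 : act 0 n37935 = n37413 := d8_1 D37935 (iv D37413) (iv F169027)
theorem F175457 : act 1 n37935 = n37544 := d16_1 D37935 F173909 (iv F169028)
theorem F175458 : act 2 n37935 = n36521 := d23_1 D37935 (iv D36521) (iv F169029)
theorem F175459 : act 4 n37935 = n36523 := d34_1 D37935 F169074 (iv F169030)
theorem F175460 : act 5 n37935 = n37522 := d38_1 D37935 F175455 (iv D37934)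
theorem F175461 : act 6 n37935 = n36525 := d41_1 D37935 F169087 (iv F169031)
theorem F175462 : act 7 n37935 = n37566 := d43_1 D37935 (iv F175422) F175421
theorem F175463 : act 8 n37935 = n37446 := d44_1 D37935 (iv D37446) F166724 (iv F161865) D36517
def n37936 : Q := act 4 n36518
theorem D37936 : act 4 n36518 = n37936 := rfl
theorem F175464 : act 0 n37936 = n37414 := d3_1 D37936 (iv D37414) (iv F169032)
theorem F175465 : act 1 n37936 = n37565 := d11_1 D37936 F173972 (iv F169033)
theorem F175466 : act 2 n37936 = n36522 := d18_1 D37936 (iv D36522) (iv F169034)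
theorem F175467 : act 5 n37936 = n36519 := d30_2 D36518 D37936 (iv D36519) (iv D34932) (iv F161869)
theorem F175468 : act 6 n37936 = n37936 := d31_2 F169035 D37936 (iv D37936)
theorem F175469 : act 7 n37936 = n37543 := d32_2 (iv F169036) D37936 F173903
theorem F175470 : act 8 n37936 = n37626 := d33_2 F175454 D37936 (iv F175451)
theorem F175471 : act 9 n37936 = n37459 := d34_2 (iv F169037) D37936 (iv D37459)
def n37937 : Q := act 3 n36519
theorem D37937 : act 3 n36519 = n37937 := rfl
theorem F175472 : act 0 n37937 = n37415 := d2_1 D37937 (iv D37415) (iv F169038)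
theorem F175473 : act 1 n37937 = n37634 := d10_1 D37937 F174208 (iv F169039)
theorem F175474 : act 6 n37937 = n36524 := d26_2 (iv F169041) D37937 (iv D36524)
theorem F175475 : act 8 n37937 = n37632 := d28_2 (iv F169042) D37937 F174203
theorem F175476 : act 9 n37937 = n37657 := d29_2 (iv F169043) D37937 (iv D37657)
def n37938 : Q := act 2 n36524
theorem D37938 : act 2 n36524 = n37938 := rfl
theorem F175477 : act 0 n37938 = n37417 := d1_1 D37938 (iv D37417) (iv F169075)
theorem F175478 : act 1 n37938 = n37603 := d9_1 D37938 F174079 F167268 (iv F167616) (iv F169076)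
theorem F175479 : act 3 n37938 = n36525 := d17_2 D36524 D37938 (iv D36525) (iv D34940) (iv F161920)
theorem F175480 : act 5 n37938 = n37938 := d19_2 F169077 D37938 (iv D37938)
theorem F175481 : act 7 n37938 = n37938 := d21_2 F169078 D37938 (iv D37938)
theorem F175482 : act 8 n37938 = n37478 := d22_2 (iv F169079) D37938 F173668
theorem F175483 : act 9 n37938 = n36527 := d23_2 (iv F169080) D37938 F169096
def n37939 : Q := act 8 n36526
theorem D37939 : act 8 n36526 = n37939 := rfl
theorem F175484 : act 0 n37939 = n37421 := d7_1 D37939 (iv D37421) (iv F169088)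
theorem F175485 : act 1 n37939 = n37611 := d15_1 D37939 F174109 (iv F169089)
theorem F175486 : act 2 n37939 = n37779 := d22_1 D37939 (iv F174721) F174717
theorem F175487 : act 3 n37939 = n37607 := d28_1 D37939 F174097 (iv F169090)
theorem F175488 : act 4 n37939 = n36527 := d33_1 D37939 (iv D36527) D36526
theorem F175489 : act 7 n37939 = n37939 := d42_1 D37939 (iv D37939) F169092
def n37940 : Q := act 7 n36528
theorem D37940 : act 7 n36528 = n37940 := rfl
theorem F175490 : act 0 n37940 = n36910 := d6_1 D37940 F171244 (iv F169100)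
theorem F175491 : act 1 n37940 = n36531 := d14_1 D37940 (iv D36531) (iv F169101)
theorem F175492 : act 2 n37940 = n37422 := d21_1 D37940 (iv D37422) (iv F169102)
theorem F175493 : act 3 n37940 = n37668 := d27_1 D37940 F174299 F169107
theorem F175494 : act 4 n37940 = n36529 := d32_1 D37940 (iv D36529) D36528
theorem F175495 : act 5 n37940 = n36848 := d36_1 D37940 F170895 (iv F169103)
theorem F175496 : act 8 n37940 = n37441 := d42_2 (iv F169105) D37940 F173500
theorem F175497 : act 9 n37940 = n37303 := d43_2 (iv F169106) D37940 (iv D37303)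
def n37941 : Q := act 6 n36529
theorem D37941 : act 6 n36529 = n37941 := rfl
theorem F175498 : act 0 n37941 = n37212 := d5_1 D37941 (iv D37212) (iv F169108)
theorem F175499 : act 1 n37941 = n36532 := d13_1 D37941 (iv D36532) (iv F169109)
theorem F175500 : act 2 n37941 = n37423 := d20_1 D37941 (iv D37423) (iv F169110)
theorem F175501 : act 3 n37941 = n37941 := d26_1 D37941 (iv D37941) F169111
theorem F175502 : act 5 n37941 = n36983 := d35_1 D37941 (iv D36983) F164382 (iv F161979) (iv F169112)
theorem F175503 : act 7 n37941 = n37663 := d39_2 D36529 D37941 (iv D37663) (iv D36209) (iv F161971)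
theorem F175504 : act 8 n37941 = n37475 := d40_2 (iv F169113) D37941 (iv D37475)
theorem F175505 : act 9 n37941 = n37304 := d41_2 (iv F169114) D37941 (iv D37304)
def n37942 : Q := act 7 n36530
theorem D37942 : act 7 n36530 = n37942 := rfl
theorem F175506 : act 0 n37942 = n36552 := d6_1 D37942 (iv D36552) (iv F169115)
theorem F175507 : act 1 n37942 = n37668 := d14_1 D37942 F174299 (iv F169116)
theorem F175508 : act 2 n37942 = n36879 := d21_1 D37942 (iv D36879) (iv F169117)
theorem F175509 : act 3 n37942 = n36531 := d27_1 D37942 (iv D36531) D36530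
theorem F175510 : act 4 n37942 = n37942 := d32_1 D37942 (iv D37942) F169118
theorem F175511 : act 5 n37942 = n36659 := d36_1 D37942 F169874 (iv F169119)
theorem F175512 : act 8 n37942 = n37526 := d42_2 (iv F169121) D37942 F173845
theorem F175513 : act 9 n37942 = n37305 := d43_2 (iv F169122) D37942 (iv D37305)
def n37943 : Q := act 6 n36531
theorem D37943 : act 6 n36531 = n37943 := rfl
theorem F175514 : act 0 n37943 = n36554 := d5_1 D37943 (iv D36554) (iv F169123)
theorem F175515 : act 2 n37943 = n36533 := d20_1 D37943 (iv D36533) (iv F169124)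
theorem F175516 : act 4 n37943 = n36532 := d31_1 D37943 (iv D36532) (iv F169125)
theorem F175517 : act 7 n37943 = n37665 := d39_2 D36531 D37943 (iv D37665) (iv D36211) (iv F161985)
theorem F175518 : act 8 n37943 = n37538 := d40_2 (iv F169127) D37943 (iv D37538)
theorem F175519 : act 9 n37943 = n37307 := d41_2 (iv F169128) D37943 (iv D37307)
def n37944 : Q := act 5 n36533
theorem D37944 : act 5 n36533 = n37944 := rfl
theorem F175520 : act 0 n37944 = n36559 := d4_1 D37944 (iv D36559) (iv F169136)
theorem F175521 : act 1 n37944 = n37425 := d12_1 D37944 (iv D37425) (iv F169137)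
theorem F175522 : act 3 n37944 = n36883 := d25_1 D37944 (iv D36883) (iv F169138)
theorem F175523 : act 4 n37944 = n36992 := d30_1 D37944 (iv D36992) F164412 (iv F162011) (iv F169139)
theorem F175524 : act 6 n37944 = n37003 := d35_2 D36533 D37944 (iv D37003) (iv D35420) (iv F161998)
theorem F175525 : act 7 n37944 = n37666 := d36_2 (iv F169140) D37944 (iv D37666)
theorem F175526 : act 9 n37944 = n37313 := d38_2 (iv F169141) D37944 (iv D37313)
def n37945 : Q := act 8 n36533
theorem D37945 : act 8 n36533 = n37945 := rfl
theorem F175527 : act 0 n37945 = n36560 := d7_1 D37945 (iv D36560) (iv F169136)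
theorem F175528 : act 1 n37945 = n37063 := d15_1 D37945 F171952 (iv F169137)
theorem F175529 : act 2 n37945 = n37538 := d22_1 D37945 (iv F175518) F175515
theorem F175530 : act 3 n37945 = n36884 := d28_1 D37945 (iv D36884) (iv F169138)
theorem F175531 : act 4 n37945 = n36535 := d33_1 D37945 (iv D36535) (iv F169139)
theorem F175532 : act 6 n37945 = n36534 := d40_1 D37945 (iv D36534) D36533
theorem F175533 : act 7 n37945 = n37667 := d42_1 D37945 (iv D37667) (iv F169140)
theorem F175534 : act 9 n37342 = n37945 := d41_0 F175532 (iv F169149) D37342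
def n37946 : Q := act 5 n36535
theorem D37946 : act 5 n36535 = n37946 := rfl
theorem F175535 : act 0 n37946 = n36564 := d4_1 D37946 (iv D36564) (iv F169150)
theorem F175536 : act 1 n37946 = n37147 := d12_1 D37946 (iv D37147) (iv F169151)
theorem F175537 : act 2 n37946 = n37599 := d19_1 D37946 F174067 (iv F169152)
theorem F175538 : act 3 n37946 = n36536 := d25_1 D37946 (iv D36536) (iv F169153)
theorem F175539 : act 6 n37946 = n36537 := d35_2 (iv F169154) D37946 (iv D36537) F162033 (iv F162018)
theorem F175540 : act 7 n37946 = n37669 := d36_2 (iv F169155) D37946 (iv D37669)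
theorem F175541 : act 8 n37946 = n36998 := d37_2 D36535 D37946 (iv D36998) (iv D35414) (iv F162011)
theorem F175542 : act 9 n37946 = n37407 := d38_2 F169156 D37946 (iv D37407)
def n37947 : Q := act 4 n36537
theorem D37947 : act 4 n36537 = n37947 := rfl
theorem F175543 : act 0 n37947 = n36573 := d3_1 D37947 (iv D36573) (iv F169165)
theorem F175544 : act 1 n37947 = n37174 := d11_1 D37947 (iv D37174) (iv F169166)
theorem F175545 : act 2 n37947 = n37598 := d18_1 D37947 (iv D37598) (iv F169167)
theorem F175546 : act 3 n37947 = n37180 := d24_1 D37947 (iv D37180) F165453 (iv F162039) (iv F169168)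
theorem F175547 : act 5 n37947 = n37597 := d30_2 D36537 D37947 (iv D37597) (iv D36099) (iv F162032)
theorem F175548 : act 7 n37947 = n37947 := d32_2 F169169 D37947 (iv D37947)
theorem F175549 : act 8 n37947 = n37223 := d33_2 (iv F169170) D37947 (iv D37223)
theorem F175550 : act 9 n37947 = n37419 := d34_2 (iv F169171) D37947 (iv D37419)
def n37948 : Q := act 7 n36538
theorem D37948 : act 7 n36538 = n37948 := rfl
theorem F175551 : act 0 n37948 = n37664 := d6_1 D37948 (iv D37664) (iv F169172)
theorem F175552 : act 1 n37948 = n37516 := d14_1 D37948 (iv D37516) (iv F169173)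
theorem F175553 : act 2 n37948 = n36900 := d21_1 D37948 (iv D36900) (iv F169174)
theorem F175554 : act 3 n37948 = n36539 := d27_1 D37948 (iv D36539) D36538
theorem F175555 : act 4 n37948 = n37948 := d32_1 D37948 (iv D37948) F169175
theorem F175556 : act 5 n37948 = n37005 := d36_1 D37948 (iv D37005) (iv F169176)
theorem F175557 : act 9 n37948 = n36985 := d43_2 (iv F169178) D37948 (iv D36985)
def n37949 : Q := act 8 n36538
theorem D37949 : act 8 n36538 = n37949 := rfl
theorem F175558 : act 0 n37949 = n37527 := d7_1 D37949 F173850 (iv F169172)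
theorem F175559 : act 1 n37949 = n37492 := d15_1 D37949 F173713 (iv F169173)
theorem F175560 : act 2 n37949 = n36901 := d22_1 D37949 (iv D36901) (iv F169174)
theorem F175561 : act 3 n37949 = n36540 := d28_1 D37949 (iv D36540) D36538
theorem F175562 : act 4 n37949 = n37949 := d33_1 D37949 (iv D37949) F169175
theorem F175563 : act 6 n37949 = n36553 := d40_1 D37949 (iv D36553) (iv F169177)
theorem F175564 : act 5 n37356 = n37949 := d35_5 F175563 F169266 F162565 (iv F166326) (iv F173212)
theorem F175565 : act 9 n37332 = n37949 := d41_0 F175563 (iv F169267) D37332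
def n37950 : Q := act 6 n36539
theorem D37950 : act 6 n36539 = n37950 := rfl
theorem F175566 : act 0 n37950 = n37665 := d5_1 D37950 (iv D37665) (iv F169179)
theorem F175567 : act 1 n37950 = n37723 := d13_1 D37950 F174440 (iv F169180)
theorem F175568 : act 2 n37950 = n36544 := d20_1 D37950 (iv D36544) (iv F169181)
theorem F175569 : act 4 n37950 = n36541 := d31_1 D37950 (iv D36541) (iv F169182)
theorem F175570 : act 7 n37950 = n36554 := d39_2 D36539 D37950 (iv D36554) (iv D34968) (iv F162047)
theorem F175571 : act 9 n37950 = n36987 := d41_2 (iv F169184) D37950 (iv D36987)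
def n37951 : Q := act 8 n36539
theorem D37951 : act 8 n36539 = n37951 := rfl
theorem F175572 : act 0 n37951 = n37539 := d7_1 D37951 F173891 (iv F169179)
theorem F175573 : act 1 n37951 = n37685 := d15_1 D37951 F174339 (iv F169180)
theorem F175574 : act 2 n37951 = n36545 := d22_1 D37951 (iv D36545) (iv F169181)
theorem F175575 : act 4 n37951 = n36542 := d33_1 D37951 (iv D36542) (iv F169182)
theorem F175576 : act 7 n37951 = n36540 := d42_1 D37951 (iv D36540) D36539
def n37952 : Q := act 5 n36540
theorem D37952 : act 5 n36540 = n37952 := rfl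
theorem F175577 : act 0 n37952 = n37457 := d4_1 D37952 F173589 (iv F169185)
theorem F175578 : act 1 n37952 = n37317 := d12_1 D37952 F173084 (iv F169186)
theorem F175579 : act 2 n37952 = n36546 := d19_1 D37952 (iv D36546) (iv F169187)
theorem F175580 : act 3 n37952 = n37356 := d25_1 D37952 F175564 F175561
theorem F175581 : act 4 n37952 = n37952 := d30_1 D37952 (iv D37952) F169188 F162059 (iv F169188)
theorem F175582 : act 6 n37952 = n36599 := d35_2 (iv F169189) D37952 (iv D36599) F162347 (iv F162114)
theorem F175583 : act 8 n37952 = n37009 := d37_2 D36540 D37952 (iv D37009) (iv D35425) (iv F162046)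
theorem F175584 : act 9 n37349 = n37952 := d41_0 F175582 F169542 D37349
def n37953 : Q := act 9 n36540
theorem D37953 : act 9 n36540 = n37953 := rfl
theorem F175585 : act 0 n37953 = n37322 := d8_1 D37953 F173105 (iv F169185)
theorem F175586 : act 1 n37953 = n37686 := d16_1 D37953 (iv D37686) (iv F169186)
theorem F175587 : act 2 n37953 = n36547 := d23_1 D37953 (iv D36547) (iv F169187)
theorem F175588 : act 3 n37953 = n37332 := d29_1 D37953 F175565 F175561
theorem F175589 : act 4 n37953 = n36543 := d34_1 D37953 (iv D36543) (iv F169188)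
theorem F175590 : act 5 n37953 = n37349 := d38_1 D37953 F175584 (iv D37952)
theorem F175591 : act 6 n37953 = n36556 := d41_1 D37953 (iv D36556) (iv F169189)
theorem F175592 : act 8 n37953 = n36989 := d44_1 D37953 (iv D36989) (iv D35406) (iv F162048) D36540
def n37954 : Q := act 8 n36541
theorem D37954 : act 8 n36541 = n37954 := rfl
theorem F175593 : act 0 n37954 = n37600 := d7_1 D37954 F174071 (iv F169190)
theorem F175594 : act 1 n37954 = n37794 := d15_1 D37954 F174589 (iv F169191)
theorem F175595 : act 2 n37954 = n36548 := d22_1 D37954 (iv D36548) (iv F169192)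
theorem F175596 : act 3 n37954 = n37954 := d28_1 D37954 (iv D37954) F169193
theorem F175597 : act 6 n37954 = n36542 := d40_1 D37954 (iv D36542) D36541
theorem F175598 : act 7 n37954 = n36557 := d42_1 D37954 (iv D36557) (iv F169195)
def n37955 : Q := act 9 n36542
theorem D37955 : act 9 n36542 = n37955 := rfl
theorem F175599 : act 0 n37955 = n37400 := d8_1 D37955 F173338 (iv F169197)
theorem F175600 : act 1 n37955 = n37797 := d16_1 D37955 (iv D37797) (iv F169198)
theorem F175601 : act 2 n37955 = n36549 := d23_1 D37955 (iv D36549) (iv F169199)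
theorem F175602 : act 3 n37955 = n37955 := d29_1 D37955 (iv D37955) F169200
theorem F175603 : act 5 n37955 = n37955 := d38_1 D37955 (iv D37955) F169201
theorem F175604 : act 7 n37955 = n36543 := d43_1 D37955 (iv D36543) (iv F169202)
theorem F175605 : act 8 n37955 = n36991 := d44_1 D37955 (iv D36991) (iv D35408) (iv F162054) D36542
def n37956 : Q := act 5 n36544
theorem D37956 : act 5 n36544 = n37956 := rfl
theorem F175606 : act 0 n37956 = n37666 := d4_1 D37956 (iv D37666) (iv F169210)
theorem F175607 : act 1 n37956 = n36637 := d12_1 D37956 (iv D36637) (iv F169211)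
theorem F175608 : act 3 n37956 = n36908 := d25_1 D37956 (iv D36908) (iv F169212)
theorem F175609 : act 4 n37956 = n37313 := d30_1 D37956 (iv D37313) F166200 (iv F162075) (iv F169213)
theorem F175610 : act 6 n37956 = n37013 := d35_2 D36544 D37956 (iv D37013) (iv D35429) (iv F162065)
theorem F175611 : act 7 n37956 = n36559 := d36_2 (iv F169214) D37956 (iv D36559)
theorem F175612 : act 9 n37956 = n36992 := d38_2 (iv F169215) D37956 (iv D36992)
def n37957 : Q := act 8 n36544
theorem D37957 : act 8 n36544 = n37957 := rfl
theorem F175613 : act 0 n37957 = n37667 := d7_1 D37957 (iv D37667) (iv F169210)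
theorem F175614 : act 1 n37957 = n36638 := d15_1 D37957 (iv D36638) (iv F169211)
theorem F175615 : act 3 n37957 = n36909 := d28_1 D37957 (iv D36909) (iv F169212)
theorem F175616 : act 4 n37957 = n36548 := d33_1 D37957 (iv D36548) (iv F169213)
theorem F175617 : act 6 n37957 = n36545 := d40_1 D37957 (iv D36545) D36544
theorem F175618 : act 7 n37957 = n36560 := d42_1 D37957 (iv D36560) (iv F169214)
def n37958 : Q := act 5 n36545
theorem D37958 : act 5 n36545 = n37958 := rfl
theorem F175619 : act 0 n37958 = n37668 := d4_1 D37958 (iv D37668) (iv F169216)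
theorem F175620 : act 1 n37958 = n36639 := d12_1 D37958 (iv D36639) (iv F169217)
theorem F175621 : act 3 n37958 = n36910 := d25_1 D37958 (iv D36910) (iv F169218)
theorem F175622 : act 4 n37958 = n37958 := d30_1 D37958 (iv D37958) F169219 F162081 (iv F169219)
theorem F175623 : act 7 n37958 = n36546 := d36_2 (iv F169220) D37958 (iv D36546)
theorem F175624 : act 8 n37958 = n37015 := d37_2 D36545 D37958 (iv D37015) (iv D35430) (iv F162065)
def n37959 : Q := act 9 n36545
theorem D37959 : act 9 n36545 = n37959 := rfl
theorem F175625 : act 0 n37959 = n37323 := d8_1 D37959 F173110 (iv F169216)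
theorem F175626 : act 1 n37959 = n36640 := d16_1 D37959 (iv D36640) (iv F169217)
theorem F175627 : act 3 n37959 = n36911 := d29_1 D37959 (iv D36911) (iv F169218)
theorem F175628 : act 4 n37959 = n36549 := d34_1 D37959 (iv D36549) (iv F169219)
theorem F175629 : act 7 n37959 = n36547 := d43_1 D37959 (iv D36547) (iv F169220)
theorem F175630 : act 8 n37959 = n36995 := d44_1 D37959 (iv D36995) (iv D35411) (iv F162066) D36545
def n37960 : Q := act 6 n36546
theorem D37960 : act 6 n36546 = n37960 := rfl
theorem F175631 : act 0 n37960 = n37452 := d5_1 D37960 F173562 (iv F169221)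
theorem F175632 : act 1 n37960 = n36641 := d13_1 D37960 (iv D36641) (iv F169222)
theorem F175633 : act 2 n37960 = n36599 := d20_1 D37960 (iv F175582) F175579
theorem F175634 : act 3 n37960 = n36912 := d26_1 D37960 (iv D36912) (iv F169223)
theorem F175635 : act 4 n37960 = n37960 := d31_1 D37960 (iv D37960) F169224
theorem F175636 : act 5 n37960 = n36563 := d35_1 D37960 (iv D36563) (iv D34975) (iv F162071) D36546
theorem F175637 : act 8 n37960 = n37017 := d40_2 (iv F169225) D37960 (iv D37017)
theorem F175638 : act 9 n37232 = n37960 := d38_0 F175636 F169322 (iv F172788)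
def n37961 : Q := act 9 n36546
theorem D37961 : act 9 n36546 = n37961 := rfl
theorem F175639 : act 0 n37961 = n37302 := d8_1 D37961 F173034 (iv F169221)
theorem F175640 : act 1 n37961 = n36642 := d16_1 D37961 (iv D36642) (iv F169222)
theorem F175641 : act 2 n37961 = n37349 := d23_1 D37961 F175584 F175579
theorem F175642 : act 3 n37961 = n36913 := d29_1 D37961 (iv D36913) (iv F169223)
theorem F175643 : act 4 n37961 = n37961 := d34_1 D37961 (iv D37961) F169224
theorem F175644 : act 5 n37961 = n36547 := d38_1 D37961 (iv D36547) D36546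
theorem F175645 : act 6 n37961 = n37232 := d41_1 D37961 F175638 (iv D37960)
theorem F175646 : act 8 n37580 = n37961 := d40_0 F175645 F172789 D37580
def n37962 : Q := act 5 n36548
theorem D37962 : act 5 n36548 = n37962 := rfl
theorem F175647 : act 0 n37962 = n37669 := d4_1 D37962 (iv D37669) (iv F169232)
theorem F175648 : act 1 n37962 = n36643 := d12_1 D37962 (iv D36643) (iv F169233)
theorem F175649 : act 3 n37962 = n36550 := d25_1 D37962 (iv D36550) (iv F169234)
theorem F175650 : act 6 n37962 = n37962 := d35_2 (iv F169235) D37962 (iv D37962) F169235 F162081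
theorem F175651 : act 7 n37962 = n36564 := d36_2 (iv F169236) D37962 (iv D36564)
theorem F175652 : act 8 n37962 = n37318 := d37_2 D36548 D37962 (iv D37318) (iv D35806) (iv F162075)
def n37963 : Q := act 9 n36548
theorem D37963 : act 9 n36548 = n37963 := rfl
theorem F175653 : act 0 n37963 = n37401 := d8_1 D37963 F173343 (iv F169232)
theorem F175654 : act 1 n37963 = n36644 := d16_1 D37963 (iv D36644) (iv F169233)
theorem F175655 : act 3 n37963 = n36551 := d29_1 D37963 (iv D36551) (iv F169234)
theorem F175656 : act 6 n37963 = n36549 := d41_1 D37963 (iv D36549) (iv F169235)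
theorem F175657 : act 7 n37963 = n36565 := d43_1 D37963 (iv D36565) (iv F169236)
theorem F175658 : act 8 n37963 = n36999 := d44_1 D37963 (iv D36999) (iv D35414) (iv F162077) D36548
def n37964 : Q := act 4 n36550
theorem D37964 : act 4 n36550 = n37964 := rfl
theorem F175659 : act 0 n37964 = n37134 := d3_1 D37964 F172256 (iv F169243)
theorem F175660 : act 1 n37964 = n36645 := d11_1 D37964 (iv D36645) (iv F169244)
theorem F175661 : act 2 n37964 = n37964 := d18_1 D37964 (iv D37964) F169245
theorem F175662 : act 5 n37964 = n36763 := d30_2 D36550 D37964 F170377 (iv D35331) (iv F162092)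
theorem F175663 : act 6 n37964 = n37964 := d31_2 F169246 D37964 (iv D37964)
theorem F175664 : act 7 n37964 = n36566 := d32_2 (iv F169247) D37964 (iv D36566)
theorem F175665 : act 8 n37964 = n37320 := d33_2 (iv F169248) D37964 (iv D37320)
theorem F175666 : act 9 n36762 = n37964 := d43_0 F175664 (iv F169337) D36762
def n37965 : Q := act 9 n36550
theorem D37965 : act 9 n36550 = n37965 := rfl
theorem F175667 : act 0 n37965 = n37402 := d8_1 D37965 F173349 (iv F169243)
theorem F175668 : act 1 n37965 = n36646 := d16_1 D37965 (iv D36646) (iv F169244)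
theorem F175669 : act 2 n37965 = n37965 := d23_1 D37965 (iv D37965) F169245
theorem F175670 : act 4 n37965 = n36762 := d34_1 D37965 F175666 (iv D37964)
theorem F175671 : act 5 n37965 = n36551 := d38_1 D37965 (iv D36551) D36550
theorem F175672 : act 6 n37965 = n37965 := d41_1 D37965 (iv D37965) F169246
theorem F175673 : act 7 n37965 = n36567 := d43_1 D37965 (iv D36567) (iv F169247)
def n37966 : Q := act 6 n36552
theorem D37966 : act 6 n36552 = n37966 := rfl
theorem F175674 : act 1 n37966 = n37514 := d13_1 D37966 (iv D37514) (iv F169256)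
theorem F175675 : act 2 n37966 = n36961 := d20_1 D37966 (iv D36961) (iv F169257)
theorem F175676 : act 3 n37966 = n36554 := d26_1 D37966 (iv D36554) (iv F169258)
theorem F175677 : act 4 n37966 = n37966 := d31_1 D37966 (iv D37966) F169259
def n37967 : Q := act 8 n36552
theorem D37967 : act 8 n36552 = n37967 := rfl
theorem F175678 : act 0 n37967 = n37526 := d7_1 D37967 (iv F175512) F175506
theorem F175679 : act 1 n37967 = n37491 := d15_1 D37967 F173710 (iv F169256)
theorem F175680 : act 2 n37967 = n36962 := d22_1 D37967 (iv D36962) (iv F169257)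
theorem F175681 : act 3 n37967 = n36555 := d28_1 D37967 (iv D36555) (iv F169258)
theorem F175682 : act 4 n37967 = n37967 := d33_1 D37967 (iv D37967) F169259
theorem F175683 : act 5 n37967 = n36652 := d37_1 D37967 (iv D36652) F162558 D35933 (iv F169260)
theorem F175684 : act 7 n37967 = n36553 := d42_1 D37967 (iv D36553) D36552
theorem F175685 : act 9 n37331 = n37967 := d43_0 F175684 (iv F169267) (iv F173139)
def n37968 : Q := act 5 n36554
theorem D37968 : act 5 n36554 = n37968 := rfl
theorem F175686 : act 1 n37968 = n37721 := d12_1 D37968 F174436 (iv F169268)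
theorem F175687 : act 2 n37968 = n36559 := d19_1 D37968 (iv D36559) (iv F169269)
theorem F175688 : act 4 n37968 = n37675 := d30_1 D37968 (iv D37675) F167731 (iv F162118) (iv F169270)
theorem F175689 : act 6 n37968 = n37644 := d35_2 D36554 D37968 (iv D37644) F167634 (iv F162109)
def n37969 : Q := act 8 n36554
theorem D37969 : act 8 n36554 = n37969 := rfl
theorem F175690 : act 0 n37969 = n37538 := d7_1 D37969 (iv F175518) F175514
theorem F175691 : act 1 n37969 = n37683 := d15_1 D37969 F174334 (iv F169268)
theorem F175692 : act 2 n37969 = n36560 := d22_1 D37969 (iv D36560) (iv F169269)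
theorem F175693 : act 4 n37969 = n36557 := d33_1 D37969 (iv D36557) (iv F169270)
theorem F175694 : act 6 n37969 = n36555 := d40_1 D37969 (iv D36555) D36554
def n37970 : Q := act 9 n36555
theorem D37970 : act 9 n36555 = n37970 := rfl
theorem F175695 : act 0 n37970 = n37341 := d8_1 D37970 F173164 (iv F169271)
theorem F175696 : act 1 n37970 = n37684 := d16_1 D37970 (iv D37684) (iv F169272)
theorem F175697 : act 2 n37970 = n36562 := d23_1 D37970 (iv D36562) (iv F169273)
theorem F175698 : act 3 n37970 = n37331 := d29_1 D37970 F175685 F175681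
theorem F175699 : act 4 n37970 = n36558 := d34_1 D37970 (iv D36558) (iv F169274)
theorem F175700 : act 5 n37970 = n36665 := d38_1 D37970 (iv D36665) (iv F169275)
theorem F175701 : act 7 n37970 = n36556 := d43_1 D37970 (iv D36556) (iv F169276)
def n37971 : Q := act 5 n36557
theorem D37971 : act 5 n36557 = n37971 := rfl
theorem F175702 : act 0 n37971 = n37599 := d4_1 D37971 F174067 (iv F169283)
theorem F175703 : act 1 n37971 = n37792 := d12_1 D37971 F174583 (iv F169284)
theorem F175704 : act 2 n37971 = n36564 := d19_1 D37971 (iv D36564) (iv F169285)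
theorem F175705 : act 3 n37971 = n37971 := d25_1 D37971 (iv D37971) F169286
theorem F175706 : act 6 n37971 = n36568 := d35_2 (iv F169287) D37971 (iv D36568) F162171 (iv F162123)
theorem F175707 : act 8 n37971 = n37678 := d37_2 D36557 D37971 (iv D37678) (iv D36226) (iv F162118)
def n37972 : Q := act 9 n36557
theorem D37972 : act 9 n36557 = n37972 := rfl
theorem F175708 : act 0 n37972 = n37406 := d8_1 D37972 F173361 (iv F169283)
theorem F175709 : act 1 n37972 = n37795 := d16_1 D37972 (iv D37795) (iv F169284)
theorem F175710 : act 2 n37972 = n36565 := d23_1 D37972 (iv D36565) (iv F169285)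
theorem F175711 : act 3 n37972 = n37972 := d29_1 D37972 (iv D37972) F169286
theorem F175712 : act 6 n37972 = n36558 := d41_1 D37972 (iv D36558) (iv F169287)
def n37973 : Q := act 8 n36559
theorem D37973 : act 8 n36559 = n37973 := rfl
theorem F175713 : act 1 n37973 = n36723 := d15_1 D37973 (iv D36723) (iv F169294)
theorem F175714 : act 3 n37973 = n36968 := d28_1 D37973 (iv D36968) (iv F169295)
theorem F175715 : act 4 n37973 = n37680 := d33_1 D37973 (iv D37680) (iv F169296)
theorem F175716 : act 6 n37973 = n37693 := d40_1 D37973 (iv D37693) (iv F169297)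
def n37974 : Q := act 5 n36560
theorem D37974 : act 5 n36560 = n37974 := rfl
theorem F175717 : act 1 n37974 = n36724 := d12_1 D37974 (iv D36724) (iv F169298)
theorem F175718 : act 3 n37974 = n36969 := d25_1 D37974 (iv D36969) (iv F169299)
def n37975 : Q := act 9 n36560
theorem D37975 : act 9 n36560 = n37975 := rfl
theorem F175719 : act 0 n37975 = n37342 := d8_1 D37975 F175534 F175527
theorem F175720 : act 1 n37975 = n36725 := d16_1 D37975 (iv D36725) (iv F169298)
theorem F175721 : act 3 n37975 = n36970 := d29_1 D37975 (iv D36970) (iv F169299)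
theorem F175722 : act 4 n37975 = n36565 := d34_1 D37975 (iv D36565) (iv F169300)
theorem F175723 : act 6 n37975 = n36562 := d41_1 D37975 (iv D36562) (iv F169301)
def n37976 : Q := act 6 n36561
theorem D37976 : act 6 n36561 = n37976 := rfl
theorem F175724 : act 0 n37976 = n37533 := d5_1 D37976 F173876 (iv F169302)
theorem F175725 : act 1 n37976 = n36726 := d13_1 D37976 (iv D36726) (iv F169303)
theorem F175726 : act 2 n37976 = n36664 := d20_1 D37976 F169900 (iv F169304)
theorem F175727 : act 3 n37976 = n36971 := d26_1 D37976 (iv D36971) (iv F169305)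
theorem F175728 : act 4 n37976 = n36571 := d31_1 D37976 (iv D36571) (iv F169306)
theorem F175729 : act 8 n37976 = n36662 := d40_2 (iv F169308) D37976 (iv D36662)
theorem F175730 : act 9 n37976 = n37118 := d41_2 F169309 D37976 F172167
def n37977 : Q := act 7 n36563
theorem D37977 : act 7 n36563 = n37977 := rfl
theorem F175731 : act 0 n37977 = n37451 := d6_1 D37977 F173556 (iv F169316)
theorem F175732 : act 1 n37977 = n36728 := d14_1 D37977 (iv D36728) (iv F169317)
theorem F175733 : act 2 n37977 = n36598 := d21_1 D37977 F169535 (iv F169318)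
theorem F175734 : act 3 n37977 = n36972 := d27_1 D37977 (iv D36972) (iv F169319)
theorem F175735 : act 4 n37977 = n36572 := d32_1 D37977 (iv D36572) (iv F169320)
theorem F175736 : act 8 n37977 = n36595 := d42_2 (iv F169321) D37977 (iv D36595)
theorem F175737 : act 9 n37977 = n37231 := d43_2 (iv F169322) D37977 F172783
def n37978 : Q := act 4 n36564
theorem D37978 : act 4 n36564 = n37978 := rfl
theorem F175738 : act 1 n37978 = n36731 := d11_1 D37978 (iv D36731) (iv F169323)
theorem F175739 : act 6 n37978 = n36573 := d31_2 (iv F169325) D37978 (iv D36573)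
theorem F175740 : act 8 n37978 = n37688 := d33_2 (iv F169326) D37978 (iv D37688)
def n37979 : Q := act 9 n36564
theorem D37979 : act 9 n36564 = n37979 := rfl
theorem F175741 : act 0 n37979 = n37407 := d8_1 D37979 (iv F175542) F175535
theorem F175742 : act 1 n37979 = n36732 := d16_1 D37979 (iv D36732) (iv F169323)
theorem F175743 : act 3 n37979 = n36567 := d29_1 D37979 (iv D36567) (iv F169324)
theorem F175744 : act 5 n37979 = n36565 := d38_1 D37979 (iv D36565) D36564
theorem F175745 : act 6 n37979 = n36574 := d41_1 D37979 (iv D36574) (iv F169325)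
def n37980 : Q := act 3 n36566
theorem D37980 : act 3 n36566 = n37980 := rfl
theorem F175746 : act 0 n37980 = n37159 := d2_1 D37980 F172394 (iv F169331)
theorem F175747 : act 1 n37980 = n36733 := d10_1 D37980 (iv D36733) (iv F169332)
theorem F175748 : act 5 n37980 = n36754 := d25_2 (iv F169334) D37980 F170335
theorem F175749 : act 6 n37980 = n36575 := d26_2 (iv F169335) D37980 (iv D36575)
theorem F175750 : act 8 n37980 = n37690 := d28_2 (iv F169336) D37980 (iv D37690)
theorem F175751 : act 9 n37980 = n36752 := d29_2 F169337 D37980 F170328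
def n37981 : Q := act 8 n36567
theorem D37981 : act 8 n36567 = n37981 := rfl
theorem F175752 : act 0 n37981 = n37408 := d7_1 D37981 (iv D37408) (iv F169338)
theorem F175753 : act 1 n37981 = n36734 := d15_1 D37981 (iv D36734) (iv F169339)
theorem F175754 : act 2 n37981 = n37981 := d22_1 D37981 (iv D37981) F169340
theorem F175755 : act 4 n37981 = n36760 := d33_1 D37981 F170362 (iv F169341)
theorem F175756 : act 6 n37981 = n36576 := d40_1 D37981 (iv D36576) (iv F169343)
theorem F175757 : act 9 n37981 = n37692 := d44_2 D36567 D37981 (iv D37692) (iv D36237) (iv F162160)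
def n37982 : Q := act 4 n36568
theorem D37982 : act 4 n36568 = n37982 := rfl
theorem F175758 : act 0 n37982 = n37598 := d3_1 D37982 (iv D37598) (iv F169344)
theorem F175759 : act 1 n37982 = n37791 := d11_1 D37982 (iv D37791) (iv F169345)
theorem F175760 : act 2 n37982 = n36573 := d18_1 D37982 (iv D36573) (iv F169346)
theorem F175761 : act 5 n37982 = n36735 := d30_2 D36568 D37982 (iv D36735) (iv D35117) (iv F162170)
theorem F175762 : act 7 n37982 = n37982 := d32_2 F169348 D37982 (iv D37982)
theorem F175763 : act 8 n37982 = n37789 := d33_2 (iv F169349) D37982 (iv D37789)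
def n37983 : Q := act 9 n36568
theorem D37983 : act 9 n36568 = n37983 := rfl
theorem F175764 : act 0 n37983 = n37418 := d8_1 D37983 F173394 (iv F169344)
theorem F175765 : act 1 n37983 = n37793 := d16_1 D37983 (iv D37793) (iv F169345)
theorem F175766 : act 2 n37983 = n36574 := d23_1 D37983 (iv D36574) (iv F169346)
theorem F175767 : act 3 n37983 = n37983 := d29_1 D37983 (iv D37983) F169347
theorem F175768 : act 5 n37983 = n36569 := d38_1 D37983 (iv D36569) D36568
theorem F175769 : act 7 n37983 = n37983 := d43_1 D37983 (iv D37983) F169348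
def n37984 : Q := act 4 n36570
theorem D37984 : act 4 n36570 = n37984 := rfl
theorem F175770 : act 0 n37984 = n37597 := d3_1 D37984 (iv D37597) (iv F169358)
theorem F175771 : act 1 n37984 = n36751 := d11_1 D37984 (iv D36751) (iv F169359)
theorem F175772 : act 2 n37984 = n36735 := d18_1 D37984 (iv D36735) (iv F169360)
theorem F175773 : act 3 n37984 = n36758 := d24_1 D37984 F170352 F162988 (iv F162229) (iv F169361)
theorem F175774 : act 5 n37984 = n36573 := d30_2 D36570 D37984 (iv D36573) (iv D34986) (iv F162184)
theorem F175775 : act 7 n37984 = n37984 := d32_2 F169362 D37984 (iv D37984)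
theorem F175776 : act 8 n37984 = n36749 := d33_2 (iv F169363) D37984 (iv D36749)
theorem F175777 : act 9 n37984 = n36757 := d34_2 (iv F169364) D37984 F170349
def n37985 : Q := act 6 n36570
theorem D37985 : act 6 n36570 = n37985 := rfl
theorem F175778 : act 0 n37985 = n37534 := d5_1 D37985 F173881 (iv F169358)
theorem F175779 : act 1 n37985 = n36752 := d13_1 D37985 (iv D36752) (iv F169359)
theorem F175780 : act 2 n37985 = n36666 := d20_1 D37985 F169911 (iv F169360)
theorem F175781 : act 3 n37985 = n36577 := d26_1 D37985 (iv D36577) (iv F169361)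
theorem F175782 : act 5 n37985 = n36571 := d35_1 D37985 (iv D36571) (iv D34984) (iv F162185) D36570
theorem F175783 : act 8 n37985 = n36721 := d40_2 (iv F169363) D37985 F170179
theorem F175784 : act 9 n37985 = n36733 := d41_2 (iv F169364) D37985 F170223
def n37986 : Q := act 7 n36571
theorem D37986 : act 7 n36571 = n37986 := rfl
theorem F175785 : act 0 n37986 = n37453 := d6_1 D37986 F173569 (iv F169365)
theorem F175786 : act 1 n37986 = n36753 := d14_1 D37986 (iv D36753) (iv F169366)
theorem F175787 : act 2 n37986 = n36600 := d21_1 D37986 F169547 (iv F169367)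
theorem F175788 : act 3 n37986 = n36578 := d27_1 D37986 (iv D36578) (iv F169368)
theorem F175789 : act 6 n37986 = n36572 := d39_1 D37986 (iv D36572) (iv D34985) (iv F162192) D36571
theorem F175790 : act 8 n37986 = n36596 := d42_2 (iv F169369) D37986 F169523
theorem F175791 : act 9 n37986 = n37047 := d43_2 (iv F169370) D37986 F171880
def n37987 : Q := act 3 n36573
theorem D37987 : act 3 n36573 = n37987 := rfl
theorem F175792 : act 0 n37987 = n37180 := d2_1 D37987 (iv F175546) F175543
theorem F175793 : act 1 n37987 = n36757 := d10_1 D37987 (iv D36757) (iv F169378)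
theorem F175794 : act 4 n37987 = n36575 := d24_2 D36573 D37987 (iv D36575) (iv D34988) (iv F162203)
theorem F175795 : act 5 n37987 = n36758 := d25_2 F175774 D37987 (iv F175773)
theorem F175796 : act 7 n37987 = n37987 := d27_2 F169379 D37987 (iv D37987)
theorem F175797 : act 8 n37987 = n37798 := d28_2 (iv F169380) D37987 (iv D37798)
theorem F175798 : act 9 n36751 = n37987 := d38_0 F175795 (iv D36758) (iv F170325)
def n37988 : Q := act 9 n36573
theorem D37988 : act 9 n36573 = n37988 := rfl
theorem F175799 : act 0 n37988 = n37419 := d8_1 D37988 (iv F175550) F175543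
theorem F175800 : act 1 n37988 = n36758 := d16_1 D37988 (iv D36758) (iv F169378)
theorem F175801 : act 3 n37988 = n36751 := d29_1 D37988 F175798 (iv D37987)
theorem F175802 : act 4 n37988 = n36574 := d34_1 D37988 (iv D36574) D36573
theorem F175803 : act 5 n37988 = n36757 := d38_1 D37988 (iv F175777) F175774
theorem F175804 : act 7 n37988 = n37988 := d43_1 D37988 (iv D37988) F169379
def n37989 : Q := act 8 n36574
theorem D37989 : act 8 n36574 = n37989 := rfl
theorem F175805 : act 0 n37989 = n37420 := d7_1 D37989 (iv D37420) (iv F169381)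
theorem F175806 : act 1 n37989 = n36759 := d15_1 D37989 (iv D36759) (iv F169382)
theorem F175807 : act 3 n37989 = n36576 := d28_1 D37989 (iv D36576) (iv F169383)
theorem F175808 : act 5 n37989 = n37989 := d37_1 D37989 (iv D37989) F169384 F162212 (iv F169384)
theorem F175809 : act 7 n37989 = n37989 := d42_1 D37989 (iv D37989) F169385
theorem F175810 : act 9 n37989 = n37800 := d44_2 D36574 D37989 (iv D37800) (iv D36363) (iv F162205)
def n37990 : Q := act 2 n36575
theorem D37990 : act 2 n36575 = n37990 := rfl
theorem F175811 : act 0 n37990 = n37179 := d1_1 D37990 F172498 (iv F169386)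
theorem F175812 : act 1 n37990 = n37790 := d9_1 D37990 F174576 (iv F170233) F170234 (iv F169387)
theorem F175813 : act 3 n37990 = n37990 := d17_2 D36575 D37990 (iv D37990) (iv D36575) F162215
theorem F175814 : act 5 n37990 = n36579 := d19_2 (iv F169388) D37990 (iv D36579)
theorem F175815 : act 7 n37990 = n37990 := d21_2 F169389 D37990 (iv D37990)
theorem F175816 : act 8 n37990 = n37801 := d22_2 (iv F169390) D37990 (iv D37801)
theorem F175817 : act 9 n37990 = n36743 := d23_2 (iv F169391) D37990 F170281
def n37991 : Q := act 7 n36577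
theorem D37991 : act 7 n36577 = n37991 := rfl
theorem F175818 : act 0 n37991 = n37521 := d6_1 D37991 F173822 (iv F169399)
theorem F175819 : act 1 n37991 = n36762 := d14_1 D37991 (iv D36762) (iv F169400)
theorem F175820 : act 2 n37991 = n36766 := d21_1 D37991 F170400 (iv F169401)
theorem F175821 : act 4 n37991 = n36646 := d32_1 D37991 F169791 (iv F169402)
theorem F175822 : act 5 n37991 = n36578 := d36_1 D37991 (iv D36578) (iv F169403)
theorem F175823 : act 6 n37991 = n37991 := d39_1 D37991 (iv D37991) (iv D36577) F162230 D36577
theorem F175824 : act 8 n37991 = n36791 := d42_2 (iv F169404) D37991 F170554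
theorem F175825 : act 9 n37991 = n36645 := d43_2 (iv F169405) D37991 F169786
def n37992 : Q := act 7 n36580
theorem D37992 : act 7 n36580 = n37992 := rfl
theorem F175826 : act 0 n37992 = n37483 := d6_1 D37992 (iv D37483) (iv F169421)
theorem F175827 : act 1 n37992 = n37758 := d14_1 D37992 (iv D37758) (iv F169422)
theorem F175828 : act 2 n37992 = n36985 := d21_1 D37992 (iv D36985) (iv F169423)
theorem F175829 : act 3 n37992 = n36581 := d27_1 D37992 (iv D36581) D36580
theorem F175830 : act 4 n37992 = n37992 := d32_1 D37992 (iv D37992) F169424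
theorem F175831 : act 5 n37992 = n36629 := d36_1 D37992 (iv D36629) (iv F169425)
theorem F175832 : act 9 n37992 = n36900 := d43_2 (iv F169427) D37992 (iv D36900)
def n37993 : Q := act 8 n36580
theorem D37993 : act 8 n36580 = n37993 := rfl
theorem F175833 : act 0 n37993 = n37484 := d7_1 D37993 (iv D37484) (iv F169421)
theorem F175834 : act 1 n37993 = n37349 := d15_1 D37993 F173189 (iv F169422)
theorem F175835 : act 2 n37993 = n36986 := d22_1 D37993 (iv D36986) (iv F169423)
theorem F175836 : act 3 n37993 = n36582 := d28_1 D37993 (iv D36582) D36580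
theorem F175837 : act 4 n37993 = n37993 := d33_1 D37993 (iv D37993) F169424
theorem F175838 : act 6 n37993 = n36939 := d40_1 D37993 (iv D36939) (iv F169426)
theorem F175839 : act 9 n37993 = n37317 := d44_2 (iv F169427) D37993 F173085 F171207 (iv D36901)
theorem F175840 : act 5 n37686 = n37993 := d38_3 F175839 F173084 D37686
def n37994 : Q := act 6 n36581
theorem D37994 : act 6 n36581 = n37994 := rfl
theorem F175841 : act 0 n37994 = n37485 := d5_1 D37994 (iv D37485) (iv F169428)
theorem F175842 : act 1 n37994 = n37763 := d13_1 D37994 F174516 (iv F169429)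
theorem F175843 : act 2 n37994 = n36586 := d20_1 D37994 (iv D36586) (iv F169430)
theorem F175844 : act 4 n37994 = n36583 := d31_1 D37994 (iv D36583) (iv F169431)
theorem F175845 : act 7 n37994 = n36940 := d39_2 D36581 D37994 (iv D36940) (iv D35357) (iv F162257)
theorem F175846 : act 9 n37994 = n36902 := d41_2 (iv F169433) D37994 (iv D36902)
def n37995 : Q := act 8 n36581
theorem D37995 : act 8 n36581 = n37995 := rfl
theorem F175847 : act 0 n37995 = n37486 := d7_1 D37995 (iv D37486) (iv F169428)
theorem F175848 : act 1 n37995 = n37355 := d15_1 D37995 F173208 (iv F169429)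
theorem F175849 : act 2 n37995 = n36587 := d22_1 D37995 (iv D36587) (iv F169430)
theorem F175850 : act 4 n37995 = n36584 := d33_1 D37995 (iv D36584) (iv F169431)
theorem F175851 : act 7 n37995 = n36582 := d42_1 D37995 (iv D36582) D36581
def n37996 : Q := act 5 n36582
theorem D37996 : act 5 n36582 = n37996 := rfl
theorem F175852 : act 0 n37996 = n37487 := d4_1 D37996 (iv D37487) (iv F169434)
theorem F175853 : act 1 n37996 = n37332 := d12_1 D37996 F173142 (iv F169435)
theorem F175854 : act 2 n37996 = n36588 := d19_1 D37996 (iv D36588) (iv F169436)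
theorem F175855 : act 3 n37996 = n37686 := d25_1 D37996 F175840 F175836
theorem F175856 : act 4 n37996 = n37996 := d30_1 D37996 (iv D37996) F169437 F162269 (iv F169437)
theorem F175857 : act 6 n37996 = n37326 := d35_2 (iv F169438) D37996 (iv D37326) F166238 (iv F164189)
theorem F175858 : act 8 n37996 = n36633 := d37_2 D36582 D37996 (iv D36633) (iv D35033) (iv F162256)
theorem F175859 : act 9 n37492 = n37996 := d41_0 F175857 F173122 D37492
def n37997 : Q := act 9 n36582
theorem D37997 : act 9 n36582 = n37997 := rfl
theorem F175860 : act 0 n37997 = n36948 := d8_1 D37997 F171452 (iv F169434)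
theorem F175861 : act 1 n37997 = n37356 := d16_1 D37997 (iv D37356) (iv F169435)
theorem F175862 : act 2 n37997 = n36589 := d23_1 D37997 (iv D36589) (iv F169436)
theorem F175863 : act 3 n37997 = n37317 := d29_1 D37997 (iv F175839) F175836
theorem F175864 : act 4 n37997 = n36585 := d34_1 D37997 (iv D36585) (iv F169437)
theorem F175865 : act 5 n37997 = n37492 := d38_1 D37997 F175859 (iv D37996)
theorem F175866 : act 6 n37997 = n36873 := d41_1 D37997 F171059 (iv F169438)
theorem F175867 : act 8 n37997 = n36905 := d44_1 D37997 (iv D36905) (iv D35321) (iv F162258) D36582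
def n37998 : Q := act 8 n36583
theorem D37998 : act 8 n36583 = n37998 := rfl
theorem F175868 : act 0 n37998 = n37488 := d7_1 D37998 (iv D37488) (iv F169439)
theorem F175869 : act 1 n37998 = n37376 := d15_1 D37998 F173260 (iv F169440)
theorem F175870 : act 2 n37998 = n36590 := d22_1 D37998 (iv D36590) (iv F169441)
theorem F175871 : act 3 n37998 = n37998 := d28_1 D37998 (iv D37998) F169442
theorem F175872 : act 6 n37998 = n36584 := d40_1 D37998 (iv D36584) D36583
theorem F175873 : act 7 n37998 = n36942 := d42_1 D37998 (iv D36942) (iv F169444)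
def n37999 : Q := act 9 n36584
theorem D37999 : act 9 n36584 = n37999 := rfl
theorem F175874 : act 0 n37999 = n37190 := d8_1 D37999 F172562 (iv F169446)
theorem F175875 : act 1 n37999 = n37378 := d16_1 D37999 (iv D37378) (iv F169447)
theorem F175876 : act 2 n37999 = n36591 := d23_1 D37999 (iv D36591) (iv F169448)
theorem F175877 : act 3 n37999 = n37999 := d29_1 D37999 (iv D37999) F169449
theorem F175878 : act 5 n37999 = n37999 := d38_1 D37999 (iv D37999) F169450
theorem F175879 : act 7 n37999 = n36585 := d43_1 D37999 (iv D36585) (iv F169451)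
theorem F175880 : act 8 n37999 = n36907 := d44_1 D37999 (iv D36907) (iv D35323) (iv F162264) D36584
def n38000 : Q := act 5 n36586
theorem D38000 : act 5 n36586 = n38000 := rfl
theorem F175881 : act 0 n38000 = n37489 := d4_1 D38000 (iv D37489) (iv F169459)
theorem F175882 : act 1 n38000 = n37013 := d12_1 D38000 (iv D37013) (iv F169460)
theorem F175883 : act 3 n38000 = n36992 := d25_1 D38000 (iv D36992) (iv F169461)
theorem F175884 : act 4 n38000 = n37281 := d30_1 D38000 (iv D37281) F166064 (iv F162285) (iv F169462)
theorem F175885 : act 6 n38000 = n36637 := d35_2 D36586 D38000 (iv D36637) (iv D35037) (iv F162275)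
theorem F175886 : act 7 n38000 = n36944 := d36_2 (iv F169463) D38000 (iv D36944)
theorem F175887 : act 9 n38000 = n36908 := d38_2 (iv F169464) D38000 (iv D36908)
def n38001 : Q := act 8 n36586
theorem D38001 : act 8 n36586 = n38001 := rfl
theorem F175888 : act 0 n38001 = n37490 := d7_1 D38001 (iv D37490) (iv F169459)
theorem F175889 : act 1 n38001 = n37014 := d15_1 D38001 (iv D37014) (iv F169460)
theorem F175890 : act 3 n38001 = n36993 := d28_1 D38001 (iv D36993) (iv F169461)
theorem F175891 : act 4 n38001 = n36590 := d33_1 D38001 (iv D36590) (iv F169462)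
theorem F175892 : act 6 n38001 = n36587 := d40_1 D38001 (iv D36587) D36586
theorem F175893 : act 7 n38001 = n36945 := d42_1 D38001 (iv D36945) (iv F169463)
def n38002 : Q := act 5 n36587
theorem D38002 : act 5 n36587 = n38002 := rfl
theorem F175894 : act 0 n38002 = n37491 := d4_1 D38002 (iv D37491) (iv F169465)
theorem F175895 : act 1 n38002 = n37015 := d12_1 D38002 (iv D37015) (iv F169466)
theorem F175896 : act 3 n38002 = n36994 := d25_1 D38002 (iv D36994) (iv F169467)
theorem F175897 : act 4 n38002 = n38002 := d30_1 D38002 (iv D38002) F169468 F162291 (iv F169468)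
theorem F175898 : act 7 n38002 = n36588 := d36_2 (iv F169469) D38002 (iv D36588)
theorem F175899 : act 8 n38002 = n36639 := d37_2 D36587 D38002 (iv D36639) (iv D35038) (iv F162275)
def n38003 : Q := act 9 n36587
theorem D38003 : act 9 n36587 = n38003 := rfl
theorem F175900 : act 0 n38003 = n37325 := d8_1 D38003 F173118 (iv F169465)
theorem F175901 : act 1 n38003 = n37016 := d16_1 D38003 (iv D37016) (iv F169466)
theorem F175902 : act 3 n38003 = n36995 := d29_1 D38003 (iv D36995) (iv F169467)
theorem F175903 : act 4 n38003 = n36591 := d34_1 D38003 (iv D36591) (iv F169468)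
theorem F175904 : act 7 n38003 = n36589 := d43_1 D38003 (iv D36589) (iv F169469)
theorem F175905 : act 8 n38003 = n36911 := d44_1 D38003 (iv D36911) (iv D35326) (iv F162276) D36587
def n38004 : Q := act 6 n36588
theorem D38004 : act 6 n36588 = n38004 := rfl
theorem F175906 : act 0 n38004 = n37492 := d5_1 D38004 (iv D37492) (iv F169470)
theorem F175907 : act 1 n38004 = n37017 := d13_1 D38004 (iv D37017) (iv F169471)
theorem F175908 : act 2 n38004 = n37326 := d20_1 D38004 (iv F175857) F175854
theorem F175909 : act 3 n38004 = n36996 := d26_1 D38004 (iv D36996) (iv F169472)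
theorem F175910 : act 4 n38004 = n38004 := d31_1 D38004 (iv D38004) F169473
theorem F175911 : act 5 n38004 = n36948 := d35_1 D38004 (iv D36948) (iv D35364) (iv F162281) D36588
theorem F175912 : act 8 n38004 = n36641 := d40_2 (iv F169474) D38004 (iv D36641)
theorem F175913 : act 9 n37487 = n38004 := d38_0 F175911 F171452 D37487
def n38005 : Q := act 9 n36588
theorem D38005 : act 9 n36588 = n38005 := rfl
theorem F175914 : act 0 n38005 = n37326 := d8_1 D38005 F173122 (iv F169470)
theorem F175915 : act 1 n38005 = n37018 := d16_1 D38005 (iv D37018) (iv F169471)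
theorem F175916 : act 2 n38005 = n37492 := d23_1 D38005 F175859 F175854
theorem F175917 : act 3 n38005 = n36997 := d29_1 D38005 (iv D36997) (iv F169472)
theorem F175918 : act 4 n38005 = n38005 := d34_1 D38005 (iv D38005) F169473
theorem F175919 : act 5 n38005 = n36589 := d38_1 D38005 (iv D36589) D36588
theorem F175920 : act 6 n38005 = n37487 := d41_1 D38005 F175913 (iv D38004)
theorem F175921 : act 8 n37507 = n38005 := d40_0 F175920 F173698 D37507
def n38006 : Q := act 5 n36590
theorem D38006 : act 5 n36590 = n38006 := rfl
theorem F175922 : act 0 n38006 = n37493 := d4_1 D38006 (iv D37493) (iv F169481)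
theorem F175923 : act 1 n38006 = n37019 := d12_1 D38006 (iv D37019) (iv F169482)
theorem F175924 : act 3 n38006 = n36592 := d25_1 D38006 (iv D36592) (iv F169483)
theorem F175925 : act 6 n38006 = n38006 := d35_2 (iv F169484) D38006 (iv D38006) F169484 F162291
theorem F175926 : act 7 n38006 = n36949 := d36_2 (iv F169485) D38006 (iv D36949)
theorem F175927 : act 8 n38006 = n37285 := d37_2 D36590 D38006 (iv D37285) (iv D35769) (iv F162285)
def n38007 : Q := act 9 n36590
theorem D38007 : act 9 n36590 = n38007 := rfl
theorem F175928 : act 0 n38007 = n37327 := d8_1 D38007 F173127 (iv F169481)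
theorem F175929 : act 1 n38007 = n37020 := d16_1 D38007 (iv D37020) (iv F169482)
theorem F175930 : act 3 n38007 = n36593 := d29_1 D38007 (iv D36593) (iv F169483)
theorem F175931 : act 6 n38007 = n36591 := d41_1 D38007 (iv D36591) (iv F169484)
theorem F175932 : act 7 n38007 = n36950 := d43_1 D38007 (iv D36950) (iv F169485)
theorem F175933 : act 8 n38007 = n36915 := d44_1 D38007 (iv D36915) (iv D35329) (iv F162287) D36590
def n38008 : Q := act 4 n36592
theorem D38008 : act 4 n36592 = n38008 := rfl
theorem F175934 : act 0 n38008 = n37494 := d3_1 D38008 (iv D37494) (iv F169492)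
theorem F175935 : act 1 n38008 = n37021 := d11_1 D38008 (iv D37021) (iv F169493)
theorem F175936 : act 2 n38008 = n38008 := d18_1 D38008 (iv D38008) F169494
theorem F175937 : act 5 n38008 = n37000 := d30_2 D36592 D38008 (iv D37000) (iv D35416) (iv F162302)
theorem F175938 : act 6 n38008 = n38008 := d31_2 F169495 D38008 (iv D38008)
theorem F175939 : act 7 n38008 = n36951 := d32_2 (iv F169496) D38008 (iv D36951)
theorem F175940 : act 8 n38008 = n37162 := d33_2 (iv F169497) D38008 F172407
def n38009 : Q := act 6 n36595
theorem D38009 : act 6 n36595 = n38009 := rfl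
theorem F175941 : act 0 n38009 = n37450 := d5_1 D38009 (iv D37450) (iv F169514)
theorem F175942 : act 2 n38009 = n36597 := d20_1 D38009 (iv D36597) (iv F169515)
theorem F175943 : act 4 n38009 = n36596 := d31_1 D38009 (iv D36596) (iv F169516)
theorem F175944 : act 7 n38009 = n36662 := d39_2 D36595 D38009 (iv D36662) (iv D35062) (iv F162330)
theorem F175945 : act 9 n38009 = n37424 := d41_2 (iv F169518) D38009 (iv D37424)
def n38010 : Q := act 5 n36597
theorem D38010 : act 5 n36597 = n38010 := rfl
theorem F175946 : act 0 n38010 = n37454 := d4_1 D38010 (iv D37454) (iv F169525)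
theorem F175947 : act 1 n38010 = n37313 := d12_1 D38010 (iv D37313) (iv F169526)
theorem F175948 : act 3 n38010 = n37640 := d25_1 D38010 (iv D37640) (iv F169527)
theorem F175949 : act 4 n38010 = n36637 := d30_1 D38010 (iv D36637) F162497 (iv F162352) (iv F169528)
theorem F175950 : act 6 n38010 = n37281 := d35_2 D36597 D38010 (iv D37281) (iv D35765) (iv F162341)
theorem F175951 : act 7 n38010 = n36663 := d36_2 (iv F169529) D38010 (iv D36663)
theorem F175952 : act 9 n38010 = n37425 := d38_2 (iv F169530) D38010 (iv D37425)
def n38011 : Q := act 8 n36597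
theorem D38011 : act 8 n36597 = n38011 := rfl
theorem F175953 : act 0 n38011 = n37455 := d7_1 D38011 (iv D37455) (iv F169525)
theorem F175954 : act 1 n38011 = n37314 := d15_1 D38011 (iv D37314) (iv F169526)
theorem F175955 : act 3 n38011 = n37352 := d28_1 D38011 F173197 (iv F169527)
theorem F175956 : act 4 n38011 = n36600 := d33_1 D38011 (iv D36600) (iv F169528)
theorem F175957 : act 6 n38011 = n36598 := d40_1 D38011 (iv D36598) D36597
theorem F175958 : act 7 n38011 = n36664 := d42_1 D38011 (iv D36664) (iv F169529)
theorem F175959 : act 9 n38011 = n37347 := d44_2 (iv F169530) D38011 (iv D37347) (iv F171953) F171952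
def n38012 : Q := act 5 n36598
theorem D38012 : act 5 n36598 = n38012 := rfl
theorem F175960 : act 0 n38012 = n37456 := d4_1 D38012 (iv D37456) (iv F169531)
theorem F175961 : act 1 n38012 = n37315 := d12_1 D38012 (iv D37315) (iv F169532)
theorem F175962 : act 3 n38012 = n37354 := d25_1 D38012 F173204 (iv F169533)
theorem F175963 : act 4 n38012 = n38012 := d30_1 D38012 (iv D38012) F169534 F162358 (iv F169534)
theorem F175964 : act 7 n38012 = n36599 := d36_2 (iv F169535) D38012 (iv D36599)
theorem F175965 : act 8 n38012 = n37283 := d37_2 D36598 D38012 (iv D37283) (iv D35766) (iv F162341)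
theorem F175966 : act 9 n38012 = n37348 := d38_2 (iv F169536) D38012 (iv D37348)
def n38013 : Q := act 5 n36600
theorem D38013 : act 5 n36600 = n38013 := rfl
theorem F175967 : act 0 n38013 = n37458 := d4_1 D38013 (iv D37458) (iv F169543)
theorem F175968 : act 1 n38013 = n37318 := d12_1 D38013 (iv D37318) (iv F169544)
theorem F175969 : act 3 n38013 = n36601 := d25_1 D38013 (iv D36601) (iv F169545)
theorem F175970 : act 6 n38013 = n38013 := d35_2 (iv F169546) D38013 (iv D38013) F169546 F162358
theorem F175971 : act 7 n38013 = n36666 := d36_2 (iv F169547) D38013 (iv D36666)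
theorem F175972 : act 8 n38013 = n36643 := d37_2 D36600 D38013 (iv D36643) (iv D35041) (iv F162352)
theorem F175973 : act 9 n38013 = n37411 := d38_2 (iv F169548) D38013 (iv D37411)
def n38014 : Q := act 4 n36601
theorem D38014 : act 4 n36601 = n38014 := rfl
theorem F175974 : act 0 n38014 = n37459 := d3_1 D38014 (iv D37459) (iv F169549)
theorem F175975 : act 1 n38014 = n37320 := d11_1 D38014 (iv D37320) (iv F169550)
theorem F175976 : act 2 n38014 = n36767 := d18_1 D38014 (iv D36767) (iv F169551)
theorem F175977 : act 5 n38014 = n37264 := d30_2 D36601 D38014 F172896 F166539 (iv F162364)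
theorem F175978 : act 6 n38014 = n38014 := d31_2 F169552 D38014 (iv D38014)
theorem F175979 : act 7 n38014 = n36668 := d32_2 (iv F169553) D38014 (iv D36668)
theorem F175980 : act 8 n38014 = n36645 := d33_2 (iv F169554) D38014 (iv D36645)
theorem F175981 : act 9 n38014 = n37414 := d34_2 (iv F169555) D38014 (iv D37414)
def n38015 : Q := act 4 n36602
theorem D38015 : act 4 n36602 = n38015 := rfl
theorem F175982 : act 0 n38015 = n36604 := d3_1 D38015 (iv D36604) (iv F169556)
theorem F175983 : act 1 n38015 = n36680 := d11_1 D38015 F169987 (iv F169557)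
theorem F175984 : act 2 n38015 = n36978 := d18_1 D38015 (iv D36978) (iv F169558)
theorem F175985 : act 3 n38015 = n36675 := d24_1 D38015 F169961 F162703 F163075 (iv F169559)
theorem F175986 : act 5 n38015 = n36893 := d30_2 D36602 D38015 (iv D36893) (iv D35314) (iv F162372)
theorem F175987 : act 6 n38015 = n36670 := d31_2 (iv F169560) D38015 (iv D36670)
theorem F175988 : act 8 n38015 = n36673 := d33_2 (iv F169561) D38015 F169950
theorem F175989 : act 9 n38015 = n36620 := d34_2 (iv F169562) D38015 (iv D36620)
def n38016 : Q := act 7 n36602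
theorem D38016 : act 7 n36602 = n38016 := rfl
theorem F175990 : act 0 n38016 = n36605 := d6_1 D38016 (iv D36605) (iv F169556)
theorem F175991 : act 1 n38016 = n36808 := d14_1 D38016 F170664 (iv F169557)
theorem F175992 : act 2 n38016 = n36979 := d21_1 D38016 (iv D36979) (iv F169558)
theorem F175993 : act 3 n38016 = n36768 := d27_1 D38016 (iv D36768) (iv F169559)
theorem F175994 : act 5 n38016 = n36603 := d36_1 D38016 (iv D36603) D36602
theorem F175995 : act 8 n38016 = n36804 := d42_2 (iv F169561) D38016 (iv D36804)
theorem F175996 : act 9 n38016 = n36621 := d43_2 (iv F169562) D38016 (iv D36621)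
def n38017 : Q := act 3 n36604
theorem D38017 : act 3 n36604 = n38017 := rfl
theorem F175997 : act 0 n38017 = n36675 := d2_1 D38017 (iv F175985) F175982
theorem F175998 : act 1 n38017 = n36607 := d10_1 D38017 (iv D36607) (iv F169571)
theorem F175999 : act 4 n38017 = n36672 := d24_2 D36604 D38017 F169945 (iv D35156) (iv F162377)
theorem F176000 : act 5 n38017 = n36895 := d25_2 (iv F169573) D38017 (iv D36895)
theorem F176001 : act 6 n38017 = n36673 := d26_2 (iv F169574) D38017 (iv D36673)
theorem F176002 : act 9 n38017 = n36623 := d29_2 (iv F169575) D38017 (iv D36623)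
theorem F176003 : act 2 n37045 = n38017 := d20_3 F176001 (iv F169953) (iv F171871)
theorem F176004 : act 8 n36670 = n38017 := d40_0 F176001 (iv F175988) F175987
def n38018 : Q := act 7 n36604
theorem D38018 : act 7 n36604 = n38018 := rfl
theorem F176005 : act 1 n38018 = n36608 := d14_1 D38018 (iv D36608) (iv F169571)
theorem F176006 : act 2 n38018 = n36981 := d21_1 D38018 (iv D36981) (iv F169572)
theorem F176007 : act 4 n38018 = n36605 := d32_1 D38018 (iv D36605) D36604
theorem F176008 : act 5 n38018 = n36896 := d36_1 D38018 (iv D36896) (iv F169573)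
theorem F176009 : act 9 n38018 = n36624 := d43_2 (iv F169575) D38018 (iv D36624)
def n38019 : Q := act 8 n36604
theorem D38019 : act 8 n36604 = n38019 := rfl
theorem F176010 : act 0 n38019 = n36673 := d7_1 D38019 (iv F175988) F175982
theorem F176011 : act 1 n38019 = n36609 := d15_1 D38019 (iv D36609) (iv F169571)
theorem F176012 : act 2 n38019 = n36982 := d22_1 D38019 (iv D36982) (iv F169572)
theorem F176013 : act 3 n38019 = n36670 := d28_1 D38019 F176004 (iv D38017)
theorem F176014 : act 4 n38019 = n36606 := d33_1 D38019 (iv D36606) D36604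
theorem F176015 : act 5 n38019 = n37034 := d37_1 D38019 F171832 F171189 (iv D36897) (iv F169573)
theorem F176016 : act 6 n38019 = n36675 := d40_1 D38019 (iv D36675) (iv F169574)
theorem F176017 : act 9 n36697 = n38019 := d38_0 F176015 (iv D37034) (iv F170066)
def n38020 : Q := act 6 n36605
theorem D38020 : act 6 n36605 = n38020 := rfl
theorem F176018 : act 1 n38020 = n36610 := d13_1 D38020 (iv D36610) (iv F169576)
theorem F176019 : act 2 n38020 = n36983 := d20_1 D38020 (iv D36983) (iv F169577)
theorem F176020 : act 3 n38020 = n36770 := d26_1 D38020 (iv D36770) (iv F169578)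
theorem F176021 : act 5 n38020 = n37423 := d35_1 D38020 (iv D37423) F166584 (iv F162384) (iv F169579)
theorem F176022 : act 7 n38020 = n36676 := d39_2 D36605 D38020 (iv D36676) (iv D35074) (iv F162378)
theorem F176023 : act 9 n38020 = n36626 := d41_2 (iv F169580) D38020 (iv D36626)
def n38021 : Q := act 8 n36605
theorem D38021 : act 8 n36605 = n38021 := rfl
theorem F176024 : act 0 n38021 = n36804 := d7_1 D38021 (iv F175995) F175990
theorem F176025 : act 1 n38021 = n36611 := d15_1 D38021 (iv D36611) (iv F169576)
theorem F176026 : act 2 n38021 = n36984 := d22_1 D38021 (iv D36984) (iv F169577)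
theorem F176027 : act 3 n38021 = n36771 := d28_1 D38021 (iv D36771) (iv F169578)
theorem F176028 : act 5 n38021 = n36835 := d37_1 D38021 F170812 F165602 (iv F162385) (iv F169579)
theorem F176029 : act 7 n38021 = n36606 := d42_1 D38021 (iv D36606) D36605
theorem F176030 : act 9 n36818 = n38021 := d43_0 F176029 (iv F169587) D36818
def n38022 : Q := act 7 n36607
theorem D38022 : act 7 n36607 = n38022 := rfl
theorem F176031 : act 0 n38022 = n37435 := d6_1 D38022 (iv D37435) (iv F169588)
theorem F176032 : act 2 n38022 = n37005 := d21_1 D38022 (iv D37005) (iv F169589)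
theorem F176033 : act 3 n38022 = n36608 := d27_1 D38022 (iv D36608) D36607
theorem F176034 : act 4 n38022 = n36772 := d32_1 D38022 (iv D36772) (iv F169590)
theorem F176035 : act 5 n38022 = n36900 := d36_1 D38022 (iv D36900) (iv F169591)
theorem F176036 : act 8 n38022 = n37545 := d42_2 F169594 D38022 (iv D37545)
theorem F176037 : act 9 n38022 = n36629 := d43_2 (iv F169593) D38022 (iv D36629)
def n38023 : Q := act 6 n36608
theorem D38023 : act 6 n36608 = n38023 := rfl
theorem F176038 : act 0 n38023 = n37436 := d5_1 D38023 (iv D37436) (iv F169595)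
theorem F176039 : act 2 n38023 = n36612 := d20_1 D38023 (iv D36612) (iv F169596)
theorem F176040 : act 4 n38023 = n36610 := d31_1 D38023 (iv D36610) (iv F169597)
theorem F176041 : act 7 n38023 = n36681 := d39_2 D36608 D38023 (iv D36681) (iv D35077) (iv F162390)
theorem F176042 : act 9 n38023 = n36631 := d41_2 (iv F169599) D38023 (iv D36631)
def n38024 : Q := act 8 n36608
theorem D38024 : act 8 n36608 = n38024 := rfl
theorem F176043 : act 0 n38024 = n37437 := d7_1 D38024 (iv D37437) (iv F169595)
theorem F176044 : act 2 n38024 = n36613 := d22_1 D38024 (iv D36613) (iv F169596)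
theorem F176045 : act 3 n38024 = n37545 := d28_1 D38024 (iv F176036) F176033
theorem F176046 : act 4 n38024 = n36611 := d33_1 D38024 (iv D36611) (iv F169597)
theorem F176047 : act 7 n38024 = n36609 := d42_1 D38024 (iv D36609) D36608
theorem F176048 : act 9 n37567 = n38024 := d43_0 F176047 (iv F169605) D37567
def n38025 : Q := act 5 n36609
theorem D38025 : act 5 n36609 = n38025 := rfl
theorem F176049 : act 0 n38025 = n37048 := d4_1 D38025 F171885 (iv F169600)
theorem F176050 : act 1 n38025 = n37034 := d12_1 D38025 (iv F176015) F176011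
theorem F176051 : act 2 n38025 = n36614 := d19_1 D38025 (iv D36614) (iv F169601)
theorem F176052 : act 3 n38025 = n37029 := d25_1 D38025 F171804 (iv F169602)
theorem F176053 : act 4 n38025 = n37133 := d30_1 D38025 F172251 F165347 (iv F162400) (iv F169603)
theorem F176054 : act 8 n38025 = n36904 := d37_2 D36609 D38025 (iv D36904) (iv D35321) (iv F162389)
theorem F176055 : act 9 n38025 = n37026 := d38_2 F169605 D38025 (iv F171791)
theorem F176056 : act 6 n37094 = n38025 := d41_3 F176055 F171790 D37094
def n38026 : Q := act 8 n36610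
theorem D38026 : act 8 n36610 = n38026 := rfl
theorem F176057 : act 0 n38026 = n37438 := d7_1 D38026 (iv D37438) (iv F169606)
theorem F176058 : act 2 n38026 = n36616 := d22_1 D38026 (iv D36616) (iv F169607)
theorem F176059 : act 3 n38026 = n36774 := d28_1 D38026 (iv D36774) (iv F169608)
theorem F176060 : act 6 n38026 = n36611 := d40_1 D38026 (iv D36611) D36610
theorem F176061 : act 7 n38026 = n36685 := d42_1 D38026 (iv D36685) (iv F169610)
theorem F176062 : act 9 n37631 = n38026 := d41_0 F176060 (iv F169617) D37631
def n38027 : Q := act 5 n36612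
theorem D38027 : act 5 n36612 = n38027 := rfl
theorem F176063 : act 0 n38027 = n37439 := d4_1 D38027 (iv D37439) (iv F169618)
theorem F176064 : act 1 n38027 = n36992 := d12_1 D38027 (iv D36992) (iv F169619)
theorem F176065 : act 3 n38027 = n37013 := d25_1 D38027 (iv D37013) (iv F169620)
theorem F176066 : act 4 n38027 = n37425 := d30_1 D38027 (iv D37425) F166593 (iv F162417) (iv F169621)
theorem F176067 : act 6 n38027 = n36908 := d35_2 D36612 D38027 (iv D36908) (iv D35325) (iv F162407)
theorem F176068 : act 7 n38027 = n36687 := d36_2 (iv F169622) D38027 (iv D36687)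
theorem F176069 : act 9 n38027 = n36637 := d38_2 (iv F169623) D38027 (iv D36637)
def n38028 : Q := act 8 n36612
theorem D38028 : act 8 n36612 = n38028 := rfl
theorem F176070 : act 0 n38028 = n37440 := d7_1 D38028 (iv D37440) (iv F169618)
theorem F176071 : act 1 n38028 = n36993 := d15_1 D38028 (iv D36993) (iv F169619)
theorem F176072 : act 3 n38028 = n37014 := d28_1 D38028 (iv D37014) (iv F169620)
theorem F176073 : act 4 n38028 = n36616 := d33_1 D38028 (iv D36616) (iv F169621)
theorem F176074 : act 6 n38028 = n36613 := d40_1 D38028 (iv D36613) D36612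
theorem F176075 : act 7 n38028 = n36688 := d42_1 D38028 (iv D36688) (iv F169622)
def n38029 : Q := act 5 n36613
theorem D38029 : act 5 n36613 = n38029 := rfl
theorem F176076 : act 0 n38029 = n37441 := d4_1 D38029 (iv D37441) (iv F169624)
theorem F176077 : act 1 n38029 = n36994 := d12_1 D38029 (iv D36994) (iv F169625)
theorem F176078 : act 3 n38029 = n37015 := d25_1 D38029 (iv D37015) (iv F169626)
theorem F176079 : act 4 n38029 = n37208 := d30_1 D38029 (iv D37208) F165632 (iv F162423) (iv F169627)
theorem F176080 : act 7 n38029 = n36614 := d36_2 (iv F169628) D38029 (iv D36614)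
theorem F176081 : act 8 n38029 = n36910 := d37_2 D36613 D38029 (iv D36910) (iv D35326) (iv F162407)
def n38030 : Q := act 9 n36613
theorem D38030 : act 9 n36613 = n38030 := rfl
theorem F176082 : act 0 n38030 = n37442 := d8_1 D38030 (iv D37442) (iv F169624)
theorem F176083 : act 1 n38030 = n36995 := d16_1 D38030 (iv D36995) (iv F169625)
theorem F176084 : act 2 n38030 = n37567 := d23_1 D38030 F176048 F176044
theorem F176085 : act 3 n38030 = n37016 := d29_1 D38030 (iv D37016) (iv F169626)
theorem F176086 : act 4 n38030 = n36617 := d34_1 D38030 (iv D36617) (iv F169627)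
theorem F176087 : act 7 n38030 = n36615 := d43_1 D38030 (iv D36615) (iv F169628)
theorem F176088 : act 8 n38030 = n36640 := d44_1 D38030 (iv D36640) (iv D35038) (iv F162408) D36613
def n38031 : Q := act 6 n36614
theorem D38031 : act 6 n36614 = n38031 := rfl
theorem F176089 : act 0 n38031 = n37443 := d5_1 D38031 (iv D37443) (iv F169629)
theorem F176090 : act 1 n38031 = n36996 := d13_1 D38031 (iv D36996) (iv F169630)
theorem F176091 : act 2 n38031 = n37094 := d20_1 D38031 F176056 F176051
theorem F176092 : act 3 n38031 = n37017 := d26_1 D38031 (iv D37017) (iv F169631)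
theorem F176093 : act 4 n38031 = n37158 := d31_1 D38031 F172391 (iv F169632)
theorem F176094 : act 5 n38031 = n36691 := d35_1 D38031 (iv D36691) (iv D35084) (iv F162413) D36614
theorem F176095 : act 8 n38031 = n36912 := d40_2 (iv F169633) D38031 (iv D36912)
theorem F176096 : act 9 n37090 = n38031 := d44_0 F176095 (iv F171254) F165807 (iv F164835) D37090
def n38032 : Q := act 9 n36614
theorem D38032 : act 9 n36614 = n38032 := rfl
theorem F176097 : act 0 n38032 = n37246 := d8_1 D38032 F172840 (iv F169629)
theorem F176098 : act 1 n38032 = n36997 := d16_1 D38032 (iv D36997) (iv F169630)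
theorem F176099 : act 2 n38032 = n37026 := d23_1 D38032 (iv F176055) F176051
theorem F176100 : act 3 n38032 = n37018 := d29_1 D38032 (iv D37018) (iv F169631)
theorem F176101 : act 4 n38032 = n37130 := d34_1 D38032 F172236 (iv F169632)
theorem F176102 : act 5 n38032 = n36615 := d38_1 D38032 (iv D36615) D36614
theorem F176103 : act 6 n38032 = n37090 := d41_1 D38032 F176096 (iv D38031)
theorem F176104 : act 8 n38032 = n37024 := d44_1 D38032 F171781 F171261 (iv D36913) (iv F169633)
def n38033 : Q := act 5 n36616
theorem D38033 : act 5 n36616 = n38033 := rfl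
theorem F176105 : act 0 n38033 = n37444 := d4_1 D38033 (iv D37444) (iv F169641)
theorem F176106 : act 1 n38033 = n36998 := d12_1 D38033 (iv D36998) (iv F169642)
theorem F176107 : act 3 n38033 = n36618 := d25_1 D38033 (iv D36618) (iv F169643)
theorem F176108 : act 6 n38033 = n37175 := d35_2 (iv F169644) D38033 F172476 F165648 (iv F162423)
theorem F176109 : act 7 n38033 = n36693 := d36_2 (iv F169645) D38033 (iv D36693)
theorem F176110 : act 8 n38033 = n37147 := d37_2 D36616 D38033 (iv D37147) F165193 (iv F162417)
def n38034 : Q := act 9 n36616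
theorem D38034 : act 9 n36616 = n38034 := rfl
theorem F176111 : act 0 n38034 = n37445 := d8_1 D38034 (iv D37445) (iv F169641)
theorem F176112 : act 1 n38034 = n36999 := d16_1 D38034 (iv D36999) (iv F169642)
theorem F176113 : act 2 n38034 = n37631 := d23_1 D38034 F176062 F176058
theorem F176114 : act 3 n38034 = n36619 := d29_1 D38034 (iv D36619) (iv F169643)
theorem F176115 : act 6 n38034 = n36617 := d41_1 D38034 (iv D36617) (iv F169644)
theorem F176116 : act 7 n38034 = n36694 := d43_1 D38034 (iv D36694) (iv F169645)
theorem F176117 : act 8 n38034 = n36644 := d44_1 D38034 (iv D36644) (iv D35041) (iv F162419) D36616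
def n38035 : Q := act 9 n36618
theorem D38035 : act 9 n36618 = n38035 := rfl
theorem F176118 : act 0 n38035 = n37446 := d8_1 D38035 (iv D37446) (iv F169653)
theorem F176119 : act 1 n38035 = n37001 := d16_1 D38035 (iv D37001) (iv F169654)
theorem F176120 : act 2 n38035 = n36777 := d23_1 D38035 (iv D36777) (iv F169655)
theorem F176121 : act 4 n38035 = n37155 := d34_1 D38035 F172378 F169659
theorem F176122 : act 5 n38035 = n36619 := d38_1 D38035 (iv D36619) D36618
theorem F176123 : act 6 n38035 = n37176 := d41_1 D38035 (iv D37176) (iv F169656)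
theorem F176124 : act 7 n38035 = n36696 := d43_1 D38035 (iv D36696) (iv F169657)
theorem F176125 : act 8 n38035 = n37413 := d44_1 D38035 (iv D37413) (iv D35904) (iv F165199) (iv F169658)
def n38036 : Q := act 3 n36620
theorem D38036 : act 3 n36620 = n38036 := rfl
theorem F176126 : act 0 n38036 = n36623 := d2_1 D38036 (iv D36623) (iv F169667)
theorem F176127 : act 1 n38036 = n36684 := d10_1 D38036 F170006 (iv F169668)
theorem F176128 : act 4 n38036 = n36678 := d24_2 D36620 D38036 F169974 (iv D35167) (iv F162448)
theorem F176129 : act 5 n38036 = n37105 := d25_2 (iv F169670) D38036 F172131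
theorem F176130 : act 6 n38036 = n36697 := d26_2 (iv F169671) D38036 (iv D36697)
theorem F176131 : act 9 n38036 = n36675 := d29_2 F175989 D38036 (iv F175985)
theorem F176132 : act 2 n37687 = n38036 := d23_3 F176131 F169960 (iv F174343)
theorem F176133 : act 8 n36708 = n38036 := d44_5 F176131 (iv D36675) F162695 D35095 D36708
def n38037 : Q := act 7 n36620
theorem D38037 : act 7 n36620 = n38037 := rfl
theorem F176134 : act 0 n38037 = n36624 := d6_1 D38037 (iv D36624) (iv F169667)
theorem F176135 : act 1 n38037 = n37495 := d14_1 D38037 (iv D37495) (iv F169668)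
theorem F176136 : act 2 n38037 = n37044 := d21_1 D38037 (iv D37044) (iv F169669)
theorem F176137 : act 4 n38037 = n36621 := d32_1 D38037 (iv D36621) D36620
theorem F176138 : act 5 n38037 = n37110 := d36_1 D38037 (iv D37110) (iv F169670)
def n38038 : Q := act 8 n36620
theorem D38038 : act 8 n36620 = n38038 := rfl
theorem F176139 : act 0 n38038 = n36625 := d7_1 D38038 (iv D36625) (iv F169667)
theorem F176140 : act 1 n38038 = n36714 := d15_1 D38038 F170149 (iv F169668)
theorem F176141 : act 2 n38038 = n36996 := d22_1 D38038 F171649 (iv F169669)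
theorem F176142 : act 3 n38038 = n36708 := d28_1 D38038 F176133 (iv D38036)
theorem F176143 : act 4 n38038 = n36622 := d33_1 D38038 (iv D36622) D36620
theorem F176144 : act 5 n38038 = n37674 := d37_1 D38038 (iv F175088) F175087 F168746 (iv F169670)
theorem F176145 : act 6 n38038 = n36699 := d40_1 D38038 (iv D36699) (iv F169671)
theorem F176146 : act 9 n38038 = n36705 := d44_2 F175989 D38038 (iv D36705) (iv F169952) (iv F175988)
def n38039 : Q := act 6 n36621
theorem D38039 : act 6 n36621 = n38039 := rfl
theorem F176147 : act 0 n38039 = n36626 := d5_1 D38039 (iv D36626) (iv F169672)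
theorem F176148 : act 1 n38039 = n37496 := d13_1 D38039 (iv D37496) (iv F169673)
theorem F176149 : act 2 n38039 = n37228 := d20_1 D38039 F172771 (iv F169674)
theorem F176150 : act 3 n38039 = n36779 := d26_1 D38039 (iv D36779) (iv F169675)
theorem F176151 : act 5 n38039 = n37257 := d35_1 D38039 F172869 (iv F169510) F169511 (iv F169676)
theorem F176152 : act 7 n38039 = n36700 := d39_2 D36621 D38039 (iv D36700) (iv D35091) (iv F162449)
def n38040 : Q := act 8 n36621
theorem D38040 : act 8 n36621 = n38040 := rfl
theorem F176153 : act 0 n38040 = n36627 := d7_1 D38040 (iv D36627) (iv F169672)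
theorem F176154 : act 1 n38040 = n36829 := d15_1 D38040 F170779 (iv F169673)
theorem F176155 : act 2 n38040 = n37222 := d22_1 D38040 F172745 (iv F169674)
theorem F176156 : act 3 n38040 = n36780 := d28_1 D38040 (iv D36780) (iv F169675)
theorem F176157 : act 5 n38040 = n38040 := d37_1 D38040 (iv D38040) F169676 F162455 (iv F169676)
theorem F176158 : act 7 n38040 = n36622 := d42_1 D38040 (iv D36622) D36621
theorem F176159 : act 9 n38040 = n36824 := d44_2 F175996 D38040 (iv D36824) (iv F170648) (iv F175995)
def n38041 : Q := act 2 n36623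
theorem D38041 : act 2 n36623 = n38041 := rfl
theorem F176160 : act 0 n38041 = n37687 := d1_1 D38041 F176132 F176126
theorem F176161 : act 1 n38041 = n37024 := d9_1 D38041 (iv D37024) F164539 (iv F162470) (iv F169684)
theorem F176162 : act 3 n38041 = n37507 := d17_2 D36623 D38041 F173770 F166997 (iv F162457)
theorem F176163 : act 4 n38041 = n36781 := d18_2 (iv F169685) D38041 (iv D36781)
theorem F176164 : act 5 n38041 = n37580 := d19_2 (iv F169686) D38041 F174022
theorem F176165 : act 6 n38041 = n36703 := d20_2 (iv F169687) D38041 (iv D36703)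
theorem F176166 : act 9 n38041 = n37045 := d23_2 F176002 D38041 F176003
theorem F176167 : act 8 n36997 = n38041 := d44_5 F176166 (iv D37045) (iv D35457) (iv F164418) D36997
def n38042 : Q := act 7 n36623
theorem D38042 : act 7 n36623 = n38042 := rfl
theorem F176168 : act 1 n38042 = n36629 := d14_1 D38042 (iv D36629) (iv F169684)
theorem F176169 : act 3 n38042 = n36624 := d27_1 D38042 (iv D36624) D36623
theorem F176170 : act 4 n38042 = n36782 := d32_1 D38042 (iv D36782) (iv F169685)
theorem F176171 : act 5 n38042 = n37758 := d36_1 D38042 (iv D37758) (iv F169686)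
def n38043 : Q := act 8 n36623
theorem D38043 : act 8 n36623 = n38043 := rfl
theorem F176172 : act 0 n38043 = n36708 := d7_1 D38043 F176133 F176126
theorem F176173 : act 1 n38043 = n36630 := d15_1 D38043 (iv D36630) (iv F169684)
theorem F176174 : act 2 n38043 = n36997 := d22_1 D38043 F176167 (iv D38041)
theorem F176175 : act 3 n38043 = n36625 := d28_1 D38043 (iv D36625) D36623
theorem F176176 : act 4 n38043 = n36702 := d33_1 D38043 F170094 (iv F169685)
theorem F176177 : act 5 n38043 = n36989 := d37_1 D38043 (iv F175592) F175590 F173189 (iv F169686)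
theorem F176178 : act 6 n38043 = n36705 := d40_1 D38043 (iv D36705) (iv F169687)
theorem F176179 : act 9 n38043 = n36699 := d44_2 F176002 D38043 (iv D36699) (iv F169935) F176004
def n38044 : Q := act 6 n36624
theorem D38044 : act 6 n36624 = n38044 := rfl
theorem F176180 : act 1 n38044 = n36631 := d13_1 D38044 (iv D36631) (iv F169688)
theorem F176181 : act 2 n38044 = n37723 := d20_1 D38044 F174440 (iv F169689)
theorem F176182 : act 4 n38044 = n36626 := d31_1 D38044 (iv D36626) (iv F169690)
theorem F176183 : act 7 n38044 = n36706 := d39_2 D36624 D38044 (iv D36706) (iv D35094) (iv F162459)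
def n38045 : Q := act 8 n36624
theorem D38045 : act 8 n36624 = n38045 := rfl
theorem F176184 : act 1 n38045 = n36632 := d15_1 D38045 (iv D36632) (iv F169688)
theorem F176185 : act 2 n38045 = n37685 := d22_1 D38045 F174339 (iv F169689)
theorem F176186 : act 4 n38045 = n36627 := d33_1 D38045 (iv D36627) (iv F169690)
theorem F176187 : act 7 n38045 = n36625 := d42_1 D38045 (iv D36625) D36624
def n38046 : Q := act 5 n36625
theorem D38046 : act 5 n36625 = n38046 := rfl
theorem F176188 : act 0 n38046 = n37674 := d4_1 D38046 (iv F176144) F176139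
theorem F176189 : act 1 n38046 = n36633 := d12_1 D38046 (iv D36633) (iv F169692)
theorem F176190 : act 2 n38046 = n37317 := d19_1 D38046 F173084 (iv F169693)
theorem F176191 : act 3 n38046 = n36989 := d25_1 D38046 (iv F176177) F176175
theorem F176192 : act 4 n38046 = n38046 := d30_1 D38046 (iv D38046) F169694 F162467 (iv F169694)
theorem F176193 : act 6 n38046 = n37309 := d35_2 (iv F169695) D38046 (iv D37309) F166187 (iv F162789)
theorem F176194 : act 8 n38046 = n37332 := d37_2 D36625 D38046 F173142 F166322 (iv F162458)
theorem F176195 : act 9 n36986 = n38046 := d44_0 F176194 F175565 (iv D37949) F169178 D36986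
def n38047 : Q := act 9 n36625
theorem D38047 : act 9 n36625 = n38047 := rfl
theorem F176196 : act 0 n38047 = n36705 := d8_1 D38047 (iv F176146) F176139
theorem F176197 : act 1 n38047 = n36634 := d16_1 D38047 (iv D36634) (iv F169692)
theorem F176198 : act 2 n38047 = n37686 := d23_1 D38047 (iv D37686) (iv F169693)
theorem F176199 : act 3 n38047 = n36699 := d29_1 D38047 (iv F176179) F176175
theorem F176200 : act 4 n38047 = n36628 := d34_1 D38047 (iv D36628) (iv F169694)
theorem F176201 : act 5 n38047 = n36986 := d38_1 D38047 F176195 (iv D38046)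
theorem F176202 : act 6 n38047 = n36708 := d41_1 D38047 (iv D36708) (iv F169695)
theorem F176203 : act 8 n38047 = n36697 := d44_1 D38047 F176017 (iv D38019) F169575 D36625
def n38048 : Q := act 8 n36626
theorem D38048 : act 8 n36626 = n38048 := rfl
theorem F176204 : act 1 n38048 = n36635 := d15_1 D38048 (iv D36635) (iv F169696)
theorem F176205 : act 2 n38048 = n37794 := d22_1 D38048 F174589 (iv F169697)
theorem F176206 : act 3 n38048 = n36785 := d28_1 D38048 (iv D36785) (iv F169698)
theorem F176207 : act 6 n38048 = n36627 := d40_1 D38048 (iv D36627) D36626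
theorem F176208 : act 7 n38048 = n36709 := d42_1 D38048 (iv D36709) (iv F169699)
def n38049 : Q := act 9 n36627
theorem D38049 : act 9 n36627 = n38049 := rfl
theorem F176209 : act 0 n38049 = n36824 := d8_1 D38049 (iv F176159) F176153
theorem F176210 : act 1 n38049 = n36636 := d16_1 D38049 (iv D36636) (iv F169700)
theorem F176211 : act 2 n38049 = n37797 := d23_1 D38049 (iv D37797) (iv F169701)
theorem F176212 : act 3 n38049 = n36786 := d29_1 D38049 (iv D36786) (iv F169702)
theorem F176213 : act 5 n38049 = n38049 := d38_1 D38049 (iv D38049) F169703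
theorem F176214 : act 7 n38049 = n36628 := d43_1 D38049 (iv D36628) (iv F169704)
theorem F176215 : act 8 n38049 = n36818 := d44_1 D38049 F176030 (iv D38021) F169580 D36627
def n38050 : Q := act 6 n36629
theorem D38050 : act 6 n36629 = n38050 := rfl
theorem F176216 : act 0 n38050 = n37501 := d5_1 D38050 (iv D37501) (iv F169712)
theorem F176217 : act 2 n38050 = n37032 := d20_1 D38050 (iv D37032) (iv F169713)
theorem F176218 : act 3 n38050 = n36631 := d26_1 D38050 (iv D36631) (iv F169714)
theorem F176219 : act 4 n38050 = n36787 := d31_1 D38050 (iv D36787) (iv F169715)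
theorem F176220 : act 7 n38050 = n36711 := d39_2 D36629 D38050 (iv D36711) (iv D35099) (iv F162472)
def n38051 : Q := act 8 n36629
theorem D38051 : act 8 n36629 = n38051 := rfl
theorem F176221 : act 0 n38051 = n37502 := d7_1 D38051 (iv D37502) (iv F169712)
theorem F176222 : act 2 n38051 = n37033 := d22_1 D38051 (iv D37033) (iv F169713)
theorem F176223 : act 3 n38051 = n36632 := d28_1 D38051 (iv D36632) (iv F169714)
theorem F176224 : act 4 n38051 = n36788 := d33_1 D38051 (iv D36788) (iv F169715)
theorem F176225 : act 7 n38051 = n36630 := d42_1 D38051 (iv D36630) D36629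
theorem F176226 : act 9 n38051 = n37569 := d44_2 F176037 D38051 (iv D37569) (iv F173912) (iv F176036)
def n38052 : Q := act 5 n36630
theorem D38052 : act 5 n36630 = n38052 := rfl
theorem F176227 : act 0 n38052 = n36703 := d4_1 D38052 F170098 (iv F169716)
theorem F176228 : act 1 n38052 = n36989 := d12_1 D38052 (iv F176177) F176173
theorem F176229 : act 2 n38052 = n36697 := d19_1 D38052 F170066 (iv F169717)
theorem F176230 : act 3 n38052 = n36633 := d25_1 D38052 (iv D36633) (iv F169718)
theorem F176231 : act 4 n38052 = n36817 := d30_1 D38052 F170723 F163628 F163206 (iv F169719)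
theorem F176232 : act 8 n38052 = n37686 := d37_2 D36630 D38052 F175840 (iv D37993) F169425
theorem F176233 : act 9 n38052 = n36982 := d38_2 (iv F169721) D38052 F171598
theorem F176234 : act 6 n37687 = n38052 := d41_3 F176233 F171599 (iv F174343)
def n38053 : Q := act 5 n36631
theorem D38053 : act 5 n36631 = n38053 := rfl
theorem F176235 : act 0 n38053 = n37503 := d4_1 D38053 (iv D37503) (iv F169722)
theorem F176236 : act 2 n38053 = n36637 := d19_1 D38053 (iv D36637) (iv F169723)
theorem F176237 : act 7 n38053 = n36715 := d36_2 (iv F169725) D38053 (iv D36715)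
def n38054 : Q := act 8 n36631
theorem D38054 : act 8 n36631 = n38054 := rfl
theorem F176238 : act 0 n38054 = n37504 := d7_1 D38054 (iv D37504) (iv F169722)
theorem F176239 : act 2 n38054 = n36638 := d22_1 D38054 (iv D36638) (iv F169723)
theorem F176240 : act 4 n38054 = n36635 := d33_1 D38054 (iv D36635) (iv F169724)
theorem F176241 : act 6 n38054 = n36632 := d40_1 D38054 (iv D36632) D36631
theorem F176242 : act 7 n38054 = n36716 := d42_1 D38054 (iv D36716) (iv F169725)
def n38055 : Q := act 5 n36632
theorem D38055 : act 5 n36632 = n38055 := rfl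
theorem F176243 : act 0 n38055 = n37505 := d4_1 D38055 (iv D37505) (iv F169726)
theorem F176244 : act 2 n38055 = n36639 := d19_1 D38055 (iv D36639) (iv F169727)
theorem F176245 : act 4 n38055 = n38055 := d30_1 D38055 (iv D38055) F169728 F162487 (iv F169728)
theorem F176246 : act 7 n38055 = n36633 := d36_2 (iv F169729) D38055 (iv D36633)
def n38056 : Q := act 9 n36632
theorem D38056 : act 9 n36632 = n38056 := rfl
theorem F176247 : act 0 n38056 = n37506 := d8_1 D38056 (iv D37506) (iv F169726)
theorem F176248 : act 2 n38056 = n36640 := d23_1 D38056 (iv D36640) (iv F169727)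
theorem F176249 : act 3 n38056 = n37569 := d29_1 D38056 (iv F176226) F176223
theorem F176250 : act 4 n38056 = n36636 := d34_1 D38056 (iv D36636) (iv F169728)
theorem F176251 : act 7 n38056 = n36634 := d43_1 D38056 (iv D36634) (iv F169729)
theorem F176252 : act 8 n38056 = n37567 := d44_1 D38056 F176048 (iv D38024) F169599 D36632
def n38057 : Q := act 6 n36633
theorem D38057 : act 6 n36633 = n38057 := rfl
theorem F176253 : act 0 n38057 = n37507 := d5_1 D38057 (iv D37507) (iv F169730)
theorem F176254 : act 1 n38057 = n37309 := d13_1 D38057 (iv F176193) F176189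
theorem F176255 : act 2 n38057 = n36641 := d20_1 D38057 (iv D36641) (iv F169731)
theorem F176256 : act 3 n38057 = n37687 := d26_1 D38057 F176234 F176230
theorem F176257 : act 4 n38057 = n38057 := d31_1 D38057 (iv D38057) F169732
theorem F176258 : act 5 n38057 = n36719 := d35_1 D38057 (iv D36719) (iv D35103) (iv F162479) D36633
theorem F176259 : act 8 n38057 = n37326 := d40_2 F175858 D38057 (iv F175857)
theorem F176260 : act 9 n37517 = n38057 := d44_0 F176259 F173122 F166919 D36020 D37517
def n38058 : Q := act 9 n36633
theorem D38058 : act 9 n36633 = n38058 := rfl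
theorem F176261 : act 0 n38058 = n37508 := d8_1 D38058 (iv D37508) (iv F169730)
theorem F176262 : act 1 n38058 = n36986 := d16_1 D38058 F176195 F176189
theorem F176263 : act 2 n38058 = n36642 := d23_1 D38058 (iv D36642) (iv F169731)
theorem F176264 : act 3 n38058 = n36982 := d29_1 D38058 (iv F176233) F176230
theorem F176265 : act 4 n38058 = n38058 := d34_1 D38058 (iv D38058) F169732
theorem F176266 : act 5 n38058 = n36634 := d38_1 D38058 (iv D36634) D36633
theorem F176267 : act 6 n38058 = n37517 := d41_1 D38058 F176260 (iv D38057)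
theorem F176268 : act 8 n38058 = n36980 := d44_1 D38058 F171590 (iv F173713) F175859 F175858
def n38059 : Q := act 5 n36635
theorem D38059 : act 5 n36635 = n38059 := rfl
theorem F176269 : act 0 n38059 = n37509 := d4_1 D38059 (iv D37509) (iv F169739)
theorem F176270 : act 2 n38059 = n36643 := d19_1 D38059 (iv D36643) (iv F169740)
theorem F176271 : act 3 n38059 = n36791 := d25_1 D38059 (iv D36791) (iv F169741)
theorem F176272 : act 6 n38059 = n38059 := d35_2 (iv F169742) D38059 (iv D38059) F169742 F162487
theorem F176273 : act 7 n38059 = n36721 := d36_2 (iv F169743) D38059 (iv D36721)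
def n38060 : Q := act 9 n36635
theorem D38060 : act 9 n36635 = n38060 := rfl
theorem F176274 : act 0 n38060 = n37510 := d8_1 D38060 (iv D37510) (iv F169739)
theorem F176275 : act 2 n38060 = n36644 := d23_1 D38060 (iv D36644) (iv F169740)
theorem F176276 : act 3 n38060 = n36792 := d29_1 D38060 (iv D36792) (iv F169741)
theorem F176277 : act 6 n38060 = n36636 := d41_1 D38060 (iv D36636) (iv F169742)
theorem F176278 : act 7 n38060 = n36722 := d43_1 D38060 (iv D36722) (iv F169743)
theorem F176279 : act 8 n38060 = n37631 := d44_1 D38060 F176062 (iv D38026) F169611 D36635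
def n38061 : Q := act 8 n36637
theorem D38061 : act 8 n36637 = n38061 := rfl
theorem F176280 : act 0 n38061 = n37511 := d7_1 D38061 (iv D37511) (iv F169750)
theorem F176281 : act 3 n38061 = n37039 := d28_1 D38061 (iv D37039) (iv F169751)
theorem F176282 : act 7 n38061 = n36723 := d42_1 D38061 (iv D36723) (iv F169752)
def n38062 : Q := act 5 n36638
theorem D38062 : act 5 n36638 = n38062 := rfl
theorem F176283 : act 0 n38062 = n37512 := d4_1 D38062 (iv D37512) (iv F169753)
theorem F176284 : act 3 n38062 = n37040 := d25_1 D38062 (iv D37040) (iv F169754)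
theorem F176285 : act 7 n38062 = n36724 := d36_2 (iv F169757) D38062 (iv D36724)
def n38063 : Q := act 9 n36638
theorem D38063 : act 9 n36638 = n38063 := rfl
theorem F176286 : act 0 n38063 = n37513 := d8_1 D38063 (iv D37513) (iv F169753)
theorem F176287 : act 3 n38063 = n37041 := d29_1 D38063 (iv D37041) (iv F169754)
theorem F176288 : act 4 n38063 = n36644 := d34_1 D38063 (iv D36644) (iv F169755)
theorem F176289 : act 6 n38063 = n36640 := d41_1 D38063 (iv D36640) (iv F169756)
theorem F176290 : act 7 n38063 = n36725 := d43_1 D38063 (iv D36725) (iv F169757)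
def n38064 : Q := act 6 n36639
theorem D38064 : act 6 n36639 = n38064 := rfl
theorem F176291 : act 0 n38064 = n37514 := d5_1 D38064 (iv D37514) (iv F169758)
theorem F176292 : act 3 n38064 = n37042 := d26_1 D38064 (iv D37042) (iv F169759)
theorem F176293 : act 4 n38064 = n38064 := d31_1 D38064 (iv D38064) F169760
def n38065 : Q := act 9 n36639
theorem D38065 : act 9 n36639 = n38065 := rfl
theorem F176294 : act 0 n38065 = n37515 := d8_1 D38065 (iv D37515) (iv F169758)
theorem F176295 : act 3 n38065 = n37043 := d29_1 D38065 (iv D37043) (iv F169759)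
theorem F176296 : act 4 n38065 = n38065 := d34_1 D38065 (iv D38065) F169760
theorem F176297 : act 5 n38065 = n36640 := d38_1 D38065 (iv D36640) D36639
theorem F176298 : act 7 n38065 = n36642 := d43_1 D38065 (iv D36642) (iv F169761)
def n38066 : Q := act 7 n36641
theorem D38066 : act 7 n36641 = n38066 := rfl
theorem F176299 : act 0 n38066 = n37516 := d6_1 D38066 (iv D37516) (iv F169766)
theorem F176300 : act 3 n38066 = n37044 := d27_1 D38066 (iv D37044) (iv F169767)
theorem F176301 : act 4 n38066 = n38066 := d32_1 D38066 (iv D38066) F169768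
theorem F176302 : act 5 n38066 = n36728 := d36_1 D38066 (iv D36728) (iv F169769)
def n38067 : Q := act 9 n36641
theorem D38067 : act 9 n36641 = n38067 := rfl
theorem F176303 : act 0 n38067 = n36980 := d8_1 D38067 F171590 (iv F169766)
theorem F176304 : act 1 n38067 = n37232 := d16_1 D38067 F175638 F175632
theorem F176305 : act 2 n38067 = n37517 := d23_1 D38067 F176260 F176255
theorem F176306 : act 3 n38067 = n36978 := d29_1 D38067 F171579 (iv F169767)
theorem F176307 : act 4 n38067 = n38067 := d34_1 D38067 (iv D38067) F169768
theorem F176308 : act 5 n38067 = n36729 := d38_1 D38067 (iv D36729) (iv F169769)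
theorem F176309 : act 6 n38067 = n36642 := d41_1 D38067 (iv D36642) D36641
theorem F176310 : act 8 n38067 = n37508 := d44_1 D38067 (iv D37508) (iv F173698) F175913 F175912
def n38068 : Q := act 8 n36642
theorem D38068 : act 8 n36642 = n38068 := rfl
theorem F176311 : act 0 n38068 = n37517 := d7_1 D38068 (iv D37517) (iv F169770)
theorem F176312 : act 1 n38068 = n37580 := d15_1 D38068 F175646 F175640
theorem F176313 : act 2 n38068 = n36980 := d22_1 D38068 (iv F176268) F176263
theorem F176314 : act 3 n38068 = n37045 := d28_1 D38068 (iv D37045) (iv F169771)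
theorem F176315 : act 4 n38068 = n38068 := d33_1 D38068 (iv D38068) F169772
theorem F176316 : act 5 n38068 = n37024 := d37_1 D38068 (iv F176104) F176102 F169640 (iv F169773)
theorem F176317 : act 6 n38068 = n37508 := d40_1 D38068 (iv F176310) F176309
theorem F176318 : act 9 n38068 = n37507 := d44_2 D36642 D38068 F175921 (iv D38005) F169474
def n38069 : Q := act 4 n36643
theorem D38069 : act 4 n36643 = n38069 := rfl
theorem F176319 : act 0 n38069 = n37518 := d3_1 D38069 (iv D37518) (iv F169774)
theorem F176320 : act 6 n38069 = n38069 := d31_2 F169776 D38069 (iv D38069)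
theorem F176321 : act 7 n38069 = n36731 := d32_2 (iv F169777) D38069 (iv D36731)
def n38070 : Q := act 9 n36643
theorem D38070 : act 9 n36643 = n38070 := rfl
theorem F176322 : act 0 n38070 = n37519 := d8_1 D38070 (iv D37519) (iv F169774)
theorem F176323 : act 3 n38070 = n36646 := d29_1 D38070 (iv D36646) (iv F169775)
theorem F176324 : act 5 n38070 = n36644 := d38_1 D38070 (iv D36644) D36643
theorem F176325 : act 6 n38070 = n38070 := d41_1 D38070 (iv D38070) F169776
theorem F176326 : act 7 n38070 = n36732 := d43_1 D38070 (iv D36732) (iv F169777)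
def n38071 : Q := act 3 n36645
theorem D38071 : act 3 n36645 = n38071 := rfl
theorem F176327 : act 0 n38071 = n37520 := d2_1 D38071 (iv D37520) (iv F169782)
theorem F176328 : act 2 n38071 = n37411 := d17_1 D38071 F173372 F166533 F163257 (iv F169783)
theorem F176329 : act 5 n38071 = n37047 := d25_2 (iv F169784) D38071 (iv D37047)
theorem F176330 : act 6 n38071 = n38071 := d26_2 F169785 D38071 (iv D38071)
theorem F176331 : act 7 n38071 = n36733 := d27_2 (iv F169786) D38071 (iv D36733)
def n38072 : Q := act 8 n36646
theorem D38072 : act 8 n36646 = n38072 := rfl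
theorem F176332 : act 0 n38072 = n37522 := d7_1 D38072 (iv D37522) (iv F169787)
theorem F176333 : act 2 n38072 = n36794 := d22_1 D38072 F170575 (iv F169788)
theorem F176334 : act 4 n38072 = n36791 := d33_1 D38072 (iv F175824) F175821
theorem F176335 : act 5 n38072 = n37413 := d37_1 D38072 (iv F176125) F176122 F169666 (iv F169789)
theorem F176336 : act 6 n38072 = n38072 := d40_1 D38072 (iv D38072) F169790
theorem F176337 : act 7 n38072 = n36734 := d42_1 D38072 (iv D36734) (iv F169791)
theorem F176338 : act 9 n38072 = n37412 := d44_2 D36646 D38072 F173376 (iv F169555) F169554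
def n38073 : Q := act 7 n36647
theorem D38073 : act 7 n36647 = n38073 := rfl
theorem F176339 : act 0 n38073 = n37242 := d6_1 D38073 F172824 (iv F169792)
theorem F176340 : act 1 n38073 = n36649 := d14_1 D38073 (iv D36649) (iv F169793)
theorem F176341 : act 2 n38073 = n37481 := d21_1 D38073 (iv D37481) (iv F169794)
theorem F176342 : act 3 n38073 = n37271 := d27_1 D38073 F172930 (iv F169795)
theorem F176343 : act 4 n38073 = n36648 := d32_1 D38073 (iv D36648) D36647
theorem F176344 : act 5 n38073 = n37426 := d36_1 D38073 (iv D37426) (iv F169796)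
theorem F176345 : act 8 n38073 = n37284 := d42_2 (iv F169798) D38073 F172978
theorem F176346 : act 9 n38073 = n36891 := d43_2 (iv F169799) D38073 F171156
def n38074 : Q := act 6 n36648
theorem D38074 : act 6 n36648 = n38074 := rfl
theorem F176347 : act 0 n38074 = n37243 := d5_1 D38074 F172827 (iv F169800)
theorem F176348 : act 1 n38074 = n36650 := d13_1 D38074 (iv D36650) (iv F169801)
theorem F176349 : act 2 n38074 = n37482 := d20_1 D38074 (iv D37482) (iv F169802)
theorem F176350 : act 3 n38074 = n36796 := d26_1 D38074 (iv D36796) (iv F169803)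
theorem F176351 : act 5 n38074 = n37050 := d35_1 D38074 (iv D37050) F164641 (iv F162539) (iv F169804)
theorem F176352 : act 7 n38074 = n36937 := d39_2 D36648 D38074 F171399 F164165 (iv F162531)
theorem F176353 : act 8 n38074 = n37286 := d40_2 (iv F169805) D38074 F172985
theorem F176354 : act 9 n38074 = n36892 := d41_2 (iv F169806) D38074 F171160
def n38075 : Q := act 6 n36649
theorem D38075 : act 6 n36649 = n38075 := rfl
theorem F176355 : act 0 n38075 = n37523 := d5_1 D38075 (iv D37523) (iv F169807)
theorem F176356 : act 2 n38075 = n36651 := d20_1 D38075 (iv D36651) (iv F169808)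
theorem F176357 : act 4 n38075 = n36650 := d31_1 D38075 (iv D36650) (iv F169809)
theorem F176358 : act 7 n38075 = n37067 := d39_2 D36649 D38075 F171967 F164726 (iv F162545)
theorem F176359 : act 8 n38075 = n37336 := d40_2 (iv F169811) D38075 F173150
theorem F176360 : act 9 n38075 = n37004 := d41_2 (iv F169812) D38075 F171681
def n38076 : Q := act 5 n36651
theorem D38076 : act 5 n36651 = n38076 := rfl
theorem F176361 : act 0 n38076 = n37524 := d4_1 D38076 (iv D37524) (iv F169820)
theorem F176362 : act 1 n38076 = n37489 := d12_1 D38076 (iv D37489) (iv F169821)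
theorem F176363 : act 3 n38076 = n36663 := d25_1 D38076 (iv D36663) (iv F169822)
theorem F176364 : act 4 n38076 = n37055 := d30_1 D38076 (iv D37055) F164669 (iv F162570) (iv F169823)
theorem F176365 : act 6 n38076 = n37430 := d35_2 D36651 D38076 (iv D37430) (iv D35932) (iv F162558)
theorem F176366 : act 7 n38076 = n37640 := d36_2 (iv F169824) D38076 (iv D37640)
theorem F176367 : act 9 n38076 = n37245 := d38_2 (iv F169825) D38076 (iv D37245)
def n38077 : Q := act 8 n36651
theorem D38077 : act 8 n36651 = n38077 := rfl
theorem F176368 : act 0 n38077 = n37525 := d7_1 D38077 (iv D37525) (iv F169820)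
theorem F176369 : act 1 n38077 = n37490 := d15_1 D38077 (iv D37490) (iv F169821)
theorem F176370 : act 2 n38077 = n37336 := d22_1 D38077 (iv F176359) F176356
theorem F176371 : act 3 n38077 = n36664 := d28_1 D38077 (iv D36664) (iv F169822)
theorem F176372 : act 4 n38077 = n36653 := d33_1 D38077 (iv D36653) (iv F169823)
theorem F176373 : act 6 n38077 = n36652 := d40_1 D38077 (iv D36652) D36651
theorem F176374 : act 7 n38077 = n37352 := d42_1 D38077 F173197 (iv F169824)
theorem F176375 : act 9 n38077 = n37330 := d44_2 (iv F169825) D38077 (iv D37330) (iv F171673) F171672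
def n38078 : Q := act 5 n36653
theorem D38078 : act 5 n36653 = n38078 := rfl
theorem F176376 : act 0 n38078 = n37528 := d4_1 D38078 (iv D37528) (iv F169833)
theorem F176377 : act 1 n38078 = n37493 := d12_1 D38078 (iv D37493) (iv F169834)
theorem F176378 : act 2 n38078 = n37340 := d19_1 D38078 F173158 (iv F169835)
theorem F176379 : act 3 n38078 = n36654 := d25_1 D38078 (iv D36654) (iv F169836)
theorem F176380 : act 6 n38078 = n38078 := d35_2 (iv F169837) D38078 (iv D38078) F169837 F162577
theorem F176381 : act 7 n38078 = n37358 := d36_2 (iv F169838) D38078 F173218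
theorem F176382 : act 8 n38078 = n37059 := d37_2 D36653 D38078 (iv D37059) (iv D35473) (iv F162570)
theorem F176383 : act 9 n38078 = n37333 := d38_2 (iv F169839) D38078 (iv D37333)
def n38079 : Q := act 4 n36654
theorem D38079 : act 4 n36654 = n38079 := rfl
theorem F176384 : act 0 n38079 = n37529 := d3_1 D38079 (iv D37529) (iv F169840)
theorem F176385 : act 1 n38079 = n37494 := d11_1 D38079 (iv D37494) (iv F169841)
theorem F176386 : act 2 n38079 = n36798 := d18_1 D38079 (iv D36798) (iv F169842)
theorem F176387 : act 5 n38079 = n36668 := d30_2 D36654 D38079 (iv D36668) (iv D35069) (iv F162583)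
theorem F176388 : act 6 n38079 = n38079 := d31_2 F169843 D38079 (iv D38079)
theorem F176389 : act 7 n38079 = n37264 := d32_2 (iv F169844) D38079 F172896
theorem F176390 : act 8 n38079 = n37061 := d33_2 (iv F169845) D38079 (iv D37061)
theorem F176391 : act 9 n38079 = n37405 := d34_2 (iv F169846) D38079 (iv D37405)
def n38080 : Q := act 6 n36655
theorem D38080 : act 6 n36655 = n38080 := rfl
theorem F176392 : act 0 n38080 = n37428 := d5_1 D38080 (iv D37428) (iv F169847)
theorem F176393 : act 2 n38080 = n36658 := d20_1 D38080 (iv D36658) (iv F169848)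
theorem F176394 : act 4 n38080 = n36656 := d31_1 D38080 (iv D36656) (iv F169849)
theorem F176395 : act 7 n38080 = n37424 := d39_2 D36655 D38080 (iv D37424) (iv D35922) (iv F162590)
theorem F176396 : act 9 n38080 = n36662 := d41_2 (iv F169851) D38080 (iv D36662)
def n38081 : Q := act 8 n36656
theorem D38081 : act 8 n36656 = n38081 := rfl
theorem F176397 : act 0 n38081 = n37429 := d7_1 D38081 (iv D37429) (iv F169852)
theorem F176398 : act 2 n38081 = n36660 := d22_1 D38081 (iv D36660) (iv F169853)
theorem F176399 : act 3 n38081 = n36799 := d28_1 D38081 (iv D36799) (iv F169854)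
theorem F176400 : act 6 n38081 = n36657 := d40_1 D38081 (iv D36657) D36656
theorem F176401 : act 7 n38081 = n37144 := d42_1 D38081 F172317 (iv F169856)
theorem F176402 : act 9 n38081 = n37070 := d44_2 (iv F169857) D38081 F171982 (iv F169370) F169369
def n38082 : Q := act 5 n36658
theorem D38082 : act 5 n36658 = n38082 := rfl
theorem F176403 : act 0 n38082 = n37430 := d4_1 D38082 (iv D37430) (iv F169864)
theorem F176404 : act 1 n38082 = n37666 := d12_1 D38082 (iv D37666) (iv F169865)
theorem F176405 : act 3 n38082 = n37245 := d25_1 D38082 (iv D37245) (iv F169866)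
theorem F176406 : act 4 n38082 = n36687 := d30_1 D38082 (iv D36687) F162735 (iv F162618) (iv F169867)
theorem F176407 : act 6 n38082 = n37524 := d35_2 D36658 D38082 (iv D37524) (iv D36027) (iv F162607)
theorem F176408 : act 7 n38082 = n37425 := d36_2 (iv F169868) D38082 (iv D37425)
theorem F176409 : act 9 n38082 = n36663 := d38_2 (iv F169869) D38082 (iv D36663)
def n38083 : Q := act 8 n36658
theorem D38083 : act 8 n36658 = n38083 := rfl
theorem F176410 : act 0 n38083 = n37431 := d7_1 D38083 (iv D37431) (iv F169864)
theorem F176411 : act 1 n38083 = n37667 := d15_1 D38083 (iv D37667) (iv F169865)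
theorem F176412 : act 3 n38083 = n37002 := d28_1 D38083 F171672 (iv F169866)
theorem F176413 : act 4 n38083 = n36660 := d33_1 D38083 (iv D36660) (iv F169867)
theorem F176414 : act 6 n38083 = n36659 := d40_1 D38083 (iv D36659) D36658
theorem F176415 : act 7 n38083 = n37063 := d42_1 D38083 F171952 (iv F169868)
theorem F176416 : act 9 n37328 = n38083 := d43_0 F176415 F171953 (iv F173130)
def n38084 : Q := act 5 n36660
theorem D38084 : act 5 n36660 = n38084 := rfl
theorem F176417 : act 0 n38084 = n37432 := d4_1 D38084 (iv D37432) (iv F169876)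
theorem F176418 : act 1 n38084 = n37669 := d12_1 D38084 (iv D37669) (iv F169877)
theorem F176419 : act 3 n38084 = n36661 := d25_1 D38084 (iv D36661) (iv F169878)
theorem F176420 : act 6 n38084 = n38084 := d35_2 (iv F169879) D38084 (iv D38084) F169879 F162624
theorem F176421 : act 7 n38084 = n37147 := d36_2 (iv F169880) D38084 (iv D37147)
theorem F176422 : act 8 n38084 = n36693 := d37_2 D36660 D38084 (iv D36693) (iv D35086) (iv F162618)
theorem F176423 : act 9 n38084 = n37403 := d38_2 F169881 D38084 (iv D37403)
def n38085 : Q := act 5 n36662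
theorem D38085 : act 5 n36662 = n38085 := rfl
theorem F176424 : act 0 n38085 = n37532 := d4_1 D38085 (iv D37532) (iv F169890)
theorem F176425 : act 2 n38085 = n36663 := d19_1 D38085 (iv D36663) (iv F169891)
theorem F176426 : act 4 n38085 = n36715 := d30_1 D38085 (iv D36715) F162812 (iv F162641) (iv F169892)
theorem F176427 : act 6 n38085 = n37642 := d35_2 D36662 D38085 (iv D37642) (iv D36187) (iv F162637)
def n38086 : Q := act 8 n36663
theorem D38086 : act 8 n36663 = n38086 := rfl
theorem F176428 : act 0 n38086 = n37535 := d7_1 D38086 (iv D37535) (iv F169893)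
theorem F176429 : act 1 n38086 = n37680 := d15_1 D38086 (iv D37680) (iv F169894)
theorem F176430 : act 4 n38086 = n36723 := d33_1 D38086 (iv D36723) (iv F169895)
theorem F176431 : act 6 n38086 = n37643 := d40_1 D38086 (iv D37643) (iv F169896)
def n38087 : Q := act 5 n36664
theorem D38087 : act 5 n36664 = n38087 := rfl
theorem F176432 : act 0 n38087 = n37536 := d4_1 D38087 (iv D37536) (iv F169897)
theorem F176433 : act 1 n38087 = n37681 := d12_1 D38087 (iv D37681) (iv F169898)
def n38088 : Q := act 9 n36664
theorem D38088 : act 9 n36664 = n38088 := rfl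
theorem F176434 : act 0 n38088 = n37537 := d8_1 D38088 (iv D37537) (iv F169897)
theorem F176435 : act 1 n38088 = n37682 := d16_1 D38088 (iv D37682) (iv F169898)
theorem F176436 : act 2 n38088 = n37118 := d23_1 D38088 (iv F175730) F175726
theorem F176437 : act 3 n38088 = n37330 := d29_1 D38088 (iv F176375) F176371
theorem F176438 : act 4 n38088 = n36667 := d34_1 D38088 (iv D36667) (iv F169899)
theorem F176439 : act 6 n38088 = n36665 := d41_1 D38088 (iv D36665) (iv F169900)
theorem F176440 : act 7 n38088 = n37347 := d43_1 D38088 (iv F175959) F175958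
theorem F176441 : act 8 n38088 = n37328 := d44_1 D38088 F176416 (iv D38083) F169869 D36664
def n38089 : Q := act 4 n36666
theorem D38089 : act 4 n36666 = n38089 := rfl
theorem F176442 : act 0 n38089 = n37540 := d3_1 D38089 (iv D37540) (iv F169908)
theorem F176443 : act 1 n38089 = n37688 := d11_1 D38089 (iv D37688) (iv F169909)
theorem F176444 : act 6 n38089 = n36735 := d31_2 (iv F169911) D38089 (iv D36735)
theorem F176445 : act 8 n38089 = n36731 := d33_2 (iv F169912) D38089 (iv D36731)
def n38090 : Q := act 9 n36666
theorem D38090 : act 9 n36666 = n38090 := rfl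
theorem F176446 : act 0 n38090 = n37541 := d8_1 D38090 (iv D37541) (iv F169908)
theorem F176447 : act 1 n38090 = n37689 := d16_1 D38090 (iv D37689) (iv F169909)
theorem F176448 : act 2 n38090 = n36733 := d23_1 D38090 (iv F175784) F175780
theorem F176449 : act 3 n38090 = n36669 := d29_1 D38090 (iv D36669) (iv F169910)
theorem F176450 : act 5 n38090 = n36667 := d38_1 D38090 (iv D36667) D36666
theorem F176451 : act 6 n38090 = n36736 := d41_1 D38090 (iv D36736) (iv F169911)
theorem F176452 : act 7 n38090 = n37411 := d43_1 D38090 (iv F175973) F175971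
def n38091 : Q := act 3 n36668
theorem D38091 : act 3 n36668 = n38091 := rfl
theorem F176453 : act 0 n38091 = n37542 := d2_1 D38091 (iv D37542) (iv F169920)
theorem F176454 : act 1 n38091 = n37690 := d10_1 D38091 (iv D37690) (iv F169921)
theorem F176455 : act 6 n38091 = n36737 := d26_2 (iv F169923) D38091 (iv D36737)
theorem F176456 : act 8 n38091 = n36733 := d28_2 (iv F169924) D38091 (iv D36733)
def n38092 : Q := act 9 n36668
theorem D38092 : act 9 n36668 = n38092 := rfl
theorem F176457 : act 0 n38092 = n37543 := d8_1 D38092 (iv D37543) (iv F169920)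
theorem F176458 : act 1 n38092 = n37691 := d16_1 D38092 (iv D37691) (iv F169921)
theorem F176459 : act 2 n38092 = n36802 := d23_1 D38092 (iv D36802) (iv F169922)
theorem F176460 : act 4 n38092 = n36669 := d34_1 D38092 (iv D36669) D36668
theorem F176461 : act 5 n38092 = n37405 := d38_1 D38092 (iv F176391) F176387
theorem F176462 : act 6 n38092 = n36738 := d41_1 D38092 (iv D36738) (iv F169923)
theorem F176463 : act 7 n38092 = n37414 := d43_1 D38092 (iv F175981) F175979
theorem F176464 : act 8 n38092 = n36833 := d44_1 D38092 (iv D36833) (iv F169404) F169405 (iv F169924)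
def n38093 : Q := act 8 n36669
theorem D38093 : act 8 n36669 = n38093 := rfl
theorem F176465 : act 0 n38093 = n37544 := d7_1 D38093 (iv D37544) (iv F169925)
theorem F176466 : act 1 n38093 = n37692 := d15_1 D38093 (iv D37692) (iv F169926)
theorem F176467 : act 2 n38093 = n36801 := d22_1 D38093 F170629 (iv F169927)
theorem F176468 : act 4 n38093 = n36833 := d33_1 D38093 (iv F176464) F176460
theorem F176469 : act 5 n38093 = n37404 := d37_1 D38093 (iv D37404) (iv D35895) (iv F162678) (iv F169928)
theorem F176470 : act 6 n38093 = n36739 := d40_1 D38093 (iv D36739) (iv F169929)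
theorem F176471 : act 7 n38093 = n37412 := d42_1 D38093 F173376 (iv F169930)
theorem F176472 : act 9 n38093 = n36734 := d44_2 D36669 D38093 (iv D36734) (iv D35116) (iv F162671)
def n38094 : Q := act 7 n36670
theorem D38094 : act 7 n36670 = n38094 := rfl
theorem F176473 : act 0 n38094 = n36674 := d6_1 D38094 (iv D36674) (iv F169931)
theorem F176474 : act 1 n38094 = n37545 := d14_1 D38094 (iv D37545) (iv F169932)
theorem F176475 : act 2 n38094 = n37043 := d21_1 D38094 F171864 (iv F169933)
theorem F176476 : act 4 n38094 = n36671 := d32_1 D38094 (iv D36671) D36670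
theorem F176477 : act 5 n38094 = n37037 := d36_1 D38094 F171844 (iv F169934)
theorem F176478 : act 9 n38094 = n36698 := d43_2 (iv F169935) D38094 (iv D36698)
def n38095 : Q := act 6 n36671
theorem D38095 : act 6 n36671 = n38095 := rfl
theorem F176479 : act 0 n38095 = n36676 := d5_1 D38095 (iv D36676) (iv F169936)
theorem F176480 : act 1 n38095 = n37546 := d13_1 D38095 (iv D37546) (iv F169937)
theorem F176481 : act 2 n38095 = n37229 := d20_1 D38095 F172774 (iv F169938)
theorem F176482 : act 3 n38095 = n36803 := d26_1 D38095 (iv D36803) (iv F169939)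
theorem F176483 : act 5 n38095 = n37258 := d35_1 D38095 F172872 F165932 (iv F162689) (iv F169940)
theorem F176484 : act 9 n38095 = n36700 := d41_2 (iv F169941) D38095 (iv D36700)
def n38096 : Q := act 8 n36671
theorem D38096 : act 8 n36671 = n38096 := rfl
theorem F176485 : act 0 n38096 = n36677 := d7_1 D38096 (iv D36677) (iv F169936)
theorem F176486 : act 1 n38096 = n36772 := d15_1 D38096 F170441 (iv F169937)
theorem F176487 : act 2 n38096 = n37230 := d22_1 D38096 (iv D37230) (iv F169938)
theorem F176488 : act 3 n38096 = n36769 := d28_1 D38096 F170423 (iv F169939)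
theorem F176489 : act 5 n38096 = n38096 := d37_1 D38096 (iv D38096) F169940 F162690 (iv F169940)
theorem F176490 : act 7 n38096 = n36672 := d42_1 D38096 (iv D36672) D36671
theorem F176491 : act 9 n36782 = n38096 := d43_0 F176490 (iv F169948) D36782
def n38097 : Q := act 7 n36673
theorem D38097 : act 7 n36673 = n38097 := rfl
theorem F176492 : act 1 n38097 = n36679 := d14_1 D38097 (iv D36679) (iv F169949)
theorem F176493 : act 2 n38097 = n37574 := d21_1 D38097 F174001 F169953
theorem F176494 : act 3 n38097 = n36674 := d27_1 D38097 (iv D36674) D36673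
theorem F176495 : act 4 n38097 = n36804 := d32_1 D38097 (iv D36804) (iv F169950)
theorem F176496 : act 5 n38097 = n37464 := d36_1 D38097 F173621 (iv F169951)
theorem F176497 : act 9 n38097 = n36704 := d43_2 (iv F169952) D38097 (iv D36704)
def n38098 : Q := act 6 n36674
theorem D38098 : act 6 n36674 = n38098 := rfl
theorem F176498 : act 1 n38098 = n36681 := d13_1 D38098 (iv D36681) (iv F169954)
theorem F176499 : act 2 n38098 = n37724 := d20_1 D38098 F174442 (iv F169955)
theorem F176500 : act 4 n38098 = n36676 := d31_1 D38098 (iv D36676) (iv F169956)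
theorem F176501 : act 9 n38098 = n36706 := d41_2 (iv F169958) D38098 (iv D36706)
def n38099 : Q := act 8 n36674
theorem D38099 : act 8 n36674 = n38099 := rfl
theorem F176502 : act 1 n38099 = n36682 := d15_1 D38099 (iv D36682) (iv F169954)
theorem F176503 : act 2 n38099 = n37725 := d22_1 D38099 (iv D37725) (iv F169955)
theorem F176504 : act 4 n38099 = n36677 := d33_1 D38099 (iv D36677) (iv F169956)
theorem F176505 : act 7 n38099 = n36675 := d42_1 D38099 (iv D36675) D36674
def n38100 : Q := act 5 n36675
theorem D38100 : act 5 n36675 = n38100 := rfl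
theorem F176506 : act 0 n38100 = n36895 := d4_1 D38100 (iv F176000) F175997
theorem F176507 : act 1 n38100 = n36683 := d12_1 D38100 (iv D36683) (iv F169959)
theorem F176508 : act 2 n38100 = n37708 := d19_1 D38100 F174400 (iv F169960)
theorem F176509 : act 3 n38100 = n36893 := d25_1 D38100 (iv F175986) F175985
theorem F176510 : act 4 n38100 = n38100 := d30_1 D38100 (iv D38100) F169961 F162704 (iv F169961)
theorem F176511 : act 6 n38100 = n36952 := d35_2 F176016 D38100 F171468 (iv F171831) (iv F176015)
theorem F176512 : act 8 n38100 = n37233 := d37_2 D36675 D38100 F172792 (iv F166808) (iv F162694)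
theorem F176513 : act 9 n38100 = n37105 := d38_2 F176131 D38100 (iv F176129)
def n38101 : Q := act 8 n36676
theorem D38101 : act 8 n36676 = n38101 := rfl
theorem F176514 : act 1 n38101 = n36685 := d15_1 D38101 (iv D36685) (iv F169962)
theorem F176515 : act 2 n38101 = n37803 := d22_1 D38101 (iv D37803) (iv F169963)
theorem F176516 : act 3 n38101 = n36806 := d28_1 D38101 (iv D36806) (iv F169964)
theorem F176517 : act 6 n38101 = n36677 := d40_1 D38101 (iv D36677) D36676
def n38102 : Q := act 9 n36677
theorem D38102 : act 9 n36677 = n38102 := rfl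
theorem F176518 : act 0 n38102 = n36782 := d8_1 D38102 F176491 F176485
theorem F176519 : act 1 n38102 = n36686 := d16_1 D38102 (iv D36686) (iv F169966)
theorem F176520 : act 2 n38102 = n37796 := d23_1 D38102 F174595 (iv F169967)
theorem F176521 : act 3 n38102 = n36778 := d29_1 D38102 F170485 (iv F169968)
theorem F176522 : act 5 n38102 = n38102 := d38_1 D38102 (iv D38102) F169969
theorem F176523 : act 7 n38102 = n36678 := d43_1 D38102 (iv D36678) (iv F169970)
theorem F176524 : act 8 n38102 = n36710 := d44_1 D38102 (iv D36710) (iv D35097) (iv F162700) D36677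
def n38103 : Q := act 6 n36679
theorem D38103 : act 6 n36679 = n38103 := rfl
theorem F176525 : act 0 n38103 = n37549 := d5_1 D38103 (iv D37549) (iv F169978)
theorem F176526 : act 2 n38103 = n37071 := d20_1 D38103 (iv D37071) (iv F169979)
theorem F176527 : act 3 n38103 = n36681 := d26_1 D38103 (iv D36681) (iv F169980)
theorem F176528 : act 4 n38103 = n36807 := d31_1 D38103 (iv D36807) (iv F169981)
theorem F176529 : act 9 n38103 = n36711 := d41_2 (iv F169983) D38103 (iv D36711)
def n38104 : Q := act 8 n36679
theorem D38104 : act 8 n36679 = n38104 := rfl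
theorem F176530 : act 0 n38104 = n37433 := d7_1 D38104 F173456 (iv F169978)
theorem F176531 : act 2 n38104 = n37072 := d22_1 D38104 (iv D37072) (iv F169979)
theorem F176532 : act 3 n38104 = n36682 := d28_1 D38104 (iv D36682) (iv F169980)
theorem F176533 : act 4 n38104 = n36808 := d33_1 D38104 (iv D36808) (iv F169981)
theorem F176534 : act 5 n38104 = n37238 := d37_1 D38104 (iv D37238) F165837 D35973 (iv F169982)
theorem F176535 : act 7 n38104 = n36680 := d42_1 D38104 (iv D36680) D36679
theorem F176536 : act 9 n37495 = n38104 := d43_0 F176535 (iv F169990) D37495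
def n38105 : Q := act 5 n36681
theorem D38105 : act 5 n36681 = n38105 := rfl
theorem F176537 : act 0 n38105 = n37550 := d4_1 D38105 (iv D37550) (iv F169991)
theorem F176538 : act 2 n38105 = n36687 := d19_1 D38105 (iv D36687) (iv F169992)
theorem F176539 : act 6 n38105 = n37726 := d35_2 D36681 D38105 (iv D37726) (iv D36273) (iv F162713)
theorem F176540 : act 9 n38105 = n36715 := d38_2 (iv F169994) D38105 (iv D36715)
def n38106 : Q := act 8 n36681
theorem D38106 : act 8 n36681 = n38106 := rfl
theorem F176541 : act 0 n38106 = n37551 := d7_1 D38106 (iv D37551) (iv F169991)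
theorem F176542 : act 2 n38106 = n36688 := d22_1 D38106 (iv D36688) (iv F169992)
theorem F176543 : act 4 n38106 = n36685 := d33_1 D38106 (iv D36685) (iv F169993)
theorem F176544 : act 6 n38106 = n36682 := d40_1 D38106 (iv D36682) D36681
def n38107 : Q := act 5 n36682
theorem D38107 : act 5 n36682 = n38107 := rfl
theorem F176545 : act 0 n38107 = n37552 := d4_1 D38107 (iv D37552) (iv F169995)
theorem F176546 : act 2 n38107 = n36689 := d19_1 D38107 (iv D36689) (iv F169996)
theorem F176547 : act 3 n38107 = n37238 := d25_1 D38107 (iv F176534) F176532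
theorem F176548 : act 4 n38107 = n38107 := d30_1 D38107 (iv D38107) F169997 F162725 (iv F169997)
theorem F176549 : act 7 n38107 = n36683 := d36_2 (iv F169998) D38107 (iv D36683)
theorem F176550 : act 8 n38107 = n37236 := d37_2 D36682 D38107 F172805 F166830 (iv F162713)
def n38108 : Q := act 9 n36682
theorem D38108 : act 9 n36682 = n38108 := rfl
theorem F176551 : act 0 n38108 = n37497 := d8_1 D38108 F173729 (iv F169995)
theorem F176552 : act 2 n38108 = n36690 := d23_1 D38108 (iv D36690) (iv F169996)
theorem F176553 : act 3 n38108 = n37495 := d29_1 D38108 F176536 F176532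
theorem F176554 : act 4 n38108 = n36686 := d34_1 D38108 (iv D36686) (iv F169997)
theorem F176555 : act 7 n38108 = n36684 := d43_1 D38108 (iv D36684) (iv F169998)
theorem F176556 : act 8 n38108 = n36718 := d44_1 D38108 (iv D36718) (iv D35102) (iv F162714) D36682
def n38109 : Q := act 6 n36683
theorem D38109 : act 6 n36683 = n38109 := rfl
theorem F176557 : act 0 n38109 = n36876 := d5_1 D38109 F171076 (iv F169999)
theorem F176558 : act 1 n38109 = n36952 := d13_1 D38109 (iv F176511) F176507
theorem F176559 : act 2 n38109 = n36691 := d20_1 D38109 (iv D36691) (iv F170000)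
theorem F176560 : act 3 n38109 = n36854 := d26_1 D38109 F170934 (iv F170001)
theorem F176561 : act 4 n38109 = n38109 := d31_1 D38109 (iv D38109) F170002
theorem F176562 : act 5 n38109 = n37094 := d35_1 D38109 F176056 (iv D38025) F169604 D36683
theorem F176563 : act 8 n38109 = n36852 := d40_2 (iv F170003) D38109 F170922
theorem F176564 : act 9 n37093 = n38109 := d44_0 F176563 F170923 F164678 D36063 (iv F172086)
def n38110 : Q := act 9 n36683
theorem D38110 : act 9 n36683 = n38110 := rfl
theorem F176565 : act 0 n38110 = n37480 := d8_1 D38110 F173678 (iv F169999)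
theorem F176566 : act 1 n38110 = n37105 := d16_1 D38110 (iv F176513) F176507
theorem F176567 : act 2 n38110 = n36692 := d23_1 D38110 (iv D36692) (iv F170000)
theorem F176568 : act 3 n38110 = n37099 := d29_1 D38110 F172111 (iv F170001)
theorem F176569 : act 4 n38110 = n38110 := d34_1 D38110 (iv D38110) F170002
theorem F176570 : act 5 n38110 = n36684 := d38_1 D38110 (iv D36684) D36683
theorem F176571 : act 6 n38110 = n37093 := d41_1 D38110 F176564 (iv D38109)
theorem F176572 : act 8 n38110 = n37561 := d44_1 D38110 (iv D37561) (iv F171302) F171303 (iv F170003)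
def n38111 : Q := act 5 n36685
theorem D38111 : act 5 n36685 = n38111 := rfl
theorem F176573 : act 0 n38111 = n37553 := d4_1 D38111 (iv D37553) (iv F170010)
theorem F176574 : act 2 n38111 = n36693 := d19_1 D38111 (iv D36693) (iv F170011)
theorem F176575 : act 3 n38111 = n36811 := d25_1 D38111 (iv D36811) (iv F170012)
theorem F176576 : act 6 n38111 = n38111 := d35_2 (iv F170013) D38111 (iv D38111) F170013 F162725
def n38112 : Q := act 9 n36685
theorem D38112 : act 9 n36685 = n38112 := rfl
theorem F176577 : act 0 n38112 = n37554 := d8_1 D38112 (iv D37554) (iv F170010)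
theorem F176578 : act 2 n38112 = n36694 := d23_1 D38112 (iv D36694) (iv F170011)
theorem F176579 : act 3 n38112 = n36812 := d29_1 D38112 (iv D36812) (iv F170012)
theorem F176580 : act 6 n38112 = n36686 := d41_1 D38112 (iv D36686) (iv F170013)
theorem F176581 : act 7 n38112 = n37631 := d43_1 D38112 F176062 F176061
theorem F176582 : act 8 n38112 = n36722 := d44_1 D38112 (iv D36722) (iv D35105) (iv F162721) D36685
def n38113 : Q := act 8 n36687
theorem D38113 : act 8 n36687 = n38113 := rfl
theorem F176583 : act 0 n38113 = n37555 := d7_1 D38113 (iv D37555) (iv F170020)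
theorem F176584 : act 3 n38113 = n37079 := d28_1 D38113 (iv D37079) (iv F170021)
theorem F176585 : act 6 n38113 = n37728 := d40_1 D38113 (iv D37728) (iv F170022)
def n38114 : Q := act 5 n36688
theorem D38114 : act 5 n36688 = n38114 := rfl
theorem F176586 : act 0 n38114 = n37556 := d4_1 D38114 (iv D37556) (iv F170024)
theorem F176587 : act 3 n38114 = n37080 := d25_1 D38114 (iv D37080) (iv F170025)
def n38115 : Q := act 9 n36688
theorem D38115 : act 9 n36688 = n38115 := rfl
theorem F176588 : act 0 n38115 = n37557 := d8_1 D38115 (iv D37557) (iv F170024)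
theorem F176589 : act 3 n38115 = n37081 := d29_1 D38115 (iv D37081) (iv F170025)
theorem F176590 : act 4 n38115 = n36694 := d34_1 D38115 (iv D36694) (iv F170026)
theorem F176591 : act 6 n38115 = n36690 := d41_1 D38115 (iv D36690) (iv F170027)
theorem F176592 : act 8 n38115 = n36725 := d44_1 D38115 (iv D36725) (iv D35108) (iv F162736) D36688
def n38116 : Q := act 6 n36689
theorem D38116 : act 6 n36689 = n38116 := rfl
theorem F176593 : act 0 n38116 = n37558 := d5_1 D38116 (iv D37558) (iv F170028)
theorem F176594 : act 3 n38116 = n37082 := d26_1 D38116 (iv D37082) (iv F170029)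
theorem F176595 : act 4 n38116 = n38116 := d31_1 D38116 (iv D38116) F170030
theorem F176596 : act 8 n38116 = n37289 := d40_2 (iv F170032) D38116 (iv D37289)
def n38117 : Q := act 9 n36689
theorem D38117 : act 9 n36689 = n38117 := rfl
theorem F176597 : act 0 n38117 = n37559 := d8_1 D38117 (iv D37559) (iv F170028)
theorem F176598 : act 3 n38117 = n37083 := d29_1 D38117 (iv D37083) (iv F170029)
theorem F176599 : act 4 n38117 = n38117 := d34_1 D38117 (iv D38117) F170030
theorem F176600 : act 5 n38117 = n36690 := d38_1 D38117 (iv D36690) D36689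
theorem F176601 : act 7 n38117 = n36692 := d43_1 D38117 (iv D36692) (iv F170031)
def n38118 : Q := act 7 n36691
theorem D38118 : act 7 n36691 = n38118 := rfl
theorem F176602 : act 0 n38118 = n37560 := d6_1 D38118 (iv D37560) (iv F170038)
theorem F176603 : act 3 n38118 = n37084 := d27_1 D38118 (iv D37084) (iv F170039)
theorem F176604 : act 4 n38118 = n38118 := d32_1 D38118 (iv D38118) F170040
theorem F176605 : act 8 n38118 = n37279 := d42_2 (iv F170041) D38118 (iv D37279)
def n38119 : Q := act 9 n36691
theorem D38119 : act 9 n36691 = n38119 := rfl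
theorem F176606 : act 0 n38119 = n37561 := d8_1 D38119 (iv D37561) (iv F170038)
theorem F176607 : act 1 n38119 = n37484 := d16_1 D38119 F175019 F175013
theorem F176608 : act 2 n38119 = n37093 := d23_1 D38119 F176564 F176559
theorem F176609 : act 3 n38119 = n37085 := d29_1 D38119 (iv D37085) (iv F170039)
theorem F176610 : act 4 n38119 = n38119 := d34_1 D38119 (iv D38119) F170040
theorem F176611 : act 5 n38119 = n37090 := d38_1 D38119 F176096 F176094
theorem F176612 : act 6 n38119 = n36692 := d41_1 D38119 (iv D36692) D36691
theorem F176613 : act 8 n38119 = n37480 := d44_1 D38119 F173678 (iv F171132) F171133 (iv F170041)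
def n38120 : Q := act 8 n36692
theorem D38120 : act 8 n36692 = n38120 := rfl
theorem F176614 : act 0 n38120 = n37093 := d7_1 D38120 F172086 (iv F170042)
theorem F176615 : act 1 n38120 = n36866 := d15_1 D38120 (iv F175027) F175021
theorem F176616 : act 2 n38120 = n37561 := d22_1 D38120 (iv F176572) F176567
theorem F176617 : act 3 n38120 = n36864 := d28_1 D38120 F171001 (iv F170043)
theorem F176618 : act 4 n38120 = n38120 := d33_1 D38120 (iv D38120) F170044
theorem F176619 : act 5 n38120 = n36730 := d37_1 D38120 (iv D36730) F162855 (iv F162748) (iv F170045)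
theorem F176620 : act 6 n38120 = n37480 := d40_1 D38120 (iv F176613) F176612
theorem F176621 : act 9 n38120 = n36876 := d44_2 D36692 D38120 F171077 F164138 (iv F162744)
def n38121 : Q := act 4 n36693
theorem D38121 : act 4 n36693 = n38121 := rfl
theorem F176622 : act 0 n38121 = n37562 := d3_1 D38121 (iv D37562) (iv F170046)
theorem F176623 : act 6 n38121 = n38121 := d31_2 F170048 D38121 (iv D38121)
def n38122 : Q := act 9 n36693
theorem D38122 : act 9 n36693 = n38122 := rfl
theorem F176624 : act 0 n38122 = n37563 := d8_1 D38122 (iv D37563) (iv F170046)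
theorem F176625 : act 3 n38122 = n36696 := d29_1 D38122 (iv D36696) (iv F170047)
theorem F176626 : act 5 n38122 = n36694 := d38_1 D38122 (iv D36694) D36693
theorem F176627 : act 6 n38122 = n38122 := d41_1 D38122 (iv D38122) F170048
def n38123 : Q := act 3 n36695
theorem D38123 : act 3 n36695 = n38123 := rfl
theorem F176628 : act 0 n38123 = n37564 := d2_1 D38123 (iv D37564) (iv F170053)
theorem F176629 : act 5 n38123 = n37088 := d25_2 (iv F170055) D38123 (iv D37088)
theorem F176630 : act 6 n38123 = n38123 := d26_2 F170056 D38123 (iv D38123)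
theorem F176631 : act 7 n38123 = n37165 := d27_2 (iv F170057) D38123 F172418
theorem F176632 : act 8 n38123 = n37138 := d28_2 (iv F170058) D38123 F172282
def n38124 : Q := act 9 n36695
theorem D38124 : act 9 n36695 = n38124 := rfl
theorem F176633 : act 0 n38124 = n37565 := d8_1 D38124 (iv D37565) (iv F170053)
theorem F176634 : act 2 n38124 = n36815 := d23_1 D38124 (iv D36815) (iv F170054)
theorem F176635 : act 4 n38124 = n36696 := d34_1 D38124 (iv D36696) D36695
theorem F176636 : act 5 n38124 = n36830 := d38_1 D38124 F170784 (iv F170055)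
theorem F176637 : act 6 n38124 = n38124 := d41_1 D38124 (iv D38124) F170056
theorem F176638 : act 7 n38124 = n37155 := d43_1 D38124 F172378 (iv F170057)
theorem F176639 : act 8 n36831 = n38124 := d42_0 F176638 F172377 (iv F170788)
def n38125 : Q := act 8 n36696
theorem D38125 : act 8 n36696 = n38125 := rfl
theorem F176640 : act 0 n38125 = n37566 := d7_1 D38125 (iv D37566) (iv F170059)
theorem F176641 : act 2 n38125 = n36816 := d22_1 D38125 (iv D36816) (iv F170060)
theorem F176642 : act 4 n38125 = n36831 := d33_1 D38125 F176639 F176635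
theorem F176643 : act 5 n38125 = n36734 := d37_1 D38125 (iv D36734) F162868 (iv F162764) (iv F170061)
theorem F176644 : act 6 n38125 = n38125 := d40_1 D38125 (iv D38125) F170062
theorem F176645 : act 7 n38125 = n37413 := d42_1 D38125 (iv F176125) F176124
theorem F176646 : act 9 n38125 = n37404 := d44_2 D36696 D38125 (iv D37404) (iv F169889) F169888
def n38126 : Q := act 7 n36697
theorem D38126 : act 7 n36697 = n38126 := rfl
theorem F176647 : act 0 n38126 = n36704 := d6_1 D38126 (iv D36704) (iv F170063)
theorem F176648 : act 1 n38126 = n37567 := d14_1 D38126 (iv D37567) (iv F170064)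
theorem F176649 : act 3 n38126 = n36698 := d27_1 D38126 (iv D36698) D36697
theorem F176650 : act 4 n38126 = n36818 := d32_1 D38126 (iv D36818) (iv F170065)
theorem F176651 : act 5 n38126 = n37033 := d36_1 D38126 F171826 (iv F170066)
def n38127 : Q := act 6 n36698
theorem D38127 : act 6 n36698 = n38127 := rfl
theorem F176652 : act 0 n38127 = n36706 := d5_1 D38127 (iv D36706) (iv F170067)
theorem F176653 : act 1 n38127 = n37568 := d13_1 D38127 (iv D37568) (iv F170068)
theorem F176654 : act 2 n38127 = n37042 := d20_1 D38127 (iv D37042) (iv F170069)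
theorem F176655 : act 4 n38127 = n36700 := d31_1 D38127 (iv D36700) (iv F170070)
def n38128 : Q := act 8 n36698
theorem D38128 : act 8 n36698 = n38128 := rfl
theorem F176656 : act 0 n38128 = n36707 := d7_1 D38128 (iv D36707) (iv F170067)
theorem F176657 : act 1 n38128 = n37569 := d15_1 D38128 (iv D37569) (iv F170068)
theorem F176658 : act 2 n38128 = n36994 := d22_1 D38128 F171643 (iv F170069)
theorem F176659 : act 4 n38128 = n36701 := d33_1 D38128 (iv D36701) (iv F170070)
theorem F176660 : act 5 n38128 = n36988 := d37_1 D38128 (iv D36988) F164395 D35448 (iv F170071)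
theorem F176661 : act 7 n38128 = n36699 := d42_1 D38128 (iv D36699) D36698
def n38129 : Q := act 8 n36700
theorem D38129 : act 8 n36700 = n38129 := rfl
theorem F176662 : act 0 n38129 = n36709 := d7_1 D38129 (iv D36709) (iv F170077)
theorem F176663 : act 1 n38129 = n37570 := d15_1 D38129 (iv D37570) (iv F170078)
theorem F176664 : act 2 n38129 = n37220 := d22_1 D38129 F172737 (iv F170079)
theorem F176665 : act 3 n38129 = n36820 := d28_1 D38129 (iv D36820) (iv F170080)
theorem F176666 : act 5 n38129 = n37614 := d37_1 D38129 F174116 F167315 (iv F165930) (iv F170081)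
theorem F176667 : act 6 n38129 = n36701 := d40_1 D38129 (iv D36701) D36700
def n38130 : Q := act 9 n36701
theorem D38130 : act 9 n36701 = n38130 := rfl
theorem F176668 : act 0 n38130 = n36710 := d8_1 D38130 (iv D36710) (iv F170082)
theorem F176669 : act 1 n38130 = n36788 := d16_1 D38130 F170538 (iv F170083)
theorem F176670 : act 2 n38130 = n37221 := d23_1 D38130 (iv D37221) (iv F170084)
theorem F176671 : act 3 n38130 = n36784 := d29_1 D38130 F170517 (iv F170085)
theorem F176672 : act 5 n38130 = n36740 := d38_1 D38130 (iv D36740) (iv F170086)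
theorem F176673 : act 7 n38130 = n36702 := d43_1 D38130 (iv D36702) (iv F170087)
theorem F176674 : act 8 n38130 = n36782 := d44_1 D38130 F176491 (iv D38096) F169941 D36701
def n38131 : Q := act 7 n36703
theorem D38131 : act 7 n36703 = n38131 := rfl
theorem F176675 : act 1 n38131 = n37089 := d14_1 D38131 (iv D37089) (iv F170095)
theorem F176676 : act 2 n38131 = n36704 := d21_1 D38131 (iv D36704) D36703
theorem F176677 : act 3 n38131 = n37505 := d27_1 D38131 F173763 (iv F170096)
theorem F176678 : act 4 n38131 = n36821 := d32_1 D38131 (iv D36821) (iv F170097)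
theorem F176679 : act 5 n38131 = n37502 := d36_1 D38131 F173753 (iv F170098)
theorem F176680 : act 9 n38131 = n37574 := d43_2 (iv F170099) D38131 F174001
def n38132 : Q := act 8 n36703
theorem D38132 : act 8 n36703 = n38132 := rfl
theorem F176681 : act 0 n38132 = n37686 := d7_1 D38132 (iv F176232) F176227
theorem F176682 : act 1 n38132 = n37090 := d15_1 D38132 (iv D37090) (iv F170095)
theorem F176683 : act 2 n38132 = n36705 := d22_1 D38132 (iv D36705) D36703
theorem F176684 : act 3 n38132 = n37487 := d28_1 D38132 F173698 (iv F170096)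
theorem F176685 : act 4 n38132 = n36822 := d33_1 D38132 (iv D36822) (iv F170097)
theorem F176686 : act 5 n38132 = n37484 := d37_1 D38132 (iv D37484) F166900 D36008 (iv F170098)
theorem F176687 : act 6 n38132 = n36997 := d40_1 D38132 F176167 F176165
theorem F176688 : act 9 n38132 = n36996 := d44_2 (iv F170099) D38132 F171649 (iv F171579) F171578
def n38133 : Q := act 6 n36704
theorem D38133 : act 6 n36704 = n38133 := rfl
theorem F176689 : act 1 n38133 = n36711 := d13_1 D38133 (iv D36711) (iv F170100)
theorem F176690 : act 3 n38133 = n36706 := d26_1 D38133 (iv D36706) (iv F170101)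
theorem F176691 : act 4 n38133 = n36823 := d31_1 D38133 (iv D36823) (iv F170102)
def n38134 : Q := act 8 n36704
theorem D38134 : act 8 n36704 = n38134 := rfl
theorem F176692 : act 1 n38134 = n36712 := d15_1 D38134 (iv D36712) (iv F170100)
theorem F176693 : act 3 n38134 = n36707 := d28_1 D38134 (iv D36707) (iv F170101)
theorem F176694 : act 4 n38134 = n36824 := d33_1 D38134 (iv D36824) (iv F170102)
theorem F176695 : act 5 n38134 = n37673 := d37_1 D38134 (iv D37673) F167727 D36260 (iv F170103)
theorem F176696 : act 7 n38134 = n36705 := d42_1 D38134 (iv D36705) D36704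
def n38135 : Q := act 5 n36706
theorem D38135 : act 5 n36706 = n38135 := rfl
theorem F176697 : act 1 n38135 = n36715 := d12_1 D38135 (iv D36715) (iv F170108)
theorem F176698 : act 2 n38135 = n37721 := d19_1 D38135 F174436 (iv F170109)
theorem F176699 : act 6 n38135 = n37717 := d35_2 D36706 D38135 (iv D37717) F167843 (iv F162785)
def n38136 : Q := act 8 n36706
theorem D38136 : act 8 n36706 = n38136 := rfl
theorem F176700 : act 1 n38136 = n36716 := d15_1 D38136 (iv D36716) (iv F170108)
theorem F176701 : act 2 n38136 = n37683 := d22_1 D38136 F174334 (iv F170109)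
theorem F176702 : act 4 n38136 = n36709 := d33_1 D38136 (iv D36709) (iv F170110)
theorem F176703 : act 6 n38136 = n36707 := d40_1 D38136 (iv D36707) D36706
def n38137 : Q := act 9 n36707
theorem D38137 : act 9 n36707 = n38137 := rfl
theorem F176704 : act 1 n38137 = n36718 := d16_1 D38137 (iv D36718) (iv F170111)
theorem F176705 : act 2 n38137 = n37684 := d23_1 D38137 (iv D37684) (iv F170112)
theorem F176706 : act 4 n38137 = n36710 := d34_1 D38137 (iv D36710) (iv F170113)
theorem F176707 : act 5 n38137 = n37677 := d38_1 D38137 (iv D37677) (iv F170114)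
theorem F176708 : act 7 n38137 = n36708 := d43_1 D38137 (iv D36708) (iv F170115)
def n38138 : Q := act 5 n36709
theorem D38138 : act 5 n36709 = n38138 := rfl
theorem F176709 : act 0 n38138 = n37614 := d4_1 D38138 (iv F176666) F176662
theorem F176710 : act 1 n38138 = n36721 := d12_1 D38138 (iv D36721) (iv F170120)
theorem F176711 : act 2 n38138 = n37792 := d19_1 D38138 F174583 (iv F170121)
theorem F176712 : act 3 n38138 = n36760 := d25_1 D38138 F170361 (iv F170122)
theorem F176713 : act 6 n38138 = n36741 := d35_2 (iv F170123) D38138 (iv D36741) F162912 (iv F162796)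
theorem F176714 : act 8 n38138 = n36752 := d37_2 D36709 D38138 F170329 (iv F168223) F168222
def n38139 : Q := act 9 n36709
theorem D38139 : act 9 n36709 = n38139 := rfl
theorem F176715 : act 1 n38139 = n36722 := d16_1 D38139 (iv D36722) (iv F170120)
theorem F176716 : act 2 n38139 = n37795 := d23_1 D38139 (iv D37795) (iv F170121)
theorem F176717 : act 3 n38139 = n36826 := d29_1 D38139 (iv D36826) (iv F170122)
theorem F176718 : act 6 n38139 = n36710 := d41_1 D38139 (iv D36710) (iv F170123)
def n38140 : Q := act 5 n36711
theorem D38140 : act 5 n36711 = n38140 := rfl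
theorem F176719 : act 0 n38140 = n37577 := d4_1 D38140 (iv D37577) (iv F170129)
theorem F176720 : act 2 n38140 = n37101 := d19_1 D38140 (iv D37101) (iv F170130)
theorem F176721 : act 3 n38140 = n36715 := d25_1 D38140 (iv D36715) (iv F170131)
def n38141 : Q := act 8 n36711
theorem D38141 : act 8 n36711 = n38141 := rfl
theorem F176722 : act 0 n38141 = n37578 := d7_1 D38141 (iv D37578) (iv F170129)
theorem F176723 : act 2 n38141 = n37102 := d22_1 D38141 (iv D37102) (iv F170130)
theorem F176724 : act 3 n38141 = n36716 := d28_1 D38141 (iv D36716) (iv F170131)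
theorem F176725 : act 4 n38141 = n36828 := d33_1 D38141 (iv D36828) (iv F170132)
theorem F176726 : act 6 n38141 = n36712 := d40_1 D38141 (iv D36712) D36711
def n38142 : Q := act 5 n36712
theorem D38142 : act 5 n36712 = n38142 := rfl
theorem F176727 : act 0 n38142 = n37579 := d4_1 D38142 (iv D37579) (iv F170133)
theorem F176728 : act 1 n38142 = n37673 := d12_1 D38142 (iv F176695) F176692
theorem F176729 : act 2 n38142 = n37103 := d19_1 D38142 (iv D37103) (iv F170134)
theorem F176730 : act 3 n38142 = n36717 := d25_1 D38142 (iv D36717) (iv F170135)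
theorem F176731 : act 4 n38142 = n38142 := d30_1 D38142 (iv D38142) F170136 F163481 (iv F170136)
theorem F176732 : act 7 n38142 = n36713 := d36_2 (iv F170137) D38142 (iv D36713)
theorem F176733 : act 8 n38142 = n37670 := d37_2 D36712 D38142 F174306 (iv F168158) F168157
def n38143 : Q := act 9 n36712
theorem D38143 : act 9 n36712 = n38143 := rfl
theorem F176734 : act 0 n38143 = n37499 := d8_1 D38143 F173738 (iv F170133)
theorem F176735 : act 2 n38143 = n37104 := d23_1 D38143 (iv D37104) (iv F170134)
theorem F176736 : act 3 n38143 = n36718 := d29_1 D38143 (iv D36718) (iv F170135)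
theorem F176737 : act 4 n38143 = n36829 := d34_1 D38143 (iv D36829) (iv F170136)
theorem F176738 : act 7 n38143 = n36714 := d43_1 D38143 (iv D36714) (iv F170137)
theorem F176739 : act 8 n38143 = n37495 := d44_1 D38143 F176536 (iv D38104) F169983 D36712
def n38144 : Q := act 6 n36713
theorem D38144 : act 6 n36713 = n38144 := rfl
theorem F176740 : act 0 n38144 = n37580 := d5_1 D38144 (iv D37580) (iv F170138)
theorem F176741 : act 1 n38144 = n37306 := d13_1 D38144 F173047 (iv F170139)
theorem F176742 : act 2 n38144 = n37105 := d20_1 D38144 (iv D37105) (iv F170140)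
theorem F176743 : act 3 n38144 = n36719 := d26_1 D38144 (iv D36719) (iv F170141)
theorem F176744 : act 4 n38144 = n38144 := d31_1 D38144 (iv D38144) F170142
theorem F176745 : act 5 n38144 = n37687 := d35_1 D38144 F176234 (iv D38052) F169720 D36713
theorem F176746 : act 8 n38144 = n37302 := d40_2 (iv F170143) D38144 F173033
theorem F176747 : act 9 n37708 = n38144 := d44_0 F176746 F173034 F167711 D36252 D37708
def n38145 : Q := act 9 n36713
theorem D38145 : act 9 n36713 = n38145 := rfl
theorem F176748 : act 0 n38145 = n36955 := d8_1 D38145 F171484 (iv F170138)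
theorem F176749 : act 1 n38145 = n37674 := d16_1 D38145 (iv D37674) (iv F170139)
theorem F176750 : act 2 n38145 = n36952 := d23_1 D38145 F171469 (iv F170140)
theorem F176751 : act 3 n38145 = n36720 := d29_1 D38145 (iv D36720) (iv F170141)
theorem F176752 : act 4 n38145 = n38145 := d34_1 D38145 (iv D38145) F170142
theorem F176753 : act 5 n38145 = n36714 := d38_1 D38145 (iv D36714) D36713
theorem F176754 : act 6 n38145 = n37708 := d41_1 D38145 F176747 (iv D38144)
theorem F176755 : act 8 n38145 = n37707 := d44_1 D38145 (iv D37707) (iv F173563) F173564 (iv F170143)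
def n38146 : Q := act 8 n36715
theorem D38146 : act 8 n36715 = n38146 := rfl
theorem F176756 : act 0 n38146 = n37581 := d7_1 D38146 (iv D37581) (iv F170150)
theorem F176757 : act 2 n38146 = n36723 := d22_1 D38146 (iv D36723) (iv F170151)
def n38147 : Q := act 5 n36716
theorem D38147 : act 5 n36716 = n38147 := rfl
theorem F176758 : act 0 n38147 = n37582 := d4_1 D38147 (iv D37582) (iv F170152)
theorem F176759 : act 2 n38147 = n36724 := d19_1 D38147 (iv D36724) (iv F170153)
def n38148 : Q := act 9 n36716
theorem D38148 : act 9 n36716 = n38148 := rfl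
theorem F176760 : act 0 n38148 = n37583 := d8_1 D38148 (iv D37583) (iv F170152)
theorem F176761 : act 2 n38148 = n36725 := d23_1 D38148 (iv D36725) (iv F170153)
theorem F176762 : act 4 n38148 = n36722 := d34_1 D38148 (iv D36722) (iv F170154)
theorem F176763 : act 6 n38148 = n36718 := d41_1 D38148 (iv D36718) (iv F170155)
def n38149 : Q := act 6 n36717
theorem D38149 : act 6 n36717 = n38149 := rfl
theorem F176764 : act 0 n38149 = n37584 := d5_1 D38149 (iv D37584) (iv F170156)
theorem F176765 : act 1 n38149 = n37676 := d13_1 D38149 F174320 (iv F170157)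
theorem F176766 : act 2 n38149 = n36726 := d20_1 D38149 (iv D36726) (iv F170158)
theorem F176767 : act 4 n38149 = n36744 := d31_1 D38149 (iv D36744) (iv F170159)
theorem F176768 : act 8 n38149 = n37671 := d40_2 (iv F170161) D38149 (iv D37671)
def n38150 : Q := act 9 n36717
theorem D38150 : act 9 n36717 = n38150 := rfl
theorem F176769 : act 0 n38150 = n37089 := d8_1 D38150 F172072 (iv F170156)
theorem F176770 : act 1 n38150 = n37677 := d16_1 D38150 (iv D37677) (iv F170157)
theorem F176771 : act 2 n38150 = n36727 := d23_1 D38150 (iv D36727) (iv F170158)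
theorem F176772 : act 4 n38150 = n36745 := d34_1 D38150 (iv D36745) (iv F170159)
theorem F176773 : act 5 n38150 = n36718 := d38_1 D38150 (iv D36718) D36717
theorem F176774 : act 7 n38150 = n36720 := d43_1 D38150 (iv D36720) (iv F170160)
def n38151 : Q := act 7 n36719
theorem D38151 : act 7 n36719 = n38151 := rfl
theorem F176775 : act 0 n38151 = n37585 := d6_1 D38151 (iv D37585) (iv F170166)
theorem F176776 : act 1 n38151 = n37308 := d14_1 D38151 F173053 (iv F170167)
theorem F176777 : act 2 n38151 = n36728 := d21_1 D38151 (iv D36728) (iv F170168)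
theorem F176778 : act 4 n38151 = n36746 := d32_1 D38151 (iv D36746) (iv F170169)
theorem F176779 : act 8 n38151 = n37303 := d42_2 (iv F170170) D38151 (iv D37303)
def n38152 : Q := act 9 n36719
theorem D38152 : act 9 n36719 = n38152 := rfl
theorem F176780 : act 0 n38152 = n37024 := d8_1 D38152 F171781 (iv F170166)
theorem F176781 : act 1 n38152 = n37310 := d16_1 D38152 (iv D37310) (iv F170167)
theorem F176782 : act 2 n38152 = n36729 := d23_1 D38152 (iv D36729) (iv F170168)
theorem F176783 : act 3 n38152 = n37708 := d29_1 D38152 F176747 F176743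
theorem F176784 : act 4 n38152 = n36747 := d34_1 D38152 (iv D36747) (iv F170169)
theorem F176785 : act 5 n38152 = n37517 := d38_1 D38152 F176260 F176258
theorem F176786 : act 6 n38152 = n36720 := d41_1 D38152 (iv D36720) D36719
theorem F176787 : act 8 n38152 = n37246 := d44_1 D38152 F172840 (iv F169105) F169106 (iv F170170)
def n38153 : Q := act 8 n36720
theorem D38153 : act 8 n36720 = n38153 := rfl
theorem F176788 : act 0 n38153 = n37090 := d7_1 D38153 (iv D37090) (iv F170171)
theorem F176789 : act 1 n38153 = n37322 := d15_1 D38153 F173104 (iv F170172)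
theorem F176790 : act 2 n38153 = n36730 := d22_1 D38153 (iv D36730) (iv F170173)
theorem F176791 : act 3 n38153 = n37707 := d28_1 D38153 (iv F176755) F176751
theorem F176792 : act 4 n38153 = n36748 := d33_1 D38153 (iv D36748) (iv F170174)
theorem F176793 : act 5 n38153 = n37561 := d37_1 D38153 (iv F176572) F176570 F170009 (iv F170175)
theorem F176794 : act 6 n38153 = n37246 := d40_1 D38153 (iv F176787) F176786
theorem F176795 : act 9 n38153 = n37443 := d44_2 D36720 D38153 F173511 F167691 (iv F162821)
def n38154 : Q := act 4 n36721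
theorem D38154 : act 4 n36721 = n38154 := rfl
theorem F176796 : act 0 n38154 = n37586 := d3_1 D38154 (iv D37586) (iv F170176)
theorem F176797 : act 2 n38154 = n36731 := d18_1 D38154 (iv D36731) (iv F170177)
theorem F176798 : act 6 n38154 = n36749 := d31_2 (iv F170179) D38154 (iv D36749)
def n38155 : Q := act 9 n36721
theorem D38155 : act 9 n36721 = n38155 := rfl
theorem F176799 : act 0 n38155 = n37587 := d8_1 D38155 (iv D37587) (iv F170176)
theorem F176800 : act 2 n38155 = n36732 := d23_1 D38155 (iv D36732) (iv F170177)
theorem F176801 : act 3 n38155 = n36833 := d29_1 D38155 (iv D36833) (iv F170178)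
theorem F176802 : act 5 n38155 = n36722 := d38_1 D38155 (iv D36722) D36721
theorem F176803 : act 6 n38155 = n36750 := d41_1 D38155 (iv D36750) (iv F170179)
def n38156 : Q := act 5 n36723
theorem D38156 : act 5 n36723 = n38156 := rfl
theorem F176804 : act 0 n38156 = n37588 := d4_1 D38156 (iv D37588) (iv F170184)
theorem F176805 : act 3 n38156 = n37112 := d25_1 D38156 (iv D37112) (iv F170185)
theorem F176806 : act 8 n38156 = n36724 := d37_2 D36723 D38156 (iv D36724) (iv D35108) D35107
def n38157 : Q := act 9 n36723
theorem D38157 : act 9 n36723 = n38157 := rfl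
theorem F176807 : act 0 n38157 = n37589 := d8_1 D38157 (iv D37589) (iv F170184)
theorem F176808 : act 3 n38157 = n37113 := d29_1 D38157 (iv D37113) (iv F170185)
def n38158 : Q := act 4 n36724
theorem D38158 : act 4 n36724 = n38158 := rfl
theorem F176809 : act 0 n38158 = n37590 := d3_1 D38158 (iv D37590) (iv F170186)
theorem F176810 : act 5 n38158 = n36731 := d30_2 D36724 D38158 (iv D36731) (iv D35113) (iv F162838)
def n38159 : Q := act 6 n36724
theorem D38159 : act 6 n36724 = n38159 := rfl
theorem F176811 : act 0 n38159 = n37591 := d5_1 D38159 (iv D37591) (iv F170186)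
theorem F176812 : act 3 n38159 = n37115 := d26_1 D38159 (iv D37115) (iv F170187)
theorem F176813 : act 5 n38159 = n36726 := d35_1 D38159 (iv D36726) (iv D35109) (iv F162839) D36724
def n38160 : Q := act 9 n36724
theorem D38160 : act 9 n36724 = n38160 := rfl
theorem F176814 : act 0 n38160 = n37592 := d8_1 D38160 (iv D37592) (iv F170186)
theorem F176815 : act 3 n38160 = n37116 := d29_1 D38160 (iv D37116) (iv F170187)
theorem F176816 : act 5 n38160 = n36725 := d38_1 D38160 (iv D36725) D36724
def n38161 : Q := act 7 n36726
theorem D38161 : act 7 n36726 = n38161 := rfl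
theorem F176817 : act 0 n38161 = n37593 := d6_1 D38161 (iv D37593) (iv F170192)
theorem F176818 : act 3 n38161 = n37117 := d27_1 D38161 (iv D37117) (iv F170193)
theorem F176819 : act 4 n38161 = n36753 := d32_1 D38161 (iv D36753) (iv F170194)
theorem F176820 : act 6 n38161 = n36728 := d39_1 D38161 (iv D36728) (iv D35111) (iv F162843) D36726
def n38162 : Q := act 9 n36726
theorem D38162 : act 9 n36726 = n38162 := rfl
theorem F176821 : act 0 n38162 = n37091 := d8_1 D38162 F172078 (iv F170192)
theorem F176822 : act 1 n38162 = n37118 := d16_1 D38162 (iv F175730) F175725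
theorem F176823 : act 3 n38162 = n36973 := d29_1 D38162 F171553 (iv F170193)
theorem F176824 : act 4 n38162 = n36754 := d34_1 D38162 (iv D36754) (iv F170194)
theorem F176825 : act 6 n38162 = n36727 := d41_1 D38162 (iv D36727) D36726
def n38163 : Q := act 8 n36727
theorem D38163 : act 8 n36727 = n38163 := rfl
theorem F176826 : act 0 n38163 = n37092 := d7_1 D38163 (iv D37092) (iv F170195)
theorem F176827 : act 1 n38163 = n37119 := d15_1 D38163 F172172 (iv F170196)
theorem F176828 : act 3 n38163 = n36975 := d28_1 D38163 F171560 (iv F170197)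
theorem F176829 : act 4 n38163 = n36755 := d33_1 D38163 (iv D36755) (iv F170198)
theorem F176830 : act 7 n38163 = n36730 := d42_1 D38163 (iv D36730) (iv F170200)
def n38164 : Q := act 9 n36728
theorem D38164 : act 9 n36728 = n38164 := rfl
theorem F176831 : act 0 n38164 = n37025 := d8_1 D38164 F171785 (iv F170201)
theorem F176832 : act 1 n38164 = n37231 := d16_1 D38164 (iv F175737) F175732
theorem F176833 : act 3 n38164 = n37023 := d29_1 D38164 F171778 (iv F170202)
theorem F176834 : act 4 n38164 = n36756 := d34_1 D38164 (iv D36756) (iv F170203)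
theorem F176835 : act 7 n38164 = n36729 := d43_1 D38164 (iv D36729) D36728
theorem F176836 : act 8 n37247 = n38164 := d42_0 F176835 (iv F170209) D37247
def n38165 : Q := act 3 n36731
theorem D38165 : act 3 n36731 = n38165 := rfl
theorem F176837 : act 0 n38165 = n37594 := d2_1 D38165 (iv D37594) (iv F170215)
theorem F176838 : act 4 n38165 = n36733 := d24_2 D36731 D38165 (iv D36733) (iv D35115) (iv F162857)
theorem F176839 : act 6 n38165 = n36757 := d26_2 (iv F170216) D38165 (iv D36757)
def n38166 : Q := act 9 n36731
theorem D38166 : act 9 n36731 = n38166 := rfl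
theorem F176840 : act 0 n38166 = n37595 := d8_1 D38166 (iv D37595) (iv F170215)
theorem F176841 : act 4 n38166 = n36732 := d34_1 D38166 (iv D36732) D36731
theorem F176842 : act 6 n38166 = n36758 := d41_1 D38166 (iv D36758) (iv F170216)
def n38167 : Q := act 8 n36732
theorem D38167 : act 8 n36732 = n38167 := rfl
theorem F176843 : act 0 n38167 = n37596 := d7_1 D38167 (iv D37596) (iv F170217)
theorem F176844 : act 3 n38167 = n36734 := d28_1 D38167 (iv D36734) (iv F170218)
theorem F176845 : act 6 n38167 = n36759 := d40_1 D38167 (iv D36759) (iv F170220)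
def n38168 : Q := act 3 n36735
theorem D38168 : act 3 n36735 = n38168 := rfl
theorem F176846 : act 0 n38168 = n37601 := d2_1 D38168 (iv D37601) (iv F170228)
theorem F176847 : act 1 n38168 = n37798 := d10_1 D38168 (iv D37798) (iv F170229)
theorem F176848 : act 4 n38168 = n36737 := d24_2 D36735 D38168 (iv D36737) (iv D35119) (iv F162872)
theorem F176849 : act 7 n38168 = n38168 := d27_2 F170230 D38168 (iv D38168)
theorem F176850 : act 8 n38168 = n36757 := d28_2 (iv F170231) D38168 (iv D36757)
def n38169 : Q := act 9 n36735
theorem D38169 : act 9 n36735 = n38169 := rfl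
theorem F176851 : act 0 n38169 = n37602 := d8_1 D38169 (iv D37602) (iv F170228)
theorem F176852 : act 1 n38169 = n37799 := d16_1 D38169 (iv D37799) (iv F170229)
theorem F176853 : act 2 n38169 = n36757 := d23_1 D38169 (iv F175777) F175772
theorem F176854 : act 4 n38169 = n36736 := d34_1 D38169 (iv D36736) D36735
theorem F176855 : act 7 n38169 = n38169 := d43_1 D38169 (iv D38169) F170230
def n38170 : Q := act 8 n36736
theorem D38170 : act 8 n36736 = n38170 := rfl
theorem F176856 : act 0 n38170 = n37603 := d7_1 D38170 (iv D37603) (iv F170232)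
theorem F176857 : act 1 n38170 = n37800 := d15_1 D38170 (iv D37800) (iv F170233)
theorem F176858 : act 2 n38170 = n36737 := d22_1 D38170 F170242 (iv F170234)
theorem F176859 : act 3 n38170 = n36739 := d28_1 D38170 (iv D36739) (iv F170235)
theorem F176860 : act 5 n38170 = n38170 := d37_1 D38170 (iv D38170) F170236 F162881 (iv F170236)
theorem F176861 : act 7 n38170 = n38170 := d42_1 D38170 (iv D38170) F170237
theorem F176862 : act 9 n38170 = n36759 := d44_2 D36736 D38170 (iv D36759) (iv D35139) (iv F162874)
def n38171 : Q := act 9 n36737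
theorem D38171 : act 9 n36737 = n38171 := rfl
theorem F176863 : act 0 n38171 = n37604 := d8_1 D38171 (iv D37604) (iv F170238)
theorem F176864 : act 1 n38171 = n37802 := d16_1 D38171 (iv D37802) (iv F170239)
theorem F176865 : act 2 n38171 = n36759 := d23_1 D38171 (iv F176862) F176858
theorem F176866 : act 3 n38171 = n36738 := d29_1 D38171 (iv D36738) D36737
theorem F176867 : act 5 n38171 = n38171 := d38_1 D38171 (iv D38171) F170240
theorem F176868 : act 7 n38171 = n38171 := d43_1 D38171 (iv D38171) F170241
theorem F176869 : act 8 n38171 = n36750 := d44_1 D38171 (iv D36750) (iv F169363) F169364 (iv F170242)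
def n38172 : Q := act 4 n36741
theorem D38172 : act 4 n36741 = n38172 := rfl
theorem F176870 : act 0 n38172 = n37613 := d3_1 D38172 (iv D37613) (iv F170265)
theorem F176871 : act 1 n38172 = n36749 := d11_1 D38172 (iv D36749) (iv F170266)
theorem F176872 : act 2 n38172 = n37791 := d18_1 D38172 (iv D37791) (iv F170267)
theorem F176873 : act 5 n38172 = n37789 := d30_2 D36741 D38172 (iv D37789) (iv D36353) (iv F162911)
theorem F176874 : act 7 n38172 = n38172 := d32_2 F170269 D38172 (iv D38172)
theorem F176875 : act 8 n38172 = n36751 := d33_2 (iv F170270) D38172 (iv D36751)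
def n38173 : Q := act 9 n36741
theorem D38173 : act 9 n36741 = n38173 := rfl
theorem F176876 : act 0 n38173 = n37390 := d8_1 D38173 F173302 (iv F170265)
theorem F176877 : act 1 n38173 = n36750 := d16_1 D38173 (iv D36750) (iv F170266)
theorem F176878 : act 2 n38173 = n37793 := d23_1 D38173 (iv D37793) (iv F170267)
theorem F176879 : act 3 n38173 = n36761 := d29_1 D38173 (iv D36761) (iv F170268)
theorem F176880 : act 5 n38173 = n36742 := d38_1 D38173 (iv D36742) D36741
theorem F176881 : act 7 n38173 = n38173 := d43_1 D38173 (iv D38173) F170269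
theorem F176882 : act 8 n38173 = n37802 := d44_1 D38173 (iv D37802) (iv F169390) F169391 (iv F170270)
def n38174 : Q := act 4 n36743
theorem D38174 : act 4 n36743 = n38174 := rfl
theorem F176883 : act 0 n38174 = n37608 := d3_1 D38174 (iv D37608) (iv F170279)
theorem F176884 : act 1 n38174 = n37789 := d11_1 D38174 (iv D37789) (iv F170280)
theorem F176885 : act 2 n38174 = n36751 := d18_1 D38174 (iv D36751) (iv F170281)
theorem F176886 : act 5 n38174 = n36749 := d30_2 D36743 D38174 (iv D36749) (iv D35130) (iv F162924)
theorem F176887 : act 7 n38174 = n38174 := d32_2 F170283 D38174 (iv D38174)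
theorem F176888 : act 8 n38174 = n37791 := d33_2 (iv F170284) D38174 (iv D37791)
def n38175 : Q := act 6 n36743
theorem D38175 : act 6 n36743 = n38175 := rfl
theorem F176889 : act 0 n38175 = n37609 := d5_1 D38175 (iv D37609) (iv F170279)
theorem F176890 : act 1 n38175 = n37678 := d13_1 D38175 F174326 (iv F170280)
theorem F176891 : act 2 n38175 = n36752 := d20_1 D38175 (iv D36752) (iv F170281)
theorem F176892 : act 3 n38175 = n38175 := d26_1 D38175 (iv D38175) F170282
theorem F176893 : act 5 n38175 = n36744 := d35_1 D38175 (iv D36744) (iv D35126) (iv F162925) D36743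
theorem F176894 : act 8 n38175 = n37792 := d40_2 (iv F170284) D38175 (iv D37792)
def n38176 : Q := act 7 n36744
theorem D38176 : act 7 n36744 = n38176 := rfl
theorem F176895 : act 0 n38176 = n37610 := d6_1 D38176 (iv D37610) (iv F170285)
theorem F176896 : act 1 n38176 = n37311 := d14_1 D38176 F173064 (iv F170286)
theorem F176897 : act 2 n38176 = n36753 := d21_1 D38176 (iv D36753) (iv F170287)
theorem F176898 : act 3 n38176 = n38176 := d27_1 D38176 (iv D38176) F170288
theorem F176899 : act 6 n38176 = n36746 := d39_1 D38176 (iv D36746) (iv D35128) (iv F162931) D36744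
theorem F176900 : act 8 n38176 = n37304 := d42_2 (iv F170289) D38176 F173041
def n38177 : Q := act 9 n36744
theorem D38177 : act 9 n36744 = n38177 := rfl
theorem F176901 : act 0 n38177 = n37156 := d8_1 D38177 F172381 (iv F170285)
theorem F176902 : act 1 n38177 = n37679 := d16_1 D38177 (iv D37679) (iv F170286)
theorem F176903 : act 2 n38177 = n36754 := d23_1 D38177 (iv D36754) (iv F170287)
theorem F176904 : act 3 n38177 = n38177 := d29_1 D38177 (iv D38177) F170288
theorem F176905 : act 6 n38177 = n36745 := d41_1 D38177 (iv D36745) D36744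
def n38178 : Q := act 8 n36745
theorem D38178 : act 8 n36745 = n38178 := rfl
theorem F176906 : act 0 n38178 = n37157 := d7_1 D38178 (iv D37157) (iv F170290)
theorem F176907 : act 1 n38178 = n37400 := d15_1 D38178 F173337 (iv F170291)
theorem F176908 : act 2 n38178 = n36755 := d22_1 D38178 (iv D36755) (iv F170292)
theorem F176909 : act 3 n38178 = n38178 := d28_1 D38178 (iv D38178) F170293
theorem F176910 : act 5 n38178 = n38178 := d37_1 D38178 (iv D38178) F170294 F162939 (iv F170294)
theorem F176911 : act 7 n38178 = n36748 := d42_1 D38178 (iv D36748) (iv F170295)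
theorem F176912 : act 9 n38178 = n37476 := d44_2 D36745 D38178 F173662 F167695 (iv F162932)
def n38179 : Q := act 9 n36746
theorem D38179 : act 9 n36746 = n38179 := rfl
theorem F176913 : act 0 n38179 = n37129 := d8_1 D38179 F172230 (iv F170296)
theorem F176914 : act 1 n38179 = n37312 := d16_1 D38179 (iv D37312) (iv F170297)
theorem F176915 : act 2 n38179 = n36756 := d23_1 D38179 (iv D36756) (iv F170298)
theorem F176916 : act 3 n38179 = n38179 := d29_1 D38179 (iv D38179) F170299
theorem F176917 : act 5 n38179 = n38179 := d38_1 D38179 (iv D38179) F170300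
theorem F176918 : act 7 n38179 = n36747 := d43_1 D38179 (iv D36747) D36746
theorem F176919 : act 8 n38179 = n37260 := d44_1 D38179 F172883 (iv F169113) F169114 (iv F170301)
def n38180 : Q := act 3 n36749
theorem D38180 : act 3 n36749 = n38180 := rfl
theorem F176920 : act 0 n38180 = n37611 := d2_1 D38180 (iv D37611) (iv F170316)
theorem F176921 : act 4 n38180 = n36759 := d24_2 D36749 D38180 F170355 F162996 (iv F162953)
theorem F176922 : act 7 n38180 = n38180 := d27_2 F170318 D38180 (iv D38180)
theorem F176923 : act 8 n38180 = n36758 := d28_2 F175776 D38180 (iv F175773)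
def n38181 : Q := act 9 n36749
theorem D38181 : act 9 n36749 = n38181 := rfl
theorem F176924 : act 0 n38181 = n37612 := d8_1 D38181 (iv D37612) (iv F170316)
theorem F176925 : act 2 n38181 = n36758 := d23_1 D38181 (iv D36758) (iv F170317)
theorem F176926 : act 4 n38181 = n36750 := d34_1 D38181 (iv D36750) D36749
theorem F176927 : act 7 n38181 = n38181 := d43_1 D38181 (iv D38181) F170318
def n38182 : Q := act 6 n36751
theorem D38182 : act 6 n36751 = n38182 := rfl
theorem F176928 : act 0 n38182 = n37615 := d5_1 D38182 (iv D37615) (iv F170324)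
theorem F176929 : act 4 n38182 = n36752 := d31_1 D38182 (iv D36752) D36751
def n38183 : Q := act 7 n36752
theorem D38183 : act 7 n36752 = n38183 := rfl
theorem F176930 : act 0 n38183 = n37616 := d6_1 D38183 (iv D37616) (iv F170327)
theorem F176931 : act 3 n38183 = n36762 := d27_1 D38183 (iv D36762) (iv F170328)
theorem F176932 : act 5 n38183 = n36753 := d36_1 D38183 (iv D36753) (iv F170329)
theorem F176933 : act 6 n38183 = n38183 := d39_1 D38183 (iv D38183) (iv D36752) F162963 D36752
def n38184 : Q := act 9 n36753
theorem D38184 : act 9 n36753 = n38184 := rfl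
theorem F176934 : act 0 n38184 = n37131 := d8_1 D38184 F172241 (iv F170330)
theorem F176935 : act 1 n38184 = n37047 := d16_1 D38184 (iv F175791) F175786
theorem F176936 : act 3 n38184 = n36763 := d29_1 D38184 (iv D36763) (iv F170331)
theorem F176937 : act 6 n38184 = n36756 := d41_1 D38184 (iv D36756) (iv F170332)
theorem F176938 : act 7 n38184 = n36754 := d43_1 D38184 (iv D36754) D36753
theorem F176939 : act 8 n37261 = n38184 := d40_0 F176937 (iv F170347) D37261
def n38185 : Q := act 8 n36754
theorem D38185 : act 8 n36754 = n38185 := rfl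
theorem F176940 : act 0 n38185 = n37160 := d7_1 D38185 (iv D37160) (iv F170333)
theorem F176941 : act 1 n38185 = n37070 := d15_1 D38185 F171982 (iv F170334)
theorem F176942 : act 3 n38185 = n36764 := d28_1 D38185 (iv D36764) (iv F170335)
theorem F176943 : act 6 n38185 = n36755 := d40_1 D38185 (iv D36755) (iv F170336)
theorem F176944 : act 7 n38185 = n37261 := d42_1 D38185 F176939 F176938
def n38186 : Q := act 7 n36760
theorem D38186 : act 7 n36760 = n38186 := rfl
theorem F176945 : act 0 n38186 = n37617 := d6_1 D38186 (iv D37617) (iv F170358)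
theorem F176946 : act 1 n38186 = n36791 := d14_1 D38186 F170554 (iv F170359)
theorem F176947 : act 2 n38186 = n38186 := d21_1 D38186 (iv D38186) F170360
theorem F176948 : act 5 n38186 = n36785 := d36_1 D38186 F170522 (iv F170361)
theorem F176949 : act 6 n38186 = n38186 := d39_1 D38186 (iv D38186) (iv D36760) F163002 D36760
theorem F176950 : act 8 n38186 = n36762 := d42_2 (iv F170362) D38186 (iv D36762)
def n38187 : Q := act 9 n36760
theorem D38187 : act 9 n36760 = n38187 := rfl
theorem F176951 : act 0 n38187 = n37416 := d8_1 D38187 F173386 (iv F170358)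
theorem F176952 : act 1 n38187 = n36833 := d16_1 D38187 (iv D36833) (iv F170359)
theorem F176953 : act 2 n38187 = n38187 := d23_1 D38187 (iv D38187) F170360
theorem F176954 : act 4 n38187 = n37692 := d34_1 D38187 (iv F175757) F175755
theorem F176955 : act 5 n38187 = n36826 := d38_1 D38187 (iv D36826) (iv F170361)
theorem F176956 : act 6 n38187 = n36761 := d41_1 D38187 (iv D36761) D36760
theorem F176957 : act 8 n38187 = n37691 := d44_1 D38187 (iv D37691) (iv F169336) (iv F169337) (iv F170362)
def n38188 : Q := act 5 n36764
theorem D38188 : act 5 n36764 = n38188 := rfl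
theorem F176958 : act 0 n38188 = n37162 := d4_1 D38188 (iv D37162) (iv F170381)
theorem F176959 : act 1 n38188 = n37061 := d12_1 D38188 F171942 (iv F170382)
theorem F176960 : act 2 n38188 = n38188 := d19_1 D38188 (iv D38188) F170383
theorem F176961 : act 4 n38188 = n36928 := d30_1 D38188 (iv D36928) F164126 D35354 (iv F170384)
theorem F176962 : act 6 n38188 = n38188 := d35_2 (iv F170385) D38188 (iv D38188) F170385 F163027
theorem F176963 : act 7 n38188 = n37262 := d36_2 (iv F170386) D38188 (iv D37262)
theorem F176964 : act 8 n38188 = n37494 := d37_2 D36764 D38188 F173717 (iv F169336) F169334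
def n38189 : Q := act 6 n36768
theorem D38189 : act 6 n36768 = n38189 := rfl
theorem F176965 : act 0 n38189 = n36770 := d5_1 D38189 (iv D36770) (iv F170411)
theorem F176966 : act 1 n38189 = n36810 := d13_1 D38189 F170675 (iv F170412)
theorem F176967 : act 2 n38189 = n38189 := d20_1 D38189 (iv D38189) F170413
theorem F176968 : act 4 n38189 = n36806 := d31_1 D38189 F170655 (iv F170414)
theorem F176969 : act 5 n38189 = n37259 := d35_1 D38189 F172877 F165947 (iv F163080) (iv F170415)
theorem F176970 : act 7 n38189 = n36803 := d39_2 D36768 D38189 (iv D36803) (iv D35201) (iv F163072)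
theorem F176971 : act 8 n38189 = n36805 := d40_2 (iv F170416) D38189 (iv D36805)
theorem F176972 : act 9 n38189 = n36779 := d41_2 (iv F170417) D38189 (iv D36779)
def n38190 : Q := act 6 n36769
theorem D38190 : act 6 n36769 = n38190 := rfl
theorem F176973 : act 0 n38190 = n36806 := d5_1 D38190 F170655 (iv F170418)
theorem F176974 : act 1 n38190 = n36773 := d13_1 D38190 (iv D36773) (iv F170419)
theorem F176975 : act 2 n38190 = n38190 := d20_1 D38190 (iv D38190) F170420
theorem F176976 : act 4 n38190 = n36770 := d31_1 D38190 (iv D36770) (iv F170421)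
theorem F176977 : act 7 n38190 = n36805 := d39_2 D36769 D38190 (iv D36805) (iv D35203) (iv F163087)
theorem F176978 : act 8 n38190 = n36803 := d40_2 (iv F170423) D38190 (iv D36803)
theorem F176979 : act 9 n38190 = n36783 := d41_2 (iv F170424) D38190 (iv D36783)
def n38191 : Q := act 8 n36770
theorem D38191 : act 8 n36770 = n38191 := rfl
theorem F176980 : act 0 n38191 = n36805 := d7_1 D38191 (iv F176971) F176965
theorem F176981 : act 1 n38191 = n36774 := d15_1 D38191 (iv D36774) (iv F170425)
theorem F176982 : act 2 n38191 = n38191 := d22_1 D38191 (iv D38191) F170426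
theorem F176983 : act 4 n38191 = n36803 := d33_1 D38191 (iv F176978) F176976
theorem F176984 : act 6 n38191 = n36771 := d40_1 D38191 (iv D36771) D36770
theorem F176985 : act 7 n38191 = n36806 := d42_1 D38191 (iv D36806) (iv F170428)
theorem F176986 : act 5 n37398 = n38191 := d35_5 F176984 F170434 (iv F163580) (iv F166438) (iv F173329)
theorem F176987 : act 9 n36819 = n38191 := d41_0 F176984 (iv F170436) D36819
def n38192 : Q := act 6 n36772
theorem D38192 : act 6 n36772 = n38192 := rfl
theorem F176988 : act 0 n38192 = n37548 := d5_1 D38192 F173922 (iv F170437)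
theorem F176989 : act 2 n38192 = n37123 := d20_1 D38192 (iv D37123) (iv F170438)
theorem F176990 : act 3 n38192 = n36773 := d26_1 D38192 (iv D36773) (iv F170439)
theorem F176991 : act 7 n38192 = n36807 := d39_2 D36772 D38192 (iv D36807) (iv D35206) (iv F163104)
theorem F176992 : act 8 n38192 = n37546 := d40_2 (iv F170441) D38192 (iv D37546)
theorem F176993 : act 9 n38192 = n36787 := d41_2 (iv F170442) D38192 (iv D36787)
def n38193 : Q := act 5 n36773
theorem D38193 : act 5 n36773 = n38193 := rfl
theorem F176994 : act 0 n38193 = n37620 := d4_1 D38193 (iv D37620) (iv F170443)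
theorem F176995 : act 2 n38193 = n36775 := d19_1 D38193 (iv D36775) (iv F170444)
theorem F176996 : act 4 n38193 = n37146 := d30_1 D38193 (iv D37146) F165168 (iv F163115) (iv F170445)
theorem F176997 : act 6 n38193 = n38193 := d35_2 D36773 D38193 (iv D38193) (iv D36773) F163110
theorem F176998 : act 7 n38193 = n36809 := d36_2 (iv F170446) D38193 (iv D36809)
theorem F176999 : act 8 n38193 = n37168 := d37_2 (iv F170447) D38193 F172430 (iv F172363) F172360
theorem F177000 : act 9 n38193 = n36789 := d38_2 (iv F170448) D38193 (iv D36789)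
def n38194 : Q := act 5 n36774
theorem D38194 : act 5 n36774 = n38194 := rfl
theorem F177001 : act 0 n38194 = n37621 := d4_1 D38194 (iv D37621) (iv F170449)
theorem F177002 : act 1 n38194 = n37398 := d12_1 D38194 F176986 F176981
theorem F177003 : act 2 n38194 = n36776 := d19_1 D38194 (iv D36776) (iv F170450)
theorem F177004 : act 4 n38194 = n37154 := d30_1 D38194 F172373 (iv F172359) F172360 (iv F170451)
theorem F177005 : act 6 n38194 = n37173 := d35_2 (iv F170452) D38194 F172465 F166148 (iv F163121)
theorem F177006 : act 7 n38194 = n36811 := d36_2 (iv F170453) D38194 (iv D36811)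
theorem F177007 : act 8 n38194 = n37145 := d37_2 D36774 D38194 (iv D37145) F165164 (iv F163115)
theorem F177008 : act 9 n38194 = n37153 := d38_2 F170454 D38194 F172367
def n38195 : Q := act 6 n36778
theorem D38195 : act 6 n36778 = n38195 := rfl
theorem F177009 : act 0 n38195 = n36783 := d5_1 D38195 (iv D36783) (iv F170479)
theorem F177010 : act 1 n38195 = n36812 := d13_1 D38195 F170685 (iv F170480)
theorem F177011 : act 2 n38195 = n38195 := d20_1 D38195 (iv D38195) F170481
theorem F177012 : act 4 n38195 = n36779 := d31_1 D38195 (iv D36779) (iv F170482)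
theorem F177013 : act 7 n38195 = n36819 := d39_2 D36778 D38195 (iv D36819) (iv D35219) (iv F163155)
theorem F177014 : act 8 n38195 = n36826 := d40_2 (iv F170484) D38195 F170765
theorem F177015 : act 9 n38195 = n36806 := d41_2 (iv F170485) D38195 F170655
theorem F177016 : act 5 n37397 = n38195 := d36_3 F177013 F170735 D37397
def n38196 : Q := act 8 n36779
theorem D38196 : act 8 n36779 = n38196 := rfl
theorem F177017 : act 0 n38196 = n36785 := d7_1 D38196 (iv D36785) (iv F170486)
theorem F177018 : act 1 n38196 = n36832 := d15_1 D38196 F170794 (iv F170487)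
theorem F177019 : act 2 n38196 = n38196 := d22_1 D38196 (iv D38196) F170488
theorem F177020 : act 4 n38196 = n36826 := d33_1 D38196 (iv F177014) F177012
theorem F177021 : act 5 n38196 = n37617 := d37_1 D38196 F174123 F167329 (iv F165939) (iv F170489)
theorem F177022 : act 6 n38196 = n36780 := d40_1 D38196 (iv D36780) D36779
theorem F177023 : act 7 n38196 = n36820 := d42_1 D38196 (iv D36820) (iv F170490)
theorem F177024 : act 9 n38196 = n36825 := d44_2 F176972 D38196 (iv D36825) (iv F170652) (iv F176971)
def n38197 : Q := act 7 n36781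
theorem D38197 : act 7 n36781 = n38197 := rfl
theorem F177025 : act 0 n38197 = n37796 := d6_1 D38197 F174594 (iv F170498)
theorem F177026 : act 1 n38197 = n37129 := d14_1 D38197 (iv D37129) (iv F170499)
theorem F177027 : act 2 n38197 = n36782 := d21_1 D38197 (iv D36782) D36781
theorem F177028 : act 3 n38197 = n38197 := d27_1 D38197 (iv D38197) F170500
theorem F177029 : act 5 n38197 = n38197 := d36_1 D38197 (iv D38197) F170501
theorem F177030 : act 8 n38197 = n37221 := d42_2 (iv F170503) D38197 F172741
theorem F177031 : act 9 n38197 = n37230 := d43_2 (iv F170504) D38197 F172779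
def n38198 : Q := act 6 n36782
theorem D38198 : act 6 n36782 = n38198 := rfl
theorem F177032 : act 1 n38198 = n36787 := d13_1 D38198 (iv D36787) (iv F170505)
theorem F177033 : act 3 n38198 = n36783 := d26_1 D38198 (iv D36783) (iv F170506)
theorem F177034 : act 7 n38198 = n36823 := d39_2 D36782 D38198 (iv D36823) (iv D35223) (iv F163171)
def n38199 : Q := act 8 n36783
theorem D38199 : act 8 n36783 = n38199 := rfl
theorem F177035 : act 0 n38199 = n36826 := d7_1 D38199 (iv F177014) F177009
theorem F177036 : act 1 n38199 = n36790 := d15_1 D38199 (iv D36790) (iv F170508)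
theorem F177037 : act 2 n38199 = n38199 := d22_1 D38199 (iv D38199) F170509
theorem F177038 : act 4 n38199 = n36785 := d33_1 D38199 (iv D36785) (iv F170510)
theorem F177039 : act 6 n38199 = n36784 := d40_1 D38199 (iv D36784) D36783
theorem F177040 : act 7 n38199 = n36825 := d42_1 D38199 (iv D36825) (iv F170511)
theorem F177041 : act 9 n38199 = n36820 := d44_2 F176979 D38199 (iv D36820) (iv F170643) (iv F176978)
theorem F177042 : act 5 n37416 = n38199 := d38_3 F177041 F170739 (iv F173386)
def n38200 : Q := act 9 n36785
theorem D38200 : act 9 n36785 = n38200 := rfl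
theorem F177043 : act 0 n38200 = n36825 := d8_1 D38200 (iv F177024) F177017
theorem F177044 : act 1 n38200 = n36792 := d16_1 D38200 (iv D36792) (iv F170519)
theorem F177045 : act 2 n38200 = n38200 := d23_1 D38200 (iv D38200) F170520
theorem F177046 : act 4 n38200 = n36820 := d34_1 D38200 (iv F177041) F177038
theorem F177047 : act 6 n38200 = n36786 := d41_1 D38200 (iv D36786) (iv F170521)
theorem F177048 : act 7 n38200 = n36826 := d43_1 D38200 (iv D36826) (iv F170522)
theorem F177049 : act 8 n38200 = n36819 := d44_1 D38200 F176987 (iv D38191) F170429 D36785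
def n38201 : Q := act 5 n36787
theorem D38201 : act 5 n36787 = n38201 := rfl
theorem F177050 : act 0 n38201 = n37624 := d4_1 D38201 (iv D37624) (iv F170530)
theorem F177051 : act 2 n38201 = n37138 := d19_1 D38201 (iv D37138) (iv F170531)
theorem F177052 : act 3 n38201 = n36789 := d25_1 D38201 (iv D36789) (iv F170532)
theorem F177053 : act 6 n38201 = n38201 := d35_2 D36787 D38201 (iv D38201) (iv D36787) F163200
theorem F177054 : act 7 n38201 = n36827 := d36_2 (iv F170533) D38201 (iv D36827)
def n38202 : Q := act 8 n36787
theorem D38202 : act 8 n36787 = n38202 := rfl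
theorem F177055 : act 0 n38202 = n37576 := d7_1 D38202 F174011 (iv F170530)
theorem F177056 : act 2 n38202 = n37139 := d22_1 D38202 (iv D37139) (iv F170531)
theorem F177057 : act 3 n38202 = n36790 := d28_1 D38202 (iv D36790) (iv F170532)
theorem F177058 : act 6 n38202 = n36788 := d40_1 D38202 (iv D36788) D36787
theorem F177059 : act 7 n38202 = n36828 := d42_1 D38202 (iv D36828) (iv F170533)
theorem F177060 : act 9 n38202 = n37570 := d44_2 F176993 D38202 (iv D37570) (iv F173915) (iv F176992)
theorem F177061 : act 5 n37370 = n38202 := d35_5 F177058 (iv F170539) F165951 (iv F166418) (iv F173239)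
def n38203 : Q := act 8 n36789
theorem D38203 : act 8 n36789 = n38203 := rfl
theorem F177062 : act 0 n38203 = n37625 := d7_1 D38203 (iv D37625) (iv F170540)
theorem F177063 : act 2 n38203 = n36793 := d22_1 D38203 (iv D36793) (iv F170541)
theorem F177064 : act 4 n38203 = n37022 := d33_1 D38203 (iv F174930) F174927
theorem F177065 : act 5 n38203 = n37155 := d37_1 D38203 F172377 F170550 (iv D36790) D36789
theorem F177066 : act 6 n38203 = n38203 := d40_1 D38203 (iv D38203) F170542
theorem F177067 : act 7 n38203 = n36830 := d42_1 D38203 (iv D36830) (iv F170543)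
theorem F177068 : act 9 n38203 = n37021 := d44_2 F177000 D38203 F171768 D37168 (iv F176999)
def n38204 : Q := act 9 n36791
theorem D38204 : act 9 n36791 = n38204 := rfl
theorem F177069 : act 0 n38204 = n37626 := d8_1 D38204 (iv D37626) (iv F170551)
theorem F177070 : act 2 n38204 = n36795 := d23_1 D38204 (iv D36795) (iv F170552)
theorem F177071 : act 4 n38204 = n37412 := d34_1 D38204 (iv F176338) F176334
theorem F177072 : act 5 n38204 = n36792 := d38_1 D38204 (iv D36792) D36791
theorem F177073 : act 6 n38204 = n38204 := d41_1 D38204 (iv D38204) F170553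
theorem F177074 : act 7 n38204 = n36833 := d43_1 D38204 (iv D36833) (iv F170554)
theorem F177075 : act 8 n38204 = n37414 := d44_1 D38204 (iv F175981) F175980 (iv F175825) F175824
def n38205 : Q := act 5 n36799
theorem D38205 : act 5 n36799 = n38205 := rfl
theorem F177076 : act 0 n38205 = n37627 := d4_1 D38205 (iv D37627) (iv F170609)
theorem F177077 : act 2 n38205 = n36800 := d19_1 D38205 (iv D36800) (iv F170610)
theorem F177078 : act 4 n38205 = n37062 := d30_1 D38205 F171947 F164696 (iv F164746) (iv F170611)
theorem F177079 : act 6 n38205 = n38205 := d35_2 (iv F170612) D38205 (iv D38205) F170612 F163298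
theorem F177080 : act 7 n38205 = n37145 := d36_2 (iv F170613) D38205 (iv D37145)
theorem F177081 : act 8 n38205 = n36811 := d37_2 D36799 D38205 (iv D36811) (iv D35210) (iv F163292)
theorem F177082 : act 9 n38205 = n37061 := d38_2 (iv F170614) D38205 F171942
def n38206 : Q := act 6 n36804
theorem D38206 : act 6 n36804 = n38206 := rfl
theorem F177083 : act 1 n38206 = n36807 := d13_1 D38206 (iv D36807) (iv F170644)
theorem F177084 : act 2 n38206 = n37606 := d20_1 D38206 (iv D37606) (iv F170645)
theorem F177085 : act 3 n38206 = n36805 := d26_1 D38206 (iv D36805) (iv F170646)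
theorem F177086 : act 9 n38206 = n36823 := d41_2 (iv F170648) D38206 (iv D36823)
def n38207 : Q := act 5 n36806
theorem D38207 : act 5 n36806 = n38207 := rfl
theorem F177087 : act 1 n38207 = n36811 := d12_1 D38207 (iv D36811) (iv F170653)
theorem F177088 : act 2 n38207 = n38207 := d19_1 D38207 (iv D38207) F170654
theorem F177089 : act 4 n38207 = n37399 := d30_1 D38207 F173331 (iv F172876) (iv F176969) F176968
theorem F177090 : act 6 n38207 = n38207 := d35_2 (iv F170655) D38207 (iv D38207) F170655 F163365
theorem F177091 : act 7 n38207 = n37398 := d36_2 F176985 D38207 F176986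
theorem F177092 : act 9 n38207 = n37397 := d38_2 F177015 D38207 F177016
def n38208 : Q := act 5 n36807
theorem D38208 : act 5 n36807 = n38208 := rfl
theorem F177093 : act 0 n38208 = n37629 := d4_1 D38208 (iv D37629) (iv F170656)
theorem F177094 : act 2 n38208 = n37148 := d19_1 D38208 (iv D37148) (iv F170657)
theorem F177095 : act 3 n38208 = n36809 := d25_1 D38208 (iv D36809) (iv F170658)
theorem F177096 : act 6 n38208 = n36836 := d35_2 D36807 D38208 (iv D36836) (iv D35252) (iv F163370)
theorem F177097 : act 9 n38208 = n36827 := d38_2 (iv F170659) D38208 (iv D36827)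
theorem F177098 : act 8 n37371 = n38208 := d40_0 F177096 F170819 (iv F173241)
def n38209 : Q := act 8 n36807
theorem D38209 : act 8 n36807 = n38209 := rfl
theorem F177099 : act 0 n38209 = n37434 := d7_1 D38209 F173463 (iv F170656)
theorem F177100 : act 2 n38209 = n37149 := d22_1 D38209 (iv D37149) (iv F170657)
theorem F177101 : act 3 n38209 = n36810 := d28_1 D38209 (iv D36810) (iv F170658)
theorem F177102 : act 6 n38209 = n36808 := d40_1 D38209 (iv D36808) D36807
theorem F177103 : act 7 n38209 = n37546 := d42_1 D38209 (iv F176992) F176991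
theorem F177104 : act 9 n37496 = n38209 := d43_0 F177103 F173915 (iv F173723)
theorem F177105 : act 5 n37461 = n38209 := d35_5 F177102 F170663 F165871 (iv F166802) D37461
def n38210 : Q := act 4 n36811
theorem D38210 : act 4 n36811 = n38210 := rfl
theorem F177106 : act 0 n38210 = n37630 := d3_1 D38210 (iv D37630) (iv F170679)
theorem F177107 : act 1 n38210 = n37399 := d11_1 D38210 (iv F177089) F177087
theorem F177108 : act 2 n38210 = n36813 := d18_1 D38210 (iv D36813) (iv F170680)
theorem F177109 : act 5 n38210 = n37128 := d30_2 D36811 D38210 F172223 F170678 F170674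
theorem F177110 : act 6 n38210 = n38210 := d31_2 F170681 D38210 (iv D38210)
theorem F177111 : act 7 n38210 = n37154 := d32_2 F177006 D38210 (iv F177004)
theorem F177112 : act 8 n38210 = n37062 := d33_2 F177081 D38210 (iv F177078)
theorem F177113 : act 9 n37127 = n38210 := d44_0 F177112 (iv D37062) (iv F169845) F169846 (iv F172219)
def n38211 : Q := act 9 n36811
theorem D38211 : act 9 n36811 = n38211 := rfl
theorem F177114 : act 0 n38211 = n37622 := d8_1 D38211 F174156 (iv F170679)
theorem F177115 : act 1 n38211 = n37397 := d16_1 D38211 (iv F177092) F177087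
theorem F177116 : act 2 n38211 = n36814 := d23_1 D38211 (iv D36814) (iv F170680)
theorem F177117 : act 4 n38211 = n37127 := d34_1 D38211 F177113 (iv D38210)
theorem F177118 : act 5 n38211 = n36812 := d38_1 D38211 (iv D36812) D36811
theorem F177119 : act 6 n38211 = n38211 := d41_1 D38211 (iv D38211) F170681
theorem F177120 : act 7 n38211 = n37153 := d43_1 D38211 (iv F177008) F177006
theorem F177121 : act 8 n38211 = n37405 := d44_1 D38211 (iv F176391) F176390 (iv F177082) F177081
def n38212 : Q := act 7 n36817
theorem D38212 : act 7 n36817 = n38212 := rfl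
theorem F177122 : act 0 n38212 = n36821 := d6_1 D38212 (iv D36821) (iv F170720)
theorem F177123 : act 1 n38212 = n36991 := d14_1 D38212 F171634 (iv F170721)
theorem F177124 : act 2 n38212 = n36818 := d21_1 D38212 (iv D36818) D36817
theorem F177125 : act 3 n38212 = n38212 := d27_1 D38212 (iv D38212) F170722
theorem F177126 : act 5 n38212 = n36837 := d36_1 D38212 (iv D36837) (iv F170723)
theorem F177127 : act 8 n38212 = n37797 := d42_2 (iv F170725) D38212 F174598
theorem F177128 : act 9 n38212 = n36984 := d43_2 (iv F170726) D38212 F171608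
def n38213 : Q := act 6 n36818
theorem D38213 : act 6 n36818 = n38213 := rfl
theorem F177129 : act 0 n38213 = n36823 := d5_1 D38213 (iv D36823) (iv F170727)
theorem F177130 : act 1 n38213 = n37631 := d13_1 D38213 (iv D37631) (iv F170728)
theorem F177131 : act 3 n38213 = n36819 := d26_1 D38213 (iv D36819) (iv F170729)
theorem F177132 : act 5 n38213 = n37395 := d35_1 D38213 (iv D37395) F166432 F163637 (iv F170730)
def n38214 : Q := act 6 n36821
theorem D38214 : act 6 n36821 = n38214 := rfl
theorem F177133 : act 1 n38214 = n37156 := d13_1 D38214 (iv D37156) (iv F170741)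
theorem F177134 : act 2 n38214 = n36823 := d20_1 D38214 (iv D36823) (iv F170742)
theorem F177135 : act 3 n38214 = n38214 := d26_1 D38214 (iv D38214) F170743
theorem F177136 : act 9 n38214 = n37606 := d41_2 (iv F170745) D38214 (iv D37606)
def n38215 : Q := act 8 n36821
theorem D38215 : act 8 n36821 = n38215 := rfl
theorem F177137 : act 0 n38215 = n37797 := d7_1 D38215 (iv F177127) F177122
theorem F177138 : act 1 n38215 = n37157 := d15_1 D38215 (iv D37157) (iv F170741)
theorem F177139 : act 2 n38215 = n36824 := d22_1 D38215 (iv D36824) (iv F170742)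
theorem F177140 : act 3 n38215 = n38215 := d28_1 D38215 (iv D38215) F170743
theorem F177141 : act 5 n38215 = n38215 := d37_1 D38215 (iv D38215) F170744 F163642 (iv F170744)
theorem F177142 : act 7 n38215 = n36822 := d42_1 D38215 (iv D36822) D36821
theorem F177143 : act 9 n38215 = n37222 := d44_2 (iv F170745) D38215 F172745 (iv F171585) F171584
def n38216 : Q := act 8 n36823
theorem D38216 : act 8 n36823 = n38216 := rfl
theorem F177144 : act 1 n38216 = n36828 := d15_1 D38216 (iv D36828) (iv F170753)
theorem F177145 : act 3 n38216 = n36825 := d28_1 D38216 (iv D36825) (iv F170754)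
theorem F177146 : act 6 n38216 = n36824 := d40_1 D38216 (iv D36824) D36823
def n38217 : Q := act 5 n36825
theorem D38217 : act 5 n36825 = n38217 := rfl
theorem F177147 : act 1 n38217 = n36831 := d12_1 D38217 (iv D36831) (iv F170759)
theorem F177148 : act 2 n38217 = n38217 := d19_1 D38217 (iv D38217) F170760
theorem F177149 : act 6 n38217 = n38217 := d35_2 (iv F170762) D38217 (iv D38217) F170762 F163466
theorem F177150 : act 7 n38217 = n37416 := d36_2 F177040 D38217 F177042
theorem F177151 : act 9 n38217 = n37617 := d38_2 F177024 D38217 (iv F177021)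
def n38218 : Q := act 4 n36827
theorem D38218 : act 4 n36827 = n38218 := rfl
theorem F177152 : act 0 n38218 = n37633 := d3_1 D38218 (iv D37633) (iv F170766)
theorem F177153 : act 2 n38218 = n37164 := d18_1 D38218 (iv D37164) (iv F170767)
theorem F177154 : act 6 n38218 = n36838 := d31_2 (iv F170769) D38218 (iv D36838)
def n38219 : Q := act 8 n36827
theorem D38219 : act 8 n36827 = n38219 := rfl
theorem F177155 : act 0 n38219 = n37634 := d7_1 D38219 (iv D37634) (iv F170766)
theorem F177156 : act 2 n38219 = n37165 := d22_1 D38219 (iv D37165) (iv F170767)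
theorem F177157 : act 3 n38219 = n36830 := d28_1 D38219 (iv D36830) (iv F170768)
theorem F177158 : act 6 n38219 = n36839 := d40_1 D38219 (iv D36839) (iv F170769)
theorem F177159 : act 9 n38219 = n37088 := d44_2 F177097 D38219 F172068 D37371 F177098
def n38220 : Q := act 5 n36828
theorem D38220 : act 5 n36828 = n38220 := rfl
theorem F177160 : act 0 n38220 = n37635 := d4_1 D38220 (iv D37635) (iv F170770)
theorem F177161 : act 2 n38220 = n37166 := d19_1 D38220 (iv D37166) (iv F170771)
theorem F177162 : act 3 n38220 = n36831 := d25_1 D38220 (iv D36831) (iv F170772)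
theorem F177163 : act 6 n38220 = n38220 := d35_2 (iv F170773) D38220 (iv D38220) F170773 F163481
theorem F177164 : act 7 n38220 = n37370 := d36_2 F177059 D38220 F177061
def n38221 : Q := act 9 n36828
theorem D38221 : act 9 n36828 = n38221 := rfl
theorem F177165 : act 0 n38221 = n37500 := d8_1 D38221 F173744 (iv F170770)
theorem F177166 : act 2 n38221 = n37167 := d23_1 D38221 (iv D37167) (iv F170771)
theorem F177167 : act 3 n38221 = n36832 := d29_1 D38221 (iv D36832) (iv F170772)
theorem F177168 : act 6 n38221 = n36829 := d41_1 D38221 (iv D36829) (iv F170773)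
theorem F177169 : act 7 n38221 = n37570 := d43_1 D38221 (iv F177060) F177059
theorem F177170 : act 8 n38221 = n37496 := d44_1 D38221 F177104 (iv D38209) F170659 D36828
def n38222 : Q := act 9 n36831
theorem D38222 : act 9 n36831 = n38222 := rfl
theorem F177171 : act 0 n38222 = n37623 := d8_1 D38222 F174162 (iv F170785)
theorem F177172 : act 1 n38222 = n37617 := d16_1 D38222 (iv F177151) F177147
theorem F177173 : act 2 n38222 = n36834 := d23_1 D38222 (iv D36834) (iv F170786)
theorem F177174 : act 4 n38222 = n37404 := d34_1 D38222 (iv F176646) F176642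
theorem F177175 : act 5 n38222 = n36832 := d38_1 D38222 (iv D36832) D36831
theorem F177176 : act 6 n38222 = n38222 := d41_1 D38222 (iv D38222) F170787
theorem F177177 : act 7 n38222 = n37151 := d43_1 D38222 (iv F172355) (iv F170788)
theorem F177178 : act 8 n38222 = n37125 := d44_1 D38222 F172205 (iv F170058) D38124 (iv F176639)
def n38223 : Q := act 4 n36836
theorem D38223 : act 4 n36836 = n38223 := rfl
theorem F177179 : act 0 n38223 = n37637 := d3_1 D38223 (iv D37637) (iv F170815)
theorem F177180 : act 2 n38223 = n37177 := d18_1 D38223 (iv D37177) (iv F170816)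
theorem F177181 : act 3 n38223 = n37389 := d24_1 D38223 F173297 F166414 (iv F163613) (iv F170817)
theorem F177182 : act 5 n38223 = n37479 := d30_2 D36836 D38223 (iv D37479) (iv D35986) (iv F163607)
theorem F177183 : act 7 n38223 = n38223 := d32_2 F170818 D38223 (iv D38223)
theorem F177184 : act 8 n38223 = n37388 := d33_2 (iv F170819) D38223 F173295
theorem F177185 : act 9 n38223 = n36838 := d34_2 (iv F170820) D38223 (iv D36838)
def n38224 : Q := act 8 n36838
theorem D38224 : act 8 n36838 = n38224 := rfl
theorem F177186 : act 0 n38224 = n37639 := d7_1 D38224 (iv D37639) (iv F170829)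
theorem F177187 : act 2 n38224 = n37183 := d22_1 D38224 (iv D37183) (iv F170830)
theorem F177188 : act 3 n38224 = n37202 := d28_1 D38224 (iv F174902) F174899
theorem F177189 : act 4 n38224 = n36839 := d33_1 D38224 (iv D36839) D36838
theorem F177190 : act 7 n38224 = n38224 := d42_1 D38224 (iv D38224) F170831
theorem F177191 : act 9 n38224 = n37201 := d44_2 F177185 D38224 F172616 D37388 (iv F177184)
def n38225 : Q := act 7 n36840
theorem D38225 : act 7 n36840 = n38225 := rfl
theorem F177192 : act 0 n38225 = n37238 := d6_1 D38225 F172810 (iv F170838)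
theorem F177193 : act 1 n38225 = n36843 := d14_1 D38225 (iv D36843) (iv F170839)
theorem F177194 : act 2 n38225 = n36891 := d21_1 D38225 F171156 (iv F170840)
theorem F177195 : act 3 n38225 = n37552 := d27_1 D38225 F173936 F170845
theorem F177196 : act 4 n38225 = n36841 := d32_1 D38225 (iv D36841) D36840
theorem F177197 : act 5 n38225 = n37433 := d36_1 D38225 (iv D37433) (iv F170841)
theorem F177198 : act 8 n38225 = n36888 := d42_2 (iv F170843) D38225 (iv D36888)
theorem F177199 : act 9 n38225 = n37481 := d43_2 (iv F170844) D38225 (iv D37481)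
def n38226 : Q := act 6 n36841
theorem D38226 : act 6 n36841 = n38226 := rfl
theorem F177200 : act 0 n38226 = n37239 := d5_1 D38226 F172813 (iv F170846)
theorem F177201 : act 1 n38226 = n36845 := d13_1 D38226 (iv D36845) (iv F170847)
theorem F177202 : act 2 n38226 = n36892 := d20_1 D38226 F171160 (iv F170848)
theorem F177203 : act 3 n38226 = n38226 := d26_1 D38226 (iv D38226) F170849
theorem F177204 : act 5 n38226 = n37235 := d35_1 D38226 (iv D37235) F165831 (iv F163666) (iv F170850)
theorem F177205 : act 7 n38226 = n36878 := d39_2 D36841 D38226 (iv D36878) (iv D35294) (iv F163658)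
theorem F177206 : act 8 n38226 = n36889 := d40_2 (iv F170851) D38226 (iv D36889)
theorem F177207 : act 9 n38226 = n37482 := d41_2 (iv F170852) D38226 (iv D37482)
def n38227 : Q := act 7 n36842
theorem D38227 : act 7 n36842 = n38227 := rfl
theorem F177208 : act 0 n38227 = n36900 := d6_1 D38227 (iv D36900) (iv F170853)
theorem F177209 : act 1 n38227 = n37552 := d14_1 D38227 F173936 (iv F170854)
theorem F177210 : act 2 n38227 = n37664 := d21_1 D38227 (iv D37664) (iv F170855)
theorem F177211 : act 3 n38227 = n36843 := d27_1 D38227 (iv D36843) D36842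
theorem F177212 : act 4 n38227 = n38227 := d32_1 D38227 (iv D38227) F170856
theorem F177213 : act 5 n38227 = n37435 := d36_1 D38227 (iv D37435) (iv F170857)
theorem F177214 : act 9 n38227 = n37483 := d43_2 (iv F170859) D38227 (iv D37483)
def n38228 : Q := act 6 n36843
theorem D38228 : act 6 n36843 = n38228 := rfl
theorem F177215 : act 0 n38228 = n36902 := d5_1 D38228 (iv D36902) (iv F170860)
theorem F177216 : act 2 n38228 = n36847 := d20_1 D38228 (iv D36847) (iv F170861)
theorem F177217 : act 4 n38228 = n36845 := d31_1 D38228 (iv D36845) (iv F170862)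
theorem F177218 : act 7 n38228 = n36880 := d39_2 D36843 D38228 (iv D36880) (iv D35296) (iv F163672)
theorem F177219 : act 9 n38228 = n37485 := d41_2 (iv F170864) D38228 (iv D37485)
def n38229 : Q := act 8 n36843
theorem D38229 : act 8 n36843 = n38229 := rfl
theorem F177220 : act 0 n38229 = n36903 := d7_1 D38229 (iv D36903) (iv F170860)
theorem F177221 : act 1 n38229 = n36888 := d15_1 D38229 (iv F177198) F177193
theorem F177222 : act 2 n38229 = n36848 := d22_1 D38229 (iv D36848) (iv F170861)
theorem F177223 : act 4 n38229 = n36846 := d33_1 D38229 (iv D36846) (iv F170862)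
theorem F177224 : act 7 n38229 = n36844 := d42_1 D38229 (iv D36844) D36843
theorem F177225 : act 5 n37422 = n38229 := d36_3 F177224 (iv F170870) D37422
theorem F177226 : act 9 n37277 = n38229 := d43_0 F177224 (iv F170871) D37277
def n38230 : Q := act 8 n36845
theorem D38230 : act 8 n36845 = n38230 := rfl
theorem F177227 : act 0 n38230 = n36906 := d7_1 D38230 (iv D36906) (iv F170872)
theorem F177228 : act 1 n38230 = n36889 := d15_1 D38230 (iv F177206) F177201
theorem F177229 : act 2 n38230 = n36849 := d22_1 D38230 (iv D36849) (iv F170873)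
theorem F177230 : act 3 n38230 = n38230 := d28_1 D38230 (iv D38230) F170874
theorem F177231 : act 6 n38230 = n36846 := d40_1 D38230 (iv D36846) D36845
theorem F177232 : act 7 n38230 = n36882 := d42_1 D38230 (iv D36882) (iv F170876)
theorem F177233 : act 5 n36898 = n38230 := d36_3 F177232 (iv F171104) (iv F171193)
theorem F177234 : act 9 n37278 = n38230 := d43_0 F177232 (iv F171105) (iv F172961)
def n38231 : Q := act 5 n36847
theorem D38231 : act 5 n36847 = n38231 := rfl
theorem F177235 : act 0 n38231 = n36908 := d4_1 D38231 (iv D36908) (iv F170885)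
theorem F177236 : act 1 n38231 = n37245 := d12_1 D38231 (iv D37245) (iv F170886)
theorem F177237 : act 3 n38231 = n37666 := d25_1 D38231 (iv D37666) (iv F170887)
theorem F177238 : act 4 n38231 = n37240 := d30_1 D38231 (iv D37240) F165848 (iv F163701) (iv F170888)
theorem F177239 : act 6 n38231 = n37439 := d35_2 D36847 D38231 (iv D37439) (iv D35943) (iv F163690)
theorem F177240 : act 7 n38231 = n36883 := d36_2 (iv F170889) D38231 (iv D36883)
theorem F177241 : act 9 n38231 = n37489 := d38_2 (iv F170890) D38231 (iv D37489)
def n38232 : Q := act 8 n36847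
theorem D38232 : act 8 n36847 = n38232 := rfl
theorem F177242 : act 0 n38232 = n36909 := d7_1 D38232 (iv D36909) (iv F170885)
theorem F177243 : act 1 n38232 = n37002 := d15_1 D38232 F171672 (iv F170886)
theorem F177244 : act 3 n38232 = n37667 := d28_1 D38232 (iv D37667) (iv F170887)
theorem F177245 : act 4 n38232 = n36849 := d33_1 D38232 (iv D36849) (iv F170888)
theorem F177246 : act 6 n38232 = n36848 := d40_1 D38232 (iv D36848) D36847
theorem F177247 : act 7 n38232 = n36884 := d42_1 D38232 (iv D36884) (iv F170889)
theorem F177248 : act 9 n37324 = n38232 := d43_0 F177247 (iv F171112) (iv F173113)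
def n38233 : Q := act 3 n36850
theorem D38233 : act 3 n36850 = n38233 := rfl
theorem F177249 : act 0 n38233 = n36957 := d2_1 D38233 F171491 (iv F170904)
theorem F177250 : act 1 n38233 = n36852 := d10_1 D38233 (iv D36852) (iv F170905)
theorem F177251 : act 2 n38233 = n37707 := d17_1 D38233 (iv F176791) F176790 F170212 (iv F170906)
theorem F177252 : act 4 n38233 = n38233 := d24_2 D36850 D38233 (iv D38233) (iv D36850) F163721
theorem F177253 : act 5 n38233 = n36925 := d25_2 (iv F170907) D38233 F171339
theorem F177254 : act 6 n38233 = n37233 := d26_2 (iv F170908) D38233 (iv D37233)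
theorem F177255 : act 8 n38233 = n36952 := d28_2 (iv F170909) D38233 (iv D36952)
theorem F177256 : act 9 n38233 = n36924 := d29_2 (iv F170910) D38233 F171332
def n38234 : Q := act 7 n36850
theorem D38234 : act 7 n36850 = n38234 := rfl
theorem F177257 : act 0 n38234 = n36959 := d6_1 D38234 F171502 (iv F170904)
theorem F177258 : act 1 n38234 = n36853 := d14_1 D38234 (iv D36853) (iv F170905)
theorem F177259 : act 2 n38234 = n36975 := d21_1 D38234 F171559 (iv F170906)
theorem F177260 : act 4 n38234 = n36851 := d32_1 D38234 (iv D36851) D36850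
theorem F177261 : act 5 n38234 = n36935 := d36_1 D38234 F171389 (iv F170907)
theorem F177262 : act 8 n38234 = n36953 := d42_2 (iv F170909) D38234 (iv D36953)
theorem F177263 : act 9 n38234 = n36934 := d43_2 (iv F170910) D38234 F171385
def n38235 : Q := act 6 n36851
theorem D38235 : act 6 n36851 = n38235 := rfl
theorem F177264 : act 0 n38235 = n36960 := d5_1 D38235 F171506 (iv F170911)
theorem F177265 : act 1 n38235 = n36855 := d13_1 D38235 (iv D36855) (iv F170912)
theorem F177266 : act 2 n38235 = n36936 := d20_1 D38235 F171394 (iv F170913)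
theorem F177267 : act 3 n38235 = n38235 := d26_1 D38235 (iv D38235) F170914
theorem F177268 : act 5 n38235 = n36878 := d35_1 D38235 (iv D36878) F163870 (iv F163730) (iv F170915)
theorem F177269 : act 7 n38235 = n37235 := d39_2 D36851 D38235 (iv D37235) (iv D35702) (iv F163722)
theorem F177270 : act 8 n38235 = n36954 := d40_2 (iv F170916) D38235 (iv D36954)
theorem F177271 : act 9 n38235 = n36974 := d41_2 (iv F170917) D38235 (iv D36974)
def n38236 : Q := act 7 n36852
theorem D38236 : act 7 n36852 = n38236 := rfl
theorem F177272 : act 0 n38236 = n36930 := d6_1 D38236 (iv D36930) (iv F170918)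
theorem F177273 : act 2 n38236 = n37279 := d21_1 D38236 (iv D37279) (iv F170919)
theorem F177274 : act 3 n38236 = n36853 := d27_1 D38236 (iv D36853) D36852
theorem F177275 : act 4 n38236 = n38236 := d32_1 D38236 (iv D38236) F170920
theorem F177276 : act 5 n38236 = n37058 := d36_1 D38236 F171931 (iv F170921)
theorem F177277 : act 9 n38236 = n37057 := d43_2 (iv F170923) D38236 F171926
def n38237 : Q := act 6 n36853
theorem D38237 : act 6 n36853 = n38237 := rfl
theorem F177278 : act 0 n38237 = n36931 := d5_1 D38237 (iv D36931) (iv F170924)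
theorem F177279 : act 2 n38237 = n36857 := d20_1 D38237 (iv D36857) (iv F170925)
theorem F177280 : act 4 n38237 = n36855 := d31_1 D38237 (iv D36855) (iv F170926)
theorem F177281 : act 7 n38237 = n37237 := d39_2 D36853 D38237 (iv D37237) (iv D35704) (iv F163736)
theorem F177282 : act 9 n38237 = n37068 := d41_2 (iv F170928) D38237 (iv D37068)
def n38238 : Q := act 8 n36853
theorem D38238 : act 8 n36853 = n38238 := rfl
theorem F177283 : act 0 n38238 = n36877 := d7_1 D38238 F171081 (iv F170924)
theorem F177284 : act 1 n38238 = n36953 := d15_1 D38238 (iv F177262) F177258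
theorem F177285 : act 2 n38238 = n36858 := d22_1 D38238 (iv D36858) (iv F170925)
theorem F177286 : act 4 n38238 = n36856 := d33_1 D38238 (iv D36856) (iv F170926)
theorem F177287 : act 5 n38238 = n37098 := d37_1 D38238 F172104 F166341 (iv F164727) (iv F170927)
theorem F177288 : act 7 n38238 = n36854 := d42_1 D38238 (iv D36854) D36853
theorem F177289 : act 9 n38238 = n37097 := d44_2 (iv F170928) D38238 F172100 (iv D36293) (iv F164722)
def n38239 : Q := act 8 n36855
theorem D38239 : act 8 n36855 = n38239 := rfl
theorem F177290 : act 0 n38239 = n36878 := d7_1 D38239 F171085 (iv F170936)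
theorem F177291 : act 1 n38239 = n36954 := d15_1 D38239 (iv F177270) F177265
theorem F177292 : act 2 n38239 = n36861 := d22_1 D38239 (iv D36861) (iv F170937)
theorem F177293 : act 3 n38239 = n38239 := d28_1 D38239 (iv D38239) F170938
theorem F177294 : act 5 n38239 = n36960 := d37_1 D38239 (iv D36960) F171104 (iv D36882) (iv F170939)
theorem F177295 : act 6 n38239 = n36856 := d40_1 D38239 (iv D36856) D36855
theorem F177296 : act 7 n38239 = n37239 := d42_1 D38239 (iv D37239) (iv F170940)
theorem F177297 : act 9 n38239 = n37120 := d44_2 (iv F170941) D38239 F172175 (iv D36349) (iv F164928)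
def n38240 : Q := act 5 n36857
theorem D38240 : act 5 n36857 = n38240 := rfl
theorem F177298 : act 0 n38240 = n36932 := d4_1 D38240 (iv D36932) (iv F170949)
theorem F177299 : act 1 n38240 = n37244 := d12_1 D38240 (iv D37244) (iv F170950)
theorem F177300 : act 3 n38240 = n37281 := d25_1 D38240 (iv D37281) (iv F170951)
theorem F177301 : act 4 n38240 = n36883 := d30_1 D38240 (iv D36883) F163895 (iv F163764) (iv F170952)
theorem F177302 : act 6 n38240 = n37640 := d35_2 D36857 D38240 (iv D37640) (iv D36185) (iv F163754)
theorem F177303 : act 7 n38240 = n37240 := d36_2 (iv F170953) D38240 (iv D37240)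
theorem F177304 : act 9 n38240 = n37269 := d38_2 (iv F170954) D38240 (iv D37269)
def n38241 : Q := act 8 n36857
theorem D38241 : act 8 n36857 = n38241 := rfl
theorem F177305 : act 0 n38241 = n36933 := d7_1 D38241 (iv D36933) (iv F170949)
theorem F177306 : act 1 n38241 = n37111 := d15_1 D38241 F172152 (iv F170950)
theorem F177307 : act 3 n38241 = n37282 := d28_1 D38241 (iv D37282) (iv F170951)
theorem F177308 : act 4 n38241 = n36861 := d33_1 D38241 (iv D36861) (iv F170952)
theorem F177309 : act 6 n38241 = n36858 := d40_1 D38241 (iv D36858) D36857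
theorem F177310 : act 7 n38241 = n37241 := d42_1 D38241 (iv D37241) (iv F170953)
def n38242 : Q := act 5 n36858
theorem D38242 : act 5 n36858 = n38242 := rfl
theorem F177311 : act 0 n38242 = n36934 := d4_1 D38242 (iv D36934) (iv F170955)
theorem F177312 : act 1 n38242 = n36966 := d12_1 D38242 F171528 (iv F170956)
theorem F177313 : act 2 n38242 = n37098 := d19_1 D38242 (iv F177287) F177285
theorem F177314 : act 3 n38242 = n37283 := d25_1 D38242 (iv D37283) (iv F170957)
theorem F177315 : act 4 n38242 = n36885 := d30_1 D38242 (iv D36885) F163912 (iv F163770) (iv F170958)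
theorem F177316 : act 7 n38242 = n36859 := d36_2 (iv F170959) D38242 (iv D36859)
theorem F177317 : act 8 n38242 = n37354 := d37_2 D36858 D38242 F173204 F166319 (iv F163754)
theorem F177318 : act 9 n36959 = n38242 := d44_0 F177317 (iv D37354) F166314 (iv F164255) D36959
def n38243 : Q := act 9 n36858
theorem D38243 : act 9 n36858 = n38243 := rfl
theorem F177319 : act 0 n38243 = n36935 := d8_1 D38243 (iv D36935) (iv F170955)
theorem F177320 : act 1 n38243 = n36965 := d16_1 D38243 (iv F171523) (iv F170956)
theorem F177321 : act 2 n38243 = n37097 := d23_1 D38243 (iv F177289) F177285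
theorem F177322 : act 3 n38243 = n37284 := d29_1 D38243 (iv D37284) (iv F170957)
theorem F177323 : act 4 n38243 = n36862 := d34_1 D38243 (iv D36862) (iv F170958)
theorem F177324 : act 5 n38243 = n36959 := d38_1 D38243 F177318 (iv D38242)
theorem F177325 : act 7 n38243 = n36860 := d43_1 D38243 (iv D36860) (iv F170959)
theorem F177326 : act 8 n38243 = n37271 := d44_1 D38243 (iv D37271) (iv D35751) (iv F163755) D36858
def n38244 : Q := act 6 n36859
theorem D38244 : act 6 n36859 = n38244 := rfl
theorem F177327 : act 0 n38244 = n36917 := d5_1 D38244 F171286 (iv F170960)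
theorem F177328 : act 1 n38244 = n36905 := d13_1 D38244 F171226 (iv F170961)
theorem F177329 : act 2 n38244 = n37029 := d20_1 D38244 F171805 (iv F170962)
theorem F177330 : act 3 n38244 = n37009 := d26_1 D38244 F171710 (iv F170963)
theorem F177331 : act 4 n38244 = n36886 := d31_1 D38244 (iv D36886) (iv F170964)
theorem F177332 : act 5 n38244 = n37006 := d35_1 D38244 F171693 F164759 (iv F163760) D36859
theorem F177333 : act 8 n38244 = n37356 := d40_2 (iv F170965) D38244 F173212
theorem F177334 : act 9 n38244 = n36897 := d41_2 F170966 D38244 F171188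
def n38245 : Q := act 9 n36861
theorem D38245 : act 9 n36861 = n38245 := rfl
theorem F177335 : act 0 n38245 = n36937 := d8_1 D38245 (iv D36937) (iv F170975)
theorem F177336 : act 1 n38245 = n36976 := d16_1 D38245 F171566 (iv F170976)
theorem F177337 : act 2 n38245 = n37120 := d23_1 D38245 (iv F177297) F177292
theorem F177338 : act 3 n38245 = n36863 := d29_1 D38245 (iv D36863) (iv F170977)
theorem F177339 : act 5 n38245 = n37100 := d38_1 D38245 (iv D37100) (iv F170978)
theorem F177340 : act 6 n38245 = n36862 := d41_1 D38245 (iv D36862) (iv F170979)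
theorem F177341 : act 7 n38245 = n37243 := d43_1 D38245 (iv D37243) (iv F170980)
theorem F177342 : act 8 n38245 = n37273 := d44_1 D38245 (iv D37273) (iv D35753) (iv F163766) D36861
def n38246 : Q := act 7 n36864
theorem D38246 : act 7 n36864 = n38246 := rfl
theorem F177343 : act 0 n38246 = n37097 := d6_1 D38246 F172099 (iv F170996)
theorem F177344 : act 1 n38246 = n36867 := d14_1 D38246 (iv D36867) (iv F170997)
theorem F177345 : act 2 n38246 = n36935 := d21_1 D38246 F171389 (iv F170998)
theorem F177346 : act 4 n38246 = n36865 := d32_1 D38246 (iv D36865) D36864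
theorem F177347 : act 5 n38246 = n36975 := d36_1 D38246 F171559 (iv F170999)
theorem F177348 : act 8 n38246 = n37083 := d42_2 (iv F171001) D38246 F172048
theorem F177349 : act 9 n38246 = n36877 := d43_2 (iv F171002) D38246 (iv D36877)
def n38247 : Q := act 6 n36865
theorem D38247 : act 6 n36865 = n38247 := rfl
theorem F177350 : act 0 n38247 = n37120 := d5_1 D38247 (iv D37120) (iv F171003)
theorem F177351 : act 1 n38247 = n36869 := d13_1 D38247 (iv D36869) (iv F171004)
theorem F177352 : act 2 n38247 = n36937 := d20_1 D38247 F171399 (iv F171005)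
theorem F177353 : act 3 n38247 = n38247 := d26_1 D38247 (iv D38247) F171006
theorem F177354 : act 5 n38247 = n36974 := d35_1 D38247 (iv D36974) (iv D35392) (iv F163805) (iv F171007)
theorem F177355 : act 7 n38247 = n37482 := d39_2 D36865 D38247 (iv D37482) (iv D35989) (iv F163797)
theorem F177356 : act 8 n38247 = n37199 := d40_2 (iv F171008) D38247 F172605
theorem F177357 : act 9 n38247 = n36878 := d41_2 (iv F171009) D38247 (iv D36878)
def n38248 : Q := act 7 n36866
theorem D38248 : act 7 n36866 = n38248 := rfl
theorem F177358 : act 0 n38248 = n36938 := d6_1 D38248 (iv D36938) (iv F171010)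
theorem F177359 : act 2 n38248 = n37305 := d21_1 D38248 (iv D37305) (iv F171011)
theorem F177360 : act 3 n38248 = n36867 := d27_1 D38248 (iv D36867) D36866
theorem F177361 : act 4 n38248 = n38248 := d32_1 D38248 (iv D38248) F171012
theorem F177362 : act 5 n38248 = n37119 := d36_1 D38248 F172171 (iv F171013)
theorem F177363 : act 9 n38248 = n36879 := d43_2 (iv F171015) D38248 (iv D36879)
def n38249 : Q := act 6 n36867
theorem D38249 : act 6 n36867 = n38249 := rfl
theorem F177364 : act 0 n38249 = n36940 := d5_1 D38249 (iv D36940) (iv F171016)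
theorem F177365 : act 2 n38249 = n36871 := d20_1 D38249 (iv D36871) (iv F171017)
theorem F177366 : act 4 n38249 = n36869 := d31_1 D38249 (iv D36869) (iv F171018)
theorem F177367 : act 7 n38249 = n37485 := d39_2 D36867 D38249 (iv D37485) (iv D35991) (iv F163811)
theorem F177368 : act 9 n38249 = n36880 := d41_2 (iv F171020) D38249 (iv D36880)
def n38250 : Q := act 8 n36867
theorem D38250 : act 8 n36867 = n38250 := rfl
theorem F177369 : act 0 n38250 = n36941 := d7_1 D38250 (iv D36941) (iv F171016)
theorem F177370 : act 1 n38250 = n37083 := d15_1 D38250 (iv F177348) F177344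
theorem F177371 : act 2 n38250 = n36872 := d22_1 D38250 (iv D36872) (iv F171017)
theorem F177372 : act 4 n38250 = n36870 := d33_1 D38250 (iv D36870) (iv F171018)
theorem F177373 : act 5 n38250 = n36947 := d37_1 D38250 F171447 F164310 (iv F164932) (iv F171019)
theorem F177374 : act 7 n38250 = n36868 := d42_1 D38250 (iv D36868) D36867
theorem F177375 : act 9 n38250 = n36946 := d44_2 (iv F171020) D38250 F171442 F171098 (iv D36881)
def n38251 : Q := act 8 n36869
theorem D38251 : act 8 n36869 = n38251 := rfl
theorem F177376 : act 0 n38251 = n36942 := d7_1 D38251 (iv D36942) (iv F171028)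
theorem F177377 : act 1 n38251 = n37199 := d15_1 D38251 (iv F177356) F177351
theorem F177378 : act 2 n38251 = n36874 := d22_1 D38251 (iv D36874) (iv F171029)
theorem F177379 : act 3 n38251 = n38251 := d28_1 D38251 (iv D38251) F171030
theorem F177380 : act 5 n38251 = n37782 := d37_1 D38251 F174557 F168044 (iv F164928) (iv F171031)
theorem F177381 : act 6 n38251 = n36870 := d40_1 D38251 (iv D36870) D36869
theorem F177382 : act 7 n38251 = n37488 := d42_1 D38251 (iv D37488) (iv F171032)
theorem F177383 : act 9 n38251 = n37189 := d44_2 (iv F171033) D38251 F172556 F171105 (iv D36882)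
def n38252 : Q := act 5 n36871
theorem D38252 : act 5 n36871 = n38252 := rfl
theorem F177384 : act 0 n38252 = n36944 := d4_1 D38252 (iv D36944) (iv F171041)
theorem F177385 : act 1 n38252 = n37640 := d12_1 D38252 (iv D37640) (iv F171042)
theorem F177386 : act 3 n38252 = n37313 := d25_1 D38252 (iv D37313) (iv F171043)
theorem F177387 : act 4 n38252 = n37269 := d30_1 D38252 (iv D37269) F166008 (iv F163840) (iv F171044)
theorem F177388 : act 6 n38252 = n37244 := d35_2 D36871 D38252 (iv D37244) (iv D35717) (iv F163829)
theorem F177389 : act 7 n38252 = n37489 := d36_2 (iv F171045) D38252 (iv D37489)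
theorem F177390 : act 9 n38252 = n36883 := d38_2 (iv F171046) D38252 (iv D36883)
def n38253 : Q := act 8 n36871
theorem D38253 : act 8 n36871 = n38253 := rfl
theorem F177391 : act 0 n38253 = n36945 := d7_1 D38253 (iv D36945) (iv F171041)
theorem F177392 : act 1 n38253 = n37352 := d15_1 D38253 F173197 (iv F171042)
theorem F177393 : act 3 n38253 = n37314 := d28_1 D38253 (iv D37314) (iv F171043)
theorem F177394 : act 4 n38253 = n36874 := d33_1 D38253 (iv D36874) (iv F171044)
theorem F177395 : act 6 n38253 = n36872 := d40_1 D38253 (iv D36872) D36871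
theorem F177396 : act 7 n38253 = n37490 := d42_1 D38253 (iv D37490) (iv F171045)
theorem F177397 : act 9 n38253 = n37344 := d44_2 (iv F171046) D38253 (iv D37344) F171112 (iv D36884)
def n38254 : Q := act 5 n36872
theorem D38254 : act 5 n36872 = n38254 := rfl
theorem F177398 : act 0 n38254 = n36946 := d4_1 D38254 (iv D36946) (iv F171047)
theorem F177399 : act 1 n38254 = n37354 := d12_1 D38254 F173204 (iv F171048)
theorem F177400 : act 2 n38254 = n36947 := d19_1 D38254 (iv F177373) F177371
theorem F177401 : act 3 n38254 = n37315 := d25_1 D38254 (iv D37315) (iv F171049)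
theorem F177402 : act 4 n38254 = n36943 := d30_1 D38254 F171428 F164953 (iv F163846) (iv F171050)
theorem F177403 : act 7 n38254 = n36873 := d36_2 (iv F171051) D38254 (iv D36873)
theorem F177404 : act 8 n38254 = n36966 := d37_2 D36872 D38254 F171528 F164967 (iv F163829)
theorem F177405 : act 9 n38254 = n36941 := d38_2 (iv F171052) D38254 F171418
def n38255 : Q := act 5 n36874
theorem D38255 : act 5 n36874 = n38255 := rfl
theorem F177406 : act 0 n38255 = n36949 := d4_1 D38255 (iv D36949) (iv F171060)
theorem F177407 : act 1 n38255 = n37358 := d12_1 D38255 F173218 (iv F171061)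
theorem F177408 : act 2 n38255 = n37782 := d19_1 D38255 (iv F177380) F177378
theorem F177409 : act 3 n38255 = n36875 := d25_1 D38255 (iv D36875) (iv F171062)
theorem F177410 : act 6 n38255 = n37185 := d35_2 (iv F171063) D38255 (iv D37185) F165477 (iv F163846)
theorem F177411 : act 7 n38255 = n37493 := d36_2 (iv F171064) D38255 (iv D37493)
theorem F177412 : act 8 n38255 = n37272 := d37_2 D36874 D38255 (iv D37272) (iv D35753) (iv F163840)
theorem F177413 : act 9 n38255 = n37345 := d38_2 (iv F171065) D38255 (iv D37345)
def n38256 : Q := act 4 n36875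
theorem D38256 : act 4 n36875 = n38256 := rfl
theorem F177414 : act 0 n38256 = n36951 := d3_1 D38256 (iv D36951) (iv F171066)
theorem F177415 : act 1 n38256 = n37264 := d11_1 D38256 F172896 (iv F171067)
theorem F177416 : act 2 n38256 = n38256 := d18_1 D38256 (iv D38256) F171068
theorem F177417 : act 5 n38256 = n37320 := d30_2 D36875 D38256 (iv D37320) (iv D35808) (iv F163852)
theorem F177418 : act 6 n38256 = n37186 := d31_2 (iv F171069) D38256 (iv D37186)
theorem F177419 : act 7 n38256 = n37494 := d32_2 (iv F171070) D38256 (iv D37494)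
theorem F177420 : act 8 n38256 = n37262 := d33_2 (iv F171071) D38256 F172889
theorem F177421 : act 9 n38256 = n37392 := d34_2 (iv F171072) D38256 F173309
def n38257 : Q := act 7 n36876
theorem D38257 : act 7 n36876 = n38257 := rfl
theorem F177422 : act 1 n38257 = n36879 := d14_1 D38257 (iv D36879) (iv F171073)
theorem F177423 : act 2 n38257 = n37560 := d21_1 D38257 (iv D37560) (iv F171074)
theorem F177424 : act 3 n38257 = n36877 := d27_1 D38257 (iv D36877) D36876
theorem F177425 : act 4 n38257 = n38257 := d32_1 D38257 (iv D38257) F171075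
theorem F177426 : act 8 n38257 = n36930 := d42_2 (iv F171077) D38257 (iv D36930)
def n38258 : Q := act 6 n36877
theorem D38258 : act 6 n36877 = n38258 := rfl
theorem F177427 : act 1 n38258 = n36880 := d13_1 D38258 (iv D36880) (iv F171078)
theorem F177428 : act 2 n38258 = n36933 := d20_1 D38258 F171382 (iv F171079)
theorem F177429 : act 4 n38258 = n36878 := d31_1 D38258 (iv D36878) (iv F171080)
theorem F177430 : act 8 n38258 = n36931 := d40_2 (iv F171081) D38258 (iv D36931)
def n38259 : Q := act 6 n36879
theorem D38259 : act 6 n36879 = n38259 := rfl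
theorem F177431 : act 0 n38259 = n36961 := d5_1 D38259 (iv D36961) (iv F171086)
theorem F177432 : act 3 n38259 = n36880 := d26_1 D38259 (iv D36880) (iv F171087)
theorem F177433 : act 4 n38259 = n38259 := d31_1 D38259 (iv D38259) F171088
def n38260 : Q := act 5 n36880
theorem D38260 : act 5 n36880 = n38260 := rfl
theorem F177434 : act 0 n38260 = n36963 := d4_1 D38260 (iv D36963) (iv F171089)
theorem F177435 : act 2 n38260 = n36883 := d19_1 D38260 (iv D36883) (iv F171090)
def n38261 : Q := act 8 n36880
theorem D38261 : act 8 n36880 = n38261 := rfl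
theorem F177436 : act 0 n38261 = n36964 := d7_1 D38261 (iv D36964) (iv F171089)
theorem F177437 : act 1 n38261 = n36931 := d15_1 D38261 (iv F177430) F177427
theorem F177438 : act 2 n38261 = n36884 := d22_1 D38261 (iv D36884) (iv F171090)
theorem F177439 : act 4 n38261 = n36882 := d33_1 D38261 (iv D36882) (iv F171091)
theorem F177440 : act 6 n38261 = n36881 := d40_1 D38261 (iv D36881) D36880
theorem F177441 : act 9 n37288 = n38261 := d41_0 F177440 (iv F171098) D37288
def n38262 : Q := act 8 n36883
theorem D38262 : act 8 n36883 = n38262 := rfl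
theorem F177442 : act 0 n38262 = n36968 := d7_1 D38262 (iv D36968) (iv F171106)
theorem F177443 : act 1 n38262 = n37641 := d15_1 D38262 (iv D37641) (iv F171107)
def n38263 : Q := act 5 n36884
theorem D38263 : act 5 n36884 = n38263 := rfl
theorem F177444 : act 0 n38263 = n36969 := d4_1 D38263 (iv D36969) (iv F171108)
theorem F177445 : act 1 n38263 = n37064 := d12_1 D38263 (iv D37064) (iv F171109)
theorem F177446 : act 4 n38263 = n37095 := d30_1 D38263 (iv D37095) F164845 F163906 (iv F171110)
theorem F177447 : act 6 n38263 = n37733 := d35_2 (iv F171111) D38263 (iv D37733) (iv D36282) F163900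
theorem F177448 : act 9 n38263 = n37343 := d38_2 F171112 D38263 (iv D37343)
def n38264 : Q := act 6 n36885
theorem D38264 : act 6 n36885 = n38264 := rfl
theorem F177449 : act 0 n38264 = n36974 := d5_1 D38264 (iv D36974) (iv F171113)
theorem F177450 : act 1 n38264 = n36967 := d13_1 D38264 F171534 (iv F171114)
theorem F177451 : act 2 n38264 = n37100 := d20_1 D38264 F172114 (iv F171115)
theorem F177452 : act 3 n38264 = n38264 := d26_1 D38264 (iv D38264) F171116
theorem F177453 : act 5 n38264 = n37120 := d35_1 D38264 (iv D37120) (iv D35536) (iv F163913) D36885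
theorem F177454 : act 8 n38264 = n37377 := d40_2 (iv F171118) D38264 F173264
theorem F177455 : act 9 n38264 = n36960 := d41_2 (iv F171119) D38264 F171506
def n38265 : Q := act 7 n36886
theorem D38265 : act 7 n36886 = n38265 := rfl
theorem F177456 : act 0 n38265 = n36918 := d6_1 D38265 (iv D36918) (iv F171120)
theorem F177457 : act 1 n38265 = n36907 := d14_1 D38265 F171235 (iv F171121)
theorem F177458 : act 2 n38265 = n37031 := d21_1 D38265 F171817 (iv F171122)
theorem F177459 : act 3 n38265 = n38265 := d27_1 D38265 (iv D38265) F171123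
theorem F177460 : act 5 n38265 = n36916 := d36_1 D38265 (iv D36916) (iv F171124)
theorem F177461 : act 8 n38265 = n37378 := d42_2 (iv F171125) D38265 F173269
theorem F177462 : act 9 n38265 = n36899 := d43_2 (iv F171126) D38265 F171200
def n38266 : Q := act 7 n36887
theorem D38266 : act 7 n36887 = n38266 := rfl
theorem F177463 : act 0 n38266 = n37236 := d6_1 D38266 (iv D37236) (iv F171127)
theorem F177464 : act 2 n38266 = n37057 := d21_1 D38266 F171926 (iv F171128)
theorem F177465 : act 3 n38266 = n36888 := d27_1 D38266 (iv D36888) D36887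
theorem F177466 : act 4 n38266 = n38266 := d32_1 D38266 (iv D38266) F171129
theorem F177467 : act 5 n38266 = n37053 := d36_1 D38266 F171910 (iv F171130)
theorem F177468 : act 8 n38266 = n37552 := d42_2 (iv F171132) D38266 F173936
theorem F177469 : act 9 n38266 = n37279 := d43_2 (iv F171133) D38266 (iv D37279)
def n38267 : Q := act 6 n36888
theorem D38267 : act 6 n36888 = n38267 := rfl
theorem F177470 : act 0 n38267 = n37237 := d5_1 D38267 (iv D37237) (iv F171134)
theorem F177471 : act 2 n38267 = n36890 := d20_1 D38267 (iv D36890) (iv F171135)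
theorem F177472 : act 4 n38267 = n36889 := d31_1 D38267 (iv D36889) (iv F171136)
theorem F177473 : act 7 n38267 = n36931 := d39_2 D36888 D38267 (iv D36931) (iv D35346) (iv F163941)
theorem F177474 : act 9 n38267 = n37280 := d41_2 (iv F171138) D38267 (iv D37280)
def n38268 : Q := act 5 n36890
theorem D38268 : act 5 n36890 = n38268 := rfl
theorem F177475 : act 0 n38268 = n37240 := d4_1 D38268 (iv D37240) (iv F171145)
theorem F177476 : act 1 n38268 = n37003 := d12_1 D38268 (iv D37003) (iv F171146)
theorem F177477 : act 3 n38268 = n37269 := d25_1 D38268 (iv D37269) (iv F171147)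
theorem F177478 : act 4 n38268 = n36908 := d30_1 D38268 (iv D36908) F164027 (iv F163963) (iv F171148)
theorem F177479 : act 6 n38268 = n37425 := d35_2 D36890 D38268 (iv D37425) (iv D35924) (iv F163952)
theorem F177480 : act 7 n38268 = n36932 := d36_2 (iv F171149) D38268 (iv D36932)
theorem F177481 : act 9 n38268 = n37281 := d38_2 (iv F171150) D38268 (iv D37281)
def n38269 : Q := act 8 n36890
theorem D38269 : act 8 n36890 = n38269 := rfl
theorem F177482 : act 0 n38269 = n37241 := d7_1 D38269 (iv D37241) (iv F171145)
theorem F177483 : act 1 n38269 = n37004 := d15_1 D38269 (iv D37004) (iv F171146)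
theorem F177484 : act 3 n38269 = n37270 := d28_1 D38269 (iv D37270) (iv F171147)
theorem F177485 : act 4 n38269 = n36892 := d33_1 D38269 (iv D36892) (iv F171148)
theorem F177486 : act 6 n38269 = n36891 := d40_1 D38269 (iv D36891) D36890
theorem F177487 : act 7 n38269 = n36933 := d42_1 D38269 (iv D36933) (iv F171149)
def n38270 : Q := act 7 n36893
theorem D38270 : act 7 n36893 = n38270 := rfl
theorem F177488 : act 0 n38270 = n36896 := d6_1 D38270 (iv D36896) (iv F171163)
theorem F177489 : act 1 n38270 = n37238 := d14_1 D38270 F172810 (iv F171164)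
theorem F177490 : act 2 n38270 = n37023 := d21_1 D38270 (iv D37023) (iv F171165)
theorem F177491 : act 4 n38270 = n36894 := d32_1 D38270 (iv D36894) D36893
theorem F177492 : act 8 n38270 = n37234 := d42_2 (iv F171167) D38270 (iv D37234)
theorem F177493 : act 9 n38270 = n37110 := d43_2 (iv F171168) D38270 (iv D37110)
def n38271 : Q := act 6 n36894
theorem D38271 : act 6 n36894 = n38271 := rfl
theorem F177494 : act 0 n38271 = n36898 := d5_1 D38271 (iv D36898) (iv F171169)
theorem F177495 : act 1 n38271 = n37239 := d13_1 D38271 F172813 (iv F171170)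
theorem F177496 : act 2 n38271 = n36914 := d20_1 D38271 F171265 (iv F171171)
theorem F177497 : act 3 n38271 = n38271 := d26_1 D38271 (iv D38271) F171172
theorem F177498 : act 5 n38271 = n36906 := d35_1 D38271 F171229 F164019 (iv F163989) (iv F171173)
theorem F177499 : act 7 n38271 = n36954 := d39_2 D36894 D38271 (iv D36954) (iv D35371) (iv F163982)
theorem F177500 : act 8 n38271 = n37235 := d40_2 (iv F171174) D38271 (iv D37235)
theorem F177501 : act 9 n38271 = n37122 := d41_2 (iv F171175) D38271 F172186
def n38272 : Q := act 2 n36895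
theorem D38272 : act 2 n36895 = n38272 := rfl
theorem F177502 : act 0 n38272 = n37708 := d1_1 D38272 (iv F176508) F176506
theorem F177503 : act 1 n38272 = n37507 := d9_1 D38272 F173770 (iv F169173) F169174 (iv F171176)
theorem F177504 : act 3 n38272 = n37024 := d17_2 D36895 D38272 (iv D37024) (iv D35439) (iv F163993)
theorem F177505 : act 4 n38272 = n38272 := d18_2 F171177 D38272 (iv D38272)
theorem F177506 : act 5 n38272 = n37045 := d19_2 F176000 D38272 F176003
theorem F177507 : act 6 n38272 = n36955 := d20_2 (iv F171178) D38272 (iv D36955)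
theorem F177508 : act 9 n38272 = n37580 := d23_2 (iv F171179) D38272 F174022
theorem F177509 : act 8 n37018 = n38272 := d44_5 F177508 F175646 (iv D37961) F169225 D37018
def n38273 : Q := act 7 n36895
theorem D38273 : act 7 n36895 = n38273 := rfl
theorem F177510 : act 1 n38273 = n36900 := d14_1 D38273 (iv D36900) (iv F171176)
theorem F177511 : act 3 n38273 = n36896 := d27_1 D38273 (iv D36896) D36895
theorem F177512 : act 4 n38273 = n38273 := d32_1 D38273 (iv D38273) F171177
theorem F177513 : act 9 n38273 = n37758 := d43_2 (iv F171179) D38273 (iv D37758)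
def n38274 : Q := act 8 n36895
theorem D38274 : act 8 n36895 = n38274 := rfl
theorem F177514 : act 0 n38274 = n37233 := d7_1 D38274 (iv F176512) F176506
theorem F177515 : act 1 n38274 = n36901 := d15_1 D38274 (iv D36901) (iv F171176)
theorem F177516 : act 2 n38274 = n37018 := d22_1 D38274 F177509 (iv D38272)
theorem F177517 : act 3 n38274 = n36897 := d28_1 D38274 (iv D36897) D36895
theorem F177518 : act 4 n38274 = n38274 := d33_1 D38274 (iv D38274) F171177
theorem F177519 : act 5 n38274 = n37010 := d37_1 D38274 F171717 (iv F169934) F176004 F176000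
theorem F177520 : act 6 n38274 = n36957 := d40_1 D38274 (iv D36957) (iv F171178)
theorem F177521 : act 9 n38274 = n37009 := d44_2 (iv F171179) D38274 (iv F175583) (iv F175584) F173189
def n38275 : Q := act 6 n36896
theorem D38275 : act 6 n36896 = n38275 := rfl
theorem F177522 : act 1 n38275 = n36902 := d13_1 D38275 (iv D36902) (iv F171180)
theorem F177523 : act 2 n38275 = n37027 := d20_1 D38275 (iv D37027) (iv F171181)
theorem F177524 : act 4 n38275 = n36898 := d31_1 D38275 (iv D36898) (iv F171182)
theorem F177525 : act 7 n38275 = n36958 := d39_2 D36896 D38275 (iv D36958) (iv D35373) (iv F163994)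
theorem F177526 : act 9 n38275 = n37763 := d41_2 (iv F171183) D38275 F174516
def n38276 : Q := act 8 n36896
theorem D38276 : act 8 n36896 = n38276 := rfl
theorem F177527 : act 0 n38276 = n37234 := d7_1 D38276 (iv F177492) F177488
theorem F177528 : act 1 n38276 = n36903 := d15_1 D38276 (iv D36903) (iv F171180)
theorem F177529 : act 2 n38276 = n37028 := d22_1 D38276 (iv D37028) (iv F171181)
theorem F177530 : act 4 n38276 = n36899 := d33_1 D38276 (iv D36899) (iv F171182)
theorem F177531 : act 7 n38276 = n36897 := d42_1 D38276 (iv D36897) D36896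
theorem F177532 : act 5 n37460 = n38276 := d36_3 F177531 (iv F171189) D37460
def n38277 : Q := act 8 n36898
theorem D38277 : act 8 n36898 = n38277 := rfl
theorem F177533 : act 0 n38277 = n37235 := d7_1 D38277 (iv F177500) F177494
theorem F177534 : act 1 n38277 = n36906 := d15_1 D38277 (iv D36906) (iv F171190)
theorem F177535 : act 2 n38277 = n37030 := d22_1 D38277 (iv D37030) (iv F171191)
theorem F177536 : act 3 n38277 = n38277 := d28_1 D38277 (iv D38277) F171192
theorem F177537 : act 5 n38277 = n37239 := d37_1 D38277 (iv D37239) (iv F170875) D38230 (iv F177233)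
theorem F177538 : act 6 n38277 = n36899 := d40_1 D38277 (iv D36899) D36898
theorem F177539 : act 7 n38277 = n36960 := d42_1 D38277 (iv D36960) (iv F171193)
def n38278 : Q := act 6 n36900
theorem D38278 : act 6 n36900 = n38278 := rfl
theorem F177540 : act 3 n38278 = n36902 := d26_1 D38278 (iv D36902) (iv F171201)
theorem F177541 : act 4 n38278 = n38278 := d31_1 D38278 (iv D38278) F171202
theorem F177542 : act 7 n38278 = n36961 := d39_2 D36900 D38278 (iv D36961) (iv D35377) (iv F164008)
def n38279 : Q := act 8 n36900
theorem D38279 : act 8 n36900 = n38279 := rfl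
theorem F177543 : act 3 n38279 = n36903 := d28_1 D38279 (iv D36903) (iv F171201)
theorem F177544 : act 4 n38279 = n38279 := d33_1 D38279 (iv D38279) F171202
theorem F177545 : act 7 n38279 = n36901 := d42_1 D38279 (iv D36901) D36900
theorem F177546 : act 5 n37366 = n38279 := d36_3 F177545 (iv F171206) (iv F173231)
theorem F177547 : act 9 n37338 = n38279 := d43_0 F177545 (iv F171207) D37338
def n38280 : Q := act 5 n36902
theorem D38280 : act 5 n36902 = n38280 := rfl
theorem F177548 : act 2 n38280 = n36908 := d19_1 D38280 (iv D36908) (iv F171208)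
theorem F177549 : act 7 n38280 = n36963 := d36_2 (iv F171210) D38280 (iv D36963)
def n38281 : Q := act 8 n36902
theorem D38281 : act 8 n36902 = n38281 := rfl
theorem F177550 : act 2 n38281 = n36909 := d22_1 D38281 (iv D36909) (iv F171208)
theorem F177551 : act 4 n38281 = n36906 := d33_1 D38281 (iv D36906) (iv F171209)
theorem F177552 : act 6 n38281 = n36903 := d40_1 D38281 (iv D36903) D36902
theorem F177553 : act 7 n38281 = n36964 := d42_1 D38281 (iv D36964) (iv F171210)
def n38282 : Q := act 5 n36903
theorem D38282 : act 5 n36903 = n38282 := rfl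
theorem F177554 : act 0 n38282 = n37422 := d4_1 D38282 F177225 F177220
theorem F177555 : act 1 n38282 = n37460 := d12_1 D38282 F177532 F177528
theorem F177556 : act 2 n38282 = n36910 := d19_1 D38282 (iv D36910) (iv F171211)
theorem F177557 : act 3 n38282 = n37366 := d25_1 D38282 F177546 F177543
theorem F177558 : act 4 n38282 = n37211 := d30_1 D38282 (iv D37211) F165674 (iv F164019) (iv F171212)
theorem F177559 : act 7 n38282 = n36904 := d36_2 (iv F171213) D38282 (iv D36904)
theorem F177560 : act 9 n37256 = n38282 := d43_0 F177559 (iv F171220) D37256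
def n38283 : Q := act 9 n36903
theorem D38283 : act 9 n36903 = n38283 := rfl
theorem F177561 : act 0 n38283 = n37277 := d8_1 D38283 F177226 F177220
theorem F177562 : act 2 n38283 = n36911 := d23_1 D38283 (iv D36911) (iv F171211)
theorem F177563 : act 3 n38283 = n37338 := d29_1 D38283 F177547 F177543
theorem F177564 : act 4 n38283 = n36907 := d34_1 D38283 (iv D36907) (iv F171212)
theorem F177565 : act 5 n38283 = n37256 := d38_1 D38283 F177560 (iv D38282)
theorem F177566 : act 7 n38283 = n36905 := d43_1 D38283 (iv D36905) (iv F171213)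
def n38284 : Q := act 9 n36906
theorem D38284 : act 9 n36906 = n38284 := rfl
theorem F177567 : act 0 n38284 = n37278 := d8_1 D38284 F177234 F177227
theorem F177568 : act 2 n38284 = n36915 := d23_1 D38284 (iv D36915) (iv F171227)
theorem F177569 : act 3 n38284 = n38284 := d29_1 D38284 (iv D38284) F171228
theorem F177570 : act 5 n38284 = n37122 := d38_1 D38284 (iv F177501) F177498
theorem F177571 : act 6 n38284 = n36907 := d41_1 D38284 (iv D36907) (iv F171229)
theorem F177572 : act 7 n38284 = n36967 := d43_1 D38284 (iv D36967) (iv F171230)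
def n38285 : Q := act 8 n36908
theorem D38285 : act 8 n36908 = n38285 := rfl
theorem F177573 : act 1 n38285 = n37039 := d15_1 D38285 (iv D37039) (iv F171236)
theorem F177574 : act 7 n38285 = n36968 := d42_1 D38285 (iv D36968) (iv F171237)
def n38286 : Q := act 5 n36909
theorem D38286 : act 5 n36909 = n38286 := rfl
theorem F177575 : act 1 n38286 = n37040 := d12_1 D38286 (iv D37040) (iv F171238)
theorem F177576 : act 7 n38286 = n36969 := d36_2 (iv F171241) D38286 (iv D36969)
def n38287 : Q := act 9 n36909
theorem D38287 : act 9 n36909 = n38287 := rfl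
theorem F177577 : act 0 n38287 = n37324 := d8_1 D38287 F177248 F177242
theorem F177578 : act 1 n38287 = n37041 := d16_1 D38287 (iv D37041) (iv F171238)
theorem F177579 : act 4 n38287 = n36915 := d34_1 D38287 (iv D36915) (iv F171239)
theorem F177580 : act 6 n38287 = n36911 := d41_1 D38287 (iv D36911) (iv F171240)
theorem F177581 : act 7 n38287 = n36970 := d43_1 D38287 (iv D36970) (iv F171241)
def n38288 : Q := act 6 n36910
theorem D38288 : act 6 n36910 = n38288 := rfl
theorem F177582 : act 1 n38288 = n37042 := d13_1 D38288 (iv D37042) (iv F171242)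
theorem F177583 : act 4 n38288 = n37212 := d31_1 D38288 (iv D37212) (iv F171243)
def n38289 : Q := act 9 n36910
theorem D38289 : act 9 n36910 = n38289 := rfl
theorem F177584 : act 0 n38289 = n37303 := d8_1 D38289 (iv F175497) F175490
theorem F177585 : act 1 n38289 = n37043 := d16_1 D38289 (iv D37043) (iv F171242)
theorem F177586 : act 2 n38289 = n37256 := d23_1 D38289 F177560 F177556
theorem F177587 : act 4 n38289 = n37213 := d34_1 D38289 (iv D37213) (iv F171243)
theorem F177588 : act 5 n38289 = n36911 := d38_1 D38289 (iv D36911) D36910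
theorem F177589 : act 7 n38289 = n36913 := d43_1 D38289 (iv D36913) (iv F171244)
theorem F177590 : act 8 n37585 = n38289 := d42_0 F177589 (iv F171261) D37585
def n38290 : Q := act 7 n36912
theorem D38290 : act 7 n36912 = n38290 := rfl
theorem F177591 : act 0 n38290 = n37662 := d6_1 D38290 (iv D37662) (iv F171249)
theorem F177592 : act 1 n38290 = n37044 := d14_1 D38290 (iv D37044) (iv F171250)
theorem F177593 : act 2 n38290 = n37255 := d21_1 D38290 F172864 (iv F171251)
theorem F177594 : act 4 n38290 = n37214 := d32_1 D38290 (iv D37214) (iv F171252)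
theorem F177595 : act 5 n38290 = n36972 := d36_1 D38290 (iv D36972) (iv F171253)
theorem F177596 : act 9 n38290 = n37226 := d43_2 F171254 D38290 F172762
def n38291 : Q := act 4 n36914
theorem D38291 : act 4 n36914 = n38291 := rfl
theorem F177597 : act 0 n38291 = n37027 := d3_1 D38291 F171793 (iv F171262)
theorem F177598 : act 1 n38291 = n37046 := d11_1 D38291 (iv D37046) (iv F171263)
theorem F177599 : act 6 n38291 = n37023 := d31_2 (iv F171265) D38291 F171776
theorem F177600 : act 7 n38291 = n36973 := d32_2 (iv F171266) D38291 (iv D36973)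
theorem F177601 : act 8 n38291 = n37248 := d33_2 (iv F171267) D38291 F172846
theorem F177602 : act 9 n38291 = n37117 := d34_2 F171268 D38291 F172163
def n38292 : Q := act 7 n36917
theorem D38292 : act 7 n36917 = n38292 := rfl
theorem F177603 : act 1 n38292 = n36920 := d14_1 D38292 (iv D36920) (iv F171283)
theorem F177604 : act 2 n38292 = n37049 := d21_1 D38292 (iv D37049) (iv F171284)
theorem F177605 : act 3 n38292 = n37698 := d27_1 D38292 F174373 F171289
theorem F177606 : act 4 n38292 = n36918 := d32_1 D38292 (iv D36918) D36917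
theorem F177607 : act 5 n38292 = n37447 := d36_1 D38292 (iv D37447) (iv F171285)
theorem F177608 : act 8 n38292 = n37655 := d42_2 (iv F171287) D38292 (iv D37655)
theorem F177609 : act 9 n38292 = n37234 := d43_2 (iv F171288) D38292 (iv D37234)
def n38293 : Q := act 6 n36918
theorem D38293 : act 6 n36918 = n38293 := rfl
theorem F177610 : act 1 n38293 = n36921 := d13_1 D38293 (iv D36921) (iv F171290)
theorem F177611 : act 2 n38293 = n37050 := d20_1 D38293 (iv D37050) (iv F171291)
theorem F177612 : act 3 n38293 = n38293 := d26_1 D38293 (iv D38293) F171292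
theorem F177613 : act 5 n38293 = n37482 := d35_1 D38293 (iv D37482) F166897 (iv F164077) (iv F171293)
theorem F177614 : act 7 n38293 = n36974 := d39_2 D36918 D38293 (iv D36974) F164329 (iv F164070)
theorem F177615 : act 8 n38293 = n37778 := d40_2 (iv F171294) D38293 F174547
theorem F177616 : act 9 n38293 = n37235 := d41_2 (iv F171295) D38293 (iv D37235)
def n38294 : Q := act 7 n36919
theorem D38294 : act 7 n36919 = n38294 := rfl
theorem F177617 : act 0 n38294 = n37279 := d6_1 D38294 (iv D37279) (iv F171296)
theorem F177618 : act 1 n38294 = n37698 := d14_1 D38294 F174373 (iv F171297)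
theorem F177619 : act 2 n38294 = n36930 := d21_1 D38294 (iv D36930) (iv F171298)
theorem F177620 : act 3 n38294 = n36920 := d27_1 D38294 (iv D36920) D36919
theorem F177621 : act 4 n38294 = n38294 := d32_1 D38294 (iv D38294) F171299
theorem F177622 : act 5 n38294 = n37449 := d36_1 D38294 (iv D37449) (iv F171300)
theorem F177623 : act 8 n38294 = n37560 := d42_2 (iv F171302) D38294 (iv D37560)
theorem F177624 : act 9 n38294 = n37236 := d43_2 (iv F171303) D38294 (iv D37236)
def n38295 : Q := act 6 n36920
theorem D38295 : act 6 n36920 = n38295 := rfl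
theorem F177625 : act 0 n38295 = n37280 := d5_1 D38295 (iv D37280) (iv F171304)
theorem F177626 : act 2 n38295 = n36922 := d20_1 D38295 (iv D36922) (iv F171305)
theorem F177627 : act 4 n38295 = n36921 := d31_1 D38295 (iv D36921) (iv F171306)
theorem F177628 : act 7 n38295 = n37068 := d39_2 D36920 D38295 (iv D37068) F164721 (iv F164083)
theorem F177629 : act 8 n38295 = n37745 := d40_2 (iv F171308) D38295 F174481
theorem F177630 : act 9 n38295 = n37237 := d41_2 (iv F171309) D38295 (iv D37237)
def n38296 : Q := act 5 n36922
theorem D38296 : act 5 n36922 = n38296 := rfl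
theorem F177631 : act 0 n38296 = n37281 := d4_1 D38296 (iv D37281) (iv F171317)
theorem F177632 : act 1 n38296 = n37055 := d12_1 D38296 (iv D37055) (iv F171318)
theorem F177633 : act 3 n38296 = n36932 := d25_1 D38296 (iv D36932) (iv F171319)
theorem F177634 : act 4 n38296 = n37489 := d30_1 D38296 (iv D37489) F166913 (iv F164107) (iv F171320)
theorem F177635 : act 6 n38296 = n37454 := d35_2 D36922 D38296 (iv D37454) (iv D35959) (iv F164096)
theorem F177636 : act 7 n38296 = n37269 := d36_2 (iv F171321) D38296 (iv D37269)
theorem F177637 : act 9 n38296 = n37240 := d38_2 (iv F171322) D38296 (iv D37240)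
def n38297 : Q := act 8 n36922
theorem D38297 : act 8 n36922 = n38297 := rfl
theorem F177638 : act 0 n38297 = n37282 := d7_1 D38297 (iv D37282) (iv F171317)
theorem F177639 : act 1 n38297 = n37056 := d15_1 D38297 (iv D37056) (iv F171318)
theorem F177640 : act 2 n38297 = n37745 := d22_1 D38297 (iv F177629) F177626
theorem F177641 : act 3 n38297 = n36933 := d28_1 D38297 (iv D36933) (iv F171319)
theorem F177642 : act 4 n38297 = n36926 := d33_1 D38297 (iv D36926) (iv F171320)
theorem F177643 : act 6 n38297 = n36923 := d40_1 D38297 (iv D36923) D36922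
theorem F177644 : act 7 n38297 = n37270 := d42_1 D38297 (iv D37270) (iv F171321)
def n38298 : Q := act 5 n36923
theorem D38298 : act 5 n36923 = n38298 := rfl
theorem F177645 : act 0 n38298 = n37283 := d4_1 D38298 (iv D37283) (iv F171323)
theorem F177646 : act 1 n38298 = n37057 := d12_1 D38298 (iv D37057) (iv F171324)
theorem F177647 : act 2 n38298 = n37706 := d19_1 D38298 F174395 (iv F171325)
theorem F177648 : act 3 n38298 = n36934 := d25_1 D38298 (iv D36934) (iv F171326)
theorem F177649 : act 4 n38298 = n38298 := d30_1 D38298 (iv D38298) F171327 F164114 (iv F171327)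
theorem F177650 : act 7 n38298 = n36924 := d36_2 (iv F171328) D38298 (iv D36924)
theorem F177651 : act 8 n38298 = n37456 := d37_2 D36923 D38298 (iv D37456) (iv D35960) (iv F164096)
def n38299 : Q := act 9 n36923
theorem D38299 : act 9 n36923 = n38299 := rfl
theorem F177652 : act 0 n38299 = n37284 := d8_1 D38299 (iv D37284) (iv F171323)
theorem F177653 : act 1 n38299 = n37058 := d16_1 D38299 (iv D37058) (iv F171324)
theorem F177654 : act 2 n38299 = n37747 := d23_1 D38299 (iv D37747) (iv F171325)
theorem F177655 : act 3 n38299 = n36935 := d29_1 D38299 (iv D36935) (iv F171326)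
theorem F177656 : act 4 n38299 = n36927 := d34_1 D38299 (iv D36927) (iv F171327)
theorem F177657 : act 7 n38299 = n36925 := d43_1 D38299 (iv D36925) (iv F171328)
theorem F177658 : act 8 n38299 = n37242 := d44_1 D38299 (iv D37242) (iv D35709) (iv F164097) D36923
def n38300 : Q := act 5 n36926
theorem D38300 : act 5 n36926 = n38300 := rfl
theorem F177659 : act 0 n38300 = n37285 := d4_1 D38300 (iv D37285) (iv F171343)
theorem F177660 : act 1 n38300 = n37059 := d12_1 D38300 (iv D37059) (iv F171344)
theorem F177661 : act 2 n38300 = n37786 := d19_1 D38300 F174566 (iv F171345)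
theorem F177662 : act 3 n38300 = n36928 := d25_1 D38300 (iv D36928) (iv F171346)
theorem F177663 : act 6 n38300 = n38300 := d35_2 (iv F171347) D38300 (iv D38300) F171347 F164114
theorem F177664 : act 7 n38300 = n37272 := d36_2 (iv F171348) D38300 (iv D37272)
theorem F177665 : act 8 n38300 = n37493 := d37_2 D36926 D38300 (iv D37493) (iv D35998) (iv F164107)
def n38301 : Q := act 9 n36926
theorem D38301 : act 9 n36926 = n38301 := rfl
theorem F177666 : act 0 n38301 = n37286 := d8_1 D38301 (iv D37286) (iv F171343)
theorem F177667 : act 1 n38301 = n37060 := d16_1 D38301 (iv D37060) (iv F171344)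
theorem F177668 : act 2 n38301 = n37788 := d23_1 D38301 (iv D37788) (iv F171345)
theorem F177669 : act 3 n38301 = n36929 := d29_1 D38301 (iv D36929) (iv F171346)
theorem F177670 : act 6 n38301 = n36927 := d41_1 D38301 (iv D36927) (iv F171347)
theorem F177671 : act 7 n38301 = n37273 := d43_1 D38301 (iv D37273) (iv F171348)
theorem F177672 : act 8 n38301 = n37243 := d44_1 D38301 (iv D37243) (iv D35711) (iv F164109) D36926
def n38302 : Q := act 9 n36928
theorem D38302 : act 9 n36928 = n38302 := rfl
theorem F177673 : act 0 n38302 = n37287 := d8_1 D38302 (iv D37287) (iv F171356)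
theorem F177674 : act 1 n38302 = n37062 := d16_1 D38302 (iv D37062) (iv F171357)
theorem F177675 : act 2 n38302 = n38302 := d23_1 D38302 (iv D38302) F171358
theorem F177676 : act 5 n38302 = n36929 := d38_1 D38302 (iv D36929) D36928
theorem F177677 : act 6 n38302 = n38302 := d41_1 D38302 (iv D38302) F171359
theorem F177678 : act 7 n38302 = n37274 := d43_1 D38302 (iv D37274) (iv F171360)
theorem F177679 : act 8 n38302 = n37399 := d44_1 D38302 (iv D37399) (iv F173315) F173316 (iv F171361)
def n38303 : Q := act 6 n36930
theorem D38303 : act 6 n36930 = n38303 := rfl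
theorem F177680 : act 3 n38303 = n36931 := d26_1 D38303 (iv D36931) (iv F171369)
theorem F177681 : act 4 n38303 = n38303 := d31_1 D38303 (iv D38303) F171370
theorem F177682 : act 9 n38303 = n37289 := d41_2 (iv F171372) D38303 (iv D37289)
def n38304 : Q := act 5 n36931
theorem D38304 : act 5 n36931 = n38304 := rfl
theorem F177683 : act 2 n38304 = n36932 := d19_1 D38304 (iv D36932) (iv F171373)
theorem F177684 : act 4 n38304 = n36963 := d30_1 D38304 (iv D36963) F164275 (iv F164145) (iv F171374)
theorem F177685 : act 6 n38304 = n37651 := d35_2 D36931 D38304 (iv D37651) (iv D36197) (iv F164141)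
theorem F177686 : act 9 n38304 = n37290 := d38_2 (iv F171375) D38304 (iv D37290)
def n38305 : Q := act 8 n36932
theorem D38305 : act 8 n36932 = n38305 := rfl
theorem F177687 : act 1 n38305 = n37065 := d15_1 D38305 (iv D37065) (iv F171376)
theorem F177688 : act 4 n38305 = n36968 := d33_1 D38305 (iv D36968) (iv F171377)
theorem F177689 : act 6 n38305 = n37652 := d40_1 D38305 (iv D37652) (iv F171378)
def n38306 : Q := act 5 n36933
theorem D38306 : act 5 n36933 = n38306 := rfl
theorem F177690 : act 1 n38306 = n37066 := d12_1 D38306 (iv D37066) (iv F171380)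
def n38307 : Q := act 9 n36933
theorem D38307 : act 9 n36933 = n38307 := rfl
theorem F177691 : act 1 n38307 = n37067 := d16_1 D38307 (iv D37067) (iv F171380)
theorem F177692 : act 4 n38307 = n36937 := d34_1 D38307 (iv D36937) (iv F171381)
theorem F177693 : act 6 n38307 = n36935 := d41_1 D38307 (iv D36935) (iv F171382)
theorem F177694 : act 8 n38307 = n37293 := d44_1 D38307 (iv D37293) (iv D35778) (iv F164149) D36933
def n38308 : Q := act 6 n36934
theorem D38308 : act 6 n36934 = n38308 := rfl
theorem F177695 : act 1 n38308 = n37068 := d13_1 D38308 (iv D37068) (iv F171383)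
theorem F177696 : act 4 n38308 = n36974 := d31_1 D38308 (iv D36974) (iv F171384)
theorem F177697 : act 8 n38308 = n37654 := d40_2 (iv F171386) D38308 (iv D37654)
def n38309 : Q := act 4 n36936
theorem D38309 : act 4 n36936 = n38309 := rfl
theorem F177698 : act 0 n38309 = n37096 := d3_1 D38309 F172095 (iv F171391)
theorem F177699 : act 1 n38309 = n37069 := d11_1 D38309 (iv D37069) (iv F171392)
theorem F177700 : act 6 n38309 = n36975 := d31_2 (iv F171394) D38309 (iv D36975)
theorem F177701 : act 7 n38309 = n37248 := d32_2 (iv F171395) D38309 F172846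
theorem F177702 : act 8 n38309 = n36973 := d33_2 (iv F171396) D38309 (iv D36973)
def n38310 : Q := act 6 n36938
theorem D38310 : act 6 n36938 = n38310 := rfl
theorem F177703 : act 1 n38310 = n37757 := d13_1 D38310 (iv D37757) (iv F171401)
theorem F177704 : act 3 n38310 = n36940 := d26_1 D38310 (iv D36940) (iv F171402)
theorem F177705 : act 4 n38310 = n38310 := d31_1 D38310 (iv D38310) F171403
theorem F177706 : act 9 n38310 = n36961 := d41_2 (iv F171405) D38310 (iv D36961)
def n38311 : Q := act 8 n36938
theorem D38311 : act 8 n36938 = n38311 := rfl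
theorem F177707 : act 1 n38311 = n37348 := d15_1 D38311 F173186 (iv F171401)
theorem F177708 : act 3 n38311 = n36941 := d28_1 D38311 (iv D36941) (iv F171402)
theorem F177709 : act 4 n38311 = n38311 := d33_1 D38311 (iv D38311) F171403
theorem F177710 : act 5 n38311 = n37316 := d37_1 D38311 F173082 F166289 (iv F167639) (iv F171404)
theorem F177711 : act 7 n38311 = n36939 := d42_1 D38311 (iv D36939) D36938
theorem F177712 : act 9 n38311 = n37315 := d44_2 (iv F171405) D38311 F173077 F171513 (iv D36962)
def n38312 : Q := act 5 n36940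
theorem D38312 : act 5 n36940 = n38312 := rfl
theorem F177713 : act 1 n38312 = n37761 := d12_1 D38312 F174511 (iv F171411)
theorem F177714 : act 2 n38312 = n36944 := d19_1 D38312 (iv D36944) (iv F171412)
theorem F177715 : act 4 n38312 = n37290 := d30_1 D38312 (iv D37290) F166102 (iv F164193) (iv F171413)
theorem F177716 : act 6 n38312 = n37646 := d35_2 D36940 D38312 (iv D37646) (iv D36191) (iv F164184)
theorem F177717 : act 9 n38312 = n36963 := d38_2 (iv F171414) D38312 (iv D36963)
def n38313 : Q := act 8 n36940
theorem D38313 : act 8 n36940 = n38313 := rfl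
theorem F177718 : act 1 n38313 = n37353 := d15_1 D38313 F173200 (iv F171411)
theorem F177719 : act 2 n38313 = n36945 := d22_1 D38313 (iv D36945) (iv F171412)
theorem F177720 : act 4 n38313 = n36942 := d33_1 D38313 (iv D36942) (iv F171413)
theorem F177721 : act 6 n38313 = n36941 := d40_1 D38313 (iv D36941) D36940
def n38314 : Q := act 5 n36942
theorem D38314 : act 5 n36942 = n38314 := rfl
theorem F177722 : act 0 n38314 = n37782 := d4_1 D38314 (iv F177380) F177376
theorem F177723 : act 1 n38314 = n37374 := d12_1 D38314 F173250 (iv F171420)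
theorem F177724 : act 2 n38314 = n36949 := d19_1 D38314 (iv D36949) (iv F171421)
theorem F177725 : act 3 n38314 = n38314 := d25_1 D38314 (iv D38314) F171422
theorem F177726 : act 6 n38314 = n37187 := d35_2 (iv F171423) D38314 (iv D37187) F165491 (iv F164198)
theorem F177727 : act 8 n38314 = n37196 := d37_2 D36942 D38314 F172589 F165549 (iv F164193)
def n38315 : Q := act 9 n36942
theorem D38315 : act 9 n36942 = n38315 := rfl
theorem F177728 : act 0 n38315 = n37189 := d8_1 D38315 (iv F177383) F177376
theorem F177729 : act 1 n38315 = n37377 := d16_1 D38315 (iv D37377) (iv F171420)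
theorem F177730 : act 2 n38315 = n36950 := d23_1 D38315 (iv D36950) (iv F171421)
theorem F177731 : act 3 n38315 = n38315 := d29_1 D38315 (iv D38315) F171422
theorem F177732 : act 6 n38315 = n36943 := d41_1 D38315 (iv D36943) (iv F171423)
theorem F177733 : act 8 n38315 = n36967 := d44_1 D38315 (iv D36967) (iv D35383) (iv F164194) D36942
def n38316 : Q := act 8 n36944
theorem D38316 : act 8 n36944 = n38316 := rfl
theorem F177734 : act 1 n38316 = n37079 := d15_1 D38316 (iv D37079) (iv F171431)
theorem F177735 : act 4 n38316 = n37291 := d33_1 D38316 (iv D37291) (iv F171432)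
theorem F177736 : act 6 n38316 = n37647 := d40_1 D38316 (iv D37647) (iv F171433)
def n38317 : Q := act 5 n36945
theorem D38317 : act 5 n36945 = n38317 := rfl
theorem F177737 : act 1 n38317 = n37080 := d12_1 D38317 (iv D37080) (iv F171435)
def n38318 : Q := act 9 n36945
theorem D38318 : act 9 n36945 = n38318 := rfl
theorem F177738 : act 0 n38318 = n37344 := d8_1 D38318 (iv F177397) F177391
theorem F177739 : act 1 n38318 = n37081 := d16_1 D38318 (iv D37081) (iv F171435)
theorem F177740 : act 4 n38318 = n36950 := d34_1 D38318 (iv D36950) (iv F171436)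
theorem F177741 : act 6 n38318 = n36947 := d41_1 D38318 (iv D36947) (iv F171437)
theorem F177742 : act 8 n38318 = n36970 := d44_1 D38318 (iv D36970) (iv D35386) (iv F164208) D36945
def n38319 : Q := act 6 n36946
theorem D38319 : act 6 n36946 = n38319 := rfl
theorem F177743 : act 1 n38319 = n37082 := d13_1 D38319 (iv D37082) (iv F171438)
theorem F177744 : act 2 n38319 = n37344 := d20_1 D38319 F173173 (iv F171439)
theorem F177745 : act 4 n38319 = n37189 := d31_1 D38319 (iv D37189) (iv F171440)
theorem F177746 : act 8 n38319 = n37288 := d40_2 (iv F171442) D38319 (iv D37288)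
def n38320 : Q := act 7 n36948
theorem D38320 : act 7 n36948 = n38320 := rfl
theorem F177747 : act 1 n38320 = n37084 := d14_1 D38320 (iv D37084) (iv F171448)
theorem F177748 : act 2 n38320 = n37325 := d21_1 D38320 F173117 (iv F171449)
theorem F177749 : act 4 n38320 = n37190 := d32_1 D38320 (iv D37190) (iv F171450)
theorem F177750 : act 8 n38320 = n37277 := d42_2 (iv F171451) D38320 (iv D37277)
theorem F177751 : act 9 n38320 = n37486 := d43_2 (iv F171452) D38320 F173695
def n38321 : Q := act 4 n36949
theorem D38321 : act 4 n36949 = n38321 := rfl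
theorem F177752 : act 1 n38321 = n37086 := d11_1 D38321 (iv D37086) (iv F171453)
theorem F177753 : act 6 n38321 = n37191 := d31_2 (iv F171455) D38321 (iv D37191)
theorem F177754 : act 8 n38321 = n37294 := d33_2 (iv F171456) D38321 (iv D37294)
def n38322 : Q := act 3 n36951
theorem D38322 : act 3 n36951 = n38322 := rfl
theorem F177755 : act 1 n38322 = n37088 := d10_1 D38322 (iv D37088) (iv F171462)
theorem F177756 : act 6 n38322 = n37192 := d26_2 (iv F171464) D38322 (iv D37192)
theorem F177757 : act 8 n38322 = n37296 := d28_2 (iv F171465) D38322 (iv D37296)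
def n38323 : Q := act 7 n36952
theorem D38323 : act 7 n36952 = n38323 := rfl
theorem F177758 : act 0 n38323 = n36956 := d6_1 D38323 (iv D36956) (iv F171466)
theorem F177759 : act 3 n38323 = n36953 := d27_1 D38323 (iv D36953) D36952
theorem F177760 : act 4 n38323 = n38323 := d32_1 D38323 (iv D38323) F171467
theorem F177761 : act 5 n38323 = n37104 := d36_1 D38323 F172129 (iv F171468)
theorem F177762 : act 9 n38323 = n37103 := d43_2 (iv F171469) D38323 F172125
def n38324 : Q := act 6 n36953
theorem D38324 : act 6 n36953 = n38324 := rfl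
theorem F177763 : act 0 n38324 = n36958 := d5_1 D38324 (iv D36958) (iv F171470)
theorem F177764 : act 2 n38324 = n36973 := d20_1 D38324 F171552 (iv F171471)
theorem F177765 : act 4 n38324 = n36954 := d31_1 D38324 (iv D36954) (iv F171472)
theorem F177766 : act 9 n38324 = n37109 := d41_2 (iv F171474) D38324 (iv D37109)
def n38325 : Q := act 7 n36955
theorem D38325 : act 7 n36955 = n38325 := rfl
theorem F177767 : act 1 n38325 = n37505 := d14_1 D38325 F173763 (iv F171480)
theorem F177768 : act 2 n38325 = n36956 := d21_1 D38325 (iv D36956) D36955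
theorem F177769 : act 3 n38325 = n37089 := d27_1 D38325 (iv D37089) (iv F171481)
theorem F177770 : act 4 n38325 = n38325 := d32_1 D38325 (iv D38325) F171482
theorem F177771 : act 5 n38325 = n37499 := d36_1 D38325 F173737 (iv F171483)
theorem F177772 : act 9 n38325 = n37579 := d43_2 (iv F171484) D38325 F174021
def n38326 : Q := act 8 n36955
theorem D38326 : act 8 n36955 = n38326 := rfl
theorem F177773 : act 0 n38326 = n37707 := d7_1 D38326 (iv F176755) F176748
theorem F177774 : act 1 n38326 = n37487 := d15_1 D38326 F173698 (iv F171480)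
theorem F177775 : act 2 n38326 = n36957 := d22_1 D38326 (iv D36957) D36955
theorem F177776 : act 3 n38326 = n37090 := d28_1 D38326 (iv D37090) (iv F171481)
theorem F177777 : act 4 n38326 = n38326 := d33_1 D38326 (iv D38326) F171482
theorem F177778 : act 5 n38326 = n37085 := d37_1 D38326 F172058 F166894 D36004 (iv F171483)
theorem F177779 : act 6 n38326 = n37018 := d40_1 D38326 F177509 F177507
theorem F177780 : act 9 n38326 = n37017 := d44_2 (iv F171484) D38326 (iv F175637) (iv F175638) F172789
def n38327 : Q := act 6 n36956
theorem D38327 : act 6 n36956 = n38327 := rfl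
theorem F177781 : act 1 n38327 = n36961 := d13_1 D38327 (iv D36961) (iv F171485)
theorem F177782 : act 3 n38327 = n36958 := d26_1 D38327 (iv D36958) (iv F171486)
theorem F177783 : act 4 n38327 = n38327 := d31_1 D38327 (iv D38327) F171487
theorem F177784 : act 9 n38327 = n37757 := d41_2 (iv F171489) D38327 (iv D37757)
def n38328 : Q := act 8 n36956
theorem D38328 : act 8 n36956 = n38328 := rfl
theorem F177785 : act 1 n38328 = n36962 := d15_1 D38328 (iv D36962) (iv F171485)
theorem F177786 : act 3 n38328 = n36959 := d28_1 D38328 (iv D36959) (iv F171486)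
theorem F177787 : act 4 n38328 = n38328 := d33_1 D38328 (iv D38328) F171487
theorem F177788 : act 5 n38328 = n37284 := d37_1 D38328 (iv F176345) F176344 F173418 (iv F171488)
theorem F177789 : act 7 n38328 = n36957 := d42_1 D38328 (iv D36957) D36956
theorem F177790 : act 9 n38328 = n37283 := d44_2 (iv F171489) D38328 (iv F175965) F175966 F173186
def n38329 : Q := act 5 n36958
theorem D38329 : act 5 n36958 = n38329 := rfl
theorem F177791 : act 1 n38329 = n36963 := d12_1 D38329 (iv D36963) (iv F171495)
theorem F177792 : act 2 n38329 = n37095 := d19_1 D38329 (iv D37095) (iv F171496)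
theorem F177793 : act 6 n38329 = n37762 := d35_2 D36958 D38329 F174513 F167948 (iv F164254)
theorem F177794 : act 9 n38329 = n37761 := d38_2 (iv F171498) D38329 F174511
def n38330 : Q := act 8 n36958
theorem D38330 : act 8 n36958 = n38330 := rfl
theorem F177795 : act 1 n38330 = n36964 := d15_1 D38330 (iv D36964) (iv F171495)
theorem F177796 : act 2 n38330 = n37096 := d22_1 D38330 (iv D37096) (iv F171496)
theorem F177797 : act 4 n38330 = n36960 := d33_1 D38330 (iv D36960) (iv F171497)
theorem F177798 : act 6 n38330 = n36959 := d40_1 D38330 (iv D36959) D36958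
def n38331 : Q := act 5 n36961
theorem D38331 : act 5 n36961 = n38331 := rfl
theorem F177799 : act 3 n38331 = n36963 := d25_1 D38331 (iv D36963) (iv F171507)
def n38332 : Q := act 8 n36961
theorem D38332 : act 8 n36961 = n38332 := rfl
theorem F177800 : act 3 n38332 = n36964 := d28_1 D38332 (iv D36964) (iv F171507)
theorem F177801 : act 4 n38332 = n38332 := d33_1 D38332 (iv D38332) F171508
theorem F177802 : act 6 n38332 = n36962 := d40_1 D38332 (iv D36962) D36961
theorem F177803 : act 9 n37337 = n38332 := d41_0 F177802 (iv F171513) D37337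
def n38333 : Q := act 8 n36963
theorem D38333 : act 8 n36963 = n38333 := rfl
theorem F177804 : act 2 n38333 = n36968 := d22_1 D38333 (iv D36968) (iv F171514)
def n38334 : Q := act 5 n36964
theorem D38334 : act 5 n36964 = n38334 := rfl
theorem F177805 : act 2 n38334 = n36969 := d19_1 D38334 (iv D36969) (iv F171515)
def n38335 : Q := act 9 n36964
theorem D38335 : act 9 n36964 = n38335 := rfl
theorem F177806 : act 0 n38335 = n37288 := d8_1 D38335 F177441 F177436
theorem F177807 : act 2 n38335 = n36970 := d23_1 D38335 (iv D36970) (iv F171515)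
theorem F177808 : act 3 n38335 = n37337 := d29_1 D38335 F177803 F177800
theorem F177809 : act 4 n38335 = n36967 := d34_1 D38335 (iv D36967) (iv F171516)
theorem F177810 : act 6 n38335 = n36966 := d41_1 D38335 (iv D36966) (iv F171517)
def n38336 : Q := act 6 n36965
theorem D38336 : act 6 n36965 = n38336 := rfl
theorem F177811 : act 0 n38336 = n37649 := d5_1 D38336 F174255 (iv F171518)
theorem F177812 : act 2 n38336 = n36971 := d20_1 D38336 (iv D36971) (iv F171519)
theorem F177813 : act 3 n38336 = n37336 := d26_1 D38336 F173150 (iv F171520)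
theorem F177814 : act 4 n38336 = n36976 := d31_1 D38336 (iv D36976) (iv F171521)
theorem F177815 : act 7 n38336 = n37253 := d39_2 (iv F171522) D38336 F172857 F165920 F164283
theorem F177816 : act 9 n38336 = n37111 := d41_2 F171523 D38336 F172150
def n38337 : Q := act 5 n36968
theorem D38337 : act 5 n36968 = n38337 := rfl
theorem F177817 : act 1 n38337 = n37112 := d12_1 D38337 (iv D37112) (iv F171535)
theorem F177818 : act 8 n38337 = n36969 := d37_2 D36968 D38337 (iv D36969) (iv D35386) D35385
def n38338 : Q := act 9 n36968
theorem D38338 : act 9 n36968 = n38338 := rfl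
theorem F177819 : act 1 n38338 = n37113 := d16_1 D38338 (iv D37113) (iv F171535)
def n38339 : Q := act 4 n36969
theorem D38339 : act 4 n36969 = n38339 := rfl
theorem F177820 : act 0 n38339 = n37095 := d3_1 D38339 (iv F177446) F177444
theorem F177821 : act 1 n38339 = n37114 := d11_1 D38339 (iv D37114) (iv F171536)
theorem F177822 : act 5 n38339 = n36973 := d30_2 D36969 D38339 (iv D36973) (iv D35390) (iv F164300)
theorem F177823 : act 6 n37116 = n38339 := d35_0 F177822 F171552 F164354 (iv F164908) (iv F172161)
theorem F177824 : act 9 n37115 = n38339 := d38_0 F177822 F171553 (iv F172159)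
def n38340 : Q := act 6 n36969
theorem D38340 : act 6 n36969 = n38340 := rfl
theorem F177825 : act 0 n38340 = n37733 := d5_1 D38340 (iv F177447) F177444
theorem F177826 : act 1 n38340 = n37115 := d13_1 D38340 (iv D37115) (iv F171536)
theorem F177827 : act 4 n38340 = n37116 := d31_1 D38340 F177823 (iv D38339)
theorem F177828 : act 5 n38340 = n36971 := d35_1 D38340 (iv D36971) (iv D35387) (iv F164301) D36969
theorem F177829 : act 9 n37114 = n38340 := d38_0 F177828 F171544 (iv F172157)
def n38341 : Q := act 9 n36969
theorem D38341 : act 9 n36969 = n38341 := rfl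
theorem F177830 : act 0 n38341 = n37343 := d8_1 D38341 (iv F177448) F177444
theorem F177831 : act 1 n38341 = n37116 := d16_1 D38341 (iv D37116) (iv F171536)
theorem F177832 : act 4 n38341 = n37115 := d34_1 D38341 F177824 (iv D38339)
theorem F177833 : act 5 n38341 = n36970 := d38_1 D38341 (iv D36970) D36969
theorem F177834 : act 6 n38341 = n37114 := d41_1 D38341 F177829 (iv D38340)
def n38342 : Q := act 7 n36971
theorem D38342 : act 7 n36971 = n38342 := rfl
theorem F177835 : act 0 n38342 = n37694 := d6_1 D38342 F174358 (iv F171541)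
theorem F177836 : act 1 n38342 = n37117 := d14_1 D38342 (iv D37117) (iv F171542)
theorem F177837 : act 2 n38342 = n37253 := d21_1 D38342 (iv F177815) F177812
theorem F177838 : act 4 n38342 = n36977 := d32_1 D38342 (iv D36977) (iv F171543)
theorem F177839 : act 6 n38342 = n36972 := d39_1 D38342 (iv D36972) (iv D35389) (iv F164305) D36971
theorem F177840 : act 9 n38342 = n37046 := d43_2 (iv F171544) D38342 F171875
def n38343 : Q := act 7 n36978
theorem D38343 : act 7 n36978 = n38343 := rfl
theorem F177841 : act 0 n38343 = n36981 := d6_1 D38343 (iv D36981) (iv F171574)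
theorem F177842 : act 1 n38343 = n37226 := d14_1 D38343 F172762 (iv F171575)
theorem F177843 : act 4 n38343 = n36979 := d32_1 D38343 (iv D36979) D36978
theorem F177844 : act 5 n38343 = n37023 := d36_1 D38343 (iv D37023) (iv F171576)
theorem F177845 : act 8 n38343 = n37574 := d42_2 (iv F171578) D38343 F174001
theorem F177846 : act 9 n38343 = n37044 := d43_2 (iv F171579) D38343 (iv D37044)
def n38344 : Q := act 6 n36979
theorem D38344 : act 6 n36979 = n38344 := rfl
theorem F177847 : act 0 n38344 = n36983 := d5_1 D38344 (iv D36983) (iv F171580)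
theorem F177848 : act 1 n38344 = n37227 := d13_1 D38344 (iv D37227) (iv F171581)
theorem F177849 : act 3 n38344 = n38344 := d26_1 D38344 (iv D38344) F171582
theorem F177850 : act 5 n38344 = n37212 := d35_1 D38344 (iv D37212) (iv D35673) (iv F164373) (iv F171583)
theorem F177851 : act 7 n38344 = n37229 := d39_2 D36979 D38344 F172774 F165786 (iv F164366)
theorem F177852 : act 8 n38344 = n37606 := d40_2 (iv F171584) D38344 (iv D37606)
theorem F177853 : act 9 n38344 = n37228 := d41_2 (iv F171585) D38344 F172771
def n38345 : Q := act 7 n36980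
theorem D38345 : act 7 n36980 = n38345 := rfl
theorem F177854 : act 1 n38345 = n36985 := d14_1 D38345 (iv D36985) (iv F171586)
theorem F177855 : act 3 n38345 = n36981 := d27_1 D38345 (iv D36981) D36980
theorem F177856 : act 4 n38345 = n38345 := d32_1 D38345 (iv D38345) F171587
theorem F177857 : act 5 n38345 = n37025 := d36_1 D38345 (iv D37025) (iv F171588)
theorem F177858 : act 9 n38345 = n37516 := d43_2 (iv F171590) D38345 (iv D37516)
def n38346 : Q := act 6 n36981
theorem D38346 : act 6 n36981 = n38346 := rfl
theorem F177859 : act 1 n38346 = n36987 := d13_1 D38346 (iv D36987) (iv F171591)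
theorem F177860 : act 4 n38346 = n36983 := d31_1 D38346 (iv D36983) (iv F171592)
theorem F177861 : act 7 n38346 = n37724 := d39_2 D36981 D38346 F174442 F167862 (iv F164378)
theorem F177862 : act 9 n38346 = n37723 := d41_2 (iv F171594) D38346 F174440
def n38347 : Q := act 8 n36981
theorem D38347 : act 8 n36981 = n38347 := rfl
theorem F177863 : act 0 n38347 = n37574 := d7_1 D38347 (iv F177845) F177841
theorem F177864 : act 1 n38347 = n36988 := d15_1 D38347 (iv D36988) (iv F171591)
theorem F177865 : act 4 n38347 = n36984 := d33_1 D38347 (iv D36984) (iv F171592)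
theorem F177866 : act 5 n38347 = n37569 := d37_1 D38347 (iv D37569) F171800 (iv D37028) (iv F171593)
theorem F177867 : act 7 n38347 = n36982 := d42_1 D38347 (iv D36982) D36981
def n38348 : Q := act 8 n36983
theorem D38348 : act 8 n36983 = n38348 := rfl
theorem F177868 : act 0 n38348 = n37606 := d7_1 D38348 (iv F177852) F177847
theorem F177869 : act 1 n38348 = n36990 := d15_1 D38348 (iv D36990) (iv F171600)
theorem F177870 : act 3 n38348 = n38348 := d28_1 D38348 (iv D38348) F171601
theorem F177871 : act 6 n38348 = n36984 := d40_1 D38348 (iv D36984) D36983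
theorem F177872 : act 7 n38348 = n37803 := d42_1 D38348 (iv D37803) (iv F171602)
def n38349 : Q := act 6 n36985
theorem D38349 : act 6 n36985 = n38349 := rfl
theorem F177873 : act 0 n38349 = n37672 := d5_1 D38349 (iv D37672) (iv F171609)
theorem F177874 : act 3 n38349 = n36987 := d26_1 D38349 (iv D36987) (iv F171610)
theorem F177875 : act 4 n38349 = n38349 := d31_1 D38349 (iv D38349) F171611
def n38350 : Q := act 8 n36985
theorem D38350 : act 8 n36985 = n38350 := rfl
theorem F177876 : act 0 n38350 = n37673 := d7_1 D38350 (iv D37673) (iv F171609)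
theorem F177877 : act 3 n38350 = n36988 := d28_1 D38350 (iv D36988) (iv F171610)
theorem F177878 : act 4 n38350 = n38350 := d33_1 D38350 (iv D38350) F171611
theorem F177879 : act 7 n38350 = n36986 := d42_1 D38350 (iv D36986) D36985
def n38351 : Q := act 5 n36987
theorem D38351 : act 5 n36987 = n38351 := rfl
theorem F177880 : act 0 n38351 = n37675 := d4_1 D38351 (iv D37675) (iv F171616)
theorem F177881 : act 2 n38351 = n36992 := d19_1 D38351 (iv D36992) (iv F171617)
theorem F177882 : act 6 n38351 = n37035 := d35_2 D36987 D38351 (iv D37035) (iv D35447) (iv F164395)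
def n38352 : Q := act 8 n36987
theorem D38352 : act 8 n36987 = n38352 := rfl
theorem F177883 : act 0 n38352 = n37676 := d7_1 D38352 (iv D37676) (iv F171616)
theorem F177884 : act 2 n38352 = n36993 := d22_1 D38352 (iv D36993) (iv F171617)
theorem F177885 : act 4 n38352 = n36990 := d33_1 D38352 (iv D36990) (iv F171618)
theorem F177886 : act 6 n38352 = n36988 := d40_1 D38352 (iv D36988) D36987
def n38353 : Q := act 9 n36988
theorem D38353 : act 9 n36988 = n38353 := rfl
theorem F177887 : act 0 n38353 = n37677 := d8_1 D38353 (iv D37677) (iv F171619)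
theorem F177888 : act 2 n38353 = n36995 := d23_1 D38353 (iv D36995) (iv F171620)
theorem F177889 : act 4 n38353 = n36991 := d34_1 D38353 (iv D36991) (iv F171621)
theorem F177890 : act 7 n38353 = n36989 := d43_1 D38353 (iv D36989) (iv F171622)
def n38354 : Q := act 5 n36990
theorem D38354 : act 5 n36990 = n38354 := rfl
theorem F177891 : act 0 n38354 = n37678 := d4_1 D38354 (iv D37678) (iv F171626)
theorem F177892 : act 2 n38354 = n36998 := d19_1 D38354 (iv D36998) (iv F171627)
theorem F177893 : act 3 n38354 = n38354 := d25_1 D38354 (iv D38354) F171628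
theorem F177894 : act 6 n38354 = n37216 := d35_2 (iv F171629) D38354 (iv D37216) F165735 (iv F164405)
theorem F177895 : act 8 n38354 = n37599 := d37_2 D36990 D38354 F174067 (iv F169134) F169132
def n38355 : Q := act 9 n36990
theorem D38355 : act 9 n36990 = n38355 := rfl
theorem F177896 : act 0 n38355 = n37679 := d8_1 D38355 (iv D37679) (iv F171626)
theorem F177897 : act 2 n38355 = n36999 := d23_1 D38355 (iv D36999) (iv F171627)
theorem F177898 : act 3 n38355 = n38355 := d29_1 D38355 (iv D38355) F171628
theorem F177899 : act 6 n38355 = n36991 := d41_1 D38355 (iv D36991) (iv F171629)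
def n38356 : Q := act 8 n36992
theorem D38356 : act 8 n36992 = n38356 := rfl
theorem F177900 : act 0 n38356 = n37680 := d7_1 D38356 (iv D37680) (iv F171635)
theorem F177901 : act 6 n38356 = n37039 := d40_1 D38356 (iv D37039) (iv F171636)
def n38357 : Q := act 5 n36993
theorem D38357 : act 5 n36993 = n38357 := rfl
theorem F177902 : act 0 n38357 = n37681 := d4_1 D38357 (iv D37681) (iv F171637)
def n38358 : Q := act 9 n36993
theorem D38358 : act 9 n36993 = n38358 := rfl
theorem F177903 : act 0 n38358 = n37682 := d8_1 D38358 (iv D37682) (iv F171637)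
theorem F177904 : act 4 n38358 = n36999 := d34_1 D38358 (iv D36999) (iv F171638)
theorem F177905 : act 6 n38358 = n36995 := d41_1 D38358 (iv D36995) (iv F171639)
def n38359 : Q := act 6 n36994
theorem D38359 : act 6 n36994 = n38359 := rfl
theorem F177906 : act 0 n38359 = n37683 := d5_1 D38359 (iv D37683) (iv F171640)
theorem F177907 : act 4 n38359 = n37220 := d31_1 D38359 (iv D37220) (iv F171641)
theorem F177908 : act 8 n38359 = n37042 := d40_2 (iv F171643) D38359 (iv D37042)
def n38360 : Q := act 9 n36994
theorem D38360 : act 9 n36994 = n38360 := rfl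
theorem F177909 : act 0 n38360 = n37684 := d8_1 D38360 (iv D37684) (iv F171640)
theorem F177910 : act 4 n38360 = n37221 := d34_1 D38360 (iv D37221) (iv F171641)
theorem F177911 : act 5 n38360 = n36995 := d38_1 D38360 (iv D36995) D36994
theorem F177912 : act 7 n38360 = n36997 := d43_1 D38360 (iv D36997) (iv F171642)
def n38361 : Q := act 7 n36996
theorem D38361 : act 7 n36996 = n38361 := rfl
theorem F177913 : act 0 n38361 = n37685 := d6_1 D38361 (iv D37685) (iv F171647)
theorem F177914 : act 4 n38361 = n37222 := d32_1 D38361 (iv D37222) (iv F171648)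
theorem F177915 : act 8 n38361 = n37044 := d42_2 (iv F171649) D38361 (iv D37044)
def n38362 : Q := act 4 n36998
theorem D38362 : act 4 n36998 = n38362 := rfl
theorem F177916 : act 0 n38362 = n37688 := d3_1 D38362 (iv D37688) (iv F171653)
theorem F177917 : act 6 n38362 = n37223 := d31_2 (iv F171655) D38362 (iv D37223)
def n38363 : Q := act 9 n36998
theorem D38363 : act 9 n36998 = n38363 := rfl
theorem F177918 : act 0 n38363 = n37689 := d8_1 D38363 (iv D37689) (iv F171653)
theorem F177919 : act 3 n38363 = n37001 := d29_1 D38363 (iv D37001) (iv F171654)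
theorem F177920 : act 5 n38363 = n36999 := d38_1 D38363 (iv D36999) D36998
theorem F177921 : act 6 n38363 = n37224 := d41_1 D38363 (iv D37224) (iv F171655)
def n38364 : Q := act 3 n37000
theorem D38364 : act 3 n37000 = n38364 := rfl
theorem F177922 : act 0 n38364 = n37690 := d2_1 D38364 (iv D37690) (iv F171659)
theorem F177923 : act 1 n38364 = n37165 := d10_1 D38364 F172418 (iv F171660)
theorem F177924 : act 6 n38364 = n37181 := d26_2 (iv F171662) D38364 F172508
theorem F177925 : act 8 n38364 = n37159 := d28_2 (iv F171663) D38364 F172394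
def n38365 : Q := act 9 n37000
theorem D38365 : act 9 n37000 = n38365 := rfl
theorem F177926 : act 0 n38365 = n37691 := d8_1 D38365 (iv D37691) (iv F171659)
theorem F177927 : act 1 n38365 = n37155 := d16_1 D38365 F172378 (iv F171660)
theorem F177928 : act 2 n38365 = n38365 := d23_1 D38365 (iv D38365) F171661
theorem F177929 : act 4 n38365 = n37001 := d34_1 D38365 (iv D37001) D37000
theorem F177930 : act 6 n38365 = n37182 := d41_1 D38365 (iv D37182) (iv F171662)
theorem F177931 : act 8 n38365 = n37416 := d44_1 D38365 F173386 F167327 (iv F165296) (iv F171663)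
def n38366 : Q := act 8 n37001
theorem D38366 : act 8 n37001 = n38366 := rfl
theorem F177932 : act 0 n38366 = n37692 := d7_1 D38366 (iv D37692) (iv F171664)
theorem F177933 : act 1 n38366 = n37413 := d15_1 D38366 (iv F176125) F176119
theorem F177934 : act 2 n38366 = n38366 := d22_1 D38366 (iv D38366) F171665
theorem F177935 : act 4 n38366 = n37416 := d33_1 D38366 (iv F177931) F177929
theorem F177936 : act 6 n38366 = n37225 := d40_1 D38366 (iv D37225) (iv F171667)
theorem F177937 : act 9 n38366 = n37408 := d44_2 D37001 D38366 (iv D37408) (iv F169164) F169163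
def n38367 : Q := act 5 n37002
theorem D38367 : act 5 n37002 = n38367 := rfl
theorem F177938 : act 0 n38367 = n37644 := d4_1 D38367 (iv D37644) (iv F171668)
theorem F177939 : act 2 n38367 = n37003 := d19_1 D38367 (iv D37003) (iv F171669)
theorem F177940 : act 4 n38367 = n37035 := d30_1 D38367 (iv D37035) F164575 (iv F164442) (iv F171670)
theorem F177941 : act 7 n38367 = n37064 := d36_2 (iv F171671) D38367 (iv D37064)
theorem F177942 : act 9 n38367 = n37329 := d38_2 (iv F171673) D38367 (iv D37329)
def n38368 : Q := act 8 n37003
theorem D38368 : act 8 n37003 = n38368 := rfl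
theorem F177943 : act 0 n38368 = n37693 := d7_1 D38368 (iv D37693) (iv F171674)
theorem F177944 : act 4 n38368 = n37039 := d33_1 D38368 (iv D37039) (iv F171675)
theorem F177945 : act 7 n38368 = n37065 := d42_1 D38368 (iv D37065) (iv F171676)
def n38369 : Q := act 5 n37004
theorem D38369 : act 5 n37004 = n38369 := rfl
theorem F177946 : act 0 n38369 = n37642 := d4_1 D38369 (iv D37642) (iv F171678)
theorem F177947 : act 2 n38369 = n37245 := d19_1 D38369 (iv D37245) (iv F171679)
theorem F177948 : act 4 n38369 = n37250 := d30_1 D38369 (iv D37250) F165908 F164460 (iv F171680)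
theorem F177949 : act 6 n38369 = n37532 := d35_2 (iv F171681) D38369 (iv D37532) (iv D36035) F164454
theorem F177950 : act 7 n38369 = n37066 := d36_2 (iv F171682) D38369 (iv D37066)
def n38370 : Q := act 6 n37005
theorem D38370 : act 6 n37005 = n38370 := rfl
theorem F177951 : act 0 n38370 = n37695 := d5_1 D38370 (iv D37695) (iv F171683)
theorem F177952 : act 1 n38370 = n37593 := d13_1 D38370 F174050 (iv F171684)
theorem F177953 : act 3 n38370 = n37007 := d26_1 D38370 (iv D37007) (iv F171685)
theorem F177954 : act 4 n38370 = n37123 := d31_1 D38370 (iv D37123) (iv F171686)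
theorem F177955 : act 7 n38370 = n37071 := d39_2 D37005 D38370 (iv D37071) (iv D35487) (iv F164464)
theorem F177956 : act 9 n38370 = n37032 := d41_2 (iv F171687) D38370 (iv D37032)
def n38371 : Q := act 8 n37005
theorem D38371 : act 8 n37005 = n38371 := rfl
theorem F177957 : act 0 n38371 = n37447 := d7_1 D38371 F173533 (iv F171683)
theorem F177958 : act 1 n38371 = n37256 := d15_1 D38371 F172867 (iv F171684)
theorem F177959 : act 2 n38371 = n37545 := d22_1 D38371 (iv F176036) F176032
theorem F177960 : act 3 n38371 = n37008 := d28_1 D38371 (iv D37008) (iv F171685)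
theorem F177961 : act 4 n38371 = n37124 := d33_1 D38371 (iv D37124) (iv F171686)
theorem F177962 : act 7 n38371 = n37006 := d42_1 D38371 (iv D37006) D37005
theorem F177963 : act 9 n37460 = n38371 := d43_0 F177962 (iv F171694) D37460
def n38372 : Q := act 5 n37007
theorem D38372 : act 5 n37007 = n38372 := rfl
theorem F177964 : act 0 n38372 = n37696 := d4_1 D38372 (iv D37696) (iv F171695)
theorem F177965 : act 1 n38372 = n37766 := d12_1 D38372 F174519 (iv F171696)
theorem F177966 : act 2 n38372 = n37013 := d19_1 D38372 (iv D37013) (iv F171697)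
theorem F177967 : act 4 n38372 = n37329 := d30_1 D38372 (iv D37329) F166252 (iv F164480) (iv F171698)
theorem F177968 : act 7 n38372 = n37074 := d36_2 (iv F171699) D38372 (iv D37074)
theorem F177969 : act 9 n38372 = n37035 := d38_2 (iv F171700) D38372 (iv D37035)
def n38373 : Q := act 8 n37007
theorem D38373 : act 8 n37007 = n38373 := rfl
theorem F177970 : act 0 n38373 = n37697 := d7_1 D38373 (iv D37697) (iv F171695)
theorem F177971 : act 1 n38373 = n37364 := d15_1 D38373 F173227 (iv F171696)
theorem F177972 : act 2 n38373 = n37014 := d22_1 D38373 (iv D37014) (iv F171697)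
theorem F177973 : act 4 n38373 = n37011 := d33_1 D38373 (iv D37011) (iv F171698)
theorem F177974 : act 6 n38373 = n37008 := d40_1 D38373 (iv D37008) D37007
theorem F177975 : act 7 n38373 = n37075 := d42_1 D38373 (iv D37075) (iv F171699)
def n38374 : Q := act 5 n37008
theorem D38374 : act 5 n37008 = n38374 := rfl
theorem F177976 : act 0 n38374 = n37698 := d4_1 D38374 (iv D37698) (iv F171701)
theorem F177977 : act 1 n38374 = n37338 := d12_1 D38374 F173154 (iv F171702)
theorem F177978 : act 2 n38374 = n37015 := d19_1 D38374 (iv D37015) (iv F171703)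
theorem F177979 : act 4 n38374 = n38374 := d30_1 D38374 (iv D38374) F171704 F164487 (iv F171704)
theorem F177980 : act 7 n38374 = n37009 := d36_2 (iv F171705) D38374 (iv D37009)
def n38375 : Q := act 9 n37008
theorem D38375 : act 9 n37008 = n38375 := rfl
theorem F177981 : act 0 n38375 = n37462 := d8_1 D38375 F173613 (iv F171701)
theorem F177982 : act 1 n38375 = n37366 := d16_1 D38375 (iv D37366) (iv F171702)
theorem F177983 : act 2 n38375 = n37016 := d23_1 D38375 (iv D37016) (iv F171703)
theorem F177984 : act 3 n38375 = n37460 := d29_1 D38375 F177963 F177960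
theorem F177985 : act 4 n38375 = n37012 := d34_1 D38375 (iv D37012) (iv F171704)
theorem F177986 : act 7 n38375 = n37010 := d43_1 D38375 (iv D37010) (iv F171705)
theorem F177987 : act 8 n38375 = n37037 := d44_1 D38375 (iv D37037) (iv D35448) (iv F164470) D37008
def n38376 : Q := act 5 n37011
theorem D38376 : act 5 n37011 = n38376 := rfl
theorem F177988 : act 0 n38376 = n37699 := d4_1 D38376 (iv D37699) (iv F171718)
theorem F177989 : act 1 n38376 = n37384 := d12_1 D38376 F173284 (iv F171719)
theorem F177990 : act 2 n38376 = n37019 := d19_1 D38376 (iv D37019) (iv F171720)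
theorem F177991 : act 3 n38376 = n37127 := d25_1 D38376 (iv D37127) (iv F171721)
theorem F177992 : act 6 n38376 = n38376 := d35_2 (iv F171722) D38376 (iv D38376) F171722 F164487
theorem F177993 : act 7 n38376 = n37077 := d36_2 (iv F171723) D38376 (iv D37077)
theorem F177994 : act 8 n38376 = n37333 := d37_2 D37011 D38376 (iv D37333) (iv D35819) (iv F164480)
def n38377 : Q := act 9 n37011
theorem D38377 : act 9 n37011 = n38377 := rfl
theorem F177995 : act 0 n38377 = n37700 := d8_1 D38377 (iv D37700) (iv F171718)
theorem F177996 : act 1 n38377 = n37386 := d16_1 D38377 (iv D37386) (iv F171719)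
theorem F177997 : act 2 n38377 = n37020 := d23_1 D38377 (iv D37020) (iv F171720)
theorem F177998 : act 3 n38377 = n37128 := d29_1 D38377 (iv D37128) (iv F171721)
theorem F177999 : act 6 n38377 = n37012 := d41_1 D38377 (iv D37012) (iv F171722)
theorem F178000 : act 7 n38377 = n37078 := d43_1 D38377 (iv D37078) (iv F171723)
theorem F178001 : act 8 n38377 = n37038 := d44_1 D38377 (iv D37038) (iv D35450) (iv F164482) D37011
def n38378 : Q := act 8 n37013
theorem D38378 : act 8 n37013 = n38378 := rfl
theorem F178002 : act 0 n38378 = n37701 := d7_1 D38378 (iv D37701) (iv F171731)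
theorem F178003 : act 4 n38378 = n37334 := d33_1 D38378 (iv D37334) (iv F171732)
theorem F178004 : act 7 n38378 = n37079 := d42_1 D38378 (iv D37079) (iv F171733)
def n38379 : Q := act 5 n37014
theorem D38379 : act 5 n37014 = n38379 := rfl
theorem F178005 : act 0 n38379 = n37702 := d4_1 D38379 (iv D37702) (iv F171735)
theorem F178006 : act 7 n38379 = n37080 := d36_2 (iv F171738) D38379 (iv D37080)
def n38380 : Q := act 9 n37014
theorem D38380 : act 9 n37014 = n38380 := rfl
theorem F178007 : act 0 n38380 = n37703 := d8_1 D38380 (iv D37703) (iv F171735)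
theorem F178008 : act 4 n38380 = n37020 := d34_1 D38380 (iv D37020) (iv F171736)
theorem F178009 : act 6 n38380 = n37016 := d41_1 D38380 (iv D37016) (iv F171737)
theorem F178010 : act 7 n38380 = n37081 := d43_1 D38380 (iv D37081) (iv F171738)
theorem F178011 : act 8 n38380 = n37041 := d44_1 D38380 (iv D37041) (iv D35453) (iv F164499) D37014
def n38381 : Q := act 6 n37015
theorem D38381 : act 6 n37015 = n38381 := rfl
theorem F178012 : act 0 n38381 = n37704 := d5_1 D38381 (iv D37704) (iv F171739)
theorem F178013 : act 4 n38381 = n38381 := d31_1 D38381 (iv D38381) F171740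
def n38382 : Q := act 9 n37015
theorem D38382 : act 9 n37015 = n38382 := rfl
theorem F178014 : act 0 n38382 = n37705 := d8_1 D38382 (iv D37705) (iv F171739)
theorem F178015 : act 4 n38382 = n38382 := d34_1 D38382 (iv D38382) F171740
theorem F178016 : act 5 n38382 = n37016 := d38_1 D38382 (iv D37016) D37015
theorem F178017 : act 7 n38382 = n37018 := d43_1 D38382 (iv D37018) (iv F171741)
def n38383 : Q := act 7 n37017
theorem D38383 : act 7 n37017 = n38383 := rfl
theorem F178018 : act 0 n38383 = n37706 := d6_1 D38383 (iv D37706) (iv F171746)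
theorem F178019 : act 2 n38383 = n37283 := d21_1 D38383 F172975 (iv F171747)
theorem F178020 : act 4 n38383 = n38383 := d32_1 D38383 (iv D38383) F171748
theorem F178021 : act 5 n38383 = n37084 := d36_1 D38383 (iv D37084) (iv F171749)
def n38384 : Q := act 4 n37019
theorem D38384 : act 4 n37019 = n38384 := rfl
theorem F178022 : act 0 n38384 = n37709 := d3_1 D38384 (iv D37709) (iv F171753)
theorem F178023 : act 6 n38384 = n38384 := d31_2 F171755 D38384 (iv D38384)
theorem F178024 : act 7 n38384 = n37086 := d32_2 (iv F171756) D38384 (iv D37086)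
theorem F178025 : act 8 n38384 = n37339 := d33_2 (iv F171757) D38384 (iv D37339)
def n38385 : Q := act 9 n37019
theorem D38385 : act 9 n37019 = n38385 := rfl
theorem F178026 : act 0 n38385 = n37710 := d8_1 D38385 (iv D37710) (iv F171753)
theorem F178027 : act 3 n38385 = n37022 := d29_1 D38385 (iv D37022) (iv F171754)
theorem F178028 : act 5 n38385 = n37020 := d38_1 D38385 (iv D37020) D37019
theorem F178029 : act 6 n38385 = n38385 := d41_1 D38385 (iv D38385) F171755
theorem F178030 : act 7 n38385 = n37087 := d43_1 D38385 (iv D37087) (iv F171756)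
def n38386 : Q := act 3 n37021
theorem D38386 : act 3 n37021 = n38386 := rfl
theorem F178031 : act 0 n38386 = n37711 := d2_1 D38386 (iv D37711) (iv F171763)
theorem F178032 : act 5 n38386 = n37165 := d25_2 (iv F171765) D38386 F172418
theorem F178033 : act 6 n38386 = n38386 := d26_2 F171766 D38386 (iv D38386)
theorem F178034 : act 7 n38386 = n37088 := d27_2 (iv F171767) D38386 (iv D37088)
theorem F178035 : act 8 n38386 = n37166 := d28_2 (iv F171768) D38386 F172421
def n38387 : Q := act 7 n37024
theorem D38387 : act 7 n37024 = n38387 := rfl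
theorem F178036 : act 2 n38387 = n37025 := d21_1 D38387 (iv D37025) D37024
theorem F178037 : act 4 n38387 = n37129 := d32_1 D38387 (iv D37129) (iv F171779)
theorem F178038 : act 9 n38387 = n37585 := d43_2 (iv F171781) D38387 (iv D37585)
def n38388 : Q := act 6 n37025
theorem D38388 : act 6 n37025 = n38388 := rfl
theorem F178039 : act 1 n38388 = n37032 := d13_1 D38388 (iv D37032) (iv F171782)
theorem F178040 : act 3 n38388 = n37027 := d26_1 D38388 (iv D37027) (iv F171783)
theorem F178041 : act 4 n38388 = n37131 := d31_1 D38388 (iv D37131) (iv F171784)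
theorem F178042 : act 7 n38388 = n37091 := d39_2 D37025 D38388 (iv D37091) (iv D35506) (iv F164541)
theorem F178043 : act 9 n38388 = n37593 := d41_2 (iv F171785) D38388 F174050
def n38389 : Q := act 8 n37025
theorem D38389 : act 8 n37025 = n38389 := rfl
theorem F178044 : act 0 n38389 = n37247 := d7_1 D38389 F176836 F176831
theorem F178045 : act 1 n38389 = n37033 := d15_1 D38389 (iv D37033) (iv F171782)
theorem F178046 : act 3 n38389 = n37028 := d28_1 D38389 (iv D37028) (iv F171783)
theorem F178047 : act 4 n38389 = n37132 := d33_1 D38389 (iv D37132) (iv F171784)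
theorem F178048 : act 7 n38389 = n37026 := d42_1 D38389 (iv D37026) D37025
theorem F178049 : act 5 n37567 = n38389 := d36_3 F178048 (iv F171791) D37567
def n38390 : Q := act 5 n37027
theorem D38390 : act 5 n37027 = n38390 := rfl
theorem F178050 : act 1 n38390 = n37035 := d12_1 D38390 (iv D37035) (iv F171792)
theorem F178051 : act 7 n38390 = n37095 := d36_2 (iv F171794) D38390 (iv D37095)
theorem F178052 : act 9 n38390 = n37766 := d38_2 (iv F171795) D38390 F174519
def n38391 : Q := act 8 n37027
theorem D38391 : act 8 n37027 = n38391 := rfl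
theorem F178053 : act 0 n38391 = n37248 := d7_1 D38391 (iv F177601) F177597
theorem F178054 : act 1 n38391 = n37036 := d15_1 D38391 (iv D37036) (iv F171792)
theorem F178055 : act 4 n38391 = n37030 := d33_1 D38391 (iv D37030) (iv F171793)
theorem F178056 : act 6 n38391 = n37028 := d40_1 D38391 (iv D37028) D37027
theorem F178057 : act 7 n38391 = n37096 := d42_1 D38391 (iv D37096) (iv F171794)
def n38392 : Q := act 9 n37028
theorem D38392 : act 9 n37028 = n38392 := rfl
theorem F178058 : act 0 n38392 = n37049 := d8_1 D38392 F171891 (iv F171796)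
theorem F178059 : act 1 n38392 = n37037 := d16_1 D38392 (iv D37037) (iv F171797)
theorem F178060 : act 4 n38392 = n37031 := d34_1 D38392 (iv D37031) (iv F171798)
theorem F178061 : act 5 n38392 = n37545 := d38_1 D38392 F173912 F171800
theorem F178062 : act 7 n38392 = n37029 := d43_1 D38392 (iv D37029) (iv F171799)
theorem F178063 : act 8 n38392 = n37366 := d44_1 D38392 (iv D37366) F166344 (iv F164545) D37028
def n38393 : Q := act 9 n37030
theorem D38393 : act 9 n37030 = n38393 := rfl
theorem F178064 : act 0 n38393 = n37050 := d8_1 D38393 F171894 (iv F171807)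
theorem F178065 : act 1 n38393 = n37038 := d16_1 D38393 (iv D37038) (iv F171808)
theorem F178066 : act 3 n38393 = n37137 := d29_1 D38393 (iv D37137) (iv F171809)
theorem F178067 : act 5 n38393 = n37243 := d38_1 D38393 (iv D37243) (iv F171810)
theorem F178068 : act 6 n38393 = n37031 := d41_1 D38393 (iv D37031) (iv F171811)
theorem F178069 : act 7 n38393 = n37100 := d43_1 D38393 (iv D37100) (iv F171812)
theorem F178070 : act 8 n38393 = n37386 := d44_1 D38393 (iv D37386) F166404 (iv F164554) D37030
def n38394 : Q := act 5 n37032
theorem D38394 : act 5 n37032 = n38394 := rfl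
theorem F178071 : act 0 n38394 = n37714 := d4_1 D38394 (iv D37714) (iv F171819)
theorem F178072 : act 3 n38394 = n37035 := d25_1 D38394 (iv D37035) (iv F171820)
theorem F178073 : act 7 n38394 = n37101 := d36_2 (iv F171822) D38394 (iv D37101)
def n38395 : Q := act 8 n37032
theorem D38395 : act 8 n37032 = n38395 := rfl
theorem F178074 : act 0 n38395 = n37715 := d7_1 D38395 (iv D37715) (iv F171819)
theorem F178075 : act 3 n38395 = n37036 := d28_1 D38395 (iv D37036) (iv F171820)
theorem F178076 : act 4 n38395 = n37139 := d33_1 D38395 (iv D37139) (iv F171821)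
theorem F178077 : act 6 n38395 = n37033 := d40_1 D38395 (iv D37033) D37032
theorem F178078 : act 7 n38395 = n37102 := d42_1 D38395 (iv D37102) (iv F171822)
def n38396 : Q := act 9 n37033
theorem D38396 : act 9 n37033 = n38396 := rfl
theorem F178079 : act 0 n38396 = n37464 := d8_1 D38396 F173622 (iv F171823)
theorem F178080 : act 2 n38396 = n37569 := d23_1 D38396 (iv F176226) F176222
theorem F178081 : act 3 n38396 = n37037 := d29_1 D38396 (iv D37037) (iv F171824)
theorem F178082 : act 4 n38396 = n37140 := d34_1 D38396 (iv D37140) (iv F171825)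
theorem F178083 : act 7 n38396 = n37034 := d43_1 D38396 (iv D37034) (iv F171826)
theorem F178084 : act 8 n38396 = n37460 := d44_1 D38396 F177963 (iv D38371) F171687 D37033
def n38397 : Q := act 8 n37035
theorem D38397 : act 8 n37035 = n38397 := rfl
theorem F178085 : act 0 n38397 = n37716 := d7_1 D38397 (iv D37716) (iv F171833)
theorem F178086 : act 2 n38397 = n37039 := d22_1 D38397 (iv D37039) (iv F171834)
theorem F178087 : act 7 n38397 = n37106 := d42_1 D38397 (iv D37106) (iv F171835)
def n38398 : Q := act 5 n37036
theorem D38398 : act 5 n37036 = n38398 := rfl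
theorem F178088 : act 0 n38398 = n37717 := d4_1 D38398 (iv D37717) (iv F171836)
theorem F178089 : act 2 n38398 = n37040 := d19_1 D38398 (iv D37040) (iv F171837)
theorem F178090 : act 4 n38398 = n37252 := d30_1 D38398 (iv D37252) F165912 (iv F164588) (iv F171838)
theorem F178091 : act 7 n38398 = n37107 := d36_2 (iv F171840) D38398 (iv D37107)
def n38399 : Q := act 9 n37036
theorem D38399 : act 9 n37036 = n38399 := rfl
theorem F178092 : act 0 n38399 = n37718 := d8_1 D38399 (iv D37718) (iv F171836)
theorem F178093 : act 2 n38399 = n37041 := d23_1 D38399 (iv D37041) (iv F171837)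
theorem F178094 : act 4 n38399 = n37038 := d34_1 D38399 (iv D37038) (iv F171838)
theorem F178095 : act 6 n38399 = n37037 := d41_1 D38399 (iv D37037) (iv F171839)
theorem F178096 : act 7 n38399 = n37108 := d43_1 D38399 (iv D37108) (iv F171840)
def n38400 : Q := act 5 n37039
theorem D38400 : act 5 n37039 = n38400 := rfl
theorem F178097 : act 0 n38400 = n37719 := d4_1 D38400 (iv D37719) (iv F171851)
theorem F178098 : act 7 n38400 = n37112 := d36_2 (iv F171852) D38400 (iv D37112)
theorem F178099 : act 8 n38400 = n37040 := d37_2 D37039 D38400 (iv D37040) (iv D35453) D35452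
def n38401 : Q := act 9 n37039
theorem D38401 : act 9 n37039 = n38401 := rfl
theorem F178100 : act 0 n38401 = n37720 := d8_1 D38401 (iv D37720) (iv F171851)
theorem F178101 : act 7 n38401 = n37113 := d43_1 D38401 (iv D37113) (iv F171852)
def n38402 : Q := act 4 n37040
theorem D38402 : act 4 n37040 = n38402 := rfl
theorem F178102 : act 0 n38402 = n37713 := d3_1 D38402 F174416 (iv F171853)
theorem F178103 : act 2 n38402 = n37252 := d18_1 D38402 (iv F178090) F178089
theorem F178104 : act 5 n38402 = n37046 := d30_2 D37040 D38402 (iv D37046) (iv D35458) (iv F164599)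
theorem F178105 : act 7 n38402 = n37114 := d32_2 (iv F171854) D38402 (iv D37114)
def n38403 : Q := act 6 n37040
theorem D38403 : act 6 n37040 = n38403 := rfl
theorem F178106 : act 0 n38403 = n37721 := d5_1 D38403 (iv D37721) (iv F171853)
theorem F178107 : act 5 n38403 = n37042 := d35_1 D38403 (iv D37042) (iv D35454) (iv F164600) D37040
def n38404 : Q := act 9 n37040
theorem D38404 : act 9 n37040 = n38404 := rfl
theorem F178108 : act 0 n38404 = n37722 := d8_1 D38404 (iv D37722) (iv F171853)
theorem F178109 : act 5 n38404 = n37041 := d38_1 D38404 (iv D37041) D37040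
theorem F178110 : act 7 n38404 = n37116 := d43_1 D38404 (iv D37116) (iv F171854)
def n38405 : Q := act 7 n37042
theorem D38405 : act 7 n37042 = n38405 := rfl
theorem F178111 : act 0 n38405 = n37723 := d6_1 D38405 (iv D37723) (iv F171859)
theorem F178112 : act 4 n38405 = n37228 := d32_1 D38405 (iv D37228) (iv F171860)
theorem F178113 : act 6 n38405 = n37044 := d39_1 D38405 (iv D37044) (iv D35456) (iv F164604) D37042
def n38406 : Q := act 9 n37042
theorem D38406 : act 9 n37042 = n38406 := rfl
theorem F178114 : act 0 n38406 = n37724 := d8_1 D38406 (iv D37724) (iv F171859)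
theorem F178115 : act 4 n38406 = n37229 := d34_1 D38406 (iv D37229) (iv F171860)
theorem F178116 : act 6 n38406 = n37043 := d41_1 D38406 (iv D37043) D37042
def n38407 : Q := act 8 n37043
theorem D38407 : act 8 n37043 = n38407 := rfl
theorem F178117 : act 0 n38407 = n37725 := d7_1 D38407 (iv D37725) (iv F171861)
theorem F178118 : act 1 n38407 = n37585 := d15_1 D38407 F177590 F177585
theorem F178119 : act 4 n38407 = n37230 := d33_1 D38407 (iv D37230) (iv F171862)
theorem F178120 : act 7 n38407 = n37045 := d42_1 D38407 (iv D37045) (iv F171864)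
def n38408 : Q := act 3 n37046
theorem D38408 : act 3 n37046 = n38408 := rfl
theorem F178121 : act 0 n38408 = n37712 := d2_1 D38408 F174412 (iv F171872)
theorem F178122 : act 2 n38408 = n37347 := d17_1 D38408 F173180 F166308 (iv F165911) (iv F171873)
theorem F178123 : act 4 n38408 = n37047 := d24_2 D37046 D38408 (iv D37047) (iv D35460) (iv F164616)
theorem F178124 : act 6 n38408 = n37231 := d26_2 (iv F171874) D38408 (iv D37231)
theorem F178125 : act 7 n38408 = n37118 := d27_2 (iv F171875) D38408 (iv D37118)
theorem F178126 : act 8 n38408 = n37249 := d28_2 (iv F171876) D38408 F172848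
def n38409 : Q := act 7 n37048
theorem D38409 : act 7 n37048 = n38409 := rfl
theorem F178127 : act 1 n38409 = n37051 := d14_1 D38409 (iv D37051) (iv F171882)
theorem F178128 : act 2 n38409 = n37441 := d21_1 D38409 F173500 (iv F171883)
theorem F178129 : act 3 n38409 = n37049 := d27_1 D38409 (iv D37049) D37048
theorem F178130 : act 4 n38409 = n37142 := d32_1 D38409 (iv D37142) (iv F171884)
theorem F178131 : act 5 n38409 = n37437 := d36_1 D38409 F173479 (iv F171885)
theorem F178132 : act 8 n38409 = n37422 := d42_2 (iv F171886) D38409 (iv D37422)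
theorem F178133 : act 9 n38409 = n37247 := d43_2 (iv F171887) D38409 (iv D37247)
def n38410 : Q := act 6 n37049
theorem D38410 : act 6 n37049 = n38410 := rfl
theorem F178134 : act 1 n38410 = n37052 := d13_1 D38410 (iv D37052) (iv F171888)
theorem F178135 : act 4 n38410 = n37050 := d31_1 D38410 (iv D37050) (iv F171889)
theorem F178136 : act 9 n38410 = n37248 := d41_2 (iv F171891) D38410 (iv D37248)
def n38411 : Q := act 6 n37051
theorem D38411 : act 6 n37051 = n38411 := rfl
theorem F178137 : act 0 n38411 = n37468 := d5_1 D38411 F173637 (iv F171895)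
theorem F178138 : act 2 n38411 = n37063 := d20_1 D38411 (iv D37063) (iv F171896)
theorem F178139 : act 3 n38411 = n37052 := d26_1 D38411 (iv D37052) (iv F171897)
theorem F178140 : act 4 n38411 = n37144 := d31_1 D38411 (iv D37144) (iv F171898)
theorem F178141 : act 8 n38411 = n37424 := d40_2 (iv F171900) D38411 (iv D37424)
theorem F178142 : act 9 n38411 = n37249 := d41_2 (iv F171901) D38411 (iv D37249)
def n38412 : Q := act 5 n37052
theorem D38412 : act 5 n37052 = n38412 := rfl
theorem F178143 : act 0 n38412 = n37726 := d4_1 D38412 (iv D37726) (iv F171902)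
theorem F178144 : act 2 n38412 = n37055 := d19_1 D38412 (iv D37055) (iv F171903)
theorem F178145 : act 6 n38412 = n37550 := d35_2 D37052 D38412 (iv D37550) (iv D36053) (iv F164652)
theorem F178146 : act 9 n38412 = n37250 := d38_2 (iv F171905) D38412 (iv D37250)
def n38413 : Q := act 8 n37052
theorem D38413 : act 8 n37052 = n38413 := rfl
theorem F178147 : act 0 n38413 = n37466 := d7_1 D38413 F173632 (iv F171902)
theorem F178148 : act 2 n38413 = n37056 := d22_1 D38413 (iv D37056) (iv F171903)
theorem F178149 : act 3 n38413 = n37424 := d28_1 D38413 (iv F178141) F178139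
theorem F178150 : act 4 n38413 = n37054 := d33_1 D38413 (iv D37054) (iv F171904)
theorem F178151 : act 6 n38413 = n37053 := d40_1 D38413 (iv D37053) D37052
def n38414 : Q := act 5 n37054
theorem D38414 : act 5 n37054 = n38414 := rfl
theorem F178152 : act 0 n38414 = n37727 := d4_1 D38414 (iv D37727) (iv F171911)
theorem F178153 : act 2 n38414 = n37059 := d19_1 D38414 (iv D37059) (iv F171912)
theorem F178154 : act 3 n38414 = n37146 := d25_1 D38414 (iv D37146) (iv F171913)
theorem F178155 : act 6 n38414 = n38414 := d35_2 (iv F171914) D38414 (iv D38414) F171914 F164665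
theorem F178156 : act 7 n38414 = n37369 := d36_2 F174764 D38414 (iv F174762)
theorem F178157 : act 8 n38414 = n37340 := d37_2 D37054 D38414 F173158 (iv F169818) F169816
def n38415 : Q := act 8 n37055
theorem D38415 : act 8 n37055 = n38415 := rfl
theorem F178158 : act 0 n38415 = n37728 := d7_1 D38415 (iv D37728) (iv F171915)
theorem F178159 : act 3 n38415 = n37065 := d28_1 D38415 (iv D37065) (iv F171916)
theorem F178160 : act 6 n38415 = n37555 := d40_1 D38415 (iv D37555) (iv F171917)
def n38416 : Q := act 5 n37056
theorem D38416 : act 5 n37056 = n38416 := rfl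
theorem F178161 : act 0 n38416 = n37658 := d4_1 D38416 (iv D37658) (iv F171919)
theorem F178162 : act 3 n38416 = n37066 := d25_1 D38416 (iv D37066) (iv F171920)
def n38417 : Q := act 9 n37056
theorem D38417 : act 9 n37056 = n38417 := rfl
theorem F178163 : act 0 n38417 = n37650 := d8_1 D38417 F174258 (iv F171919)
theorem F178164 : act 3 n38417 = n37067 := d29_1 D38417 (iv D37067) (iv F171920)
theorem F178165 : act 4 n38417 = n37060 := d34_1 D38417 (iv D37060) (iv F171921)
theorem F178166 : act 6 n38417 = n37058 := d41_1 D38417 (iv D37058) (iv F171922)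
theorem F178167 : act 8 n38417 = n37253 := d44_1 D38417 (iv D37253) (iv D35725) (iv F164670) D37056
def n38418 : Q := act 6 n37057
theorem D38418 : act 6 n37057 = n38418 := rfl
theorem F178168 : act 0 n38418 = n37289 := d5_1 D38418 (iv D37289) (iv F171923)
theorem F178169 : act 3 n38418 = n37068 := d26_1 D38418 (iv D37068) (iv F171924)
theorem F178170 : act 4 n38418 = n38418 := d31_1 D38418 (iv D38418) F171925
theorem F178171 : act 8 n38418 = n37558 := d40_2 (iv F171927) D38418 (iv D37558)
def n38419 : Q := act 4 n37059
theorem D38419 : act 4 n37059 = n38419 := rfl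
theorem F178172 : act 0 n38419 = n37729 := d3_1 D38419 (iv D37729) (iv F171933)
theorem F178173 : act 6 n38419 = n38419 := d31_2 F171935 D38419 (iv D38419)
def n38420 : Q := act 9 n37059
theorem D38420 : act 9 n37059 = n38420 := rfl
theorem F178174 : act 0 n38420 = n37730 := d8_1 D38420 (iv D37730) (iv F171933)
theorem F178175 : act 3 n38420 = n37062 := d29_1 D38420 (iv D37062) (iv F171934)
theorem F178176 : act 5 n38420 = n37060 := d38_1 D38420 (iv D37060) D37059
theorem F178177 : act 6 n38420 = n38420 := d41_1 D38420 (iv D38420) F171935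
def n38421 : Q := act 3 n37061
theorem D38421 : act 3 n37061 = n38421 := rfl
theorem F178178 : act 0 n38421 = n37731 := d2_1 D38421 (iv D37731) (iv F171940)
theorem F178179 : act 2 n38421 = n37403 := d17_1 D38421 F173350 F166505 F165186 (iv F171941)
theorem F178180 : act 5 n38421 = n37070 := d25_2 (iv F171942) D38421 (iv D37070)
theorem F178181 : act 6 n38421 = n38421 := d26_2 F171943 D38421 (iv D38421)
theorem F178182 : act 7 n38421 = n37263 := d27_2 (iv F171944) D38421 F172892
def n38422 : Q := act 5 n37063
theorem D38422 : act 5 n37063 = n38422 := rfl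
theorem F178183 : act 0 n38422 = n37471 := d4_1 D38422 (iv D37471) (iv F171949)
theorem F178184 : act 3 n38422 = n37064 := d25_1 D38422 (iv D37064) (iv F171950)
theorem F178185 : act 6 n38422 = n37734 := d35_2 D37063 D38422 (iv D37734) (iv D36283) (iv F164702)
theorem F178186 : act 9 n38422 = n37346 := d38_2 (iv F171953) D38422 (iv D37346)
def n38423 : Q := act 8 n37064
theorem D38423 : act 8 n37064 = n38423 := rfl
theorem F178187 : act 0 n38423 = n37660 := d7_1 D38423 F174276 (iv F171954)
theorem F178188 : act 2 n38423 = n37065 := d22_1 D38423 (iv D37065) (iv F171955)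
theorem F178189 : act 4 n38423 = n37106 := d33_1 D38423 (iv D37106) (iv F171956)
theorem F178190 : act 5 n38423 = n37641 := d37_1 D38423 (iv D37641) (iv D36186) (iv F164708) D37064
theorem F178191 : act 6 n38423 = n37735 := d40_1 D38423 (iv D37735) (iv F171957)
def n38424 : Q := act 5 n37065
theorem D38424 : act 5 n37065 = n38424 := rfl
theorem F178192 : act 0 n38424 = n37659 := d4_1 D38424 F174273 (iv F171959)
theorem F178193 : act 2 n38424 = n37641 := d19_1 D38424 (iv F178190) F178188
theorem F178194 : act 8 n38424 = n37066 := d37_2 D37065 D38424 (iv D37066) (iv D35480) D35479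
def n38425 : Q := act 9 n37065
theorem D38425 : act 9 n37065 = n38425 := rfl
theorem F178195 : act 0 n38425 = n37732 := d8_1 D38425 (iv D37732) (iv F171959)
theorem F178196 : act 4 n38425 = n37113 := d34_1 D38425 (iv D37113) (iv F171960)
theorem F178197 : act 6 n38425 = n37741 := d41_1 D38425 (iv D37741) (iv F171961)
theorem F178198 : act 8 n38425 = n37360 := d44_1 D38425 (iv D37360) (iv D35844) (iv F164713) D37065
def n38426 : Q := act 4 n37066
theorem D38426 : act 4 n37066 = n38426 := rfl
theorem F178199 : act 0 n38426 = n37646 := d3_1 D38426 F174246 (iv F171962)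
theorem F178200 : act 2 n38426 = n37244 := d18_1 D38426 F172830 (iv F171963)
theorem F178201 : act 5 n38426 = n37069 := d30_2 D37066 D38426 (iv D37069) (iv D35483) (iv F164716)
theorem F178202 : act 7 n38426 = n37250 := d32_2 F177950 D38426 (iv F177948)
def n38427 : Q := act 6 n37066
theorem D38427 : act 6 n37066 = n38427 := rfl
theorem F178203 : act 0 n38427 = n37290 := d5_1 D38427 F172998 (iv F171962)
theorem F178204 : act 2 n38427 = n37269 := d20_1 D38427 F172921 (iv F171963)
theorem F178205 : act 5 n38427 = n37068 := d35_1 D38427 (iv D37068) (iv D35481) (iv F164717) D37066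
def n38428 : Q := act 9 n37066
theorem D38428 : act 9 n37066 = n38428 := rfl
theorem F178206 : act 0 n38428 = n37651 := d8_1 D38428 F174260 (iv F171962)
theorem F178207 : act 2 n38428 = n37640 := d23_1 D38428 F174230 (iv F171963)
theorem F178208 : act 5 n38428 = n37067 := d38_1 D38428 (iv D37067) D37066
def n38429 : Q := act 3 n37069
theorem D38429 : act 3 n37069 = n38429 := rfl
theorem F178209 : act 0 n38429 = n37645 := d2_1 D38429 F174241 (iv F171973)
theorem F178210 : act 2 n38429 = n37328 := d17_1 D38429 F173128 F166251 (iv F165889) (iv F171974)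
theorem F178211 : act 4 n38429 = n37070 := d24_2 D37069 D38429 (iv D37070) (iv D35485) (iv F164730)
theorem F178212 : act 6 n38429 = n37119 := d26_2 (iv F171975) D38429 (iv D37119)
theorem F178213 : act 7 n38429 = n37249 := d27_2 (iv F171976) D38429 F172848
theorem F178214 : act 8 n38429 = n37118 := d28_2 (iv F171977) D38429 (iv D37118)
def n38430 : Q := act 5 n37071
theorem D38430 : act 5 n37071 = n38430 := rfl
theorem F178215 : act 0 n38430 = n37734 := d4_1 D38430 (iv D37734) (iv F171983)
theorem F178216 : act 1 n38430 = n37591 := d12_1 D38430 F174045 (iv F171984)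
theorem F178217 : act 3 n38430 = n37074 := d25_1 D38430 (iv D37074) (iv F171985)
theorem F178218 : act 6 n38430 = n37471 := d35_2 D37071 D38430 (iv D37471) F166845 (iv F164753)
theorem F178219 : act 9 n38430 = n37101 := d38_2 (iv F171987) D38430 (iv D37101)
def n38431 : Q := act 8 n37071
theorem D38431 : act 8 n37071 = n38431 := rfl
theorem F178220 : act 0 n38431 = n37530 := d7_1 D38431 F173865 (iv F171983)
theorem F178221 : act 1 n38431 = n37254 := d15_1 D38431 F172860 (iv F171984)
theorem F178222 : act 3 n38431 = n37075 := d28_1 D38431 (iv D37075) (iv F171985)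
theorem F178223 : act 4 n38431 = n37149 := d33_1 D38431 (iv D37149) (iv F171986)
theorem F178224 : act 6 n38431 = n37072 := d40_1 D38431 (iv D37072) D37071
def n38432 : Q := act 9 n37072
theorem D38432 : act 9 n37072 = n38432 := rfl
theorem F178225 : act 0 n38432 = n37426 := d8_1 D38432 F173419 (iv F171988)
theorem F178226 : act 1 n38432 = n37255 := d16_1 D38432 (iv D37255) (iv F171989)
theorem F178227 : act 2 n38432 = n37495 := d23_1 D38432 F176536 F176531
theorem F178228 : act 3 n38432 = n37076 := d29_1 D38432 (iv D37076) (iv F171990)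
theorem F178229 : act 4 n38432 = n37150 := d34_1 D38432 (iv D37150) (iv F171991)
theorem F178230 : act 5 n38432 = n37242 := d38_1 D38432 (iv D37242) (iv F171992)
theorem F178231 : act 7 n38432 = n37073 := d43_1 D38432 (iv D37073) (iv F171993)
theorem F178232 : act 8 n38432 = n37104 := d44_1 D38432 (iv D37104) (iv D35515) (iv F164754) D37072
def n38433 : Q := act 8 n37074
theorem D38433 : act 8 n37074 = n38433 := rfl
theorem F178233 : act 0 n38433 = n37735 := d7_1 D38433 (iv D37735) (iv F172002)
theorem F178234 : act 1 n38433 = n37764 := d15_1 D38433 F174517 (iv F172003)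
theorem F178235 : act 2 n38433 = n37079 := d22_1 D38433 (iv D37079) (iv F172004)
theorem F178236 : act 4 n38433 = n37350 := d33_1 D38433 (iv D37350) (iv F172005)
theorem F178237 : act 6 n38433 = n37660 := d40_1 D38433 F174276 (iv F172006)
def n38434 : Q := act 5 n37075
theorem D38434 : act 5 n37075 = n38434 := rfl
theorem F178238 : act 0 n38434 = n37736 := d4_1 D38434 (iv D37736) (iv F172008)
theorem F178239 : act 1 n38434 = n37362 := d12_1 D38434 F173223 (iv F172009)
theorem F178240 : act 2 n38434 = n37080 := d19_1 D38434 (iv D37080) (iv F172010)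
theorem F178241 : act 6 n38434 = n37292 := d35_2 (iv F172012) D38434 (iv D37292) F166107 (iv F164769)
def n38435 : Q := act 9 n37075
theorem D38435 : act 9 n37075 = n38435 := rfl
theorem F178242 : act 0 n38435 = n37737 := d8_1 D38435 (iv D37737) (iv F172008)
theorem F178243 : act 1 n38435 = n37365 := d16_1 D38435 (iv D37365) (iv F172009)
theorem F178244 : act 2 n38435 = n37081 := d23_1 D38435 (iv D37081) (iv F172010)
theorem F178245 : act 4 n38435 = n37078 := d34_1 D38435 (iv D37078) (iv F172011)
theorem F178246 : act 6 n38435 = n37076 := d41_1 D38435 (iv D37076) (iv F172012)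
theorem F178247 : act 8 n38435 = n37108 := d44_1 D38435 (iv D37108) (iv D35519) (iv F164764) D37075
def n38436 : Q := act 4 n37077
theorem D38436 : act 4 n37077 = n38436 := rfl
theorem F178248 : act 0 n38436 = n37738 := d3_1 D38436 (iv D37738) (iv F172020)
theorem F178249 : act 1 n38436 = n37382 := d11_1 D38436 F173279 (iv F172021)
theorem F178250 : act 2 n38436 = n37086 := d18_1 D38436 (iv D37086) (iv F172022)
theorem F178251 : act 6 n38436 = n37193 := d31_2 (iv F172024) D38436 (iv D37193)
theorem F178252 : act 8 n38436 = n37357 := d33_2 (iv F172025) D38436 (iv D37357)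
def n38437 : Q := act 9 n37077
theorem D38437 : act 9 n37077 = n38437 := rfl
theorem F178253 : act 0 n38437 = n37739 := d8_1 D38437 (iv D37739) (iv F172020)
theorem F178254 : act 1 n38437 = n37385 := d16_1 D38437 (iv D37385) (iv F172021)
theorem F178255 : act 2 n38437 = n37087 := d23_1 D38437 (iv D37087) (iv F172022)
theorem F178256 : act 3 n38437 = n37154 := d29_1 D38437 (iv D37154) (iv F172023)
theorem F178257 : act 5 n38437 = n37078 := d38_1 D38437 (iv D37078) D37077
theorem F178258 : act 6 n38437 = n37194 := d41_1 D38437 (iv D37194) (iv F172024)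
def n38438 : Q := act 5 n37079
theorem D38438 : act 5 n37079 = n38438 := rfl
theorem F178259 : act 0 n38438 = n37740 := d4_1 D38438 (iv D37740) (iv F172032)
theorem F178260 : act 8 n38438 = n37080 := d37_2 D37079 D38438 (iv D37080) (iv D35495) D35494
def n38439 : Q := act 9 n37079
theorem D38439 : act 9 n37079 = n38439 := rfl
theorem F178261 : act 0 n38439 = n37741 := d8_1 D38439 (iv D37741) (iv F172032)
theorem F178262 : act 4 n38439 = n37360 := d34_1 D38439 (iv D37360) (iv F172033)
theorem F178263 : act 6 n38439 = n37732 := d41_1 D38439 (iv D37732) (iv F172034)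
theorem F178264 : act 8 n38439 = n37113 := d44_1 D38439 (iv D37113) (iv D35525) (iv F164792) D37079
def n38440 : Q := act 4 n37080
theorem D38440 : act 4 n37080 = n38440 := rfl
theorem F178265 : act 0 n38440 = n37742 := d3_1 D38440 (iv D37742) (iv F172035)
theorem F178266 : act 5 n38440 = n37086 := d30_2 D37080 D38440 (iv D37086) (iv D35500) (iv F164794)
def n38441 : Q := act 6 n37080
theorem D38441 : act 6 n37080 = n38441 := rfl
theorem F178267 : act 0 n38441 = n37743 := d5_1 D38441 (iv D37743) (iv F172035)
theorem F178268 : act 2 n38441 = n37292 := d20_1 D38441 (iv F178241) F178240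
theorem F178269 : act 5 n38441 = n37082 := d35_1 D38441 (iv D37082) (iv D35496) (iv F164795) D37080
def n38442 : Q := act 9 n37080
theorem D38442 : act 9 n37080 = n38442 := rfl
theorem F178270 : act 0 n38442 = n37744 := d8_1 D38442 (iv D37744) (iv F172035)
theorem F178271 : act 5 n38442 = n37081 := d38_1 D38442 (iv D37081) D37080
def n38443 : Q := act 7 n37082
theorem D38443 : act 7 n37082 = n38443 := rfl
theorem F178272 : act 0 n38443 = n37745 := d6_1 D38443 (iv D37745) (iv F172040)
theorem F178273 : act 2 n38443 = n37282 := d21_1 D38443 F172972 (iv F172041)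
theorem F178274 : act 4 n38443 = n37198 := d32_1 D38443 (iv D37198) (iv F172042)
theorem F178275 : act 6 n38443 = n37084 := d39_1 D38443 (iv D37084) (iv D35498) (iv F164799) D37082
theorem F178276 : act 8 n38443 = n37280 := d42_2 (iv F172043) D38443 F172966
def n38444 : Q := act 9 n37082
theorem D38444 : act 9 n37082 = n38444 := rfl
theorem F178277 : act 0 n38444 = n37746 := d8_1 D38444 (iv D37746) (iv F172040)
theorem F178278 : act 2 n38444 = n37293 := d23_1 D38444 (iv D37293) (iv F172041)
theorem F178279 : act 4 n38444 = n37199 := d34_1 D38444 (iv D37199) (iv F172042)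
theorem F178280 : act 6 n38444 = n37083 := d41_1 D38444 (iv D37083) D37082
def n38445 : Q := act 9 n37084
theorem D38445 : act 9 n37084 = n38445 := rfl
theorem F178281 : act 0 n38445 = n37747 := d8_1 D38445 (iv D37747) (iv F172049)
theorem F178282 : act 1 n38445 = n37486 := d16_1 D38445 (iv F177751) F177747
theorem F178283 : act 2 n38445 = n37284 := d23_1 D38445 (iv D37284) (iv F172050)
theorem F178284 : act 4 n38445 = n37200 := d34_1 D38445 (iv D37200) (iv F172051)
theorem F178285 : act 7 n38445 = n37085 := d43_1 D38445 (iv D37085) D37084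
theorem F178286 : act 8 n38445 = n37481 := d44_1 D38445 (iv F177199) F177198 F171138 (iv F172052)
def n38446 : Q := act 3 n37086
theorem D38446 : act 3 n37086 = n38446 := rfl
theorem F178287 : act 0 n38446 = n37748 := d2_1 D38446 (iv D37748) (iv F172059)
theorem F178288 : act 4 n38446 = n37088 := d24_2 D37086 D38446 (iv D37088) (iv D35502) (iv F164814)
theorem F178289 : act 6 n38446 = n37201 := d26_2 (iv F172060) D38446 (iv D37201)
theorem F178290 : act 8 n38446 = n37367 := d28_2 (iv F172061) D38446 (iv D37367)
def n38447 : Q := act 9 n37086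
theorem D38447 : act 9 n37086 = n38447 := rfl
theorem F178291 : act 0 n38447 = n37749 := d8_1 D38447 (iv D37749) (iv F172059)
theorem F178292 : act 4 n38447 = n37087 := d34_1 D38447 (iv D37087) D37086
theorem F178293 : act 6 n38447 = n37202 := d41_1 D38447 (iv D37202) (iv F172060)
def n38448 : Q := act 2 n37088
theorem D38448 : act 2 n37088 = n38448 := rfl
theorem F178294 : act 0 n38448 = n37750 := d1_1 D38448 (iv D37750) (iv F172066)
theorem F178295 : act 3 n38448 = n37155 := d17_2 D37088 D38448 (iv D37155) (iv D35597) (iv F164822)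
theorem F178296 : act 6 n38448 = n37184 := d20_2 (iv F172067) D38448 F172522
theorem F178297 : act 8 n38448 = n37370 := d22_2 (iv F172068) D38448 (iv D37370)
theorem F178298 : act 9 n38448 = n37165 := d23_2 F177159 D38448 (iv F177156)
def n38449 : Q := act 6 n37089
theorem D38449 : act 6 n37089 = n38449 := rfl
theorem F178299 : act 2 n38449 = n37091 := d20_1 D38449 (iv D37091) (iv F172069)
theorem F178300 : act 4 n38449 = n37156 := d31_1 D38449 (iv D37156) (iv F172070)
theorem F178301 : act 9 n38449 = n37584 := d41_2 (iv F172072) D38449 (iv D37584)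
def n38450 : Q := act 8 n37089
theorem D38450 : act 8 n37089 = n38450 := rfl
theorem F178302 : act 2 n38450 = n37092 := d22_1 D38450 (iv D37092) (iv F172069)
theorem F178303 : act 4 n38450 = n37157 := d33_1 D38450 (iv D37157) (iv F172070)
theorem F178304 : act 7 n38450 = n37090 := d42_1 D38450 (iv D37090) D37089
def n38451 : Q := act 5 n37091
theorem D38451 : act 5 n37091 = n38451 := rfl
theorem F178305 : act 1 n38451 = n37101 := d12_1 D38451 (iv D37101) (iv F172075)
theorem F178306 : act 3 n38451 = n37095 := d25_1 D38451 (iv D37095) (iv F172076)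
theorem F178307 : act 6 n38451 = n37592 := d35_2 D37091 D38451 F174047 F167228 (iv F164839)
theorem F178308 : act 9 n38451 = n37591 := d38_2 (iv F172078) D38451 F174045
def n38452 : Q := act 8 n37091
theorem D38452 : act 8 n37091 = n38452 := rfl
theorem F178309 : act 1 n38452 = n37102 := d15_1 D38452 (iv D37102) (iv F172075)
theorem F178310 : act 3 n38452 = n37096 := d28_1 D38452 (iv D37096) (iv F172076)
theorem F178311 : act 4 n38452 = n37160 := d33_1 D38452 (iv D37160) (iv F172077)
theorem F178312 : act 6 n38452 = n37092 := d40_1 D38452 (iv D37092) D37091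
def n38453 : Q := act 5 n37092
theorem D38453 : act 5 n37092 = n38453 := rfl
theorem F178313 : act 1 n38453 = n37103 := d12_1 D38453 (iv D37103) (iv F172079)
theorem F178314 : act 3 n38453 = n37097 := d25_1 D38453 (iv D37097) (iv F172080)
theorem F178315 : act 4 n38453 = n38453 := d30_1 D38453 (iv D38453) F172081 F165287 (iv F172081)
theorem F178316 : act 7 n38453 = n37093 := d36_2 (iv F172082) D38453 (iv D37093)
theorem F178317 : act 8 n38453 = n37559 := d37_2 D37092 D38453 F173956 F167146 (iv F164839)
def n38454 : Q := act 9 n37092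
theorem D38454 : act 9 n37092 = n38454 := rfl
theorem F178318 : act 1 n38454 = n37104 := d16_1 D38454 (iv D37104) (iv F172079)
theorem F178319 : act 3 n38454 = n37098 := d29_1 D38454 (iv D37098) (iv F172080)
theorem F178320 : act 4 n38454 = n37161 := d34_1 D38454 (iv D37161) (iv F172081)
theorem F178321 : act 7 n38454 = n37094 := d43_1 D38454 (iv D37094) (iv F172082)
theorem F178322 : act 8 n38454 = n37255 := d44_1 D38454 (iv D37255) F165917 (iv F164840) D37092
def n38455 : Q := act 8 n37095
theorem D38455 : act 8 n37095 = n38455 := rfl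
theorem F178323 : act 1 n38455 = n37106 := d15_1 D38455 (iv D37106) (iv F172091)
theorem F178324 : act 6 n38455 = n37767 := d40_1 D38455 (iv D37767) (iv F172092)
def n38456 : Q := act 5 n37096
theorem D38456 : act 5 n37096 = n38456 := rfl
theorem F178325 : act 1 n38456 = n37107 := d12_1 D38456 (iv D37107) (iv F172094)
def n38457 : Q := act 9 n37096
theorem D38457 : act 9 n37096 = n38457 := rfl
theorem F178326 : act 1 n38457 = n37108 := d16_1 D38457 (iv D37108) (iv F172094)
theorem F178327 : act 4 n38457 = n37100 := d34_1 D38457 (iv D37100) (iv F172095)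
theorem F178328 : act 6 n38457 = n37098 := d41_1 D38457 (iv D37098) (iv F172096)
theorem F178329 : act 8 n38457 = n37365 := d44_1 D38457 (iv D37365) F166339 (iv F164846) D37096
def n38458 : Q := act 6 n37097
theorem D38458 : act 6 n37097 = n38458 := rfl
theorem F178330 : act 1 n38458 = n37109 := d13_1 D38458 (iv D37109) (iv F172097)
theorem F178331 : act 4 n38458 = n37120 := d31_1 D38458 (iv D37120) (iv F172098)
theorem F178332 : act 8 n38458 = n37746 := d40_2 (iv F172100) D38458 F174483
def n38459 : Q := act 7 n37099
theorem D38459 : act 7 n37099 = n38459 := rfl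
theorem F178333 : act 0 n38459 = n37481 := d6_1 D38459 (iv D37481) (iv F172105)
theorem F178334 : act 1 n38459 = n37110 := d14_1 D38459 (iv D37110) (iv F172106)
theorem F178335 : act 2 n38459 = n37242 := d21_1 D38459 F172824 (iv F172107)
theorem F178336 : act 4 n38459 = n37121 := d32_1 D38459 (iv D37121) (iv F172108)
theorem F178337 : act 5 n38459 = n37495 := d36_1 D38459 (iv D37495) (iv F172109)
theorem F178338 : act 8 n38459 = n37747 := d42_2 (iv F172110) D38459 F174485
theorem F178339 : act 9 n38459 = n37238 := d43_2 (iv F172111) D38459 F172810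
def n38460 : Q := act 4 n37101
theorem D38460 : act 4 n37101 = n38460 := rfl
theorem F178340 : act 0 n38460 = n37753 := d3_1 D38460 (iv D37753) (iv F172116)
theorem F178341 : act 5 n38460 = n37164 := d30_2 D37101 D38460 (iv D37164) (iv D35607) (iv F164866)
def n38461 : Q := act 8 n37101
theorem D38461 : act 8 n37101 = n38461 := rfl
theorem F178342 : act 0 n38461 = n37754 := d7_1 D38461 (iv D37754) (iv F172116)
theorem F178343 : act 3 n38461 = n37106 := d28_1 D38461 (iv D37106) (iv F172117)
def n38462 : Q := act 5 n37102
theorem D38462 : act 5 n37102 = n38462 := rfl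
theorem F178344 : act 0 n38462 = n37755 := d4_1 D38462 (iv D37755) (iv F172118)
theorem F178345 : act 3 n38462 = n37107 := d25_1 D38462 (iv D37107) (iv F172119)
def n38463 : Q := act 9 n37102
theorem D38463 : act 9 n37102 = n38463 := rfl
theorem F178346 : act 0 n38463 = n37756 := d8_1 D38463 (iv D37756) (iv F172118)
theorem F178347 : act 3 n38463 = n37108 := d29_1 D38463 (iv D37108) (iv F172119)
theorem F178348 : act 4 n38463 = n37167 := d34_1 D38463 (iv D37167) (iv F172120)
theorem F178349 : act 6 n38463 = n37104 := d41_1 D38463 (iv D37104) (iv F172121)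
def n38464 : Q := act 6 n37103
theorem D38464 : act 6 n37103 = n38464 := rfl
theorem F178350 : act 0 n38464 = n37757 := d5_1 D38464 (iv D37757) (iv F172122)
theorem F178351 : act 3 n38464 = n37109 := d26_1 D38464 (iv D37109) (iv F172123)
theorem F178352 : act 4 n38464 = n38464 := d31_1 D38464 (iv D38464) F172124
def n38465 : Q := act 7 n37105
theorem D38465 : act 7 n37105 = n38465 := rfl
theorem F178353 : act 0 n38465 = n37758 := d6_1 D38465 (iv D37758) (iv F172130)
theorem F178354 : act 3 n38465 = n37110 := d27_1 D38465 (iv D37110) (iv F172131)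
theorem F178355 : act 4 n38465 = n38465 := d32_1 D38465 (iv D38465) F172132
def n38466 : Q := act 5 n37106
theorem D38466 : act 5 n37106 = n38466 := rfl
theorem F178356 : act 0 n38466 = n37759 := d4_1 D38466 (iv D37759) (iv F172133)
theorem F178357 : act 2 n38466 = n37112 := d19_1 D38466 (iv D37112) (iv F172134)
theorem F178358 : act 8 n38466 = n37107 := d37_2 D37106 D38466 (iv D37107) (iv D35519) D35518
def n38467 : Q := act 9 n37106
theorem D38467 : act 9 n37106 = n38467 := rfl
theorem F178359 : act 0 n38467 = n37760 := d8_1 D38467 (iv D37760) (iv F172133)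
theorem F178360 : act 2 n38467 = n37113 := d23_1 D38467 (iv D37113) (iv F172134)
def n38468 : Q := act 4 n37107
theorem D38468 : act 4 n37107 = n38468 := rfl
theorem F178361 : act 0 n38468 = n37648 := d3_1 D38468 F174251 (iv F172135)
theorem F178362 : act 2 n38468 = n37114 := d18_1 D38468 (iv D37114) (iv F172136)
theorem F178363 : act 5 n38468 = n37111 := d30_2 D37107 D38468 (iv D37111) (iv D35523) (iv F164881)
theorem F178364 : act 7 n38468 = n37252 := d32_2 F178091 D38468 (iv F178090)
theorem F178365 : act 3 n37335 = n38468 := d27_3 F178364 F172854 (iv F173148)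
def n38469 : Q := act 6 n37107
theorem D38469 : act 6 n37107 = n38469 := rfl
theorem F178366 : act 0 n38469 = n37761 := d5_1 D38469 (iv D37761) (iv F172135)
theorem F178367 : act 2 n38469 = n37115 := d20_1 D38469 (iv D37115) (iv F172136)
theorem F178368 : act 5 n38469 = n37109 := d35_1 D38469 (iv D37109) (iv D35520) (iv F164882) D37107
def n38470 : Q := act 9 n37107
theorem D38470 : act 9 n37107 = n38470 := rfl
theorem F178369 : act 0 n38470 = n37762 := d8_1 D38470 (iv D37762) (iv F172135)
theorem F178370 : act 2 n38470 = n37116 := d23_1 D38470 (iv D37116) (iv F172136)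
theorem F178371 : act 5 n38470 = n37108 := d38_1 D38470 (iv D37108) D37107
def n38471 : Q := act 7 n37109
theorem D38471 : act 7 n37109 = n38471 := rfl
theorem F178372 : act 0 n38471 = n37763 := d6_1 D38471 (iv D37763) (iv F172141)
theorem F178373 : act 2 n38471 = n37117 := d21_1 D38471 (iv D37117) (iv F172142)
theorem F178374 : act 4 n38471 = n37122 := d32_1 D38471 (iv D37122) (iv F172143)
theorem F178375 : act 6 n38471 = n37110 := d39_1 D38471 (iv D37110) (iv D35522) (iv F164886) D37109
def n38472 : Q := act 4 n37112
theorem D38472 : act 4 n37112 = n38472 := rfl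
theorem F178376 : act 0 n38472 = n37752 := d3_1 D38472 F174496 (iv F172153)
theorem F178377 : act 8 n38472 = n37114 := d33_2 (iv F172154) D38472 (iv D37114)
def n38473 : Q := act 6 n37112
theorem D38473 : act 6 n37112 = n38473 := rfl
theorem F178378 : act 0 n38473 = n37764 := d5_1 D38473 (iv D37764) (iv F172153)
theorem F178379 : act 8 n38473 = n37115 := d40_2 (iv F172154) D38473 (iv D37115)
def n38474 : Q := act 9 n37112
theorem D38474 : act 9 n37112 = n38474 := rfl
theorem F178380 : act 0 n38474 = n37765 := d8_1 D38474 (iv D37765) (iv F172153)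
theorem F178381 : act 5 n38474 = n37113 := d38_1 D38474 (iv D37113) D37112
def n38475 : Q := act 3 n37114
theorem D38475 : act 3 n37114 = n38475 := rfl
theorem F178382 : act 0 n38475 = n37751 := d2_1 D38475 F174494 (iv F172156)
theorem F178383 : act 5 n38475 = n37118 := d25_2 (iv F172157) D38475 (iv D37118)
def n38476 : Q := act 7 n37115
theorem D38476 : act 7 n37115 = n38476 := rfl
theorem F178384 : act 0 n38476 = n37766 := d6_1 D38476 (iv D37766) (iv F172158)
theorem F178385 : act 5 n38476 = n37117 := d36_1 D38476 (iv D37117) (iv F172159)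
def n38477 : Q := act 8 n37116
theorem D38477 : act 8 n37116 = n38477 := rfl
theorem F178386 : act 0 n38477 = n37767 := d7_1 D38477 (iv D37767) (iv F172160)
def n38478 : Q := act 7 n37120
theorem D38478 : act 7 n37120 = n38478 := rfl
theorem F178387 : act 0 n38478 = n37482 := d6_1 D38478 (iv F177355) F177350
theorem F178388 : act 1 n38478 = n37122 := d14_1 D38478 (iv D37122) (iv F172173)
theorem F178389 : act 2 n38478 = n37243 := d21_1 D38478 (iv F177341) F177337
theorem F178390 : act 3 n38478 = n38478 := d27_1 D38478 (iv D38478) F172174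
theorem F178391 : act 6 n38478 = n37121 := d39_1 D38478 (iv D37121) (iv D35537) (iv F164940) D37120
theorem F178392 : act 8 n38478 = n37788 := d42_2 (iv F172175) D38478 F174573
theorem F178393 : act 9 n38478 = n37239 := d43_2 F177297 D38478 (iv F177296)
def n38479 : Q := act 5 n37123
theorem D38479 : act 5 n37123 = n38479 := rfl
theorem F178394 : act 0 n38479 = n37768 := d4_1 D38479 (iv D37768) (iv F172187)
theorem F178395 : act 1 n38479 = n37616 := d12_1 D38479 F174119 (iv F172188)
theorem F178396 : act 3 n38479 = n37125 := d25_1 D38479 (iv D37125) (iv F172189)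
theorem F178397 : act 6 n38479 = n38479 := d35_2 D37123 D38479 (iv D38479) (iv D37123) F164984
theorem F178398 : act 7 n38479 = n37148 := d36_2 (iv F172190) D38479 (iv D37148)
theorem F178399 : act 9 n38479 = n37138 := d38_2 (iv F172191) D38479 (iv D37138)
def n38480 : Q := act 8 n37123
theorem D38480 : act 8 n37123 = n38480 := rfl
theorem F178400 : act 0 n38480 = n37448 := d7_1 D38480 F173540 (iv F172187)
theorem F178401 : act 1 n38480 = n37257 := d15_1 D38480 F172870 (iv F172188)
theorem F178402 : act 2 n38480 = n37546 := d22_1 D38480 (iv F176992) F176989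
theorem F178403 : act 3 n38480 = n37126 := d28_1 D38480 (iv D37126) (iv F172189)
theorem F178404 : act 6 n38480 = n37124 := d40_1 D38480 (iv D37124) D37123
theorem F178405 : act 7 n38480 = n37149 := d42_1 D38480 (iv D37149) (iv F172190)
theorem F178406 : act 5 n37496 = n38480 := d36_3 F178405 (iv F172341) (iv F173723)
theorem F178407 : act 9 n38480 = n37461 := d38_2 (iv F177104) F178406 F177105
def n38481 : Q := act 6 n37129
theorem D38481 : act 6 n37129 = n38481 := rfl
theorem F178408 : act 2 n38481 = n37131 := d20_1 D38481 (iv D37131) (iv F172227)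
theorem F178409 : act 3 n38481 = n38481 := d26_1 D38481 (iv D38481) F172228
theorem F178410 : act 7 n38481 = n37156 := d39_2 D37129 D38481 (iv D37156) (iv D35598) (iv F165058)
theorem F178411 : act 9 n38481 = n37610 := d41_2 (iv F172230) D38481 F174106
def n38482 : Q := act 8 n37129
theorem D38482 : act 8 n37129 = n38482 := rfl
theorem F178412 : act 0 n38482 = n37260 := d7_1 D38482 (iv F176919) F176913
theorem F178413 : act 1 n38482 = n37221 := d15_1 D38482 (iv F177030) F177026
theorem F178414 : act 2 n38482 = n37132 := d22_1 D38482 (iv D37132) (iv F172227)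
theorem F178415 : act 3 n38482 = n38482 := d28_1 D38482 (iv D38482) F172228
theorem F178416 : act 7 n38482 = n37130 := d42_1 D38482 (iv D37130) D37129
theorem F178417 : act 9 n38482 = n37208 := d44_2 (iv F172230) D38482 F172663 D37213 (iv F172694)
theorem F178418 : act 5 n37209 = n38482 := d38_3 F178417 (iv D37208) D37209
def n38483 : Q := act 5 n37131
theorem D38483 : act 5 n37131 = n38483 := rfl
theorem F178419 : act 1 n38483 = n37138 := d12_1 D38483 (iv D37138) (iv F172238)
theorem F178420 : act 3 n38483 = n37134 := d25_1 D38483 (iv D37134) (iv F172239)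
theorem F178421 : act 6 n38483 = n38483 := d35_2 D37131 D38483 (iv D38483) (iv D37131) F165062
theorem F178422 : act 7 n38483 = n37159 := d36_2 (iv F172240) D38483 (iv D37159)
theorem F178423 : act 9 n38483 = n37616 := d38_2 (iv F172241) D38483 F174119
def n38484 : Q := act 8 n37131
theorem D38484 : act 8 n37131 = n38484 := rfl
theorem F178424 : act 0 n38484 = n37261 := d7_1 D38484 F176939 F176934
theorem F178425 : act 1 n38484 = n37139 := d15_1 D38484 (iv D37139) (iv F172238)
theorem F178426 : act 3 n38484 = n37135 := d28_1 D38484 (iv D37135) (iv F172239)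
theorem F178427 : act 6 n38484 = n37132 := d40_1 D38484 (iv D37132) D37131
theorem F178428 : act 7 n38484 = n37160 := d42_1 D38484 (iv D37160) (iv F172240)
theorem F178429 : act 5 n37296 = n38484 := d35_5 F178427 (iv F172246) F165885 (iv F166131) (iv F173012)
def n38485 : Q := act 9 n37132
theorem D38485 : act 9 n37132 = n38485 := rfl
theorem F178430 : act 0 n38485 = n37142 := d8_1 D38485 F172308 (iv F172242)
theorem F178431 : act 1 n38485 = n37140 := d16_1 D38485 (iv D37140) (iv F172243)
theorem F178432 : act 2 n38485 = n37208 := d23_1 D38485 (iv F178417) F178414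
theorem F178433 : act 3 n38485 = n37136 := d29_1 D38485 (iv D37136) (iv F172244)
theorem F178434 : act 5 n38485 = n37169 := d38_1 D38485 F172439 F172246
theorem F178435 : act 7 n38485 = n37133 := d43_1 D38485 (iv D37133) (iv F172245)
theorem F178436 : act 8 n38485 = n37211 := d44_1 D38485 F172685 F165935 (iv F165063) D37132
def n38486 : Q := act 9 n37135
theorem D38486 : act 9 n37135 = n38486 := rfl
theorem F178437 : act 0 n38486 = n37143 := d8_1 D38486 F172313 (iv F172260)
theorem F178438 : act 1 n38486 = n37141 := d16_1 D38486 (iv D37141) (iv F172261)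
theorem F178439 : act 2 n38486 = n38486 := d23_1 D38486 (iv D38486) F172262
theorem F178440 : act 4 n38486 = n37137 := d34_1 D38486 (iv D37137) (iv F172263)
theorem F178441 : act 5 n38486 = n37297 := d38_1 D38486 (iv D37297) F172266
theorem F178442 : act 6 n38486 = n37136 := d41_1 D38486 (iv D37136) (iv F172264)
theorem F178443 : act 7 n38486 = n37163 := d43_1 D38486 (iv D37163) (iv F172265)
theorem F178444 : act 8 n38486 = n37259 := d44_1 D38486 (iv D37259) F165939 (iv F165073) D37135
def n38487 : Q := act 4 n37138
theorem D38487 : act 4 n37138 = n38487 := rfl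
theorem F178445 : act 0 n38487 = n37769 := d3_1 D38487 (iv D37769) (iv F172281)
theorem F178446 : act 6 n38487 = n38487 := d31_2 F172283 D38487 (iv D38487)
theorem F178447 : act 7 n38487 = n37164 := d32_2 (iv F172284) D38487 (iv D37164)
def n38488 : Q := act 9 n37139
theorem D38488 : act 9 n37139 = n38488 := rfl
theorem F178448 : act 0 n38488 = n37465 := d8_1 D38488 F173628 (iv F172285)
theorem F178449 : act 2 n38488 = n37570 := d23_1 D38488 (iv F177060) F177056
theorem F178450 : act 3 n38488 = n37141 := d29_1 D38488 (iv D37141) (iv F172286)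
theorem F178451 : act 5 n38488 = n37371 := d38_1 D38488 (iv D37371) F172289
theorem F178452 : act 6 n38488 = n37140 := d41_1 D38488 (iv D37140) (iv F172287)
theorem F178453 : act 7 n38488 = n37167 := d43_1 D38488 (iv D37167) (iv F172288)
theorem F178454 : act 8 n38488 = n37461 := d44_1 D38488 (iv F178407) (iv D38480) F172191 D37139
def n38489 : Q := act 6 n37142
theorem D38489 : act 6 n37142 = n38489 := rfl
theorem F178455 : act 1 n38489 = n37144 := d13_1 D38489 (iv D37144) (iv F172303)
theorem F178456 : act 2 n38489 = n37475 := d20_1 D38489 (iv D37475) (iv F172304)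
theorem F178457 : act 3 n38489 = n37143 := d26_1 D38489 (iv D37143) (iv F172305)
theorem F178458 : act 8 n38489 = n37423 := d40_2 (iv F172307) D38489 (iv D37423)
theorem F178459 : act 9 n38489 = n37261 := d41_2 (iv F172308) D38489 (iv D37261)
def n38490 : Q := act 5 n37143
theorem D38490 : act 5 n37143 = n38490 := rfl
theorem F178460 : act 0 n38490 = n37297 := d4_1 D38490 (iv F178441) F178437
theorem F178461 : act 1 n38490 = n37145 := d12_1 D38490 (iv D37145) (iv F172309)
theorem F178462 : act 2 n38490 = n38490 := d19_1 D38490 (iv D38490) F172310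
theorem F178463 : act 4 n38490 = n37274 := d30_1 D38490 F172941 (iv F170588) F170589 (iv F172311)
theorem F178464 : act 6 n38490 = n37171 := d35_2 D37143 D38490 (iv D37171) (iv D35619) (iv F165149)
theorem F178465 : act 8 n38490 = n37398 := d37_2 (iv F172312) D38490 F176986 (iv D38191) F170427
theorem F178466 : act 9 n38490 = n37262 := d38_2 (iv F172313) D38490 (iv D37262)
def n38491 : Q := act 5 n37144
theorem D38491 : act 5 n37144 = n38491 := rfl
theorem F178467 : act 0 n38491 = n37469 := d4_1 D38491 (iv D37469) (iv F172314)
theorem F178468 : act 2 n38491 = n37147 := d19_1 D38491 (iv D37147) (iv F172315)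
theorem F178469 : act 3 n38491 = n37145 := d25_1 D38491 (iv D37145) (iv F172316)
theorem F178470 : act 6 n38491 = n37172 := d35_2 D37144 D38491 (iv D37172) (iv D35621) (iv F165158)
theorem F178471 : act 9 n38491 = n37263 := d38_2 (iv F172318) D38491 (iv D37263)
def n38492 : Q := act 4 n37147
theorem D38492 : act 4 n37147 = n38492 := rfl
theorem F178472 : act 0 n38492 = n37472 := d3_1 D38492 (iv D37472) (iv F172328)
theorem F178473 : act 3 n38492 = n37164 := d24_1 D38492 (iv D37164) F165312 (iv F165197) (iv F172329)
theorem F178474 : act 6 n38492 = n37174 := d31_2 (iv F172330) D38492 (iv D37174)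
theorem F178475 : act 9 n38492 = n37409 := d34_2 (iv F172331) D38492 (iv D37409)
def n38493 : Q := act 4 n37148
theorem D38493 : act 4 n37148 = n38493 := rfl
theorem F178476 : act 0 n38493 = n37770 := d3_1 D38493 (iv D37770) (iv F172332)
theorem F178477 : act 1 n38493 = n37615 := d11_1 D38493 F174117 (iv F172333)
theorem F178478 : act 3 n38493 = n37409 := d24_1 D38493 (iv D37409) F166527 (iv F165219) (iv F172334)
theorem F178479 : act 6 n38493 = n37177 := d31_2 (iv F172335) D38493 (iv D37177)
theorem F178480 : act 9 n38493 = n37164 := d34_2 (iv F172336) D38493 (iv D37164)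
def n38494 : Q := act 8 n37148
theorem D38494 : act 8 n37148 = n38494 := rfl
theorem F178481 : act 0 n38494 = n37575 := d7_1 D38494 F174005 (iv F172332)
theorem F178482 : act 1 n38494 = n37614 := d15_1 D38494 F174116 (iv F172333)
theorem F178483 : act 2 n38494 = n37371 := d22_1 D38494 F177098 F177094
theorem F178484 : act 3 n38494 = n37151 := d28_1 D38494 (iv D37151) (iv F172334)
theorem F178485 : act 5 n38494 = n37570 := d37_1 D38494 (iv D37570) F172341 (iv D37149) D37148
theorem F178486 : act 6 n38494 = n37178 := d40_1 D38494 (iv D37178) (iv F172335)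
theorem F178487 : act 9 n38494 = n37370 := d44_2 (iv F172336) D38494 (iv F178297) F178298 (iv D37165)
def n38495 : Q := act 9 n37149
theorem D38495 : act 9 n37149 = n38495 := rfl
theorem F178488 : act 0 n38495 = n37427 := d8_1 D38495 F173426 (iv F172337)
theorem F178489 : act 1 n38495 = n37258 := d16_1 D38495 (iv D37258) (iv F172338)
theorem F178490 : act 2 n38495 = n37496 := d23_1 D38495 F177104 F177100
theorem F178491 : act 3 n38495 = n37152 := d29_1 D38495 (iv D37152) (iv F172339)
theorem F178492 : act 5 n38495 = n37546 := d38_1 D38495 F173915 F172341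
theorem F178493 : act 6 n38495 = n37150 := d41_1 D38495 (iv D37150) (iv F172340)
theorem F178494 : act 7 n38495 = n37461 := d43_1 D38495 (iv F178407) F178405
theorem F178495 : act 8 n38495 = n37167 := d44_1 D38495 (iv D37167) (iv D35608) (iv F165203) D37149
def n38496 : Q := act 3 n37153
theorem D38496 : act 3 n37153 = n38496 := rfl
theorem F178496 : act 0 n38496 = n37632 := d2_1 D38496 F174203 (iv F172364)
theorem F178497 : act 1 n38496 = n37395 := d10_1 D38496 F173320 (iv F172365)
theorem F178498 : act 5 n38496 = n37631 := d25_2 (iv F172367) D38496 F174201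
theorem F178499 : act 6 n38496 = n37203 := d26_2 (iv F172368) D38496 (iv D37203)
theorem F178500 : act 8 n38496 = n37415 := d28_2 (iv F172369) D38496 (iv D37415)
def n38497 : Q := act 5 n37156
theorem D38497 : act 5 n37156 = n38497 := rfl
theorem F178501 : act 2 n38497 = n37159 := d19_1 D38497 (iv D37159) (iv F172379)
theorem F178502 : act 3 n38497 = n38497 := d25_1 D38497 (iv D38497) F172380
theorem F178503 : act 6 n38497 = n37179 := d35_2 D37156 D38497 (iv D37179) (iv D35630) (iv F165277)
theorem F178504 : act 9 n38497 = n37609 := d38_2 (iv F172381) D38497 F174103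
def n38498 : Q := act 8 n37156
theorem D38498 : act 8 n37156 = n38498 := rfl
theorem F178505 : act 2 n38498 = n37160 := d22_1 D38498 (iv D37160) (iv F172379)
theorem F178506 : act 3 n38498 = n38498 := d28_1 D38498 (iv D38498) F172380
theorem F178507 : act 6 n38498 = n37157 := d40_1 D38498 (iv D37157) D37156
def n38499 : Q := act 9 n37157
theorem D38499 : act 9 n37157 = n38499 := rfl
theorem F178508 : act 0 n38499 = n37476 := d8_1 D38499 (iv F176912) F176906
theorem F178509 : act 1 n38499 = n37222 := d16_1 D38499 (iv F177143) F177138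
theorem F178510 : act 2 n38499 = n37161 := d23_1 D38499 (iv D37161) (iv F172382)
theorem F178511 : act 3 n38499 = n38499 := d29_1 D38499 (iv D38499) F172383
theorem F178512 : act 5 n38499 = n38499 := d38_1 D38499 (iv D38499) F172384
theorem F178513 : act 7 n38499 = n37158 := d43_1 D38499 (iv D37158) (iv F172385)
theorem F178514 : act 8 n38499 = n37214 := d44_1 D38499 F172700 F165780 (iv F165278) D37157
def n38500 : Q := act 4 n37159
theorem D38500 : act 4 n37159 = n38500 := rfl
theorem F178515 : act 1 n38500 = n37164 := d11_1 D38500 (iv D37164) (iv F172393)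
theorem F178516 : act 6 n38500 = n37180 := d31_2 (iv F172395) D38500 (iv D37180)
theorem F178517 : act 9 n38500 = n37615 := d34_2 (iv F172396) D38500 F174117
def n38501 : Q := act 5 n37160
theorem D38501 : act 5 n37160 = n38501 := rfl
theorem F178518 : act 1 n38501 = n37166 := d12_1 D38501 (iv D37166) (iv F172397)
theorem F178519 : act 3 n38501 = n37162 := d25_1 D38501 (iv D37162) (iv F172398)
theorem F178520 : act 6 n38501 = n38501 := d35_2 (iv F172399) D38501 (iv D38501) F172399 F165287
theorem F178521 : act 7 n38501 = n37296 := d36_2 F178428 D38501 F178429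
def n38502 : Q := act 9 n37160
theorem D38502 : act 9 n37160 = n38502 := rfl
theorem F178522 : act 1 n38502 = n37167 := d16_1 D38502 (iv D37167) (iv F172397)
theorem F178523 : act 3 n38502 = n37163 := d29_1 D38502 (iv D37163) (iv F172398)
theorem F178524 : act 6 n38502 = n37161 := d41_1 D38502 (iv D37161) (iv F172399)
theorem F178525 : act 8 n38502 = n37258 := d44_1 D38502 (iv D37258) F165930 (iv F165284) D37160
def n38503 : Q := act 9 n37162
theorem D38503 : act 9 n37162 = n38503 := rfl
theorem F178526 : act 1 n38503 = n37168 := d16_1 D38503 (iv D37168) (iv F172405)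
theorem F178527 : act 2 n38503 = n38503 := d23_1 D38503 (iv D38503) F172406
theorem F178528 : act 4 n38503 = n37287 := d34_1 D38503 (iv D37287) (iv F172407)
theorem F178529 : act 5 n38503 = n37163 := d38_1 D38503 (iv D37163) D37162
theorem F178530 : act 6 n38503 = n38503 := d41_1 D38503 (iv D38503) F172408
theorem F178531 : act 7 n38503 = n37297 := d43_1 D38503 (iv D37297) (iv F172409)
def n38504 : Q := act 8 n37164
theorem D38504 : act 8 n37164 = n38504 := rfl
theorem F178532 : act 0 n38504 = n37771 := d7_1 D38504 (iv D37771) (iv F172415)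
theorem F178533 : act 4 n38504 = n37165 := d33_1 D38504 (iv D37165) D37164
theorem F178534 : act 6 n38504 = n37183 := d40_1 D38504 (iv D37183) (iv F172416)
def n38505 : Q := act 4 n37166
theorem D38505 : act 4 n37166 = n38505 := rfl
theorem F178535 : act 0 n38505 = n37772 := d3_1 D38505 (iv D37772) (iv F172420)
theorem F178536 : act 3 n38505 = n37339 := d24_1 D38505 (iv D37339) F166273 (iv F165326) (iv F172421)
theorem F178537 : act 6 n38505 = n38505 := d31_2 F172422 D38505 (iv D38505)
theorem F178538 : act 7 n38505 = n37367 := d32_2 (iv F172423) D38505 F173232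
def n38506 : Q := act 9 n37166
theorem D38506 : act 9 n37166 = n38506 := rfl
theorem F178539 : act 0 n38506 = n37773 := d8_1 D38506 (iv D37773) (iv F172420)
theorem F178540 : act 3 n38506 = n37168 := d29_1 D38506 (iv D37168) (iv F172421)
theorem F178541 : act 5 n38506 = n37167 := d38_1 D38506 (iv D37167) D37166
theorem F178542 : act 6 n38506 = n38506 := d41_1 D38506 (iv D38506) F172422
theorem F178543 : act 7 n38506 = n37371 := d43_1 D38506 (iv D37371) (iv F172423)
def n38507 : Q := act 5 n37170
theorem D38507 : act 5 n37170 = n38507 := rfl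
theorem F178544 : act 0 n38507 = n37301 := d4_1 D38507 F173028 (iv F172441)
theorem F178545 : act 1 n38507 = n37172 := d12_1 D38507 (iv D37172) (iv F172442)
theorem F178546 : act 2 n38507 = n37474 := d19_1 D38507 (iv D37474) (iv F172443)
theorem F178547 : act 3 n38507 = n37171 := d25_1 D38507 (iv D37171) (iv F172444)
theorem F178548 : act 7 n38507 = n38507 := d36_2 F172446 D38507 (iv D38507)
theorem F178549 : act 8 n38507 = n37396 := d37_2 (iv F172447) D38507 F173322 (iv F172632) F172630
theorem F178550 : act 9 n38507 = n37266 := d38_2 (iv F172448) D38507 (iv D37266)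
def n38508 : Q := act 4 n37172
theorem D38508 : act 4 n37172 = n38508 := rfl
theorem F178551 : act 0 n38508 = n37479 := d3_1 D38508 (iv D37479) (iv F172456)
theorem F178552 : act 2 n38508 = n37174 := d18_1 D38508 (iv D37174) (iv F172457)
theorem F178553 : act 5 n38508 = n37637 := d30_2 D37172 D38508 (iv D37637) (iv D36181) (iv F165393)
theorem F178554 : act 7 n38508 = n38508 := d32_2 F172459 D38508 (iv D38508)
theorem F178555 : act 9 n38508 = n37267 := d34_2 (iv F172460) D38508 (iv D37267)
def n38509 : Q := act 8 n37172
theorem D38509 : act 8 n37172 = n38509 := rfl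
theorem F178556 : act 0 n38509 = n37473 := d7_1 D38509 F173652 (iv F172456)
theorem F178557 : act 1 n38509 = n37396 := d15_1 D38509 (iv F178549) F178545
theorem F178558 : act 2 n38509 = n37175 := d22_1 D38509 (iv D37175) (iv F172457)
theorem F178559 : act 3 n38509 = n37173 := d28_1 D38509 (iv D37173) (iv F172458)
theorem F178560 : act 5 n38509 = n37206 := d37_1 D38509 (iv D37206) F165614 (iv F165395) D37172
theorem F178561 : act 7 n38509 = n38509 := d42_1 D38509 (iv D38509) F172459
theorem F178562 : act 9 n38509 = n37203 := d44_2 (iv F172460) D38509 F172624 F172919 (iv D37268)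
def n38510 : Q := act 8 n37174
theorem D38510 : act 8 n37174 = n38510 := rfl
theorem F178563 : act 0 n38510 = n37477 := d7_1 D38510 F173666 (iv F172468)
theorem F178564 : act 1 n38510 = n37223 := d15_1 D38510 (iv F175549) F175544
theorem F178565 : act 3 n38510 = n37183 := d28_1 D38510 (iv D37183) (iv F172469)
theorem F178566 : act 4 n38510 = n37175 := d33_1 D38510 (iv D37175) D37174
theorem F178567 : act 7 n38510 = n38510 := d42_1 D38510 (iv D38510) F172471
def n38511 : Q := act 9 n37175
theorem D38511 : act 9 n37175 = n38511 := rfl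
theorem F178568 : act 0 n38511 = n37478 := d8_1 D38511 (iv D37478) (iv F172473)
theorem F178569 : act 1 n38511 = n37224 := d16_1 D38511 (iv D37224) (iv F172474)
theorem F178570 : act 2 n38511 = n37203 := d23_1 D38511 (iv F178562) F178558
theorem F178571 : act 3 n38511 = n37176 := d29_1 D38511 (iv D37176) (iv F172475)
theorem F178572 : act 5 n38511 = n37210 := d38_1 D38511 (iv D37210) (iv F172476)
theorem F178573 : act 7 n38511 = n38511 := d43_1 D38511 (iv D38511) F172477
theorem F178574 : act 8 n38511 = n37417 := d44_1 D38511 F173390 (iv D35919) (iv F165420) D37175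
def n38512 : Q := act 8 n37177
theorem D38512 : act 8 n37177 = n38512 := rfl
theorem F178575 : act 0 n38512 = n37607 := d7_1 D38512 F174097 (iv F172485)
theorem F178576 : act 1 n38512 = n37613 := d15_1 D38512 F174114 (iv F172486)
theorem F178577 : act 2 n38512 = n37388 := d22_1 D38512 (iv F177184) F177180
theorem F178578 : act 3 n38512 = n37421 := d28_1 D38512 (iv D37421) (iv F172487)
theorem F178579 : act 4 n38512 = n37178 := d33_1 D38512 (iv D37178) D37177
theorem F178580 : act 7 n38512 = n38512 := d42_1 D38512 (iv D38512) F172489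
theorem F178581 : act 9 n37387 = n38512 := d34_0 F178579 (iv F172497) (iv F173292)
def n38513 : Q := act 4 n37179
theorem D38513 : act 4 n37179 = n38513 := rfl
theorem F178582 : act 2 n38513 = n37180 := d18_1 D38513 (iv D37180) (iv F172498)
theorem F178583 : act 5 n38513 = n37612 := d30_2 D37179 D38513 F174111 F167307 (iv F165448)
theorem F178584 : act 7 n38513 = n38513 := d32_2 F172500 D38513 (iv D38513)
theorem F178585 : act 9 n38513 = n37608 := d34_2 (iv F172501) D38513 (iv D37608)
def n38514 : Q := act 8 n37179
theorem D38514 : act 8 n37179 = n38514 := rfl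
theorem F178586 : act 0 n38514 = n37801 := d7_1 D38514 (iv F175816) F175811
theorem F178587 : act 2 n38514 = n37181 := d22_1 D38514 (iv D37181) (iv F172498)
theorem F178588 : act 3 n38514 = n38514 := d28_1 D38514 (iv D38514) F172499
theorem F178589 : act 5 n38514 = n38514 := d37_1 D38514 (iv D38514) (iv D37179) F165450 D37179
theorem F178590 : act 7 n38514 = n38514 := d42_1 D38514 (iv D38514) F172500
def n38515 : Q := act 8 n37180
theorem D38515 : act 8 n37180 = n38515 := rfl
theorem F178591 : act 0 n38515 = n37798 := d7_1 D38515 (iv F175797) F175792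
theorem F178592 : act 1 n38515 = n37183 := d15_1 D38515 (iv D37183) (iv F172502)
theorem F178593 : act 3 n38515 = n37223 := d28_1 D38515 (iv F175549) F175546
theorem F178594 : act 4 n38515 = n37181 := d33_1 D38515 (iv D37181) D37180
theorem F178595 : act 7 n38515 = n38515 := d42_1 D38515 (iv D38515) F172504
def n38516 : Q := act 9 n37181
theorem D38516 : act 9 n37181 = n38516 := rfl
theorem F178596 : act 0 n38516 = n37802 := d8_1 D38516 (iv D37802) (iv F172506)
theorem F178597 : act 1 n38516 = n37184 := d16_1 D38516 (iv D37184) (iv F172507)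
theorem F178598 : act 3 n38516 = n37182 := d29_1 D38516 (iv D37182) (iv F172508)
theorem F178599 : act 5 n38516 = n38516 := d38_1 D38516 (iv D38516) F172509
theorem F178600 : act 7 n38516 = n38516 := d43_1 D38516 (iv D38516) F172510
theorem F178601 : act 8 n38516 = n37390 := d44_1 D38516 F173302 F167311 (iv F165455) D37181
def n38517 : Q := act 5 n37183
theorem D38517 : act 5 n37183 = n38517 := rfl
theorem F178602 : act 0 n38517 = n37774 := d4_1 D38517 (iv D37774) (iv F172518)
theorem F178603 : act 4 n38517 = n38517 := d30_1 D38517 (iv D38517) F172519 F165466 (iv F172519)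
theorem F178604 : act 7 n38517 = n38517 := d36_2 F172520 D38517 (iv D38517)
def n38518 : Q := act 9 n37183
theorem D38518 : act 9 n37183 = n38518 := rfl
theorem F178605 : act 0 n38518 = n37775 := d8_1 D38518 (iv D37775) (iv F172518)
theorem F178606 : act 2 n38518 = n37201 := d23_1 D38518 (iv F177191) F177187
theorem F178607 : act 4 n38518 = n37184 := d34_1 D38518 (iv D37184) (iv F172519)
theorem F178608 : act 7 n38518 = n38518 := d43_1 D38518 (iv D38518) F172520
theorem F178609 : act 8 n38518 = n37387 := d44_1 D38518 F178581 (iv D38512) F172490 D37183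
def n38519 : Q := act 4 n37185
theorem D38519 : act 4 n37185 = n38519 := rfl
theorem F178610 : act 0 n38519 = n37191 := d3_1 D38519 (iv D37191) (iv F172527)
theorem F178611 : act 1 n38519 = n37380 := d11_1 D38519 F173274 (iv F172528)
theorem F178612 : act 2 n38519 = n37781 := d18_1 D38519 (iv D37781) (iv F172529)
theorem F178613 : act 7 n38519 = n38519 := d32_2 F172531 D38519 (iv D38519)
theorem F178614 : act 8 n38519 = n37275 := d33_2 (iv F172532) D38519 (iv D37275)
theorem F178615 : act 9 n38519 = n37372 := d34_2 (iv F172533) D38519 (iv D37372)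

end Cfsg.Agent.Helper17.SP6TC
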