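import Cfsg.Agent.Helper17.SP6TC.Facts13

set_option autoImplicit false
set_option linter.all false

noncomputable section

namespace Cfsg.Agent.Helper17.SP6TC

def n38520 : Q := act 3 n37186
theorem D38520 : act 3 n37186 = n38520 := rfl
theorem F178616 : act 0 n38520 = n37192 := d2_1 D38520 (iv D37192) (iv F172534)
theorem F178617 : act 1 n38520 = n37268 := d10_1 D38520 F172916 (iv F172535)
theorem F178618 : act 5 n38520 = n38520 := d25_2 F172537 D38520 (iv D38520)
theorem F178619 : act 7 n38520 = n38520 := d27_2 F172538 D38520 (iv D38520)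
theorem F178620 : act 8 n38520 = n37266 := d28_2 (iv F172539) D38520 F172909
theorem F178621 : act 9 n38520 = n37391 := d29_2 (iv F172540) D38520 (iv D37391)
def n38521 : Q := act 4 n37187
theorem D38521 : act 4 n37187 = n38521 := rfl
theorem F178622 : act 0 n38521 = n37781 := d3_1 D38521 (iv D37781) (iv F172541)
theorem F178623 : act 1 n38521 = n37373 := d11_1 D38521 (iv D37373) (iv F172542)
theorem F178624 : act 2 n38521 = n37191 := d18_1 D38521 (iv D37191) (iv F172543)
theorem F178625 : act 5 n38521 = n37372 := d30_2 D37187 D38521 (iv D37372) (iv D35856) (iv F165490)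
theorem F178626 : act 7 n38521 = n38521 := d32_2 F172545 D38521 (iv D38521)
theorem F178627 : act 8 n38521 = n37195 := d33_2 (iv F172546) D38521 (iv D37195)
def n38522 : Q := act 4 n37188
theorem D38522 : act 4 n37188 = n38522 := rfl
theorem F178628 : act 1 n38522 = n37195 := d11_1 D38522 (iv D37195) (iv F172547)
theorem F178629 : act 2 n38522 = n37372 := d18_1 D38522 (iv D37372) (iv F172548)
theorem F178630 : act 5 n38522 = n37191 := d30_2 D37188 D38522 (iv D37191) (iv D35642) (iv F165496)
theorem F178631 : act 7 n38522 = n38522 := d32_2 F172550 D38522 (iv D38522)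
theorem F178632 : act 8 n38522 = n37373 := d33_2 (iv F172551) D38522 (iv D37373)
theorem F178633 : act 9 n38522 = n37781 := d34_2 (iv F172552) D38522 (iv D37781)
def n38523 : Q := act 6 n37188
theorem D38523 : act 6 n37188 = n38523 := rfl
theorem F178634 : act 1 n38523 = n37196 := d13_1 D38523 (iv D37196) (iv F172547)
theorem F178635 : act 2 n38523 = n37345 := d20_1 D38523 F173176 (iv F172548)
theorem F178636 : act 3 n38523 = n38523 := d26_1 D38523 (iv D38523) F172549
theorem F178637 : act 5 n38523 = n37189 := d35_1 D38523 (iv D37189) (iv D35640) (iv F165497) D37188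
theorem F178638 : act 8 n38523 = n37374 := d40_2 (iv F172551) D38523 (iv D37374)
theorem F178639 : act 9 n38523 = n37782 := d41_2 (iv F172552) D38523 (iv D37782)
def n38524 : Q := act 7 n37189
theorem D38524 : act 7 n37189 = n38524 := rfl
theorem F178640 : act 1 n38524 = n37198 := d14_1 D38524 (iv D37198) (iv F172553)
theorem F178641 : act 2 n38524 = n37327 := d21_1 D38524 F173126 (iv F172554)
theorem F178642 : act 3 n38524 = n38524 := d27_1 D38524 (iv D38524) F172555
theorem F178643 : act 6 n38524 = n37190 := d39_1 D38524 (iv D37190) (iv D35641) (iv F165503) D37189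
theorem F178644 : act 8 n38524 = n37278 := d42_2 (iv F172556) D38524 F172961
theorem F178645 : act 9 n38524 = n37488 := d43_2 F177383 D38524 (iv F177382)
def n38525 : Q := act 3 n37191
theorem D38525 : act 3 n37191 = n38525 := rfl
theorem F178646 : act 1 n38525 = n37201 := d10_1 D38525 (iv D37201) (iv F172563)
theorem F178647 : act 4 n38525 = n37192 := d24_2 D37191 D38525 (iv D37192) (iv D35643) (iv F165512)
theorem F178648 : act 7 n38525 = n38525 := d27_2 F172564 D38525 (iv D38525)
theorem F178649 : act 8 n38525 = n37298 := d28_2 (iv F172565) D38525 (iv D37298)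
def n38526 : Q := act 2 n37192
theorem D38526 : act 2 n37192 = n38526 := rfl
theorem F178650 : act 3 n38526 = n38526 := d17_2 D37192 D38526 (iv D38526) (iv D37192) F165516
theorem F178651 : act 5 n38526 = n38526 := d19_2 F172567 D38526 (iv D38526)
theorem F178652 : act 7 n38526 = n38526 := d21_2 F172568 D38526 (iv D38526)
theorem F178653 : act 8 n38526 = n37300 := d22_2 (iv F172569) D38526 (iv D37300)
def n38527 : Q := act 3 n37193
theorem D38527 : act 3 n37193 = n38527 := rfl
theorem F178654 : act 0 n38527 = n37638 := d2_1 D38527 F174222 (iv F172570)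
theorem F178655 : act 1 n38527 = n37381 := d10_1 D38527 (iv D37381) (iv F172571)
theorem F178656 : act 4 n38527 = n37203 := d24_2 D37193 D38527 (iv D37203) (iv D35655) (iv F165523)
theorem F178657 : act 5 n38527 = n37298 := d25_2 (iv F172573) D38527 (iv D37298)
theorem F178658 : act 7 n38527 = n38527 := d27_2 F172574 D38527 (iv D38527)
theorem F178659 : act 8 n38527 = n37379 := d28_2 (iv F172575) D38527 (iv D37379)
def n38528 : Q := act 9 n37193
theorem D38528 : act 9 n37193 = n38528 := rfl
theorem F178660 : act 0 n38528 = n37780 := d8_1 D38528 (iv D37780) (iv F172570)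
theorem F178661 : act 1 n38528 = n37383 := d16_1 D38528 (iv D37383) (iv F172571)
theorem F178662 : act 2 n38528 = n37202 := d23_1 D38528 (iv D37202) (iv F172572)
theorem F178663 : act 4 n38528 = n37194 := d34_1 D38528 (iv D37194) D37193
theorem F178664 : act 5 n38528 = n37299 := d38_1 D38528 (iv D37299) (iv F172573)
theorem F178665 : act 7 n38528 = n38528 := d43_1 D38528 (iv D38528) F172574
def n38529 : Q := act 3 n37195
theorem D38529 : act 3 n37195 = n38529 := rfl
theorem F178666 : act 0 n38529 = n37783 := d2_1 D38529 (iv D37783) (iv F172582)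
theorem F178667 : act 4 n38529 = n38529 := d24_2 D37195 D38529 (iv D38529) (iv D37195) F165536
theorem F178668 : act 5 n38529 = n37201 := d25_2 (iv F172584) D38529 (iv D37201)
theorem F178669 : act 7 n38529 = n38529 := d27_2 F172585 D38529 (iv D38529)
def n38530 : Q := act 6 n37195
theorem D38530 : act 6 n37195 = n38530 := rfl
theorem F178670 : act 0 n38530 = n37784 := d5_1 D38530 (iv D37784) (iv F172582)
theorem F178671 : act 2 n38530 = n37294 := d20_1 D38530 F173006 (iv F172583)
theorem F178672 : act 4 n38530 = n37196 := d31_1 D38530 (iv D37196) D37195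
def n38531 : Q := act 9 n37195
theorem D38531 : act 9 n37195 = n38531 := rfl
theorem F178673 : act 0 n38531 = n37785 := d8_1 D38531 (iv D37785) (iv F172582)
theorem F178674 : act 1 n38531 = n37781 := d16_1 D38531 (iv F178633) F178628
theorem F178675 : act 2 n38531 = n37299 := d23_1 D38531 (iv D37299) (iv F172583)
theorem F178676 : act 4 n38531 = n37197 := d34_1 D38531 (iv D37197) D37195
theorem F178677 : act 5 n38531 = n37202 := d38_1 D38531 (iv D37202) (iv F172584)
theorem F178678 : act 7 n38531 = n38531 := d43_1 D38531 (iv D38531) F172585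
theorem F178679 : act 8 n37776 = n38531 := d37_0 F178677 (iv F174902) F174900 F168501 (iv F174540)
def n38532 : Q := act 7 n37196
theorem D38532 : act 7 n37196 = n38532 := rfl
theorem F178680 : act 0 n38532 = n37786 := d6_1 D38532 (iv D37786) (iv F172586)
theorem F178681 : act 2 n38532 = n37285 := d21_1 D38532 F172982 (iv F172587)
theorem F178682 : act 3 n38532 = n38532 := d27_1 D38532 (iv D38532) F172588
theorem F178683 : act 5 n38532 = n37198 := d36_1 D38532 (iv D37198) (iv F172589)
theorem F178684 : act 6 n38532 = n38532 := d39_1 D38532 (iv D38532) (iv D37196) F165537 D37196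
def n38533 : Q := act 9 n37196
theorem D38533 : act 9 n37196 = n38533 := rfl
theorem F178685 : act 0 n38533 = n37787 := d8_1 D38533 (iv D37787) (iv F172586)
theorem F178686 : act 1 n38533 = n37782 := d16_1 D38533 (iv F178639) F178634
theorem F178687 : act 2 n38533 = n37295 := d23_1 D38533 (iv D37295) (iv F172587)
theorem F178688 : act 3 n38533 = n38533 := d29_1 D38533 (iv D38533) F172588
theorem F178689 : act 5 n38533 = n37199 := d38_1 D38533 (iv D37199) (iv F172589)
theorem F178690 : act 6 n38533 = n37197 := d41_1 D38533 (iv D37197) D37196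
theorem F178691 : act 8 n37777 = n38533 := d40_0 F178690 (iv F172596) D37777
def n38534 : Q := act 9 n37198
theorem D38534 : act 9 n37198 = n38534 := rfl
theorem F178692 : act 0 n38534 = n37788 := d8_1 D38534 (iv D37788) (iv F172597)
theorem F178693 : act 1 n38534 = n37488 := d16_1 D38534 (iv F178645) F178640
theorem F178694 : act 2 n38534 = n37286 := d23_1 D38534 (iv D37286) (iv F172598)
theorem F178695 : act 3 n38534 = n38534 := d29_1 D38534 (iv D38534) F172599
theorem F178696 : act 6 n38534 = n37200 := d41_1 D38534 (iv D37200) (iv F172600)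
theorem F178697 : act 7 n38534 = n37199 := d43_1 D38534 (iv D37199) D37198
theorem F178698 : act 8 n38534 = n37482 := d44_1 D38534 (iv F177207) F177206 F171144 (iv F172601)
def n38535 : Q := act 5 n37207
theorem D38535 : act 5 n37207 = n38535 := rfl
theorem F178699 : act 0 n38535 = n37474 := d4_1 D38535 (iv D37474) (iv F172651)
theorem F178700 : act 1 n38535 = n37218 := d12_1 D38535 (iv D37218) (iv F172652)
theorem F178701 : act 2 n38535 = n37301 := d19_1 D38535 F173028 (iv F172653)
theorem F178702 : act 3 n38535 = n38535 := d25_1 D38535 (iv D38535) F172654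
theorem F178703 : act 7 n38535 = n38535 := d36_2 F172657 D38535 (iv D38535)
theorem F178704 : act 8 n38535 = n37605 := d37_2 D37207 D38535 (iv D37605) (iv D36108) (iv F165626)
theorem F178705 : act 9 n38535 = n37300 := d38_2 F172658 D38535 F173024
def n38536 : Q := act 6 n37208
theorem D38536 : act 6 n37208 = n38536 := rfl
theorem F178706 : act 0 n38536 = n37475 := d5_1 D38536 (iv D37475) (iv F172659)
theorem F178707 : act 1 n38536 = n37220 := d13_1 D38536 (iv D37220) (iv F172660)
theorem F178708 : act 3 n38536 = n38536 := d26_1 D38536 (iv D38536) F172661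
theorem F178709 : act 8 n38536 = n37212 := d40_2 (iv F172663) D38536 (iv D37212)
def n38537 : Q := act 6 n37211
theorem D38537 : act 6 n37211 = n38537 := rfl
theorem F178710 : act 0 n38537 = n37423 := d5_1 D38537 (iv D37423) (iv F172680)
theorem F178711 : act 1 n38537 = n37461 := d13_1 D38537 (iv D37461) (iv F172681)
theorem F178712 : act 2 n38537 = n37212 := d20_1 D38537 (iv D37212) (iv F172682)
theorem F178713 : act 3 n38537 = n37259 := d26_1 D38537 F172877 (iv F172683)
theorem F178714 : act 7 n38537 = n37258 := d39_2 (iv F172684) D38537 F172872 F165933 (iv F165680)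
theorem F178715 : act 9 n38537 = n37257 := d41_2 (iv F172685) D38537 F172869
def n38538 : Q := act 7 n37212
theorem D38538 : act 7 n37212 = n38538 := rfl
theorem F178716 : act 0 n38538 = n37663 := d6_1 D38538 (iv F175503) F175498
theorem F178717 : act 1 n38538 = n37228 := d14_1 D38538 (iv D37228) (iv F172686)
theorem F178718 : act 2 n38538 = n37258 := d21_1 D38538 (iv F178714) F178712
theorem F178719 : act 3 n38538 = n38538 := d27_1 D38538 (iv D38538) F172687
theorem F178720 : act 5 n38538 = n37229 := d36_1 D38538 (iv F177851) F177850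
theorem F178721 : act 6 n38538 = n37214 := d39_1 D38538 (iv D37214) (iv D35675) (iv F165690) D37212
theorem F178722 : act 9 n37227 = n38538 := d41_0 F178721 F172700 D37227
def n38539 : Q := act 9 n37212
theorem D38539 : act 9 n37212 = n38539 := rfl
theorem F178723 : act 0 n38539 = n37304 := d8_1 D38539 (iv F175505) F175498
theorem F178724 : act 1 n38539 = n37229 := d16_1 D38539 (iv D37229) (iv F172686)
theorem F178725 : act 2 n38539 = n37257 := d23_1 D38539 (iv F178715) F178712
theorem F178726 : act 3 n38539 = n38539 := d29_1 D38539 (iv D38539) F172687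
theorem F178727 : act 5 n38539 = n37228 := d38_1 D38539 (iv F177853) F177850
theorem F178728 : act 6 n38539 = n37213 := d41_1 D38539 (iv D37213) D37212
theorem F178729 : act 7 n38539 = n37227 := d43_1 D38539 F178722 (iv D38538)
theorem F178730 : act 8 n37610 = n38539 := d42_0 F178729 F172768 D37610
def n38540 : Q := act 5 n37215
theorem D38540 : act 5 n37215 = n38540 := rfl
theorem F178731 : act 0 n38540 = n37605 := d4_1 D38540 (iv D37605) (iv F172701)
theorem F178732 : act 1 n38540 = n37216 := d12_1 D38540 (iv D37216) (iv F172702)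
theorem F178733 : act 2 n38540 = n37396 := d19_1 D38540 F173322 (iv F172703)
theorem F178734 : act 3 n38540 = n38540 := d25_1 D38540 (iv D38540) F172704
theorem F178735 : act 7 n38540 = n38540 := d36_2 F172707 D38540 (iv D38540)
theorem F178736 : act 8 n38540 = n37474 := d37_2 D37215 D38540 (iv D37474) (iv D35979) (iv F165723)
theorem F178737 : act 9 n38540 = n37394 := d38_2 F172708 D38540 F173318
def n38541 : Q := act 4 n37216
theorem D38541 : act 4 n37216 = n38541 := rfl
theorem F178738 : act 0 n38541 = n37789 := d3_1 D38541 (iv D37789) (iv F172709)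
theorem F178739 : act 2 n38541 = n37223 := d18_1 D38541 (iv D37223) (iv F172710)
theorem F178740 : act 5 n38541 = n37613 := d30_2 D37216 D38541 (iv D37613) (iv D36116) (iv F165734)
theorem F178741 : act 7 n38541 = n38541 := d32_2 F172712 D38541 (iv D38541)
theorem F178742 : act 8 n38541 = n37598 := d33_2 (iv F172713) D38541 (iv D37598)
def n38542 : Q := act 9 n37216
theorem D38542 : act 9 n37216 = n38542 := rfl
theorem F178743 : act 0 n38542 = n37790 := d8_1 D38542 (iv D37790) (iv F172709)
theorem F178744 : act 1 n38542 = n37394 := d16_1 D38542 (iv F178737) F178732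
theorem F178745 : act 2 n38542 = n37224 := d23_1 D38542 (iv D37224) (iv F172710)
theorem F178746 : act 3 n38542 = n38542 := d29_1 D38542 (iv D38542) F172711
theorem F178747 : act 5 n38542 = n37217 := d38_1 D38542 (iv D37217) D37216
theorem F178748 : act 7 n38542 = n38542 := d43_1 D38542 (iv D38542) F172712
def n38543 : Q := act 4 n37218
theorem D38543 : act 4 n37218 = n38543 := rfl
theorem F178749 : act 0 n38543 = n37791 := d3_1 D38543 (iv D37791) (iv F172722)
theorem F178750 : act 2 n38543 = n37613 := d18_1 D38543 (iv D37613) (iv F172723)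
theorem F178751 : act 5 n38543 = n37223 := d30_2 D37218 D38543 (iv D37223) (iv D35687) (iv F165745)
theorem F178752 : act 7 n38543 = n38543 := d32_2 F172725 D38543 (iv D38543)
theorem F178753 : act 8 n38543 = n37608 := d33_2 (iv F172726) D38543 (iv D37608)
def n38544 : Q := act 6 n37218
theorem D38544 : act 6 n37218 = n38544 := rfl
theorem F178754 : act 0 n38544 = n37792 := d5_1 D38544 (iv D37792) (iv F172722)
theorem F178755 : act 2 n38544 = n37614 := d20_1 D38544 (iv D37614) (iv F172723)
theorem F178756 : act 3 n38544 = n38544 := d26_1 D38544 (iv D38544) F172724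
theorem F178757 : act 5 n38544 = n37220 := d35_1 D38544 (iv D37220) (iv D35683) (iv F165746) D37218
theorem F178758 : act 8 n38544 = n37609 := d40_2 (iv F172726) D38544 (iv D37609)
def n38545 : Q := act 9 n37218
theorem D38545 : act 9 n37218 = n38545 := rfl
theorem F178759 : act 0 n38545 = n37793 := d8_1 D38545 (iv D37793) (iv F172722)
theorem F178760 : act 1 n38545 = n37300 := d16_1 D38545 (iv F178705) F178700
theorem F178761 : act 2 n38545 = n37390 := d23_1 D38545 F173302 (iv F172723)
theorem F178762 : act 3 n38545 = n38545 := d29_1 D38545 (iv D38545) F172724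
theorem F178763 : act 5 n38545 = n37219 := d38_1 D38545 (iv D37219) D37218
theorem F178764 : act 7 n38545 = n38545 := d43_1 D38545 (iv D38545) F172725
def n38546 : Q := act 7 n37220
theorem D38546 : act 7 n37220 = n38546 := rfl
theorem F178765 : act 0 n38546 = n37794 := d6_1 D38546 (iv D37794) (iv F172735)
theorem F178766 : act 3 n38546 = n38546 := d27_1 D38546 (iv D38546) F172736
theorem F178767 : act 6 n38546 = n37222 := d39_1 D38546 (iv D37222) (iv D35685) (iv F165750) D37220
theorem F178768 : act 8 n38546 = n37228 := d42_2 (iv F172737) D38546 (iv D37228)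
def n38547 : Q := act 9 n37220
theorem D38547 : act 9 n37220 = n38547 := rfl
theorem F178769 : act 0 n38547 = n37795 := d8_1 D38547 (iv D37795) (iv F172735)
theorem F178770 : act 3 n38547 = n38547 := d29_1 D38547 (iv D38547) F172736
theorem F178771 : act 6 n38547 = n37221 := d41_1 D38547 (iv D37221) D37220
def n38548 : Q := act 9 n37223
theorem D38548 : act 9 n37223 = n38548 := rfl
theorem F178772 : act 0 n38548 = n37799 := d8_1 D38548 (iv D37799) (iv F172746)
theorem F178773 : act 4 n38548 = n37224 := d34_1 D38548 (iv D37224) D37223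
theorem F178774 : act 7 n38548 = n38548 := d43_1 D38548 (iv D38548) F172747
def n38549 : Q := act 8 n37224
theorem D38549 : act 8 n37224 = n38549 := rfl
theorem F178775 : act 0 n38549 = n37800 := d7_1 D38549 (iv D37800) (iv F172748)
theorem F178776 : act 1 n38549 = n37417 := d15_1 D38549 (iv F178574) F178569
theorem F178777 : act 3 n38549 = n37225 := d28_1 D38549 (iv D37225) (iv F172749)
theorem F178778 : act 5 n38549 = n38549 := d37_1 D38549 (iv D38549) F172750 F165771 (iv F172750)
theorem F178779 : act 7 n38549 = n38549 := d42_1 D38549 (iv D38549) F172751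
theorem F178780 : act 9 n38549 = n37420 := d44_2 D37224 D38549 (iv D37420) (iv F169171) F169170
def n38550 : Q := act 3 n37226
theorem D38550 : act 3 n37226 = n38550 := rfl
theorem F178781 : act 0 n38550 = n37670 := d2_1 D38550 F174304 (iv F172759)
theorem F178782 : act 2 n38550 = n37348 := d17_1 D38550 F173183 F166311 (iv F165914) (iv F172760)
theorem F178783 : act 4 n38550 = n38550 := d24_2 D37226 D38550 (iv D38550) (iv D37226) F165778
theorem F178784 : act 5 n38550 = n37231 := d25_2 (iv F172761) D38550 (iv D37231)
theorem F178785 : act 7 n38550 = n37232 := d27_2 (iv F172762) D38550 (iv D37232)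
theorem F178786 : act 8 n38550 = n37579 := d28_2 (iv F172763) D38550 F174019
def n38551 : Q := act 6 n37226
theorem D38551 : act 6 n37226 = n38551 := rfl
theorem F178787 : act 0 n38551 = n37671 := d5_1 D38551 (iv D37671) (iv F172759)
theorem F178788 : act 2 n38551 = n37254 := d20_1 D38551 (iv D37254) (iv F172760)
theorem F178789 : act 4 n38551 = n37227 := d31_1 D38551 (iv D37227) D37226
theorem F178790 : act 8 n38551 = n37584 := d40_2 (iv F172763) D38551 (iv D37584)
def n38552 : Q := act 8 n37229
theorem D38552 : act 8 n37229 = n38552 := rfl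
theorem F178791 : act 0 n38552 = n37803 := d7_1 D38552 (iv D37803) (iv F172772)
theorem F178792 : act 1 n38552 = n37610 := d15_1 D38552 F178730 F178724
theorem F178793 : act 3 n38552 = n38552 := d28_1 D38552 (iv D38552) F172773
theorem F178794 : act 6 n38552 = n37230 := d40_1 D38552 (iv D37230) (iv F172774)
theorem F178795 : act 7 n38552 = n37606 := d42_1 D38552 (iv F177852) F177851
def n38553 : Q := act 7 n37233
theorem D38553 : act 7 n37233 = n38553 := rfl
theorem F178796 : act 1 n38553 = n37236 := d14_1 D38553 (iv D37236) (iv F172790)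
theorem F178797 : act 2 n38553 = n37705 := d21_1 D38553 F174393 F172794
theorem F178798 : act 3 n38553 = n37234 := d27_1 D38553 (iv D37234) D37233
theorem F178799 : act 4 n38553 = n38553 := d32_1 D38553 (iv D38553) F172791
theorem F178800 : act 5 n38553 = n37462 := d36_1 D38553 (iv D37462) (iv F172792)
theorem F178801 : act 9 n38553 = n37698 := d43_2 (iv F172793) D38553 F174373
def n38554 : Q := act 6 n37234
theorem D38554 : act 6 n37234 = n38554 := rfl
theorem F178802 : act 1 n38554 = n37237 := d13_1 D38554 (iv D37237) (iv F172795)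
theorem F178803 : act 2 n38554 = n37248 := d20_1 D38554 (iv D37248) (iv F172796)
theorem F178804 : act 4 n38554 = n37235 := d31_1 D38554 (iv D37235) (iv F172797)
def n38555 : Q := act 6 n37236
theorem D38555 : act 6 n37236 = n38555 := rfl
theorem F178805 : act 2 n38555 = n37289 := d20_1 D38555 (iv D37289) (iv F172802)
theorem F178806 : act 3 n38555 = n37237 := d26_1 D38555 (iv D37237) (iv F172803)
theorem F178807 : act 4 n38555 = n38555 := d31_1 D38555 (iv D38555) F172804
def n38556 : Q := act 5 n37237
theorem D38556 : act 5 n37237 = n38556 := rfl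
theorem F178808 : act 2 n38556 = n37240 := d19_1 D38556 (iv D37240) (iv F172806)
theorem F178809 : act 6 n38556 = n37467 := d35_2 D37237 D38556 (iv D37467) (iv D35972) (iv F165837)
def n38557 : Q := act 8 n37237
theorem D38557 : act 8 n37237 = n38557 := rfl
theorem F178810 : act 2 n38557 = n37241 := d22_1 D38557 (iv D37241) (iv F172806)
theorem F178811 : act 4 n38557 = n37239 := d33_1 D38557 (iv D37239) (iv F172807)
theorem F178812 : act 6 n38557 = n37238 := d40_1 D38557 (iv D37238) D37237
def n38558 : Q := act 8 n37240
theorem D38558 : act 8 n37240 = n38558 := rfl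
theorem F178813 : act 1 n38558 = n37251 := d15_1 D38558 (iv D37251) (iv F172814)
theorem F178814 : act 3 n38558 = n37291 := d28_1 D38558 (iv D37291) (iv F172815)
theorem F178815 : act 6 n38558 = n37470 := d40_1 D38558 (iv D37470) (iv F172816)
def n38559 : Q := act 5 n37241
theorem D38559 : act 5 n37241 = n38559 := rfl
theorem F178816 : act 1 n38559 = n37252 := d12_1 D38559 (iv D37252) (iv F172817)
theorem F178817 : act 3 n38559 = n37292 := d25_1 D38559 (iv D37292) (iv F172818)
def n38560 : Q := act 9 n37241
theorem D38560 : act 9 n37241 = n38560 := rfl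
theorem F178818 : act 1 n38560 = n37253 := d16_1 D38560 (iv D37253) (iv F172817)
theorem F178819 : act 3 n38560 = n37293 := d29_1 D38560 (iv D37293) (iv F172818)
theorem F178820 : act 4 n38560 = n37243 := d34_1 D38560 (iv D37243) (iv F172819)
theorem F178821 : act 6 n38560 = n37242 := d41_1 D38560 (iv D37242) (iv F172820)
def n38561 : Q := act 8 n37244
theorem D38561 : act 8 n37244 = n38561 := rfl
theorem F178822 : act 0 n38561 = n37647 := d7_1 D38561 (iv D37647) (iv F172828)
theorem F178823 : act 3 n38561 = n37334 := d28_1 D38561 (iv D37334) (iv F172829)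
theorem F178824 : act 4 n38561 = n37641 := d33_1 D38561 (iv D37641) (iv F172830)
theorem F178825 : act 7 n38561 = n37251 := d42_1 D38561 (iv D37251) (iv F172831)
def n38562 : Q := act 8 n37245
theorem D38562 : act 8 n37245 = n38562 := rfl
theorem F178826 : act 0 n38562 = n37643 := d7_1 D38562 (iv D37643) (iv F172832)
theorem F178827 : act 4 n38562 = n37251 := d33_1 D38562 (iv D37251) (iv F172833)
theorem F178828 : act 6 n38562 = n37535 := d40_1 D38562 (iv D37535) (iv F172834)
theorem F178829 : act 7 n38562 = n37641 := d42_1 D38562 (iv D37641) (iv F172835)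
def n38563 : Q := act 7 n37246
theorem D38563 : act 7 n37246 = n38563 := rfl
theorem F178830 : act 1 n38563 = n37341 := d14_1 D38563 (iv D37341) (iv F172836)
theorem F178831 : act 2 n38563 = n37247 := d21_1 D38563 (iv D37247) D37246
theorem F178832 : act 3 n38563 = n37705 := d27_1 D38563 F174393 (iv F172837)
theorem F178833 : act 4 n38563 = n37260 := d32_1 D38563 (iv D37260) (iv F172838)
theorem F178834 : act 5 n38563 = n37442 := d36_1 D38563 F173505 (iv F172839)
theorem F178835 : act 9 n38563 = n37441 := d43_2 (iv F172840) D38563 F173500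
def n38564 : Q := act 6 n37247
theorem D38564 : act 6 n37247 = n38564 := rfl
theorem F178836 : act 1 n38564 = n37249 := d13_1 D38564 (iv D37249) (iv F172841)
theorem F178837 : act 3 n38564 = n37248 := d26_1 D38564 (iv D37248) (iv F172842)
theorem F178838 : act 4 n38564 = n37261 := d31_1 D38564 (iv D37261) (iv F172843)
def n38565 : Q := act 5 n37248
theorem D38565 : act 5 n37248 = n38565 := rfl
theorem F178839 : act 1 n38565 = n37250 := d12_1 D38565 (iv D37250) (iv F172845)
theorem F178840 : act 6 n38565 = n37572 := d35_2 D37248 D38565 (iv D37572) (iv D36074) (iv F165900)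
def n38566 : Q := act 5 n37249
theorem D38566 : act 5 n37249 = n38566 := rfl
theorem F178841 : act 2 n38566 = n37346 := d19_1 D38566 (iv D37346) (iv F172847)
theorem F178842 : act 3 n38566 = n37250 := d25_1 D38566 (iv D37250) (iv F172848)
theorem F178843 : act 6 n38566 = n37577 := d35_2 D37249 D38566 (iv D37577) (iv D36079) (iv F165906)
def n38567 : Q := act 8 n37250
theorem D38567 : act 8 n37250 = n38567 := rfl
theorem F178844 : act 2 n38567 = n37251 := d22_1 D38567 (iv D37251) (iv F172850)
theorem F178845 : act 6 n38567 = n37581 := d40_1 D38567 (iv D37581) (iv F172851)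
def n38568 : Q := act 5 n37251
theorem D38568 : act 5 n37251 = n38568 := rfl
theorem F178846 : act 3 n38568 = n37359 := d25_1 D38568 (iv D37359) (iv F172852)
theorem F178847 : act 8 n38568 = n37252 := d37_2 D37251 D38568 (iv D37252) (iv D35725) D35724
def n38569 : Q := act 9 n37251
theorem D38569 : act 9 n37251 = n38569 := rfl
theorem F178848 : act 3 n38569 = n37360 := d29_1 D38569 (iv D37360) (iv F172852)
theorem F178849 : act 6 n38569 = n37589 := d41_1 D38569 (iv D37589) (iv F172853)
def n38570 : Q := act 6 n37252
theorem D38570 : act 6 n37252 = n38570 := rfl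
theorem F178850 : act 3 n38570 = n37362 := d26_1 D38570 (iv D37362) (iv F172854)
theorem F178851 : act 5 n38570 = n37254 := d35_1 D38570 (iv D37254) (iv D35726) (iv F165913) D37252
def n38571 : Q := act 9 n37252
theorem D38571 : act 9 n37252 = n38571 := rfl
theorem F178852 : act 3 n38571 = n37363 := d29_1 D38571 (iv D37363) (iv F172854)
theorem F178853 : act 5 n38571 = n37253 := d38_1 D38571 (iv D37253) D37252
def n38572 : Q := act 7 n37254
theorem D38572 : act 7 n37254 = n38572 := rfl
theorem F178854 : act 3 n38572 = n37364 := d27_1 D38572 (iv D37364) (iv F172858)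
theorem F178855 : act 4 n38572 = n37257 := d32_1 D38572 (iv D37257) (iv F172859)
theorem F178856 : act 6 n38572 = n37256 := d39_1 D38572 (iv D37256) (iv D35728) (iv F165916) D37254
theorem F178857 : act 8 n38572 = n37593 := d42_2 (iv F172860) D38572 (iv D37593)
def n38573 : Q := act 9 n37254
theorem D38573 : act 9 n37254 = n38573 := rfl
theorem F178858 : act 3 n38573 = n37365 := d29_1 D38573 (iv D37365) (iv F172858)
theorem F178859 : act 4 n38573 = n37258 := d34_1 D38573 (iv D37258) (iv F172859)
theorem F178860 : act 6 n38573 = n37255 := d41_1 D38573 (iv D37255) D37254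
def n38574 : Q := act 6 n37260
theorem D38574 : act 6 n37260 = n38574 := rfl
theorem F178861 : act 1 n38574 = n37406 := d13_1 D38574 (iv D37406) (iv F172879)
theorem F178862 : act 2 n38574 = n37261 := d20_1 D38574 (iv D37261) (iv F172880)
theorem F178863 : act 3 n38574 = n38574 := d26_1 D38574 (iv D38574) F172881
theorem F178864 : act 9 n38574 = n37475 := d41_2 (iv F172883) D38574 (iv D37475)
def n38575 : Q := act 5 n37261
theorem D38575 : act 5 n37261 = n38575 := rfl
theorem F178865 : act 0 n38575 = n37296 := d4_1 D38575 F178429 F178424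
theorem F178866 : act 1 n38575 = n37263 := d12_1 D38575 (iv D37263) (iv F172884)
theorem F178867 : act 3 n38575 = n37262 := d25_1 D38575 (iv D37262) (iv F172885)
theorem F178868 : act 6 n38575 = n37266 := d35_2 D37261 D38575 (iv D37266) (iv D35746) (iv F165967)
def n38576 : Q := act 4 n37263
theorem D38576 : act 4 n37263 = n38576 := rfl
theorem F178869 : act 2 n38576 = n37409 := d18_1 D38576 (iv D37409) (iv F172891)
theorem F178870 : act 6 n38576 = n37267 := d31_2 (iv F172893) D38576 (iv D37267)
def n38577 : Q := act 8 n37263
theorem D38577 : act 8 n37263 = n38577 := rfl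
theorem F178871 : act 0 n38577 = n37657 := d7_1 D38577 F174714 F174707
theorem F178872 : act 2 n38577 = n37410 := d22_1 D38577 (iv D37410) (iv F172891)
theorem F178873 : act 3 n38577 = n37264 := d28_1 D38577 (iv D37264) (iv F172892)
theorem F178874 : act 6 n38577 = n37268 := d40_1 D38577 (iv D37268) (iv F172893)
theorem F178875 : act 9 n37415 = n38577 := d41_0 F178874 (iv F172919) (iv F173383)
def n38578 : Q := act 5 n37265
theorem D38578 : act 5 n37265 = n38578 := rfl
theorem F178876 : act 0 n38578 = n37300 := d4_1 D38578 F173024 (iv F172899)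
theorem F178877 : act 1 n38578 = n37418 := d12_1 D38578 (iv D37418) (iv F172900)
theorem F178878 : act 2 n38578 = n37266 := d19_1 D38578 (iv D37266) (iv F172901)
theorem F178879 : act 3 n38578 = n38578 := d25_1 D38578 (iv D38578) F172902
theorem F178880 : act 7 n38578 = n38578 := d36_2 F172904 D38578 (iv D38578)
theorem F178881 : act 9 n38578 = n37474 := d38_2 (iv F172906) D38578 (iv D37474)
def n38579 : Q := act 4 n37266
theorem D38579 : act 4 n37266 = n38579 := rfl
theorem F178882 : act 0 n38579 = n37298 := d3_1 D38579 F173018 (iv F172907)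
theorem F178883 : act 1 n38579 = n37267 := d11_1 D38579 (iv D37267) (iv F172908)
theorem F178884 : act 3 n38579 = n37275 := d24_1 D38579 (iv D37275) F166035 (iv F165996) (iv F172909)
theorem F178885 : act 5 n38579 = n37638 := d30_2 D37266 D38579 (iv D37638) (iv D36182) (iv F165990)
theorem F178886 : act 7 n38579 = n38579 := d32_2 F172910 D38579 (iv D38579)
def n38580 : Q := act 8 n37267
theorem D38580 : act 8 n37267 = n38580 := rfl
theorem F178887 : act 0 n38580 = n37779 := d7_1 D38580 (iv F174721) F174715
theorem F178888 : act 2 n38580 = n37421 := d22_1 D38580 (iv D37421) (iv F172911)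
theorem F178889 : act 3 n38580 = n37380 := d28_1 D38580 (iv F174815) F174812
theorem F178890 : act 4 n38580 = n37268 := d33_1 D38580 (iv D37268) D37267
theorem F178891 : act 7 n38580 = n38580 := d42_1 D38580 (iv D38580) F172913
theorem F178892 : act 9 n37379 = n38580 := d34_0 F178890 (iv F172919) (iv F173270)
def n38581 : Q := act 8 n37269
theorem D38581 : act 8 n37269 = n38581 := rfl
theorem F178893 : act 0 n38581 = n37291 := d7_1 D38581 (iv D37291) (iv F172920)
theorem F178894 : act 6 n38581 = n37641 := d40_1 D38581 (iv D37641) (iv F172921)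
def n38582 : Q := act 5 n37270
theorem D38582 : act 5 n37270 = n38582 := rfl
theorem F178895 : act 0 n38582 = n37292 := d4_1 D38582 (iv D37292) (iv F172922)
theorem F178896 : act 2 n38582 = n37743 := d19_1 D38582 F174478 (iv F172923)
theorem F178897 : act 6 n38582 = n37736 := d35_2 (iv F172925) D38582 (iv D37736) F167900 (iv F166012)
def n38583 : Q := act 9 n37270
theorem D38583 : act 9 n37270 = n38583 := rfl
theorem F178898 : act 0 n38583 = n37293 := d8_1 D38583 (iv D37293) (iv F172922)
theorem F178899 : act 2 n38583 = n37746 := d23_1 D38583 (iv D37746) (iv F172923)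
theorem F178900 : act 4 n38583 = n37273 := d34_1 D38583 (iv D37273) (iv F172924)
theorem F178901 : act 6 n38583 = n37271 := d41_1 D38583 (iv D37271) (iv F172925)
def n38584 : Q := act 4 n37272
theorem D38584 : act 4 n37272 = n38584 := rfl
theorem F178902 : act 0 n38584 = n37294 := d3_1 D38584 (iv D37294) (iv F172931)
theorem F178903 : act 2 n38584 = n37784 := d18_1 D38584 F174561 (iv F172932)
theorem F178904 : act 6 n38584 = n37275 := d31_2 (iv F172934) D38584 (iv D37275)
def n38585 : Q := act 9 n37272
theorem D38585 : act 9 n37272 = n38585 := rfl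
theorem F178905 : act 0 n38585 = n37295 := d8_1 D38585 (iv D37295) (iv F172931)
theorem F178906 : act 2 n38585 = n37787 := d23_1 D38585 (iv D37787) (iv F172932)
theorem F178907 : act 3 n38585 = n37274 := d29_1 D38585 (iv D37274) (iv F172933)
theorem F178908 : act 5 n38585 = n37273 := d38_1 D38585 (iv D37273) D37272
theorem F178909 : act 6 n38585 = n37276 := d41_1 D38585 (iv D37276) (iv F172934)
theorem F178910 : act 8 n38585 = n37385 := d44_1 D38585 (iv D37385) (iv F173177) (iv F177413) F177412
def n38586 : Q := act 9 n37275
theorem D38586 : act 9 n37275 = n38586 := rfl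
theorem F178911 : act 0 n38586 = n37299 := d8_1 D38586 (iv D37299) (iv F172944)
theorem F178912 : act 2 n38586 = n37785 := d23_1 D38586 (iv D37785) (iv F172945)
theorem F178913 : act 4 n38586 = n37276 := d34_1 D38586 (iv D37276) D37275
theorem F178914 : act 5 n38586 = n37780 := d38_1 D38586 (iv D37780) (iv F172946)
theorem F178915 : act 7 n38586 = n38586 := d43_1 D38586 (iv D38586) F172947
theorem F178916 : act 8 n38586 = n37383 := d44_1 D38586 (iv D37383) (iv F173244) (iv F178615) F178614
def n38587 : Q := act 6 n37277
theorem D38587 : act 6 n37277 = n38587 := rfl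
theorem F178917 : act 1 n38587 = n37280 := d13_1 D38587 (iv D37280) (iv F172954)
theorem F178918 : act 2 n38587 = n37324 := d20_1 D38587 (iv D37324) (iv F172955)
theorem F178919 : act 4 n38587 = n37278 := d31_1 D38587 (iv D37278) (iv F172956)
theorem F178920 : act 7 n38587 = n37288 := d39_2 D37277 D38587 (iv D37288) (iv D35773) (iv F166051)
def n38588 : Q := act 6 n37279
theorem D38588 : act 6 n37279 = n38588 := rfl
theorem F178921 : act 3 n38588 = n37280 := d26_1 D38588 (iv D37280) (iv F172962)
theorem F178922 : act 4 n38588 = n38588 := d31_1 D38588 (iv D38588) F172963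
theorem F178923 : act 7 n38588 = n37289 := d39_2 D37279 D38588 (iv D37289) (iv D35775) (iv F166057)
def n38589 : Q := act 5 n37280
theorem D38589 : act 5 n37280 = n38589 := rfl
theorem F178924 : act 2 n38589 = n37281 := d19_1 D38589 (iv D37281) (iv F172964)
theorem F178925 : act 7 n38589 = n37290 := d36_2 (iv F172966) D38589 (iv D37290)
def n38590 : Q := act 8 n37281
theorem D38590 : act 8 n37281 = n38590 := rfl
theorem F178926 : act 1 n38590 = n37334 := d15_1 D38590 (iv D37334) (iv F172967)
theorem F178927 : act 7 n38590 = n37291 := d42_1 D38590 (iv D37291) (iv F172968)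
def n38591 : Q := act 5 n37282
theorem D38591 : act 5 n37282 = n38591 := rfl
theorem F178928 : act 1 n38591 = n37335 := d12_1 D38591 (iv D37335) (iv F172969)
theorem F178929 : act 7 n38591 = n37292 := d36_2 (iv F172972) D38591 (iv D37292)
def n38592 : Q := act 9 n37282
theorem D38592 : act 9 n37282 = n38592 := rfl
theorem F178930 : act 1 n38592 = n37336 := d16_1 D38592 (iv D37336) (iv F172969)
theorem F178931 : act 4 n38592 = n37286 := d34_1 D38592 (iv D37286) (iv F172970)
theorem F178932 : act 6 n38592 = n37284 := d41_1 D38592 (iv D37284) (iv F172971)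
theorem F178933 : act 7 n38592 = n37293 := d43_1 D38592 (iv D37293) (iv F172972)
def n38593 : Q := act 6 n37283
theorem D38593 : act 6 n37283 = n38593 := rfl
theorem F178934 : act 1 n38593 = n37337 := d13_1 D38593 (iv D37337) (iv F172973)
theorem F178935 : act 4 n38593 = n38593 := d31_1 D38593 (iv D38593) F172974
def n38594 : Q := act 4 n37285
theorem D38594 : act 4 n37285 = n38594 := rfl
theorem F178936 : act 1 n38594 = n37339 := d11_1 D38594 (iv D37339) (iv F172979)
theorem F178937 : act 6 n38594 = n38594 := d31_2 F172981 D38594 (iv D38594)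
theorem F178938 : act 7 n38594 = n37294 := d32_2 (iv F172982) D38594 (iv D37294)
def n38595 : Q := act 9 n37285
theorem D38595 : act 9 n37285 = n38595 := rfl
theorem F178939 : act 1 n38595 = n37340 := d16_1 D38595 (iv D37340) (iv F172979)
theorem F178940 : act 3 n38595 = n37287 := d29_1 D38595 (iv D37287) (iv F172980)
theorem F178941 : act 5 n38595 = n37286 := d38_1 D38595 (iv D37286) D37285
theorem F178942 : act 6 n38595 = n38595 := d41_1 D38595 (iv D38595) F172981
theorem F178943 : act 7 n38595 = n37295 := d43_1 D38595 (iv D37295) (iv F172982)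
def n38596 : Q := act 5 n37288
theorem D38596 : act 5 n37288 = n38596 := rfl
theorem F178944 : act 1 n38596 = n37290 := d12_1 D38596 (iv D37290) (iv F172992)
theorem F178945 : act 2 n38596 = n37343 := d19_1 D38596 (iv D37343) (iv F172993)
theorem F178946 : act 4 n38596 = n37761 := d30_1 D38596 F174511 F167950 (iv F166097) (iv F172994)
theorem F178947 : act 6 n38596 = n37648 := d35_2 D37288 D38596 (iv D37648) F167649 (iv F166093)
def n38597 : Q := act 5 n37289
theorem D38597 : act 5 n37289 = n38597 := rfl
theorem F178948 : act 3 n38597 = n37290 := d25_1 D38597 (iv D37290) (iv F172995)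
theorem F178949 : act 6 n38597 = n37658 := d35_2 D37289 D38597 (iv D37658) (iv D36204) (iv F166100)
def n38598 : Q := act 8 n37290
theorem D38598 : act 8 n37290 = n38598 := rfl
theorem F178950 : act 2 n38598 = n37291 := d22_1 D38598 (iv D37291) (iv F172997)
theorem F178951 : act 6 n38598 = n37659 := d40_1 D38598 (iv D37659) (iv F172998)
def n38599 : Q := act 5 n37291
theorem D38599 : act 5 n37291 = n38599 := rfl
theorem F178952 : act 1 n38599 = n37359 := d12_1 D38599 (iv D37359) (iv F172999)
theorem F178953 : act 8 n38599 = n37292 := d37_2 D37291 D38599 (iv D37292) (iv D35778) D35777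
def n38600 : Q := act 9 n37291
theorem D38600 : act 9 n37291 = n38600 := rfl
theorem F178954 : act 1 n38600 = n37360 := d16_1 D38600 (iv D37360) (iv F172999)
theorem F178955 : act 6 n38600 = n37661 := d41_1 D38600 (iv D37661) (iv F173000)
def n38601 : Q := act 4 n37292
theorem D38601 : act 4 n37292 = n38601 := rfl
theorem F178956 : act 1 n38601 = n37361 := d11_1 D38601 (iv D37361) (iv F173001)
theorem F178957 : act 5 n38601 = n37294 := d30_2 D37292 D38601 (iv D37294) (iv D35780) (iv F166106)
def n38602 : Q := act 9 n37292
theorem D38602 : act 9 n37292 = n38602 := rfl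
theorem F178958 : act 1 n38602 = n37363 := d16_1 D38602 (iv D37363) (iv F173001)
theorem F178959 : act 5 n38602 = n37293 := d38_1 D38602 (iv D37293) D37292
def n38603 : Q := act 3 n37294
theorem D38603 : act 3 n37294 = n38603 := rfl
theorem F178960 : act 1 n38603 = n37367 := d10_1 D38603 (iv D37367) (iv F173005)
theorem F178961 : act 4 n38603 = n37296 := d24_2 D37294 D38603 (iv D37296) (iv D35782) (iv F166112)
theorem F178962 : act 6 n38603 = n37298 := d26_2 (iv F173006) D38603 (iv D37298)
def n38604 : Q := act 9 n37294
theorem D38604 : act 9 n37294 = n38604 := rfl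
theorem F178963 : act 1 n38604 = n37368 := d16_1 D38604 (iv D37368) (iv F173005)
theorem F178964 : act 4 n38604 = n37295 := d34_1 D38604 (iv D37295) D37294
theorem F178965 : act 6 n38604 = n37299 := d41_1 D38604 (iv D37299) (iv F173006)
def n38605 : Q := act 2 n37296
theorem D38605 : act 2 n37296 = n38605 := rfl
theorem F178966 : act 3 n38605 = n38605 := d17_2 D37296 D38605 (iv D38605) (iv D37296) F166118
theorem F178967 : act 6 n38605 = n37300 := d20_2 (iv F173012) D38605 (iv D37300)
def n38606 : Q := act 9 n37296
theorem D38606 : act 9 n37296 = n38606 := rfl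
theorem F178968 : act 1 n38606 = n37371 := d16_1 D38606 (iv D37371) (iv F173011)
theorem F178969 : act 3 n38606 = n37297 := d29_1 D38606 (iv D37297) D37296
theorem F178970 : act 6 n38606 = n37301 := d41_1 D38606 (iv D37301) (iv F173012)
def n38607 : Q := act 2 n37298
theorem D38607 : act 2 n37298 = n38607 := rfl
theorem F178971 : act 4 n38607 = n37300 := d18_2 (iv F173018) D38607 (iv D37300)
theorem F178972 : act 7 n38607 = n38607 := d21_2 F173019 D38607 (iv D38607)
def n38608 : Q := act 9 n37298
theorem D38608 : act 9 n37298 = n38608 := rfl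
theorem F178973 : act 1 n38608 = n37388 := d16_1 D38608 (iv D37388) (iv F173017)
theorem F178974 : act 3 n38608 = n37299 := d29_1 D38608 (iv D37299) D37298
theorem F178975 : act 4 n38608 = n37301 := d34_1 D38608 (iv D37301) (iv F173018)
theorem F178976 : act 7 n38608 = n38608 := d43_1 D38608 (iv D38608) F173019
def n38609 : Q := act 7 n37302
theorem D38609 : act 7 n37302 = n38609 := rfl
theorem F178977 : act 1 n38609 = n37305 := d14_1 D38609 (iv D37305) (iv F173030)
theorem F178978 : act 3 n38609 = n37303 := d27_1 D38609 (iv D37303) D37302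
theorem F178979 : act 4 n38609 = n38609 := d32_1 D38609 (iv D38609) F173031
theorem F178980 : act 5 n38609 = n37323 := d36_1 D38609 (iv D37323) (iv F173032)
theorem F178981 : act 9 n38609 = n37668 := d43_2 (iv F173034) D38609 F174299
def n38610 : Q := act 6 n37303
theorem D38610 : act 6 n37303 = n38610 := rfl
theorem F178982 : act 1 n38610 = n37307 := d13_1 D38610 (iv D37307) (iv F173035)
theorem F178983 : act 4 n38610 = n37304 := d31_1 D38610 (iv D37304) (iv F173036)
theorem F178984 : act 7 n38610 = n37671 := d39_2 D37303 D38610 (iv D37671) (iv D36219) (iv F166175)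
def n38611 : Q := act 6 n37305
theorem D38611 : act 6 n37305 = n38611 := rfl
theorem F178985 : act 3 n38611 = n37307 := d26_1 D38611 (iv D37307) (iv F173042)
theorem F178986 : act 4 n38611 = n38611 := d31_1 D38611 (iv D38611) F173043
theorem F178987 : act 7 n38611 = n37672 := d39_2 D37305 D38611 (iv D37672) (iv D36221) (iv F166181)
def n38612 : Q := act 8 n37305
theorem D38612 : act 8 n37305 = n38612 := rfl
theorem F178988 : act 3 n38612 = n37308 := d28_1 D38612 (iv D37308) (iv F173042)
theorem F178989 : act 4 n38612 = n38612 := d33_1 D38612 (iv D38612) F173043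
theorem F178990 : act 7 n38612 = n37306 := d42_1 D38612 (iv D37306) D37305
def n38613 : Q := act 5 n37307
theorem D38613 : act 5 n37307 = n38613 := rfl
theorem F178991 : act 2 n38613 = n37313 := d19_1 D38613 (iv D37313) (iv F173048)
theorem F178992 : act 6 n38613 = n37329 := d35_2 D37307 D38613 (iv D37329) (iv D35816) (iv F166184)
theorem F178993 : act 7 n38613 = n37675 := d36_2 (iv F173050) D38613 (iv D37675)
def n38614 : Q := act 8 n37307
theorem D38614 : act 8 n37307 = n38614 := rfl
theorem F178994 : act 2 n38614 = n37314 := d22_1 D38614 (iv D37314) (iv F173048)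
theorem F178995 : act 4 n38614 = n37311 := d33_1 D38614 (iv D37311) (iv F173049)
theorem F178996 : act 6 n38614 = n37308 := d40_1 D38614 (iv D37308) D37307
theorem F178997 : act 7 n38614 = n37676 := d42_1 D38614 (iv D37676) (iv F173050)
def n38615 : Q := act 5 n37308
theorem D38615 : act 5 n37308 = n38615 := rfl
theorem F178998 : act 2 n38615 = n37315 := d19_1 D38615 (iv D37315) (iv F173051)
theorem F178999 : act 4 n38615 = n38615 := d30_1 D38615 (iv D38615) F173052 F166193 (iv F173052)
theorem F179000 : act 7 n38615 = n37309 := d36_2 (iv F173053) D38615 (iv D37309)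
theorem F179001 : act 8 n38615 = n37331 := d37_2 D37308 D38615 (iv D37331) (iv D35817) (iv F166184)
def n38616 : Q := act 9 n37308
theorem D38616 : act 9 n37308 = n38616 := rfl
theorem F179002 : act 2 n38616 = n37316 := d23_1 D38616 (iv D37316) (iv F173051)
theorem F179003 : act 4 n38616 = n37312 := d34_1 D38616 (iv D37312) (iv F173052)
theorem F179004 : act 7 n38616 = n37310 := d43_1 D38616 (iv D37310) (iv F173053)
theorem F179005 : act 8 n38616 = n37341 := d44_1 D38616 F173164 (iv F169127) F169128 D37308
def n38617 : Q := act 5 n37311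
theorem D38617 : act 5 n37311 = n38617 := rfl
theorem F179006 : act 2 n38617 = n37318 := d19_1 D38617 (iv D37318) (iv F173061)
theorem F179007 : act 3 n38617 = n38617 := d25_1 D38617 (iv D38617) F173062
theorem F179008 : act 6 n38617 = n38617 := d35_2 (iv F173063) D38617 (iv D38617) F173063 F166193
theorem F179009 : act 7 n38617 = n37678 := d36_2 (iv F173064) D38617 (iv D37678)
def n38618 : Q := act 9 n37311
theorem D38618 : act 9 n37311 = n38618 := rfl
theorem F179010 : act 2 n38618 = n37319 := d23_1 D38618 (iv D37319) (iv F173061)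
theorem F179011 : act 3 n38618 = n38618 := d29_1 D38618 (iv D38618) F173062
theorem F179012 : act 6 n38618 = n37312 := d41_1 D38618 (iv D37312) (iv F173063)
theorem F179013 : act 7 n38618 = n37679 := d43_1 D38618 (iv D37679) (iv F173064)
theorem F179014 : act 8 n38618 = n37406 := d44_1 D38618 F173361 (iv F169134) F169135 D37311
def n38619 : Q := act 8 n37313
theorem D38619 : act 8 n37313 = n38619 := rfl
theorem F179015 : act 6 n38619 = n37334 := d40_1 D38619 (iv D37334) (iv F173070)
theorem F179016 : act 7 n38619 = n37680 := d42_1 D38619 (iv D37680) (iv F173071)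
def n38620 : Q := act 5 n37314
theorem D38620 : act 5 n37314 = n38620 := rfl
theorem F179017 : act 7 n38620 = n37681 := d36_2 (iv F173074) D38620 (iv D37681)
def n38621 : Q := act 9 n37314
theorem D38621 : act 9 n37314 = n38621 := rfl
theorem F179018 : act 1 n38621 = n37347 := d16_1 D38621 (iv F175959) F175954
theorem F179019 : act 3 n38621 = n37344 := d29_1 D38621 (iv F177397) F177393
theorem F179020 : act 4 n38621 = n37319 := d34_1 D38621 (iv D37319) (iv F173072)
theorem F179021 : act 6 n38621 = n37316 := d41_1 D38621 (iv D37316) (iv F173073)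
theorem F179022 : act 7 n38621 = n37682 := d43_1 D38621 (iv D37682) (iv F173074)
theorem F179023 : act 8 n38621 = n37342 := d44_1 D38621 F175534 (iv D37945) F169141 D37314
def n38622 : Q := act 6 n37315
theorem D38622 : act 6 n37315 = n38622 := rfl
theorem F179024 : act 4 n38622 = n38622 := d31_1 D38622 (iv D38622) F173075
theorem F179025 : act 8 n38622 = n37337 := d40_2 (iv F173077) D38622 (iv D37337)
def n38623 : Q := act 7 n37317
theorem D38623 : act 7 n37317 = n38623 := rfl
theorem F179026 : act 4 n38623 = n38623 := d32_1 D38623 (iv D38623) F173083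
theorem F179027 : act 5 n38623 = n37685 := d36_1 D38623 (iv D37685) (iv F173084)
theorem F179028 : act 8 n38623 = n37338 := d42_2 (iv F173085) D38623 (iv D37338)
def n38624 : Q := act 4 n37318
theorem D38624 : act 4 n37318 = n38624 := rfl
theorem F179029 : act 6 n38624 = n38624 := d31_2 F173087 D38624 (iv D38624)
theorem F179030 : act 7 n38624 = n37688 := d32_2 (iv F173088) D38624 (iv D37688)
def n38625 : Q := act 9 n37318
theorem D38625 : act 9 n37318 = n38625 := rfl
theorem F179031 : act 1 n38625 = n37411 := d16_1 D38625 (iv F175973) F175968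
theorem F179032 : act 3 n38625 = n37321 := d29_1 D38625 (iv D37321) (iv F173086)
theorem F179033 : act 5 n38625 = n37319 := d38_1 D38625 (iv D37319) D37318
theorem F179034 : act 6 n38625 = n38625 := d41_1 D38625 (iv D38625) F173087
theorem F179035 : act 7 n38625 = n37689 := d43_1 D38625 (iv D37689) (iv F173088)
def n38626 : Q := act 3 n37320
theorem D38626 : act 3 n37320 = n38626 := rfl
theorem F179036 : act 6 n38626 = n38626 := d26_2 F173095 D38626 (iv D38626)
theorem F179037 : act 7 n38626 = n37690 := d27_2 (iv F173096) D38626 (iv D37690)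
def n38627 : Q := act 9 n37320
theorem D38627 : act 9 n37320 = n38627 := rfl
theorem F179038 : act 1 n38627 = n37414 := d16_1 D38627 (iv F175981) F175975
theorem F179039 : act 2 n38627 = n38627 := d23_1 D38627 (iv D38627) F173094
theorem F179040 : act 4 n38627 = n37321 := d34_1 D38627 (iv D37321) D37320
theorem F179041 : act 5 n38627 = n37392 := d38_1 D38627 (iv F177421) F177417
theorem F179042 : act 6 n38627 = n38627 := d41_1 D38627 (iv D38627) F173095
theorem F179043 : act 7 n38627 = n37691 := d43_1 D38627 (iv D37691) (iv F173096)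
def n38628 : Q := act 8 n37321
theorem D38628 : act 8 n37321 = n38628 := rfl
theorem F179044 : act 1 n38628 = n37412 := d15_1 D38628 F173376 (iv F173097)
theorem F179045 : act 2 n38628 = n38628 := d22_1 D38628 (iv D38628) F173098
theorem F179046 : act 5 n38628 = n37408 := d37_1 D38628 (iv D37408) (iv D35901) (iv F166227) (iv F173099)
theorem F179047 : act 6 n38628 = n38628 := d40_1 D38628 (iv D38628) F173100
theorem F179048 : act 7 n38628 = n37692 := d42_1 D38628 (iv D37692) (iv F173101)
def n38629 : Q := act 7 n37322
theorem D38629 : act 7 n37322 = n38629 := rfl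
theorem F179049 : act 2 n38629 = n37323 := d21_1 D38629 (iv D37323) D37322
theorem F179050 : act 4 n38629 = n37400 := d32_1 D38629 (iv D37400) (iv F173102)
theorem F179051 : act 8 n38629 = n37677 := d42_2 (iv F173104) D38629 F174323
theorem F179052 : act 9 n38629 = n37539 := d43_2 (iv F173105) D38629 (iv D37539)
def n38630 : Q := act 6 n37323
theorem D38630 : act 6 n37323 = n38630 := rfl
theorem F179053 : act 1 n38630 = n37328 := d13_1 D38630 (iv D37328) (iv F173106)
theorem F179054 : act 3 n38630 = n37324 := d26_1 D38630 (iv D37324) (iv F173107)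
theorem F179055 : act 4 n38630 = n37401 := d31_1 D38630 (iv D37401) (iv F173108)
theorem F179056 : act 7 n38630 = n37342 := d39_2 D37323 D38630 (iv D37342) (iv D35829) (iv F166230)
theorem F179057 : act 8 n38630 = n37682 := d40_2 (iv F173109) D38630 F174332
theorem F179058 : act 9 n38630 = n37667 := d41_2 (iv F173110) D38630 F174297
def n38631 : Q := act 5 n37324
theorem D38631 : act 5 n37324 = n38631 := rfl
theorem F179059 : act 1 n38631 = n37329 := d12_1 D38631 (iv D37329) (iv F173111)
theorem F179060 : act 4 n38631 = n37766 := d30_1 D38631 F174519 F167956 (iv F166242) (iv F173112)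
theorem F179061 : act 7 n38631 = n37343 := d36_2 (iv F173113) D38631 (iv D37343)
def n38632 : Q := act 8 n37324
theorem D38632 : act 8 n37324 = n38632 := rfl
theorem F179062 : act 1 n38632 = n37330 := d15_1 D38632 (iv D37330) (iv F173111)
theorem F179063 : act 3 n38632 = n37682 := d28_1 D38632 (iv F179057) F179054
theorem F179064 : act 4 n38632 = n37327 := d33_1 D38632 (iv D37327) (iv F173112)
theorem F179065 : act 6 n38632 = n37325 := d40_1 D38632 (iv D37325) D37324
theorem F179066 : act 7 n38632 = n37344 := d42_1 D38632 (iv D37344) (iv F173113)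
theorem F179067 : act 9 n38632 = n37490 := d44_2 (iv F177248) D38632 (iv D37490) (iv F170890) D38232
def n38633 : Q := act 5 n37325
theorem D38633 : act 5 n37325 = n38633 := rfl
theorem F179068 : act 1 n38633 = n37331 := d12_1 D38633 (iv D37331) (iv F173114)
theorem F179069 : act 3 n38633 = n37684 := d25_1 D38633 F174336 (iv F173115)
theorem F179070 : act 4 n38633 = n38633 := d30_1 D38633 (iv D38633) F173116 F166246 (iv F173116)
theorem F179071 : act 7 n38633 = n37326 := d36_2 (iv F173117) D38633 (iv D37326)
theorem F179072 : act 9 n38633 = n37491 := d38_2 (iv F173118) D38633 (iv D37491)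
def n38634 : Q := act 5 n37327
theorem D38634 : act 5 n37327 = n38634 := rfl
theorem F179073 : act 1 n38634 = n37333 := d12_1 D38634 (iv D37333) (iv F173123)
theorem F179074 : act 3 n38634 = n37393 := d25_1 D38634 F173313 (iv F173124)
theorem F179075 : act 6 n38634 = n38634 := d35_2 (iv F173125) D38634 (iv D38634) F173125 F166246
theorem F179076 : act 7 n38634 = n37345 := d36_2 (iv F173126) D38634 (iv D37345)
theorem F179077 : act 8 n38634 = n37384 := d37_2 D37327 D38634 F173284 F166404 (iv F166242)
theorem F179078 : act 9 n38634 = n37493 := d38_2 (iv F173127) D38634 (iv D37493)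
def n38635 : Q := act 5 n37328
theorem D38635 : act 5 n37328 = n38635 := rfl
theorem F179079 : act 3 n38635 = n37329 := d25_1 D38635 (iv D37329) (iv F173128)
theorem F179080 : act 7 n38635 = n37346 := d36_2 (iv F173130) D38635 (iv D37346)
def n38636 : Q := act 8 n37329
theorem D38636 : act 8 n37329 = n38636 := rfl
theorem F179081 : act 2 n38636 = n37334 := d22_1 D38636 (iv D37334) (iv F173131)
theorem F179082 : act 7 n38636 = n37350 := d42_1 D38636 (iv D37350) (iv F173132)
def n38637 : Q := act 5 n37330
theorem D38637 : act 5 n37330 = n38637 := rfl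
theorem F179083 : act 2 n38637 = n37335 := d19_1 D38637 (iv D37335) (iv F173133)
theorem F179084 : act 7 n38637 = n37351 := d36_2 (iv F173136) D38637 (iv D37351)
def n38638 : Q := act 6 n37331
theorem D38638 : act 6 n37331 = n38638 := rfl
theorem F179085 : act 2 n38638 = n37337 := d20_1 D38638 (iv D37337) (iv F173137)
theorem F179086 : act 4 n38638 = n38638 := d31_1 D38638 (iv D38638) F173138
def n38639 : Q := act 7 n37332
theorem D38639 : act 7 n37332 = n38639 := rfl
theorem F179087 : act 2 n38639 = n37338 := d21_1 D38639 (iv D37338) (iv F173140)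
theorem F179088 : act 4 n38639 = n38639 := d32_1 D38639 (iv D38639) F173141
theorem F179089 : act 5 n38639 = n37355 := d36_1 D38639 (iv D37355) (iv F173142)
def n38640 : Q := act 4 n37333
theorem D38640 : act 4 n37333 = n38640 := rfl
theorem F179090 : act 2 n38640 = n37339 := d18_1 D38640 (iv D37339) (iv F173143)
theorem F179091 : act 6 n38640 = n38640 := d31_2 F173145 D38640 (iv D38640)
theorem F179092 : act 7 n38640 = n37357 := d32_2 (iv F173146) D38640 (iv D37357)
def n38641 : Q := act 5 n37334
theorem D38641 : act 5 n37334 = n38641 := rfl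
theorem F179093 : act 7 n38641 = n37359 := d36_2 (iv F173147) D38641 (iv D37359)
theorem F179094 : act 8 n38641 = n37335 := d37_2 D37334 D38641 (iv D37335) (iv D35821) D35820
def n38642 : Q := act 9 n37334
theorem D38642 : act 9 n37334 = n38642 := rfl
theorem F179095 : act 7 n38642 = n37360 := d43_1 D38642 (iv D37360) (iv F173147)
def n38643 : Q := act 4 n37335
theorem D38643 : act 4 n37335 = n38643 := rfl
theorem F179096 : act 5 n38643 = n37339 := d30_2 D37335 D38643 (iv D37339) (iv D35825) (iv F166264)
theorem F179097 : act 7 n38643 = n37361 := d32_2 (iv F173148) D38643 (iv D37361)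
def n38644 : Q := act 6 n37335
theorem D38644 : act 6 n37335 = n38644 := rfl
theorem F179098 : act 5 n38644 = n37337 := d35_1 D38644 (iv D37337) (iv D35822) (iv F166265) D37335
def n38645 : Q := act 9 n37335
theorem D38645 : act 9 n37335 = n38645 := rfl
theorem F179099 : act 5 n38645 = n37336 := d38_1 D38645 (iv D37336) D37335
theorem F179100 : act 7 n38645 = n37363 := d43_1 D38645 (iv D37363) (iv F173148)
def n38646 : Q := act 7 n37337
theorem D38646 : act 7 n37337 = n38646 := rfl
theorem F179101 : act 4 n38646 = n38646 := d32_1 D38646 (iv D38646) F173152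
theorem F179102 : act 6 n38646 = n37338 := d39_1 D38646 (iv D37338) (iv D35824) (iv F166268) D37337
def n38647 : Q := act 9 n37339
theorem D38647 : act 9 n37339 = n38647 := rfl
theorem F179103 : act 4 n38647 = n37340 := d34_1 D38647 (iv D37340) D37339
theorem F179104 : act 6 n38647 = n38647 := d41_1 D38647 (iv D38647) F173155
theorem F179105 : act 7 n38647 = n37368 := d43_1 D38647 (iv D37368) (iv F173156)
def n38648 : Q := act 6 n37341
theorem D38648 : act 6 n37341 = n38648 := rfl
theorem F179106 : act 2 n38648 = n37342 := d20_1 D38648 (iv D37342) (iv F173161)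
theorem F179107 : act 4 n38648 = n37406 := d31_1 D38648 (iv D37406) (iv F173162)
theorem F179108 : act 9 n38648 = n37538 := d41_2 (iv F173164) D38648 (iv D37538)
def n38649 : Q := act 5 n37342
theorem D38649 : act 5 n37342 = n38649 := rfl
theorem F179109 : act 1 n38649 = n37346 := d12_1 D38649 (iv D37346) (iv F173165)
theorem F179110 : act 3 n38649 = n37343 := d25_1 D38649 (iv D37343) (iv F173166)
theorem F179111 : act 6 n38649 = n37751 := d35_2 D37342 D38649 (iv D37751) (iv D36299) (iv F166289)
def n38650 : Q := act 8 n37343
theorem D38650 : act 8 n37343 = n38650 := rfl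
theorem F179112 : act 1 n38650 = n37350 := d15_1 D38650 (iv D37350) (iv F173168)
theorem F179113 : act 4 n38650 = n37764 := d33_1 D38650 F174517 (iv F173169)
theorem F179114 : act 6 n38650 = n37752 := d40_1 D38650 (iv D37752) (iv F173170)
def n38651 : Q := act 5 n37344
theorem D38651 : act 5 n37344 = n38651 := rfl
theorem F179115 : act 1 n38651 = n37351 := d12_1 D38651 (iv D37351) (iv F173171)
def n38652 : Q := act 4 n37345
theorem D38652 : act 4 n37345 = n38652 := rfl
theorem F179116 : act 1 n38652 = n37357 := d11_1 D38652 (iv D37357) (iv F173174)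
theorem F179117 : act 6 n38652 = n37372 := d31_2 (iv F173176) D38652 (iv D37372)
theorem F179118 : act 8 n38652 = n37382 := d33_2 (iv F173177) D38652 F173279
def n38653 : Q := act 4 n37346
theorem D38653 : act 4 n37346 = n38653 := rfl
theorem F179119 : act 5 n38653 = n37409 := d30_2 D37346 D38653 (iv D37409) (iv D35902) (iv F166299)
theorem F179120 : act 6 n38653 = n37753 := d31_2 (iv F173179) D38653 (iv D37753)
def n38654 : Q := act 8 n37346
theorem D38654 : act 8 n37346 = n38654 := rfl
theorem F179121 : act 3 n38654 = n37350 := d28_1 D38654 (iv D37350) (iv F173178)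
theorem F179122 : act 6 n38654 = n37754 := d40_1 D38654 (iv D37754) (iv F173179)
def n38655 : Q := act 5 n37347
theorem D38655 : act 5 n37347 = n38655 := rfl
theorem F179123 : act 3 n38655 = n37351 := d25_1 D38655 (iv D37351) (iv F173180)
def n38656 : Q := act 6 n37348
theorem D38656 : act 6 n37348 = n38656 := rfl
theorem F179124 : act 3 n38656 = n37353 := d26_1 D38656 (iv D37353) (iv F173183)
theorem F179125 : act 4 n38656 = n38656 := d31_1 D38656 (iv D38656) F173184
theorem F179126 : act 8 n38656 = n37757 := d40_2 (iv F173186) D38656 (iv D37757)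
def n38657 : Q := act 7 n37349
theorem D38657 : act 7 n37349 = n38657 := rfl
theorem F179127 : act 3 n38657 = n37355 := d27_1 D38657 (iv D37355) (iv F173187)
theorem F179128 : act 4 n38657 = n38657 := d32_1 D38657 (iv D38657) F173188
theorem F179129 : act 8 n38657 = n37758 := d42_2 (iv F173189) D38657 (iv D37758)
def n38658 : Q := act 5 n37350
theorem D38658 : act 5 n37350 = n38658 := rfl
theorem F179130 : act 2 n38658 = n37359 := d19_1 D38658 (iv D37359) (iv F173190)
theorem F179131 : act 8 n38658 = n37351 := d37_2 D37350 D38658 (iv D37351) (iv D35837) D35836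
def n38659 : Q := act 9 n37350
theorem D38659 : act 9 n37350 = n38659 := rfl
theorem F179132 : act 2 n38659 = n37360 := d23_1 D38659 (iv D37360) (iv F173190)
theorem F179133 : act 6 n38659 = n37760 := d41_1 D38659 (iv D37760) (iv F173191)
def n38660 : Q := act 4 n37351
theorem D38660 : act 4 n37351 = n38660 := rfl
theorem F179134 : act 2 n38660 = n37361 := d18_1 D38660 (iv D37361) (iv F173192)
theorem F179135 : act 5 n38660 = n37357 := d30_2 D37351 D38660 (iv D37357) (iv D35842) (iv F166309)
def n38661 : Q := act 6 n37351
theorem D38661 : act 6 n37351 = n38661 := rfl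
theorem F179136 : act 2 n38661 = n37362 := d20_1 D38661 (iv D37362) (iv F173192)
theorem F179137 : act 5 n38661 = n37353 := d35_1 D38661 (iv D37353) (iv D35838) (iv F166310) D37351
def n38662 : Q := act 9 n37351
theorem D38662 : act 9 n37351 = n38662 := rfl
theorem F179138 : act 0 n38662 = n37653 := d8_1 D38662 (iv F175191) F175188
theorem F179139 : act 2 n38662 = n37363 := d23_1 D38662 (iv D37363) (iv F173192)
theorem F179140 : act 5 n38662 = n37352 := d38_1 D38662 (iv D37352) D37351
def n38663 : Q := act 7 n37353
theorem D38663 : act 7 n37353 = n38663 := rfl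
theorem F179141 : act 2 n38663 = n37364 := d21_1 D38663 (iv D37364) (iv F173198)
theorem F179142 : act 4 n38663 = n37376 := d32_1 D38663 (iv D37376) (iv F173199)
theorem F179143 : act 6 n38663 = n37355 := d39_1 D38663 (iv D37355) (iv D35840) (iv F166313) D37353
theorem F179144 : act 8 n38663 = n37763 := d42_2 (iv F173200) D38663 (iv D37763)
def n38664 : Q := act 9 n37353
theorem D38664 : act 9 n37353 = n38664 := rfl
theorem F179145 : act 0 n38664 = n37654 := d8_1 D38664 (iv F175197) F175192
theorem F179146 : act 2 n38664 = n37365 := d23_1 D38664 (iv D37365) (iv F173198)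
theorem F179147 : act 4 n38664 = n37377 := d34_1 D38664 (iv D37377) (iv F173199)
theorem F179148 : act 6 n38664 = n37354 := d41_1 D38664 (iv D37354) D37353
def n38665 : Q := act 9 n37355
theorem D38665 : act 9 n37355 = n38665 := rfl
theorem F179149 : act 0 n38665 = n37655 := d8_1 D38665 (iv F175203) F175198
theorem F179150 : act 2 n38665 = n37366 := d23_1 D38665 (iv D37366) (iv F173206)
theorem F179151 : act 4 n38665 = n37378 := d34_1 D38665 (iv D37378) (iv F173207)
theorem F179152 : act 7 n38665 = n37356 := d43_1 D38665 (iv D37356) D37355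
def n38666 : Q := act 3 n37357
theorem D38666 : act 3 n37357 = n38666 := rfl
theorem F179153 : act 4 n38666 = n37415 := d24_2 D37357 D38666 (iv D37415) (iv D35906) (iv F166328)
theorem F179154 : act 6 n38666 = n37379 := d26_2 (iv F173214) D38666 (iv D37379)
def n38667 : Q := act 9 n37357
theorem D38667 : act 9 n37357 = n38667 := rfl
theorem F179155 : act 0 n38667 = n37656 := d8_1 D38667 (iv F175209) F175204
theorem F179156 : act 2 n38667 = n37368 := d23_1 D38667 (iv D37368) (iv F173213)
theorem F179157 : act 4 n38667 = n37358 := d34_1 D38667 (iv D37358) D37357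
theorem F179158 : act 6 n38667 = n37380 := d41_1 D38667 (iv D37380) (iv F173214)
def n38668 : Q := act 4 n37359
theorem D38668 : act 4 n37359 = n38668 := rfl
theorem F179159 : act 8 n38668 = n37361 := d33_2 (iv F173220) D38668 (iv D37361)
def n38669 : Q := act 6 n37359
theorem D38669 : act 6 n37359 = n38669 := rfl
theorem F179160 : act 5 n38669 = n37764 := d35_1 D38669 (iv D37764) (iv D36311) (iv F166335) D37359
theorem F179161 : act 8 n38669 = n37362 := d40_2 (iv F173220) D38669 (iv D37362)
def n38670 : Q := act 9 n37359
theorem D38670 : act 9 n37359 = n38670 := rfl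
theorem F179162 : act 5 n38670 = n37360 := d38_1 D38670 (iv D37360) D37359
def n38671 : Q := act 3 n37361
theorem D38671 : act 3 n37361 = n38671 := rfl
theorem F179163 : act 5 n38671 = n37367 := d25_2 (iv F173222) D38671 (iv D37367)
def n38672 : Q := act 6 n37361
theorem D38672 : act 6 n37361 = n38672 := rfl
theorem F179164 : act 4 n38672 = n37362 := d31_1 D38672 (iv D37362) D37361
theorem F179165 : act 5 n38672 = n37382 := d35_1 D38672 (iv D37382) F166395 (iv F166347) (iv F173222)
def n38673 : Q := act 9 n37361
theorem D38673 : act 9 n37361 = n38673 := rfl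
theorem F179166 : act 4 n38673 = n37363 := d34_1 D38673 (iv D37363) D37361
theorem F179167 : act 5 n38673 = n37368 := d38_1 D38673 (iv D37368) (iv F173222)
def n38674 : Q := act 7 n37362
theorem D38674 : act 7 n37362 = n38674 := rfl
theorem F179168 : act 5 n38674 = n37364 := d36_1 D38674 (iv D37364) (iv F173223)
def n38675 : Q := act 9 n37362
theorem D38675 : act 9 n37362 = n38675 := rfl
theorem F179169 : act 5 n38675 = n37365 := d38_1 D38675 (iv D37365) (iv F173223)
theorem F179170 : act 6 n38675 = n37363 := d41_1 D38675 (iv D37363) D37362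
def n38676 : Q := act 8 n37363
theorem D38676 : act 8 n37363 = n38676 := rfl
def n38677 : Q := act 9 n37364
theorem D38677 : act 9 n37364 = n38677 := rfl
theorem F179171 : act 4 n38677 = n37386 := d34_1 D38677 (iv D37386) (iv F173225)
theorem F179172 : act 6 n38677 = n37366 := d41_1 D38677 (iv D37366) (iv F173226)
theorem F179173 : act 7 n38677 = n37365 := d43_1 D38677 (iv D37365) D37364
def n38678 : Q := act 2 n37367
theorem D38678 : act 2 n37367 = n38678 := rfl
theorem F179174 : act 4 n38678 = n37370 := d18_2 (iv F173232) D38678 (iv D37370)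
theorem F179175 : act 6 n38678 = n37387 := d20_2 (iv F173233) D38678 (iv D37387)
def n38679 : Q := act 9 n37367
theorem D38679 : act 9 n37367 = n38679 := rfl
theorem F179176 : act 3 n38679 = n37368 := d29_1 D38679 (iv D37368) D37367
theorem F179177 : act 4 n38679 = n37371 := d34_1 D38679 (iv D37371) (iv F173232)
theorem F179178 : act 6 n38679 = n37388 := d41_1 D38679 (iv D37388) (iv F173233)
def n38680 : Q := act 8 n37368
theorem D38680 : act 8 n37368 = n38680 := rfl
theorem F179179 : act 4 n38680 = n37369 := d33_1 D38680 (iv D37369) (iv F173234)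
theorem F179180 : act 6 n38680 = n37389 := d40_1 D38680 (iv D37389) (iv F173235)
def n38681 : Q := act 1 n37370
theorem D38681 : act 1 n37370 = n38681 := rfl
theorem F179181 : act 3 n38681 = n37416 := d10_2 (iv F173238) D38681 (iv D37416)
theorem F179182 : act 6 n38681 = n37390 := d13_2 (iv F173239) D38681 (iv D37390)
theorem F179183 : act 9 n38681 = n37614 := d16_2 F178487 D38681 (iv F178482)
def n38682 : Q := act 3 n37372
theorem D38682 : act 3 n37372 = n38682 := rfl
theorem F179184 : act 1 n38682 = n37379 := d10_1 D38682 (iv D37379) (iv F173242)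
theorem F179185 : act 4 n38682 = n37391 := d24_2 D37372 D38682 (iv D37391) (iv D35876) (iv F166358)
theorem F179186 : act 7 n38682 = n38682 := d27_2 F173243 D38682 (iv D38682)
theorem F179187 : act 8 n38682 = n37381 := d28_2 (iv F173244) D38682 (iv D37381)
def n38683 : Q := act 3 n37373
theorem D38683 : act 3 n37373 = n38683 := rfl
theorem F179188 : act 4 n38683 = n38683 := d24_2 D37373 D38683 (iv D38683) (iv D37373) F166362
theorem F179189 : act 5 n38683 = n37379 := d25_2 (iv F173246) D38683 (iv D37379)
theorem F179190 : act 7 n38683 = n38683 := d27_2 F173247 D38683 (iv D38683)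
def n38684 : Q := act 6 n37373
theorem D38684 : act 6 n37373 = n38684 := rfl
theorem F179191 : act 2 n38684 = n37382 := d20_1 D38684 (iv D37382) (iv F173245)
theorem F179192 : act 4 n38684 = n37374 := d31_1 D38684 (iv D37374) D37373
def n38685 : Q := act 9 n37373
theorem D38685 : act 9 n37373 = n38685 := rfl
theorem F179193 : act 0 n38685 = n37776 := d8_1 D38685 (iv F175275) F175270
theorem F179194 : act 2 n38685 = n37383 := d23_1 D38685 (iv D37383) (iv F173245)
theorem F179195 : act 4 n38685 = n37375 := d34_1 D38685 (iv D37375) D37373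
theorem F179196 : act 5 n38685 = n37380 := d38_1 D38685 (iv D37380) (iv F173246)
theorem F179197 : act 7 n38685 = n38685 := d43_1 D38685 (iv D38685) F173247
theorem F179198 : act 8 n38685 = n37785 := d44_1 D38685 (iv D37785) (iv F174555) (iv F178633) F178632
def n38686 : Q := act 7 n37374
theorem D38686 : act 7 n37374 = n38686 := rfl
theorem F179199 : act 2 n38686 = n37384 := d21_1 D38686 (iv D37384) (iv F173248)
theorem F179200 : act 3 n38686 = n38686 := d27_1 D38686 (iv D38686) F173249
theorem F179201 : act 5 n38686 = n37376 := d36_1 D38686 (iv D37376) (iv F173250)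
theorem F179202 : act 6 n38686 = n38686 := d39_1 D38686 (iv D38686) (iv D37374) F166363 D37374
def n38687 : Q := act 9 n37374
theorem D38687 : act 9 n37374 = n38687 := rfl
theorem F179203 : act 0 n38687 = n37777 := d8_1 D38687 (iv F175281) F175276
theorem F179204 : act 2 n38687 = n37385 := d23_1 D38687 (iv D37385) (iv F173248)
theorem F179205 : act 3 n38687 = n38687 := d29_1 D38687 (iv D38687) F173249
theorem F179206 : act 5 n38687 = n37377 := d38_1 D38687 (iv D37377) (iv F173250)
theorem F179207 : act 6 n38687 = n37375 := d41_1 D38687 (iv D37375) D37374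
theorem F179208 : act 8 n38687 = n37787 := d44_1 D38687 (iv D37787) (iv F174557) (iv F178639) F178638
def n38688 : Q := act 9 n37376
theorem D38688 : act 9 n37376 = n38688 := rfl
theorem F179209 : act 0 n38688 = n37778 := d8_1 D38688 (iv F175288) F175282
theorem F179210 : act 2 n38688 = n37386 := d23_1 D38688 (iv D37386) (iv F173257)
theorem F179211 : act 3 n38688 = n38688 := d29_1 D38688 (iv D38688) F173258
theorem F179212 : act 6 n38688 = n37378 := d41_1 D38688 (iv D37378) (iv F173259)
theorem F179213 : act 7 n38688 = n37377 := d43_1 D38688 (iv D37377) D37376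
def n38689 : Q := act 2 n37379
theorem D38689 : act 2 n37379 = n38689 := rfl
theorem F179214 : act 3 n38689 = n37387 := d17_2 D37379 D38689 (iv D37387) (iv D35871) (iv F166388)
theorem F179215 : act 4 n38689 = n37417 := d18_2 (iv F173270) D38689 (iv D37417)
theorem F179216 : act 7 n38689 = n38689 := d21_2 F173271 D38689 (iv D38689)
theorem F179217 : act 9 n38689 = n37421 := d23_2 (iv F178892) D38689 (iv F178888)
def n38690 : Q := act 2 n37381
theorem D38690 : act 2 n37381 = n38690 := rfl
theorem F179218 : act 4 n38690 = n37394 := d18_2 (iv F173276) D38690 (iv D37394)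
theorem F179219 : act 5 n38690 = n37387 := d19_2 (iv F173277) D38690 (iv D37387)
theorem F179220 : act 7 n38690 = n38690 := d21_2 F173278 D38690 (iv D38690)
def n38691 : Q := act 6 n37381
theorem D38691 : act 6 n37381 = n38691 := rfl
theorem F179221 : act 3 n38691 = n37382 := d26_1 D38691 (iv D37382) D37381
theorem F179222 : act 4 n38691 = n37395 := d31_1 D38691 (iv D37395) (iv F173276)
def n38692 : Q := act 9 n37381
theorem D38692 : act 9 n37381 = n38692 := rfl
theorem F179223 : act 3 n38692 = n37383 := d29_1 D38692 (iv D37383) D37381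
theorem F179224 : act 4 n38692 = n37396 := d34_1 D38692 (iv D37396) (iv F173276)
theorem F179225 : act 5 n38692 = n37388 := d38_1 D38692 (iv D37388) (iv F173277)
theorem F179226 : act 7 n38692 = n38692 := d43_1 D38692 (iv D38692) F173278
def n38693 : Q := act 7 n37382
theorem D38693 : act 7 n37382 = n38693 := rfl
theorem F179227 : act 4 n38693 = n37384 := d32_1 D38693 (iv D37384) (iv F173279)
theorem F179228 : act 6 n38693 = n38693 := d39_1 D38693 (iv D38693) (iv D37382) F166396 D37382
def n38694 : Q := act 9 n37382
theorem D38694 : act 9 n37382 = n38694 := rfl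
theorem F179229 : act 4 n38694 = n37385 := d34_1 D38694 (iv D37385) (iv F173279)
theorem F179230 : act 6 n38694 = n37383 := d41_1 D38694 (iv D37383) D37382
def n38695 : Q := act 9 n37384
theorem D38695 : act 9 n37384 = n38695 := rfl
theorem F179231 : act 3 n38695 = n37399 := d29_1 D38695 (iv D37399) (iv F173283)
theorem F179232 : act 5 n38695 = n37386 := d38_1 D38695 (iv D37386) (iv F173284)
theorem F179233 : act 6 n38695 = n38695 := d41_1 D38695 (iv D38695) F173285
theorem F179234 : act 7 n38695 = n37385 := d43_1 D38695 (iv D37385) D37384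
def n38696 : Q := act 1 n37387
theorem D38696 : act 1 n37387 = n38696 := rfl
theorem F179235 : act 4 n38696 = n37390 := d11_2 (iv F173292) D38696 (iv D37390)
theorem F179236 : act 7 n38696 = n38696 := d14_2 F173293 D38696 (iv D38696)
theorem F179237 : act 9 n38696 = n37613 := d16_2 (iv F178581) D38696 (iv F178576)
def n38697 : Q := act 2 n37391
theorem D38697 : act 2 n37391 = n38697 := rfl
theorem F179238 : act 3 n38697 = n38697 := d17_2 D37391 D38697 (iv D38697) (iv D37391) F166424
theorem F179239 : act 5 n38697 = n38697 := d19_2 F173304 D38697 (iv D38697)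
theorem F179240 : act 7 n38697 = n38697 := d21_2 F173305 D38697 (iv D38697)
theorem F179241 : act 8 n38697 = n37394 := d22_2 (iv F173306) D38697 (iv D37394)
def n38698 : Q := act 6 n37391
theorem D38698 : act 6 n37391 = n38698 := rfl
theorem F179242 : act 1 n38698 = n37415 := d13_1 D38698 F173383 (iv F173303)
theorem F179243 : act 3 n38698 = n37392 := d26_1 D38698 (iv D37392) D37391
theorem F179244 : act 8 n38698 = n37395 := d40_2 (iv F173306) D38698 (iv D37395)
def n38699 : Q := act 7 n37392
theorem D38699 : act 7 n37392 = n38699 := rfl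
theorem F179245 : act 1 n38699 = n37405 := d14_1 D38699 F173358 (iv F173307)
theorem F179246 : act 2 n38699 = n38699 := d21_1 D38699 (iv D38699) F173308
theorem F179247 : act 4 n38699 = n37393 := d32_1 D38699 (iv D37393) (iv F173309)
theorem F179248 : act 5 n38699 = n37691 := d36_1 D38699 (iv F179043) F179041
theorem F179249 : act 6 n38699 = n38699 := d39_1 D38699 (iv D38699) (iv D37392) F166426 D37392
theorem F179250 : act 8 n38699 = n37397 := d42_2 (iv F173310) D38699 (iv D37397)
theorem F179251 : act 9 n38699 = n37494 := d43_2 F177421 D38699 (iv F177419)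
def n38700 : Q := act 6 n37394
theorem D38700 : act 6 n37394 = n38700 := rfl
theorem F179252 : act 2 n38700 = n37395 := d20_1 D38700 (iv D37395) D37394
theorem F179253 : act 3 n38700 = n38700 := d26_1 D38700 (iv D38700) F173317
def n38701 : Q := act 7 n37395
theorem D38701 : act 7 n37395 = n38701 := rfl
theorem F179254 : act 3 n38701 = n37397 := d27_1 D38701 (iv D37397) (iv F173320)
theorem F179255 : act 6 n38701 = n38701 := d39_1 D38701 (iv D38701) (iv D37395) F166433 D37395
def n38702 : Q := act 9 n37395
theorem D38702 : act 9 n37395 = n38702 := rfl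
theorem F179256 : act 3 n38702 = n37398 := d29_1 D38702 (iv D37398) (iv F173320)
theorem F179257 : act 6 n38702 = n37396 := d41_1 D38702 (iv D37396) D37395
def n38703 : Q := act 6 n37400
theorem D38703 : act 6 n37400 = n38703 := rfl
theorem F179258 : act 2 n38703 = n37401 := d20_1 D38703 (iv D37401) (iv F173334)
theorem F179259 : act 3 n38703 = n38703 := d26_1 D38703 (iv D38703) F173335
theorem F179260 : act 7 n38703 = n37406 := d39_2 D37400 D38703 (iv D37406) (iv D35899) (iv F166483)
theorem F179261 : act 8 n38703 = n37679 := d40_2 (iv F173337) D38703 F174329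
theorem F179262 : act 9 n38703 = n37600 := d41_2 (iv F173338) D38703 F174070
def n38704 : Q := act 5 n37401
theorem D38704 : act 5 n37401 = n38704 := rfl
theorem F179263 : act 1 n38704 = n37403 := d12_1 D38704 (iv D37403) (iv F173339)
theorem F179264 : act 3 n38704 = n37402 := d25_1 D38704 (iv D37402) (iv F173340)
theorem F179265 : act 6 n38704 = n38704 := d35_2 D37401 D38704 (iv D38704) (iv D37401) F166488
theorem F179266 : act 7 n38704 = n37407 := d36_2 (iv F173341) D38704 (iv D37407)
theorem F179267 : act 9 n38704 = n37669 := d38_2 (iv F173343) D38704 (iv D37669)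
def n38705 : Q := act 8 n37402
theorem D38705 : act 8 n37402 = n38705 := rfl
theorem F179268 : act 1 n38705 = n37404 := d15_1 D38705 (iv D37404) (iv F173344)
theorem F179269 : act 2 n38705 = n38705 := d22_1 D38705 (iv D38705) F173345
theorem F179270 : act 4 n38705 = n37617 := d33_1 D38705 F174123 (iv F173346)
theorem F179271 : act 5 n38705 = n37692 := d37_1 D38705 (iv D37692) F167763 (iv F166495) D37402
theorem F179272 : act 6 n38705 = n38705 := d40_1 D38705 (iv D38705) F173347
theorem F179273 : act 7 n38705 = n37408 := d42_1 D38705 (iv D37408) (iv F173348)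
def n38706 : Q := act 4 n37403
theorem D38706 : act 4 n37403 = n38706 := rfl
theorem F179274 : act 6 n38706 = n38706 := d31_2 F173351 D38706 (iv D38706)
theorem F179275 : act 7 n38706 = n37409 := d32_2 (iv F173352) D38706 (iv D37409)
def n38707 : Q := act 8 n37403
theorem D38707 : act 8 n37403 = n38707 := rfl
theorem F179276 : act 3 n38707 = n37404 := d28_1 D38707 (iv D37404) (iv F173350)
theorem F179277 : act 6 n38707 = n38707 := d40_1 D38707 (iv D38707) F173351
theorem F179278 : act 7 n38707 = n37410 := d42_1 D38707 (iv D37410) (iv F173352)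
def n38708 : Q := act 3 n37405
theorem D38708 : act 3 n37405 = n38708 := rfl
theorem F179279 : act 6 n38708 = n38708 := d26_2 F173357 D38708 (iv D38708)
theorem F179280 : act 7 n38708 = n37415 := d27_2 (iv F173358) D38708 (iv D37415)
def n38709 : Q := act 5 n37406
theorem D38709 : act 5 n37406 = n38709 := rfl
theorem F179281 : act 2 n38709 = n37407 := d19_1 D38709 (iv D37407) (iv F173359)
theorem F179282 : act 3 n38709 = n38709 := d25_1 D38709 (iv D38709) F173360
theorem F179283 : act 6 n38709 = n37418 := d35_2 D37406 D38709 (iv D37418) (iv D35915) (iv F166519)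
theorem F179284 : act 9 n38709 = n37599 := d38_2 (iv F173361) D38709 F174067
def n38710 : Q := act 4 n37407
theorem D38710 : act 4 n37407 = n38710 := rfl
theorem F179285 : act 1 n38710 = n37409 := d11_1 D38710 (iv D37409) (iv F173362)
theorem F179286 : act 3 n38710 = n37615 := d24_1 D38710 F174117 F167314 (iv F166525) (iv F173363)
theorem F179287 : act 6 n38710 = n37419 := d31_2 (iv F173364) D38710 (iv D37419)
def n38711 : Q := act 8 n37407
theorem D38711 : act 8 n37407 = n38711 := rfl
theorem F179288 : act 1 n38711 = n37410 := d15_1 D38711 (iv D37410) (iv F173362)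
theorem F179289 : act 3 n38711 = n37408 := d28_1 D38711 (iv D37408) (iv F173363)
theorem F179290 : act 6 n38711 = n37420 := d40_1 D38711 (iv D37420) (iv F173364)
def n38712 : Q := act 8 n37409
theorem D38712 : act 8 n37409 = n38712 := rfl
theorem F179291 : act 4 n38712 = n37410 := d33_1 D38712 (iv D37410) D37409
theorem F179292 : act 6 n38712 = n37421 := d40_1 D38712 (iv D37421) (iv F173369)
def n38713 : Q := act 5 n37410
theorem D38713 : act 5 n37410 = n38713 := rfl
theorem F179293 : act 3 n38713 = n37412 := d25_1 D38713 (iv D37412) (iv F173370)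
theorem F179294 : act 6 n38713 = n38713 := d35_2 (iv F173371) D38713 (iv D38713) F173371 F166579
theorem F179295 : act 8 n38713 = n37411 := d37_2 D37410 D38713 (iv D37411) (iv D35903) D35902
def n38714 : Q := act 9 n37410
theorem D38714 : act 9 n37410 = n38714 := rfl
theorem F179296 : act 2 n38714 = n37415 := d23_1 D38714 F178875 F178872
theorem F179297 : act 3 n38714 = n37413 := d29_1 D38714 (iv D37413) (iv F173370)
theorem F179298 : act 6 n38714 = n37417 := d41_1 D38714 F173390 (iv F173371)
def n38715 : Q := act 4 n37411
theorem D38715 : act 4 n37411 = n38715 := rfl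
theorem F179299 : act 6 n38715 = n38715 := d31_2 F173373 D38715 (iv D38715)
def n38716 : Q := act 3 n37414
theorem D38716 : act 3 n37414 = n38716 := rfl
theorem F179300 : act 5 n38716 = n37415 := d25_2 (iv F173381) D38716 (iv D37415)
theorem F179301 : act 6 n38716 = n38716 := d26_2 F173382 D38716 (iv D38716)
def n38717 : Q := act 4 n37418
theorem D38717 : act 4 n37418 = n38717 := rfl
theorem F179302 : act 2 n38717 = n37419 := d18_1 D38717 (iv D37419) (iv F173391)
theorem F179303 : act 5 n38717 = n37602 := d30_2 D37418 D38717 F174077 F167266 (iv F166564)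
theorem F179304 : act 7 n38717 = n38717 := d32_2 F173393 D38717 (iv D38717)
theorem F179305 : act 9 n38717 = n37598 := d34_2 (iv F173394) D38717 (iv D37598)
def n38718 : Q := act 8 n37418
theorem D38718 : act 8 n37418 = n38718 := rfl
theorem F179306 : act 2 n38718 = n37420 := d22_1 D38718 (iv D37420) (iv F173391)
theorem F179307 : act 3 n38718 = n38718 := d28_1 D38718 (iv D38718) F173392
theorem F179308 : act 5 n38718 = n38718 := d37_1 D38718 (iv D38718) (iv D37418) F166566 D37418
theorem F179309 : act 7 n38718 = n38718 := d42_1 D38718 (iv D38718) F173393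
def n38719 : Q := act 8 n37419
theorem D38719 : act 8 n37419 = n38719 := rfl
theorem F179310 : act 1 n38719 = n37421 := d15_1 D38719 (iv D37421) (iv F173395)
theorem F179311 : act 3 n38719 = n37613 := d28_1 D38719 F174114 (iv F173396)
theorem F179312 : act 4 n38719 = n37420 := d33_1 D38719 (iv D37420) D37419
theorem F179313 : act 7 n38719 = n38719 := d42_1 D38719 (iv D38719) F173398
def n38720 : Q := act 5 n37421
theorem D38720 : act 5 n37421 = n38720 := rfl
theorem F179314 : act 4 n38720 = n38720 := d30_1 D38720 (iv D38720) F173403 F166579 (iv F173403)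
theorem F179315 : act 7 n38720 = n38720 := d36_2 F173404 D38720 (iv D38720)
theorem F179316 : act 8 n38720 = n37774 := d37_2 D37421 D38720 (iv D37774) (iv D36335) (iv F166576)
def n38721 : Q := act 6 n37422
theorem D38721 : act 6 n37422 = n38721 := rfl
theorem F179317 : act 1 n38721 = n37424 := d13_1 D38721 (iv D37424) (iv F173405)
theorem F179318 : act 4 n38721 = n37423 := d31_1 D38721 (iv D37423) (iv F173406)
def n38722 : Q := act 5 n37424
theorem D38722 : act 5 n37424 = n38722 := rfl
theorem F179319 : act 0 n38722 = n37467 := d4_1 D38722 (iv D37467) (iv F173409)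
theorem F179320 : act 2 n38722 = n37425 := d19_1 D38722 (iv D37425) (iv F173410)
def n38723 : Q := act 8 n37425
theorem D38723 : act 8 n37425 = n38723 := rfl
theorem F179321 : act 0 n38723 = n37470 := d7_1 D38723 (iv D37470) (iv F173412)
theorem F179322 : act 3 n38723 = n37641 := d28_1 D38723 (iv D37641) (iv F173413)
def n38724 : Q := act 6 n37426
theorem D38724 : act 6 n37426 = n38724 := rfl
theorem F179323 : act 1 n38724 = n37428 := d13_1 D38724 (iv D37428) (iv F173414)
theorem F179324 : act 2 n38724 = n37498 := d20_1 D38724 (iv D37498) (iv F173415)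
theorem F179325 : act 3 n38724 = n37737 := d26_1 D38724 F174467 (iv F173416)
theorem F179326 : act 4 n38724 = n37427 := d31_1 D38724 (iv D37427) (iv F173417)
theorem F179327 : act 7 n38724 = n37463 := d39_2 D37426 D38724 (iv D37463) (iv D35967) (iv F166612)
theorem F179328 : act 8 n38724 = n37756 := d40_2 (iv F173418) D38724 F174502
theorem F179329 : act 9 n38724 = n37530 := d41_2 (iv F173419) D38724 (iv D37530)
def n38725 : Q := act 5 n37428
theorem D38725 : act 5 n37428 = n38725 := rfl
theorem F179330 : act 2 n38725 = n37430 := d19_1 D38725 (iv D37430) (iv F173427)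
theorem F179331 : act 4 n38725 = n37550 := d30_1 D38725 (iv D37550) F167119 (iv F166626) (iv F173428)
theorem F179332 : act 7 n38725 = n37467 := d36_2 (iv F173429) D38725 (iv D37467)
theorem F179333 : act 9 n38725 = n37532 := d38_2 (iv F173430) D38725 (iv D37532)
def n38726 : Q := act 5 n37429
theorem D38726 : act 5 n37429 = n38726 := rfl
theorem F179334 : act 1 n38726 = n37773 := d12_1 D38726 F174532 (iv F173431)
theorem F179335 : act 2 n38726 = n37432 := d19_1 D38726 (iv D37432) (iv F173432)
theorem F179336 : act 3 n38726 = n37627 := d25_1 D38726 (iv D37627) (iv F173433)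
theorem F179337 : act 6 n38726 = n38726 := d35_2 (iv F173434) D38726 (iv D38726) F173434 F166632
theorem F179338 : act 7 n38726 = n37469 := d36_2 (iv F173435) D38726 (iv D37469)
theorem F179339 : act 8 n38726 = n37553 := d37_2 D37429 D38726 (iv D37553) (iv D36056) (iv F166626)
theorem F179340 : act 9 n38726 = n37731 := d38_2 (iv F173436) D38726 F174455
def n38727 : Q := act 8 n37430
theorem D38727 : act 8 n37430 = n38727 := rfl
theorem F179341 : act 1 n38727 = n37511 := d15_1 D38727 (iv D37511) (iv F173437)
theorem F179342 : act 3 n38727 = n37643 := d28_1 D38727 (iv D37643) (iv F173438)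
theorem F179343 : act 4 n38727 = n37555 := d33_1 D38727 (iv D37555) (iv F173439)
theorem F179344 : act 7 n38727 = n37470 := d42_1 D38727 (iv D37470) (iv F173440)
def n38728 : Q := act 5 n37431
theorem D38728 : act 5 n37431 = n38728 := rfl
theorem F179345 : act 1 n38728 = n37512 := d12_1 D38728 (iv D37512) (iv F173442)
theorem F179346 : act 3 n38728 = n37644 := d25_1 D38728 (iv D37644) (iv F173443)
theorem F179347 : act 7 n38728 = n37471 := d36_2 (iv F173446) D38728 (iv D37471)
def n38729 : Q := act 4 n37432
theorem D38729 : act 4 n37432 = n38729 := rfl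
theorem F179348 : act 1 n38729 = n37518 := d11_1 D38729 (iv D37518) (iv F173447)
theorem F179349 : act 3 n38729 = n37769 := d24_1 D38729 (iv D37769) F167977 (iv F166650) (iv F173448)
theorem F179350 : act 6 n38729 = n38729 := d31_2 F173449 D38729 (iv D38729)
theorem F179351 : act 7 n38729 = n37472 := d32_2 (iv F173450) D38729 (iv D37472)
theorem F179352 : act 8 n38729 = n37562 := d33_2 (iv F173451) D38729 (iv D37562)
def n38730 : Q := act 6 n37433
theorem D38730 : act 6 n37433 = n38730 := rfl
theorem F179353 : act 1 n38730 = n37436 := d13_1 D38730 (iv D37436) (iv F173452)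
theorem F179354 : act 2 n38730 = n37530 := d20_1 D38730 (iv D37530) (iv F173453)
theorem F179355 : act 3 n38730 = n37551 := d26_1 D38730 F173933 (iv F173454)
theorem F179356 : act 4 n38730 = n37434 := d31_1 D38730 (iv D37434) (iv F173455)
theorem F179357 : act 7 n38730 = n37547 := d39_2 D37433 D38730 (iv D37547) (iv D36049) (iv F166657)
theorem F179358 : act 8 n38730 = n37549 := d40_2 (iv F173456) D38730 (iv D37549)
theorem F179359 : act 9 n38730 = n37498 := d41_2 (iv F173457) D38730 (iv D37498)
def n38731 : Q := act 6 n37435
theorem D38731 : act 6 n37435 = n38731 := rfl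
theorem F179360 : act 1 n38731 = n37551 := d13_1 D38731 F173933 (iv F173465)
theorem F179361 : act 2 n38731 = n37695 := d20_1 D38731 (iv D37695) (iv F173466)
theorem F179362 : act 3 n38731 = n37436 := d26_1 D38731 (iv D37436) (iv F173467)
theorem F179363 : act 4 n38731 = n37548 := d31_1 D38731 F173922 (iv F173468)
theorem F179364 : act 7 n38731 = n37549 := d39_2 D37435 D38731 (iv D37549) (iv D36052) (iv F166669)
theorem F179365 : act 8 n38731 = n37547 := d40_2 (iv F173469) D38731 (iv D37547)
theorem F179366 : act 9 n38731 = n37501 := d41_2 (iv F173470) D38731 (iv D37501)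
def n38732 : Q := act 5 n37436
theorem D38732 : act 5 n37436 = n38732 := rfl
theorem F179367 : act 2 n38732 = n37439 := d19_1 D38732 (iv D37439) (iv F173471)
theorem F179368 : act 4 n38732 = n37467 := d30_1 D38732 (iv D37467) F166832 (iv F166683) (iv F173472)
theorem F179369 : act 7 n38732 = n37550 := d36_2 (iv F173473) D38732 (iv D37550)
theorem F179370 : act 9 n38732 = n37503 := d38_2 (iv F173474) D38732 (iv D37503)
def n38733 : Q := act 8 n37436
theorem D38733 : act 8 n37436 = n38733 := rfl
theorem F179371 : act 1 n38733 = n37549 := d15_1 D38733 (iv F179358) F179353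
theorem F179372 : act 2 n38733 = n37440 := d22_1 D38733 (iv D37440) (iv F173471)
theorem F179373 : act 3 n38733 = n37547 := d28_1 D38733 (iv F179365) F179362
theorem F179374 : act 4 n38733 = n37438 := d33_1 D38733 (iv D37438) (iv F173472)
theorem F179375 : act 6 n38733 = n37437 := d40_1 D38733 (iv D37437) D37436
theorem F179376 : act 7 n38733 = n37551 := d42_1 D38733 (iv D37551) (iv F173473)
theorem F179377 : act 9 n37571 = n38733 := d41_0 F179375 (iv F173480) D37571
def n38734 : Q := act 5 n37438
theorem D38734 : act 5 n37438 = n38734 := rfl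
theorem F179378 : act 1 n38734 = n37629 := d12_1 D38734 (iv D37629) (iv F173481)
theorem F179379 : act 2 n38734 = n37444 := d19_1 D38734 (iv D37444) (iv F173482)
theorem F179380 : act 3 n38734 = n37621 := d25_1 D38734 (iv D37621) (iv F173483)
theorem F179381 : act 6 n38734 = n37473 := d35_2 (iv F173484) D38734 (iv D37473) F166852 (iv F166689)
theorem F179382 : act 7 n38734 = n37553 := d36_2 (iv F173485) D38734 (iv D37553)
theorem F179383 : act 8 n38734 = n37469 := d37_2 D37438 D38734 (iv D37469) (iv D35974) (iv F166683)
theorem F179384 : act 9 n38734 = n37632 := d38_2 F173486 D38734 (iv D37632)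
def n38735 : Q := act 8 n37439
theorem D38735 : act 8 n37439 = n38735 := rfl
theorem F179385 : act 1 n38735 = n37535 := d15_1 D38735 (iv D37535) (iv F173487)
theorem F179386 : act 3 n38735 = n37701 := d28_1 D38735 (iv D37701) (iv F173488)
theorem F179387 : act 4 n38735 = n37470 := d33_1 D38735 (iv D37470) (iv F173489)
theorem F179388 : act 7 n38735 = n37555 := d42_1 D38735 (iv D37555) (iv F173490)
def n38736 : Q := act 5 n37440
theorem D38736 : act 5 n37440 = n38736 := rfl
theorem F179389 : act 1 n38736 = n37536 := d12_1 D38736 (iv D37536) (iv F173492)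
theorem F179390 : act 3 n38736 = n37702 := d25_1 D38736 (iv D37702) (iv F173493)
theorem F179391 : act 7 n38736 = n37556 := d36_2 (iv F173496) D38736 (iv D37556)
def n38737 : Q := act 9 n37440
theorem D38737 : act 9 n37440 = n38737 := rfl
theorem F179392 : act 1 n38737 = n37537 := d16_1 D38737 (iv D37537) (iv F173492)
theorem F179393 : act 2 n38737 = n37571 := d23_1 D38737 F179377 F179372
theorem F179394 : act 3 n38737 = n37703 := d29_1 D38737 (iv D37703) (iv F173493)
theorem F179395 : act 4 n38737 = n37445 := d34_1 D38737 (iv D37445) (iv F173494)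
theorem F179396 : act 6 n38737 = n37442 := d41_1 D38737 (iv D37442) (iv F173495)
theorem F179397 : act 7 n38737 = n37557 := d43_1 D38737 (iv D37557) (iv F173496)
theorem F179398 : act 8 n38737 = n37513 := d44_1 D38737 (iv D37513) (iv D36016) (iv F166696) D37440
def n38738 : Q := act 6 n37441
theorem D38738 : act 6 n37441 = n38738 := rfl
theorem F179399 : act 1 n38738 = n37538 := d13_1 D38738 (iv D37538) (iv F173497)
theorem F179400 : act 3 n38738 = n37704 := d26_1 D38738 (iv D37704) (iv F173498)
theorem F179401 : act 4 n38738 = n37475 := d31_1 D38738 (iv D37475) (iv F173499)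
def n38739 : Q := act 7 n37443
theorem D38739 : act 7 n37443 = n38739 := rfl
theorem F179402 : act 1 n38739 = n37539 := d14_1 D38739 (iv D37539) (iv F173507)
theorem F179403 : act 3 n38739 = n37706 := d27_1 D38739 (iv D37706) (iv F173508)
theorem F179404 : act 4 n38739 = n37476 := d32_1 D38739 (iv D37476) (iv F173509)
theorem F179405 : act 5 n38739 = n37560 := d36_1 D38739 (iv D37560) (iv F173510)
theorem F179406 : act 8 n38739 = n37662 := d42_2 (iv F173511) D38739 (iv D37662)
def n38740 : Q := act 4 n37444
theorem D38740 : act 4 n37444 = n38740 := rfl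
theorem F179407 : act 1 n38740 = n37540 := d11_1 D38740 (iv D37540) (iv F173512)
theorem F179408 : act 3 n38740 = n37771 := d24_1 D38740 F174528 F168002 F166725 (iv F173513)
theorem F179409 : act 6 n38740 = n37477 := d31_2 (iv F173514) D38740 (iv D37477)
theorem F179410 : act 7 n38740 = n37562 := d32_2 (iv F173515) D38740 (iv D37562)
theorem F179411 : act 8 n38740 = n37472 := d33_2 (iv F173516) D38740 (iv D37472)
def n38741 : Q := act 9 n37444
theorem D38741 : act 9 n37444 = n38741 := rfl
theorem F179412 : act 1 n38741 = n37541 := d16_1 D38741 (iv D37541) (iv F173512)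
theorem F179413 : act 2 n38741 = n37632 := d23_1 D38741 (iv F179384) F179379
theorem F179414 : act 3 n38741 = n37446 := d29_1 D38741 (iv D37446) (iv F173513)
theorem F179415 : act 5 n38741 = n37445 := d38_1 D38741 (iv D37445) D37444
theorem F179416 : act 6 n38741 = n37478 := d41_1 D38741 (iv D37478) (iv F173514)
theorem F179417 : act 7 n38741 = n37563 := d43_1 D38741 (iv D37563) (iv F173515)
def n38742 : Q := act 6 n37447
theorem D38742 : act 6 n37447 = n38742 := rfl
theorem F179418 : act 1 n38742 = n37450 := d13_1 D38742 (iv D37450) (iv F173529)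
theorem F179419 : act 2 n38742 = n37547 := d20_1 D38742 (iv D37547) (iv F173530)
theorem F179420 : act 3 n38742 = n37697 := d26_1 D38742 F174369 (iv F173531)
theorem F179421 : act 4 n38742 = n37448 := d31_1 D38742 (iv D37448) (iv F173532)
theorem F179422 : act 7 n38742 = n37530 := d39_2 D37447 D38742 (iv D37530) (iv D36032) (iv F166741)
theorem F179423 : act 8 n38742 = n37695 := d40_2 (iv F173533) D38742 (iv D37695)
theorem F179424 : act 9 n38742 = n37463 := d41_2 (iv F173534) D38742 (iv D37463)
def n38743 : Q := act 6 n37449
theorem D38743 : act 6 n37449 = n38743 := rfl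
theorem F179425 : act 1 n38743 = n37697 := d13_1 D38743 F174369 (iv F173542)
theorem F179426 : act 2 n38743 = n37650 := d20_1 D38743 (iv D37650) (iv F173543)
theorem F179427 : act 3 n38743 = n37450 := d26_1 D38743 (iv D37450) (iv F173544)
theorem F179428 : act 4 n38743 = n37618 := d31_1 D38743 (iv D37618) (iv F173545)
theorem F179429 : act 7 n38743 = n37531 := d39_2 D37449 D38743 (iv D37531) (iv D36034) (iv F166753)
theorem F179430 : act 8 n38743 = n37694 := d40_2 (iv F173546) D38743 (iv D37694)
theorem F179431 : act 9 n38743 = n37466 := d41_2 (iv F173547) D38743 (iv D37466)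
def n38744 : Q := act 5 n37450
theorem D38744 : act 5 n37450 = n38744 := rfl
theorem F179432 : act 2 n38744 = n37454 := d19_1 D38744 (iv D37454) (iv F173548)
theorem F179433 : act 4 n38744 = n37503 := d30_1 D38744 (iv D37503) F166962 (iv F166767) (iv F173549)
theorem F179434 : act 7 n38744 = n37532 := d36_2 (iv F173550) D38744 (iv D37532)
theorem F179435 : act 9 n38744 = n37467 := d38_2 (iv F173551) D38744 (iv D37467)
def n38745 : Q := act 8 n37450
theorem D38745 : act 8 n37450 = n38745 := rfl
theorem F179436 : act 1 n38745 = n37695 := d15_1 D38745 (iv F179423) F179418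
theorem F179437 : act 2 n38745 = n37455 := d22_1 D38745 (iv D37455) (iv F173548)
theorem F179438 : act 3 n38745 = n37694 := d28_1 D38745 (iv F179430) F179427
theorem F179439 : act 4 n38745 = n37453 := d33_1 D38745 (iv D37453) (iv F173549)
theorem F179440 : act 6 n38745 = n37451 := d40_1 D38745 (iv D37451) D37450
theorem F179441 : act 7 n38745 = n37533 := d42_1 D38745 (iv D37533) (iv F173550)
theorem F179442 : act 9 n38745 = n37712 := d44_2 (iv F173551) D38745 (iv F174620) F174621 (iv D37468)
def n38746 : Q := act 5 n37451
theorem D38746 : act 5 n37451 = n38746 := rfl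
theorem F179443 : act 1 n38746 = n37664 := d12_1 D38746 F174289 (iv F173552)
theorem F179444 : act 2 n38746 = n37456 := d19_1 D38746 (iv D37456) (iv F173553)
theorem F179445 : act 3 n38746 = n37662 := d25_1 D38746 F174281 (iv F173554)
theorem F179446 : act 4 n38746 = n38746 := d30_1 D38746 (iv D38746) F173555 F166773 (iv F173555)
theorem F179447 : act 7 n38746 = n37452 := d36_2 (iv F173556) D38746 (iv D37452)
theorem F179448 : act 8 n38746 = n37706 := d37_2 D37451 D38746 F174395 (iv F171308) F171307
theorem F179449 : act 9 n38746 = n37670 := d38_2 (iv F173557) D38746 F174306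
def n38747 : Q := act 5 n37453
theorem D38747 : act 5 n37453 = n38747 := rfl
theorem F179450 : act 1 n38747 = n37768 := d12_1 D38747 (iv D37768) (iv F173565)
theorem F179451 : act 2 n38747 = n37458 := d19_1 D38747 (iv D37458) (iv F173566)
theorem F179452 : act 3 n38747 = n37521 := d25_1 D38747 F173820 (iv F173567)
theorem F179453 : act 6 n38747 = n38747 := d35_2 (iv F173568) D38747 (iv D38747) F173568 F166773
theorem F179454 : act 7 n38747 = n37534 := d36_2 (iv F173569) D38747 (iv D37534)
theorem F179455 : act 8 n38747 = n37509 := d37_2 D37453 D38747 (iv D37509) (iv D36013) (iv F166767)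
theorem F179456 : act 9 n38747 = n37520 := d38_2 (iv F173570) D38747 F173814
def n38748 : Q := act 8 n37454
theorem D38748 : act 8 n37454 = n38748 := rfl
theorem F179457 : act 1 n38748 = n37555 := d15_1 D38748 (iv D37555) (iv F173571)
theorem F179458 : act 3 n38748 = n37652 := d28_1 D38748 (iv D37652) (iv F173572)
theorem F179459 : act 4 n38748 = n37511 := d33_1 D38748 (iv D37511) (iv F173573)
theorem F179460 : act 7 n38748 = n37535 := d42_1 D38748 (iv D37535) (iv F173574)
def n38749 : Q := act 5 n37455
theorem D38749 : act 5 n37455 = n38749 := rfl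
theorem F179461 : act 1 n38749 = n37556 := d12_1 D38749 (iv D37556) (iv F173576)
theorem F179462 : act 3 n38749 = n37653 := d25_1 D38749 (iv D37653) (iv F173577)
theorem F179463 : act 7 n38749 = n37536 := d36_2 (iv F173580) D38749 (iv D37536)
def n38750 : Q := act 6 n37456
theorem D38750 : act 6 n37456 = n38750 := rfl
theorem F179464 : act 1 n38750 = n37558 := d13_1 D38750 (iv D37558) (iv F173581)
theorem F179465 : act 3 n38750 = n37654 := d26_1 D38750 (iv D37654) (iv F173582)
theorem F179466 : act 4 n38750 = n38750 := d31_1 D38750 (iv D38750) F173583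
def n38751 : Q := act 7 n37457
theorem D38751 : act 7 n37457 = n38751 := rfl
theorem F179467 : act 1 n38751 = n37560 := d14_1 D38751 (iv D37560) (iv F173585)
theorem F179468 : act 2 n38751 = n37668 := d21_1 D38751 F174299 (iv F173586)
theorem F179469 : act 3 n38751 = n37655 := d27_1 D38751 (iv D37655) (iv F173587)
theorem F179470 : act 4 n38751 = n38751 := d32_1 D38751 (iv D38751) F173588
theorem F179471 : act 5 n38751 = n37539 := d36_1 D38751 (iv D37539) (iv F173589)
theorem F179472 : act 8 n38751 = n37698 := d42_2 (iv F173590) D38751 F174373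
def n38752 : Q := act 4 n37458
theorem D38752 : act 4 n37458 = n38752 := rfl
theorem F179473 : act 1 n38752 = n37562 := d11_1 D38752 (iv D37562) (iv F173591)
theorem F179474 : act 6 n38752 = n38752 := d31_2 F173593 D38752 (iv D38752)
theorem F179475 : act 7 n38752 = n37540 := d32_2 (iv F173594) D38752 (iv D37540)
theorem F179476 : act 8 n38752 = n37518 := d33_2 (iv F173595) D38752 (iv D37518)
def n38753 : Q := act 3 n37459
theorem D38753 : act 3 n37459 = n38753 := rfl
theorem F179477 : act 1 n38753 = n37564 := d10_1 D38753 (iv D37564) (iv F173596)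
theorem F179478 : act 5 n38753 = n37657 := d25_2 (iv F173598) D38753 (iv D37657)
theorem F179479 : act 6 n38753 = n38753 := d26_2 F173599 D38753 (iv D38753)
theorem F179480 : act 7 n38753 = n37542 := d27_2 (iv F173600) D38753 (iv D37542)
theorem F179481 : act 8 n38753 = n37520 := d28_2 (iv F173601) D38753 (iv D37520)
def n38754 : Q := act 6 n37460
theorem D38754 : act 6 n37460 = n38754 := rfl
theorem F179482 : act 0 n38754 = n37463 := d5_1 D38754 (iv D37463) (iv F173602)
theorem F179483 : act 2 n38754 = n37568 := d20_1 D38754 (iv D37568) (iv F173603)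
theorem F179484 : act 4 n38754 = n37461 := d31_1 D38754 (iv D37461) (iv F173604)
def n38755 : Q := act 6 n37462
theorem D38755 : act 6 n37462 = n38755 := rfl
theorem F179485 : act 1 n38755 = n37466 := d13_1 D38755 (iv D37466) (iv F173608)
theorem F179486 : act 2 n38755 = n37703 := d20_1 D38755 F174387 (iv F173609)
theorem F179487 : act 3 n38755 = n37463 := d26_1 D38755 (iv D37463) (iv F173610)
theorem F179488 : act 4 n38755 = n37700 := d31_1 D38755 F174381 (iv F173611)
theorem F179489 : act 7 n38755 = n37737 := d39_2 D37462 D38755 F174467 F167903 (iv F166806)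
theorem F179490 : act 8 n38755 = n37718 := d40_2 (iv F173612) D38755 F174431
theorem F179491 : act 9 n38755 = n37697 := d41_2 (iv F173613) D38755 F174369
def n38756 : Q := act 5 n37463
theorem D38756 : act 5 n37463 = n38756 := rfl
theorem F179492 : act 1 n38756 = n37467 := d12_1 D38756 (iv D37467) (iv F173614)
theorem F179493 : act 2 n38756 = n37572 := d19_1 D38756 (iv D37572) (iv F173615)
def n38757 : Q := act 8 n37463
theorem D38757 : act 8 n37463 = n38757 := rfl
theorem F179494 : act 1 n38757 = n37468 := d15_1 D38757 (iv D37468) (iv F173614)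
theorem F179495 : act 2 n38757 = n37573 := d22_1 D38757 (iv D37573) (iv F173615)
theorem F179496 : act 3 n38757 = n37718 := d28_1 D38757 (iv F179490) F179487
theorem F179497 : act 4 n38757 = n37465 := d33_1 D38757 (iv D37465) (iv F173616)
theorem F179498 : act 6 n38757 = n37464 := d40_1 D38757 (iv D37464) D37463
theorem F179499 : act 7 n38757 = n37756 := d42_1 D38757 (iv F179328) F179327
theorem F179500 : act 9 n38757 = n37715 := d44_2 F179424 D38757 (iv D37715) (iv F174363) (iv F179423)
def n38758 : Q := act 5 n37466
theorem D38758 : act 5 n37466 = n38758 := rfl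
theorem F179501 : act 2 n38758 = n37658 := d19_1 D38758 (iv D37658) (iv F173629)
theorem F179502 : act 3 n38758 = n37467 := d25_1 D38758 (iv D37467) (iv F173630)
def n38759 : Q := act 8 n37467
theorem D38759 : act 8 n37467 = n38759 := rfl
theorem F179503 : act 2 n38759 = n37470 := d22_1 D38759 (iv D37470) (iv F173633)
def n38760 : Q := act 5 n37468
theorem D38760 : act 5 n37468 = n38760 := rfl
theorem F179504 : act 2 n38760 = n37471 := d19_1 D38760 (iv D37471) (iv F173634)
theorem F179505 : act 3 n38760 = n37726 := d25_1 D38760 (iv D37726) (iv F173635)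
def n38761 : Q := act 4 n37469
theorem D38761 : act 4 n37469 = n38761 := rfl
theorem F179506 : act 2 n38761 = n37472 := d18_1 D38761 (iv D37472) (iv F173638)
theorem F179507 : act 6 n38761 = n37479 := d31_2 (iv F173640) D38761 (iv D37479)
def n38762 : Q := act 5 n37470
theorem D38762 : act 5 n37470 = n38762 := rfl
theorem F179508 : act 1 n38762 = n37588 := d12_1 D38762 (iv D37588) (iv F173641)
theorem F179509 : act 3 n38762 = n37660 := d25_1 D38762 (iv D37660) (iv F173642)
theorem F179510 : act 8 n38762 = n37471 := d37_2 D37470 D38762 (iv D37471) (iv D35976) D35975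
def n38763 : Q := act 9 n37470
theorem D38763 : act 9 n37470 = n38763 := rfl
theorem F179511 : act 1 n38763 = n37589 := d16_1 D38763 (iv D37589) (iv F173641)
theorem F179512 : act 3 n38763 = n37661 := d29_1 D38763 (iv D37661) (iv F173642)
def n38764 : Q := act 4 n37471
theorem D38764 : act 4 n37471 = n38764 := rfl
theorem F179513 : act 1 n38764 = n37590 := d11_1 D38764 (iv D37590) (iv F173643)
theorem F179514 : act 3 n38764 = n37753 := d24_1 D38764 (iv D37753) F167932 (iv F167688) (iv F173644)
theorem F179515 : act 5 n38764 = n37472 := d30_2 D37471 D38764 (iv D37472) (iv D35977) (iv F166844)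
def n38765 : Q := act 4 n37473
theorem D38765 : act 4 n37473 = n38765 := rfl
theorem F179516 : act 1 n38765 = n37637 := d11_1 D38765 (iv D37637) (iv F173648)
theorem F179517 : act 2 n38765 = n37477 := d18_1 D38765 (iv D37477) (iv F173649)
theorem F179518 : act 3 n38765 = n37780 := d24_1 D38765 F174552 F168035 (iv F167603) (iv F173650)
theorem F179519 : act 7 n38765 = n38765 := d32_2 F173651 D38765 (iv D38765)
theorem F179520 : act 8 n38765 = n37479 := d33_2 (iv F173652) D38765 (iv D37479)
theorem F179521 : act 9 n38765 = n37638 := d34_2 (iv F173653) D38765 (iv D37638)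
def n38766 : Q := act 4 n37474
theorem D38766 : act 4 n37474 = n38766 := rfl
theorem F179522 : act 1 n38766 = n37598 := d11_1 D38766 (iv D37598) (iv F173654)
theorem F179523 : act 5 n38766 = n37477 := d30_2 D37474 D38766 (iv D37477) (iv D35982) (iv F166857)
theorem F179524 : act 7 n38766 = n38766 := d32_2 F173656 D38766 (iv D38766)
theorem F179525 : act 3 n37774 = n38766 := d25_3 F179523 F173664 D37774
def n38767 : Q := act 6 n37474
theorem D38767 : act 6 n37474 = n38767 := rfl
theorem F179526 : act 1 n38767 = n37599 := d13_1 D38767 (iv D37599) (iv F173654)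
theorem F179527 : act 3 n38767 = n38767 := d26_1 D38767 (iv D38767) F173655
theorem F179528 : act 5 n38767 = n37475 := d35_1 D38767 (iv D37475) (iv D35980) (iv F166858) D37474
def n38768 : Q := act 7 n37475
theorem D38768 : act 7 n37475 = n38768 := rfl
theorem F179529 : act 1 n38768 = n37600 := d14_1 D38768 (iv D37600) (iv F173657)
theorem F179530 : act 3 n38768 = n38768 := d27_1 D38768 (iv D38768) F173658
theorem F179531 : act 6 n38768 = n37476 := d39_1 D38768 (iv D37476) (iv D35981) (iv F166862) D37475
theorem F179532 : act 8 n38768 = n37663 := d42_2 F175504 D38768 (iv F175503)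
def n38769 : Q := act 9 n37477
theorem D38769 : act 9 n37477 = n38769 := rfl
theorem F179533 : act 1 n38769 = n37602 := d16_1 D38769 (iv D37602) (iv F173663)
theorem F179534 : act 2 n38769 = n37638 := d23_1 D38769 (iv F179521) F179517
theorem F179535 : act 3 n38769 = n37775 := d29_1 D38769 (iv D37775) (iv F173664)
theorem F179536 : act 4 n38769 = n37478 := d34_1 D38769 (iv D37478) D37477
theorem F179537 : act 7 n38769 = n38769 := d43_1 D38769 (iv D38769) F173665
def n38770 : Q := act 7 n37480
theorem D38770 : act 7 n37480 = n38770 := rfl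
theorem F179538 : act 1 n38770 = n37483 := d14_1 D38770 (iv D37483) (iv F173674)
theorem F179539 : act 2 n38770 = n37559 := d21_1 D38770 F173957 (iv F173675)
theorem F179540 : act 3 n38770 = n37481 := d27_1 D38770 (iv D37481) D37480
theorem F179541 : act 4 n38770 = n38770 := d32_1 D38770 (iv D38770) F173676
theorem F179542 : act 5 n38770 = n37497 := d36_1 D38770 (iv D37497) (iv F173677)
theorem F179543 : act 9 n38770 = n37552 := d43_2 (iv F173678) D38770 F173936
def n38771 : Q := act 6 n37481
theorem D38771 : act 6 n37481 = n38771 := rfl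
theorem F179544 : act 1 n38771 = n37485 := d13_1 D38771 (iv D37485) (iv F173679)
theorem F179545 : act 4 n38771 = n37482 := d31_1 D38771 (iv D37482) (iv F173680)
def n38772 : Q := act 6 n37483
theorem D38772 : act 6 n37483 = n38772 := rfl
theorem F179546 : act 2 n38772 = n37672 := d20_1 D38772 (iv D37672) (iv F173684)
theorem F179547 : act 3 n38772 = n37485 := d26_1 D38772 (iv D37485) (iv F173685)
theorem F179548 : act 4 n38772 = n38772 := d31_1 D38772 (iv D38772) F173686
def n38773 : Q := act 8 n37483
theorem D38773 : act 8 n37483 = n38773 := rfl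
theorem F179549 : act 2 n38773 = n37673 := d22_1 D38773 (iv D37673) (iv F173684)
theorem F179550 : act 3 n38773 = n37486 := d28_1 D38773 (iv D37486) (iv F173685)
theorem F179551 : act 4 n38773 = n38773 := d33_1 D38773 (iv D38773) F173686
theorem F179552 : act 7 n38773 = n37484 := d42_1 D38773 (iv D37484) D37483
def n38774 : Q := act 5 n37485
theorem D38774 : act 5 n37485 = n38774 := rfl
theorem F179553 : act 2 n38774 = n37489 := d19_1 D38774 (iv D37489) (iv F173691)
theorem F179554 : act 6 n38774 = n37503 := d35_2 D37485 D38774 (iv D37503) (iv D36009) (iv F166903)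
def n38775 : Q := act 8 n37485
theorem D38775 : act 8 n37485 = n38775 := rfl
theorem F179555 : act 2 n38775 = n37490 := d22_1 D38775 (iv D37490) (iv F173691)
theorem F179556 : act 4 n38775 = n37488 := d33_1 D38775 (iv D37488) (iv F173692)
theorem F179557 : act 6 n38775 = n37486 := d40_1 D38775 (iv D37486) D37485
def n38776 : Q := act 5 n37486
theorem D38776 : act 5 n37486 = n38776 := rfl
theorem F179558 : act 2 n38776 = n37491 := d19_1 D38776 (iv D37491) (iv F173693)
theorem F179559 : act 4 n38776 = n38776 := d30_1 D38776 (iv D38776) F173694 F166910 (iv F173694)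
theorem F179560 : act 7 n38776 = n37487 := d36_2 (iv F173695) D38776 (iv D37487)
theorem F179561 : act 8 n38776 = n37505 := d37_2 D37486 D38776 (iv D37505) (iv D36010) (iv F166903)
def n38777 : Q := act 5 n37488
theorem D38777 : act 5 n37488 = n38777 := rfl
theorem F179562 : act 2 n38777 = n37493 := d19_1 D38777 (iv D37493) (iv F173699)
theorem F179563 : act 3 n38777 = n38777 := d25_1 D38777 (iv D38777) F173700
theorem F179564 : act 6 n38777 = n38777 := d35_2 (iv F173701) D38777 (iv D38777) F173701 F166910
theorem F179565 : act 7 n38777 = n37782 := d36_2 F177382 D38777 (iv F177380)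
theorem F179566 : act 8 n38777 = n37786 := d37_2 D37488 D38777 F174566 (iv F171315) F171313
def n38778 : Q := act 8 n37489
theorem D38778 : act 8 n37489 = n38778 := rfl
theorem F179567 : act 3 n38778 = n37680 := d28_1 D38778 (iv D37680) (iv F173702)
theorem F179568 : act 6 n38778 = n37511 := d40_1 D38778 (iv D37511) (iv F173703)
def n38779 : Q := act 5 n37490
theorem D38779 : act 5 n37490 = n38779 := rfl
theorem F179569 : act 3 n38779 = n37681 := d25_1 D38779 (iv D37681) (iv F173704)
def n38780 : Q := act 6 n37491
theorem D38780 : act 6 n37491 = n38780 := rfl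
theorem F179570 : act 3 n38780 = n37683 := d26_1 D38780 (iv D37683) (iv F173707)
theorem F179571 : act 4 n38780 = n38780 := d31_1 D38780 (iv D38780) F173708
theorem F179572 : act 8 n38780 = n37514 := d40_2 (iv F173710) D38780 (iv D37514)
def n38781 : Q := act 7 n37492
theorem D38781 : act 7 n37492 = n38781 := rfl
theorem F179573 : act 3 n38781 = n37685 := d27_1 D38781 (iv D37685) (iv F173711)
theorem F179574 : act 4 n38781 = n38781 := d32_1 D38781 (iv D38781) F173712
theorem F179575 : act 8 n38781 = n37516 := d42_2 (iv F173713) D38781 (iv D37516)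
def n38782 : Q := act 4 n37493
theorem D38782 : act 4 n37493 = n38782 := rfl
theorem F179576 : act 6 n38782 = n38782 := d31_2 F173715 D38782 (iv D38782)
def n38783 : Q := act 3 n37494
theorem D38783 : act 3 n37494 = n38783 := rfl
theorem F179577 : act 5 n38783 = n37690 := d25_2 (iv F173717) D38783 (iv D37690)
theorem F179578 : act 6 n38783 = n38783 := d26_2 F173718 D38783 (iv D38783)
def n38784 : Q := act 6 n37495
theorem D38784 : act 6 n37495 = n38784 := rfl
theorem F179579 : act 0 n38784 = n37498 := d5_1 D38784 (iv D37498) (iv F173719)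
theorem F179580 : act 4 n38784 = n37496 := d31_1 D38784 (iv D37496) (iv F173720)
theorem F179581 : act 7 n38784 = n37568 := d39_2 D37495 D38784 (iv D37568) (iv D36069) (iv F166925)
def n38785 : Q := act 6 n37497
theorem D38785 : act 6 n37497 = n38785 := rfl
theorem F179582 : act 1 n38785 = n37501 := d13_1 D38785 (iv D37501) (iv F173724)
theorem F179583 : act 2 n38785 = n37557 := d20_1 D38785 F173950 (iv F173725)
theorem F179584 : act 3 n38785 = n37498 := d26_1 D38785 (iv D37498) (iv F173726)
theorem F179585 : act 4 n38785 = n37554 := d31_1 D38785 F173943 (iv F173727)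
theorem F179586 : act 7 n38785 = n37571 := d39_2 D37497 D38785 (iv D37571) (iv D36073) (iv F166932)
theorem F179587 : act 8 n38785 = n37583 := d40_2 (iv F173728) D38785 F174029
theorem F179588 : act 9 n38785 = n37551 := d41_2 (iv F173729) D38785 F173933
def n38786 : Q := act 5 n37498
theorem D38786 : act 5 n37498 = n38786 := rfl
theorem F179589 : act 1 n38786 = n37503 := d12_1 D38786 (iv D37503) (iv F173730)
theorem F179590 : act 7 n38786 = n37572 := d36_2 (iv F173732) D38786 (iv D37572)
def n38787 : Q := act 8 n37498
theorem D38787 : act 8 n37498 = n38787 := rfl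
theorem F179591 : act 1 n38787 = n37504 := d15_1 D38787 (iv D37504) (iv F173730)
theorem F179592 : act 2 n38787 = n37756 := d22_1 D38787 (iv F179328) F179324
theorem F179593 : act 3 n38787 = n37583 := d28_1 D38787 (iv F179587) F179584
theorem F179594 : act 4 n38787 = n37500 := d33_1 D38787 (iv D37500) (iv F173731)
theorem F179595 : act 6 n38787 = n37499 := d40_1 D38787 (iv D37499) D37498
theorem F179596 : act 7 n38787 = n37573 := d42_1 D38787 (iv D37573) (iv F173732)
theorem F179597 : act 9 n38787 = n37578 := d44_2 F179359 D38787 (iv D37578) (iv F173928) (iv F179358)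
def n38788 : Q := act 5 n37500
theorem D38788 : act 5 n37500 = n38788 := rfl
theorem F179598 : act 1 n38788 = n37509 := d12_1 D38788 (iv D37509) (iv F173739)
theorem F179599 : act 2 n38788 = n37773 := d19_1 D38788 F174532 (iv F173740)
theorem F179600 : act 3 n38788 = n37623 := d25_1 D38788 (iv D37623) (iv F173741)
theorem F179601 : act 6 n38788 = n38788 := d35_2 (iv F173742) D38788 (iv D38788) F173742 F166949
theorem F179602 : act 7 n38788 = n37575 := d36_2 (iv F173743) D38788 (iv D37575)
theorem F179603 : act 8 n38788 = n37768 := d37_2 D37500 D38788 (iv D37768) (iv F173540) F173538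
theorem F179604 : act 9 n38788 = n37635 := d38_2 (iv F173744) D38788 (iv D37635)
def n38789 : Q := act 5 n37501
theorem D38789 : act 5 n37501 = n38789 := rfl
theorem F179605 : act 2 n38789 = n37714 := d19_1 D38789 (iv D37714) (iv F173745)
theorem F179606 : act 3 n38789 = n37503 := d25_1 D38789 (iv D37503) (iv F173746)
theorem F179607 : act 7 n38789 = n37577 := d36_2 (iv F173748) D38789 (iv D37577)
def n38790 : Q := act 8 n37501
theorem D38790 : act 8 n37501 = n38790 := rfl
theorem F179608 : act 1 n38790 = n37583 := d15_1 D38790 (iv F179587) F179582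
theorem F179609 : act 2 n38790 = n37715 := d22_1 D38790 (iv D37715) (iv F173745)
theorem F179610 : act 3 n38790 = n37504 := d28_1 D38790 (iv D37504) (iv F173746)
theorem F179611 : act 4 n38790 = n37576 := d33_1 D38790 F174011 (iv F173747)
theorem F179612 : act 6 n38790 = n37502 := d40_1 D38790 (iv D37502) D37501
theorem F179613 : act 7 n38790 = n37578 := d42_1 D38790 (iv D37578) (iv F173748)
theorem F179614 : act 9 n38790 = n37573 := d44_2 F179366 D38790 (iv D37573) (iv F173918) (iv F179365)
def n38791 : Q := act 8 n37503
theorem D38791 : act 8 n37503 = n38791 := rfl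
theorem F179615 : act 2 n38791 = n37511 := d22_1 D38791 (iv D37511) (iv F173755)
theorem F179616 : act 7 n38791 = n37581 := d42_1 D38791 (iv D37581) (iv F173756)
def n38792 : Q := act 5 n37504
theorem D38792 : act 5 n37504 = n38792 := rfl
theorem F179617 : act 2 n38792 = n37512 := d19_1 D38792 (iv D37512) (iv F173757)
theorem F179618 : act 7 n38792 = n37582 := d36_2 (iv F173760) D38792 (iv D37582)
def n38793 : Q := act 9 n37504
theorem D38793 : act 9 n37504 = n38793 := rfl
theorem F179619 : act 1 n38793 = n37578 := d16_1 D38793 (iv F179597) F179591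
theorem F179620 : act 2 n38793 = n37513 := d23_1 D38793 (iv D37513) (iv F173757)
theorem F179621 : act 3 n38793 = n37573 := d29_1 D38793 (iv F179614) F179610
theorem F179622 : act 4 n38793 = n37510 := d34_1 D38793 (iv D37510) (iv F173758)
theorem F179623 : act 6 n38793 = n37506 := d41_1 D38793 (iv D37506) (iv F173759)
theorem F179624 : act 7 n38793 = n37583 := d43_1 D38793 (iv D37583) (iv F173760)
theorem F179625 : act 8 n38793 = n37571 := d44_1 D38793 F179377 (iv D38733) F173474 D37504
def n38794 : Q := act 6 n37505
theorem D38794 : act 6 n37505 = n38794 := rfl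
theorem F179626 : act 2 n38794 = n37514 := d20_1 D38794 (iv D37514) (iv F173761)
theorem F179627 : act 4 n38794 = n38794 := d31_1 D38794 (iv D38794) F173762
def n38795 : Q := act 9 n37505
theorem D38795 : act 9 n37505 = n38795 := rfl
theorem F179628 : act 1 n38795 = n37579 := d16_1 D38795 (iv F177772) F177767
theorem F179629 : act 2 n38795 = n37515 := d23_1 D38795 (iv D37515) (iv F173761)
theorem F179630 : act 3 n38795 = n37574 := d29_1 D38795 (iv F176680) F176677
theorem F179631 : act 4 n38795 = n38795 := d34_1 D38795 (iv D38795) F173762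
theorem F179632 : act 5 n38795 = n37506 := d38_1 D38795 (iv D37506) D37505
theorem F179633 : act 7 n38795 = n37508 := d43_1 D38795 (iv D37508) (iv F173763)
def n38796 : Q := act 7 n37507
theorem D38796 : act 7 n37507 = n38796 := rfl
theorem F179634 : act 2 n38796 = n37516 := d21_1 D38796 (iv D37516) (iv F173770)
theorem F179635 : act 4 n38796 = n38796 := d32_1 D38796 (iv D38796) F173771
theorem F179636 : act 5 n38796 = n37585 := d36_1 D38796 (iv D37585) (iv F173772)
def n38797 : Q := act 4 n37509
theorem D38797 : act 4 n37509 = n38797 := rfl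
theorem F179637 : act 2 n38797 = n37518 := d18_1 D38797 (iv D37518) (iv F173778)
theorem F179638 : act 6 n38797 = n38797 := d31_2 F173780 D38797 (iv D38797)
theorem F179639 : act 7 n38797 = n37586 := d32_2 (iv F173781) D38797 (iv D37586)
def n38798 : Q := act 9 n37509
theorem D38798 : act 9 n37509 = n38798 := rfl
theorem F179640 : act 1 n38798 = n37635 := d16_1 D38798 (iv F179604) F179598
theorem F179641 : act 2 n38798 = n37519 := d23_1 D38798 (iv D37519) (iv F173778)
theorem F179642 : act 3 n38798 = n37626 := d29_1 D38798 (iv D37626) (iv F173779)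
theorem F179643 : act 5 n38798 = n37510 := d38_1 D38798 (iv D37510) D37509
theorem F179644 : act 6 n38798 = n38798 := d41_1 D38798 (iv D38798) F173780
theorem F179645 : act 7 n38798 = n37587 := d43_1 D38798 (iv D37587) (iv F173781)
def n38799 : Q := act 5 n37511
theorem D38799 : act 5 n37511 = n38799 := rfl
theorem F179646 : act 3 n38799 = n37719 := d25_1 D38799 (iv D37719) (iv F173788)
theorem F179647 : act 7 n38799 = n37588 := d36_2 (iv F173789) D38799 (iv D37588)
theorem F179648 : act 8 n38799 = n37512 := d37_2 D37511 D38799 (iv D37512) (iv D36016) D36015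
def n38800 : Q := act 9 n37511
theorem D38800 : act 9 n37511 = n38800 := rfl
theorem F179649 : act 3 n38800 = n37720 := d29_1 D38800 (iv D37720) (iv F173788)
theorem F179650 : act 7 n38800 = n37589 := d43_1 D38800 (iv D37589) (iv F173789)
def n38801 : Q := act 4 n37512
theorem D38801 : act 4 n37512 = n38801 := rfl
theorem F179651 : act 5 n38801 = n37518 := d30_2 D37512 D38801 (iv D37518) (iv D36021) (iv F166988)
theorem F179652 : act 7 n38801 = n37590 := d32_2 (iv F173791) D38801 (iv D37590)
def n38802 : Q := act 6 n37512
theorem D38802 : act 6 n37512 = n38802 := rfl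
theorem F179653 : act 3 n38802 = n37721 := d26_1 D38802 (iv D37721) (iv F173790)
theorem F179654 : act 5 n38802 = n37514 := d35_1 D38802 (iv D37514) (iv D36017) (iv F166989) D37512
def n38803 : Q := act 9 n37512
theorem D38803 : act 9 n37512 = n38803 := rfl
theorem F179655 : act 3 n38803 = n37722 := d29_1 D38803 (iv D37722) (iv F173790)
theorem F179656 : act 5 n38803 = n37513 := d38_1 D38803 (iv D37513) D37512
theorem F179657 : act 7 n38803 = n37592 := d43_1 D38803 (iv D37592) (iv F173791)
def n38804 : Q := act 7 n37514
theorem D38804 : act 7 n37514 = n38804 := rfl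
theorem F179658 : act 3 n38804 = n37723 := d27_1 D38804 (iv D37723) (iv F173796)
theorem F179659 : act 4 n38804 = n38804 := d32_1 D38804 (iv D38804) F173797
theorem F179660 : act 6 n38804 = n37516 := d39_1 D38804 (iv D37516) (iv D36019) (iv F166993) D37514
def n38805 : Q := act 9 n37514
theorem D38805 : act 9 n37514 = n38805 := rfl
theorem F179661 : act 3 n38805 = n37724 := d29_1 D38805 (iv D37724) (iv F173796)
theorem F179662 : act 4 n38805 = n38805 := d34_1 D38805 (iv D38805) F173797
theorem F179663 : act 6 n38805 = n37515 := d41_1 D38805 (iv D37515) D37514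
def n38806 : Q := act 8 n37515
theorem D38806 : act 8 n37515 = n38806 := rfl
theorem F179664 : act 3 n38806 = n37725 := d28_1 D38806 (iv D37725) (iv F173798)
theorem F179665 : act 4 n38806 = n38806 := d33_1 D38806 (iv D38806) F173799
theorem F179666 : act 7 n38806 = n37517 := d42_1 D38806 (iv D37517) (iv F173801)
def n38807 : Q := act 3 n37518
theorem D38807 : act 3 n37518 = n38807 := rfl
theorem F179667 : act 1 n38807 = n37769 := d10_1 D38807 (iv F179349) F179348
theorem F179668 : act 4 n38807 = n37520 := d24_2 D37518 D38807 (iv D37520) (iv D36023) (iv F167003)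
theorem F179669 : act 6 n38807 = n38807 := d26_2 F173807 D38807 (iv D38807)
theorem F179670 : act 7 n38807 = n37594 := d27_2 (iv F173808) D38807 (iv D37594)
def n38808 : Q := act 9 n37518
theorem D38808 : act 9 n37518 = n38808 := rfl
theorem F179671 : act 4 n38808 = n37519 := d34_1 D38808 (iv D37519) D37518
theorem F179672 : act 6 n38808 = n38808 := d41_1 D38808 (iv D38808) F173807
theorem F179673 : act 7 n38808 = n37595 := d43_1 D38808 (iv D37595) (iv F173808)
def n38809 : Q := act 8 n37519
theorem D38809 : act 8 n37519 = n38809 := rfl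
theorem F179674 : act 3 n38809 = n37522 := d28_1 D38809 (iv D37522) (iv F173809)
theorem F179675 : act 6 n38809 = n38809 := d40_1 D38809 (iv D38809) F173811
theorem F179676 : act 7 n38809 = n37596 := d42_1 D38809 (iv D37596) (iv F173812)
def n38810 : Q := act 5 n37523
theorem D38810 : act 5 n37523 = n38810 := rfl
theorem F179677 : act 2 n38810 = n37524 := d19_1 D38810 (iv D37524) (iv F173828)
theorem F179678 : act 4 n38810 = n37726 := d30_1 D38810 (iv D37726) F167870 (iv F167023) (iv F173829)
theorem F179679 : act 7 n38810 = n37651 := d36_2 (iv F173830) D38810 (iv D37651)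
theorem F179680 : act 9 n38810 = n37642 := d38_2 (iv F173831) D38810 (iv D37642)
def n38811 : Q := act 8 n37524
theorem D38811 : act 8 n37524 = n38811 := rfl
theorem F179681 : act 1 n38811 = n37701 := d15_1 D38811 (iv D37701) (iv F173832)
theorem F179682 : act 3 n38811 = n37535 := d28_1 D38811 (iv D37535) (iv F173833)
theorem F179683 : act 4 n38811 = n37728 := d33_1 D38811 (iv D37728) (iv F173834)
theorem F179684 : act 7 n38811 = n37652 := d42_1 D38811 (iv D37652) (iv F173835)
def n38812 : Q := act 5 n37525
theorem D38812 : act 5 n37525 = n38812 := rfl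
theorem F179685 : act 1 n38812 = n37702 := d12_1 D38812 (iv D37702) (iv F173837)
theorem F179686 : act 3 n38812 = n37536 := d25_1 D38812 (iv D37536) (iv F173838)
theorem F179687 : act 7 n38812 = n37653 := d36_2 (iv F173841) D38812 (iv D37653)
def n38813 : Q := act 6 n37526
theorem D38813 : act 6 n37526 = n38813 := rfl
theorem F179688 : act 1 n38813 = n37704 := d13_1 D38813 (iv D37704) (iv F173842)
theorem F179689 : act 3 n38813 = n37538 := d26_1 D38813 (iv D37538) (iv F173843)
theorem F179690 : act 4 n38813 = n38813 := d31_1 D38813 (iv D38813) F173844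
def n38814 : Q := act 7 n37527
theorem D38814 : act 7 n37527 = n38814 := rfl
theorem F179691 : act 1 n38814 = n37706 := d14_1 D38814 (iv D37706) (iv F173846)
theorem F179692 : act 3 n38814 = n37539 := d27_1 D38814 (iv D37539) (iv F173847)
theorem F179693 : act 4 n38814 = n38814 := d32_1 D38814 (iv D38814) F173848
theorem F179694 : act 5 n38814 = n37655 := d36_1 D38814 (iv D37655) (iv F173849)
theorem F179695 : act 8 n38814 = n37664 := d42_2 (iv F173850) D38814 (iv D37664)
def n38815 : Q := act 4 n37528
theorem D38815 : act 4 n37528 = n38815 := rfl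
theorem F179696 : act 1 n38815 = n37709 := d11_1 D38815 (iv D37709) (iv F173851)
theorem F179697 : act 6 n38815 = n38815 := d31_2 F173853 D38815 (iv D38815)
theorem F179698 : act 7 n38815 = n37656 := d32_2 (iv F173854) D38815 (iv D37656)
theorem F179699 : act 8 n38815 = n37729 := d33_2 (iv F173855) D38815 (iv D37729)
def n38816 : Q := act 3 n37529
theorem D38816 : act 3 n37529 = n38816 := rfl
theorem F179700 : act 1 n38816 = n37711 := d10_1 D38816 (iv D37711) (iv F173856)
theorem F179701 : act 5 n38816 = n37542 := d25_2 (iv F173858) D38816 (iv D37542)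
theorem F179702 : act 6 n38816 = n38816 := d26_2 F173859 D38816 (iv D38816)
theorem F179703 : act 7 n38816 = n37657 := d27_2 (iv F173860) D38816 (iv D37657)
theorem F179704 : act 8 n38816 = n37731 := d28_2 (iv F173861) D38816 (iv D37731)
def n38817 : Q := act 5 n37530
theorem D38817 : act 5 n37530 = n38817 := rfl
theorem F179705 : act 1 n38817 = n37532 := d12_1 D38817 (iv D37532) (iv F173862)
theorem F179706 : act 3 n38817 = n37736 := d25_1 D38817 (iv D37736) (iv F173863)
theorem F179707 : act 4 n38817 = n37572 := d30_1 D38817 (iv D37572) F167181 (iv F167053) (iv F173864)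
def n38818 : Q := act 5 n37531
theorem D38818 : act 5 n37531 = n38818 := rfl
theorem F179708 : act 1 n38818 = n37736 := d12_1 D38818 (iv D37736) (iv F173866)
theorem F179709 : act 3 n38818 = n37532 := d25_1 D38818 (iv D37532) (iv F173867)
def n38819 : Q := act 8 n37532
theorem D38819 : act 8 n37532 = n38819 := rfl
theorem F179710 : act 2 n38819 = n37535 := d22_1 D38819 (iv D37535) (iv F173870)
theorem F179711 : act 4 n38819 = n37581 := d33_1 D38819 (iv D37581) (iv F173871)
def n38820 : Q := act 5 n37533
theorem D38820 : act 5 n37533 = n38820 := rfl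
theorem F179712 : act 1 n38820 = n37734 := d12_1 D38820 (iv D37734) (iv F173872)
theorem F179713 : act 2 n38820 = n37536 := d19_1 D38820 (iv D37536) (iv F173873)
theorem F179714 : act 3 n38820 = n37733 := d25_1 D38820 (iv D37733) (iv F173874)
theorem F179715 : act 9 n38820 = n37751 := d38_2 F173877 D38820 (iv D37751)
def n38821 : Q := act 4 n37534
theorem D38821 : act 4 n37534 = n38821 := rfl
theorem F179716 : act 1 n38821 = n37770 := d11_1 D38821 (iv D37770) (iv F173878)
theorem F179717 : act 2 n38821 = n37540 := d18_1 D38821 (iv D37540) (iv F173879)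
theorem F179718 : act 3 n38821 = n37595 := d24_1 D38821 F174054 F167234 (iv F167242) (iv F173880)
theorem F179719 : act 6 n38821 = n37597 := d31_2 (iv F173881) D38821 (iv D37597)
theorem F179720 : act 8 n38821 = n37586 := d33_2 (iv F173882) D38821 (iv D37586)
theorem F179721 : act 9 n38821 = n37594 := d34_2 (iv F173883) D38821 F174052
def n38822 : Q := act 5 n37535
theorem D38822 : act 5 n37535 = n38822 := rfl
theorem F179722 : act 8 n38822 = n37536 := d37_2 D37535 D38822 (iv D37536) (iv D36039) D36038
def n38823 : Q := act 9 n37535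
theorem D38823 : act 9 n37535 = n38823 := rfl
theorem F179723 : act 4 n38823 = n37589 := d34_1 D38823 (iv D37589) (iv F173884)
def n38824 : Q := act 4 n37536
theorem D38824 : act 4 n37536 = n38824 := rfl
theorem F179724 : act 5 n38824 = n37540 := d30_2 D37536 D38824 (iv D37540) (iv D36043) (iv F167073)
def n38825 : Q := act 6 n37536
theorem D38825 : act 6 n37536 = n38825 := rfl
theorem F179725 : act 5 n38825 = n37538 := d35_1 D38825 (iv D37538) (iv D36040) (iv F167074) D37536
def n38826 : Q := act 9 n37536
theorem D38826 : act 9 n37536 = n38826 := rfl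
theorem F179726 : act 2 n38826 = n37751 := d23_1 D38826 (iv F179715) F179713
theorem F179727 : act 5 n38826 = n37537 := d38_1 D38826 (iv D37537) D37536
def n38827 : Q := act 7 n37538
theorem D38827 : act 7 n37538 = n38827 := rfl
theorem F179728 : act 2 n38827 = n37667 := d21_1 D38827 (iv F175533) F175529
theorem F179729 : act 4 n38827 = n37600 := d32_1 D38827 (iv D37600) (iv F173888)
theorem F179730 : act 6 n38827 = n37539 := d39_1 D38827 (iv D37539) (iv D36042) (iv F167076) D37538
theorem F179731 : act 8 n38827 = n37665 := d42_2 F175518 D38827 (iv F175517)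
def n38828 : Q := act 3 n37540
theorem D38828 : act 3 n37540 = n38828 := rfl
theorem F179732 : act 1 n38828 = n37771 := d10_1 D38828 (iv F179408) F179407
theorem F179733 : act 4 n38828 = n37542 := d24_2 D37540 D38828 (iv D37542) (iv D36045) (iv F167083)
theorem F179734 : act 6 n38828 = n37601 := d26_2 (iv F173892) D38828 (iv D37601)
theorem F179735 : act 8 n38828 = n37594 := d28_2 (iv F173893) D38828 (iv D37594)
def n38829 : Q := act 9 n37540
theorem D38829 : act 9 n37540 = n38829 := rfl
theorem F179736 : act 2 n38829 = n37594 := d23_1 D38829 (iv F179721) F179717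
theorem F179737 : act 4 n38829 = n37541 := d34_1 D38829 (iv D37541) D37540
theorem F179738 : act 6 n38829 = n37602 := d41_1 D38829 (iv D37602) (iv F173892)
def n38830 : Q := act 8 n37541
theorem D38830 : act 8 n37541 = n38830 := rfl
theorem F179739 : act 2 n38830 = n37542 := d22_1 D38830 F173900 (iv F173894)
theorem F179740 : act 3 n38830 = n37544 := d28_1 D38830 (iv D37544) (iv F173895)
theorem F179741 : act 6 n38830 = n37603 := d40_1 D38830 (iv D37603) (iv F173897)
theorem F179742 : act 9 n38830 = n37596 := d44_2 D37541 D38830 (iv D37596) (iv D36095) (iv F167085)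
def n38831 : Q := act 9 n37542
theorem D38831 : act 9 n37542 = n38831 := rfl
theorem F179743 : act 1 n38831 = n37750 := d16_1 D38831 F174492 (iv F173898)
theorem F179744 : act 2 n38831 = n37596 := d23_1 D38831 (iv F179742) F179739
theorem F179745 : act 3 n38831 = n37543 := d29_1 D38831 (iv D37543) D37542
theorem F179746 : act 6 n38831 = n37604 := d41_1 D38831 (iv D37604) (iv F173899)
theorem F179747 : act 8 n38831 = n37587 := d44_1 D38831 (iv D37587) (iv F173882) F173883 (iv F173900)
def n38832 : Q := act 6 n37545
theorem D38832 : act 6 n37545 = n38832 := rfl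
theorem F179748 : act 0 n38832 = n37547 := d5_1 D38832 (iv D37547) (iv F173910)
theorem F179749 : act 4 n38832 = n37546 := d31_1 D38832 (iv D37546) (iv F173911)
theorem F179750 : act 9 n38832 = n37568 := d41_2 (iv F173912) D38832 (iv D37568)
def n38833 : Q := act 5 n37547
theorem D38833 : act 5 n37547 = n38833 := rfl
theorem F179751 : act 1 n38833 = n37550 := d12_1 D38833 (iv D37550) (iv F173916)
theorem F179752 : act 9 n38833 = n37572 := d38_2 (iv F173918) D38833 (iv D37572)
def n38834 : Q := act 5 n37548
theorem D38834 : act 5 n37548 = n38834 := rfl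
theorem F179753 : act 1 n38834 = n37553 := d12_1 D38834 (iv D37553) (iv F173919)
theorem F179754 : act 2 n38834 = n37768 := d19_1 D38834 (iv D37768) (iv F173920)
theorem F179755 : act 3 n38834 = n37620 := d25_1 D38834 (iv D37620) (iv F173921)
theorem F179756 : act 6 n38834 = n38834 := d35_2 (iv F173922) D38834 (iv D38834) F173922 F167111
theorem F179757 : act 7 n38834 = n37629 := d36_2 (iv F173923) D38834 (iv D37629)
theorem F179758 : act 8 n38834 = n37773 := d37_2 D37548 D38834 F174532 (iv F173425) F173423
theorem F179759 : act 9 n38834 = n37624 := d38_2 F173924 D38834 (iv D37624)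
def n38835 : Q := act 5 n37549
theorem D38835 : act 5 n37549 = n38835 := rfl
theorem F179760 : act 2 n38835 = n37734 := d19_1 D38835 (iv D37734) (iv F173925)
theorem F179761 : act 3 n38835 = n37550 := d25_1 D38835 (iv D37550) (iv F173926)
theorem F179762 : act 9 n38835 = n37577 := d38_2 (iv F173928) D38835 (iv D37577)
def n38836 : Q := act 8 n37550
theorem D38836 : act 8 n37550 = n38836 := rfl
theorem F179763 : act 2 n38836 = n37555 := d22_1 D38836 (iv D37555) (iv F173929)
def n38837 : Q := act 5 n37551
theorem D38837 : act 5 n37551 = n38837 := rfl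
theorem F179764 : act 2 n38837 = n37556 := d19_1 D38837 (iv D37556) (iv F173931)
def n38838 : Q := act 6 n37552
theorem D38838 : act 6 n37552 = n38838 := rfl
theorem F179765 : act 2 n38838 = n37558 := d20_1 D38838 (iv D37558) (iv F173934)
theorem F179766 : act 4 n38838 = n38838 := d31_1 D38838 (iv D38838) F173935
def n38839 : Q := act 4 n37553
theorem D38839 : act 4 n37553 = n38839 := rfl
theorem F179767 : act 2 n38839 = n37562 := d18_1 D38839 (iv D37562) (iv F173937)
theorem F179768 : act 6 n38839 = n38839 := d31_2 F173939 D38839 (iv D38839)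
def n38840 : Q := act 9 n37553
theorem D38840 : act 9 n37553 = n38840 := rfl
theorem F179769 : act 1 n38840 = n37624 := d16_1 D38840 (iv F179759) F179753
theorem F179770 : act 2 n38840 = n37563 := d23_1 D38840 (iv D37563) (iv F173937)
theorem F179771 : act 3 n38840 = n37622 := d29_1 D38840 F174156 (iv F173938)
theorem F179772 : act 5 n38840 = n37554 := d38_1 D38840 (iv D37554) D37553
theorem F179773 : act 6 n38840 = n38840 := d41_1 D38840 (iv D38840) F173939
theorem F179774 : act 7 n38840 = n37632 := d43_1 D38840 (iv F179384) F179382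
def n38841 : Q := act 5 n37555
theorem D38841 : act 5 n37555 = n38841 := rfl
theorem F179775 : act 3 n38841 = n37740 := d25_1 D38841 (iv D37740) (iv F173946)
theorem F179776 : act 8 n38841 = n37556 := d37_2 D37555 D38841 (iv D37556) (iv D36059) D36058
def n38842 : Q := act 9 n37555
theorem D38842 : act 9 n37555 = n38842 := rfl
theorem F179777 : act 3 n38842 = n37741 := d29_1 D38842 (iv D37741) (iv F173946)
theorem F179778 : act 8 n38842 = n37589 := d44_1 D38842 (iv D37589) (iv D36089) (iv F167136) D37555
def n38843 : Q := act 4 n37556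
theorem D38843 : act 4 n37556 = n38843 := rfl
theorem F179779 : act 5 n38843 = n37562 := d30_2 D37556 D38843 (iv D37562) (iv D36064) (iv F167138)
def n38844 : Q := act 6 n37556
theorem D38844 : act 6 n37556 = n38844 := rfl
theorem F179780 : act 3 n38844 = n37743 := d26_1 D38844 (iv D37743) (iv F173947)
theorem F179781 : act 5 n38844 = n37558 := d35_1 D38844 (iv D37558) (iv D36060) (iv F167139) D37556
def n38845 : Q := act 9 n37556
theorem D38845 : act 9 n37556 = n38845 := rfl
theorem F179782 : act 3 n38845 = n37744 := d29_1 D38845 (iv D37744) (iv F173947)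
theorem F179783 : act 5 n38845 = n37557 := d38_1 D38845 (iv D37557) D37556
def n38846 : Q := act 7 n37558
theorem D38846 : act 7 n37558 = n38846 := rfl
theorem F179784 : act 3 n38846 = n37745 := d27_1 D38846 (iv D37745) (iv F173952)
theorem F179785 : act 4 n38846 = n38846 := d32_1 D38846 (iv D38846) F173953
theorem F179786 : act 6 n38846 = n37560 := d39_1 D38846 (iv D37560) (iv D36062) (iv F167142) D37558
def n38847 : Q := act 9 n37558
theorem D38847 : act 9 n37558 = n38847 := rfl
theorem F179787 : act 3 n38847 = n37746 := d29_1 D38847 (iv D37746) (iv F173952)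
theorem F179788 : act 4 n38847 = n38847 := d34_1 D38847 (iv D38847) F173953
theorem F179789 : act 6 n38847 = n37559 := d41_1 D38847 (iv D37559) D37558
def n38848 : Q := act 9 n37560
theorem D38848 : act 9 n37560 = n38848 := rfl
theorem F179790 : act 3 n38848 = n37747 := d29_1 D38848 (iv D37747) (iv F173958)
theorem F179791 : act 4 n38848 = n38848 := d34_1 D38848 (iv D38848) F173959
theorem F179792 : act 7 n38848 = n37561 := d43_1 D38848 (iv D37561) D37560
def n38849 : Q := act 3 n37562
theorem D38849 : act 3 n37562 = n38849 := rfl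
theorem F179793 : act 4 n38849 = n37564 := d24_2 D37562 D38849 (iv D37564) (iv D36066) (iv F167152)
theorem F179794 : act 6 n38849 = n38849 := d26_2 F173963 D38849 (iv D38849)
theorem F179795 : act 7 n38849 = n37771 := d27_2 F179410 D38849 (iv F179408)
theorem F179796 : act 8 n38849 = n37769 := d28_2 F179352 D38849 (iv F179349)
def n38850 : Q := act 9 n37562
theorem D38850 : act 9 n37562 = n38850 := rfl
theorem F179797 : act 4 n38850 = n37563 := d34_1 D38850 (iv D37563) D37562
theorem F179798 : act 6 n38850 = n38850 := d41_1 D38850 (iv D38850) F173963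
def n38851 : Q := act 8 n37563
theorem D38851 : act 8 n37563 = n38851 := rfl
theorem F179799 : act 3 n38851 = n37566 := d28_1 D38851 (iv D37566) (iv F173964)
theorem F179800 : act 5 n38851 = n37596 := d37_1 D38851 (iv D37596) F167235 (iv F167156) (iv F173965)
theorem F179801 : act 6 n38851 = n38851 := d40_1 D38851 (iv D38851) F173966
def n38852 : Q := act 2 n37564
theorem D38852 : act 2 n37564 = n38852 := rfl
theorem F179802 : act 3 n38852 = n37625 := d17_2 D37564 D38852 F174167 F167451 (iv F167157)
theorem F179803 : act 5 n38852 = n37750 := d19_2 (iv F173967) D38852 (iv D37750)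
theorem F179804 : act 6 n38852 = n38852 := d20_2 F173968 D38852 (iv D38852)
theorem F179805 : act 7 n38852 = n37634 := d21_2 (iv F173969) D38852 F174207
theorem F179806 : act 8 n38852 = n37624 := d22_2 (iv F173970) D38852 F174163
theorem F179807 : act 9 n37711 = n38852 := d44_0 F179806 (iv F179759) F179758 (iv D37773) (iv F174410)
def n38853 : Q := act 9 n37564
theorem D38853 : act 9 n37564 = n38853 := rfl
theorem F179808 : act 2 n38853 = n37711 := d23_1 D38853 F179807 (iv D38852)
theorem F179809 : act 3 n38853 = n37565 := d29_1 D38853 (iv D37565) D37564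
theorem F179810 : act 5 n38853 = n37634 := d38_1 D38853 (iv F174210) (iv F173967)
theorem F179811 : act 6 n38853 = n38853 := d41_1 D38853 (iv D38853) F173968
theorem F179812 : act 7 n38853 = n37750 := d43_1 D38853 F174492 (iv F173969)
theorem F179813 : act 8 n38853 = n37635 := d44_1 D38853 (iv F179604) F179603 F174523 (iv F173970)
def n38854 : Q := act 6 n37567
theorem D38854 : act 6 n37567 = n38854 := rfl
theorem F179814 : act 0 n38854 = n37571 := d5_1 D38854 (iv D37571) (iv F173981)
theorem F179815 : act 3 n38854 = n37568 := d26_1 D38854 (iv D37568) (iv F173982)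
theorem F179816 : act 4 n38854 = n37631 := d31_1 D38854 (iv D37631) (iv F173983)
def n38855 : Q := act 5 n37568
theorem D38855 : act 5 n37568 = n38855 := rfl
theorem F179817 : act 0 n38855 = n37572 := d4_1 D38855 (iv D37572) (iv F173984)
def n38856 : Q := act 8 n37568
theorem D38856 : act 8 n37568 = n38856 := rfl
theorem F179818 : act 0 n38856 = n37573 := d7_1 D38856 (iv D37573) (iv F173984)
theorem F179819 : act 4 n38856 = n37570 := d33_1 D38856 (iv D37570) (iv F173985)
theorem F179820 : act 6 n38856 = n37569 := d40_1 D38856 (iv D37569) D37568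
def n38857 : Q := act 5 n37571
theorem D38857 : act 5 n37571 = n38857 := rfl
theorem F179821 : act 1 n38857 = n37577 := d12_1 D38857 (iv D37577) (iv F173992)
theorem F179822 : act 3 n38857 = n37572 := d25_1 D38857 (iv D37572) (iv F173993)
def n38858 : Q := act 8 n37572
theorem D38858 : act 8 n37572 = n38858 := rfl
theorem F179823 : act 1 n38858 = n37581 := d15_1 D38858 (iv D37581) (iv F173995)
def n38859 : Q := act 5 n37573
theorem D38859 : act 5 n37573 = n38859 := rfl
theorem F179824 : act 1 n38859 = n37582 := d12_1 D38859 (iv D37582) (iv F173996)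
def n38860 : Q := act 6 n37574
theorem D38860 : act 6 n37574 = n38860 := rfl
theorem F179825 : act 1 n38860 = n37584 := d13_1 D38860 (iv D37584) (iv F173999)
theorem F179826 : act 4 n38860 = n37606 := d31_1 D38860 (iv D37606) (iv F174000)
def n38861 : Q := act 4 n37575
theorem D38861 : act 4 n37575 = n38861 := rfl
theorem F179827 : act 1 n38861 = n37586 := d11_1 D38861 (iv D37586) (iv F174002)
theorem F179828 : act 6 n38861 = n37607 := d31_2 (iv F174004) D38861 (iv D37607)
theorem F179829 : act 8 n38861 = n37770 := d33_2 (iv F174005) D38861 (iv D37770)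
def n38862 : Q := act 4 n37577
theorem D38862 : act 4 n37577 = n38862 := rfl
theorem F179830 : act 2 n38862 = n37753 := d18_1 D38862 (iv D37753) (iv F174012)
theorem F179831 : act 5 n38862 = n37633 := d30_2 D37577 D38862 (iv D37633) (iv D36173) (iv F167198)
def n38863 : Q := act 8 n37577
theorem D38863 : act 8 n37577 = n38863 := rfl
theorem F179832 : act 2 n38863 = n37754 := d22_1 D38863 (iv D37754) (iv F174012)
theorem F179833 : act 3 n38863 = n37581 := d28_1 D38863 (iv D37581) (iv F174013)
def n38864 : Q := act 5 n37578
theorem D38864 : act 5 n37578 = n38864 := rfl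
theorem F179834 : act 2 n38864 = n37755 := d19_1 D38864 (iv D37755) (iv F174014)
theorem F179835 : act 3 n38864 = n37582 := d25_1 D38864 (iv D37582) (iv F174015)
def n38865 : Q := act 6 n37579
theorem D38865 : act 6 n37579 = n38865 := rfl
theorem F179836 : act 2 n38865 = n37757 := d20_1 D38865 (iv D37757) (iv F174018)
theorem F179837 : act 3 n38865 = n37584 := d26_1 D38865 (iv D37584) (iv F174019)
theorem F179838 : act 4 n38865 = n38865 := d31_1 D38865 (iv D38865) F174020
def n38866 : Q := act 7 n37580
theorem D38866 : act 7 n37580 = n38866 := rfl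
theorem F179839 : act 2 n38866 = n37758 := d21_1 D38866 (iv D37758) (iv F174022)
theorem F179840 : act 3 n38866 = n37585 := d27_1 D38866 (iv D37585) (iv F174023)
theorem F179841 : act 4 n38866 = n38866 := d32_1 D38866 (iv D38866) F174024
def n38867 : Q := act 5 n37581
theorem D38867 : act 5 n37581 = n38867 := rfl
theorem F179842 : act 2 n38867 = n37588 := d19_1 D38867 (iv D37588) (iv F174025)
theorem F179843 : act 8 n38867 = n37582 := d37_2 D37581 D38867 (iv D37582) (iv D36083) D36082
def n38868 : Q := act 9 n37581
theorem D38868 : act 9 n37581 = n38868 := rfl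
theorem F179844 : act 2 n38868 = n37589 := d23_1 D38868 (iv D37589) (iv F174025)
def n38869 : Q := act 4 n37582
theorem D38869 : act 4 n37582 = n38869 := rfl
theorem F179845 : act 2 n38869 = n37590 := d18_1 D38869 (iv D37590) (iv F174026)
theorem F179846 : act 5 n38869 = n37586 := d30_2 D37582 D38869 (iv D37586) (iv D36087) (iv F167208)
def n38870 : Q := act 6 n37582
theorem D38870 : act 6 n37582 = n38870 := rfl
theorem F179847 : act 2 n38870 = n37591 := d20_1 D38870 (iv D37591) (iv F174026)
theorem F179848 : act 5 n38870 = n37584 := d35_1 D38870 (iv D37584) (iv D36084) (iv F167209) D37582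
def n38871 : Q := act 9 n37582
theorem D38871 : act 9 n37582 = n38871 := rfl
theorem F179849 : act 2 n38871 = n37592 := d23_1 D38871 (iv D37592) (iv F174026)
theorem F179850 : act 5 n38871 = n37583 := d38_1 D38871 (iv D37583) D37582
def n38872 : Q := act 7 n37584
theorem D38872 : act 7 n37584 = n38872 := rfl
theorem F179851 : act 2 n38872 = n37593 := d21_1 D38872 (iv D37593) (iv F174030)
theorem F179852 : act 4 n38872 = n37610 := d32_1 D38872 (iv D37610) (iv F174031)
theorem F179853 : act 6 n38872 = n37585 := d39_1 D38872 (iv D37585) (iv D36086) (iv F167212) D37584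
def n38873 : Q := act 3 n37586
theorem D38873 : act 3 n37586 = n38873 := rfl
theorem F179854 : act 4 n38873 = n37596 := d24_2 D37586 D38873 F174056 F167247 (iv F167219)
theorem F179855 : act 6 n38873 = n37611 := d26_2 (iv F174035) D38873 (iv D37611)
theorem F179856 : act 8 n38873 = n37595 := d28_2 F179720 D38873 (iv F179718)
def n38874 : Q := act 9 n37586
theorem D38874 : act 9 n37586 = n38874 := rfl
theorem F179857 : act 2 n38874 = n37595 := d23_1 D38874 (iv D37595) (iv F174034)
theorem F179858 : act 4 n38874 = n37587 := d34_1 D38874 (iv D37587) D37586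
theorem F179859 : act 6 n38874 = n37612 := d41_1 D38874 (iv D37612) (iv F174035)
def n38875 : Q := act 4 n37588
theorem D38875 : act 4 n37588 = n38875 := rfl
theorem F179860 : act 8 n38875 = n37590 := d33_2 (iv F174041) D38875 (iv D37590)
def n38876 : Q := act 6 n37588
theorem D38876 : act 6 n37588 = n38876 := rfl
theorem F179861 : act 3 n38876 = n37764 := d26_1 D38876 (iv D37764) (iv F174040)
theorem F179862 : act 8 n38876 = n37591 := d40_2 (iv F174041) D38876 (iv D37591)
def n38877 : Q := act 9 n37588
theorem D38877 : act 9 n37588 = n38877 := rfl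
theorem F179863 : act 3 n38877 = n37765 := d29_1 D38877 (iv D37765) (iv F174040)
theorem F179864 : act 5 n38877 = n37589 := d38_1 D38877 (iv D37589) D37588
def n38878 : Q := act 3 n37590
theorem D38878 : act 3 n37590 = n38878 := rfl
theorem F179865 : act 1 n38878 = n37753 := d10_1 D38878 (iv F179514) F179513
theorem F179866 : act 4 n38878 = n37751 := d24_2 D37590 D38878 F174494 F167931 (iv F167225)
theorem F179867 : act 5 n38878 = n37594 := d25_2 (iv F174043) D38878 (iv D37594)
def n38879 : Q := act 6 n37590
theorem D38879 : act 6 n37590 = n38879 := rfl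
theorem F179868 : act 4 n38879 = n37591 := d31_1 D38879 (iv D37591) D37590
theorem F179869 : act 5 n38879 = n37615 := d35_1 D38879 (iv D37615) F167312 (iv F167233) (iv F174043)
def n38880 : Q := act 9 n37590
theorem D38880 : act 9 n37590 = n38880 := rfl
theorem F179870 : act 4 n38880 = n37592 := d34_1 D38880 (iv D37592) D37590
theorem F179871 : act 5 n38880 = n37595 := d38_1 D38880 (iv D37595) (iv F174043)
def n38881 : Q := act 7 n37591
theorem D38881 : act 7 n37591 = n38881 := rfl
theorem F179872 : act 3 n38881 = n37766 := d27_1 D38881 (iv D37766) (iv F174044)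
theorem F179873 : act 5 n38881 = n37593 := d36_1 D38881 (iv D37593) (iv F174045)
def n38882 : Q := act 8 n37592
theorem D38882 : act 8 n37592 = n38882 := rfl
theorem F179874 : act 3 n38882 = n37767 := d28_1 D38882 (iv D37767) (iv F174046)
def n38883 : Q := act 3 n37598
theorem D38883 : act 3 n37598 = n38883 := rfl
theorem F179875 : act 1 n38883 = n37774 := d10_1 D38883 F179525 F179522
theorem F179876 : act 4 n38883 = n38883 := d24_2 D37598 D38883 (iv D38883) (iv D37598) F167255
theorem F179877 : act 5 n38883 = n37601 := d25_2 (iv F174064) D38883 (iv D37601)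
theorem F179878 : act 7 n38883 = n38883 := d27_2 F174065 D38883 (iv D38883)
def n38884 : Q := act 6 n37598
theorem D38884 : act 6 n37598 = n38884 := rfl
theorem F179879 : act 4 n38884 = n37599 := d31_1 D38884 (iv D37599) D37598
def n38885 : Q := act 7 n37599
theorem D38885 : act 7 n37599 = n38885 := rfl
theorem F179880 : act 2 n38885 = n37669 := d21_1 D38885 (iv F175540) F175537
theorem F179881 : act 3 n38885 = n38885 := d27_1 D38885 (iv D38885) F174066
theorem F179882 : act 5 n38885 = n37600 := d36_1 D38885 (iv D37600) (iv F174067)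
theorem F179883 : act 6 n38885 = n38885 := d39_1 D38885 (iv D38885) (iv D37599) F167256 D37599
def n38886 : Q := act 2 n37601
theorem D38886 : act 2 n37601 = n38886 := rfl
theorem F179884 : act 3 n38886 = n37612 := d17_2 D37601 D38886 F174110 (iv F174060) F174059
theorem F179885 : act 4 n38886 = n37603 := d18_2 (iv F174073) D38886 F174079
theorem F179886 : act 7 n38886 = n38886 := d21_2 F174074 D38886 (iv D38886)
theorem F179887 : act 8 n38886 = n37602 := d22_2 (iv F174075) D38886 F174076
theorem F179888 : act 9 n37611 = n38886 := d44_0 F179887 (iv D37602) F167263 D36121 (iv F174109)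
def n38887 : Q := act 9 n37601
theorem D38887 : act 9 n37601 = n38887 := rfl
theorem F179889 : act 1 n38887 = n37775 := d16_1 D38887 (iv D37775) (iv F174072)
theorem F179890 : act 2 n38887 = n37611 := d23_1 D38887 F179888 (iv D38886)
theorem F179891 : act 3 n38887 = n37602 := d29_1 D38887 (iv D37602) D37601
theorem F179892 : act 4 n38887 = n37604 := d34_1 D38887 (iv D37604) (iv F174073)
theorem F179893 : act 7 n38887 = n38887 := d43_1 D38887 (iv D38887) F174074
theorem F179894 : act 8 n38887 = n37612 := d44_1 D38887 (iv D37612) (iv F174062) F174063 (iv F174075)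
def n38888 : Q := act 4 n37605
theorem D38888 : act 4 n37605 = n38888 := rfl
theorem F179895 : act 1 n38888 = n37608 := d11_1 D38888 (iv D37608) (iv F174090)
theorem F179896 : act 5 n38888 = n37607 := d30_2 D37605 D38888 (iv D37607) (iv D36110) (iv F167285)
theorem F179897 : act 7 n38888 = n38888 := d32_2 F174092 D38888 (iv D38888)
def n38889 : Q := act 6 n37605
theorem D38889 : act 6 n37605 = n38889 := rfl
theorem F179898 : act 1 n38889 = n37609 := d13_1 D38889 (iv D37609) (iv F174090)
theorem F179899 : act 3 n38889 = n38889 := d26_1 D38889 (iv D38889) F174091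
theorem F179900 : act 5 n38889 = n37606 := d35_1 D38889 (iv D37606) (iv D36109) (iv F167286) D37605
def n38890 : Q := act 3 n37608
theorem D38890 : act 3 n37608 = n38890 := rfl
theorem F179901 : act 4 n38890 = n38890 := d24_2 D37608 D38890 (iv D38890) (iv D37608) F167296
theorem F179902 : act 5 n38890 = n37611 := d25_2 (iv F174099) D38890 (iv D37611)
theorem F179903 : act 7 n38890 = n38890 := d27_2 F174100 D38890 (iv D38890)
def n38891 : Q := act 6 n37608
theorem D38891 : act 6 n37608 = n38891 := rfl
theorem F179904 : act 2 n38891 = n37615 := d20_1 D38891 (iv D37615) (iv F174098)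
theorem F179905 : act 4 n38891 = n37609 := d31_1 D38891 (iv D37609) D37608
def n38892 : Q := act 7 n37609
theorem D38892 : act 7 n37609 = n38892 := rfl
theorem F179906 : act 2 n38892 = n37616 := d21_1 D38892 (iv D37616) (iv F174101)
theorem F179907 : act 3 n38892 = n38892 := d27_1 D38892 (iv D38892) F174102
theorem F179908 : act 5 n38892 = n37610 := d36_1 D38892 (iv D37610) (iv F174103)
theorem F179909 : act 6 n38892 = n38892 := d39_1 D38892 (iv D38892) (iv D37609) F167297 D37609
def n38893 : Q := act 6 n37613
theorem D38893 : act 6 n37613 = n38893 := rfl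
theorem F179910 : act 4 n38893 = n37614 := d31_1 D38893 (iv D37614) D37613
theorem F179911 : act 8 n38893 = n37615 := d40_2 (iv F174114) D38893 (iv D37615)
def n38894 : Q := act 7 n37614
theorem D38894 : act 7 n37614 = n38894 := rfl
theorem F179912 : act 3 n38894 = n37617 := d27_1 D38894 (iv D37617) (iv F174115)
theorem F179913 : act 6 n38894 = n38894 := d39_1 D38894 (iv D38894) (iv D37614) F167310 D37614
theorem F179914 : act 8 n38894 = n37616 := d42_2 (iv F174116) D38894 (iv D37616)
def n38895 : Q := act 7 n37615
theorem D38895 : act 7 n37615 = n38895 := rfl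
theorem F179915 : act 4 n38895 = n37616 := d32_1 D38895 (iv D37616) (iv F174117)
theorem F179916 : act 6 n38895 = n38895 := d39_1 D38895 (iv D38895) (iv D37615) F167313 D37615
def n38896 : Q := act 5 n37618
theorem D38896 : act 5 n37618 = n38896 := rfl
theorem F179917 : act 1 n38896 = n37699 := d12_1 D38896 (iv D37699) (iv F174124)
theorem F179918 : act 2 n38896 = n37730 := d19_1 D38896 F174452 (iv F174125)
theorem F179919 : act 3 n38896 = n37619 := d25_1 D38896 (iv D37619) (iv F174126)
theorem F179920 : act 6 n38896 = n38896 := d35_2 D37618 D38896 (iv D38896) (iv D37618) F167341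
theorem F179921 : act 7 n38896 = n37628 := d36_2 (iv F174127) D38896 (iv D37628)
theorem F179922 : act 8 n38896 = n37710 := d37_2 (iv F174128) D38896 F174404 F167817 (iv F167772)
theorem F179923 : act 9 n38896 = n37727 := d38_2 (iv F174129) D38896 (iv D37727)
def n38897 : Q := act 4 n37624
theorem D38897 : act 4 n37624 = n38897 := rfl
theorem F179924 : act 2 n38897 = n37769 := d18_1 D38897 (iv D37769) (iv F174163)
theorem F179925 : act 6 n38897 = n38897 := d31_2 F174165 D38897 (iv D38897)
theorem F179926 : act 7 n38897 = n37633 := d32_2 (iv F174166) D38897 (iv D37633)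
def n38898 : Q := act 4 n37628
theorem D38898 : act 4 n37628 = n38898 := rfl
theorem F179927 : act 1 n38898 = n37738 := d11_1 D38898 (iv D37738) (iv F174185)
theorem F179928 : act 3 n38898 = n37633 := d24_1 D38898 (iv D37633) F167577 (iv F167509) (iv F174186)
theorem F179929 : act 6 n38898 = n37636 := d31_2 (iv F174187) D38898 (iv D37636)
theorem F179930 : act 8 n38898 = n37749 := d33_2 (iv F174188) D38898 F174488
def n38899 : Q := act 4 n37629
theorem D38899 : act 4 n37629 = n38899 := rfl
theorem F179931 : act 2 n38899 = n37770 := d18_1 D38899 (iv D37770) (iv F174189)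
theorem F179932 : act 6 n38899 = n37637 := d31_2 (iv F174191) D38899 (iv D37637)
theorem F179933 : act 9 n38899 = n37633 := d34_2 (iv F174192) D38899 (iv D37633)
def n38900 : Q := act 3 n37630
theorem D38900 : act 3 n37630 = n38900 := rfl
theorem F179934 : act 1 n38900 = n37727 := d10_1 D38900 F174447 (iv F174193)
theorem F179935 : act 2 n38900 = n37710 := d17_1 D38900 F174403 F167823 (iv F167534) (iv F174194)
theorem F179936 : act 5 n38900 = n37700 := d25_2 (iv F174195) D38900 F174380
theorem F179937 : act 6 n38900 = n38900 := d26_2 F174196 D38900 (iv D38900)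
theorem F179938 : act 7 n38900 = n37739 := d27_2 (iv F174197) D38900 F174472
theorem F179939 : act 8 n38900 = n37730 := d28_2 (iv F174198) D38900 F174451
theorem F179940 : act 9 n38900 = n37699 := d29_2 (iv F174199) D38900 F174375
def n38901 : Q := act 4 n37632
theorem D38901 : act 4 n37632 = n38901 := rfl
theorem F179941 : act 1 n38901 = n37633 := d11_1 D38901 (iv D37633) (iv F174202)
theorem F179942 : act 3 n38901 = n37738 := d24_1 D38901 (iv D37738) F167906 (iv F167570) (iv F174203)
theorem F179943 : act 6 n38901 = n37638 := d31_2 (iv F174204) D38901 (iv D37638)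
def n38902 : Q := act 8 n37633
theorem D38902 : act 8 n37633 = n38902 := rfl
theorem F179944 : act 2 n38902 = n37771 := d22_1 D38902 (iv D37771) (iv F174205)
theorem F179945 : act 3 n38902 = n37749 := d28_1 D38902 (iv F179930) F179928
theorem F179946 : act 4 n38902 = n37634 := d33_1 D38902 (iv D37634) D37633
theorem F179947 : act 6 n38902 = n37639 := d40_1 D38902 (iv D37639) (iv F174206)
theorem F179948 : act 9 n37748 = n38902 := d41_0 F179947 (iv F174228) (iv F174487)
def n38903 : Q := act 4 n37635
theorem D38903 : act 4 n37635 = n38903 := rfl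
theorem F179949 : act 2 n38903 = n37772 := d18_1 D38903 (iv D37772) (iv F174211)
theorem F179950 : act 6 n38903 = n38903 := d31_2 F174213 D38903 (iv D38903)
def n38904 : Q := act 5 n37639
theorem D38904 : act 5 n37639 = n38904 := rfl
theorem F179951 : act 2 n38904 = n37774 := d19_1 D38904 (iv D37774) (iv F174224)
theorem F179952 : act 3 n38904 = n37785 := d25_1 D38904 F174563 (iv F174225)
theorem F179953 : act 4 n38904 = n38904 := d30_1 D38904 (iv D38904) F174226 F167618 (iv F174226)
theorem F179954 : act 7 n38904 = n38904 := d36_2 F174227 D38904 (iv D38904)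
theorem F179955 : act 9 n38904 = n37783 := d38_2 F174228 D38904 F174559
def n38905 : Q := act 8 n37640
theorem D38905 : act 8 n37640 = n38905 := rfl
theorem F179956 : act 0 n38905 = n37652 := d7_1 D38905 (iv D37652) (iv F174229)
def n38906 : Q := act 9 n37641
theorem D38906 : act 9 n37641 = n38906 := rfl
theorem F179957 : act 0 n38906 = n37661 := d8_1 D38906 (iv D37661) (iv F174231)
def n38907 : Q := act 8 n37642
theorem D38907 : act 8 n37642 = n38907 := rfl
theorem F179958 : act 2 n38907 = n37643 := d22_1 D38907 (iv D37643) (iv F174232)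
theorem F179959 : act 5 n38907 = n37693 := d37_1 D38907 (iv D37693) (iv D36238) (iv F167628) D37642
theorem F179960 : act 7 n38907 = n37659 := d42_1 D38907 (iv D37659) (iv F174233)
def n38908 : Q := act 5 n37643
theorem D38908 : act 5 n37643 = n38908 := rfl
theorem F179961 : act 1 n38908 = n37719 := d12_1 D38908 (iv D37719) (iv F174234)
theorem F179962 : act 2 n38908 = n37693 := d19_1 D38908 (iv F179959) F179958
theorem F179963 : act 7 n38908 = n37660 := d36_2 (iv F174235) D38908 (iv D37660)
theorem F179964 : act 8 n38908 = n37644 := d37_2 D37643 D38908 (iv D37644) (iv D36189) D36188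
theorem F179965 : act 4 n37716 = n38908 := d33_3 F179964 F174238 D37716
def n38909 : Q := act 9 n37643
theorem D38909 : act 9 n37643 = n38909 := rfl
theorem F179966 : act 1 n38909 = n37720 := d16_1 D38909 (iv D37720) (iv F174234)
theorem F179967 : act 7 n38909 = n37661 := d43_1 D38909 (iv D37661) (iv F174235)
def n38910 : Q := act 5 n37645
theorem D38910 : act 5 n37645 = n38910 := rfl
theorem F179968 : act 1 n38910 = n37755 := d12_1 D38910 (iv D37755) (iv F174240)
theorem F179969 : act 3 n38910 = n37646 := d25_1 D38910 (iv D37646) (iv F174241)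
def n38911 : Q := act 8 n37646
theorem D38911 : act 8 n37646 = n38911 := rfl
theorem F179970 : act 1 n38911 = n37759 := d15_1 D38911 F174508 (iv F174244)
theorem F179971 : act 2 n38911 = n37647 := d22_1 D38911 (iv D37647) (iv F174245)
theorem F179972 : act 4 n38911 = n37659 := d33_1 D38911 (iv D37659) (iv F174246)
theorem F179973 : act 5 n38911 = n37752 := d37_1 D38911 (iv D37752) (iv D36300) (iv F167643) D37646
def n38912 : Q := act 5 n37647
theorem D38912 : act 5 n37647 = n38912 := rfl
theorem F179974 : act 1 n38912 = n37659 := d12_1 D38912 F174273 (iv F174247)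
theorem F179975 : act 2 n38912 = n37752 := d19_1 D38912 (iv F179973) F179971
theorem F179976 : act 4 n38912 = n37759 := d30_1 D38912 (iv D37759) F174277 (iv D37660) (iv F174248)
theorem F179977 : act 8 n38912 = n37648 := d37_2 D37647 D38912 (iv D37648) (iv D36193) D36192
def n38913 : Q := act 9 n37647
theorem D38913 : act 9 n37647 = n38913 := rfl
theorem F179978 : act 1 n38913 = n37732 := d16_1 D38913 (iv D37732) (iv F174247)
theorem F179979 : act 4 n38913 = n37661 := d34_1 D38913 (iv D37661) (iv F174248)
def n38914 : Q := act 9 n37648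
theorem D38914 : act 9 n37648 = n38914 := rfl
theorem F179980 : act 1 n38914 = n37651 := d16_1 D38914 F174260 (iv F174249)
theorem F179981 : act 2 n38914 = n37733 := d23_1 D38914 F174460 (iv F174250)
theorem F179982 : act 4 n38914 = n37762 := d34_1 D38914 (iv D37762) (iv F174251)
theorem F179983 : act 5 n38914 = n37649 := d38_1 D38914 (iv D37649) D37648
def n38915 : Q := act 5 n37650
theorem D38915 : act 5 n37650 = n38915 := rfl
theorem F179984 : act 3 n38915 = n37651 := d25_1 D38915 (iv D37651) (iv F174256)
theorem F179985 : act 9 n38915 = n37658 := d38_2 (iv F174258) D38915 (iv D37658)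
def n38916 : Q := act 8 n37651
theorem D38916 : act 8 n37651 = n38916 := rfl
theorem F179986 : act 2 n38916 = n37652 := d22_1 D38916 (iv D37652) (iv F174259)
def n38917 : Q := act 5 n37652
theorem D38917 : act 5 n37652 = n38917 := rfl
theorem F179987 : act 1 n38917 = n37740 := d12_1 D38917 (iv D37740) (iv F174261)
theorem F179988 : act 8 n38917 = n37653 := d37_2 D37652 D38917 (iv D37653) (iv D36199) D36198
def n38918 : Q := act 9 n37652
theorem D38918 : act 9 n37652 = n38918 := rfl
theorem F179989 : act 1 n38918 = n37741 := d16_1 D38918 (iv D37741) (iv F174261)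
theorem F179990 : act 8 n38918 = n37661 := d44_1 D38918 (iv D37661) (iv D36206) (iv F167666) D37652
def n38919 : Q := act 4 n37653
theorem D38919 : act 4 n37653 = n38919 := rfl
theorem F179991 : act 1 n38919 = n37742 := d11_1 D38919 (iv D37742) (iv F174262)
theorem F179992 : act 5 n38919 = n37656 := d30_2 D37653 D38919 (iv D37656) (iv D36202) (iv F167668)
def n38920 : Q := act 6 n37653
theorem D38920 : act 6 n37653 = n38920 := rfl
theorem F179993 : act 1 n38920 = n37743 := d13_1 D38920 (iv D37743) (iv F174262)
theorem F179994 : act 5 n38920 = n37654 := d35_1 D38920 (iv D37654) (iv D36200) (iv F167669) D37653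
def n38921 : Q := act 7 n37654
theorem D38921 : act 7 n37654 = n38921 := rfl
theorem F179995 : act 1 n38921 = n37745 := d14_1 D38921 (iv D37745) (iv F174263)
theorem F179996 : act 4 n38921 = n37778 := d32_1 D38921 (iv D37778) (iv F174264)
theorem F179997 : act 6 n38921 = n37655 := d39_1 D38921 (iv D37655) (iv D36201) (iv F167672) D37654
def n38922 : Q := act 3 n37656
theorem D38922 : act 3 n37656 = n38922 := rfl
theorem F179998 : act 1 n38922 = n37748 := d10_1 D38922 (iv D37748) (iv F174267)
theorem F179999 : act 4 n38922 = n37657 := d24_2 D37656 D38922 (iv D37657) (iv D36203) (iv F167676)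
theorem F180000 : act 6 n38922 = n37779 := d26_2 (iv F174268) D38922 (iv D37779)
def n38923 : Q := act 4 n37658
theorem D38923 : act 4 n37658 = n38923 := rfl
theorem F180001 : act 5 n38923 = n37729 := d30_2 D37658 D38923 (iv D37729) (iv D36276) (iv F167682)
def n38924 : Q := act 8 n37658
theorem D38924 : act 8 n37658 = n38924 := rfl
theorem F180002 : act 3 n38924 = n37659 := d28_1 D38924 (iv D37659) (iv F174271)
theorem F180003 : act 5 n38924 = n37728 := d37_1 D38924 (iv D37728) (iv D36275) (iv F167683) D37658
def n38925 : Q := act 9 n37659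
theorem D38925 : act 9 n37659 = n38925 := rfl
theorem F180004 : act 2 n38925 = n37661 := d23_1 D38925 (iv D37661) (iv F174272)
theorem F180005 : act 5 n38925 = n37732 := d38_1 D38925 (iv D37732) (iv F174273)
def n38926 : Q := act 9 n37660
theorem D38926 : act 9 n37660 = n38926 := rfl
theorem F180006 : act 1 n38926 = n37765 := d16_1 D38926 (iv D37765) (iv F174274)
theorem F180007 : act 2 n38926 = n37732 := d23_1 D38926 (iv D37732) (iv F174275)
theorem F180008 : act 4 n38926 = n37760 := d34_1 D38926 (iv D37760) F174277
theorem F180009 : act 5 n38926 = n37661 := d38_1 D38926 (iv D37661) D37660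
def n38927 : Q := act 6 n37662
theorem D38927 : act 6 n37662 = n38927 := rfl
theorem F180010 : act 1 n38927 = n37665 := d13_1 D38927 (iv D37665) (iv F174279)
theorem F180011 : act 4 n38927 = n37663 := d31_1 D38927 (iv D37663) (iv F174280)
theorem F180012 : act 9 n38927 = n37671 := d41_2 (iv F174282) D38927 (iv D37671)
def n38928 : Q := act 6 n37664
theorem D38928 : act 6 n37664 = n38928 := rfl
theorem F180013 : act 3 n38928 = n37665 := d26_1 D38928 (iv D37665) (iv F174287)
theorem F180014 : act 4 n38928 = n38928 := d31_1 D38928 (iv D38928) F174288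
theorem F180015 : act 9 n38928 = n37672 := d41_2 (iv F174290) D38928 (iv D37672)
def n38929 : Q := act 5 n37665
theorem D38929 : act 5 n37665 = n38929 := rfl
theorem F180016 : act 2 n38929 = n37666 := d19_1 D38929 (iv D37666) (iv F174291)
theorem F180017 : act 6 n38929 = n37696 := d35_2 D37665 D38929 (iv D37696) (iv D36242) (iv F167701)
theorem F180018 : act 9 n38929 = n37675 := d38_2 (iv F174293) D38929 (iv D37675)
def n38930 : Q := act 8 n37666
theorem D38930 : act 8 n37666 = n38930 := rfl
theorem F180019 : act 6 n38930 = n37701 := d40_1 D38930 (iv D37701) (iv F174294)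
def n38931 : Q := act 5 n37667
theorem D38931 : act 5 n37667 = n38931 := rfl
def n38932 : Q := act 6 n37668
theorem D38932 : act 6 n37668 = n38932 := rfl
theorem F180020 : act 4 n38932 = n38932 := d31_1 D38932 (iv D38932) F174298
theorem F180021 : act 8 n38932 = n37704 := d40_2 (iv F174300) D38932 (iv D37704)
def n38933 : Q := act 4 n37669
theorem D38933 : act 4 n37669 = n38933 := rfl
theorem F180022 : act 6 n38933 = n38933 := d31_2 F174302 D38933 (iv D38933)
def n38934 : Q := act 6 n37670
theorem D38934 : act 6 n37670 = n38934 := rfl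
theorem F180023 : act 1 n38934 = n37672 := d13_1 D38934 (iv D37672) (iv F174303)
theorem F180024 : act 3 n38934 = n37671 := d26_1 D38934 (iv D37671) (iv F174304)
theorem F180025 : act 4 n38934 = n38934 := d31_1 D38934 (iv D38934) F174305
def n38935 : Q := act 5 n37671
theorem D38935 : act 5 n37671 = n38935 := rfl
theorem F180026 : act 1 n38935 = n37675 := d12_1 D38935 (iv D37675) (iv F174307)
theorem F180027 : act 4 n38935 = n37721 := d30_1 D38935 F174436 F167859 (iv F167724) (iv F174308)
theorem F180028 : act 6 n38935 = n37713 := d35_2 D37671 D38935 (iv D37713) (iv D36258) (iv F167721)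
def n38936 : Q := act 5 n37672
theorem D38936 : act 5 n37672 = n38936 := rfl
theorem F180029 : act 3 n38936 = n37675 := d25_1 D38936 (iv D37675) (iv F174309)
theorem F180030 : act 6 n38936 = n37714 := d35_2 D37672 D38936 (iv D37714) (iv D36259) (iv F167727)
def n38937 : Q := act 8 n37672
theorem D38937 : act 8 n37672 = n38937 := rfl
theorem F180031 : act 3 n38937 = n37676 := d28_1 D38937 (iv D37676) (iv F174309)
theorem F180032 : act 4 n38937 = n38937 := d33_1 D38937 (iv D38937) F174310
theorem F180033 : act 6 n38937 = n37673 := d40_1 D38937 (iv D37673) D37672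
def n38938 : Q := act 9 n37673
theorem D38938 : act 9 n37673 = n38938 := rfl
theorem F180034 : act 3 n38938 = n37677 := d29_1 D38938 (iv D37677) (iv F174311)
theorem F180035 : act 4 n38938 = n38938 := d34_1 D38938 (iv D38938) F174312
theorem F180036 : act 7 n38938 = n37674 := d43_1 D38938 (iv D37674) (iv F174313)
def n38939 : Q := act 8 n37675
theorem D38939 : act 8 n37675 = n38939 := rfl
theorem F180037 : act 2 n38939 = n37680 := d22_1 D38939 (iv D37680) (iv F174316)
theorem F180038 : act 6 n38939 = n37716 := d40_1 D38939 (iv D37716) (iv F174317)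
def n38940 : Q := act 5 n37676
theorem D38940 : act 5 n37676 = n38940 := rfl
theorem F180039 : act 2 n38940 = n37681 := d19_1 D38940 (iv D37681) (iv F174318)
def n38941 : Q := act 9 n37676
theorem D38941 : act 9 n37676 = n38941 := rfl
theorem F180040 : act 2 n38941 = n37682 := d23_1 D38941 (iv D37682) (iv F174318)
theorem F180041 : act 4 n38941 = n37679 := d34_1 D38941 (iv D37679) (iv F174319)
theorem F180042 : act 6 n38941 = n37677 := d41_1 D38941 (iv D37677) (iv F174320)
def n38942 : Q := act 4 n37678
theorem D38942 : act 4 n37678 = n38942 := rfl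
theorem F180043 : act 2 n38942 = n37688 := d18_1 D38942 (iv D37688) (iv F174324)
theorem F180044 : act 6 n38942 = n37789 := d31_2 (iv F174326) D38942 (iv D37789)
def n38943 : Q := act 9 n37678
theorem D38943 : act 9 n37678 = n38943 := rfl
theorem F180045 : act 2 n38943 = n37689 := d23_1 D38943 (iv D37689) (iv F174324)
theorem F180046 : act 3 n38943 = n38943 := d29_1 D38943 (iv D38943) F174325
theorem F180047 : act 5 n38943 = n37679 := d38_1 D38943 (iv D37679) D37678
theorem F180048 : act 6 n38943 = n37790 := d41_1 D38943 (iv D37790) (iv F174326)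
def n38944 : Q := act 5 n37680
theorem D38944 : act 5 n37680 = n38944 := rfl
theorem F180049 : act 8 n38944 = n37681 := d37_2 D37680 D38944 (iv D37681) (iv D36229) D36228
def n38945 : Q := act 9 n37680
theorem D38945 : act 9 n37680 = n38945 := rfl
theorem F180050 : act 6 n38945 = n37720 := d41_1 D38945 (iv D37720) (iv F174330)
def n38946 : Q := act 4 n37681
theorem D38946 : act 4 n37681 = n38946 := rfl
theorem F180051 : act 5 n38946 = n37688 := d30_2 D37681 D38946 (iv D37688) (iv D36234) (iv F167745)
def n38947 : Q := act 6 n37681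
theorem D38947 : act 6 n37681 = n38947 := rfl
theorem F180052 : act 5 n38947 = n37683 := d35_1 D38947 (iv D37683) (iv D36230) (iv F167746) D37681
def n38948 : Q := act 9 n37681
theorem D38948 : act 9 n37681 = n38948 := rfl
theorem F180053 : act 5 n38948 = n37682 := d38_1 D38948 (iv D37682) D37681
def n38949 : Q := act 7 n37683
theorem D38949 : act 7 n37683 = n38949 := rfl
theorem F180054 : act 4 n38949 = n37794 := d32_1 D38949 (iv D37794) (iv F174333)
theorem F180055 : act 6 n38949 = n37685 := d39_1 D38949 (iv D37685) (iv D36232) (iv F167748) D37683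
theorem F180056 : act 8 n38949 = n37723 := d42_2 (iv F174334) D38949 (iv D37723)
def n38950 : Q := act 9 n37683
theorem D38950 : act 9 n37683 = n38950 := rfl
theorem F180057 : act 4 n38950 = n37795 := d34_1 D38950 (iv D37795) (iv F174333)
theorem F180058 : act 6 n38950 = n37684 := d41_1 D38950 (iv D37684) D37683
def n38951 : Q := act 8 n37684
theorem D38951 : act 8 n37684 = n38951 := rfl
theorem F180059 : act 4 n38951 = n37796 := d33_1 D38951 (iv D37796) (iv F174335)
theorem F180060 : act 7 n38951 = n37687 := d42_1 D38951 (iv D37687) (iv F174337)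
theorem F180061 : act 9 n38951 = n37725 := d44_2 D37684 D38951 (iv D37725) (iv D36269) (iv F167749)
def n38952 : Q := act 9 n37685
theorem D38952 : act 9 n37685 = n38952 := rfl
theorem F180062 : act 4 n38952 = n37797 := d34_1 D38952 (iv D37797) (iv F174338)
theorem F180063 : act 7 n38952 = n37686 := d43_1 D38952 (iv D37686) D37685
def n38953 : Q := act 3 n37688
theorem D38953 : act 3 n37688 = n38953 := rfl
theorem F180064 : act 4 n38953 = n37690 := d24_2 D37688 D38953 (iv D37690) (iv D36236) (iv F167756)
theorem F180065 : act 6 n38953 = n37798 := d26_2 (iv F174344) D38953 (iv D37798)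
def n38954 : Q := act 9 n37688
theorem D38954 : act 9 n37688 = n38954 := rfl
theorem F180066 : act 4 n38954 = n37689 := d34_1 D38954 (iv D37689) D37688
theorem F180067 : act 6 n38954 = n37799 := d41_1 D38954 (iv D37799) (iv F174344)
def n38955 : Q := act 8 n37689
theorem D38955 : act 8 n37689 = n38955 := rfl
theorem F180068 : act 3 n38955 = n37692 := d28_1 D38955 (iv D37692) (iv F174345)
theorem F180069 : act 6 n38955 = n37800 := d40_1 D38955 (iv D37800) (iv F174347)
def n38956 : Q := act 2 n37690
theorem D38956 : act 2 n37690 = n38956 := rfl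
theorem F180070 : act 3 n38956 = n38956 := d17_2 D37690 D38956 (iv D38956) (iv D37690) F167760
theorem F180071 : act 6 n38956 = n37801 := d20_2 (iv F174348) D38956 (iv D37801)
def n38957 : Q := act 9 n37690
theorem D38957 : act 9 n37690 = n38957 := rfl
theorem F180072 : act 3 n38957 = n37691 := d29_1 D38957 (iv D37691) D37690
theorem F180073 : act 6 n38957 = n37802 := d41_1 D38957 (iv D37802) (iv F174348)
def n38958 : Q := act 9 n37693
theorem D38958 : act 9 n37693 = n38958 := rfl
theorem F180074 : act 4 n38958 = n37720 := d34_1 D38958 (iv D37720) (iv F174354)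
theorem F180075 : act 7 n38958 = n37732 := d43_1 D38958 (iv D37732) (iv F174355)
def n38959 : Q := act 5 n37694
theorem D38959 : act 5 n37694 = n38959 := rfl
theorem F180076 : act 1 n38959 = n37696 := d12_1 D38959 (iv D37696) (iv F174356)
theorem F180077 : act 4 n38959 = n37722 := d30_1 D38959 F174437 F167856 (iv F167772) (iv F174357)
theorem F180078 : act 7 n38959 = n37733 := d36_2 (iv F174358) D38959 (iv D37733)
theorem F180079 : act 9 n38959 = n37713 := d38_2 (iv F174359) D38959 (iv D37713)
def n38960 : Q := act 5 n37695
theorem D38960 : act 5 n37695 = n38960 := rfl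
theorem F180080 : act 3 n38960 = n37696 := d25_1 D38960 (iv D37696) (iv F174360)
theorem F180081 : act 7 n38960 = n37734 := d36_2 (iv F174362) D38960 (iv D37734)
theorem F180082 : act 9 n38960 = n37714 := d38_2 (iv F174363) D38960 (iv D37714)
def n38961 : Q := act 8 n37696
theorem D38961 : act 8 n37696 = n38961 := rfl
theorem F180083 : act 2 n38961 = n37701 := d22_1 D38961 (iv D37701) (iv F174364)
theorem F180084 : act 7 n38961 = n37735 := d42_1 D38961 (iv D37735) (iv F174365)
def n38962 : Q := act 5 n37697
theorem D38962 : act 5 n37697 = n38962 := rfl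
theorem F180085 : act 2 n38962 = n37702 := d19_1 D38962 (iv D37702) (iv F174367)
theorem F180086 : act 7 n38962 = n37736 := d36_2 (iv F174370) D38962 (iv D37736)
def n38963 : Q := act 6 n37698
theorem D38963 : act 6 n37698 = n38963 := rfl
theorem F180087 : act 2 n38963 = n37704 := d20_1 D38963 (iv D37704) (iv F174371)
theorem F180088 : act 4 n38963 = n38963 := d31_1 D38963 (iv D38963) F174372
def n38964 : Q := act 4 n37699
theorem D38964 : act 4 n37699 = n38964 := rfl
theorem F180089 : act 2 n38964 = n37709 := d18_1 D38964 (iv D37709) (iv F174374)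
theorem F180090 : act 6 n38964 = n38964 := d31_2 F174376 D38964 (iv D38964)
theorem F180091 : act 7 n38964 = n37738 := d32_2 (iv F174377) D38964 (iv D37738)
def n38965 : Q := act 5 n37701
theorem D38965 : act 5 n37701 = n38965 := rfl
theorem F180092 : act 7 n38965 = n37740 := d36_2 (iv F174384) D38965 (iv D37740)
theorem F180093 : act 8 n38965 = n37702 := d37_2 D37701 D38965 (iv D37702) (iv D36248) D36247
def n38966 : Q := act 9 n37701
theorem D38966 : act 9 n37701 = n38966 := rfl
theorem F180094 : act 7 n38966 = n37741 := d43_1 D38966 (iv D37741) (iv F174384)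
theorem F180095 : act 8 n38966 = n37720 := d44_1 D38966 (iv D37720) (iv D36265) (iv F167798) D37701
def n38967 : Q := act 4 n37702
theorem D38967 : act 4 n37702 = n38967 := rfl
theorem F180096 : act 5 n38967 = n37709 := d30_2 D37702 D38967 (iv D37709) (iv D36253) (iv F167799)
theorem F180097 : act 7 n38967 = n37742 := d32_2 (iv F174385) D38967 (iv D37742)
def n38968 : Q := act 6 n37702
theorem D38968 : act 6 n37702 = n38968 := rfl
theorem F180098 : act 5 n38968 = n37704 := d35_1 D38968 (iv D37704) (iv D36249) (iv F167800) D37702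
def n38969 : Q := act 9 n37702
theorem D38969 : act 9 n37702 = n38969 := rfl
theorem F180099 : act 5 n38969 = n37703 := d38_1 D38969 (iv D37703) D37702
theorem F180100 : act 7 n38969 = n37744 := d43_1 D38969 (iv D37744) (iv F174385)
def n38970 : Q := act 7 n37704
theorem D38970 : act 7 n37704 = n38970 := rfl
theorem F180101 : act 4 n38970 = n38970 := d32_1 D38970 (iv D38970) F174390
theorem F180102 : act 6 n38970 = n37706 := d39_1 D38970 (iv D37706) (iv D36251) (iv F167803) D37704
def n38971 : Q := act 9 n37704
theorem D38971 : act 9 n37704 = n38971 := rfl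
theorem F180103 : act 4 n38971 = n38971 := d34_1 D38971 (iv D38971) F174390
theorem F180104 : act 6 n38971 = n37705 := d41_1 D38971 (iv D37705) D37704
def n38972 : Q := act 8 n37705
theorem D38972 : act 8 n37705 = n38972 := rfl
theorem F180105 : act 4 n38972 = n38972 := d33_1 D38972 (iv D38972) F174391
theorem F180106 : act 5 n38972 = n37725 := d37_1 D38972 (iv D37725) F167861 (iv F167806) (iv F174392)
theorem F180107 : act 7 n38972 = n37708 := d42_1 D38972 (iv D37708) (iv F174393)
def n38973 : Q := act 9 n37706
theorem D38973 : act 9 n37706 = n38973 := rfl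
theorem F180108 : act 4 n38973 = n38973 := d34_1 D38973 (iv D38973) F174394
theorem F180109 : act 5 n38973 = n37747 := d38_1 D38973 (iv D37747) (iv F174395)
theorem F180110 : act 7 n38973 = n37707 := d43_1 D38973 (iv D37707) D37706
def n38974 : Q := act 3 n37709
theorem D38974 : act 3 n37709 = n38974 := rfl
theorem F180111 : act 4 n38974 = n37711 := d24_2 D37709 D38974 (iv D37711) (iv D36255) (iv F167811)
theorem F180112 : act 6 n38974 = n38974 := d26_2 F174401 D38974 (iv D38974)
theorem F180113 : act 7 n38974 = n37748 := d27_2 (iv F174402) D38974 (iv D37748)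
theorem F180114 : act 8 n38974 = n37772 := d28_2 F175145 D38974 (iv F175142)
def n38975 : Q := act 9 n37709
theorem D38975 : act 9 n37709 = n38975 := rfl
theorem F180115 : act 4 n38975 = n37710 := d34_1 D38975 (iv D37710) D37709
theorem F180116 : act 6 n38975 = n38975 := d41_1 D38975 (iv D38975) F174401
theorem F180117 : act 7 n38975 = n37749 := d43_1 D38975 (iv D37749) (iv F174402)
def n38976 : Q := act 5 n37712
theorem D38976 : act 5 n37712 = n38976 := rfl
theorem F180118 : act 1 n38976 = n37714 := d12_1 D38976 (iv D37714) (iv F174411)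
theorem F180119 : act 3 n38976 = n37713 := d25_1 D38976 (iv D37713) (iv F174412)
theorem F180120 : act 7 n38976 = n37751 := d36_2 (iv F174414) D38976 (iv D37751)
def n38977 : Q := act 8 n37713
theorem D38977 : act 8 n37713 = n38977 := rfl
theorem F180121 : act 1 n38977 = n37716 := d15_1 D38977 (iv D37716) (iv F174415)
theorem F180122 : act 4 n38977 = n37719 := d33_1 D38977 F174434 (iv F174416)
theorem F180123 : act 7 n38977 = n37752 := d42_1 D38977 (iv D37752) (iv F174417)
def n38978 : Q := act 4 n37714
theorem D38978 : act 4 n37714 = n38978 := rfl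
theorem F180124 : act 5 n38978 = n37769 := d30_2 D37714 D38978 (iv D37769) (iv D36321) (iv F167834)
theorem F180125 : act 7 n38978 = n37753 := d32_2 (iv F174419) D38978 (iv D37753)
def n38979 : Q := act 8 n37714
theorem D38979 : act 8 n37714 = n38979 := rfl
theorem F180126 : act 3 n38979 = n37716 := d28_1 D38979 (iv D37716) (iv F174418)
theorem F180127 : act 7 n38979 = n37754 := d42_1 D38979 (iv D37754) (iv F174419)
def n38980 : Q := act 5 n37715
theorem D38980 : act 5 n37715 = n38980 := rfl
theorem F180128 : act 3 n38980 = n37717 := d25_1 D38980 (iv D37717) (iv F174420)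
theorem F180129 : act 7 n38980 = n37755 := d36_2 (iv F174423) D38980 (iv D37755)
def n38981 : Q := act 5 n37716
theorem D38981 : act 5 n37716 = n38981 := rfl
theorem F180130 : act 2 n38981 = n37719 := d19_1 D38981 (iv D37719) (iv F174424)
theorem F180131 : act 7 n38981 = n37759 := d36_2 (iv F174425) D38981 (iv D37759)
theorem F180132 : act 8 n38981 = n37717 := d37_2 D37716 D38981 (iv D37717) (iv D36262) D36261
def n38982 : Q := act 9 n37716
theorem D38982 : act 9 n37716 = n38982 := rfl
theorem F180133 : act 2 n38982 = n37720 := d23_1 D38982 (iv D37720) (iv F174424)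
theorem F180134 : act 7 n38982 = n37760 := d43_1 D38982 (iv D37760) (iv F174425)
def n38983 : Q := act 9 n37717
theorem D38983 : act 9 n37717 = n38983 := rfl
theorem F180135 : act 1 n38983 = n37726 := d16_1 D38983 (iv F174628) F174623
theorem F180136 : act 2 n38983 = n37722 := d23_1 D38983 (iv D37722) (iv F174426)
theorem F180137 : act 5 n38983 = n37718 := d38_1 D38983 (iv D37718) D37717
theorem F180138 : act 7 n38983 = n37762 := d43_1 D38983 (iv D37762) (iv F174427)
def n38984 : Q := act 6 n37719
theorem D38984 : act 6 n37719 = n38984 := rfl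
theorem F180139 : act 8 n38984 = n37721 := d40_2 (iv F174434) D38984 (iv D37721)
def n38985 : Q := act 9 n37719
theorem D38985 : act 9 n37719 = n38985 := rfl
theorem F180140 : act 5 n38985 = n37720 := d38_1 D38985 (iv D37720) D37719
theorem F180141 : act 7 n38985 = n37765 := d43_1 D38985 (iv D37765) (iv F174433)
def n38986 : Q := act 7 n37721
theorem D38986 : act 7 n37721 = n38986 := rfl
theorem F180142 : act 5 n38986 = n37723 := d36_1 D38986 (iv D37723) (iv F174436)
theorem F180143 : act 6 n38986 = n37766 := d39_1 D38986 (iv D37766) (iv D36313) (iv F167855) D37721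
def n38987 : Q := act 9 n37721
theorem D38987 : act 9 n37721 = n38987 := rfl
theorem F180144 : act 5 n38987 = n37724 := d38_1 D38987 (iv D37724) (iv F174436)
theorem F180145 : act 6 n38987 = n37722 := d41_1 D38987 (iv D37722) D37721
def n38988 : Q := act 8 n37722
theorem D38988 : act 8 n37722 = n38988 := rfl
theorem F180146 : act 7 n38988 = n37767 := d42_1 D38988 (iv D37767) (iv F174438)
def n38989 : Q := act 8 n37724
theorem D38989 : act 8 n37724 = n38989 := rfl
theorem F180147 : act 4 n38989 = n37803 := d33_1 D38989 (iv D37803) (iv F174441)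
theorem F180148 : act 6 n38989 = n37725 := d40_1 D38989 (iv D37725) (iv F174442)
def n38990 : Q := act 8 n37726
theorem D38990 : act 8 n37726 = n38990 := rfl
theorem F180149 : act 2 n38990 = n37728 := d22_1 D38990 (iv D37728) (iv F174445)
def n38991 : Q := act 4 n37727
theorem D38991 : act 4 n37727 = n38991 := rfl
theorem F180150 : act 2 n38991 = n37729 := d18_1 D38991 (iv D37729) (iv F174446)
theorem F180151 : act 6 n38991 = n38991 := d31_2 F174448 D38991 (iv D38991)
def n38992 : Q := act 9 n37728
theorem D38992 : act 9 n37728 = n38992 := rfl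
theorem F180152 : act 3 n38992 = n37732 := d29_1 D38992 (iv D37732) (iv F174449)
def n38993 : Q := act 3 n37729
theorem D38993 : act 3 n37729 = n38993 := rfl
theorem F180153 : act 1 n38993 = n37772 := d10_1 D38993 (iv F175142) F175141
theorem F180154 : act 4 n38993 = n37731 := d24_2 D37729 D38993 (iv D37731) (iv D36278) (iv F167875)
theorem F180155 : act 6 n38993 = n38993 := d26_2 F174450 D38993 (iv D38993)
def n38994 : Q := act 9 n37729
theorem D38994 : act 9 n37729 = n38994 := rfl
theorem F180156 : act 4 n38994 = n37730 := d34_1 D38994 (iv D37730) D37729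
theorem F180157 : act 6 n38994 = n38994 := d41_1 D38994 (iv D38994) F174450
def n38995 : Q := act 8 n37733
theorem D38995 : act 8 n37733 = n38995 := rfl
theorem F180158 : act 1 n38995 = n37735 := d15_1 D38995 (iv D37735) (iv F174458)
theorem F180159 : act 4 n38995 = n37767 := d33_1 D38995 (iv D37767) (iv F174459)
def n38996 : Q := act 4 n37734
theorem D38996 : act 4 n37734 = n38996 := rfl
theorem F180160 : act 5 n38996 = n37770 := d30_2 D37734 D38996 (iv D37770) (iv D36326) (iv F167894)
theorem F180161 : act 9 n38996 = n37753 := d34_2 (iv F174462) D38996 (iv D37753)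
def n38997 : Q := act 8 n37734
theorem D38997 : act 8 n37734 = n38997 := rfl
theorem F180162 : act 3 n38997 = n37735 := d28_1 D38997 (iv D37735) (iv F174461)
def n38998 : Q := act 5 n37735
theorem D38998 : act 5 n37735 = n38998 := rfl
theorem F180163 : act 2 n38998 = n37740 := d19_1 D38998 (iv D37740) (iv F174463)
theorem F180164 : act 8 n38998 = n37736 := d37_2 D37735 D38998 (iv D37736) (iv D36285) D36284
def n38999 : Q := act 9 n37735
theorem D38999 : act 9 n37735 = n38999 := rfl
theorem F180165 : act 2 n38999 = n37741 := d23_1 D38999 (iv D37741) (iv F174463)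
theorem F180166 : act 8 n38999 = n37760 := d44_1 D38999 (iv D37760) (iv D36306) (iv F167897) D37735
def n39000 : Q := act 4 n37736
theorem D39000 : act 4 n37736 = n39000 := rfl
theorem F180167 : act 2 n39000 = n37742 := d18_1 D39000 (iv D37742) (iv F174464)
theorem F180168 : act 5 n39000 = n37738 := d30_2 D37736 D39000 (iv D37738) (iv D36287) (iv F167899)
def n39001 : Q := act 9 n37736
theorem D39001 : act 9 n37736 = n39001 := rfl
theorem F180169 : act 2 n39001 = n37744 := d23_1 D39001 (iv D37744) (iv F174464)
theorem F180170 : act 5 n39001 = n37737 := d38_1 D39001 (iv D37737) D37736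
def n39002 : Q := act 9 n37738
theorem D39002 : act 9 n37738 = n39002 := rfl
theorem F180171 : act 2 n39002 = n37749 := d23_1 D39002 (iv D37749) (iv F174469)
theorem F180172 : act 4 n39002 = n37739 := d34_1 D39002 (iv D37739) D37738
theorem F180173 : act 6 n39002 = n37780 := d41_1 D39002 (iv D37780) (iv F174470)
def n39003 : Q := act 4 n37740
theorem D39003 : act 4 n37740 = n39003 := rfl
theorem F180174 : act 8 n39003 = n37742 := d33_2 (iv F174475) D39003 (iv D37742)
def n39004 : Q := act 6 n37740
theorem D39004 : act 6 n37740 = n39004 := rfl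
theorem F180175 : act 8 n39004 = n37743 := d40_2 (iv F174475) D39004 (iv D37743)
def n39005 : Q := act 9 n37740
theorem D39005 : act 9 n37740 = n39005 := rfl
theorem F180176 : act 5 n39005 = n37741 := d38_1 D39005 (iv D37741) D37740
def n39006 : Q := act 3 n37742
theorem D39006 : act 3 n37742 = n39006 := rfl
theorem F180177 : act 5 n39006 = n37748 := d25_2 (iv F174477) D39006 (iv D37748)
def n39007 : Q := act 6 n37742
theorem D39007 : act 6 n37742 = n39007 := rfl
theorem F180178 : act 4 n39007 = n37743 := d31_1 D39007 (iv D37743) D37742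
theorem F180179 : act 5 n39007 = n37784 := d35_1 D39007 (iv D37784) F168041 (iv F167922) (iv F174477)
def n39008 : Q := act 9 n37742
theorem D39008 : act 9 n37742 = n39008 := rfl
theorem F180180 : act 4 n39008 = n37744 := d34_1 D39008 (iv D37744) D37742
theorem F180181 : act 5 n39008 = n37749 := d38_1 D39008 (iv D37749) (iv F174477)
def n39009 : Q := act 7 n37743
theorem D39009 : act 7 n37743 = n39009 := rfl
theorem F180182 : act 5 n39009 = n37745 := d36_1 D39009 (iv D37745) (iv F174478)
def n39010 : Q := act 9 n37743
theorem D39010 : act 9 n37743 = n39010 := rfl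
theorem F180183 : act 5 n39010 = n37746 := d38_1 D39010 (iv D37746) (iv F174478)
theorem F180184 : act 6 n39010 = n37744 := d41_1 D39010 (iv D37744) D37743
def n39011 : Q := act 8 n37744
theorem D39011 : act 8 n37744 = n39011 := rfl
theorem F180185 : act 5 n39011 = n37767 := d37_1 D39011 (iv D37767) F167955 (iv F167914) (iv F174479)
def n39012 : Q := act 9 n37745
theorem D39012 : act 9 n37745 = n39012 := rfl
theorem F180186 : act 4 n39012 = n37788 := d34_1 D39012 (iv D37788) (iv F174480)
theorem F180187 : act 6 n39012 = n37747 := d41_1 D39012 (iv D37747) (iv F174481)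
theorem F180188 : act 7 n39012 = n37746 := d43_1 D39012 (iv D37746) D37745
def n39013 : Q := act 2 n37748
theorem D39013 : act 2 n37748 = n39013 := rfl
theorem F180189 : act 4 n39013 = n37750 := d18_2 (iv F174486) D39013 (iv D37750)
theorem F180190 : act 6 n39013 = n37775 := d20_2 (iv F174487) D39013 F174536
theorem F180191 : act 9 n39013 = n37771 := d23_2 (iv F179948) D39013 (iv F179944)
def n39014 : Q := act 8 n37751
theorem D39014 : act 8 n37751 = n39014 := rfl
theorem F180192 : act 1 n39014 = n37754 := d15_1 D39014 (iv D37754) (iv F174493)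
theorem F180193 : act 3 n39014 = n37752 := d28_1 D39014 (iv D37752) (iv F174494)
def n39015 : Q := act 9 n37752
theorem D39015 : act 9 n37752 = n39015 := rfl
theorem F180194 : act 1 n39015 = n37760 := d16_1 D39015 (iv D37760) (iv F174495)
theorem F180195 : act 4 n39015 = n37765 := d34_1 D39015 (iv D37765) (iv F174496)
def n39016 : Q := act 8 n37753
theorem D39016 : act 8 n37753 = n39016 := rfl
theorem F180196 : act 4 n39016 = n37754 := d33_1 D39016 (iv D37754) D37753
def n39017 : Q := act 5 n37754
theorem D39017 : act 5 n37754 = n39017 := rfl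
theorem F180197 : act 3 n39017 = n37759 := d25_1 D39017 (iv D37759) (iv F174498)
theorem F180198 : act 8 n39017 = n37755 := d37_2 D37754 D39017 (iv D37755) (iv D36302) D36301
def n39018 : Q := act 9 n37754
theorem D39018 : act 9 n37754 = n39018 := rfl
theorem F180199 : act 3 n39018 = n37760 := d29_1 D39018 (iv D37760) (iv F174498)
def n39019 : Q := act 4 n37755
theorem D39019 : act 4 n37755 = n39019 := rfl
theorem F180200 : act 5 n39019 = n37772 := d30_2 D37755 D39019 (iv D37772) (iv D36331) (iv F167934)
def n39020 : Q := act 6 n37755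
theorem D39020 : act 6 n37755 = n39020 := rfl
theorem F180201 : act 3 n39020 = n37761 := d26_1 D39020 (iv D37761) (iv F174499)
theorem F180202 : act 5 n39020 = n37757 := d35_1 D39020 (iv D37757) (iv D36303) (iv F167935) D37755
def n39021 : Q := act 9 n37755
theorem D39021 : act 9 n37755 = n39021 := rfl
theorem F180203 : act 3 n39021 = n37762 := d29_1 D39021 (iv D37762) (iv F174499)
theorem F180204 : act 5 n39021 = n37756 := d38_1 D39021 (iv D37756) D37755
def n39022 : Q := act 7 n37757
theorem D39022 : act 7 n37757 = n39022 := rfl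
theorem F180205 : act 3 n39022 = n37763 := d27_1 D39022 (iv D37763) (iv F174503)
theorem F180206 : act 4 n39022 = n39022 := d32_1 D39022 (iv D39022) F174504
theorem F180207 : act 6 n39022 = n37758 := d39_1 D39022 (iv D37758) (iv D36305) (iv F167938) D37757
def n39023 : Q := act 6 n37759
theorem D39023 : act 6 n37759 = n39023 := rfl
theorem F180208 : act 2 n39023 = n37764 := d20_1 D39023 (iv D37764) (iv F174507)
theorem F180209 : act 8 n39023 = n37761 := d40_2 (iv F174508) D39023 (iv D37761)
def n39024 : Q := act 9 n37759
theorem D39024 : act 9 n37759 = n39024 := rfl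
theorem F180210 : act 2 n39024 = n37765 := d23_1 D39024 (iv D37765) (iv F174507)
theorem F180211 : act 5 n39024 = n37760 := d38_1 D39024 (iv D37760) D37759
def n39025 : Q := act 7 n37761
theorem D39025 : act 7 n37761 = n39025 := rfl
theorem F180212 : act 2 n39025 = n37766 := d21_1 D39025 (iv D37766) (iv F174510)
theorem F180213 : act 5 n39025 = n37763 := d36_1 D39025 (iv D37763) (iv F174511)
def n39026 : Q := act 8 n37762
theorem D39026 : act 8 n37762 = n39026 := rfl
theorem F180214 : act 2 n39026 = n37767 := d22_1 D39026 (iv D37767) (iv F174512)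
def n39027 : Q := act 7 n37764
theorem D39027 : act 7 n37764 = n39027 := rfl
theorem F180215 : act 8 n39027 = n37766 := d42_2 (iv F174517) D39027 (iv D37766)
def n39028 : Q := act 9 n37764
theorem D39028 : act 9 n37764 = n39028 := rfl
theorem F180216 : act 6 n39028 = n37765 := d41_1 D39028 (iv D37765) D37764
def n39029 : Q := act 8 n37765
theorem D39029 : act 8 n37765 = n39029 := rfl
theorem F180217 : act 9 n39029 = n37767 := d44_2 D37765 D39029 (iv D37767) (iv D36314) (iv F167953)
def n39030 : Q := act 4 n37768
theorem D39030 : act 4 n37768 = n39030 := rfl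
theorem F180218 : act 6 n39030 = n39030 := d31_2 F174521 D39030 (iv D39030)
theorem F180219 : act 7 n39030 = n37770 := d32_2 (iv F174522) D39030 (iv D37770)
theorem F180220 : act 9 n39030 = n37769 := d34_2 (iv F174523) D39030 (iv D37769)
def n39031 : Q := act 5 n37771
theorem D39031 : act 5 n37771 = n39031 := rfl
def n39032 : Q := act 9 n37772
theorem D39032 : act 9 n37772 = n39032 := rfl
theorem F180221 : act 4 n39032 = n37773 := d34_1 D39032 (iv D37773) D37772
theorem F180222 : act 6 n39032 = n39032 := d41_1 D39032 (iv D39032) F174530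
def n39033 : Q := act 6 n37774
theorem D39033 : act 6 n37774 = n39033 := rfl
theorem F180223 : act 4 n39033 = n39033 := d31_1 D39033 (iv D39033) F174534
def n39034 : Q := act 9 n37774
theorem D39034 : act 9 n37774 = n39034 := rfl
theorem F180224 : act 2 n39034 = n37783 := d23_1 D39034 (iv F179955) F179951
theorem F180225 : act 4 n39034 = n39034 := d34_1 D39034 (iv D39034) F174534
theorem F180226 : act 5 n39034 = n37775 := d38_1 D39034 (iv D37775) D37774
theorem F180227 : act 7 n39034 = n39034 := d43_1 D39034 (iv D39034) F174535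
def n39035 : Q := act 3 n37776
theorem D39035 : act 3 n37776 = n39035 := rfl
theorem F180228 : act 1 n39035 = n37783 := d10_1 D39035 (iv D37783) (iv F174539)
theorem F180229 : act 4 n39035 = n39035 := d24_2 D37776 D39035 (iv D39035) (iv D37776) F168020
theorem F180230 : act 5 n39035 = n37779 := d25_2 (iv F174540) D39035 (iv D37779)
theorem F180231 : act 7 n39035 = n39035 := d27_2 F174541 D39035 (iv D39035)
def n39036 : Q := act 6 n37776
theorem D39036 : act 6 n37776 = n39036 := rfl
theorem F180232 : act 1 n39036 = n37784 := d13_1 D39036 (iv D37784) (iv F174539)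
theorem F180233 : act 4 n39036 = n37777 := d31_1 D39036 (iv D37777) D37776
def n39037 : Q := act 7 n37777
theorem D39037 : act 7 n37777 = n39037 := rfl
theorem F180234 : act 1 n39037 = n37786 := d14_1 D39037 (iv D37786) (iv F174542)
theorem F180235 : act 3 n39037 = n39037 := d27_1 D39037 (iv D39037) F174543
theorem F180236 : act 5 n39037 = n37778 := d36_1 D39037 (iv D37778) (iv F174544)
theorem F180237 : act 6 n39037 = n39037 := d39_1 D39037 (iv D39037) (iv D37777) F168021 D37777
def n39038 : Q := act 3 n37781
theorem D39038 : act 3 n37781 = n39038 := rfl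
theorem F180238 : act 4 n39038 = n39038 := d24_2 D37781 D39038 (iv D39038) (iv D37781) F168038
theorem F180239 : act 7 n39038 = n39038 := d27_2 F174554 D39038 (iv D39038)
theorem F180240 : act 8 n39038 = n37783 := d28_2 (iv F174555) D39038 (iv D37783)
def n39039 : Q := act 6 n37781
theorem D39039 : act 6 n37781 = n39039 := rfl
theorem F180241 : act 4 n39039 = n37782 := d31_1 D39039 (iv D37782) D37781
theorem F180242 : act 8 n39039 = n37784 := d40_2 (iv F174555) D39039 (iv D37784)
def n39040 : Q := act 6 n37783
theorem D39040 : act 6 n37783 = n39040 := rfl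
theorem F180243 : act 3 n39040 = n37784 := d26_1 D39040 (iv D37784) D37783
theorem F180244 : act 4 n39040 = n39040 := d31_1 D39040 (iv D39040) F174558
def n39041 : Q := act 7 n37784
theorem D39041 : act 7 n37784 = n39041 := rfl
theorem F180245 : act 4 n39041 = n37786 := d32_1 D39041 (iv D37786) (iv F174561)
theorem F180246 : act 6 n39041 = n39041 := d39_1 D39041 (iv D39041) (iv D37784) F168042 D37784
def n39042 : Q := act 9 n37784
theorem D39042 : act 9 n37784 = n39042 := rfl
theorem F180247 : act 4 n39042 = n37787 := d34_1 D39042 (iv D37787) (iv F174561)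
theorem F180248 : act 6 n39042 = n37785 := d41_1 D39042 (iv D37785) D37784
def n39043 : Q := act 9 n37786
theorem D39043 : act 9 n37786 = n39043 := rfl
theorem F180249 : act 3 n39043 = n39043 := d29_1 D39043 (iv D39043) F174565
theorem F180250 : act 5 n39043 = n37788 := d38_1 D39043 (iv D37788) (iv F174566)
theorem F180251 : act 6 n39043 = n39043 := d41_1 D39043 (iv D39043) F174567
theorem F180252 : act 7 n39043 = n37787 := d43_1 D39043 (iv D37787) D37786
def n39044 : Q := act 3 n37789
theorem D39044 : act 3 n37789 = n39044 := rfl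
theorem F180253 : act 4 n39044 = n39044 := d24_2 D37789 D39044 (iv D39044) (iv D37789) F168060
theorem F180254 : act 7 n39044 = n39044 := d27_2 F174575 D39044 (iv D39044)
def n39045 : Q := act 9 n37789
theorem D39045 : act 9 n37789 = n39045 := rfl
theorem F180255 : act 2 n39045 = n37799 := d23_1 D39045 (iv D37799) (iv F174574)
theorem F180256 : act 4 n39045 = n37790 := d34_1 D39045 (iv D37790) D37789
theorem F180257 : act 7 n39045 = n39045 := d43_1 D39045 (iv D39045) F174575
def n39046 : Q := act 8 n37790
theorem D39046 : act 8 n37790 = n39046 := rfl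
theorem F180258 : act 1 n39046 = n37801 := d15_1 D39046 (iv F175816) F175812
theorem F180259 : act 2 n39046 = n37800 := d22_1 D39046 (iv D37800) (iv F174576)
theorem F180260 : act 3 n39046 = n39046 := d28_1 D39046 (iv D39046) F174577
theorem F180261 : act 5 n39046 = n39046 := d37_1 D39046 (iv D39046) F174578 F168066 (iv F174578)
theorem F180262 : act 7 n39046 = n39046 := d42_1 D39046 (iv D39046) F174579
def n39047 : Q := act 3 n37791
theorem D39047 : act 3 n37791 = n39047 := rfl
theorem F180263 : act 4 n39047 = n39047 := d24_2 D37791 D39047 (iv D39047) (iv D37791) F168067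
theorem F180264 : act 5 n39047 = n37798 := d25_2 (iv F174580) D39047 (iv D37798)
theorem F180265 : act 7 n39047 = n39047 := d27_2 F174581 D39047 (iv D39047)
def n39048 : Q := act 6 n37791
theorem D39048 : act 6 n37791 = n39048 := rfl
theorem F180266 : act 4 n39048 = n37792 := d31_1 D39048 (iv D37792) D37791
def n39049 : Q := act 9 n37791
theorem D39049 : act 9 n37791 = n39049 := rfl
theorem F180267 : act 4 n39049 = n37793 := d34_1 D39049 (iv D37793) D37791
theorem F180268 : act 5 n39049 = n37799 := d38_1 D39049 (iv D37799) (iv F174580)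
theorem F180269 : act 7 n39049 = n39049 := d43_1 D39049 (iv D39049) F174581
def n39050 : Q := act 7 n37792
theorem D39050 : act 7 n37792 = n39050 := rfl
theorem F180270 : act 3 n39050 = n39050 := d27_1 D39050 (iv D39050) F174582
theorem F180271 : act 5 n39050 = n37794 := d36_1 D39050 (iv D37794) (iv F174583)
theorem F180272 : act 6 n39050 = n39050 := d39_1 D39050 (iv D39050) (iv D37792) F168068 D37792
def n39051 : Q := act 9 n37792
theorem D39051 : act 9 n37792 = n39051 := rfl
theorem F180273 : act 3 n39051 = n39051 := d29_1 D39051 (iv D39051) F174582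
theorem F180274 : act 5 n39051 = n37795 := d38_1 D39051 (iv D37795) (iv F174583)
theorem F180275 : act 6 n39051 = n37793 := d41_1 D39051 (iv D37793) D37792
def n39052 : Q := act 8 n37793
theorem D39052 : act 8 n37793 = n39052 := rfl
theorem F180276 : act 2 n39052 = n37802 := d22_1 D39052 (iv F176882) F176878
theorem F180277 : act 3 n39052 = n39052 := d28_1 D39052 (iv D39052) F174584
theorem F180278 : act 5 n39052 = n39052 := d37_1 D39052 (iv D39052) F174585 F168073 (iv F174585)
theorem F180279 : act 7 n39052 = n39052 := d42_1 D39052 (iv D39052) F174586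
theorem F180280 : act 9 n39052 = n37801 := d44_2 D37793 D39052 (iv F175816) F175817 F170284
def n39053 : Q := act 9 n37794
theorem D39053 : act 9 n37794 = n39053 := rfl
theorem F180281 : act 3 n39053 = n39053 := d29_1 D39053 (iv D39053) F174587
theorem F180282 : act 6 n39053 = n37797 := d41_1 D39053 (iv D37797) (iv F174588)
theorem F180283 : act 7 n39053 = n37795 := d43_1 D39053 (iv D37795) D37794
def n39054 : Q := act 8 n37795
theorem D39054 : act 8 n37795 = n39054 := rfl
theorem F180284 : act 3 n39054 = n39054 := d28_1 D39054 (iv D39054) F174590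
theorem F180285 : act 6 n39054 = n37796 := d40_1 D39054 (iv D37796) (iv F174591)
theorem F180286 : act 9 n39054 = n37803 := d44_2 D37795 D39054 (iv D37803) (iv D36368) (iv F168075)
def n39055 : Q := act 2 n37798
theorem D39055 : act 2 n37798 = n39055 := rfl
theorem F180287 : act 4 n39055 = n37801 := d18_2 (iv F174599) D39055 (iv D37801)
theorem F180288 : act 7 n39055 = n39055 := d21_2 F174600 D39055 (iv D39055)
def n39056 : Q := act 9 n37798
theorem D39056 : act 9 n37798 = n39056 := rfl
theorem F180289 : act 3 n39056 = n37799 := d29_1 D39056 (iv D37799) D37798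
theorem F180290 : act 4 n39056 = n37802 := d34_1 D39056 (iv D37802) (iv F174599)
theorem F180291 : act 7 n39056 = n39056 := d43_1 D39056 (iv D39056) F174600
def n39057 : Q := act 8 n37799
theorem D39057 : act 8 n37799 = n39057 := rfl
theorem F180292 : act 4 n39057 = n37800 := d33_1 D39057 (iv D37800) (iv F174601)
theorem F180293 : act 7 n39057 = n39057 := d42_1 D39057 (iv D39057) F174602
def n39058 : Q := act 5 n37803
theorem D39058 : act 5 n37803 = n39058 := rfl
theorem F180294 : act 3 n39058 = n39058 := d25_1 D39058 (iv D39058) F174612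
theorem F180295 : act 6 n39058 = n39058 := d35_2 (iv F174613) D39058 (iv D39058) F174613 F168106
def n39059 : Q := act 5 n37804
theorem D39059 : act 5 n37804 = n39059 := rfl
theorem F180296 : act 0 n39059 = n38566 := d4_1 D39059 (iv D38566) (iv F174614)
theorem F180297 : act 1 n39059 = n38980 := d12_1 D39059 (iv D38980) (iv F174615)
theorem F180298 : act 2 n39059 = n37883 := d19_1 D39059 (iv D37883) (iv F174616)
theorem F180299 : act 3 n39059 = n37805 := d25_1 D39059 (iv D37805) (iv F174617)
theorem F180300 : act 6 n39059 = n38140 := d35_2 D37804 D39059 (iv D38140) (iv D36711) (iv F168157)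
theorem F180301 : act 7 n39059 = n38910 := d36_2 (iv F174619) D39059 (iv D38910)
theorem F180302 : act 9 n39059 = n38760 := d38_2 (iv F174621) D39059 (iv D38760)
def n39060 : Q := act 8 n37805
theorem D39060 : act 8 n37805 = n39060 := rfl
theorem F180303 : act 0 n39060 = n38567 := d7_1 D39060 (iv D38567) (iv F174622)
theorem F180304 : act 1 n39060 = n38981 := d15_1 D39060 F180132 (iv F174623)
theorem F180305 : act 2 n39060 = n37806 := d22_1 D39060 (iv D37806) (iv F174624)
theorem F180306 : act 4 n39060 = n38907 := d33_1 D39060 (iv D38907) (iv F174625)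
theorem F180307 : act 5 n39060 = n38977 := d37_1 D39060 (iv D38977) (iv D37713) (iv F168165) D37805
theorem F180308 : act 6 n39060 = n38146 := d40_1 D39060 (iv D38146) (iv F174626)
theorem F180309 : act 7 n39060 = n38911 := d42_1 D39060 (iv D38911) (iv F174627)
def n39061 : Q := act 5 n37806
theorem D39061 : act 5 n37806 = n39061 := rfl
theorem F180310 : act 0 n39061 = n38568 := d4_1 D39061 (iv D38568) (iv F174629)
theorem F180311 : act 1 n39061 = n38907 := d12_1 D39061 F179959 (iv F174630)
theorem F180312 : act 2 n39061 = n38977 := d19_1 D39061 (iv F180307) F180305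
theorem F180313 : act 3 n39061 = n37892 := d25_1 D39061 (iv D37892) (iv F174631)
theorem F180314 : act 4 n39061 = n38981 := d30_1 D39061 (iv D38981) F179965 (iv D38908) (iv F174632)
theorem F180315 : act 7 n39061 = n38912 := d36_2 (iv F174634) D39061 (iv D38912)
theorem F180316 : act 8 n39061 = n37807 := d37_2 D37806 D39061 (iv D37807) (iv D36380) D36379
def n39062 : Q := act 9 n37806
theorem D39062 : act 9 n37806 = n39062 := rfl
theorem F180317 : act 0 n39062 = n38569 := d8_1 D39062 (iv D38569) (iv F174629)
theorem F180318 : act 1 n39062 = n38958 := d16_1 D39062 (iv D38958) (iv F174630)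
theorem F180319 : act 3 n39062 = n37893 := d29_1 D39062 (iv D37893) (iv F174631)
theorem F180320 : act 4 n39062 = n38909 := d34_1 D39062 (iv D38909) (iv F174632)
theorem F180321 : act 6 n39062 = n38157 := d41_1 D39062 (iv D38157) (iv F174633)
theorem F180322 : act 7 n39062 = n38913 := d43_1 D39062 (iv D38913) (iv F174634)
theorem F180323 : act 8 n39062 = n38992 := d44_1 D39062 (iv D38992) (iv D37728) (iv F168173) D37806
def n39063 : Q := act 6 n37807
theorem D39063 : act 6 n37807 = n39063 := rfl
theorem F180324 : act 0 n39063 = n38570 := d5_1 D39063 (iv D38570) (iv F174635)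
theorem F180325 : act 1 n39063 = n38085 := d13_1 D39063 F176427 (iv F174636)
theorem F180326 : act 2 n39063 = n38935 := d20_1 D39063 F180028 (iv F174637)
theorem F180327 : act 3 n39063 = n37895 := d26_1 D39063 (iv D37895) (iv F174638)
theorem F180328 : act 4 n39063 = n38135 := d31_1 D39063 F176699 (iv F174639)
theorem F180329 : act 5 n39063 = n37809 := d35_1 D39063 (iv D37809) (iv D36381) (iv F168179) D37807
def n39064 : Q := act 9 n37807
theorem D39064 : act 9 n37807 = n39064 := rfl
theorem F180330 : act 0 n39064 = n38571 := d8_1 D39064 (iv D38571) (iv F174635)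
theorem F180331 : act 1 n39064 = n38810 := d16_1 D39064 F179680 (iv F174636)
theorem F180332 : act 2 n39064 = n38959 := d23_1 D39064 F180079 (iv F174637)
theorem F180333 : act 3 n39064 = n37896 := d29_1 D39064 (iv D37896) (iv F174638)
theorem F180334 : act 4 n39064 = n38983 := d34_1 D39064 (iv D38983) (iv F174639)
theorem F180335 : act 5 n39064 = n37808 := d38_1 D39064 (iv D37808) D37807
theorem F180336 : act 7 n39064 = n38914 := d43_1 D39064 (iv D38914) (iv F174640)
def n39065 : Q := act 7 n37809
theorem D39065 : act 7 n37809 = n39065 := rfl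
theorem F180337 : act 0 n39065 = n38572 := d6_1 D39065 (iv D38572) (iv F174649)
theorem F180338 : act 1 n39065 = n38009 := d14_1 D39065 F175944 (iv F174650)
theorem F180339 : act 2 n39065 = n38610 := d21_1 D39065 F178984 (iv F174651)
theorem F180340 : act 3 n39065 = n37897 := d27_1 D39065 (iv D37897) (iv F174652)
theorem F180341 : act 4 n39065 = n37813 := d32_1 D39065 (iv D37813) (iv F174653)
theorem F180342 : act 6 n39065 = n37811 := d39_1 D39065 (iv D37811) (iv D36383) (iv F168186) D37809
theorem F180343 : act 8 n39065 = n38161 := d42_2 (iv F174654) D39065 (iv D38161)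
theorem F180344 : act 9 n38721 = n39065 := d41_0 F180342 F174669 D38721
def n39066 : Q := act 9 n37809
theorem D39066 : act 9 n37809 = n39066 := rfl
theorem F180345 : act 0 n39066 = n38573 := d8_1 D39066 (iv D38573) (iv F174649)
theorem F180346 : act 1 n39066 = n38080 := d16_1 D39066 F176396 (iv F174650)
theorem F180347 : act 2 n39066 = n38927 := d23_1 D39066 F180012 (iv F174651)
theorem F180348 : act 3 n39066 = n37898 := d29_1 D39066 (iv D37898) (iv F174652)
theorem F180349 : act 4 n39066 = n37814 := d34_1 D39066 (iv D37814) (iv F174653)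
theorem F180350 : act 6 n39066 = n37810 := d41_1 D39066 (iv D37810) D37809
theorem F180351 : act 7 n39066 = n38721 := d43_1 D39066 F180344 (iv D39065)
def n39067 : Q := act 8 n37810
theorem D39067 : act 8 n37810 = n39067 := rfl
theorem F180352 : act 0 n39067 = n38454 := d7_1 D39067 F178322 (iv F174655)
theorem F180353 : act 1 n39067 = n37821 := d15_1 D39067 F174743 (iv F174656)
theorem F180354 : act 2 n39067 = n38739 := d22_1 D39067 F179406 (iv F174657)
theorem F180355 : act 3 n39067 = n37819 := d28_1 D39067 F174728 (iv F174658)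
theorem F180356 : act 4 n39067 = n37815 := d33_1 D39067 (iv D37815) (iv F174659)
theorem F180357 : act 5 n39067 = n38257 := d37_1 D39067 F177426 F171371 (iv F168194) (iv F174660)
theorem F180358 : act 7 n39067 = n37812 := d42_1 D39067 (iv D37812) (iv F174661)
theorem F180359 : act 9 n39067 = n38163 := d44_2 D37810 D39067 (iv D38163) (iv D36727) (iv F168187)
def n39068 : Q := act 8 n37814
theorem D39068 : act 8 n37814 = n39068 := rfl
theorem F180360 : act 0 n39068 = n38502 := d7_1 D39068 F178525 (iv F174686)
theorem F180361 : act 1 n39068 = n38081 := d15_1 D39068 (iv D38081) (iv F174687)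
theorem F180362 : act 2 n39068 = n38768 := d22_1 D39068 F179532 (iv F174688)
theorem F180363 : act 3 n39068 = n37816 := d28_1 D39068 (iv D37816) (iv F174689)
theorem F180364 : act 6 n39068 = n37815 := d40_1 D39068 (iv D37815) (iv F174691)
theorem F180365 : act 7 n39068 = n38489 := d42_1 D39068 F178458 (iv F174692)
theorem F180366 : act 9 n39068 = n38185 := d44_2 D37814 D39068 (iv D38185) (iv D36754) (iv F168223)
def n39069 : Q := act 5 n37816
theorem D39069 : act 5 n37816 = n39069 := rfl
theorem F180367 : act 0 n39069 = n38503 := d4_1 D39069 F178529 (iv F174700)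
theorem F180368 : act 1 n39069 = n38205 := d12_1 D39069 (iv D38205) (iv F174701)
theorem F180369 : act 2 n39069 = n39069 := d19_1 D39069 (iv D39069) F174702
theorem F180370 : act 4 n39069 = n38302 := d30_1 D39069 F177676 F171365 (iv F168949) (iv F174703)
theorem F180371 : act 6 n39069 = n39069 := d35_2 (iv F174704) D39069 (iv D39069) F174704 F168263
theorem F180372 : act 7 n39069 = n38490 := d36_2 (iv F174705) D39069 (iv D38490)
theorem F180373 : act 8 n39069 = n38207 := d37_2 D37816 D39069 (iv D38207) (iv D36806) (iv F168256)
theorem F180374 : act 9 n39069 = n38188 := d38_2 (iv F174706) D39069 (iv D38188)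
def n39070 : Q := act 4 n37817
theorem D39070 : act 4 n37817 = n39070 := rfl
theorem F180375 : act 0 n39070 = n38576 := d3_1 D39070 (iv D38576) (iv F174707)
theorem F180376 : act 1 n39070 = n37900 := d11_1 D39070 F175239 (iv F174708)
theorem F180377 : act 2 n39070 = n37931 := d18_1 D39070 (iv D37931) (iv F174709)
theorem F180378 : act 3 n39070 = n37842 := d24_1 D39070 (iv D37842) F168458 (iv F168276) (iv F174710)
theorem F180379 : act 6 n39070 = n37818 := d31_2 (iv F174711) D39070 (iv D37818)
theorem F180380 : act 7 n39070 = n38993 := d32_2 (iv F174712) D39070 F180154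
theorem F180381 : act 8 n39070 = n38922 := d33_2 F174714 D39070 F179999
theorem F180382 : act 9 n39070 = n38761 := d34_2 (iv F174713) D39070 (iv D38761)
def n39071 : Q := act 6 n37819
theorem D39071 : act 6 n37819 = n39071 := rfl
theorem F180383 : act 0 n39071 = n38457 := d5_1 D39071 F178328 (iv F174723)
theorem F180384 : act 1 n39071 = n37822 := d13_1 D39071 (iv D37822) (iv F174724)
theorem F180385 : act 2 n39071 = n38308 := d20_1 D39071 (iv D38308) (iv F174725)
theorem F180386 : act 4 n39071 = n37820 := d31_1 D39071 (iv D37820) (iv F174726)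
theorem F180387 : act 7 n39071 = n38410 := d39_2 D37819 D39071 (iv D38410) (iv D37049) (iv F168292)
theorem F180388 : act 8 n39071 = n37898 := d40_2 (iv F174728) D39071 F175230
theorem F180389 : act 9 n39071 = n38309 := d41_2 (iv F174729) D39071 F177700
def n39072 : Q := act 6 n37821
theorem D39072 : act 6 n37821 = n39072 := rfl
theorem F180390 : act 0 n39072 = n37833 := d5_1 D39072 (iv D37833) (iv F174738)
theorem F180391 : act 2 n39072 = n38083 := d20_1 D39072 F176414 (iv F174739)
theorem F180392 : act 3 n39072 = n37822 := d26_1 D39072 (iv D37822) (iv F174740)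
theorem F180393 : act 4 n39072 = n38081 := d31_1 D39072 F176400 (iv F174741)
theorem F180394 : act 7 n39072 = n38411 := d39_2 D37821 D39072 (iv D38411) (iv D37051) (iv F168306)
theorem F180395 : act 8 n39072 = n38080 := d40_2 (iv F174743) D39072 (iv D38080)
theorem F180396 : act 9 n39072 = n38429 := d41_2 (iv F174744) D39072 F178212
def n39073 : Q := act 5 n37822
theorem D39073 : act 5 n37822 = n39073 := rfl
theorem F180397 : act 0 n39073 = n37834 := d4_1 D39073 (iv D37834) (iv F174745)
theorem F180398 : act 2 n39073 = n37825 := d19_1 D39073 (iv D37825) (iv F174746)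
theorem F180399 : act 4 n39073 = n38428 := d30_1 D39073 F178208 F171966 (iv F168325) (iv F174747)
theorem F180400 : act 6 n39073 = n38260 := d35_2 D37822 D39073 (iv D38260) (iv D36880) (iv F168312)
theorem F180401 : act 7 n39073 = n38412 := d36_2 (iv F174748) D39073 (iv D38412)
theorem F180402 : act 9 n39073 = n38426 := d38_2 (iv F174749) D39073 F178201
def n39074 : Q := act 8 n37822
theorem D39074 : act 8 n37822 = n39074 := rfl
theorem F180403 : act 0 n39074 = n37835 := d7_1 D39074 (iv D37835) (iv F174745)
theorem F180404 : act 1 n39074 = n37898 := d15_1 D39074 (iv F180388) F180384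
theorem F180405 : act 2 n39074 = n37826 := d22_1 D39074 (iv D37826) (iv F174746)
theorem F180406 : act 3 n39074 = n38080 := d28_1 D39074 (iv F180395) F180392
theorem F180407 : act 4 n39074 = n37824 := d33_1 D39074 (iv D37824) (iv F174747)
theorem F180408 : act 6 n39074 = n37823 := d40_1 D39074 (iv D37823) D37822
theorem F180409 : act 7 n39074 = n38413 := d42_1 D39074 (iv D38413) (iv F174748)
theorem F180410 : act 9 n39074 = n37840 := d44_2 (iv F174749) D39074 F174870 F171544 (iv F171977)
def n39075 : Q := act 8 n37825
theorem D39075 : act 8 n37825 = n39075 := rfl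
theorem F180411 : act 0 n39075 = n37837 := d7_1 D39075 (iv D37837) (iv F174766)
theorem F180412 : act 1 n39075 = n38581 := d15_1 D39075 (iv D38581) (iv F174767)
theorem F180413 : act 3 n39075 = n38368 := d28_1 D39075 (iv D38368) (iv F174768)
theorem F180414 : act 4 n39075 = n38905 := d33_1 D39075 (iv D38905) (iv F174769)
theorem F180415 : act 6 n39075 = n38262 := d40_1 D39075 (iv D38262) (iv F174770)
theorem F180416 : act 7 n39075 = n38415 := d42_1 D39075 (iv D38415) (iv F174771)
def n39076 : Q := act 5 n37826
theorem D39076 : act 5 n37826 = n39076 := rfl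
theorem F180417 : act 0 n39076 = n37838 := d4_1 D39076 (iv D37838) (iv F174773)
theorem F180418 : act 1 n39076 = n38582 := d12_1 D39076 (iv D38582) (iv F174774)
theorem F180419 : act 3 n39076 = n38369 := d25_1 D39076 (iv D38369) (iv F174775)
theorem F180420 : act 6 n39076 = n38818 := d35_2 (iv F174777) D39076 (iv D38818) (iv D37531) (iv F168345)
theorem F180421 : act 7 n39076 = n38416 := d36_2 (iv F174778) D39076 (iv D38416)
def n39077 : Q := act 9 n37826
theorem D39077 : act 9 n37826 = n39077 := rfl
theorem F180422 : act 0 n39077 = n37839 := d8_1 D39077 (iv D37839) (iv F174773)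
theorem F180423 : act 1 n39077 = n38583 := d16_1 D39077 (iv D38583) (iv F174774)
theorem F180424 : act 2 n39077 = n37840 := d23_1 D39077 (iv F180410) F180405
theorem F180425 : act 3 n39077 = n38075 := d29_1 D39077 F176360 (iv F174775)
theorem F180426 : act 4 n39077 = n37829 := d34_1 D39077 (iv D37829) (iv F174776)
theorem F180427 : act 6 n39077 = n37827 := d41_1 D39077 (iv D37827) (iv F174777)
theorem F180428 : act 7 n39077 = n38417 := d43_1 D39077 (iv D38417) (iv F174778)
theorem F180429 : act 8 n39077 = n38336 := d44_1 D39077 F177816 F172152 (iv F168340) D37826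
def n39078 : Q := act 4 n37828
theorem D39078 : act 4 n37828 = n39078 := rfl
theorem F180430 : act 0 n39078 = n37842 := d3_1 D39078 (iv D37842) (iv F174787)
theorem F180431 : act 1 n39078 = n38584 := d11_1 D39078 (iv D38584) (iv F174788)
theorem F180432 : act 2 n39078 = n38680 := d18_1 D39078 F179179 (iv F174789)
theorem F180433 : act 3 n39078 = n38576 := d24_1 D39078 (iv D38576) F172892 (iv F168370) (iv F174790)
theorem F180434 : act 6 n39078 = n37831 := d31_2 (iv F174791) D39078 (iv D37831)
theorem F180435 : act 7 n39078 = n38419 := d32_2 (iv F174792) D39078 (iv D38419)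
theorem F180436 : act 8 n39078 = n38667 := d33_2 (iv F174793) D39078 F179157
def n39079 : Q := act 9 n37828
theorem D39079 : act 9 n37828 = n39079 := rfl
theorem F180437 : act 0 n39079 = n37843 := d8_1 D39079 (iv D37843) (iv F174787)
theorem F180438 : act 1 n39079 = n38585 := d16_1 D39079 (iv D38585) (iv F174788)
theorem F180439 : act 2 n39079 = n37846 := d23_1 D39079 F174909 (iv F174789)
theorem F180440 : act 3 n39079 = n37830 := d29_1 D39079 (iv D37830) (iv F174790)
theorem F180441 : act 5 n39079 = n37829 := d38_1 D39079 (iv D37829) D37828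
theorem F180442 : act 6 n39079 = n37832 := d41_1 D39079 (iv D37832) (iv F174791)
theorem F180443 : act 7 n39079 = n38420 := d43_1 D39079 (iv D38420) (iv F174792)
theorem F180444 : act 8 n39079 = n38437 := d44_1 D39079 (iv D38437) F172025 D37358 (iv F174793)
def n39080 : Q := act 9 n37831
theorem D39080 : act 9 n37831 = n39080 := rfl
theorem F180445 : act 0 n39080 = n37848 := d8_1 D39080 (iv D37848) (iv F174809)
theorem F180446 : act 1 n39080 = n38586 := d16_1 D39080 (iv D38586) (iv F174810)
theorem F180447 : act 2 n39080 = n37845 := d23_1 D39080 F174903 (iv F174811)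
theorem F180448 : act 3 n39080 = n38508 := d29_1 D39080 F178555 (iv F174812)
theorem F180449 : act 4 n39080 = n37832 := d34_1 D39080 (iv D37832) D37831
theorem F180450 : act 5 n39080 = n37844 := d38_1 D39080 F174896 (iv F174813)
theorem F180451 : act 7 n39080 = n39080 := d43_1 D39080 (iv D39080) F174814
theorem F180452 : act 8 n39080 = n38528 := d44_1 D39080 (iv D38528) F172575 D37380 (iv F174815)
def n39081 : Q := act 5 n37833
theorem D39081 : act 5 n37833 = n39081 := rfl
theorem F180453 : act 1 n39081 = n39021 := d12_1 D39081 F180204 (iv F174823)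
theorem F180454 : act 2 n39081 = n38728 := d19_1 D39081 (iv D38728) (iv F174824)
theorem F180455 : act 3 n39081 = n37834 := d25_1 D39081 (iv D37834) (iv F174825)
theorem F180456 : act 6 n39081 = n38331 := d35_2 D37833 D39081 (iv D38331) (iv D36961) (iv F168406)
theorem F180457 : act 7 n39081 = n38760 := d36_2 (iv F174827) D39081 (iv D38760)
theorem F180458 : act 9 n39081 = n38910 := d38_2 (iv F174829) D39081 (iv D38910)
def n39082 : Q := act 8 n37834
theorem D39082 : act 8 n37834 = n39082 := rfl
theorem F180459 : act 1 n39082 = n39026 := d15_1 D39082 (iv D39026) (iv F174830)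
theorem F180460 : act 2 n39082 = n37837 := d22_1 D39082 (iv D37837) (iv F174831)
theorem F180461 : act 4 n39082 = n38916 := d33_1 D39082 (iv D38916) (iv F174832)
theorem F180462 : act 6 n39082 = n38333 := d40_1 D39082 (iv D38333) (iv F174833)
theorem F180463 : act 7 n39082 = n38990 := d42_1 D39082 (iv D38990) (iv F174834)
def n39083 : Q := act 5 n37835
theorem D39083 : act 5 n37835 = n39083 := rfl
theorem F180464 : act 1 n39083 = n39001 := d12_1 D39083 F180170 (iv F174836)
theorem F180465 : act 2 n39083 = n37838 := d19_1 D39083 (iv D37838) (iv F174837)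
theorem F180466 : act 3 n39083 = n38725 := d25_1 D39083 (iv D38725) (iv F174838)
theorem F180467 : act 7 n39083 = n38758 := d36_2 (iv F174841) D39083 (iv D38758)
theorem F180468 : act 9 n39083 = n38818 := d38_2 (iv F174842) D39083 (iv D38818)
def n39084 : Q := act 4 n37836
theorem D39084 : act 4 n37836 = n39084 := rfl
theorem F180469 : act 0 n39084 = n38680 := d3_1 D39084 F179179 (iv F174843)
theorem F180470 : act 1 n39084 = n39002 := d11_1 D39084 F180172 (iv F174844)
theorem F180471 : act 2 n39084 = n37842 := d18_1 D39084 (iv D37842) (iv F174845)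
theorem F180472 : act 3 n39084 = n38899 := d24_1 D39084 (iv D38899) F174190 (iv F168806) (iv F174846)
theorem F180473 : act 6 n39084 = n37844 := d31_2 (iv F174847) D39084 (iv D37844)
theorem F180474 : act 7 n39084 = n38991 := d32_2 (iv F174848) D39084 (iv D38991)
theorem F180475 : act 8 n39084 = n37901 := d33_2 (iv F174849) D39084 F175245
theorem F180476 : act 9 n39084 = n38898 := d34_2 (iv F174850) D39084 (iv D38898)
def n39085 : Q := act 5 n37837
theorem D39085 : act 5 n37837 = n39085 := rfl
theorem F180477 : act 1 n39085 = n37892 := d12_1 D39085 (iv D37892) (iv F174851)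
theorem F180478 : act 3 n39085 = n38907 := d25_1 D39085 F179959 (iv F174852)
theorem F180479 : act 7 n39085 = n38924 := d36_2 (iv F174855) D39085 F180003
theorem F180480 : act 8 n39085 = n37838 := d37_2 D37837 D39085 (iv D37838) (iv D36418) D36417
def n39086 : Q := act 9 n37837
theorem D39086 : act 9 n37837 = n39086 := rfl
theorem F180481 : act 1 n39086 = n37893 := d16_1 D39086 (iv D37893) (iv F174851)
theorem F180482 : act 3 n39086 = n38958 := d29_1 D39086 (iv D38958) (iv F174852)
theorem F180483 : act 4 n39086 = n38918 := d34_1 D39086 (iv D38918) (iv F174853)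
theorem F180484 : act 6 n39086 = n38338 := d41_1 D39086 (iv D38338) (iv F174854)
theorem F180485 : act 7 n39086 = n38992 := d43_1 D39086 (iv D38992) (iv F174855)
theorem F180486 : act 8 n39086 = n38913 := d44_1 D39086 (iv D38913) (iv D37647) (iv F168431) D37837
def n39087 : Q := act 4 n37838
theorem D39087 : act 4 n37838 = n39087 := rfl
theorem F180487 : act 1 n39087 = n37894 := d11_1 D39087 (iv D37894) (iv F174856)
theorem F180488 : act 5 n39087 = n37842 := d30_2 D37838 D39087 (iv D37842) (iv D36422) (iv F168434)
theorem F180489 : act 7 n39087 = n38923 := d32_2 (iv F174858) D39087 (iv D38923)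
def n39088 : Q := act 6 n37838
theorem D39088 : act 6 n37838 = n39088 := rfl
theorem F180490 : act 0 n39088 = n38818 := d5_1 D39088 (iv F180420) F180417
theorem F180491 : act 1 n39088 = n37895 := d13_1 D39088 (iv D37895) (iv F174856)
theorem F180492 : act 3 n39088 = n38085 := d26_1 D39088 F176427 (iv F174857)
theorem F180493 : act 5 n39088 = n37840 := d35_1 D39088 (iv D37840) (iv D36419) (iv F168435) D37838
def n39089 : Q := act 9 n37838
theorem D39089 : act 9 n37838 = n39089 := rfl
theorem F180494 : act 1 n39089 = n37896 := d16_1 D39089 (iv D37896) (iv F174856)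
theorem F180495 : act 2 n39089 = n38818 := d23_1 D39089 (iv F180468) F180465
theorem F180496 : act 3 n39089 = n38810 := d29_1 D39089 F179680 (iv F174857)
theorem F180497 : act 5 n39089 = n37839 := d38_1 D39089 (iv D37839) D37838
theorem F180498 : act 7 n39089 = n38915 := d43_1 D39089 F179985 (iv F174858)
def n39090 : Q := act 7 n37840
theorem D39090 : act 7 n37840 = n39090 := rfl
theorem F180499 : act 0 n39090 = n38743 := d6_1 D39090 F179429 (iv F174866)
theorem F180500 : act 1 n39090 = n37897 := d14_1 D39090 (iv D37897) (iv F174867)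
theorem F180501 : act 2 n39090 = n38417 := d21_1 D39090 (iv F180428) F180424
theorem F180502 : act 3 n39090 = n38009 := d27_1 D39090 F175944 (iv F174868)
theorem F180503 : act 4 n39090 = n37847 := d32_1 D39090 (iv D37847) (iv F174869)
theorem F180504 : act 6 n39090 = n37841 := d39_1 D39090 (iv D37841) (iv D36421) (iv F168441) D37840
theorem F180505 : act 8 n39090 = n38342 := d42_2 (iv F174870) D39090 (iv D38342)
theorem F180506 : act 9 n39090 = n38413 := d43_2 F180410 D39090 (iv F180409)
def n39091 : Q := act 9 n37842
theorem D39091 : act 9 n37842 = n39091 := rfl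
theorem F180507 : act 1 n39091 = n37901 := d16_1 D39091 (iv D37901) (iv F174879)
theorem F180508 : act 2 n39091 = n38898 := d23_1 D39091 (iv F180476) F180471
theorem F180509 : act 3 n39091 = n38761 := d29_1 D39091 (iv F180382) F180378
theorem F180510 : act 4 n39091 = n37843 := d34_1 D39091 (iv D37843) D37842
theorem F180511 : act 6 n39091 = n37848 := d41_1 D39091 (iv D37848) (iv F174880)
theorem F180512 : act 7 n39091 = n38994 := d43_1 D39091 (iv D38994) (iv F174881)
theorem F180513 : act 8 n39091 = n39002 := d44_1 D39091 (iv D39002) (iv F175208) F175209 (iv F174882)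
def n39092 : Q := act 6 n37845
theorem D39092 : act 6 n37845 = n39092 := rfl
theorem F180514 : act 0 n39092 = n38898 := d5_1 D39092 F179929 (iv F174897)
theorem F180515 : act 1 n39092 = n37912 := d13_1 D39092 (iv D37912) (iv F174898)
theorem F180516 : act 3 n39092 = n38218 := d26_1 D39092 F177154 (iv F174899)
theorem F180517 : act 4 n39092 = n37846 := d31_1 D39092 (iv D37846) D37845
theorem F180518 : act 8 n39092 = n38447 := d40_2 (iv F174902) D39092 F178293
theorem F180519 : act 9 n39092 = n38680 := d41_2 (iv F174903) D39092 F179180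
def n39093 : Q := act 7 n37846
theorem D39093 : act 7 n37846 = n39093 := rfl
theorem F180520 : act 0 n39093 = n38896 := d6_1 D39093 F179921 (iv F174904)
theorem F180521 : act 1 n39093 = n37914 := d14_1 D39093 (iv D37914) (iv F174905)
theorem F180522 : act 2 n39093 = n38420 := d21_1 D39093 (iv F180443) F180439
theorem F180523 : act 3 n39093 = n37849 := d27_1 D39093 (iv D37849) (iv F174906)
theorem F180524 : act 5 n39093 = n37847 := d36_1 D39093 (iv D37847) (iv F174907)
theorem F180525 : act 6 n39093 = n39093 := d39_1 D39093 (iv D39093) (iv D37846) F168485 D37846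
theorem F180526 : act 8 n39093 = n38385 := d42_2 (iv F174908) D39093 F178030
theorem F180527 : act 9 n39093 = n38414 := d43_2 (iv F174909) D39093 F178156
def n39094 : Q := act 6 n37850
theorem D39094 : act 6 n37850 = n39094 := rfl
theorem F180528 : act 0 n39094 = n38611 := d5_1 D39094 (iv D38611) (iv F174932)
theorem F180529 : act 1 n39094 = n38805 := d13_1 D39094 F179663 (iv F174933)
theorem F180530 : act 2 n39094 = n38310 := d20_1 D39094 (iv D38310) (iv F174934)
theorem F180531 : act 3 n39094 = n37852 := d26_1 D39094 (iv D37852) (iv F174935)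
theorem F180532 : act 4 n39094 = n39094 := d31_1 D39094 (iv D39094) F174936
theorem F180533 : act 7 n39094 = n38349 := d39_2 D37850 D39094 (iv D38349) (iv D36985) (iv F168535)
theorem F180534 : act 9 n39094 = n37966 := d41_2 (iv F174938) D39094 (iv D37966)
def n39095 : Q := act 8 n37850
theorem D39095 : act 8 n37850 = n39095 := rfl
theorem F180535 : act 0 n39095 = n38612 := d7_1 D39095 (iv D38612) (iv F174932)
theorem F180536 : act 1 n39095 = n38806 := d15_1 D39095 (iv D38806) (iv F174933)
theorem F180537 : act 2 n39095 = n38311 := d22_1 D39095 (iv D38311) (iv F174934)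
theorem F180538 : act 3 n39095 = n37853 := d28_1 D39095 (iv D37853) (iv F174935)
theorem F180539 : act 4 n39095 = n39095 := d33_1 D39095 (iv D39095) F174936
theorem F180540 : act 5 n39095 = n38616 := d37_1 D39095 F179005 F173163 (iv F168619) (iv F174937)
theorem F180541 : act 7 n39095 = n37851 := d42_1 D39095 (iv D37851) D37850
theorem F180542 : act 9 n39095 = n38615 := d44_2 (iv F174938) D39095 F179001 F175685 (iv D37967)
def n39096 : Q := act 5 n37852
theorem D39096 : act 5 n37852 = n39096 := rfl
theorem F180543 : act 0 n39096 = n38613 := d4_1 D39096 (iv D38613) (iv F174947)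
theorem F180544 : act 1 n39096 = n38987 := d12_1 D39096 F180144 (iv F174948)
theorem F180545 : act 2 n39096 = n37858 := d19_1 D39096 (iv D37858) (iv F174949)
theorem F180546 : act 4 n39096 = n38929 := d30_1 D39096 (iv D38929) F174292 (iv F168552) (iv F174950)
theorem F180547 : act 6 n39096 = n37869 := d35_2 D37852 D39096 (iv D37869) (iv D36449) (iv F168541)
theorem F180548 : act 7 n39096 = n38351 := d36_2 (iv F174951) D39096 (iv D38351)
theorem F180549 : act 9 n39096 = n37968 := d38_2 (iv F174952) D39096 (iv D37968)
def n39097 : Q := act 8 n37852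
theorem D39097 : act 8 n37852 = n39097 := rfl
theorem F180550 : act 0 n39097 = n38614 := d7_1 D39097 (iv D38614) (iv F174947)
theorem F180551 : act 1 n39097 = n38989 := d15_1 D39097 (iv D38989) (iv F174948)
theorem F180552 : act 2 n39097 = n37859 := d22_1 D39097 (iv D37859) (iv F174949)
theorem F180553 : act 4 n39097 = n37856 := d33_1 D39097 (iv D37856) (iv F174950)
theorem F180554 : act 6 n39097 = n37853 := d40_1 D39097 (iv D37853) D37852
theorem F180555 : act 7 n39097 = n38352 := d42_1 D39097 (iv D38352) (iv F174951)
def n39098 : Q := act 5 n37853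
theorem D39098 : act 5 n37853 = n39098 := rfl
theorem F180556 : act 0 n39098 = n38615 := d4_1 D39098 (iv D38615) (iv F174953)
theorem F180557 : act 1 n39098 = n38972 := d12_1 D39098 F180106 (iv F174954)
theorem F180558 : act 2 n39098 = n37860 := d19_1 D39098 (iv D37860) (iv F174955)
theorem F180559 : act 3 n39098 = n38616 := d25_1 D39098 (iv F180540) F180538
theorem F180560 : act 4 n39098 = n39098 := d30_1 D39098 (iv D39098) F174956 F168559 (iv F174956)
theorem F180561 : act 7 n39098 = n37854 := d36_2 (iv F174957) D39098 (iv D37854)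
theorem F180562 : act 8 n39098 = n37871 := d37_2 D37853 D39098 (iv D37871) (iv D36450) (iv F168541)
theorem F180563 : act 9 n38612 = n39098 := d44_0 F180562 F175081 (iv F175512) F175513 D38612
def n39099 : Q := act 9 n37853
theorem D39099 : act 9 n37853 = n39099 := rfl
theorem F180564 : act 0 n39099 = n38616 := d8_1 D39099 (iv D38616) (iv F174953)
theorem F180565 : act 1 n39099 = n38951 := d16_1 D39099 F180061 (iv F174954)
theorem F180566 : act 2 n39099 = n37861 := d23_1 D39099 (iv D37861) (iv F174955)
theorem F180567 : act 3 n39099 = n38615 := d29_1 D39099 (iv F180542) F180538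
theorem F180568 : act 4 n39099 = n37857 := d34_1 D39099 (iv D37857) (iv F174956)
theorem F180569 : act 5 n39099 = n38612 := d38_1 D39099 F180563 (iv D39098)
theorem F180570 : act 7 n39099 = n37855 := d43_1 D39099 (iv D37855) (iv F174957)
theorem F180571 : act 8 n39099 = n37970 := d44_1 D39099 (iv D37970) (iv D36555) (iv F168542) D37853
def n39100 : Q := act 5 n37856
theorem D39100 : act 5 n37856 = n39100 := rfl
theorem F180572 : act 0 n39100 = n38617 := d4_1 D39100 (iv D38617) (iv F174974)
theorem F180573 : act 1 n39100 = n39058 := d12_1 D39100 (iv D39058) (iv F174975)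
theorem F180574 : act 2 n39100 = n37864 := d19_1 D39100 (iv D37864) (iv F174976)
theorem F180575 : act 3 n39100 = n39100 := d25_1 D39100 (iv D39100) F174977
theorem F180576 : act 6 n39100 = n39100 := d35_2 (iv F174978) D39100 (iv D39100) F174978 F168559
theorem F180577 : act 7 n39100 = n38354 := d36_2 (iv F174979) D39100 (iv D38354)
theorem F180578 : act 8 n39100 = n38885 := d37_2 D37856 D39100 F179882 F174071 (iv F168552)
def n39101 : Q := act 9 n37856
theorem D39101 : act 9 n37856 = n39101 := rfl
theorem F180579 : act 0 n39101 = n38618 := d8_1 D39101 (iv D38618) (iv F174974)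
theorem F180580 : act 1 n39101 = n39054 := d16_1 D39101 F180286 (iv F174975)
theorem F180581 : act 2 n39101 = n37865 := d23_1 D39101 (iv D37865) (iv F174976)
theorem F180582 : act 3 n39101 = n39101 := d29_1 D39101 (iv D39101) F174977
theorem F180583 : act 6 n39101 = n37857 := d41_1 D39101 (iv D37857) (iv F174978)
theorem F180584 : act 7 n39101 = n38355 := d43_1 D39101 (iv D38355) (iv F174979)
theorem F180585 : act 8 n39101 = n37972 := d44_1 D39101 (iv D37972) (iv D36557) (iv F168554) D37856
def n39102 : Q := act 8 n37858
theorem D39102 : act 8 n37858 = n39102 := rfl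
theorem F180586 : act 0 n39102 = n38619 := d7_1 D39102 (iv D38619) (iv F174987)
theorem F180587 : act 1 n39102 = n38113 := d15_1 D39102 (iv D38113) (iv F174988)
theorem F180588 : act 3 n39102 = n38316 := d28_1 D39102 (iv D38316) (iv F174989)
theorem F180589 : act 4 n39102 = n38930 := d33_1 D39102 (iv D38930) (iv F174990)
theorem F180590 : act 6 n39102 = n37874 := d40_1 D39102 (iv D37874) (iv F174991)
theorem F180591 : act 7 n39102 = n38356 := d42_1 D39102 (iv D38356) (iv F174992)
def n39103 : Q := act 5 n37859
theorem D39103 : act 5 n37859 = n39103 := rfl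
theorem F180592 : act 0 n39103 = n38620 := d4_1 D39103 (iv D38620) (iv F174994)
theorem F180593 : act 1 n39103 = n38114 := d12_1 D39103 (iv D38114) (iv F174995)
theorem F180594 : act 3 n39103 = n38317 := d25_1 D39103 (iv D38317) (iv F174996)
theorem F180595 : act 7 n39103 = n38357 := d36_2 (iv F174999) D39103 (iv D38357)
def n39104 : Q := act 9 n37859
theorem D39104 : act 9 n37859 = n39104 := rfl
theorem F180596 : act 0 n39104 = n38621 := d8_1 D39104 (iv D38621) (iv F174994)
theorem F180597 : act 1 n39104 = n38115 := d16_1 D39104 (iv D38115) (iv F174995)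
theorem F180598 : act 3 n39104 = n38318 := d29_1 D39104 (iv D38318) (iv F174996)
theorem F180599 : act 4 n39104 = n37865 := d34_1 D39104 (iv D37865) (iv F174997)
theorem F180600 : act 6 n39104 = n37861 := d41_1 D39104 (iv D37861) (iv F174998)
theorem F180601 : act 7 n39104 = n38358 := d43_1 D39104 (iv D38358) (iv F174999)
theorem F180602 : act 8 n39104 = n37975 := d44_1 D39104 (iv D37975) (iv D36560) (iv F168573) D37859
def n39105 : Q := act 6 n37860
theorem D39105 : act 6 n37860 = n39105 := rfl
theorem F180603 : act 0 n39105 = n38622 := d5_1 D39105 (iv D38622) (iv F175000)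
theorem F180604 : act 1 n39105 = n38116 := d13_1 D39105 (iv D38116) (iv F175001)
theorem F180605 : act 3 n39105 = n38319 := d26_1 D39105 (iv D38319) (iv F175002)
theorem F180606 : act 4 n39105 = n39105 := d31_1 D39105 (iv D39105) F175003
theorem F180607 : act 8 n39105 = n37877 := d40_2 (iv F175005) D39105 (iv D37877)
def n39106 : Q := act 9 n37860
theorem D39106 : act 9 n37860 = n39106 := rfl
theorem F180608 : act 0 n39106 = n38311 := d8_1 D39106 F177712 (iv F175000)
theorem F180609 : act 1 n39106 = n38117 := d16_1 D39106 (iv D38117) (iv F175001)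
theorem F180610 : act 2 n39106 = n38612 := d23_1 D39106 F180563 F180558
theorem F180611 : act 3 n39106 = n38250 := d29_1 D39106 F177375 (iv F175002)
theorem F180612 : act 4 n39106 = n39106 := d34_1 D39106 (iv D39106) F175003
theorem F180613 : act 5 n39106 = n37861 := d38_1 D39106 (iv D37861) D37860
theorem F180614 : act 7 n39106 = n37863 := d43_1 D39106 (iv D37863) (iv F175004)
theorem F180615 : act 8 n39106 = n38248 := d44_1 D39106 F177363 F175126 (iv D37878) (iv F175005)
def n39107 : Q := act 7 n37862
theorem D39107 : act 7 n37862 = n39107 := rfl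
theorem F180616 : act 0 n39107 = n38623 := d6_1 D39107 (iv D38623) (iv F175012)
theorem F180617 : act 1 n39107 = n38118 := d14_1 D39107 (iv D38118) (iv F175013)
theorem F180618 : act 2 n39107 = n38938 := d21_1 D39107 F180036 (iv F175014)
theorem F180619 : act 3 n39107 = n38320 := d27_1 D39107 (iv D38320) (iv F175015)
theorem F180620 : act 4 n39107 = n39107 := d32_1 D39107 (iv D39107) F175016
theorem F180621 : act 5 n39107 = n38361 := d36_1 D39107 (iv D38361) (iv F175017)
theorem F180622 : act 8 n39107 = n37879 := d42_2 (iv F175018) D39107 (iv D37879)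
theorem F180623 : act 9 n39107 = n38773 := d43_2 F175019 D39107 F179552
def n39108 : Q := act 4 n37864
theorem D39108 : act 4 n37864 = n39108 := rfl
theorem F180624 : act 0 n39108 = n38624 := d3_1 D39108 (iv D38624) (iv F175028)
theorem F180625 : act 1 n39108 = n38121 := d11_1 D39108 (iv D38121) (iv F175029)
theorem F180626 : act 6 n39108 = n39108 := d31_2 F175031 D39108 (iv D39108)
theorem F180627 : act 7 n39108 = n38362 := d32_2 (iv F175032) D39108 (iv D38362)
theorem F180628 : act 8 n39108 = n38933 := d33_2 (iv F175033) D39108 (iv D38933)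
def n39109 : Q := act 9 n37864
theorem D39109 : act 9 n37864 = n39109 := rfl
theorem F180629 : act 0 n39109 = n38625 := d8_1 D39109 (iv D38625) (iv F175028)
theorem F180630 : act 1 n39109 = n38122 := d16_1 D39109 (iv D38122) (iv F175029)
theorem F180631 : act 3 n39109 = n37867 := d29_1 D39109 (iv D37867) (iv F175030)
theorem F180632 : act 5 n39109 = n37865 := d38_1 D39109 (iv D37865) D37864
theorem F180633 : act 6 n39109 = n39109 := d41_1 D39109 (iv D39109) F175031
theorem F180634 : act 7 n39109 = n38363 := d43_1 D39109 (iv D38363) (iv F175032)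
def n39110 : Q := act 3 n37866
theorem D39110 : act 3 n37866 = n39110 := rfl
theorem F180635 : act 0 n39110 = n38626 := d2_1 D39110 (iv D38626) (iv F175040)
theorem F180636 : act 1 n39110 = n38123 := d10_1 D39110 (iv D38123) (iv F175041)
theorem F180637 : act 5 n39110 = n38322 := d25_2 (iv F175043) D39110 (iv D38322)
theorem F180638 : act 6 n39110 = n39110 := d26_2 F175044 D39110 (iv D39110)
theorem F180639 : act 7 n39110 = n38364 := d27_2 (iv F175045) D39110 (iv D38364)
theorem F180640 : act 8 n39110 = n38483 := d28_2 (iv F175046) D39110 F178420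
def n39111 : Q := act 9 n37866
theorem D39111 : act 9 n37866 = n39111 := rfl
theorem F180641 : act 0 n39111 = n38627 := d8_1 D39111 (iv D38627) (iv F175040)
theorem F180642 : act 1 n39111 = n38124 := d16_1 D39111 (iv D38124) (iv F175041)
theorem F180643 : act 2 n39111 = n39111 := d23_1 D39111 (iv D39111) F175042
theorem F180644 : act 4 n39111 = n37867 := d34_1 D39111 (iv D37867) D37866
theorem F180645 : act 5 n39111 = n37920 := d38_1 D39111 F175363 (iv F175043)
theorem F180646 : act 6 n39111 = n39111 := d41_1 D39111 (iv D39111) F175044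
theorem F180647 : act 7 n39111 = n38365 := d43_1 D39111 (iv D38365) (iv F175045)
theorem F180648 : act 8 n39111 = n38217 := d44_1 D39111 F177151 F174123 (iv F172259) (iv F175046)
def n39112 : Q := act 8 n37867
theorem D39112 : act 8 n37867 = n39112 := rfl
theorem F180649 : act 0 n39112 = n38628 := d7_1 D39112 (iv D38628) (iv F175047)
theorem F180650 : act 1 n39112 = n38125 := d15_1 D39112 (iv D38125) (iv F175048)
theorem F180651 : act 2 n39112 = n39112 := d22_1 D39112 (iv D39112) F175049
theorem F180652 : act 4 n39112 = n38217 := d33_1 D39112 (iv F180648) F180644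
theorem F180653 : act 5 n39112 = n37981 := d37_1 D39112 (iv D37981) F169342 (iv F168613) (iv F175050)
theorem F180654 : act 6 n39112 = n39112 := d40_1 D39112 (iv D39112) F175051
theorem F180655 : act 7 n39112 = n38366 := d42_1 D39112 (iv D38366) (iv F175052)
theorem F180656 : act 9 n39112 = n38705 := d44_2 D37867 D39112 (iv D38705) F173349 (iv F168606)
def n39113 : Q := act 5 n37868
theorem D39113 : act 5 n37868 = n39113 := rfl
theorem F180657 : act 0 n39113 = n38635 := d4_1 D39113 (iv D38635) (iv F175053)
theorem F180658 : act 1 n39113 = n38803 := d12_1 D39113 F179656 (iv F175054)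
theorem F180659 : act 2 n39113 = n38910 := d19_1 D39113 (iv D38910) (iv F175055)
theorem F180660 : act 3 n39113 = n37869 := d25_1 D39113 (iv D37869) (iv F175056)
theorem F180661 : act 7 n39113 = n37883 := d36_2 (iv F175058) D39113 (iv D37883)
theorem F180662 : act 9 n39113 = n38728 := d38_2 (iv F175060) D39113 (iv D38728)
def n39114 : Q := act 8 n37869
theorem D39114 : act 8 n37869 = n39114 := rfl
theorem F180663 : act 0 n39114 = n38636 := d7_1 D39114 (iv D38636) (iv F175061)
theorem F180664 : act 1 n39114 = n38988 := d15_1 D39114 (iv D38988) (iv F175062)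
theorem F180665 : act 2 n39114 = n37874 := d22_1 D39114 (iv D37874) (iv F175063)
theorem F180666 : act 4 n39114 = n38961 := d33_1 D39114 (iv D38961) (iv F175064)
theorem F180667 : act 7 n39114 = n37887 := d42_1 D39114 (iv D37887) (iv F175065)
def n39115 : Q := act 5 n37870
theorem D39115 : act 5 n37870 = n39115 := rfl
theorem F180668 : act 0 n39115 = n38637 := d4_1 D39115 (iv D38637) (iv F175067)
theorem F180669 : act 1 n39115 = n38969 := d12_1 D39115 F180099 (iv F175068)
theorem F180670 : act 2 n39115 = n37875 := d19_1 D39115 (iv D37875) (iv F175069)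
theorem F180671 : act 3 n39115 = n38826 := d25_1 D39115 F179727 (iv F175070)
theorem F180672 : act 7 n39115 = n37888 := d36_2 (iv F175073) D39115 (iv D37888)
theorem F180673 : act 9 n39115 = n38812 := d38_2 (iv F175074) D39115 (iv D38812)
def n39116 : Q := act 6 n37871
theorem D39116 : act 6 n37871 = n39116 := rfl
theorem F180674 : act 0 n39116 = n38638 := d5_1 D39116 (iv D38638) (iv F175075)
theorem F180675 : act 1 n39116 = n38971 := d13_1 D39116 F180104 (iv F175076)
theorem F180676 : act 2 n39116 = n37877 := d20_1 D39116 (iv D37877) (iv F175077)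
theorem F180677 : act 3 n39116 = n38648 := d26_1 D39116 (iv D38648) (iv F175078)
theorem F180678 : act 4 n39116 = n39116 := d31_1 D39116 (iv D39116) F175079
theorem F180679 : act 9 n39116 = n38813 := d41_2 (iv F175081) D39116 (iv D38813)
def n39117 : Q := act 7 n37872
theorem D39117 : act 7 n37872 = n39117 := rfl
theorem F180680 : act 0 n39117 = n38639 := d6_1 D39117 (iv D38639) (iv F175082)
theorem F180681 : act 1 n39117 = n38973 := d14_1 D39117 F180110 (iv F175083)
theorem F180682 : act 2 n39117 = n37879 := d21_1 D39117 (iv D37879) (iv F175084)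
theorem F180683 : act 3 n39117 = n38629 := d27_1 D39117 (iv D38629) (iv F175085)
theorem F180684 : act 4 n39117 = n39117 := d32_1 D39117 (iv D39117) F175086
theorem F180685 : act 5 n39117 = n37890 := d36_1 D39117 (iv D37890) (iv F175087)
theorem F180686 : act 8 n39117 = n38938 := d42_2 (iv F175088) D39117 F180036
theorem F180687 : act 9 n39117 = n38814 := d43_2 (iv F175089) D39117 (iv D38814)
def n39118 : Q := act 4 n37873
theorem D39118 : act 4 n37873 = n39118 := rfl
theorem F180688 : act 0 n39118 = n38640 := d3_1 D39118 (iv D38640) (iv F175090)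
theorem F180689 : act 1 n39118 = n38975 := d11_1 D39118 F180115 (iv F175091)
theorem F180690 : act 2 n39118 = n37881 := d18_1 D39118 (iv D37881) (iv F175092)
theorem F180691 : act 6 n39118 = n39118 := d31_2 F175094 D39118 (iv D39118)
theorem F180692 : act 7 n39118 = n37891 := d32_2 (iv F175095) D39118 (iv D37891)
theorem F180693 : act 8 n39118 = n38964 := d33_2 (iv F175096) D39118 (iv D38964)
theorem F180694 : act 9 n39118 = n38815 := d34_2 (iv F175097) D39118 (iv D38815)
def n39119 : Q := act 5 n37874
theorem D39119 : act 5 n37874 = n39119 := rfl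
theorem F180695 : act 0 n39119 = n38641 := d4_1 D39119 (iv D38641) (iv F175098)
theorem F180696 : act 1 n39119 = n38924 := d12_1 D39119 F180003 (iv F175099)
theorem F180697 : act 3 n39119 = n38912 := d25_1 D39119 (iv D38912) (iv F175100)
theorem F180698 : act 7 n39119 = n37892 := d36_2 (iv F175102) D39119 (iv D37892)
theorem F180699 : act 8 n39119 = n37875 := d37_2 D37874 D39119 (iv D37875) (iv D36454) D36453
def n39120 : Q := act 9 n37874
theorem D39120 : act 9 n37874 = n39120 := rfl
theorem F180700 : act 0 n39120 = n38642 := d8_1 D39120 (iv D38642) (iv F175098)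
theorem F180701 : act 1 n39120 = n38992 := d16_1 D39120 (iv D38992) (iv F175099)
theorem F180702 : act 3 n39120 = n38913 := d29_1 D39120 (iv D38913) (iv F175100)
theorem F180703 : act 4 n39120 = n38966 := d34_1 D39120 (iv D38966) (iv F175101)
theorem F180704 : act 7 n39120 = n37893 := d43_1 D39120 (iv D37893) (iv F175102)
theorem F180705 : act 8 n39120 = n38958 := d44_1 D39120 (iv D38958) (iv D37693) (iv F168652) D37874
def n39121 : Q := act 4 n37875
theorem D39121 : act 4 n37875 = n39121 := rfl
theorem F180706 : act 0 n39121 = n38643 := d3_1 D39121 (iv D38643) (iv F175103)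
theorem F180707 : act 1 n39121 = n38923 := d11_1 D39121 (iv D38923) (iv F175104)
theorem F180708 : act 3 n39121 = n39019 := d24_1 D39121 (iv D39019) F174499 (iv F174251) (iv F175105)
theorem F180709 : act 5 n39121 = n37881 := d30_2 D37875 D39121 (iv D37881) (iv D36459) (iv F168656)
theorem F180710 : act 7 n39121 = n37894 := d32_2 (iv F175106) D39121 (iv D37894)
def n39122 : Q := act 6 n37875
theorem D39122 : act 6 n37875 = n39122 := rfl
theorem F180711 : act 0 n39122 = n38644 := d5_1 D39122 (iv D38644) (iv F175103)
theorem F180712 : act 1 n39122 = n38597 := d13_1 D39122 F178949 (iv F175104)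
theorem F180713 : act 3 n39122 = n38596 := d26_1 D39122 F178947 (iv F175105)
theorem F180714 : act 5 n39122 = n37877 := d35_1 D39122 (iv D37877) (iv D36455) (iv F168657) D37875
def n39123 : Q := act 9 n37875
theorem D39123 : act 9 n37875 = n39123 := rfl
theorem F180715 : act 0 n39123 = n38645 := d8_1 D39123 (iv D38645) (iv F175103)
theorem F180716 : act 1 n39123 = n38915 := d16_1 D39123 F179985 (iv F175104)
theorem F180717 : act 2 n39123 = n38812 := d23_1 D39123 (iv F180673) F180670
theorem F180718 : act 3 n39123 = n38914 := d29_1 D39123 (iv D38914) (iv F175105)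
theorem F180719 : act 5 n39123 = n37876 := d38_1 D39123 (iv D37876) D37875
theorem F180720 : act 7 n39123 = n37896 := d43_1 D39123 (iv D37896) (iv F175106)
def n39124 : Q := act 7 n37877
theorem D39124 : act 7 n37877 = n39124 := rfl
theorem F180721 : act 0 n39124 = n38646 := d6_1 D39124 (iv D38646) (iv F175115)
theorem F180722 : act 1 n39124 = n38588 := d14_1 D39124 F178923 (iv F175116)
theorem F180723 : act 3 n39124 = n38587 := d27_1 D39124 F178920 (iv F175117)
theorem F180724 : act 4 n39124 = n39124 := d32_1 D39124 (iv D39124) F175118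
theorem F180725 : act 6 n39124 = n37879 := d39_1 D39124 (iv D37879) (iv D36457) (iv F168663) D37877
def n39125 : Q := act 9 n37877
theorem D39125 : act 9 n37877 = n39125 := rfl
theorem F180726 : act 0 n39125 = n38332 := d8_1 D39125 (iv F177803) (iv F175115)
theorem F180727 : act 1 n39125 = n38303 := d16_1 D39125 F177682 (iv F175116)
theorem F180728 : act 2 n39125 = n38813 := d23_1 D39125 (iv F180679) F180676
theorem F180729 : act 3 n39125 = n38261 := d29_1 D39125 (iv F177441) (iv F175117)
theorem F180730 : act 4 n39125 = n39125 := d34_1 D39125 (iv D39125) F175118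
theorem F180731 : act 6 n39125 = n37878 := d41_1 D39125 (iv D37878) D37877
theorem F180732 : act 8 n38259 = n39125 := d40_0 F180731 (iv F175126) D38259
def n39126 : Q := act 9 n37879
theorem D39126 : act 9 n37879 = n39126 := rfl
theorem F180733 : act 0 n39126 = n38279 := d8_1 D39126 (iv F177547) (iv F175127)
theorem F180734 : act 1 n39126 = n38266 := d16_1 D39126 F177469 (iv F175128)
theorem F180735 : act 2 n39126 = n38814 := d23_1 D39126 (iv F180687) F180682
theorem F180736 : act 3 n39126 = n38229 := d29_1 D39126 (iv F177226) (iv F175129)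
theorem F180737 : act 4 n39126 = n39126 := d34_1 D39126 (iv D39126) F175130
theorem F180738 : act 5 n39126 = n37899 := d38_1 D39126 (iv D37899) (iv F175131)
theorem F180739 : act 7 n39126 = n37880 := d43_1 D39126 (iv D37880) D37879
theorem F180740 : act 8 n39126 = n38227 := d44_1 D39126 F177214 D38773 (iv F180623) F180622
def n39127 : Q := act 9 n37881
theorem D39127 : act 9 n37881 = n39127 := rfl
theorem F180741 : act 0 n39127 = n38647 := d8_1 D39127 (iv D38647) (iv F175140)
theorem F180742 : act 1 n39127 = n38994 := d16_1 D39127 (iv D38994) (iv F175141)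
theorem F180743 : act 2 n39127 = n38815 := d23_1 D39127 (iv F180694) F180690
theorem F180744 : act 3 n39127 = n39032 := d29_1 D39127 (iv D39032) (iv F175142)
theorem F180745 : act 4 n39127 = n37882 := d34_1 D39127 (iv D37882) D37881
theorem F180746 : act 6 n39127 = n39127 := d41_1 D39127 (iv D39127) F175143
theorem F180747 : act 7 n39127 = n37901 := d43_1 D39127 (iv D37901) (iv F175144)
theorem F180748 : act 8 n38991 = n39127 := d42_0 F180747 (iv F180475) F180474
def n39128 : Q := act 4 n37883
theorem D39128 : act 4 n37883 = n39128 := rfl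
theorem F180749 : act 0 n39128 = n38653 := d3_1 D39128 (iv D38653) (iv F175154)
theorem F180750 : act 1 n39128 = n38880 := d11_1 D39128 F179870 (iv F175155)
theorem F180751 : act 3 n39128 = n38996 := d24_1 D39128 (iv D38996) F174461 (iv F168726) (iv F175156)
theorem F180752 : act 5 n39128 = n37931 := d30_2 D37883 D39128 (iv D37931) (iv D36515) (iv F168707)
theorem F180753 : act 6 n39128 = n38460 := d31_2 (iv F175157) D39128 (iv D38460)
theorem F180754 : act 9 n39128 = n38764 := d34_2 (iv F175158) D39128 (iv D38764)
def n39129 : Q := act 8 n37883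
theorem D39129 : act 8 n37883 = n39129 := rfl
theorem F180755 : act 0 n39129 = n38654 := d7_1 D39129 (iv D38654) (iv F175154)
theorem F180756 : act 1 n39129 = n38882 := d15_1 D39129 (iv D38882) (iv F175155)
theorem F180757 : act 3 n39129 = n37887 := d28_1 D39129 (iv D37887) (iv F175156)
theorem F180758 : act 6 n39129 = n38461 := d40_1 D39129 (iv D38461) (iv F175157)
def n39130 : Q := act 5 n37884
theorem D39130 : act 5 n37884 = n39130 := rfl
theorem F180759 : act 0 n39130 = n38655 := d4_1 D39130 (iv D38655) (iv F175159)
theorem F180760 : act 1 n39130 = n38845 := d12_1 D39130 F179783 (iv F175160)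
theorem F180761 : act 2 n39130 = n38976 := d19_1 D39130 (iv D38976) (iv F175161)
theorem F180762 : act 3 n39130 = n37888 := d25_1 D39130 (iv D37888) (iv F175162)
theorem F180763 : act 7 n39130 = n38826 := d36_2 (iv F175165) D39130 F179727
theorem F180764 : act 9 n39130 = n38749 := d38_2 (iv F175166) D39130 (iv D38749)
def n39131 : Q := act 6 n37885
theorem D39131 : act 6 n37885 = n39131 := rfl
theorem F180765 : act 0 n39131 = n38656 := d5_1 D39131 (iv D38656) (iv F175167)
theorem F180766 : act 1 n39131 = n38847 := d13_1 D39131 F179789 (iv F175168)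
theorem F180767 : act 2 n39131 = n38934 := d20_1 D39131 (iv D38934) (iv F175169)
theorem F180768 : act 3 n39131 = n37889 := d26_1 D39131 (iv D37889) (iv F175170)
theorem F180769 : act 4 n39131 = n39131 := d31_1 D39131 (iv D39131) F175171
theorem F180770 : act 8 n39131 = n38464 := d40_2 (iv F175173) D39131 (iv D38464)
theorem F180771 : act 9 n39131 = n38750 := d41_2 (iv F175174) D39131 (iv D38750)
def n39132 : Q := act 7 n37886
theorem D39132 : act 7 n37886 = n39132 := rfl
theorem F180772 : act 0 n39132 = n38657 := d6_1 D39132 (iv D38657) (iv F175175)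
theorem F180773 : act 1 n39132 = n38848 := d14_1 D39132 F179792 (iv F175176)
theorem F180774 : act 2 n39132 = n38609 := d21_1 D39132 (iv D38609) (iv F175177)
theorem F180775 : act 3 n39132 = n37890 := d27_1 D39132 (iv D37890) (iv F175178)
theorem F180776 : act 4 n39132 = n39132 := d32_1 D39132 (iv D39132) F175179
theorem F180777 : act 5 n39132 = n38629 := d36_1 D39132 (iv D38629) (iv F175180)
theorem F180778 : act 8 n39132 = n38465 := d42_2 (iv F175181) D39132 (iv D38465)
theorem F180779 : act 9 n39132 = n38751 := d43_2 (iv F175182) D39132 (iv D38751)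
def n39133 : Q := act 5 n37887
theorem D39133 : act 5 n37887 = n39133 := rfl
theorem F180780 : act 0 n39133 = n38658 := d4_1 D39133 (iv D38658) (iv F175183)
theorem F180781 : act 1 n39133 = n39011 := d12_1 D39133 F180185 (iv F175184)
theorem F180782 : act 2 n39133 = n37892 := d19_1 D39133 (iv D37892) (iv F175185)
theorem F180783 : act 8 n39133 = n37888 := d37_2 D37887 D39133 (iv D37888) (iv D36466) D36465
def n39134 : Q := act 9 n37887
theorem D39134 : act 9 n37887 = n39134 := rfl
theorem F180784 : act 0 n39134 = n38659 := d8_1 D39134 (iv D38659) (iv F175183)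
theorem F180785 : act 1 n39134 = n39029 := d16_1 D39134 F180217 (iv F175184)
theorem F180786 : act 2 n39134 = n37893 := d23_1 D39134 (iv D37893) (iv F175185)
theorem F180787 : act 4 n39134 = n38999 := d34_1 D39134 (iv D38999) (iv F175186)
theorem F180788 : act 6 n39134 = n38467 := d41_1 D39134 (iv D38467) (iv F175187)
theorem F180789 : act 8 n39134 = n38926 := d44_1 D39134 (iv D38926) F174276 (iv F168728) D37887
def n39135 : Q := act 4 n37888
theorem D39135 : act 4 n37888 = n39135 := rfl
theorem F180790 : act 0 n39135 = n38660 := d3_1 D39135 (iv D38660) (iv F175188)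
theorem F180791 : act 1 n39135 = n39008 := d11_1 D39135 F180180 (iv F175189)
theorem F180792 : act 2 n39135 = n37894 := d18_1 D39135 (iv D37894) (iv F175190)
theorem F180793 : act 5 n39135 = n37891 := d30_2 D37888 D39135 (iv D37891) (iv D36469) (iv F168732)
theorem F180794 : act 9 n39135 = n38919 := d34_2 (iv F175191) D39135 (iv D38919)
def n39136 : Q := act 6 n37888
theorem D39136 : act 6 n37888 = n39136 := rfl
theorem F180795 : act 0 n39136 = n38661 := d5_1 D39136 (iv D38661) (iv F175188)
theorem F180796 : act 1 n39136 = n39010 := d13_1 D39136 F180184 (iv F175189)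
theorem F180797 : act 2 n39136 = n37895 := d20_1 D39136 (iv D37895) (iv F175190)
theorem F180798 : act 5 n39136 = n37889 := d35_1 D39136 (iv D37889) (iv D36467) (iv F168733) D37888
theorem F180799 : act 9 n39136 = n38920 := d41_2 (iv F175191) D39136 (iv D38920)
def n39137 : Q := act 7 n37889
theorem D39137 : act 7 n37889 = n39137 := rfl
theorem F180800 : act 0 n39137 = n38663 := d6_1 D39137 (iv D38663) (iv F175192)
theorem F180801 : act 1 n39137 = n39012 := d14_1 D39137 F180188 (iv F175193)
theorem F180802 : act 2 n39137 = n37897 := d21_1 D39137 (iv D37897) (iv F175194)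
theorem F180803 : act 4 n39137 = n37907 := d32_1 D39137 (iv D37907) (iv F175195)
theorem F180804 : act 6 n39137 = n37890 := d39_1 D39137 (iv D37890) (iv D36468) (iv F168739) D37889
theorem F180805 : act 8 n39137 = n38471 := d42_2 (iv F175196) D39137 (iv D38471)
theorem F180806 : act 9 n39137 = n38921 := d43_2 (iv F175197) D39137 (iv D38921)
def n39138 : Q := act 3 n37891
theorem D39138 : act 3 n37891 = n39138 := rfl
theorem F180807 : act 0 n39138 = n38666 := d2_1 D39138 (iv D38666) (iv F175204)
theorem F180808 : act 1 n39138 = n38902 := d10_1 D39138 F179945 (iv F175205)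
theorem F180809 : act 4 n39138 = n37937 := d24_2 D37891 D39138 (iv D37937) (iv D36519) (iv F168751)
theorem F180810 : act 6 n39138 = n37908 := d26_2 (iv F175207) D39138 (iv D37908)
theorem F180811 : act 8 n39138 = n38901 := d28_2 (iv F175208) D39138 F179942
theorem F180812 : act 9 n39138 = n38922 := d29_2 (iv F175209) D39138 (iv D38922)
def n39139 : Q := act 4 n37892
theorem D39139 : act 4 n37892 = n39139 := rfl
theorem F180813 : act 0 n39139 = n38668 := d3_1 D39139 (iv D38668) (iv F175210)
theorem F180814 : act 5 n39139 = n39003 := d30_2 D37892 D39139 (iv D39003) (iv D37740) (iv F168756)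
theorem F180815 : act 8 n39139 = n37894 := d33_2 (iv F175211) D39139 (iv D37894)
def n39140 : Q := act 6 n37892
theorem D39140 : act 6 n37892 = n39140 := rfl
theorem F180816 : act 0 n39140 = n38669 := d5_1 D39140 (iv D38669) (iv F175210)
theorem F180817 : act 5 n39140 = n38473 := d35_1 D39140 (iv D38473) (iv D37112) (iv F168757) D37892
theorem F180818 : act 8 n39140 = n37895 := d40_2 (iv F175211) D39140 (iv D37895)
def n39141 : Q := act 9 n37892
theorem D39141 : act 9 n37892 = n39141 := rfl
theorem F180819 : act 0 n39141 = n38670 := d8_1 D39141 (iv D38670) (iv F175210)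
theorem F180820 : act 5 n39141 = n37893 := d38_1 D39141 (iv D37893) D37892
def n39142 : Q := act 3 n37894
theorem D39142 : act 3 n37894 = n39142 := rfl
theorem F180821 : act 0 n39142 = n38671 := d2_1 D39142 (iv D38671) (iv F175216)
theorem F180822 : act 4 n39142 = n38980 := d24_2 D37894 D39142 F180128 (iv F174639) F174638
theorem F180823 : act 5 n39142 = n37900 := d25_2 (iv F175217) D39142 (iv D37900)
theorem F180824 : act 7 n39142 = n39019 := d27_2 F180710 D39142 (iv F180708)
def n39143 : Q := act 6 n37894
theorem D39143 : act 6 n37894 = n39143 := rfl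
theorem F180825 : act 0 n39143 = n38672 := d5_1 D39143 (iv D38672) (iv F175216)
theorem F180826 : act 4 n39143 = n37895 := d31_1 D39143 (iv D37895) D37894
theorem F180827 : act 5 n39143 = n37912 := d35_1 D39143 (iv D37912) F168851 (iv F168783) (iv F175217)
def n39144 : Q := act 9 n37894
theorem D39144 : act 9 n37894 = n39144 := rfl
theorem F180828 : act 0 n39144 = n38673 := d8_1 D39144 (iv D38673) (iv F175216)
theorem F180829 : act 2 n39144 = n38919 := d23_1 D39144 (iv F180794) F180792
theorem F180830 : act 4 n39144 = n37896 := d34_1 D39144 (iv D37896) D37894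
theorem F180831 : act 5 n39144 = n37901 := d38_1 D39144 (iv D37901) (iv F175217)
def n39145 : Q := act 7 n37895
theorem D39145 : act 7 n37895 = n39145 := rfl
theorem F180832 : act 0 n39145 = n38674 := d6_1 D39145 (iv D38674) (iv F175218)
theorem F180833 : act 5 n39145 = n37897 := d36_1 D39145 (iv D37897) (iv F175219)
def n39146 : Q := act 9 n37895
theorem D39146 : act 9 n37895 = n39146 := rfl
theorem F180834 : act 0 n39146 = n38675 := d8_1 D39146 (iv D38675) (iv F175218)
theorem F180835 : act 2 n39146 = n38920 := d23_1 D39146 (iv F180799) F180797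
theorem F180836 : act 5 n39146 = n37898 := d38_1 D39146 (iv D37898) (iv F175219)
theorem F180837 : act 6 n39146 = n37896 := d41_1 D39146 (iv D37896) D37895
def n39147 : Q := act 8 n37896
theorem D39147 : act 8 n37896 = n39147 := rfl
theorem F180838 : act 0 n39147 = n38676 := d7_1 D39147 (iv D38676) (iv F175220)
theorem F180839 : act 2 n39147 = n38917 := d22_1 D39147 F179988 (iv F175221)
theorem F180840 : act 5 n39147 = n38916 := d37_1 D39147 (iv D38916) (iv D37651) (iv F168763) (iv F175222)
def n39148 : Q := act 9 n37897
theorem D39148 : act 9 n37897 = n39148 := rfl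
theorem F180841 : act 0 n39148 = n38677 := d8_1 D39148 (iv D38677) (iv F175223)
theorem F180842 : act 1 n39148 = n38413 := d16_1 D39148 (iv F180506) F180500
theorem F180843 : act 2 n39148 = n38921 := d23_1 D39148 (iv F180806) F180802
theorem F180844 : act 3 n39148 = n38721 := d29_1 D39148 F180344 F180340
theorem F180845 : act 4 n39148 = n37916 := d34_1 D39148 (iv D37916) (iv F175224)
theorem F180846 : act 6 n39148 = n37899 := d41_1 D39148 (iv D37899) (iv F175225)
theorem F180847 : act 7 n39148 = n37898 := d43_1 D39148 (iv D37898) D37897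
theorem F180848 : act 8 n39148 = n38410 := d44_1 D39148 F178136 (iv F177601) F177602 (iv F175226)
def n39149 : Q := act 2 n37900
theorem D39149 : act 2 n37900 = n39149 := rfl
theorem F180849 : act 0 n39149 = n38678 := d1_1 D39149 (iv D38678) (iv F175238)
theorem F180850 : act 1 n39149 = n38874 := d9_1 D39149 F179857 (iv F175432) (iv F180377) F180376
theorem F180851 : act 4 n39149 = n37902 := d18_2 (iv F175239) D39149 (iv D37902)
theorem F180852 : act 6 n39149 = n37917 := d20_2 (iv F175240) D39149 (iv D37917)
theorem F180853 : act 7 n39149 = n38903 := d21_2 (iv F175241) D39149 F179949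
theorem F180854 : act 8 n39149 = n39013 := d22_2 (iv F175242) D39149 (iv D39013)
theorem F180855 : act 9 n38861 = n39149 := d44_0 F180854 F180191 (iv D37771) (iv F174527) (iv F179829)
def n39150 : Q := act 9 n37900
theorem D39150 : act 9 n37900 = n39150 := rfl
theorem F180856 : act 0 n39150 = n38679 := d8_1 D39150 (iv D38679) (iv F175238)
theorem F180857 : act 1 n39150 = n38761 := d16_1 D39150 (iv F180382) F180376
theorem F180858 : act 2 n39150 = n38861 := d23_1 D39150 F180855 (iv D39149)
theorem F180859 : act 3 n39150 = n37901 := d29_1 D39150 (iv D37901) D37900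
theorem F180860 : act 4 n39150 = n37903 := d34_1 D39150 (iv D37903) (iv F175239)
theorem F180861 : act 6 n39150 = n37918 := d41_1 D39150 (iv D37918) (iv F175240)
theorem F180862 : act 7 n39150 = n39032 := d43_1 D39150 (iv D39032) (iv F175241)
theorem F180863 : act 8 n39150 = n38899 := d44_1 D39150 F179933 D38902 (iv F179948) (iv F175242)
def n39151 : Q := act 4 n37904
theorem D39151 : act 4 n37904 = n39151 := rfl
theorem F180864 : act 0 n39151 = n38522 := d3_1 D39151 (iv D38522) (iv F175263)
theorem F180865 : act 1 n39151 = n38685 := d11_1 D39151 F179195 (iv F175264)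
theorem F180866 : act 2 n39151 = n37909 := d18_1 D39151 (iv D37909) (iv F175265)
theorem F180867 : act 5 n39151 = n38519 := d30_2 D37904 D39151 (iv D38519) (iv D37185) (iv F168815)
theorem F180868 : act 7 n39151 = n39151 := d32_2 F175267 D39151 (iv D39151)
theorem F180869 : act 8 n39151 = n37905 := d33_2 (iv F175268) D39151 (iv D37905)
theorem F180870 : act 9 n39151 = n38521 := d34_2 (iv F175269) D39151 (iv D38521)
def n39152 : Q := act 6 n37904
theorem D39152 : act 6 n37904 = n39152 := rfl
theorem F180871 : act 0 n39152 = n38523 := d5_1 D39152 (iv D38523) (iv F175263)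
theorem F180872 : act 1 n39152 = n38687 := d13_1 D39152 F179207 (iv F175264)
theorem F180873 : act 2 n39152 = n37910 := d20_1 D39152 (iv D37910) (iv F175265)
theorem F180874 : act 3 n39152 = n39152 := d26_1 D39152 (iv D39152) F175266
theorem F180875 : act 5 n39152 = n38315 := d35_1 D39152 F177732 F171428 (iv F168816) D37904
theorem F180876 : act 8 n39152 = n37906 := d40_2 (iv F175268) D39152 (iv D37906)
theorem F180877 : act 9 n39152 = n38314 := d41_2 (iv F175269) D39152 F177726
def n39153 : Q := act 3 n37905
theorem D39153 : act 3 n37905 = n39153 := rfl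
theorem F180878 : act 0 n39153 = n38683 := d2_1 D39153 (iv D38683) (iv F175270)
theorem F180879 : act 1 n39153 = n38904 := d10_1 D39153 F179952 (iv F175271)
theorem F180880 : act 4 n39153 = n39153 := d24_2 D37905 D39153 (iv D39153) (iv D37905) F168822
theorem F180881 : act 5 n39153 = n37908 := d25_2 (iv F175273) D39153 (iv D37908)
theorem F180882 : act 7 n39153 = n39153 := d27_2 F175274 D39153 (iv D39153)
theorem F180883 : act 9 n39153 = n39035 := d29_2 (iv F175275) D39153 (iv D39035)
def n39154 : Q := act 6 n37905
theorem D39154 : act 6 n37905 = n39154 := rfl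
theorem F180884 : act 0 n39154 = n38684 := d5_1 D39154 (iv D38684) (iv F175270)
theorem F180885 : act 1 n39154 = n39042 := d13_1 D39154 F180248 (iv F175271)
theorem F180886 : act 2 n39154 = n37912 := d20_1 D39154 (iv D37912) (iv F175272)
theorem F180887 : act 4 n39154 = n37906 := d31_1 D39154 (iv D37906) D37905
theorem F180888 : act 9 n39154 = n39036 := d41_2 (iv F175275) D39154 (iv D39036)
def n39155 : Q := act 7 n37906
theorem D39155 : act 7 n37906 = n39155 := rfl
theorem F180889 : act 0 n39155 = n38686 := d6_1 D39155 (iv D38686) (iv F175276)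
theorem F180890 : act 1 n39155 = n39043 := d14_1 D39155 F180252 (iv F175277)
theorem F180891 : act 2 n39155 = n37914 := d21_1 D39155 (iv D37914) (iv F175278)
theorem F180892 : act 3 n39155 = n39155 := d27_1 D39155 (iv D39155) F175279
theorem F180893 : act 5 n39155 = n37907 := d36_1 D39155 (iv D37907) (iv F175280)
theorem F180894 : act 6 n39155 = n39155 := d39_1 D39155 (iv D39155) (iv D37906) F168823 D37906
theorem F180895 : act 9 n39155 = n39037 := d43_2 (iv F175281) D39155 (iv D39037)
def n39156 : Q := act 2 n37908
theorem D39156 : act 2 n37908 = n39156 := rfl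
theorem F180896 : act 0 n39156 = n38689 := d1_1 D39156 (iv D38689) (iv F175289)
theorem F180897 : act 1 n39156 = n38886 := d9_1 D39156 (iv D38886) F174072 (iv F174224) (iv F175290)
theorem F180898 : act 3 n39156 = n37917 := d17_2 D37908 D39156 (iv D37917) (iv D36494) (iv F168840)
theorem F180899 : act 4 n39156 = n37938 := d18_2 (iv F175291) D39156 (iv D37938)
theorem F180900 : act 7 n39156 = n39156 := d21_2 F175292 D39156 (iv D39156)
theorem F180901 : act 8 n39156 = n38769 := d22_2 (iv F175293) D39156 F179534
theorem F180902 : act 9 n39156 = n37939 := d23_2 (iv F175294) D39156 F175486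
def n39157 : Q := act 3 n37909
theorem D39157 : act 3 n37909 = n39157 := rfl
theorem F180903 : act 0 n39157 = n38682 := d2_1 D39157 (iv D38682) (iv F175295)
theorem F180904 : act 1 n39157 = n38224 := d10_1 D39157 F177188 (iv F175296)
theorem F180905 : act 4 n39157 = n37919 := d24_2 D37909 D39157 (iv D37919) (iv D36498) (iv F168846)
theorem F180906 : act 5 n39157 = n39038 := d25_2 (iv F175297) D39157 (iv D39038)
theorem F180907 : act 7 n39157 = n39157 := d27_2 F175298 D39157 (iv D39157)
theorem F180908 : act 8 n39157 = n37911 := d28_2 (iv F175299) D39157 (iv D37911)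
theorem F180909 : act 9 n39157 = n38525 := d29_2 (iv F175300) D39157 (iv D38525)
def n39158 : Q := act 6 n37909
theorem D39158 : act 6 n37909 = n39158 := rfl
theorem F180910 : act 0 n39158 = n38652 := d5_1 D39158 F179117 (iv F175295)
theorem F180911 : act 1 n39158 = n38447 := d13_1 D39158 F178293 (iv F175296)
theorem F180912 : act 4 n39158 = n37910 := d31_1 D39158 (iv D37910) D37909
theorem F180913 : act 8 n39158 = n37912 := d40_2 (iv F175299) D39158 (iv D37912)
theorem F180914 : act 9 n39158 = n38321 := d41_2 (iv F175300) D39158 F177753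
def n39159 : Q := act 7 n37910
theorem D39159 : act 7 n37910 = n39159 := rfl
theorem F180915 : act 0 n39159 = n38634 := d6_1 D39159 F179076 (iv F175301)
theorem F180916 : act 1 n39159 = n38385 := d14_1 D39159 F178030 (iv F175302)
theorem F180917 : act 3 n39159 = n37921 := d27_1 D39159 (iv D37921) (iv F175303)
theorem F180918 : act 5 n39159 = n38007 := d36_1 D39159 F175932 (iv F175304)
theorem F180919 : act 6 n39159 = n39159 := d39_1 D39159 (iv D39159) (iv D37910) F168847 D37910
theorem F180920 : act 8 n39159 = n37914 := d42_2 (iv F175305) D39159 (iv D37914)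
theorem F180921 : act 9 n39159 = n38006 := d43_2 (iv F175306) D39159 F175926
def n39160 : Q := act 2 n37911
theorem D39160 : act 2 n37911 = n39160 := rfl
theorem F180922 : act 0 n39160 = n38690 := d1_1 D39160 (iv D38690) (iv F175307)
theorem F180923 : act 1 n39160 = n38513 := d9_1 D39160 F178582 F172502 (iv F170830) (iv F175308)
theorem F180924 : act 4 n39160 = n37922 := d18_2 (iv F175309) D39160 (iv D37922)
theorem F180925 : act 5 n39160 = n37917 := d19_2 (iv F175310) D39160 (iv D37917)
theorem F180926 : act 7 n39160 = n39160 := d21_2 F175311 D39160 (iv D39160)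
theorem F180927 : act 9 n38888 = n39160 := d38_0 F180925 (iv F175344) (iv F179896)
def n39161 : Q := act 6 n37911
theorem D39161 : act 6 n37911 = n39161 := rfl
theorem F180928 : act 0 n39161 = n38691 := d5_1 D39161 (iv D38691) (iv F175307)
theorem F180929 : act 1 n39161 = n38218 := d13_1 D39161 F177154 (iv F175308)
theorem F180930 : act 3 n39161 = n37912 := d26_1 D39161 (iv D37912) D37911
theorem F180931 : act 4 n39161 = n37923 := d31_1 D39161 (iv D37923) (iv F175309)
def n39162 : Q := act 9 n37911
theorem D39162 : act 9 n37911 = n39162 := rfl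
theorem F180932 : act 0 n39162 = n38692 := d8_1 D39162 (iv D38692) (iv F175307)
theorem F180933 : act 1 n39162 = n38223 := d16_1 D39162 F177185 (iv F175308)
theorem F180934 : act 2 n39162 = n38888 := d23_1 D39162 F180927 (iv D39160)
theorem F180935 : act 3 n39162 = n37913 := d29_1 D39162 (iv D37913) D37911
theorem F180936 : act 4 n39162 = n37924 := d34_1 D39162 (iv D37924) (iv F175309)
theorem F180937 : act 5 n39162 = n37918 := d38_1 D39162 (iv D37918) (iv F175310)
theorem F180938 : act 7 n39162 = n39162 := d43_1 D39162 (iv D39162) F175311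
theorem F180939 : act 8 n39162 = n38608 := d44_1 D39162 (iv D38608) (iv F178649) (iv F180909) F180908
def n39163 : Q := act 7 n37912
theorem D39163 : act 7 n37912 = n39163 := rfl
theorem F180940 : act 0 n39163 = n38693 := d6_1 D39163 (iv D38693) (iv F175312)
theorem F180941 : act 4 n39163 = n37914 := d32_1 D39163 (iv D37914) (iv F175313)
theorem F180942 : act 6 n39163 = n39163 := d39_1 D39163 (iv D39163) (iv D37912) F168852 D37912
def n39164 : Q := act 9 n37912
theorem D39164 : act 9 n37912 = n39164 := rfl
theorem F180943 : act 0 n39164 = n38694 := d8_1 D39164 (iv D38694) (iv F175312)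
theorem F180944 : act 1 n39164 = n38680 := d16_1 D39164 (iv F180519) F180515
theorem F180945 : act 2 n39164 = n39036 := d23_1 D39164 (iv F180888) F180886
theorem F180946 : act 4 n39164 = n37915 := d34_1 D39164 (iv D37915) (iv F175313)
theorem F180947 : act 6 n39164 = n37913 := d41_1 D39164 (iv D37913) D37912
theorem F180948 : act 8 n39164 = n38604 := d44_1 D39164 (iv D38604) (iv F177754) (iv F180914) F180913
def n39165 : Q := act 9 n37914
theorem D39165 : act 9 n37914 = n39165 := rfl
theorem F180949 : act 0 n39165 = n38695 := d8_1 D39165 (iv D38695) (iv F175321)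
theorem F180950 : act 1 n39165 = n38414 := d16_1 D39165 (iv F180527) F180521
theorem F180951 : act 2 n39165 = n39037 := d23_1 D39165 (iv F180895) F180891
theorem F180952 : act 3 n39165 = n37927 := d29_1 D39165 (iv D37927) (iv F175322)
theorem F180953 : act 5 n39165 = n37916 := d38_1 D39165 (iv D37916) (iv F175323)
theorem F180954 : act 6 n39165 = n39165 := d41_1 D39165 (iv D39165) F175324
theorem F180955 : act 7 n39165 = n37915 := d43_1 D39165 (iv D37915) D37914
theorem F180956 : act 8 n39165 = n38595 := d44_1 D39165 (iv D38595) (iv F175927) (iv F180921) F180920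
def n39166 : Q := act 2 n37919
theorem D39166 : act 2 n37919 = n39166 := rfl
theorem F180957 : act 0 n39166 = n38697 := d1_1 D39166 (iv D38697) (iv F175352)
theorem F180958 : act 1 n39166 = n38514 := d9_1 D39166 F178587 F172507 (iv F170833) (iv F175353)
theorem F180959 : act 3 n39166 = n39166 := d17_2 D37919 D39166 (iv D39166) (iv D37919) F168902
theorem F180960 : act 5 n39166 = n39166 := d19_2 F175354 D39166 (iv D39166)
theorem F180961 : act 7 n39166 = n39166 := d21_2 F175355 D39166 (iv D39166)
theorem F180962 : act 8 n39166 = n37922 := d22_2 (iv F175356) D39166 (iv D37922)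
theorem F180963 : act 9 n39166 = n38526 := d23_2 (iv F175357) D39166 (iv D38526)
def n39167 : Q := act 6 n37919
theorem D39167 : act 6 n37919 = n39167 := rfl
theorem F180964 : act 0 n39167 = n38698 := d5_1 D39167 (iv D38698) (iv F175352)
theorem F180965 : act 1 n39167 = n38219 := d13_1 D39167 F177158 (iv F175353)
theorem F180966 : act 3 n39167 = n37920 := d26_1 D39167 (iv D37920) D37919
theorem F180967 : act 8 n39167 = n37923 := d40_2 (iv F175356) D39167 (iv D37923)
theorem F180968 : act 9 n39167 = n38322 := d41_2 (iv F175357) D39167 F177756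
def n39168 : Q := act 7 n37920
theorem D39168 : act 7 n37920 = n39168 := rfl
theorem F180969 : act 0 n39168 = n38699 := d6_1 D39168 (iv D38699) (iv F175358)
theorem F180970 : act 1 n39168 = n38203 := d14_1 D39168 F177067 (iv F175359)
theorem F180971 : act 2 n39168 = n39168 := d21_1 D39168 (iv D39168) F175360
theorem F180972 : act 4 n39168 = n37921 := d32_1 D39168 (iv D37921) (iv F175361)
theorem F180973 : act 5 n39168 = n38365 := d36_1 D39168 (iv F180647) F180645
theorem F180974 : act 6 n39168 = n39168 := d39_1 D39168 (iv D39168) (iv D37920) F168904 D37920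
theorem F180975 : act 8 n39168 = n37925 := d42_2 (iv F175362) D39168 (iv D37925)
theorem F180976 : act 9 n39168 = n38008 := d43_2 (iv F175363) D39168 F175939
def n39169 : Q := act 6 n37922
theorem D39169 : act 6 n37922 = n39169 := rfl
theorem F180977 : act 0 n39169 = n38700 := d5_1 D39169 (iv D38700) (iv F175371)
theorem F180978 : act 1 n39169 = n38497 := d13_1 D39169 F178503 (iv F175372)
theorem F180979 : act 2 n39169 = n37923 := d20_1 D39169 (iv D37923) D37922
theorem F180980 : act 3 n39169 = n39169 := d26_1 D39169 (iv D39169) F175373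
theorem F180981 : act 5 n39169 = n38214 := d35_1 D39169 (iv D38214) F170744 (iv F168957) (iv F175374)
theorem F180982 : act 9 n39169 = n38889 := d41_2 F175376 D39169 (iv D38889)
def n39170 : Q := act 7 n37923
theorem D39170 : act 7 n37923 = n39170 := rfl
theorem F180983 : act 0 n39170 = n38701 := d6_1 D39170 (iv D38701) (iv F175377)
theorem F180984 : act 1 n39170 = n38201 := d14_1 D39170 F177054 (iv F175378)
theorem F180985 : act 3 n39170 = n37925 := d27_1 D39170 (iv D37925) (iv F175379)
theorem F180986 : act 5 n39170 = n38198 := d36_1 D39170 F177034 (iv F175380)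
theorem F180987 : act 6 n39170 = n39170 := d39_1 D39170 (iv D39170) (iv D37923) F168916 D37923
def n39171 : Q := act 9 n37923
theorem D39171 : act 9 n37923 = n39171 := rfl
theorem F180988 : act 0 n39171 = n38702 := d8_1 D39171 (iv D38702) (iv F175377)
theorem F180989 : act 1 n39171 = n38208 := d16_1 D39171 F177097 (iv F175378)
theorem F180990 : act 2 n39171 = n38889 := d23_1 D39171 (iv F180982) F180979
theorem F180991 : act 3 n39171 = n37926 := d29_1 D39171 (iv D37926) (iv F175379)
theorem F180992 : act 5 n39171 = n38206 := d38_1 D39171 F177086 (iv F175380)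
theorem F180993 : act 6 n39171 = n37924 := d41_1 D39171 (iv D37924) D37923
theorem F180994 : act 8 n39171 = n38606 := d44_1 D39171 (iv D38606) (iv F177757) (iv F180968) F180967
def n39172 : Q := act 9 n37925
theorem D39172 : act 9 n37925 = n39172 := rfl
theorem F180995 : act 0 n39172 = n38207 := d8_1 D39172 F177092 (iv F175388)
theorem F180996 : act 1 n39172 = n38193 := d16_1 D39172 F177000 (iv F175389)
theorem F180997 : act 2 n39172 = n39172 := d23_1 D39172 (iv D39172) F175390
theorem F180998 : act 4 n39172 = n37927 := d34_1 D39172 (iv D37927) (iv F175391)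
theorem F180999 : act 5 n39172 = n38190 := d38_1 D39172 F176979 (iv F175392)
theorem F181000 : act 6 n39172 = n39172 := d41_1 D39172 (iv D39172) F175393
theorem F181001 : act 7 n39172 = n37926 := d43_1 D39172 (iv D37926) D37925
theorem F181002 : act 8 n39172 = n38503 := d44_1 D39172 (iv D38503) (iv F175940) (iv F180976) F180975
def n39173 : Q := act 4 n37928
theorem D39173 : act 4 n37928 = n39173 := rfl
theorem F181003 : act 0 n39173 = n38706 := d3_1 D39173 (iv D38706) (iv F175408)
theorem F181004 : act 1 n39173 = n38808 := d11_1 D39173 F179671 (iv F175409)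
theorem F181005 : act 2 n39173 = n38993 := d18_1 D39173 F180154 (iv F175410)
theorem F181006 : act 3 n39173 = n39030 := d24_1 D39173 (iv D39030) F174520 (iv F168988) (iv F175411)
theorem F181007 : act 6 n39173 = n39173 := d31_2 F175412 D39173 (iv D39173)
theorem F181008 : act 7 n39173 = n37931 := d32_2 (iv F175413) D39173 (iv D37931)
theorem F181009 : act 9 n39173 = n38729 := d34_2 (iv F175414) D39173 (iv D38729)
def n39174 : Q := act 8 n37928
theorem D39174 : act 8 n37928 = n39174 := rfl
theorem F181010 : act 0 n39174 = n38707 := d7_1 D39174 (iv D38707) (iv F175408)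
theorem F181011 : act 1 n39174 = n38809 := d15_1 D39174 (iv D38809) (iv F175409)
theorem F181012 : act 2 n39174 = n38816 := d22_1 D39174 F179704 (iv F175410)
theorem F181013 : act 3 n39174 = n37929 := d28_1 D39174 (iv D37929) (iv F175411)
theorem F181014 : act 5 n39174 = n38830 := d37_1 D39174 (iv D38830) F173896 (iv F168983) D37928
theorem F181015 : act 6 n39174 = n39174 := d40_1 D39174 (iv D39174) F175412
theorem F181016 : act 7 n39174 = n37932 := d42_1 D39174 (iv D37932) (iv F175413)
theorem F181017 : act 9 n39174 = n38851 := d44_2 (iv F175414) D39174 (iv D38851) (iv D37563) (iv F173451)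
def n39175 : Q := act 3 n37930
theorem D39175 : act 3 n37930 = n39175 := rfl
theorem F181018 : act 0 n39175 = n38708 := d2_1 D39175 (iv D38708) (iv F175423)
theorem F181019 : act 1 n39175 = n38852 := d10_1 D39175 F179802 (iv F175424)
theorem F181020 : act 2 n39175 = n38851 := d17_1 D39175 F179799 F173977 (iv F169009) (iv F175425)
theorem F181021 : act 5 n39175 = n38831 := d25_2 (iv F175426) D39175 F179745
theorem F181022 : act 6 n39175 = n39175 := d26_2 F175427 D39175 (iv D39175)
theorem F181023 : act 7 n39175 = n37937 := d27_2 (iv F175428) D39175 (iv D37937)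
theorem F181024 : act 8 n39175 = n38840 := d28_2 (iv F175429) D39175 F179771
theorem F181025 : act 9 n39175 = n38816 := d29_2 (iv F175430) D39175 (iv D38816)
def n39176 : Q := act 8 n37931
theorem D39176 : act 8 n37931 = n39176 := rfl
theorem F181026 : act 0 n39176 = n38712 := d7_1 D39176 (iv D38712) (iv F175431)
theorem F181027 : act 1 n39176 = n38873 := d15_1 D39176 F179856 (iv F175432)
theorem F181028 : act 2 n39176 = n38922 := d22_1 D39176 (iv F180381) F180377
theorem F181029 : act 3 n39176 = n38861 := d28_1 D39176 F179829 (iv F175433)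
theorem F181030 : act 4 n39176 = n37932 := d33_1 D39176 (iv D37932) D37931
theorem F181031 : act 6 n39176 = n37939 := d40_1 D39176 (iv D37939) (iv F175434)
def n39177 : Q := act 5 n37932
theorem D39177 : act 5 n37932 = n39177 := rfl
theorem F181032 : act 0 n39177 = n38713 := d4_1 D39177 (iv D38713) (iv F175436)
theorem F181033 : act 1 n39177 = n38851 := d12_1 D39177 F179800 (iv F175437)
theorem F181034 : act 2 n39177 = n38753 := d19_1 D39177 F179478 (iv F175438)
theorem F181035 : act 3 n39177 = n37934 := d25_1 D39177 (iv D37934) (iv F175439)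
theorem F181036 : act 6 n39177 = n39177 := d35_2 (iv F175440) D39177 (iv D39177) F175440 F169098
theorem F181037 : act 7 n39177 = n38830 := d36_2 F181016 D39177 (iv F181014)
theorem F181038 : act 8 n39177 = n37933 := d37_2 D37932 D39177 (iv D37933) (iv D36516) D36515
theorem F181039 : act 9 n38809 = n39177 := d44_0 F181038 F175447 F173595 D37519 D38809
def n39178 : Q := act 9 n37932
theorem D39178 : act 9 n37932 = n39178 := rfl
theorem F181040 : act 0 n39178 = n38714 := d8_1 D39178 (iv D38714) (iv F175436)
theorem F181041 : act 1 n39178 = n38830 := d16_1 D39178 F179742 (iv F175437)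
theorem F181042 : act 2 n39178 = n37937 := d23_1 D39178 F175476 (iv F175438)
theorem F181043 : act 3 n39178 = n37935 := d29_1 D39178 (iv D37935) (iv F175439)
theorem F181044 : act 5 n39178 = n38809 := d38_1 D39178 F181039 (iv D39177)
theorem F181045 : act 6 n39178 = n37938 := d41_1 D39178 F175483 (iv F175440)
theorem F181046 : act 7 n39178 = n38851 := d43_1 D39178 (iv F181017) F181016
theorem F181047 : act 8 n39178 = n38741 := d44_1 D39178 (iv D38741) F173516 (iv F169019) D37932
def n39179 : Q := act 4 n37933
theorem D39179 : act 4 n37933 = n39179 := rfl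
theorem F181048 : act 0 n39179 = n38715 := d3_1 D39179 (iv D38715) (iv F175441)
theorem F181049 : act 1 n39179 = n38850 := d11_1 D39179 F179797 (iv F175442)
theorem F181050 : act 2 n39179 = n38807 := d18_1 D39179 F179668 (iv F175443)
theorem F181051 : act 6 n39179 = n39179 := d31_2 F175445 D39179 (iv D39179)
theorem F181052 : act 7 n39179 = n38829 := d32_2 (iv F175446) D39179 F179737
theorem F181053 : act 9 n39179 = n38752 := d34_2 (iv F175447) D39179 (iv D38752)
def n39180 : Q := act 3 n37936
theorem D39180 : act 3 n37936 = n39180 := rfl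
theorem F181054 : act 0 n39180 = n38716 := d2_1 D39180 (iv D38716) (iv F175464)
theorem F181055 : act 1 n39180 = n38853 := d10_1 D39180 F179809 (iv F175465)
theorem F181056 : act 2 n39180 = n38809 := d17_1 D39180 F179674 F173824 (iv F169062) (iv F175466)
theorem F181057 : act 5 n39180 = n37937 := d25_2 (iv F175467) D39180 (iv D37937)
theorem F181058 : act 6 n39180 = n39180 := d26_2 F175468 D39180 (iv D39180)
theorem F181059 : act 7 n39180 = n38831 := d27_2 (iv F175469) D39180 F179745
theorem F181060 : act 8 n39180 = n38798 := d28_2 (iv F175470) D39180 F179642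
theorem F181061 : act 9 n39180 = n38753 := d29_2 (iv F175471) D39180 (iv D38753)
def n39181 : Q := act 5 n37939
theorem D39181 : act 5 n37939 = n39181 := rfl
theorem F181062 : act 0 n39181 = n38720 := d4_1 D39181 (iv D38720) (iv F175484)
theorem F181063 : act 1 n39181 = n38890 := d12_1 D39181 F179902 (iv F175485)
theorem F181064 : act 2 n39181 = n39035 := d19_1 D39181 F180230 (iv F175486)
theorem F181065 : act 3 n39181 = n38888 := d25_1 D39181 F179896 (iv F175487)
theorem F181066 : act 4 n39181 = n39181 := d30_1 D39181 (iv D39181) F175488 F169098 (iv F175488)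
theorem F181067 : act 7 n39181 = n39181 := d36_2 F175489 D39181 (iv D39181)
theorem F181068 : act 8 n39181 = n38517 := d37_2 D37939 D39181 (iv D38517) (iv D37183) (iv F169091)
def n39182 : Q := act 6 n37940
theorem D39182 : act 6 n37940 = n39182 := rfl
theorem F181069 : act 0 n39182 = n38288 := d5_1 D39182 (iv D38288) (iv F175490)
theorem F181070 : act 1 n39182 = n37943 := d13_1 D39182 (iv D37943) (iv F175491)
theorem F181071 : act 2 n39182 = n38721 := d20_1 D39182 (iv D38721) (iv F175492)
theorem F181072 : act 3 n39182 = n38932 := d26_1 D39182 (iv D38932) (iv F175493)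
theorem F181073 : act 4 n39182 = n37941 := d31_1 D39182 (iv D37941) (iv F175494)
theorem F181074 : act 7 n39182 = n38927 := d39_2 D37940 D39182 (iv D38927) (iv D37662) (iv F169104)
theorem F181075 : act 8 n39182 = n38738 := d40_2 (iv F175496) D39182 (iv D38738)
theorem F181076 : act 9 n39182 = n38610 := d41_2 (iv F175497) D39182 (iv D38610)
def n39183 : Q := act 6 n37942
theorem D39183 : act 6 n37942 = n39183 := rfl
theorem F181077 : act 0 n39183 = n37966 := d5_1 D39183 (iv D37966) (iv F175506)
theorem F181078 : act 1 n39183 = n38932 := d13_1 D39183 (iv D38932) (iv F175507)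
theorem F181079 : act 2 n39183 = n38259 := d20_1 D39183 (iv D38259) (iv F175508)
theorem F181080 : act 3 n39183 = n37943 := d26_1 D39183 (iv D37943) (iv F175509)
theorem F181081 : act 4 n39183 = n39183 := d31_1 D39183 (iv D39183) F175510
theorem F181082 : act 7 n39183 = n38928 := d39_2 D37942 D39183 (iv D38928) (iv D37664) (iv F169120)
theorem F181083 : act 8 n39183 = n38813 := d40_2 (iv F175512) D39183 (iv D38813)
theorem F181084 : act 9 n39183 = n38611 := d41_2 (iv F175513) D39183 (iv D38611)
def n39184 : Q := act 5 n37943
theorem D39184 : act 5 n37943 = n39184 := rfl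
theorem F181085 : act 0 n39184 = n37968 := d4_1 D39184 (iv D37968) (iv F175514)
theorem F181086 : act 2 n39184 = n37944 := d19_1 D39184 (iv D37944) (iv F175515)
theorem F181087 : act 4 n39184 = n38351 := d30_1 D39184 (iv D38351) F171618 (iv F169132) (iv F175516)
theorem F181088 : act 6 n39184 = n38367 := d35_2 D37943 D39184 (iv D38367) (iv D37002) (iv F169126)
theorem F181089 : act 7 n39184 = n38929 := d36_2 (iv F175517) D39184 (iv D38929)
theorem F181090 : act 9 n39184 = n38613 := d38_2 (iv F175519) D39184 (iv D38613)
def n39185 : Q := act 8 n37944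
theorem D39185 : act 8 n37944 = n39185 := rfl
theorem F181091 : act 0 n39185 = n37973 := d7_1 D39185 (iv D37973) (iv F175520)
theorem F181092 : act 1 n39185 = n38723 := d15_1 D39185 (iv D38723) (iv F175521)
theorem F181093 : act 3 n39185 = n38262 := d28_1 D39185 (iv D38262) (iv F175522)
theorem F181094 : act 4 n39185 = n38356 := d33_1 D39185 (iv D38356) (iv F175523)
theorem F181095 : act 6 n39185 = n38368 := d40_1 D39185 (iv D38368) (iv F175524)
theorem F181096 : act 7 n39185 = n38930 := d42_1 D39185 (iv D38930) (iv F175525)
def n39186 : Q := act 5 n37945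
theorem D39186 : act 5 n37945 = n39186 := rfl
theorem F181097 : act 0 n39186 = n37974 := d4_1 D39186 (iv D37974) (iv F175527)
theorem F181098 : act 1 n39186 = n38422 := d12_1 D39186 (iv D38422) (iv F175528)
theorem F181099 : act 2 n39186 = n38825 := d19_1 D39186 F179725 (iv F175529)
theorem F181100 : act 3 n39186 = n38263 := d25_1 D39186 (iv D38263) (iv F175530)
theorem F181101 : act 6 n39186 = n38820 := d35_2 (iv F175532) D39186 (iv D38820) F173876 (iv F169147)
theorem F181102 : act 7 n39186 = n38931 := d36_2 (iv F175533) D39186 (iv D38931)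
theorem F181103 : act 9 n39186 = n38649 := d38_2 F175534 D39186 (iv D38649)
def n39187 : Q := act 4 n37946
theorem D39187 : act 4 n37946 = n39187 := rfl
theorem F181104 : act 0 n39187 = n37978 := d3_1 D39187 (iv D37978) (iv F175535)
theorem F181105 : act 1 n39187 = n38492 := d11_1 D39187 (iv D38492) (iv F175536)
theorem F181106 : act 2 n39187 = n38884 := d18_1 D39187 F179879 (iv F175537)
theorem F181107 : act 3 n39187 = n38500 := d24_1 D39187 (iv D38500) F172394 (iv F169160) (iv F175538)
theorem F181108 : act 6 n39187 = n37947 := d31_2 (iv F175539) D39187 (iv D37947)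
theorem F181109 : act 7 n39187 = n38933 := d32_2 (iv F175540) D39187 (iv D38933)
theorem F181110 : act 8 n39187 = n38362 := d33_2 (iv F175541) D39187 (iv D38362)
theorem F181111 : act 9 n39187 = n38710 := d34_2 (iv F175542) D39187 (iv D38710)
def n39188 : Q := act 6 n37948
theorem D39188 : act 6 n37948 = n39188 := rfl
theorem F181112 : act 0 n39188 = n38928 := d5_1 D39188 (iv D38928) (iv F175551)
theorem F181113 : act 1 n39188 = n38804 := d13_1 D39188 F179660 (iv F175552)
theorem F181114 : act 2 n39188 = n38278 := d20_1 D39188 (iv D38278) (iv F175553)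
theorem F181115 : act 3 n39188 = n37950 := d26_1 D39188 (iv D37950) (iv F175554)
theorem F181116 : act 4 n39188 = n39188 := d31_1 D39188 (iv D39188) F175555
theorem F181117 : act 7 n39188 = n37966 := d39_2 D37948 D39188 (iv D37966) (iv D36552) (iv F169177)
theorem F181118 : act 9 n39188 = n38349 := d41_2 (iv F175557) D39188 (iv D38349)
def n39189 : Q := act 8 n37948
theorem D39189 : act 8 n37948 = n39189 := rfl
theorem F181119 : act 0 n39189 = n38814 := d7_1 D39189 F179695 (iv F175551)
theorem F181120 : act 1 n39189 = n38781 := d15_1 D39189 F179575 (iv F175552)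
theorem F181121 : act 2 n39189 = n38279 := d22_1 D39189 (iv D38279) (iv F175553)
theorem F181122 : act 3 n39189 = n37951 := d28_1 D39189 (iv D37951) (iv F175554)
theorem F181123 : act 4 n39189 = n39189 := d33_1 D39189 (iv D39189) F175555
theorem F181124 : act 7 n39189 = n37949 := d42_1 D39189 (iv D37949) D37948
theorem F181125 : act 5 n38665 = n39189 := d36_3 F181124 (iv F175564) (iv F179152)
theorem F181126 : act 9 n38639 = n39189 := d43_0 F181124 (iv F175565) D38639
def n39190 : Q := act 5 n37950
theorem D39190 : act 5 n37950 = n39190 := rfl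
theorem F181127 : act 0 n39190 = n38929 := d4_1 D39190 (iv D38929) (iv F175566)
theorem F181128 : act 1 n39190 = n38986 := d12_1 D39190 F180142 (iv F175567)
theorem F181129 : act 2 n39190 = n37956 := d19_1 D39190 (iv D37956) (iv F175568)
theorem F181130 : act 4 n39190 = n38613 := d30_1 D39190 (iv D38613) F173049 (iv F169194) (iv F175569)
theorem F181131 : act 6 n39190 = n38372 := d35_2 D37950 D39190 (iv D38372) (iv D37007) (iv F169183)
theorem F181132 : act 7 n39190 = n37968 := d36_2 (iv F175570) D39190 (iv D37968)
theorem F181133 : act 9 n39190 = n38351 := d38_2 (iv F175571) D39190 (iv D38351)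
def n39191 : Q := act 8 n37950
theorem D39191 : act 8 n37950 = n39191 := rfl
theorem F181134 : act 0 n39191 = n38827 := d7_1 D39191 F179731 (iv F175566)
theorem F181135 : act 1 n39191 = n38949 := d15_1 D39191 F180056 (iv F175567)
theorem F181136 : act 2 n39191 = n37957 := d22_1 D39191 (iv D37957) (iv F175568)
theorem F181137 : act 4 n39191 = n37954 := d33_1 D39191 (iv D37954) (iv F175569)
theorem F181138 : act 6 n39191 = n37951 := d40_1 D39191 (iv D37951) D37950
theorem F181139 : act 7 n39191 = n37969 := d42_1 D39191 (iv D37969) (iv F175570)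
def n39192 : Q := act 5 n37951
theorem D39192 : act 5 n37951 = n39192 := rfl
theorem F181140 : act 0 n39192 = n38751 := d4_1 D39192 F179471 (iv F175572)
theorem F181141 : act 1 n39192 = n38623 := d12_1 D39192 F179027 (iv F175573)
theorem F181142 : act 2 n39192 = n37958 := d19_1 D39192 (iv D37958) (iv F175574)
theorem F181143 : act 3 n39192 = n38665 := d25_1 D39192 F181125 F181122
theorem F181144 : act 4 n39192 = n39192 := d30_1 D39192 (iv D39192) F175575 F169201 (iv F175575)
theorem F181145 : act 7 n39192 = n37952 := d36_2 (iv F175576) D39192 (iv D37952)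
theorem F181146 : act 8 n39192 = n38374 := d37_2 D37951 D39192 (iv D38374) (iv D37008) (iv F169183)
theorem F181147 : act 9 n38657 = n39192 := d43_0 F181145 (iv F175584) D38657
def n39193 : Q := act 9 n37951
theorem D39193 : act 9 n37951 = n39193 := rfl
theorem F181148 : act 0 n39193 = n38629 := d8_1 D39193 F179052 (iv F175572)
theorem F181149 : act 1 n39193 = n38952 := d16_1 D39193 (iv D38952) (iv F175573)
theorem F181150 : act 2 n39193 = n37959 := d23_1 D39193 (iv D37959) (iv F175574)
theorem F181151 : act 3 n39193 = n38639 := d29_1 D39193 F181126 F181122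
theorem F181152 : act 4 n39193 = n37955 := d34_1 D39193 (iv D37955) (iv F175575)
theorem F181153 : act 5 n39193 = n38657 := d38_1 D39193 F181147 (iv D39192)
theorem F181154 : act 7 n39193 = n37953 := d43_1 D39193 (iv D37953) (iv F175576)
theorem F181155 : act 8 n39193 = n38353 := d44_1 D39193 (iv D38353) (iv D36988) (iv F169184) D37951
def n39194 : Q := act 5 n37954
theorem D39194 : act 5 n37954 = n39194 := rfl
theorem F181156 : act 0 n39194 = n38885 := d4_1 D39194 F179882 (iv F175593)
theorem F181157 : act 1 n39194 = n39050 := d12_1 D39194 F180271 (iv F175594)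
theorem F181158 : act 2 n39194 = n37962 := d19_1 D39194 (iv D37962) (iv F175595)
theorem F181159 : act 3 n39194 = n39194 := d25_1 D39194 (iv D39194) F175596
theorem F181160 : act 6 n39194 = n39194 := d35_2 (iv F175597) D39194 (iv D39194) F175597 F169201
theorem F181161 : act 7 n39194 = n37971 := d36_2 (iv F175598) D39194 (iv D37971)
theorem F181162 : act 8 n39194 = n38617 := d37_2 D37954 D39194 (iv D38617) (iv D37311) (iv F169194)
def n39195 : Q := act 9 n37954
theorem D39195 : act 9 n37954 = n39195 := rfl
theorem F181163 : act 0 n39195 = n38703 := d8_1 D39195 F179262 (iv F175593)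
theorem F181164 : act 1 n39195 = n39053 := d16_1 D39195 (iv D39053) (iv F175594)
theorem F181165 : act 2 n39195 = n37963 := d23_1 D39195 (iv D37963) (iv F175595)
theorem F181166 : act 3 n39195 = n39195 := d29_1 D39195 (iv D39195) F175596
theorem F181167 : act 6 n39195 = n37955 := d41_1 D39195 (iv D37955) (iv F175597)
theorem F181168 : act 7 n39195 = n37972 := d43_1 D39195 (iv D37972) (iv F175598)
theorem F181169 : act 8 n39195 = n38355 := d44_1 D39195 (iv D38355) (iv D36990) (iv F169196) D37954
def n39196 : Q := act 8 n37956
theorem D39196 : act 8 n37956 = n39196 := rfl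
theorem F181170 : act 0 n39196 = n38930 := d7_1 D39196 (iv D38930) (iv F175606)
theorem F181171 : act 1 n39196 = n38061 := d15_1 D39196 (iv D38061) (iv F175607)
theorem F181172 : act 3 n39196 = n38285 := d28_1 D39196 (iv D38285) (iv F175608)
theorem F181173 : act 4 n39196 = n38619 := d33_1 D39196 (iv D38619) (iv F175609)
theorem F181174 : act 6 n39196 = n38378 := d40_1 D39196 (iv D38378) (iv F175610)
theorem F181175 : act 7 n39196 = n37973 := d42_1 D39196 (iv D37973) (iv F175611)
def n39197 : Q := act 5 n37957
theorem D39197 : act 5 n37957 = n39197 := rfl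
theorem F181176 : act 0 n39197 = n38931 := d4_1 D39197 (iv D38931) (iv F175613)
theorem F181177 : act 1 n39197 = n38062 := d12_1 D39197 (iv D38062) (iv F175614)
theorem F181178 : act 3 n39197 = n38286 := d25_1 D39197 (iv D38286) (iv F175615)
theorem F181179 : act 7 n39197 = n37974 := d36_2 (iv F175618) D39197 (iv D37974)
def n39198 : Q := act 9 n37957
theorem D39198 : act 9 n37957 = n39198 := rfl
theorem F181180 : act 0 n39198 = n38630 := d8_1 D39198 F179058 (iv F175613)
theorem F181181 : act 1 n39198 = n38063 := d16_1 D39198 (iv D38063) (iv F175614)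
theorem F181182 : act 3 n39198 = n38287 := d29_1 D39198 (iv D38287) (iv F175615)
theorem F181183 : act 4 n39198 = n37963 := d34_1 D39198 (iv D37963) (iv F175616)
theorem F181184 : act 6 n39198 = n37959 := d41_1 D39198 (iv D37959) (iv F175617)
theorem F181185 : act 7 n39198 = n37975 := d43_1 D39198 (iv D37975) (iv F175618)
theorem F181186 : act 8 n39198 = n38358 := d44_1 D39198 (iv D38358) (iv D36993) (iv F169215) D37957
def n39199 : Q := act 6 n37958
theorem D39199 : act 6 n37958 = n39199 := rfl
theorem F181187 : act 0 n39199 = n38932 := d5_1 D39199 (iv D38932) (iv F175619)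
theorem F181188 : act 1 n39199 = n38064 := d13_1 D39199 (iv D38064) (iv F175620)
theorem F181189 : act 3 n39199 = n38288 := d26_1 D39199 (iv D38288) (iv F175621)
theorem F181190 : act 4 n39199 = n39199 := d31_1 D39199 (iv D39199) F175622
theorem F181191 : act 8 n39199 = n38381 := d40_2 (iv F175624) D39199 (iv D38381)
def n39200 : Q := act 9 n37958
theorem D39200 : act 9 n37958 = n39200 := rfl
theorem F181192 : act 0 n39200 = n38609 := d8_1 D39200 F178981 (iv F175619)
theorem F181193 : act 1 n39200 = n38065 := d16_1 D39200 (iv D38065) (iv F175620)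
theorem F181194 : act 2 n39200 = n38657 := d23_1 D39200 F181147 F181142
theorem F181195 : act 3 n39200 = n38289 := d29_1 D39200 (iv D38289) (iv F175621)
theorem F181196 : act 4 n39200 = n39200 := d34_1 D39200 (iv D39200) F175622
theorem F181197 : act 5 n39200 = n37959 := d38_1 D39200 (iv D37959) D37958
theorem F181198 : act 7 n39200 = n37961 := d43_1 D39200 (iv D37961) (iv F175623)
theorem F181199 : act 8 n38866 = n39200 := d42_0 F181198 (iv F175646) D38866
def n39201 : Q := act 7 n37960
theorem D39201 : act 7 n37960 = n39201 := rfl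
theorem F181200 : act 0 n39201 = n38746 := d6_1 D39201 F179447 (iv F175631)
theorem F181201 : act 1 n39201 = n38066 := d14_1 D39201 (iv D38066) (iv F175632)
theorem F181202 : act 2 n39201 = n38012 := d21_1 D39201 F175964 (iv F175633)
theorem F181203 : act 3 n39201 = n38290 := d27_1 D39201 (iv D38290) (iv F175634)
theorem F181204 : act 4 n39201 = n39201 := d32_1 D39201 (iv D39201) F175635
theorem F181205 : act 5 n39201 = n37977 := d36_1 D39201 (iv D37977) (iv F175636)
theorem F181206 : act 8 n39201 = n38383 := d42_2 (iv F175637) D39201 (iv D38383)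
theorem F181207 : act 9 n39201 = n38550 := d43_2 F175638 D39201 F178785
def n39202 : Q := act 4 n37962
theorem D39202 : act 4 n37962 = n39202 := rfl
theorem F181208 : act 0 n39202 = n38933 := d3_1 D39202 (iv D38933) (iv F175647)
theorem F181209 : act 1 n39202 = n38069 := d11_1 D39202 (iv D38069) (iv F175648)
theorem F181210 : act 6 n39202 = n39202 := d31_2 F175650 D39202 (iv D39202)
theorem F181211 : act 7 n39202 = n37978 := d32_2 (iv F175651) D39202 (iv D37978)
theorem F181212 : act 8 n39202 = n38624 := d33_2 (iv F175652) D39202 (iv D38624)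
def n39203 : Q := act 9 n37962
theorem D39203 : act 9 n37962 = n39203 := rfl
theorem F181213 : act 0 n39203 = n38704 := d8_1 D39203 F179267 (iv F175647)
theorem F181214 : act 1 n39203 = n38070 := d16_1 D39203 (iv D38070) (iv F175648)
theorem F181215 : act 3 n39203 = n37965 := d29_1 D39203 (iv D37965) (iv F175649)
theorem F181216 : act 5 n39203 = n37963 := d38_1 D39203 (iv D37963) D37962
theorem F181217 : act 6 n39203 = n39203 := d41_1 D39203 (iv D39203) F175650
theorem F181218 : act 7 n39203 = n37979 := d43_1 D39203 (iv D37979) (iv F175651)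
def n39204 : Q := act 3 n37964
theorem D39204 : act 3 n37964 = n39204 := rfl
theorem F181219 : act 0 n39204 = n38483 := d2_1 D39204 F178420 (iv F175659)
theorem F181220 : act 1 n39204 = n38071 := d10_1 D39204 (iv D38071) (iv F175660)
theorem F181221 : act 5 n39204 = n38184 := d25_2 (iv F175662) D39204 F176936
theorem F181222 : act 6 n39204 = n39204 := d26_2 F175663 D39204 (iv D39204)
theorem F181223 : act 7 n39204 = n37980 := d27_2 (iv F175664) D39204 (iv D37980)
theorem F181224 : act 8 n39204 = n38626 := d28_2 (iv F175665) D39204 (iv D38626)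
theorem F181225 : act 9 n39204 = n38183 := d29_2 F175666 D39204 F176931
def n39205 : Q := act 8 n37965
theorem D39205 : act 8 n37965 = n39205 := rfl
theorem F181226 : act 0 n39205 = n38705 := d7_1 D39205 (iv D38705) (iv F175667)
theorem F181227 : act 1 n39205 = n38072 := d15_1 D39205 (iv D38072) (iv F175668)
theorem F181228 : act 2 n39205 = n39205 := d22_1 D39205 (iv D39205) F175669
theorem F181229 : act 4 n39205 = n38186 := d33_1 D39205 F176950 (iv F175670)
theorem F181230 : act 5 n39205 = n38366 := d37_1 D39205 (iv D38366) F171666 (iv F169255) (iv F175671)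
theorem F181231 : act 6 n39205 = n39205 := d40_1 D39205 (iv D39205) F175672
theorem F181232 : act 7 n39205 = n37981 := d42_1 D39205 (iv D37981) (iv F175673)
theorem F181233 : act 9 n39205 = n38628 := d44_2 D37965 D39205 (iv D38628) (iv D37321) (iv F169248)
def n39206 : Q := act 5 n37966
theorem D39206 : act 5 n37966 = n39206 := rfl
theorem F181234 : act 1 n39206 = n38802 := d12_1 D39206 F179654 (iv F175674)
theorem F181235 : act 2 n39206 = n38331 := d19_1 D39206 (iv D38331) (iv F175675)
theorem F181236 : act 3 n39206 = n37968 := d25_1 D39206 (iv D37968) (iv F175676)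
theorem F181237 : act 6 n39206 = n38728 := d35_2 D37966 D39206 (iv D38728) F173445 (iv F169260)
def n39207 : Q := act 8 n37966
theorem D39207 : act 8 n37966 = n39207 := rfl
theorem F181238 : act 0 n39207 = n38813 := d7_1 D39207 (iv F181083) F181077
theorem F181239 : act 1 n39207 = n38780 := d15_1 D39207 F179572 (iv F175674)
theorem F181240 : act 2 n39207 = n38332 := d22_1 D39207 (iv D38332) (iv F175675)
theorem F181241 : act 3 n39207 = n37969 := d28_1 D39207 (iv D37969) (iv F175676)
theorem F181242 : act 4 n39207 = n39207 := d33_1 D39207 (iv D39207) F175677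
theorem F181243 : act 6 n39207 = n37967 := d40_1 D39207 (iv D37967) D37966
theorem F181244 : act 9 n38638 = n39207 := d41_0 F181243 (iv F175685) D38638
def n39208 : Q := act 8 n37968
theorem D39208 : act 8 n37968 = n39208 := rfl
theorem F181245 : act 1 n39208 = n38984 := d15_1 D39208 F180139 (iv F175686)
theorem F181246 : act 2 n39208 = n37973 := d22_1 D39208 (iv D37973) (iv F175687)
theorem F181247 : act 4 n39208 = n38939 := d33_1 D39208 (iv D38939) (iv F175688)
theorem F181248 : act 6 n39208 = n38908 := d40_1 D39208 F179964 (iv F175689)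
def n39209 : Q := act 5 n37969
theorem D39209 : act 5 n37969 = n39209 := rfl
theorem F181249 : act 0 n39209 = n38825 := d4_1 D39209 F179725 (iv F175690)
theorem F181250 : act 1 n39209 = n38947 := d12_1 D39209 F180052 (iv F175691)
theorem F181251 : act 2 n39209 = n37974 := d19_1 D39209 (iv D37974) (iv F175692)
theorem F181252 : act 6 n39209 = n38087 := d35_2 (iv F175694) D39209 (iv D38087) F169900 (iv F169275)
def n39210 : Q := act 9 n37969
theorem D39210 : act 9 n37969 = n39210 := rfl
theorem F181253 : act 0 n39210 = n38648 := d8_1 D39210 F179108 (iv F175690)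
theorem F181254 : act 1 n39210 = n38950 := d16_1 D39210 (iv D38950) (iv F175691)
theorem F181255 : act 2 n39210 = n37975 := d23_1 D39210 (iv D37975) (iv F175692)
theorem F181256 : act 3 n39210 = n38638 := d29_1 D39210 F181244 F181241
theorem F181257 : act 4 n39210 = n37972 := d34_1 D39210 (iv D37972) (iv F175693)
theorem F181258 : act 6 n39210 = n37970 := d41_1 D39210 (iv D37970) (iv F175694)
def n39211 : Q := act 4 n37971
theorem D39211 : act 4 n37971 = n39211 := rfl
theorem F181259 : act 0 n39211 = n38884 := d3_1 D39211 F179879 (iv F175702)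
theorem F181260 : act 1 n39211 = n39048 := d11_1 D39211 F180266 (iv F175703)
theorem F181261 : act 2 n39211 = n37978 := d18_1 D39211 (iv D37978) (iv F175704)
theorem F181262 : act 6 n39211 = n37982 := d31_2 (iv F175706) D39211 (iv D37982)
theorem F181263 : act 8 n39211 = n38942 := d33_2 (iv F175707) D39211 (iv D38942)
def n39212 : Q := act 9 n37971
theorem D39212 : act 9 n37971 = n39212 := rfl
theorem F181264 : act 0 n39212 = n38709 := d8_1 D39212 F179284 (iv F175702)
theorem F181265 : act 1 n39212 = n39051 := d16_1 D39212 (iv D39051) (iv F175703)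
theorem F181266 : act 2 n39212 = n37979 := d23_1 D39212 (iv D37979) (iv F175704)
theorem F181267 : act 3 n39212 = n39212 := d29_1 D39212 (iv D39212) F175705
theorem F181268 : act 5 n39212 = n37972 := d38_1 D39212 (iv D37972) D37971
theorem F181269 : act 6 n39212 = n37983 := d41_1 D39212 (iv D37983) (iv F175706)
def n39213 : Q := act 5 n37973
theorem D39213 : act 5 n37973 = n39213 := rfl
theorem F181270 : act 1 n39213 = n38156 := d12_1 D39213 (iv D38156) (iv F175713)
theorem F181271 : act 3 n39213 = n38337 := d25_1 D39213 (iv D38337) (iv F175714)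
theorem F181272 : act 8 n39213 = n37974 := d37_2 D37973 D39213 (iv D37974) (iv D36560) D36559
def n39214 : Q := act 9 n37973
theorem D39214 : act 9 n37973 = n39214 := rfl
theorem F181273 : act 1 n39214 = n38157 := d16_1 D39214 (iv D38157) (iv F175713)
theorem F181274 : act 3 n39214 = n38338 := d29_1 D39214 (iv D38338) (iv F175714)
theorem F181275 : act 4 n39214 = n38945 := d34_1 D39214 (iv D38945) (iv F175715)
theorem F181276 : act 6 n39214 = n38958 := d41_1 D39214 (iv D38958) (iv F175716)
def n39215 : Q := act 4 n37974
theorem D39215 : act 4 n37974 = n39215 := rfl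
theorem F181277 : act 1 n39215 = n38158 := d11_1 D39215 (iv D38158) (iv F175717)
theorem F181278 : act 5 n39215 = n37978 := d30_2 D37974 D39215 (iv D37978) (iv D36564) (iv F169300)
def n39216 : Q := act 6 n37974
theorem D39216 : act 6 n37974 = n39216 := rfl
theorem F181279 : act 0 n39216 = n38820 := d5_1 D39216 (iv F181101) F181097
theorem F181280 : act 1 n39216 = n38159 := d13_1 D39216 (iv D38159) (iv F175717)
theorem F181281 : act 2 n39216 = n38087 := d20_1 D39216 (iv F181252) F181251
theorem F181282 : act 3 n39216 = n38340 := d26_1 D39216 (iv D38340) (iv F175718)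
theorem F181283 : act 5 n39216 = n37976 := d35_1 D39216 (iv D37976) (iv D36561) (iv F169301) D37974
theorem F181284 : act 9 n38475 = n39216 := d38_0 F181283 F175730 (iv F178383)
def n39217 : Q := act 9 n37974
theorem D39217 : act 9 n37974 = n39217 := rfl
theorem F181285 : act 0 n39217 = n38649 := d8_1 D39217 (iv F181103) F181097
theorem F181286 : act 1 n39217 = n38160 := d16_1 D39217 (iv D38160) (iv F175717)
theorem F181287 : act 3 n39217 = n38341 := d29_1 D39217 (iv D38341) (iv F175718)
theorem F181288 : act 5 n39217 = n37975 := d38_1 D39217 (iv D37975) D37974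
theorem F181289 : act 6 n39217 = n38475 := d41_1 D39217 F181284 (iv D39216)
def n39218 : Q := act 7 n37976
theorem D39218 : act 7 n37976 = n39218 := rfl
theorem F181290 : act 0 n39218 = n38745 := d6_1 D39218 F179441 (iv F175724)
theorem F181291 : act 1 n39218 = n38161 := d14_1 D39218 (iv D38161) (iv F175725)
theorem F181292 : act 2 n39218 = n38011 := d21_1 D39218 F175958 (iv F175726)
theorem F181293 : act 3 n39218 = n38342 := d27_1 D39218 (iv D38342) (iv F175727)
theorem F181294 : act 4 n39218 = n37986 := d32_1 D39218 (iv D37986) (iv F175728)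
theorem F181295 : act 6 n39218 = n37977 := d39_1 D39218 (iv D37977) (iv D36563) (iv F169307) D37976
theorem F181296 : act 8 n39218 = n38009 := d42_2 (iv F175729) D39218 F175944
theorem F181297 : act 9 n39218 = n38408 := d43_2 (iv F175730) D39218 F178125
def n39219 : Q := act 3 n37978
theorem D39219 : act 3 n37978 = n39219 := rfl
theorem F181298 : act 0 n39219 = n38500 := d2_1 D39219 (iv F181107) F181104
theorem F181299 : act 1 n39219 = n38165 := d10_1 D39219 (iv D38165) (iv F175738)
theorem F181300 : act 4 n39219 = n37980 := d24_2 D37978 D39219 (iv D37980) (iv D36566) (iv F169324)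
theorem F181301 : act 6 n39219 = n37987 := d26_2 (iv F175739) D39219 (iv D37987)
theorem F181302 : act 8 n39219 = n38953 := d28_2 (iv F175740) D39219 (iv D38953)
theorem F181303 : act 9 n38182 = n39219 := d41_0 F181301 (iv F175798) D38182
def n39220 : Q := act 9 n37978
theorem D39220 : act 9 n37978 = n39220 := rfl
theorem F181304 : act 0 n39220 = n38710 := d8_1 D39220 (iv F181111) F181104
theorem F181305 : act 1 n39220 = n38166 := d16_1 D39220 (iv D38166) (iv F175738)
theorem F181306 : act 3 n39220 = n38182 := d29_1 D39220 F181303 (iv D39219)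
theorem F181307 : act 4 n39220 = n37979 := d34_1 D39220 (iv D37979) D37978
theorem F181308 : act 6 n39220 = n37988 := d41_1 D39220 (iv D37988) (iv F175739)
def n39221 : Q := act 8 n37979
theorem D39221 : act 8 n37979 = n39221 := rfl
theorem F181309 : act 0 n39221 = n38711 := d7_1 D39221 (iv D38711) (iv F175741)
theorem F181310 : act 1 n39221 = n38167 := d15_1 D39221 (iv D38167) (iv F175742)
theorem F181311 : act 3 n39221 = n37981 := d28_1 D39221 (iv D37981) (iv F175743)
theorem F181312 : act 6 n39221 = n37989 := d40_1 D39221 (iv D37989) (iv F175745)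
theorem F181313 : act 9 n39221 = n38955 := d44_2 D37979 D39221 (iv D38955) (iv D37689) (iv F169326)
def n39222 : Q := act 2 n37980
theorem D39222 : act 2 n37980 = n39222 := rfl
theorem F181314 : act 0 n39222 = n38497 := d1_1 D39222 F178501 (iv F175746)
theorem F181315 : act 1 n39222 = n38943 := d9_1 D39222 F180045 (iv F176447) F176448 (iv F175747)
theorem F181316 : act 3 n39222 = n39222 := d17_2 D37980 D39222 (iv D39222) (iv D37980) F169333
theorem F181317 : act 5 n39222 = n38177 := d19_2 (iv F175748) D39222 F176903
theorem F181318 : act 6 n39222 = n37990 := d20_2 (iv F175749) D39222 (iv D37990)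
theorem F181319 : act 8 n39222 = n38956 := d22_2 (iv F175750) D39222 (iv D38956)
theorem F181320 : act 9 n39222 = n38175 := d23_2 (iv F175751) D39222 F176891
def n39223 : Q := act 3 n37982
theorem D39223 : act 3 n37982 = n39223 := rfl
theorem F181321 : act 0 n39223 = n38883 := d2_1 D39223 (iv D38883) (iv F175758)
theorem F181322 : act 1 n39223 = n39047 := d10_1 D39223 (iv D39047) (iv F175759)
theorem F181323 : act 4 n39223 = n39223 := d24_2 D37982 D39223 (iv D39223) (iv D37982) F169347
theorem F181324 : act 5 n39223 = n38168 := d25_2 (iv F175761) D39223 (iv D38168)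
theorem F181325 : act 7 n39223 = n39223 := d27_2 F175762 D39223 (iv D39223)
theorem F181326 : act 8 n39223 = n39044 := d28_2 (iv F175763) D39223 (iv D39044)
def n39224 : Q := act 9 n37982
theorem D39224 : act 9 n37982 = n39224 := rfl
theorem F181327 : act 0 n39224 = n38717 := d8_1 D39224 F179305 (iv F175758)
theorem F181328 : act 1 n39224 = n39049 := d16_1 D39224 (iv D39049) (iv F175759)
theorem F181329 : act 2 n39224 = n37988 := d23_1 D39224 (iv D37988) (iv F175760)
theorem F181330 : act 4 n39224 = n37983 := d34_1 D39224 (iv D37983) D37982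
theorem F181331 : act 5 n39224 = n38169 := d38_1 D39224 (iv D38169) (iv F175761)
theorem F181332 : act 7 n39224 = n39224 := d43_1 D39224 (iv D39224) F175762
def n39225 : Q := act 8 n37983
theorem D39225 : act 8 n37983 = n39225 := rfl
theorem F181333 : act 0 n39225 = n38718 := d7_1 D39225 (iv D38718) (iv F175764)
theorem F181334 : act 1 n39225 = n39052 := d15_1 D39225 (iv D39052) (iv F175765)
theorem F181335 : act 2 n39225 = n37989 := d22_1 D39225 (iv D37989) (iv F175766)
theorem F181336 : act 3 n39225 = n39225 := d28_1 D39225 (iv D39225) F175767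
theorem F181337 : act 5 n39225 = n39225 := d37_1 D39225 (iv D39225) F175768 F169357 (iv F175768)
theorem F181338 : act 7 n39225 = n39225 := d42_1 D39225 (iv D39225) F175769
theorem F181339 : act 9 n39225 = n39046 := d44_2 D37983 D39225 (iv D39046) (iv D37790) (iv F169349)
def n39226 : Q := act 6 n37984
theorem D39226 : act 6 n37984 = n39226 := rfl
theorem F181340 : act 0 n39226 = n38821 := d5_1 D39226 F179719 (iv F175770)
theorem F181341 : act 1 n39226 = n38182 := d13_1 D39226 (iv D38182) (iv F175771)
theorem F181342 : act 2 n39226 = n38089 := d20_1 D39226 F176444 (iv F175772)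
theorem F181343 : act 3 n39226 = n38166 := d26_1 D39226 F176842 (iv F175773)
theorem F181344 : act 4 n39226 = n37985 := d31_1 D39226 (iv D37985) D37984
theorem F181345 : act 8 n39226 = n38154 := d40_2 (iv F175776) D39226 F176798
theorem F181346 : act 9 n39226 = n38165 := d41_2 (iv F175777) D39226 F176839
def n39227 : Q := act 7 n37985
theorem D39227 : act 7 n37985 = n39227 := rfl
theorem F181347 : act 0 n39227 = n38747 := d6_1 D39227 F179454 (iv F175778)
theorem F181348 : act 1 n39227 = n38183 := d14_1 D39227 (iv D38183) (iv F175779)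
theorem F181349 : act 2 n39227 = n38013 := d21_1 D39227 F175971 (iv F175780)
theorem F181350 : act 3 n39227 = n37991 := d27_1 D39227 (iv D37991) (iv F175781)
theorem F181351 : act 5 n39227 = n37986 := d36_1 D39227 (iv D37986) (iv F175782)
theorem F181352 : act 6 n39227 = n39227 := d39_1 D39227 (iv D39227) (iv D37985) F169362 D37985
theorem F181353 : act 8 n39227 = n38059 := d42_2 (iv F175783) D39227 F176273
theorem F181354 : act 9 n39227 = n38071 := d43_2 (iv F175784) D39227 F176331
def n39228 : Q := act 2 n37987
theorem D39228 : act 2 n37987 = n39228 := rfl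
theorem F181355 : act 0 n39228 = n38513 := d1_1 D39228 F178582 (iv F175792)
theorem F181356 : act 1 n39228 = n39045 := d9_1 D39228 F180255 (iv F176852) F176853 (iv F175793)
theorem F181357 : act 4 n39228 = n37990 := d18_2 (iv F175794) D39228 (iv D37990)
theorem F181358 : act 5 n39228 = n38181 := d19_2 (iv F175795) D39228 F176925
theorem F181359 : act 7 n39228 = n39228 := d21_2 F175796 D39228 (iv D39228)
theorem F181360 : act 8 n39228 = n39055 := d22_2 (iv F175797) D39228 (iv D39055)
theorem F181361 : act 9 n39228 = n38174 := d23_2 F175798 D39228 F176885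
def n39229 : Q := act 8 n37988
theorem D39229 : act 8 n37988 = n39229 := rfl
theorem F181362 : act 0 n39229 = n38719 := d7_1 D39229 (iv D38719) (iv F175799)
theorem F181363 : act 1 n39229 = n38180 := d15_1 D39229 F176923 (iv F175800)
theorem F181364 : act 3 n39229 = n38172 := d28_1 D39229 F176875 (iv F175801)
theorem F181365 : act 4 n39229 = n37989 := d33_1 D39229 (iv D37989) (iv F175802)
theorem F181366 : act 5 n39229 = n39044 := d37_1 D39229 (iv F181326) F181324 F176850 (iv F175803)
theorem F181367 : act 7 n39229 = n39229 := d42_1 D39229 (iv D39229) F175804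
theorem F181368 : act 9 n39229 = n39057 := d44_2 D37988 D39229 (iv D39057) (iv D37799) (iv F169380)
def n39230 : Q := act 6 n37992
theorem D39230 : act 6 n37992 = n39230 := rfl
theorem F181369 : act 0 n39230 = n38772 := d5_1 D39230 (iv D38772) (iv F175826)
theorem F181370 : act 1 n39230 = n39022 := d13_1 D39230 F180207 (iv F175827)
theorem F181371 : act 2 n39230 = n38349 := d20_1 D39230 (iv D38349) (iv F175828)
theorem F181372 : act 3 n39230 = n37994 := d26_1 D39230 (iv D37994) (iv F175829)
theorem F181373 : act 4 n39230 = n39230 := d31_1 D39230 (iv D39230) F175830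
theorem F181374 : act 7 n39230 = n38310 := d39_2 D37992 D39230 (iv D38310) (iv D36938) (iv F169426)
theorem F181375 : act 9 n39230 = n38278 := d41_2 (iv F175832) D39230 (iv D38278)
def n39231 : Q := act 8 n37992
theorem D39231 : act 8 n37992 = n39231 := rfl
theorem F181376 : act 0 n39231 = n38773 := d7_1 D39231 (iv D38773) (iv F175826)
theorem F181377 : act 1 n39231 = n38657 := d15_1 D39231 F179129 (iv F175827)
theorem F181378 : act 2 n39231 = n38350 := d22_1 D39231 (iv D38350) (iv F175828)
theorem F181379 : act 3 n39231 = n37995 := d28_1 D39231 (iv D37995) (iv F175829)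
theorem F181380 : act 4 n39231 = n39231 := d33_1 D39231 (iv D39231) F175830
theorem F181381 : act 7 n39231 = n37993 := d42_1 D39231 (iv D37993) D37992
theorem F181382 : act 9 n39231 = n38623 := d44_2 (iv F175832) D39231 F179028 F177547 (iv D38279)
theorem F181383 : act 5 n38952 = n39231 := d38_3 F181382 F179027 D38952
def n39232 : Q := act 5 n37994
theorem D39232 : act 5 n37994 = n39232 := rfl
theorem F181384 : act 0 n39232 = n38774 := d4_1 D39232 (iv D38774) (iv F175841)
theorem F181385 : act 1 n39232 = n39025 := d12_1 D39232 F180213 (iv F175842)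
theorem F181386 : act 2 n39232 = n38000 := d19_1 D39232 (iv D38000) (iv F175843)
theorem F181387 : act 4 n39232 = n38589 := d30_1 D39232 (iv D38589) F172965 (iv F169443) (iv F175844)
theorem F181388 : act 6 n39232 = n38053 := d35_2 D37994 D39232 (iv D38053) (iv D36631) (iv F169432)
theorem F181389 : act 7 n39232 = n38312 := d36_2 (iv F175845) D39232 (iv D38312)
theorem F181390 : act 9 n39232 = n38280 := d38_2 (iv F175846) D39232 (iv D38280)
def n39233 : Q := act 8 n37994
theorem D39233 : act 8 n37994 = n39233 := rfl
theorem F181391 : act 0 n39233 = n38775 := d7_1 D39233 (iv D38775) (iv F175841)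
theorem F181392 : act 1 n39233 = n38663 := d15_1 D39233 F179144 (iv F175842)
theorem F181393 : act 2 n39233 = n38001 := d22_1 D39233 (iv D38001) (iv F175843)
theorem F181394 : act 4 n39233 = n37998 := d33_1 D39233 (iv D37998) (iv F175844)
theorem F181395 : act 6 n39233 = n37995 := d40_1 D39233 (iv D37995) D37994
theorem F181396 : act 7 n39233 = n38313 := d42_1 D39233 (iv D38313) (iv F175845)
def n39234 : Q := act 5 n37995
theorem D39234 : act 5 n37995 = n39234 := rfl
theorem F181397 : act 0 n39234 = n38776 := d4_1 D39234 (iv D38776) (iv F175847)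
theorem F181398 : act 1 n39234 = n38639 := d12_1 D39234 F179089 (iv F175848)
theorem F181399 : act 2 n39234 = n38002 := d19_1 D39234 (iv D38002) (iv F175849)
theorem F181400 : act 3 n39234 = n38952 := d25_1 D39234 F181383 F181379
theorem F181401 : act 4 n39234 = n39234 := d30_1 D39234 (iv D39234) F175850 F169450 (iv F175850)
theorem F181402 : act 7 n39234 = n37996 := d36_2 (iv F175851) D39234 (iv D37996)
theorem F181403 : act 8 n39234 = n38055 := d37_2 D37995 D39234 (iv D38055) (iv D36632) (iv F169432)
theorem F181404 : act 9 n38781 = n39234 := d43_0 F181402 (iv F175859) D38781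
def n39235 : Q := act 9 n37995
theorem D39235 : act 9 n37995 = n39235 := rfl
theorem F181405 : act 0 n39235 = n38320 := d8_1 D39235 F177751 (iv F175847)
theorem F181406 : act 1 n39235 = n38665 := d16_1 D39235 (iv D38665) (iv F175848)
theorem F181407 : act 2 n39235 = n38003 := d23_1 D39235 (iv D38003) (iv F175849)
theorem F181408 : act 3 n39235 = n38623 := d29_1 D39235 (iv F181382) F181379
theorem F181409 : act 4 n39235 = n37999 := d34_1 D39235 (iv D37999) (iv F175850)
theorem F181410 : act 5 n39235 = n38781 := d38_1 D39235 F181404 (iv D39234)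
theorem F181411 : act 7 n39235 = n37997 := d43_1 D39235 (iv D37997) (iv F175851)
theorem F181412 : act 8 n39235 = n38283 := d44_1 D39235 (iv D38283) (iv D36903) (iv F169433) D37995
def n39236 : Q := act 5 n37998
theorem D39236 : act 5 n37998 = n39236 := rfl
theorem F181413 : act 0 n39236 = n38777 := d4_1 D39236 (iv D38777) (iv F175868)
theorem F181414 : act 1 n39236 = n38686 := d12_1 D39236 F179201 (iv F175869)
theorem F181415 : act 2 n39236 = n38006 := d19_1 D39236 (iv D38006) (iv F175870)
theorem F181416 : act 3 n39236 = n39236 := d25_1 D39236 (iv D39236) F175871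
theorem F181417 : act 6 n39236 = n39236 := d35_2 (iv F175872) D39236 (iv D39236) F175872 F169450
theorem F181418 : act 7 n39236 = n38314 := d36_2 (iv F175873) D39236 (iv D38314)
theorem F181419 : act 8 n39236 = n38532 := d37_2 D37998 D39236 F178683 F172601 (iv F169443)
def n39237 : Q := act 9 n37998
theorem D39237 : act 9 n37998 = n39237 := rfl
theorem F181420 : act 0 n39237 = n38524 := d8_1 D39237 F178645 (iv F175868)
theorem F181421 : act 1 n39237 = n38688 := d16_1 D39237 (iv D38688) (iv F175869)
theorem F181422 : act 2 n39237 = n38007 := d23_1 D39237 (iv D38007) (iv F175870)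
theorem F181423 : act 3 n39237 = n39237 := d29_1 D39237 (iv D39237) F175871
theorem F181424 : act 6 n39237 = n37999 := d41_1 D39237 (iv D37999) (iv F175872)
theorem F181425 : act 7 n39237 = n38315 := d43_1 D39237 (iv D38315) (iv F175873)
theorem F181426 : act 8 n39237 = n38284 := d44_1 D39237 (iv D38284) (iv D36906) (iv F169445) D37998
def n39238 : Q := act 8 n38000
theorem D39238 : act 8 n38000 = n39238 := rfl
theorem F181427 : act 0 n39238 = n38778 := d7_1 D39238 (iv D38778) (iv F175881)
theorem F181428 : act 1 n39238 = n38378 := d15_1 D39238 (iv D38378) (iv F175882)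
theorem F181429 : act 3 n39238 = n38356 := d28_1 D39238 (iv D38356) (iv F175883)
theorem F181430 : act 4 n39238 = n38590 := d33_1 D39238 (iv D38590) (iv F175884)
theorem F181431 : act 6 n39238 = n38061 := d40_1 D39238 (iv D38061) (iv F175885)
theorem F181432 : act 7 n39238 = n38316 := d42_1 D39238 (iv D38316) (iv F175886)
def n39239 : Q := act 5 n38001
theorem D39239 : act 5 n38001 = n39239 := rfl
theorem F181433 : act 0 n39239 = n38779 := d4_1 D39239 (iv D38779) (iv F175888)
theorem F181434 : act 1 n39239 = n38379 := d12_1 D39239 (iv D38379) (iv F175889)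
theorem F181435 : act 3 n39239 = n38357 := d25_1 D39239 (iv D38357) (iv F175890)
theorem F181436 : act 7 n39239 = n38317 := d36_2 (iv F175893) D39239 (iv D38317)
def n39240 : Q := act 9 n38001
theorem D39240 : act 9 n38001 = n39240 := rfl
theorem F181437 : act 0 n39240 = n38632 := d8_1 D39240 F179067 (iv F175888)
theorem F181438 : act 1 n39240 = n38380 := d16_1 D39240 (iv D38380) (iv F175889)
theorem F181439 : act 3 n39240 = n38358 := d29_1 D39240 (iv D38358) (iv F175890)
theorem F181440 : act 4 n39240 = n38007 := d34_1 D39240 (iv D38007) (iv F175891)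
theorem F181441 : act 6 n39240 = n38003 := d41_1 D39240 (iv D38003) (iv F175892)
theorem F181442 : act 7 n39240 = n38318 := d43_1 D39240 (iv D38318) (iv F175893)
theorem F181443 : act 8 n39240 = n38287 := d44_1 D39240 (iv D38287) (iv D36909) (iv F169464) D38001
def n39241 : Q := act 6 n38002
theorem D39241 : act 6 n38002 = n39241 := rfl
theorem F181444 : act 0 n39241 = n38780 := d5_1 D39241 (iv D38780) (iv F175894)
theorem F181445 : act 1 n39241 = n38381 := d13_1 D39241 (iv D38381) (iv F175895)
theorem F181446 : act 3 n39241 = n38359 := d26_1 D39241 (iv D38359) (iv F175896)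
theorem F181447 : act 4 n39241 = n39241 := d31_1 D39241 (iv D39241) F175897
theorem F181448 : act 8 n39241 = n38064 := d40_2 (iv F175899) D39241 (iv D38064)
def n39242 : Q := act 9 n38002
theorem D39242 : act 9 n38002 = n39242 := rfl
theorem F181449 : act 0 n39242 = n38633 := d8_1 D39242 F179072 (iv F175894)
theorem F181450 : act 1 n39242 = n38382 := d16_1 D39242 (iv D38382) (iv F175895)
theorem F181451 : act 2 n39242 = n38781 := d23_1 D39242 F181404 F181399
theorem F181452 : act 3 n39242 = n38360 := d29_1 D39242 (iv D38360) (iv F175896)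
theorem F181453 : act 4 n39242 = n39242 := d34_1 D39242 (iv D39242) F175897
theorem F181454 : act 5 n39242 = n38003 := d38_1 D39242 (iv D38003) D38002
theorem F181455 : act 7 n39242 = n38005 := d43_1 D39242 (iv D38005) (iv F175898)
theorem F181456 : act 8 n38796 = n39242 := d42_0 F181455 (iv F175921) D38796
def n39243 : Q := act 7 n38004
theorem D39243 : act 7 n38004 = n39243 := rfl
theorem F181457 : act 0 n39243 = n38781 := d6_1 D39243 (iv D38781) (iv F175906)
theorem F181458 : act 1 n39243 = n38383 := d14_1 D39243 (iv D38383) (iv F175907)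
theorem F181459 : act 2 n39243 = n38633 := d21_1 D39243 F179071 (iv F175908)
theorem F181460 : act 3 n39243 = n38361 := d27_1 D39243 (iv D38361) (iv F175909)
theorem F181461 : act 4 n39243 = n39243 := d32_1 D39243 (iv D39243) F175910
theorem F181462 : act 5 n39243 = n38320 := d36_1 D39243 (iv D38320) (iv F175911)
theorem F181463 : act 8 n39243 = n38066 := d42_2 (iv F175912) D39243 (iv D38066)
theorem F181464 : act 9 n39243 = n38776 := d43_2 F175913 D39243 F179560
def n39244 : Q := act 4 n38006
theorem D39244 : act 4 n38006 = n39244 := rfl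
theorem F181465 : act 0 n39244 = n38782 := d3_1 D39244 (iv D38782) (iv F175922)
theorem F181466 : act 1 n39244 = n38384 := d11_1 D39244 (iv D38384) (iv F175923)
theorem F181467 : act 6 n39244 = n39244 := d31_2 F175925 D39244 (iv D39244)
theorem F181468 : act 7 n39244 = n38321 := d32_2 (iv F175926) D39244 (iv D38321)
theorem F181469 : act 8 n39244 = n38594 := d33_2 (iv F175927) D39244 (iv D38594)
def n39245 : Q := act 3 n38008
theorem D39245 : act 3 n38008 = n39245 := rfl
theorem F181470 : act 0 n39245 = n38783 := d2_1 D39245 (iv D38783) (iv F175934)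
theorem F181471 : act 1 n39245 = n38386 := d10_1 D39245 (iv D38386) (iv F175935)
theorem F181472 : act 5 n39245 = n38364 := d25_2 (iv F175937) D39245 (iv D38364)
theorem F181473 : act 6 n39245 = n39245 := d26_2 F175938 D39245 (iv D39245)
theorem F181474 : act 7 n39245 = n38322 := d27_2 (iv F175939) D39245 (iv D38322)
theorem F181475 : act 8 n39245 = n38501 := d28_2 (iv F175940) D39245 F178519
def n39246 : Q := act 5 n38009
theorem D39246 : act 5 n38009 = n39246 := rfl
theorem F181476 : act 0 n39246 = n38744 := d4_1 D39246 (iv D38744) (iv F175941)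
theorem F181477 : act 2 n39246 = n38010 := d19_1 D39246 (iv D38010) (iv F175942)
theorem F181478 : act 4 n39246 = n38053 := d30_1 D39246 (iv D38053) F169724 (iv F169522) (iv F175943)
theorem F181479 : act 6 n39246 = n38589 := d35_2 D38009 D39246 (iv D38589) (iv D37280) (iv F169517)
theorem F181480 : act 7 n39246 = n38085 := d36_2 (iv F175944) D39246 (iv D38085)
theorem F181481 : act 9 n39246 = n38722 := d38_2 (iv F175945) D39246 (iv D38722)
def n39247 : Q := act 8 n38010
theorem D39247 : act 8 n38010 = n39247 := rfl
theorem F181482 : act 0 n39247 = n38748 := d7_1 D39247 (iv D38748) (iv F175946)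
theorem F181483 : act 1 n39247 = n38619 := d15_1 D39247 (iv D38619) (iv F175947)
theorem F181484 : act 3 n39247 = n38905 := d28_1 D39247 (iv D38905) (iv F175948)
theorem F181485 : act 4 n39247 = n38061 := d33_1 D39247 (iv D38061) (iv F175949)
theorem F181486 : act 6 n39247 = n38590 := d40_1 D39247 (iv D38590) (iv F175950)
theorem F181487 : act 7 n39247 = n38086 := d42_1 D39247 (iv D38086) (iv F175951)
def n39248 : Q := act 5 n38011
theorem D39248 : act 5 n38011 = n39248 := rfl
theorem F181488 : act 0 n39248 = n38749 := d4_1 D39248 (iv D38749) (iv F175953)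
theorem F181489 : act 1 n39248 = n38620 := d12_1 D39248 (iv D38620) (iv F175954)
theorem F181490 : act 3 n39248 = n38662 := d25_1 D39248 F179140 (iv F175955)
theorem F181491 : act 7 n39248 = n38087 := d36_2 (iv F175958) D39248 (iv D38087)
theorem F181492 : act 9 n39248 = n38655 := d38_2 (iv F175959) D39248 (iv D38655)
def n39249 : Q := act 6 n38012
theorem D39249 : act 6 n38012 = n39249 := rfl
theorem F181493 : act 0 n39249 = n38750 := d5_1 D39249 (iv D38750) (iv F175960)
theorem F181494 : act 1 n39249 = n38622 := d13_1 D39249 (iv D38622) (iv F175961)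
theorem F181495 : act 3 n39249 = n38664 := d26_1 D39249 F179148 (iv F175962)
theorem F181496 : act 4 n39249 = n39249 := d31_1 D39249 (iv D39249) F175963
theorem F181497 : act 8 n39249 = n38593 := d40_2 (iv F175965) D39249 (iv D38593)
theorem F181498 : act 9 n39249 = n38656 := d41_2 (iv F175966) D39249 (iv D38656)
def n39250 : Q := act 4 n38013
theorem D39250 : act 4 n38013 = n39250 := rfl
theorem F181499 : act 0 n39250 = n38752 := d3_1 D39250 (iv D38752) (iv F175967)
theorem F181500 : act 1 n39250 = n38624 := d11_1 D39250 (iv D38624) (iv F175968)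
theorem F181501 : act 6 n39250 = n39250 := d31_2 F175970 D39250 (iv D39250)
theorem F181502 : act 7 n39250 = n38089 := d32_2 (iv F175971) D39250 (iv D38089)
theorem F181503 : act 8 n39250 = n38069 := d33_2 (iv F175972) D39250 (iv D38069)
theorem F181504 : act 9 n39250 = n38715 := d34_2 (iv F175973) D39250 (iv D38715)
def n39251 : Q := act 3 n38014
theorem D39251 : act 3 n38014 = n39251 := rfl
theorem F181505 : act 0 n39251 = n38753 := d2_1 D39251 (iv D38753) (iv F175974)
theorem F181506 : act 1 n39251 = n38626 := d10_1 D39251 (iv D38626) (iv F175975)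
theorem F181507 : act 2 n39251 = n38713 := d17_1 D39251 F179293 F173374 F170410 (iv F175976)
theorem F181508 : act 5 n39251 = n38577 := d25_2 (iv F175977) D39251 F178873
theorem F181509 : act 6 n39251 = n39251 := d26_2 F175978 D39251 (iv D39251)
theorem F181510 : act 7 n39251 = n38091 := d27_2 (iv F175979) D39251 (iv D38091)
theorem F181511 : act 8 n39251 = n38071 := d28_2 (iv F175980) D39251 (iv D38071)
theorem F181512 : act 9 n39251 = n38716 := d29_2 (iv F175981) D39251 (iv D38716)
def n39252 : Q := act 7 n38015
theorem D39252 : act 7 n38015 = n39252 := rfl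
theorem F181513 : act 0 n39252 = n38018 := d6_1 D39252 (iv D38018) (iv F175982)
theorem F181514 : act 1 n39252 = n38104 := d14_1 D39252 F176535 (iv F175983)
theorem F181515 : act 2 n39252 = n38343 := d21_1 D39252 (iv D38343) (iv F175984)
theorem F181516 : act 3 n39252 = n38099 := d27_1 D39252 F176505 (iv F175985)
theorem F181517 : act 4 n39252 = n38016 := d32_1 D39252 (iv D38016) D38015
theorem F181518 : act 5 n39252 = n38270 := d36_1 D39252 (iv D38270) (iv F175986)
theorem F181519 : act 8 n39252 = n38097 := d42_2 (iv F175988) D39252 (iv D38097)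
theorem F181520 : act 9 n39252 = n38037 := d43_2 (iv F175989) D39252 (iv D38037)
def n39253 : Q := act 6 n38016
theorem D39253 : act 6 n38016 = n39253 := rfl
theorem F181521 : act 0 n39253 = n38020 := d5_1 D39253 (iv D38020) (iv F175990)
theorem F181522 : act 1 n39253 = n38209 := d13_1 D39253 F177102 (iv F175991)
theorem F181523 : act 2 n39253 = n38344 := d20_1 D39253 (iv D38344) (iv F175992)
theorem F181524 : act 3 n39253 = n38189 := d26_1 D39253 (iv D38189) (iv F175993)
theorem F181525 : act 5 n39253 = n38537 := d35_1 D39253 (iv D38537) (iv D37211) (iv F169568) (iv F175994)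
theorem F181526 : act 7 n39253 = n38095 := d39_2 D38016 D39253 (iv D38095) (iv D36671) (iv F169560)
theorem F181527 : act 8 n39253 = n38206 := d40_2 (iv F175995) D39253 (iv D38206)
theorem F181528 : act 9 n39253 = n38039 := d41_2 (iv F175996) D39253 (iv D38039)
def n39254 : Q := act 7 n38017
theorem D39254 : act 7 n38017 = n39254 := rfl
theorem F181529 : act 0 n39254 = n38099 := d6_1 D39254 F176505 (iv F175997)
theorem F181530 : act 1 n39254 = n38022 := d14_1 D39254 (iv D38022) (iv F175998)
theorem F181531 : act 2 n39254 = n38407 := d21_1 D39254 F178120 F176003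
theorem F181532 : act 3 n39254 = n38018 := d27_1 D39254 (iv D38018) D38017
theorem F181533 : act 4 n39254 = n38096 := d32_1 D39254 F176490 (iv F175999)
theorem F181534 : act 5 n39254 = n38273 := d36_1 D39254 (iv D38273) (iv F176000)
theorem F181535 : act 8 n39254 = n38094 := d42_2 F176004 D39254 (iv D38094)
theorem F181536 : act 9 n39254 = n38042 := d43_2 (iv F176002) D39254 (iv D38042)
def n39255 : Q := act 6 n38018
theorem D39255 : act 6 n38018 = n39255 := rfl
theorem F181537 : act 1 n39255 = n38023 := d13_1 D39255 (iv D38023) (iv F176005)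
theorem F181538 : act 2 n39255 = n38346 := d20_1 D39255 (iv D38346) (iv F176006)
theorem F181539 : act 4 n39255 = n38020 := d31_1 D39255 (iv D38020) (iv F176007)
theorem F181540 : act 7 n39255 = n38098 := d39_2 D38018 D39255 (iv D38098) (iv D36674) (iv F169574)
theorem F181541 : act 9 n39255 = n38044 := d41_2 (iv F176009) D39255 (iv D38044)
def n39256 : Q := act 8 n38018
theorem D39256 : act 8 n38018 = n39256 := rfl
theorem F181542 : act 0 n39256 = n38097 := d7_1 D39256 (iv F181519) F181513
theorem F181543 : act 1 n39256 = n38024 := d15_1 D39256 (iv D38024) (iv F176005)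
theorem F181544 : act 2 n39256 = n38347 := d22_1 D39256 (iv D38347) (iv F176006)
theorem F181545 : act 3 n39256 = n38094 := d28_1 D39256 (iv F181535) F181532
theorem F181546 : act 4 n39256 = n38021 := d33_1 D39256 (iv D38021) (iv F176007)
theorem F181547 : act 5 n39256 = n38396 := d37_1 D39256 F178084 F177532 (iv D38276) (iv F176008)
theorem F181548 : act 7 n39256 = n38019 := d42_1 D39256 (iv D38019) D38018
theorem F181549 : act 9 n38126 = n39256 := d43_0 F181548 (iv F176017) D38126
def n39257 : Q := act 8 n38020
theorem D39257 : act 8 n38020 = n39257 := rfl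
theorem F181550 : act 0 n39257 = n38206 := d7_1 D39257 (iv F181527) F181521
theorem F181551 : act 1 n39257 = n38026 := d15_1 D39257 (iv D38026) (iv F176018)
theorem F181552 : act 2 n39257 = n38348 := d22_1 D39257 (iv D38348) (iv F176019)
theorem F181553 : act 3 n39257 = n38191 := d28_1 D39257 (iv D38191) (iv F176020)
theorem F181554 : act 6 n39257 = n38021 := d40_1 D39257 (iv D38021) D38020
theorem F181555 : act 7 n39257 = n38101 := d42_1 D39257 (iv D38101) (iv F176022)
theorem F181556 : act 5 n38702 = n39257 := d35_5 F181554 F176028 (iv F170814) (iv F173322) (iv F179257)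
theorem F181557 : act 9 n38213 = n39257 := d41_0 F181554 (iv F176030) D38213
def n39258 : Q := act 6 n38022
theorem D39258 : act 6 n38022 = n39258 := rfl
theorem F181558 : act 0 n39258 = n38731 := d5_1 D39258 (iv D38731) (iv F176031)
theorem F181559 : act 2 n39258 = n38370 := d20_1 D39258 (iv D38370) (iv F176032)
theorem F181560 : act 3 n39258 = n38023 := d26_1 D39258 (iv D38023) (iv F176033)
theorem F181561 : act 4 n39258 = n38192 := d31_1 D39258 (iv D38192) (iv F176034)
theorem F181562 : act 7 n39258 = n38103 := d39_2 D38022 D39258 (iv D38103) (iv D36679) (iv F169592)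
theorem F181563 : act 8 n39258 = n38832 := d40_2 (iv F176036) D39258 (iv D38832)
theorem F181564 : act 9 n39258 = n38050 := d41_2 (iv F176037) D39258 (iv D38050)
def n39259 : Q := act 5 n38023
theorem D39259 : act 5 n38023 = n39259 := rfl
theorem F181565 : act 0 n39259 = n38732 := d4_1 D39259 (iv D38732) (iv F176038)
theorem F181566 : act 2 n39259 = n38027 := d19_1 D39259 (iv D38027) (iv F176039)
theorem F181567 : act 4 n39259 = n38722 := d30_1 D39259 (iv D38722) F173411 (iv F169609) (iv F176040)
theorem F181568 : act 6 n39259 = n38280 := d35_2 D38023 D39259 (iv D38280) (iv D36902) (iv F169598)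
theorem F181569 : act 7 n39259 = n38105 := d36_2 (iv F176041) D39259 (iv D38105)
theorem F181570 : act 9 n39259 = n38053 := d38_2 (iv F176042) D39259 (iv D38053)
def n39260 : Q := act 8 n38023
theorem D39260 : act 8 n38023 = n39260 := rfl
theorem F181571 : act 0 n39260 = n38733 := d7_1 D39260 (iv D38733) (iv F176038)
theorem F181572 : act 2 n39260 = n38028 := d22_1 D39260 (iv D38028) (iv F176039)
theorem F181573 : act 3 n39260 = n38832 := d28_1 D39260 (iv F181563) F181560
theorem F181574 : act 4 n39260 = n38026 := d33_1 D39260 (iv D38026) (iv F176040)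
theorem F181575 : act 6 n39260 = n38024 := d40_1 D39260 (iv D38024) D38023
theorem F181576 : act 7 n39260 = n38106 := d42_1 D39260 (iv D38106) (iv F176041)
theorem F181577 : act 9 n38854 = n39260 := d41_0 F181575 (iv F176048) D38854
def n39261 : Q := act 5 n38024
theorem D39261 : act 5 n38024 = n39261 := rfl
theorem F181578 : act 0 n39261 = n38409 := d4_1 D39261 F178131 (iv F176043)
theorem F181579 : act 1 n39261 = n38396 := d12_1 D39261 (iv F181547) F181543
theorem F181580 : act 2 n39261 = n38029 := d19_1 D39261 (iv D38029) (iv F176044)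
theorem F181581 : act 3 n39261 = n38392 := d25_1 D39261 F178061 (iv F176045)
theorem F181582 : act 4 n39261 = n38485 := d30_1 D39261 F178434 F172437 (iv F169615) (iv F176046)
theorem F181583 : act 7 n39261 = n38025 := d36_2 (iv F176047) D39261 (iv D38025)
theorem F181584 : act 8 n39261 = n38282 := d37_2 D38024 D39261 (iv D38282) (iv D36903) (iv F169598)
theorem F181585 : act 9 n39261 = n38389 := d38_2 F176048 D39261 (iv F178049)
def n39262 : Q := act 5 n38026
theorem D39262 : act 5 n38026 = n39262 := rfl
theorem F181586 : act 0 n39262 = n38734 := d4_1 D39262 (iv D38734) (iv F176057)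
theorem F181587 : act 1 n39262 = n38702 := d12_1 D39262 F181556 F181551
theorem F181588 : act 2 n39262 = n38033 := d19_1 D39262 (iv D38033) (iv F176058)
theorem F181589 : act 3 n39262 = n38194 := d25_1 D39262 (iv D38194) (iv F176059)
theorem F181590 : act 6 n39262 = n38509 := d35_2 (iv F176060) D39262 F178560 F172648 (iv F169615)
theorem F181591 : act 7 n39262 = n38111 := d36_2 (iv F176061) D39262 (iv D38111)
theorem F181592 : act 8 n39262 = n38491 := d37_2 D38026 D39262 (iv D38491) F172317 (iv F169609)
theorem F181593 : act 9 n39262 = n38496 := d38_2 F176062 D39262 F178498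
def n39263 : Q := act 8 n38027
theorem D39263 : act 8 n38027 = n39263 := rfl
theorem F181594 : act 0 n39263 = n38735 := d7_1 D39263 (iv D38735) (iv F176063)
theorem F181595 : act 1 n39263 = n38356 := d15_1 D39263 (iv D38356) (iv F176064)
theorem F181596 : act 3 n39263 = n38378 := d28_1 D39263 (iv D38378) (iv F176065)
theorem F181597 : act 4 n39263 = n38723 := d33_1 D39263 (iv D38723) (iv F176066)
theorem F181598 : act 6 n39263 = n38285 := d40_1 D39263 (iv D38285) (iv F176067)
theorem F181599 : act 7 n39263 = n38113 := d42_1 D39263 (iv D38113) (iv F176068)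
def n39264 : Q := act 5 n38028
theorem D39264 : act 5 n38028 = n39264 := rfl
theorem F181600 : act 0 n39264 = n38736 := d4_1 D39264 (iv D38736) (iv F176070)
theorem F181601 : act 1 n39264 = n38357 := d12_1 D39264 (iv D38357) (iv F176071)
theorem F181602 : act 3 n39264 = n38379 := d25_1 D39264 (iv D38379) (iv F176072)
theorem F181603 : act 7 n39264 = n38114 := d36_2 (iv F176075) D39264 (iv D38114)
def n39265 : Q := act 9 n38028
theorem D39265 : act 9 n38028 = n39265 := rfl
theorem F181604 : act 0 n39265 = n38737 := d8_1 D39265 (iv D38737) (iv F176070)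
theorem F181605 : act 1 n39265 = n38358 := d16_1 D39265 (iv D38358) (iv F176071)
theorem F181606 : act 2 n39265 = n38854 := d23_1 D39265 F181577 F181572
theorem F181607 : act 3 n39265 = n38380 := d29_1 D39265 (iv D38380) (iv F176072)
theorem F181608 : act 4 n39265 = n38034 := d34_1 D39265 (iv D38034) (iv F176073)
theorem F181609 : act 6 n39265 = n38030 := d41_1 D39265 (iv D38030) (iv F176074)
theorem F181610 : act 7 n39265 = n38115 := d43_1 D39265 (iv D38115) (iv F176075)
theorem F181611 : act 8 n39265 = n38063 := d44_1 D39265 (iv D38063) (iv D36638) (iv F169623) D38028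
def n39266 : Q := act 6 n38029
theorem D39266 : act 6 n38029 = n39266 := rfl
theorem F181612 : act 0 n39266 = n38738 := d5_1 D39266 (iv D38738) (iv F176076)
theorem F181613 : act 1 n39266 = n38359 := d13_1 D39266 (iv D38359) (iv F176077)
theorem F181614 : act 3 n39266 = n38381 := d26_1 D39266 (iv D38381) (iv F176078)
theorem F181615 : act 4 n39266 = n38536 := d31_1 D39266 (iv D38536) (iv F176079)
theorem F181616 : act 8 n39266 = n38288 := d40_2 (iv F176081) D39266 (iv D38288)
def n39267 : Q := act 9 n38029
theorem D39267 : act 9 n38029 = n39267 := rfl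
theorem F181617 : act 0 n39267 = n38563 := d8_1 D39267 F178835 (iv F176076)
theorem F181618 : act 1 n39267 = n38360 := d16_1 D39267 (iv D38360) (iv F176077)
theorem F181619 : act 2 n39267 = n38389 := d23_1 D39267 (iv F181585) F181580
theorem F181620 : act 3 n39267 = n38382 := d29_1 D39267 (iv D38382) (iv F176078)
theorem F181621 : act 4 n39267 = n38482 := d34_1 D39267 F178417 (iv F176079)
theorem F181622 : act 5 n39267 = n38030 := d38_1 D39267 (iv D38030) D38029
theorem F181623 : act 7 n39267 = n38032 := d43_1 D39267 (iv D38032) (iv F176080)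
theorem F181624 : act 8 n39267 = n38387 := d44_1 D39267 F178038 F177590 (iv D38289) (iv F176081)
def n39268 : Q := act 7 n38031
theorem D39268 : act 7 n38031 = n39268 := rfl
theorem F181625 : act 0 n39268 = n38739 := d6_1 D39268 (iv D38739) (iv F176089)
theorem F181626 : act 1 n39268 = n38361 := d14_1 D39268 (iv D38361) (iv F176090)
theorem F181627 : act 2 n39268 = n38454 := d21_1 D39268 F178321 (iv F176091)
theorem F181628 : act 3 n39268 = n38383 := d27_1 D39268 (iv D38383) (iv F176092)
theorem F181629 : act 4 n39268 = n38499 := d32_1 D39268 F178513 (iv F176093)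
theorem F181630 : act 5 n39268 = n38118 := d36_1 D39268 (iv D38118) (iv F176094)
theorem F181631 : act 8 n39268 = n38290 := d42_2 (iv F176095) D39268 (iv D38290)
theorem F181632 : act 9 n39268 = n38450 := d43_2 F176096 D39268 F178304
def n39269 : Q := act 4 n38033
theorem D39269 : act 4 n38033 = n39269 := rfl
theorem F181633 : act 0 n39269 = n38740 := d3_1 D39269 (iv D38740) (iv F176105)
theorem F181634 : act 1 n39269 = n38362 := d11_1 D39269 (iv D38362) (iv F176106)
theorem F181635 : act 3 n39269 = n38504 := d24_1 D39269 F178533 F172418 F169659 (iv F176107)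
theorem F181636 : act 6 n39269 = n38510 := d31_2 (iv F176108) D39269 F178566
theorem F181637 : act 7 n39269 = n38121 := d32_2 (iv F176109) D39269 (iv D38121)
theorem F181638 : act 8 n39269 = n38492 := d33_2 (iv F176110) D39269 (iv D38492)
def n39270 : Q := act 9 n38033
theorem D39270 : act 9 n38033 = n39270 := rfl
theorem F181639 : act 0 n39270 = n38741 := d8_1 D39270 (iv D38741) (iv F176105)
theorem F181640 : act 1 n39270 = n38363 := d16_1 D39270 (iv D38363) (iv F176106)
theorem F181641 : act 2 n39270 = n38496 := d23_1 D39270 (iv F181593) F181588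
theorem F181642 : act 3 n39270 = n38035 := d29_1 D39270 (iv D38035) (iv F176107)
theorem F181643 : act 5 n39270 = n38034 := d38_1 D39270 (iv D38034) D38033
theorem F181644 : act 6 n39270 = n38511 := d41_1 D39270 (iv D38511) (iv F176108)
theorem F181645 : act 7 n39270 = n38122 := d43_1 D39270 (iv D38122) (iv F176109)
theorem F181646 : act 8 n39270 = n38714 := d44_1 D39270 (iv D38714) (iv D37410) (iv F172331) (iv F176110)
def n39271 : Q := act 7 n38036
theorem D39271 : act 7 n38036 = n39271 := rfl
theorem F181647 : act 0 n39271 = n38042 := d6_1 D39271 (iv D38042) (iv F176126)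
theorem F181648 : act 1 n39271 = n38108 := d14_1 D39271 F176555 (iv F176127)
theorem F181649 : act 2 n39271 = n38951 := d21_1 D39271 F180060 F176132
theorem F181650 : act 3 n39271 = n38037 := d27_1 D39271 (iv D38037) D38036
theorem F181651 : act 4 n39271 = n38102 := d32_1 D39271 F176523 (iv F176128)
theorem F181652 : act 5 n39271 = n38465 := d36_1 D39271 (iv D38465) (iv F176129)
theorem F181653 : act 8 n39271 = n38137 := d42_2 F176133 D39271 F176708
theorem F181654 : act 9 n39271 = n38099 := d43_2 (iv F176131) D39271 F176505
def n39272 : Q := act 6 n38037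
theorem D39272 : act 6 n38037 = n39272 := rfl
theorem F181655 : act 0 n39272 = n38044 := d5_1 D39272 (iv D38044) (iv F176134)
theorem F181656 : act 1 n39272 = n38784 := d13_1 D39272 (iv D38784) (iv F176135)
theorem F181657 : act 2 n39272 = n38405 := d20_1 D39272 F178113 (iv F176136)
theorem F181658 : act 4 n39272 = n38039 := d31_1 D39272 (iv D38039) (iv F176137)
theorem F181659 : act 7 n39272 = n38127 := d39_2 D38037 D39272 (iv D38127) (iv D36698) (iv F169671)
def n39273 : Q := act 8 n38037
theorem D39273 : act 8 n38037 = n39273 := rfl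
theorem F181660 : act 0 n39273 = n38045 := d7_1 D39273 (iv D38045) (iv F176134)
theorem F181661 : act 1 n39273 = n38143 := d15_1 D39273 F176739 (iv F176135)
theorem F181662 : act 2 n39273 = n38361 := d22_1 D39273 F177915 (iv F176136)
theorem F181663 : act 3 n39273 = n38137 := d28_1 D39273 (iv F181653) F181650
theorem F181664 : act 4 n39273 = n38040 := d33_1 D39273 (iv D38040) (iv F176137)
theorem F181665 : act 5 n39273 = n38938 := d37_1 D39273 (iv F180686) F180685 F175202 (iv F176138)
theorem F181666 : act 7 n39273 = n38038 := d42_1 D39273 (iv D38038) D38037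
theorem F181667 : act 9 n39273 = n38134 := d44_2 F181520 D39273 (iv D38134) (iv F176497) (iv F181519)
def n39274 : Q := act 8 n38039
theorem D39274 : act 8 n38039 = n39274 := rfl
theorem F181668 : act 0 n39274 = n38048 := d7_1 D39274 (iv D38048) (iv F176147)
theorem F181669 : act 1 n39274 = n38221 := d15_1 D39274 F177170 (iv F176148)
theorem F181670 : act 2 n39274 = n38546 := d22_1 D39274 F178768 (iv F176149)
theorem F181671 : act 3 n39274 = n38196 := d28_1 D39274 (iv D38196) (iv F176150)
theorem F181672 : act 5 n39274 = n38894 := d37_1 D39274 F179914 F174119 (iv F172870) (iv F176151)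
theorem F181673 : act 6 n39274 = n38040 := d40_1 D39274 (iv D38040) D38039
theorem F181674 : act 7 n39274 = n38129 := d42_1 D39274 (iv D38129) (iv F176152)
theorem F181675 : act 9 n39274 = n38216 := d44_2 F181528 D39274 (iv D38216) (iv F177086) (iv F181527)
def n39275 : Q := act 7 n38041
theorem D39275 : act 7 n38041 = n39275 := rfl
theorem F181676 : act 0 n39275 = n38951 := d6_1 D39275 F180060 (iv F176160)
theorem F181677 : act 1 n39275 = n38387 := d14_1 D39275 (iv D38387) (iv F176161)
theorem F181678 : act 2 n39275 = n38042 := d21_1 D39275 (iv D38042) D38041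
theorem F181679 : act 3 n39275 = n38796 := d27_1 D39275 (iv D38796) (iv F176162)
theorem F181680 : act 4 n39275 = n38197 := d32_1 D39275 (iv D38197) (iv F176163)
theorem F181681 : act 5 n39275 = n38866 := d36_1 D39275 (iv D38866) (iv F176164)
theorem F181682 : act 8 n39275 = n38360 := d42_2 F176167 D39275 F177912
theorem F181683 : act 9 n39275 = n38407 := d43_2 (iv F176166) D39275 F178120
def n39276 : Q := act 6 n38042
theorem D39276 : act 6 n38042 = n39276 := rfl
theorem F181684 : act 1 n39276 = n38050 := d13_1 D39276 (iv D38050) (iv F176168)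
theorem F181685 : act 3 n39276 = n38044 := d26_1 D39276 (iv D38044) (iv F176169)
theorem F181686 : act 4 n39276 = n38198 := d31_1 D39276 (iv D38198) (iv F176170)
theorem F181687 : act 7 n39276 = n38133 := d39_2 D38042 D39276 (iv D38133) (iv D36704) (iv F169687)
def n39277 : Q := act 8 n38042
theorem D39277 : act 8 n38042 = n39277 := rfl
theorem F181688 : act 0 n39277 = n38137 := d7_1 D39277 (iv F181653) F181647
theorem F181689 : act 1 n39277 = n38051 := d15_1 D39277 (iv D38051) (iv F176168)
theorem F181690 : act 2 n39277 = n38360 := d22_1 D39277 (iv F181682) F181678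
theorem F181691 : act 3 n39277 = n38045 := d28_1 D39277 (iv D38045) (iv F176169)
theorem F181692 : act 4 n39277 = n38130 := d33_1 D39277 F176674 (iv F176170)
theorem F181693 : act 5 n39277 = n38353 := d37_1 D39277 (iv F181155) F181153 F179129 (iv F176171)
theorem F181694 : act 7 n39277 = n38043 := d42_1 D39277 (iv D38043) D38042
theorem F181695 : act 9 n39277 = n38128 := d44_2 F181536 D39277 (iv D38128) (iv F176478) (iv F181535)
def n39278 : Q := act 5 n38044
theorem D39278 : act 5 n38044 = n39278 := rfl
theorem F181696 : act 1 n39278 = n38053 := d12_1 D39278 (iv D38053) (iv F176180)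
theorem F181697 : act 2 n39278 = n38986 := d19_1 D39278 F180142 (iv F176181)
theorem F181698 : act 6 n39278 = n39025 := d35_2 D38044 D39278 F180213 F174516 (iv F169691)
theorem F181699 : act 7 n39278 = n38135 := d36_2 (iv F176183) D39278 (iv D38135)
def n39279 : Q := act 8 n38044
theorem D39279 : act 8 n38044 = n39279 := rfl
theorem F181700 : act 1 n39279 = n38054 := d15_1 D39279 (iv D38054) (iv F176180)
theorem F181701 : act 2 n39279 = n38949 := d22_1 D39279 F180056 (iv F176181)
theorem F181702 : act 4 n39279 = n38048 := d33_1 D39279 (iv D38048) (iv F176182)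
theorem F181703 : act 6 n39279 = n38045 := d40_1 D39279 (iv D38045) D38044
theorem F181704 : act 7 n39279 = n38136 := d42_1 D39279 (iv D38136) (iv F176183)
def n39280 : Q := act 5 n38045
theorem D39280 : act 5 n38045 = n39280 := rfl
theorem F181705 : act 0 n39280 = n38938 := d4_1 D39280 (iv F181665) F181660
theorem F181706 : act 1 n39280 = n38055 := d12_1 D39280 (iv D38055) (iv F176184)
theorem F181707 : act 2 n39280 = n38623 := d19_1 D39280 F179027 (iv F176185)
theorem F181708 : act 3 n39280 = n38353 := d25_1 D39280 (iv F181693) F181691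
theorem F181709 : act 4 n39280 = n39280 := d30_1 D39280 (iv D39280) F176186 F169703 (iv F176186)
theorem F181710 : act 7 n39280 = n38046 := d36_2 (iv F176187) D39280 (iv D38046)
theorem F181711 : act 8 n39280 = n38639 := d37_2 D38045 D39280 F179089 F173208 (iv F169691)
theorem F181712 : act 9 n38350 = n39280 := d44_0 F181711 F181126 (iv D39189) F175557 D38350
def n39281 : Q := act 9 n38045
theorem D39281 : act 9 n38045 = n39281 := rfl
theorem F181713 : act 0 n39281 = n38134 := d8_1 D39281 (iv F181667) F181660
theorem F181714 : act 1 n39281 = n38056 := d16_1 D39281 (iv D38056) (iv F176184)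
theorem F181715 : act 2 n39281 = n38952 := d23_1 D39281 (iv D38952) (iv F176185)
theorem F181716 : act 3 n39281 = n38128 := d29_1 D39281 (iv F181695) F181691
theorem F181717 : act 4 n39281 = n38049 := d34_1 D39281 (iv D38049) (iv F176186)
theorem F181718 : act 5 n39281 = n38350 := d38_1 D39281 F181712 (iv D39280)
theorem F181719 : act 7 n39281 = n38047 := d43_1 D39281 (iv D38047) (iv F176187)
theorem F181720 : act 8 n39281 = n38126 := d44_1 D39281 F181549 (iv D39256) F176009 D38045
def n39282 : Q := act 5 n38048
theorem D39282 : act 5 n38048 = n39282 := rfl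
theorem F181721 : act 0 n39282 = n38894 := d4_1 D39282 (iv F181672) F181668
theorem F181722 : act 1 n39282 = n38059 := d12_1 D39282 (iv D38059) (iv F176204)
theorem F181723 : act 2 n39282 = n39050 := d19_1 D39282 F180271 (iv F176205)
theorem F181724 : act 3 n39282 = n38186 := d25_1 D39282 F176948 (iv F176206)
theorem F181725 : act 6 n39282 = n39282 := d35_2 (iv F176207) D39282 (iv D39282) F176207 F169703
theorem F181726 : act 7 n39282 = n38138 := d36_2 (iv F176208) D39282 (iv D38138)
theorem F181727 : act 8 n39282 = n38183 := d37_2 D38048 D39282 F176932 (iv F174684) F174682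
def n39283 : Q := act 9 n38048
theorem D39283 : act 9 n38048 = n39283 := rfl
theorem F181728 : act 0 n39283 = n38216 := d8_1 D39283 (iv F181675) F181668
theorem F181729 : act 1 n39283 = n38060 := d16_1 D39283 (iv D38060) (iv F176204)
theorem F181730 : act 2 n39283 = n39053 := d23_1 D39283 (iv D39053) (iv F176205)
theorem F181731 : act 3 n39283 = n38200 := d29_1 D39283 (iv D38200) (iv F176206)
theorem F181732 : act 6 n39283 = n38049 := d41_1 D39283 (iv D38049) (iv F176207)
theorem F181733 : act 7 n39283 = n38139 := d43_1 D39283 (iv D38139) (iv F176208)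
theorem F181734 : act 8 n39283 = n38213 := d44_1 D39283 F181557 (iv D39257) F176023 D38048
def n39284 : Q := act 5 n38050
theorem D39284 : act 5 n38050 = n39284 := rfl
theorem F181735 : act 0 n39284 = n38789 := d4_1 D39284 (iv D38789) (iv F176216)
theorem F181736 : act 2 n39284 = n38394 := d19_1 D39284 (iv D38394) (iv F176217)
theorem F181737 : act 3 n39284 = n38053 := d25_1 D39284 (iv D38053) (iv F176218)
theorem F181738 : act 7 n39284 = n38140 := d36_2 (iv F176220) D39284 (iv D38140)
def n39285 : Q := act 8 n38050
theorem D39285 : act 8 n38050 = n39285 := rfl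
theorem F181739 : act 0 n39285 = n38790 := d7_1 D39285 (iv D38790) (iv F176216)
theorem F181740 : act 2 n39285 = n38395 := d22_1 D39285 (iv D38395) (iv F176217)
theorem F181741 : act 3 n39285 = n38054 := d28_1 D39285 (iv D38054) (iv F176218)
theorem F181742 : act 4 n39285 = n38202 := d33_1 D39285 (iv D38202) (iv F176219)
theorem F181743 : act 6 n39285 = n38051 := d40_1 D39285 (iv D38051) D38050
theorem F181744 : act 7 n39285 = n38141 := d42_1 D39285 (iv D38141) (iv F176220)
theorem F181745 : act 9 n39285 = n38856 := d44_2 F181564 D39285 (iv D38856) (iv F179750) (iv F181563)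
def n39286 : Q := act 5 n38051
theorem D39286 : act 5 n38051 = n39286 := rfl
theorem F181746 : act 0 n39286 = n38131 := d4_1 D39286 F176679 (iv F176221)
theorem F181747 : act 1 n39286 = n38353 := d12_1 D39286 (iv F181693) F181689
theorem F181748 : act 2 n39286 = n38126 := d19_1 D39286 F176651 (iv F176222)
theorem F181749 : act 3 n39286 = n38055 := d25_1 D39286 (iv D38055) (iv F176223)
theorem F181750 : act 4 n39286 = n38212 := d30_1 D39286 F177126 F170825 F170539 (iv F176224)
theorem F181751 : act 7 n39286 = n38052 := d36_2 (iv F176225) D39286 (iv D38052)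
theorem F181752 : act 8 n39286 = n38952 := d37_2 D38051 D39286 F181383 (iv D39231) F175831
theorem F181753 : act 9 n39286 = n38347 := d38_2 (iv F176226) D39286 F177866
def n39287 : Q := act 8 n38053
theorem D39287 : act 8 n38053 = n39287 := rfl
theorem F181754 : act 0 n39287 = n38791 := d7_1 D39287 (iv D38791) (iv F176235)
theorem F181755 : act 2 n39287 = n38061 := d22_1 D39287 (iv D38061) (iv F176236)
theorem F181756 : act 7 n39287 = n38146 := d42_1 D39287 (iv D38146) (iv F176237)
def n39288 : Q := act 5 n38054
theorem D39288 : act 5 n38054 = n39288 := rfl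
theorem F181757 : act 0 n39288 = n38792 := d4_1 D39288 (iv D38792) (iv F176238)
theorem F181758 : act 2 n39288 = n38062 := d19_1 D39288 (iv D38062) (iv F176239)
theorem F181759 : act 7 n39288 = n38147 := d36_2 (iv F176242) D39288 (iv D38147)
def n39289 : Q := act 9 n38054
theorem D39289 : act 9 n38054 = n39289 := rfl
theorem F181760 : act 0 n39289 = n38793 := d8_1 D39289 (iv D38793) (iv F176238)
theorem F181761 : act 2 n39289 = n38063 := d23_1 D39289 (iv D38063) (iv F176239)
theorem F181762 : act 3 n39289 = n38856 := d29_1 D39289 (iv F181745) F181741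
theorem F181763 : act 4 n39289 = n38060 := d34_1 D39289 (iv D38060) (iv F176240)
theorem F181764 : act 6 n39289 = n38056 := d41_1 D39289 (iv D38056) (iv F176241)
theorem F181765 : act 7 n39289 = n38148 := d43_1 D39289 (iv D38148) (iv F176242)
theorem F181766 : act 8 n39289 = n38854 := d44_1 D39289 F181577 (iv D39260) F176042 D38054
def n39290 : Q := act 6 n38055
theorem D39290 : act 6 n38055 = n39290 := rfl
theorem F181767 : act 0 n39290 = n38794 := d5_1 D39290 (iv D38794) (iv F176243)
theorem F181768 : act 2 n39290 = n38064 := d20_1 D39290 (iv D38064) (iv F176244)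
theorem F181769 : act 4 n39290 = n39290 := d31_1 D39290 (iv D39290) F176245
def n39291 : Q := act 9 n38055
theorem D39291 : act 9 n38055 = n39291 := rfl
theorem F181770 : act 0 n39291 = n38795 := d8_1 D39291 (iv D38795) (iv F176243)
theorem F181771 : act 1 n39291 = n38350 := d16_1 D39291 F181712 F181706
theorem F181772 : act 2 n39291 = n38065 := d23_1 D39291 (iv D38065) (iv F176244)
theorem F181773 : act 3 n39291 = n38347 := d29_1 D39291 (iv F181753) F181749
theorem F181774 : act 4 n39291 = n39291 := d34_1 D39291 (iv D39291) F176245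
theorem F181775 : act 5 n39291 = n38056 := d38_1 D39291 (iv D38056) D38055
theorem F181776 : act 7 n39291 = n38058 := d43_1 D39291 (iv D38058) (iv F176246)
theorem F181777 : act 8 n39291 = n38345 := d44_1 D39291 F177858 (iv F179575) F181404 F181403
def n39292 : Q := act 7 n38057
theorem D39292 : act 7 n38057 = n39292 := rfl
theorem F181778 : act 0 n39292 = n38796 := d6_1 D39292 (iv D38796) (iv F176253)
theorem F181779 : act 1 n39292 = n38615 := d14_1 D39292 F179000 (iv F176254)
theorem F181780 : act 2 n39292 = n38066 := d21_1 D39292 (iv D38066) (iv F176255)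
theorem F181781 : act 3 n39292 = n38951 := d27_1 D39292 F180060 (iv F176256)
theorem F181782 : act 4 n39292 = n39292 := d32_1 D39292 (iv D39292) F176257
theorem F181783 : act 5 n39292 = n38151 := d36_1 D39292 (iv D38151) (iv F176258)
theorem F181784 : act 8 n39292 = n38633 := d42_2 (iv F176259) D39292 F179071
theorem F181785 : act 9 n39292 = n38806 := d43_2 F176260 D39292 F179666
def n39293 : Q := act 4 n38059
theorem D39293 : act 4 n38059 = n39293 := rfl
theorem F181786 : act 0 n39293 = n38797 := d3_1 D39293 (iv D38797) (iv F176269)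
theorem F181787 : act 2 n39293 = n38069 := d18_1 D39293 (iv D38069) (iv F176270)
theorem F181788 : act 6 n39293 = n39293 := d31_2 F176272 D39293 (iv D39293)
theorem F181789 : act 7 n39293 = n38154 := d32_2 (iv F176273) D39293 (iv D38154)
def n39294 : Q := act 9 n38059
theorem D39294 : act 9 n38059 = n39294 := rfl
theorem F181790 : act 0 n39294 = n38798 := d8_1 D39294 (iv D38798) (iv F176269)
theorem F181791 : act 2 n39294 = n38070 := d23_1 D39294 (iv D38070) (iv F176270)
theorem F181792 : act 3 n39294 = n38204 := d29_1 D39294 (iv D38204) (iv F176271)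
theorem F181793 : act 5 n39294 = n38060 := d38_1 D39294 (iv D38060) D38059
theorem F181794 : act 6 n39294 = n39294 := d41_1 D39294 (iv D39294) F176272
theorem F181795 : act 7 n39294 = n38155 := d43_1 D39294 (iv D38155) (iv F176273)
theorem F181796 : act 8 n39294 = n38716 := d44_1 D39294 (iv F181512) F181511 (iv F181354) F181353
def n39295 : Q := act 5 n38061
theorem D39295 : act 5 n38061 = n39295 := rfl
theorem F181797 : act 0 n39295 = n38799 := d4_1 D39295 (iv D38799) (iv F176280)
theorem F181798 : act 3 n39295 = n38400 := d25_1 D39295 (iv D38400) (iv F176281)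
theorem F181799 : act 7 n39295 = n38156 := d36_2 (iv F176282) D39295 (iv D38156)
theorem F181800 : act 8 n39295 = n38062 := d37_2 D38061 D39295 (iv D38062) (iv D36638) D36637
def n39296 : Q := act 9 n38061
theorem D39296 : act 9 n38061 = n39296 := rfl
theorem F181801 : act 0 n39296 = n38800 := d8_1 D39296 (iv D38800) (iv F176280)
theorem F181802 : act 3 n39296 = n38401 := d29_1 D39296 (iv D38401) (iv F176281)
theorem F181803 : act 7 n39296 = n38157 := d43_1 D39296 (iv D38157) (iv F176282)
def n39297 : Q := act 4 n38062
theorem D39297 : act 4 n38062 = n39297 := rfl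
theorem F181804 : act 0 n39297 = n38801 := d3_1 D39297 (iv D38801) (iv F176283)
theorem F181805 : act 5 n39297 = n38069 := d30_2 D38062 D39297 (iv D38069) (iv D36643) (iv F169755)
theorem F181806 : act 7 n39297 = n38158 := d32_2 (iv F176285) D39297 (iv D38158)
def n39298 : Q := act 6 n38062
theorem D39298 : act 6 n38062 = n39298 := rfl
theorem F181807 : act 0 n39298 = n38802 := d5_1 D39298 (iv D38802) (iv F176283)
theorem F181808 : act 3 n39298 = n38403 := d26_1 D39298 (iv D38403) (iv F176284)
theorem F181809 : act 5 n39298 = n38064 := d35_1 D39298 (iv D38064) (iv D36639) (iv F169756) D38062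
def n39299 : Q := act 9 n38062
theorem D39299 : act 9 n38062 = n39299 := rfl
theorem F181810 : act 0 n39299 = n38803 := d8_1 D39299 (iv D38803) (iv F176283)
theorem F181811 : act 3 n39299 = n38404 := d29_1 D39299 (iv D38404) (iv F176284)
theorem F181812 : act 5 n39299 = n38063 := d38_1 D39299 (iv D38063) D38062
theorem F181813 : act 7 n39299 = n38160 := d43_1 D39299 (iv D38160) (iv F176285)
def n39300 : Q := act 7 n38064
theorem D39300 : act 7 n38064 = n39300 := rfl
theorem F181814 : act 0 n39300 = n38804 := d6_1 D39300 (iv D38804) (iv F176291)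
theorem F181815 : act 3 n39300 = n38405 := d27_1 D39300 (iv D38405) (iv F176292)
theorem F181816 : act 4 n39300 = n39300 := d32_1 D39300 (iv D39300) F176293
theorem F181817 : act 6 n39300 = n38066 := d39_1 D39300 (iv D38066) (iv D36641) (iv F169761) D38064
def n39301 : Q := act 9 n38064
theorem D39301 : act 9 n38064 = n39301 := rfl
theorem F181818 : act 0 n39301 = n38805 := d8_1 D39301 (iv D38805) (iv F176291)
theorem F181819 : act 3 n39301 = n38406 := d29_1 D39301 (iv D38406) (iv F176292)
theorem F181820 : act 4 n39301 = n39301 := d34_1 D39301 (iv D39301) F176293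
theorem F181821 : act 6 n39301 = n38065 := d41_1 D39301 (iv D38065) D38064
def n39302 : Q := act 8 n38065
theorem D39302 : act 8 n38065 = n39302 := rfl
theorem F181822 : act 0 n39302 = n38806 := d7_1 D39302 (iv D38806) (iv F176294)
theorem F181823 : act 1 n39302 = n38866 := d15_1 D39302 F181199 F181193
theorem F181824 : act 2 n39302 = n38345 := d22_1 D39302 (iv F181777) F181772
theorem F181825 : act 3 n39302 = n38407 := d28_1 D39302 (iv D38407) (iv F176295)
theorem F181826 : act 4 n39302 = n39302 := d33_1 D39302 (iv D39302) F176296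
theorem F181827 : act 5 n39302 = n38387 := d37_1 D39302 (iv F181624) F181622 F176088 (iv F176297)
theorem F181828 : act 7 n39302 = n38068 := d42_1 D39302 (iv D38068) (iv F176298)
theorem F181829 : act 9 n39302 = n38796 := d44_2 D38065 D39302 F181456 (iv D39242) F175899
def n39303 : Q := act 9 n38066
theorem D39303 : act 9 n38066 = n39303 := rfl
theorem F181830 : act 0 n39303 = n38345 := d8_1 D39303 F177858 (iv F176299)
theorem F181831 : act 1 n39303 = n38550 := d16_1 D39303 (iv F181207) F181201
theorem F181832 : act 2 n39303 = n38806 := d23_1 D39303 (iv F181785) F181780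
theorem F181833 : act 3 n39303 = n38343 := d29_1 D39303 F177846 (iv F176300)
theorem F181834 : act 4 n39303 = n39303 := d34_1 D39303 (iv D39303) F176301
theorem F181835 : act 5 n39303 = n38164 := d38_1 D39303 (iv D38164) (iv F176302)
theorem F181836 : act 7 n39303 = n38067 := d43_1 D39303 (iv D38067) D38066
theorem F181837 : act 8 n39303 = n38795 := d44_1 D39303 (iv D38795) (iv F179561) (iv F181464) F181463
def n39304 : Q := act 3 n38069
theorem D39304 : act 3 n38069 = n39304 := rfl
theorem F181838 : act 0 n39304 = n38807 := d2_1 D39304 (iv D38807) (iv F176319)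
theorem F181839 : act 4 n39304 = n38071 := d24_2 D38069 D39304 (iv D38071) (iv D36645) (iv F169775)
theorem F181840 : act 6 n39304 = n39304 := d26_2 F176320 D39304 (iv D39304)
theorem F181841 : act 7 n39304 = n38165 := d27_2 (iv F176321) D39304 (iv D38165)
theorem F181842 : act 2 n38715 = n39304 := d18_3 F181839 F176328 D38715
def n39305 : Q := act 9 n38069
theorem D39305 : act 9 n38069 = n39305 := rfl
theorem F181843 : act 0 n39305 = n38808 := d8_1 D39305 (iv D38808) (iv F176319)
theorem F181844 : act 4 n39305 = n38070 := d34_1 D39305 (iv D38070) D38069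
theorem F181845 : act 6 n39305 = n39305 := d41_1 D39305 (iv D39305) F176320
theorem F181846 : act 7 n39305 = n38166 := d43_1 D39305 (iv D38166) (iv F176321)
def n39306 : Q := act 8 n38070
theorem D39306 : act 8 n38070 = n39306 := rfl
theorem F181847 : act 0 n39306 = n38809 := d7_1 D39306 (iv D38809) (iv F176322)
theorem F181848 : act 2 n39306 = n38716 := d22_1 D39306 (iv F181796) F181791
theorem F181849 : act 3 n39306 = n38072 := d28_1 D39306 (iv D38072) (iv F176323)
theorem F181850 : act 5 n39306 = n38714 := d37_1 D39306 (iv F181646) F181643 F176117 (iv F176324)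
theorem F181851 : act 6 n39306 = n39306 := d40_1 D39306 (iv D39306) F176325
theorem F181852 : act 7 n39306 = n38167 := d42_1 D39306 (iv D38167) (iv F176326)
theorem F181853 : act 9 n39306 = n38713 := d44_2 D38070 D39306 F179295 (iv F175973) F175972
def n39307 : Q := act 6 n38073
theorem D39307 : act 6 n38073 = n39307 := rfl
theorem F181854 : act 0 n39307 = n38560 := d5_1 D39307 F178821 (iv F176339)
theorem F181855 : act 1 n39307 = n38075 := d13_1 D39307 (iv D38075) (iv F176340)
theorem F181856 : act 2 n39307 = n38771 := d20_1 D39307 (iv D38771) (iv F176341)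
theorem F181857 : act 3 n39307 = n38583 := d26_1 D39307 F178901 (iv F176342)
theorem F181858 : act 4 n39307 = n38074 := d31_1 D39307 (iv D38074) (iv F176343)
theorem F181859 : act 7 n39307 = n38307 := d39_2 D38073 D39307 F177693 F171389 (iv F169797)
theorem F181860 : act 8 n39307 = n38592 := d40_2 (iv F176345) D39307 F178932
theorem F181861 : act 9 n39307 = n38269 := d41_2 (iv F176346) D39307 F177486
def n39308 : Q := act 5 n38075
theorem D39308 : act 5 n38075 = n39308 := rfl
theorem F181862 : act 0 n39308 = n38810 := d4_1 D39308 (iv D38810) (iv F176355)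
theorem F181863 : act 2 n39308 = n38076 := d19_1 D39308 (iv D38076) (iv F176356)
theorem F181864 : act 4 n39308 = n38412 := d30_1 D39308 (iv D38412) F171904 (iv F169816) (iv F176357)
theorem F181865 : act 6 n39308 = n38725 := d35_2 D38075 D39308 (iv D38725) (iv D37428) (iv F169810)
theorem F181866 : act 7 n39308 = n38428 := d36_2 (iv F176358) D39308 F178208
theorem F181867 : act 9 n39308 = n38369 := d38_2 (iv F176360) D39308 (iv D38369)
def n39309 : Q := act 8 n38076
theorem D39309 : act 8 n38076 = n39309 := rfl
theorem F181868 : act 0 n39309 = n38811 := d7_1 D39309 (iv D38811) (iv F176361)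
theorem F181869 : act 1 n39309 = n38778 := d15_1 D39309 (iv D38778) (iv F176362)
theorem F181870 : act 3 n39309 = n38086 := d28_1 D39309 (iv D38086) (iv F176363)
theorem F181871 : act 4 n39309 = n38415 := d33_1 D39309 (iv D38415) (iv F176364)
theorem F181872 : act 6 n39309 = n38727 := d40_1 D39309 (iv D38727) (iv F176365)
theorem F181873 : act 7 n39309 = n38905 := d42_1 D39309 (iv D38905) (iv F176366)
def n39310 : Q := act 5 n38077
theorem D39310 : act 5 n38077 = n39310 := rfl
theorem F181874 : act 0 n39310 = n38812 := d4_1 D39310 (iv D38812) (iv F176368)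
theorem F181875 : act 1 n39310 = n38779 := d12_1 D39310 (iv D38779) (iv F176369)
theorem F181876 : act 2 n39310 = n38645 := d19_1 D39310 F179099 (iv F176370)
theorem F181877 : act 3 n39310 = n38087 := d25_1 D39310 (iv D38087) (iv F176371)
theorem F181878 : act 7 n39310 = n38662 := d36_2 (iv F176374) D39310 F179140
theorem F181879 : act 9 n39310 = n38637 := d38_2 (iv F176375) D39310 (iv D38637)
def n39311 : Q := act 4 n38078
theorem D39311 : act 4 n38078 = n39311 := rfl
theorem F181880 : act 0 n39311 = n38815 := d3_1 D39311 (iv D38815) (iv F176376)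
theorem F181881 : act 1 n39311 = n38782 := d11_1 D39311 (iv D38782) (iv F176377)
theorem F181882 : act 2 n39311 = n38647 := d18_1 D39311 F179103 (iv F176378)
theorem F181883 : act 6 n39311 = n39311 := d31_2 F176380 D39311 (iv D39311)
theorem F181884 : act 7 n39311 = n38667 := d32_2 (iv F176381) D39311 F179157
theorem F181885 : act 8 n39311 = n38419 := d33_2 (iv F176382) D39311 (iv D38419)
theorem F181886 : act 9 n39311 = n38640 := d34_2 (iv F176383) D39311 (iv D38640)
def n39312 : Q := act 3 n38079
theorem D39312 : act 3 n38079 = n39312 := rfl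
theorem F181887 : act 0 n39312 = n38816 := d2_1 D39312 (iv D38816) (iv F176384)
theorem F181888 : act 1 n39312 = n38783 := d10_1 D39312 (iv D38783) (iv F176385)
theorem F181889 : act 2 n39312 = n38707 := d17_1 D39312 F179276 F173353 F170608 (iv F176386)
theorem F181890 : act 5 n39312 = n38091 := d25_2 (iv F176387) D39312 (iv D38091)
theorem F181891 : act 6 n39312 = n39312 := d26_2 F176388 D39312 (iv D39312)
theorem F181892 : act 7 n39312 = n38577 := d27_2 (iv F176389) D39312 F178873
theorem F181893 : act 8 n39312 = n38421 := d28_2 (iv F176390) D39312 (iv D38421)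
theorem F181894 : act 9 n39312 = n38708 := d29_2 (iv F176391) D39312 (iv D38708)
def n39313 : Q := act 5 n38080
theorem D39313 : act 5 n38080 = n39313 := rfl
theorem F181895 : act 0 n39313 = n38725 := d4_1 D39313 (iv D38725) (iv F176392)
theorem F181896 : act 2 n39313 = n38082 := d19_1 D39313 (iv D38082) (iv F176393)
theorem F181897 : act 4 n39313 = n38105 := d30_1 D39313 (iv D38105) F169993 (iv F169855) (iv F176394)
theorem F181898 : act 6 n39313 = n38810 := d35_2 D38080 D39313 (iv D38810) (iv D37523) (iv F169850)
theorem F181899 : act 7 n39313 = n38722 := d36_2 (iv F176395) D39313 (iv D38722)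
theorem F181900 : act 9 n39313 = n38085 := d38_2 (iv F176396) D39313 (iv D38085)
def n39314 : Q := act 5 n38081
theorem D39314 : act 5 n38081 = n39314 := rfl
theorem F181901 : act 0 n39314 = n38726 := d4_1 D39314 (iv D38726) (iv F176397)
theorem F181902 : act 2 n39314 = n38084 := d19_1 D39314 (iv D38084) (iv F176398)
theorem F181903 : act 3 n39314 = n38205 := d25_1 D39314 (iv D38205) (iv F176399)
theorem F181904 : act 6 n39314 = n39314 := d35_2 (iv F176400) D39314 (iv D39314) F176400 F169861
theorem F181905 : act 7 n39314 = n38491 := d36_2 (iv F176401) D39314 (iv D38491)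
theorem F181906 : act 8 n39314 = n38111 := d37_2 D38081 D39314 (iv D38111) (iv D36685) (iv F169855)
theorem F181907 : act 9 n39314 = n38421 := d38_2 (iv F176402) D39314 F178180
def n39315 : Q := act 8 n38082
theorem D39315 : act 8 n38082 = n39315 := rfl
theorem F181908 : act 0 n39315 = n38727 := d7_1 D39315 (iv D38727) (iv F176403)
theorem F181909 : act 1 n39315 = n38930 := d15_1 D39315 (iv D38930) (iv F176404)
theorem F181910 : act 3 n39315 = n38562 := d28_1 D39315 (iv D38562) (iv F176405)
theorem F181911 : act 4 n39315 = n38113 := d33_1 D39315 (iv D38113) (iv F176406)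
theorem F181912 : act 6 n39315 = n38811 := d40_1 D39315 (iv D38811) (iv F176407)
theorem F181913 : act 7 n39315 = n38723 := d42_1 D39315 (iv D38723) (iv F176408)
def n39316 : Q := act 5 n38083
theorem D39316 : act 5 n38083 = n39316 := rfl
theorem F181914 : act 0 n39316 = n38728 := d4_1 D39316 (iv D38728) (iv F176410)
theorem F181915 : act 1 n39316 = n38931 := d12_1 D39316 (iv D38931) (iv F176411)
theorem F181916 : act 3 n39316 = n38367 := d25_1 D39316 (iv D38367) (iv F176412)
theorem F181917 : act 7 n39316 = n38422 := d36_2 (iv F176415) D39316 (iv D38422)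
theorem F181918 : act 9 n39316 = n38635 := d38_2 F176416 D39316 (iv D38635)
def n39317 : Q := act 4 n38084
theorem D39317 : act 4 n38084 = n39317 := rfl
theorem F181919 : act 0 n39317 = n38729 := d3_1 D39317 (iv D38729) (iv F176417)
theorem F181920 : act 1 n39317 = n38933 := d11_1 D39317 (iv D38933) (iv F176418)
theorem F181921 : act 3 n39317 = n38487 := d24_1 D39317 (iv D38487) F172282 (iv F169885) (iv F176419)
theorem F181922 : act 6 n39317 = n39317 := d31_2 F176420 D39317 (iv D39317)
theorem F181923 : act 7 n39317 = n38492 := d32_2 (iv F176421) D39317 (iv D38492)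
theorem F181924 : act 8 n39317 = n38121 := d33_2 (iv F176422) D39317 (iv D38121)
theorem F181925 : act 9 n39317 = n38706 := d34_2 (iv F176423) D39317 (iv D38706)
def n39318 : Q := act 8 n38085
theorem D39318 : act 8 n38085 = n39318 := rfl
theorem F181926 : act 0 n39318 = n38819 := d7_1 D39318 (iv D38819) (iv F176424)
theorem F181927 : act 2 n39318 = n38086 := d22_1 D39318 (iv D38086) (iv F176425)
theorem F181928 : act 4 n39318 = n38146 := d33_1 D39318 (iv D38146) (iv F176426)
theorem F181929 : act 6 n39318 = n38907 := d40_1 D39318 (iv D38907) (iv F176427)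
def n39319 : Q := act 5 n38086
theorem D39319 : act 5 n38086 = n39319 := rfl
theorem F181930 : act 0 n39319 = n38822 := d4_1 D39319 (iv D38822) (iv F176428)
theorem F181931 : act 1 n39319 = n38944 := d12_1 D39319 (iv D38944) (iv F176429)
theorem F181932 : act 8 n39319 = n38087 := d37_2 D38086 D39319 (iv D38087) (iv D36664) D36663
def n39320 : Q := act 9 n38086
theorem D39320 : act 9 n38086 = n39320 := rfl
theorem F181933 : act 0 n39320 = n38823 := d8_1 D39320 (iv D38823) (iv F176428)
theorem F181934 : act 1 n39320 = n38945 := d16_1 D39320 (iv D38945) (iv F176429)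
theorem F181935 : act 4 n39320 = n38157 := d34_1 D39320 (iv D38157) (iv F176430)
theorem F181936 : act 6 n39320 = n38909 := d41_1 D39320 (iv D38909) (iv F176431)
def n39321 : Q := act 4 n38087
theorem D39321 : act 4 n38087 = n39321 := rfl
theorem F181937 : act 0 n39321 = n38824 := d3_1 D39321 (iv D38824) (iv F176432)
theorem F181938 : act 1 n39321 = n38946 := d11_1 D39321 (iv D38946) (iv F176433)
theorem F181939 : act 5 n39321 = n38089 := d30_2 D38087 D39321 (iv D38089) (iv D36666) (iv F169899)
def n39322 : Q := act 9 n38087
theorem D39322 : act 9 n38087 = n39322 := rfl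
theorem F181940 : act 0 n39322 = n38826 := d8_1 D39322 (iv D38826) (iv F176432)
theorem F181941 : act 1 n39322 = n38948 := d16_1 D39322 (iv D38948) (iv F176433)
theorem F181942 : act 2 n39322 = n38475 := d23_1 D39322 F181284 F181281
theorem F181943 : act 3 n39322 = n38637 := d29_1 D39322 (iv F181879) F181877
theorem F181944 : act 5 n39322 = n38088 := d38_1 D39322 (iv D38088) D38087
theorem F181945 : act 7 n39322 = n38655 := d43_1 D39322 (iv F181492) F181491
def n39323 : Q := act 3 n38089
theorem D39323 : act 3 n38089 = n39323 := rfl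
theorem F181946 : act 0 n39323 = n38828 := d2_1 D39323 (iv D38828) (iv F176442)
theorem F181947 : act 1 n39323 = n38953 := d10_1 D39323 (iv D38953) (iv F176443)
theorem F181948 : act 4 n39323 = n38091 := d24_2 D38089 D39323 (iv D38091) (iv D36668) (iv F169910)
theorem F181949 : act 6 n39323 = n38168 := d26_2 (iv F176444) D39323 (iv D38168)
theorem F181950 : act 8 n39323 = n38165 := d28_2 (iv F176445) D39323 (iv D38165)
def n39324 : Q := act 9 n38089
theorem D39324 : act 9 n38089 = n39324 := rfl
theorem F181951 : act 0 n39324 = n38829 := d8_1 D39324 (iv D38829) (iv F176442)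
theorem F181952 : act 1 n39324 = n38954 := d16_1 D39324 (iv D38954) (iv F176443)
theorem F181953 : act 2 n39324 = n38165 := d23_1 D39324 (iv F181346) F181342
theorem F181954 : act 4 n39324 = n38090 := d34_1 D39324 (iv D38090) D38089
theorem F181955 : act 6 n39324 = n38169 := d41_1 D39324 (iv D38169) (iv F176444)
theorem F181956 : act 7 n39324 = n38715 := d43_1 D39324 (iv F181504) F181502
def n39325 : Q := act 8 n38090
theorem D39325 : act 8 n38090 = n39325 := rfl
theorem F181957 : act 0 n39325 = n38830 := d7_1 D39325 (iv D38830) (iv F176446)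
theorem F181958 : act 1 n39325 = n38955 := d15_1 D39325 (iv D38955) (iv F176447)
theorem F181959 : act 2 n39325 = n38091 := d22_1 D39325 F176456 (iv F176448)
theorem F181960 : act 3 n39325 = n38093 := d28_1 D39325 (iv D38093) (iv F176449)
theorem F181961 : act 5 n39325 = n38707 := d37_1 D39325 (iv D38707) (iv D37403) (iv F169919) (iv F176450)
theorem F181962 : act 6 n39325 = n38170 := d40_1 D39325 (iv D38170) (iv F176451)
theorem F181963 : act 7 n39325 = n38713 := d42_1 D39325 F179295 (iv F176452)
theorem F181964 : act 9 n39325 = n38167 := d44_2 D38090 D39325 (iv D38167) (iv D36732) (iv F169912)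
def n39326 : Q := act 9 n38091
theorem D39326 : act 9 n38091 = n39326 := rfl
theorem F181965 : act 0 n39326 = n38831 := d8_1 D39326 (iv D38831) (iv F176453)
theorem F181966 : act 1 n39326 = n38957 := d16_1 D39326 (iv D38957) (iv F176454)
theorem F181967 : act 2 n39326 = n38167 := d23_1 D39326 (iv F181964) F181959
theorem F181968 : act 3 n39326 = n38092 := d29_1 D39326 (iv D38092) D38091
theorem F181969 : act 5 n39326 = n38708 := d38_1 D39326 (iv F181894) F181890
theorem F181970 : act 6 n39326 = n38171 := d41_1 D39326 (iv D38171) (iv F176455)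
theorem F181971 : act 7 n39326 = n38716 := d43_1 D39326 (iv F181512) F181510
theorem F181972 : act 8 n39326 = n38155 := d44_1 D39326 (iv D38155) (iv F175783) F175784 (iv F176456)
def n39327 : Q := act 6 n38094
theorem D39327 : act 6 n38094 = n39327 := rfl
theorem F181973 : act 0 n39327 = n38098 := d5_1 D39327 (iv D38098) (iv F176473)
theorem F181974 : act 1 n39327 = n38832 := d13_1 D39327 (iv D38832) (iv F176474)
theorem F181975 : act 2 n39327 = n38406 := d20_1 D39327 F178116 (iv F176475)
theorem F181976 : act 4 n39327 = n38095 := d31_1 D39327 (iv D38095) (iv F176476)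
theorem F181977 : act 9 n39327 = n38127 := d41_2 (iv F176478) D39327 (iv D38127)
def n39328 : Q := act 8 n38095
theorem D39328 : act 8 n38095 = n39328 := rfl
theorem F181978 : act 0 n39328 = n38101 := d7_1 D39328 (iv D38101) (iv F176479)
theorem F181979 : act 1 n39328 = n38192 := d15_1 D39328 F176992 (iv F176480)
theorem F181980 : act 2 n39328 = n38552 := d22_1 D39328 (iv D38552) (iv F176481)
theorem F181981 : act 3 n39328 = n38190 := d28_1 D39328 F176978 (iv F176482)
theorem F181982 : act 6 n39328 = n38096 := d40_1 D39328 (iv D38096) D38095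
theorem F181983 : act 7 n39328 = n38206 := d42_1 D39328 (iv F181527) F181526
theorem F181984 : act 9 n38198 = n39328 := d43_0 F181983 F177086 (iv F177034)
def n39329 : Q := act 6 n38097
theorem D39329 : act 6 n38097 = n39329 := rfl
theorem F181985 : act 1 n39329 = n38103 := d13_1 D39329 (iv D38103) (iv F176492)
theorem F181986 : act 2 n39329 = n38860 := d20_1 D39329 (iv D38860) (iv F176493)
theorem F181987 : act 3 n39329 = n38098 := d26_1 D39329 (iv D38098) (iv F176494)
theorem F181988 : act 4 n39329 = n38206 := d31_1 D39329 (iv D38206) (iv F176495)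
theorem F181989 : act 9 n39329 = n38133 := d41_2 (iv F176497) D39329 (iv D38133)
def n39330 : Q := act 5 n38098
theorem D39330 : act 5 n38098 = n39330 := rfl
theorem F181990 : act 1 n39330 = n38105 := d12_1 D39330 (iv D38105) (iv F176498)
theorem F181991 : act 2 n39330 = n38987 := d19_1 D39330 F180144 (iv F176499)
theorem F181992 : act 6 n39330 = n38983 := d35_2 D38098 D39330 F180137 F174431 (iv F169957)
theorem F181993 : act 9 n39330 = n38135 := d38_2 (iv F176501) D39330 (iv D38135)
def n39331 : Q := act 8 n38098
theorem D39331 : act 8 n38098 = n39331 := rfl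
theorem F181994 : act 1 n39331 = n38106 := d15_1 D39331 (iv D38106) (iv F176498)
theorem F181995 : act 2 n39331 = n38989 := d22_1 D39331 (iv D38989) (iv F176499)
theorem F181996 : act 4 n39331 = n38101 := d33_1 D39331 (iv D38101) (iv F176500)
theorem F181997 : act 6 n39331 = n38099 := d40_1 D39331 (iv D38099) D38098
def n39332 : Q := act 5 n38099
theorem D39332 : act 5 n38099 = n39332 := rfl
theorem F181998 : act 0 n39332 = n38273 := d4_1 D39332 (iv F181534) F181529
theorem F181999 : act 1 n39332 = n38107 := d12_1 D39332 (iv D38107) (iv F176502)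
theorem F182000 : act 2 n39332 = n38972 := d19_1 D39332 F180106 (iv F176503)
theorem F182001 : act 3 n39332 = n38270 := d25_1 D39332 (iv F181518) F181516
theorem F182002 : act 4 n39332 = n39332 := d30_1 D39332 (iv D39332) F176504 F169969 (iv F176504)
theorem F182003 : act 7 n39332 = n38100 := d36_2 (iv F176505) D39332 (iv D38100)
theorem F182004 : act 8 n39332 = n38553 := d37_2 D38099 D39332 F178800 F173612 (iv F169957)
theorem F182005 : act 9 n39332 = n38465 := d38_2 F181654 D39332 (iv F181652)
def n39333 : Q := act 5 n38101
theorem D39333 : act 5 n38101 = n39333 := rfl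
theorem F182006 : act 1 n39333 = n38111 := d12_1 D39333 (iv D38111) (iv F176514)
theorem F182007 : act 2 n39333 = n39058 := d19_1 D39333 (iv D39058) (iv F176515)
theorem F182008 : act 3 n39333 = n38207 := d25_1 D39333 (iv D38207) (iv F176516)
theorem F182009 : act 6 n39333 = n39333 := d35_2 (iv F176517) D39333 (iv D39333) F176517 F169969
theorem F182010 : act 7 n39333 = n38702 := d36_2 F181555 D39333 F181556
theorem F182011 : act 9 n38701 = n39333 := d43_0 F182010 (iv D38702) D38701
def n39334 : Q := act 9 n38101
theorem D39334 : act 9 n38101 = n39334 := rfl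
theorem F182012 : act 0 n39334 = n38198 := d8_1 D39334 F181984 F181978
theorem F182013 : act 1 n39334 = n38112 := d16_1 D39334 (iv D38112) (iv F176514)
theorem F182014 : act 2 n39334 = n39054 := d23_1 D39334 F180286 (iv F176515)
theorem F182015 : act 3 n39334 = n38195 := d29_1 D39334 F177015 (iv F176516)
theorem F182016 : act 5 n39334 = n38701 := d38_1 D39334 F182011 (iv D39333)
theorem F182017 : act 6 n39334 = n38102 := d41_1 D39334 (iv D38102) (iv F176517)
theorem F182018 : act 7 n39334 = n38213 := d43_1 D39334 F181557 F181555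
theorem F182019 : act 8 n39334 = n38139 := d44_1 D39334 (iv D38139) (iv D36709) (iv F169965) D38101
def n39335 : Q := act 5 n38103
theorem D39335 : act 5 n38103 = n39335 := rfl
theorem F182020 : act 0 n39335 = n38835 := d4_1 D39335 (iv D38835) (iv F176525)
theorem F182021 : act 2 n39335 = n38430 := d19_1 D39335 (iv D38430) (iv F176526)
theorem F182022 : act 3 n39335 = n38105 := d25_1 D39335 (iv D38105) (iv F176527)
theorem F182023 : act 6 n39335 = n38760 := d35_2 D38103 D39335 (iv D38760) F173637 (iv F169982)
theorem F182024 : act 9 n39335 = n38140 := d38_2 (iv F176529) D39335 (iv D38140)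
def n39336 : Q := act 8 n38103
theorem D39336 : act 8 n38103 = n39336 := rfl
theorem F182025 : act 0 n39336 = n38730 := d7_1 D39336 F179358 (iv F176525)
theorem F182026 : act 2 n39336 = n38431 := d22_1 D39336 (iv D38431) (iv F176526)
theorem F182027 : act 3 n39336 = n38106 := d28_1 D39336 (iv D38106) (iv F176527)
theorem F182028 : act 4 n39336 = n38209 := d33_1 D39336 (iv D38209) (iv F176528)
theorem F182029 : act 6 n39336 = n38104 := d40_1 D39336 (iv D38104) D38103
theorem F182030 : act 7 n39336 = n38832 := d42_1 D39336 (iv F181563) F181562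
theorem F182031 : act 9 n38784 = n39336 := d43_0 F182030 F179750 (iv F179581)
def n39337 : Q := act 8 n38105
theorem D39337 : act 8 n38105 = n39337 := rfl
theorem F182032 : act 0 n39337 = n38836 := d7_1 D39337 (iv D38836) (iv F176537)
theorem F182033 : act 2 n39337 = n38113 := d22_1 D39337 (iv D38113) (iv F176538)
theorem F182034 : act 6 n39337 = n38990 := d40_1 D39337 (iv D38990) (iv F176539)
def n39338 : Q := act 5 n38106
theorem D39338 : act 5 n38106 = n39338 := rfl
theorem F182035 : act 0 n39338 = n38837 := d4_1 D39338 (iv D38837) (iv F176541)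
theorem F182036 : act 2 n39338 = n38114 := d19_1 D39338 (iv D38114) (iv F176542)
def n39339 : Q := act 9 n38106
theorem D39339 : act 9 n38106 = n39339 := rfl
theorem F182037 : act 0 n39339 = n38785 := d8_1 D39339 F179588 (iv F176541)
theorem F182038 : act 2 n39339 = n38115 := d23_1 D39339 (iv D38115) (iv F176542)
theorem F182039 : act 3 n39339 = n38784 := d29_1 D39339 F182031 F182027
theorem F182040 : act 4 n39339 = n38112 := d34_1 D39339 (iv D38112) (iv F176543)
theorem F182041 : act 6 n39339 = n38108 := d41_1 D39339 (iv D38108) (iv F176544)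
theorem F182042 : act 7 n39339 = n38854 := d43_1 D39339 F181577 F181576
theorem F182043 : act 8 n39339 = n38148 := d44_1 D39339 (iv D38148) (iv D36716) (iv F169994) D38106
def n39340 : Q := act 6 n38107
theorem D39340 : act 6 n38107 = n39340 := rfl
theorem F182044 : act 0 n39340 = n38838 := d5_1 D39340 (iv D38838) (iv F176545)
theorem F182045 : act 2 n39340 = n38116 := d20_1 D39340 (iv D38116) (iv F176546)
theorem F182046 : act 3 n39340 = n38557 := d26_1 D39340 F178812 (iv F176547)
theorem F182047 : act 4 n39340 = n39340 := d31_1 D39340 (iv D39340) F176548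
theorem F182048 : act 8 n39340 = n38555 := d40_2 (iv F176550) D39340 (iv D38555)
def n39341 : Q := act 9 n38107
theorem D39341 : act 9 n38107 = n39341 := rfl
theorem F182049 : act 0 n39341 = n38770 := d8_1 D39341 F179543 (iv F176545)
theorem F182050 : act 1 n39341 = n38465 := d16_1 D39341 (iv F182005) F181999
theorem F182051 : act 2 n39341 = n38117 := d23_1 D39341 (iv D38117) (iv F176546)
theorem F182052 : act 3 n39341 = n38459 := d29_1 D39341 F178339 (iv F176547)
theorem F182053 : act 4 n39341 = n39341 := d34_1 D39341 (iv D39341) F176548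
theorem F182054 : act 5 n39341 = n38108 := d38_1 D39341 (iv D38108) D38107
theorem F182055 : act 7 n39341 = n38110 := d43_1 D39341 (iv D38110) (iv F176549)
theorem F182056 : act 8 n39341 = n38848 := d44_1 D39341 (iv D38848) (iv F177623) F177624 (iv F176550)
def n39342 : Q := act 7 n38109
theorem D39342 : act 7 n38109 = n39342 := rfl
theorem F182057 : act 0 n39342 = n38257 := d6_1 D39342 (iv D38257) (iv F176557)
theorem F182058 : act 1 n39342 = n38323 := d14_1 D39342 (iv D38323) (iv F176558)
theorem F182059 : act 2 n39342 = n38118 := d21_1 D39342 (iv D38118) (iv F176559)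
theorem F182060 : act 3 n39342 = n38238 := d27_1 D39342 F177288 (iv F176560)
theorem F182061 : act 4 n39342 = n39342 := d32_1 D39342 (iv D39342) F176561
theorem F182062 : act 5 n39342 = n38454 := d36_1 D39342 F178321 (iv F176562)
theorem F182063 : act 8 n39342 = n38236 := d42_2 (iv F176563) D39342 (iv D38236)
theorem F182064 : act 9 n39342 = n38453 := d43_2 F176564 D39342 F178316
def n39343 : Q := act 4 n38111
theorem D39343 : act 4 n38111 = n39343 := rfl
theorem F182065 : act 0 n39343 = n38839 := d3_1 D39343 (iv D38839) (iv F176573)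
theorem F182066 : act 2 n39343 = n38121 := d18_1 D39343 (iv D38121) (iv F176574)
theorem F182067 : act 6 n39343 = n39343 := d31_2 F176576 D39343 (iv D39343)
def n39344 : Q := act 9 n38111
theorem D39344 : act 9 n38111 = n39344 := rfl
theorem F182068 : act 0 n39344 = n38840 := d8_1 D39344 (iv D38840) (iv F176573)
theorem F182069 : act 1 n39344 = n38701 := d16_1 D39344 F182011 F182006
theorem F182070 : act 2 n39344 = n38122 := d23_1 D39344 (iv D38122) (iv F176574)
theorem F182071 : act 3 n39344 = n38211 := d29_1 D39344 (iv D38211) (iv F176575)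
theorem F182072 : act 5 n39344 = n38112 := d38_1 D39344 (iv D38112) D38111
theorem F182073 : act 6 n39344 = n39344 := d41_1 D39344 (iv D39344) F176576
theorem F182074 : act 7 n39344 = n38496 := d43_1 D39344 (iv F181593) F181591
theorem F182075 : act 8 n39344 = n38708 := d44_1 D39344 (iv F181894) F181893 (iv F181907) F181906
def n39345 : Q := act 5 n38113
theorem D39345 : act 5 n38113 = n39345 := rfl
theorem F182076 : act 0 n39345 = n38841 := d4_1 D39345 (iv D38841) (iv F176583)
theorem F182077 : act 3 n39345 = n38438 := d25_1 D39345 (iv D38438) (iv F176584)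
theorem F182078 : act 8 n39345 = n38114 := d37_2 D38113 D39345 (iv D38114) (iv D36688) D36687
def n39346 : Q := act 9 n38113
theorem D39346 : act 9 n38113 = n39346 := rfl
theorem F182079 : act 0 n39346 = n38842 := d8_1 D39346 (iv D38842) (iv F176583)
theorem F182080 : act 3 n39346 = n38439 := d29_1 D39346 (iv D38439) (iv F176584)
theorem F182081 : act 6 n39346 = n38992 := d41_1 D39346 (iv D38992) (iv F176585)
theorem F182082 : act 8 n39346 = n38157 := d44_1 D39346 (iv D38157) (iv D36723) (iv F170023) D38113
def n39347 : Q := act 4 n38114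
theorem D39347 : act 4 n38114 = n39347 := rfl
theorem F182083 : act 0 n39347 = n38843 := d3_1 D39347 (iv D38843) (iv F176586)
theorem F182084 : act 5 n39347 = n38121 := d30_2 D38114 D39347 (iv D38121) (iv D36693) (iv F170026)
def n39348 : Q := act 6 n38114
theorem D39348 : act 6 n38114 = n39348 := rfl
theorem F182085 : act 0 n39348 = n38844 := d5_1 D39348 (iv D38844) (iv F176586)
theorem F182086 : act 3 n39348 = n38441 := d26_1 D39348 (iv D38441) (iv F176587)
theorem F182087 : act 5 n39348 = n38116 := d35_1 D39348 (iv D38116) (iv D36689) (iv F170027) D38114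
def n39349 : Q := act 9 n38114
theorem D39349 : act 9 n38114 = n39349 := rfl
theorem F182088 : act 0 n39349 = n38845 := d8_1 D39349 (iv D38845) (iv F176586)
theorem F182089 : act 3 n39349 = n38442 := d29_1 D39349 (iv D38442) (iv F176587)
theorem F182090 : act 5 n39349 = n38115 := d38_1 D39349 (iv D38115) D38114
def n39350 : Q := act 7 n38116
theorem D39350 : act 7 n38116 = n39350 := rfl
theorem F182091 : act 0 n39350 = n38846 := d6_1 D39350 (iv D38846) (iv F176593)
theorem F182092 : act 3 n39350 = n38443 := d27_1 D39350 (iv D38443) (iv F176594)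
theorem F182093 : act 4 n39350 = n39350 := d32_1 D39350 (iv D39350) F176595
theorem F182094 : act 6 n39350 = n38118 := d39_1 D39350 (iv D38118) (iv D36691) (iv F170031) D38116
theorem F182095 : act 8 n39350 = n38588 := d42_2 (iv F176596) D39350 F178923
def n39351 : Q := act 9 n38116
theorem D39351 : act 9 n38116 = n39351 := rfl
theorem F182096 : act 0 n39351 = n38847 := d8_1 D39351 (iv D38847) (iv F176593)
theorem F182097 : act 3 n39351 = n38444 := d29_1 D39351 (iv D38444) (iv F176594)
theorem F182098 : act 4 n39351 = n39351 := d34_1 D39351 (iv D39351) F176595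
theorem F182099 : act 6 n39351 = n38117 := d41_1 D39351 (iv D38117) D38116
def n39352 : Q := act 8 n38117
theorem D39352 : act 8 n38117 = n39352 := rfl
theorem F182100 : act 0 n39352 = n38453 := d7_1 D39352 F178317 (iv F176597)
theorem F182101 : act 1 n39352 = n38248 := d15_1 D39352 (iv F180615) F180609
theorem F182102 : act 2 n39352 = n38848 := d22_1 D39352 (iv F182056) F182051
theorem F182103 : act 3 n39352 = n38246 := d28_1 D39352 F177348 (iv F176598)
theorem F182104 : act 4 n39352 = n39352 := d33_1 D39352 (iv D39352) F176599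
theorem F182105 : act 5 n39352 = n38163 := d37_1 D39352 (iv D38163) F170199 (iv F170037) (iv F176600)
theorem F182106 : act 7 n39352 = n38120 := d42_1 D39352 (iv D38120) (iv F176601)
theorem F182107 : act 9 n39352 = n38257 := d44_2 D38117 D39352 F177426 F171372 (iv F170032)
def n39353 : Q := act 9 n38118
theorem D39353 : act 9 n38118 = n39353 := rfl
theorem F182108 : act 0 n39353 = n38848 := d8_1 D39353 (iv D38848) (iv F176602)
theorem F182109 : act 1 n39353 = n38773 := d16_1 D39353 (iv F180623) F180617
theorem F182110 : act 2 n39353 = n38453 := d23_1 D39353 (iv F182064) F182059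
theorem F182111 : act 3 n39353 = n38445 := d29_1 D39353 (iv D38445) (iv F176603)
theorem F182112 : act 4 n39353 = n39353 := d34_1 D39353 (iv D39353) F176604
theorem F182113 : act 5 n39353 = n38450 := d38_1 D39353 (iv F181632) F181630
theorem F182114 : act 7 n39353 = n38119 := d43_1 D39353 (iv D38119) D38118
theorem F182115 : act 8 n39353 = n38770 := d44_1 D39353 F179543 (iv F177468) F177469 (iv F176605)
def n39354 : Q := act 3 n38121
theorem D39354 : act 3 n38121 = n39354 := rfl
theorem F182116 : act 0 n39354 = n38849 := d2_1 D39354 (iv D38849) (iv F176622)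
theorem F182117 : act 4 n39354 = n38123 := d24_2 D38121 D39354 (iv D38123) (iv D36695) (iv F170047)
theorem F182118 : act 6 n39354 = n39354 := d26_2 F176623 D39354 (iv D39354)
theorem F182119 : act 7 n39354 = n38504 := d27_2 F181637 D39354 (iv F181635)
theorem F182120 : act 8 n39354 = n38487 := d28_2 F181924 D39354 (iv F181921)
def n39355 : Q := act 9 n38121
theorem D39355 : act 9 n38121 = n39355 := rfl
theorem F182121 : act 0 n39355 = n38850 := d8_1 D39355 (iv D38850) (iv F176622)
theorem F182122 : act 4 n39355 = n38122 := d34_1 D39355 (iv D38122) D38121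
theorem F182123 : act 6 n39355 = n39355 := d41_1 D39355 (iv D39355) F176623
def n39356 : Q := act 8 n38122
theorem D39356 : act 8 n38122 = n39356 := rfl
theorem F182124 : act 0 n39356 = n38851 := d7_1 D39356 (iv D38851) (iv F176624)
theorem F182125 : act 2 n39356 = n38708 := d22_1 D39356 (iv F182075) F182070
theorem F182126 : act 3 n39356 = n38125 := d28_1 D39356 (iv D38125) (iv F176625)
theorem F182127 : act 5 n39356 = n38167 := d37_1 D39356 (iv D38167) F170219 (iv F170052) (iv F176626)
theorem F182128 : act 6 n39356 = n39356 := d40_1 D39356 (iv D39356) F176627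
theorem F182129 : act 7 n39356 = n38714 := d42_1 D39356 (iv F181646) F181645
theorem F182130 : act 9 n39356 = n38707 := d44_2 D38122 D39356 (iv D38707) (iv F176423) F176422
def n39357 : Q := act 2 n38123
theorem D39357 : act 2 n38123 = n39357 := rfl
theorem F182131 : act 0 n39357 = n38852 := d1_1 D39357 (iv D38852) (iv F176628)
theorem F182132 : act 3 n39357 = n38203 := d17_2 D38123 D39357 F177063 F170563 (iv F170054)
theorem F182133 : act 5 n39357 = n38448 := d19_2 (iv F176629) D39357 (iv D38448)
theorem F182134 : act 6 n39357 = n39357 := d20_2 F176630 D39357 (iv D39357)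
theorem F182135 : act 7 n39357 = n38219 := d21_2 (iv F176631) D39357 F177156
theorem F182136 : act 8 n39357 = n38201 := d22_2 (iv F176632) D39357 F177051
theorem F182137 : act 9 n38386 = n39357 := d43_0 F182135 F177159 (iv F178034)
def n39358 : Q := act 9 n38123
theorem D39358 : act 9 n38123 = n39358 := rfl
theorem F182138 : act 0 n39358 = n38853 := d8_1 D39358 (iv D38853) (iv F176628)
theorem F182139 : act 2 n39358 = n38386 := d23_1 D39358 F182137 (iv D39357)
theorem F182140 : act 3 n39358 = n38124 := d29_1 D39358 (iv D38124) D38123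
theorem F182141 : act 5 n39358 = n38219 := d38_1 D39358 F177159 (iv F176629)
theorem F182142 : act 6 n39358 = n39358 := d41_1 D39358 (iv D39358) F176630
theorem F182143 : act 7 n39358 = n38448 := d43_1 D39358 F178298 (iv F176631)
theorem F182144 : act 8 n38220 = n39358 := d42_0 F182143 F178297 (iv F177164)
def n39359 : Q := act 6 n38126
theorem D39359 : act 6 n38126 = n39359 := rfl
theorem F182145 : act 0 n39359 = n38133 := d5_1 D39359 (iv D38133) (iv F176647)
theorem F182146 : act 1 n39359 = n38854 := d13_1 D39359 (iv D38854) (iv F176648)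
theorem F182147 : act 3 n39359 = n38127 := d26_1 D39359 (iv D38127) (iv F176649)
theorem F182148 : act 4 n39359 = n38213 := d31_1 D39359 (iv D38213) (iv F176650)
def n39360 : Q := act 5 n38127
theorem D39360 : act 5 n38127 = n39360 := rfl
theorem F182149 : act 0 n39360 = n38135 := d4_1 D39360 (iv D38135) (iv F176652)
theorem F182150 : act 1 n39360 = n38855 := d12_1 D39360 (iv D38855) (iv F176653)
theorem F182151 : act 2 n39360 = n38403 := d19_1 D39360 F178107 (iv F176654)
theorem F182152 : act 4 n39360 = n38570 := d30_1 D39360 F178851 F172859 (iv F170081) (iv F176655)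
theorem F182153 : act 6 n39360 = n38398 := d35_2 D38127 D39360 (iv D38398) F171839 (iv F170071)
def n39361 : Q := act 8 n38127
theorem D39361 : act 8 n38127 = n39361 := rfl
theorem F182154 : act 0 n39361 = n38136 := d7_1 D39361 (iv D38136) (iv F176652)
theorem F182155 : act 1 n39361 = n38856 := d15_1 D39361 (iv D38856) (iv F176653)
theorem F182156 : act 2 n39361 = n38359 := d22_1 D39361 F177908 (iv F176654)
theorem F182157 : act 4 n39361 = n38129 := d33_1 D39361 (iv D38129) (iv F176655)
theorem F182158 : act 6 n39361 = n38128 := d40_1 D39361 (iv D38128) D38127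
def n39362 : Q := act 9 n38129
theorem D39362 : act 9 n38129 = n39362 := rfl
theorem F182159 : act 0 n39362 = n38139 := d8_1 D39362 (iv D38139) (iv F176662)
theorem F182160 : act 1 n39362 = n38202 := d16_1 D39362 F177060 (iv F176663)
theorem F182161 : act 2 n39362 = n38547 := d23_1 D39362 (iv D38547) (iv F176664)
theorem F182162 : act 3 n39362 = n38199 := d29_1 D39362 F177041 (iv F176665)
theorem F182163 : act 5 n39362 = n38681 := d38_1 D39362 F179183 (iv F176666)
theorem F182164 : act 6 n39362 = n38130 := d41_1 D39362 (iv D38130) (iv F176667)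
theorem F182165 : act 7 n39362 = n38216 := d43_1 D39362 (iv F181675) F181674
theorem F182166 : act 8 n39362 = n38198 := d44_1 D39362 F181984 (iv D39328) F176484 D38129
def n39363 : Q := act 6 n38131
theorem D39363 : act 6 n38131 = n39363 := rfl
theorem F182167 : act 1 n39363 = n38449 := d13_1 D39363 (iv D38449) (iv F176675)
theorem F182168 : act 2 n39363 = n38133 := d20_1 D39363 (iv D38133) (iv F176676)
theorem F182169 : act 3 n39363 = n38794 := d26_1 D39363 (iv D38794) (iv F176677)
theorem F182170 : act 4 n39363 = n38214 := d31_1 D39363 (iv D38214) (iv F176678)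
theorem F182171 : act 9 n39363 = n38860 := d41_2 (iv F176680) D39363 (iv D38860)
def n39364 : Q := act 8 n38131
theorem D39364 : act 8 n38131 = n39364 := rfl
theorem F182172 : act 0 n39364 = n38952 := d7_1 D39364 (iv F181752) F181746
theorem F182173 : act 1 n39364 = n38450 := d15_1 D39364 (iv D38450) (iv F176675)
theorem F182174 : act 2 n39364 = n38134 := d22_1 D39364 (iv D38134) (iv F176676)
theorem F182175 : act 3 n39364 = n38776 := d28_1 D39364 F179561 (iv F176677)
theorem F182176 : act 4 n39364 = n38215 := d33_1 D39364 (iv D38215) (iv F176678)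
theorem F182177 : act 5 n39364 = n38773 := d37_1 D39364 (iv D38773) F173687 D37502 (iv F176679)
theorem F182178 : act 7 n39364 = n38132 := d42_1 D39364 (iv D38132) D38131
theorem F182179 : act 9 n39364 = n38361 := d44_2 (iv F176680) D39364 F177915 (iv F177846) F177845
def n39365 : Q := act 5 n38133
theorem D39365 : act 5 n38133 = n39365 := rfl
theorem F182180 : act 1 n39365 = n38140 := d12_1 D39365 (iv D38140) (iv F176689)
theorem F182181 : act 3 n39365 = n38135 := d25_1 D39365 (iv D38135) (iv F176690)
theorem F182182 : act 6 n39365 = n38980 := d35_2 D38133 D39365 (iv D38980) F174422 (iv F170103)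
def n39366 : Q := act 8 n38133
theorem D39366 : act 8 n38133 = n39366 := rfl
theorem F182183 : act 1 n39366 = n38141 := d15_1 D39366 (iv D38141) (iv F176689)
theorem F182184 : act 3 n39366 = n38136 := d28_1 D39366 (iv D38136) (iv F176690)
theorem F182185 : act 4 n39366 = n38216 := d33_1 D39366 (iv D38216) (iv F176691)
theorem F182186 : act 6 n39366 = n38134 := d40_1 D39366 (iv D38134) D38133
def n39367 : Q := act 8 n38135
theorem D39367 : act 8 n38135 = n39367 := rfl
theorem F182187 : act 1 n39367 = n38146 := d15_1 D39367 (iv D38146) (iv F176697)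
theorem F182188 : act 2 n39367 = n38984 := d22_1 D39367 F180139 (iv F176698)
theorem F182189 : act 6 n39367 = n38981 := d40_1 D39367 F180132 (iv F176699)
def n39368 : Q := act 5 n38136
theorem D39368 : act 5 n38136 = n39368 := rfl
theorem F182190 : act 1 n39368 = n38147 := d12_1 D39368 (iv D38147) (iv F176700)
theorem F182191 : act 2 n39368 = n38947 := d19_1 D39368 F180052 (iv F176701)
theorem F182192 : act 6 n39368 = n38940 := d35_2 (iv F176703) D39368 (iv D38940) F174320 (iv F170114)
def n39369 : Q := act 9 n38136
theorem D39369 : act 9 n38136 = n39369 := rfl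
theorem F182193 : act 1 n39369 = n38148 := d16_1 D39369 (iv D38148) (iv F176700)
theorem F182194 : act 2 n39369 = n38950 := d23_1 D39369 (iv D38950) (iv F176701)
theorem F182195 : act 4 n39369 = n38139 := d34_1 D39369 (iv D38139) (iv F176702)
theorem F182196 : act 6 n39369 = n38137 := d41_1 D39369 (iv D38137) (iv F176703)
def n39370 : Q := act 4 n38138
theorem D39370 : act 4 n38138 = n39370 := rfl
theorem F182197 : act 0 n39370 = n38893 := d3_1 D39370 F179910 (iv F176709)
theorem F182198 : act 1 n39370 = n38154 := d11_1 D39370 (iv D38154) (iv F176710)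
theorem F182199 : act 2 n39370 = n39048 := d18_1 D39370 F180266 (iv F176711)
theorem F182200 : act 6 n39370 = n38172 := d31_2 (iv F176713) D39370 (iv D38172)
theorem F182201 : act 8 n39370 = n38182 := d33_2 (iv F176714) D39370 F176929
def n39371 : Q := act 9 n38138
theorem D39371 : act 9 n38138 = n39371 := rfl
theorem F182202 : act 0 n39371 = n38681 := d8_1 D39371 F179183 (iv F176709)
theorem F182203 : act 1 n39371 = n38155 := d16_1 D39371 (iv D38155) (iv F176710)
theorem F182204 : act 2 n39371 = n39051 := d23_1 D39371 (iv D39051) (iv F176711)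
theorem F182205 : act 3 n39371 = n38187 := d29_1 D39371 (iv D38187) (iv F176712)
theorem F182206 : act 5 n39371 = n38139 := d38_1 D39371 (iv D38139) D38138
theorem F182207 : act 6 n39371 = n38173 := d41_1 D39371 (iv D38173) (iv F176713)
theorem F182208 : act 8 n39371 = n38957 := d44_1 D39371 (iv D38957) (iv F175750) F175751 (iv F176714)
def n39372 : Q := act 4 n38140
theorem D39372 : act 4 n38140 = n39372 := rfl
theorem F182209 : act 0 n39372 = n38862 := d3_1 D39372 (iv D38862) (iv F176719)
theorem F182210 : act 2 n39372 = n38460 := d18_1 D39372 (iv D38460) (iv F176720)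
theorem F182211 : act 5 n39372 = n38218 := d30_2 D38140 D39372 (iv D38218) (iv D36827) (iv F170132)
def n39373 : Q := act 8 n38140
theorem D39373 : act 8 n38140 = n39373 := rfl
theorem F182212 : act 0 n39373 = n38863 := d7_1 D39373 (iv D38863) (iv F176719)
theorem F182213 : act 2 n39373 = n38461 := d22_1 D39373 (iv D38461) (iv F176720)
theorem F182214 : act 3 n39373 = n38146 := d28_1 D39373 (iv D38146) (iv F176721)
def n39374 : Q := act 5 n38141
theorem D39374 : act 5 n38141 = n39374 := rfl
theorem F182215 : act 0 n39374 = n38864 := d4_1 D39374 (iv D38864) (iv F176722)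
theorem F182216 : act 2 n39374 = n38462 := d19_1 D39374 (iv D38462) (iv F176723)
theorem F182217 : act 3 n39374 = n38147 := d25_1 D39374 (iv D38147) (iv F176724)
def n39375 : Q := act 9 n38141
theorem D39375 : act 9 n38141 = n39375 := rfl
theorem F182218 : act 0 n39375 = n38787 := d8_1 D39375 F179597 (iv F176722)
theorem F182219 : act 2 n39375 = n38463 := d23_1 D39375 (iv D38463) (iv F176723)
theorem F182220 : act 3 n39375 = n38148 := d29_1 D39375 (iv D38148) (iv F176724)
theorem F182221 : act 4 n39375 = n38221 := d34_1 D39375 (iv D38221) (iv F176725)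
theorem F182222 : act 6 n39375 = n38143 := d41_1 D39375 (iv D38143) (iv F176726)
theorem F182223 : act 7 n39375 = n38856 := d43_1 D39375 (iv F181745) F181744
theorem F182224 : act 8 n39375 = n38784 := d44_1 D39375 F182031 (iv D39336) F176529 D38141
def n39376 : Q := act 6 n38142
theorem D39376 : act 6 n38142 = n39376 := rfl
theorem F182225 : act 0 n39376 = n38865 := d5_1 D39376 (iv D38865) (iv F176727)
theorem F182226 : act 1 n39376 = n38937 := d13_1 D39376 F180033 (iv F176728)
theorem F182227 : act 2 n39376 = n38464 := d20_1 D39376 (iv D38464) (iv F176729)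
theorem F182228 : act 3 n39376 = n38149 := d26_1 D39376 (iv D38149) (iv F176730)
theorem F182229 : act 4 n39376 = n39376 := d31_1 D39376 (iv D39376) F176731
theorem F182230 : act 8 n39376 = n38934 := d40_2 (iv F176733) D39376 (iv D38934)
def n39377 : Q := act 9 n38142
theorem D39377 : act 9 n38142 = n39377 := rfl
theorem F182231 : act 0 n39377 = n38325 := d8_1 D39377 F177772 (iv F176727)
theorem F182232 : act 1 n39377 = n38938 := d16_1 D39377 (iv D38938) (iv F176728)
theorem F182233 : act 2 n39377 = n38323 := d23_1 D39377 F177762 (iv F176729)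
theorem F182234 : act 3 n39377 = n38150 := d29_1 D39377 (iv D38150) (iv F176730)
theorem F182235 : act 4 n39377 = n39377 := d34_1 D39377 (iv D39377) F176731
theorem F182236 : act 5 n39377 = n38143 := d38_1 D39377 (iv D38143) D38142
theorem F182237 : act 7 n39377 = n38145 := d43_1 D39377 (iv D38145) (iv F176732)
theorem F182238 : act 8 n39377 = n38973 := d44_1 D39377 (iv D38973) (iv F179448) F179449 (iv F176733)
def n39378 : Q := act 7 n38144
theorem D39378 : act 7 n38144 = n39378 := rfl
theorem F182239 : act 0 n39378 = n38866 := d6_1 D39378 (iv D38866) (iv F176740)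
theorem F182240 : act 1 n39378 = n38612 := d14_1 D39378 F178990 (iv F176741)
theorem F182241 : act 2 n39378 = n38465 := d21_1 D39378 (iv D38465) (iv F176742)
theorem F182242 : act 3 n39378 = n38151 := d27_1 D39378 (iv D38151) (iv F176743)
theorem F182243 : act 4 n39378 = n39378 := d32_1 D39378 (iv D39378) F176744
theorem F182244 : act 5 n39378 = n38951 := d36_1 D39378 F180060 (iv F176745)
theorem F182245 : act 8 n39378 = n38609 := d42_2 (iv F176746) D39378 (iv D38609)
theorem F182246 : act 9 n39378 = n38972 := d43_2 F176747 D39378 F180107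
def n39379 : Q := act 5 n38146
theorem D39379 : act 5 n38146 = n39379 := rfl
theorem F182247 : act 0 n39379 = n38867 := d4_1 D39379 (iv D38867) (iv F176756)
theorem F182248 : act 2 n39379 = n38156 := d19_1 D39379 (iv D38156) (iv F176757)
theorem F182249 : act 8 n39379 = n38147 := d37_2 D38146 D39379 (iv D38147) (iv D36716) D36715
def n39380 : Q := act 9 n38146
theorem D39380 : act 9 n38146 = n39380 := rfl
theorem F182250 : act 0 n39380 = n38868 := d8_1 D39380 (iv D38868) (iv F176756)
theorem F182251 : act 2 n39380 = n38157 := d23_1 D39380 (iv D38157) (iv F176757)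
def n39381 : Q := act 4 n38147
theorem D39381 : act 4 n38147 = n39381 := rfl
theorem F182252 : act 0 n39381 = n38869 := d3_1 D39381 (iv D38869) (iv F176758)
theorem F182253 : act 2 n39381 = n38158 := d18_1 D39381 (iv D38158) (iv F176759)
theorem F182254 : act 5 n39381 = n38154 := d30_2 D38147 D39381 (iv D38154) (iv D36721) (iv F170154)
def n39382 : Q := act 6 n38147
theorem D39382 : act 6 n38147 = n39382 := rfl
theorem F182255 : act 0 n39382 = n38870 := d5_1 D39382 (iv D38870) (iv F176758)
theorem F182256 : act 1 n39382 = n38940 := d13_1 D39382 (iv F182192) F182190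
theorem F182257 : act 2 n39382 = n38159 := d20_1 D39382 (iv D38159) (iv F176759)
theorem F182258 : act 5 n39382 = n38149 := d35_1 D39382 (iv D38149) (iv D36717) (iv F170155) D38147
def n39383 : Q := act 9 n38147
theorem D39383 : act 9 n38147 = n39383 := rfl
theorem F182259 : act 0 n39383 = n38871 := d8_1 D39383 (iv D38871) (iv F176758)
theorem F182260 : act 2 n39383 = n38160 := d23_1 D39383 (iv D38160) (iv F176759)
theorem F182261 : act 5 n39383 = n38148 := d38_1 D39383 (iv D38148) D38147
def n39384 : Q := act 7 n38149
theorem D39384 : act 7 n38149 = n39384 := rfl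
theorem F182262 : act 0 n39384 = n38872 := d6_1 D39384 (iv D38872) (iv F176764)
theorem F182263 : act 1 n39384 = n38614 := d14_1 D39384 F178997 (iv F176765)
theorem F182264 : act 2 n39384 = n38161 := d21_1 D39384 (iv D38161) (iv F176766)
theorem F182265 : act 4 n39384 = n38176 := d32_1 D39384 (iv D38176) (iv F176767)
theorem F182266 : act 6 n39384 = n38151 := d39_1 D39384 (iv D38151) (iv D36719) (iv F170160) D38149
theorem F182267 : act 8 n39384 = n38610 := d42_2 (iv F176768) D39384 F178984
def n39385 : Q := act 9 n38149
theorem D39385 : act 9 n38149 = n39385 := rfl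
theorem F182268 : act 0 n39385 = n38449 := d8_1 D39385 F178301 (iv F176764)
theorem F182269 : act 1 n39385 = n38941 := d16_1 D39385 (iv D38941) (iv F176765)
theorem F182270 : act 2 n39385 = n38162 := d23_1 D39385 (iv D38162) (iv F176766)
theorem F182271 : act 4 n39385 = n38177 := d34_1 D39385 (iv D38177) (iv F176767)
theorem F182272 : act 6 n39385 = n38150 := d41_1 D39385 (iv D38150) D38149
def n39386 : Q := act 8 n38150
theorem D39386 : act 8 n38150 = n39386 := rfl
theorem F182273 : act 0 n39386 = n38450 := d7_1 D39386 (iv D38450) (iv F176769)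
theorem F182274 : act 1 n39386 = n38629 := d15_1 D39386 F179051 (iv F176770)
theorem F182275 : act 2 n39386 = n38163 := d22_1 D39386 (iv D38163) (iv F176771)
theorem F182276 : act 3 n39386 = n38973 := d28_1 D39386 (iv F182238) F182234
theorem F182277 : act 4 n39386 = n38178 := d33_1 D39386 (iv D38178) (iv F176772)
theorem F182278 : act 5 n39386 = n38848 := d37_1 D39386 (iv F182056) F182054 F176556 (iv F176773)
theorem F182279 : act 7 n39386 = n38153 := d42_1 D39386 (iv D38153) (iv F176774)
theorem F182280 : act 9 n39386 = n38739 := d44_2 D38150 D39386 F179406 F174282 (iv F170161)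
def n39387 : Q := act 9 n38151
theorem D39387 : act 9 n38151 = n39387 := rfl
theorem F182281 : act 0 n39387 = n38387 := d8_1 D39387 F178038 (iv F176775)
theorem F182282 : act 1 n39387 = n38616 := d16_1 D39387 (iv D38616) (iv F176776)
theorem F182283 : act 2 n39387 = n38164 := d23_1 D39387 (iv D38164) (iv F176777)
theorem F182284 : act 3 n39387 = n38972 := d29_1 D39387 (iv F182246) F182242
theorem F182285 : act 4 n39387 = n38179 := d34_1 D39387 (iv D38179) (iv F176778)
theorem F182286 : act 5 n39387 = n38806 := d38_1 D39387 (iv F181785) F181783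
theorem F182287 : act 7 n39387 = n38152 := d43_1 D39387 (iv D38152) D38151
theorem F182288 : act 8 n39387 = n38563 := d44_1 D39387 F178835 (iv F175496) F175497 (iv F176779)
def n39388 : Q := act 3 n38154
theorem D39388 : act 3 n38154 = n39388 := rfl
theorem F182289 : act 0 n39388 = n38873 := d2_1 D39388 (iv D38873) (iv F176796)
theorem F182290 : act 4 n39388 = n38167 := d24_2 D38154 D39388 F176844 F170226 (iv F170178)
theorem F182291 : act 6 n39388 = n38180 := d26_2 (iv F176798) D39388 (iv D38180)
theorem F182292 : act 8 n39388 = n38166 := d28_2 F181345 D39388 (iv F181343)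
def n39389 : Q := act 9 n38154
theorem D39389 : act 9 n38154 = n39389 := rfl
theorem F182293 : act 0 n39389 = n38874 := d8_1 D39389 (iv D38874) (iv F176796)
theorem F182294 : act 2 n39389 = n38166 := d23_1 D39389 (iv D38166) (iv F176797)
theorem F182295 : act 4 n39389 = n38155 := d34_1 D39389 (iv D38155) D38154
theorem F182296 : act 6 n39389 = n38181 := d41_1 D39389 (iv D38181) (iv F176798)
def n39390 : Q := act 4 n38156
theorem D39390 : act 4 n38156 = n39390 := rfl
theorem F182297 : act 0 n39390 = n38875 := d3_1 D39390 (iv D38875) (iv F176804)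
theorem F182298 : act 8 n39390 = n38158 := d33_2 (iv F176806) D39390 (iv D38158)
def n39391 : Q := act 6 n38156
theorem D39391 : act 6 n38156 = n39391 := rfl
theorem F182299 : act 0 n39391 = n38876 := d5_1 D39391 (iv D38876) (iv F176804)
theorem F182300 : act 3 n39391 = n38473 := d26_1 D39391 (iv D38473) (iv F176805)
theorem F182301 : act 8 n39391 = n38159 := d40_2 (iv F176806) D39391 (iv D38159)
def n39392 : Q := act 9 n38156
theorem D39392 : act 9 n38156 = n39392 := rfl
theorem F182302 : act 0 n39392 = n38877 := d8_1 D39392 (iv D38877) (iv F176804)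
theorem F182303 : act 3 n39392 = n38474 := d29_1 D39392 (iv D38474) (iv F176805)
theorem F182304 : act 5 n39392 = n38157 := d38_1 D39392 (iv D38157) D38156
def n39393 : Q := act 3 n38158
theorem D39393 : act 3 n38158 = n39393 := rfl
theorem F182305 : act 0 n39393 = n38878 := d2_1 D39393 (iv D38878) (iv F176809)
theorem F182306 : act 4 n39393 = n38475 := d24_2 D38158 D39393 (iv D38475) (iv D37114) (iv F170187)
theorem F182307 : act 5 n39393 = n38165 := d25_2 (iv F176810) D39393 (iv D38165)
def n39394 : Q := act 6 n38158
theorem D39394 : act 6 n38158 = n39394 := rfl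
theorem F182308 : act 0 n39394 = n38879 := d5_1 D39394 (iv D38879) (iv F176809)
theorem F182309 : act 4 n39394 = n38159 := d31_1 D39394 (iv D38159) D38158
theorem F182310 : act 5 n39394 = n38182 := d35_1 D39394 (iv D38182) F170325 (iv F170216) (iv F176810)
def n39395 : Q := act 9 n38158
theorem D39395 : act 9 n38158 = n39395 := rfl
theorem F182311 : act 0 n39395 = n38880 := d8_1 D39395 (iv D38880) (iv F176809)
theorem F182312 : act 4 n39395 = n38160 := d34_1 D39395 (iv D38160) D38158
theorem F182313 : act 5 n39395 = n38166 := d38_1 D39395 (iv D38166) (iv F176810)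
def n39396 : Q := act 7 n38159
theorem D39396 : act 7 n38159 = n39396 := rfl
theorem F182314 : act 0 n39396 = n38881 := d6_1 D39396 (iv D38881) (iv F176811)
theorem F182315 : act 3 n39396 = n38476 := d27_1 D39396 (iv D38476) (iv F176812)
theorem F182316 : act 5 n39396 = n38161 := d36_1 D39396 (iv D38161) (iv F176813)
def n39397 : Q := act 9 n38159
theorem D39397 : act 9 n38159 = n39397 := rfl
theorem F182317 : act 0 n39397 = n38451 := d8_1 D39397 F178308 (iv F176811)
theorem F182318 : act 1 n39397 = n38475 := d16_1 D39397 F181284 F181280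
theorem F182319 : act 3 n39397 = n38339 := d29_1 D39397 (iv F177824) (iv F176812)
theorem F182320 : act 5 n39397 = n38162 := d38_1 D39397 (iv D38162) (iv F176813)
theorem F182321 : act 6 n39397 = n38160 := d41_1 D39397 (iv D38160) D38159
def n39398 : Q := act 8 n38160
theorem D39398 : act 8 n38160 = n39398 := rfl
theorem F182322 : act 0 n39398 = n38882 := d7_1 D39398 (iv D38882) (iv F176814)
theorem F182323 : act 3 n39398 = n38477 := d28_1 D39398 (iv D38477) (iv F176815)
def n39399 : Q := act 9 n38161
theorem D39399 : act 9 n38161 = n39399 := rfl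
theorem F182324 : act 0 n39399 = n38388 := d8_1 D39399 F178043 (iv F176817)
theorem F182325 : act 1 n39399 = n38408 := d16_1 D39399 (iv F181297) F181291
theorem F182326 : act 3 n39399 = n38291 := d29_1 D39399 F177602 (iv F176818)
theorem F182327 : act 4 n39399 = n38184 := d34_1 D39399 (iv D38184) (iv F176819)
theorem F182328 : act 6 n39399 = n38164 := d41_1 D39399 (iv D38164) (iv F176820)
theorem F182329 : act 7 n39399 = n38162 := d43_1 D39399 (iv D38162) D38161
theorem F182330 : act 8 n38564 = n39399 := d40_0 F182328 (iv F176836) D38564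
def n39400 : Q := act 8 n38162
theorem D39400 : act 8 n38162 = n39400 := rfl
theorem F182331 : act 0 n39400 = n38452 := d7_1 D39400 (iv D38452) (iv F176821)
theorem F182332 : act 1 n39400 = n38429 := d15_1 D39400 F178214 (iv F176822)
theorem F182333 : act 3 n39400 = n38309 := d28_1 D39400 F177702 (iv F176823)
theorem F182334 : act 4 n39400 = n38185 := d33_1 D39400 (iv D38185) (iv F176824)
theorem F182335 : act 6 n39400 = n38163 := d40_1 D39400 (iv D38163) (iv F176825)
theorem F182336 : act 7 n39400 = n38564 := d42_1 D39400 F182330 F182329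
def n39401 : Q := act 2 n38168
theorem D39401 : act 2 n38168 = n39401 := rfl
theorem F182337 : act 0 n39401 = n38886 := d1_1 D39401 (iv D38886) (iv F176846)
theorem F182338 : act 3 n39401 = n38181 := d17_2 D38168 D39401 F176925 (iv F175773) F175772
theorem F182339 : act 4 n39401 = n38170 := d18_2 (iv F176848) D39401 F176858
theorem F182340 : act 7 n39401 = n39401 := d21_2 F176849 D39401 (iv D39401)
theorem F182341 : act 8 n39401 = n38169 := d22_2 (iv F176850) D39401 F176853
theorem F182342 : act 1 n39057 = n39401 := d15_3 F182341 F176852 D39057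
theorem F182343 : act 9 n38180 = n39401 := d44_0 F182341 (iv D38169) F170231 D36758 (iv F176923)
def n39402 : Q := act 9 n38168
theorem D39402 : act 9 n38168 = n39402 := rfl
theorem F182344 : act 0 n39402 = n38887 := d8_1 D39402 (iv D38887) (iv F176846)
theorem F182345 : act 1 n39402 = n39056 := d16_1 D39402 (iv D39056) (iv F176847)
theorem F182346 : act 2 n39402 = n38180 := d23_1 D39402 F182343 (iv D39401)
theorem F182347 : act 3 n39402 = n38169 := d29_1 D39402 (iv D38169) D38168
theorem F182348 : act 4 n39402 = n38171 := d34_1 D39402 (iv D38171) (iv F176848)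
theorem F182349 : act 7 n39402 = n39402 := d43_1 D39402 (iv D39402) F176849
theorem F182350 : act 8 n39402 = n38181 := d44_1 D39402 (iv D38181) (iv F175776) F175777 (iv F176850)
def n39403 : Q := act 9 n38172
theorem D39403 : act 9 n38172 = n39403 := rfl
theorem F182351 : act 0 n39403 = n38696 := d8_1 D39403 F179237 (iv F176870)
theorem F182352 : act 1 n39403 = n38181 := d16_1 D39403 (iv D38181) (iv F176871)
theorem F182353 : act 2 n39403 = n39049 := d23_1 D39403 (iv D39049) (iv F176872)
theorem F182354 : act 3 n39403 = n39057 := d29_1 D39403 (iv F181368) F181364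
theorem F182355 : act 4 n39403 = n38173 := d34_1 D39403 (iv D38173) D38172
theorem F182356 : act 5 n39403 = n39045 := d38_1 D39403 (iv D39045) (iv F176873)
theorem F182357 : act 7 n39403 = n39403 := d43_1 D39403 (iv D39403) F176874
theorem F182358 : act 8 n39403 = n39056 := d44_1 D39403 (iv D39056) (iv F175797) (iv F175798) (iv F176875)
def n39404 : Q := act 3 n38174
theorem D39404 : act 3 n38174 = n39404 := rfl
theorem F182359 : act 0 n39404 = n38890 := d2_1 D39404 (iv D38890) (iv F176883)
theorem F182360 : act 1 n39404 = n39044 := d10_1 D39404 (iv D39044) (iv F176884)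
theorem F182361 : act 4 n39404 = n39404 := d24_2 D38174 D39404 (iv D39404) (iv D38174) F170282
theorem F182362 : act 5 n39404 = n38180 := d25_2 (iv F176886) D39404 (iv D38180)
theorem F182363 : act 7 n39404 = n39404 := d27_2 F176887 D39404 (iv D39404)
theorem F182364 : act 8 n39404 = n39047 := d28_2 (iv F176888) D39404 (iv D39047)
def n39405 : Q := act 6 n38174
theorem D39405 : act 6 n38174 = n39405 := rfl
theorem F182365 : act 0 n39405 = n38891 := d5_1 D39405 (iv D38891) (iv F176883)
theorem F182366 : act 1 n39405 = n38942 := d13_1 D39405 F180044 (iv F176884)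
theorem F182367 : act 2 n39405 = n38182 := d20_1 D39405 (iv D38182) (iv F176885)
theorem F182368 : act 4 n39405 = n38175 := d31_1 D39405 (iv D38175) D38174
theorem F182369 : act 8 n39405 = n39048 := d40_2 (iv F176888) D39405 (iv D39048)
def n39406 : Q := act 7 n38175
theorem D39406 : act 7 n38175 = n39406 := rfl
theorem F182370 : act 0 n39406 = n38892 := d6_1 D39406 (iv D38892) (iv F176889)
theorem F182371 : act 1 n39406 = n38617 := d14_1 D39406 F179009 (iv F176890)
theorem F182372 : act 2 n39406 = n38183 := d21_1 D39406 (iv D38183) (iv F176891)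
theorem F182373 : act 3 n39406 = n39406 := d27_1 D39406 (iv D39406) F176892
theorem F182374 : act 5 n39406 = n38176 := d36_1 D39406 (iv D38176) (iv F176893)
theorem F182375 : act 6 n39406 = n39406 := d39_1 D39406 (iv D39406) (iv D38175) F170283 D38175
theorem F182376 : act 8 n39406 = n39050 := d42_2 (iv F176894) D39406 (iv D39050)
def n39407 : Q := act 9 n38176
theorem D39407 : act 9 n38176 = n39407 := rfl
theorem F182377 : act 0 n39407 = n38481 := d8_1 D39407 F178411 (iv F176895)
theorem F182378 : act 1 n39407 = n38618 := d16_1 D39407 (iv D38618) (iv F176896)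
theorem F182379 : act 2 n39407 = n38184 := d23_1 D39407 (iv D38184) (iv F176897)
theorem F182380 : act 3 n39407 = n39407 := d29_1 D39407 (iv D39407) F176898
theorem F182381 : act 6 n39407 = n38179 := d41_1 D39407 (iv D38179) (iv F176899)
theorem F182382 : act 7 n39407 = n38177 := d43_1 D39407 (iv D38177) D38176
theorem F182383 : act 8 n39407 = n38574 := d44_1 D39407 F178864 (iv F175504) F175505 (iv F176900)
def n39408 : Q := act 8 n38177
theorem D39408 : act 8 n38177 = n39408 := rfl
theorem F182384 : act 0 n39408 = n38498 := d7_1 D39408 (iv D38498) (iv F176901)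
theorem F182385 : act 1 n39408 = n38703 := d15_1 D39408 F179261 (iv F176902)
theorem F182386 : act 2 n39408 = n38185 := d22_1 D39408 (iv D38185) (iv F176903)
theorem F182387 : act 3 n39408 = n39408 := d28_1 D39408 (iv D39408) F176904
theorem F182388 : act 6 n39408 = n38178 := d40_1 D39408 (iv D38178) (iv F176905)
theorem F182389 : act 7 n39408 = n38574 := d42_1 D39408 (iv F182383) F182382
theorem F182390 : act 9 n39408 = n38768 := d44_2 D38177 D39408 F179532 F174286 (iv F170289)
def n39409 : Q := act 7 n38182
theorem D39409 : act 7 n38182 = n39409 := rfl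
theorem F182391 : act 0 n39409 = n38895 := d6_1 D39409 (iv D38895) (iv F176928)
theorem F182392 : act 4 n39409 = n38183 := d32_1 D39409 (iv D38183) (iv F176929)
theorem F182393 : act 6 n39409 = n39409 := d39_1 D39409 (iv D39409) (iv D38182) F170326 D38182
def n39410 : Q := act 5 n38185
theorem D39410 : act 5 n38185 = n39410 := rfl
theorem F182394 : act 0 n39410 = n38501 := d4_1 D39410 (iv D38501) (iv F176940)
theorem F182395 : act 1 n39410 = n38421 := d12_1 D39410 F178180 (iv F176941)
theorem F182396 : act 3 n39410 = n38188 := d25_1 D39410 (iv D38188) (iv F176942)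
theorem F182397 : act 6 n39410 = n39410 := d35_2 (iv F176943) D39410 (iv D39410) F176943 F170340
theorem F182398 : act 7 n39410 = n38575 := d36_2 (iv F176944) D39410 (iv D38575)
theorem F182399 : act 8 n39410 = n38783 := d37_2 D38185 D39410 F179577 (iv F175750) F175748
def n39411 : Q := act 9 n38186
theorem D39411 : act 9 n38186 = n39411 := rfl
theorem F182400 : act 0 n39411 = n38217 := d8_1 D39411 F177151 (iv F176945)
theorem F182401 : act 1 n39411 = n38204 := d16_1 D39411 (iv D38204) (iv F176946)
theorem F182402 : act 2 n39411 = n39411 := d23_1 D39411 (iv D39411) F176947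
theorem F182403 : act 4 n39411 = n38628 := d34_1 D39411 (iv F181233) F181229
theorem F182404 : act 5 n39411 = n38200 := d38_1 D39411 (iv D38200) (iv F176948)
theorem F182405 : act 6 n39411 = n39411 := d41_1 D39411 (iv D39411) F176949
theorem F182406 : act 7 n39411 = n38187 := d43_1 D39411 (iv D38187) D38186
theorem F182407 : act 8 n39411 = n38627 := d44_1 D39411 (iv D38627) (iv F175665) (iv F175666) (iv F176950)
def n39412 : Q := act 5 n38192
theorem D39412 : act 5 n38192 = n39412 := rfl
theorem F182408 : act 0 n39412 = n38834 := d4_1 D39412 (iv D38834) (iv F176988)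
theorem F182409 : act 2 n39412 = n38479 := d19_1 D39412 (iv D38479) (iv F176989)
theorem F182410 : act 3 n39412 = n38193 := d25_1 D39412 (iv D38193) (iv F176990)
theorem F182411 : act 6 n39412 = n39412 := d35_2 D38192 D39412 (iv D39412) (iv D38192) F170440
theorem F182412 : act 7 n39412 = n38208 := d36_2 (iv F176991) D39412 (iv D38208)
theorem F182413 : act 8 n39412 = n38506 := d37_2 (iv F176992) D39412 F178541 (iv F178495) F178492
theorem F182414 : act 9 n39412 = n38201 := d38_2 (iv F176993) D39412 (iv D38201)
def n39413 : Q := act 6 n38197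
theorem D39413 : act 6 n38197 = n39413 := rfl
theorem F182415 : act 0 n39413 = n39054 := d5_1 D39413 F180285 (iv F177025)
theorem F182416 : act 1 n39413 = n38481 := d13_1 D39413 (iv D38481) (iv F177026)
theorem F182417 : act 2 n39413 = n38198 := d20_1 D39413 (iv D38198) (iv F177027)
theorem F182418 : act 3 n39413 = n39413 := d26_1 D39413 (iv D39413) F177028
theorem F182419 : act 7 n39413 = n38214 := d39_2 D38197 D39413 (iv D38214) (iv D36821) (iv F170502)
theorem F182420 : act 8 n39413 = n38547 := d40_2 (iv F177030) D39413 F178771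
theorem F182421 : act 9 n39413 = n38552 := d41_2 (iv F177031) D39413 F178794
def n39414 : Q := act 4 n38201
theorem D39414 : act 4 n38201 = n39414 := rfl
theorem F182422 : act 0 n39414 = n38897 := d3_1 D39414 (iv D38897) (iv F177050)
theorem F182423 : act 2 n39414 = n38487 := d18_1 D39414 (iv D38487) (iv F177051)
theorem F182424 : act 6 n39414 = n39414 := d31_2 F177053 D39414 (iv D39414)
theorem F182425 : act 7 n39414 = n38218 := d32_2 (iv F177054) D39414 (iv D38218)
def n39415 : Q := act 4 n38208
theorem D39415 : act 4 n38208 = n39415 := rfl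
theorem F182426 : act 0 n39415 = n38899 := d3_1 D39415 (iv D38899) (iv F177093)
theorem F182427 : act 2 n39415 = n38493 := d18_1 D39415 (iv D38493) (iv F177094)
theorem F182428 : act 3 n39415 = n38680 := d24_1 D39415 F179179 F173236 (iv F170668) (iv F177095)
theorem F182429 : act 6 n39415 = n38223 := d31_2 (iv F177096) D39415 (iv D38223)
theorem F182430 : act 8 n39415 = n38679 := d33_2 F177098 D39415 F179177
theorem F182431 : act 9 n39415 = n38218 := d34_2 (iv F177097) D39415 (iv D38218)
def n39416 : Q := act 3 n38210
theorem D39416 : act 3 n38210 = n39416 := rfl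
theorem F182432 : act 0 n39416 = n38900 := d2_1 D39416 (iv D38900) (iv F177106)
theorem F182433 : act 1 n39416 = n38695 := d10_1 D39416 F179231 (iv F177107)
theorem F182434 : act 2 n39416 = n38385 := d17_1 D39416 F178027 F171770 (iv F170690) (iv F177108)
theorem F182435 : act 5 n39416 = n38377 := d25_2 (iv F177109) D39416 F177998
theorem F182436 : act 6 n39416 = n39416 := d26_2 F177110 D39416 (iv D39416)
theorem F182437 : act 7 n39416 = n38437 := d27_2 (iv F177111) D39416 F178256
theorem F182438 : act 8 n39416 = n38420 := d28_2 (iv F177112) D39416 F178175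
theorem F182439 : act 9 n39416 = n38376 := d29_2 F177113 D39416 F177991
def n39417 : Q := act 6 n38212
theorem D39417 : act 6 n38212 = n39417 := rfl
theorem F182440 : act 0 n39417 = n38214 := d5_1 D39417 (iv D38214) (iv F177122)
theorem F182441 : act 1 n39417 = n38355 := d13_1 D39417 F177899 (iv F177123)
theorem F182442 : act 2 n39417 = n38213 := d20_1 D39417 (iv D38213) (iv F177124)
theorem F182443 : act 3 n39417 = n39417 := d26_1 D39417 (iv D39417) F177125
theorem F182444 : act 5 n39417 = n38700 := d35_1 D39417 (iv D38700) F173318 F170828 (iv F177126)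
theorem F182445 : act 7 n39417 = n39054 := d39_2 D38212 D39417 F180285 F174594 (iv F170724)
theorem F182446 : act 8 n39417 = n39053 := d40_2 (iv F177127) D39417 F180282
theorem F182447 : act 9 n39417 = n38348 := d41_2 (iv F177128) D39417 F177871
def n39418 : Q := act 8 n38214
theorem D39418 : act 8 n38214 = n39418 := rfl
theorem F182448 : act 0 n39418 = n39053 := d7_1 D39418 (iv F182446) F182440
theorem F182449 : act 1 n39418 = n38498 := d15_1 D39418 (iv D38498) (iv F177133)
theorem F182450 : act 2 n39418 = n38216 := d22_1 D39418 (iv D38216) (iv F177134)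
theorem F182451 : act 3 n39418 = n39418 := d28_1 D39418 (iv D39418) F177135
theorem F182452 : act 6 n39418 = n38215 := d40_1 D39418 (iv D38215) D38214
theorem F182453 : act 7 n39418 = n38547 := d42_1 D39418 (iv F182420) F182419
theorem F182454 : act 9 n39418 = n38546 := d44_2 (iv F177136) D39418 F178768 (iv F177853) F177852
def n39419 : Q := act 5 n38216
theorem D39419 : act 5 n38216 = n39419 := rfl
theorem F182455 : act 1 n39419 = n38220 := d12_1 D39419 (iv D38220) (iv F177144)
theorem F182456 : act 3 n39419 = n38217 := d25_1 D39419 (iv D38217) (iv F177145)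
theorem F182457 : act 6 n39419 = n39419 := d35_2 (iv F177146) D39419 (iv D39419) F177146 F170757
theorem F182458 : act 7 n39419 = n38681 := d36_2 F182165 D39419 (iv F182163)
theorem F182459 : act 9 n39419 = n38894 := d38_2 F181675 D39419 (iv F181672)
def n39420 : Q := act 8 n38218
theorem D39420 : act 8 n38218 = n39420 := rfl
theorem F182460 : act 0 n39420 = n38902 := d7_1 D39420 (iv D38902) (iv F177152)
theorem F182461 : act 2 n39420 = n38504 := d22_1 D39420 (iv D38504) (iv F177153)
theorem F182462 : act 3 n39420 = n38447 := d28_1 D39420 (iv F180518) F180516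
theorem F182463 : act 4 n39420 = n38219 := d33_1 D39420 (iv D38219) D38218
theorem F182464 : act 6 n39420 = n38224 := d40_1 D39420 (iv D38224) (iv F177154)
theorem F182465 : act 9 n39420 = n38446 := d44_2 F182431 D39420 F178290 D38679 (iv F182430)
def n39421 : Q := act 4 n38220
theorem D39421 : act 4 n38220 = n39421 := rfl
theorem F182466 : act 0 n39421 = n38903 := d3_1 D39421 (iv D38903) (iv F177160)
theorem F182467 : act 2 n39421 = n38505 := d18_1 D39421 (iv D38505) (iv F177161)
theorem F182468 : act 6 n39421 = n39421 := d31_2 F177163 D39421 (iv D39421)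
theorem F182469 : act 7 n39421 = n38678 := d32_2 (iv F177164) D39421 F179174
def n39422 : Q := act 9 n38220
theorem D39422 : act 9 n38220 = n39422 := rfl
theorem F182470 : act 0 n39422 = n38788 := d8_1 D39422 F179604 (iv F177160)
theorem F182471 : act 1 n39422 = n38894 := d16_1 D39422 (iv F182459) F182455
theorem F182472 : act 2 n39422 = n38506 := d23_1 D39422 (iv D38506) (iv F177161)
theorem F182473 : act 3 n39422 = n38222 := d29_1 D39422 (iv D38222) (iv F177162)
theorem F182474 : act 5 n39422 = n38221 := d38_1 D39422 (iv D38221) D38220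
theorem F182475 : act 6 n39422 = n39422 := d41_1 D39422 (iv D39422) F177163
theorem F182476 : act 7 n39422 = n38494 := d43_1 D39422 F178487 (iv F177164)
theorem F182477 : act 8 n39422 = n38479 := d44_1 D39422 F178399 (iv F176632) D39358 (iv F182144)
def n39423 : Q := act 5 n38224
theorem D39423 : act 5 n38224 = n39423 := rfl
theorem F182478 : act 0 n39423 = n38904 := d4_1 D39423 (iv D38904) (iv F177186)
theorem F182479 : act 1 n39423 = n39038 := d12_1 D39423 (iv F180906) F180904
theorem F182480 : act 2 n39423 = n38517 := d19_1 D39423 (iv D38517) (iv F177187)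
theorem F182481 : act 3 n39423 = n38531 := d25_1 D39423 F178677 (iv F177188)
theorem F182482 : act 4 n39423 = n39423 := d30_1 D39423 (iv D39423) F177189 F170835 (iv F177189)
theorem F182483 : act 7 n39423 = n39423 := d36_2 F177190 D39423 (iv D39423)
theorem F182484 : act 8 n39423 = n39035 := d37_2 D38224 D39423 F180230 (iv F174721) F174719
theorem F182485 : act 9 n39423 = n38529 := d38_2 (iv F177191) D39423 F178668
def n39424 : Q := act 6 n38225
theorem D39424 : act 6 n38225 = n39424 := rfl
theorem F182486 : act 0 n39424 = n38557 := d5_1 D39424 F178812 (iv F177192)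
theorem F182487 : act 1 n39424 = n38228 := d13_1 D39424 (iv D38228) (iv F177193)
theorem F182488 : act 2 n39424 = n38269 := d20_1 D39424 F177486 (iv F177194)
theorem F182489 : act 3 n39424 = n38838 := d26_1 D39424 (iv D38838) (iv F177195)
theorem F182490 : act 4 n39424 = n38226 := d31_1 D39424 (iv D38226) (iv F177196)
theorem F182491 : act 7 n39424 = n38258 := d39_2 D38225 D39424 (iv D38258) (iv D36877) (iv F170842)
theorem F182492 : act 8 n39424 = n38267 := d40_2 (iv F177198) D39424 (iv D38267)
theorem F182493 : act 9 n39424 = n38771 := d41_2 (iv F177199) D39424 (iv D38771)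
def n39425 : Q := act 6 n38227
theorem D39425 : act 6 n38227 = n39425 := rfl
theorem F182494 : act 0 n39425 = n38278 := d5_1 D39425 (iv D38278) (iv F177208)
theorem F182495 : act 1 n39425 = n38838 := d13_1 D39425 (iv D38838) (iv F177209)
theorem F182496 : act 2 n39425 = n38928 := d20_1 D39425 (iv D38928) (iv F177210)
theorem F182497 : act 3 n39425 = n38228 := d26_1 D39425 (iv D38228) (iv F177211)
theorem F182498 : act 4 n39425 = n39425 := d31_1 D39425 (iv D39425) F177212
theorem F182499 : act 7 n39425 = n38259 := d39_2 D38227 D39425 (iv D38259) (iv D36879) (iv F170858)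
theorem F182500 : act 9 n39425 = n38772 := d41_2 (iv F177214) D39425 (iv D38772)
def n39426 : Q := act 5 n38228
theorem D39426 : act 5 n38228 = n39426 := rfl
theorem F182501 : act 0 n39426 = n38280 := d4_1 D39426 (iv D38280) (iv F177215)
theorem F182502 : act 2 n39426 = n38231 := d19_1 D39426 (iv D38231) (iv F177216)
theorem F182503 : act 4 n39426 = n38556 := d30_1 D39426 (iv D38556) F172807 (iv F170875) (iv F177217)
theorem F182504 : act 6 n39426 = n38732 := d35_2 D38228 D39426 (iv D38732) (iv D37436) (iv F170863)
theorem F182505 : act 7 n39426 = n38260 := d36_2 (iv F177218) D39426 (iv D38260)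
theorem F182506 : act 9 n39426 = n38774 := d38_2 (iv F177219) D39426 (iv D38774)
def n39427 : Q := act 8 n38228
theorem D39427 : act 8 n38228 = n39427 := rfl
theorem F182507 : act 0 n39427 = n38281 := d7_1 D39427 (iv D38281) (iv F177215)
theorem F182508 : act 1 n39427 = n38267 := d15_1 D39427 (iv F182492) F182487
theorem F182509 : act 2 n39427 = n38232 := d22_1 D39427 (iv D38232) (iv F177216)
theorem F182510 : act 4 n39427 = n38230 := d33_1 D39427 (iv D38230) (iv F177217)
theorem F182511 : act 6 n39427 = n38229 := d40_1 D39427 (iv D38229) D38228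
theorem F182512 : act 7 n39427 = n38261 := d42_1 D39427 (iv D38261) (iv F177218)
theorem F182513 : act 9 n38587 = n39427 := d43_0 F182512 (iv F177441) (iv F178920)
def n39428 : Q := act 8 n38231
theorem D39428 : act 8 n38231 = n39428 := rfl
theorem F182514 : act 0 n39428 = n38285 := d7_1 D39428 (iv D38285) (iv F177235)
theorem F182515 : act 1 n39428 = n38562 := d15_1 D39428 (iv D38562) (iv F177236)
theorem F182516 : act 3 n39428 = n38930 := d28_1 D39428 (iv D38930) (iv F177237)
theorem F182517 : act 4 n39428 = n38558 := d33_1 D39428 (iv D38558) (iv F177238)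
theorem F182518 : act 6 n39428 = n38735 := d40_1 D39428 (iv D38735) (iv F177239)
theorem F182519 : act 7 n39428 = n38262 := d42_1 D39428 (iv D38262) (iv F177240)
def n39429 : Q := act 5 n38232
theorem D39429 : act 5 n38232 = n39429 := rfl
theorem F182520 : act 0 n39429 = n38286 := d4_1 D39429 (iv D38286) (iv F177242)
theorem F182521 : act 1 n39429 = n38367 := d12_1 D39429 (iv D38367) (iv F177243)
theorem F182522 : act 3 n39429 = n38931 := d25_1 D39429 (iv D38931) (iv F177244)
theorem F182523 : act 4 n39429 = n38390 := d30_1 D39429 (iv D38390) F171793 F170902 (iv F177245)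
theorem F182524 : act 7 n39429 = n38263 := d36_2 (iv F177247) D39429 (iv D38263)
theorem F182525 : act 9 n39429 = n38631 := d38_2 F177248 D39429 (iv D38631)
def n39430 : Q := act 7 n38233
theorem D39430 : act 7 n38233 = n39430 := rfl
theorem F182526 : act 0 n39430 = n38328 := d6_1 D39430 F177789 (iv F177249)
theorem F182527 : act 1 n39430 = n38236 := d14_1 D39430 (iv D38236) (iv F177250)
theorem F182528 : act 2 n39430 = n38973 := d21_1 D39430 F180110 (iv F177251)
theorem F182529 : act 3 n39430 = n38234 := d27_1 D39430 (iv D38234) D38233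
theorem F182530 : act 4 n39430 = n39430 := d32_1 D39430 (iv D39430) F177252
theorem F182531 : act 5 n39430 = n38299 := d36_1 D39430 F177657 (iv F177253)
theorem F182532 : act 8 n39430 = n38323 := d42_2 (iv F177255) D39430 (iv D38323)
theorem F182533 : act 9 n39430 = n38298 := d43_2 (iv F177256) D39430 F177650
def n39431 : Q := act 6 n38234
theorem D39431 : act 6 n38234 = n39431 := rfl
theorem F182534 : act 0 n39431 = n38330 := d5_1 D39431 F177798 (iv F177257)
theorem F182535 : act 1 n39431 = n38237 := d13_1 D39431 (iv D38237) (iv F177258)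
theorem F182536 : act 2 n39431 = n38309 := d20_1 D39431 F177700 (iv F177259)
theorem F182537 : act 4 n39431 = n38235 := d31_1 D39431 (iv D38235) (iv F177260)
theorem F182538 : act 7 n39431 = n38554 := d39_2 D38234 D39431 (iv D38554) (iv D37234) (iv F170908)
theorem F182539 : act 8 n39431 = n38324 := d40_2 (iv F177262) D39431 (iv D38324)
theorem F182540 : act 9 n39431 = n38308 := d41_2 (iv F177263) D39431 (iv D38308)
def n39432 : Q := act 6 n38236
theorem D39432 : act 6 n38236 = n39432 := rfl
theorem F182541 : act 0 n39432 = n38303 := d5_1 D39432 (iv D38303) (iv F177272)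
theorem F182542 : act 2 n39432 = n38588 := d20_1 D39432 (iv D38588) (iv F177273)
theorem F182543 : act 3 n39432 = n38237 := d26_1 D39432 (iv D38237) (iv F177274)
theorem F182544 : act 4 n39432 = n39432 := d31_1 D39432 (iv D39432) F177275
theorem F182545 : act 7 n39432 = n38555 := d39_2 D38236 D39432 (iv D38555) (iv D37236) (iv F170922)
theorem F182546 : act 9 n39432 = n38418 := d41_2 (iv F177277) D39432 (iv D38418)
def n39433 : Q := act 5 n38237
theorem D39433 : act 5 n38237 = n39433 := rfl
theorem F182547 : act 0 n39433 = n38304 := d4_1 D39433 (iv D38304) (iv F177278)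
theorem F182548 : act 2 n39433 = n38240 := d19_1 D39433 (iv D38240) (iv F177279)
theorem F182549 : act 4 n39433 = n38260 := d30_1 D39433 (iv D38260) F171091 (iv F170939) (iv F177280)
theorem F182550 : act 6 n39433 = n38428 := d35_2 D38237 D39433 F178208 F171967 (iv F170927)
theorem F182551 : act 7 n39433 = n38556 := d36_2 (iv F177281) D39433 (iv D38556)
theorem F182552 : act 9 n39433 = n38427 := d38_2 (iv F177282) D39433 F178205
def n39434 : Q := act 8 n38237
theorem D39434 : act 8 n38237 = n39434 := rfl
theorem F182553 : act 0 n39434 = n38258 := d7_1 D39434 F177430 (iv F177278)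
theorem F182554 : act 1 n39434 = n38324 := d15_1 D39434 (iv F182539) F182535
theorem F182555 : act 2 n39434 = n38241 := d22_1 D39434 (iv D38241) (iv F177279)
theorem F182556 : act 4 n39434 = n38239 := d33_1 D39434 (iv D38239) (iv F177280)
theorem F182557 : act 6 n39434 = n38238 := d40_1 D39434 (iv D38238) D38237
theorem F182558 : act 7 n39434 = n38557 := d42_1 D39434 (iv D38557) (iv F177281)
theorem F182559 : act 9 n39434 = n38458 := d44_2 (iv F177282) D39434 F178332 (iv D37746) (iv F171972)
def n39435 : Q := act 8 n38240
theorem D39435 : act 8 n38240 = n39435 := rfl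
theorem F182560 : act 0 n39435 = n38305 := d7_1 D39435 (iv D38305) (iv F177298)
theorem F182561 : act 1 n39435 = n38561 := d15_1 D39435 (iv D38561) (iv F177299)
theorem F182562 : act 3 n39435 = n38590 := d28_1 D39435 (iv D38590) (iv F177300)
theorem F182563 : act 4 n39435 = n38262 := d33_1 D39435 (iv D38262) (iv F177301)
theorem F182564 : act 6 n39435 = n38905 := d40_1 D39435 (iv D38905) (iv F177302)
theorem F182565 : act 7 n39435 = n38558 := d42_1 D39435 (iv D38558) (iv F177303)
def n39436 : Q := act 5 n38241
theorem D39436 : act 5 n38241 = n39436 := rfl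
theorem F182566 : act 0 n39436 = n38306 := d4_1 D39436 (iv D38306) (iv F177305)
theorem F182567 : act 1 n39436 = n38468 := d12_1 D39436 F178363 (iv F177306)
theorem F182568 : act 3 n39436 = n38591 := d25_1 D39436 (iv D38591) (iv F177307)
theorem F182569 : act 4 n39436 = n38456 := d30_1 D39436 (iv D38456) F172095 (iv F170978) (iv F177308)
theorem F182570 : act 7 n39436 = n38559 := d36_2 (iv F177310) D39436 (iv D38559)
def n39437 : Q := act 9 n38241
theorem D39437 : act 9 n38241 = n39437 := rfl
theorem F182571 : act 0 n39437 = n38307 := d8_1 D39437 (iv D38307) (iv F177305)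
theorem F182572 : act 1 n39437 = n38336 := d16_1 D39437 F177816 (iv F177306)
theorem F182573 : act 2 n39437 = n38458 := d23_1 D39437 (iv F182559) F182555
theorem F182574 : act 3 n39437 = n38592 := d29_1 D39437 (iv D38592) (iv F177307)
theorem F182575 : act 4 n39437 = n38245 := d34_1 D39437 (iv D38245) (iv F177308)
theorem F182576 : act 6 n39437 = n38243 := d41_1 D39437 (iv D38243) (iv F177309)
theorem F182577 : act 7 n39437 = n38560 := d43_1 D39437 (iv D38560) (iv F177310)
theorem F182578 : act 8 n39437 = n38583 := d44_1 D39437 (iv D38583) (iv D37270) (iv F170954) D38241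
def n39438 : Q := act 6 n38242
theorem D39438 : act 6 n38242 = n39438 := rfl
theorem F182579 : act 0 n39438 = n38308 := d5_1 D39438 (iv D38308) (iv F177311)
theorem F182580 : act 1 n39438 = n38335 := d13_1 D39438 F177810 (iv F177312)
theorem F182581 : act 2 n39438 = n38457 := d20_1 D39438 F178328 (iv F177313)
theorem F182582 : act 3 n39438 = n38593 := d26_1 D39438 (iv D38593) (iv F177314)
theorem F182583 : act 4 n39438 = n38264 := d31_1 D39438 (iv D38264) (iv F177315)
theorem F182584 : act 8 n39438 = n38664 := d40_2 (iv F177317) D39438 F179148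
theorem F182585 : act 9 n39438 = n38330 := d41_2 F177318 D39438 F177798
def n39439 : Q := act 7 n38244
theorem D39439 : act 7 n38244 = n39439 := rfl
theorem F182586 : act 0 n39439 = n38292 := d6_1 D39439 (iv D38292) (iv F177327)
theorem F182587 : act 1 n39439 = n38283 := d14_1 D39439 F177566 (iv F177328)
theorem F182588 : act 2 n39439 = n38392 := d21_1 D39439 F178062 (iv F177329)
theorem F182589 : act 3 n39439 = n38374 := d27_1 D39439 F177980 (iv F177330)
theorem F182590 : act 4 n39439 = n38265 := d32_1 D39439 (iv D38265) (iv F177331)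
theorem F182591 : act 5 n39439 = n38371 := d36_1 D39439 F177962 (iv F177332)
theorem F182592 : act 8 n39439 = n38665 := d42_2 (iv F177333) D39439 F179152
theorem F182593 : act 9 n39439 = n38276 := d43_2 (iv F177334) D39439 F177531
def n39440 : Q := act 6 n38246
theorem D39440 : act 6 n38246 = n39440 := rfl
theorem F182594 : act 0 n39440 = n38458 := d5_1 D39440 (iv D38458) (iv F177343)
theorem F182595 : act 1 n39440 = n38249 := d13_1 D39440 (iv D38249) (iv F177344)
theorem F182596 : act 2 n39440 = n38307 := d20_1 D39440 F177693 (iv F177345)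
theorem F182597 : act 4 n39440 = n38247 := d31_1 D39440 (iv D38247) (iv F177346)
theorem F182598 : act 7 n39440 = n38771 := d39_2 D38246 D39440 (iv D38771) (iv D37481) (iv F171000)
theorem F182599 : act 8 n39440 = n38444 := d40_2 (iv F177348) D39440 F178280
theorem F182600 : act 9 n39440 = n38258 := d41_2 (iv F177349) D39440 (iv D38258)
def n39441 : Q := act 6 n38248
theorem D39441 : act 6 n38248 = n39441 := rfl
theorem F182601 : act 0 n39441 = n38310 := d5_1 D39441 (iv D38310) (iv F177358)
theorem F182602 : act 2 n39441 = n38611 := d20_1 D39441 (iv D38611) (iv F177359)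
theorem F182603 : act 3 n39441 = n38249 := d26_1 D39441 (iv D38249) (iv F177360)
theorem F182604 : act 4 n39441 = n39441 := d31_1 D39441 (iv D39441) F177361
theorem F182605 : act 7 n39441 = n38772 := d39_2 D38248 D39441 (iv D38772) (iv D37483) (iv F171014)
theorem F182606 : act 9 n39441 = n38259 := d41_2 (iv F177363) D39441 (iv D38259)
def n39442 : Q := act 5 n38249
theorem D39442 : act 5 n38249 = n39442 := rfl
theorem F182607 : act 0 n39442 = n38312 := d4_1 D39442 (iv D38312) (iv F177364)
theorem F182608 : act 2 n39442 = n38252 := d19_1 D39442 (iv D38252) (iv F177365)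
theorem F182609 : act 4 n39442 = n38427 := d30_1 D39442 F178205 F171971 (iv F171031) (iv F177366)
theorem F182610 : act 6 n39442 = n38426 := d35_2 D38249 D39442 F178201 F171975 (iv F171019)
theorem F182611 : act 7 n39442 = n38774 := d36_2 (iv F177367) D39442 (iv D38774)
theorem F182612 : act 9 n39442 = n38260 := d38_2 (iv F177368) D39442 (iv D38260)
def n39443 : Q := act 8 n38249
theorem D39443 : act 8 n38249 = n39443 := rfl
theorem F182613 : act 0 n39443 = n38313 := d7_1 D39443 (iv D38313) (iv F177364)
theorem F182614 : act 1 n39443 = n38444 := d15_1 D39443 (iv F182599) F182595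
theorem F182615 : act 2 n39443 = n38253 := d22_1 D39443 (iv D38253) (iv F177365)
theorem F182616 : act 4 n39443 = n38251 := d33_1 D39443 (iv D38251) (iv F177366)
theorem F182617 : act 6 n39443 = n38250 := d40_1 D39443 (iv D38250) D38249
theorem F182618 : act 7 n39443 = n38775 := d42_1 D39443 (iv D38775) (iv F177367)
theorem F182619 : act 9 n39443 = n38319 := d44_2 (iv F177368) D39443 F177746 F177441 (iv D38261)
def n39444 : Q := act 8 n38252
theorem D39444 : act 8 n38252 = n39444 := rfl
theorem F182620 : act 0 n39444 = n38316 := d7_1 D39444 (iv D38316) (iv F177384)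
theorem F182621 : act 1 n39444 = n38905 := d15_1 D39444 (iv D38905) (iv F177385)
theorem F182622 : act 3 n39444 = n38619 := d28_1 D39444 (iv D38619) (iv F177386)
theorem F182623 : act 4 n39444 = n38581 := d33_1 D39444 (iv D38581) (iv F177387)
theorem F182624 : act 6 n39444 = n38561 := d40_1 D39444 (iv D38561) (iv F177388)
theorem F182625 : act 7 n39444 = n38778 := d42_1 D39444 (iv D38778) (iv F177389)
def n39445 : Q := act 5 n38253
theorem D39445 : act 5 n38253 = n39445 := rfl
theorem F182626 : act 0 n39445 = n38317 := d4_1 D39445 (iv D38317) (iv F177391)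
theorem F182627 : act 1 n39445 = n38662 := d12_1 D39445 F179140 (iv F177392)
theorem F182628 : act 3 n39445 = n38620 := d25_1 D39445 (iv D38620) (iv F177393)
theorem F182629 : act 7 n39445 = n38779 := d36_2 (iv F177396) D39445 (iv D38779)
theorem F182630 : act 9 n39445 = n38651 := d38_2 (iv F177397) D39445 (iv D38651)
def n39446 : Q := act 6 n38254
theorem D39446 : act 6 n38254 = n39446 := rfl
theorem F182631 : act 0 n39446 = n38319 := d5_1 D39446 (iv D38319) (iv F177398)
theorem F182632 : act 1 n39446 = n38664 := d13_1 D39446 F179148 (iv F177399)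
theorem F182633 : act 2 n39446 = n38318 := d20_1 D39446 F177741 (iv F177400)
theorem F182634 : act 3 n39446 = n38622 := d26_1 D39446 (iv D38622) (iv F177401)
theorem F182635 : act 4 n39446 = n38315 := d31_1 D39446 F177732 (iv F177402)
theorem F182636 : act 8 n39446 = n38335 := d40_2 (iv F177404) D39446 F177810
theorem F182637 : act 9 n39446 = n38313 := d41_2 (iv F177405) D39446 F177721
def n39447 : Q := act 4 n38255
theorem D39447 : act 4 n38255 = n39447 := rfl
theorem F182638 : act 0 n39447 = n38321 := d3_1 D39447 (iv D38321) (iv F177406)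
theorem F182639 : act 1 n39447 = n38667 := d11_1 D39447 F179157 (iv F177407)
theorem F182640 : act 2 n39447 = n39039 := d18_1 D39447 F180241 (iv F177408)
theorem F182641 : act 6 n39447 = n38519 := d31_2 (iv F177410) D39447 (iv D38519)
theorem F182642 : act 7 n39447 = n38782 := d32_2 (iv F177411) D39447 (iv D38782)
theorem F182643 : act 8 n39447 = n38584 := d33_2 (iv F177412) D39447 (iv D38584)
theorem F182644 : act 9 n39447 = n38652 := d34_2 (iv F177413) D39447 (iv D38652)
def n39448 : Q := act 3 n38256
theorem D39448 : act 3 n38256 = n39448 := rfl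
theorem F182645 : act 0 n39448 = n38322 := d2_1 D39448 (iv D38322) (iv F177414)
theorem F182646 : act 1 n39448 = n38577 := d10_1 D39448 F178873 (iv F177415)
theorem F182647 : act 5 n39448 = n38626 := d25_2 (iv F177417) D39448 (iv D38626)
theorem F182648 : act 6 n39448 = n38520 := d26_2 (iv F177418) D39448 (iv D38520)
theorem F182649 : act 7 n39448 = n38783 := d27_2 (iv F177419) D39448 (iv D38783)
theorem F182650 : act 8 n39448 = n38575 := d28_2 (iv F177420) D39448 F178867
theorem F182651 : act 9 n39448 = n38698 := d29_2 (iv F177421) D39448 F179243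
def n39449 : Q := act 6 n38257
theorem D39449 : act 6 n38257 = n39449 := rfl
theorem F182652 : act 1 n39449 = n38259 := d13_1 D39449 (iv D38259) (iv F177422)
theorem F182653 : act 2 n39449 = n38846 := d20_1 D39449 F179786 (iv F177423)
theorem F182654 : act 3 n39449 = n38258 := d26_1 D39449 (iv D38258) (iv F177424)
theorem F182655 : act 4 n39449 = n39449 := d31_1 D39449 (iv D39449) F177425
theorem F182656 : act 7 n39449 = n38838 := d39_2 D38257 D39449 (iv D38838) F173936 (iv F171076)
theorem F182657 : act 8 n39449 = n38303 := d40_2 (iv F177426) D39449 (iv D38303)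
def n39450 : Q := act 5 n38258
theorem D39450 : act 5 n38258 = n39450 := rfl
theorem F182658 : act 1 n39450 = n38260 := d12_1 D39450 (iv D38260) (iv F177427)
theorem F182659 : act 2 n39450 = n38306 := d19_1 D39450 (iv D38306) (iv F177428)
def n39451 : Q := act 5 n38259
theorem D39451 : act 5 n38259 = n39451 := rfl
theorem F182660 : act 0 n39451 = n38331 := d4_1 D39451 (iv D38331) (iv F177431)
theorem F182661 : act 3 n39451 = n38260 := d25_1 D39451 (iv D38260) (iv F177432)
def n39452 : Q := act 8 n38260
theorem D39452 : act 8 n38260 = n39452 := rfl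
theorem F182662 : act 0 n39452 = n38333 := d7_1 D39452 (iv D38333) (iv F177434)
theorem F182663 : act 2 n39452 = n38262 := d22_1 D39452 (iv D38262) (iv F177435)
def n39453 : Q := act 5 n38261
theorem D39453 : act 5 n38261 = n39453 := rfl
theorem F182664 : act 0 n39453 = n38334 := d4_1 D39453 (iv D38334) (iv F177436)
theorem F182665 : act 1 n39453 = n38304 := d12_1 D39453 (iv D38304) (iv F177437)
theorem F182666 : act 2 n39453 = n38263 := d19_1 D39453 (iv D38263) (iv F177438)
theorem F182667 : act 4 n39453 = n38329 := d30_1 D39453 (iv D38329) F171497 F171104 (iv F177439)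
theorem F182668 : act 6 n39453 = n38914 := d35_2 (iv F177440) D39453 F179983 F174255 F171097
theorem F182669 : act 9 n39453 = n38596 := d38_2 F177441 D39453 (iv D38596)
def n39454 : Q := act 5 n38262
theorem D39454 : act 5 n38262 = n39454 := rfl
theorem F182670 : act 0 n39454 = n38337 := d4_1 D39454 (iv D38337) (iv F177442)
theorem F182671 : act 1 n39454 = n38423 := d12_1 D39454 F178190 (iv F177443)
theorem F182672 : act 8 n39454 = n38263 := d37_2 D38262 D39454 (iv D38263) (iv D36884) D36883
theorem F182673 : act 4 n38455 = n39454 := d33_3 F182672 F177446 D38455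
theorem F182674 : act 6 n38995 = n39454 := d40_3 F182672 F177447 D38995
def n39455 : Q := act 9 n38262
theorem D39455 : act 9 n38262 = n39455 := rfl
theorem F182675 : act 0 n39455 = n38338 := d8_1 D39455 (iv D38338) (iv F177442)
theorem F182676 : act 1 n39455 = n38906 := d16_1 D39455 (iv D38906) (iv F177443)
def n39456 : Q := act 7 n38264
theorem D39456 : act 7 n38264 = n39456 := rfl
theorem F182677 : act 0 n39456 = n38293 := d6_1 D39456 F177614 (iv F177449)
theorem F182678 : act 1 n39456 = n38284 := d14_1 D39456 F177572 (iv F177450)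
theorem F182679 : act 2 n39456 = n38393 := d21_1 D39456 F178069 (iv F177451)
theorem F182680 : act 3 n39456 = n39456 := d27_1 D39456 (iv D39456) F177452
theorem F182681 : act 5 n39456 = n38478 := d36_1 D39456 (iv D38478) (iv F177453)
theorem F182682 : act 6 n39456 = n38265 := d39_1 D39456 (iv D38265) (iv D36886) (iv F171117) D38264
theorem F182683 : act 8 n39456 = n38688 := d42_2 (iv F177454) D39456 F179213
theorem F182684 : act 9 n39456 = n38277 := d43_2 (iv F177455) D39456 F177539
def n39457 : Q := act 6 n38266
theorem D39457 : act 6 n38266 = n39457 := rfl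
theorem F182685 : act 0 n39457 = n38555 := d5_1 D39457 (iv D38555) (iv F177463)
theorem F182686 : act 2 n39457 = n38418 := d20_1 D39457 (iv D38418) (iv F177464)
theorem F182687 : act 3 n39457 = n38267 := d26_1 D39457 (iv D38267) (iv F177465)
theorem F182688 : act 4 n39457 = n39457 := d31_1 D39457 (iv D39457) F177466
theorem F182689 : act 7 n39457 = n38303 := d39_2 D38266 D39457 (iv D38303) (iv D36930) (iv F171131)
theorem F182690 : act 8 n39457 = n38838 := d40_2 (iv F177468) D39457 (iv D38838)
theorem F182691 : act 9 n39457 = n38588 := d41_2 (iv F177469) D39457 (iv D38588)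
def n39458 : Q := act 5 n38267
theorem D39458 : act 5 n38267 = n39458 := rfl
theorem F182692 : act 0 n39458 = n38556 := d4_1 D39458 (iv D38556) (iv F177470)
theorem F182693 : act 2 n39458 = n38268 := d19_1 D39458 (iv D38268) (iv F177471)
theorem F182694 : act 4 n39458 = n38280 := d30_1 D39458 (iv D38280) F171209 (iv F171142) (iv F177472)
theorem F182695 : act 6 n39458 = n38722 := d35_2 D38267 D39458 (iv D38722) (iv D37424) (iv F171137)
theorem F182696 : act 7 n39458 = n38304 := d36_2 (iv F177473) D39458 (iv D38304)
theorem F182697 : act 9 n39458 = n38589 := d38_2 (iv F177474) D39458 (iv D38589)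
def n39459 : Q := act 8 n38268
theorem D39459 : act 8 n38268 = n39459 := rfl
theorem F182698 : act 0 n39459 = n38558 := d7_1 D39459 (iv D38558) (iv F177475)
theorem F182699 : act 1 n39459 = n38368 := d15_1 D39459 (iv D38368) (iv F177476)
theorem F182700 : act 3 n39459 = n38581 := d28_1 D39459 (iv D38581) (iv F177477)
theorem F182701 : act 4 n39459 = n38285 := d33_1 D39459 (iv D38285) (iv F177478)
theorem F182702 : act 6 n39459 = n38723 := d40_1 D39459 (iv D38723) (iv F177479)
theorem F182703 : act 7 n39459 = n38305 := d42_1 D39459 (iv D38305) (iv F177480)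
def n39460 : Q := act 5 n38269
theorem D39460 : act 5 n38269 = n39460 := rfl
theorem F182704 : act 0 n39460 = n38559 := d4_1 D39460 (iv D38559) (iv F177482)
theorem F182705 : act 1 n39460 = n38369 := d12_1 D39460 (iv D38369) (iv F177483)
theorem F182706 : act 3 n39460 = n38582 := d25_1 D39460 (iv D38582) (iv F177484)
theorem F182707 : act 4 n39460 = n38565 := d30_1 D39460 (iv D38565) F172846 F171162 (iv F177485)
theorem F182708 : act 6 n39460 = n38817 := d35_2 (iv F177486) D39460 (iv D38817) (iv D37530) (iv F171155)
theorem F182709 : act 7 n39460 = n38306 := d36_2 (iv F177487) D39460 (iv D38306)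
def n39461 : Q := act 6 n38270
theorem D39461 : act 6 n38270 = n39461 := rfl
theorem F182710 : act 0 n39461 = n38275 := d5_1 D39461 (iv D38275) (iv F177488)
theorem F182711 : act 1 n39461 = n38557 := d13_1 D39461 F178812 (iv F177489)
theorem F182712 : act 2 n39461 = n38291 := d20_1 D39461 F177599 (iv F177490)
theorem F182713 : act 4 n39461 = n38271 := d31_1 D39461 (iv D38271) (iv F177491)
theorem F182714 : act 7 n39461 = n38324 := d39_2 D38270 D39461 (iv D38324) (iv D36953) (iv F171166)
theorem F182715 : act 8 n39461 = n38554 := d40_2 (iv F177492) D39461 (iv D38554)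
theorem F182716 : act 9 n39461 = n38471 := d41_2 (iv F177493) D39461 F178375
def n39462 : Q := act 7 n38272
theorem D39462 : act 7 n38272 = n39462 := rfl
theorem F182717 : act 0 n39462 = n38972 := d6_1 D39462 F180107 (iv F177502)
theorem F182718 : act 1 n39462 = n38796 := d14_1 D39462 (iv D38796) (iv F177503)
theorem F182719 : act 2 n39462 = n38273 := d21_1 D39462 (iv D38273) D38272
theorem F182720 : act 3 n39462 = n38387 := d27_1 D39462 (iv D38387) (iv F177504)
theorem F182721 : act 4 n39462 = n39462 := d32_1 D39462 (iv D39462) F177505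
theorem F182722 : act 5 n39462 = n38407 := d36_1 D39462 F178120 (iv F177506)
theorem F182723 : act 8 n39462 = n38382 := d42_2 F177509 D39462 F178017
theorem F182724 : act 9 n39462 = n38866 := d43_2 (iv F177508) D39462 (iv D38866)
def n39463 : Q := act 6 n38273
theorem D39463 : act 6 n38273 = n39463 := rfl
theorem F182725 : act 1 n39463 = n38278 := d13_1 D39463 (iv D38278) (iv F177510)
theorem F182726 : act 3 n39463 = n38275 := d26_1 D39463 (iv D38275) (iv F177511)
theorem F182727 : act 4 n39463 = n39463 := d31_1 D39463 (iv D39463) F177512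
theorem F182728 : act 7 n39463 = n38327 := d39_2 D38273 D39463 (iv D38327) (iv D36956) (iv F171178)
theorem F182729 : act 9 n39463 = n39022 := d41_2 (iv F177513) D39463 F180207
def n39464 : Q := act 8 n38273
theorem D39464 : act 8 n38273 = n39464 := rfl
theorem F182730 : act 0 n39464 = n38553 := d7_1 D39464 (iv F182004) F181998
theorem F182731 : act 1 n39464 = n38279 := d15_1 D39464 (iv D38279) (iv F177510)
theorem F182732 : act 2 n39464 = n38382 := d22_1 D39464 (iv F182723) F182719
theorem F182733 : act 3 n39464 = n38276 := d28_1 D39464 (iv D38276) (iv F177511)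
theorem F182734 : act 4 n39464 = n39464 := d33_1 D39464 (iv D39464) F177512
theorem F182735 : act 5 n39464 = n38375 := d37_1 D39464 F177987 (iv F176477) (iv F181535) F181534
theorem F182736 : act 7 n39464 = n38274 := d42_1 D39464 (iv D38274) D38273
theorem F182737 : act 9 n39464 = n38374 := d44_2 (iv F177513) D39464 (iv F181146) (iv F181147) F179129
def n39465 : Q := act 5 n38275
theorem D39465 : act 5 n38275 = n39465 := rfl
theorem F182738 : act 1 n39465 = n38280 := d12_1 D39465 (iv D38280) (iv F177522)
theorem F182739 : act 2 n39465 = n38390 := d19_1 D39465 (iv D38390) (iv F177523)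
theorem F182740 : act 7 n39465 = n38329 := d36_2 (iv F177525) D39465 (iv D38329)
theorem F182741 : act 9 n39465 = n39025 := d38_2 (iv F177526) D39465 F180213
def n39466 : Q := act 8 n38275
theorem D39466 : act 8 n38275 = n39466 := rfl
theorem F182742 : act 0 n39466 = n38554 := d7_1 D39466 (iv F182715) F182710
theorem F182743 : act 1 n39466 = n38281 := d15_1 D39466 (iv D38281) (iv F177522)
theorem F182744 : act 2 n39466 = n38391 := d22_1 D39466 (iv D38391) (iv F177523)
theorem F182745 : act 4 n39466 = n38277 := d33_1 D39466 (iv D38277) (iv F177524)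
theorem F182746 : act 6 n39466 = n38276 := d40_1 D39466 (iv D38276) D38275
theorem F182747 : act 7 n39466 = n38330 := d42_1 D39466 (iv D38330) (iv F177525)
def n39467 : Q := act 5 n38278
theorem D39467 : act 5 n38278 = n39467 := rfl
theorem F182748 : act 3 n39467 = n38280 := d25_1 D39467 (iv D38280) (iv F177540)
theorem F182749 : act 7 n39467 = n38331 := d36_2 (iv F177542) D39467 (iv D38331)
def n39468 : Q := act 8 n38278
theorem D39468 : act 8 n38278 = n39468 := rfl
theorem F182750 : act 3 n39468 = n38281 := d28_1 D39468 (iv D38281) (iv F177540)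
theorem F182751 : act 4 n39468 = n39468 := d33_1 D39468 (iv D39468) F177541
theorem F182752 : act 6 n39468 = n38279 := d40_1 D39468 (iv D38279) D38278
theorem F182753 : act 7 n39468 = n38332 := d42_1 D39468 (iv D38332) (iv F177542)
theorem F182754 : act 9 n38646 = n39468 := d43_0 F182753 (iv F177803) D38646
def n39469 : Q := act 8 n38280
theorem D39469 : act 8 n38280 = n39469 := rfl
theorem F182755 : act 2 n39469 = n38285 := d22_1 D39469 (iv D38285) (iv F177548)
theorem F182756 : act 7 n39469 = n38333 := d42_1 D39469 (iv D38333) (iv F177549)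
def n39470 : Q := act 5 n38281
theorem D39470 : act 5 n38281 = n39470 := rfl
theorem F182757 : act 2 n39470 = n38286 := d19_1 D39470 (iv D38286) (iv F177550)
theorem F182758 : act 7 n39470 = n38334 := d36_2 (iv F177553) D39470 (iv D38334)
def n39471 : Q := act 9 n38281
theorem D39471 : act 9 n38281 = n39471 := rfl
theorem F182759 : act 0 n39471 = n38587 := d8_1 D39471 F182513 F182507
theorem F182760 : act 2 n39471 = n38287 := d23_1 D39471 (iv D38287) (iv F177550)
theorem F182761 : act 3 n39471 = n38646 := d29_1 D39471 F182754 F182750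
theorem F182762 : act 4 n39471 = n38284 := d34_1 D39471 (iv D38284) (iv F177551)
theorem F182763 : act 6 n39471 = n38283 := d41_1 D39471 (iv D38283) (iv F177552)
theorem F182764 : act 7 n39471 = n38335 := d43_1 D39471 (iv D38335) (iv F177553)
def n39472 : Q := act 6 n38282
theorem D39472 : act 6 n38282 = n39472 := rfl
theorem F182765 : act 0 n39472 = n38721 := d5_1 D39472 (iv D38721) (iv F177554)
theorem F182766 : act 1 n39472 = n38754 := d13_1 D39472 (iv D38754) (iv F177555)
theorem F182767 : act 2 n39472 = n38288 := d20_1 D39472 (iv D38288) (iv F177556)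
theorem F182768 : act 3 n39472 = n38677 := d26_1 D39472 F179172 (iv F177557)
theorem F182769 : act 4 n39472 = n38537 := d31_1 D39472 (iv D38537) (iv F177558)
theorem F182770 : act 7 n39472 = n38573 := d39_2 (iv F177559) D39472 F178860 F172864 (iv F171219)
theorem F182771 : act 9 n39472 = n38572 := d41_2 F177560 D39472 F178856
def n39473 : Q := act 5 n38285
theorem D39473 : act 5 n38285 = n39473 := rfl
theorem F182772 : act 1 n39473 = n38400 := d12_1 D39473 (iv D38400) (iv F177573)
theorem F182773 : act 7 n39473 = n38337 := d36_2 (iv F177574) D39473 (iv D38337)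
theorem F182774 : act 8 n39473 = n38286 := d37_2 D38285 D39473 (iv D38286) (iv D36909) D36908
def n39474 : Q := act 9 n38285
theorem D39474 : act 9 n38285 = n39474 := rfl
theorem F182775 : act 1 n39474 = n38401 := d16_1 D39474 (iv D38401) (iv F177573)
theorem F182776 : act 7 n39474 = n38338 := d43_1 D39474 (iv D38338) (iv F177574)
def n39475 : Q := act 4 n38286
theorem D39475 : act 4 n38286 = n39475 := rfl
theorem F182777 : act 0 n39475 = n38390 := d3_1 D39475 (iv F182523) F182520
theorem F182778 : act 1 n39475 = n38402 := d11_1 D39475 (iv D38402) (iv F177575)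
theorem F182779 : act 5 n39475 = n38291 := d30_2 D38286 D39475 (iv D38291) (iv D36914) (iv F171239)
theorem F182780 : act 7 n39475 = n38339 := d32_2 (iv F177576) D39475 (iv D38339)
theorem F182781 : act 9 n38476 = n39475 := d43_0 F182780 (iv F177824) D38476
def n39476 : Q := act 6 n38286
theorem D39476 : act 6 n38286 = n39476 := rfl
theorem F182782 : act 1 n39476 = n38403 := d13_1 D39476 (iv D38403) (iv F177575)
theorem F182783 : act 5 n39476 = n38288 := d35_1 D39476 (iv D38288) (iv D36910) (iv F171240) D38286
def n39477 : Q := act 9 n38286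
theorem D39477 : act 9 n38286 = n39477 := rfl
theorem F182784 : act 0 n39477 = n38631 := d8_1 D39477 (iv F182525) F182520
theorem F182785 : act 1 n39477 = n38404 := d16_1 D39477 (iv D38404) (iv F177575)
theorem F182786 : act 4 n39477 = n38476 := d34_1 D39477 F182781 (iv D39475)
theorem F182787 : act 5 n39477 = n38287 := d38_1 D39477 (iv D38287) D38286
theorem F182788 : act 7 n39477 = n38341 := d43_1 D39477 (iv D38341) (iv F177576)
def n39478 : Q := act 7 n38288
theorem D39478 : act 7 n38288 = n39478 := rfl
theorem F182789 : act 0 n39478 = n38927 := d6_1 D39478 (iv F181074) F181069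
theorem F182790 : act 1 n39478 = n38405 := d14_1 D39478 (iv D38405) (iv F177582)
theorem F182791 : act 2 n39478 = n38573 := d21_1 D39478 (iv F182770) F182767
theorem F182792 : act 4 n39478 = n38538 := d32_1 D39478 (iv D38538) (iv F177583)
theorem F182793 : act 6 n39478 = n38290 := d39_1 D39478 (iv D38290) (iv D36912) (iv F171244) D38288
theorem F182794 : act 9 n38551 = n39478 := d41_0 F182793 F177596 D38551
def n39479 : Q := act 9 n38288
theorem D39479 : act 9 n38288 = n39479 := rfl
theorem F182795 : act 0 n39479 = n38610 := d8_1 D39479 (iv F181076) F181069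
theorem F182796 : act 1 n39479 = n38406 := d16_1 D39479 (iv D38406) (iv F177582)
theorem F182797 : act 2 n39479 = n38572 := d23_1 D39479 (iv F182771) F182767
theorem F182798 : act 4 n39479 = n38539 := d34_1 D39479 (iv D38539) (iv F177583)
theorem F182799 : act 6 n39479 = n38289 := d41_1 D39479 (iv D38289) D38288
theorem F182800 : act 7 n39479 = n38551 := d43_1 D39479 F182794 (iv D39478)
theorem F182801 : act 8 n38872 = n39479 := d42_0 F182800 F178790 D38872
def n39480 : Q := act 6 n38292
theorem D39480 : act 6 n38292 = n39480 := rfl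
theorem F182802 : act 1 n39480 = n38295 := d13_1 D39480 (iv D38295) (iv F177603)
theorem F182803 : act 2 n39480 = n38410 := d20_1 D39480 (iv D38410) (iv F177604)
theorem F182804 : act 3 n39480 = n38963 := d26_1 D39480 (iv D38963) (iv F177605)
theorem F182805 : act 4 n39480 = n38293 := d31_1 D39480 (iv D38293) (iv F177606)
theorem F182806 : act 7 n39480 = n38308 := d39_2 D38292 D39480 (iv D38308) F171385 (iv F171286)
theorem F182807 : act 8 n39480 = n38921 := d40_2 (iv F177608) D39480 F179997
theorem F182808 : act 9 n39480 = n38554 := d41_2 (iv F177609) D39480 (iv D38554)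
def n39481 : Q := act 6 n38294
theorem D39481 : act 6 n38294 = n39481 := rfl
theorem F182809 : act 0 n39481 = n38588 := d5_1 D39481 (iv D38588) (iv F177617)
theorem F182810 : act 1 n39481 = n38963 := d13_1 D39481 (iv D38963) (iv F177618)
theorem F182811 : act 2 n39481 = n38303 := d20_1 D39481 (iv D38303) (iv F177619)
theorem F182812 : act 3 n39481 = n38295 := d26_1 D39481 (iv D38295) (iv F177620)
theorem F182813 : act 4 n39481 = n39481 := d31_1 D39481 (iv D39481) F177621
theorem F182814 : act 7 n39481 = n38418 := d39_2 D38294 D39481 (iv D38418) F171926 (iv F171301)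
theorem F182815 : act 8 n39481 = n38846 := d40_2 (iv F177623) D39481 F179786
theorem F182816 : act 9 n39481 = n38555 := d41_2 (iv F177624) D39481 (iv D38555)
def n39482 : Q := act 5 n38295
theorem D39482 : act 5 n38295 = n39482 := rfl
theorem F182817 : act 0 n39482 = n38589 := d4_1 D39482 (iv D38589) (iv F177625)
theorem F182818 : act 2 n39482 = n38296 := d19_1 D39482 (iv D38296) (iv F177626)
theorem F182819 : act 4 n39482 = n38774 := d30_1 D39482 (iv D38774) F173692 (iv F171313) (iv F177627)
theorem F182820 : act 6 n39482 = n38744 := d35_2 D38295 D39482 (iv D38744) (iv D37450) (iv F171307)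
theorem F182821 : act 7 n39482 = n38427 := d36_2 (iv F177628) D39482 F178205
theorem F182822 : act 9 n39482 = n38556 := d38_2 (iv F177630) D39482 (iv D38556)
def n39483 : Q := act 8 n38296
theorem D39483 : act 8 n38296 = n39483 := rfl
theorem F182823 : act 0 n39483 = n38590 := d7_1 D39483 (iv D38590) (iv F177631)
theorem F182824 : act 1 n39483 = n38415 := d15_1 D39483 (iv D38415) (iv F177632)
theorem F182825 : act 3 n39483 = n38305 := d28_1 D39483 (iv D38305) (iv F177633)
theorem F182826 : act 4 n39483 = n38778 := d33_1 D39483 (iv D38778) (iv F177634)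
theorem F182827 : act 6 n39483 = n38748 := d40_1 D39483 (iv D38748) (iv F177635)
theorem F182828 : act 7 n39483 = n38581 := d42_1 D39483 (iv D38581) (iv F177636)
def n39484 : Q := act 5 n38297
theorem D39484 : act 5 n38297 = n39484 := rfl
theorem F182829 : act 0 n39484 = n38591 := d4_1 D39484 (iv D38591) (iv F177638)
theorem F182830 : act 1 n39484 = n38416 := d12_1 D39484 (iv D38416) (iv F177639)
theorem F182831 : act 2 n39484 = n39009 := d19_1 D39484 F180182 (iv F177640)
theorem F182832 : act 3 n39484 = n38306 := d25_1 D39484 (iv D38306) (iv F177641)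
theorem F182833 : act 7 n39484 = n38582 := d36_2 (iv F177644) D39484 (iv D38582)
def n39485 : Q := act 9 n38297
theorem D39485 : act 9 n38297 = n39485 := rfl
theorem F182834 : act 0 n39485 = n38592 := d8_1 D39485 (iv D38592) (iv F177638)
theorem F182835 : act 1 n39485 = n38417 := d16_1 D39485 (iv D38417) (iv F177639)
theorem F182836 : act 2 n39485 = n39012 := d23_1 D39485 (iv D39012) (iv F177640)
theorem F182837 : act 3 n39485 = n38307 := d29_1 D39485 (iv D38307) (iv F177641)
theorem F182838 : act 4 n39485 = n38301 := d34_1 D39485 (iv D38301) (iv F177642)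
theorem F182839 : act 6 n39485 = n38299 := d41_1 D39485 (iv D38299) (iv F177643)
theorem F182840 : act 7 n39485 = n38583 := d43_1 D39485 (iv D38583) (iv F177644)
theorem F182841 : act 8 n39485 = n38560 := d44_1 D39485 (iv D38560) (iv D37241) (iv F171322) D38297
def n39486 : Q := act 6 n38298
theorem D39486 : act 6 n38298 = n39486 := rfl
theorem F182842 : act 0 n39486 = n38593 := d5_1 D39486 (iv D38593) (iv F177645)
theorem F182843 : act 1 n39486 = n38418 := d13_1 D39486 (iv D38418) (iv F177646)
theorem F182844 : act 2 n39486 = n38970 := d20_1 D39486 F180102 (iv F177647)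
theorem F182845 : act 3 n39486 = n38308 := d26_1 D39486 (iv D38308) (iv F177648)
theorem F182846 : act 4 n39486 = n39486 := d31_1 D39486 (iv D39486) F177649
theorem F182847 : act 7 n39486 = n38963 := d39_2 (iv F177650) D39486 (iv D38963) F174373 (iv F171334)
theorem F182848 : act 8 n39486 = n38750 := d40_2 (iv F177651) D39486 (iv D38750)
def n39487 : Q := act 4 n38300
theorem D39487 : act 4 n38300 = n39487 := rfl
theorem F182849 : act 0 n39487 = n38594 := d3_1 D39487 (iv D38594) (iv F177659)
theorem F182850 : act 1 n39487 = n38419 := d11_1 D39487 (iv D38419) (iv F177660)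
theorem F182851 : act 2 n39487 = n39041 := d18_1 D39487 F180245 (iv F177661)
theorem F182852 : act 6 n39487 = n39487 := d31_2 F177663 D39487 (iv D39487)
theorem F182853 : act 7 n39487 = n38584 := d32_2 (iv F177664) D39487 (iv D38584)
theorem F182854 : act 8 n39487 = n38782 := d33_2 (iv F177665) D39487 (iv D38782)
def n39488 : Q := act 9 n38300
theorem D39488 : act 9 n38300 = n39488 := rfl
theorem F182855 : act 0 n39488 = n38595 := d8_1 D39488 (iv D38595) (iv F177659)
theorem F182856 : act 1 n39488 = n38420 := d16_1 D39488 (iv D38420) (iv F177660)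
theorem F182857 : act 2 n39488 = n39043 := d23_1 D39488 (iv D39043) (iv F177661)
theorem F182858 : act 3 n39488 = n38302 := d29_1 D39488 (iv D38302) (iv F177662)
theorem F182859 : act 5 n39488 = n38301 := d38_1 D39488 (iv D38301) D38300
theorem F182860 : act 6 n39488 = n39488 := d41_1 D39488 (iv D39488) F177663
theorem F182861 : act 7 n39488 = n38585 := d43_1 D39488 (iv D38585) (iv F177664)
theorem F182862 : act 8 n39488 = n38695 := d44_1 D39488 (iv D38695) (iv F179077) F179078 (iv F177665)
def n39489 : Q := act 5 n38303
theorem D39489 : act 5 n38303 = n39489 := rfl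
theorem F182863 : act 3 n39489 = n38304 := d25_1 D39489 (iv D38304) (iv F177680)
theorem F182864 : act 6 n39489 = n38915 := d35_2 D38303 D39489 (iv D38915) (iv D37650) (iv F171371)
theorem F182865 : act 9 n39489 = n38597 := d38_2 (iv F177682) D39489 (iv D38597)
def n39490 : Q := act 8 n38304
theorem D39490 : act 8 n38304 = n39490 := rfl
theorem F182866 : act 2 n39490 = n38305 := d22_1 D39490 (iv D38305) (iv F177683)
theorem F182867 : act 4 n39490 = n38333 := d33_1 D39490 (iv D38333) (iv F177684)
theorem F182868 : act 6 n39490 = n38916 := d40_1 D39490 (iv D38916) (iv F177685)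
def n39491 : Q := act 5 n38305
theorem D39491 : act 5 n38305 = n39491 := rfl
theorem F182869 : act 1 n39491 = n38424 := d12_1 D39491 (iv D38424) (iv F177687)
theorem F182870 : act 8 n39491 = n38306 := d37_2 D38305 D39491 (iv D38306) (iv D36933) D36932
def n39492 : Q := act 9 n38305
theorem D39492 : act 9 n38305 = n39492 := rfl
theorem F182871 : act 1 n39492 = n38425 := d16_1 D39492 (iv D38425) (iv F177687)
theorem F182872 : act 4 n39492 = n38338 := d34_1 D39492 (iv D38338) (iv F177688)
theorem F182873 : act 6 n39492 = n38918 := d41_1 D39492 (iv D38918) (iv F177689)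
theorem F182874 : act 8 n39492 = n38600 := d44_1 D39492 (iv D38600) (iv D37291) (iv F171379) D38305
def n39493 : Q := act 4 n38306
theorem D39493 : act 4 n38306 = n39493 := rfl
theorem F182875 : act 0 n39493 = n38456 := d3_1 D39493 (iv F182569) F182566
theorem F182876 : act 1 n39493 = n38426 := d11_1 D39493 (iv D38426) (iv F177690)
theorem F182877 : act 5 n39493 = n38309 := d30_2 D38306 D39493 (iv D38309) (iv D36936) (iv F171381)
theorem F182878 : act 7 n39493 = n38565 := d32_2 F182709 D39493 (iv F182707)
def n39494 : Q := act 6 n38306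
theorem D39494 : act 6 n38306 = n39494 := rfl
theorem F182879 : act 1 n39494 = n38427 := d13_1 D39494 (iv D38427) (iv F177690)
theorem F182880 : act 5 n39494 = n38308 := d35_1 D39494 (iv D38308) (iv D36934) (iv F171382) D38306
def n39495 : Q := act 9 n38306
theorem D39495 : act 9 n38306 = n39495 := rfl
theorem F182881 : act 1 n39495 = n38428 := d16_1 D39495 (iv D38428) (iv F177690)
theorem F182882 : act 5 n39495 = n38307 := d38_1 D39495 (iv D38307) D38306
def n39496 : Q := act 5 n38310
theorem D39496 : act 5 n38310 = n39496 := rfl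
theorem F182883 : act 1 n39496 = n39020 := d12_1 D39496 F180202 (iv F177703)
theorem F182884 : act 3 n39496 = n38312 := d25_1 D39496 (iv D38312) (iv F177704)
theorem F182885 : act 6 n39496 = n38910 := d35_2 D38310 D39496 (iv D38910) (iv D37645) (iv F171404)
theorem F182886 : act 9 n39496 = n38331 := d38_2 (iv F177706) D39496 (iv D38331)
def n39497 : Q := act 8 n38310
theorem D39497 : act 8 n38310 = n39497 := rfl
theorem F182887 : act 1 n39497 = n38656 := d15_1 D39497 F179126 (iv F177703)
theorem F182888 : act 3 n39497 = n38313 := d28_1 D39497 (iv D38313) (iv F177704)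
theorem F182889 : act 4 n39497 = n39497 := d33_1 D39497 (iv D39497) F177705
theorem F182890 : act 6 n39497 = n38311 := d40_1 D39497 (iv D38311) D38310
theorem F182891 : act 9 n39497 = n38622 := d44_2 (iv F177706) D39497 F179025 F177803 (iv D38332)
def n39498 : Q := act 8 n38312
theorem D39498 : act 8 n38312 = n39498 := rfl
theorem F182892 : act 1 n39498 = n39023 := d15_1 D39498 F180209 (iv F177713)
theorem F182893 : act 2 n39498 = n38316 := d22_1 D39498 (iv D38316) (iv F177714)
theorem F182894 : act 4 n39498 = n38598 := d33_1 D39498 (iv D38598) (iv F177715)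
theorem F182895 : act 6 n39498 = n38911 := d40_1 D39498 (iv D38911) (iv F177716)
def n39499 : Q := act 5 n38313
theorem D39499 : act 5 n38313 = n39499 := rfl
theorem F182896 : act 1 n39499 = n38661 := d12_1 D39499 F179137 (iv F177718)
theorem F182897 : act 2 n39499 = n38317 := d19_1 D39499 (iv D38317) (iv F177719)
theorem F182898 : act 6 n39499 = n38651 := d35_2 (iv F177721) D39499 (iv D38651) F173173 (iv F171418)
def n39500 : Q := act 4 n38314
theorem D39500 : act 4 n38314 = n39500 := rfl
theorem F182899 : act 0 n39500 = n39039 := d3_1 D39500 F180241 (iv F177722)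
theorem F182900 : act 1 n39500 = n38684 := d11_1 D39500 F179192 (iv F177723)
theorem F182901 : act 2 n39500 = n38321 := d18_1 D39500 (iv D38321) (iv F177724)
theorem F182902 : act 6 n39500 = n38521 := d31_2 (iv F177726) D39500 (iv D38521)
theorem F182903 : act 8 n39500 = n38530 := d33_2 (iv F177727) D39500 F178672
def n39501 : Q := act 5 n38316
theorem D39501 : act 5 n38316 = n39501 := rfl
theorem F182904 : act 1 n39501 = n38438 := d12_1 D39501 (iv D38438) (iv F177734)
theorem F182905 : act 8 n39501 = n38317 := d37_2 D38316 D39501 (iv D38317) (iv D36945) D36944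
def n39502 : Q := act 9 n38316
theorem D39502 : act 9 n38316 = n39502 := rfl
theorem F182906 : act 1 n39502 = n38439 := d16_1 D39502 (iv D38439) (iv F177734)
theorem F182907 : act 4 n39502 = n38600 := d34_1 D39502 (iv D38600) (iv F177735)
theorem F182908 : act 6 n39502 = n38913 := d41_1 D39502 (iv D38913) (iv F177736)
theorem F182909 : act 8 n39502 = n38338 := d44_1 D39502 (iv D38338) (iv D36968) (iv F171434) D38316
def n39503 : Q := act 4 n38317
theorem D39503 : act 4 n38317 = n39503 := rfl
theorem F182910 : act 1 n39503 = n38440 := d11_1 D39503 (iv D38440) (iv F177737)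
theorem F182911 : act 5 n39503 = n38321 := d30_2 D38317 D39503 (iv D38321) (iv D36949) (iv F171436)
def n39504 : Q := act 6 n38317
theorem D39504 : act 6 n38317 = n39504 := rfl
theorem F182912 : act 1 n39504 = n38441 := d13_1 D39504 (iv D38441) (iv F177737)
theorem F182913 : act 2 n39504 = n38651 := d20_1 D39504 (iv F182898) F182897
theorem F182914 : act 5 n39504 = n38319 := d35_1 D39504 (iv D38319) (iv D36946) (iv F171437) D38317
def n39505 : Q := act 9 n38317
theorem D39505 : act 9 n38317 = n39505 := rfl
theorem F182915 : act 0 n39505 = n38651 := d8_1 D39505 (iv F182630) F182626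
theorem F182916 : act 1 n39505 = n38442 := d16_1 D39505 (iv D38442) (iv F177737)
theorem F182917 : act 5 n39505 = n38318 := d38_1 D39505 (iv D38318) D38317
def n39506 : Q := act 7 n38319
theorem D39506 : act 7 n38319 = n39506 := rfl
theorem F182918 : act 1 n39506 = n38443 := d14_1 D39506 (iv D38443) (iv F177743)
theorem F182919 : act 2 n39506 = n38632 := d21_1 D39506 F179066 (iv F177744)
theorem F182920 : act 4 n39506 = n38524 := d32_1 D39506 (iv D38524) (iv F177745)
theorem F182921 : act 6 n39506 = n38320 := d39_1 D39506 (iv D38320) (iv D36948) (iv F171441) D38319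
theorem F182922 : act 8 n39506 = n38587 := d42_2 (iv F177746) D39506 F178920
theorem F182923 : act 9 n39506 = n38775 := d43_2 F182619 D39506 (iv F182618)
def n39507 : Q := act 3 n38321
theorem D39507 : act 3 n38321 = n39507 := rfl
theorem F182924 : act 1 n39507 = n38446 := d10_1 D39507 (iv D38446) (iv F177752)
theorem F182925 : act 4 n39507 = n38322 := d24_2 D38321 D39507 (iv D38322) (iv D36951) (iv F171454)
theorem F182926 : act 6 n39507 = n38525 := d26_2 (iv F177753) D39507 (iv D38525)
theorem F182927 : act 8 n39507 = n38603 := d28_2 (iv F177754) D39507 (iv D38603)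
def n39508 : Q := act 2 n38322
theorem D39508 : act 2 n38322 = n39508 := rfl
theorem F182928 : act 3 n39508 = n39508 := d17_2 D38322 D39508 (iv D39508) (iv D38322) F171463
theorem F182929 : act 6 n39508 = n38526 := d20_2 (iv F177756) D39508 (iv D38526)
theorem F182930 : act 8 n39508 = n38605 := d22_2 (iv F177757) D39508 (iv D38605)
def n39509 : Q := act 6 n38323
theorem D39509 : act 6 n38323 = n39509 := rfl
theorem F182931 : act 0 n39509 = n38327 := d5_1 D39509 (iv D38327) (iv F177758)
theorem F182932 : act 3 n39509 = n38324 := d26_1 D39509 (iv D38324) (iv F177759)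
theorem F182933 : act 4 n39509 = n39509 := d31_1 D39509 (iv D39509) F177760
theorem F182934 : act 9 n39509 = n38464 := d41_2 (iv F177762) D39509 (iv D38464)
def n39510 : Q := act 5 n38324
theorem D39510 : act 5 n38324 = n39510 := rfl
theorem F182935 : act 0 n39510 = n38329 := d4_1 D39510 (iv D38329) (iv F177763)
theorem F182936 : act 2 n39510 = n38339 := d19_1 D39510 F177822 (iv F177764)
theorem F182937 : act 4 n39510 = n38334 := d30_1 D39510 (iv D38334) F171516 (iv F171478) (iv F177765)
theorem F182938 : act 6 n39510 = n38470 := d35_2 D38324 D39510 F178371 F172140 (iv F171473)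
theorem F182939 : act 9 n39510 = n38469 := d38_2 (iv F177766) D39510 F178368
def n39511 : Q := act 6 n38325
theorem D39511 : act 6 n38325 = n39511 := rfl
theorem F182940 : act 1 n39511 = n38794 := d13_1 D39511 (iv D38794) (iv F177767)
theorem F182941 : act 2 n39511 = n38327 := d20_1 D39511 (iv D38327) (iv F177768)
theorem F182942 : act 3 n39511 = n38449 := d26_1 D39511 (iv D38449) (iv F177769)
theorem F182943 : act 4 n39511 = n39511 := d31_1 D39511 (iv D39511) F177770
theorem F182944 : act 9 n39511 = n38865 := d41_2 (iv F177772) D39511 (iv D38865)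
def n39512 : Q := act 8 n38325
theorem D39512 : act 8 n38325 = n39512 := rfl
theorem F182945 : act 0 n39512 = n38973 := d7_1 D39512 (iv F182238) F182231
theorem F182946 : act 1 n39512 = n38776 := d15_1 D39512 F179561 (iv F177767)
theorem F182947 : act 2 n39512 = n38328 := d22_1 D39512 (iv D38328) (iv F177768)
theorem F182948 : act 3 n39512 = n38450 := d28_1 D39512 (iv D38450) (iv F177769)
theorem F182949 : act 4 n39512 = n39512 := d33_1 D39512 (iv D39512) F177770
theorem F182950 : act 5 n39512 = n38445 := d37_1 D39512 F178286 F173681 D37499 (iv F177771)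
theorem F182951 : act 7 n39512 = n38326 := d42_1 D39512 (iv D38326) D38325
theorem F182952 : act 9 n39512 = n38383 := d44_2 (iv F177772) D39512 (iv F181206) F181207 F178786
def n39513 : Q := act 5 n38327
theorem D39513 : act 5 n38327 = n39513 := rfl
theorem F182953 : act 1 n39513 = n38331 := d12_1 D39513 (iv D38331) (iv F177781)
theorem F182954 : act 3 n39513 = n38329 := d25_1 D39513 (iv D38329) (iv F177782)
theorem F182955 : act 6 n39513 = n39021 := d35_2 D38327 D39513 F180204 F174502 (iv F171488)
theorem F182956 : act 9 n39513 = n39020 := d38_2 (iv F177784) D39513 F180202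
def n39514 : Q := act 8 n38327
theorem D39514 : act 8 n38327 = n39514 := rfl
theorem F182957 : act 1 n39514 = n38332 := d15_1 D39514 (iv D38332) (iv F177781)
theorem F182958 : act 3 n39514 = n38330 := d28_1 D39514 (iv D38330) (iv F177782)
theorem F182959 : act 4 n39514 = n39514 := d33_1 D39514 (iv D39514) F177783
theorem F182960 : act 6 n39514 = n38328 := d40_1 D39514 (iv D38328) D38327
theorem F182961 : act 9 n39514 = n38593 := d44_2 (iv F177784) D39514 (iv F181497) F181498 F179126
def n39515 : Q := act 8 n38329
theorem D39515 : act 8 n38329 = n39515 := rfl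
theorem F182962 : act 1 n39515 = n38333 := d15_1 D39515 (iv D38333) (iv F177791)
theorem F182963 : act 2 n39515 = n38455 := d22_1 D39515 (iv D38455) (iv F177792)
theorem F182964 : act 6 n39515 = n39026 := d40_1 D39515 (iv D39026) (iv F177793)
def n39516 : Q := act 5 n38330
theorem D39516 : act 5 n38330 = n39516 := rfl
theorem F182965 : act 1 n39516 = n38334 := d12_1 D39516 (iv D38334) (iv F177795)
theorem F182966 : act 2 n39516 = n38456 := d19_1 D39516 (iv D38456) (iv F177796)
def n39517 : Q := act 4 n38331
theorem D39517 : act 4 n38331 = n39517 := rfl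
theorem F182967 : act 5 n39517 = n39517 := d30_2 D38331 D39517 (iv D39517) (iv D38331) F171508
def n39518 : Q := act 8 n38331
theorem D39518 : act 8 n38331 = n39518 := rfl
theorem F182968 : act 3 n39518 = n38333 := d28_1 D39518 (iv D38333) (iv F177799)
def n39519 : Q := act 5 n38332
theorem D39519 : act 5 n38332 = n39519 := rfl
theorem F182969 : act 3 n39519 = n38334 := d25_1 D39519 (iv D38334) (iv F177800)
theorem F182970 : act 6 n39519 = n38645 := d35_2 (iv F177802) D39519 F179099 F173150 (iv F171511)
theorem F182971 : act 9 n39519 = n38644 := d38_2 F177803 D39519 F179098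
def n39520 : Q := act 5 n38333
theorem D39520 : act 5 n38333 = n39520 := rfl
theorem F182972 : act 2 n39520 = n38337 := d19_1 D39520 (iv D38337) (iv F177804)
theorem F182973 : act 8 n39520 = n38334 := d37_2 D38333 D39520 (iv D38334) (iv D36964) D36963
def n39521 : Q := act 9 n38333
theorem D39521 : act 9 n38333 = n39521 := rfl
theorem F182974 : act 2 n39521 = n38338 := d23_1 D39521 (iv D38338) (iv F177804)
def n39522 : Q := act 6 n38334
theorem D39522 : act 6 n38334 = n39522 := rfl
theorem F182975 : act 0 n39522 = n38914 := d5_1 D39522 (iv F182668) F182664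
theorem F182976 : act 2 n39522 = n38340 := d20_1 D39522 (iv D38340) (iv F177805)
theorem F182977 : act 3 n39522 = n38645 := d26_1 D39522 (iv F182970) F182969
theorem F182978 : act 4 n39522 = n38470 := d31_1 D39522 (iv F182938) F182937
theorem F182979 : act 5 n39522 = n38336 := d35_1 D39522 (iv D38336) (iv D36965) (iv F171517) D38334
theorem F182980 : act 7 n38571 = n39522 := d36_0 F182979 F177815 (iv F178853)
theorem F182981 : act 9 n38468 = n39522 := d38_0 F182979 F177816 (iv F178363)
def n39523 : Q := act 9 n38334
theorem D39523 : act 9 n38334 = n39523 := rfl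
theorem F182982 : act 0 n39523 = n38596 := d8_1 D39523 (iv F182669) F182664
theorem F182983 : act 2 n39523 = n38341 := d23_1 D39523 (iv D38341) (iv F177805)
theorem F182984 : act 3 n39523 = n38644 := d29_1 D39523 (iv F182971) F182969
theorem F182985 : act 4 n39523 = n38469 := d34_1 D39523 (iv F182939) F182937
theorem F182986 : act 5 n39523 = n38335 := d38_1 D39523 (iv D38335) D38334
theorem F182987 : act 6 n39523 = n38468 := d41_1 D39523 F182981 (iv D39522)
def n39524 : Q := act 4 n38337
theorem D39524 : act 4 n38337 = n39524 := rfl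
theorem F182988 : act 0 n39524 = n38455 := d3_1 D39524 F182673 F182670
theorem F182989 : act 1 n39524 = n38472 := d11_1 D39524 (iv D38472) (iv F177817)
theorem F182990 : act 8 n39524 = n38339 := d33_2 (iv F177818) D39524 (iv D38339)
theorem F182991 : act 6 n38477 = n39524 := d40_3 F182990 (iv F177823) D38477
def n39525 : Q := act 6 n38337
theorem D39525 : act 6 n38337 = n39525 := rfl
theorem F182992 : act 0 n39525 = n38995 := d5_1 D39525 F182674 F182670
theorem F182993 : act 1 n39525 = n38473 := d13_1 D39525 (iv D38473) (iv F177817)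
theorem F182994 : act 4 n39525 = n38477 := d31_1 D39525 F182991 (iv D39524)
theorem F182995 : act 8 n39525 = n38340 := d40_2 (iv F177818) D39525 (iv D38340)
def n39526 : Q := act 9 n38337
theorem D39526 : act 9 n38337 = n39526 := rfl
theorem F182996 : act 1 n39526 = n38474 := d16_1 D39526 (iv D38474) (iv F177817)
theorem F182997 : act 5 n39526 = n38338 := d38_1 D39526 (iv D38338) D38337
def n39527 : Q := act 7 n38340
theorem D39527 : act 7 n38340 = n39527 := rfl
theorem F182998 : act 0 n39527 = n38959 := d6_1 D39527 F180078 (iv F177825)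
theorem F182999 : act 1 n39527 = n38476 := d14_1 D39527 (iv D38476) (iv F177826)
theorem F183000 : act 2 n39527 = n38571 := d21_1 D39527 F182980 F182976
theorem F183001 : act 4 n39527 = n38404 := d32_1 D39527 F178110 (iv F177827)
theorem F183002 : act 5 n39527 = n38342 := d36_1 D39527 (iv D38342) (iv F177828)
theorem F183003 : act 9 n39527 = n38402 := d43_2 F177829 D39527 F178105
def n39528 : Q := act 8 n38341
theorem D39528 : act 8 n38341 = n39528 := rfl
theorem F183004 : act 0 n39528 = n38650 := d7_1 D39528 (iv D38650) (iv F177830)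
theorem F183005 : act 1 n39528 = n38477 := d15_1 D39528 (iv D38477) (iv F177831)
theorem F183006 : act 4 n39528 = n38473 := d33_1 D39528 F178379 (iv F177832)
theorem F183007 : act 6 n39528 = n38472 := d40_1 D39528 F178377 (iv F177834)
def n39529 : Q := act 6 n38343
theorem D39529 : act 6 n38343 = n39529 := rfl
theorem F183008 : act 0 n39529 = n38346 := d5_1 D39529 (iv D38346) (iv F177841)
theorem F183009 : act 1 n39529 = n38551 := d13_1 D39529 (iv D38551) (iv F177842)
theorem F183010 : act 4 n39529 = n38344 := d31_1 D39529 (iv D38344) (iv F177843)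
theorem F183011 : act 7 n39529 = n38406 := d39_2 D38343 D39529 F178116 F171864 (iv F171577)
theorem F183012 : act 8 n39529 = n38860 := d40_2 (iv F177845) D39529 (iv D38860)
theorem F183013 : act 9 n39529 = n38405 := d41_2 (iv F177846) D39529 F178113
def n39530 : Q := act 6 n38345
theorem D39530 : act 6 n38345 = n39530 := rfl
theorem F183014 : act 1 n39530 = n38349 := d13_1 D39530 (iv D38349) (iv F177854)
theorem F183015 : act 3 n39530 = n38346 := d26_1 D39530 (iv D38346) (iv F177855)
theorem F183016 : act 4 n39530 = n39530 := d31_1 D39530 (iv D39530) F177856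
theorem F183017 : act 7 n39530 = n38805 := d39_2 D38345 D39530 F179663 F173801 (iv F171589)
theorem F183018 : act 9 n39530 = n38804 := d41_2 (iv F177858) D39530 F179660
def n39531 : Q := act 5 n38346
theorem D39531 : act 5 n38346 = n39531 := rfl
theorem F183019 : act 1 n39531 = n38351 := d12_1 D39531 (iv D38351) (iv F177859)
theorem F183020 : act 6 n39531 = n38390 := d35_2 D38346 D39531 (iv D38390) (iv D37027) (iv F171593)
theorem F183021 : act 7 n39531 = n38987 := d36_2 (iv F177861) D39531 F180144
theorem F183022 : act 9 n39531 = n38986 := d38_2 (iv F177862) D39531 F180142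
def n39532 : Q := act 8 n38346
theorem D39532 : act 8 n38346 = n39532 := rfl
theorem F183023 : act 0 n39532 = n38860 := d7_1 D39532 (iv F183012) F183008
theorem F183024 : act 1 n39532 = n38352 := d15_1 D39532 (iv D38352) (iv F177859)
theorem F183025 : act 4 n39532 = n38348 := d33_1 D39532 (iv D38348) (iv F177860)
theorem F183026 : act 6 n39532 = n38347 := d40_1 D39532 (iv D38347) D38346
theorem F183027 : act 7 n39532 = n38989 := d42_1 D39532 (iv D38989) (iv F177861)
def n39533 : Q := act 5 n38348
theorem D39533 : act 5 n38348 = n39533 := rfl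
theorem F183028 : act 0 n39533 = n38889 := d4_1 D39533 F179900 (iv F177868)
theorem F183029 : act 1 n39533 = n38354 := d12_1 D39533 (iv D38354) (iv F177869)
theorem F183030 : act 2 n39533 = n38702 := d19_1 D39533 F181556 F181552
theorem F183031 : act 3 n39533 = n39533 := d25_1 D39533 (iv D39533) F177870
theorem F183032 : act 6 n39533 = n38540 := d35_2 (iv F177871) D39533 (iv D38540) F172706 (iv F171607)
theorem F183033 : act 7 n39533 = n39058 := d36_2 (iv F177872) D39533 (iv D39058)
theorem F183034 : act 8 n39533 = n38767 := d37_2 D38348 D39533 F179528 (iv F175504) F175502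
theorem F183035 : act 9 n39533 = n38700 := d38_2 F182447 D39533 (iv F182444)
def n39534 : Q := act 5 n38349
theorem D39534 : act 5 n38349 = n39534 := rfl
theorem F183036 : act 0 n39534 = n38936 := d4_1 D39534 (iv D38936) (iv F177873)
theorem F183037 : act 3 n39534 = n38351 := d25_1 D39534 (iv D38351) (iv F177874)
theorem F183038 : act 6 n39534 = n38394 := d35_2 D38349 D39534 (iv D38394) (iv D37032) (iv F171612)
def n39535 : Q := act 8 n38349
theorem D39535 : act 8 n38349 = n39535 := rfl
theorem F183039 : act 0 n39535 = n38937 := d7_1 D39535 (iv D38937) (iv F177873)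
theorem F183040 : act 3 n39535 = n38352 := d28_1 D39535 (iv D38352) (iv F177874)
theorem F183041 : act 4 n39535 = n39535 := d33_1 D39535 (iv D39535) F177875
theorem F183042 : act 6 n39535 = n38350 := d40_1 D39535 (iv D38350) D38349
def n39536 : Q := act 8 n38351
theorem D39536 : act 8 n38351 = n39536 := rfl
theorem F183043 : act 0 n39536 = n38939 := d7_1 D39536 (iv D38939) (iv F177880)
theorem F183044 : act 2 n39536 = n38356 := d22_1 D39536 (iv D38356) (iv F177881)
theorem F183045 : act 6 n39536 = n38397 := d40_1 D39536 (iv D38397) (iv F177882)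
def n39537 : Q := act 5 n38352
theorem D39537 : act 5 n38352 = n39537 := rfl
theorem F183046 : act 0 n39537 = n38940 := d4_1 D39537 (iv D38940) (iv F177883)
theorem F183047 : act 2 n39537 = n38357 := d19_1 D39537 (iv D38357) (iv F177884)
def n39538 : Q := act 9 n38352
theorem D39538 : act 9 n38352 = n39538 := rfl
theorem F183048 : act 0 n39538 = n38941 := d8_1 D39538 (iv D38941) (iv F177883)
theorem F183049 : act 2 n39538 = n38358 := d23_1 D39538 (iv D38358) (iv F177884)
theorem F183050 : act 4 n39538 = n38355 := d34_1 D39538 (iv D38355) (iv F177885)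
theorem F183051 : act 6 n39538 = n38353 := d41_1 D39538 (iv D38353) (iv F177886)
def n39539 : Q := act 4 n38354
theorem D39539 : act 4 n38354 = n39539 := rfl
theorem F183052 : act 0 n39539 = n38942 := d3_1 D39539 (iv D38942) (iv F177891)
theorem F183053 : act 2 n39539 = n38362 := d18_1 D39539 (iv D38362) (iv F177892)
theorem F183054 : act 6 n39539 = n38541 := d31_2 (iv F177894) D39539 (iv D38541)
theorem F183055 : act 8 n39539 = n38884 := d33_2 (iv F177895) D39539 F179879
def n39540 : Q := act 9 n38354
theorem D39540 : act 9 n38354 = n39540 := rfl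
theorem F183056 : act 0 n39540 = n38943 := d8_1 D39540 (iv D38943) (iv F177891)
theorem F183057 : act 1 n39540 = n38700 := d16_1 D39540 (iv F183035) F183029
theorem F183058 : act 2 n39540 = n38363 := d23_1 D39540 (iv D38363) (iv F177892)
theorem F183059 : act 3 n39540 = n39540 := d29_1 D39540 (iv D39540) F177893
theorem F183060 : act 5 n39540 = n38355 := d38_1 D39540 (iv D38355) D38354
theorem F183061 : act 6 n39540 = n38542 := d41_1 D39540 (iv D38542) (iv F177894)
def n39541 : Q := act 5 n38356
theorem D39541 : act 5 n38356 = n39541 := rfl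
theorem F183062 : act 0 n39541 = n38944 := d4_1 D39541 (iv D38944) (iv F177900)
theorem F183063 : act 8 n39541 = n38357 := d37_2 D38356 D39541 (iv D38357) (iv D36993) D36992
def n39542 : Q := act 9 n38356
theorem D39542 : act 9 n38356 = n39542 := rfl
theorem F183064 : act 0 n39542 = n38945 := d8_1 D39542 (iv D38945) (iv F177900)
theorem F183065 : act 6 n39542 = n38401 := d41_1 D39542 (iv D38401) (iv F177901)
def n39543 : Q := act 4 n38357
theorem D39543 : act 4 n38357 = n39543 := rfl
theorem F183066 : act 0 n39543 = n38946 := d3_1 D39543 (iv D38946) (iv F177902)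
theorem F183067 : act 5 n39543 = n38362 := d30_2 D38357 D39543 (iv D38362) (iv D36998) (iv F171638)
def n39544 : Q := act 6 n38357
theorem D39544 : act 6 n38357 = n39544 := rfl
theorem F183068 : act 0 n39544 = n38947 := d5_1 D39544 (iv D38947) (iv F177902)
theorem F183069 : act 5 n39544 = n38359 := d35_1 D39544 (iv D38359) (iv D36994) (iv F171639) D38357
def n39545 : Q := act 9 n38357
theorem D39545 : act 9 n38357 = n39545 := rfl
theorem F183070 : act 0 n39545 = n38948 := d8_1 D39545 (iv D38948) (iv F177902)
theorem F183071 : act 5 n39545 = n38358 := d38_1 D39545 (iv D38358) D38357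
def n39546 : Q := act 7 n38359
theorem D39546 : act 7 n38359 = n39546 := rfl
theorem F183072 : act 0 n39546 = n38949 := d6_1 D39546 (iv D38949) (iv F177906)
theorem F183073 : act 4 n39546 = n38546 := d32_1 D39546 (iv D38546) (iv F177907)
theorem F183074 : act 6 n39546 = n38361 := d39_1 D39546 (iv D38361) (iv D36996) (iv F171642) D38359
theorem F183075 : act 8 n39546 = n38405 := d42_2 (iv F177908) D39546 (iv D38405)
def n39547 : Q := act 9 n38359
theorem D39547 : act 9 n38359 = n39547 := rfl
theorem F183076 : act 0 n39547 = n38950 := d8_1 D39547 (iv D38950) (iv F177906)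
theorem F183077 : act 4 n39547 = n38547 := d34_1 D39547 (iv D38547) (iv F177907)
theorem F183078 : act 6 n39547 = n38360 := d41_1 D39547 (iv D38360) D38359
def n39548 : Q := act 3 n38362
theorem D39548 : act 3 n38362 = n39548 := rfl
theorem F183079 : act 0 n39548 = n38953 := d2_1 D39548 (iv D38953) (iv F177916)
theorem F183080 : act 1 n39548 = n38504 := d10_1 D39548 (iv F181635) F181634
theorem F183081 : act 4 n39548 = n38364 := d24_2 D38362 D39548 (iv D38364) (iv D37000) (iv F171654)
theorem F183082 : act 6 n39548 = n38515 := d26_2 (iv F177917) D39548 F178593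
theorem F183083 : act 8 n39548 = n38500 := d28_2 F181110 D39548 (iv F181107)
def n39549 : Q := act 9 n38362
theorem D39549 : act 9 n38362 = n39549 := rfl
theorem F183084 : act 0 n39549 = n38954 := d8_1 D39549 (iv D38954) (iv F177916)
theorem F183085 : act 4 n39549 = n38363 := d34_1 D39549 (iv D38363) D38362
theorem F183086 : act 6 n39549 = n38548 := d41_1 D39549 (iv D38548) (iv F177917)
def n39550 : Q := act 8 n38363
theorem D39550 : act 8 n38363 = n39550 := rfl
theorem F183087 : act 0 n39550 = n38955 := d7_1 D39550 (iv D38955) (iv F177918)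
theorem F183088 : act 1 n39550 = n38714 := d15_1 D39550 (iv F181646) F181640
theorem F183089 : act 3 n39550 = n38366 := d28_1 D39550 (iv D38366) (iv F177919)
theorem F183090 : act 6 n39550 = n38549 := d40_1 D39550 (iv D38549) (iv F177921)
theorem F183091 : act 9 n39550 = n38711 := d44_2 D38363 D39550 (iv D38711) (iv F175542) F175541
def n39551 : Q := act 2 n38364
theorem D39551 : act 2 n38364 = n39551 := rfl
theorem F183092 : act 0 n39551 = n38956 := d1_1 D39551 (iv D38956) (iv F177922)
theorem F183093 : act 3 n39551 = n39551 := d17_2 D38364 D39551 (iv D39551) (iv D38364) F171661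
theorem F183094 : act 6 n39551 = n38514 := d20_2 (iv F177924) D39551 F178587
theorem F183095 : act 8 n39551 = n38497 := d22_2 (iv F177925) D39551 F178501
def n39552 : Q := act 9 n38364
theorem D39552 : act 9 n38364 = n39552 := rfl
theorem F183096 : act 0 n39552 = n38957 := d8_1 D39552 (iv D38957) (iv F177922)
theorem F183097 : act 1 n39552 = n38448 := d16_1 D39552 F178298 (iv F177923)
theorem F183098 : act 3 n39552 = n38365 := d29_1 D39552 (iv D38365) D38364
theorem F183099 : act 6 n39552 = n38516 := d41_1 D39552 (iv D38516) (iv F177924)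
theorem F183100 : act 8 n39552 = n38681 := d44_1 D39552 F179183 F174116 (iv F172396) (iv F177925)
def n39553 : Q := act 8 n38367
theorem D39553 : act 8 n38367 = n39553 := rfl
theorem F183101 : act 0 n39553 = n38908 := d7_1 D39553 F179964 (iv F177938)
theorem F183102 : act 2 n39553 = n38368 := d22_1 D39553 (iv D38368) (iv F177939)
theorem F183103 : act 4 n39553 = n38397 := d33_1 D39553 (iv D38397) (iv F177940)
theorem F183104 : act 5 n39553 = n38562 := d37_1 D39553 (iv D38562) (iv D37245) (iv F171672) D38367
theorem F183105 : act 7 n39553 = n38423 := d42_1 D39553 (iv D38423) (iv F177941)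
def n39554 : Q := act 5 n38368
theorem D39554 : act 5 n38368 = n39554 := rfl
theorem F183106 : act 0 n39554 = n38907 := d4_1 D39554 F179959 (iv F177943)
theorem F183107 : act 2 n39554 = n38562 := d19_1 D39554 (iv F183104) F183102
theorem F183108 : act 7 n39554 = n38424 := d36_2 (iv F177945) D39554 (iv D38424)
theorem F183109 : act 8 n39554 = n38369 := d37_2 D38368 D39554 (iv D38369) (iv D37004) D37003
theorem F183110 : act 4 n38567 = n39554 := d33_3 F183109 F177948 D38567
theorem F183111 : act 6 n38819 = n39554 := d40_3 F183109 F177949 D38819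
def n39555 : Q := act 9 n38368
theorem D39555 : act 9 n38368 = n39555 := rfl
theorem F183112 : act 0 n39555 = n38958 := d8_1 D39555 (iv D38958) (iv F177943)
theorem F183113 : act 4 n39555 = n38401 := d34_1 D39555 (iv D38401) (iv F177944)
theorem F183114 : act 7 n39555 = n38425 := d43_1 D39555 (iv D38425) (iv F177945)
theorem F183115 : act 8 n39555 = n38642 := d44_1 D39555 (iv D38642) (iv D37334) (iv F171677) D38368
def n39556 : Q := act 5 n38370
theorem D39556 : act 5 n38370 = n39556 := rfl
theorem F183116 : act 0 n39556 = n38960 := d4_1 D39556 (iv D38960) (iv F177951)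
theorem F183117 : act 1 n39556 = n38881 := d12_1 D39556 F179873 (iv F177952)
theorem F183118 : act 3 n39556 = n38372 := d25_1 D39556 (iv D38372) (iv F177953)
theorem F183119 : act 7 n39556 = n38430 := d36_2 (iv F177955) D39556 (iv D38430)
theorem F183120 : act 9 n39556 = n38394 := d38_2 (iv F177956) D39556 (iv D38394)
def n39557 : Q := act 8 n38370
theorem D39557 : act 8 n38370 = n39557 := rfl
theorem F183121 : act 0 n39557 = n38742 := d7_1 D39557 F179423 (iv F177951)
theorem F183122 : act 1 n39557 = n38572 := d15_1 D39557 F178857 (iv F177952)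
theorem F183123 : act 2 n39557 = n38832 := d22_1 D39557 (iv F181563) F181559
theorem F183124 : act 3 n39557 = n38373 := d28_1 D39557 (iv D38373) (iv F177953)
theorem F183125 : act 4 n39557 = n38480 := d33_1 D39557 (iv D38480) (iv F177954)
theorem F183126 : act 6 n39557 = n38371 := d40_1 D39557 (iv D38371) D38370
theorem F183127 : act 7 n39557 = n38431 := d42_1 D39557 (iv D38431) (iv F177955)
theorem F183128 : act 9 n38754 = n39557 := d41_0 F183126 (iv F177963) D38754
def n39558 : Q := act 8 n38372
theorem D39558 : act 8 n38372 = n39558 := rfl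
theorem F183129 : act 0 n39558 = n38961 := d7_1 D39558 (iv D38961) (iv F177964)
theorem F183130 : act 1 n39558 = n39027 := d15_1 D39558 F180215 (iv F177965)
theorem F183131 : act 2 n39558 = n38378 := d22_1 D39558 (iv D38378) (iv F177966)
theorem F183132 : act 4 n39558 = n38636 := d33_1 D39558 (iv D38636) (iv F177967)
theorem F183133 : act 7 n39558 = n38433 := d42_1 D39558 (iv D38433) (iv F177968)
def n39559 : Q := act 5 n38373
theorem D39559 : act 5 n38373 = n39559 := rfl
theorem F183134 : act 0 n39559 = n38962 := d4_1 D39559 (iv D38962) (iv F177970)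
theorem F183135 : act 1 n39559 = n38674 := d12_1 D39559 F179168 (iv F177971)
theorem F183136 : act 2 n39559 = n38379 := d19_1 D39559 (iv D38379) (iv F177972)
theorem F183137 : act 7 n39559 = n38434 := d36_2 (iv F177975) D39559 (iv D38434)
def n39560 : Q := act 9 n38373
theorem D39560 : act 9 n38373 = n39560 := rfl
theorem F183138 : act 0 n39560 = n38755 := d8_1 D39560 F179491 (iv F177970)
theorem F183139 : act 1 n39560 = n38677 := d16_1 D39560 (iv D38677) (iv F177971)
theorem F183140 : act 2 n39560 = n38380 := d23_1 D39560 (iv D38380) (iv F177972)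
theorem F183141 : act 3 n39560 = n38754 := d29_1 D39560 F183128 F183124
theorem F183142 : act 4 n39560 = n38377 := d34_1 D39560 (iv D38377) (iv F177973)
theorem F183143 : act 6 n39560 = n38375 := d41_1 D39560 (iv D38375) (iv F177974)
theorem F183144 : act 7 n39560 = n38435 := d43_1 D39560 (iv D38435) (iv F177975)
theorem F183145 : act 8 n39560 = n38399 := d44_1 D39560 (iv D38399) (iv D37036) (iv F171700) D38373
def n39561 : Q := act 6 n38374
theorem D39561 : act 6 n38374 = n39561 := rfl
theorem F183146 : act 0 n39561 = n38963 := d5_1 D39561 (iv D38963) (iv F177976)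
theorem F183147 : act 1 n39561 = n38646 := d13_1 D39561 F179102 (iv F177977)
theorem F183148 : act 2 n39561 = n38381 := d20_1 D39561 (iv D38381) (iv F177978)
theorem F183149 : act 4 n39561 = n39561 := d31_1 D39561 (iv D39561) F177979
theorem F183150 : act 7 n39561 = n38593 := d39_2 (iv F177980) D39561 (iv D38593) F172975 (iv F171710)
def n39562 : Q := act 4 n38376
theorem D39562 : act 4 n38376 = n39562 := rfl
theorem F183151 : act 0 n39562 = n38964 := d3_1 D39562 (iv D38964) (iv F177988)
theorem F183152 : act 1 n39562 = n38693 := d11_1 D39562 F179227 (iv F177989)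
theorem F183153 : act 2 n39562 = n38384 := d18_1 D39562 (iv D38384) (iv F177990)
theorem F183154 : act 6 n39562 = n39562 := d31_2 F177992 D39562 (iv D39562)
theorem F183155 : act 7 n39562 = n38436 := d32_2 (iv F177993) D39562 (iv D38436)
theorem F183156 : act 8 n39562 = n38640 := d33_2 (iv F177994) D39562 (iv D38640)
def n39563 : Q := act 5 n38378
theorem D39563 : act 5 n38378 = n39563 := rfl
theorem F183157 : act 0 n39563 = n38965 := d4_1 D39563 (iv D38965) (iv F178002)
theorem F183158 : act 7 n39563 = n38438 := d36_2 (iv F178004) D39563 (iv D38438)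
theorem F183159 : act 8 n39563 = n38379 := d37_2 D38378 D39563 (iv D38379) (iv D37014) D37013
def n39564 : Q := act 9 n38378
theorem D39564 : act 9 n38378 = n39564 := rfl
theorem F183160 : act 0 n39564 = n38966 := d8_1 D39564 (iv D38966) (iv F178002)
theorem F183161 : act 4 n39564 = n38642 := d34_1 D39564 (iv D38642) (iv F178003)
theorem F183162 : act 7 n39564 = n38439 := d43_1 D39564 (iv D38439) (iv F178004)
theorem F183163 : act 8 n39564 = n38401 := d44_1 D39564 (iv D38401) (iv D37039) (iv F171734) D38378
def n39565 : Q := act 4 n38379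
theorem D39565 : act 4 n38379 = n39565 := rfl
theorem F183164 : act 0 n39565 = n38967 := d3_1 D39565 (iv D38967) (iv F178005)
theorem F183165 : act 5 n39565 = n38384 := d30_2 D38379 D39565 (iv D38384) (iv D37019) (iv F171736)
theorem F183166 : act 7 n39565 = n38440 := d32_2 (iv F178006) D39565 (iv D38440)
def n39566 : Q := act 6 n38379
theorem D39566 : act 6 n38379 = n39566 := rfl
theorem F183167 : act 0 n39566 = n38968 := d5_1 D39566 (iv D38968) (iv F178005)
theorem F183168 : act 5 n39566 = n38381 := d35_1 D39566 (iv D38381) (iv D37015) (iv F171737) D38379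
def n39567 : Q := act 9 n38379
theorem D39567 : act 9 n38379 = n39567 := rfl
theorem F183169 : act 0 n39567 = n38969 := d8_1 D39567 (iv D38969) (iv F178005)
theorem F183170 : act 5 n39567 = n38380 := d38_1 D39567 (iv D38380) D38379
theorem F183171 : act 7 n39567 = n38442 := d43_1 D39567 (iv D38442) (iv F178006)
def n39568 : Q := act 7 n38381
theorem D39568 : act 7 n38381 = n39568 := rfl
theorem F183172 : act 0 n39568 = n38970 := d6_1 D39568 (iv D38970) (iv F178012)
theorem F183173 : act 2 n39568 = n38593 := d21_1 D39568 (iv F183150) F183148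
theorem F183174 : act 4 n39568 = n39568 := d32_1 D39568 (iv D39568) F178013
theorem F183175 : act 6 n39568 = n38383 := d39_1 D39568 (iv D38383) (iv D37017) (iv F171741) D38381
def n39569 : Q := act 9 n38381
theorem D39569 : act 9 n38381 = n39569 := rfl
theorem F183176 : act 0 n39569 = n38971 := d8_1 D39569 (iv D38971) (iv F178012)
theorem F183177 : act 4 n39569 = n39569 := d34_1 D39569 (iv D39569) F178013
theorem F183178 : act 6 n39569 = n38382 := d41_1 D39569 (iv D38382) D38381
def n39570 : Q := act 3 n38384
theorem D39570 : act 3 n38384 = n39570 := rfl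
theorem F183179 : act 0 n39570 = n38974 := d2_1 D39570 (iv D38974) (iv F178022)
theorem F183180 : act 4 n39570 = n38386 := d24_2 D38384 D39570 (iv D38386) (iv D37021) (iv F171754)
theorem F183181 : act 6 n39570 = n39570 := d26_2 F178023 D39570 (iv D39570)
theorem F183182 : act 7 n39570 = n38446 := d27_2 (iv F178024) D39570 (iv D38446)
theorem F183183 : act 8 n39570 = n38505 := d28_2 (iv F178025) D39570 F178536
def n39571 : Q := act 9 n38384
theorem D39571 : act 9 n38384 = n39571 := rfl
theorem F183184 : act 0 n39571 = n38975 := d8_1 D39571 (iv D38975) (iv F178022)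
theorem F183185 : act 4 n39571 = n38385 := d34_1 D39571 (iv D38385) D38384
theorem F183186 : act 6 n39571 = n39571 := d41_1 D39571 (iv D39571) F178023
theorem F183187 : act 7 n39571 = n38447 := d43_1 D39571 (iv D38447) (iv F178024)
def n39572 : Q := act 6 n38387
theorem D39572 : act 6 n38387 = n39572 := rfl
theorem F183188 : act 2 n39572 = n38388 := d20_1 D39572 (iv D38388) (iv F178036)
theorem F183189 : act 4 n39572 = n38481 := d31_1 D39572 (iv D38481) (iv F178037)
theorem F183190 : act 7 n39572 = n38449 := d39_2 D38387 D39572 (iv D38449) (iv D37089) (iv F171780)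
theorem F183191 : act 9 n39572 = n38872 := d41_2 (iv F178038) D39572 F179853
def n39573 : Q := act 5 n38388
theorem D39573 : act 5 n38388 = n39573 := rfl
theorem F183192 : act 1 n39573 = n38394 := d12_1 D39573 (iv D38394) (iv F178039)
theorem F183193 : act 3 n39573 = n38390 := d25_1 D39573 (iv D38390) (iv F178040)
theorem F183194 : act 7 n39573 = n38451 := d36_2 (iv F178042) D39573 (iv D38451)
theorem F183195 : act 9 n39573 = n38881 := d38_2 (iv F178043) D39573 F179873
def n39574 : Q := act 8 n38388
theorem D39574 : act 8 n38388 = n39574 := rfl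
theorem F183196 : act 0 n39574 = n38564 := d7_1 D39574 F182330 F182324
theorem F183197 : act 1 n39574 = n38395 := d15_1 D39574 (iv D38395) (iv F178039)
theorem F183198 : act 3 n39574 = n38391 := d28_1 D39574 (iv D38391) (iv F178040)
theorem F183199 : act 4 n39574 = n38484 := d33_1 D39574 (iv D38484) (iv F178041)
theorem F183200 : act 6 n39574 = n38389 := d40_1 D39574 (iv D38389) D38388
theorem F183201 : act 7 n39574 = n38452 := d42_1 D39574 (iv D38452) (iv F178042)
def n39575 : Q := act 8 n38390
theorem D39575 : act 8 n38390 = n39575 := rfl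
theorem F183202 : act 1 n39575 = n38397 := d15_1 D39575 (iv D38397) (iv F178050)
theorem F183203 : act 7 n39575 = n38455 := d42_1 D39575 (iv D38455) (iv F178051)
def n39576 : Q := act 5 n38391
theorem D39576 : act 5 n38391 = n39576 := rfl
theorem F183204 : act 0 n39576 = n38565 := d4_1 D39576 (iv D38565) (iv F178053)
theorem F183205 : act 1 n39576 = n38398 := d12_1 D39576 (iv D38398) (iv F178054)
theorem F183206 : act 4 n39576 = n38559 := d30_1 D39576 (iv D38559) F172819 (iv F171810) (iv F178055)
theorem F183207 : act 6 n39576 = n38855 := d35_2 (iv F178056) D39576 (iv D38855) (iv D37568) F171800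
theorem F183208 : act 7 n39576 = n38456 := d36_2 (iv F178057) D39576 (iv D38456)
def n39577 : Q := act 9 n38391
theorem D39577 : act 9 n38391 = n39577 := rfl
theorem F183209 : act 0 n39577 = n38410 := d8_1 D39577 F178136 (iv F178053)
theorem F183210 : act 1 n39577 = n38399 := d16_1 D39577 (iv D38399) (iv F178054)
theorem F183211 : act 4 n39577 = n38393 := d34_1 D39577 (iv D38393) (iv F178055)
theorem F183212 : act 6 n39577 = n38392 := d41_1 D39577 (iv D38392) (iv F178056)
theorem F183213 : act 7 n39577 = n38457 := d43_1 D39577 (iv D38457) (iv F178057)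
theorem F183214 : act 8 n39577 = n38677 := d44_1 D39577 (iv D38677) F173227 (iv F171795) D38391
def n39578 : Q := act 4 n38394
theorem D39578 : act 4 n38394 = n39578 := rfl
theorem F183215 : act 0 n39578 = n38978 := d3_1 D39578 (iv D38978) (iv F178071)
theorem F183216 : act 5 n39578 = n38487 := d30_2 D38394 D39578 (iv D38487) (iv D37138) (iv F171821)
theorem F183217 : act 7 n39578 = n38460 := d32_2 (iv F178073) D39578 (iv D38460)
def n39579 : Q := act 8 n38394
theorem D39579 : act 8 n38394 = n39579 := rfl
theorem F183218 : act 0 n39579 = n38979 := d7_1 D39579 (iv D38979) (iv F178071)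
theorem F183219 : act 3 n39579 = n38397 := d28_1 D39579 (iv D38397) (iv F178072)
theorem F183220 : act 7 n39579 = n38461 := d42_1 D39579 (iv D38461) (iv F178073)
def n39580 : Q := act 5 n38395
theorem D39580 : act 5 n38395 = n39580 := rfl
theorem F183221 : act 0 n39580 = n38980 := d4_1 D39580 (iv D38980) (iv F178074)
theorem F183222 : act 3 n39580 = n38398 := d25_1 D39580 (iv D38398) (iv F178075)
theorem F183223 : act 4 n39580 = n38671 := d30_1 D39580 F179163 F173232 F172289 (iv F178076)
theorem F183224 : act 7 n39580 = n38462 := d36_2 (iv F178078) D39580 (iv D38462)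
def n39581 : Q := act 9 n38395
theorem D39581 : act 9 n38395 = n39581 := rfl
theorem F183225 : act 0 n39581 = n38757 := d8_1 D39581 F179500 (iv F178074)
theorem F183226 : act 2 n39581 = n38856 := d23_1 D39581 (iv F181745) F181740
theorem F183227 : act 3 n39581 = n38399 := d29_1 D39581 (iv D38399) (iv F178075)
theorem F183228 : act 4 n39581 = n38488 := d34_1 D39581 (iv D38488) (iv F178076)
theorem F183229 : act 6 n39581 = n38396 := d41_1 D39581 (iv D38396) (iv F178077)
theorem F183230 : act 7 n39581 = n38463 := d43_1 D39581 (iv D38463) (iv F178078)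
theorem F183231 : act 8 n39581 = n38754 := d44_1 D39581 F183128 (iv D39557) F177956 D38395
def n39582 : Q := act 5 n38397
theorem D39582 : act 5 n38397 = n39582 := rfl
theorem F183232 : act 0 n39582 = n38981 := d4_1 D39582 (iv D38981) (iv F178085)
theorem F183233 : act 2 n39582 = n38400 := d19_1 D39582 (iv D38400) (iv F178086)
theorem F183234 : act 4 n39582 = n38568 := d30_1 D39582 (iv D38568) (iv F178827) (iv F183104) F183103
theorem F183235 : act 7 n39582 = n38466 := d36_2 (iv F178087) D39582 (iv D38466)
theorem F183236 : act 8 n39582 = n38398 := d37_2 D38397 D39582 (iv D38398) (iv D37036) D37035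
def n39583 : Q := act 9 n38397
theorem D39583 : act 9 n38397 = n39583 := rfl
theorem F183237 : act 0 n39583 = n38982 := d8_1 D39583 (iv D38982) (iv F178085)
theorem F183238 : act 2 n39583 = n38401 := d23_1 D39583 (iv D38401) (iv F178086)
theorem F183239 : act 7 n39583 = n38467 := d43_1 D39583 (iv D38467) (iv F178087)
def n39584 : Q := act 9 n38398
theorem D39584 : act 9 n38398 = n39584 := rfl
theorem F183240 : act 0 n39584 = n38983 := d8_1 D39584 (iv D38983) (iv F178088)
theorem F183241 : act 2 n39584 = n38404 := d23_1 D39584 (iv D38404) (iv F178089)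
theorem F183242 : act 4 n39584 = n38571 := d34_1 D39584 (iv D38571) (iv F178090)
theorem F183243 : act 5 n39584 = n38399 := d38_1 D39584 (iv D38399) D38398
theorem F183244 : act 7 n39584 = n38470 := d43_1 D39584 (iv D38470) (iv F178091)
def n39585 : Q := act 4 n38400
theorem D39585 : act 4 n38400 = n39585 := rfl
theorem F183245 : act 0 n39585 = n38977 := d3_1 D39585 F180122 (iv F178097)
theorem F183246 : act 2 n39585 = n38568 := d18_1 D39585 (iv F183234) F183233
theorem F183247 : act 5 n39585 = n38567 := d30_2 D38400 D39585 F183110 (iv D39554) F177944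
theorem F183248 : act 7 n39585 = n38472 := d32_2 (iv F178098) D39585 (iv D38472)
theorem F183249 : act 8 n39585 = n38402 := d33_2 (iv F178099) D39585 (iv D38402)
def n39586 : Q := act 6 n38400
theorem D39586 : act 6 n38400 = n39586 := rfl
theorem F183250 : act 0 n39586 = n38984 := d5_1 D39586 (iv D38984) (iv F178097)
theorem F183251 : act 8 n39586 = n38403 := d40_2 (iv F178099) D39586 (iv D38403)
def n39587 : Q := act 9 n38400
theorem D39587 : act 9 n38400 = n39587 := rfl
theorem F183252 : act 0 n39587 = n38985 := d8_1 D39587 (iv D38985) (iv F178097)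
theorem F183253 : act 5 n39587 = n38401 := d38_1 D39587 (iv D38401) D38400
theorem F183254 : act 7 n39587 = n38474 := d43_1 D39587 (iv D38474) (iv F178098)
def n39588 : Q := act 3 n38402
theorem D39588 : act 3 n38402 = n39588 := rfl
theorem F183255 : act 0 n39588 = n38976 := d2_1 D39588 F180119 (iv F178102)
theorem F183256 : act 2 n39588 = n38655 := d17_1 D39588 F179123 F173192 (iv F172854) (iv F178103)
theorem F183257 : act 5 n39588 = n38408 := d25_2 (iv F178104) D39588 (iv D38408)
theorem F183258 : act 7 n39588 = n38475 := d27_2 (iv F178105) D39588 (iv D38475)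
def n39589 : Q := act 6 n38402
theorem D39589 : act 6 n38402 = n39589 := rfl
theorem F183259 : act 0 n39589 = n38935 := d5_1 D39589 F180028 (iv F178102)
theorem F183260 : act 2 n39589 = n38570 := d20_1 D39589 (iv D38570) (iv F178103)
theorem F183261 : act 4 n39589 = n38403 := d31_1 D39589 (iv D38403) D38402
theorem F183262 : act 5 n39589 = n38551 := d35_1 D39589 (iv D38551) F172761 (iv F171874) (iv F178104)
def n39590 : Q := act 7 n38403
theorem D39590 : act 7 n38403 = n39590 := rfl
theorem F183263 : act 0 n39590 = n38986 := d6_1 D39590 (iv D38986) (iv F178106)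
theorem F183264 : act 5 n39590 = n38405 := d36_1 D39590 (iv D38405) (iv F178107)
theorem F183265 : act 6 n39590 = n38476 := d39_1 D39590 (iv D38476) (iv D37115) (iv F171854) D38403
def n39591 : Q := act 9 n38403
theorem D39591 : act 9 n38403 = n39591 := rfl
theorem F183266 : act 0 n39591 = n38987 := d8_1 D39591 (iv D38987) (iv F178106)
theorem F183267 : act 5 n39591 = n38406 := d38_1 D39591 (iv D38406) (iv F178107)
theorem F183268 : act 6 n39591 = n38404 := d41_1 D39591 (iv D38404) D38403
def n39592 : Q := act 8 n38404
theorem D39592 : act 8 n38404 = n39592 := rfl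
theorem F183269 : act 0 n39592 = n38988 := d7_1 D39592 (iv D38988) (iv F178108)
theorem F183270 : act 7 n39592 = n38477 := d42_1 D39592 (iv D38477) (iv F178110)
def n39593 : Q := act 8 n38406
theorem D39593 : act 8 n38406 = n39593 := rfl
theorem F183271 : act 0 n39593 = n38989 := d7_1 D39593 (iv D38989) (iv F178114)
theorem F183272 : act 1 n39593 = n38872 := d15_1 D39593 F182801 F182796
theorem F183273 : act 4 n39593 = n38552 := d33_1 D39593 (iv D38552) (iv F178115)
theorem F183274 : act 6 n39593 = n38407 := d40_1 D39593 (iv D38407) (iv F178116)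
theorem F183275 : act 7 n39593 = n38860 := d42_1 D39593 (iv F183012) F183011
def n39594 : Q := act 6 n38409
theorem D39594 : act 6 n38409 = n39594 := rfl
theorem F183276 : act 1 n39594 = n38411 := d13_1 D39594 (iv D38411) (iv F178127)
theorem F183277 : act 2 n39594 = n38738 := d20_1 D39594 (iv D38738) (iv F178128)
theorem F183278 : act 3 n39594 = n38410 := d26_1 D39594 (iv D38410) (iv F178129)
theorem F183279 : act 4 n39594 = n38489 := d31_1 D39594 (iv D38489) (iv F178130)
theorem F183280 : act 8 n39594 = n38721 := d40_2 (iv F178132) D39594 (iv D38721)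
theorem F183281 : act 9 n39594 = n38564 := d41_2 (iv F178133) D39594 (iv D38564)
def n39595 : Q := act 5 n38410
theorem D39595 : act 5 n38410 = n39595 := rfl
theorem F183282 : act 1 n39595 = n38412 := d12_1 D39595 (iv D38412) (iv F178134)
theorem F183283 : act 6 n39595 = n38833 := d35_2 D38410 D39595 (iv D38833) (iv D37547) (iv F171890)
theorem F183284 : act 9 n39595 = n38565 := d38_2 (iv F178136) D39595 (iv D38565)
def n39596 : Q := act 5 n38411
theorem D39596 : act 5 n38411 = n39596 := rfl
theorem F183285 : act 0 n39596 = n38760 := d4_1 D39596 (iv D38760) (iv F178137)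
theorem F183286 : act 2 n39596 = n38422 := d19_1 D39596 (iv D38422) (iv F178138)
theorem F183287 : act 3 n39596 = n38412 := d25_1 D39596 (iv D38412) (iv F178139)
theorem F183288 : act 6 n39596 = n38835 := d35_2 D38411 D39596 (iv D38835) (iv D37549) (iv F171899)
theorem F183289 : act 9 n39596 = n38566 := d38_2 (iv F178142) D39596 (iv D38566)
def n39597 : Q := act 8 n38412
theorem D39597 : act 8 n38412 = n39597 := rfl
theorem F183290 : act 0 n39597 = n38990 := d7_1 D39597 (iv D38990) (iv F178143)
theorem F183291 : act 2 n39597 = n38415 := d22_1 D39597 (iv D38415) (iv F178144)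
theorem F183292 : act 6 n39597 = n38836 := d40_1 D39597 (iv D38836) (iv F178145)
def n39598 : Q := act 5 n38413
theorem D39598 : act 5 n38413 = n39598 := rfl
theorem F183293 : act 0 n39598 = n38758 := d4_1 D39598 (iv D38758) (iv F178147)
theorem F183294 : act 2 n39598 = n38416 := d19_1 D39598 (iv D38416) (iv F178148)
theorem F183295 : act 3 n39598 = n38722 := d25_1 D39598 (iv D38722) (iv F178149)
def n39599 : Q := act 4 n38414
theorem D39599 : act 4 n38414 = n39599 := rfl
theorem F183296 : act 0 n39599 = n38991 := d3_1 D39599 (iv D38991) (iv F178152)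
theorem F183297 : act 2 n39599 = n38419 := d18_1 D39599 (iv D38419) (iv F178153)
theorem F183298 : act 6 n39599 = n39599 := d31_2 F178155 D39599 (iv D39599)
theorem F183299 : act 7 n39599 = n38680 := d32_2 (iv F178156) D39599 F179179
theorem F183300 : act 8 n39599 = n38647 := d33_2 (iv F178157) D39599 F179103
def n39600 : Q := act 5 n38415
theorem D39600 : act 5 n38415 = n39600 := rfl
theorem F183301 : act 0 n39600 = n38924 := d4_1 D39600 F180003 (iv F178158)
theorem F183302 : act 3 n39600 = n38424 := d25_1 D39600 (iv D38424) (iv F178159)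
theorem F183303 : act 8 n39600 = n38416 := d37_2 D38415 D39600 (iv D38416) (iv D37056) D37055
def n39601 : Q := act 9 n38415
theorem D39601 : act 9 n38415 = n39601 := rfl
theorem F183304 : act 0 n39601 = n38992 := d8_1 D39601 (iv D38992) (iv F178158)
theorem F183305 : act 3 n39601 = n38425 := d29_1 D39601 (iv D38425) (iv F178159)
theorem F183306 : act 6 n39601 = n38842 := d41_1 D39601 (iv D38842) (iv F178160)
theorem F183307 : act 8 n39601 = n38569 := d44_1 D39601 (iv D38569) (iv D37251) (iv F171918) D38415
def n39602 : Q := act 4 n38416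
theorem D39602 : act 4 n38416 = n39602 := rfl
theorem F183308 : act 0 n39602 = n38923 := d3_1 D39602 (iv D38923) (iv F178161)
theorem F183309 : act 5 n39602 = n38419 := d30_2 D38416 D39602 (iv D38419) (iv D37059) (iv F171921)
def n39603 : Q := act 6 n38416
theorem D39603 : act 6 n38416 = n39603 := rfl
theorem F183310 : act 0 n39603 = n38597 := d5_1 D39603 F178949 (iv F178161)
theorem F183311 : act 3 n39603 = n38427 := d26_1 D39603 (iv D38427) (iv F178162)
theorem F183312 : act 5 n39603 = n38418 := d35_1 D39603 (iv D38418) (iv D37057) (iv F171922) D38416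
def n39604 : Q := act 9 n38416
theorem D39604 : act 9 n38416 = n39604 := rfl
theorem F183313 : act 0 n39604 = n38915 := d8_1 D39604 F179985 (iv F178161)
theorem F183314 : act 3 n39604 = n38428 := d29_1 D39604 (iv D38428) (iv F178162)
theorem F183315 : act 5 n39604 = n38417 := d38_1 D39604 (iv D38417) D38416
def n39605 : Q := act 3 n38419
theorem D39605 : act 3 n38419 = n39605 := rfl
theorem F183316 : act 0 n39605 = n38993 := d2_1 D39605 (iv D38993) (iv F178172)
theorem F183317 : act 4 n39605 = n38421 := d24_2 D38419 D39605 (iv D38421) (iv D37061) (iv F171934)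
theorem F183318 : act 6 n39605 = n39605 := d26_2 F178173 D39605 (iv D39605)
theorem F183319 : act 7 n39605 = n38576 := d27_2 F180435 D39605 (iv F180433)
theorem F183320 : act 2 n38706 = n39605 := d21_3 F183319 F178869 (iv F179275)
def n39606 : Q := act 9 n38419
theorem D39606 : act 9 n38419 = n39606 := rfl
theorem F183321 : act 0 n39606 = n38994 := d8_1 D39606 (iv D38994) (iv F178172)
theorem F183322 : act 4 n39606 = n38420 := d34_1 D39606 (iv D38420) D38419
theorem F183323 : act 6 n39606 = n39606 := d41_1 D39606 (iv D39606) F178173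
def n39607 : Q := act 4 n38422
theorem D39607 : act 4 n38422 = n39607 := rfl
theorem F183324 : act 0 n39607 = n38764 := d3_1 D39607 (iv D38764) (iv F178183)
theorem F183325 : act 3 n39607 = n38460 := d24_1 D39607 (iv D38460) F172117 (iv F171956) (iv F178184)
theorem F183326 : act 5 n39607 = n38492 := d30_2 D38422 D39607 (iv D38492) (iv D37147) (iv F171951)
theorem F183327 : act 6 n39607 = n38996 := d31_2 (iv F178185) D39607 (iv D38996)
theorem F183328 : act 9 n39607 = n38653 := d34_2 (iv F178186) D39607 (iv D38653)
def n39608 : Q := act 8 n38422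
theorem D39608 : act 8 n38422 = n39608 := rfl
theorem F183329 : act 0 n39608 = n38762 := d7_1 D39608 F179510 (iv F178183)
theorem F183330 : act 3 n39608 = n38423 := d28_1 D39608 (iv D38423) (iv F178184)
theorem F183331 : act 5 n39608 = n38723 := d37_1 D39608 (iv D38723) (iv D37425) (iv F171952) D38422
theorem F183332 : act 6 n39608 = n38997 := d40_1 D39608 (iv D38997) (iv F178185)
def n39609 : Q := act 9 n38423
theorem D39609 : act 9 n38423 = n39609 := rfl
theorem F183333 : act 0 n39609 = n38926 := d8_1 D39609 (iv D38926) (iv F178187)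
theorem F183334 : act 2 n39609 = n38425 := d23_1 D39609 (iv D38425) (iv F178188)
theorem F183335 : act 4 n39609 = n38467 := d34_1 D39609 (iv D38467) (iv F178189)
theorem F183336 : act 5 n39609 = n38906 := d38_1 D39609 (iv D38906) (iv F178190)
theorem F183337 : act 6 n39609 = n38999 := d41_1 D39609 (iv D38999) (iv F178191)
theorem F183338 : act 8 n39609 = n38659 := d44_1 D39609 (iv D38659) (iv D37350) (iv F171958) D38423
def n39610 : Q := act 4 n38424
theorem D39610 : act 4 n38424 = n39610 := rfl
theorem F183339 : act 0 n39610 = n38911 := d3_1 D39610 F179972 (iv F178192)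
theorem F183340 : act 2 n39610 = n38561 := d18_1 D39610 F178824 (iv F178193)
theorem F183341 : act 5 n39610 = n38472 := d30_2 D38424 D39610 (iv D38472) (iv D37112) (iv F171960)
theorem F183342 : act 7 n39610 = n38567 := d32_2 F183108 D39610 F183110
theorem F183343 : act 8 n39610 = n38426 := d33_2 (iv F178194) D39610 (iv D38426)
def n39611 : Q := act 6 n38424
theorem D39611 : act 6 n38424 = n39611 := rfl
theorem F183344 : act 0 n39611 = n38598 := d5_1 D39611 F178951 (iv F178192)
theorem F183345 : act 2 n39611 = n38581 := d20_1 D39611 F178894 (iv F178193)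
theorem F183346 : act 5 n39611 = n39004 := d35_1 D39611 (iv D39004) (iv D37740) (iv F171961) D38424
theorem F183347 : act 8 n39611 = n38427 := d40_2 (iv F178194) D39611 (iv D38427)
def n39612 : Q := act 9 n38424
theorem D39612 : act 9 n38424 = n39612 := rfl
theorem F183348 : act 0 n39612 = n38925 := d8_1 D39612 (iv D38925) (iv F178192)
theorem F183349 : act 2 n39612 = n38906 := d23_1 D39612 (iv D38906) (iv F178193)
theorem F183350 : act 5 n39612 = n38425 := d38_1 D39612 (iv D38425) D38424
def n39613 : Q := act 3 n38426
theorem D39613 : act 3 n38426 = n39613 := rfl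
theorem F183351 : act 0 n39613 = n38910 := d2_1 D39613 F179969 (iv F178199)
theorem F183352 : act 2 n39613 = n38635 := d17_1 D39613 F179079 F173131 (iv F172829) (iv F178200)
theorem F183353 : act 5 n39613 = n38429 := d25_2 (iv F178201) D39613 (iv D38429)
theorem F183354 : act 7 n39613 = n38566 := d27_2 (iv F178202) D39613 F178842
def n39614 : Q := act 8 n38428
theorem D39614 : act 8 n38428 = n39614 := rfl
theorem F183355 : act 0 n39614 = n38916 := d7_1 D39614 (iv D38916) (iv F178206)
theorem F183356 : act 2 n39614 = n38905 := d22_1 D39614 (iv D38905) (iv F178207)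
theorem F183357 : act 5 n39614 = n38676 := d37_1 D39614 (iv D38676) F173224 (iv F171968) (iv F178208)
def n39615 : Q := act 4 n38430
theorem D39615 : act 4 n38430 = n39615 := rfl
theorem F183358 : act 0 n39615 = n38996 := d3_1 D39615 (iv D38996) (iv F178215)
theorem F183359 : act 1 n39615 = n38879 := d11_1 D39615 F179868 (iv F178216)
theorem F183360 : act 3 n39615 = n38653 := d24_1 D39615 (iv D38653) F173178 (iv F172005) (iv F178217)
theorem F183361 : act 5 n39615 = n38493 := d30_2 D38430 D39615 (iv D38493) (iv D37148) (iv F171986)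
theorem F183362 : act 6 n39615 = n38764 := d31_2 (iv F178218) D39615 (iv D38764)
theorem F183363 : act 9 n39615 = n38460 := d34_2 (iv F178219) D39615 (iv D38460)
def n39616 : Q := act 8 n38430
theorem D39616 : act 8 n38430 = n39616 := rfl
theorem F183364 : act 0 n39616 = n38997 := d7_1 D39616 (iv D38997) (iv F178215)
theorem F183365 : act 1 n39616 = n38876 := d15_1 D39616 F179862 (iv F178216)
theorem F183366 : act 3 n39616 = n38433 := d28_1 D39616 (iv D38433) (iv F178217)
theorem F183367 : act 6 n39616 = n38762 := d40_1 D39616 F179510 (iv F178218)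
def n39617 : Q := act 5 n38431
theorem D39617 : act 5 n38431 = n39617 := rfl
theorem F183368 : act 0 n39617 = n38817 := d4_1 D39617 (iv D38817) (iv F178220)
theorem F183369 : act 1 n39617 = n38570 := d12_1 D39617 F178851 (iv F178221)
theorem F183370 : act 3 n39617 = n38434 := d25_1 D39617 (iv D38434) (iv F178222)
theorem F183371 : act 4 n39617 = n38855 := d30_1 D39617 (iv D38855) F173985 F172341 (iv F178223)
theorem F183372 : act 6 n39617 = n38559 := d35_2 (iv F178224) D39617 (iv D38559) F172820 (iv F171992)
def n39618 : Q := act 9 n38431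
theorem D39618 : act 9 n38431 = n39618 := rfl
theorem F183373 : act 0 n39618 = n38724 := d8_1 D39618 F179329 (iv F178220)
theorem F183374 : act 1 n39618 = n38573 := d16_1 D39618 (iv D38573) (iv F178221)
theorem F183375 : act 2 n39618 = n38784 := d23_1 D39618 F182031 F182026
theorem F183376 : act 3 n39618 = n38435 := d29_1 D39618 (iv D38435) (iv F178222)
theorem F183377 : act 4 n39618 = n38495 := d34_1 D39618 (iv D38495) (iv F178223)
theorem F183378 : act 6 n39618 = n38432 := d41_1 D39618 (iv D38432) (iv F178224)
theorem F183379 : act 7 n39618 = n38754 := d43_1 D39618 F183128 F183127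
theorem F183380 : act 8 n39618 = n38463 := d44_1 D39618 (iv D38463) (iv D37102) (iv F171987) D38431
def n39619 : Q := act 5 n38433
theorem D39619 : act 5 n38433 = n39619 := rfl
theorem F183381 : act 0 n39619 = n38998 := d4_1 D39619 (iv D38998) (iv F178233)
theorem F183382 : act 1 n39619 = n38669 := d12_1 D39619 F179160 (iv F178234)
theorem F183383 : act 2 n39619 = n38438 := d19_1 D39619 (iv D38438) (iv F178235)
theorem F183384 : act 6 n39619 = n38599 := d35_2 (iv F178237) D39619 (iv D38599) F173000 D37660
theorem F183385 : act 8 n39619 = n38434 := d37_2 D38433 D39619 (iv D38434) (iv D37075) D37074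
def n39620 : Q := act 9 n38433
theorem D39620 : act 9 n38433 = n39620 := rfl
theorem F183386 : act 0 n39620 = n38999 := d8_1 D39620 (iv D38999) (iv F178233)
theorem F183387 : act 1 n39620 = n39028 := d16_1 D39620 (iv D39028) (iv F178234)
theorem F183388 : act 2 n39620 = n38439 := d23_1 D39620 (iv D38439) (iv F178235)
theorem F183389 : act 4 n39620 = n38659 := d34_1 D39620 (iv D38659) (iv F178236)
theorem F183390 : act 6 n39620 = n38926 := d41_1 D39620 (iv D38926) (iv F178237)
theorem F183391 : act 8 n39620 = n38467 := d44_1 D39620 (iv D38467) (iv D37106) (iv F172007) D38433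
def n39621 : Q := act 4 n38434
theorem D39621 : act 4 n38434 = n39621 := rfl
theorem F183392 : act 0 n39621 = n39000 := d3_1 D39621 (iv D39000) (iv F178238)
theorem F183393 : act 1 n39621 = n38672 := d11_1 D39621 F179164 (iv F178239)
theorem F183394 : act 2 n39621 = n38440 := d18_1 D39621 (iv D38440) (iv F178240)
theorem F183395 : act 5 n39621 = n38436 := d30_2 D38434 D39621 (iv D38436) (iv D37077) (iv F172011)
theorem F183396 : act 6 n39621 = n38601 := d31_2 (iv F178241) D39621 (iv D38601)
def n39622 : Q := act 9 n38434
theorem D39622 : act 9 n38434 = n39622 := rfl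
theorem F183397 : act 0 n39622 = n39001 := d8_1 D39622 (iv D39001) (iv F178238)
theorem F183398 : act 1 n39622 = n38675 := d16_1 D39622 (iv D38675) (iv F178239)
theorem F183399 : act 2 n39622 = n38442 := d23_1 D39622 (iv D38442) (iv F178240)
theorem F183400 : act 5 n39622 = n38435 := d38_1 D39622 (iv D38435) D38434
theorem F183401 : act 6 n39622 = n38602 := d41_1 D39622 (iv D38602) (iv F178241)
def n39623 : Q := act 3 n38436
theorem D39623 : act 3 n38436 = n39623 := rfl
theorem F183402 : act 0 n39623 = n38901 := d2_1 D39623 F179942 (iv F178248)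
theorem F183403 : act 1 n39623 = n38691 := d10_1 D39623 F179221 (iv F178249)
theorem F183404 : act 4 n39623 = n38496 := d24_2 D38436 D39623 (iv D38496) (iv D37153) (iv F172023)
theorem F183405 : act 6 n39623 = n38527 := d26_2 (iv F178251) D39623 (iv D38527)
theorem F183406 : act 8 n39623 = n38666 := d28_2 (iv F178252) D39623 (iv D38666)
def n39624 : Q := act 9 n38436
theorem D39624 : act 9 n38436 = n39624 := rfl
theorem F183407 : act 0 n39624 = n39002 := d8_1 D39624 (iv D39002) (iv F178248)
theorem F183408 : act 1 n39624 = n38694 := d16_1 D39624 (iv D38694) (iv F178249)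
theorem F183409 : act 2 n39624 = n38447 := d23_1 D39624 (iv D38447) (iv F178250)
theorem F183410 : act 4 n39624 = n38437 := d34_1 D39624 (iv D38437) D38436
theorem F183411 : act 6 n39624 = n38528 := d41_1 D39624 (iv D38528) (iv F178251)
def n39625 : Q := act 4 n38438
theorem D39625 : act 4 n38438 = n39625 := rfl
theorem F183412 : act 0 n39625 = n39003 := d3_1 D39625 (iv D39003) (iv F178259)
theorem F183413 : act 5 n39625 = n38668 := d30_2 D38438 D39625 (iv D38668) (iv D37359) (iv F172033)
theorem F183414 : act 8 n39625 = n38440 := d33_2 (iv F178260) D39625 (iv D38440)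
def n39626 : Q := act 6 n38438
theorem D39626 : act 6 n38438 = n39626 := rfl
theorem F183415 : act 0 n39626 = n39004 := d5_1 D39626 (iv D39004) (iv F178259)
theorem F183416 : act 2 n39626 = n38599 := d20_1 D39626 (iv F183384) F183383
theorem F183417 : act 5 n39626 = n38598 := d35_1 D39626 F178951 F174273 (iv F172034) D38438
theorem F183418 : act 8 n39626 = n38441 := d40_2 (iv F178260) D39626 (iv D38441)
def n39627 : Q := act 9 n38438
theorem D39627 : act 9 n38438 = n39627 := rfl
theorem F183419 : act 0 n39627 = n39005 := d8_1 D39627 (iv D39005) (iv F178259)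
theorem F183420 : act 5 n39627 = n38439 := d38_1 D39627 (iv D38439) D38438
def n39628 : Q := act 3 n38440
theorem D39628 : act 3 n38440 = n39628 := rfl
theorem F183421 : act 0 n39628 = n39006 := d2_1 D39628 (iv D39006) (iv F178265)
theorem F183422 : act 5 n39628 = n38446 := d25_2 (iv F178266) D39628 (iv D38446)
def n39629 : Q := act 6 n38440
theorem D39629 : act 6 n38440 = n39629 := rfl
theorem F183423 : act 0 n39629 = n39007 := d5_1 D39629 (iv D39007) (iv F178265)
theorem F183424 : act 2 n39629 = n38601 := d20_1 D39629 (iv F183396) F183394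
theorem F183425 : act 4 n39629 = n38441 := d31_1 D39629 (iv D38441) D38440
theorem F183426 : act 5 n39629 = n38530 := d35_1 D39629 (iv D38530) F172584 (iv F172060) (iv F178266)
def n39630 : Q := act 9 n38440
theorem D39630 : act 9 n38440 = n39630 := rfl
theorem F183427 : act 0 n39630 = n39008 := d8_1 D39630 (iv D39008) (iv F178265)
theorem F183428 : act 4 n39630 = n38442 := d34_1 D39630 (iv D38442) D38440
theorem F183429 : act 5 n39630 = n38447 := d38_1 D39630 (iv D38447) (iv F178266)
def n39631 : Q := act 7 n38441
theorem D39631 : act 7 n38441 = n39631 := rfl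
theorem F183430 : act 0 n39631 = n39009 := d6_1 D39631 (iv D39009) (iv F178267)
theorem F183431 : act 2 n39631 = n38591 := d21_1 D39631 F178929 (iv F178268)
theorem F183432 : act 5 n39631 = n38443 := d36_1 D39631 (iv D38443) (iv F178269)
def n39632 : Q := act 9 n38441
theorem D39632 : act 9 n38441 = n39632 := rfl
theorem F183433 : act 0 n39632 = n39010 := d8_1 D39632 (iv D39010) (iv F178267)
theorem F183434 : act 2 n39632 = n38602 := d23_1 D39632 (iv D38602) (iv F178268)
theorem F183435 : act 5 n39632 = n38444 := d38_1 D39632 (iv D38444) (iv F178269)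
theorem F183436 : act 6 n39632 = n38442 := d41_1 D39632 (iv D38442) D38441
def n39633 : Q := act 8 n38442
theorem D39633 : act 8 n38442 = n39633 := rfl
theorem F183437 : act 0 n39633 = n39011 := d7_1 D39633 (iv D39011) (iv F178270)
theorem F183438 : act 5 n39633 = n38477 := d37_1 D39633 (iv D38477) F172161 (iv F172039) (iv F178271)
def n39634 : Q := act 9 n38443
theorem D39634 : act 9 n38443 = n39634 := rfl
theorem F183439 : act 0 n39634 = n39012 := d8_1 D39634 (iv D39012) (iv F178272)
theorem F183440 : act 1 n39634 = n38775 := d16_1 D39634 (iv F182923) F182918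
theorem F183441 : act 2 n39634 = n38592 := d23_1 D39634 (iv D38592) (iv F178273)
theorem F183442 : act 4 n39634 = n38534 := d34_1 D39634 (iv D38534) (iv F178274)
theorem F183443 : act 6 n39634 = n38445 := d41_1 D39634 (iv D38445) (iv F178275)
theorem F183444 : act 7 n39634 = n38444 := d43_1 D39634 (iv D38444) D38443
theorem F183445 : act 8 n39634 = n38771 := d44_1 D39634 (iv F182493) F182492 F177474 (iv F178276)
def n39635 : Q := act 2 n38446
theorem D39635 : act 2 n38446 = n39635 := rfl
theorem F183446 : act 0 n39635 = n39013 := d1_1 D39635 (iv D39013) (iv F178287)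
theorem F183447 : act 4 n39635 = n38448 := d18_2 (iv F178288) D39635 (iv D38448)
theorem F183448 : act 6 n39635 = n38518 := d20_2 (iv F178289) D39635 F178606
theorem F183449 : act 8 n39635 = n38678 := d22_2 (iv F178290) D39635 (iv D38678)
theorem F183450 : act 9 n39635 = n38504 := d23_2 F182465 D39635 (iv F182461)
def n39636 : Q := act 5 n38449
theorem D39636 : act 5 n38449 = n39636 := rfl
theorem F183451 : act 2 n39636 = n38451 := d19_1 D39636 (iv D38451) (iv F178299)
theorem F183452 : act 6 n39636 = n38871 := d35_2 D38449 D39636 F179850 F174029 (iv F172071)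
theorem F183453 : act 9 n39636 = n38870 := d38_2 (iv F178301) D39636 F179848
def n39637 : Q := act 8 n38449
theorem D39637 : act 8 n38449 = n39637 := rfl
theorem F183454 : act 2 n39637 = n38452 := d22_1 D39637 (iv D38452) (iv F178299)
theorem F183455 : act 4 n39637 = n38498 := d33_1 D39637 (iv D38498) (iv F178300)
theorem F183456 : act 6 n39637 = n38450 := d40_1 D39637 (iv D38450) D38449
def n39638 : Q := act 4 n38451
theorem D39638 : act 4 n38451 = n39638 := rfl
theorem F183457 : act 1 n39638 = n38460 := d11_1 D39638 (iv D38460) (iv F178305)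
theorem F183458 : act 5 n39638 = n38500 := d30_2 D38451 D39638 (iv D38500) (iv D37159) (iv F172077)
theorem F183459 : act 6 n39638 = n38880 := d31_2 (iv F178307) D39638 F179870
theorem F183460 : act 9 n39638 = n38879 := d34_2 (iv F178308) D39638 F179868
def n39639 : Q := act 8 n38451
theorem D39639 : act 8 n38451 = n39639 := rfl
theorem F183461 : act 1 n39639 = n38461 := d15_1 D39639 (iv D38461) (iv F178305)
theorem F183462 : act 3 n39639 = n38455 := d28_1 D39639 (iv D38455) (iv F178306)
theorem F183463 : act 6 n39639 = n38882 := d40_1 D39639 (iv D38882) (iv F178307)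
def n39640 : Q := act 5 n38452
theorem D39640 : act 5 n38452 = n39640 := rfl
theorem F183464 : act 1 n39640 = n38462 := d12_1 D39640 (iv D38462) (iv F178309)
theorem F183465 : act 3 n39640 = n38456 := d25_1 D39640 (iv D38456) (iv F178310)
def n39641 : Q := act 9 n38452
theorem D39641 : act 9 n38452 = n39641 := rfl
theorem F183466 : act 1 n39641 = n38463 := d16_1 D39641 (iv D38463) (iv F178309)
theorem F183467 : act 3 n39641 = n38457 := d29_1 D39641 (iv D38457) (iv F178310)
theorem F183468 : act 4 n39641 = n38502 := d34_1 D39641 (iv D38502) (iv F178311)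
theorem F183469 : act 6 n39641 = n38454 := d41_1 D39641 (iv D38454) (iv F178312)
theorem F183470 : act 8 n39641 = n38573 := d44_1 D39641 (iv D38573) F172860 (iv F172078) D38452
def n39642 : Q := act 6 n38453
theorem D39642 : act 6 n38453 = n39642 := rfl
theorem F183471 : act 1 n39642 = n38464 := d13_1 D39642 (iv D38464) (iv F178313)
theorem F183472 : act 3 n39642 = n38458 := d26_1 D39642 (iv D38458) (iv F178314)
theorem F183473 : act 4 n39642 = n39642 := d31_1 D39642 (iv D39642) F178315
theorem F183474 : act 8 n39642 = n38847 := d40_2 (iv F178317) D39642 F179789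
def n39643 : Q := act 5 n38455
theorem D39643 : act 5 n38455 = n39643 := rfl
theorem F183475 : act 1 n39643 = n38466 := d12_1 D39643 (iv D38466) (iv F178323)
theorem F183476 : act 8 n39643 = n38456 := d37_2 D38455 D39643 (iv D38456) (iv D37096) D37095
def n39644 : Q := act 9 n38455
theorem D39644 : act 9 n38455 = n39644 := rfl
theorem F183477 : act 1 n39644 = n38467 := d16_1 D39644 (iv D38467) (iv F178323)
theorem F183478 : act 6 n39644 = n39029 := d41_1 D39644 F180217 (iv F178324)
theorem F183479 : act 8 n39644 = n39028 := d44_1 D39644 (iv D39028) F174517 (iv F172093) D38455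
def n39645 : Q := act 6 n38456
theorem D39645 : act 6 n38456 = n39645 := rfl
theorem F183480 : act 1 n39645 = n38469 := d13_1 D39645 (iv D38469) (iv F178325)
theorem F183481 : act 5 n39645 = n38458 := d35_1 D39645 (iv D38458) (iv D37097) (iv F172096) D38456
def n39646 : Q := act 9 n38456
theorem D39646 : act 9 n38456 = n39646 := rfl
theorem F183482 : act 1 n39646 = n38470 := d16_1 D39646 (iv D38470) (iv F178325)
theorem F183483 : act 5 n39646 = n38457 := d38_1 D39646 (iv D38457) D38456
def n39647 : Q := act 7 n38458
theorem D39647 : act 7 n38458 = n39647 := rfl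
theorem F183484 : act 0 n39647 = n38771 := d6_1 D39647 (iv F182598) F182594
theorem F183485 : act 1 n39647 = n38471 := d14_1 D39647 (iv D38471) (iv F178330)
theorem F183486 : act 2 n39647 = n38560 := d21_1 D39647 (iv F182577) F182573
theorem F183487 : act 4 n39647 = n38478 := d32_1 D39647 (iv D38478) (iv F178331)
theorem F183488 : act 6 n39647 = n38459 := d39_1 D39647 (iv D38459) (iv D37099) (iv F172099) D38458
theorem F183489 : act 8 n39647 = n39012 := d42_2 (iv F178332) D39647 F180188
theorem F183490 : act 9 n39647 = n38557 := d43_2 F182559 D39647 (iv F182558)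
def n39648 : Q := act 8 n38460
theorem D39648 : act 8 n38460 = n39648 := rfl
theorem F183491 : act 0 n39648 = n39016 := d7_1 D39648 (iv D39016) (iv F178340)
theorem F183492 : act 4 n39648 = n38461 := d33_1 D39648 (iv D38461) D38460
def n39649 : Q := act 5 n38461
theorem D39649 : act 5 n38461 = n39649 := rfl
theorem F183493 : act 0 n39649 = n39017 := d4_1 D39649 (iv D39017) (iv F178342)
theorem F183494 : act 3 n39649 = n38466 := d25_1 D39649 (iv D38466) (iv F178343)
theorem F183495 : act 8 n39649 = n38462 := d37_2 D38461 D39649 (iv D38462) (iv D37102) D37101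
def n39650 : Q := act 9 n38461
theorem D39650 : act 9 n38461 = n39650 := rfl
theorem F183496 : act 0 n39650 = n39018 := d8_1 D39650 (iv D39018) (iv F178342)
theorem F183497 : act 3 n39650 = n38467 := d29_1 D39650 (iv D38467) (iv F178343)
def n39651 : Q := act 4 n38462
theorem D39651 : act 4 n38462 = n39651 := rfl
theorem F183498 : act 0 n39651 = n39019 := d3_1 D39651 (iv D39019) (iv F178344)
theorem F183499 : act 3 n39651 = n38643 := d24_1 D39651 (iv D38643) F178365 (iv D38468) (iv F178345)
theorem F183500 : act 5 n39651 = n38505 := d30_2 D38462 D39651 (iv D38505) (iv D37166) (iv F172120)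
theorem F183501 : act 7 n39651 = n38671 := d32_2 F183224 D39651 (iv F183223)
def n39652 : Q := act 6 n38462
theorem D39652 : act 6 n38462 = n39652 := rfl
theorem F183502 : act 0 n39652 = n39020 := d5_1 D39652 (iv D39020) (iv F178344)
theorem F183503 : act 3 n39652 = n38469 := d26_1 D39652 (iv D38469) (iv F178345)
theorem F183504 : act 5 n39652 = n38464 := d35_1 D39652 (iv D38464) (iv D37103) (iv F172121) D38462
def n39653 : Q := act 9 n38462
theorem D39653 : act 9 n38462 = n39653 := rfl
theorem F183505 : act 0 n39653 = n39021 := d8_1 D39653 (iv D39021) (iv F178344)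
theorem F183506 : act 3 n39653 = n38470 := d29_1 D39653 (iv D38470) (iv F178345)
theorem F183507 : act 5 n39653 = n38463 := d38_1 D39653 (iv D38463) D38462
def n39654 : Q := act 7 n38464
theorem D39654 : act 7 n38464 = n39654 := rfl
theorem F183508 : act 0 n39654 = n39022 := d6_1 D39654 (iv D39022) (iv F178350)
theorem F183509 : act 3 n39654 = n38471 := d27_1 D39654 (iv D38471) (iv F178351)
theorem F183510 : act 4 n39654 = n39654 := d32_1 D39654 (iv D39654) F178352
theorem F183511 : act 6 n39654 = n38465 := d39_1 D39654 (iv D38465) (iv D37105) (iv F172125) D38464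
def n39655 : Q := act 4 n38466
theorem D39655 : act 4 n38466 = n39655 := rfl
theorem F183512 : act 0 n39655 = n38912 := d3_1 D39655 F179976 (iv F178356)
theorem F183513 : act 2 n39655 = n38472 := d18_1 D39655 (iv D38472) (iv F178357)
theorem F183514 : act 5 n39655 = n38561 := d30_2 D38466 D39655 F178824 (iv F178190) F178189
theorem F183515 : act 7 n39655 = n38568 := d32_2 F183235 D39655 (iv F183234)
theorem F183516 : act 8 n39655 = n38468 := d33_2 (iv F178358) D39655 (iv D38468)
theorem F183517 : act 3 n38641 = n39655 := d28_3 F183516 (iv F178365) (iv F179094)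
def n39656 : Q := act 6 n38466
theorem D39656 : act 6 n38466 = n39656 := rfl
theorem F183518 : act 0 n39656 = n39023 := d5_1 D39656 (iv D39023) (iv F178356)
theorem F183519 : act 2 n39656 = n38473 := d20_1 D39656 (iv D38473) (iv F178357)
theorem F183520 : act 8 n39656 = n38469 := d40_2 (iv F178358) D39656 (iv D38469)
def n39657 : Q := act 9 n38466
theorem D39657 : act 9 n38466 = n39657 := rfl
theorem F183521 : act 0 n39657 = n39024 := d8_1 D39657 (iv D39024) (iv F178356)
theorem F183522 : act 2 n39657 = n38474 := d23_1 D39657 (iv D38474) (iv F178357)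
theorem F183523 : act 5 n39657 = n38467 := d38_1 D39657 (iv D38467) D38466
def n39658 : Q := act 7 n38469
theorem D39658 : act 7 n38469 = n39658 := rfl
theorem F183524 : act 0 n39658 = n39025 := d6_1 D39658 (iv D39025) (iv F178366)
theorem F183525 : act 2 n39658 = n38476 := d21_1 D39658 (iv D38476) (iv F178367)
theorem F183526 : act 5 n39658 = n38471 := d36_1 D39658 (iv D38471) (iv F178368)
def n39659 : Q := act 8 n38470
theorem D39659 : act 8 n38470 = n39659 := rfl
theorem F183527 : act 0 n39659 = n39026 := d7_1 D39659 (iv D39026) (iv F178369)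
theorem F183528 : act 2 n39659 = n38477 := d22_1 D39659 (iv D38477) (iv F178370)
def n39660 : Q := act 3 n38472
theorem D39660 : act 3 n38472 = n39660 := rfl
theorem F183529 : act 0 n39660 = n39014 := d2_1 D39660 F180193 (iv F178376)
theorem F183530 : act 8 n39660 = n38475 := d28_2 (iv F178377) D39660 (iv D38475)
def n39661 : Q := act 9 n38472
theorem D39661 : act 9 n38472 = n39661 := rfl
theorem F183531 : act 0 n39661 = n39015 := d8_1 D39661 (iv D39015) (iv F178376)
theorem F183532 : act 4 n39661 = n38474 := d34_1 D39661 (iv D38474) D38472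
def n39662 : Q := act 7 n38473
theorem D39662 : act 7 n38473 = n39662 := rfl
theorem F183533 : act 0 n39662 = n39027 := d6_1 D39662 (iv D39027) (iv F178378)
theorem F183534 : act 8 n39662 = n38476 := d42_2 (iv F178379) D39662 (iv D38476)
def n39663 : Q := act 9 n38473
theorem D39663 : act 9 n38473 = n39663 := rfl
theorem F183535 : act 0 n39663 = n39028 := d8_1 D39663 (iv D39028) (iv F178378)
theorem F183536 : act 6 n39663 = n38474 := d41_1 D39663 (iv D38474) D38473
def n39664 : Q := act 8 n38474
theorem D39664 : act 8 n38474 = n39664 := rfl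
theorem F183537 : act 0 n39664 = n39029 := d7_1 D39664 (iv D39029) (iv F178380)
theorem F183538 : act 9 n39664 = n38477 := d44_2 D38474 D39664 (iv D38477) (iv D37116) (iv F172154)
def n39665 : Q := act 4 n38479
theorem D39665 : act 4 n38479 = n39665 := rfl
theorem F183539 : act 0 n39665 = n39030 := d3_1 D39665 (iv D39030) (iv F178394)
theorem F183540 : act 1 n39665 = n38895 := d11_1 D39665 F179915 (iv F178395)
theorem F183541 : act 3 n39665 = n38706 := d24_1 D39665 (iv D38706) F173350 (iv F172202) (iv F178396)
theorem F183542 : act 6 n39665 = n39665 := d31_2 F178397 D39665 (iv D39665)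
theorem F183543 : act 7 n39665 = n38493 := d32_2 (iv F178398) D39665 (iv D38493)
theorem F183544 : act 9 n39665 = n38487 := d34_2 (iv F178399) D39665 (iv D38487)
def n39666 : Q := act 5 n38481
theorem D39666 : act 5 n38481 = n39666 := rfl
theorem F183545 : act 2 n39666 = n38483 := d19_1 D39666 (iv D38483) (iv F178408)
theorem F183546 : act 3 n39666 = n39666 := d25_1 D39666 (iv D39666) F178409
theorem F183547 : act 6 n39666 = n39666 := d35_2 D38481 D39666 (iv D39666) (iv D38481) F172229
theorem F183548 : act 7 n39666 = n38497 := d36_2 (iv F178410) D39666 (iv D38497)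
theorem F183549 : act 9 n39666 = n38892 := d38_2 (iv F178411) D39666 F179908
def n39667 : Q := act 8 n38481
theorem D39667 : act 8 n38481 = n39667 := rfl
theorem F183550 : act 0 n39667 = n38574 := d7_1 D39667 (iv F182383) F182377
theorem F183551 : act 1 n39667 = n38547 := d15_1 D39667 (iv F182420) F182416
theorem F183552 : act 2 n39667 = n38484 := d22_1 D39667 (iv D38484) (iv F178408)
theorem F183553 : act 3 n39667 = n39667 := d28_1 D39667 (iv D39667) F178409
theorem F183554 : act 6 n39667 = n38482 := d40_1 D39667 (iv D38482) D38481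
theorem F183555 : act 7 n39667 = n38498 := d42_1 D39667 (iv D38498) (iv F178410)
theorem F183556 : act 9 n39667 = n38536 := d44_2 (iv F178411) D39667 F178709 D38539 (iv F178730)
theorem F183557 : act 5 n38605 = n39667 := d35_5 F183554 (iv F178418) F172669 (iv F173024) (iv F178967)
def n39668 : Q := act 4 n38483
theorem D39668 : act 4 n38483 = n39668 := rfl
theorem F183558 : act 1 n39668 = n38487 := d11_1 D39668 (iv D38487) (iv F178419)
theorem F183559 : act 3 n39668 = n38933 := d24_1 D39668 (iv D38933) F174301 (iv F172256) (iv F178420)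
theorem F183560 : act 6 n39668 = n39668 := d31_2 F178421 D39668 (iv D39668)
theorem F183561 : act 7 n39668 = n38500 := d32_2 (iv F178422) D39668 (iv D38500)
theorem F183562 : act 9 n39668 = n38895 := d34_2 (iv F178423) D39668 F179915
def n39669 : Q := act 9 n38484
theorem D39669 : act 9 n38484 = n39669 := rfl
theorem F183563 : act 0 n39669 = n38489 := d8_1 D39669 F178459 (iv F178424)
theorem F183564 : act 1 n39669 = n38488 := d16_1 D39669 (iv D38488) (iv F178425)
theorem F183565 : act 2 n39669 = n38536 := d23_1 D39669 (iv F183556) F183552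
theorem F183566 : act 3 n39669 = n38486 := d29_1 D39669 (iv D38486) (iv F178426)
theorem F183567 : act 5 n39669 = n38606 := d38_1 D39669 (iv D38606) F178429
theorem F183568 : act 6 n39669 = n38485 := d41_1 D39669 (iv D38485) (iv F178427)
theorem F183569 : act 7 n39669 = n38502 := d43_1 D39669 (iv D38502) (iv F178428)
theorem F183570 : act 8 n39669 = n38537 := d44_1 D39669 F178715 F172870 (iv F172241) D38484
def n39670 : Q := act 5 n38489
theorem D39670 : act 5 n38489 = n39670 := rfl
theorem F183571 : act 0 n39670 = n38606 := d4_1 D39670 (iv F183567) F183563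
theorem F183572 : act 1 n39670 = n38491 := d12_1 D39670 (iv D38491) (iv F178455)
theorem F183573 : act 2 n39670 = n38767 := d19_1 D39670 F179528 (iv F178456)
theorem F183574 : act 3 n39670 = n38490 := d25_1 D39670 (iv D38490) (iv F178457)
theorem F183575 : act 6 n39670 = n38507 := d35_2 D38489 D39670 (iv D38507) (iv D37170) (iv F172306)
theorem F183576 : act 8 n39670 = n38702 := d37_2 (iv F178458) D39670 F181556 (iv D39257) F176021
theorem F183577 : act 9 n39670 = n38575 := d38_2 (iv F178459) D39670 (iv D38575)
def n39671 : Q := act 4 n38491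
theorem D39671 : act 4 n38491 = n39671 := rfl
theorem F183578 : act 0 n39671 = n38761 := d3_1 D39671 (iv D38761) (iv F178467)
theorem F183579 : act 2 n39671 = n38492 := d18_1 D39671 (iv D38492) (iv F178468)
theorem F183580 : act 6 n39671 = n38508 := d31_2 (iv F178470) D39671 (iv D38508)
theorem F183581 : act 9 n39671 = n38576 := d34_2 (iv F178471) D39671 (iv D38576)
def n39672 : Q := act 8 n38493
theorem D39672 : act 8 n38493 = n39672 := rfl
theorem F183582 : act 0 n39672 = n38861 := d7_1 D39672 F179829 (iv F178476)
theorem F183583 : act 1 n39672 = n38893 := d15_1 D39672 F179911 (iv F178477)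
theorem F183584 : act 2 n39672 = n38679 := d22_1 D39672 (iv F182430) F182427
theorem F183585 : act 3 n39672 = n38712 := d28_1 D39672 (iv D38712) (iv F178478)
theorem F183586 : act 4 n39672 = n38494 := d33_1 D39672 (iv D38494) D38493
theorem F183587 : act 6 n39672 = n38512 := d40_1 D39672 (iv D38512) (iv F178479)
theorem F183588 : act 9 n39672 = n38678 := d44_2 (iv F178480) D39672 (iv F183449) F183450 (iv D38504)
def n39673 : Q := act 4 n38497
theorem D39673 : act 4 n38497 = n39673 := rfl
theorem F183589 : act 2 n39673 = n38500 := d18_1 D39673 (iv D38500) (iv F178501)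
theorem F183590 : act 6 n39673 = n38513 := d31_2 (iv F178503) D39673 (iv D38513)
theorem F183591 : act 9 n39673 = n38891 := d34_2 (iv F178504) D39673 F179905
def n39674 : Q := act 5 n38498
theorem D39674 : act 5 n38498 = n39674 := rfl
theorem F183592 : act 2 n39674 = n38501 := d19_1 D39674 (iv D38501) (iv F178505)
theorem F183593 : act 3 n39674 = n39674 := d25_1 D39674 (iv D39674) F178506
theorem F183594 : act 6 n39674 = n39674 := d35_2 (iv F178507) D39674 (iv D39674) F178507 F172384
theorem F183595 : act 7 n39674 = n38605 := d36_2 F183555 D39674 F183557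
def n39675 : Q := act 9 n38498
theorem D39675 : act 9 n38498 = n39675 := rfl
theorem F183596 : act 0 n39675 = n38768 := d8_1 D39675 (iv F182390) F182384
theorem F183597 : act 1 n39675 = n38546 := d16_1 D39675 (iv F182454) F182449
theorem F183598 : act 2 n39675 = n38502 := d23_1 D39675 (iv D38502) (iv F178505)
theorem F183599 : act 3 n39675 = n39675 := d29_1 D39675 (iv D39675) F178506
theorem F183600 : act 6 n39675 = n38499 := d41_1 D39675 (iv D38499) (iv F178507)
theorem F183601 : act 7 n39675 = n38536 := d43_1 D39675 (iv F183556) F183555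
theorem F183602 : act 8 n39675 = n38538 := d44_1 D39675 (iv F178722) F172768 (iv F172381) D38498
def n39676 : Q := act 4 n38501
theorem D39676 : act 4 n38501 = n39676 := rfl
theorem F183603 : act 1 n39676 = n38505 := d11_1 D39676 (iv D38505) (iv F178518)
theorem F183604 : act 3 n39676 = n38594 := d24_1 D39676 (iv D38594) F172980 (iv F172407) (iv F178519)
theorem F183605 : act 6 n39676 = n39676 := d31_2 F178520 D39676 (iv D39676)
theorem F183606 : act 7 n39676 = n38603 := d32_2 (iv F178521) D39676 F178961
def n39677 : Q := act 9 n38501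
theorem D39677 : act 9 n38501 = n39677 := rfl
theorem F183607 : act 1 n39677 = n38506 := d16_1 D39677 (iv D38506) (iv F178518)
theorem F183608 : act 3 n39677 = n38503 := d29_1 D39677 (iv D38503) (iv F178519)
theorem F183609 : act 5 n39677 = n38502 := d38_1 D39677 (iv D38502) D38501
theorem F183610 : act 6 n39677 = n39677 := d41_1 D39677 (iv D39677) F178520
theorem F183611 : act 7 n39677 = n38606 := d43_1 D39677 (iv D38606) (iv F178521)
def n39678 : Q := act 5 n38504
theorem D39678 : act 5 n38504 = n39678 := rfl
theorem F183612 : act 0 n39678 = n39031 := d4_1 D39678 (iv D39031) (iv F178532)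
def n39679 : Q := act 9 n38505
theorem D39679 : act 9 n38505 = n39679 := rfl
theorem F183613 : act 0 n39679 = n39032 := d8_1 D39679 (iv D39032) (iv F178535)
theorem F183614 : act 3 n39679 = n38647 := d29_1 D39679 (iv D38647) (iv F178536)
theorem F183615 : act 4 n39679 = n38506 := d34_1 D39679 (iv D38506) D38505
theorem F183616 : act 6 n39679 = n39679 := d41_1 D39679 (iv D39679) F178537
theorem F183617 : act 7 n39679 = n38679 := d43_1 D39679 (iv D38679) (iv F178538)
def n39680 : Q := act 4 n38507
theorem D39680 : act 4 n38507 = n39680 := rfl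
theorem F183618 : act 0 n39680 = n38608 := d3_1 D39680 F178975 (iv F178544)
theorem F183619 : act 1 n39680 = n38508 := d11_1 D39680 (iv D38508) (iv F178545)
theorem F183620 : act 2 n39680 = n38766 := d18_1 D39680 (iv D38766) (iv F178546)
theorem F183621 : act 3 n39680 = n38586 := d24_1 D39680 F178913 F172950 (iv F172452) (iv F178547)
theorem F183622 : act 5 n39680 = n38765 := d30_2 D38507 D39680 (iv D38765) (iv D37473) (iv F172445)
theorem F183623 : act 7 n39680 = n39680 := d32_2 F178548 D39680 (iv D39680)
theorem F183624 : act 8 n39680 = n38692 := d33_2 (iv F178549) D39680 F179224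
theorem F183625 : act 9 n39680 = n38579 := d34_2 (iv F178550) D39680 (iv D38579)
def n39681 : Q := act 8 n38508
theorem D39681 : act 8 n38508 = n39681 := rfl
theorem F183626 : act 0 n39681 = n38765 := d7_1 D39681 F179520 (iv F178551)
theorem F183627 : act 1 n39681 = n38692 := d15_1 D39681 (iv F183624) F183619
theorem F183628 : act 2 n39681 = n38510 := d22_1 D39681 (iv D38510) (iv F178552)
theorem F183629 : act 3 n39681 = n38528 := d28_1 D39681 (iv F180452) F180448
theorem F183630 : act 4 n39681 = n38509 := d33_1 D39681 (iv D38509) D38508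
theorem F183631 : act 5 n39681 = n38608 := d37_1 D39681 (iv F180939) F180937 F175351 (iv F178553)
theorem F183632 : act 7 n39681 = n39681 := d42_1 D39681 (iv D39681) F178554
theorem F183633 : act 9 n39681 = n38527 := d44_2 (iv F178555) D39681 F178659 F178892 (iv D38580)
def n39682 : Q := act 5 n38510
theorem D39682 : act 5 n38510 = n39682 := rfl
theorem F183634 : act 0 n39682 = n38766 := d4_1 D39682 F179523 (iv F178563)
theorem F183635 : act 1 n39682 = n38543 := d12_1 D39682 F178751 (iv F178564)
theorem F183636 : act 2 n39682 = n38608 := d19_1 D39682 (iv F183631) F183628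
theorem F183637 : act 3 n39682 = n38517 := d25_1 D39682 (iv D38517) (iv F178565)
theorem F183638 : act 4 n39682 = n38535 := d30_1 D39682 (iv D38535) F172655 (iv F172476) (iv F178566)
theorem F183639 : act 7 n39682 = n39682 := d36_2 F178567 D39682 (iv D39682)
theorem F183640 : act 8 n39682 = n38888 := d37_2 D38510 D39682 F179896 F174097 (iv F172470)
theorem F183641 : act 9 n38607 = n39682 := d34_0 F183638 F178705 (iv F178971)
def n39683 : Q := act 9 n38510
theorem D39683 : act 9 n38510 = n39683 := rfl
theorem F183642 : act 0 n39683 = n38769 := d8_1 D39683 (iv D38769) (iv F178563)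
theorem F183643 : act 1 n39683 = n38548 := d16_1 D39683 (iv D38548) (iv F178564)
theorem F183644 : act 2 n39683 = n38527 := d23_1 D39683 (iv F183633) F183628
theorem F183645 : act 3 n39683 = n38518 := d29_1 D39683 (iv D38518) (iv F178565)
theorem F183646 : act 4 n39683 = n38511 := d34_1 D39683 (iv D38511) (iv F178566)
theorem F183647 : act 5 n39683 = n38607 := d38_1 D39683 F183641 (iv D39682)
theorem F183648 : act 7 n39683 = n39683 := d43_1 D39683 (iv D39683) F178567
theorem F183649 : act 8 n39683 = n38689 := d44_1 D39683 F179217 (iv D37421) (iv F172472) D38510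
def n39684 : Q := act 5 n38512
theorem D39684 : act 5 n38512 = n39684 := rfl
theorem F183650 : act 0 n39684 = n38888 := d4_1 D39684 F179896 (iv F178575)
theorem F183651 : act 1 n39684 = n38541 := d12_1 D39684 F178740 (iv F178576)
theorem F183652 : act 2 n39684 = n38692 := d19_1 D39684 F179225 (iv F178577)
theorem F183653 : act 3 n39684 = n38720 := d25_1 D39684 (iv D38720) (iv F178578)
theorem F183654 : act 4 n39684 = n38540 := d30_1 D39684 (iv D38540) F172705 (iv F172495) (iv F178579)
theorem F183655 : act 7 n39684 = n39684 := d36_2 F178580 D39684 (iv D39684)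
theorem F183656 : act 8 n39684 = n38766 := d37_2 D38512 D39684 F179523 F173666 (iv F172488)
theorem F183657 : act 9 n39684 = n38690 := d38_2 F178581 D39684 F179219
def n39685 : Q := act 3 n38513
theorem D39685 : act 3 n38513 = n39685 := rfl
theorem F183658 : act 2 n39685 = n38883 := d17_1 D39685 (iv D38883) (iv F175545) F175546 (iv F178582)
theorem F183659 : act 4 n39685 = n39685 := d24_2 D38513 D39685 (iv D39685) (iv D38513) F172499
theorem F183660 : act 5 n39685 = n38886 := d25_2 (iv F178583) D39685 F179884
theorem F183661 : act 7 n39685 = n39685 := d27_2 F178584 D39685 (iv D39685)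
theorem F183662 : act 9 n39685 = n38890 := d29_2 (iv F178585) D39685 (iv D38890)
def n39686 : Q := act 8 n38513
theorem D39686 : act 8 n38513 = n39686 := rfl
theorem F183663 : act 0 n39686 = n39055 := d7_1 D39686 (iv F181360) F181355
theorem F183664 : act 2 n39686 = n38515 := d22_1 D39686 (iv D38515) (iv F178582)
theorem F183665 : act 4 n39686 = n38514 := d33_1 D39686 (iv D38514) D38513
theorem F183666 : act 7 n39686 = n39686 := d42_1 D39686 (iv D39686) F178584
def n39687 : Q := act 9 n38514
theorem D39687 : act 9 n38514 = n39687 := rfl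
theorem F183667 : act 0 n39687 = n39052 := d8_1 D39687 F180280 (iv F178586)
theorem F183668 : act 1 n39687 = n38526 := d16_1 D39687 (iv F180963) F180958
theorem F183669 : act 2 n39687 = n38516 := d23_1 D39687 (iv D38516) (iv F178587)
theorem F183670 : act 3 n39687 = n39687 := d29_1 D39687 (iv D39687) F178588
theorem F183671 : act 5 n39687 = n39687 := d38_1 D39687 (iv D39687) F178589
theorem F183672 : act 7 n39687 = n39687 := d43_1 D39687 (iv D39687) F178590
theorem F183673 : act 8 n39687 = n38545 := d44_1 D39687 (iv D38545) F172726 (iv F172501) D38514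
def n39688 : Q := act 5 n38515
theorem D39688 : act 5 n38515 = n39688 := rfl
theorem F183674 : act 0 n39688 = n39047 := d4_1 D39688 F180264 (iv F178591)
theorem F183675 : act 1 n39688 = n38517 := d12_1 D39688 (iv D38517) (iv F178592)
theorem F183676 : act 3 n39688 = n38543 := d25_1 D39688 F178751 (iv F178593)
theorem F183677 : act 4 n39688 = n39688 := d30_1 D39688 (iv D39688) F178594 F172509 (iv F178594)
theorem F183678 : act 7 n39688 = n39688 := d36_2 F178595 D39688 (iv D39688)
theorem F183679 : act 8 n39688 = n38890 := d37_2 D38515 D39688 F179902 F174109 (iv F172503)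
def n39689 : Q := act 9 n38515
theorem D39689 : act 9 n38515 = n39689 := rfl
theorem F183680 : act 0 n39689 = n39056 := d8_1 D39689 (iv D39056) (iv F178591)
theorem F183681 : act 1 n39689 = n38518 := d16_1 D39689 (iv D38518) (iv F178592)
theorem F183682 : act 3 n39689 = n38548 := d29_1 D39689 (iv D38548) (iv F178593)
theorem F183683 : act 4 n39689 = n38516 := d34_1 D39689 (iv D38516) (iv F178594)
theorem F183684 : act 7 n39689 = n39689 := d43_1 D39689 (iv D39689) F178595
theorem F183685 : act 8 n39689 = n38696 := d44_1 D39689 F179237 F174114 (iv F172505) D38515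
def n39690 : Q := act 6 n38517
theorem D39690 : act 6 n38517 = n39690 := rfl
theorem F183686 : act 0 n39690 = n39033 := d5_1 D39690 (iv D39033) (iv F178602)
theorem F183687 : act 4 n39690 = n39690 := d31_1 D39690 (iv D39690) F178603
def n39691 : Q := act 9 n38517
theorem D39691 : act 9 n38517 = n39691 := rfl
theorem F183688 : act 0 n39691 = n39034 := d8_1 D39691 (iv D39034) (iv F178602)
theorem F183689 : act 2 n39691 = n38529 := d23_1 D39691 (iv F182485) F182480
theorem F183690 : act 3 n39691 = n38607 := d29_1 D39691 F183641 F183637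
theorem F183691 : act 4 n39691 = n39691 := d34_1 D39691 (iv D39691) F178603
theorem F183692 : act 5 n39691 = n38518 := d38_1 D39691 (iv D38518) D38517
theorem F183693 : act 7 n39691 = n39691 := d43_1 D39691 (iv D39691) F178604
def n39692 : Q := act 3 n38519
theorem D39692 : act 3 n38519 = n39692 := rfl
theorem F183694 : act 0 n39692 = n38525 := d2_1 D39692 (iv D38525) (iv F178610)
theorem F183695 : act 1 n39692 = n38580 := d10_1 D39692 F178889 (iv F178611)
theorem F183696 : act 4 n39692 = n38520 := d24_2 D38519 D39692 (iv D38520) (iv D37186) (iv F172530)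
theorem F183697 : act 7 n39692 = n39692 := d27_2 F178613 D39692 (iv D39692)
theorem F183698 : act 8 n39692 = n38579 := d28_2 (iv F178614) D39692 F178884
theorem F183699 : act 9 n39692 = n38682 := d29_2 (iv F178615) D39692 (iv D38682)
def n39693 : Q := act 2 n38520
theorem D39693 : act 2 n38520 = n39693 := rfl
theorem F183700 : act 0 n39693 = n38526 := d1_1 D39693 (iv D38526) (iv F178616)
theorem F183701 : act 1 n39693 = n38718 := d9_1 D39693 F179306 F173399 (iv F172915) (iv F178617)
theorem F183702 : act 3 n39693 = n39693 := d17_2 D38520 D39693 (iv D39693) (iv D38520) F172536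
theorem F183703 : act 5 n39693 = n39693 := d19_2 F178618 D39693 (iv D39693)
theorem F183704 : act 7 n39693 = n39693 := d21_2 F178619 D39693 (iv D39693)
theorem F183705 : act 8 n39693 = n38578 := d22_2 (iv F178620) D39693 F178878
theorem F183706 : act 9 n39693 = n38697 := d23_2 (iv F178621) D39693 (iv D38697)
def n39694 : Q := act 3 n38521
theorem D39694 : act 3 n38521 = n39694 := rfl
theorem F183707 : act 0 n39694 = n39038 := d2_1 D39694 (iv D39038) (iv F178622)
theorem F183708 : act 1 n39694 = n38683 := d10_1 D39694 (iv D38683) (iv F178623)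
theorem F183709 : act 4 n39694 = n39694 := d24_2 D38521 D39694 (iv D39694) (iv D38521) F172544
theorem F183710 : act 5 n39694 = n38682 := d25_2 (iv F178625) D39694 (iv D38682)
theorem F183711 : act 7 n39694 = n39694 := d27_2 F178626 D39694 (iv D39694)
theorem F183712 : act 8 n39694 = n38529 := d28_2 (iv F178627) D39694 (iv D38529)
def n39695 : Q := act 3 n38522
theorem D39695 : act 3 n38522 = n39695 := rfl
theorem F183713 : act 1 n39695 = n38529 := d10_1 D39695 (iv D38529) (iv F178628)
theorem F183714 : act 4 n39695 = n39695 := d24_2 D38522 D39695 (iv D39695) (iv D38522) F172549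
theorem F183715 : act 5 n39695 = n38525 := d25_2 (iv F178630) D39695 (iv D38525)
theorem F183716 : act 7 n39695 = n39695 := d27_2 F178631 D39695 (iv D39695)
theorem F183717 : act 8 n39695 = n38683 := d28_2 (iv F178632) D39695 (iv D38683)
theorem F183718 : act 9 n39695 = n39038 := d29_2 (iv F178633) D39695 (iv D39038)
def n39696 : Q := act 6 n38522
theorem D39696 : act 6 n38522 = n39696 := rfl
theorem F183719 : act 1 n39696 = n38530 := d13_1 D39696 (iv D38530) (iv F178628)
theorem F183720 : act 2 n39696 = n38652 := d20_1 D39696 F179117 (iv F178629)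
theorem F183721 : act 4 n39696 = n38523 := d31_1 D39696 (iv D38523) D38522
theorem F183722 : act 8 n39696 = n38684 := d40_2 (iv F178632) D39696 (iv D38684)
theorem F183723 : act 9 n39696 = n39039 := d41_2 (iv F178633) D39696 (iv D39039)
def n39697 : Q := act 7 n38523
theorem D39697 : act 7 n38523 = n39697 := rfl
theorem F183724 : act 1 n39697 = n38532 := d14_1 D39697 (iv D38532) (iv F178634)
theorem F183725 : act 2 n39697 = n38634 := d21_1 D39697 F179076 (iv F178635)
theorem F183726 : act 3 n39697 = n39697 := d27_1 D39697 (iv D39697) F178636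
theorem F183727 : act 5 n39697 = n38524 := d36_1 D39697 (iv D38524) (iv F178637)
theorem F183728 : act 6 n39697 = n39697 := d39_1 D39697 (iv D39697) (iv D38523) F172550 D38523
theorem F183729 : act 8 n39697 = n38686 := d42_2 (iv F178638) D39697 (iv D38686)
theorem F183730 : act 9 n39697 = n38777 := d43_2 (iv F178639) D39697 F179565
def n39698 : Q := act 2 n38525
theorem D39698 : act 2 n38525 = n39698 := rfl
theorem F183731 : act 4 n39698 = n38526 := d18_2 (iv F178647) D39698 (iv D38526)
theorem F183732 : act 7 n39698 = n39698 := d21_2 F178648 D39698 (iv D39698)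
theorem F183733 : act 8 n39698 = n38607 := d22_2 (iv F178649) D39698 (iv D38607)
def n39699 : Q := act 6 n38529
theorem D39699 : act 6 n38529 = n39699 := rfl
theorem F183734 : act 0 n39699 = n39040 := d5_1 D39699 (iv D39040) (iv F178666)
theorem F183735 : act 3 n39699 = n38530 := d26_1 D39699 (iv D38530) D38529
theorem F183736 : act 4 n39699 = n39699 := d31_1 D39699 (iv D39699) F178667
def n39700 : Q := act 7 n38530
theorem D39700 : act 7 n38530 = n39700 := rfl
theorem F183737 : act 0 n39700 = n39041 := d6_1 D39700 (iv D39041) (iv F178670)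
theorem F183738 : act 2 n39700 = n38594 := d21_1 D39700 F178938 (iv F178671)
theorem F183739 : act 4 n39700 = n38532 := d32_1 D39700 (iv D38532) (iv F178672)
theorem F183740 : act 6 n39700 = n39700 := d39_1 D39700 (iv D39700) (iv D38530) F172585 D38530
def n39701 : Q := act 9 n38530
theorem D39701 : act 9 n38530 = n39701 := rfl
theorem F183741 : act 0 n39701 = n39042 := d8_1 D39701 (iv D39042) (iv F178670)
theorem F183742 : act 1 n39701 = n39039 := d16_1 D39701 (iv F183723) F183719
theorem F183743 : act 2 n39701 = n38604 := d23_1 D39701 (iv D38604) (iv F178671)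
theorem F183744 : act 4 n39701 = n38533 := d34_1 D39701 (iv D38533) (iv F178672)
theorem F183745 : act 6 n39701 = n38531 := d41_1 D39701 (iv D38531) D38530
theorem F183746 : act 8 n39036 = n39701 := d40_0 F183745 (iv F178679) D39036
def n39702 : Q := act 9 n38532
theorem D39702 : act 9 n38532 = n39702 := rfl
theorem F183747 : act 0 n39702 = n39043 := d8_1 D39702 (iv D39043) (iv F178680)
theorem F183748 : act 1 n39702 = n38777 := d16_1 D39702 (iv F183730) F183724
theorem F183749 : act 2 n39702 = n38595 := d23_1 D39702 (iv D38595) (iv F178681)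
theorem F183750 : act 3 n39702 = n39702 := d29_1 D39702 (iv D39702) F178682
theorem F183751 : act 5 n39702 = n38534 := d38_1 D39702 (iv D38534) (iv F178683)
theorem F183752 : act 6 n39702 = n39702 := d41_1 D39702 (iv D39702) F178684
theorem F183753 : act 7 n39702 = n38533 := d43_1 D39702 (iv D38533) D38532
theorem F183754 : act 8 n39037 = n39702 := d42_0 F183753 (iv F178691) D39037
def n39703 : Q := act 6 n38535
theorem D39703 : act 6 n38535 = n39703 := rfl
theorem F183755 : act 0 n39703 = n38767 := d5_1 D39703 (iv D38767) (iv F178699)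
theorem F183756 : act 1 n39703 = n38544 := d13_1 D39703 (iv D38544) (iv F178700)
theorem F183757 : act 2 n39703 = n38606 := d20_1 D39703 F178970 (iv F178701)
theorem F183758 : act 3 n39703 = n39703 := d26_1 D39703 (iv D39703) F178702
theorem F183759 : act 5 n39703 = n38536 := d35_1 D39703 (iv D38536) (iv D37208) (iv F172656) D38535
theorem F183760 : act 8 n39703 = n38889 := d40_2 (iv F178704) D39703 (iv D38889)
theorem F183761 : act 9 n39703 = n38605 := d41_2 (iv F178705) D39703 F178967
def n39704 : Q := act 3 n38541
theorem D39704 : act 3 n38541 = n39704 := rfl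
theorem F183762 : act 0 n39704 = n39044 := d2_1 D39704 (iv D39044) (iv F178738)
theorem F183763 : act 1 n39704 = n38720 := d10_1 D39704 (iv F183653) F183651
theorem F183764 : act 4 n39704 = n39704 := d24_2 D38541 D39704 (iv D39704) (iv D38541) F172711
theorem F183765 : act 5 n39704 = n38719 := d25_2 (iv F178740) D39704 F179311
theorem F183766 : act 7 n39704 = n39704 := d27_2 F178741 D39704 (iv D39704)
theorem F183767 : act 8 n39704 = n38883 := d28_2 (iv F178742) D39704 (iv D38883)
def n39705 : Q := act 9 n38541
theorem D39705 : act 9 n38541 = n39705 := rfl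
theorem F183768 : act 0 n39705 = n39045 := d8_1 D39705 (iv D39045) (iv F178738)
theorem F183769 : act 1 n39705 = n38690 := d16_1 D39705 (iv F183657) F183651
theorem F183770 : act 2 n39705 = n38548 := d23_1 D39705 (iv D38548) (iv F178739)
theorem F183771 : act 4 n39705 = n38542 := d34_1 D39705 (iv D38542) D38541
theorem F183772 : act 5 n39705 = n38696 := d38_1 D39705 F179237 (iv F178740)
theorem F183773 : act 7 n39705 = n39705 := d43_1 D39705 (iv D39705) F178741
def n39706 : Q := act 8 n38542
theorem D39706 : act 8 n38542 = n39706 := rfl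
theorem F183774 : act 0 n39706 = n39046 := d7_1 D39706 (iv D39046) (iv F178743)
theorem F183775 : act 1 n39706 = n38697 := d15_1 D39706 F179241 (iv F178744)
theorem F183776 : act 2 n39706 = n38549 := d22_1 D39706 (iv D38549) (iv F178745)
theorem F183777 : act 3 n39706 = n39706 := d28_1 D39706 (iv D39706) F178746
theorem F183778 : act 5 n39706 = n39706 := d37_1 D39706 (iv D39706) F178747 F172721 (iv F178747)
theorem F183779 : act 7 n39706 = n39706 := d42_1 D39706 (iv D39706) F178748
theorem F183780 : act 9 n39706 = n38718 := d44_2 D38542 D39706 (iv D38718) F173394 (iv F172713)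
def n39707 : Q := act 6 n38543
theorem D39707 : act 6 n38543 = n39707 := rfl
theorem F183781 : act 0 n39707 = n39048 := d5_1 D39707 (iv D39048) (iv F178749)
theorem F183782 : act 2 n39707 = n38893 := d20_1 D39707 (iv D38893) (iv F178750)
theorem F183783 : act 4 n39707 = n38544 := d31_1 D39707 (iv D38544) D38543
theorem F183784 : act 8 n39707 = n38891 := d40_2 (iv F178753) D39707 (iv D38891)
def n39708 : Q := act 9 n38543
theorem D39708 : act 9 n38543 = n39708 := rfl
theorem F183785 : act 0 n39708 = n39049 := d8_1 D39708 (iv D39049) (iv F178749)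
theorem F183786 : act 1 n39708 = n38607 := d16_1 D39708 F183641 F183635
theorem F183787 : act 2 n39708 = n38696 := d23_1 D39708 F179237 (iv F178750)
theorem F183788 : act 4 n39708 = n38545 := d34_1 D39708 (iv D38545) D38543
theorem F183789 : act 5 n39708 = n38548 := d38_1 D39708 (iv D38548) (iv F178751)
theorem F183790 : act 7 n39708 = n39708 := d43_1 D39708 (iv D39708) F178752
def n39709 : Q := act 7 n38544
theorem D39709 : act 7 n38544 = n39709 := rfl
theorem F183791 : act 0 n39709 = n39050 := d6_1 D39709 (iv D39050) (iv F178754)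
theorem F183792 : act 2 n39709 = n38894 := d21_1 D39709 (iv D38894) (iv F178755)
theorem F183793 : act 3 n39709 = n39709 := d27_1 D39709 (iv D39709) F178756
theorem F183794 : act 5 n39709 = n38546 := d36_1 D39709 (iv D38546) (iv F178757)
theorem F183795 : act 6 n39709 = n39709 := d39_1 D39709 (iv D39709) (iv D38544) F172725 D38544
theorem F183796 : act 8 n39709 = n38892 := d42_2 (iv F178758) D39709 (iv D38892)
def n39710 : Q := act 9 n38544
theorem D39710 : act 9 n38544 = n39710 := rfl
theorem F183797 : act 0 n39710 = n39051 := d8_1 D39710 (iv D39051) (iv F178754)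
theorem F183798 : act 1 n39710 = n38605 := d16_1 D39710 (iv F183761) F183756
theorem F183799 : act 2 n39710 = n38681 := d23_1 D39710 F179183 (iv F178755)
theorem F183800 : act 3 n39710 = n39710 := d29_1 D39710 (iv D39710) F178756
theorem F183801 : act 5 n39710 = n38547 := d38_1 D39710 (iv D38547) (iv F178757)
theorem F183802 : act 6 n39710 = n38545 := d41_1 D39710 (iv D38545) D38544
def n39711 : Q := act 8 n38548
theorem D39711 : act 8 n38548 = n39711 := rfl
theorem F183803 : act 0 n39711 = n39057 := d7_1 D39711 (iv D39057) (iv F178772)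
theorem F183804 : act 1 n39711 = n38689 := d15_1 D39711 (iv F183649) F183643
theorem F183805 : act 3 n39711 = n38696 := d28_1 D39711 (iv F183685) F183682
theorem F183806 : act 4 n39711 = n38549 := d33_1 D39711 (iv D38549) (iv F178773)
theorem F183807 : act 7 n39711 = n39711 := d42_1 D39711 (iv D39711) F178774
theorem F183808 : act 9 n39711 = n38719 := d44_2 D38548 D39711 (iv D38719) (iv F175550) F175549
def n39712 : Q := act 6 n38550
theorem D39712 : act 6 n38550 = n39712 := rfl
theorem F183809 : act 0 n39712 = n38934 := d5_1 D39712 (iv D38934) (iv F178781)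
theorem F183810 : act 2 n39712 = n38656 := d20_1 D39712 (iv D38656) (iv F178782)
theorem F183811 : act 3 n39712 = n38551 := d26_1 D39712 (iv D38551) D38550
theorem F183812 : act 4 n39712 = n39712 := d31_1 D39712 (iv D39712) F178783
theorem F183813 : act 8 n39712 = n38865 := d40_2 (iv F178786) D39712 (iv D38865)
def n39713 : Q := act 5 n38552
theorem D39713 : act 5 n38552 = n39713 := rfl
theorem F183814 : act 0 n39713 = n39058 := d4_1 D39713 (iv D39058) (iv F178791)
theorem F183815 : act 1 n39713 = n38892 := d12_1 D39713 F179908 (iv F178792)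
theorem F183816 : act 3 n39713 = n39713 := d25_1 D39713 (iv D39713) F178793
theorem F183817 : act 6 n39713 = n39713 := d35_2 (iv F178794) D39713 (iv D39713) F178794 F172778
theorem F183818 : act 7 n39713 = n38889 := d36_2 (iv F178795) D39713 F179900
def n39714 : Q := act 6 n38553
theorem D39714 : act 6 n38553 = n39714 := rfl
theorem F183819 : act 1 n39714 = n38555 := d13_1 D39714 (iv D38555) (iv F178796)
theorem F183820 : act 2 n39714 = n38971 := d20_1 D39714 F180104 (iv F178797)
theorem F183821 : act 3 n39714 = n38554 := d26_1 D39714 (iv D38554) (iv F178798)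
theorem F183822 : act 4 n39714 = n39714 := d31_1 D39714 (iv D39714) F178799
theorem F183823 : act 9 n39714 = n38963 := d41_2 (iv F178801) D39714 (iv D38963)
def n39715 : Q := act 5 n38554
theorem D39715 : act 5 n38554 = n39715 := rfl
theorem F183824 : act 1 n39715 = n38556 := d12_1 D39715 (iv D38556) (iv F178802)
theorem F183825 : act 2 n39715 = n38565 := d19_1 D39715 (iv D38565) (iv F178803)
theorem F183826 : act 6 n39715 = n38756 := d35_2 D38554 D39715 (iv D38756) (iv D37463) (iv F172798)
def n39716 : Q := act 5 n38555
theorem D39716 : act 5 n38555 = n39716 := rfl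
theorem F183827 : act 2 n39716 = n38597 := d19_1 D39716 (iv D38597) (iv F178805)
theorem F183828 : act 3 n39716 = n38556 := d25_1 D39716 (iv D38556) (iv F178806)
theorem F183829 : act 6 n39716 = n38758 := d35_2 D38555 D39716 (iv D38758) (iv D37466) (iv F172805)
def n39717 : Q := act 8 n38556
theorem D39717 : act 8 n38556 = n39717 := rfl
theorem F183830 : act 2 n39717 = n38558 := d22_1 D39717 (iv D38558) (iv F178808)
theorem F183831 : act 6 n39717 = n38759 := d40_1 D39717 (iv D38759) (iv F178809)
def n39718 : Q := act 5 n38557
theorem D39718 : act 5 n38557 = n39718 := rfl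
theorem F183832 : act 2 n39718 = n38559 := d19_1 D39718 (iv D38559) (iv F178810)
def n39719 : Q := act 5 n38558
theorem D39719 : act 5 n38558 = n39719 := rfl
theorem F183833 : act 1 n39719 = n38568 := d12_1 D39719 (iv D38568) (iv F178813)
theorem F183834 : act 3 n39719 = n38599 := d25_1 D39719 (iv D38599) (iv F178814)
theorem F183835 : act 8 n39719 = n38559 := d37_2 D38558 D39719 (iv D38559) (iv D37241) D37240
def n39720 : Q := act 9 n38558
theorem D39720 : act 9 n38558 = n39720 := rfl
theorem F183836 : act 1 n39720 = n38569 := d16_1 D39720 (iv D38569) (iv F178813)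
theorem F183837 : act 3 n39720 = n38600 := d29_1 D39720 (iv D38600) (iv F178814)
theorem F183838 : act 6 n39720 = n38763 := d41_1 D39720 (iv D38763) (iv F178815)
def n39721 : Q := act 9 n38559
theorem D39721 : act 9 n38559 = n39721 := rfl
theorem F183839 : act 1 n39721 = n38571 := d16_1 D39721 (iv D38571) (iv F178816)
theorem F183840 : act 3 n39721 = n38602 := d29_1 D39721 (iv D38602) (iv F178817)
theorem F183841 : act 5 n39721 = n38560 := d38_1 D39721 (iv D38560) D38559
def n39722 : Q := act 9 n38561
theorem D39722 : act 9 n38561 = n39722 := rfl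
theorem F183842 : act 0 n39722 = n38913 := d8_1 D39722 (iv D38913) (iv F178822)
theorem F183843 : act 3 n39722 = n38642 := d29_1 D39722 (iv D38642) (iv F178823)
theorem F183844 : act 4 n39722 = n38906 := d34_1 D39722 (iv D38906) (iv F178824)
theorem F183845 : act 7 n39722 = n38569 := d43_1 D39722 (iv D38569) (iv F178825)
def n39723 : Q := act 9 n38562
theorem D39723 : act 9 n38562 = n39723 := rfl
theorem F183846 : act 0 n39723 = n38909 := d8_1 D39723 (iv D38909) (iv F178826)
theorem F183847 : act 4 n39723 = n38569 := d34_1 D39723 (iv D38569) (iv F178827)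
theorem F183848 : act 6 n39723 = n38823 := d41_1 D39723 (iv D38823) (iv F178828)
theorem F183849 : act 7 n39723 = n38906 := d43_1 D39723 (iv D38906) (iv F178829)
def n39724 : Q := act 6 n38563
theorem D39724 : act 6 n38563 = n39724 := rfl
theorem F183850 : act 1 n39724 = n38648 := d13_1 D39724 (iv D38648) (iv F178830)
theorem F183851 : act 2 n39724 = n38564 := d20_1 D39724 (iv D38564) (iv F178831)
theorem F183852 : act 3 n39724 = n38971 := d26_1 D39724 F180104 (iv F178832)
theorem F183853 : act 4 n39724 = n38574 := d31_1 D39724 (iv D38574) (iv F178833)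
theorem F183854 : act 9 n39724 = n38738 := d41_2 (iv F178835) D39724 (iv D38738)
def n39725 : Q := act 5 n38564
theorem D39725 : act 5 n38564 = n39725 := rfl
theorem F183855 : act 1 n39725 = n38566 := d12_1 D39725 (iv D38566) (iv F178836)
theorem F183856 : act 3 n39725 = n38565 := d25_1 D39725 (iv D38565) (iv F178837)
theorem F183857 : act 6 n39725 = n38857 := d35_2 D38564 D39725 (iv D38857) (iv D37571) (iv F172844)
def n39726 : Q := act 8 n38565
theorem D39726 : act 8 n38565 = n39726 := rfl
theorem F183858 : act 1 n39726 = n38567 := d15_1 D39726 (iv D38567) (iv F178839)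
theorem F183859 : act 6 n39726 = n38858 := d40_1 D39726 (iv D38858) (iv F178840)
def n39727 : Q := act 4 n38566
theorem D39727 : act 4 n38566 = n39727 := rfl
theorem F183860 : act 2 n39727 = n38653 := d18_1 D39727 (iv D38653) (iv F178841)
theorem F183861 : act 5 n39727 = n38576 := d30_2 D38566 D39727 (iv D38576) (iv D37263) (iv F172849)
theorem F183862 : act 6 n39727 = n38862 := d31_2 (iv F178843) D39727 (iv D38862)
def n39728 : Q := act 8 n38566
theorem D39728 : act 8 n38566 = n39728 := rfl
theorem F183863 : act 2 n39728 = n38654 := d22_1 D39728 (iv D38654) (iv F178841)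
theorem F183864 : act 3 n39728 = n38567 := d28_1 D39728 (iv D38567) (iv F178842)
theorem F183865 : act 6 n39728 = n38863 := d40_1 D39728 (iv D38863) (iv F178843)
def n39729 : Q := act 9 n38567
theorem D39729 : act 9 n38567 = n39729 := rfl
theorem F183866 : act 2 n39729 = n38569 := d23_1 D39729 (iv D38569) (iv F178844)
theorem F183867 : act 6 n39729 = n38868 := d41_1 D39729 (iv D38868) (iv F178845)
def n39730 : Q := act 6 n38568
theorem D39730 : act 6 n38568 = n39730 := rfl
theorem F183868 : act 3 n39730 = n38669 := d26_1 D39730 (iv D38669) (iv F178846)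
theorem F183869 : act 5 n39730 = n38876 := d35_1 D39730 (iv D38876) (iv D37588) (iv F172853) D38568
theorem F183870 : act 8 n39730 = n38570 := d40_2 (iv F178847) D39730 (iv D38570)
def n39731 : Q := act 9 n38568
theorem D39731 : act 9 n38568 = n39731 := rfl
theorem F183871 : act 3 n39731 = n38670 := d29_1 D39731 (iv D38670) (iv F178846)
theorem F183872 : act 5 n39731 = n38569 := d38_1 D39731 (iv D38569) D38568
def n39732 : Q := act 7 n38570
theorem D39732 : act 7 n38570 = n39732 := rfl
theorem F183873 : act 3 n39732 = n38674 := d27_1 D39732 (iv D38674) (iv F178850)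
theorem F183874 : act 5 n39732 = n38572 := d36_1 D39732 (iv D38572) (iv F178851)
def n39733 : Q := act 9 n38570
theorem D39733 : act 9 n38570 = n39733 := rfl
theorem F183875 : act 3 n39733 = n38675 := d29_1 D39733 (iv D38675) (iv F178850)
theorem F183876 : act 5 n39733 = n38573 := d38_1 D39733 (iv D38573) (iv F178851)
theorem F183877 : act 6 n39733 = n38571 := d41_1 D39733 (iv D38571) D38570
def n39734 : Q := act 8 n38571
theorem D39734 : act 8 n38571 = n39734 := rfl
theorem F183878 : act 3 n39734 = n38676 := d28_1 D39734 (iv D38676) (iv F178852)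
def n39735 : Q := act 5 n38574
theorem D39735 : act 5 n38574 = n39735 := rfl
theorem F183879 : act 0 n39735 = n38605 := d4_1 D39735 F183557 F183550
theorem F183880 : act 1 n39735 = n38709 := d12_1 D39735 (iv D38709) (iv F178861)
theorem F183881 : act 2 n39735 = n38575 := d19_1 D39735 (iv D38575) (iv F178862)
theorem F183882 : act 3 n39735 = n39735 := d25_1 D39735 (iv D39735) F178863
theorem F183883 : act 6 n39735 = n38578 := d35_2 D38574 D39735 (iv D38578) (iv D37265) (iv F172882)
theorem F183884 : act 9 n39735 = n38767 := d38_2 (iv F178864) D39735 F179528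
def n39736 : Q := act 4 n38575
theorem D39736 : act 4 n38575 = n39736 := rfl
theorem F183885 : act 0 n39736 = n38603 := d3_1 D39736 F178961 (iv F178865)
theorem F183886 : act 1 n39736 = n38576 := d11_1 D39736 (iv D38576) (iv F178866)
theorem F183887 : act 3 n39736 = n38584 := d24_1 D39736 (iv D38584) F172933 (iv F172889) (iv F178867)
theorem F183888 : act 6 n39736 = n38579 := d31_2 (iv F178868) D39736 (iv D38579)
def n39737 : Q := act 8 n38576
theorem D39737 : act 8 n38576 = n39737 := rfl
theorem F183889 : act 0 n39737 = n38922 := d7_1 D39737 (iv F180381) F180375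
theorem F183890 : act 2 n39737 = n38712 := d22_1 D39737 (iv D38712) (iv F178869)
theorem F183891 : act 3 n39737 = n38667 := d28_1 D39737 (iv F180436) F180433
theorem F183892 : act 4 n39737 = n38577 := d33_1 D39737 (iv D38577) D38576
theorem F183893 : act 6 n39737 = n38580 := d40_1 D39737 (iv D38580) (iv F178870)
theorem F183894 : act 9 n38666 = n39737 := d41_0 F183893 (iv F178892) (iv F179154)
def n39738 : Q := act 4 n38578
theorem D39738 : act 4 n38578 = n39738 := rfl
theorem F183895 : act 0 n39738 = n38607 := d3_1 D39738 F178971 (iv F178876)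
theorem F183896 : act 1 n39738 = n38717 := d11_1 D39738 (iv D38717) (iv F178877)
theorem F183897 : act 2 n39738 = n38579 := d18_1 D39738 (iv D38579) (iv F178878)
theorem F183898 : act 5 n39738 = n38769 := d30_2 D38578 D39738 F179536 F173670 (iv F172903)
theorem F183899 : act 7 n39738 = n39738 := d32_2 F178880 D39738 (iv D39738)
theorem F183900 : act 9 n39738 = n38766 := d34_2 (iv F178881) D39738 (iv D38766)
theorem F183901 : act 3 n39034 = n39738 := d29_3 F183900 (iv F179525) D39034
def n39739 : Q := act 5 n38580
theorem D39739 : act 5 n38580 = n39739 := rfl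
theorem F183902 : act 0 n39739 = n39035 := d4_1 D39739 F180230 (iv F178887)
theorem F183903 : act 2 n39739 = n38720 := d19_1 D39739 (iv D38720) (iv F178888)
theorem F183904 : act 3 n39739 = n38685 := d25_1 D39739 F179196 (iv F178889)
theorem F183905 : act 4 n39739 = n39739 := d30_1 D39739 (iv D39739) F178890 F172917 (iv F178890)
theorem F183906 : act 7 n39739 = n39739 := d36_2 F178891 D39739 (iv D39739)
theorem F183907 : act 8 n39739 = n38904 := d37_2 D38580 D39739 (iv D38904) (iv D37639) (iv F172912)
theorem F183908 : act 9 n39739 = n38683 := d38_2 F178892 D39739 F179189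
def n39740 : Q := act 5 n38581
theorem D39740 : act 5 n38581 = n39740 := rfl
theorem F183909 : act 0 n39740 = n38599 := d4_1 D39740 (iv D38599) (iv F178893)
theorem F183910 : act 2 n39740 = n39004 := d19_1 D39740 (iv F183346) F183345
theorem F183911 : act 6 n39740 = n38998 := d35_2 (iv F178894) D39740 (iv D38998) (iv F178191) F178190
theorem F183912 : act 8 n39740 = n38582 := d37_2 D38581 D39740 (iv D38582) (iv D37270) D37269
def n39741 : Q := act 9 n38581
theorem D39741 : act 9 n38581 = n39741 := rfl
theorem F183913 : act 0 n39741 = n38600 := d8_1 D39741 (iv D38600) (iv F178893)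
theorem F183914 : act 6 n39741 = n38906 := d41_1 D39741 (iv D38906) (iv F178894)
def n39742 : Q := act 4 n38582
theorem D39742 : act 4 n38582 = n39742 := rfl
theorem F183915 : act 0 n39742 = n38601 := d3_1 D39742 (iv D38601) (iv F178895)
theorem F183916 : act 2 n39742 = n39007 := d18_1 D39742 F180178 (iv F178896)
theorem F183917 : act 5 n39742 = n38584 := d30_2 D38582 D39742 (iv D38584) (iv D37272) (iv F172924)
theorem F183918 : act 6 n39742 = n39000 := d31_2 (iv F178897) D39742 (iv D39000)
def n39743 : Q := act 9 n38582
theorem D39743 : act 9 n38582 = n39743 := rfl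
theorem F183919 : act 0 n39743 = n38602 := d8_1 D39743 (iv D38602) (iv F178895)
theorem F183920 : act 2 n39743 = n39010 := d23_1 D39743 (iv D39010) (iv F178896)
theorem F183921 : act 5 n39743 = n38583 := d38_1 D39743 (iv D38583) D38582
theorem F183922 : act 6 n39743 = n39001 := d41_1 D39743 (iv D39001) (iv F178897)
def n39744 : Q := act 9 n38584
theorem D39744 : act 9 n38584 = n39744 := rfl
theorem F183923 : act 0 n39744 = n38604 := d8_1 D39744 (iv D38604) (iv F178902)
theorem F183924 : act 2 n39744 = n39042 := d23_1 D39744 (iv D39042) (iv F178903)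
theorem F183925 : act 4 n39744 = n38585 := d34_1 D39744 (iv D38585) D38584
theorem F183926 : act 6 n39744 = n38586 := d41_1 D39744 (iv D38586) (iv F178904)
theorem F183927 : act 8 n39744 = n38694 := d44_1 D39744 (iv D38694) (iv F179118) (iv F182644) F182643
def n39745 : Q := act 5 n38587
theorem D39745 : act 5 n38587 = n39745 := rfl
theorem F183928 : act 1 n39745 = n38589 := d12_1 D39745 (iv D38589) (iv F178917)
theorem F183929 : act 2 n39745 = n38631 := d19_1 D39745 (iv D38631) (iv F178918)
theorem F183930 : act 4 n39745 = n39025 := d30_1 D39745 F180213 F174515 (iv F172960) (iv F178919)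
theorem F183931 : act 7 n39745 = n38596 := d36_2 (iv F178920) D39745 (iv D38596)
def n39746 : Q := act 5 n38588
theorem D39746 : act 5 n38588 = n39746 := rfl
theorem F183932 : act 3 n39746 = n38589 := d25_1 D39746 (iv D38589) (iv F178921)
theorem F183933 : act 7 n39746 = n38597 := d36_2 (iv F178923) D39746 (iv D38597)
def n39747 : Q := act 8 n38589
theorem D39747 : act 8 n38589 = n39747 := rfl
theorem F183934 : act 2 n39747 = n38590 := d22_1 D39747 (iv D38590) (iv F178924)
theorem F183935 : act 7 n39747 = n38598 := d42_1 D39747 (iv D38598) (iv F178925)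
def n39748 : Q := act 5 n38590
theorem D39748 : act 5 n38590 = n39748 := rfl
theorem F183936 : act 1 n39748 = n38641 := d12_1 D39748 (iv D38641) (iv F178926)
theorem F183937 : act 7 n39748 = n38599 := d36_2 (iv F178927) D39748 (iv D38599)
theorem F183938 : act 8 n39748 = n38591 := d37_2 D38590 D39748 (iv D38591) (iv D37282) D37281
def n39749 : Q := act 9 n38590
theorem D39749 : act 9 n38590 = n39749 := rfl
theorem F183939 : act 1 n39749 = n38642 := d16_1 D39749 (iv D38642) (iv F178926)
theorem F183940 : act 7 n39749 = n38600 := d43_1 D39749 (iv D38600) (iv F178927)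
def n39750 : Q := act 4 n38591
theorem D39750 : act 4 n38591 = n39750 := rfl
theorem F183941 : act 1 n39750 = n38643 := d11_1 D39750 (iv D38643) (iv F178928)
theorem F183942 : act 5 n39750 = n38594 := d30_2 D38591 D39750 (iv D38594) (iv D37285) (iv F172970)
theorem F183943 : act 7 n39750 = n38601 := d32_2 (iv F178929) D39750 (iv D38601)
def n39751 : Q := act 6 n38591
theorem D39751 : act 6 n38591 = n39751 := rfl
theorem F183944 : act 1 n39751 = n38644 := d13_1 D39751 (iv D38644) (iv F178928)
theorem F183945 : act 5 n39751 = n38593 := d35_1 D39751 (iv D38593) (iv D37283) (iv F172971) D38591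
def n39752 : Q := act 9 n38591
theorem D39752 : act 9 n38591 = n39752 := rfl
theorem F183946 : act 1 n39752 = n38645 := d16_1 D39752 (iv D38645) (iv F178928)
theorem F183947 : act 5 n39752 = n38592 := d38_1 D39752 (iv D38592) D38591
theorem F183948 : act 7 n39752 = n38602 := d43_1 D39752 (iv D38602) (iv F178929)
def n39753 : Q := act 9 n38594
theorem D39753 : act 9 n38594 = n39753 := rfl
theorem F183949 : act 1 n39753 = n38647 := d16_1 D39753 (iv D38647) (iv F178936)
theorem F183950 : act 4 n39753 = n38595 := d34_1 D39753 (iv D38595) D38594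
theorem F183951 : act 6 n39753 = n39753 := d41_1 D39753 (iv D39753) F178937
theorem F183952 : act 7 n39753 = n38604 := d43_1 D39753 (iv D38604) (iv F178938)
def n39754 : Q := act 8 n38596
theorem D39754 : act 8 n38596 = n39754 := rfl
theorem F183953 : act 1 n39754 = n38598 := d15_1 D39754 (iv D38598) (iv F178944)
theorem F183954 : act 2 n39754 = n38650 := d22_1 D39754 (iv D38650) (iv F178945)
theorem F183955 : act 4 n39754 = n39023 := d33_1 D39754 F180209 (iv F178946)
theorem F183956 : act 6 n39754 = n38912 := d40_1 D39754 F179977 (iv F178947)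
def n39755 : Q := act 4 n38597
theorem D39755 : act 4 n38597 = n39755 := rfl
theorem F183957 : act 5 n39755 = n39755 := d30_2 D38597 D39755 (iv D39755) (iv D38597) F172996
theorem F183958 : act 6 n39755 = n38923 := d31_2 (iv F178949) D39755 (iv D38923)
def n39756 : Q := act 8 n38597
theorem D39756 : act 8 n38597 = n39756 := rfl
theorem F183959 : act 3 n39756 = n38598 := d28_1 D39756 (iv D38598) (iv F178948)
theorem F183960 : act 6 n39756 = n38924 := d40_1 D39756 (iv D38924) (iv F178949)
def n39757 : Q := act 9 n38598
theorem D39757 : act 9 n38598 = n39757 := rfl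
theorem F183961 : act 2 n39757 = n38600 := d23_1 D39757 (iv D38600) (iv F178950)
theorem F183962 : act 6 n39757 = n38925 := d41_1 D39757 (iv D38925) (iv F178951)
def n39758 : Q := act 4 n38599
theorem D39758 : act 4 n38599 = n39758 := rfl
theorem F183963 : act 1 n39758 = n38668 := d11_1 D39758 (iv D38668) (iv F178952)
theorem F183964 : act 8 n39758 = n38601 := d33_2 (iv F178953) D39758 (iv D38601)
def n39759 : Q := act 9 n38599
theorem D39759 : act 9 n38599 = n39759 := rfl
theorem F183965 : act 1 n39759 = n38670 := d16_1 D39759 (iv D38670) (iv F178952)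
theorem F183966 : act 5 n39759 = n38600 := d38_1 D39759 (iv D38600) D38599
def n39760 : Q := act 3 n38601
theorem D39760 : act 3 n38601 = n39760 := rfl
theorem F183967 : act 1 n39760 = n38671 := d10_1 D39760 (iv D38671) (iv F178956)
theorem F183968 : act 5 n39760 = n38603 := d25_2 (iv F178957) D39760 (iv D38603)
def n39761 : Q := act 9 n38601
theorem D39761 : act 9 n38601 = n39761 := rfl
theorem F183969 : act 1 n39761 = n38673 := d16_1 D39761 (iv D38673) (iv F178956)
theorem F183970 : act 4 n39761 = n38602 := d34_1 D39761 (iv D38602) D38601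
theorem F183971 : act 5 n39761 = n38604 := d38_1 D39761 (iv D38604) (iv F178957)
def n39762 : Q := act 8 n38602
theorem D39762 : act 8 n38602 = n39762 := rfl
theorem F183972 : act 1 n39762 = n38676 := d15_1 D39762 (iv D38676) (iv F178958)
def n39763 : Q := act 2 n38603
theorem D39763 : act 2 n38603 = n39763 := rfl
theorem F183973 : act 4 n39763 = n38605 := d18_2 (iv F178961) D39763 (iv D38605)
theorem F183974 : act 6 n39763 = n38607 := d20_2 (iv F178962) D39763 (iv D38607)
def n39764 : Q := act 9 n38603
theorem D39764 : act 9 n38603 = n39764 := rfl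
theorem F183975 : act 1 n39764 = n38679 := d16_1 D39764 (iv D38679) (iv F178960)
theorem F183976 : act 3 n39764 = n38604 := d29_1 D39764 (iv D38604) D38603
theorem F183977 : act 4 n39764 = n38606 := d34_1 D39764 (iv D38606) (iv F178961)
theorem F183978 : act 6 n39764 = n38608 := d41_1 D39764 (iv D38608) (iv F178962)
def n39765 : Q := act 6 n38609
theorem D39765 : act 6 n38609 = n39765 := rfl
theorem F183979 : act 1 n39765 = n38611 := d13_1 D39765 (iv D38611) (iv F178977)
theorem F183980 : act 3 n39765 = n38610 := d26_1 D39765 (iv D38610) (iv F178978)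
theorem F183981 : act 4 n39765 = n39765 := d31_1 D39765 (iv D39765) F178979
theorem F183982 : act 7 n39765 = n38934 := d39_2 D38609 D39765 (iv D38934) (iv D37670) (iv F173033)
theorem F183983 : act 9 n39765 = n38932 := d41_2 (iv F178981) D39765 (iv D38932)
def n39766 : Q := act 5 n38610
theorem D39766 : act 5 n38610 = n39766 := rfl
theorem F183984 : act 1 n39766 = n38613 := d12_1 D39766 (iv D38613) (iv F178982)
theorem F183985 : act 4 n39766 = n38986 := d30_1 D39766 F180142 F174439 (iv F173040) (iv F178983)
theorem F183986 : act 6 n39766 = n38631 := d35_2 D38610 D39766 (iv D38631) (iv D37324) (iv F173037)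
theorem F183987 : act 7 n39766 = n38935 := d36_2 (iv F178984) D39766 (iv D38935)
def n39767 : Q := act 5 n38611
theorem D39767 : act 5 n38611 = n39767 := rfl
theorem F183988 : act 3 n39767 = n38613 := d25_1 D39767 (iv D38613) (iv F178985)
theorem F183989 : act 6 n39767 = n38635 := d35_2 D38611 D39767 (iv D38635) (iv D37328) (iv F173044)
theorem F183990 : act 7 n39767 = n38936 := d36_2 (iv F178987) D39767 (iv D38936)
def n39768 : Q := act 8 n38611
theorem D39768 : act 8 n38611 = n39768 := rfl
theorem F183991 : act 3 n39768 = n38614 := d28_1 D39768 (iv D38614) (iv F178985)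
theorem F183992 : act 4 n39768 = n39768 := d33_1 D39768 (iv D39768) F178986
theorem F183993 : act 6 n39768 = n38612 := d40_1 D39768 (iv D38612) D38611
theorem F183994 : act 7 n39768 = n38937 := d42_1 D39768 (iv D38937) (iv F178987)
def n39769 : Q := act 8 n38613
theorem D39769 : act 8 n38613 = n39769 := rfl
theorem F183995 : act 2 n39769 = n38619 := d22_1 D39769 (iv D38619) (iv F178991)
theorem F183996 : act 6 n39769 = n38636 := d40_1 D39769 (iv D38636) (iv F178992)
theorem F183997 : act 7 n39769 = n38939 := d42_1 D39769 (iv D38939) (iv F178993)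
def n39770 : Q := act 5 n38614
theorem D39770 : act 5 n38614 = n39770 := rfl
theorem F183998 : act 2 n39770 = n38620 := d19_1 D39770 (iv D38620) (iv F178994)
theorem F183999 : act 7 n39770 = n38940 := d36_2 (iv F178997) D39770 (iv D38940)
def n39771 : Q := act 9 n38614
theorem D39771 : act 9 n38614 = n39771 := rfl
theorem F184000 : act 2 n39771 = n38621 := d23_1 D39771 (iv D38621) (iv F178994)
theorem F184001 : act 4 n39771 = n38618 := d34_1 D39771 (iv D38618) (iv F178995)
theorem F184002 : act 6 n39771 = n38616 := d41_1 D39771 (iv D38616) (iv F178996)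
theorem F184003 : act 7 n39771 = n38941 := d43_1 D39771 (iv D38941) (iv F178997)
theorem F184004 : act 8 n39771 = n38648 := d44_1 D39771 F179108 (iv F175518) F175519 D38614
def n39772 : Q := act 6 n38615
theorem D39772 : act 6 n38615 = n39772 := rfl
theorem F184005 : act 2 n39772 = n38622 := d20_1 D39772 (iv D38622) (iv F178998)
theorem F184006 : act 4 n39772 = n39772 := d31_1 D39772 (iv D39772) F178999
theorem F184007 : act 8 n39772 = n38638 := d40_2 (iv F179001) D39772 (iv D38638)
def n39773 : Q := act 4 n38617
theorem D39773 : act 4 n38617 = n39773 := rfl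
theorem F184008 : act 2 n39773 = n38624 := d18_1 D39773 (iv D38624) (iv F179006)
theorem F184009 : act 6 n39773 = n39773 := d31_2 F179008 D39773 (iv D39773)
theorem F184010 : act 7 n39773 = n38942 := d32_2 (iv F179009) D39773 (iv D38942)
def n39774 : Q := act 9 n38617
theorem D39774 : act 9 n38617 = n39774 := rfl
theorem F184011 : act 2 n39774 = n38625 := d23_1 D39774 (iv D38625) (iv F179006)
theorem F184012 : act 3 n39774 = n39774 := d29_1 D39774 (iv D39774) F179007
theorem F184013 : act 5 n39774 = n38618 := d38_1 D39774 (iv D38618) D38617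
theorem F184014 : act 6 n39774 = n39774 := d41_1 D39774 (iv D39774) F179008
theorem F184015 : act 7 n39774 = n38943 := d43_1 D39774 (iv D38943) (iv F179009)
def n39775 : Q := act 5 n38619
theorem D39775 : act 5 n38619 = n39775 := rfl
theorem F184016 : act 7 n39775 = n38944 := d36_2 (iv F179016) D39775 (iv D38944)
theorem F184017 : act 8 n39775 = n38620 := d37_2 D38619 D39775 (iv D38620) (iv D37314) D37313
def n39776 : Q := act 9 n38619
theorem D39776 : act 9 n38619 = n39776 := rfl
theorem F184018 : act 6 n39776 = n38642 := d41_1 D39776 (iv D38642) (iv F179015)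
theorem F184019 : act 7 n39776 = n38945 := d43_1 D39776 (iv D38945) (iv F179016)
def n39777 : Q := act 4 n38620
theorem D39777 : act 4 n38620 = n39777 := rfl
theorem F184020 : act 5 n39777 = n38624 := d30_2 D38620 D39777 (iv D38624) (iv D37318) (iv F173072)
theorem F184021 : act 7 n39777 = n38946 := d32_2 (iv F179017) D39777 (iv D38946)
def n39778 : Q := act 6 n38620
theorem D39778 : act 6 n38620 = n39778 := rfl
theorem F184022 : act 5 n39778 = n38622 := d35_1 D39778 (iv D38622) (iv D37315) (iv F173073) D38620
def n39779 : Q := act 9 n38620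
theorem D39779 : act 9 n38620 = n39779 := rfl
theorem F184023 : act 1 n39779 = n38655 := d16_1 D39779 (iv F181492) F181489
theorem F184024 : act 3 n39779 = n38651 := d29_1 D39779 (iv F182630) F182628
theorem F184025 : act 5 n39779 = n38621 := d38_1 D39779 (iv D38621) D38620
theorem F184026 : act 7 n39779 = n38948 := d43_1 D39779 (iv D38948) (iv F179017)
def n39780 : Q := act 7 n38622
theorem D39780 : act 7 n38622 = n39780 := rfl
theorem F184027 : act 4 n39780 = n39780 := d32_1 D39780 (iv D39780) F179024
theorem F184028 : act 6 n39780 = n38623 := d39_1 D39780 (iv D38623) (iv D37317) (iv F173076) D38622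
theorem F184029 : act 8 n39780 = n38646 := d42_2 (iv F179025) D39780 (iv D38646)
def n39781 : Q := act 3 n38624
theorem D39781 : act 3 n38624 = n39781 := rfl
theorem F184030 : act 4 n39781 = n38626 := d24_2 D38624 D39781 (iv D38626) (iv D37320) (iv F173086)
theorem F184031 : act 6 n39781 = n39781 := d26_2 F179029 D39781 (iv D39781)
theorem F184032 : act 7 n39781 = n38953 := d27_2 (iv F179030) D39781 (iv D38953)
def n39782 : Q := act 9 n38624
theorem D39782 : act 9 n38624 = n39782 := rfl
theorem F184033 : act 1 n39782 = n38715 := d16_1 D39782 (iv F181504) F181500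
theorem F184034 : act 4 n39782 = n38625 := d34_1 D39782 (iv D38625) D38624
theorem F184035 : act 6 n39782 = n39782 := d41_1 D39782 (iv D39782) F179029
theorem F184036 : act 7 n39782 = n38954 := d43_1 D39782 (iv D38954) (iv F179030)
def n39783 : Q := act 8 n38625
theorem D39783 : act 8 n38625 = n39783 := rfl
theorem F184037 : act 1 n39783 = n38713 := d15_1 D39783 F179295 (iv F179031)
theorem F184038 : act 3 n39783 = n38628 := d28_1 D39783 (iv D38628) (iv F179032)
theorem F184039 : act 5 n39783 = n38711 := d37_1 D39783 (iv D38711) (iv D37407) (iv F173093) (iv F179033)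
theorem F184040 : act 6 n39783 = n39783 := d40_1 D39783 (iv D39783) F179034
theorem F184041 : act 7 n39783 = n38955 := d42_1 D39783 (iv D38955) (iv F179035)
def n39784 : Q := act 2 n38626
theorem D39784 : act 2 n38626 = n39784 := rfl
theorem F184042 : act 3 n39784 = n39784 := d17_2 D38626 D39784 (iv D39784) (iv D38626) F173094
theorem F184043 : act 6 n39784 = n39784 := d20_2 F179036 D39784 (iv D39784)
theorem F184044 : act 7 n39784 = n38956 := d21_2 (iv F179037) D39784 (iv D38956)
def n39785 : Q := act 9 n38626
theorem D39785 : act 9 n38626 = n39785 := rfl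
theorem F184045 : act 1 n39785 = n38716 := d16_1 D39785 (iv F181512) F181506
theorem F184046 : act 3 n39785 = n38627 := d29_1 D39785 (iv D38627) D38626
theorem F184047 : act 5 n39785 = n38698 := d38_1 D39785 (iv F182651) F182647
theorem F184048 : act 6 n39785 = n39785 := d41_1 D39785 (iv D39785) F179036
theorem F184049 : act 7 n39785 = n38957 := d43_1 D39785 (iv D38957) (iv F179037)
def n39786 : Q := act 6 n38629
theorem D39786 : act 6 n38629 = n39786 := rfl
theorem F184050 : act 2 n39786 = n38630 := d20_1 D39786 (iv D38630) (iv F179049)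
theorem F184051 : act 4 n39786 = n38703 := d31_1 D39786 (iv D38703) (iv F179050)
theorem F184052 : act 7 n39786 = n38648 := d39_2 D38629 D39786 (iv D38648) (iv D37341) (iv F173103)
theorem F184053 : act 8 n39786 = n38941 := d40_2 (iv F179051) D39786 F180042
theorem F184054 : act 9 n39786 = n38827 := d41_2 (iv F179052) D39786 F179730
def n39787 : Q := act 5 n38630
theorem D39787 : act 5 n38630 = n39787 := rfl
theorem F184055 : act 1 n39787 = n38635 := d12_1 D39787 (iv D38635) (iv F179053)
theorem F184056 : act 3 n39787 = n38631 := d25_1 D39787 (iv D38631) (iv F179054)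
theorem F184057 : act 7 n39787 = n38649 := d36_2 (iv F179056) D39787 (iv D38649)
theorem F184058 : act 9 n39787 = n38931 := d38_2 (iv F179058) D39787 (iv D38931)
def n39788 : Q := act 8 n38631
theorem D39788 : act 8 n38631 = n39788 := rfl
theorem F184059 : act 1 n39788 = n38636 := d15_1 D39788 (iv D38636) (iv F179059)
theorem F184060 : act 4 n39788 = n39027 := d33_1 D39788 F180215 (iv F179060)
theorem F184061 : act 7 n39788 = n38650 := d42_1 D39788 (iv D38650) (iv F179061)
def n39789 : Q := act 5 n38632
theorem D39789 : act 5 n38632 = n39789 := rfl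
theorem F184062 : act 1 n39789 = n38637 := d12_1 D39789 (iv D38637) (iv F179062)
theorem F184063 : act 3 n39789 = n38948 := d25_1 D39789 F180053 (iv F179063)
theorem F184064 : act 7 n39789 = n38651 := d36_2 (iv F179066) D39789 (iv D38651)
theorem F184065 : act 9 n39789 = n38779 := d38_2 (iv F179067) D39789 (iv D38779)
def n39790 : Q := act 6 n38633
theorem D39790 : act 6 n38633 = n39790 := rfl
theorem F184066 : act 1 n39790 = n38638 := d13_1 D39790 (iv D38638) (iv F179068)
theorem F184067 : act 3 n39790 = n38950 := d26_1 D39790 F180058 (iv F179069)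
theorem F184068 : act 4 n39790 = n39790 := d31_1 D39790 (iv D39790) F179070
theorem F184069 : act 9 n39790 = n38780 := d41_2 (iv F179072) D39790 (iv D38780)
def n39791 : Q := act 4 n38634
theorem D39791 : act 4 n38634 = n39791 := rfl
theorem F184070 : act 1 n39791 = n38640 := d11_1 D39791 (iv D38640) (iv F179073)
theorem F184071 : act 6 n39791 = n39791 := d31_2 F179075 D39791 (iv D39791)
theorem F184072 : act 7 n39791 = n38652 := d32_2 (iv F179076) D39791 (iv D38652)
theorem F184073 : act 8 n39791 = n38693 := d33_2 (iv F179077) D39791 F179227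
theorem F184074 : act 9 n39791 = n38782 := d34_2 (iv F179078) D39791 (iv D38782)
def n39792 : Q := act 4 n38635
theorem D39792 : act 4 n38635 = n39792 := rfl
theorem F184075 : act 5 n39792 = n38706 := d30_2 D38635 D39792 (iv D38706) (iv D37403) (iv F173129)
theorem F184076 : act 7 n39792 = n38653 := d32_2 (iv F179080) D39792 (iv D38653)
def n39793 : Q := act 8 n38635
theorem D39793 : act 8 n38635 = n39793 := rfl
theorem F184077 : act 3 n39793 = n38636 := d28_1 D39793 (iv D38636) (iv F179079)
theorem F184078 : act 7 n39793 = n38654 := d42_1 D39793 (iv D38654) (iv F179080)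
def n39794 : Q := act 5 n38636
theorem D39794 : act 5 n38636 = n39794 := rfl
theorem F184079 : act 2 n39794 = n38641 := d19_1 D39794 (iv D38641) (iv F179081)
theorem F184080 : act 7 n39794 = n38658 := d36_2 (iv F179082) D39794 (iv D38658)
theorem F184081 : act 8 n39794 = n38637 := d37_2 D38636 D39794 (iv D38637) (iv D37330) D37329
def n39795 : Q := act 9 n38636
theorem D39795 : act 9 n38636 = n39795 := rfl
theorem F184082 : act 2 n39795 = n38642 := d23_1 D39795 (iv D38642) (iv F179081)
theorem F184083 : act 7 n39795 = n38659 := d43_1 D39795 (iv D38659) (iv F179082)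
def n39796 : Q := act 4 n38637
theorem D39796 : act 4 n38637 = n39796 := rfl
theorem F184084 : act 2 n39796 = n38643 := d18_1 D39796 (iv D38643) (iv F179083)
theorem F184085 : act 5 n39796 = n38640 := d30_2 D38637 D39796 (iv D38640) (iv D37333) (iv F173134)
theorem F184086 : act 7 n39796 = n38660 := d32_2 (iv F179084) D39796 (iv D38660)
def n39797 : Q := act 6 n38637
theorem D39797 : act 6 n38637 = n39797 := rfl
theorem F184087 : act 2 n39797 = n38644 := d20_1 D39797 (iv D38644) (iv F179083)
theorem F184088 : act 5 n39797 = n38638 := d35_1 D39797 (iv D38638) (iv D37331) (iv F173135) D38637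
def n39798 : Q := act 7 n38638
theorem D39798 : act 7 n38638 = n39798 := rfl
theorem F184089 : act 2 n39798 = n38646 := d21_1 D39798 (iv D38646) (iv F179085)
theorem F184090 : act 4 n39798 = n39798 := d32_1 D39798 (iv D39798) F179086
theorem F184091 : act 6 n39798 = n38639 := d39_1 D39798 (iv D38639) (iv D37332) (iv F173139) D38638
def n39799 : Q := act 3 n38640
theorem D39799 : act 3 n38640 = n39799 := rfl
theorem F184092 : act 4 n39799 = n38708 := d24_2 D38640 D39799 (iv D38708) (iv D37405) (iv F173144)
theorem F184093 : act 6 n39799 = n39799 := d26_2 F179091 D39799 (iv D39799)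
theorem F184094 : act 7 n39799 = n38666 := d27_2 (iv F179092) D39799 (iv D38666)
def n39800 : Q := act 4 n38641
theorem D39800 : act 4 n38641 = n39800 := rfl
theorem F184095 : act 7 n39800 = n38668 := d32_2 (iv F179093) D39800 (iv D38668)
theorem F184096 : act 8 n39800 = n38643 := d33_2 (iv F179094) D39800 (iv D38643)
def n39801 : Q := act 6 n38641
theorem D39801 : act 6 n38641 = n39801 := rfl
theorem F184097 : act 8 n39801 = n38644 := d40_2 (iv F179094) D39801 (iv D38644)
def n39802 : Q := act 9 n38641
theorem D39802 : act 9 n38641 = n39802 := rfl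
theorem F184098 : act 5 n39802 = n38642 := d38_1 D39802 (iv D38642) D38641
theorem F184099 : act 7 n39802 = n38670 := d43_1 D39802 (iv D38670) (iv F179093)
def n39803 : Q := act 6 n38643
theorem D39803 : act 6 n38643 = n39803 := rfl
theorem F184100 : act 4 n39803 = n38644 := d31_1 D39803 (iv D38644) D38643
theorem F184101 : act 5 n39803 = n39803 := d35_1 D39803 (iv D39803) F179096 F173155 (iv F179096)
def n39804 : Q := act 9 n38643
theorem D39804 : act 9 n38643 = n39804 := rfl
theorem F184102 : act 4 n39804 = n38645 := d34_1 D39804 (iv D38645) D38643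
theorem F184103 : act 5 n39804 = n38647 := d38_1 D39804 (iv D38647) (iv F179096)
theorem F184104 : act 7 n39804 = n38673 := d43_1 D39804 (iv D38673) (iv F179097)
def n39805 : Q := act 7 n38644
theorem D39805 : act 7 n38644 = n39805 := rfl
theorem F184105 : act 5 n39805 = n38646 := d36_1 D39805 (iv D38646) (iv F179098)
theorem F184106 : act 6 n39805 = n38674 := d39_1 D39805 (iv D38674) (iv D37362) (iv F173148) D38644
def n39806 : Q := act 8 n38645
theorem D39806 : act 8 n38645 = n39806 := rfl
theorem F184107 : act 7 n39806 = n38676 := d42_1 D39806 (iv D38676) (iv F179100)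
def n39807 : Q := act 5 n38648
theorem D39807 : act 5 n38648 = n39807 := rfl
theorem F184108 : act 2 n39807 = n38649 := d19_1 D39807 (iv D38649) (iv F179106)
theorem F184109 : act 6 n39807 = n38826 := d35_2 D38648 D39807 F179727 F173887 (iv F173163)
theorem F184110 : act 9 n39807 = n38825 := d38_2 (iv F179108) D39807 F179725
def n39808 : Q := act 4 n38649
theorem D39808 : act 4 n38649 = n39808 := rfl
theorem F184111 : act 1 n39808 = n38653 := d11_1 D39808 (iv D38653) (iv F179109)
theorem F184112 : act 3 n39808 = n38879 := d24_1 D39808 F179868 F174044 (iv F173169) (iv F179110)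
theorem F184113 : act 5 n39808 = n38710 := d30_2 D38649 D39808 (iv D38710) (iv D37407) (iv F173167)
theorem F184114 : act 6 n39808 = n38878 := d31_2 (iv F179111) D39808 F179866
def n39809 : Q := act 8 n38649
theorem D39809 : act 8 n38649 = n39809 := rfl
theorem F184115 : act 1 n39809 = n38654 := d15_1 D39809 (iv D38654) (iv F179109)
theorem F184116 : act 3 n39809 = n38650 := d28_1 D39809 (iv D38650) (iv F179110)
theorem F184117 : act 6 n39809 = n39014 := d40_1 D39809 (iv D39014) (iv F179111)
def n39810 : Q := act 5 n38650
theorem D39810 : act 5 n38650 = n39810 := rfl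
theorem F184118 : act 1 n39810 = n38658 := d12_1 D39810 (iv D38658) (iv F179112)
theorem F184119 : act 8 n39810 = n38651 := d37_2 D38650 D39810 (iv D38651) (iv D37344) D37343
def n39811 : Q := act 9 n38650
theorem D39811 : act 9 n38650 = n39811 := rfl
theorem F184120 : act 1 n39811 = n38659 := d16_1 D39811 (iv D38659) (iv F179112)
theorem F184121 : act 4 n39811 = n39028 := d34_1 D39811 (iv D39028) (iv F179113)
theorem F184122 : act 6 n39811 = n39015 := d41_1 D39811 (iv D39015) (iv F179114)
def n39812 : Q := act 4 n38651
theorem D39812 : act 4 n38651 = n39812 := rfl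
theorem F184123 : act 1 n39812 = n38660 := d11_1 D39812 (iv D38660) (iv F179115)
theorem F184124 : act 5 n39812 = n38652 := d30_2 D38651 D39812 (iv D38652) (iv D37345) (iv F173172)
def n39813 : Q := act 3 n38652
theorem D39813 : act 3 n38652 = n39813 := rfl
theorem F184125 : act 1 n39813 = n38666 := d10_1 D39813 (iv D38666) (iv F179116)
theorem F184126 : act 4 n39813 = n38698 := d24_2 D38652 D39813 F179243 F173309 (iv F173175)
theorem F184127 : act 6 n39813 = n38682 := d26_2 (iv F179117) D39813 (iv D38682)
theorem F184128 : act 8 n39813 = n38691 := d28_2 (iv F179118) D39813 F179221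
def n39814 : Q := act 8 n38653
theorem D39814 : act 8 n38653 = n39814 := rfl
theorem F184129 : act 4 n39814 = n38654 := d33_1 D39814 (iv D38654) D38653
theorem F184130 : act 6 n39814 = n39016 := d40_1 D39814 (iv D39016) (iv F179120)
def n39815 : Q := act 5 n38654
theorem D39815 : act 5 n38654 = n39815 := rfl
theorem F184131 : act 3 n39815 = n38658 := d25_1 D39815 (iv D38658) (iv F179121)
theorem F184132 : act 8 n39815 = n38655 := d37_2 D38654 D39815 (iv D38655) (iv D37347) D37346
def n39816 : Q := act 9 n38654
theorem D39816 : act 9 n38654 = n39816 := rfl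
theorem F184133 : act 3 n39816 = n38659 := d29_1 D39816 (iv D38659) (iv F179121)
theorem F184134 : act 6 n39816 = n39018 := d41_1 D39816 (iv D39018) (iv F179122)
def n39817 : Q := act 4 n38655
theorem D39817 : act 4 n38655 = n39817 := rfl
theorem F184135 : act 5 n39817 = n38715 := d30_2 D38655 D39817 (iv D38715) (iv D37411) (iv F173181)
def n39818 : Q := act 6 n38655
theorem D39818 : act 6 n38655 = n39818 := rfl
theorem F184136 : act 3 n39818 = n38661 := d26_1 D39818 (iv D38661) (iv F179123)
theorem F184137 : act 5 n39818 = n38656 := d35_1 D39818 (iv D38656) (iv D37348) (iv F173182) D38655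
def n39819 : Q := act 7 n38656
theorem D39819 : act 7 n38656 = n39819 := rfl
theorem F184138 : act 3 n39819 = n38663 := d27_1 D39819 (iv D38663) (iv F179124)
theorem F184139 : act 4 n39819 = n39819 := d32_1 D39819 (iv D39819) F179125
theorem F184140 : act 6 n39819 = n38657 := d39_1 D39819 (iv D38657) (iv D37349) (iv F173185) D38656
theorem F184141 : act 8 n39819 = n39022 := d42_2 (iv F179126) D39819 (iv D39022)
def n39820 : Q := act 4 n38658
theorem D39820 : act 4 n38658 = n39820 := rfl
theorem F184142 : act 2 n39820 = n38668 := d18_1 D39820 (iv D38668) (iv F179130)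
theorem F184143 : act 8 n39820 = n38660 := d33_2 (iv F179131) D39820 (iv D38660)
def n39821 : Q := act 6 n38658
theorem D39821 : act 6 n38658 = n39821 := rfl
theorem F184144 : act 2 n39821 = n38669 := d20_1 D39821 (iv D38669) (iv F179130)
theorem F184145 : act 5 n39821 = n39023 := d35_1 D39821 (iv D39023) (iv D37759) (iv F173191) D38658
theorem F184146 : act 8 n39821 = n38661 := d40_2 (iv F179131) D39821 (iv D38661)
def n39822 : Q := act 9 n38658
theorem D39822 : act 9 n38658 = n39822 := rfl
theorem F184147 : act 2 n39822 = n38670 := d23_1 D39822 (iv D38670) (iv F179130)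
theorem F184148 : act 5 n39822 = n38659 := d38_1 D39822 (iv D38659) D38658
def n39823 : Q := act 3 n38660
theorem D39823 : act 3 n38660 = n39823 := rfl
theorem F184149 : act 5 n39823 = n38666 := d25_2 (iv F179135) D39823 (iv D38666)
def n39824 : Q := act 6 n38660
theorem D39824 : act 6 n38660 = n39824 := rfl
theorem F184150 : act 2 n39824 = n38672 := d20_1 D39824 (iv D38672) (iv F179134)
theorem F184151 : act 4 n39824 = n38661 := d31_1 D39824 (iv D38661) D38660
theorem F184152 : act 5 n39824 = n38684 := d35_1 D39824 (iv D38684) F173246 (iv F173214) (iv F179135)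
def n39825 : Q := act 9 n38660
theorem D39825 : act 9 n38660 = n39825 := rfl
theorem F184153 : act 0 n39825 = n38919 := d8_1 D39825 (iv F180794) F180790
theorem F184154 : act 2 n39825 = n38673 := d23_1 D39825 (iv D38673) (iv F179134)
theorem F184155 : act 4 n39825 = n38662 := d34_1 D39825 (iv D38662) D38660
theorem F184156 : act 5 n39825 = n38667 := d38_1 D39825 (iv D38667) (iv F179135)
def n39826 : Q := act 7 n38661
theorem D39826 : act 7 n38661 = n39826 := rfl
theorem F184157 : act 2 n39826 = n38674 := d21_1 D39826 (iv D38674) (iv F179136)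
theorem F184158 : act 5 n39826 = n38663 := d36_1 D39826 (iv D38663) (iv F179137)
def n39827 : Q := act 9 n38661
theorem D39827 : act 9 n38661 = n39827 := rfl
theorem F184159 : act 0 n39827 = n38920 := d8_1 D39827 (iv F180799) F180795
theorem F184160 : act 2 n39827 = n38675 := d23_1 D39827 (iv D38675) (iv F179136)
theorem F184161 : act 5 n39827 = n38664 := d38_1 D39827 (iv D38664) (iv F179137)
theorem F184162 : act 6 n39827 = n38662 := d41_1 D39827 (iv D38662) D38661
def n39828 : Q := act 8 n38662
theorem D39828 : act 8 n38662 = n39828 := rfl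
theorem F184163 : act 0 n39828 = n38917 := d7_1 D39828 F179988 (iv F179138)
theorem F184164 : act 2 n39828 = n38676 := d22_1 D39828 (iv D38676) (iv F179139)
theorem F184165 : act 5 n39828 = n38905 := d37_1 D39828 (iv D38905) (iv D37640) (iv F173197) (iv F179140)
def n39829 : Q := act 9 n38663
theorem D39829 : act 9 n38663 = n39829 := rfl
theorem F184166 : act 0 n39829 = n38921 := d8_1 D39829 (iv F180806) F180800
theorem F184167 : act 2 n39829 = n38677 := d23_1 D39829 (iv D38677) (iv F179141)
theorem F184168 : act 4 n39829 = n38688 := d34_1 D39829 (iv D38688) (iv F179142)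
theorem F184169 : act 6 n39829 = n38665 := d41_1 D39829 (iv D38665) (iv F179143)
theorem F184170 : act 7 n39829 = n38664 := d43_1 D39829 (iv D38664) D38663
def n39830 : Q := act 2 n38666
theorem D39830 : act 2 n38666 = n39830 := rfl
theorem F184171 : act 3 n39830 = n38678 := d17_2 D38666 D39830 (iv D38678) (iv D37367) (iv F173213)
theorem F184172 : act 4 n39830 = n38714 := d18_2 (iv F179153) D39830 F179296
theorem F184173 : act 6 n39830 = n38689 := d20_2 (iv F179154) D39830 (iv D38689)
theorem F184174 : act 9 n39830 = n38712 := d23_2 (iv F183894) D39830 (iv F183890)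
def n39831 : Q := act 3 n38668
theorem D39831 : act 3 n38668 = n39831 := rfl
theorem F184175 : act 8 n39831 = n38671 := d28_2 (iv F179159) D39831 (iv D38671)
def n39832 : Q := act 6 n38668
theorem D39832 : act 6 n38668 = n39832 := rfl
theorem F184176 : act 4 n39832 = n38669 := d31_1 D39832 (iv D38669) D38668
theorem F184177 : act 8 n39832 = n38672 := d40_2 (iv F179159) D39832 (iv D38672)
def n39833 : Q := act 9 n38668
theorem D39833 : act 9 n38668 = n39833 := rfl
theorem F184178 : act 4 n39833 = n38670 := d34_1 D39833 (iv D38670) D38668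
def n39834 : Q := act 7 n38669
theorem D39834 : act 7 n38669 = n39834 := rfl
theorem F184179 : act 5 n39834 = n39027 := d36_1 D39834 (iv D39027) (iv F179160)
theorem F184180 : act 8 n39834 = n38674 := d42_2 (iv F179161) D39834 (iv D38674)
def n39835 : Q := act 9 n38669
theorem D39835 : act 9 n38669 = n39835 := rfl
theorem F184181 : act 5 n39835 = n39028 := d38_1 D39835 (iv D39028) (iv F179160)
theorem F184182 : act 6 n39835 = n38670 := d41_1 D39835 (iv D38670) D38669
def n39836 : Q := act 8 n38670
theorem D39836 : act 8 n38670 = n39836 := rfl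
theorem F184183 : act 9 n39836 = n38676 := d44_2 D38670 D39836 (iv D38676) (iv D37363) (iv F173220)
def n39837 : Q := act 2 n38671
theorem D39837 : act 2 n38671 = n39837 := rfl
theorem F184184 : act 5 n39837 = n38678 := d19_2 (iv F179163) D39837 (iv D38678)
def n39838 : Q := act 6 n38671
theorem D39838 : act 6 n38671 = n39838 := rfl
theorem F184185 : act 3 n39838 = n38672 := d26_1 D39838 (iv D38672) D38671
theorem F184186 : act 5 n39838 = n38691 := d35_1 D39838 (iv D38691) F173277 (iv F173233) (iv F179163)
def n39839 : Q := act 9 n38671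
theorem D39839 : act 9 n38671 = n39839 := rfl
theorem F184187 : act 3 n39839 = n38673 := d29_1 D39839 (iv D38673) D38671
theorem F184188 : act 5 n39839 = n38679 := d38_1 D39839 (iv D38679) (iv F179163)
def n39840 : Q := act 7 n38672
theorem D39840 : act 7 n38672 = n39840 := rfl
theorem F184189 : act 4 n39840 = n38674 := d32_1 D39840 (iv D38674) (iv F179164)
theorem F184190 : act 5 n39840 = n38693 := d36_1 D39840 (iv D38693) (iv F179165)
def n39841 : Q := act 9 n38672
theorem D39841 : act 9 n38672 = n39841 := rfl
theorem F184191 : act 4 n39841 = n38675 := d34_1 D39841 (iv D38675) (iv F179164)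
theorem F184192 : act 5 n39841 = n38694 := d38_1 D39841 (iv D38694) (iv F179165)
theorem F184193 : act 6 n39841 = n38673 := d41_1 D39841 (iv D38673) D38672
def n39842 : Q := act 8 n38673
theorem D39842 : act 8 n38673 = n39842 := rfl
theorem F184194 : act 4 n39842 = n38676 := d33_1 D39842 (iv D38676) (iv F179166)
def n39843 : Q := act 9 n38674
theorem D39843 : act 9 n38674 = n39843 := rfl
theorem F184195 : act 5 n39843 = n38677 := d38_1 D39843 (iv D38677) (iv F179168)
theorem F184196 : act 7 n39843 = n38675 := d43_1 D39843 (iv D38675) D38674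
def n39844 : Q := act 8 n38675
theorem D39844 : act 8 n38675 = n39844 := rfl
theorem F184197 : act 6 n39844 = n38676 := d40_1 D39844 (iv D38676) (iv F179170)
def n39845 : Q := act 1 n38678
theorem D39845 : act 1 n38678 = n39845 := rfl
theorem F184198 : act 4 n39845 = n38681 := d11_2 (iv F179174) D39845 (iv D38681)
theorem F184199 : act 6 n39845 = n38696 := d13_2 (iv F179175) D39845 (iv D38696)
theorem F184200 : act 9 n39845 = n38893 := d16_2 F183588 D39845 (iv F183583)
def n39846 : Q := act 5 n38680
theorem D39846 : act 5 n38680 = n39846 := rfl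
def n39847 : Q := act 2 n38682
theorem D39847 : act 2 n38682 = n39847 := rfl
theorem F184201 : act 4 n39847 = n38697 := d18_2 (iv F179185) D39847 (iv D38697)
theorem F184202 : act 7 n39847 = n39847 := d21_2 F179186 D39847 (iv D39847)
theorem F184203 : act 8 n39847 = n38690 := d22_2 (iv F179187) D39847 (iv D38690)
def n39848 : Q := act 2 n38683
theorem D39848 : act 2 n38683 = n39848 := rfl
theorem F184204 : act 3 n39848 = n38690 := d17_2 D38683 D39848 (iv D38690) (iv D37381) (iv F173245)
theorem F184205 : act 4 n39848 = n39848 := d18_2 F179188 D39848 (iv D39848)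
theorem F184206 : act 5 n39848 = n38689 := d19_2 (iv F179189) D39848 (iv D38689)
theorem F184207 : act 7 n39848 = n39848 := d21_2 F179190 D39848 (iv D39848)
theorem F184208 : act 9 n39848 = n38720 := d23_2 F183908 D39848 (iv F183903)
def n39849 : Q := act 6 n38683
theorem D39849 : act 6 n38683 = n39849 := rfl
theorem F184209 : act 3 n39849 = n38684 := d26_1 D39849 (iv D38684) D38683
theorem F184210 : act 4 n39849 = n39849 := d31_1 D39849 (iv D39849) F179188
def n39850 : Q := act 7 n38684
theorem D39850 : act 7 n38684 = n39850 := rfl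
theorem F184211 : act 2 n39850 = n38693 := d21_1 D39850 (iv D38693) (iv F179191)
theorem F184212 : act 4 n39850 = n38686 := d32_1 D39850 (iv D38686) (iv F179192)
theorem F184213 : act 6 n39850 = n39850 := d39_1 D39850 (iv D39850) (iv D38684) F173247 D38684
def n39851 : Q := act 9 n38684
theorem D39851 : act 9 n38684 = n39851 := rfl
theorem F184214 : act 0 n39851 = n39036 := d8_1 D39851 (iv F180888) F180884
theorem F184215 : act 2 n39851 = n38694 := d23_1 D39851 (iv D38694) (iv F179191)
theorem F184216 : act 4 n39851 = n38687 := d34_1 D39851 (iv D38687) (iv F179192)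
theorem F184217 : act 6 n39851 = n38685 := d41_1 D39851 (iv D38685) D38684
theorem F184218 : act 8 n39851 = n39042 := d44_1 D39851 (iv D39042) (iv F180242) (iv F183723) F183722
def n39852 : Q := act 9 n38686
theorem D39852 : act 9 n38686 = n39852 := rfl
theorem F184219 : act 0 n39852 = n39037 := d8_1 D39852 (iv F180895) F180889
theorem F184220 : act 2 n39852 = n38695 := d23_1 D39852 (iv D38695) (iv F179199)
theorem F184221 : act 3 n39852 = n39852 := d29_1 D39852 (iv D39852) F179200
theorem F184222 : act 5 n39852 = n38688 := d38_1 D39852 (iv D38688) (iv F179201)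
theorem F184223 : act 6 n39852 = n39852 := d41_1 D39852 (iv D39852) F179202
theorem F184224 : act 7 n39852 = n38687 := d43_1 D39852 (iv D38687) D38686
theorem F184225 : act 8 n39852 = n39043 := d44_1 D39852 (iv D39043) (iv F179566) (iv F183730) F183729
def n39853 : Q := act 6 n38690
theorem D39853 : act 6 n38690 = n39853 := rfl
theorem F184226 : act 2 n39853 = n38691 := d20_1 D39853 (iv D38691) D38690
theorem F184227 : act 4 n39853 = n38700 := d31_1 D39853 (iv D38700) (iv F179218)
def n39854 : Q := act 7 n38691
theorem D39854 : act 7 n38691 = n39854 := rfl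
theorem F184228 : act 3 n39854 = n38693 := d27_1 D39854 (iv D38693) (iv F179221)
theorem F184229 : act 4 n39854 = n38701 := d32_1 D39854 (iv D38701) (iv F179222)
theorem F184230 : act 6 n39854 = n39854 := d39_1 D39854 (iv D39854) (iv D38691) F173278 D38691
def n39855 : Q := act 9 n38691
theorem D39855 : act 9 n38691 = n39855 := rfl
theorem F184231 : act 3 n39855 = n38694 := d29_1 D39855 (iv D38694) (iv F179221)
theorem F184232 : act 4 n39855 = n38702 := d34_1 D39855 (iv D38702) (iv F179222)
theorem F184233 : act 6 n39855 = n38692 := d41_1 D39855 (iv D38692) D38691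
def n39856 : Q := act 9 n38693
theorem D39856 : act 9 n38693 = n39856 := rfl
theorem F184234 : act 4 n39856 = n38695 := d34_1 D39856 (iv D38695) (iv F179227)
theorem F184235 : act 6 n39856 = n39856 := d41_1 D39856 (iv D39856) F179228
theorem F184236 : act 7 n39856 = n38694 := d43_1 D39856 (iv D38694) D38693
def n39857 : Q := act 6 n38697
theorem D39857 : act 6 n38697 = n39857 := rfl
theorem F184237 : act 2 n39857 = n38698 := d20_1 D39857 (iv D38698) D38697
theorem F184238 : act 3 n39857 = n39857 := d26_1 D39857 (iv D39857) F179238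
theorem F184239 : act 8 n39857 = n38700 := d40_2 (iv F179241) D39857 (iv D38700)
def n39858 : Q := act 7 n38698
theorem D39858 : act 7 n38698 = n39858 := rfl
theorem F184240 : act 1 n39858 = n38708 := d14_1 D39858 F179280 (iv F179242)
theorem F184241 : act 3 n39858 = n38699 := d27_1 D39858 (iv D38699) (iv F179243)
theorem F184242 : act 5 n39858 = n38957 := d36_1 D39858 (iv F184049) F184047
theorem F184243 : act 6 n39858 = n39858 := d39_1 D39858 (iv D39858) (iv D38698) F173305 D38698
theorem F184244 : act 8 n39858 = n38701 := d42_2 (iv F179244) D39858 (iv D38701)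
theorem F184245 : act 9 n39858 = n38783 := d43_2 F182651 D39858 (iv F182649)
def n39859 : Q := act 7 n38700
theorem D39859 : act 7 n38700 = n39859 := rfl
theorem F184246 : act 2 n39859 = n38701 := d21_1 D39859 (iv D38701) (iv F179252)
theorem F184247 : act 3 n39859 = n39859 := d27_1 D39859 (iv D39859) F179253
theorem F184248 : act 5 n39859 = n39054 := d36_1 D39859 (iv F182445) F182444
theorem F184249 : act 6 n39859 = n39859 := d39_1 D39859 (iv D39859) (iv D38700) F173319 D38700
theorem F184250 : act 9 n39859 = n39058 := d43_2 F183035 D39859 (iv F183033)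
def n39860 : Q := act 5 n38703
theorem D39860 : act 5 n38703 = n39860 := rfl
theorem F184251 : act 2 n39860 = n38704 := d19_1 D39860 (iv D38704) (iv F179258)
theorem F184252 : act 3 n39860 = n39860 := d25_1 D39860 (iv D39860) F179259
theorem F184253 : act 6 n39860 = n39860 := d35_2 D38703 D39860 (iv D39860) (iv D38703) F173336
theorem F184254 : act 7 n39860 = n38709 := d36_2 (iv F179260) D39860 (iv D38709)
theorem F184255 : act 9 n39860 = n38885 := d38_2 (iv F179262) D39860 F179882
def n39861 : Q := act 4 n38704
theorem D39861 : act 4 n38704 = n39861 := rfl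
theorem F184256 : act 1 n39861 = n38706 := d11_1 D39861 (iv D38706) (iv F179263)
theorem F184257 : act 3 n39861 = n38895 := d24_1 D39861 F179915 F174118 (iv F173346) (iv F179264)
theorem F184258 : act 6 n39861 = n39861 := d31_2 F179265 D39861 (iv D39861)
theorem F184259 : act 7 n39861 = n38710 := d32_2 (iv F179266) D39861 (iv D38710)
theorem F184260 : act 9 n39861 = n38933 := d34_2 (iv F179267) D39861 (iv D38933)
def n39862 : Q := act 8 n38704
theorem D39862 : act 8 n38704 = n39862 := rfl
theorem F184261 : act 1 n39862 = n38707 := d15_1 D39862 (iv D38707) (iv F179263)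
theorem F184262 : act 3 n39862 = n38705 := d28_1 D39862 (iv D38705) (iv F179264)
theorem F184263 : act 5 n39862 = n38955 := d37_1 D39862 (iv D38955) F174346 (iv F173342) D38704
theorem F184264 : act 6 n39862 = n39862 := d40_1 D39862 (iv D39862) F179265
theorem F184265 : act 7 n39862 = n38711 := d42_1 D39862 (iv D38711) (iv F179266)
def n39863 : Q := act 8 n38706
theorem D39863 : act 8 n38706 = n39863 := rfl
theorem F184266 : act 4 n39863 = n38707 := d33_1 D39863 (iv D38707) D38706
theorem F184267 : act 6 n39863 = n39863 := d40_1 D39863 (iv D39863) F179274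
theorem F184268 : act 7 n39863 = n38712 := d42_1 D39863 (iv D38712) (iv F179275)
def n39864 : Q := act 4 n38709
theorem D39864 : act 4 n38709 = n39864 := rfl
theorem F184269 : act 2 n39864 = n38710 := d18_1 D39864 (iv D38710) (iv F179281)
theorem F184270 : act 6 n39864 = n38717 := d31_2 (iv F179283) D39864 (iv D38717)
theorem F184271 : act 9 n39864 = n38884 := d34_2 (iv F179284) D39864 F179879
def n39865 : Q := act 8 n38709
theorem D39865 : act 8 n38709 = n39865 := rfl
theorem F184272 : act 2 n39865 = n38711 := d22_1 D39865 (iv D38711) (iv F179281)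
theorem F184273 : act 3 n39865 = n39865 := d28_1 D39865 (iv D39865) F179282
theorem F184274 : act 6 n39865 = n38718 := d40_1 D39865 (iv D38718) (iv F179283)
def n39866 : Q := act 8 n38710
theorem D39866 : act 8 n38710 = n39866 := rfl
theorem F184275 : act 1 n39866 = n38712 := d15_1 D39866 (iv D38712) (iv F179285)
theorem F184276 : act 3 n39866 = n38893 := d28_1 D39866 F179911 (iv F179286)
theorem F184277 : act 4 n39866 = n38711 := d33_1 D39866 (iv D38711) D38710
theorem F184278 : act 6 n39866 = n38719 := d40_1 D39866 (iv D38719) (iv F179287)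
def n39867 : Q := act 5 n38712
theorem D39867 : act 5 n38712 = n39867 := rfl
def n39868 : Q := act 4 n38713
theorem D39868 : act 4 n38713 = n39868 := rfl
theorem F184279 : act 6 n39868 = n39868 := d31_2 F179294 D39868 (iv D39868)
theorem F184280 : act 8 n39868 = n38715 := d33_2 (iv F179295) D39868 (iv D38715)
def n39869 : Q := act 3 n38715
theorem D39869 : act 3 n38715 = n39869 := rfl
theorem F184281 : act 4 n39869 = n38716 := d24_2 D38715 D39869 (iv D38716) (iv D37414) (iv F173372)
theorem F184282 : act 6 n39869 = n39869 := d26_2 F179299 D39869 (iv D39869)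
def n39870 : Q := act 3 n38717
theorem D39870 : act 3 n38717 = n39870 := rfl
theorem F184283 : act 1 n39870 = n39034 := d10_1 D39870 F183901 F183896
theorem F184284 : act 2 n39870 = n38890 := d17_1 D39870 (iv D38890) F174098 (iv F173396) (iv F179302)
theorem F184285 : act 4 n39870 = n39870 := d24_2 D38717 D39870 (iv D39870) (iv D38717) F173392
theorem F184286 : act 5 n39870 = n38887 := d25_2 (iv F179303) D39870 F179891
theorem F184287 : act 7 n39870 = n39870 := d27_2 F179304 D39870 (iv D39870)
theorem F184288 : act 9 n39870 = n38883 := d29_2 (iv F179305) D39870 (iv D38883)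
def n39871 : Q := act 8 n38717
theorem D39871 : act 8 n38717 = n39871 := rfl
theorem F184289 : act 2 n39871 = n38719 := d22_1 D39871 (iv D38719) (iv F179302)
theorem F184290 : act 4 n39871 = n38718 := d33_1 D39871 (iv D38718) D38717
theorem F184291 : act 7 n39871 = n39871 := d42_1 D39871 (iv D39871) F179304
def n39872 : Q := act 6 n38720
theorem D39872 : act 6 n38720 = n39872 := rfl
theorem F184292 : act 4 n39872 = n39872 := d31_1 D39872 (iv D39872) F179314
theorem F184293 : act 8 n39872 = n39033 := d40_2 (iv F179316) D39872 (iv D39033)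
def n39873 : Q := act 5 n38721
theorem D39873 : act 5 n38721 = n39873 := rfl
theorem F184294 : act 1 n39873 = n38722 := d12_1 D39873 (iv D38722) (iv F179317)
def n39874 : Q := act 8 n38722
theorem D39874 : act 8 n38722 = n39874 := rfl
theorem F184295 : act 0 n39874 = n38759 := d7_1 D39874 (iv D38759) (iv F179319)
theorem F184296 : act 2 n39874 = n38723 := d22_1 D39874 (iv D38723) (iv F179320)
def n39875 : Q := act 9 n38723
theorem D39875 : act 9 n38723 = n39875 := rfl
theorem F184297 : act 0 n39875 = n38763 := d8_1 D39875 (iv D38763) (iv F179321)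
theorem F184298 : act 3 n39875 = n38906 := d29_1 D39875 (iv D38906) (iv F179322)
def n39876 : Q := act 5 n38724
theorem D39876 : act 5 n38724 = n39876 := rfl
theorem F184299 : act 1 n39876 = n38725 := d12_1 D39876 (iv D38725) (iv F179323)
theorem F184300 : act 2 n39876 = n38786 := d19_1 D39876 (iv D38786) (iv F179324)
theorem F184301 : act 3 n39876 = n39001 := d25_1 D39876 F180170 (iv F179325)
theorem F184302 : act 4 n39876 = n38833 := d30_1 D39876 (iv D38833) F173917 (iv F173423) (iv F179326)
theorem F184303 : act 7 n39876 = n38756 := d36_2 (iv F179327) D39876 (iv D38756)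
theorem F184304 : act 9 n39876 = n38817 := d38_2 (iv F179329) D39876 (iv D38817)
def n39877 : Q := act 8 n38725
theorem D39877 : act 8 n38725 = n39877 := rfl
theorem F184305 : act 2 n39877 = n38727 := d22_1 D39877 (iv D38727) (iv F179330)
theorem F184306 : act 4 n39877 = n38836 := d33_1 D39877 (iv D38836) (iv F179331)
theorem F184307 : act 7 n39877 = n38759 := d42_1 D39877 (iv D38759) (iv F179332)
def n39878 : Q := act 4 n38726
theorem D39878 : act 4 n38726 = n39878 := rfl
theorem F184308 : act 1 n39878 = n39032 := d11_1 D39878 F180221 (iv F179334)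
theorem F184309 : act 2 n39878 = n38729 := d18_1 D39878 (iv D38729) (iv F179335)
theorem F184310 : act 3 n39878 = n38994 := d24_1 D39878 F180156 F174451 (iv F174180) (iv F179336)
theorem F184311 : act 6 n39878 = n39878 := d31_2 F179337 D39878 (iv D39878)
theorem F184312 : act 7 n39878 = n38761 := d32_2 (iv F179338) D39878 (iv D38761)
theorem F184313 : act 8 n39878 = n38839 := d33_2 (iv F179339) D39878 (iv D38839)
theorem F184314 : act 9 n39878 = n38993 := d34_2 (iv F179340) D39878 F180154
def n39879 : Q := act 5 n38727
theorem D39879 : act 5 n38727 = n39879 := rfl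
theorem F184315 : act 1 n39879 = n38799 := d12_1 D39879 (iv D38799) (iv F179341)
theorem F184316 : act 3 n39879 = n38908 := d25_1 D39879 (iv D38908) (iv F179342)
theorem F184317 : act 7 n39879 = n38762 := d36_2 (iv F179344) D39879 (iv D38762)
theorem F184318 : act 8 n39879 = n38728 := d37_2 D38727 D39879 (iv D38728) (iv D37431) D37430
def n39880 : Q := act 9 n38727
theorem D39880 : act 9 n38727 = n39880 := rfl
theorem F184319 : act 1 n39880 = n38800 := d16_1 D39880 (iv D38800) (iv F179341)
theorem F184320 : act 3 n39880 = n38909 := d29_1 D39880 (iv D38909) (iv F179342)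
theorem F184321 : act 4 n39880 = n38842 := d34_1 D39880 (iv D38842) (iv F179343)
theorem F184322 : act 7 n39880 = n38763 := d43_1 D39880 (iv D38763) (iv F179344)
theorem F184323 : act 8 n39880 = n38823 := d44_1 D39880 (iv D38823) (iv D37535) (iv F173441) D38727
def n39881 : Q := act 4 n38728
theorem D39881 : act 4 n38728 = n39881 := rfl
theorem F184324 : act 1 n39881 = n38801 := d11_1 D39881 (iv D38801) (iv F179345)
theorem F184325 : act 3 n39881 = n38978 := d24_1 D39881 (iv D38978) F174418 (iv F174238) (iv F179346)
theorem F184326 : act 5 n39881 = n38729 := d30_2 D38728 D39881 (iv D38729) (iv D37432) (iv F173444)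
theorem F184327 : act 7 n39881 = n38764 := d32_2 (iv F179347) D39881 (iv D38764)
def n39882 : Q := act 5 n38730
theorem D39882 : act 5 n38730 = n39882 := rfl
theorem F184328 : act 1 n39882 = n38732 := d12_1 D39882 (iv D38732) (iv F179353)
theorem F184329 : act 2 n39882 = n38817 := d19_1 D39882 (iv D38817) (iv F179354)
theorem F184330 : act 3 n39882 = n38837 := d25_1 D39882 (iv D38837) (iv F179355)
theorem F184331 : act 4 n39882 = n38756 := d30_1 D39882 (iv D38756) F173616 (iv F173461) (iv F179356)
theorem F184332 : act 7 n39882 = n38833 := d36_2 (iv F179357) D39882 (iv D38833)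
theorem F184333 : act 9 n39882 = n38786 := d38_2 (iv F179359) D39882 (iv D38786)
def n39883 : Q := act 5 n38731
theorem D39883 : act 5 n38731 = n39883 := rfl
theorem F184334 : act 1 n39883 = n38837 := d12_1 D39883 (iv D38837) (iv F179360)
theorem F184335 : act 2 n39883 = n38960 := d19_1 D39883 (iv D38960) (iv F179361)
theorem F184336 : act 3 n39883 = n38732 := d25_1 D39883 (iv D38732) (iv F179362)
theorem F184337 : act 7 n39883 = n38835 := d36_2 (iv F179364) D39883 (iv D38835)
theorem F184338 : act 9 n39883 = n38789 := d38_2 (iv F179366) D39883 (iv D38789)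
def n39884 : Q := act 8 n38732
theorem D39884 : act 8 n38732 = n39884 := rfl
theorem F184339 : act 2 n39884 = n38735 := d22_1 D39884 (iv D38735) (iv F179367)
theorem F184340 : act 4 n39884 = n38759 := d33_1 D39884 (iv D38759) (iv F179368)
theorem F184341 : act 7 n39884 = n38836 := d42_1 D39884 (iv D38836) (iv F179369)
def n39885 : Q := act 5 n38733
theorem D39885 : act 5 n38733 = n39885 := rfl
theorem F184342 : act 1 n39885 = n38835 := d12_1 D39885 (iv D38835) (iv F179371)
theorem F184343 : act 2 n39885 = n38736 := d19_1 D39885 (iv D38736) (iv F179372)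
theorem F184344 : act 3 n39885 = n38833 := d25_1 D39885 (iv D38833) (iv F179373)
theorem F184345 : act 7 n39885 = n38837 := d36_2 (iv F179376) D39885 (iv D38837)
theorem F184346 : act 9 n39885 = n38857 := d38_2 F179377 D39885 (iv D38857)
def n39886 : Q := act 4 n38734
theorem D39886 : act 4 n38734 = n39886 := rfl
theorem F184347 : act 1 n39886 = n38899 := d11_1 D39886 (iv D38899) (iv F179378)
theorem F184348 : act 2 n39886 = n38740 := d18_1 D39886 (iv D38740) (iv F179379)
theorem F184349 : act 3 n39886 = n39002 := d24_1 D39886 F180172 F174472 (iv F174146) (iv F179380)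
theorem F184350 : act 6 n39886 = n38765 := d31_2 (iv F179381) D39886 (iv D38765)
theorem F184351 : act 7 n39886 = n38839 := d32_2 (iv F179382) D39886 (iv D38839)
theorem F184352 : act 8 n39886 = n38761 := d33_2 (iv F179383) D39886 (iv D38761)
theorem F184353 : act 9 n39886 = n38901 := d34_2 (iv F179384) D39886 (iv D38901)
def n39887 : Q := act 5 n38735
theorem D39887 : act 5 n38735 = n39887 := rfl
theorem F184354 : act 1 n39887 = n38822 := d12_1 D39887 (iv D38822) (iv F179385)
theorem F184355 : act 3 n39887 = n38965 := d25_1 D39887 (iv D38965) (iv F179386)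
theorem F184356 : act 7 n39887 = n38841 := d36_2 (iv F179388) D39887 (iv D38841)
theorem F184357 : act 8 n39887 = n38736 := d37_2 D38735 D39887 (iv D38736) (iv D37440) D37439
def n39888 : Q := act 9 n38735
theorem D39888 : act 9 n38735 = n39888 := rfl
theorem F184358 : act 1 n39888 = n38823 := d16_1 D39888 (iv D38823) (iv F179385)
theorem F184359 : act 3 n39888 = n38966 := d29_1 D39888 (iv D38966) (iv F179386)
theorem F184360 : act 4 n39888 = n38763 := d34_1 D39888 (iv D38763) (iv F179387)
theorem F184361 : act 7 n39888 = n38842 := d43_1 D39888 (iv D38842) (iv F179388)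
theorem F184362 : act 8 n39888 = n38800 := d44_1 D39888 (iv D38800) (iv D37511) (iv F173491) D38735
def n39889 : Q := act 4 n38736
theorem D39889 : act 4 n38736 = n39889 := rfl
theorem F184363 : act 1 n39889 = n38824 := d11_1 D39889 (iv D38824) (iv F179389)
theorem F184364 : act 5 n39889 = n38740 := d30_2 D38736 D39889 (iv D38740) (iv D37444) (iv F173494)
theorem F184365 : act 7 n39889 = n38843 := d32_2 (iv F179391) D39889 (iv D38843)
theorem F184366 : act 3 n39031 = n39889 := d25_3 F184364 F179408 D39031
def n39890 : Q := act 6 n38736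
theorem D39890 : act 6 n38736 = n39890 := rfl
theorem F184367 : act 1 n39890 = n38825 := d13_1 D39890 (iv D38825) (iv F179389)
theorem F184368 : act 3 n39890 = n38968 := d26_1 D39890 (iv D38968) (iv F179390)
theorem F184369 : act 5 n39890 = n38738 := d35_1 D39890 (iv D38738) (iv D37441) (iv F173495) D38736
def n39891 : Q := act 9 n38736
theorem D39891 : act 9 n38736 = n39891 := rfl
theorem F184370 : act 1 n39891 = n38826 := d16_1 D39891 (iv D38826) (iv F179389)
theorem F184371 : act 2 n39891 = n38857 := d23_1 D39891 (iv F184346) F184343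
theorem F184372 : act 3 n39891 = n38969 := d29_1 D39891 (iv D38969) (iv F179390)
theorem F184373 : act 5 n39891 = n38737 := d38_1 D39891 (iv D38737) D38736
theorem F184374 : act 7 n39891 = n38845 := d43_1 D39891 (iv D38845) (iv F179391)
def n39892 : Q := act 7 n38738
theorem D39892 : act 7 n38738 = n39892 := rfl
theorem F184375 : act 1 n39892 = n38827 := d14_1 D39892 (iv D38827) (iv F179399)
theorem F184376 : act 3 n39892 = n38970 := d27_1 D39892 (iv D38970) (iv F179400)
theorem F184377 : act 4 n39892 = n38768 := d32_1 D39892 (iv D38768) (iv F179401)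
theorem F184378 : act 6 n39892 = n38739 := d39_1 D39892 (iv D38739) (iv D37443) (iv F173500) D38738
theorem F184379 : act 8 n39892 = n38927 := d42_2 F181075 D39892 (iv F181074)
def n39893 : Q := act 9 n38740
theorem D39893 : act 9 n38740 = n39893 := rfl
theorem F184380 : act 1 n39893 = n38829 := d16_1 D39893 (iv D38829) (iv F179407)
theorem F184381 : act 2 n39893 = n38901 := d23_1 D39893 (iv F184353) F184348
theorem F184382 : act 3 n39893 = n39013 := d29_1 D39893 F180191 (iv F179408)
theorem F184383 : act 4 n39893 = n38741 := d34_1 D39893 (iv D38741) D38740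
theorem F184384 : act 6 n39893 = n38769 := d41_1 D39893 (iv D38769) (iv F179409)
theorem F184385 : act 7 n39893 = n38850 := d43_1 D39893 (iv D38850) (iv F179410)
def n39894 : Q := act 5 n38742
theorem D39894 : act 5 n38742 = n39894 := rfl
theorem F184386 : act 1 n39894 = n38744 := d12_1 D39894 (iv D38744) (iv F179418)
theorem F184387 : act 2 n39894 = n38833 := d19_1 D39894 (iv D38833) (iv F179419)
theorem F184388 : act 3 n39894 = n38962 := d25_1 D39894 (iv D38962) (iv F179420)
theorem F184389 : act 4 n39894 = n38786 := d30_1 D39894 (iv D38786) F173731 (iv F173538) (iv F179421)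
theorem F184390 : act 7 n39894 = n38817 := d36_2 (iv F179422) D39894 (iv D38817)
theorem F184391 : act 9 n39894 = n38756 := d38_2 (iv F179424) D39894 (iv D38756)
def n39895 : Q := act 5 n38743
theorem D39895 : act 5 n38743 = n39895 := rfl
theorem F184392 : act 1 n39895 = n38962 := d12_1 D39895 (iv D38962) (iv F179425)
theorem F184393 : act 2 n39895 = n38915 := d19_1 D39895 (iv D38915) (iv F179426)
theorem F184394 : act 3 n39895 = n38744 := d25_1 D39895 (iv D38744) (iv F179427)
theorem F184395 : act 7 n39895 = n38818 := d36_2 (iv F179429) D39895 (iv D38818)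
theorem F184396 : act 9 n39895 = n38758 := d38_2 (iv F179431) D39895 (iv D38758)
def n39896 : Q := act 8 n38744
theorem D39896 : act 8 n38744 = n39896 := rfl
theorem F184397 : act 2 n39896 = n38748 := d22_1 D39896 (iv D38748) (iv F179432)
theorem F184398 : act 4 n39896 = n38791 := d33_1 D39896 (iv D38791) (iv F179433)
theorem F184399 : act 7 n39896 = n38819 := d42_1 D39896 (iv D38819) (iv F179434)
def n39897 : Q := act 5 n38745
theorem D39897 : act 5 n38745 = n39897 := rfl
theorem F184400 : act 1 n39897 = n38960 := d12_1 D39897 (iv D38960) (iv F179436)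
theorem F184401 : act 2 n39897 = n38749 := d19_1 D39897 (iv D38749) (iv F179437)
theorem F184402 : act 3 n39897 = n38959 := d25_1 D39897 (iv D38959) (iv F179438)
theorem F184403 : act 7 n39897 = n38820 := d36_2 (iv F179441) D39897 (iv D38820)
theorem F184404 : act 9 n39897 = n38976 := d38_2 (iv F179442) D39897 (iv D38976)
def n39898 : Q := act 6 n38746
theorem D39898 : act 6 n38746 = n39898 := rfl
theorem F184405 : act 1 n39898 = n38928 := d13_1 D39898 (iv D38928) (iv F179443)
theorem F184406 : act 2 n39898 = n38750 := d20_1 D39898 (iv D38750) (iv F179444)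
theorem F184407 : act 3 n39898 = n38927 := d26_1 D39898 (iv D38927) (iv F179445)
theorem F184408 : act 4 n39898 = n39898 := d31_1 D39898 (iv D39898) F179446
theorem F184409 : act 7 n39898 = n38932 := d39_2 (iv F179447) D39898 (iv D38932) F174299 (iv F173562)
theorem F184410 : act 8 n39898 = n38970 := d40_2 (iv F179448) D39898 F180102
theorem F184411 : act 9 n39898 = n38934 := d41_2 (iv F179449) D39898 (iv D38934)
def n39899 : Q := act 4 n38747
theorem D39899 : act 4 n38747 = n39899 := rfl
theorem F184412 : act 1 n39899 = n39030 := d11_1 D39899 (iv D39030) (iv F179450)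
theorem F184413 : act 2 n39899 = n38752 := d18_1 D39899 (iv D38752) (iv F179451)
theorem F184414 : act 3 n39899 = n38808 := d24_1 D39899 F179671 F173809 (iv F173819) (iv F179452)
theorem F184415 : act 6 n39899 = n39899 := d31_2 F179453 D39899 (iv D39899)
theorem F184416 : act 7 n39899 = n38821 := d32_2 (iv F179454) D39899 (iv D38821)
theorem F184417 : act 8 n39899 = n38797 := d33_2 (iv F179455) D39899 (iv D38797)
theorem F184418 : act 9 n39899 = n38807 := d34_2 (iv F179456) D39899 F179668
def n39900 : Q := act 5 n38748
theorem D39900 : act 5 n38748 = n39900 := rfl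
theorem F184419 : act 1 n39900 = n38841 := d12_1 D39900 (iv D38841) (iv F179457)
theorem F184420 : act 3 n39900 = n38917 := d25_1 D39900 (iv D38917) (iv F179458)
theorem F184421 : act 7 n39900 = n38822 := d36_2 (iv F179460) D39900 (iv D38822)
theorem F184422 : act 8 n39900 = n38749 := d37_2 D38748 D39900 (iv D38749) (iv D37455) D37454
def n39901 : Q := act 9 n38748
theorem D39901 : act 9 n38748 = n39901 := rfl
theorem F184423 : act 1 n39901 = n38842 := d16_1 D39901 (iv D38842) (iv F179457)
theorem F184424 : act 3 n39901 = n38918 := d29_1 D39901 (iv D38918) (iv F179458)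
theorem F184425 : act 4 n39901 = n38800 := d34_1 D39901 (iv D38800) (iv F179459)
theorem F184426 : act 7 n39901 = n38823 := d43_1 D39901 (iv D38823) (iv F179460)
theorem F184427 : act 8 n39901 = n38763 := d44_1 D39901 (iv D38763) (iv D37470) (iv F173575) D38748
def n39902 : Q := act 4 n38749
theorem D39902 : act 4 n38749 = n39902 := rfl
theorem F184428 : act 1 n39902 = n38843 := d11_1 D39902 (iv D38843) (iv F179461)
theorem F184429 : act 5 n39902 = n38752 := d30_2 D38749 D39902 (iv D38752) (iv D37458) (iv F173578)
theorem F184430 : act 7 n39902 = n38824 := d32_2 (iv F179463) D39902 (iv D38824)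
def n39903 : Q := act 6 n38749
theorem D39903 : act 6 n38749 = n39903 := rfl
theorem F184431 : act 1 n39903 = n38844 := d13_1 D39903 (iv D38844) (iv F179461)
theorem F184432 : act 3 n39903 = n38920 := d26_1 D39903 (iv D38920) (iv F179462)
theorem F184433 : act 5 n39903 = n38750 := d35_1 D39903 (iv D38750) (iv D37456) (iv F173579) D38749
def n39904 : Q := act 7 n38750
theorem D39904 : act 7 n38750 = n39904 := rfl
theorem F184434 : act 1 n39904 = n38846 := d14_1 D39904 (iv D38846) (iv F179464)
theorem F184435 : act 2 n39904 = n38932 := d21_1 D39904 (iv F184409) F184406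
theorem F184436 : act 3 n39904 = n38921 := d27_1 D39904 (iv D38921) (iv F179465)
theorem F184437 : act 4 n39904 = n39904 := d32_1 D39904 (iv D39904) F179466
theorem F184438 : act 6 n39904 = n38751 := d39_1 D39904 (iv D38751) (iv D37457) (iv F173584) D38750
theorem F184439 : act 8 n39904 = n38963 := d42_2 F182848 D39904 (iv F182847)
def n39905 : Q := act 3 n38752
theorem D39905 : act 3 n38752 = n39905 := rfl
theorem F184440 : act 1 n39905 = n38849 := d10_1 D39905 (iv D38849) (iv F179473)
theorem F184441 : act 4 n39905 = n38753 := d24_2 D38752 D39905 (iv D38753) (iv D37459) (iv F173592)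
theorem F184442 : act 6 n39905 = n39905 := d26_2 F179474 D39905 (iv D39905)
theorem F184443 : act 7 n39905 = n38828 := d27_2 (iv F179475) D39905 (iv D38828)
theorem F184444 : act 8 n39905 = n38807 := d28_2 (iv F179476) D39905 (iv D38807)
def n39906 : Q := act 5 n38754
theorem D39906 : act 5 n38754 = n39906 := rfl
theorem F184445 : act 0 n39906 = n38756 := d4_1 D39906 (iv D38756) (iv F179482)
theorem F184446 : act 2 n39906 = n38855 := d19_1 D39906 (iv D38855) (iv F179483)
def n39907 : Q := act 5 n38755
theorem D39907 : act 5 n38755 = n39907 := rfl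
theorem F184447 : act 1 n39907 = n38758 := d12_1 D39907 (iv D38758) (iv F179485)
theorem F184448 : act 2 n39907 = n38969 := d19_1 D39907 F180099 (iv F179486)
theorem F184449 : act 3 n39907 = n38756 := d25_1 D39907 (iv D38756) (iv F179487)
theorem F184450 : act 7 n39907 = n39001 := d36_2 (iv F179489) D39907 F180170
theorem F184451 : act 9 n39907 = n38962 := d38_2 (iv F179491) D39907 (iv D38962)
def n39908 : Q := act 8 n38756
theorem D39908 : act 8 n38756 = n39908 := rfl
theorem F184452 : act 1 n39908 = n38759 := d15_1 D39908 (iv D38759) (iv F179492)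
theorem F184453 : act 2 n39908 = n38858 := d22_1 D39908 (iv D38858) (iv F179493)
def n39909 : Q := act 5 n38757
theorem D39909 : act 5 n38757 = n39909 := rfl
theorem F184454 : act 1 n39909 = n38760 := d12_1 D39909 (iv D38760) (iv F179494)
theorem F184455 : act 2 n39909 = n38859 := d19_1 D39909 (iv D38859) (iv F179495)
theorem F184456 : act 3 n39909 = n38983 := d25_1 D39909 F180137 (iv F179496)
theorem F184457 : act 7 n39909 = n39021 := d36_2 (iv F179499) D39909 F180204
theorem F184458 : act 9 n39909 = n38980 := d38_2 (iv F179500) D39909 (iv D38980)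
def n39910 : Q := act 4 n38758
theorem D39910 : act 4 n38758 = n39910 := rfl
theorem F184459 : act 2 n39910 = n38923 := d18_1 D39910 (iv D38923) (iv F179501)
theorem F184460 : act 5 n39910 = n38991 := d30_2 D38758 D39910 (iv D38991) (iv D37727) (iv F173631)
def n39911 : Q := act 8 n38758
theorem D39911 : act 8 n38758 = n39911 := rfl
theorem F184461 : act 2 n39911 = n38924 := d22_1 D39911 (iv D38924) (iv F179501)
theorem F184462 : act 3 n39911 = n38759 := d28_1 D39911 (iv D38759) (iv F179502)
theorem F184463 : act 5 n39911 = n38990 := d37_1 D39911 (iv D38990) (iv D37726) (iv F173632) D38758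
def n39912 : Q := act 5 n38759
theorem D39912 : act 5 n38759 = n39912 := rfl
theorem F184464 : act 2 n39912 = n38762 := d19_1 D39912 (iv D38762) (iv F179503)
theorem F184465 : act 3 n39912 = n38990 := d25_1 D39912 (iv F184463) F184462
theorem F184466 : act 8 n39912 = n38760 := d37_2 D38759 D39912 (iv D38760) (iv D37468) D37467
def n39913 : Q := act 9 n38759
theorem D39913 : act 9 n38759 = n39913 := rfl
theorem F184467 : act 2 n39913 = n38763 := d23_1 D39913 (iv D38763) (iv F179503)
def n39914 : Q := act 4 n38760
theorem D39914 : act 4 n38760 = n39914 := rfl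
theorem F184468 : act 2 n39914 = n38764 := d18_1 D39914 (iv D38764) (iv F179504)
theorem F184469 : act 5 n39914 = n38761 := d30_2 D38760 D39914 (iv D38761) (iv D37469) (iv F173636)
def n39915 : Q := act 4 n38762
theorem D39915 : act 4 n38762 = n39915 := rfl
theorem F184470 : act 1 n39915 = n38875 := d11_1 D39915 (iv D38875) (iv F179508)
theorem F184471 : act 3 n39915 = n39016 := d24_1 D39915 F180196 F174498 F174277 (iv F179509)
theorem F184472 : act 8 n39915 = n38764 := d33_2 (iv F179510) D39915 (iv D38764)
def n39916 : Q := act 9 n38762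
theorem D39916 : act 9 n38762 = n39916 := rfl
theorem F184473 : act 1 n39916 = n38877 := d16_1 D39916 (iv D38877) (iv F179508)
theorem F184474 : act 3 n39916 = n38926 := d29_1 D39916 (iv D38926) (iv F179509)
theorem F184475 : act 5 n39916 = n38763 := d38_1 D39916 (iv D38763) D38762
def n39917 : Q := act 6 n38766
theorem D39917 : act 6 n38766 = n39917 := rfl
theorem F184476 : act 1 n39917 = n38884 := d13_1 D39917 (iv D38884) (iv F179522)
theorem F184477 : act 3 n39917 = n39033 := d26_1 D39917 (iv D39033) F179525
theorem F184478 : act 4 n39917 = n38767 := d31_1 D39917 (iv D38767) D38766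
def n39918 : Q := act 7 n38767
theorem D39918 : act 7 n38767 = n39918 := rfl
theorem F184479 : act 1 n39918 = n38885 := d14_1 D39918 (iv D38885) (iv F179526)
theorem F184480 : act 3 n39918 = n39918 := d27_1 D39918 (iv D39918) F179527
theorem F184481 : act 5 n39918 = n38768 := d36_1 D39918 (iv D38768) (iv F179528)
theorem F184482 : act 6 n39918 = n39918 := d39_1 D39918 (iv D39918) (iv D38767) F173656 D38767
theorem F184483 : act 8 n39918 = n39058 := d42_2 F183034 D39918 (iv F183033)
def n39919 : Q := act 6 n38770
theorem D39919 : act 6 n38770 = n39919 := rfl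
theorem F184484 : act 1 n39919 = n38772 := d13_1 D39919 (iv D38772) (iv F179538)
theorem F184485 : act 2 n39919 = n38847 := d20_1 D39919 F179789 (iv F179539)
theorem F184486 : act 3 n39919 = n38771 := d26_1 D39919 (iv D38771) (iv F179540)
theorem F184487 : act 4 n39919 = n39919 := d31_1 D39919 (iv D39919) F179541
theorem F184488 : act 9 n39919 = n38838 := d41_2 (iv F179543) D39919 (iv D38838)
def n39920 : Q := act 5 n38771
theorem D39920 : act 5 n38771 = n39920 := rfl
theorem F184489 : act 1 n39920 = n38774 := d12_1 D39920 (iv D38774) (iv F179544)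
theorem F184490 : act 6 n39920 = n38786 := d35_2 D38771 D39920 (iv D38786) (iv D37498) (iv F173681)
def n39921 : Q := act 5 n38772
theorem D39921 : act 5 n38772 = n39921 := rfl
theorem F184491 : act 2 n39921 = n38936 := d19_1 D39921 (iv D38936) (iv F179546)
theorem F184492 : act 3 n39921 = n38774 := d25_1 D39921 (iv D38774) (iv F179547)
theorem F184493 : act 6 n39921 = n38789 := d35_2 D38772 D39921 (iv D38789) (iv D37501) (iv F173687)
def n39922 : Q := act 8 n38772
theorem D39922 : act 8 n38772 = n39922 := rfl
theorem F184494 : act 2 n39922 = n38937 := d22_1 D39922 (iv D38937) (iv F179546)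
theorem F184495 : act 3 n39922 = n38775 := d28_1 D39922 (iv D38775) (iv F179547)
theorem F184496 : act 4 n39922 = n39922 := d33_1 D39922 (iv D39922) F179548
theorem F184497 : act 6 n39922 = n38773 := d40_1 D39922 (iv D38773) D38772
def n39923 : Q := act 8 n38774
theorem D39923 : act 8 n38774 = n39923 := rfl
theorem F184498 : act 2 n39923 = n38778 := d22_1 D39923 (iv D38778) (iv F179553)
theorem F184499 : act 6 n39923 = n38791 := d40_1 D39923 (iv D38791) (iv F179554)
def n39924 : Q := act 5 n38775
theorem D39924 : act 5 n38775 = n39924 := rfl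
theorem F184500 : act 2 n39924 = n38779 := d19_1 D39924 (iv D38779) (iv F179555)
def n39925 : Q := act 6 n38776
theorem D39925 : act 6 n38776 = n39925 := rfl
theorem F184501 : act 2 n39925 = n38780 := d20_1 D39925 (iv D38780) (iv F179558)
theorem F184502 : act 4 n39925 = n39925 := d31_1 D39925 (iv D39925) F179559
theorem F184503 : act 8 n39925 = n38794 := d40_2 (iv F179561) D39925 (iv D38794)
def n39926 : Q := act 4 n38777
theorem D39926 : act 4 n38777 = n39926 := rfl
theorem F184504 : act 2 n39926 = n38782 := d18_1 D39926 (iv D38782) (iv F179562)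
theorem F184505 : act 6 n39926 = n39926 := d31_2 F179564 D39926 (iv D39926)
theorem F184506 : act 7 n39926 = n39039 := d32_2 (iv F179565) D39926 F180241
theorem F184507 : act 8 n39926 = n39041 := d33_2 (iv F179566) D39926 F180245
def n39927 : Q := act 5 n38778
theorem D39927 : act 5 n38778 = n39927 := rfl
theorem F184508 : act 3 n39927 = n38944 := d25_1 D39927 (iv D38944) (iv F179567)
theorem F184509 : act 8 n39927 = n38779 := d37_2 D38778 D39927 (iv D38779) (iv D37490) D37489
def n39928 : Q := act 9 n38778
theorem D39928 : act 9 n38778 = n39928 := rfl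
theorem F184510 : act 3 n39928 = n38945 := d29_1 D39928 (iv D38945) (iv F179567)
theorem F184511 : act 6 n39928 = n38800 := d41_1 D39928 (iv D38800) (iv F179568)
def n39929 : Q := act 4 n38779
theorem D39929 : act 4 n38779 = n39929 := rfl
theorem F184512 : act 5 n39929 = n38782 := d30_2 D38779 D39929 (iv D38782) (iv D37493) (iv F173705)
def n39930 : Q := act 6 n38779
theorem D39930 : act 6 n38779 = n39930 := rfl
theorem F184513 : act 3 n39930 = n38947 := d26_1 D39930 (iv D38947) (iv F179569)
theorem F184514 : act 5 n39930 = n38780 := d35_1 D39930 (iv D38780) (iv D37491) (iv F173706) D38779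
def n39931 : Q := act 7 n38780
theorem D39931 : act 7 n38780 = n39931 := rfl
theorem F184515 : act 3 n39931 = n38949 := d27_1 D39931 (iv D38949) (iv F179570)
theorem F184516 : act 4 n39931 = n39931 := d32_1 D39931 (iv D39931) F179571
theorem F184517 : act 6 n39931 = n38781 := d39_1 D39931 (iv D38781) (iv D37492) (iv F173709) D38780
theorem F184518 : act 8 n39931 = n38804 := d42_2 (iv F179572) D39931 (iv D38804)
def n39932 : Q := act 3 n38782
theorem D39932 : act 3 n38782 = n39932 := rfl
theorem F184519 : act 4 n39932 = n38783 := d24_2 D38782 D39932 (iv D38783) (iv D37494) (iv F173714)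
theorem F184520 : act 6 n39932 = n39932 := d26_2 F179576 D39932 (iv D39932)
def n39933 : Q := act 2 n38783
theorem D39933 : act 2 n38783 = n39933 := rfl
theorem F184521 : act 3 n39933 = n39933 := d17_2 D38783 D39933 (iv D39933) (iv D38783) F173716
theorem F184522 : act 5 n39933 = n38956 := d19_2 (iv F179577) D39933 (iv D38956)
theorem F184523 : act 6 n39933 = n39933 := d20_2 F179578 D39933 (iv D39933)
def n39934 : Q := act 5 n38784
theorem D39934 : act 5 n38784 = n39934 := rfl
theorem F184524 : act 0 n39934 = n38786 := d4_1 D39934 (iv D38786) (iv F179579)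
theorem F184525 : act 7 n39934 = n38855 := d36_2 (iv F179581) D39934 (iv D38855)
def n39935 : Q := act 5 n38785
theorem D39935 : act 5 n38785 = n39935 := rfl
theorem F184526 : act 1 n39935 = n38789 := d12_1 D39935 (iv D38789) (iv F179582)
theorem F184527 : act 2 n39935 = n38845 := d19_1 D39935 F179783 (iv F179583)
theorem F184528 : act 3 n39935 = n38786 := d25_1 D39935 (iv D38786) (iv F179584)
theorem F184529 : act 7 n39935 = n38857 := d36_2 (iv F179586) D39935 (iv D38857)
theorem F184530 : act 9 n39935 = n38837 := d38_2 (iv F179588) D39935 (iv D38837)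
def n39936 : Q := act 8 n38786
theorem D39936 : act 8 n38786 = n39936 := rfl
theorem F184531 : act 1 n39936 = n38791 := d15_1 D39936 (iv D38791) (iv F179589)
theorem F184532 : act 7 n39936 = n38858 := d42_1 D39936 (iv D38858) (iv F179590)
def n39937 : Q := act 5 n38787
theorem D39937 : act 5 n38787 = n39937 := rfl
theorem F184533 : act 1 n39937 = n38792 := d12_1 D39937 (iv D38792) (iv F179591)
theorem F184534 : act 2 n39937 = n39021 := d19_1 D39937 F180204 (iv F179592)
theorem F184535 : act 3 n39937 = n38871 := d25_1 D39937 F179850 (iv F179593)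
theorem F184536 : act 7 n39937 = n38859 := d36_2 (iv F179596) D39937 (iv D38859)
theorem F184537 : act 9 n39937 = n38864 := d38_2 (iv F179597) D39937 (iv D38864)
def n39938 : Q := act 4 n38788
theorem D39938 : act 4 n38788 = n39938 := rfl
theorem F184538 : act 1 n39938 = n38797 := d11_1 D39938 (iv D38797) (iv F179598)
theorem F184539 : act 2 n39938 = n39032 := d18_1 D39938 F180221 (iv F179599)
theorem F184540 : act 6 n39938 = n39938 := d31_2 F179601 D39938 (iv D39938)
theorem F184541 : act 7 n39938 = n38861 := d32_2 (iv F179602) D39938 (iv D38861)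
theorem F184542 : act 8 n39938 = n39030 := d33_2 (iv F179603) D39938 (iv D39030)
theorem F184543 : act 9 n39938 = n38903 := d34_2 (iv F179604) D39938 (iv D38903)
def n39939 : Q := act 4 n38789
theorem D39939 : act 4 n38789 = n39939 := rfl
theorem F184544 : act 2 n39939 = n38978 := d18_1 D39939 (iv D38978) (iv F179605)
theorem F184545 : act 5 n39939 = n38897 := d30_2 D38789 D39939 (iv D38897) (iv D37624) (iv F173747)
theorem F184546 : act 7 n39939 = n38862 := d32_2 (iv F179607) D39939 (iv D38862)
def n39940 : Q := act 8 n38789
theorem D39940 : act 8 n38789 = n39940 := rfl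
theorem F184547 : act 2 n39940 = n38979 := d22_1 D39940 (iv D38979) (iv F179605)
theorem F184548 : act 3 n39940 = n38791 := d28_1 D39940 (iv D38791) (iv F179606)
theorem F184549 : act 7 n39940 = n38863 := d42_1 D39940 (iv D38863) (iv F179607)
def n39941 : Q := act 5 n38790
theorem D39941 : act 5 n38790 = n39941 := rfl
theorem F184550 : act 1 n39941 = n38871 := d12_1 D39941 F179850 (iv F179608)
theorem F184551 : act 2 n39941 = n38980 := d19_1 D39941 (iv D38980) (iv F179609)
theorem F184552 : act 3 n39941 = n38792 := d25_1 D39941 (iv D38792) (iv F179610)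
theorem F184553 : act 7 n39941 = n38864 := d36_2 (iv F179613) D39941 (iv D38864)
theorem F184554 : act 9 n39941 = n38859 := d38_2 (iv F179614) D39941 (iv D38859)
def n39942 : Q := act 5 n38791
theorem D39942 : act 5 n38791 = n39942 := rfl
theorem F184555 : act 2 n39942 = n38799 := d19_1 D39942 (iv D38799) (iv F179615)
theorem F184556 : act 7 n39942 = n38867 := d36_2 (iv F179616) D39942 (iv D38867)
theorem F184557 : act 8 n39942 = n38792 := d37_2 D38791 D39942 (iv D38792) (iv D37504) D37503
def n39943 : Q := act 9 n38791
theorem D39943 : act 9 n38791 = n39943 := rfl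
theorem F184558 : act 2 n39943 = n38800 := d23_1 D39943 (iv D38800) (iv F179615)
theorem F184559 : act 7 n39943 = n38868 := d43_1 D39943 (iv D38868) (iv F179616)
def n39944 : Q := act 4 n38792
theorem D39944 : act 4 n38792 = n39944 := rfl
theorem F184560 : act 2 n39944 = n38801 := d18_1 D39944 (iv D38801) (iv F179617)
theorem F184561 : act 5 n39944 = n38797 := d30_2 D38792 D39944 (iv D38797) (iv D37509) (iv F173758)
theorem F184562 : act 7 n39944 = n38869 := d32_2 (iv F179618) D39944 (iv D38869)
def n39945 : Q := act 6 n38792
theorem D39945 : act 6 n38792 = n39945 := rfl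
theorem F184563 : act 2 n39945 = n38802 := d20_1 D39945 (iv D38802) (iv F179617)
theorem F184564 : act 5 n39945 = n38794 := d35_1 D39945 (iv D38794) (iv D37505) (iv F173759) D38792
def n39946 : Q := act 9 n38792
theorem D39946 : act 9 n38792 = n39946 := rfl
theorem F184565 : act 1 n39946 = n38864 := d16_1 D39946 (iv F184537) F184533
theorem F184566 : act 2 n39946 = n38803 := d23_1 D39946 (iv D38803) (iv F179617)
theorem F184567 : act 3 n39946 = n38859 := d29_1 D39946 (iv F184554) F184552
theorem F184568 : act 5 n39946 = n38793 := d38_1 D39946 (iv D38793) D38792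
theorem F184569 : act 7 n39946 = n38871 := d43_1 D39946 (iv D38871) (iv F179618)
def n39947 : Q := act 7 n38794
theorem D39947 : act 7 n38794 = n39947 := rfl
theorem F184570 : act 2 n39947 = n38804 := d21_1 D39947 (iv D38804) (iv F179626)
theorem F184571 : act 4 n39947 = n39947 := d32_1 D39947 (iv D39947) F179627
theorem F184572 : act 6 n39947 = n38796 := d39_1 D39947 (iv D38796) (iv D37507) (iv F173763) D38794
def n39948 : Q := act 9 n38794
theorem D39948 : act 9 n38794 = n39948 := rfl
theorem F184573 : act 1 n39948 = n38865 := d16_1 D39948 (iv F182944) F182940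
theorem F184574 : act 2 n39948 = n38805 := d23_1 D39948 (iv D38805) (iv F179626)
theorem F184575 : act 3 n39948 = n38860 := d29_1 D39948 (iv F182171) F182169
theorem F184576 : act 4 n39948 = n39948 := d34_1 D39948 (iv D39948) F179627
theorem F184577 : act 6 n39948 = n38795 := d41_1 D39948 (iv D38795) D38794
def n39949 : Q := act 3 n38797
theorem D39949 : act 3 n38797 = n39949 := rfl
theorem F184578 : act 4 n39949 = n38809 := d24_2 D38797 D39949 F179674 F173825 (iv F173779)
theorem F184579 : act 6 n39949 = n39949 := d26_2 F179638 D39949 (iv D39949)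
theorem F184580 : act 7 n39949 = n38873 := d27_2 (iv F179639) D39949 (iv D38873)
theorem F184581 : act 8 n39949 = n38808 := d28_2 F184417 D39949 (iv F184414)
def n39950 : Q := act 9 n38797
theorem D39950 : act 9 n38797 = n39950 := rfl
theorem F184582 : act 1 n39950 = n38903 := d16_1 D39950 (iv F184543) F184538
theorem F184583 : act 2 n39950 = n38808 := d23_1 D39950 (iv D38808) (iv F179637)
theorem F184584 : act 4 n39950 = n38798 := d34_1 D39950 (iv D38798) D38797
theorem F184585 : act 6 n39950 = n39950 := d41_1 D39950 (iv D39950) F179638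
theorem F184586 : act 7 n39950 = n38874 := d43_1 D39950 (iv D38874) (iv F179639)
def n39951 : Q := act 4 n38799
theorem D39951 : act 4 n38799 = n39951 := rfl
theorem F184587 : act 7 n39951 = n38875 := d32_2 (iv F179647) D39951 (iv D38875)
theorem F184588 : act 8 n39951 = n38801 := d33_2 (iv F179648) D39951 (iv D38801)
def n39952 : Q := act 6 n38799
theorem D39952 : act 6 n38799 = n39952 := rfl
theorem F184589 : act 3 n39952 = n38984 := d26_1 D39952 (iv D38984) (iv F179646)
theorem F184590 : act 8 n39952 = n38802 := d40_2 (iv F179648) D39952 (iv D38802)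
def n39953 : Q := act 9 n38799
theorem D39953 : act 9 n38799 = n39953 := rfl
theorem F184591 : act 3 n39953 = n38985 := d29_1 D39953 (iv D38985) (iv F179646)
theorem F184592 : act 5 n39953 = n38800 := d38_1 D39953 (iv D38800) D38799
theorem F184593 : act 7 n39953 = n38877 := d43_1 D39953 (iv D38877) (iv F179647)
def n39954 : Q := act 3 n38801
theorem D39954 : act 3 n38801 = n39954 := rfl
theorem F184594 : act 1 n39954 = n38978 := d10_1 D39954 (iv F184325) F184324
theorem F184595 : act 4 n39954 = n38976 := d24_2 D38801 D39954 F180119 F174416 (iv F173790)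
theorem F184596 : act 5 n39954 = n38807 := d25_2 (iv F179651) D39954 (iv D38807)
theorem F184597 : act 7 n39954 = n38878 := d27_2 (iv F179652) D39954 (iv D38878)
def n39955 : Q := act 6 n38801
theorem D39955 : act 6 n38801 = n39955 := rfl
theorem F184598 : act 4 n39955 = n38802 := d31_1 D39955 (iv D38802) D38801
theorem F184599 : act 5 n39955 = n39955 := d35_1 D39955 (iv D39955) F179651 F173807 (iv F179651)
def n39956 : Q := act 9 n38801
theorem D39956 : act 9 n38801 = n39956 := rfl
theorem F184600 : act 4 n39956 = n38803 := d34_1 D39956 (iv D38803) D38801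
theorem F184601 : act 5 n39956 = n38808 := d38_1 D39956 (iv D38808) (iv F179651)
theorem F184602 : act 7 n39956 = n38880 := d43_1 D39956 (iv D38880) (iv F179652)
def n39957 : Q := act 7 n38802
theorem D39957 : act 7 n38802 = n39957 := rfl
theorem F184603 : act 3 n39957 = n38986 := d27_1 D39957 (iv D38986) (iv F179653)
theorem F184604 : act 5 n39957 = n38804 := d36_1 D39957 (iv D38804) (iv F179654)
theorem F184605 : act 6 n39957 = n38881 := d39_1 D39957 (iv D38881) (iv D37591) (iv F173791) D38802
def n39958 : Q := act 9 n38802
theorem D39958 : act 9 n38802 = n39958 := rfl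
theorem F184606 : act 3 n39958 = n38987 := d29_1 D39958 (iv D38987) (iv F179653)
theorem F184607 : act 5 n39958 = n38805 := d38_1 D39958 (iv D38805) (iv F179654)
theorem F184608 : act 6 n39958 = n38803 := d41_1 D39958 (iv D38803) D38802
def n39959 : Q := act 8 n38803
theorem D39959 : act 8 n38803 = n39959 := rfl
theorem F184609 : act 3 n39959 = n38988 := d28_1 D39959 (iv D38988) (iv F179655)
theorem F184610 : act 7 n39959 = n38882 := d42_1 D39959 (iv D38882) (iv F179657)
def n39960 : Q := act 8 n38805
theorem D39960 : act 8 n38805 = n39960 := rfl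
theorem F184611 : act 3 n39960 = n38989 := d28_1 D39960 (iv D38989) (iv F179661)
theorem F184612 : act 4 n39960 = n39960 := d33_1 D39960 (iv D39960) F179662
theorem F184613 : act 6 n39960 = n38806 := d40_1 D39960 (iv D38806) (iv F179663)
def n39961 : Q := act 8 n38810
theorem D39961 : act 8 n38810 = n39961 := rfl
theorem F184614 : act 2 n39961 = n38811 := d22_1 D39961 (iv D38811) (iv F179677)
theorem F184615 : act 4 n39961 = n38990 := d33_1 D39961 (iv D38990) (iv F179678)
theorem F184616 : act 7 n39961 = n38916 := d42_1 D39961 (iv D38916) (iv F179679)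
def n39962 : Q := act 5 n38811
theorem D39962 : act 5 n38811 = n39962 := rfl
theorem F184617 : act 1 n39962 = n38965 := d12_1 D39962 (iv D38965) (iv F179681)
theorem F184618 : act 3 n39962 = n38822 := d25_1 D39962 (iv D38822) (iv F179682)
theorem F184619 : act 7 n39962 = n38917 := d36_2 (iv F179684) D39962 (iv D38917)
theorem F184620 : act 8 n39962 = n38812 := d37_2 D38811 D39962 (iv D38812) (iv D37525) D37524
def n39963 : Q := act 9 n38811
theorem D39963 : act 9 n38811 = n39963 := rfl
theorem F184621 : act 1 n39963 = n38966 := d16_1 D39963 (iv D38966) (iv F179681)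
theorem F184622 : act 3 n39963 = n38823 := d29_1 D39963 (iv D38823) (iv F179682)
theorem F184623 : act 4 n39963 = n38992 := d34_1 D39963 (iv D38992) (iv F179683)
theorem F184624 : act 7 n39963 = n38918 := d43_1 D39963 (iv D38918) (iv F179684)
theorem F184625 : act 8 n39963 = n38909 := d44_1 D39963 (iv D38909) (iv D37643) (iv F173836) D38811
def n39964 : Q := act 4 n38812
theorem D39964 : act 4 n38812 = n39964 := rfl
theorem F184626 : act 1 n39964 = n38967 := d11_1 D39964 (iv D38967) (iv F179685)
theorem F184627 : act 5 n39964 = n38815 := d30_2 D38812 D39964 (iv D38815) (iv D37528) (iv F173839)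
theorem F184628 : act 7 n39964 = n38919 := d32_2 (iv F179687) D39964 (iv D38919)
def n39965 : Q := act 6 n38812
theorem D39965 : act 6 n38812 = n39965 := rfl
theorem F184629 : act 1 n39965 = n38968 := d13_1 D39965 (iv D38968) (iv F179685)
theorem F184630 : act 3 n39965 = n38825 := d26_1 D39965 (iv D38825) (iv F179686)
theorem F184631 : act 5 n39965 = n38813 := d35_1 D39965 (iv D38813) (iv D37526) (iv F173840) D38812
def n39966 : Q := act 7 n38813
theorem D39966 : act 7 n38813 = n39966 := rfl
theorem F184632 : act 1 n39966 = n38970 := d14_1 D39966 (iv D38970) (iv F179688)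
theorem F184633 : act 3 n39966 = n38827 := d27_1 D39966 (iv D38827) (iv F179689)
theorem F184634 : act 4 n39966 = n39966 := d32_1 D39966 (iv D39966) F179690
theorem F184635 : act 6 n39966 = n38814 := d39_1 D39966 (iv D38814) (iv D37527) (iv F173845) D38813
theorem F184636 : act 8 n39966 = n38928 := d42_2 F181083 D39966 (iv F181082)
def n39967 : Q := act 3 n38815
theorem D39967 : act 3 n38815 = n39967 := rfl
theorem F184637 : act 1 n39967 = n38974 := d10_1 D39967 (iv D38974) (iv F179696)
theorem F184638 : act 4 n39967 = n38816 := d24_2 D38815 D39967 (iv D38816) (iv D37529) (iv F173852)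
theorem F184639 : act 6 n39967 = n39967 := d26_2 F179697 D39967 (iv D39967)
theorem F184640 : act 7 n39967 = n38922 := d27_2 (iv F179698) D39967 (iv D38922)
theorem F184641 : act 8 n39967 = n38993 := d28_2 (iv F179699) D39967 (iv D38993)
def n39968 : Q := act 8 n38817
theorem D39968 : act 8 n38817 = n39968 := rfl
theorem F184642 : act 1 n39968 = n38819 := d15_1 D39968 (iv D38819) (iv F179705)
theorem F184643 : act 3 n39968 = n38998 := d28_1 D39968 F180164 (iv F179706)
theorem F184644 : act 4 n39968 = n38858 := d33_1 D39968 (iv D38858) (iv F179707)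
theorem F184645 : act 5 n39968 = n38997 := d37_1 D39968 (iv D38997) (iv D37734) (iv F173865) D38817
def n39969 : Q := act 4 n38818
theorem D39969 : act 4 n38818 = n39969 := rfl
theorem F184646 : act 1 n39969 = n39000 := d11_1 D39969 (iv D39000) (iv F179708)
theorem F184647 : act 3 n39969 = n38862 := d24_1 D39969 (iv D38862) F174013 (iv F173871) (iv F179709)
theorem F184648 : act 5 n39969 = n38898 := d30_2 D38818 D39969 (iv D38898) (iv D37628) (iv F173868)
def n39970 : Q := act 8 n38818
theorem D39970 : act 8 n38818 = n39970 := rfl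
theorem F184649 : act 1 n39970 = n38998 := d15_1 D39970 F180164 (iv F179708)
theorem F184650 : act 3 n39970 = n38819 := d28_1 D39970 (iv D38819) (iv F179709)
theorem F184651 : act 5 n39970 = n38995 := d37_1 D39970 (iv D38995) (iv D37733) (iv F173869) D38818
def n39971 : Q := act 5 n38819
theorem D39971 : act 5 n38819 = n39971 := rfl
theorem F184652 : act 1 n39971 = n38997 := d12_1 D39971 (iv F184645) F184642
theorem F184653 : act 2 n39971 = n38822 := d19_1 D39971 (iv D38822) (iv F179710)
theorem F184654 : act 3 n39971 = n38995 := d25_1 D39971 (iv F184651) F184650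
theorem F184655 : act 8 n39971 = n38820 := d37_2 D38819 D39971 (iv D38820) (iv D37533) D37532
def n39972 : Q := act 9 n38819
theorem D39972 : act 9 n38819 = n39972 := rfl
theorem F184656 : act 2 n39972 = n38823 := d23_1 D39972 (iv D38823) (iv F179710)
theorem F184657 : act 4 n39972 = n38868 := d34_1 D39972 (iv D38868) (iv F179711)
def n39973 : Q := act 4 n38820
theorem D39973 : act 4 n38820 = n39973 := rfl
theorem F184658 : act 1 n39973 = n38996 := d11_1 D39973 (iv D38996) (iv F179712)
theorem F184659 : act 2 n39973 = n38824 := d18_1 D39973 (iv D38824) (iv F179713)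
theorem F184660 : act 3 n39973 = n38880 := d24_1 D39973 F179870 F174046 (iv F174459) (iv F179714)
theorem F184661 : act 5 n39973 = n38821 := d30_2 D38820 D39973 (iv D38821) (iv D37534) (iv F173875)
theorem F184662 : act 9 n39973 = n38878 := d34_2 (iv F179715) D39973 F179866
def n39974 : Q := act 4 n38822
theorem D39974 : act 4 n38822 = n39974 := rfl
theorem F184663 : act 5 n39974 = n38875 := d30_2 D38822 D39974 (iv D38875) (iv D37588) (iv F173884)
theorem F184664 : act 8 n39974 = n38824 := d33_2 (iv F179722) D39974 (iv D38824)
def n39975 : Q := act 6 n38822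
theorem D39975 : act 6 n38822 = n39975 := rfl
theorem F184665 : act 8 n39975 = n38825 := d40_2 (iv F179722) D39975 (iv D38825)
def n39976 : Q := act 9 n38822
theorem D39976 : act 9 n38822 = n39976 := rfl
theorem F184666 : act 5 n39976 = n38823 := d38_1 D39976 (iv D38823) D38822
def n39977 : Q := act 3 n38824
theorem D39977 : act 3 n38824 = n39977 := rfl
theorem F184667 : act 1 n39977 = n39031 := d10_1 D39977 F184366 F184363
theorem F184668 : act 5 n39977 = n38828 := d25_2 (iv F179724) D39977 (iv D38828)
def n39978 : Q := act 6 n38824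
theorem D39978 : act 6 n38824 = n39978 := rfl
theorem F184669 : act 4 n39978 = n38825 := d31_1 D39978 (iv D38825) D38824
theorem F184670 : act 5 n39978 = n38884 := d35_1 D39978 (iv D38884) F174064 (iv F173892) (iv F179724)
def n39979 : Q := act 9 n38824
theorem D39979 : act 9 n38824 = n39979 := rfl
theorem F184671 : act 2 n39979 = n38878 := d23_1 D39979 (iv F184662) F184659
theorem F184672 : act 4 n39979 = n38826 := d34_1 D39979 (iv D38826) D38824
theorem F184673 : act 5 n39979 = n38829 := d38_1 D39979 (iv D38829) (iv F179724)
def n39980 : Q := act 7 n38825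
theorem D39980 : act 7 n38825 = n39980 := rfl
theorem F184674 : act 2 n39980 = n38931 := d21_1 D39980 (iv F181102) F181099
theorem F184675 : act 5 n39980 = n38827 := d36_1 D39980 (iv D38827) (iv F179725)
def n39981 : Q := act 8 n38826
theorem D39981 : act 8 n38826 = n39981 := rfl
theorem F184676 : act 2 n39981 = n39014 := d22_1 D39981 (iv D39014) (iv F179726)
def n39982 : Q := act 2 n38828
theorem D39982 : act 2 n38828 = n39982 := rfl
theorem F184677 : act 3 n39982 = n38874 := d17_2 D38828 D39982 F179857 (iv F179718) F179717
theorem F184678 : act 4 n39982 = n38830 := d18_2 (iv F179733) D39982 F179739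
theorem F184679 : act 6 n39982 = n38886 := d20_2 (iv F179734) D39982 (iv D38886)
theorem F184680 : act 8 n39982 = n38829 := d22_2 (iv F179735) D39982 F179736
theorem F184681 : act 9 n38873 = n39982 := d44_0 F184680 (iv D38829) F173893 D37595 (iv F179856)
def n39983 : Q := act 9 n38828
theorem D39983 : act 9 n38828 = n39983 := rfl
theorem F184682 : act 1 n39983 = n39013 := d16_1 D39983 F180191 (iv F179732)
theorem F184683 : act 2 n39983 = n38873 := d23_1 D39983 F184681 (iv D39982)
theorem F184684 : act 3 n39983 = n38829 := d29_1 D39983 (iv D38829) D38828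
theorem F184685 : act 4 n39983 = n38831 := d34_1 D39983 (iv D38831) (iv F179733)
theorem F184686 : act 6 n39983 = n38887 := d41_1 D39983 (iv D38887) (iv F179734)
theorem F184687 : act 8 n39983 = n38874 := d44_1 D39983 (iv D38874) (iv F179720) F179721 (iv F179735)
def n39984 : Q := act 5 n38832
theorem D39984 : act 5 n38832 = n39984 := rfl
theorem F184688 : act 0 n39984 = n38833 := d4_1 D39984 (iv D38833) (iv F179748)
theorem F184689 : act 9 n39984 = n38855 := d38_2 (iv F179750) D39984 (iv D38855)
def n39985 : Q := act 8 n38833
theorem D39985 : act 8 n38833 = n39985 := rfl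
theorem F184690 : act 1 n39985 = n38836 := d15_1 D39985 (iv D38836) (iv F179751)
def n39986 : Q := act 4 n38834
theorem D39986 : act 4 n38834 = n39986 := rfl
theorem F184691 : act 1 n39986 = n38839 := d11_1 D39986 (iv D38839) (iv F179753)
theorem F184692 : act 2 n39986 = n39030 := d18_1 D39986 (iv D39030) (iv F179754)
theorem F184693 : act 3 n39986 = n38991 := d24_1 D39986 (iv D38991) F174447 (iv F174139) (iv F179755)
theorem F184694 : act 6 n39986 = n39986 := d31_2 F179756 D39986 (iv D39986)
theorem F184695 : act 7 n39986 = n38899 := d32_2 (iv F179757) D39986 (iv D38899)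
theorem F184696 : act 8 n39986 = n39032 := d33_2 (iv F179758) D39986 F180221
theorem F184697 : act 9 n39986 = n38897 := d34_2 (iv F179759) D39986 (iv D38897)
def n39987 : Q := act 4 n38835
theorem D39987 : act 4 n38835 = n39987 := rfl
theorem F184698 : act 2 n39987 = n38996 := d18_1 D39987 (iv D38996) (iv F179760)
theorem F184699 : act 5 n39987 = n38899 := d30_2 D38835 D39987 (iv D38899) (iv D37629) (iv F173927)
theorem F184700 : act 9 n39987 = n38862 := d34_2 (iv F179762) D39987 (iv D38862)
def n39988 : Q := act 8 n38835
theorem D39988 : act 8 n38835 = n39988 := rfl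
theorem F184701 : act 2 n39988 = n38997 := d22_1 D39988 (iv D38997) (iv F179760)
theorem F184702 : act 3 n39988 = n38836 := d28_1 D39988 (iv D38836) (iv F179761)
def n39989 : Q := act 5 n38836
theorem D39989 : act 5 n38836 = n39989 := rfl
theorem F184703 : act 2 n39989 = n38841 := d19_1 D39989 (iv D38841) (iv F179763)
theorem F184704 : act 8 n39989 = n38837 := d37_2 D38836 D39989 (iv D38837) (iv D37551) D37550
def n39990 : Q := act 9 n38836
theorem D39990 : act 9 n38836 = n39990 := rfl
theorem F184705 : act 2 n39990 = n38842 := d23_1 D39990 (iv D38842) (iv F179763)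
theorem F184706 : act 8 n39990 = n38868 := d44_1 D39990 (iv D38868) (iv D37581) (iv F173930) D38836
def n39991 : Q := act 4 n38837
theorem D39991 : act 4 n38837 = n39991 := rfl
theorem F184707 : act 2 n39991 = n38843 := d18_1 D39991 (iv D38843) (iv F179764)
theorem F184708 : act 5 n39991 = n38839 := d30_2 D38837 D39991 (iv D38839) (iv D37553) (iv F173932)
def n39992 : Q := act 6 n38837
theorem D39992 : act 6 n38837 = n39992 := rfl
theorem F184709 : act 2 n39992 = n38844 := d20_1 D39992 (iv D38844) (iv F179764)
theorem F184710 : act 5 n39992 = n38838 := d35_1 D39992 (iv D38838) (iv D37552) (iv F173933) D38837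
def n39993 : Q := act 3 n38839
theorem D39993 : act 3 n38839 = n39993 := rfl
theorem F184711 : act 1 n39993 = n38991 := d10_1 D39993 (iv F184693) F184691
theorem F184712 : act 4 n39993 = n38900 := d24_2 D38839 D39993 (iv D38900) (iv D37630) (iv F173938)
theorem F184713 : act 6 n39993 = n39993 := d26_2 F179768 D39993 (iv D39993)
theorem F184714 : act 7 n39993 = n39002 := d27_2 F184351 D39993 (iv F184349)
theorem F184715 : act 8 n39993 = n38994 := d28_2 F184313 D39993 (iv F184310)
theorem F184716 : act 9 n38964 = n39993 := d44_0 F184715 (iv D38994) (iv F179699) (iv F180694) F180693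
theorem F184717 : act 2 n39993 = n38975 := d23_1 F184716 (iv D38975) (iv F180089)
def n39994 : Q := act 9 n38839
theorem D39994 : act 9 n38839 = n39994 := rfl
theorem F184718 : act 1 n39994 = n38897 := d16_1 D39994 (iv F184697) F184691
theorem F184719 : act 2 n39994 = n38850 := d23_1 D39994 (iv D38850) (iv F179767)
theorem F184720 : act 3 n39994 = n38964 := d29_1 D39994 F184716 (iv D39993)
theorem F184721 : act 4 n39994 = n38840 := d34_1 D39994 (iv D38840) D38839
theorem F184722 : act 6 n39994 = n39994 := d41_1 D39994 (iv D39994) F179768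
theorem F184723 : act 7 n39994 = n38901 := d43_1 D39994 (iv F184353) F184351
def n39995 : Q := act 4 n38841
theorem D39995 : act 4 n38841 = n39995 := rfl
theorem F184724 : act 8 n39995 = n38843 := d33_2 (iv F179776) D39995 (iv D38843)
def n39996 : Q := act 6 n38841
theorem D39996 : act 6 n38841 = n39996 := rfl
theorem F184725 : act 3 n39996 = n39004 := d26_1 D39996 (iv D39004) (iv F179775)
theorem F184726 : act 8 n39996 = n38844 := d40_2 (iv F179776) D39996 (iv D38844)
def n39997 : Q := act 9 n38841
theorem D39997 : act 9 n38841 = n39997 := rfl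
theorem F184727 : act 3 n39997 = n39005 := d29_1 D39997 (iv D39005) (iv F179775)
theorem F184728 : act 5 n39997 = n38842 := d38_1 D39997 (iv D38842) D38841
def n39998 : Q := act 3 n38843
theorem D39998 : act 3 n38843 = n39998 := rfl
theorem F184729 : act 4 n39998 = n39006 := d24_2 D38843 D39998 (iv D39006) (iv D37742) (iv F173947)
theorem F184730 : act 5 n39998 = n38849 := d25_2 (iv F179779) D39998 (iv D38849)
theorem F184731 : act 7 n39998 = n39031 := d27_2 F184365 D39998 F184366
def n39999 : Q := act 6 n38843
theorem D39999 : act 6 n38843 = n39999 := rfl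
theorem F184732 : act 4 n39999 = n38844 := d31_1 D39999 (iv D38844) D38843
theorem F184733 : act 5 n39999 = n39999 := d35_1 D39999 (iv D39999) F179779 F173963 (iv F179779)
def n40000 : Q := act 9 n38843
theorem D40000 : act 9 n38843 = n40000 := rfl
theorem F184734 : act 4 n40000 = n38845 := d34_1 D40000 (iv D38845) D38843
theorem F184735 : act 5 n40000 = n38850 := d38_1 D40000 (iv D38850) (iv F179779)
def n40001 : Q := act 7 n38844
theorem D40001 : act 7 n38844 = n40001 := rfl
theorem F184736 : act 3 n40001 = n39009 := d27_1 D40001 (iv D39009) (iv F179780)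
theorem F184737 : act 5 n40001 = n38846 := d36_1 D40001 (iv D38846) (iv F179781)
def n40002 : Q := act 9 n38844
theorem D40002 : act 9 n38844 = n40002 := rfl
theorem F184738 : act 3 n40002 = n39010 := d29_1 D40002 (iv D39010) (iv F179780)
theorem F184739 : act 5 n40002 = n38847 := d38_1 D40002 (iv D38847) (iv F179781)
theorem F184740 : act 6 n40002 = n38845 := d41_1 D40002 (iv D38845) D38844
def n40003 : Q := act 8 n38845
theorem D40003 : act 8 n38845 = n40003 := rfl
theorem F184741 : act 3 n40003 = n39011 := d28_1 D40003 (iv D39011) (iv F179782)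
theorem F184742 : act 5 n40003 = n38882 := d37_1 D40003 (iv D38882) F174047 (iv F173951) (iv F179783)
def n40004 : Q := act 9 n38846
theorem D40004 : act 9 n38846 = n40004 := rfl
theorem F184743 : act 3 n40004 = n39012 := d29_1 D40004 (iv D39012) (iv F179784)
theorem F184744 : act 4 n40004 = n40004 := d34_1 D40004 (iv D40004) F179785
theorem F184745 : act 6 n40004 = n38848 := d41_1 D40004 (iv D38848) (iv F179786)
theorem F184746 : act 7 n40004 = n38847 := d43_1 D40004 (iv D38847) D38846
def n40005 : Q := act 2 n38849
theorem D40005 : act 2 n38849 = n40005 := rfl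
theorem F184747 : act 3 n40005 = n38975 := d17_2 D38849 D40005 (iv F184717) (iv D39993) F179767
theorem F184748 : act 4 n40005 = n38852 := d18_2 (iv F179793) D40005 (iv D38852)
theorem F184749 : act 6 n40005 = n40005 := d20_2 F179794 D40005 (iv D40005)
theorem F184750 : act 7 n40005 = n38902 := d21_2 (iv F179795) D40005 F179944
theorem F184751 : act 8 n40005 = n38897 := d22_2 (iv F179796) D40005 F179924
theorem F184752 : act 9 n38974 = n40005 := d44_0 F184751 (iv F184697) F184696 (iv D39032) (iv F180114)
def n40006 : Q := act 9 n38849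
theorem D40006 : act 9 n38849 = n40006 := rfl
theorem F184753 : act 2 n40006 = n38974 := d23_1 D40006 F184752 (iv D40005)
theorem F184754 : act 3 n40006 = n38850 := d29_1 D40006 (iv D38850) D38849
theorem F184755 : act 4 n40006 = n38853 := d34_1 D40006 (iv D38853) (iv F179793)
theorem F184756 : act 6 n40006 = n40006 := d41_1 D40006 (iv D40006) F179794
theorem F184757 : act 7 n40006 = n39013 := d43_1 D40006 F180191 (iv F179795)
theorem F184758 : act 8 n40006 = n38903 := d44_1 D40006 (iv F184543) F184542 F180220 (iv F179796)
def n40007 : Q := act 8 n38850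
theorem D40007 : act 8 n38850 = n40007 := rfl
theorem F184759 : act 3 n40007 = n38903 := d28_1 D40007 (iv F184758) F184754
theorem F184760 : act 4 n40007 = n38851 := d33_1 D40007 (iv D38851) (iv F179797)
theorem F184761 : act 6 n40007 = n40007 := d40_1 D40007 (iv D40007) F179798
def n40008 : Q := act 5 n38854
theorem D40008 : act 5 n38854 = n40008 := rfl
theorem F184762 : act 0 n40008 = n38857 := d4_1 D40008 (iv D38857) (iv F179814)
theorem F184763 : act 3 n40008 = n38855 := d25_1 D40008 (iv D38855) (iv F179815)
def n40009 : Q := act 8 n38855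
theorem D40009 : act 8 n38855 = n40009 := rfl
theorem F184764 : act 0 n40009 = n38858 := d7_1 D40009 (iv D38858) (iv F179817)
def n40010 : Q := act 5 n38856
theorem D40010 : act 5 n38856 = n40010 := rfl
theorem F184765 : act 0 n40010 = n38859 := d4_1 D40010 (iv D38859) (iv F179818)
def n40011 : Q := act 4 n38857
theorem D40011 : act 4 n38857 = n40011 := rfl
theorem F184766 : act 1 n40011 = n38862 := d11_1 D40011 (iv D38862) (iv F179821)
theorem F184767 : act 3 n40011 = n39000 := d24_1 D40011 (iv D39000) (iv F179706) F179707 (iv F179822)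
theorem F184768 : act 5 n40011 = n38901 := d30_2 D38857 D40011 (iv D38901) (iv D37632) (iv F173994)
def n40012 : Q := act 8 n38857
theorem D40012 : act 8 n38857 = n40012 := rfl
theorem F184769 : act 1 n40012 = n38863 := d15_1 D40012 (iv D38863) (iv F179821)
theorem F184770 : act 3 n40012 = n38858 := d28_1 D40012 (iv D38858) (iv F179822)
def n40013 : Q := act 5 n38858
theorem D40013 : act 5 n38858 = n40013 := rfl
theorem F184771 : act 1 n40013 = n38867 := d12_1 D40013 (iv D38867) (iv F179823)
theorem F184772 : act 8 n40013 = n38859 := d37_2 D38858 D40013 (iv D38859) (iv D37573) D37572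
def n40014 : Q := act 9 n38858
theorem D40014 : act 9 n38858 = n40014 := rfl
theorem F184773 : act 1 n40014 = n38868 := d16_1 D40014 (iv D38868) (iv F179823)
def n40015 : Q := act 4 n38859
theorem D40015 : act 4 n38859 = n40015 := rfl
theorem F184774 : act 1 n40015 = n38869 := d11_1 D40015 (iv D38869) (iv F179824)
theorem F184775 : act 5 n40015 = n38861 := d30_2 D38859 D40015 (iv D38861) (iv D37575) (iv F173997)
def n40016 : Q := act 6 n38859
theorem D40016 : act 6 n38859 = n40016 := rfl
theorem F184776 : act 1 n40016 = n38870 := d13_1 D40016 (iv D38870) (iv F179824)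
theorem F184777 : act 5 n40016 = n38860 := d35_1 D40016 (iv D38860) (iv D37574) (iv F173998) D38859
def n40017 : Q := act 8 n38862
theorem D40017 : act 8 n38862 = n40017 := rfl
theorem F184778 : act 2 n40017 = n39016 := d22_1 D40017 (iv D39016) (iv F179830)
theorem F184779 : act 4 n40017 = n38863 := d33_1 D40017 (iv D38863) D38862
def n40018 : Q := act 5 n38863
theorem D40018 : act 5 n38863 = n40018 := rfl
theorem F184780 : act 2 n40018 = n39017 := d19_1 D40018 (iv D39017) (iv F179832)
theorem F184781 : act 3 n40018 = n38867 := d25_1 D40018 (iv D38867) (iv F179833)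
theorem F184782 : act 8 n40018 = n38864 := d37_2 D38863 D40018 (iv D38864) (iv D37578) D37577
def n40019 : Q := act 9 n38863
theorem D40019 : act 9 n38863 = n40019 := rfl
theorem F184783 : act 2 n40019 = n39018 := d23_1 D40019 (iv D39018) (iv F179832)
theorem F184784 : act 3 n40019 = n38868 := d29_1 D40019 (iv D38868) (iv F179833)
def n40020 : Q := act 4 n38864
theorem D40020 : act 4 n38864 = n40020 := rfl
theorem F184785 : act 2 n40020 = n39019 := d18_1 D40020 (iv D39019) (iv F179834)
theorem F184786 : act 5 n40020 = n38903 := d30_2 D38864 D40020 (iv D38903) (iv D37635) (iv F174016)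
def n40021 : Q := act 6 n38864
theorem D40021 : act 6 n38864 = n40021 := rfl
theorem F184787 : act 2 n40021 = n39020 := d20_1 D40021 (iv D39020) (iv F179834)
theorem F184788 : act 3 n40021 = n38870 := d26_1 D40021 (iv D38870) (iv F179835)
theorem F184789 : act 5 n40021 = n38865 := d35_1 D40021 (iv D38865) (iv D37579) (iv F174017) D38864
def n40022 : Q := act 7 n38865
theorem D40022 : act 7 n38865 = n40022 := rfl
theorem F184790 : act 2 n40022 = n39022 := d21_1 D40022 (iv D39022) (iv F179836)
theorem F184791 : act 3 n40022 = n38872 := d27_1 D40022 (iv D38872) (iv F179837)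
theorem F184792 : act 4 n40022 = n40022 := d32_1 D40022 (iv D40022) F179838
theorem F184793 : act 6 n40022 = n38866 := d39_1 D40022 (iv D38866) (iv D37580) (iv F174021) D38865
def n40023 : Q := act 4 n38867
theorem D40023 : act 4 n38867 = n40023 := rfl
theorem F184794 : act 2 n40023 = n38875 := d18_1 D40023 (iv D38875) (iv F179842)
theorem F184795 : act 8 n40023 = n38869 := d33_2 (iv F179843) D40023 (iv D38869)
def n40024 : Q := act 6 n38867
theorem D40024 : act 6 n38867 = n40024 := rfl
theorem F184796 : act 2 n40024 = n38876 := d20_1 D40024 (iv D38876) (iv F179842)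
theorem F184797 : act 8 n40024 = n38870 := d40_2 (iv F179843) D40024 (iv D38870)
def n40025 : Q := act 9 n38867
theorem D40025 : act 9 n38867 = n40025 := rfl
theorem F184798 : act 2 n40025 = n38877 := d23_1 D40025 (iv D38877) (iv F179842)
theorem F184799 : act 5 n40025 = n38868 := d38_1 D40025 (iv D38868) D38867
def n40026 : Q := act 3 n38869
theorem D40026 : act 3 n38869 = n40026 := rfl
theorem F184800 : act 5 n40026 = n38873 := d25_2 (iv F179846) D40026 (iv D38873)
def n40027 : Q := act 6 n38869
theorem D40027 : act 6 n38869 = n40027 := rfl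
theorem F184801 : act 2 n40027 = n38879 := d20_1 D40027 (iv D38879) (iv F179845)
theorem F184802 : act 4 n40027 = n38870 := d31_1 D40027 (iv D38870) D38869
theorem F184803 : act 5 n40027 = n38891 := d35_1 D40027 (iv D38891) F174099 (iv F174035) (iv F179846)
def n40028 : Q := act 9 n38869
theorem D40028 : act 9 n38869 = n40028 := rfl
theorem F184804 : act 2 n40028 = n38880 := d23_1 D40028 (iv D38880) (iv F179845)
theorem F184805 : act 4 n40028 = n38871 := d34_1 D40028 (iv D38871) D38869
theorem F184806 : act 5 n40028 = n38874 := d38_1 D40028 (iv D38874) (iv F179846)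
def n40029 : Q := act 7 n38870
theorem D40029 : act 7 n38870 = n40029 := rfl
theorem F184807 : act 2 n40029 = n38881 := d21_1 D40029 (iv D38881) (iv F179847)
theorem F184808 : act 5 n40029 = n38872 := d36_1 D40029 (iv D38872) (iv F179848)
def n40030 : Q := act 8 n38871
theorem D40030 : act 8 n38871 = n40030 := rfl
theorem F184809 : act 2 n40030 = n38882 := d22_1 D40030 (iv D38882) (iv F179849)
def n40031 : Q := act 3 n38875
theorem D40031 : act 3 n38875 = n40031 := rfl
theorem F184810 : act 1 n40031 = n39016 := d10_1 D40031 (iv F184471) F184470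
theorem F184811 : act 4 n40031 = n39014 := d24_2 D38875 D40031 F180193 F174496 (iv F174040)
theorem F184812 : act 8 n40031 = n38878 := d28_2 (iv F179860) D40031 (iv D38878)
def n40032 : Q := act 6 n38875
theorem D40032 : act 6 n38875 = n40032 := rfl
theorem F184813 : act 4 n40032 = n38876 := d31_1 D40032 (iv D38876) D38875
theorem F184814 : act 8 n40032 = n38879 := d40_2 (iv F179860) D40032 (iv D38879)
def n40033 : Q := act 9 n38875
theorem D40033 : act 9 n38875 = n40033 := rfl
theorem F184815 : act 4 n40033 = n38877 := d34_1 D40033 (iv D38877) D38875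
def n40034 : Q := act 7 n38876
theorem D40034 : act 7 n38876 = n40034 := rfl
theorem F184816 : act 3 n40034 = n39027 := d27_1 D40034 (iv D39027) (iv F179861)
theorem F184817 : act 8 n40034 = n38881 := d42_2 (iv F179862) D40034 (iv D38881)
def n40035 : Q := act 9 n38876
theorem D40035 : act 9 n38876 = n40035 := rfl
theorem F184818 : act 3 n40035 = n39028 := d29_1 D40035 (iv D39028) (iv F179861)
theorem F184819 : act 6 n40035 = n38877 := d41_1 D40035 (iv D38877) D38876
def n40036 : Q := act 8 n38877
theorem D40036 : act 8 n38877 = n40036 := rfl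
theorem F184820 : act 3 n40036 = n39029 := d28_1 D40036 (iv D39029) (iv F179863)
theorem F184821 : act 9 n40036 = n38882 := d44_2 D38877 D40036 (iv D38882) (iv D37592) (iv F174041)
def n40037 : Q := act 7 n38879
theorem D40037 : act 7 n38879 = n40037 := rfl
theorem F184822 : act 4 n40037 = n38881 := d32_1 D40037 (iv D38881) (iv F179868)
theorem F184823 : act 5 n40037 = n38895 := d36_1 D40037 (iv D38895) (iv F179869)
def n40038 : Q := act 8 n38880
theorem D40038 : act 8 n38880 = n40038 := rfl
theorem F184824 : act 4 n40038 = n38882 := d33_1 D40038 (iv D38882) (iv F179870)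
def n40039 : Q := act 6 n38883
theorem D40039 : act 6 n38883 = n40039 := rfl
theorem F184825 : act 1 n40039 = n39033 := d13_1 D40039 (iv D39033) (iv F179875)
theorem F184826 : act 3 n40039 = n38884 := d26_1 D40039 (iv D38884) D38883
theorem F184827 : act 4 n40039 = n40039 := d31_1 D40039 (iv D40039) F179876
def n40040 : Q := act 7 n38884
theorem D40040 : act 7 n38884 = n40040 := rfl
theorem F184828 : act 2 n40040 = n38933 := d21_1 D40040 (iv F181109) F181106
theorem F184829 : act 4 n40040 = n38885 := d32_1 D40040 (iv D38885) (iv F179879)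
theorem F184830 : act 6 n40040 = n40040 := d39_1 D40040 (iv D40040) (iv D38884) F174065 D38884
def n40041 : Q := act 6 n38888
theorem D40041 : act 6 n38888 = n40041 := rfl
theorem F184831 : act 1 n40041 = n38891 := d13_1 D40041 (iv D38891) (iv F179895)
theorem F184832 : act 4 n40041 = n38889 := d31_1 D40041 (iv D38889) D38888
def n40042 : Q := act 6 n38890
theorem D40042 : act 6 n38890 = n40042 := rfl
theorem F184833 : act 3 n40042 = n38891 := d26_1 D40042 (iv D38891) D38890
theorem F184834 : act 4 n40042 = n40042 := d31_1 D40042 (iv D40042) F179901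
def n40043 : Q := act 7 n38891
theorem D40043 : act 7 n38891 = n40043 := rfl
theorem F184835 : act 2 n40043 = n38895 := d21_1 D40043 (iv D38895) (iv F179904)
theorem F184836 : act 4 n40043 = n38892 := d32_1 D40043 (iv D38892) (iv F179905)
theorem F184837 : act 6 n40043 = n40043 := d39_1 D40043 (iv D40043) (iv D38891) F174100 D38891
def n40044 : Q := act 5 n38893
theorem D40044 : act 5 n38893 = n40044 := rfl
def n40045 : Q := act 7 n38893
theorem D40045 : act 7 n38893 = n40045 := rfl
theorem F184838 : act 4 n40045 = n38894 := d32_1 D40045 (iv D38894) (iv F179910)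
theorem F184839 : act 6 n40045 = n40045 := d39_1 D40045 (iv D40045) (iv D38893) F174113 D38893
theorem F184840 : act 8 n40045 = n38895 := d42_2 (iv F179911) D40045 (iv D38895)
def n40046 : Q := act 4 n38896
theorem D40046 : act 4 n38896 = n40046 := rfl
theorem F184841 : act 1 n40046 = n38964 := d11_1 D40046 (iv D38964) (iv F179917)
theorem F184842 : act 2 n40046 = n38994 := d18_1 D40046 F180156 (iv F179918)
theorem F184843 : act 3 n40046 = n38897 := d24_1 D40046 (iv D38897) F174164 (iv F174132) (iv F179919)
theorem F184844 : act 6 n40046 = n40046 := d31_2 F179920 D40046 (iv D40046)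
theorem F184845 : act 7 n40046 = n38898 := d32_2 (iv F179921) D40046 (iv D38898)
theorem F184846 : act 8 n40046 = n38975 := d33_2 (iv F179922) D40046 F180115
theorem F184847 : act 9 n40046 = n38991 := d34_2 (iv F179923) D40046 (iv D38991)
def n40047 : Q := act 5 n38902
theorem D40047 : act 5 n38902 = n40047 := rfl
theorem F184848 : act 2 n40047 = n39031 := d19_1 D40047 (iv D39031) (iv F179944)
theorem F184849 : act 3 n40047 = n39008 := d25_1 D40047 F180181 (iv F179945)
theorem F184850 : act 9 n40047 = n39006 := d38_2 F179948 D40047 F180177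
def n40048 : Q := act 6 n38904
theorem D40048 : act 6 n38904 = n40048 := rfl
theorem F184851 : act 2 n40048 = n39033 := d20_1 D40048 (iv D39033) (iv F179951)
theorem F184852 : act 3 n40048 = n39042 := d26_1 D40048 F180248 (iv F179952)
theorem F184853 : act 4 n40048 = n40048 := d31_1 D40048 (iv D40048) F179953
theorem F184854 : act 9 n40048 = n39040 := d41_2 (iv F179955) D40048 (iv D39040)
def n40049 : Q := act 9 n38905
theorem D40049 : act 9 n38905 = n40049 := rfl
theorem F184855 : act 0 n40049 = n38918 := d8_1 D40049 (iv D38918) (iv F179956)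
theorem F184856 : act 8 n40049 = n38906 := d44_1 D40049 (iv D38906) (iv D37641) (iv F174230) D38905
def n40050 : Q := act 9 n38907
theorem D40050 : act 9 n38907 = n40050 := rfl
theorem F184857 : act 2 n40050 = n38909 := d23_1 D40050 (iv D38909) (iv F179958)
theorem F184858 : act 5 n40050 = n38958 := d38_1 D40050 (iv D38958) (iv F179959)
theorem F184859 : act 7 n40050 = n38925 := d43_1 D40050 (iv D38925) (iv F179960)
def n40051 : Q := act 9 n38908
theorem D40051 : act 9 n38908 = n40051 := rfl
theorem F184860 : act 1 n40051 = n38985 := d16_1 D40051 (iv D38985) (iv F179961)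
theorem F184861 : act 2 n40051 = n38958 := d23_1 D40051 (iv D38958) (iv F179962)
theorem F184862 : act 4 n40051 = n38982 := d34_1 D40051 (iv D38982) F179965
theorem F184863 : act 5 n40051 = n38909 := d38_1 D40051 (iv D38909) D38908
theorem F184864 : act 7 n40051 = n38926 := d43_1 D40051 (iv D38926) (iv F179963)
def n40052 : Q := act 4 n38910
theorem D40052 : act 4 n38910 = n40052 := rfl
theorem F184865 : act 1 n40052 = n39019 := d11_1 D40052 (iv D39019) (iv F179968)
theorem F184866 : act 3 n40052 = n38923 := d24_1 D40052 (iv D38923) F174271 (iv F174246) (iv F179969)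
theorem F184867 : act 5 n40052 = n38993 := d30_2 D38910 D40052 F180154 F174455 (iv F174242)
def n40053 : Q := act 8 n38910
theorem D40053 : act 8 n38910 = n40053 := rfl
theorem F184868 : act 1 n40053 = n39017 := d15_1 D40053 F180198 (iv F179968)
theorem F184869 : act 3 n40053 = n38911 := d28_1 D40053 (iv D38911) (iv F179969)
theorem F184870 : act 5 n40053 = n39014 := d37_1 D40053 (iv D39014) (iv D37751) (iv F174243) D38910
def n40054 : Q := act 9 n38911
theorem D40054 : act 9 n38911 = n40054 := rfl
theorem F184871 : act 1 n40054 = n39024 := d16_1 D40054 (iv D39024) (iv F179970)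
theorem F184872 : act 2 n40054 = n38913 := d23_1 D40054 (iv D38913) (iv F179971)
theorem F184873 : act 4 n40054 = n38925 := d34_1 D40054 (iv D38925) (iv F179972)
theorem F184874 : act 5 n40054 = n39015 := d38_1 D40054 (iv D39015) (iv F179973)
def n40055 : Q := act 9 n38912
theorem D40055 : act 9 n38912 = n40055 := rfl
theorem F184875 : act 1 n40055 = n38925 := d16_1 D40055 (iv D38925) (iv F179974)
theorem F184876 : act 2 n40055 = n39015 := d23_1 D40055 (iv D39015) (iv F179975)
theorem F184877 : act 4 n40055 = n39024 := d34_1 D40055 (iv D39024) (iv F179976)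
theorem F184878 : act 5 n40055 = n38913 := d38_1 D40055 (iv D38913) D38912
def n40056 : Q := act 8 n38914
theorem D40056 : act 8 n38914 = n40056 := rfl
theorem F184879 : act 1 n40056 = n38916 := d15_1 D40056 (iv D38916) (iv F179980)
theorem F184880 : act 2 n40056 = n38995 := d22_1 D40056 (iv D38995) (iv F179981)
theorem F184881 : act 4 n40056 = n39026 := d33_1 D40056 (iv D39026) (iv F179982)
def n40057 : Q := act 4 n38915
theorem D40057 : act 4 n38915 = n40057 := rfl
theorem F184882 : act 5 n40057 = n38994 := d30_2 D38915 D40057 F180156 F174452 (iv F174257)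
theorem F184883 : act 9 n40057 = n38923 := d34_2 (iv F179985) D40057 (iv D38923)
def n40058 : Q := act 8 n38915
theorem D40058 : act 8 n38915 = n40058 := rfl
theorem F184884 : act 3 n40058 = n38916 := d28_1 D40058 (iv D38916) (iv F179984)
def n40059 : Q := act 9 n38916
theorem D40059 : act 9 n38916 = n40059 := rfl
theorem F184885 : act 2 n40059 = n38918 := d23_1 D40059 (iv D38918) (iv F179986)
theorem F184886 : act 8 n40059 = n38925 := d44_1 D40059 (iv D38925) (iv D37659) (iv F174260) D38916
def n40060 : Q := act 4 n38917
theorem D40060 : act 4 n38917 = n40060 := rfl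
theorem F184887 : act 1 n40060 = n39003 := d11_1 D40060 (iv D39003) (iv F179987)
theorem F184888 : act 8 n40060 = n38919 := d33_2 (iv F179988) D40060 (iv D38919)
def n40061 : Q := act 6 n38917
theorem D40061 : act 6 n38917 = n40061 := rfl
theorem F184889 : act 1 n40061 = n39004 := d13_1 D40061 (iv D39004) (iv F179987)
theorem F184890 : act 8 n40061 = n38920 := d40_2 (iv F179988) D40061 (iv D38920)
def n40062 : Q := act 9 n38917
theorem D40062 : act 9 n38917 = n40062 := rfl
theorem F184891 : act 1 n40062 = n39005 := d16_1 D40062 (iv D39005) (iv F179987)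
theorem F184892 : act 5 n40062 = n38918 := d38_1 D40062 (iv D38918) D38917
def n40063 : Q := act 3 n38919
theorem D40063 : act 3 n38919 = n40063 := rfl
theorem F184893 : act 1 n40063 = n39006 := d10_1 D40063 (iv D39006) (iv F179991)
theorem F184894 : act 5 n40063 = n38922 := d25_2 (iv F179992) D40063 (iv D38922)
def n40064 : Q := act 6 n38919
theorem D40064 : act 6 n38919 = n40064 := rfl
theorem F184895 : act 1 n40064 = n39007 := d13_1 D40064 (iv D39007) (iv F179991)
theorem F184896 : act 4 n40064 = n38920 := d31_1 D40064 (iv D38920) D38919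
theorem F184897 : act 5 n40064 = n39036 := d35_1 D40064 (iv D39036) F174540 (iv F174268) (iv F179992)
def n40065 : Q := act 7 n38920
theorem D40065 : act 7 n38920 = n40065 := rfl
theorem F184898 : act 1 n40065 = n39009 := d14_1 D40065 (iv D39009) (iv F179993)
theorem F184899 : act 5 n40065 = n38921 := d36_1 D40065 (iv D38921) (iv F179994)
def n40066 : Q := act 8 n38923
theorem D40066 : act 8 n38923 = n40066 := rfl
theorem F184900 : act 4 n40066 = n38924 := d33_1 D40066 (iv D38924) D38923
def n40067 : Q := act 9 n38924
theorem D40067 : act 9 n38924 = n40067 := rfl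
theorem F184901 : act 3 n40067 = n38925 := d29_1 D40067 (iv D38925) (iv F180002)
theorem F184902 : act 5 n40067 = n38992 := d38_1 D40067 (iv D38992) (iv F180003)
def n40068 : Q := act 5 n38927
theorem D40068 : act 5 n38927 = n40068 := rfl
theorem F184903 : act 1 n40068 = n38929 := d12_1 D40068 (iv D38929) (iv F180010)
theorem F184904 : act 4 n40068 = n38987 := d30_1 D40068 F180144 F174441 (iv F174285) (iv F180011)
theorem F184905 : act 6 n40068 = n38959 := d35_2 D38927 D40068 (iv D38959) (iv D37694) (iv F174281)
theorem F184906 : act 9 n40068 = n38935 := d38_2 (iv F180012) D40068 (iv D38935)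
def n40069 : Q := act 5 n38928
theorem D40069 : act 5 n38928 = n40069 := rfl
theorem F184907 : act 3 n40069 = n38929 := d25_1 D40069 (iv D38929) (iv F180013)
theorem F184908 : act 6 n40069 = n38960 := d35_2 D38928 D40069 (iv D38960) (iv D37695) (iv F174289)
theorem F184909 : act 9 n40069 = n38936 := d38_2 (iv F180015) D40069 (iv D38936)
def n40070 : Q := act 8 n38929
theorem D40070 : act 8 n38929 = n40070 := rfl
theorem F184910 : act 2 n40070 = n38930 := d22_1 D40070 (iv D38930) (iv F180016)
theorem F184911 : act 6 n40070 = n38961 := d40_1 D40070 (iv D38961) (iv F180017)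
def n40071 : Q := act 5 n38930
theorem D40071 : act 5 n38930 = n40071 := rfl
theorem F184912 : act 8 n40071 = n38931 := d37_2 D38930 D40071 (iv D38931) (iv D37667) D37666
def n40072 : Q := act 9 n38930
theorem D40072 : act 9 n38930 = n40072 := rfl
theorem F184913 : act 6 n40072 = n38966 := d41_1 D40072 (iv D38966) (iv F180019)
theorem F184914 : act 8 n40072 = n38945 := d44_1 D40072 (iv D38945) (iv D37680) (iv F174295) D38930
def n40073 : Q := act 4 n38931
theorem D40073 : act 4 n38931 = n40073 := rfl
theorem F184915 : act 5 n40073 = n38933 := d30_2 D38931 D40073 (iv D38933) (iv D37669) (iv F174296)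
def n40074 : Q := act 6 n38931
theorem D40074 : act 6 n38931 = n40074 := rfl
theorem F184916 : act 5 n40074 = n38932 := d35_1 D40074 (iv D38932) (iv D37668) (iv F174297) D38931
def n40075 : Q := act 5 n38934
theorem D40075 : act 5 n38934 = n40075 := rfl
theorem F184917 : act 1 n40075 = n38936 := d12_1 D40075 (iv D38936) (iv F180023)
theorem F184918 : act 3 n40075 = n38935 := d25_1 D40075 (iv D38935) (iv F180024)
theorem F184919 : act 6 n40075 = n38976 := d35_2 D38934 D40075 (iv D38976) (iv D37712) (iv F174306)
def n40076 : Q := act 8 n38935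
theorem D40076 : act 8 n38935 = n40076 := rfl
theorem F184920 : act 1 n40076 = n38939 := d15_1 D40076 (iv D38939) (iv F180026)
theorem F184921 : act 4 n40076 = n38984 := d33_1 D40076 F180139 (iv F180027)
theorem F184922 : act 6 n40076 = n38977 := d40_1 D40076 (iv D38977) (iv F180028)
def n40077 : Q := act 4 n38936
theorem D40077 : act 4 n38936 = n40077 := rfl
theorem F184923 : act 5 n40077 = n40077 := d30_2 D38936 D40077 (iv D40077) (iv D38936) F174310
theorem F184924 : act 6 n40077 = n38978 := d31_2 (iv F180030) D40077 (iv D38978)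
def n40078 : Q := act 8 n38936
theorem D40078 : act 8 n38936 = n40078 := rfl
theorem F184925 : act 3 n40078 = n38939 := d28_1 D40078 (iv D38939) (iv F180029)
theorem F184926 : act 6 n40078 = n38979 := d40_1 D40078 (iv D38979) (iv F180030)
def n40079 : Q := act 5 n38937
theorem D40079 : act 5 n38937 = n40079 := rfl
theorem F184927 : act 3 n40079 = n38940 := d25_1 D40079 (iv D38940) (iv F180031)
def n40080 : Q := act 9 n38937
theorem D40080 : act 9 n38937 = n40080 := rfl
theorem F184928 : act 3 n40080 = n38941 := d29_1 D40080 (iv D38941) (iv F180031)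
theorem F184929 : act 4 n40080 = n40080 := d34_1 D40080 (iv D40080) F180032
theorem F184930 : act 6 n40080 = n38938 := d41_1 D40080 (iv D38938) (iv F180033)
def n40081 : Q := act 5 n38939
theorem D40081 : act 5 n38939 = n40081 := rfl
theorem F184931 : act 2 n40081 = n38944 := d19_1 D40081 (iv D38944) (iv F180037)
theorem F184932 : act 8 n40081 = n38940 := d37_2 D38939 D40081 (iv D38940) (iv D37676) D37675
def n40082 : Q := act 9 n38939
theorem D40082 : act 9 n38939 = n40082 := rfl
theorem F184933 : act 2 n40082 = n38945 := d23_1 D40082 (iv D38945) (iv F180037)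
theorem F184934 : act 6 n40082 = n38982 := d41_1 D40082 (iv D38982) (iv F180038)
def n40083 : Q := act 4 n38940
theorem D40083 : act 4 n38940 = n40083 := rfl
theorem F184935 : act 2 n40083 = n38946 := d18_1 D40083 (iv D38946) (iv F180039)
theorem F184936 : act 5 n40083 = n38942 := d30_2 D38940 D40083 (iv D38942) (iv D37678) (iv F174319)
def n40084 : Q := act 9 n38940
theorem D40084 : act 9 n38940 = n40084 := rfl
theorem F184937 : act 2 n40084 = n38948 := d23_1 D40084 (iv D38948) (iv F180039)
theorem F184938 : act 5 n40084 = n38941 := d38_1 D40084 (iv D38941) D38940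
def n40085 : Q := act 3 n38942
theorem D40085 : act 3 n38942 = n40085 := rfl
theorem F184939 : act 4 n40085 = n40085 := d24_2 D38942 D40085 (iv D40085) (iv D38942) F174325
theorem F184940 : act 6 n40085 = n39044 := d26_2 (iv F180044) D40085 (iv D39044)
def n40086 : Q := act 9 n38942
theorem D40086 : act 9 n38942 = n40086 := rfl
theorem F184941 : act 2 n40086 = n38954 := d23_1 D40086 (iv D38954) (iv F180043)
theorem F184942 : act 4 n40086 = n38943 := d34_1 D40086 (iv D38943) D38942
theorem F184943 : act 6 n40086 = n39045 := d41_1 D40086 (iv D39045) (iv F180044)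
def n40087 : Q := act 8 n38943
theorem D40087 : act 8 n38943 = n40087 := rfl
theorem F184944 : act 1 n40087 = n38956 := d15_1 D40087 (iv F181319) F181315
theorem F184945 : act 2 n40087 = n38955 := d22_1 D40087 (iv D38955) (iv F180045)
theorem F184946 : act 3 n40087 = n40087 := d28_1 D40087 (iv D40087) F180046
theorem F184947 : act 6 n40087 = n39046 := d40_1 D40087 (iv D39046) (iv F180048)
def n40088 : Q := act 4 n38944
theorem D40088 : act 4 n38944 = n40088 := rfl
theorem F184948 : act 8 n40088 = n38946 := d33_2 (iv F180049) D40088 (iv D38946)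
def n40089 : Q := act 6 n38944
theorem D40089 : act 6 n38944 = n40089 := rfl
theorem F184949 : act 5 n40089 = n38984 := d35_1 D40089 (iv D38984) (iv D37719) (iv F174330) D38944
theorem F184950 : act 8 n40089 = n38947 := d40_2 (iv F180049) D40089 (iv D38947)
def n40090 : Q := act 9 n38944
theorem D40090 : act 9 n38944 = n40090 := rfl
theorem F184951 : act 5 n40090 = n38945 := d38_1 D40090 (iv D38945) D38944
def n40091 : Q := act 3 n38946
theorem D40091 : act 3 n38946 = n40091 := rfl
theorem F184952 : act 5 n40091 = n38953 := d25_2 (iv F180051) D40091 (iv D38953)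
def n40092 : Q := act 6 n38946
theorem D40092 : act 6 n38946 = n40092 := rfl
theorem F184953 : act 4 n40092 = n38947 := d31_1 D40092 (iv D38947) D38946
theorem F184954 : act 5 n40092 = n39048 := d35_1 D40092 (iv D39048) F174580 (iv F174344) (iv F180051)
def n40093 : Q := act 9 n38946
theorem D40093 : act 9 n38946 = n40093 := rfl
theorem F184955 : act 4 n40093 = n38948 := d34_1 D40093 (iv D38948) D38946
theorem F184956 : act 5 n40093 = n38954 := d38_1 D40093 (iv D38954) (iv F180051)
def n40094 : Q := act 7 n38947
theorem D40094 : act 7 n38947 = n40094 := rfl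
theorem F184957 : act 5 n40094 = n38949 := d36_1 D40094 (iv D38949) (iv F180052)
def n40095 : Q := act 9 n38947
theorem D40095 : act 9 n38947 = n40095 := rfl
theorem F184958 : act 5 n40095 = n38950 := d38_1 D40095 (iv D38950) (iv F180052)
theorem F184959 : act 6 n40095 = n38948 := d41_1 D40095 (iv D38948) D38947
def n40096 : Q := act 8 n38948
theorem D40096 : act 8 n38948 = n40096 := rfl
def n40097 : Q := act 9 n38949
theorem D40097 : act 9 n38949 = n40097 := rfl
theorem F184960 : act 4 n40097 = n39053 := d34_1 D40097 (iv D39053) (iv F180054)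
theorem F184961 : act 6 n40097 = n38952 := d41_1 D40097 (iv D38952) (iv F180055)
theorem F184962 : act 7 n40097 = n38950 := d43_1 D40097 (iv D38950) D38949
def n40098 : Q := act 8 n38950
theorem D40098 : act 8 n38950 = n40098 := rfl
theorem F184963 : act 4 n40098 = n39054 := d33_1 D40098 (iv D39054) (iv F180057)
theorem F184964 : act 6 n40098 = n38951 := d40_1 D40098 (iv D38951) (iv F180058)
theorem F184965 : act 9 n40098 = n38989 := d44_2 D38950 D40098 (iv D38989) (iv D37724) (iv F174334)
def n40099 : Q := act 2 n38953
theorem D40099 : act 2 n38953 = n40099 := rfl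
theorem F184966 : act 4 n40099 = n38956 := d18_2 (iv F180064) D40099 (iv D38956)
theorem F184967 : act 6 n40099 = n39055 := d20_2 (iv F180065) D40099 (iv D39055)
def n40100 : Q := act 9 n38953
theorem D40100 : act 9 n38953 = n40100 := rfl
theorem F184968 : act 3 n40100 = n38954 := d29_1 D40100 (iv D38954) D38953
theorem F184969 : act 4 n40100 = n38957 := d34_1 D40100 (iv D38957) (iv F180064)
theorem F184970 : act 6 n40100 = n39056 := d41_1 D40100 (iv D39056) (iv F180065)
def n40101 : Q := act 8 n38954
theorem D40101 : act 8 n38954 = n40101 := rfl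
theorem F184971 : act 4 n40101 = n38955 := d33_1 D40101 (iv D38955) (iv F180066)
theorem F184972 : act 6 n40101 = n39057 := d40_1 D40101 (iv D39057) (iv F180067)
def n40102 : Q := act 9 n38956
theorem D40102 : act 9 n38956 = n40102 := rfl
theorem F184973 : act 2 n40102 = n38957 := d23_1 D40102 (iv D38957) D38956
theorem F184974 : act 3 n40102 = n40102 := d29_1 D40102 (iv D40102) F180070
theorem F184975 : act 6 n40102 = n39052 := d41_1 D40102 F180280 (iv F180071)
theorem F184976 : act 8 n40102 = n39051 := d44_1 D40102 (iv D39051) (iv F176894) (iv F181320) F181319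
def n40103 : Q := act 8 n38959
theorem D40103 : act 8 n38959 = n40103 := rfl
theorem F184977 : act 1 n40103 = n38961 := d15_1 D40103 (iv D38961) (iv F180076)
theorem F184978 : act 4 n40103 = n38988 := d33_1 D40103 (iv D38988) (iv F180077)
theorem F184979 : act 7 n40103 = n38995 := d42_1 D40103 (iv D38995) (iv F180078)
def n40104 : Q := act 4 n38960
theorem D40104 : act 4 n38960 = n40104 := rfl
theorem F184980 : act 5 n40104 = n39030 := d30_2 D38960 D40104 (iv D39030) (iv D37768) (iv F174361)
theorem F184981 : act 7 n40104 = n38996 := d32_2 (iv F180081) D40104 (iv D38996)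
theorem F184982 : act 9 n40104 = n38978 := d34_2 (iv F180082) D40104 (iv D38978)
def n40105 : Q := act 8 n38960
theorem D40105 : act 8 n38960 = n40105 := rfl
theorem F184983 : act 3 n40105 = n38961 := d28_1 D40105 (iv D38961) (iv F180080)
theorem F184984 : act 7 n40105 = n38997 := d42_1 D40105 (iv D38997) (iv F180081)
def n40106 : Q := act 5 n38961
theorem D40106 : act 5 n38961 = n40106 := rfl
theorem F184985 : act 2 n40106 = n38965 := d19_1 D40106 (iv D38965) (iv F180083)
theorem F184986 : act 7 n40106 = n38998 := d36_2 (iv F180084) D40106 (iv D38998)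
theorem F184987 : act 8 n40106 = n38962 := d37_2 D38961 D40106 (iv D38962) (iv D37697) D37696
def n40107 : Q := act 9 n38961
theorem D40107 : act 9 n38961 = n40107 := rfl
theorem F184988 : act 2 n40107 = n38966 := d23_1 D40107 (iv D38966) (iv F180083)
theorem F184989 : act 7 n40107 = n38999 := d43_1 D40107 (iv D38999) (iv F180084)
theorem F184990 : act 8 n40107 = n38982 := d44_1 D40107 (iv D38982) (iv D37716) (iv F174366) D38961
def n40108 : Q := act 4 n38962
theorem D40108 : act 4 n38962 = n40108 := rfl
theorem F184991 : act 2 n40108 = n38967 := d18_1 D40108 (iv D38967) (iv F180085)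
theorem F184992 : act 5 n40108 = n38964 := d30_2 D38962 D40108 (iv D38964) (iv D37699) (iv F174368)
theorem F184993 : act 7 n40108 = n39000 := d32_2 (iv F180086) D40108 (iv D39000)
def n40109 : Q := act 6 n38962
theorem D40109 : act 6 n38962 = n40109 := rfl
theorem F184994 : act 2 n40109 = n38968 := d20_1 D40109 (iv D38968) (iv F180085)
theorem F184995 : act 5 n40109 = n38963 := d35_1 D40109 (iv D38963) (iv D37698) (iv F174369) D38962
def n40110 : Q := act 4 n38965
theorem D40110 : act 4 n38965 = n40110 := rfl
theorem F184996 : act 7 n40110 = n39003 := d32_2 (iv F180092) D40110 (iv D39003)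
theorem F184997 : act 8 n40110 = n38967 := d33_2 (iv F180093) D40110 (iv D38967)
def n40111 : Q := act 6 n38965
theorem D40111 : act 6 n38965 = n40111 := rfl
theorem F184998 : act 8 n40111 = n38968 := d40_2 (iv F180093) D40111 (iv D38968)
def n40112 : Q := act 9 n38965
theorem D40112 : act 9 n38965 = n40112 := rfl
theorem F184999 : act 5 n40112 = n38966 := d38_1 D40112 (iv D38966) D38965
theorem F185000 : act 7 n40112 = n39005 := d43_1 D40112 (iv D39005) (iv F180092)
def n40113 : Q := act 3 n38967
theorem D40113 : act 3 n38967 = n40113 := rfl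
theorem F185001 : act 4 n40113 = n39031 := d24_2 D38967 D40113 F184366 (iv D39889) F179390
theorem F185002 : act 5 n40113 = n38974 := d25_2 (iv F180096) D40113 (iv D38974)
theorem F185003 : act 7 n40113 = n39006 := d27_2 (iv F180097) D40113 (iv D39006)
def n40114 : Q := act 6 n38967
theorem D40114 : act 6 n38967 = n40114 := rfl
theorem F185004 : act 4 n40114 = n38968 := d31_1 D40114 (iv D38968) D38967
theorem F185005 : act 5 n40114 = n40114 := d35_1 D40114 (iv D40114) F180096 F174401 (iv F180096)
def n40115 : Q := act 9 n38967
theorem D40115 : act 9 n38967 = n40115 := rfl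
theorem F185006 : act 4 n40115 = n38969 := d34_1 D40115 (iv D38969) D38967
theorem F185007 : act 5 n40115 = n38975 := d38_1 D40115 (iv D38975) (iv F180096)
theorem F185008 : act 7 n40115 = n39008 := d43_1 D40115 (iv D39008) (iv F180097)
def n40116 : Q := act 7 n38968
theorem D40116 : act 7 n38968 = n40116 := rfl
theorem F185009 : act 5 n40116 = n38970 := d36_1 D40116 (iv D38970) (iv F180098)
theorem F185010 : act 6 n40116 = n39009 := d39_1 D40116 (iv D39009) (iv D37743) (iv F174385) D38968
def n40117 : Q := act 9 n38968
theorem D40117 : act 9 n38968 = n40117 := rfl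
theorem F185011 : act 5 n40117 = n38971 := d38_1 D40117 (iv D38971) (iv F180098)
theorem F185012 : act 6 n40117 = n38969 := d41_1 D40117 (iv D38969) D38968
def n40118 : Q := act 8 n38969
theorem D40118 : act 8 n38969 = n40118 := rfl
theorem F185013 : act 5 n40118 = n38988 := d37_1 D40118 (iv D38988) F174437 (iv F174389) (iv F180099)
theorem F185014 : act 7 n40118 = n39011 := d42_1 D40118 (iv D39011) (iv F180100)
def n40119 : Q := act 9 n38970
theorem D40119 : act 9 n38970 = n40119 := rfl
theorem F185015 : act 4 n40119 = n40119 := d34_1 D40119 (iv D40119) F180101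
theorem F185016 : act 6 n40119 = n38973 := d41_1 D40119 (iv D38973) (iv F180102)
theorem F185017 : act 7 n40119 = n38971 := d43_1 D40119 (iv D38971) D38970
def n40120 : Q := act 8 n38971
theorem D40120 : act 8 n38971 = n40120 := rfl
theorem F185018 : act 4 n40120 = n40120 := d33_1 D40120 (iv D40120) F180103
theorem F185019 : act 6 n40120 = n38972 := d40_1 D40120 (iv D38972) (iv F180104)
def n40121 : Q := act 8 n38976
theorem D40121 : act 8 n38976 = n40121 := rfl
theorem F185020 : act 1 n40121 = n38979 := d15_1 D40121 (iv D38979) (iv F180118)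
theorem F185021 : act 3 n40121 = n38977 := d28_1 D40121 (iv D38977) (iv F180119)
theorem F185022 : act 7 n40121 = n39014 := d42_1 D40121 (iv D39014) (iv F180120)
def n40122 : Q := act 9 n38977
theorem D40122 : act 9 n38977 = n40122 := rfl
theorem F185023 : act 1 n40122 = n38982 := d16_1 D40122 (iv D38982) (iv F180121)
theorem F185024 : act 4 n40122 = n38985 := d34_1 D40122 (iv D38985) (iv F180122)
theorem F185025 : act 7 n40122 = n39015 := d43_1 D40122 (iv D39015) (iv F180123)
def n40123 : Q := act 8 n38978
theorem D40123 : act 8 n38978 = n40123 := rfl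
theorem F185026 : act 4 n40123 = n38979 := d33_1 D40123 (iv D38979) D38978
theorem F185027 : act 7 n40123 = n39016 := d42_1 D40123 (iv D39016) (iv F180125)
def n40124 : Q := act 5 n38979
theorem D40124 : act 5 n38979 = n40124 := rfl
theorem F185028 : act 3 n40124 = n38981 := d25_1 D40124 (iv D38981) (iv F180126)
theorem F185029 : act 7 n40124 = n39017 := d36_2 (iv F180127) D40124 (iv D39017)
theorem F185030 : act 8 n40124 = n38980 := d37_2 D38979 D40124 (iv D38980) (iv D37715) D37714
def n40125 : Q := act 9 n38979
theorem D40125 : act 9 n38979 = n40125 := rfl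
theorem F185031 : act 3 n40125 = n38982 := d29_1 D40125 (iv D38982) (iv F180126)
theorem F185032 : act 7 n40125 = n39018 := d43_1 D40125 (iv D39018) (iv F180127)
def n40126 : Q := act 9 n38981
theorem D40126 : act 9 n38981 = n40126 := rfl
theorem F185033 : act 2 n40126 = n38985 := d23_1 D40126 (iv D38985) (iv F180130)
theorem F185034 : act 5 n40126 = n38982 := d38_1 D40126 (iv D38982) D38981
theorem F185035 : act 7 n40126 = n39024 := d43_1 D40126 (iv D39024) (iv F180131)
def n40127 : Q := act 8 n38983
theorem D40127 : act 8 n38983 = n40127 := rfl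
theorem F185036 : act 1 n40127 = n38990 := d15_1 D40127 (iv D38990) (iv F180135)
theorem F185037 : act 2 n40127 = n38988 := d22_1 D40127 (iv D38988) (iv F180136)
theorem F185038 : act 7 n40127 = n39026 := d42_1 D40127 (iv D39026) (iv F180138)
def n40128 : Q := act 7 n38984
theorem D40128 : act 7 n38984 = n40128 := rfl
theorem F185039 : act 6 n40128 = n39027 := d39_1 D40128 (iv D39027) (iv D37764) (iv F174433) D38984
theorem F185040 : act 8 n40128 = n38986 := d42_2 (iv F180139) D40128 (iv D38986)
def n40129 : Q := act 9 n38984
theorem D40129 : act 9 n38984 = n40129 := rfl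
theorem F185041 : act 6 n40129 = n38985 := d41_1 D40129 (iv D38985) D38984
def n40130 : Q := act 8 n38985
theorem D40130 : act 8 n38985 = n40130 := rfl
theorem F185042 : act 7 n40130 = n39029 := d42_1 D40130 (iv D39029) (iv F180141)
theorem F185043 : act 9 n40130 = n38988 := d44_2 D38985 D40130 (iv D38988) (iv D37722) (iv F174434)
def n40131 : Q := act 8 n38987
theorem D40131 : act 8 n38987 = n40131 := rfl
theorem F185044 : act 6 n40131 = n38988 := d40_1 D40131 (iv D38988) (iv F180145)
def n40132 : Q := act 5 n38989
theorem D40132 : act 5 n38989 = n40132 := rfl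
def n40133 : Q := act 9 n38990
theorem D40133 : act 9 n38990 = n40133 := rfl
theorem F185045 : act 2 n40133 = n38992 := d23_1 D40133 (iv D38992) (iv F180149)
def n40134 : Q := act 9 n38995
theorem D40134 : act 9 n38995 = n40134 := rfl
theorem F185046 : act 1 n40134 = n38999 := d16_1 D40134 (iv D38999) (iv F180158)
theorem F185047 : act 4 n40134 = n39029 := d34_1 D40134 F180217 (iv F180159)
theorem F185048 : act 8 n40134 = n39015 := d44_1 D40134 (iv D39015) (iv D37752) (iv F174460) D38995
def n40135 : Q := act 8 n38996
theorem D40135 : act 8 n38996 = n40135 := rfl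
theorem F185049 : act 4 n40135 = n38997 := d33_1 D40135 (iv D38997) D38996
def n40136 : Q := act 9 n38997
theorem D40136 : act 9 n38997 = n40136 := rfl
theorem F185050 : act 3 n40136 = n38999 := d29_1 D40136 (iv D38999) (iv F180162)
theorem F185051 : act 8 n40136 = n39018 := d44_1 D40136 (iv D39018) (iv D37754) (iv F174462) D38997
def n40137 : Q := act 4 n38998
theorem D40137 : act 4 n38998 = n40137 := rfl
theorem F185052 : act 2 n40137 = n39003 := d18_1 D40137 (iv D39003) (iv F180163)
theorem F185053 : act 8 n40137 = n39000 := d33_2 (iv F180164) D40137 (iv D39000)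
def n40138 : Q := act 9 n38998
theorem D40138 : act 9 n38998 = n40138 := rfl
theorem F185054 : act 2 n40138 = n39005 := d23_1 D40138 (iv D39005) (iv F180163)
theorem F185055 : act 5 n40138 = n38999 := d38_1 D40138 (iv D38999) D38998
def n40139 : Q := act 9 n39000
theorem D40139 : act 9 n39000 = n40139 := rfl
theorem F185056 : act 2 n40139 = n39008 := d23_1 D40139 (iv D39008) (iv F180167)
theorem F185057 : act 4 n40139 = n39001 := d34_1 D40139 (iv D39001) D39000
theorem F185058 : act 5 n40139 = n39002 := d38_1 D40139 (iv D39002) (iv F180168)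
def n40140 : Q := act 8 n39001
theorem D40140 : act 8 n39001 = n40140 := rfl
theorem F185059 : act 2 n40140 = n39011 := d22_1 D40140 (iv D39011) (iv F180169)
theorem F185060 : act 5 n40140 = n39026 := d37_1 D40140 (iv D39026) F174513 (iv F174468) (iv F180170)
def n40141 : Q := act 3 n39003
theorem D40141 : act 3 n39003 = n40141 := rfl
theorem F185061 : act 8 n40141 = n39006 := d28_2 (iv F180174) D40141 (iv D39006)
def n40142 : Q := act 6 n39003
theorem D40142 : act 6 n39003 = n40142 := rfl
theorem F185062 : act 4 n40142 = n39004 := d31_1 D40142 (iv D39004) D39003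
theorem F185063 : act 8 n40142 = n39007 := d40_2 (iv F180174) D40142 (iv D39007)
def n40143 : Q := act 9 n39003
theorem D40143 : act 9 n39003 = n40143 := rfl
theorem F185064 : act 4 n40143 = n39005 := d34_1 D40143 (iv D39005) D39003
def n40144 : Q := act 7 n39004
theorem D40144 : act 7 n39004 = n40144 := rfl
theorem F185065 : act 8 n40144 = n39009 := d42_2 (iv F180175) D40144 (iv D39009)
def n40145 : Q := act 9 n39004
theorem D40145 : act 9 n39004 = n40145 := rfl
theorem F185066 : act 6 n40145 = n39005 := d41_1 D40145 (iv D39005) D39004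
def n40146 : Q := act 8 n39005
theorem D40146 : act 8 n39005 = n40146 := rfl
theorem F185067 : act 5 n40146 = n39029 := d37_1 D40146 (iv D39029) F174518 (iv F174476) (iv F180176)
theorem F185068 : act 9 n40146 = n39011 := d44_2 D39005 D40146 (iv D39011) (iv D37744) (iv F174475)
def n40147 : Q := act 2 n39006
theorem D40147 : act 2 n39006 = n40147 := rfl
theorem F185069 : act 5 n40147 = n39013 := d19_2 (iv F180177) D40147 (iv D39013)
theorem F185070 : act 9 n40147 = n39031 := d23_2 F184850 D40147 (iv F184848)
def n40148 : Q := act 6 n39006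
theorem D40148 : act 6 n39006 = n40148 := rfl
theorem F185071 : act 3 n40148 = n39007 := d26_1 D40148 (iv D39007) D39006
theorem F185072 : act 5 n40148 = n39040 := d35_1 D40148 (iv D39040) F174559 (iv F174487) (iv F180177)
def n40149 : Q := act 7 n39007
theorem D40149 : act 7 n39007 = n40149 := rfl
theorem F185073 : act 4 n40149 = n39009 := d32_1 D40149 (iv D39009) (iv F180178)
theorem F185074 : act 5 n40149 = n39041 := d36_1 D40149 (iv D39041) (iv F180179)
def n40150 : Q := act 9 n39007
theorem D40150 : act 9 n39007 = n40150 := rfl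
theorem F185075 : act 4 n40150 = n39010 := d34_1 D40150 (iv D39010) (iv F180178)
theorem F185076 : act 5 n40150 = n39042 := d38_1 D40150 (iv D39042) (iv F180179)
theorem F185077 : act 6 n40150 = n39008 := d41_1 D40150 (iv D39008) D39007
def n40151 : Q := act 8 n39008
theorem D40151 : act 8 n39008 = n40151 := rfl
theorem F185078 : act 4 n40151 = n39011 := d33_1 D40151 (iv D39011) (iv F180180)
def n40152 : Q := act 9 n39009
theorem D40152 : act 9 n39009 = n40152 := rfl
theorem F185079 : act 5 n40152 = n39012 := d38_1 D40152 (iv D39012) (iv F180182)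
theorem F185080 : act 7 n40152 = n39010 := d43_1 D40152 (iv D39010) D39009
def n40153 : Q := act 8 n39010
theorem D40153 : act 8 n39010 = n40153 := rfl
theorem F185081 : act 6 n40153 = n39011 := d40_1 D40153 (iv D39011) (iv F180184)
def n40154 : Q := act 9 n39014
theorem D40154 : act 9 n39014 = n40154 := rfl
theorem F185082 : act 1 n40154 = n39018 := d16_1 D40154 (iv D39018) (iv F180192)
theorem F185083 : act 3 n40154 = n39015 := d29_1 D40154 (iv D39015) (iv F180193)
def n40155 : Q := act 5 n39016
theorem D40155 : act 5 n39016 = n40155 := rfl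
theorem F185084 : act 8 n40155 = n39031 := d37_2 D39016 D40155 (iv D39031) (iv D37771) (iv F174497)
def n40156 : Q := act 9 n39016
theorem D40156 : act 9 n39016 = n40156 := rfl
theorem F185085 : act 4 n40156 = n39018 := d34_1 D40156 (iv D39018) (iv F180196)
def n40157 : Q := act 4 n39017
theorem D40157 : act 4 n39017 = n40157 := rfl
theorem F185086 : act 8 n40157 = n39019 := d33_2 (iv F180198) D40157 (iv D39019)
def n40158 : Q := act 6 n39017
theorem D40158 : act 6 n39017 = n40158 := rfl
theorem F185087 : act 3 n40158 = n39023 := d26_1 D40158 (iv D39023) (iv F180197)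
theorem F185088 : act 8 n40158 = n39020 := d40_2 (iv F180198) D40158 (iv D39020)
def n40159 : Q := act 9 n39017
theorem D40159 : act 9 n39017 = n40159 := rfl
theorem F185089 : act 3 n40159 = n39024 := d29_1 D40159 (iv D39024) (iv F180197)
theorem F185090 : act 5 n40159 = n39018 := d38_1 D40159 (iv D39018) D39017
def n40160 : Q := act 6 n39019
theorem D40160 : act 6 n39019 = n40160 := rfl
theorem F185091 : act 4 n40160 = n39020 := d31_1 D40160 (iv D39020) D39019
theorem F185092 : act 5 n40160 = n40160 := d35_1 D40160 (iv D40160) F180200 F174530 (iv F180200)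
def n40161 : Q := act 9 n39019
theorem D40161 : act 9 n39019 = n40161 := rfl
theorem F185093 : act 4 n40161 = n39021 := d34_1 D40161 (iv D39021) D39019
theorem F185094 : act 5 n40161 = n39032 := d38_1 D40161 (iv D39032) (iv F180200)
def n40162 : Q := act 7 n39020
theorem D40162 : act 7 n39020 = n40162 := rfl
theorem F185095 : act 3 n40162 = n39025 := d27_1 D40162 (iv D39025) (iv F180201)
theorem F185096 : act 5 n40162 = n39022 := d36_1 D40162 (iv D39022) (iv F180202)
def n40163 : Q := act 8 n39021
theorem D40163 : act 8 n39021 = n40163 := rfl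
theorem F185097 : act 3 n40163 = n39026 := d28_1 D40163 (iv D39026) (iv F180203)
def n40164 : Q := act 7 n39023
theorem D40164 : act 7 n39023 = n40164 := rfl
theorem F185098 : act 2 n40164 = n39027 := d21_1 D40164 (iv D39027) (iv F180208)
theorem F185099 : act 8 n40164 = n39025 := d42_2 (iv F180209) D40164 (iv D39025)
def n40165 : Q := act 9 n39023
theorem D40165 : act 9 n39023 = n40165 := rfl
theorem F185100 : act 2 n40165 = n39028 := d23_1 D40165 (iv D39028) (iv F180208)
theorem F185101 : act 6 n40165 = n39024 := d41_1 D40165 (iv D39024) D39023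
def n40166 : Q := act 8 n39024
theorem D40166 : act 8 n39024 = n40166 := rfl
theorem F185102 : act 2 n40166 = n39029 := d22_1 D40166 (iv D39029) (iv F180210)
theorem F185103 : act 9 n40166 = n39026 := d44_2 D39024 D40166 (iv D39026) (iv D37762) (iv F174508)
def n40167 : Q := act 9 n39027
theorem D40167 : act 9 n39027 = n40167 := rfl
theorem F185104 : act 7 n40167 = n39028 := d43_1 D40167 (iv D39028) D39027
def n40168 : Q := act 6 n39031
theorem D40168 : act 6 n39031 = n40168 := rfl
theorem F185105 : act 5 n40168 = n39033 := d35_1 D40168 (iv D39033) (iv D37774) (iv F174529) D39031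
def n40169 : Q := act 7 n39033
theorem D40169 : act 7 n39033 = n40169 := rfl
theorem F185106 : act 4 n40169 = n40169 := d32_1 D40169 (iv D40169) F180223
theorem F185107 : act 6 n40169 = n40169 := d39_1 D40169 (iv D40169) (iv D39033) F174535 D39033
def n40170 : Q := act 9 n39033
theorem D40170 : act 9 n39033 = n40170 := rfl
theorem F185108 : act 2 n40170 = n39040 := d23_1 D40170 (iv F184854) F184851
theorem F185109 : act 4 n40170 = n40170 := d34_1 D40170 (iv D40170) F180223
theorem F185110 : act 6 n40170 = n39034 := d41_1 D40170 (iv D39034) D39033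
def n40171 : Q := act 8 n39034
theorem D40171 : act 8 n39034 = n40171 := rfl
theorem F185111 : act 2 n40171 = n39038 := d22_1 D40171 F180240 (iv F180224)
theorem F185112 : act 4 n40171 = n40171 := d33_1 D40171 (iv D40171) F180225
theorem F185113 : act 7 n40171 = n40171 := d42_1 D40171 (iv D40171) F180227
def n40172 : Q := act 6 n39035
theorem D40172 : act 6 n39035 = n40172 := rfl
theorem F185114 : act 1 n40172 = n39040 := d13_1 D40172 (iv D39040) (iv F180228)
theorem F185115 : act 3 n40172 = n39036 := d26_1 D40172 (iv D39036) D39035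
theorem F185116 : act 4 n40172 = n40172 := d31_1 D40172 (iv D40172) F180229
def n40173 : Q := act 7 n39036
theorem D40173 : act 7 n39036 = n40173 := rfl
theorem F185117 : act 1 n40173 = n39041 := d14_1 D40173 (iv D39041) (iv F180232)
theorem F185118 : act 4 n40173 = n39037 := d32_1 D40173 (iv D39037) (iv F180233)
theorem F185119 : act 6 n40173 = n40173 := d39_1 D40173 (iv D40173) (iv D39036) F174541 D39036
def n40174 : Q := act 6 n39038
theorem D40174 : act 6 n39038 = n40174 := rfl
theorem F185120 : act 3 n40174 = n39039 := d26_1 D40174 (iv D39039) D39038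
theorem F185121 : act 4 n40174 = n40174 := d31_1 D40174 (iv D40174) F180238
theorem F185122 : act 8 n40174 = n39040 := d40_2 (iv F180240) D40174 (iv D39040)
def n40175 : Q := act 5 n39039
theorem D40175 : act 5 n39039 = n40175 := rfl
def n40176 : Q := act 7 n39040
theorem D40176 : act 7 n39040 = n40176 := rfl
theorem F185123 : act 3 n40176 = n39041 := d27_1 D40176 (iv D39041) (iv F180243)
theorem F185124 : act 4 n40176 = n40176 := d32_1 D40176 (iv D40176) F180244
theorem F185125 : act 6 n40176 = n40176 := d39_1 D40176 (iv D40176) (iv D39040) F174560 D39040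
def n40177 : Q := act 9 n39041
theorem D40177 : act 9 n39041 = n40177 := rfl
theorem F185126 : act 4 n40177 = n39043 := d34_1 D40177 (iv D39043) (iv F180245)
theorem F185127 : act 6 n40177 = n40177 := d41_1 D40177 (iv D40177) F180246
theorem F185128 : act 7 n40177 = n39042 := d43_1 D40177 (iv D39042) D39041
def n40178 : Q := act 2 n39044
theorem D40178 : act 2 n39044 = n40178 := rfl
theorem F185129 : act 3 n40178 = n39055 := d17_2 D39044 D40178 (iv D39055) (iv D37798) (iv F174574)
theorem F185130 : act 4 n40178 = n40178 := d18_2 F180253 D40178 (iv D40178)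
theorem F185131 : act 7 n40178 = n40178 := d21_2 F180254 D40178 (iv D40178)
def n40179 : Q := act 9 n39044
theorem D40179 : act 9 n39044 = n40179 := rfl
theorem F185132 : act 3 n40179 = n39045 := d29_1 D40179 (iv D39045) D39044
theorem F185133 : act 4 n40179 = n40179 := d34_1 D40179 (iv D40179) F180253
theorem F185134 : act 5 n40179 = n39057 := d38_1 D40179 (iv F181368) F181366
theorem F185135 : act 7 n40179 = n40179 := d43_1 D40179 (iv D40179) F180254
def n40180 : Q := act 8 n39045
theorem D40180 : act 8 n39045 = n40180 := rfl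
theorem F185136 : act 1 n40180 = n39055 := d15_1 D40180 (iv F181360) F181356
theorem F185137 : act 2 n40180 = n39057 := d22_1 D40180 (iv D39057) (iv F180255)
theorem F185138 : act 4 n40180 = n39046 := d33_1 D40180 (iv D39046) (iv F180256)
theorem F185139 : act 7 n40180 = n40180 := d42_1 D40180 (iv D40180) F180257
def n40181 : Q := act 2 n39047
theorem D40181 : act 2 n39047 = n40181 := rfl
theorem F185140 : act 4 n40181 = n40181 := d18_2 F180263 D40181 (iv D40181)
theorem F185141 : act 5 n40181 = n39055 := d19_2 (iv F180264) D40181 (iv D39055)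
theorem F185142 : act 7 n40181 = n40181 := d21_2 F180265 D40181 (iv D40181)
def n40182 : Q := act 6 n39047
theorem D40182 : act 6 n39047 = n40182 := rfl
theorem F185143 : act 3 n40182 = n39048 := d26_1 D40182 (iv D39048) D39047
theorem F185144 : act 4 n40182 = n40182 := d31_1 D40182 (iv D40182) F180263
def n40183 : Q := act 9 n39047
theorem D40183 : act 9 n39047 = n40183 := rfl
theorem F185145 : act 3 n40183 = n39049 := d29_1 D40183 (iv D39049) D39047
theorem F185146 : act 4 n40183 = n40183 := d34_1 D40183 (iv D40183) F180263
theorem F185147 : act 5 n40183 = n39056 := d38_1 D40183 (iv D39056) (iv F180264)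
theorem F185148 : act 7 n40183 = n40183 := d43_1 D40183 (iv D40183) F180265
def n40184 : Q := act 7 n39048
theorem D40184 : act 7 n39048 = n40184 := rfl
theorem F185149 : act 4 n40184 = n39050 := d32_1 D40184 (iv D39050) (iv F180266)
theorem F185150 : act 6 n40184 = n40184 := d39_1 D40184 (iv D40184) (iv D39048) F174581 D39048
def n40185 : Q := act 9 n39048
theorem D40185 : act 9 n39048 = n40185 := rfl
theorem F185151 : act 4 n40185 = n39051 := d34_1 D40185 (iv D39051) (iv F180266)
theorem F185152 : act 6 n40185 = n39049 := d41_1 D40185 (iv D39049) D39048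
def n40186 : Q := act 8 n39049
theorem D40186 : act 8 n39049 = n40186 := rfl
theorem F185153 : act 2 n40186 = n39056 := d22_1 D40186 (iv F182358) F182353
theorem F185154 : act 4 n40186 = n39052 := d33_1 D40186 (iv D39052) (iv F180267)
theorem F185155 : act 7 n40186 = n40186 := d42_1 D40186 (iv D40186) F180269
theorem F185156 : act 9 n40186 = n39055 := d44_2 D39049 D40186 (iv F181360) F181361 F176888
def n40187 : Q := act 9 n39050
theorem D40187 : act 9 n39050 = n40187 := rfl
theorem F185157 : act 3 n40187 = n40187 := d29_1 D40187 (iv D40187) F180270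
theorem F185158 : act 5 n40187 = n39053 := d38_1 D40187 (iv D39053) (iv F180271)
theorem F185159 : act 6 n40187 = n40187 := d41_1 D40187 (iv D40187) F180272
theorem F185160 : act 7 n40187 = n39051 := d43_1 D40187 (iv D39051) D39050
def n40188 : Q := act 4 n39058
theorem D40188 : act 4 n39058 = n40188 := rfl
theorem F185161 : act 6 n40188 = n40188 := d31_2 F180295 D40188 (iv D40188)
def n40189 : Q := act 4 n39059
theorem D40189 : act 4 n39059 = n40189 := rfl
theorem F185162 : act 0 n40189 = n39727 := d3_1 D40189 (iv D39727) (iv F180296)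
theorem F185163 : act 1 n40189 = n39142 := d11_1 D40189 F180822 (iv F180297)
theorem F185164 : act 2 n40189 = n39128 := d18_1 D40189 (iv D39128) (iv F180298)
theorem F185165 : act 3 n40189 = n39087 := d24_1 D40189 (iv D39087) F174857 (iv F174625) (iv F180299)
theorem F185166 : act 5 n40189 = n39070 := d30_2 D39059 D40189 (iv D39070) (iv D37817) (iv F174618)
theorem F185167 : act 6 n40189 = n39372 := d31_2 (iv F180300) D40189 (iv D39372)
theorem F185168 : act 7 n40189 = n40052 := d32_2 (iv F180301) D40189 (iv D40052)
theorem F185169 : act 9 n40189 = n39914 := d34_2 (iv F180302) D40189 (iv D39914)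
def n40190 : Q := act 8 n39059
theorem D40190 : act 8 n39059 = n40190 := rfl
theorem F185170 : act 0 n40190 = n39728 := d7_1 D40190 (iv D39728) (iv F180296)
theorem F185171 : act 1 n40190 = n40124 := d15_1 D40190 F185030 (iv F180297)
theorem F185172 : act 2 n40190 = n39129 := d22_1 D40190 (iv D39129) (iv F180298)
theorem F185173 : act 3 n40190 = n39060 := d28_1 D40190 (iv D39060) (iv F180299)
theorem F185174 : act 5 n40190 = n40121 := d37_1 D40190 (iv D40121) (iv D38976) (iv F174620) D39059
theorem F185175 : act 6 n40190 = n39373 := d40_1 D40190 (iv D39373) (iv F180300)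
theorem F185176 : act 7 n40190 = n40053 := d42_1 D40190 (iv D40053) (iv F180301)
def n40191 : Q := act 9 n39060
theorem D40191 : act 9 n39060 = n40191 := rfl
theorem F185177 : act 0 n40191 = n39729 := d8_1 D40191 (iv D39729) (iv F180303)
theorem F185178 : act 1 n40191 = n40126 := d16_1 D40191 (iv D40126) (iv F180304)
theorem F185179 : act 2 n40191 = n39062 := d23_1 D40191 (iv D39062) (iv F180305)
theorem F185180 : act 4 n40191 = n40050 := d34_1 D40191 (iv D40050) (iv F180306)
theorem F185181 : act 5 n40191 = n40122 := d38_1 D40191 (iv D40122) (iv F180307)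
theorem F185182 : act 6 n40191 = n39380 := d41_1 D40191 (iv D39380) (iv F180308)
theorem F185183 : act 7 n40191 = n40054 := d43_1 D40191 (iv D40054) (iv F180309)
theorem F185184 : act 8 n40191 = n40133 := d44_1 D40191 (iv D40133) (iv D38990) (iv F174628) D39060
def n40192 : Q := act 6 n39061
theorem D40192 : act 6 n39061 = n40192 := rfl
theorem F185185 : act 0 n40192 = n39730 := d5_1 D40192 (iv D39730) (iv F180310)
theorem F185186 : act 1 n40192 = n39318 := d13_1 D40192 F181929 (iv F180311)
theorem F185187 : act 2 n40192 = n40076 := d20_1 D40192 F184922 (iv F180312)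
theorem F185188 : act 3 n40192 = n39140 := d26_1 D40192 (iv D39140) (iv F180313)
theorem F185189 : act 4 n40192 = n39367 := d31_1 D40192 F182189 (iv F180314)
theorem F185190 : act 5 n40192 = n39391 := d35_1 D40192 (iv D39391) (iv D38156) (iv F174633) D39061
theorem F185191 : act 8 n40192 = n39063 := d40_2 (iv F180316) D40192 (iv D39063)
def n40193 : Q := act 9 n39061
theorem D40193 : act 9 n39061 = n40193 := rfl
theorem F185192 : act 0 n40193 = n39731 := d8_1 D40193 (iv D39731) (iv F180310)
theorem F185193 : act 1 n40193 = n40050 := d16_1 D40193 (iv D40050) (iv F180311)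
theorem F185194 : act 2 n40193 = n40122 := d23_1 D40193 (iv D40122) (iv F180312)
theorem F185195 : act 3 n40193 = n39141 := d29_1 D40193 (iv D39141) (iv F180313)
theorem F185196 : act 4 n40193 = n40126 := d34_1 D40193 (iv D40126) (iv F180314)
theorem F185197 : act 5 n40193 = n39062 := d38_1 D40193 (iv D39062) D39061
theorem F185198 : act 7 n40193 = n40055 := d43_1 D40193 (iv D40055) (iv F180315)
def n40194 : Q := act 7 n39063
theorem D40194 : act 7 n39063 = n40194 := rfl
theorem F185199 : act 0 n40194 = n39732 := d6_1 D40194 (iv D39732) (iv F180324)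
theorem F185200 : act 1 n40194 = n39246 := d14_1 D40194 F181480 (iv F180325)
theorem F185201 : act 2 n40194 = n39766 := d21_1 D40194 F183987 (iv F180326)
theorem F185202 : act 3 n40194 = n39145 := d27_1 D40194 (iv D39145) (iv F180327)
theorem F185203 : act 4 n40194 = n39278 := d32_1 D40194 F181699 (iv F180328)
theorem F185204 : act 5 n40194 = n39065 := d36_1 D40194 (iv D39065) (iv F180329)
theorem F185205 : act 6 n40194 = n39745 := d39_1 D40194 F183931 F178947 (iv F174640) D39063
theorem F185206 : act 9 n39873 = n40194 := d38_0 F185204 (iv F180344) D39873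
def n40195 : Q := act 9 n39063
theorem D40195 : act 9 n39063 = n40195 := rfl
theorem F185207 : act 0 n40195 = n39733 := d8_1 D40195 (iv D39733) (iv F180324)
theorem F185208 : act 1 n40195 = n39313 := d16_1 D40195 F181900 (iv F180325)
theorem F185209 : act 2 n40195 = n40068 := d23_1 D40195 F184906 (iv F180326)
theorem F185210 : act 3 n40195 = n39146 := d29_1 D40195 (iv D39146) (iv F180327)
theorem F185211 : act 4 n40195 = n39330 := d34_1 D40195 F181993 (iv F180328)
theorem F185212 : act 5 n40195 = n39066 := d38_1 D40195 (iv D39066) (iv F180329)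
theorem F185213 : act 6 n40195 = n39064 := d41_1 D40195 (iv D39064) D39063
theorem F185214 : act 7 n40195 = n39873 := d43_1 D40195 F185206 (iv D40194)
def n40196 : Q := act 8 n39064
theorem D40196 : act 8 n39064 = n40196 := rfl
theorem F185215 : act 0 n40196 = n39734 := d7_1 D40196 (iv D39734) (iv F180330)
theorem F185216 : act 1 n40196 = n39961 := d15_1 D40196 (iv D39961) (iv F180331)
theorem F185217 : act 2 n40196 = n40103 := d22_1 D40196 (iv D40103) (iv F180332)
theorem F185218 : act 3 n40196 = n39147 := d28_1 D40196 (iv D39147) (iv F180333)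
theorem F185219 : act 4 n40196 = n40127 := d33_1 D40196 (iv D40127) (iv F180334)
theorem F185220 : act 5 n40196 = n40058 := d37_1 D40196 (iv D40058) (iv D38915) (iv F174648) (iv F180335)
theorem F185221 : act 7 n40196 = n40056 := d42_1 D40196 (iv D40056) (iv F180336)
def n40197 : Q := act 8 n39066
theorem D40197 : act 8 n39066 = n40197 := rfl
theorem F185222 : act 0 n40197 = n39641 := d7_1 D40197 F183470 (iv F180345)
theorem F185223 : act 1 n40197 = n39072 := d15_1 D40197 F180395 (iv F180346)
theorem F185224 : act 2 n40197 = n39892 := d22_1 D40197 F184379 (iv F180347)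
theorem F185225 : act 3 n40197 = n39071 := d28_1 D40197 F180388 (iv F180348)
theorem F185226 : act 4 n40197 = n39068 := d33_1 D40197 (iv D39068) (iv F180349)
theorem F185227 : act 6 n40197 = n39067 := d40_1 D40197 (iv D39067) (iv F180350)
theorem F185228 : act 7 n40197 = n39594 := d42_1 D40197 F183280 (iv F180351)
theorem F185229 : act 9 n40197 = n39400 := d44_2 D39066 D40197 (iv D39400) (iv D38162) (iv F174654)
def n40198 : Q := act 5 n39068
theorem D40198 : act 5 n39068 = n40198 := rfl
theorem F185230 : act 0 n40198 = n39677 := d4_1 D40198 F183609 (iv F180360)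
theorem F185231 : act 1 n40198 = n39314 := d12_1 D40198 (iv D39314) (iv F180361)
theorem F185232 : act 2 n40198 = n39918 := d19_1 D40198 F184481 (iv F180362)
theorem F185233 : act 3 n40198 = n39069 := d25_1 D40198 (iv D39069) (iv F180363)
theorem F185234 : act 6 n40198 = n40198 := d35_2 (iv F180364) D40198 (iv D40198) F180364 F174697
theorem F185235 : act 7 n40198 = n39670 := d36_2 (iv F180365) D40198 (iv D39670)
theorem F185236 : act 8 n40198 = n39333 := d37_2 D39068 D40198 (iv D39333) (iv D38101) (iv F174690)
theorem F185237 : act 9 n40198 = n39410 := d38_2 (iv F180366) D40198 (iv D39410)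
def n40199 : Q := act 5 n39071
theorem D40199 : act 5 n39071 = n40199 := rfl
theorem F185238 : act 0 n40199 = n39646 := d4_1 D40199 F183483 (iv F180383)
theorem F185239 : act 1 n40199 = n39073 := d12_1 D40199 (iv D39073) (iv F180384)
theorem F185240 : act 2 n40199 = n39494 := d19_1 D40199 F182880 (iv F180385)
theorem F185241 : act 4 n40199 = n39495 := d30_1 D40199 F182882 F177692 (iv F174734) (iv F180386)
theorem F185242 : act 6 n40199 = n39450 := d35_2 D39071 D40199 (iv D39450) (iv D38258) (iv F174727)
theorem F185243 : act 7 n40199 = n39595 := d36_2 (iv F180387) D40199 (iv D39595)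
theorem F185244 : act 9 n40199 = n39493 := d38_2 (iv F180389) D40199 F182877
def n40200 : Q := act 5 n39072
theorem D40200 : act 5 n39072 = n40200 := rfl
theorem F185245 : act 0 n40200 = n39081 := d4_1 D40200 (iv D39081) (iv F180390)
theorem F185246 : act 2 n40200 = n39316 := d19_1 D40200 (iv D39316) (iv F180391)
theorem F185247 : act 3 n40200 = n39073 := d25_1 D40200 (iv D39073) (iv F180392)
theorem F185248 : act 6 n40200 = n39451 := d35_2 D39072 D40200 (iv D39451) (iv D38259) (iv F174742)
theorem F185249 : act 7 n40200 = n39596 := d36_2 (iv F180394) D40200 (iv D39596)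
theorem F185250 : act 9 n40200 = n39613 := d38_2 (iv F180396) D40200 F183353
def n40201 : Q := act 8 n39073
theorem D40201 : act 8 n39073 = n40201 := rfl
theorem F185251 : act 0 n40201 = n39082 := d7_1 D40201 (iv D39082) (iv F180397)
theorem F185252 : act 2 n40201 = n39075 := d22_1 D40201 (iv D39075) (iv F180398)
theorem F185253 : act 4 n40201 = n39614 := d33_1 D40201 (iv D39614) (iv F180399)
theorem F185254 : act 6 n40201 = n39452 := d40_1 D40201 (iv D39452) (iv F180400)
theorem F185255 : act 7 n40201 = n39597 := d42_1 D40201 (iv D39597) (iv F180401)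
def n40202 : Q := act 5 n39074
theorem D40202 : act 5 n39074 = n40202 := rfl
theorem F185256 : act 0 n40202 = n39083 := d4_1 D40202 (iv D39083) (iv F180403)
theorem F185257 : act 1 n40202 = n39146 := d12_1 D40202 F180836 (iv F180404)
theorem F185258 : act 2 n40202 = n39076 := d19_1 D40202 (iv D39076) (iv F180405)
theorem F185259 : act 3 n40202 = n39313 := d25_1 D40202 (iv D39313) (iv F180406)
theorem F185260 : act 4 n40202 = n39846 := d30_1 D40202 (iv D39846) F179179 (iv F174762) (iv F180407)
theorem F185261 : act 6 n40202 = n39089 := d35_2 (iv F180408) D40202 F180497 F174863 (iv F174755)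
theorem F185262 : act 7 n40202 = n39598 := d36_2 (iv F180409) D40202 (iv D39598)
theorem F185263 : act 9 n40202 = n39088 := d38_2 (iv F180410) D40202 F180493
def n40203 : Q := act 5 n39075
theorem D40203 : act 5 n39075 = n40203 := rfl
theorem F185264 : act 0 n40203 = n39085 := d4_1 D40203 (iv D39085) (iv F180411)
theorem F185265 : act 1 n40203 = n39740 := d12_1 D40203 (iv D39740) (iv F180412)
theorem F185266 : act 3 n40203 = n39554 := d25_1 D40203 (iv D39554) (iv F180413)
theorem F185267 : act 6 n40203 = n39970 := d35_2 (iv F180415) D40203 F184651 F182674 (iv D39454)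
theorem F185268 : act 7 n40203 = n39600 := d36_2 (iv F180416) D40203 (iv D39600)
theorem F185269 : act 8 n40203 = n39076 := d37_2 D39075 D40203 (iv D39076) (iv D37826) D37825
def n40204 : Q := act 9 n39075
theorem D40204 : act 9 n39075 = n40204 := rfl
theorem F185270 : act 0 n40204 = n39086 := d8_1 D40204 (iv D39086) (iv F180411)
theorem F185271 : act 1 n40204 = n39741 := d16_1 D40204 (iv D39741) (iv F180412)
theorem F185272 : act 3 n40204 = n39555 := d29_1 D40204 (iv D39555) (iv F180413)
theorem F185273 : act 4 n40204 = n40049 := d34_1 D40204 (iv D40049) (iv F180414)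
theorem F185274 : act 6 n40204 = n39455 := d41_1 D40204 (iv D39455) (iv F180415)
theorem F185275 : act 7 n40204 = n39601 := d43_1 D40204 (iv D39601) (iv F180416)
theorem F185276 : act 8 n40204 = n39722 := d44_1 D40204 (iv D39722) (iv D38561) (iv F174772) D39075
def n40205 : Q := act 4 n39076
theorem D40205 : act 4 n39076 = n40205 := rfl
theorem F185277 : act 0 n40205 = n39087 := d3_1 D40205 (iv D39087) (iv F180417)
theorem F185278 : act 1 n40205 = n39742 := d11_1 D40205 (iv D39742) (iv F180418)
theorem F185279 : act 2 n40205 = n39846 := d18_1 D40205 (iv F185260) F185258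
theorem F185280 : act 3 n40205 = n39727 := d24_1 D40205 (iv D39727) F178842 (iv F177948) (iv F180419)
theorem F185281 : act 5 n40205 = n39078 := d30_2 D39076 D40205 (iv D39078) (iv D37828) (iv F174776)
theorem F185282 : act 6 n40205 = n39969 := d31_2 (iv F180420) D40205 (iv D39969)
theorem F185283 : act 7 n40205 = n39602 := d32_2 (iv F180421) D40205 (iv D39602)
def n40206 : Q := act 9 n39076
theorem D40206 : act 9 n39076 = n40206 := rfl
theorem F185284 : act 0 n40206 = n39089 := d8_1 D40206 (iv D39089) (iv F180417)
theorem F185285 : act 1 n40206 = n39743 := d16_1 D40206 (iv D39743) (iv F180418)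
theorem F185286 : act 2 n40206 = n39088 := d23_1 D40206 (iv F185263) F185258
theorem F185287 : act 3 n40206 = n39308 := d29_1 D40206 F181867 (iv F180419)
theorem F185288 : act 5 n40206 = n39077 := d38_1 D40206 (iv D39077) D39076
theorem F185289 : act 6 n40206 = n39083 := d41_1 D40206 F180468 (iv F180420)
theorem F185290 : act 7 n40206 = n39604 := d43_1 D40206 (iv D39604) (iv F180421)
def n40207 : Q := act 9 n39078
theorem D40207 : act 9 n39078 = n40207 := rfl
theorem F185291 : act 0 n40207 = n39091 := d8_1 D40207 (iv D39091) (iv F180430)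
theorem F185292 : act 1 n40207 = n39744 := d16_1 D40207 (iv D39744) (iv F180431)
theorem F185293 : act 2 n40207 = n39092 := d23_1 D40207 F180519 (iv F180432)
theorem F185294 : act 3 n40207 = n39671 := d29_1 D40207 F183581 (iv F180433)
theorem F185295 : act 4 n40207 = n39079 := d34_1 D40207 (iv D39079) D39078
theorem F185296 : act 6 n40207 = n39080 := d41_1 D40207 (iv D39080) (iv F180434)
theorem F185297 : act 7 n40207 = n39606 := d43_1 D40207 (iv D39606) (iv F180435)
theorem F185298 : act 8 n40207 = n39624 := d44_1 D40207 (iv D39624) F178252 D38667 (iv F180436)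
def n40208 : Q := act 4 n39081
theorem D40208 : act 4 n39081 = n40208 := rfl
theorem F185299 : act 1 n40208 = n40161 := d11_1 D40208 F185093 (iv F180453)
theorem F185300 : act 2 n40208 = n39881 := d18_1 D40208 (iv D39881) (iv F180454)
theorem F185301 : act 3 n40208 = n40057 := d24_1 D40208 (iv D40057) F179984 (iv F174832) (iv F180455)
theorem F185302 : act 5 n40208 = n39878 := d30_2 D39081 D40208 (iv D39878) (iv D38726) (iv F174826)
theorem F185303 : act 6 n40208 = n39517 := d31_2 (iv F180456) D40208 (iv D39517)
theorem F185304 : act 7 n40208 = n39914 := d32_2 (iv F180457) D40208 (iv D39914)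
theorem F185305 : act 9 n40208 = n40052 := d34_2 (iv F180458) D40208 (iv D40052)
def n40209 : Q := act 8 n39081
theorem D40209 : act 8 n39081 = n40209 := rfl
theorem F185306 : act 1 n40209 = n40163 := d15_1 D40209 (iv D40163) (iv F180453)
theorem F185307 : act 2 n40209 = n39879 := d22_1 D40209 F184318 (iv F180454)
theorem F185308 : act 3 n40209 = n39082 := d28_1 D40209 (iv D39082) (iv F180455)
theorem F185309 : act 5 n40209 = n39877 := d37_1 D40209 (iv D39877) (iv D38725) (iv F174828) D39081
theorem F185310 : act 6 n40209 = n39518 := d40_1 D40209 (iv D39518) (iv F180456)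
theorem F185311 : act 7 n40209 = n39912 := d42_1 D40209 F184466 (iv F180457)
def n40210 : Q := act 5 n39082
theorem D40210 : act 5 n39082 = n40210 := rfl
theorem F185312 : act 1 n40210 = n40140 := d12_1 D40210 F185060 (iv F180459)
theorem F185313 : act 2 n40210 = n39085 := d19_1 D40210 (iv D39085) (iv F180460)
theorem F185314 : act 3 n40210 = n39877 := d25_1 D40210 (iv F185309) F185308
theorem F185315 : act 7 n40210 = n39911 := d36_2 (iv F180463) D40210 F184463
theorem F185316 : act 8 n40210 = n39083 := d37_2 D39082 D40210 (iv D39083) (iv D37835) D37834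
def n40211 : Q := act 9 n39082
theorem D40211 : act 9 n39082 = n40211 := rfl
theorem F185317 : act 1 n40211 = n40166 := d16_1 D40211 F185103 (iv F180459)
theorem F185318 : act 2 n40211 = n39086 := d23_1 D40211 (iv D39086) (iv F180460)
theorem F185319 : act 4 n40211 = n40059 := d34_1 D40211 (iv D40059) (iv F180461)
theorem F185320 : act 6 n40211 = n39521 := d41_1 D40211 (iv D39521) (iv F180462)
theorem F185321 : act 7 n40211 = n40133 := d43_1 D40211 (iv D40133) (iv F180463)
theorem F185322 : act 8 n40211 = n40054 := d44_1 D40211 (iv D40054) (iv D38911) (iv F174835) D39082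
def n40212 : Q := act 4 n39083
theorem D40212 : act 4 n39083 = n40212 := rfl
theorem F185323 : act 0 n40212 = n39846 := d3_1 D40212 (iv F185260) F185256
theorem F185324 : act 1 n40212 = n40139 := d11_1 D40212 F185057 (iv F180464)
theorem F185325 : act 2 n40212 = n39087 := d18_1 D40212 (iv D39087) (iv F180465)
theorem F185326 : act 3 n40212 = n39987 := d24_1 D40212 (iv D39987) F179761 (iv F179331) (iv F180466)
theorem F185327 : act 5 n40212 = n39084 := d30_2 D39083 D40212 (iv D39084) (iv D37836) (iv F174839)
theorem F185328 : act 7 n40212 = n39910 := d32_2 (iv F180467) D40212 (iv D39910)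
theorem F185329 : act 9 n40212 = n39969 := d34_2 (iv F180468) D40212 (iv D39969)
def n40213 : Q := act 4 n39085
theorem D40213 : act 4 n39085 = n40213 := rfl
theorem F185330 : act 1 n40213 = n39139 := d11_1 D40213 (iv D39139) (iv F180477)
theorem F185331 : act 5 n40213 = n40060 := d30_2 D39085 D40213 (iv D40060) (iv D38917) (iv F174853)
theorem F185332 : act 7 n40213 = n40066 := d32_2 (iv F180479) D40213 F184900
theorem F185333 : act 8 n40213 = n39087 := d33_2 (iv F180480) D40213 (iv D39087)
def n40214 : Q := act 6 n39085
theorem D40214 : act 6 n39085 = n40214 := rfl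
theorem F185334 : act 0 n40214 = n39970 := d5_1 D40214 (iv F185267) F185264
theorem F185335 : act 1 n40214 = n39140 := d13_1 D40214 (iv D39140) (iv F180477)
theorem F185336 : act 3 n40214 = n39318 := d26_1 D40214 F181929 (iv F180478)
theorem F185337 : act 5 n40214 = n39525 := d35_1 D40214 (iv D39525) (iv D38337) (iv F174854) D39085
theorem F185338 : act 8 n40214 = n39088 := d40_2 (iv F180480) D40214 (iv D39088)
def n40215 : Q := act 9 n39085
theorem D40215 : act 9 n39085 = n40215 := rfl
theorem F185339 : act 1 n40215 = n39141 := d16_1 D40215 (iv D39141) (iv F180477)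
theorem F185340 : act 3 n40215 = n40050 := d29_1 D40215 (iv D40050) (iv F180478)
theorem F185341 : act 5 n40215 = n39086 := d38_1 D40215 (iv D39086) D39085
theorem F185342 : act 7 n40215 = n40067 := d43_1 D40215 (iv D40067) (iv F180479)
def n40216 : Q := act 6 n39087
theorem D40216 : act 6 n39087 = n40216 := rfl
theorem F185343 : act 0 n40216 = n39969 := d5_1 D40216 (iv F185282) F185277
theorem F185344 : act 1 n40216 = n39143 := d13_1 D40216 (iv D39143) (iv F180487)
theorem F185345 : act 3 n40216 = n39372 := d26_1 D40216 (iv F185167) F185165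
theorem F185346 : act 4 n40216 = n39088 := d31_1 D40216 (iv D39088) D39087
theorem F185347 : act 5 n40216 = n39092 := d35_1 D40216 (iv D39092) F174900 (iv F174880) (iv F180488)
theorem F185348 : act 9 n39846 = n40216 := d38_0 F185347 F180519 D39846
def n40217 : Q := act 9 n39087
theorem D40217 : act 9 n39087 = n40217 := rfl
theorem F185349 : act 1 n40217 = n39144 := d16_1 D40217 (iv D39144) (iv F180487)
theorem F185350 : act 2 n40217 = n39969 := d23_1 D40217 (iv F185329) F185325
theorem F185351 : act 3 n40217 = n39914 := d29_1 D40217 (iv F185169) F185165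
theorem F185352 : act 4 n40217 = n39089 := d34_1 D40217 (iv D39089) D39087
theorem F185353 : act 5 n40217 = n39091 := d38_1 D40217 (iv D39091) (iv F180488)
theorem F185354 : act 6 n40217 = n39846 := d41_1 D40217 F185348 (iv D40216)
theorem F185355 : act 7 n40217 = n40057 := d43_1 D40217 F184883 (iv F180489)
def n40218 : Q := act 7 n39088
theorem D40218 : act 7 n39088 = n40218 := rfl
theorem F185356 : act 0 n40218 = n39895 := d6_1 D40218 F184395 (iv F180490)
theorem F185357 : act 1 n40218 = n39145 := d14_1 D40218 (iv D39145) (iv F180491)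
theorem F185358 : act 2 n40218 = n39604 := d21_1 D40218 (iv F185290) F185286
theorem F185359 : act 3 n40218 = n39246 := d27_1 D40218 F181480 (iv F180492)
theorem F185360 : act 5 n40218 = n39090 := d36_1 D40218 (iv D39090) (iv F180493)
theorem F185361 : act 6 n40218 = n39746 := d39_1 D40218 F183933 F178949 (iv F174858) D39088
theorem F185362 : act 9 n40218 = n39598 := d43_2 F185263 D40218 (iv F185262)
def n40219 : Q := act 8 n39089
theorem D40219 : act 8 n39089 = n40219 := rfl
theorem F185363 : act 1 n40219 = n39147 := d15_1 D40219 (iv D39147) (iv F180494)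
theorem F185364 : act 2 n40219 = n39970 := d22_1 D40219 (iv D39970) (iv F180495)
theorem F185365 : act 3 n40219 = n39961 := d28_1 D40219 (iv D39961) (iv F180496)
theorem F185366 : act 5 n40219 = n40056 := d37_1 D40219 (iv D40056) F179983 (iv F174865) (iv F180497)
theorem F185367 : act 7 n40219 = n40058 := d42_1 D40219 (iv D40058) (iv F180498)
def n40220 : Q := act 7 n39092
theorem D40220 : act 7 n39092 = n40220 := rfl
theorem F185368 : act 0 n40220 = n40046 := d6_1 D40220 F184845 (iv F180514)
theorem F185369 : act 1 n40220 = n39163 := d14_1 D40220 (iv D39163) (iv F180515)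
theorem F185370 : act 2 n40220 = n39606 := d21_1 D40220 (iv F185297) F185293
theorem F185371 : act 3 n40220 = n39414 := d27_1 D40220 F182425 (iv F180516)
theorem F185372 : act 4 n40220 = n39093 := d32_1 D40220 (iv D39093) (iv F180517)
theorem F185373 : act 6 n40220 = n40220 := d39_1 D40220 (iv D40220) (iv D39092) F174901 D39092
theorem F185374 : act 8 n40220 = n39571 := d42_2 (iv F180518) D40220 F183187
theorem F185375 : act 9 n40220 = n39599 := d43_2 (iv F180519) D40220 F183299
def n40221 : Q := act 5 n39094
theorem D40221 : act 5 n39094 = n40221 := rfl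
theorem F185376 : act 0 n40221 = n39767 := d4_1 D40221 (iv D39767) (iv F180528)
theorem F185377 : act 1 n40221 = n39958 := d12_1 D40221 F184607 (iv F180529)
theorem F185378 : act 2 n40221 = n39496 := d19_1 D40221 (iv D39496) (iv F180530)
theorem F185379 : act 3 n40221 = n39096 := d25_1 D40221 (iv D39096) (iv F180531)
theorem F185380 : act 6 n40221 = n39113 := d35_2 D39094 D40221 (iv D39113) (iv D37868) (iv F174937)
theorem F185381 : act 7 n40221 = n39534 := d36_2 (iv F180533) D40221 (iv D39534)
theorem F185382 : act 9 n40221 = n39206 := d38_2 (iv F180534) D40221 (iv D39206)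
def n40222 : Q := act 8 n39094
theorem D40222 : act 8 n39094 = n40222 := rfl
theorem F185383 : act 0 n40222 = n39768 := d7_1 D40222 (iv D39768) (iv F180528)
theorem F185384 : act 1 n40222 = n39960 := d15_1 D40222 (iv D39960) (iv F180529)
theorem F185385 : act 2 n40222 = n39497 := d22_1 D40222 (iv D39497) (iv F180530)
theorem F185386 : act 3 n40222 = n39097 := d28_1 D40222 (iv D39097) (iv F180531)
theorem F185387 : act 4 n40222 = n40222 := d33_1 D40222 (iv D40222) F180532
theorem F185388 : act 6 n40222 = n39095 := d40_1 D40222 (iv D39095) D39094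
theorem F185389 : act 7 n40222 = n39535 := d42_1 D40222 (iv D39535) (iv F180533)
theorem F185390 : act 9 n40222 = n39772 := d44_2 (iv F180534) D40222 F184007 F181244 (iv D39207)
def n40223 : Q := act 8 n39096
theorem D40223 : act 8 n39096 = n40223 := rfl
theorem F185391 : act 0 n40223 = n39769 := d7_1 D40223 (iv D39769) (iv F180543)
theorem F185392 : act 1 n40223 = n40131 := d15_1 D40223 (iv D40131) (iv F180544)
theorem F185393 : act 2 n40223 = n39102 := d22_1 D40223 (iv D39102) (iv F180545)
theorem F185394 : act 4 n40223 = n40070 := d33_1 D40223 (iv D40070) (iv F180546)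
theorem F185395 : act 6 n40223 = n39114 := d40_1 D40223 (iv D39114) (iv F180547)
theorem F185396 : act 7 n40223 = n39536 := d42_1 D40223 (iv D39536) (iv F180548)
def n40224 : Q := act 5 n39097
theorem D40224 : act 5 n39097 = n40224 := rfl
theorem F185397 : act 0 n40224 = n39770 := d4_1 D40224 (iv D39770) (iv F180550)
theorem F185398 : act 1 n40224 = n40132 := d12_1 D40224 (iv D40132) (iv F180551)
theorem F185399 : act 2 n40224 = n39103 := d19_1 D40224 (iv D39103) (iv F180552)
theorem F185400 : act 7 n40224 = n39537 := d36_2 (iv F180555) D40224 (iv D39537)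
def n40225 : Q := act 9 n39097
theorem D40225 : act 9 n39097 = n40225 := rfl
theorem F185401 : act 0 n40225 = n39771 := d8_1 D40225 (iv D39771) (iv F180550)
theorem F185402 : act 1 n40225 = n40098 := d16_1 D40225 F184965 (iv F180551)
theorem F185403 : act 2 n40225 = n39104 := d23_1 D40225 (iv D39104) (iv F180552)
theorem F185404 : act 3 n40225 = n39772 := d29_1 D40225 (iv F185390) F185386
theorem F185405 : act 4 n40225 = n39101 := d34_1 D40225 (iv D39101) (iv F180553)
theorem F185406 : act 6 n40225 = n39099 := d41_1 D40225 (iv D39099) (iv F180554)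
theorem F185407 : act 7 n40225 = n39538 := d43_1 D40225 (iv D39538) (iv F180555)
theorem F185408 : act 8 n40225 = n39210 := d44_1 D40225 (iv D39210) (iv D37969) (iv F174952) D39097
def n40226 : Q := act 6 n39098
theorem D40226 : act 6 n39098 = n40226 := rfl
theorem F185409 : act 0 n40226 = n39772 := d5_1 D40226 (iv D39772) (iv F180556)
theorem F185410 : act 1 n40226 = n40120 := d13_1 D40226 F185019 (iv F180557)
theorem F185411 : act 2 n40226 = n39105 := d20_1 D40226 (iv D39105) (iv F180558)
theorem F185412 : act 3 n40226 = n39771 := d26_1 D40226 F184002 (iv F180559)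
theorem F185413 : act 4 n40226 = n40226 := d31_1 D40226 (iv D40226) F180560
theorem F185414 : act 7 n40226 = n40080 := d39_2 (iv F180561) D40226 F184930 F180036 (iv F174965)
theorem F185415 : act 8 n40226 = n39116 := d40_2 (iv F180562) D40226 (iv D39116)
theorem F185416 : act 9 n40226 = n39768 := d41_2 F180563 D40226 F183993
def n40227 : Q := act 4 n39100
theorem D40227 : act 4 n39100 = n40227 := rfl
theorem F185417 : act 0 n40227 = n39773 := d3_1 D40227 (iv D39773) (iv F180572)
theorem F185418 : act 1 n40227 = n40188 := d11_1 D40227 (iv D40188) (iv F180573)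
theorem F185419 : act 2 n40227 = n39108 := d18_1 D40227 (iv D39108) (iv F180574)
theorem F185420 : act 6 n40227 = n40227 := d31_2 F180576 D40227 (iv D40227)
theorem F185421 : act 7 n40227 = n39539 := d32_2 (iv F180577) D40227 (iv D39539)
theorem F185422 : act 8 n40227 = n40040 := d33_2 (iv F180578) D40227 F184829
def n40228 : Q := act 9 n39100
theorem D40228 : act 9 n39100 = n40228 := rfl
theorem F185423 : act 0 n40228 = n39774 := d8_1 D40228 (iv D39774) (iv F180572)
theorem F185424 : act 1 n40228 = n39859 := d16_1 D40228 F184250 (iv F180573)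
theorem F185425 : act 2 n40228 = n39109 := d23_1 D40228 (iv D39109) (iv F180574)
theorem F185426 : act 3 n40228 = n40228 := d29_1 D40228 (iv D40228) F180575
theorem F185427 : act 5 n40228 = n39101 := d38_1 D40228 (iv D39101) D39100
theorem F185428 : act 6 n40228 = n40228 := d41_1 D40228 (iv D40228) F180576
theorem F185429 : act 7 n40228 = n39540 := d43_1 D40228 (iv D39540) (iv F180577)
def n40229 : Q := act 5 n39102
theorem D40229 : act 5 n39102 = n40229 := rfl
theorem F185430 : act 0 n40229 = n39775 := d4_1 D40229 (iv D39775) (iv F180586)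
theorem F185431 : act 1 n40229 = n39345 := d12_1 D40229 (iv D39345) (iv F180587)
theorem F185432 : act 3 n40229 = n39501 := d25_1 D40229 (iv D39501) (iv F180588)
theorem F185433 : act 7 n40229 = n39541 := d36_2 (iv F180591) D40229 (iv D39541)
theorem F185434 : act 8 n40229 = n39103 := d37_2 D39102 D40229 (iv D39103) (iv D37859) D37858
def n40230 : Q := act 9 n39102
theorem D40230 : act 9 n39102 = n40230 := rfl
theorem F185435 : act 0 n40230 = n39776 := d8_1 D40230 (iv D39776) (iv F180586)
theorem F185436 : act 1 n40230 = n39346 := d16_1 D40230 (iv D39346) (iv F180587)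
theorem F185437 : act 3 n40230 = n39502 := d29_1 D40230 (iv D39502) (iv F180588)
theorem F185438 : act 4 n40230 = n40072 := d34_1 D40230 (iv D40072) (iv F180589)
theorem F185439 : act 6 n40230 = n39120 := d41_1 D40230 (iv D39120) (iv F180590)
theorem F185440 : act 7 n40230 = n39542 := d43_1 D40230 (iv D39542) (iv F180591)
theorem F185441 : act 8 n40230 = n39214 := d44_1 D40230 (iv D39214) (iv D37973) (iv F174993) D39102
def n40231 : Q := act 4 n39103
theorem D40231 : act 4 n39103 = n40231 := rfl
theorem F185442 : act 0 n40231 = n39777 := d3_1 D40231 (iv D39777) (iv F180592)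
theorem F185443 : act 1 n40231 = n39347 := d11_1 D40231 (iv D39347) (iv F180593)
theorem F185444 : act 5 n40231 = n39108 := d30_2 D39103 D40231 (iv D39108) (iv D37864) (iv F174997)
theorem F185445 : act 7 n40231 = n39543 := d32_2 (iv F180595) D40231 (iv D39543)
def n40232 : Q := act 6 n39103
theorem D40232 : act 6 n39103 = n40232 := rfl
theorem F185446 : act 0 n40232 = n39778 := d5_1 D40232 (iv D39778) (iv F180592)
theorem F185447 : act 1 n40232 = n39348 := d13_1 D40232 (iv D39348) (iv F180593)
theorem F185448 : act 3 n40232 = n39504 := d26_1 D40232 (iv D39504) (iv F180594)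
theorem F185449 : act 5 n40232 = n39105 := d35_1 D40232 (iv D39105) (iv D37860) (iv F174998) D39103
def n40233 : Q := act 9 n39103
theorem D40233 : act 9 n39103 = n40233 := rfl
theorem F185450 : act 0 n40233 = n39779 := d8_1 D40233 (iv D39779) (iv F180592)
theorem F185451 : act 1 n40233 = n39349 := d16_1 D40233 (iv D39349) (iv F180593)
theorem F185452 : act 3 n40233 = n39505 := d29_1 D40233 (iv D39505) (iv F180594)
theorem F185453 : act 5 n40233 = n39104 := d38_1 D40233 (iv D39104) D39103
theorem F185454 : act 7 n40233 = n39545 := d43_1 D40233 (iv D39545) (iv F180595)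
def n40234 : Q := act 7 n39105
theorem D40234 : act 7 n39105 = n40234 := rfl
theorem F185455 : act 0 n40234 = n39780 := d6_1 D40234 (iv D39780) (iv F180603)
theorem F185456 : act 1 n40234 = n39350 := d14_1 D40234 (iv D39350) (iv F180604)
theorem F185457 : act 2 n40234 = n40080 := d21_1 D40234 (iv F185414) F185411
theorem F185458 : act 3 n40234 = n39506 := d27_1 D40234 (iv D39506) (iv F180605)
theorem F185459 : act 4 n40234 = n40234 := d32_1 D40234 (iv D40234) F180606
theorem F185460 : act 6 n40234 = n39107 := d39_1 D40234 (iv D39107) (iv D37862) (iv F175004) D39105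
theorem F185461 : act 8 n40234 = n39124 := d42_2 (iv F180607) D40234 (iv D39124)
theorem F185462 : act 9 n39922 = n40234 := d41_0 F185460 F180623 (iv F184497)
def n40235 : Q := act 9 n39105
theorem D40235 : act 9 n39105 = n40235 := rfl
theorem F185463 : act 0 n40235 = n39497 := d8_1 D40235 F182891 (iv F180603)
theorem F185464 : act 1 n40235 = n39351 := d16_1 D40235 (iv D39351) (iv F180604)
theorem F185465 : act 2 n40235 = n39768 := d23_1 D40235 (iv F185416) F185411
theorem F185466 : act 3 n40235 = n39443 := d29_1 D40235 F182619 (iv F180605)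
theorem F185467 : act 4 n40235 = n40235 := d34_1 D40235 (iv D40235) F180606
theorem F185468 : act 6 n40235 = n39106 := d41_1 D40235 (iv D39106) D39105
theorem F185469 : act 7 n40235 = n39922 := d43_1 D40235 F185462 (iv D40234)
theorem F185470 : act 8 n40235 = n39441 := d44_1 D40235 F182606 F180732 (iv D39125) (iv F180607)
def n40236 : Q := act 3 n39108
theorem D40236 : act 3 n39108 = n40236 := rfl
theorem F185471 : act 0 n40236 = n39781 := d2_1 D40236 (iv D39781) (iv F180624)
theorem F185472 : act 1 n40236 = n39354 := d10_1 D40236 (iv D39354) (iv F180625)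
theorem F185473 : act 4 n40236 = n39110 := d24_2 D39108 D40236 (iv D39110) (iv D37866) (iv F175030)
theorem F185474 : act 6 n40236 = n40236 := d26_2 F180626 D40236 (iv D40236)
theorem F185475 : act 7 n40236 = n39548 := d27_2 (iv F180627) D40236 (iv D39548)
theorem F185476 : act 8 n40236 = n39668 := d28_2 (iv F180628) D40236 F183559
def n40237 : Q := act 9 n39108
theorem D40237 : act 9 n39108 = n40237 := rfl
theorem F185477 : act 0 n40237 = n39782 := d8_1 D40237 (iv D39782) (iv F180624)
theorem F185478 : act 1 n40237 = n39355 := d16_1 D40237 (iv D39355) (iv F180625)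
theorem F185479 : act 4 n40237 = n39109 := d34_1 D40237 (iv D39109) D39108
theorem F185480 : act 6 n40237 = n40237 := d41_1 D40237 (iv D40237) F180626
theorem F185481 : act 7 n40237 = n39549 := d43_1 D40237 (iv D39549) (iv F180627)
def n40238 : Q := act 8 n39109
theorem D40238 : act 8 n39109 = n40238 := rfl
theorem F185482 : act 0 n40238 = n39783 := d7_1 D40238 (iv D39783) (iv F180629)
theorem F185483 : act 1 n40238 = n39356 := d15_1 D40238 (iv D39356) (iv F180630)
theorem F185484 : act 3 n40238 = n39112 := d28_1 D40238 (iv D39112) (iv F180631)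
theorem F185485 : act 5 n40238 = n39221 := d37_1 D40238 (iv D39221) F175744 (iv F175039) (iv F180632)
theorem F185486 : act 6 n40238 = n40238 := d40_1 D40238 (iv D40238) F180633
theorem F185487 : act 7 n40238 = n39550 := d42_1 D40238 (iv D39550) (iv F180634)
theorem F185488 : act 9 n40238 = n39862 := d44_2 D39109 D40238 (iv D39862) F179267 (iv F175033)
def n40239 : Q := act 2 n39110
theorem D40239 : act 2 n39110 = n40239 := rfl
theorem F185489 : act 0 n40239 = n39784 := d1_1 D40239 (iv D39784) (iv F180635)
theorem F185490 : act 3 n40239 = n40239 := d17_2 D39110 D40239 (iv D40239) (iv D39110) F175042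
theorem F185491 : act 5 n40239 = n39508 := d19_2 (iv F180637) D40239 (iv D39508)
theorem F185492 : act 6 n40239 = n40239 := d20_2 F180638 D40239 (iv D40239)
theorem F185493 : act 7 n40239 = n39551 := d21_2 (iv F180639) D40239 (iv D39551)
theorem F185494 : act 8 n40239 = n39666 := d22_2 (iv F180640) D40239 F183545
def n40240 : Q := act 9 n39110
theorem D40240 : act 9 n39110 = n40240 := rfl
theorem F185495 : act 0 n40240 = n39785 := d8_1 D40240 (iv D39785) (iv F180635)
theorem F185496 : act 1 n40240 = n39358 := d16_1 D40240 (iv D39358) (iv F180636)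
theorem F185497 : act 3 n40240 = n39111 := d29_1 D40240 (iv D39111) D39110
theorem F185498 : act 5 n40240 = n39167 := d38_1 D40240 F180968 (iv F180637)
theorem F185499 : act 6 n40240 = n40240 := d41_1 D40240 (iv D40240) F180638
theorem F185500 : act 7 n40240 = n39552 := d43_1 D40240 (iv D39552) (iv F180639)
theorem F185501 : act 8 n40240 = n39419 := d44_1 D40240 F182459 F179914 (iv F178423) (iv F180640)
def n40241 : Q := act 4 n39113
theorem D40241 : act 4 n39113 = n40241 := rfl
theorem F185502 : act 0 n40241 = n39792 := d3_1 D40241 (iv D39792) (iv F180657)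
theorem F185503 : act 1 n40241 = n39956 := d11_1 D40241 F184600 (iv F180658)
theorem F185504 : act 2 n40241 = n40052 := d18_1 D40241 (iv D40052) (iv F180659)
theorem F185505 : act 3 n40241 = n40104 := d24_1 D40241 (iv D40104) F180080 (iv F175064) (iv F180660)
theorem F185506 : act 5 n40241 = n39173 := d30_2 D39113 D40241 (iv D39173) (iv D37928) (iv F175057)
theorem F185507 : act 7 n40241 = n39128 := d32_2 (iv F180661) D40241 (iv D39128)
theorem F185508 : act 9 n40241 = n39881 := d34_2 (iv F180662) D40241 (iv D39881)
def n40242 : Q := act 8 n39113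
theorem D40242 : act 8 n39113 = n40242 := rfl
theorem F185509 : act 0 n40242 = n39793 := d7_1 D40242 (iv D39793) (iv F180657)
theorem F185510 : act 1 n40242 = n39959 := d15_1 D40242 (iv D39959) (iv F180658)
theorem F185511 : act 2 n40242 = n40053 := d22_1 D40242 (iv D40053) (iv F180659)
theorem F185512 : act 3 n40242 = n39114 := d28_1 D40242 (iv D39114) (iv F180660)
theorem F185513 : act 5 n40242 = n39981 := d37_1 D40242 (iv D39981) F179727 (iv F175059) D39113
theorem F185514 : act 7 n40242 = n39129 := d42_1 D40242 (iv D39129) (iv F180661)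
def n40243 : Q := act 5 n39114
theorem D40243 : act 5 n39114 = n40243 := rfl
theorem F185515 : act 0 n40243 = n39794 := d4_1 D40243 (iv D39794) (iv F180663)
theorem F185516 : act 1 n40243 = n40118 := d12_1 D40243 F185013 (iv F180664)
theorem F185517 : act 2 n40243 = n39119 := d19_1 D40243 (iv D39119) (iv F180665)
theorem F185518 : act 3 n40243 = n39981 := d25_1 D40243 (iv F185513) F185512
theorem F185519 : act 7 n40243 = n39133 := d36_2 (iv F180667) D40243 (iv D39133)
theorem F185520 : act 8 n40243 = n39115 := d37_2 D39114 D40243 (iv D39115) (iv D37870) D37869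
def n40244 : Q := act 9 n39114
theorem D40244 : act 9 n39114 = n40244 := rfl
theorem F185521 : act 0 n40244 = n39795 := d8_1 D40244 (iv D39795) (iv F180663)
theorem F185522 : act 1 n40244 = n40130 := d16_1 D40244 F185043 (iv F180664)
theorem F185523 : act 2 n40244 = n39120 := d23_1 D40244 (iv D39120) (iv F180665)
theorem F185524 : act 4 n40244 = n40107 := d34_1 D40244 (iv D40107) (iv F180666)
theorem F185525 : act 7 n40244 = n39134 := d43_1 D40244 (iv D39134) (iv F180667)
theorem F185526 : act 8 n40244 = n40051 := d44_1 D40244 (iv D40051) F179964 (iv F175066) D39114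
def n40245 : Q := act 4 n39115
theorem D40245 : act 4 n39115 = n40245 := rfl
theorem F185527 : act 0 n40245 = n39796 := d3_1 D40245 (iv D39796) (iv F180668)
theorem F185528 : act 1 n40245 = n40115 := d11_1 D40245 F185006 (iv F180669)
theorem F185529 : act 2 n40245 = n39121 := d18_1 D40245 (iv D39121) (iv F180670)
theorem F185530 : act 5 n40245 = n39118 := d30_2 D39115 D40245 (iv D39118) (iv D37873) (iv F175071)
theorem F185531 : act 7 n40245 = n39135 := d32_2 (iv F180672) D40245 (iv D39135)
theorem F185532 : act 9 n40245 = n39964 := d34_2 (iv F180673) D40245 (iv D39964)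
def n40246 : Q := act 6 n39115
theorem D40246 : act 6 n39115 = n40246 := rfl
theorem F185533 : act 0 n40246 = n39797 := d5_1 D40246 (iv D39797) (iv F180668)
theorem F185534 : act 1 n40246 = n40117 := d13_1 D40246 F185012 (iv F180669)
theorem F185535 : act 2 n40246 = n39122 := d20_1 D40246 (iv D39122) (iv F180670)
theorem F185536 : act 3 n40246 = n39807 := d26_1 D40246 F184109 (iv F180671)
theorem F185537 : act 5 n40246 = n39116 := d35_1 D40246 (iv D39116) (iv D37871) (iv F175072) D39115
theorem F185538 : act 9 n40246 = n39965 := d41_2 (iv F180673) D40246 (iv D39965)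
def n40247 : Q := act 7 n39116
theorem D40247 : act 7 n39116 = n40247 := rfl
theorem F185539 : act 0 n40247 = n39798 := d6_1 D40247 (iv D39798) (iv F180674)
theorem F185540 : act 1 n40247 = n40119 := d14_1 D40247 F185017 (iv F180675)
theorem F185541 : act 2 n40247 = n39124 := d21_1 D40247 (iv D39124) (iv F180676)
theorem F185542 : act 3 n40247 = n39786 := d27_1 D40247 F184052 (iv F180677)
theorem F185543 : act 4 n40247 = n40247 := d32_1 D40247 (iv D40247) F180678
theorem F185544 : act 6 n40247 = n39117 := d39_1 D40247 (iv D39117) (iv D37872) (iv F175080) D39116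
theorem F185545 : act 8 n40247 = n40080 := d42_2 F185415 D40247 (iv F185414)
theorem F185546 : act 9 n40247 = n39966 := d43_2 (iv F180679) D40247 (iv D39966)
def n40248 : Q := act 3 n39118
theorem D40248 : act 3 n39118 = n40248 := rfl
theorem F185547 : act 0 n40248 = n39799 := d2_1 D40248 (iv D39799) (iv F180688)
theorem F185548 : act 1 n40248 = n40005 := d10_1 D40248 F184747 (iv F180689)
theorem F185549 : act 2 n40248 = n40007 := d17_1 D40248 F184759 F179949 (iv F175142) (iv F180690)
theorem F185550 : act 4 n40248 = n39175 := d24_2 D39118 D40248 (iv D39175) (iv D37930) (iv F175093)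
theorem F185551 : act 6 n40248 = n40248 := d26_2 F180691 D40248 (iv D40248)
theorem F185552 : act 7 n40248 = n39138 := d27_2 (iv F180692) D40248 (iv D39138)
theorem F185553 : act 8 n40248 = n39994 := d28_2 (iv F180693) D40248 F184720
theorem F185554 : act 9 n40248 = n39967 := d29_2 (iv F180694) D40248 (iv D39967)
def n40249 : Q := act 4 n39119
theorem D40249 : act 4 n39119 = n40249 := rfl
theorem F185555 : act 0 n40249 = n39800 := d3_1 D40249 (iv D39800) (iv F180695)
theorem F185556 : act 1 n40249 = n40066 := d11_1 D40249 F184900 (iv F180696)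
theorem F185557 : act 3 n40249 = n40157 := d24_1 D40249 (iv D40157) F180197 (iv F179976) (iv F180697)
theorem F185558 : act 5 n40249 = n40110 := d30_2 D39119 D40249 (iv D40110) (iv D38965) (iv F175101)
theorem F185559 : act 7 n40249 = n39139 := d32_2 (iv F180698) D40249 (iv D39139)
theorem F185560 : act 8 n40249 = n39121 := d33_2 (iv F180699) D40249 (iv D39121)
def n40250 : Q := act 6 n39119
theorem D40250 : act 6 n39119 = n40250 := rfl
theorem F185561 : act 0 n40250 = n39801 := d5_1 D40250 (iv D39801) (iv F180695)
theorem F185562 : act 1 n40250 = n39756 := d13_1 D40250 F183960 (iv F180696)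
theorem F185563 : act 3 n40250 = n39754 := d26_1 D40250 F183956 (iv F180697)
theorem F185564 : act 8 n40250 = n39122 := d40_2 (iv F180699) D40250 (iv D39122)
def n40251 : Q := act 9 n39119
theorem D40251 : act 9 n39119 = n40251 := rfl
theorem F185565 : act 0 n40251 = n39802 := d8_1 D40251 (iv D39802) (iv F180695)
theorem F185566 : act 1 n40251 = n40067 := d16_1 D40251 (iv D40067) (iv F180696)
theorem F185567 : act 3 n40251 = n40055 := d29_1 D40251 (iv D40055) (iv F180697)
theorem F185568 : act 5 n40251 = n39120 := d38_1 D40251 (iv D39120) D39119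
theorem F185569 : act 7 n40251 = n39141 := d43_1 D40251 (iv D39141) (iv F180698)
def n40252 : Q := act 6 n39121
theorem D40252 : act 6 n39121 = n40252 := rfl
theorem F185570 : act 0 n40252 = n39803 := d5_1 D40252 (iv D39803) (iv F180706)
theorem F185571 : act 1 n40252 = n39755 := d13_1 D40252 F183958 (iv F180707)
theorem F185572 : act 3 n40252 = n40160 := d26_1 D40252 (iv D40160) (iv F180708)
theorem F185573 : act 4 n40252 = n39122 := d31_1 D40252 (iv D39122) D39121
theorem F185574 : act 5 n40252 = n40252 := d35_1 D40252 (iv D40252) F180709 F175143 (iv F180709)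
def n40253 : Q := act 9 n39121
theorem D40253 : act 9 n39121 = n40253 := rfl
theorem F185575 : act 0 n40253 = n39804 := d8_1 D40253 (iv D39804) (iv F180706)
theorem F185576 : act 1 n40253 = n40057 := d16_1 D40253 F184883 (iv F180707)
theorem F185577 : act 2 n40253 = n39964 := d23_1 D40253 (iv F185532) F185529
theorem F185578 : act 3 n40253 = n40161 := d29_1 D40253 (iv D40161) (iv F180708)
theorem F185579 : act 4 n40253 = n39123 := d34_1 D40253 (iv D39123) D39121
theorem F185580 : act 5 n40253 = n39127 := d38_1 D40253 (iv D39127) (iv F180709)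
theorem F185581 : act 7 n40253 = n39144 := d43_1 D40253 (iv D39144) (iv F180710)
def n40254 : Q := act 7 n39122
theorem D40254 : act 7 n39122 = n40254 := rfl
theorem F185582 : act 0 n40254 = n39805 := d6_1 D40254 (iv D39805) (iv F180711)
theorem F185583 : act 1 n40254 = n39746 := d14_1 D40254 F183933 (iv F180712)
theorem F185584 : act 3 n40254 = n39745 := d27_1 D40254 F183931 (iv F180713)
theorem F185585 : act 5 n40254 = n39124 := d36_1 D40254 (iv D39124) (iv F180714)
theorem F185586 : act 6 n40254 = n39145 := d39_1 D40254 (iv D39145) (iv D37895) (iv F175106) D39122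
def n40255 : Q := act 9 n39122
theorem D40255 : act 9 n39122 = n40255 := rfl
theorem F185587 : act 0 n40255 = n39519 := d8_1 D40255 F182971 (iv F180711)
theorem F185588 : act 1 n40255 = n39489 := d16_1 D40255 F182865 (iv F180712)
theorem F185589 : act 2 n40255 = n39965 := d23_1 D40255 (iv F185538) F185535
theorem F185590 : act 3 n40255 = n39453 := d29_1 D40255 F182669 (iv F180713)
theorem F185591 : act 5 n40255 = n39125 := d38_1 D40255 (iv D39125) (iv F180714)
theorem F185592 : act 6 n40255 = n39123 := d41_1 D40255 (iv D39123) D39122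
def n40256 : Q := act 8 n39123
theorem D40256 : act 8 n39123 = n40256 := rfl
theorem F185593 : act 0 n40256 = n39806 := d7_1 D40256 (iv D39806) (iv F180715)
theorem F185594 : act 1 n40256 = n40058 := d15_1 D40256 (iv D40058) (iv F180716)
theorem F185595 : act 2 n40256 = n39962 := d22_1 D40256 F184620 (iv F180717)
theorem F185596 : act 3 n40256 = n40056 := d28_1 D40256 (iv D40056) (iv F180718)
theorem F185597 : act 5 n40256 = n39961 := d37_1 D40256 (iv D39961) (iv D38810) (iv F175114) (iv F180719)
theorem F185598 : act 7 n40256 = n39147 := d42_1 D40256 (iv D39147) (iv F180720)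
def n40257 : Q := act 9 n39124
theorem D40257 : act 9 n39124 = n40257 := rfl
theorem F185599 : act 0 n40257 = n39468 := d8_1 D40257 (iv F182754) (iv F180721)
theorem F185600 : act 1 n40257 = n39457 := d16_1 D40257 F182691 (iv F180722)
theorem F185601 : act 2 n40257 = n39966 := d23_1 D40257 (iv F185546) F185541
theorem F185602 : act 3 n40257 = n39427 := d29_1 D40257 (iv F182513) (iv F180723)
theorem F185603 : act 4 n40257 = n40257 := d34_1 D40257 (iv D40257) F180724
theorem F185604 : act 6 n40257 = n39126 := d41_1 D40257 (iv D39126) (iv F180725)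
theorem F185605 : act 7 n40257 = n39125 := d43_1 D40257 (iv D39125) D39124
theorem F185606 : act 8 n40257 = n39425 := d44_1 D40257 F182500 D39922 F185462 F185461
def n40258 : Q := act 8 n39128
theorem D40258 : act 8 n39128 = n40258 := rfl
theorem F185607 : act 0 n40258 = n39814 := d7_1 D40258 (iv D39814) (iv F180749)
theorem F185608 : act 1 n40258 = n40038 := d15_1 D40258 (iv D40038) (iv F180750)
theorem F185609 : act 3 n40258 = n40135 := d28_1 D40258 (iv D40135) (iv F180751)
theorem F185610 : act 4 n40258 = n39129 := d33_1 D40258 (iv D39129) D39128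
theorem F185611 : act 6 n40258 = n39648 := d40_1 D40258 (iv D39648) (iv F180753)
def n40259 : Q := act 5 n39129
theorem D40259 : act 5 n39129 = n40259 := rfl
theorem F185612 : act 0 n40259 = n39815 := d4_1 D40259 (iv D39815) (iv F180755)
theorem F185613 : act 1 n40259 = n40003 := d12_1 D40259 F184742 (iv F180756)
theorem F185614 : act 2 n40259 = n40121 := d19_1 D40259 (iv F185174) F185172
theorem F185615 : act 3 n40259 = n39133 := d25_1 D40259 (iv D39133) (iv F180757)
theorem F185616 : act 7 n40259 = n39981 := d36_2 F185514 D40259 (iv F185513)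
theorem F185617 : act 8 n40259 = n39130 := d37_2 D39129 D40259 (iv D39130) (iv D37884) D37883
def n40260 : Q := act 9 n39129
theorem D40260 : act 9 n39129 = n40260 := rfl
theorem F185618 : act 0 n40260 = n39816 := d8_1 D40260 (iv D39816) (iv F180755)
theorem F185619 : act 1 n40260 = n40036 := d16_1 D40260 F184821 (iv F180756)
theorem F185620 : act 3 n40260 = n39134 := d29_1 D40260 (iv D39134) (iv F180757)
theorem F185621 : act 6 n40260 = n39650 := d41_1 D40260 (iv D39650) (iv F180758)
theorem F185622 : act 8 n40260 = n39916 := d44_1 D40260 (iv D39916) F179510 (iv F175158) D39129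
def n40261 : Q := act 4 n39130
theorem D40261 : act 4 n39130 = n40261 := rfl
theorem F185623 : act 0 n40261 = n39817 := d3_1 D40261 (iv D39817) (iv F180759)
theorem F185624 : act 1 n40261 = n40000 := d11_1 D40261 F184734 (iv F180760)
theorem F185625 : act 2 n40261 = n39954 := d18_1 D40261 F184595 (iv F180761)
theorem F185626 : act 5 n40261 = n39179 := d30_2 D39130 D40261 (iv D39179) (iv D37933) (iv F175163)
theorem F185627 : act 7 n40261 = n39979 := d32_2 (iv F180763) D40261 F184672
theorem F185628 : act 9 n40261 = n39902 := d34_2 (iv F180764) D40261 (iv D39902)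
def n40262 : Q := act 6 n39130
theorem D40262 : act 6 n39130 = n40262 := rfl
theorem F185629 : act 0 n40262 = n39818 := d5_1 D40262 (iv D39818) (iv F180759)
theorem F185630 : act 1 n40262 = n40002 := d13_1 D40262 F184740 (iv F180760)
theorem F185631 : act 2 n40262 = n40075 := d20_1 D40262 F184919 (iv F180761)
theorem F185632 : act 3 n40262 = n39136 := d26_1 D40262 (iv D39136) (iv F180762)
theorem F185633 : act 5 n40262 = n39131 := d35_1 D40262 (iv D39131) (iv D37885) (iv F175164) D39130
theorem F185634 : act 9 n40262 = n39903 := d41_2 (iv F180764) D40262 (iv D39903)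
def n40263 : Q := act 7 n39131
theorem D40263 : act 7 n39131 = n40263 := rfl
theorem F185635 : act 0 n40263 = n39819 := d6_1 D40263 (iv D39819) (iv F180765)
theorem F185636 : act 1 n40263 = n40004 := d14_1 D40263 F184746 (iv F180766)
theorem F185637 : act 2 n40263 = n39765 := d21_1 D40263 F183982 (iv F180767)
theorem F185638 : act 3 n40263 = n39137 := d27_1 D40263 (iv D39137) (iv F180768)
theorem F185639 : act 4 n40263 = n40263 := d32_1 D40263 (iv D40263) F180769
theorem F185640 : act 6 n40263 = n39132 := d39_1 D40263 (iv D39132) (iv D37886) (iv F175172) D39131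
theorem F185641 : act 8 n40263 = n39654 := d42_2 (iv F180770) D40263 (iv D39654)
theorem F185642 : act 9 n40263 = n39904 := d43_2 (iv F180771) D40263 (iv D39904)
def n40264 : Q := act 4 n39133
theorem D40264 : act 4 n39133 = n40264 := rfl
theorem F185643 : act 0 n40264 = n39820 := d3_1 D40264 (iv D39820) (iv F180780)
theorem F185644 : act 1 n40264 = n40151 := d11_1 D40264 F185078 (iv F180781)
theorem F185645 : act 2 n40264 = n39139 := d18_1 D40264 (iv D39139) (iv F180782)
theorem F185646 : act 5 n40264 = n40137 := d30_2 D39133 D40264 (iv D40137) (iv D38998) (iv F175186)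
theorem F185647 : act 8 n40264 = n39135 := d33_2 (iv F180783) D40264 (iv D39135)
def n40265 : Q := act 6 n39133
theorem D40265 : act 6 n39133 = n40265 := rfl
theorem F185648 : act 0 n40265 = n39821 := d5_1 D40265 (iv D39821) (iv F180780)
theorem F185649 : act 1 n40265 = n40153 := d13_1 D40265 F185081 (iv F180781)
theorem F185650 : act 2 n40265 = n39140 := d20_1 D40265 (iv D39140) (iv F180782)
theorem F185651 : act 5 n40265 = n39656 := d35_1 D40265 (iv D39656) (iv D38466) (iv F175187) D39133
theorem F185652 : act 8 n40265 = n39136 := d40_2 (iv F180783) D40265 (iv D39136)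
def n40266 : Q := act 9 n39133
theorem D40266 : act 9 n39133 = n40266 := rfl
theorem F185653 : act 0 n40266 = n39822 := d8_1 D40266 (iv D39822) (iv F180780)
theorem F185654 : act 1 n40266 = n40146 := d16_1 D40266 F185068 (iv F180781)
theorem F185655 : act 2 n40266 = n39141 := d23_1 D40266 (iv D39141) (iv F180782)
theorem F185656 : act 5 n40266 = n39134 := d38_1 D40266 (iv D39134) D39133
theorem F185657 : act 8 n40266 = n40062 := d44_1 D40266 (iv D40062) F179988 (iv F175191) (iv F180783)
def n40267 : Q := act 3 n39135
theorem D40267 : act 3 n39135 = n40267 := rfl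
theorem F185658 : act 0 n40267 = n39823 := d2_1 D40267 (iv D39823) (iv F180790)
theorem F185659 : act 1 n40267 = n40047 := d10_1 D40267 F184849 (iv F180791)
theorem F185660 : act 5 n40267 = n39138 := d25_2 (iv F180793) D40267 (iv D39138)
theorem F185661 : act 9 n40267 = n40063 := d29_2 (iv F180794) D40267 (iv D40063)
def n40268 : Q := act 6 n39135
theorem D40268 : act 6 n39135 = n40268 := rfl
theorem F185662 : act 0 n40268 = n39824 := d5_1 D40268 (iv D39824) (iv F180790)
theorem F185663 : act 1 n40268 = n40150 := d13_1 D40268 F185077 (iv F180791)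
theorem F185664 : act 2 n40268 = n39143 := d20_1 D40268 (iv D39143) (iv F180792)
theorem F185665 : act 4 n40268 = n39136 := d31_1 D40268 (iv D39136) D39135
theorem F185666 : act 5 n40268 = n39154 := d35_1 D40268 (iv D39154) F175273 (iv F175207) (iv F180793)
theorem F185667 : act 9 n40268 = n40064 := d41_2 (iv F180794) D40268 (iv D40064)
def n40269 : Q := act 7 n39136
theorem D40269 : act 7 n39136 = n40269 := rfl
theorem F185668 : act 0 n40269 = n39826 := d6_1 D40269 (iv D39826) (iv F180795)
theorem F185669 : act 1 n40269 = n40152 := d14_1 D40269 F185080 (iv F180796)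
theorem F185670 : act 2 n40269 = n39145 := d21_1 D40269 (iv D39145) (iv F180797)
theorem F185671 : act 5 n40269 = n39137 := d36_1 D40269 (iv D39137) (iv F180798)
theorem F185672 : act 9 n40269 = n40065 := d43_2 (iv F180799) D40269 (iv D40065)
def n40270 : Q := act 2 n39138
theorem D40270 : act 2 n39138 = n40270 := rfl
theorem F185673 : act 0 n40270 = n39830 := d1_1 D40270 (iv D39830) (iv F180807)
theorem F185674 : act 1 n40270 = n39982 := d9_1 D40270 (iv D39982) F179732 (iv F179944) (iv F180808)
theorem F185675 : act 3 n40270 = n39149 := d17_2 D39138 D40270 (iv D39149) (iv D37900) (iv F175206)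
theorem F185676 : act 4 n40270 = n39178 := d18_2 (iv F180809) D40270 F181042
theorem F185677 : act 6 n40270 = n39156 := d20_2 (iv F180810) D40270 (iv D39156)
theorem F185678 : act 7 n40270 = n40007 := d21_2 F185552 D40270 (iv F185549)
theorem F185679 : act 8 n40270 = n39893 := d22_2 (iv F180811) D40270 F184381
theorem F185680 : act 9 n40270 = n39176 := d23_2 (iv F180812) D40270 F181028
def n40271 : Q := act 3 n39139
theorem D40271 : act 3 n39139 = n40271 := rfl
theorem F185681 : act 0 n40271 = n39831 := d2_1 D40271 (iv D39831) (iv F180813)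
theorem F185682 : act 4 n40271 = n40124 := d24_2 D39139 D40271 F185028 (iv F180314) F180313
theorem F185683 : act 5 n40271 = n40141 := d25_2 (iv F180814) D40271 (iv D40141)
theorem F185684 : act 7 n40271 = n40157 := d27_2 F185559 D40271 (iv F185557)
theorem F185685 : act 8 n40271 = n39142 := d28_2 (iv F180815) D40271 (iv D39142)
def n40272 : Q := act 6 n39139
theorem D40272 : act 6 n39139 = n40272 := rfl
theorem F185686 : act 0 n40272 = n39832 := d5_1 D40272 (iv D39832) (iv F180813)
theorem F185687 : act 4 n40272 = n39140 := d31_1 D40272 (iv D39140) D39139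
theorem F185688 : act 8 n40272 = n39143 := d40_2 (iv F180815) D40272 (iv D39143)
def n40273 : Q := act 9 n39139
theorem D40273 : act 9 n39139 = n40273 := rfl
theorem F185689 : act 0 n40273 = n39833 := d8_1 D40273 (iv D39833) (iv F180813)
theorem F185690 : act 4 n40273 = n39141 := d34_1 D40273 (iv D39141) D39139
theorem F185691 : act 5 n40273 = n40143 := d38_1 D40273 (iv D40143) (iv F180814)
def n40274 : Q := act 7 n39140
theorem D40274 : act 7 n39140 = n40274 := rfl
theorem F185692 : act 0 n40274 = n39834 := d6_1 D40274 (iv D39834) (iv F180816)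
theorem F185693 : act 5 n40274 = n39662 := d36_1 D40274 (iv D39662) (iv F180817)
theorem F185694 : act 8 n40274 = n39145 := d42_2 (iv F180818) D40274 (iv D39145)
def n40275 : Q := act 9 n39140
theorem D40275 : act 9 n39140 = n40275 := rfl
theorem F185695 : act 0 n40275 = n39835 := d8_1 D40275 (iv D39835) (iv F180816)
theorem F185696 : act 5 n40275 = n39663 := d38_1 D40275 (iv D39663) (iv F180817)
theorem F185697 : act 6 n40275 = n39141 := d41_1 D40275 (iv D39141) D39140
def n40276 : Q := act 8 n39141
theorem D40276 : act 8 n39141 = n40276 := rfl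
theorem F185698 : act 0 n40276 = n39836 := d7_1 D40276 (iv D39836) (iv F180819)
theorem F185699 : act 2 n40276 = n40062 := d22_1 D40276 (iv F185657) F185655
theorem F185700 : act 5 n40276 = n40059 := d37_1 D40276 F184886 F180005 (iv F175215) (iv F180820)
theorem F185701 : act 9 n40276 = n39147 := d44_2 D39141 D40276 (iv D39147) (iv D37896) (iv F175211)
def n40277 : Q := act 2 n39142
theorem D40277 : act 2 n39142 = n40277 := rfl
theorem F185702 : act 0 n40277 = n39837 := d1_1 D40277 (iv D39837) (iv F180821)
theorem F185703 : act 1 n40277 = n40028 := d9_1 D40277 F184804 (iv F180750) (iv F185164) F185163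
theorem F185704 : act 4 n40277 = n39941 := d18_2 (iv F180822) D40277 F184551
theorem F185705 : act 5 n40277 = n39149 := d19_2 (iv F180823) D40277 (iv D39149)
theorem F185706 : act 7 n40277 = n40020 := d21_2 (iv F180824) D40277 F184785
theorem F185707 : act 9 n40015 = n40277 := d38_0 F185705 (iv F180855) (iv F184775)
def n40278 : Q := act 6 n39142
theorem D40278 : act 6 n39142 = n40278 := rfl
theorem F185708 : act 0 n40278 = n39838 := d5_1 D40278 (iv D39838) (iv F180821)
theorem F185709 : act 1 n40278 = n39372 := d13_1 D40278 (iv F185167) F185163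
theorem F185710 : act 3 n40278 = n39143 := d26_1 D40278 (iv D39143) D39142
theorem F185711 : act 4 n40278 = n39365 := d31_1 D40278 F182182 (iv F180822)
theorem F185712 : act 5 n40278 = n39161 := d35_1 D40278 (iv D39161) F175310 (iv F175240) (iv F180823)
def n40279 : Q := act 9 n39142
theorem D40279 : act 9 n39142 = n40279 := rfl
theorem F185713 : act 0 n40279 = n39839 := d8_1 D40279 (iv D39839) (iv F180821)
theorem F185714 : act 1 n40279 = n39914 := d16_1 D40279 (iv F185169) F185163
theorem F185715 : act 2 n40279 = n40015 := d23_1 D40279 F185707 (iv D40277)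
theorem F185716 : act 3 n40279 = n39144 := d29_1 D40279 (iv D39144) D39142
theorem F185717 : act 4 n40279 = n39909 := d34_1 D40279 F184458 (iv F180822)
theorem F185718 : act 5 n40279 = n39150 := d38_1 D40279 (iv D39150) (iv F180823)
theorem F185719 : act 7 n40279 = n40161 := d43_1 D40279 (iv D40161) (iv F180824)
def n40280 : Q := act 7 n39143
theorem D40280 : act 7 n39143 = n40280 := rfl
theorem F185720 : act 0 n40280 = n39840 := d6_1 D40280 (iv D39840) (iv F180825)
theorem F185721 : act 4 n40280 = n39145 := d32_1 D40280 (iv D39145) (iv F180826)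
theorem F185722 : act 5 n40280 = n39163 := d36_1 D40280 (iv D39163) (iv F180827)
def n40281 : Q := act 9 n39143
theorem D40281 : act 9 n39143 = n40281 := rfl
theorem F185723 : act 0 n40281 = n39841 := d8_1 D40281 (iv D39841) (iv F180825)
theorem F185724 : act 1 n40281 = n39846 := d16_1 D40281 F185348 F185344
theorem F185725 : act 2 n40281 = n40064 := d23_1 D40281 (iv F185667) F185664
theorem F185726 : act 4 n40281 = n39146 := d34_1 D40281 (iv D39146) (iv F180826)
theorem F185727 : act 5 n40281 = n39164 := d38_1 D40281 (iv D39164) (iv F180827)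
theorem F185728 : act 6 n40281 = n39144 := d41_1 D40281 (iv D39144) D39143
def n40282 : Q := act 8 n39144
theorem D40282 : act 8 n39144 = n40282 := rfl
theorem F185729 : act 0 n40282 = n39842 := d7_1 D40282 (iv D39842) (iv F180828)
theorem F185730 : act 2 n40282 = n40060 := d22_1 D40282 F184888 (iv F180829)
theorem F185731 : act 4 n40282 = n39147 := d33_1 D40282 (iv D39147) (iv F180830)
def n40283 : Q := act 9 n39145
theorem D40283 : act 9 n39145 = n40283 := rfl
theorem F185732 : act 0 n40283 = n39843 := d8_1 D40283 (iv D39843) (iv F180832)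
theorem F185733 : act 1 n40283 = n39598 := d16_1 D40283 (iv F185362) F185357
theorem F185734 : act 2 n40283 = n40065 := d23_1 D40283 (iv F185672) F185670
theorem F185735 : act 3 n40283 = n39873 := d29_1 D40283 F185206 F185202
theorem F185736 : act 5 n40283 = n39148 := d38_1 D40283 (iv D39148) (iv F180833)
theorem F185737 : act 7 n40283 = n39146 := d43_1 D40283 (iv D39146) D39145
def n40284 : Q := act 8 n39146
theorem D40284 : act 8 n39146 = n40284 := rfl
theorem F185738 : act 0 n40284 = n39844 := d7_1 D40284 (iv D39844) (iv F180834)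
theorem F185739 : act 2 n40284 = n40061 := d22_1 D40284 F184890 (iv F180835)
theorem F185740 : act 6 n40284 = n39147 := d40_1 D40284 (iv D39147) (iv F180837)
def n40285 : Q := act 3 n39151
theorem D40285 : act 3 n39151 = n40285 := rfl
theorem F185741 : act 0 n40285 = n39695 := d2_1 D40285 (iv D39695) (iv F180864)
theorem F185742 : act 1 n40285 = n39739 := d10_1 D40285 F183904 (iv F180865)
theorem F185743 : act 4 n40285 = n40285 := d24_2 D39151 D40285 (iv D40285) (iv D39151) F175266
theorem F185744 : act 5 n40285 = n39692 := d25_2 (iv F180867) D40285 (iv D39692)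
theorem F185745 : act 7 n40285 = n40285 := d27_2 F180868 D40285 (iv D40285)
theorem F185746 : act 8 n40285 = n39153 := d28_2 (iv F180869) D40285 (iv D39153)
theorem F185747 : act 9 n40285 = n39694 := d29_2 (iv F180870) D40285 (iv D39694)
def n40286 : Q := act 6 n39151
theorem D40286 : act 6 n39151 = n40286 := rfl
theorem F185748 : act 0 n40286 = n39696 := d5_1 D40286 (iv D39696) (iv F180864)
theorem F185749 : act 1 n40286 = n39851 := d13_1 D40286 F184217 (iv F180865)
theorem F185750 : act 2 n40286 = n39158 := d20_1 D40286 (iv D39158) (iv F180866)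
theorem F185751 : act 4 n40286 = n39152 := d31_1 D40286 (iv D39152) D39151
theorem F185752 : act 8 n40286 = n39154 := d40_2 (iv F180869) D40286 (iv D39154)
theorem F185753 : act 9 n40286 = n39500 := d41_2 (iv F180870) D40286 F182902
def n40287 : Q := act 7 n39152
theorem D40287 : act 7 n39152 = n40287 := rfl
theorem F185754 : act 0 n40287 = n39697 := d6_1 D40287 (iv D39697) (iv F180871)
theorem F185755 : act 1 n40287 = n39852 := d14_1 D40287 F184224 (iv F180872)
theorem F185756 : act 2 n40287 = n39159 := d21_1 D40287 (iv D39159) (iv F180873)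
theorem F185757 : act 3 n40287 = n40287 := d27_1 D40287 (iv D40287) F180874
theorem F185758 : act 5 n40287 = n39237 := d36_1 D40287 F181425 (iv F180875)
theorem F185759 : act 6 n40287 = n40287 := d39_1 D40287 (iv D40287) (iv D39152) F175267 D39152
theorem F185760 : act 8 n40287 = n39155 := d42_2 (iv F180876) D40287 (iv D39155)
theorem F185761 : act 9 n40287 = n39236 := d43_2 (iv F180877) D40287 F181418
def n40288 : Q := act 2 n39153
theorem D40288 : act 2 n39153 = n40288 := rfl
theorem F185762 : act 0 n40288 = n39848 := d1_1 D40288 (iv D39848) (iv F180878)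
theorem F185763 : act 1 n40288 = n39685 := d9_1 D40288 F183658 F179875 (iv F179951) (iv F180879)
theorem F185764 : act 3 n40288 = n39160 := d17_2 D39153 D40288 (iv D39160) (iv D37911) (iv F175272)
theorem F185765 : act 4 n40288 = n40288 := d18_2 F180880 D40288 (iv D40288)
theorem F185766 : act 5 n40288 = n39156 := d19_2 (iv F180881) D40288 (iv D39156)
theorem F185767 : act 7 n40288 = n40288 := d21_2 F180882 D40288 (iv D40288)
theorem F185768 : act 9 n40288 = n39181 := d23_2 (iv F180883) D40288 F181064
def n40289 : Q := act 6 n39153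
theorem D40289 : act 6 n39153 = n40289 := rfl
theorem F185769 : act 0 n40289 = n39849 := d5_1 D40289 (iv D39849) (iv F180878)
theorem F185770 : act 1 n40289 = n40048 := d13_1 D40289 (iv D40048) (iv F180879)
theorem F185771 : act 3 n40289 = n39154 := d26_1 D40289 (iv D39154) D39153
theorem F185772 : act 4 n40289 = n40289 := d31_1 D40289 (iv D40289) F180880
theorem F185773 : act 9 n40289 = n40172 := d41_2 (iv F180883) D40289 (iv D40172)
def n40290 : Q := act 7 n39154
theorem D40290 : act 7 n39154 = n40290 := rfl
theorem F185774 : act 0 n40290 = n39850 := d6_1 D40290 (iv D39850) (iv F180884)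
theorem F185775 : act 1 n40290 = n40177 := d14_1 D40290 F185128 (iv F180885)
theorem F185776 : act 2 n40290 = n39163 := d21_1 D40290 (iv D39163) (iv F180886)
theorem F185777 : act 4 n40290 = n39155 := d32_1 D40290 (iv D39155) (iv F180887)
theorem F185778 : act 6 n40290 = n40290 := d39_1 D40290 (iv D40290) (iv D39154) F175274 D39154
theorem F185779 : act 9 n40290 = n40173 := d43_2 (iv F180888) D40290 (iv D40173)
def n40291 : Q := act 2 n39157
theorem D40291 : act 2 n39157 = n40291 := rfl
theorem F185780 : act 0 n40291 = n39847 := d1_1 D40291 (iv D39847) (iv F180903)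
theorem F185781 : act 1 n40291 = n39686 := d9_1 D40291 F183664 F178592 (iv F177187) (iv F180904)
theorem F185782 : act 4 n40291 = n39166 := d18_2 (iv F180905) D40291 (iv D39166)
theorem F185783 : act 5 n40291 = n40171 := d19_2 (iv F180906) D40291 F185111
theorem F185784 : act 7 n40291 = n40291 := d21_2 F180907 D40291 (iv D40291)
theorem F185785 : act 8 n40291 = n39160 := d22_2 (iv F180908) D40291 (iv D39160)
theorem F185786 : act 9 n40291 = n39698 := d23_2 (iv F180909) D40291 (iv D39698)
def n40292 : Q := act 6 n39157
theorem D40292 : act 6 n39157 = n40292 := rfl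
theorem F185787 : act 0 n40292 = n39813 := d5_1 D40292 F184127 (iv F180903)
theorem F185788 : act 1 n40292 = n39420 := d13_1 D40292 F182464 (iv F180904)
theorem F185789 : act 3 n40292 = n39158 := d26_1 D40292 (iv D39158) D39157
theorem F185790 : act 4 n40292 = n39167 := d31_1 D40292 (iv D39167) (iv F180905)
theorem F185791 : act 8 n40292 = n39161 := d40_2 (iv F180908) D40292 (iv D39161)
theorem F185792 : act 9 n40292 = n39507 := d41_2 (iv F180909) D40292 F182926
def n40293 : Q := act 5 n39158
theorem D40293 : act 5 n39158 = n40293 := rfl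
theorem F185793 : act 0 n40293 = n39812 := d4_1 D40293 F184124 (iv F180910)
theorem F185794 : act 1 n40293 = n39630 := d12_1 D40293 F183429 (iv F180911)
theorem F185795 : act 4 n40293 = n39505 := d30_1 D40293 F182917 F177740 (iv F175304) (iv F180912)
theorem F185796 : act 6 n40293 = n40175 := d35_2 D39158 D40293 (iv D40175) (iv D39039) (iv F175297)
theorem F185797 : act 9 n40293 = n39503 := d38_2 (iv F180914) D40293 F182911
def n40294 : Q := act 7 n39158
theorem D40294 : act 7 n39158 = n40294 := rfl
theorem F185798 : act 0 n40294 = n39791 := d6_1 D40294 F184072 (iv F180910)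
theorem F185799 : act 1 n40294 = n39571 := d14_1 D40294 F183187 (iv F180911)
theorem F185800 : act 4 n40294 = n39159 := d32_1 D40294 (iv D39159) (iv F180912)
theorem F185801 : act 6 n40294 = n40294 := d39_1 D40294 (iv D40294) (iv D39158) F175298 D39158
theorem F185802 : act 8 n40294 = n39163 := d42_2 (iv F180913) D40294 (iv D39163)
theorem F185803 : act 9 n40294 = n39244 := d43_2 (iv F180914) D40294 F181468
def n40295 : Q := act 6 n39160
theorem D40295 : act 6 n39160 = n40295 := rfl
theorem F185804 : act 0 n40295 = n39853 := d5_1 D40295 (iv D39853) (iv F180922)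
theorem F185805 : act 1 n40295 = n39673 := d13_1 D40295 F183590 (iv F180923)
theorem F185806 : act 2 n40295 = n39161 := d20_1 D40295 (iv D39161) D39160
theorem F185807 : act 4 n40295 = n39169 := d31_1 D40295 (iv D39169) (iv F180924)
theorem F185808 : act 9 n40295 = n40041 := d41_2 F180927 D40295 (iv D40041)
def n40296 : Q := act 7 n39161
theorem D40296 : act 7 n39161 = n40296 := rfl
theorem F185809 : act 0 n40296 = n39854 := d6_1 D40296 (iv D39854) (iv F180928)
theorem F185810 : act 1 n40296 = n39414 := d14_1 D40296 F182425 (iv F180929)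
theorem F185811 : act 3 n40296 = n39163 := d27_1 D40296 (iv D39163) (iv F180930)
theorem F185812 : act 4 n40296 = n39170 := d32_1 D40296 (iv D39170) (iv F180931)
theorem F185813 : act 6 n40296 = n40296 := d39_1 D40296 (iv D40296) (iv D39161) F175311 D39161
def n40297 : Q := act 9 n39161
theorem D40297 : act 9 n39161 = n40297 := rfl
theorem F185814 : act 0 n40297 = n39855 := d8_1 D40297 (iv D39855) (iv F180928)
theorem F185815 : act 1 n40297 = n39415 := d16_1 D40297 F182431 (iv F180929)
theorem F185816 : act 2 n40297 = n40041 := d23_1 D40297 (iv F185808) F185806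
theorem F185817 : act 3 n40297 = n39164 := d29_1 D40297 (iv D39164) (iv F180930)
theorem F185818 : act 4 n40297 = n39171 := d34_1 D40297 (iv D39171) (iv F180931)
theorem F185819 : act 6 n40297 = n39162 := d41_1 D40297 (iv D39162) D39161
theorem F185820 : act 8 n40297 = n39764 := d44_1 D40297 (iv D39764) (iv F182927) (iv F185792) F185791
def n40298 : Q := act 9 n39163
theorem D40298 : act 9 n39163 = n40298 := rfl
theorem F185821 : act 0 n40298 = n39856 := d8_1 D40298 (iv D39856) (iv F180940)
theorem F185822 : act 1 n40298 = n39599 := d16_1 D40298 (iv F185375) F185369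
theorem F185823 : act 2 n40298 = n40173 := d23_1 D40298 (iv F185779) F185776
theorem F185824 : act 4 n40298 = n39165 := d34_1 D40298 (iv D39165) (iv F180941)
theorem F185825 : act 6 n40298 = n40298 := d41_1 D40298 (iv D40298) F180942
theorem F185826 : act 7 n40298 = n39164 := d43_1 D40298 (iv D39164) D39163
theorem F185827 : act 8 n40298 = n39753 := d44_1 D40298 (iv D39753) (iv F181469) (iv F185803) F185802
def n40299 : Q := act 6 n39166
theorem D40299 : act 6 n39166 = n40299 := rfl
theorem F185828 : act 0 n40299 = n39857 := d5_1 D40299 (iv D39857) (iv F180957)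
theorem F185829 : act 1 n40299 = n39551 := d13_1 D40299 F183094 (iv F180958)
theorem F185830 : act 2 n40299 = n39167 := d20_1 D40299 (iv D39167) D39166
theorem F185831 : act 3 n40299 = n40299 := d26_1 D40299 (iv D40299) F180959
theorem F185832 : act 8 n40299 = n39169 := d40_2 (iv F180962) D40299 (iv D39169)
theorem F185833 : act 9 n40299 = n39508 := d41_2 (iv F180963) D40299 F182929
def n40300 : Q := act 7 n39167
theorem D40300 : act 7 n39167 = n40300 := rfl
theorem F185834 : act 0 n40300 = n39858 := d6_1 D40300 (iv D39858) (iv F180964)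
theorem F185835 : act 1 n40300 = n39357 := d14_1 D40300 F182135 (iv F180965)
theorem F185836 : act 3 n40300 = n39168 := d27_1 D40300 (iv D39168) (iv F180966)
theorem F185837 : act 5 n40300 = n39552 := d36_1 D40300 (iv F185500) F185498
theorem F185838 : act 6 n40300 = n40300 := d39_1 D40300 (iv D40300) (iv D39167) F175355 D39167
theorem F185839 : act 8 n40300 = n39170 := d42_2 (iv F180967) D40300 (iv D39170)
theorem F185840 : act 9 n40300 = n39245 := d43_2 (iv F180968) D40300 F181474
def n40301 : Q := act 7 n39169
theorem D40301 : act 7 n39169 = n40301 := rfl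
theorem F185841 : act 0 n40301 = n39859 := d6_1 D40301 (iv D39859) (iv F180977)
theorem F185842 : act 1 n40301 = n39666 := d14_1 D40301 F183548 (iv F180978)
theorem F185843 : act 2 n40301 = n39170 := d21_1 D40301 (iv D39170) (iv F180979)
theorem F185844 : act 3 n40301 = n40301 := d27_1 D40301 (iv D40301) F180980
theorem F185845 : act 5 n40301 = n39413 := d36_1 D40301 F182419 (iv F180981)
theorem F185846 : act 6 n40301 = n40301 := d39_1 D40301 (iv D40301) (iv D39169) F175375 D39169
theorem F185847 : act 9 n40301 = n39713 := d43_2 (iv F180982) D40301 F183818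
def n40302 : Q := act 9 n39170
theorem D40302 : act 9 n39170 = n40302 := rfl
theorem F185848 : act 0 n40302 = n39333 := d8_1 D40302 (iv F182011) (iv F180983)
theorem F185849 : act 1 n40302 = n39412 := d16_1 D40302 F182414 (iv F180984)
theorem F185850 : act 2 n40302 = n39713 := d23_1 D40302 (iv F185847) F185843
theorem F185851 : act 3 n40302 = n39172 := d29_1 D40302 (iv D39172) (iv F180985)
theorem F185852 : act 5 n40302 = n39328 := d38_1 D40302 (iv F181984) (iv F180986)
theorem F185853 : act 6 n40302 = n40302 := d41_1 D40302 (iv D40302) F180987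
theorem F185854 : act 7 n40302 = n39171 := d43_1 D40302 (iv D39171) D39170
theorem F185855 : act 8 n40302 = n39677 := d44_1 D40302 (iv D39677) (iv F181475) (iv F185840) F185839
def n40303 : Q := act 8 n39173
theorem D40303 : act 8 n39173 = n40303 := rfl
theorem F185856 : act 0 n40303 = n39863 := d7_1 D40303 (iv D39863) (iv F181003)
theorem F185857 : act 1 n40303 = n39949 := d15_1 D40303 F184581 (iv F181004)
theorem F185858 : act 2 n40303 = n39967 := d22_1 D40303 F184641 (iv F181005)
theorem F185859 : act 3 n40303 = n39938 := d28_1 D40303 F184542 (iv F181006)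
theorem F185860 : act 4 n40303 = n39174 := d33_1 D40303 (iv D39174) D39173
theorem F185861 : act 6 n40303 = n40303 := d40_1 D40303 (iv D40303) F181007
theorem F185862 : act 7 n40303 = n39176 := d42_1 D40303 (iv D39176) (iv F181008)
theorem F185863 : act 9 n40303 = n40007 := d44_2 (iv F181009) D40303 (iv D40007) (iv D38850) (iv F179352)
def n40304 : Q := act 5 n39176
theorem D40304 : act 5 n39176 = n40304 := rfl
theorem F185864 : act 0 n40304 = n39867 := d4_1 D40304 (iv D39867) (iv F181026)
theorem F185865 : act 1 n40304 = n40026 := d12_1 D40304 F184800 (iv F181027)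
theorem F185866 : act 2 n40304 = n40063 := d19_1 D40304 F184894 (iv F181028)
theorem F185867 : act 3 n40304 = n40015 := d25_1 D40304 F184775 (iv F181029)
def n40305 : Q := act 4 n39177
theorem D40305 : act 4 n39177 = n40305 := rfl
theorem F185868 : act 0 n40305 = n39868 := d3_1 D40305 (iv D39868) (iv F181032)
theorem F185869 : act 1 n40305 = n40007 := d11_1 D40305 F184760 (iv F181033)
theorem F185870 : act 2 n40305 = n39905 := d18_1 D40305 F184441 (iv F181034)
theorem F185871 : act 3 n40305 = n39950 := d24_1 D40305 F184584 F179642 (iv F175451) (iv F181035)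
theorem F185872 : act 6 n40305 = n40305 := d31_2 F181036 D40305 (iv D40305)
theorem F185873 : act 7 n40305 = n39982 := d32_2 (iv F181037) D40305 F184678
theorem F185874 : act 8 n40305 = n39179 := d33_2 (iv F181038) D40305 (iv D39179)
theorem F185875 : act 9 n40305 = n39949 := d34_2 F181039 D40305 F184578
def n40306 : Q := act 3 n39179
theorem D40306 : act 3 n39179 = n40306 := rfl
theorem F185876 : act 0 n40306 = n39869 := d2_1 D40306 (iv D39869) (iv F181048)
theorem F185877 : act 1 n40306 = n40006 := d10_1 D40306 F184754 (iv F181049)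
theorem F185878 : act 2 n40306 = n39949 := d17_1 D40306 (iv D39949) F179637 D38807 (iv F181050)
theorem F185879 : act 4 n40306 = n39180 := d24_2 D39179 D40306 (iv D39180) (iv D37936) (iv F175444)
theorem F185880 : act 6 n40306 = n40306 := d26_2 F181051 D40306 (iv D40306)
theorem F185881 : act 7 n40306 = n39983 := d27_2 (iv F181052) D40306 F184684
theorem F185882 : act 8 n40306 = n39950 := d28_2 F185874 D40306 (iv F185871)
theorem F185883 : act 9 n40306 = n39905 := d29_2 (iv F181053) D40306 (iv D39905)
def n40307 : Q := act 6 n39181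
theorem D40307 : act 6 n39181 = n40307 := rfl
theorem F185884 : act 0 n40307 = n39872 := d5_1 D40307 (iv D39872) (iv F181062)
theorem F185885 : act 1 n40307 = n40042 := d13_1 D40307 (iv D40042) (iv F181063)
theorem F185886 : act 2 n40307 = n40172 := d20_1 D40307 (iv D40172) (iv F181064)
theorem F185887 : act 3 n40307 = n40041 := d26_1 D40307 (iv D40041) (iv F181065)
theorem F185888 : act 4 n40307 = n40307 := d31_1 D40307 (iv D40307) F181066
theorem F185889 : act 8 n40307 = n39690 := d40_2 (iv F181068) D40307 (iv D39690)
def n40308 : Q := act 5 n39182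
theorem D40308 : act 5 n39182 = n40308 := rfl
theorem F185890 : act 0 n40308 = n39476 := d4_1 D40308 F182783 (iv F181069)
theorem F185891 : act 1 n40308 = n39184 := d12_1 D40308 (iv D39184) (iv F181070)
theorem F185892 : act 2 n40308 = n39873 := d19_1 D40308 (iv D39873) (iv F181071)
theorem F185893 : act 3 n40308 = n40074 := d25_1 D40308 F184916 (iv F181072)
theorem F185894 : act 4 n40308 = n39531 := d30_1 D40308 (iv D39531) F177860 (iv F175502) (iv F181073)
theorem F185895 : act 6 n40308 = n39429 := d35_2 D39182 D40308 (iv D39429) F177246 (iv F175495)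
theorem F185896 : act 7 n40308 = n40068 := d36_2 (iv F181074) D40308 (iv D40068)
theorem F185897 : act 9 n40308 = n39766 := d38_2 (iv F181076) D40308 (iv D39766)
def n40309 : Q := act 5 n39183
theorem D40309 : act 5 n39183 = n40309 := rfl
theorem F185898 : act 0 n40309 = n39206 := d4_1 D40309 (iv D39206) (iv F181077)
theorem F185899 : act 1 n40309 = n40074 := d12_1 D40309 F184916 (iv F181078)
theorem F185900 : act 2 n40309 = n39451 := d19_1 D40309 (iv D39451) (iv F181079)
theorem F185901 : act 3 n40309 = n39184 := d25_1 D40309 (iv D39184) (iv F181080)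
theorem F185902 : act 6 n40309 = n39316 := d35_2 D39183 D40309 (iv D39316) F176414 (iv F175511)
theorem F185903 : act 7 n40309 = n40069 := d36_2 (iv F181082) D40309 (iv D40069)
theorem F185904 : act 9 n40309 = n39767 := d38_2 (iv F181084) D40309 (iv D39767)
def n40310 : Q := act 8 n39184
theorem D40310 : act 8 n39184 = n40310 := rfl
theorem F185905 : act 0 n40310 = n39208 := d7_1 D40310 (iv D39208) (iv F181085)
theorem F185906 : act 2 n40310 = n39185 := d22_1 D40310 (iv D39185) (iv F181086)
theorem F185907 : act 4 n40310 = n39536 := d33_1 D40310 (iv D39536) (iv F181087)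
theorem F185908 : act 5 n40310 = n39975 := d37_1 D40310 F184665 F179725 (iv F175518) D39184
theorem F185909 : act 6 n40310 = n39553 := d40_1 D40310 (iv D39553) (iv F181088)
theorem F185910 : act 7 n40310 = n40070 := d42_1 D40310 (iv D40070) (iv F181089)
def n40311 : Q := act 5 n39185
theorem D40311 : act 5 n39185 = n40311 := rfl
theorem F185911 : act 0 n40311 = n39213 := d4_1 D40311 (iv D39213) (iv F181091)
theorem F185912 : act 1 n40311 = n39608 := d12_1 D40311 F183331 (iv F181092)
theorem F185913 : act 2 n40311 = n39975 := d19_1 D40311 (iv F185908) F185906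
theorem F185914 : act 3 n40311 = n39454 := d25_1 D40311 (iv D39454) (iv F181093)
theorem F185915 : act 6 n40311 = n39971 := d35_2 (iv F181095) D40311 (iv D39971) F183111 (iv D39554)
theorem F185916 : act 7 n40311 = n40071 := d36_2 (iv F181096) D40311 (iv D40071)
theorem F185917 : act 8 n40311 = n39186 := d37_2 D39185 D40311 (iv D39186) (iv D37945) D37944
def n40312 : Q := act 9 n39185
theorem D40312 : act 9 n39185 = n40312 := rfl
theorem F185918 : act 0 n40312 = n39214 := d8_1 D40312 (iv D39214) (iv F181091)
theorem F185919 : act 1 n40312 = n39875 := d16_1 D40312 (iv D39875) (iv F181092)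
theorem F185920 : act 3 n40312 = n39455 := d29_1 D40312 (iv D39455) (iv F181093)
theorem F185921 : act 4 n40312 = n39542 := d34_1 D40312 (iv D39542) (iv F181094)
theorem F185922 : act 6 n40312 = n39555 := d41_1 D40312 (iv D39555) (iv F181095)
theorem F185923 : act 7 n40312 = n40072 := d43_1 D40312 (iv D40072) (iv F181096)
theorem F185924 : act 8 n40312 = n39776 := d44_1 D40312 (iv D39776) (iv D38619) (iv F175526) D39185
def n40313 : Q := act 4 n39186
theorem D40313 : act 4 n39186 = n40313 := rfl
theorem F185925 : act 0 n40313 = n39215 := d3_1 D40313 (iv D39215) (iv F181097)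
theorem F185926 : act 1 n40313 = n39607 := d11_1 D40313 (iv D39607) (iv F181098)
theorem F185927 : act 2 n40313 = n39978 := d18_1 D40313 F184669 (iv F181099)
theorem F185928 : act 3 n40313 = n39638 := d24_1 D40313 (iv D39638) F178306 (iv F177446) (iv F181100)
theorem F185929 : act 5 n40313 = n39187 := d30_2 D39186 D40313 (iv D39187) (iv D37946) (iv F175531)
theorem F185930 : act 6 n40313 = n39973 := d31_2 (iv F181101) D40313 (iv D39973)
theorem F185931 : act 7 n40313 = n40073 := d32_2 (iv F181102) D40313 (iv D40073)
theorem F185932 : act 9 n40313 = n39808 := d34_2 (iv F181103) D40313 (iv D39808)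
def n40314 : Q := act 5 n39188
theorem D40314 : act 5 n39188 = n40314 := rfl
theorem F185933 : act 0 n40314 = n40069 := d4_1 D40314 (iv D40069) (iv F181112)
theorem F185934 : act 1 n40314 = n39957 := d12_1 D40314 F184604 (iv F181113)
theorem F185935 : act 2 n40314 = n39467 := d19_1 D40314 (iv D39467) (iv F181114)
theorem F185936 : act 3 n40314 = n39190 := d25_1 D40314 (iv D39190) (iv F181115)
theorem F185937 : act 6 n40314 = n39556 := d35_2 D39188 D40314 (iv D39556) (iv D38370) (iv F175556)
theorem F185938 : act 7 n40314 = n39206 := d36_2 (iv F181117) D40314 (iv D39206)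
theorem F185939 : act 9 n40314 = n39534 := d38_2 (iv F181118) D40314 (iv D39534)
def n40315 : Q := act 8 n39188
theorem D40315 : act 8 n39188 = n40315 := rfl
theorem F185940 : act 0 n40315 = n39966 := d7_1 D40315 F184636 (iv F181112)
theorem F185941 : act 1 n40315 = n39931 := d15_1 D40315 F184518 (iv F181113)
theorem F185942 : act 2 n40315 = n39468 := d22_1 D40315 (iv D39468) (iv F181114)
theorem F185943 : act 3 n40315 = n39191 := d28_1 D40315 (iv D39191) (iv F181115)
theorem F185944 : act 4 n40315 = n40315 := d33_1 D40315 (iv D40315) F181116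
theorem F185945 : act 6 n40315 = n39189 := d40_1 D40315 (iv D39189) D39188
theorem F185946 : act 7 n40315 = n39207 := d42_1 D40315 (iv D39207) (iv F181117)
theorem F185947 : act 9 n39798 = n40315 := d43_0 F185946 (iv F181244) D39798
def n40316 : Q := act 8 n39190
theorem D40316 : act 8 n39190 = n40316 := rfl
theorem F185948 : act 0 n40316 = n40070 := d7_1 D40316 (iv D40070) (iv F181127)
theorem F185949 : act 1 n40316 = n40128 := d15_1 D40316 F185040 (iv F181128)
theorem F185950 : act 2 n40316 = n39196 := d22_1 D40316 (iv D39196) (iv F181129)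
theorem F185951 : act 4 n40316 = n39769 := d33_1 D40316 (iv D39769) (iv F181130)
theorem F185952 : act 6 n40316 = n39558 := d40_1 D40316 (iv D39558) (iv F181131)
theorem F185953 : act 7 n40316 = n39208 := d42_1 D40316 (iv D39208) (iv F181132)
def n40317 : Q := act 5 n39191
theorem D40317 : act 5 n39191 = n40317 := rfl
theorem F185954 : act 0 n40317 = n39980 := d4_1 D40317 F184675 (iv F181134)
theorem F185955 : act 1 n40317 = n40094 := d12_1 D40317 F184957 (iv F181135)
theorem F185956 : act 2 n40317 = n39197 := d19_1 D40317 (iv D39197) (iv F181136)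
theorem F185957 : act 7 n40317 = n39209 := d36_2 (iv F181139) D40317 (iv D39209)
def n40318 : Q := act 9 n39191
theorem D40318 : act 9 n39191 = n40318 := rfl
theorem F185958 : act 0 n40318 = n39786 := d8_1 D40318 F184054 (iv F181134)
theorem F185959 : act 1 n40318 = n40097 := d16_1 D40318 (iv D40097) (iv F181135)
theorem F185960 : act 2 n40318 = n39198 := d23_1 D40318 (iv D39198) (iv F181136)
theorem F185961 : act 3 n40318 = n39798 := d29_1 D40318 F185947 F185943
theorem F185962 : act 4 n40318 = n39195 := d34_1 D40318 (iv D39195) (iv F181137)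
theorem F185963 : act 6 n40318 = n39193 := d41_1 D40318 (iv D39193) (iv F181138)
theorem F185964 : act 7 n40318 = n39210 := d43_1 D40318 (iv D39210) (iv F181139)
theorem F185965 : act 8 n40318 = n39538 := d44_1 D40318 (iv D39538) (iv D38352) (iv F175571) D39191
def n40319 : Q := act 6 n39192
theorem D40319 : act 6 n39192 = n40319 := rfl
theorem F185966 : act 0 n40319 = n39904 := d5_1 D40319 F184438 (iv F181140)
theorem F185967 : act 1 n40319 = n39780 := d13_1 D40319 F184028 (iv F181141)
theorem F185968 : act 2 n40319 = n39199 := d20_1 D40319 (iv D39199) (iv F181142)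
theorem F185969 : act 3 n40319 = n39829 := d26_1 D40319 F184169 (iv F181143)
theorem F185970 : act 4 n40319 = n40319 := d31_1 D40319 (iv D40319) F181144
theorem F185971 : act 7 n40319 = n39249 := d39_2 (iv F181145) D40319 (iv D39249) F175964 (iv F175582)
theorem F185972 : act 8 n40319 = n39561 := d40_2 (iv F181146) D40319 (iv D39561)
theorem F185973 : act 9 n40319 = n39819 := d41_2 F181147 D40319 F184140
def n40320 : Q := act 4 n39194
theorem D40320 : act 4 n39194 = n40320 := rfl
theorem F185974 : act 0 n40320 = n40040 := d3_1 D40320 F184829 (iv F181156)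
theorem F185975 : act 1 n40320 = n40184 := d11_1 D40320 F185149 (iv F181157)
theorem F185976 : act 2 n40320 = n39202 := d18_1 D40320 (iv D39202) (iv F181158)
theorem F185977 : act 6 n40320 = n40320 := d31_2 F181160 D40320 (iv D40320)
theorem F185978 : act 7 n40320 = n39211 := d32_2 (iv F181161) D40320 (iv D39211)
theorem F185979 : act 8 n40320 = n39773 := d33_2 (iv F181162) D40320 (iv D39773)
def n40321 : Q := act 9 n39194
theorem D40321 : act 9 n39194 = n40321 := rfl
theorem F185980 : act 0 n40321 = n39860 := d8_1 D40321 F184255 (iv F181156)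
theorem F185981 : act 1 n40321 = n40187 := d16_1 D40321 (iv D40187) (iv F181157)
theorem F185982 : act 2 n40321 = n39203 := d23_1 D40321 (iv D39203) (iv F181158)
theorem F185983 : act 3 n40321 = n40321 := d29_1 D40321 (iv D40321) F181159
theorem F185984 : act 5 n40321 = n39195 := d38_1 D40321 (iv D39195) D39194
theorem F185985 : act 6 n40321 = n40321 := d41_1 D40321 (iv D40321) F181160
theorem F185986 : act 7 n40321 = n39212 := d43_1 D40321 (iv D39212) (iv F181161)
def n40322 : Q := act 5 n39196
theorem D40322 : act 5 n39196 = n40322 := rfl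
theorem F185987 : act 0 n40322 = n40071 := d4_1 D40322 (iv D40071) (iv F181170)
theorem F185988 : act 1 n40322 = n39295 := d12_1 D40322 (iv D39295) (iv F181171)
theorem F185989 : act 3 n40322 = n39473 := d25_1 D40322 (iv D39473) (iv F181172)
theorem F185990 : act 7 n40322 = n39213 := d36_2 (iv F181175) D40322 (iv D39213)
theorem F185991 : act 8 n40322 = n39197 := d37_2 D39196 D40322 (iv D39197) (iv D37957) D37956
def n40323 : Q := act 9 n39196
theorem D40323 : act 9 n39196 = n40323 := rfl
theorem F185992 : act 0 n40323 = n40072 := d8_1 D40323 (iv D40072) (iv F181170)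
theorem F185993 : act 1 n40323 = n39296 := d16_1 D40323 (iv D39296) (iv F181171)
theorem F185994 : act 3 n40323 = n39474 := d29_1 D40323 (iv D39474) (iv F181172)
theorem F185995 : act 4 n40323 = n39776 := d34_1 D40323 (iv D39776) (iv F181173)
theorem F185996 : act 6 n40323 = n39564 := d41_1 D40323 (iv D39564) (iv F181174)
theorem F185997 : act 7 n40323 = n39214 := d43_1 D40323 (iv D39214) (iv F181175)
theorem F185998 : act 8 n40323 = n39542 := d44_1 D40323 (iv D39542) (iv D38356) (iv F175612) D39196
def n40324 : Q := act 4 n39197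
theorem D40324 : act 4 n39197 = n40324 := rfl
theorem F185999 : act 0 n40324 = n40073 := d3_1 D40324 (iv D40073) (iv F181176)
theorem F186000 : act 1 n40324 = n39297 := d11_1 D40324 (iv D39297) (iv F181177)
theorem F186001 : act 5 n40324 = n39202 := d30_2 D39197 D40324 (iv D39202) (iv D37962) (iv F175616)
theorem F186002 : act 7 n40324 = n39215 := d32_2 (iv F181179) D40324 (iv D39215)
def n40325 : Q := act 6 n39197
theorem D40325 : act 6 n39197 = n40325 := rfl
theorem F186003 : act 0 n40325 = n40074 := d5_1 D40325 (iv D40074) (iv F181176)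
theorem F186004 : act 1 n40325 = n39298 := d13_1 D40325 (iv D39298) (iv F181177)
theorem F186005 : act 3 n40325 = n39476 := d26_1 D40325 (iv D39476) (iv F181178)
theorem F186006 : act 5 n40325 = n39199 := d35_1 D40325 (iv D39199) (iv D37958) (iv F175617) D39197
def n40326 : Q := act 9 n39197
theorem D40326 : act 9 n39197 = n40326 := rfl
theorem F186007 : act 0 n40326 = n39787 := d8_1 D40326 F184058 (iv F181176)
theorem F186008 : act 1 n40326 = n39299 := d16_1 D40326 (iv D39299) (iv F181177)
theorem F186009 : act 3 n40326 = n39477 := d29_1 D40326 (iv D39477) (iv F181178)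
theorem F186010 : act 5 n40326 = n39198 := d38_1 D40326 (iv D39198) D39197
theorem F186011 : act 7 n40326 = n39217 := d43_1 D40326 (iv D39217) (iv F181179)
def n40327 : Q := act 7 n39199
theorem D40327 : act 7 n39199 = n40327 := rfl
theorem F186012 : act 0 n40327 = n39898 := d6_1 D40327 F184409 (iv F181187)
theorem F186013 : act 1 n40327 = n39300 := d14_1 D40327 (iv D39300) (iv F181188)
theorem F186014 : act 2 n40327 = n39249 := d21_1 D40327 (iv F185971) F185968
theorem F186015 : act 3 n40327 = n39478 := d27_1 D40327 (iv D39478) (iv F181189)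
theorem F186016 : act 4 n40327 = n40327 := d32_1 D40327 (iv D40327) F181190
theorem F186017 : act 6 n40327 = n39201 := d39_1 D40327 (iv D39201) (iv D37960) (iv F175623) D39199
theorem F186018 : act 8 n40327 = n39568 := d42_2 (iv F181191) D40327 (iv D39568)
theorem F186019 : act 9 n39712 = n40327 := d41_0 F186017 F181207 D39712
def n40328 : Q := act 9 n39199
theorem D40328 : act 9 n39199 = n40328 := rfl
theorem F186020 : act 0 n40328 = n39765 := d8_1 D40328 F183983 (iv F181187)
theorem F186021 : act 1 n40328 = n39301 := d16_1 D40328 (iv D39301) (iv F181188)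
theorem F186022 : act 2 n40328 = n39819 := d23_1 D40328 (iv F185973) F185968
theorem F186023 : act 3 n40328 = n39479 := d29_1 D40328 (iv D39479) (iv F181189)
theorem F186024 : act 4 n40328 = n40328 := d34_1 D40328 (iv D40328) F181190
theorem F186025 : act 6 n40328 = n39200 := d41_1 D40328 (iv D39200) D39199
theorem F186026 : act 7 n40328 = n39712 := d43_1 D40328 F186019 (iv D40327)
theorem F186027 : act 8 n40022 = n40328 := d42_0 F186026 F183813 D40022
def n40329 : Q := act 3 n39202
theorem D40329 : act 3 n39202 = n40329 := rfl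
theorem F186028 : act 0 n40329 = n39668 := d2_1 D40329 F183559 (iv F181208)
theorem F186029 : act 1 n40329 = n39304 := d10_1 D40329 (iv D39304) (iv F181209)
theorem F186030 : act 4 n40329 = n39204 := d24_2 D39202 D40329 (iv D39204) (iv D37964) (iv F175649)
theorem F186031 : act 6 n40329 = n40329 := d26_2 F181210 D40329 (iv D40329)
theorem F186032 : act 7 n40329 = n39219 := d27_2 (iv F181211) D40329 (iv D39219)
theorem F186033 : act 8 n40329 = n39781 := d28_2 (iv F181212) D40329 (iv D39781)
theorem F186034 : act 9 n39409 = n40329 := d43_0 F186032 (iv F181303) D39409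
def n40330 : Q := act 9 n39202
theorem D40330 : act 9 n39202 = n40330 := rfl
theorem F186035 : act 0 n40330 = n39861 := d8_1 D40330 F184260 (iv F181208)
theorem F186036 : act 1 n40330 = n39305 := d16_1 D40330 (iv D39305) (iv F181209)
theorem F186037 : act 3 n40330 = n39409 := d29_1 D40330 F186034 (iv D40329)
theorem F186038 : act 4 n40330 = n39203 := d34_1 D40330 (iv D39203) D39202
theorem F186039 : act 6 n40330 = n40330 := d41_1 D40330 (iv D40330) F181210
theorem F186040 : act 7 n40330 = n39220 := d43_1 D40330 (iv D39220) (iv F181211)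
def n40331 : Q := act 8 n39203
theorem D40331 : act 8 n39203 = n40331 := rfl
theorem F186041 : act 0 n40331 = n39862 := d7_1 D40331 (iv D39862) (iv F181213)
theorem F186042 : act 1 n40331 = n39306 := d15_1 D40331 (iv D39306) (iv F181214)
theorem F186043 : act 3 n40331 = n39205 := d28_1 D40331 (iv D39205) (iv F181215)
theorem F186044 : act 5 n40331 = n39550 := d37_1 D40331 (iv D39550) F177920 (iv F175658) (iv F181216)
theorem F186045 : act 6 n40331 = n40331 := d40_1 D40331 (iv D40331) F181217
theorem F186046 : act 7 n40331 = n39221 := d42_1 D40331 (iv D39221) (iv F181218)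
theorem F186047 : act 9 n40331 = n39783 := d44_2 D39203 D40331 (iv D39783) (iv D38625) (iv F175652)
def n40332 : Q := act 2 n39204
theorem D40332 : act 2 n39204 = n40332 := rfl
theorem F186048 : act 0 n40332 = n39666 := d1_1 D40332 F183545 (iv F181219)
theorem F186049 : act 1 n40332 = n39774 := d9_1 D40332 F184011 F179031 (iv F176328) (iv F181220)
theorem F186050 : act 3 n40332 = n40332 := d17_2 D39204 D40332 (iv D40332) (iv D39204) F175661
theorem F186051 : act 5 n40332 = n39407 := d19_2 (iv F181221) D40332 F182379
theorem F186052 : act 6 n40332 = n40332 := d20_2 F181222 D40332 (iv D40332)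
theorem F186053 : act 7 n40332 = n39222 := d21_2 (iv F181223) D40332 (iv D39222)
theorem F186054 : act 8 n40332 = n39784 := d22_2 (iv F181224) D40332 (iv D39784)
theorem F186055 : act 9 n40332 = n39406 := d23_2 (iv F181225) D40332 F182372
def n40333 : Q := act 4 n39206
theorem D40333 : act 4 n39206 = n40333 := rfl
theorem F186056 : act 1 n40333 = n39955 := d11_1 D40333 F184598 (iv F181234)
theorem F186057 : act 2 n40333 = n39517 := d18_1 D40333 (iv D39517) (iv F181235)
theorem F186058 : act 3 n40333 = n40077 := d24_1 D40333 (iv D40077) F180029 (iv F175688) (iv F181236)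
theorem F186059 : act 5 n40333 = n40333 := d30_2 D39206 D40333 (iv D40333) (iv D39206) F175677
theorem F186060 : act 6 n40333 = n39881 := d31_2 (iv F181237) D40333 (iv D39881)
def n40334 : Q := act 8 n39206
theorem D40334 : act 8 n39206 = n40334 := rfl
theorem F186061 : act 1 n40334 = n39952 := d15_1 D40334 F184590 (iv F181234)
theorem F186062 : act 2 n40334 = n39518 := d22_1 D40334 (iv D39518) (iv F181235)
theorem F186063 : act 3 n40334 = n39208 := d28_1 D40334 (iv D39208) (iv F181236)
theorem F186064 : act 6 n40334 = n39879 := d40_1 D40334 F184318 (iv F181237)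
def n40335 : Q := act 5 n39207
theorem D40335 : act 5 n39207 = n40335 := rfl
theorem F186065 : act 0 n40335 = n39965 := d4_1 D40335 F184631 (iv F181238)
theorem F186066 : act 1 n40335 = n39930 := d12_1 D40335 F184514 (iv F181239)
theorem F186067 : act 2 n40335 = n39519 := d19_1 D40335 (iv D39519) (iv F181240)
theorem F186068 : act 3 n40335 = n39209 := d25_1 D40335 (iv D39209) (iv F181241)
theorem F186069 : act 6 n40335 = n39310 := d35_2 (iv F181243) D40335 (iv D39310) F176373 (iv F175683)
theorem F186070 : act 9 n40335 = n39797 := d38_2 F181244 D40335 F184088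
def n40336 : Q := act 5 n39208
theorem D40336 : act 5 n39208 = n40336 := rfl
theorem F186071 : act 0 n40336 = n39975 := d4_1 D40336 (iv F185908) F185905
theorem F186072 : act 1 n40336 = n40089 := d12_1 D40336 F184949 (iv F181245)
theorem F186073 : act 2 n40336 = n39213 := d19_1 D40336 (iv D39213) (iv F181246)
theorem F186074 : act 6 n40336 = n39319 := d35_2 (iv F181248) D40336 (iv D39319) F176431 D38908
theorem F186075 : act 8 n40336 = n39209 := d37_2 D39208 D40336 (iv D39209) (iv D37969) D37968
def n40337 : Q := act 9 n39208
theorem D40337 : act 9 n39208 = n40337 := rfl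
theorem F186076 : act 1 n40337 = n40129 := d16_1 D40337 (iv D40129) (iv F181245)
theorem F186077 : act 2 n40337 = n39214 := d23_1 D40337 (iv D39214) (iv F181246)
theorem F186078 : act 4 n40337 = n40082 := d34_1 D40337 (iv D40082) (iv F181247)
theorem F186079 : act 6 n40337 = n40051 := d41_1 D40337 (iv D40051) (iv F181248)
def n40338 : Q := act 4 n39209
theorem D40338 : act 4 n39209 = n40338 := rfl
theorem F186080 : act 0 n40338 = n39978 := d3_1 D40338 F184669 (iv F181249)
theorem F186081 : act 1 n40338 = n40092 := d11_1 D40338 F184953 (iv F181250)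
theorem F186082 : act 2 n40338 = n39215 := d18_1 D40338 (iv D39215) (iv F181251)
theorem F186083 : act 5 n40338 = n39211 := d30_2 D39209 D40338 (iv D39211) (iv D37971) (iv F175693)
theorem F186084 : act 6 n40338 = n39321 := d31_2 (iv F181252) D40338 (iv D39321)
def n40339 : Q := act 9 n39209
theorem D40339 : act 9 n39209 = n40339 := rfl
theorem F186085 : act 0 n40339 = n39807 := d8_1 D40339 F184110 (iv F181249)
theorem F186086 : act 1 n40339 = n40095 := d16_1 D40339 (iv D40095) (iv F181250)
theorem F186087 : act 2 n40339 = n39217 := d23_1 D40339 (iv D39217) (iv F181251)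
theorem F186088 : act 3 n40339 = n39797 := d29_1 D40339 (iv F186070) F186068
theorem F186089 : act 5 n40339 = n39210 := d38_1 D40339 (iv D39210) D39209
theorem F186090 : act 6 n40339 = n39322 := d41_1 D40339 (iv D39322) (iv F181252)
def n40340 : Q := act 3 n39211
theorem D40340 : act 3 n39211 = n40340 := rfl
theorem F186091 : act 0 n40340 = n40039 := d2_1 D40340 F184826 (iv F181259)
theorem F186092 : act 1 n40340 = n40182 := d10_1 D40340 F185143 (iv F181260)
theorem F186093 : act 4 n40340 = n40340 := d24_2 D39211 D40340 (iv D40340) (iv D39211) F175705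
theorem F186094 : act 6 n40340 = n39223 := d26_2 (iv F181262) D40340 (iv D39223)
theorem F186095 : act 8 n40340 = n40085 := d28_2 (iv F181263) D40340 (iv D40085)
def n40341 : Q := act 9 n39211
theorem D40341 : act 9 n39211 = n40341 := rfl
theorem F186096 : act 0 n40341 = n39864 := d8_1 D40341 F184271 (iv F181259)
theorem F186097 : act 1 n40341 = n40185 := d16_1 D40341 (iv D40185) (iv F181260)
theorem F186098 : act 2 n40341 = n39220 := d23_1 D40341 (iv D39220) (iv F181261)
theorem F186099 : act 4 n40341 = n39212 := d34_1 D40341 (iv D39212) D39211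
theorem F186100 : act 6 n40341 = n39224 := d41_1 D40341 (iv D39224) (iv F181262)
def n40342 : Q := act 8 n39212
theorem D40342 : act 8 n39212 = n40342 := rfl
theorem F186101 : act 0 n40342 = n39865 := d7_1 D40342 (iv D39865) (iv F181264)
theorem F186102 : act 1 n40342 = n40102 := d15_1 D40342 F184976 (iv F181265)
theorem F186103 : act 2 n40342 = n39221 := d22_1 D40342 (iv D39221) (iv F181266)
theorem F186104 : act 3 n40342 = n40342 := d28_1 D40342 (iv D40342) F181267
theorem F186105 : act 6 n40342 = n39225 := d40_1 D40342 (iv D39225) (iv F181269)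
theorem F186106 : act 9 n40342 = n40087 := d44_2 D39212 D40342 (iv D40087) (iv D38943) (iv F175707)
def n40343 : Q := act 4 n39213
theorem D40343 : act 4 n39213 = n40343 := rfl
theorem F186107 : act 1 n40343 = n39390 := d11_1 D40343 (iv D39390) (iv F181270)
theorem F186108 : act 5 n40343 = n40088 := d30_2 D39213 D40343 (iv D40088) (iv D38944) (iv F175715)
theorem F186109 : act 8 n40343 = n39215 := d33_2 (iv F181272) D40343 (iv D39215)
def n40344 : Q := act 6 n39213
theorem D40344 : act 6 n39213 = n40344 := rfl
theorem F186110 : act 0 n40344 = n39971 := d5_1 D40344 (iv F185915) F185911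
theorem F186111 : act 1 n40344 = n39391 := d13_1 D40344 (iv D39391) (iv F181270)
theorem F186112 : act 2 n40344 = n39319 := d20_1 D40344 (iv F186074) F186073
theorem F186113 : act 3 n40344 = n39525 := d26_1 D40344 (iv D39525) (iv F181271)
theorem F186114 : act 5 n40344 = n39318 := d35_1 D40344 F181929 F179959 (iv F175716) D39213
theorem F186115 : act 8 n40344 = n39216 := d40_2 (iv F181272) D40344 (iv D39216)
def n40345 : Q := act 9 n39213
theorem D40345 : act 9 n39213 = n40345 := rfl
theorem F186116 : act 1 n40345 = n39392 := d16_1 D40345 (iv D39392) (iv F181270)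
theorem F186117 : act 3 n40345 = n39526 := d29_1 D40345 (iv D39526) (iv F181271)
theorem F186118 : act 5 n40345 = n39214 := d38_1 D40345 (iv D39214) D39213
def n40346 : Q := act 3 n39215
theorem D40346 : act 3 n39215 = n40346 := rfl
theorem F186119 : act 0 n40346 = n39638 := d2_1 D40346 (iv F185928) F185925
theorem F186120 : act 1 n40346 = n39393 := d10_1 D40346 (iv D39393) (iv F181277)
theorem F186121 : act 4 n40346 = n39397 := d24_2 D39215 D40346 F182319 (iv D38339) (iv F175718)
theorem F186122 : act 5 n40346 = n39219 := d25_2 (iv F181278) D40346 (iv D39219)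
theorem F186123 : act 6 n39395 = n40346 := d35_0 F186122 F181301 F175795 (iv F176842) (iv F182313)
theorem F186124 : act 9 n39394 = n40346 := d38_0 F186122 (iv F181303) (iv F182310)
def n40347 : Q := act 6 n39215
theorem D40347 : act 6 n39215 = n40347 := rfl
theorem F186125 : act 0 n40347 = n39973 := d5_1 D40347 (iv F185930) F185925
theorem F186126 : act 1 n40347 = n39394 := d13_1 D40347 (iv D39394) (iv F181277)
theorem F186127 : act 2 n40347 = n39321 := d20_1 D40347 (iv F186084) F186082
theorem F186128 : act 3 n40347 = n39395 := d26_1 D40347 F186123 (iv D40346)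
theorem F186129 : act 4 n40347 = n39216 := d31_1 D40347 (iv D39216) D39215
theorem F186130 : act 5 n40347 = n39226 := d35_1 D40347 (iv D39226) F175774 (iv F175739) (iv F181278)
theorem F186131 : act 9 n39393 = n40347 := d38_0 F186130 F181346 (iv F182307)
def n40348 : Q := act 9 n39215
theorem D40348 : act 9 n39215 = n40348 := rfl
theorem F186132 : act 0 n40348 = n39808 := d8_1 D40348 (iv F185932) F185925
theorem F186133 : act 1 n40348 = n39395 := d16_1 D40348 (iv D39395) (iv F181277)
theorem F186134 : act 3 n40348 = n39394 := d29_1 D40348 F186124 (iv D40346)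
theorem F186135 : act 4 n40348 = n39217 := d34_1 D40348 (iv D39217) D39215
theorem F186136 : act 5 n40348 = n39220 := d38_1 D40348 (iv D39220) (iv F181278)
theorem F186137 : act 6 n40348 = n39393 := d41_1 D40348 F186131 (iv D40347)
def n40349 : Q := act 7 n39216
theorem D40349 : act 7 n39216 = n40349 := rfl
theorem F186138 : act 0 n40349 = n39897 := d6_1 D40349 F184403 (iv F181279)
theorem F186139 : act 1 n40349 = n39396 := d14_1 D40349 (iv D39396) (iv F181280)
theorem F186140 : act 2 n40349 = n39248 := d21_1 D40349 F181491 (iv F181281)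
theorem F186141 : act 3 n40349 = n39527 := d27_1 D40349 (iv D39527) (iv F181282)
theorem F186142 : act 5 n40349 = n39218 := d36_1 D40349 (iv D39218) (iv F181283)
theorem F186143 : act 9 n40349 = n39588 := d43_2 F181284 D40349 F183258
def n40350 : Q := act 8 n39217
theorem D40350 : act 8 n39217 = n40350 := rfl
theorem F186144 : act 0 n40350 = n39809 := d7_1 D40350 (iv D39809) (iv F181285)
theorem F186145 : act 1 n40350 = n39398 := d15_1 D40350 (iv D39398) (iv F181286)
theorem F186146 : act 3 n40350 = n39528 := d28_1 D40350 (iv D39528) (iv F181287)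
theorem F186147 : act 6 n40350 = n39660 := d40_1 D40350 F183530 (iv F181289)
def n40351 : Q := act 2 n39219
theorem D40351 : act 2 n39219 = n40351 := rfl
theorem F186148 : act 0 n40351 = n39673 := d1_1 D40351 F183589 (iv F181298)
theorem F186149 : act 1 n40351 = n40086 := d9_1 D40351 F184941 (iv F181952) F181953 (iv F181299)
theorem F186150 : act 4 n40351 = n39222 := d18_2 (iv F181300) D40351 (iv D39222)
theorem F186151 : act 6 n40351 = n39228 := d20_2 (iv F181301) D40351 (iv D39228)
theorem F186152 : act 8 n40351 = n40099 := d22_2 (iv F181302) D40351 (iv D40099)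
theorem F186153 : act 9 n40351 = n39405 := d23_2 F181303 D40351 F182367
def n40352 : Q := act 8 n39220
theorem D40352 : act 8 n39220 = n40352 := rfl
theorem F186154 : act 0 n40352 = n39866 := d7_1 D40352 (iv D39866) (iv F181304)
theorem F186155 : act 1 n40352 = n39388 := d15_1 D40352 F182292 (iv F181305)
theorem F186156 : act 3 n40352 = n39370 := d28_1 D40352 F182201 (iv F181306)
theorem F186157 : act 4 n40352 = n39221 := d33_1 D40352 (iv D39221) (iv F181307)
theorem F186158 : act 6 n40352 = n39229 := d40_1 D40352 (iv D39229) (iv F181308)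
theorem F186159 : act 9 n40352 = n40101 := d44_2 D39220 D40352 (iv D40101) (iv D38954) (iv F175740)
def n40353 : Q := act 2 n39223
theorem D40353 : act 2 n39223 = n40353 := rfl
theorem F186160 : act 0 n40353 = n39685 := d1_1 D40353 F183658 (iv F181321)
theorem F186161 : act 3 n40353 = n39228 := d17_2 D39223 D40353 (iv D39228) (iv D37987) (iv F175760)
theorem F186162 : act 4 n40353 = n40353 := d18_2 F181323 D40353 (iv D40353)
theorem F186163 : act 5 n40353 = n39401 := d19_2 (iv F181324) D40353 (iv D39401)
theorem F186164 : act 7 n40353 = n40353 := d21_2 F181325 D40353 (iv D40353)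
theorem F186165 : act 8 n40353 = n40178 := d22_2 (iv F181326) D40353 (iv D40178)
theorem F186166 : act 1 n40179 = n40353 := d12_3 F186163 (iv F182342) (iv F185134)
theorem F186167 : act 9 n39404 = n40353 := d38_0 F186163 (iv F182343) (iv F182362)
def n40354 : Q := act 9 n39223
theorem D40354 : act 9 n39223 = n40354 := rfl
theorem F186168 : act 0 n40354 = n39870 := d8_1 D40354 F184288 (iv F181321)
theorem F186169 : act 1 n40354 = n40183 := d16_1 D40354 (iv D40183) (iv F181322)
theorem F186170 : act 2 n40354 = n39404 := d23_1 D40354 F186167 (iv D40353)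
theorem F186171 : act 3 n40354 = n39224 := d29_1 D40354 (iv D39224) D39223
theorem F186172 : act 4 n40354 = n40354 := d34_1 D40354 (iv D40354) F181323
theorem F186173 : act 5 n40354 = n39402 := d38_1 D40354 (iv D39402) (iv F181324)
theorem F186174 : act 7 n40354 = n40354 := d43_1 D40354 (iv D40354) F181325
theorem F186175 : act 8 n40181 = n40354 := d37_0 F186173 F182350 (iv F181358) F181360 (iv F185141)
def n40355 : Q := act 8 n39224
theorem D40355 : act 8 n39224 = n40355 := rfl
theorem F186176 : act 0 n40355 = n39871 := d7_1 D40355 (iv D39871) (iv F181327)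
theorem F186177 : act 1 n40355 = n40186 := d15_1 D40355 (iv D40186) (iv F181328)
theorem F186178 : act 2 n40355 = n39229 := d22_1 D40355 (iv D39229) (iv F181329)
theorem F186179 : act 3 n40355 = n40181 := d28_1 D40355 F186175 F186171
theorem F186180 : act 4 n40355 = n39225 := d33_1 D40355 (iv D39225) (iv F181330)
theorem F186181 : act 5 n40355 = n40178 := d37_1 D40355 (iv F186165) F186163 F182341 (iv F181331)
theorem F186182 : act 7 n40355 = n40355 := d42_1 D40355 (iv D40355) F181332
theorem F186183 : act 9 n40355 = n40180 := d44_2 D39224 D40355 (iv D40180) (iv D39045) (iv F175763)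
def n40356 : Q := act 7 n39226
theorem D40356 : act 7 n39226 = n40356 := rfl
theorem F186184 : act 0 n40356 = n39899 := d6_1 D40356 F184416 (iv F181340)
theorem F186185 : act 1 n40356 = n39409 := d14_1 D40356 (iv D39409) (iv F181341)
theorem F186186 : act 2 n40356 = n39250 := d21_1 D40356 F181502 (iv F181342)
theorem F186187 : act 3 n40356 = n39305 := d27_1 D40356 F181846 (iv F181343)
theorem F186188 : act 4 n40356 = n39227 := d32_1 D40356 (iv D39227) (iv F181344)
theorem F186189 : act 6 n40356 = n40356 := d39_1 D40356 (iv D40356) (iv D39226) F175775 D39226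
theorem F186190 : act 8 n40356 = n39293 := d42_2 (iv F181345) D40356 F181789
theorem F186191 : act 9 n40356 = n39304 := d43_2 (iv F181346) D40356 F181841
def n40357 : Q := act 5 n39230
theorem D40357 : act 5 n39230 = n40357 := rfl
theorem F186192 : act 0 n40357 = n39921 := d4_1 D40357 (iv D39921) (iv F181369)
theorem F186193 : act 1 n40357 = n40162 := d12_1 D40357 F185096 (iv F181370)
theorem F186194 : act 2 n40357 = n39534 := d19_1 D40357 (iv D39534) (iv F181371)
theorem F186195 : act 3 n40357 = n39232 := d25_1 D40357 (iv D39232) (iv F181372)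
theorem F186196 : act 6 n40357 = n39284 := d35_2 D39230 D40357 (iv D39284) (iv D38050) (iv F175831)
theorem F186197 : act 7 n40357 = n39496 := d36_2 (iv F181374) D40357 (iv D39496)
theorem F186198 : act 9 n40357 = n39467 := d38_2 (iv F181375) D40357 (iv D39467)
def n40358 : Q := act 8 n39230
theorem D40358 : act 8 n39230 = n40358 := rfl
theorem F186199 : act 0 n40358 = n39922 := d7_1 D40358 (iv D39922) (iv F181369)
theorem F186200 : act 1 n40358 = n39819 := d15_1 D40358 F184141 (iv F181370)
theorem F186201 : act 2 n40358 = n39535 := d22_1 D40358 (iv D39535) (iv F181371)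
theorem F186202 : act 3 n40358 = n39233 := d28_1 D40358 (iv D39233) (iv F181372)
theorem F186203 : act 4 n40358 = n40358 := d33_1 D40358 (iv D40358) F181373
theorem F186204 : act 6 n40358 = n39231 := d40_1 D40358 (iv D39231) D39230
theorem F186205 : act 7 n40358 = n39497 := d42_1 D40358 (iv D39497) (iv F181374)
theorem F186206 : act 9 n40358 = n39780 := d44_2 (iv F181375) D40358 F184029 F182754 (iv D39468)
def n40359 : Q := act 8 n39232
theorem D40359 : act 8 n39232 = n40359 := rfl
theorem F186207 : act 0 n40359 = n39923 := d7_1 D40359 (iv D39923) (iv F181384)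
theorem F186208 : act 1 n40359 = n40164 := d15_1 D40359 F185099 (iv F181385)
theorem F186209 : act 2 n40359 = n39238 := d22_1 D40359 (iv D39238) (iv F181386)
theorem F186210 : act 4 n40359 = n39747 := d33_1 D40359 (iv D39747) (iv F181387)
theorem F186211 : act 6 n40359 = n39287 := d40_1 D40359 (iv D39287) (iv F181388)
theorem F186212 : act 7 n40359 = n39498 := d42_1 D40359 (iv D39498) (iv F181389)
def n40360 : Q := act 5 n39233
theorem D40360 : act 5 n39233 = n40360 := rfl
theorem F186213 : act 0 n40360 = n39924 := d4_1 D40360 (iv D39924) (iv F181391)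
theorem F186214 : act 1 n40360 = n39826 := d12_1 D40360 F184158 (iv F181392)
theorem F186215 : act 2 n40360 = n39239 := d19_1 D40360 (iv D39239) (iv F181393)
theorem F186216 : act 7 n40360 = n39499 := d36_2 (iv F181396) D40360 (iv D39499)
def n40361 : Q := act 9 n39233
theorem D40361 : act 9 n39233 = n40361 := rfl
theorem F186217 : act 0 n40361 = n39506 := d8_1 D40361 F182923 (iv F181391)
theorem F186218 : act 1 n40361 = n39829 := d16_1 D40361 (iv D39829) (iv F181392)
theorem F186219 : act 2 n40361 = n39240 := d23_1 D40361 (iv D39240) (iv F181393)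
theorem F186220 : act 3 n40361 = n39780 := d29_1 D40361 (iv F186206) F186202
theorem F186221 : act 4 n40361 = n39237 := d34_1 D40361 (iv D39237) (iv F181394)
theorem F186222 : act 6 n40361 = n39235 := d41_1 D40361 (iv D39235) (iv F181395)
theorem F186223 : act 7 n40361 = n39446 := d43_1 D40361 F182637 (iv F181396)
theorem F186224 : act 8 n40361 = n39471 := d44_1 D40361 (iv D39471) (iv D38281) (iv F175846) D39233
def n40362 : Q := act 6 n39234
theorem D40362 : act 6 n39234 = n40362 := rfl
theorem F186225 : act 0 n40362 = n39925 := d5_1 D40362 (iv D39925) (iv F181397)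
theorem F186226 : act 1 n40362 = n39798 := d13_1 D40362 F184091 (iv F181398)
theorem F186227 : act 2 n40362 = n39241 := d20_1 D40362 (iv D39241) (iv F181399)
theorem F186228 : act 3 n40362 = n40097 := d26_1 D40362 F184961 (iv F181400)
theorem F186229 : act 4 n40362 = n40362 := d31_1 D40362 (iv D40362) F181401
theorem F186230 : act 7 n40362 = n39790 := d39_2 (iv F181402) D40362 (iv D39790) F179071 (iv F175857)
theorem F186231 : act 8 n40362 = n39290 := d40_2 (iv F181403) D40362 (iv D39290)
theorem F186232 : act 9 n40362 = n39931 := d41_2 F181404 D40362 F184517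
def n40363 : Q := act 4 n39236
theorem D40363 : act 4 n39236 = n40363 := rfl
theorem F186233 : act 0 n40363 = n39926 := d3_1 D40363 (iv D39926) (iv F181413)
theorem F186234 : act 1 n40363 = n39850 := d11_1 D40363 F184212 (iv F181414)
theorem F186235 : act 2 n40363 = n39244 := d18_1 D40363 (iv D39244) (iv F181415)
theorem F186236 : act 6 n40363 = n40363 := d31_2 F181417 D40363 (iv D40363)
theorem F186237 : act 7 n40363 = n39500 := d32_2 (iv F181418) D40363 (iv D39500)
theorem F186238 : act 8 n40363 = n39700 := d33_2 (iv F181419) D40363 F183739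
def n40364 : Q := act 5 n39238
theorem D40364 : act 5 n39238 = n40364 := rfl
theorem F186239 : act 0 n40364 = n39927 := d4_1 D40364 (iv D39927) (iv F181427)
theorem F186240 : act 1 n40364 = n39563 := d12_1 D40364 (iv D39563) (iv F181428)
theorem F186241 : act 3 n40364 = n39541 := d25_1 D40364 (iv D39541) (iv F181429)
theorem F186242 : act 7 n40364 = n39501 := d36_2 (iv F181432) D40364 (iv D39501)
theorem F186243 : act 8 n40364 = n39239 := d37_2 D39238 D40364 (iv D39239) (iv D38001) D38000
def n40365 : Q := act 9 n39238
theorem D40365 : act 9 n39238 = n40365 := rfl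
theorem F186244 : act 0 n40365 = n39928 := d8_1 D40365 (iv D39928) (iv F181427)
theorem F186245 : act 1 n40365 = n39564 := d16_1 D40365 (iv D39564) (iv F181428)
theorem F186246 : act 3 n40365 = n39542 := d29_1 D40365 (iv D39542) (iv F181429)
theorem F186247 : act 4 n40365 = n39749 := d34_1 D40365 (iv D39749) (iv F181430)
theorem F186248 : act 6 n40365 = n39296 := d41_1 D40365 (iv D39296) (iv F181431)
theorem F186249 : act 7 n40365 = n39502 := d43_1 D40365 (iv D39502) (iv F181432)
theorem F186250 : act 8 n40365 = n39474 := d44_1 D40365 (iv D39474) (iv D38285) (iv F175887) D39238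
def n40366 : Q := act 4 n39239
theorem D40366 : act 4 n39239 = n40366 := rfl
theorem F186251 : act 0 n40366 = n39929 := d3_1 D40366 (iv D39929) (iv F181433)
theorem F186252 : act 1 n40366 = n39565 := d11_1 D40366 (iv D39565) (iv F181434)
theorem F186253 : act 5 n40366 = n39244 := d30_2 D39239 D40366 (iv D39244) (iv D38006) (iv F175891)
theorem F186254 : act 7 n40366 = n39503 := d32_2 (iv F181436) D40366 (iv D39503)
def n40367 : Q := act 6 n39239
theorem D40367 : act 6 n39239 = n40367 := rfl
theorem F186255 : act 0 n40367 = n39930 := d5_1 D40367 (iv D39930) (iv F181433)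
theorem F186256 : act 1 n40367 = n39566 := d13_1 D40367 (iv D39566) (iv F181434)
theorem F186257 : act 3 n40367 = n39544 := d26_1 D40367 (iv D39544) (iv F181435)
theorem F186258 : act 5 n40367 = n39241 := d35_1 D40367 (iv D39241) (iv D38002) (iv F175892) D39239
def n40368 : Q := act 9 n39239
theorem D40368 : act 9 n39239 = n40368 := rfl
theorem F186259 : act 0 n40368 = n39789 := d8_1 D40368 F184065 (iv F181433)
theorem F186260 : act 1 n40368 = n39567 := d16_1 D40368 (iv D39567) (iv F181434)
theorem F186261 : act 3 n40368 = n39545 := d29_1 D40368 (iv D39545) (iv F181435)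
theorem F186262 : act 5 n40368 = n39240 := d38_1 D40368 (iv D39240) D39239
theorem F186263 : act 7 n40368 = n39505 := d43_1 D40368 (iv D39505) (iv F181436)
def n40369 : Q := act 7 n39241
theorem D40369 : act 7 n39241 = n40369 := rfl
theorem F186264 : act 0 n40369 = n39931 := d6_1 D40369 (iv D39931) (iv F181444)
theorem F186265 : act 1 n40369 = n39568 := d14_1 D40369 (iv D39568) (iv F181445)
theorem F186266 : act 2 n40369 = n39790 := d21_1 D40369 (iv F186230) F186227
theorem F186267 : act 3 n40369 = n39546 := d27_1 D40369 (iv D39546) (iv F181446)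
theorem F186268 : act 4 n40369 = n40369 := d32_1 D40369 (iv D40369) F181447
theorem F186269 : act 6 n40369 = n39243 := d39_1 D40369 (iv D39243) (iv D38004) (iv F175898) D39241
theorem F186270 : act 8 n40369 = n39300 := d42_2 (iv F181448) D40369 (iv D39300)
theorem F186271 : act 9 n39925 = n40369 := d41_0 F186269 F181464 D39925
def n40370 : Q := act 9 n39241
theorem D40370 : act 9 n39241 = n40370 := rfl
theorem F186272 : act 0 n40370 = n39790 := d8_1 D40370 F184069 (iv F181444)
theorem F186273 : act 1 n40370 = n39569 := d16_1 D40370 (iv D39569) (iv F181445)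
theorem F186274 : act 2 n40370 = n39931 := d23_1 D40370 (iv F186232) F186227
theorem F186275 : act 3 n40370 = n39547 := d29_1 D40370 (iv D39547) (iv F181446)
theorem F186276 : act 4 n40370 = n40370 := d34_1 D40370 (iv D40370) F181447
theorem F186277 : act 6 n40370 = n39242 := d41_1 D40370 (iv D39242) D39241
theorem F186278 : act 7 n40370 = n39925 := d43_1 D40370 F186271 (iv D40369)
theorem F186279 : act 8 n39947 = n40370 := d42_0 F186278 F184503 D39947
def n40371 : Q := act 3 n39244
theorem D40371 : act 3 n39244 = n40371 := rfl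
theorem F186280 : act 0 n40371 = n39932 := d2_1 D40371 (iv D39932) (iv F181465)
theorem F186281 : act 1 n40371 = n39570 := d10_1 D40371 (iv D39570) (iv F181466)
theorem F186282 : act 4 n40371 = n39245 := d24_2 D39244 D40371 (iv D39245) (iv D38008) (iv F175924)
theorem F186283 : act 6 n40371 = n40371 := d26_2 F181467 D40371 (iv D40371)
theorem F186284 : act 7 n40371 = n39507 := d27_2 (iv F181468) D40371 (iv D39507)
theorem F186285 : act 8 n40371 = n39676 := d28_2 (iv F181469) D40371 F183604
def n40372 : Q := act 2 n39245
theorem D40372 : act 2 n39245 = n40372 := rfl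
theorem F186286 : act 0 n40372 = n39933 := d1_1 D40372 (iv D39933) (iv F181470)
theorem F186287 : act 3 n40372 = n40372 := d17_2 D39245 D40372 (iv D40372) (iv D39245) F175936
theorem F186288 : act 5 n40372 = n39551 := d19_2 (iv F181472) D40372 (iv D39551)
theorem F186289 : act 6 n40372 = n40372 := d20_2 F181473 D40372 (iv D40372)
theorem F186290 : act 7 n40372 = n39508 := d21_2 (iv F181474) D40372 (iv D39508)
theorem F186291 : act 8 n40372 = n39674 := d22_2 (iv F181475) D40372 F183592
def n40373 : Q := act 8 n39246
theorem D40373 : act 8 n39246 = n40373 := rfl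
theorem F186292 : act 0 n40373 = n39896 := d7_1 D40373 (iv D39896) (iv F181476)
theorem F186293 : act 2 n40373 = n39247 := d22_1 D40373 (iv D39247) (iv F181477)
theorem F186294 : act 4 n40373 = n39287 := d33_1 D40373 (iv D39287) (iv F181478)
theorem F186295 : act 6 n40373 = n39747 := d40_1 D40373 (iv D39747) (iv F181479)
theorem F186296 : act 7 n40373 = n39318 := d42_1 D40373 (iv D39318) (iv F181480)
def n40374 : Q := act 5 n39247
theorem D40374 : act 5 n39247 = n40374 := rfl
theorem F186297 : act 0 n40374 = n39900 := d4_1 D40374 (iv D39900) (iv F181482)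
theorem F186298 : act 1 n40374 = n39775 := d12_1 D40374 (iv D39775) (iv F181483)
theorem F186299 : act 3 n40374 = n39828 := d25_1 D40374 F184165 (iv F181484)
theorem F186300 : act 7 n40374 = n39319 := d36_2 (iv F181487) D40374 (iv D39319)
theorem F186301 : act 8 n40374 = n39248 := d37_2 D39247 D40374 (iv D39248) (iv D38011) D38010
def n40375 : Q := act 9 n39247
theorem D40375 : act 9 n39247 = n40375 := rfl
theorem F186302 : act 0 n40375 = n39901 := d8_1 D40375 (iv D39901) (iv F181482)
theorem F186303 : act 1 n40375 = n39776 := d16_1 D40375 (iv D39776) (iv F181483)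
theorem F186304 : act 3 n40375 = n40049 := d29_1 D40375 (iv D40049) (iv F181484)
theorem F186305 : act 4 n40375 = n39296 := d34_1 D40375 (iv D39296) (iv F181485)
theorem F186306 : act 6 n40375 = n39749 := d41_1 D40375 (iv D39749) (iv F181486)
theorem F186307 : act 7 n40375 = n39320 := d43_1 D40375 (iv D39320) (iv F181487)
theorem F186308 : act 8 n40375 = n39875 := d44_1 D40375 (iv D39875) (iv D38723) (iv F175952) D39247
def n40376 : Q := act 4 n39248
theorem D40376 : act 4 n39248 = n40376 := rfl
theorem F186309 : act 0 n40376 = n39902 := d3_1 D40376 (iv D39902) (iv F181488)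
theorem F186310 : act 1 n40376 = n39777 := d11_1 D40376 (iv D39777) (iv F181489)
theorem F186311 : act 5 n40376 = n39250 := d30_2 D39248 D40376 (iv D39250) (iv D38013) (iv F175956)
theorem F186312 : act 7 n40376 = n39321 := d32_2 (iv F181491) D40376 (iv D39321)
theorem F186313 : act 9 n40376 = n39817 := d34_2 (iv F181492) D40376 (iv D39817)
def n40377 : Q := act 6 n39248
theorem D40377 : act 6 n39248 = n40377 := rfl
theorem F186314 : act 0 n40377 = n39903 := d5_1 D40377 (iv D39903) (iv F181488)
theorem F186315 : act 1 n40377 = n39778 := d13_1 D40377 (iv D39778) (iv F181489)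
theorem F186316 : act 3 n40377 = n39827 := d26_1 D40377 F184162 (iv F181490)
theorem F186317 : act 5 n40377 = n39249 := d35_1 D40377 (iv D39249) (iv D38012) (iv F175957) D39248
theorem F186318 : act 9 n40377 = n39818 := d41_2 (iv F181492) D40377 (iv D39818)
def n40378 : Q := act 3 n39250
theorem D40378 : act 3 n39250 = n40378 := rfl
theorem F186319 : act 0 n40378 = n39905 := d2_1 D40378 (iv D39905) (iv F181499)
theorem F186320 : act 1 n40378 = n39781 := d10_1 D40378 (iv D39781) (iv F181500)
theorem F186321 : act 4 n40378 = n39251 := d24_2 D39250 D40378 (iv D39251) (iv D38014) (iv F175969)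
theorem F186322 : act 6 n40378 = n40378 := d26_2 F181501 D40378 (iv D40378)
theorem F186323 : act 7 n40378 = n39323 := d27_2 (iv F181502) D40378 (iv D39323)
theorem F186324 : act 8 n40378 = n39304 := d28_2 (iv F181503) D40378 (iv D39304)
theorem F186325 : act 9 n40378 = n39869 := d29_2 (iv F181504) D40378 (iv D39869)
theorem F186326 : act 2 n39868 = n40378 := d22_3 F186324 (iv F181842) (iv F184280)
def n40379 : Q := act 6 n39252
theorem D40379 : act 6 n39252 = n40379 := rfl
theorem F186327 : act 0 n40379 = n39255 := d5_1 D40379 (iv D39255) (iv F181513)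
theorem F186328 : act 1 n40379 = n39336 := d13_1 D40379 F182029 (iv F181514)
theorem F186329 : act 2 n40379 = n39529 := d20_1 D40379 (iv D39529) (iv F181515)
theorem F186330 : act 3 n40379 = n39331 := d26_1 D40379 F181997 (iv F181516)
theorem F186331 : act 4 n40379 = n39253 := d31_1 D40379 (iv D39253) (iv F181517)
theorem F186332 : act 7 n40379 = n39327 := d39_2 D39252 D40379 (iv D39327) (iv D38094) (iv F175987)
theorem F186333 : act 8 n40379 = n39329 := d40_2 (iv F181519) D40379 (iv D39329)
theorem F186334 : act 9 n40379 = n39272 := d41_2 (iv F181520) D40379 (iv D39272)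
def n40380 : Q := act 6 n39254
theorem D40380 : act 6 n39254 = n40380 := rfl
theorem F186335 : act 0 n40380 = n39331 := d5_1 D40380 F181997 (iv F181529)
theorem F186336 : act 1 n40380 = n39258 := d13_1 D40380 (iv D39258) (iv F181530)
theorem F186337 : act 2 n40380 = n39593 := d20_1 D40380 F183274 (iv F181531)
theorem F186338 : act 3 n40380 = n39255 := d26_1 D40380 (iv D39255) (iv F181532)
theorem F186339 : act 4 n40380 = n39328 := d31_1 D40380 F181982 (iv F181533)
theorem F186340 : act 7 n40380 = n39329 := d39_2 D39254 D40380 (iv D39329) (iv D38097) (iv F176001)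
theorem F186341 : act 8 n40380 = n39327 := d40_2 (iv F181535) D40380 (iv D39327)
theorem F186342 : act 9 n40380 = n39276 := d41_2 (iv F181536) D40380 (iv D39276)
def n40381 : Q := act 5 n39255
theorem D40381 : act 5 n39255 = n40381 := rfl
theorem F186343 : act 1 n40381 = n39259 := d12_1 D40381 (iv D39259) (iv F181537)
theorem F186344 : act 2 n40381 = n39531 := d19_1 D40381 (iv D39531) (iv F181538)
theorem F186345 : act 4 n40381 = n39873 := d30_1 D40381 (iv D39873) F179318 (iv F176021) (iv F181539)
theorem F186346 : act 6 n40381 = n39465 := d35_2 D39255 D40381 (iv D39465) (iv D38275) (iv F176008)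
theorem F186347 : act 7 n40381 = n39330 := d36_2 (iv F181540) D40381 (iv D39330)
theorem F186348 : act 9 n40381 = n39278 := d38_2 (iv F181541) D40381 (iv D39278)
def n40382 : Q := act 8 n39255
theorem D40382 : act 8 n39255 = n40382 := rfl
theorem F186349 : act 0 n40382 = n39329 := d7_1 D40382 (iv F186333) F186327
theorem F186350 : act 1 n40382 = n39260 := d15_1 D40382 (iv D39260) (iv F181537)
theorem F186351 : act 2 n40382 = n39532 := d22_1 D40382 (iv D39532) (iv F181538)
theorem F186352 : act 3 n40382 = n39327 := d28_1 D40382 (iv F186341) F186338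
theorem F186353 : act 4 n40382 = n39257 := d33_1 D40382 (iv D39257) (iv F181539)
theorem F186354 : act 6 n40382 = n39256 := d40_1 D40382 (iv D39256) D39255
theorem F186355 : act 7 n40382 = n39331 := d42_1 D40382 (iv D39331) (iv F181540)
theorem F186356 : act 9 n39359 = n40382 := d41_0 F186354 (iv F181549) D39359
def n40383 : Q := act 5 n39258
theorem D40383 : act 5 n39258 = n40383 := rfl
theorem F186357 : act 0 n40383 = n39883 := d4_1 D40383 (iv D39883) (iv F181558)
theorem F186358 : act 2 n40383 = n39556 := d19_1 D40383 (iv D39556) (iv F181559)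
theorem F186359 : act 3 n40383 = n39259 := d25_1 D40383 (iv D39259) (iv F181560)
theorem F186360 : act 6 n40383 = n39467 := d35_2 D39258 D40383 (iv D39467) (iv D38278) (iv F176035)
theorem F186361 : act 7 n40383 = n39335 := d36_2 (iv F181562) D40383 (iv D39335)
theorem F186362 : act 9 n40383 = n39284 := d38_2 (iv F181564) D40383 (iv D39284)
def n40384 : Q := act 8 n39259
theorem D40384 : act 8 n39259 = n40384 := rfl
theorem F186363 : act 0 n40384 = n39884 := d7_1 D40384 (iv D39884) (iv F181565)
theorem F186364 : act 2 n40384 = n39263 := d22_1 D40384 (iv D39263) (iv F181566)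
theorem F186365 : act 4 n40384 = n39874 := d33_1 D40384 (iv D39874) (iv F181567)
theorem F186366 : act 6 n40384 = n39469 := d40_1 D40384 (iv D39469) (iv F181568)
theorem F186367 : act 7 n40384 = n39337 := d42_1 D40384 (iv D39337) (iv F181569)
def n40385 : Q := act 5 n39260
theorem D40385 : act 5 n39260 = n40385 := rfl
theorem F186368 : act 0 n40385 = n39885 := d4_1 D40385 (iv D39885) (iv F181571)
theorem F186369 : act 2 n40385 = n39264 := d19_1 D40385 (iv D39264) (iv F181572)
theorem F186370 : act 3 n40385 = n39984 := d25_1 D40385 (iv D39984) (iv F181573)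
theorem F186371 : act 7 n40385 = n39338 := d36_2 (iv F181576) D40385 (iv D39338)
theorem F186372 : act 9 n40385 = n40008 := d38_2 F181577 D40385 (iv D40008)
def n40386 : Q := act 6 n39261
theorem D40386 : act 6 n39261 = n40386 := rfl
theorem F186373 : act 0 n40386 = n39594 := d5_1 D40386 (iv D39594) (iv F181578)
theorem F186374 : act 1 n40386 = n39581 := d13_1 D40386 F183229 (iv F181579)
theorem F186375 : act 2 n40386 = n39266 := d20_1 D40386 (iv D39266) (iv F181580)
theorem F186376 : act 3 n40386 = n39577 := d26_1 D40386 F183212 (iv F181581)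
theorem F186377 : act 4 n40386 = n39669 := d31_1 D40386 F183568 (iv F181582)
theorem F186378 : act 7 n40386 = n39641 := d39_2 (iv F181583) D40386 F183469 F178321 F176056
theorem F186379 : act 8 n40386 = n39472 := d40_2 (iv F181584) D40386 (iv D39472)
theorem F186380 : act 9 n40386 = n39574 := d41_2 (iv F181585) D40386 F183200
def n40387 : Q := act 4 n39262
theorem D40387 : act 4 n39262 = n40387 := rfl
theorem F186381 : act 0 n40387 = n39886 := d3_1 D40387 (iv D39886) (iv F181586)
theorem F186382 : act 1 n40387 = n39855 := d11_1 D40387 F184232 (iv F181587)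
theorem F186383 : act 2 n40387 = n39269 := d18_1 D40387 (iv D39269) (iv F181588)
theorem F186384 : act 3 n40387 = n39624 := d24_1 D40387 F183410 F178256 (iv F177004) (iv F181589)
theorem F186385 : act 6 n40387 = n39681 := d31_2 (iv F181590) D40387 F183630
theorem F186386 : act 7 n40387 = n39343 := d32_2 (iv F181591) D40387 (iv D39343)
theorem F186387 : act 8 n40387 = n39671 := d33_2 (iv F181592) D40387 (iv D39671)
theorem F186388 : act 9 n40387 = n39623 := d34_2 (iv F181593) D40387 F183404
def n40388 : Q := act 5 n39263
theorem D40388 : act 5 n39263 = n40388 := rfl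
theorem F186389 : act 0 n40388 = n39887 := d4_1 D40388 (iv D39887) (iv F181594)
theorem F186390 : act 1 n40388 = n39541 := d12_1 D40388 (iv D39541) (iv F181595)
theorem F186391 : act 3 n40388 = n39563 := d25_1 D40388 (iv D39563) (iv F181596)
theorem F186392 : act 7 n40388 = n39345 := d36_2 (iv F181599) D40388 (iv D39345)
theorem F186393 : act 8 n40388 = n39264 := d37_2 D39263 D40388 (iv D39264) (iv D38028) D38027
def n40389 : Q := act 9 n39263
theorem D40389 : act 9 n39263 = n40389 := rfl
theorem F186394 : act 0 n40389 = n39888 := d8_1 D40389 (iv D39888) (iv F181594)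
theorem F186395 : act 1 n40389 = n39542 := d16_1 D40389 (iv D39542) (iv F181595)
theorem F186396 : act 3 n40389 = n39564 := d29_1 D40389 (iv D39564) (iv F181596)
theorem F186397 : act 4 n40389 = n39875 := d34_1 D40389 (iv D39875) (iv F181597)
theorem F186398 : act 6 n40389 = n39474 := d41_1 D40389 (iv D39474) (iv F181598)
theorem F186399 : act 7 n40389 = n39346 := d43_1 D40389 (iv D39346) (iv F181599)
theorem F186400 : act 8 n40389 = n39296 := d44_1 D40389 (iv D39296) (iv D38061) (iv F176069) D39263
def n40390 : Q := act 4 n39264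
theorem D40390 : act 4 n39264 = n40390 := rfl
theorem F186401 : act 0 n40390 = n39889 := d3_1 D40390 (iv D39889) (iv F181600)
theorem F186402 : act 1 n40390 = n39543 := d11_1 D40390 (iv D39543) (iv F181601)
theorem F186403 : act 5 n40390 = n39269 := d30_2 D39264 D40390 (iv D39269) (iv D38033) (iv F176073)
theorem F186404 : act 7 n40390 = n39347 := d32_2 (iv F181603) D40390 (iv D39347)
theorem F186405 : act 3 n39678 = n40390 := d25_3 F186403 F181635 D39678
def n40391 : Q := act 6 n39264
theorem D40391 : act 6 n39264 = n40391 := rfl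
theorem F186406 : act 0 n40391 = n39890 := d5_1 D40391 (iv D39890) (iv F181600)
theorem F186407 : act 1 n40391 = n39544 := d13_1 D40391 (iv D39544) (iv F181601)
theorem F186408 : act 3 n40391 = n39566 := d26_1 D40391 (iv D39566) (iv F181602)
theorem F186409 : act 5 n40391 = n39266 := d35_1 D40391 (iv D39266) (iv D38029) (iv F176074) D39264
def n40392 : Q := act 9 n39264
theorem D40392 : act 9 n39264 = n40392 := rfl
theorem F186410 : act 0 n40392 = n39891 := d8_1 D40392 (iv D39891) (iv F181600)
theorem F186411 : act 1 n40392 = n39545 := d16_1 D40392 (iv D39545) (iv F181601)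
theorem F186412 : act 2 n40392 = n40008 := d23_1 D40392 (iv F186372) F186369
theorem F186413 : act 3 n40392 = n39567 := d29_1 D40392 (iv D39567) (iv F181602)
theorem F186414 : act 5 n40392 = n39265 := d38_1 D40392 (iv D39265) D39264
theorem F186415 : act 7 n40392 = n39349 := d43_1 D40392 (iv D39349) (iv F181603)
def n40393 : Q := act 7 n39266
theorem D40393 : act 7 n39266 = n40393 := rfl
theorem F186416 : act 0 n40393 = n39892 := d6_1 D40393 (iv D39892) (iv F181612)
theorem F186417 : act 1 n40393 = n39546 := d14_1 D40393 (iv D39546) (iv F181613)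
theorem F186418 : act 2 n40393 = n39641 := d21_1 D40393 (iv F186378) F186375
theorem F186419 : act 3 n40393 = n39568 := d27_1 D40393 (iv D39568) (iv F181614)
theorem F186420 : act 4 n40393 = n39675 := d32_1 D40393 F183601 (iv F181615)
theorem F186421 : act 6 n40393 = n39268 := d39_1 D40393 (iv D39268) (iv D38031) (iv F176080) D39266
theorem F186422 : act 8 n40393 = n39478 := d42_2 (iv F181616) D40393 (iv D39478)
theorem F186423 : act 9 n39637 = n40393 := d44_0 F186422 (iv F182794) F178790 (iv F178301) D39637
def n40394 : Q := act 9 n39266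
theorem D40394 : act 9 n39266 = n40394 := rfl
theorem F186424 : act 0 n40394 = n39724 := d8_1 D40394 F183854 (iv F181612)
theorem F186425 : act 1 n40394 = n39547 := d16_1 D40394 (iv D39547) (iv F181613)
theorem F186426 : act 2 n40394 = n39574 := d23_1 D40394 (iv F186380) F186375
theorem F186427 : act 3 n40394 = n39569 := d29_1 D40394 (iv D39569) (iv F181614)
theorem F186428 : act 4 n40394 = n39667 := d34_1 D40394 F183556 (iv F181615)
theorem F186429 : act 6 n40394 = n39267 := d41_1 D40394 (iv D39267) D39266
theorem F186430 : act 7 n40394 = n39637 := d43_1 D40394 F186423 (iv D40393)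
theorem F186431 : act 8 n40394 = n39572 := d44_1 D40394 F183191 F182801 (iv D39479) (iv F181616)
def n40395 : Q := act 9 n39269
theorem D40395 : act 9 n39269 = n40395 := rfl
theorem F186432 : act 0 n40395 = n39893 := d8_1 D40395 (iv D39893) (iv F181633)
theorem F186433 : act 1 n40395 = n39549 := d16_1 D40395 (iv D39549) (iv F181634)
theorem F186434 : act 2 n40395 = n39623 := d23_1 D40395 (iv F186388) F186383
theorem F186435 : act 3 n40395 = n39635 := d29_1 D40395 F183450 (iv F181635)
theorem F186436 : act 4 n40395 = n39270 := d34_1 D40395 (iv D39270) D39269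
theorem F186437 : act 6 n40395 = n39683 := d41_1 D40395 (iv D39683) (iv F181636)
theorem F186438 : act 7 n40395 = n39355 := d43_1 D40395 (iv D39355) (iv F181637)
theorem F186439 : act 8 n40395 = n39830 := d44_1 D40395 F184174 (iv D38712) (iv F178475) (iv F181638)
def n40396 : Q := act 6 n39271
theorem D40396 : act 6 n39271 = n40396 := rfl
theorem F186440 : act 0 n40396 = n39276 := d5_1 D40396 (iv D39276) (iv F181647)
theorem F186441 : act 1 n40396 = n39339 := d13_1 D40396 F182041 (iv F181648)
theorem F186442 : act 2 n40396 = n40098 := d20_1 D40396 F184964 (iv F181649)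
theorem F186443 : act 3 n40396 = n39272 := d26_1 D40396 (iv D39272) (iv F181650)
theorem F186444 : act 4 n40396 = n39334 := d31_1 D40396 F182017 (iv F181651)
theorem F186445 : act 7 n40396 = n39359 := d39_2 D39271 D40396 (iv D39359) (iv D38126) (iv F176130)
theorem F186446 : act 8 n40396 = n39369 := d40_2 (iv F181653) D40396 F182196
theorem F186447 : act 9 n40396 = n39331 := d41_2 (iv F181654) D40396 F181997
def n40397 : Q := act 5 n39272
theorem D40397 : act 5 n39272 = n40397 := rfl
theorem F186448 : act 0 n40397 = n39278 := d4_1 D40397 (iv D39278) (iv F181655)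
theorem F186449 : act 1 n40397 = n39934 := d12_1 D40397 (iv D39934) (iv F181656)
theorem F186450 : act 2 n40397 = n39590 := d19_1 D40397 F183264 (iv F181657)
theorem F186451 : act 4 n40397 = n39732 := d30_1 D40397 F183874 F178855 (iv F176151) (iv F181658)
theorem F186452 : act 6 n40397 = n39658 := d35_2 D39272 D40397 F183526 F178375 (iv F176138)
theorem F186453 : act 7 n40397 = n39360 := d36_2 (iv F181659) D40397 (iv D39360)
def n40398 : Q := act 8 n39272
theorem D40398 : act 8 n39272 = n40398 := rfl
theorem F186454 : act 0 n40398 = n39279 := d7_1 D40398 (iv D39279) (iv F181655)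
theorem F186455 : act 1 n40398 = n39375 := d15_1 D40398 F182224 (iv F181656)
theorem F186456 : act 2 n40398 = n39546 := d22_1 D40398 F183075 (iv F181657)
theorem F186457 : act 3 n40398 = n39369 := d28_1 D40398 (iv F186446) F186443
theorem F186458 : act 4 n40398 = n39274 := d33_1 D40398 (iv D39274) (iv F181658)
theorem F186459 : act 6 n40398 = n39273 := d40_1 D40398 (iv D39273) D39272
theorem F186460 : act 7 n40398 = n39361 := d42_1 D40398 (iv D39361) (iv F181659)
theorem F186461 : act 9 n40398 = n39366 := d44_2 F186334 D40398 (iv D39366) (iv F181989) (iv F186333)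
def n40399 : Q := act 6 n39275
theorem D40399 : act 6 n39275 = n40399 := rfl
theorem F186462 : act 0 n40399 = n40098 := d5_1 D40399 F184964 (iv F181676)
theorem F186463 : act 1 n40399 = n39572 := d13_1 D40399 (iv D39572) (iv F181677)
theorem F186464 : act 2 n40399 = n39276 := d20_1 D40399 (iv D39276) (iv F181678)
theorem F186465 : act 3 n40399 = n39947 := d26_1 D40399 F184572 (iv F181679)
theorem F186466 : act 4 n40399 = n39413 := d31_1 D40399 (iv D39413) (iv F181680)
theorem F186467 : act 7 n40399 = n39363 := d39_2 D39275 D40399 (iv D39363) (iv D38131) (iv F176165)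
theorem F186468 : act 8 n40399 = n39547 := d40_2 (iv F181682) D40399 F183078
theorem F186469 : act 9 n40399 = n39593 := d41_2 (iv F181683) D40399 F183274
def n40400 : Q := act 5 n39276
theorem D40400 : act 5 n39276 = n40400 := rfl
theorem F186470 : act 1 n40400 = n39284 := d12_1 D40400 (iv D39284) (iv F181684)
theorem F186471 : act 3 n40400 = n39278 := d25_1 D40400 (iv D39278) (iv F181685)
theorem F186472 : act 6 n40400 = n40162 := d35_2 D39276 D40400 F185096 F180207 (iv F176171)
theorem F186473 : act 7 n40400 = n39365 := d36_2 (iv F181687) D40400 (iv D39365)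
def n40401 : Q := act 8 n39276
theorem D40401 : act 8 n39276 = n40401 := rfl
theorem F186474 : act 0 n40401 = n39369 := d7_1 D40401 (iv F186446) F186440
theorem F186475 : act 1 n40401 = n39285 := d15_1 D40401 (iv D39285) (iv F181684)
theorem F186476 : act 2 n40401 = n39547 := d22_1 D40401 (iv F186468) F186464
theorem F186477 : act 3 n40401 = n39279 := d28_1 D40401 (iv D39279) (iv F181685)
theorem F186478 : act 4 n40401 = n39362 := d33_1 D40401 F182166 (iv F181686)
theorem F186479 : act 6 n40401 = n39277 := d40_1 D40401 (iv D39277) D39276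
theorem F186480 : act 7 n40401 = n39366 := d42_1 D40401 (iv D39366) (iv F181687)
theorem F186481 : act 9 n40401 = n39361 := d44_2 F186342 D40401 (iv D39361) (iv F181977) (iv F186341)
def n40402 : Q := act 8 n39278
theorem D40402 : act 8 n39278 = n40402 := rfl
theorem F186482 : act 1 n40402 = n39287 := d15_1 D40402 (iv D39287) (iv F181696)
theorem F186483 : act 2 n40402 = n40128 := d22_1 D40402 F185040 (iv F181697)
theorem F186484 : act 6 n40402 = n40164 := d40_1 D40402 F185099 (iv F181698)
theorem F186485 : act 7 n40402 = n39367 := d42_1 D40402 (iv D39367) (iv F181699)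
def n40403 : Q := act 5 n39279
theorem D40403 : act 5 n39279 = n40403 := rfl
theorem F186486 : act 1 n40403 = n39288 := d12_1 D40403 (iv D39288) (iv F181700)
theorem F186487 : act 2 n40403 = n40094 := d19_1 D40403 F184957 (iv F181701)
theorem F186488 : act 7 n40403 = n39368 := d36_2 (iv F181704) D40403 (iv D39368)
def n40404 : Q := act 9 n39279
theorem D40404 : act 9 n39279 = n40404 := rfl
theorem F186489 : act 0 n40404 = n39366 := d8_1 D40404 (iv F186461) F186454
theorem F186490 : act 1 n40404 = n39289 := d16_1 D40404 (iv D39289) (iv F181700)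
theorem F186491 : act 2 n40404 = n40097 := d23_1 D40404 (iv D40097) (iv F181701)
theorem F186492 : act 3 n40404 = n39361 := d29_1 D40404 (iv F186481) F186477
theorem F186493 : act 4 n40404 = n39283 := d34_1 D40404 (iv D39283) (iv F181702)
theorem F186494 : act 6 n40404 = n39281 := d41_1 D40404 (iv D39281) (iv F181703)
theorem F186495 : act 7 n40404 = n39369 := d43_1 D40404 (iv D39369) (iv F181704)
theorem F186496 : act 8 n40404 = n39359 := d44_1 D40404 F186356 (iv D40382) F181541 D39279
def n40405 : Q := act 6 n39280
theorem D40405 : act 6 n39280 = n40405 := rfl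
theorem F186497 : act 0 n40405 = n40080 := d5_1 D40405 F184930 (iv F181705)
theorem F186498 : act 1 n40405 = n39290 := d13_1 D40405 (iv D39290) (iv F181706)
theorem F186499 : act 2 n40405 = n39780 := d20_1 D40405 F184028 (iv F181707)
theorem F186500 : act 3 n40405 = n39538 := d26_1 D40405 F183051 (iv F181708)
theorem F186501 : act 4 n40405 = n40405 := d31_1 D40405 (iv D40405) F181709
theorem F186502 : act 7 n40405 = n39772 := d39_2 (iv F181710) D40405 (iv D39772) F179000 (iv F176193)
theorem F186503 : act 8 n40405 = n39798 := d40_2 (iv F181711) D40405 F184091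
theorem F186504 : act 9 n40405 = n39535 := d41_2 F181712 D40405 F183042
def n40406 : Q := act 4 n39282
theorem D40406 : act 4 n39282 = n40406 := rfl
theorem F186505 : act 0 n40406 = n40045 := d3_1 D40406 F184838 (iv F181721)
theorem F186506 : act 1 n40406 = n39293 := d11_1 D40406 (iv D39293) (iv F181722)
theorem F186507 : act 2 n40406 = n40184 := d18_1 D40406 F185149 (iv F181723)
theorem F186508 : act 6 n40406 = n40406 := d31_2 F181725 D40406 (iv D40406)
theorem F186509 : act 7 n40406 = n39370 := d32_2 (iv F181726) D40406 (iv D39370)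
theorem F186510 : act 8 n40406 = n39409 := d33_2 (iv F181727) D40406 F182392
def n40407 : Q := act 9 n39282
theorem D40407 : act 9 n39282 = n40407 := rfl
theorem F186511 : act 0 n40407 = n39419 := d8_1 D40407 F182459 (iv F181721)
theorem F186512 : act 1 n40407 = n39294 := d16_1 D40407 (iv D39294) (iv F181722)
theorem F186513 : act 2 n40407 = n40187 := d23_1 D40407 (iv D40187) (iv F181723)
theorem F186514 : act 3 n40407 = n39411 := d29_1 D40407 (iv D39411) (iv F181724)
theorem F186515 : act 5 n40407 = n39283 := d38_1 D40407 (iv D39283) D39282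
theorem F186516 : act 6 n40407 = n40407 := d41_1 D40407 (iv D40407) F181725
theorem F186517 : act 7 n40407 = n39371 := d43_1 D40407 (iv D39371) (iv F181726)
theorem F186518 : act 8 n40407 = n39785 := d44_1 D40407 (iv D39785) (iv F181224) F181225 (iv F181727)
def n40408 : Q := act 4 n39284
theorem D40408 : act 4 n39284 = n40408 := rfl
theorem F186519 : act 0 n40408 = n39939 := d3_1 D40408 (iv D39939) (iv F181735)
theorem F186520 : act 2 n40408 = n39578 := d18_1 D40408 (iv D39578) (iv F181736)
theorem F186521 : act 5 n40408 = n39414 := d30_2 D39284 D40408 (iv D39414) (iv D38201) (iv F176219)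
theorem F186522 : act 7 n40408 = n39372 := d32_2 (iv F181738) D40408 (iv D39372)
def n40409 : Q := act 8 n39284
theorem D40409 : act 8 n39284 = n40409 := rfl
theorem F186523 : act 0 n40409 = n39940 := d7_1 D40409 (iv D39940) (iv F181735)
theorem F186524 : act 2 n40409 = n39579 := d22_1 D40409 (iv D39579) (iv F181736)
theorem F186525 : act 3 n40409 = n39287 := d28_1 D40409 (iv D39287) (iv F181737)
theorem F186526 : act 7 n40409 = n39373 := d42_1 D40409 (iv D39373) (iv F181738)
def n40410 : Q := act 5 n39285
theorem D40410 : act 5 n39285 = n40410 := rfl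
theorem F186527 : act 0 n40410 = n39941 := d4_1 D40410 (iv D39941) (iv F181739)
theorem F186528 : act 2 n40410 = n39580 := d19_1 D40410 (iv D39580) (iv F181740)
theorem F186529 : act 3 n40410 = n39288 := d25_1 D40410 (iv D39288) (iv F181741)
theorem F186530 : act 4 n40410 = n39837 := d30_1 D40410 F184184 F179174 F177061 (iv F181742)
theorem F186531 : act 7 n40410 = n39374 := d36_2 (iv F181744) D40410 (iv D39374)
theorem F186532 : act 9 n40410 = n40010 := d38_2 (iv F181745) D40410 (iv D40010)
def n40411 : Q := act 6 n39286
theorem D40411 : act 6 n39286 = n40411 := rfl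
theorem F186533 : act 0 n40411 = n39363 := d5_1 D40411 (iv D39363) (iv F181746)
theorem F186534 : act 1 n40411 = n39538 := d13_1 D40411 F183051 (iv F181747)
theorem F186535 : act 2 n40411 = n39359 := d20_1 D40411 (iv D39359) (iv F181748)
theorem F186536 : act 3 n40411 = n39290 := d26_1 D40411 (iv D39290) (iv F181749)
theorem F186537 : act 4 n40411 = n39417 := d31_1 D40411 (iv D39417) (iv F181750)
theorem F186538 : act 7 n40411 = n40098 := d39_2 (iv F181751) D40411 F184964 F180060 F176234
theorem F186539 : act 8 n40411 = n40097 := d40_2 (iv F181752) D40411 F184961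
theorem F186540 : act 9 n40411 = n39532 := d41_2 (iv F181753) D40411 F183026
def n40412 : Q := act 5 n39287
theorem D40412 : act 5 n39287 = n40412 := rfl
theorem F186541 : act 0 n40412 = n39942 := d4_1 D40412 (iv D39942) (iv F181754)
theorem F186542 : act 2 n40412 = n39295 := d19_1 D40412 (iv D39295) (iv F181755)
theorem F186543 : act 7 n40412 = n39379 := d36_2 (iv F181756) D40412 (iv D39379)
theorem F186544 : act 8 n40412 = n39288 := d37_2 D39287 D40412 (iv D39288) (iv D38054) D38053
def n40413 : Q := act 9 n39287
theorem D40413 : act 9 n39287 = n40413 := rfl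
theorem F186545 : act 0 n40413 = n39943 := d8_1 D40413 (iv D39943) (iv F181754)
theorem F186546 : act 2 n40413 = n39296 := d23_1 D40413 (iv D39296) (iv F181755)
theorem F186547 : act 7 n40413 = n39380 := d43_1 D40413 (iv D39380) (iv F181756)
def n40414 : Q := act 4 n39288
theorem D40414 : act 4 n39288 = n40414 := rfl
theorem F186548 : act 0 n40414 = n39944 := d3_1 D40414 (iv D39944) (iv F181757)
theorem F186549 : act 2 n40414 = n39297 := d18_1 D40414 (iv D39297) (iv F181758)
theorem F186550 : act 5 n40414 = n39293 := d30_2 D39288 D40414 (iv D39293) (iv D38059) (iv F176240)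
theorem F186551 : act 7 n40414 = n39381 := d32_2 (iv F181759) D40414 (iv D39381)
def n40415 : Q := act 6 n39288
theorem D40415 : act 6 n39288 = n40415 := rfl
theorem F186552 : act 0 n40415 = n39945 := d5_1 D40415 (iv D39945) (iv F181757)
theorem F186553 : act 2 n40415 = n39298 := d20_1 D40415 (iv D39298) (iv F181758)
theorem F186554 : act 5 n40415 = n39290 := d35_1 D40415 (iv D39290) (iv D38055) (iv F176241) D39288
def n40416 : Q := act 9 n39288
theorem D40416 : act 9 n39288 = n40416 := rfl
theorem F186555 : act 0 n40416 = n39946 := d8_1 D40416 (iv D39946) (iv F181757)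
theorem F186556 : act 2 n40416 = n39299 := d23_1 D40416 (iv D39299) (iv F181758)
theorem F186557 : act 3 n40416 = n40010 := d29_1 D40416 (iv F186532) F186529
theorem F186558 : act 5 n40416 = n39289 := d38_1 D40416 (iv D39289) D39288
theorem F186559 : act 7 n40416 = n39383 := d43_1 D40416 (iv D39383) (iv F181759)
def n40417 : Q := act 7 n39290
theorem D40417 : act 7 n39290 = n40417 := rfl
theorem F186560 : act 0 n40417 = n39947 := d6_1 D40417 (iv D39947) (iv F181767)
theorem F186561 : act 1 n40417 = n39772 := d14_1 D40417 (iv F186502) F186498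
theorem F186562 : act 2 n40417 = n39300 := d21_1 D40417 (iv D39300) (iv F181768)
theorem F186563 : act 3 n40417 = n40098 := d27_1 D40417 (iv F186538) F186536
theorem F186564 : act 4 n40417 = n40417 := d32_1 D40417 (iv D40417) F181769
theorem F186565 : act 6 n40417 = n39292 := d39_1 D40417 (iv D39292) (iv D38057) (iv F176246) D39290
theorem F186566 : act 8 n40417 = n39790 := d42_2 F186231 D40417 (iv F186230)
theorem F186567 : act 9 n39960 = n40417 := d44_0 F186566 F184069 F179572 D38805 D39960
def n40418 : Q := act 9 n39290
theorem D40418 : act 9 n39290 = n40418 := rfl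
theorem F186568 : act 0 n40418 = n39948 := d8_1 D40418 (iv D39948) (iv F181767)
theorem F186569 : act 1 n40418 = n39535 := d16_1 D40418 (iv F186504) F186498
theorem F186570 : act 2 n40418 = n39301 := d23_1 D40418 (iv D39301) (iv F181768)
theorem F186571 : act 3 n40418 = n39532 := d29_1 D40418 (iv F186540) F186536
theorem F186572 : act 4 n40418 = n40418 := d34_1 D40418 (iv D40418) F181769
theorem F186573 : act 6 n40418 = n39291 := d41_1 D40418 (iv D39291) D39290
theorem F186574 : act 7 n40418 = n39960 := d43_1 D40418 F186567 (iv D40417)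
theorem F186575 : act 8 n40418 = n39530 := d44_1 D40418 F183018 (iv F184518) (iv F186232) F186231
def n40419 : Q := act 3 n39293
theorem D40419 : act 3 n39293 = n40419 := rfl
theorem F186576 : act 0 n40419 = n39949 := d2_1 D40419 (iv D39949) (iv F181786)
theorem F186577 : act 2 n40419 = n39869 := d17_1 D40419 (iv D39869) F181842 (iv D39304) (iv F181787)
theorem F186578 : act 4 n40419 = n39306 := d24_2 D39293 D40419 F181849 F176334 (iv F176271)
theorem F186579 : act 6 n40419 = n40419 := d26_2 F181788 D40419 (iv D40419)
theorem F186580 : act 7 n40419 = n39388 := d27_2 (iv F181789) D40419 (iv D39388)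
theorem F186581 : act 8 n40419 = n39305 := d28_2 F186190 D40419 (iv F186187)
theorem F186582 : act 9 n39868 = n40419 := d44_0 F186581 (iv D39305) (iv F181503) F181504 (iv F184280)
def n40420 : Q := act 9 n39293
theorem D40420 : act 9 n39293 = n40420 := rfl
theorem F186583 : act 0 n40420 = n39950 := d8_1 D40420 (iv D39950) (iv F181786)
theorem F186584 : act 2 n40420 = n39305 := d23_1 D40420 (iv D39305) (iv F181787)
theorem F186585 : act 3 n40420 = n39868 := d29_1 D40420 F186582 (iv D40419)
theorem F186586 : act 4 n40420 = n39294 := d34_1 D40420 (iv D39294) D39293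
theorem F186587 : act 6 n40420 = n40420 := d41_1 D40420 (iv D40420) F181788
theorem F186588 : act 7 n40420 = n39389 := d43_1 D40420 (iv D39389) (iv F181789)
theorem F186589 : act 8 n40420 = n39869 := d44_1 D40420 (iv F186325) F186324 (iv F186191) F186190
def n40421 : Q := act 4 n39295
theorem D40421 : act 4 n39295 = n40421 := rfl
theorem F186590 : act 0 n40421 = n39951 := d3_1 D40421 (iv D39951) (iv F181797)
theorem F186591 : act 7 n40421 = n39390 := d32_2 (iv F181799) D40421 (iv D39390)
theorem F186592 : act 8 n40421 = n39297 := d33_2 (iv F181800) D40421 (iv D39297)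
def n40422 : Q := act 6 n39295
theorem D40422 : act 6 n39295 = n40422 := rfl
theorem F186593 : act 0 n40422 = n39952 := d5_1 D40422 (iv D39952) (iv F181797)
theorem F186594 : act 3 n40422 = n39586 := d26_1 D40422 (iv D39586) (iv F181798)
theorem F186595 : act 8 n40422 = n39298 := d40_2 (iv F181800) D40422 (iv D39298)
def n40423 : Q := act 9 n39295
theorem D40423 : act 9 n39295 = n40423 := rfl
theorem F186596 : act 0 n40423 = n39953 := d8_1 D40423 (iv D39953) (iv F181797)
theorem F186597 : act 3 n40423 = n39587 := d29_1 D40423 (iv D39587) (iv F181798)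
theorem F186598 : act 5 n40423 = n39296 := d38_1 D40423 (iv D39296) D39295
theorem F186599 : act 7 n40423 = n39392 := d43_1 D40423 (iv D39392) (iv F181799)
def n40424 : Q := act 3 n39297
theorem D40424 : act 3 n39297 = n40424 := rfl
theorem F186600 : act 0 n40424 = n39954 := d2_1 D40424 (iv D39954) (iv F181804)
theorem F186601 : act 4 n40424 = n39588 := d24_2 D39297 D40424 (iv D39588) (iv D38402) (iv F176284)
theorem F186602 : act 5 n40424 = n39304 := d25_2 (iv F181805) D40424 (iv D39304)
theorem F186603 : act 7 n40424 = n39393 := d27_2 (iv F181806) D40424 (iv D39393)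
theorem F186604 : act 2 n39817 = n40424 := d19_3 F186602 (iv F181842) (iv F184135)
def n40425 : Q := act 6 n39297
theorem D40425 : act 6 n39297 = n40425 := rfl
theorem F186605 : act 0 n40425 = n39955 := d5_1 D40425 (iv D39955) (iv F181804)
theorem F186606 : act 4 n40425 = n39298 := d31_1 D40425 (iv D39298) D39297
theorem F186607 : act 5 n40425 = n40425 := d35_1 D40425 (iv D40425) F181805 F176320 (iv F181805)
def n40426 : Q := act 9 n39297
theorem D40426 : act 9 n39297 = n40426 := rfl
theorem F186608 : act 0 n40426 = n39956 := d8_1 D40426 (iv D39956) (iv F181804)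
theorem F186609 : act 4 n40426 = n39299 := d34_1 D40426 (iv D39299) D39297
theorem F186610 : act 5 n40426 = n39305 := d38_1 D40426 (iv D39305) (iv F181805)
theorem F186611 : act 7 n40426 = n39395 := d43_1 D40426 (iv D39395) (iv F181806)
def n40427 : Q := act 7 n39298
theorem D40427 : act 7 n39298 = n40427 := rfl
theorem F186612 : act 0 n40427 = n39957 := d6_1 D40427 (iv D39957) (iv F181807)
theorem F186613 : act 3 n40427 = n39590 := d27_1 D40427 (iv D39590) (iv F181808)
theorem F186614 : act 5 n40427 = n39300 := d36_1 D40427 (iv D39300) (iv F181809)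
theorem F186615 : act 6 n40427 = n39396 := d39_1 D40427 (iv D39396) (iv D38159) (iv F176285) D39298
def n40428 : Q := act 9 n39298
theorem D40428 : act 9 n39298 = n40428 := rfl
theorem F186616 : act 0 n40428 = n39958 := d8_1 D40428 (iv D39958) (iv F181807)
theorem F186617 : act 3 n40428 = n39591 := d29_1 D40428 (iv D39591) (iv F181808)
theorem F186618 : act 5 n40428 = n39301 := d38_1 D40428 (iv D39301) (iv F181809)
theorem F186619 : act 6 n40428 = n39299 := d41_1 D40428 (iv D39299) D39298
def n40429 : Q := act 8 n39299
theorem D40429 : act 8 n39299 = n40429 := rfl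
theorem F186620 : act 0 n40429 = n39959 := d7_1 D40429 (iv D39959) (iv F181810)
theorem F186621 : act 3 n40429 = n39592 := d28_1 D40429 (iv D39592) (iv F181811)
theorem F186622 : act 7 n40429 = n39398 := d42_1 D40429 (iv D39398) (iv F181813)
def n40430 : Q := act 9 n39300
theorem D40430 : act 9 n39300 = n40430 := rfl
theorem F186623 : act 0 n40430 = n39530 := d8_1 D40430 F183018 (iv F181814)
theorem F186624 : act 1 n40430 = n39712 := d16_1 D40430 F186019 F186013
theorem F186625 : act 2 n40430 = n39960 := d23_1 D40430 F186567 F186562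
theorem F186626 : act 3 n40430 = n39529 := d29_1 D40430 F183013 (iv F181815)
theorem F186627 : act 4 n40430 = n40430 := d34_1 D40430 (iv D40430) F181816
theorem F186628 : act 6 n40430 = n39303 := d41_1 D40430 (iv D39303) (iv F181817)
theorem F186629 : act 7 n40430 = n39301 := d43_1 D40430 (iv D39301) D39300
theorem F186630 : act 8 n40430 = n39948 := d44_1 D40430 (iv D39948) (iv F184503) F186271 F186270
def n40431 : Q := act 8 n39301
theorem D40431 : act 8 n39301 = n40431 := rfl
theorem F186631 : act 0 n40431 = n39960 := d7_1 D40431 (iv D39960) (iv F181818)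
theorem F186632 : act 1 n40431 = n40022 := d15_1 D40431 F186027 F186021
theorem F186633 : act 2 n40431 = n39530 := d22_1 D40431 (iv F186575) F186570
theorem F186634 : act 3 n40431 = n39593 := d28_1 D40431 (iv D39593) (iv F181819)
theorem F186635 : act 4 n40431 = n40431 := d33_1 D40431 (iv D40431) F181820
theorem F186636 : act 6 n40431 = n39302 := d40_1 D40431 (iv D39302) (iv F181821)
theorem F186637 : act 7 n40431 = n39948 := d42_1 D40431 (iv F186630) F186629
theorem F186638 : act 9 n40431 = n39947 := d44_2 D39301 D40431 F186279 (iv D40370) F181448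
def n40432 : Q := act 5 n39307
theorem D40432 : act 5 n39307 = n40432 := rfl
theorem F186639 : act 0 n40432 = n39721 := d4_1 D40432 F183841 (iv F181854)
theorem F186640 : act 1 n40432 = n39308 := d12_1 D40432 (iv D39308) (iv F181855)
theorem F186641 : act 2 n40432 = n39920 := d19_1 D40432 (iv D39920) (iv F181856)
theorem F186642 : act 3 n40432 = n39743 := d25_1 D40432 F183921 (iv F181857)
theorem F186643 : act 4 n40432 = n39595 := d30_1 D40432 (iv D39595) F178135 (iv F176351) (iv F181858)
theorem F186644 : act 6 n40432 = n39876 := d35_2 D39307 D40432 (iv D39876) (iv D38724) (iv F176344)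
theorem F186645 : act 7 n40432 = n39495 := d36_2 (iv F181859) D40432 F182882
theorem F186646 : act 9 n40432 = n39460 := d38_2 (iv F181861) D40432 (iv D39460)
def n40433 : Q := act 8 n39308
theorem D40433 : act 8 n39308 = n40433 := rfl
theorem F186647 : act 0 n40433 = n39961 := d7_1 D40433 (iv D39961) (iv F181862)
theorem F186648 : act 2 n40433 = n39309 := d22_1 D40433 (iv D39309) (iv F181863)
theorem F186649 : act 4 n40433 = n39597 := d33_1 D40433 (iv D39597) (iv F181864)
theorem F186650 : act 5 n40433 = n39806 := d37_1 D40433 (iv D39806) F179099 (iv F176359) D39308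
theorem F186651 : act 6 n40433 = n39877 := d40_1 D40433 (iv D39877) (iv F181865)
theorem F186652 : act 7 n40433 = n39614 := d42_1 D40433 (iv D39614) (iv F181866)
def n40434 : Q := act 5 n39309
theorem D40434 : act 5 n39309 = n40434 := rfl
theorem F186653 : act 0 n40434 = n39962 := d4_1 D40434 (iv D39962) (iv F181868)
theorem F186654 : act 1 n40434 = n39927 := d12_1 D40434 (iv D39927) (iv F181869)
theorem F186655 : act 2 n40434 = n39806 := d19_1 D40434 (iv F186650) F186648
theorem F186656 : act 3 n40434 = n39319 := d25_1 D40434 (iv D39319) (iv F181870)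
theorem F186657 : act 7 n40434 = n39828 := d36_2 (iv F181873) D40434 F184165
theorem F186658 : act 8 n40434 = n39310 := d37_2 D39309 D40434 (iv D39310) (iv D38077) D38076
def n40435 : Q := act 9 n39309
theorem D40435 : act 9 n39309 = n40435 := rfl
theorem F186659 : act 0 n40435 = n39963 := d8_1 D40435 (iv D39963) (iv F181868)
theorem F186660 : act 1 n40435 = n39928 := d16_1 D40435 (iv D39928) (iv F181869)
theorem F186661 : act 3 n40435 = n39320 := d29_1 D40435 (iv D39320) (iv F181870)
theorem F186662 : act 4 n40435 = n39601 := d34_1 D40435 (iv D39601) (iv F181871)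
theorem F186663 : act 6 n40435 = n39880 := d41_1 D40435 (iv D39880) (iv F181872)
theorem F186664 : act 7 n40435 = n40049 := d43_1 D40435 (iv D40049) (iv F181873)
theorem F186665 : act 8 n40435 = n39723 := d44_1 D40435 (iv D39723) (iv D38562) (iv F176367) D39309
def n40436 : Q := act 4 n39310
theorem D40436 : act 4 n39310 = n40436 := rfl
theorem F186666 : act 0 n40436 = n39964 := d3_1 D40436 (iv D39964) (iv F181874)
theorem F186667 : act 1 n40436 = n39929 := d11_1 D40436 (iv D39929) (iv F181875)
theorem F186668 : act 2 n40436 = n39804 := d18_1 D40436 F184102 (iv F181876)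
theorem F186669 : act 5 n40436 = n39311 := d30_2 D39310 D40436 (iv D39311) (iv D38078) (iv F176372)
theorem F186670 : act 7 n40436 = n39825 := d32_2 (iv F181878) D40436 F184155
theorem F186671 : act 9 n40436 = n39796 := d34_2 (iv F181879) D40436 (iv D39796)
def n40437 : Q := act 3 n39311
theorem D40437 : act 3 n39311 = n40437 := rfl
theorem F186672 : act 0 n40437 = n39967 := d2_1 D40437 (iv D39967) (iv F181880)
theorem F186673 : act 1 n40437 = n39932 := d10_1 D40437 (iv D39932) (iv F181881)
theorem F186674 : act 4 n40437 = n39312 := d24_2 D39311 D40437 (iv D39312) (iv D38079) (iv F176379)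
theorem F186675 : act 6 n40437 = n40437 := d26_2 F181883 D40437 (iv D40437)
theorem F186676 : act 7 n40437 = n39737 := d27_2 (iv F181884) D40437 F183891
theorem F186677 : act 8 n40437 = n39605 := d28_2 (iv F181885) D40437 (iv D39605)
theorem F186678 : act 9 n40437 = n39799 := d29_2 (iv F181886) D40437 (iv D39799)
theorem F186679 : act 2 n39863 = n40437 := d45_0 (iv D40437) (iv D39311) (iv D38078) F169837 F162578 (iv D33309) (iv F154681) F154682 (iv F153370) F153371 F144898 (iv F153427) F153428 F145512 F139939 (iv F136180) F136181 F105841 (iv D23592) (iv F133699) (iv F133705) F84052 F66635 F52689 (iv D9902) F36858 (iv F36264) F36263 F29196 D7644 F36317 D7652 D9715 F45442 (iv F45358) (iv F57240) (iv F71562) (iv F90584) D25303 F113911 D30279 (iv F150132) F150133 F141168 D32317 (iv F158749) (iv F166510) (iv F172219) F172216 F165034 D35555 F165047 F157358 F148807 (iv D31975) (iv F148802) (iv F157508) D35633 (iv F169091) (iv F175434) (iv F181008) D40303 F185856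
def n40438 : Q := act 8 n39313
theorem D40438 : act 8 n39313 = n40438 := rfl
theorem F186680 : act 0 n40438 = n39877 := d7_1 D40438 (iv D39877) (iv F181895)
theorem F186681 : act 2 n40438 = n39315 := d22_1 D40438 (iv D39315) (iv F181896)
theorem F186682 : act 4 n40438 = n39337 := d33_1 D40438 (iv D39337) (iv F181897)
theorem F186683 : act 6 n40438 = n39961 := d40_1 D40438 (iv D39961) (iv F181898)
theorem F186684 : act 7 n40438 = n39874 := d42_1 D40438 (iv D39874) (iv F181899)
def n40439 : Q := act 4 n39314
theorem D40439 : act 4 n39314 = n40439 := rfl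
theorem F186685 : act 0 n40439 = n39878 := d3_1 D40439 (iv D39878) (iv F181901)
theorem F186686 : act 2 n40439 = n39317 := d18_1 D40439 (iv D39317) (iv F181902)
theorem F186687 : act 3 n40439 = n39606 := d24_1 D40439 F183322 F178175 (iv F177078) (iv F181903)
theorem F186688 : act 6 n40439 = n40439 := d31_2 F181904 D40439 (iv D40439)
theorem F186689 : act 7 n40439 = n39671 := d32_2 (iv F181905) D40439 (iv D39671)
theorem F186690 : act 8 n40439 = n39343 := d33_2 (iv F181906) D40439 (iv D39343)
theorem F186691 : act 9 n40439 = n39605 := d34_2 (iv F181907) D40439 F183317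
def n40440 : Q := act 5 n39315
theorem D40440 : act 5 n39315 = n40440 := rfl
theorem F186692 : act 0 n40440 = n39879 := d4_1 D40440 (iv D39879) (iv F181908)
theorem F186693 : act 1 n40440 = n40071 := d12_1 D40440 (iv D40071) (iv F181909)
theorem F186694 : act 3 n40440 = n39553 := d25_1 D40440 F183104 (iv F181910)
theorem F186695 : act 7 n40440 = n39608 := d36_2 (iv F181913) D40440 F183331
theorem F186696 : act 8 n40440 = n39316 := d37_2 D39315 D40440 (iv D39316) (iv D38083) D38082
def n40441 : Q := act 9 n39315
theorem D40441 : act 9 n39315 = n40441 := rfl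
theorem F186697 : act 0 n40441 = n39880 := d8_1 D40441 (iv D39880) (iv F181908)
theorem F186698 : act 1 n40441 = n40072 := d16_1 D40441 (iv D40072) (iv F181909)
theorem F186699 : act 3 n40441 = n39723 := d29_1 D40441 (iv D39723) (iv F181910)
theorem F186700 : act 4 n40441 = n39346 := d34_1 D40441 (iv D39346) (iv F181911)
theorem F186701 : act 6 n40441 = n39963 := d41_1 D40441 (iv D39963) (iv F181912)
theorem F186702 : act 7 n40441 = n39875 := d43_1 D40441 (iv D39875) (iv F181913)
theorem F186703 : act 8 n40441 = n39320 := d44_1 D40441 (iv D39320) (iv D38086) (iv F176409) D39315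
def n40442 : Q := act 4 n39316
theorem D40442 : act 4 n39316 = n40442 := rfl
theorem F186704 : act 0 n40442 = n39881 := d3_1 D40442 (iv D39881) (iv F181914)
theorem F186705 : act 1 n40442 = n40073 := d11_1 D40442 (iv D40073) (iv F181915)
theorem F186706 : act 3 n40442 = n39578 := d24_1 D40442 (iv D39578) F178072 (iv F177940) (iv F181916)
theorem F186707 : act 5 n40442 = n39317 := d30_2 D39316 D40442 (iv D39317) (iv D38084) (iv F176413)
theorem F186708 : act 7 n40442 = n39607 := d32_2 (iv F181917) D40442 (iv D39607)
theorem F186709 : act 9 n40442 = n39792 := d34_2 (iv F181918) D40442 (iv D39792)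
def n40443 : Q := act 9 n39318
theorem D40443 : act 9 n39318 = n40443 := rfl
theorem F186710 : act 0 n40443 = n39972 := d8_1 D40443 (iv D39972) (iv F181926)
theorem F186711 : act 2 n40443 = n39320 := d23_1 D40443 (iv D39320) (iv F181927)
theorem F186712 : act 4 n40443 = n39380 := d34_1 D40443 (iv D39380) (iv F181928)
theorem F186713 : act 6 n40443 = n40050 := d41_1 D40443 (iv D40050) (iv F181929)
def n40444 : Q := act 4 n39319
theorem D40444 : act 4 n39319 = n40444 := rfl
theorem F186714 : act 0 n40444 = n39974 := d3_1 D40444 (iv D39974) (iv F181930)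
theorem F186715 : act 1 n40444 = n40088 := d11_1 D40444 (iv D40088) (iv F181931)
theorem F186716 : act 5 n40444 = n39390 := d30_2 D39319 D40444 (iv D39390) (iv D38156) (iv F176430)
theorem F186717 : act 8 n40444 = n39321 := d33_2 (iv F181932) D40444 (iv D39321)
def n40445 : Q := act 9 n39319
theorem D40445 : act 9 n39319 = n40445 := rfl
theorem F186718 : act 0 n40445 = n39976 := d8_1 D40445 (iv D39976) (iv F181930)
theorem F186719 : act 1 n40445 = n40090 := d16_1 D40445 (iv D40090) (iv F181931)
theorem F186720 : act 5 n40445 = n39320 := d38_1 D40445 (iv D39320) D39319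
def n40446 : Q := act 3 n39321
theorem D40446 : act 3 n39321 = n40446 := rfl
theorem F186721 : act 0 n40446 = n39977 := d2_1 D40446 (iv D39977) (iv F181937)
theorem F186722 : act 1 n40446 = n40091 := d10_1 D40446 (iv D40091) (iv F181938)
theorem F186723 : act 5 n40446 = n39323 := d25_2 (iv F181939) D40446 (iv D39323)
def n40447 : Q := act 9 n39321
theorem D40447 : act 9 n39321 = n40447 := rfl
theorem F186724 : act 0 n40447 = n39979 := d8_1 D40447 (iv D39979) (iv F181937)
theorem F186725 : act 1 n40447 = n40093 := d16_1 D40447 (iv D40093) (iv F181938)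
theorem F186726 : act 2 n40447 = n39393 := d23_1 D40447 F186131 F186127
theorem F186727 : act 4 n40447 = n39322 := d34_1 D40447 (iv D39322) D39321
theorem F186728 : act 5 n40447 = n39324 := d38_1 D40447 (iv D39324) (iv F181939)
theorem F186729 : act 7 n40447 = n39817 := d43_1 D40447 (iv F186313) F186312
def n40448 : Q := act 8 n39322
theorem D40448 : act 8 n39322 = n40448 := rfl
theorem F186730 : act 0 n40448 = n39981 := d7_1 D40448 (iv D39981) (iv F181940)
theorem F186731 : act 1 n40448 = n40096 := d15_1 D40448 (iv D40096) (iv F181941)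
theorem F186732 : act 2 n40448 = n39660 := d22_1 D40448 F183530 (iv F181942)
theorem F186733 : act 3 n40448 = n39794 := d28_1 D40448 F184081 (iv F181943)
theorem F186734 : act 5 n40448 = n39793 := d37_1 D40448 (iv D39793) (iv D38635) (iv F176441) (iv F181944)
theorem F186735 : act 7 n40448 = n39815 := d42_1 D40448 F184132 (iv F181945)
def n40449 : Q := act 2 n39323
theorem D40449 : act 2 n39323 = n40449 := rfl
theorem F186736 : act 0 n40449 = n39982 := d1_1 D40449 (iv D39982) (iv F181946)
theorem F186737 : act 3 n40449 = n39389 := d17_2 D39323 D40449 F182294 (iv F181343) F181342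
theorem F186738 : act 4 n40449 = n39325 := d18_2 (iv F181948) D40449 F181959
theorem F186739 : act 6 n40449 = n39401 := d20_2 (iv F181949) D40449 (iv D39401)
theorem F186740 : act 7 n40449 = n39868 := d21_2 F186323 D40449 F186326
theorem F186741 : act 8 n40449 = n39324 := d22_2 (iv F181950) D40449 F181953
theorem F186742 : act 1 n40101 = n40449 := d15_3 F186741 F181952 D40101
theorem F186743 : act 9 n39388 = n40449 := d44_0 F186741 (iv D39324) F176445 D38166 (iv F182292)
def n40450 : Q := act 9 n39323
theorem D40450 : act 9 n39323 = n40450 := rfl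
theorem F186744 : act 0 n40450 = n39983 := d8_1 D40450 (iv D39983) (iv F181946)
theorem F186745 : act 1 n40450 = n40100 := d16_1 D40450 (iv D40100) (iv F181947)
theorem F186746 : act 2 n40450 = n39388 := d23_1 D40450 F186743 (iv D40449)
theorem F186747 : act 3 n40450 = n39324 := d29_1 D40450 (iv D39324) D39323
theorem F186748 : act 4 n40450 = n39326 := d34_1 D40450 (iv D39326) (iv F181948)
theorem F186749 : act 6 n40450 = n39402 := d41_1 D40450 (iv D39402) (iv F181949)
theorem F186750 : act 7 n40450 = n39869 := d43_1 D40450 (iv F186325) F186323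
theorem F186751 : act 8 n40450 = n39389 := d44_1 D40450 (iv D39389) (iv F181345) F181346 (iv F181950)
def n40451 : Q := act 5 n39327
theorem D40451 : act 5 n39327 = n40451 := rfl
theorem F186752 : act 0 n40451 = n39330 := d4_1 D40451 (iv D39330) (iv F181973)
theorem F186753 : act 1 n40451 = n39984 := d12_1 D40451 (iv D39984) (iv F181974)
theorem F186754 : act 2 n40451 = n39591 := d19_1 D40451 F183267 (iv F181975)
theorem F186755 : act 4 n40451 = n39733 := d30_1 D40451 F183876 F178859 (iv F176483) (iv F181976)
theorem F186756 : act 6 n40451 = n39584 := d35_2 D39327 D40451 F183243 F178095 (iv F176477)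
theorem F186757 : act 9 n40451 = n39360 := d38_2 (iv F181977) D40451 (iv D39360)
def n40452 : Q := act 5 n39329
theorem D40452 : act 5 n39329 = n40452 := rfl
theorem F186758 : act 1 n40452 = n39335 := d12_1 D40452 (iv D39335) (iv F181985)
theorem F186759 : act 2 n40452 = n40016 := d19_1 D40452 F184777 (iv F181986)
theorem F186760 : act 3 n40452 = n39330 := d25_1 D40452 (iv D39330) (iv F181987)
theorem F186761 : act 6 n40452 = n39909 := d35_2 D39329 D40452 (iv D39909) F179498 (iv F176496)
theorem F186762 : act 9 n40452 = n39365 := d38_2 (iv F181989) D40452 (iv D39365)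
def n40453 : Q := act 8 n39330
theorem D40453 : act 8 n39330 = n40453 := rfl
theorem F186763 : act 1 n40453 = n39337 := d15_1 D40453 (iv D39337) (iv F181990)
theorem F186764 : act 2 n40453 = n40131 := d22_1 D40453 (iv D40131) (iv F181991)
theorem F186765 : act 6 n40453 = n40127 := d40_1 D40453 (iv D40127) (iv F181992)
def n40454 : Q := act 5 n39331
theorem D40454 : act 5 n39331 = n40454 := rfl
theorem F186766 : act 1 n40454 = n39338 := d12_1 D40454 (iv D39338) (iv F181994)
theorem F186767 : act 2 n40454 = n40132 := d19_1 D40454 (iv D40132) (iv F181995)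
def n40455 : Q := act 6 n39332
theorem D40455 : act 6 n39332 = n40455 := rfl
theorem F186768 : act 0 n40455 = n39463 := d5_1 D40455 (iv D39463) (iv F181998)
theorem F186769 : act 1 n40455 = n39340 := d13_1 D40455 (iv D39340) (iv F181999)
theorem F186770 : act 2 n40455 = n40120 := d20_1 D40455 F185019 (iv F182000)
theorem F186771 : act 3 n40455 = n39461 := d26_1 D40455 (iv D39461) (iv F182001)
theorem F186772 : act 4 n40455 = n40455 := d31_1 D40455 (iv D40455) F182002
theorem F186773 : act 7 n40455 = n39509 := d39_2 (iv F182003) D40455 (iv D39509) (iv D38323) (iv F176511)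
theorem F186774 : act 8 n40455 = n39714 := d40_2 (iv F182004) D40455 (iv D39714)
theorem F186775 : act 9 n40455 = n39654 := d41_2 (iv F182005) D40455 F183511
def n40456 : Q := act 4 n39333
theorem D40456 : act 4 n39333 = n40456 := rfl
theorem F186776 : act 1 n40456 = n39343 := d11_1 D40456 (iv D39343) (iv F182006)
theorem F186777 : act 2 n40456 = n40188 := d18_1 D40456 (iv D40188) (iv F182007)
theorem F186778 : act 3 n40456 = n39856 := d24_1 D40456 F184234 F179231 (iv F177089) (iv F182008)
theorem F186779 : act 6 n40456 = n40456 := d31_2 F182009 D40456 (iv D40456)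
theorem F186780 : act 7 n40456 = n39855 := d32_2 (iv F182010) D40456 F184232
theorem F186781 : act 9 n40456 = n39854 := d34_2 F182011 D40456 F184229
def n40457 : Q := act 4 n39335
theorem D40457 : act 4 n39335 = n40457 := rfl
theorem F186782 : act 0 n40457 = n39987 := d3_1 D40457 (iv D39987) (iv F182020)
theorem F186783 : act 2 n40457 = n39615 := d18_1 D40457 (iv D39615) (iv F182021)
theorem F186784 : act 3 n40457 = n39846 := d24_1 D40457 (iv F185260) F185259 F181897 (iv F182022)
theorem F186785 : act 5 n40457 = n39415 := d30_2 D39335 D40457 (iv D39415) (iv D38208) (iv F176528)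
theorem F186786 : act 6 n40457 = n39914 := d31_2 (iv F182023) D40457 (iv D39914)
theorem F186787 : act 9 n40457 = n39372 := d34_2 (iv F182024) D40457 (iv D39372)
def n40458 : Q := act 8 n39335
theorem D40458 : act 8 n39335 = n40458 := rfl
theorem F186788 : act 0 n40458 = n39988 := d7_1 D40458 (iv D39988) (iv F182020)
theorem F186789 : act 2 n40458 = n39616 := d22_1 D40458 (iv D39616) (iv F182021)
theorem F186790 : act 3 n40458 = n39337 := d28_1 D40458 (iv D39337) (iv F182022)
theorem F186791 : act 6 n40458 = n39912 := d40_1 D40458 F184466 (iv F182023)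
def n40459 : Q := act 5 n39336
theorem D40459 : act 5 n39336 = n40459 := rfl
theorem F186792 : act 0 n40459 = n39882 := d4_1 D40459 (iv D39882) (iv F182025)
theorem F186793 : act 2 n40459 = n39617 := d19_1 D40459 (iv D39617) (iv F182026)
theorem F186794 : act 3 n40459 = n39338 := d25_1 D40459 (iv D39338) (iv F182027)
theorem F186795 : act 4 n40459 = n39906 := d30_1 D40459 (iv D39906) F179484 F177105 (iv F182028)
theorem F186796 : act 6 n40459 = n39718 := d35_2 (iv F182029) D40459 (iv D39718) F178812 (iv F176534)
theorem F186797 : act 7 n40459 = n39984 := d36_2 (iv F182030) D40459 (iv D39984)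
theorem F186798 : act 9 n40459 = n39934 := d38_2 F182031 D40459 (iv D39934)
def n40460 : Q := act 5 n39337
theorem D40460 : act 5 n39337 = n40460 := rfl
theorem F186799 : act 0 n40460 = n39989 := d4_1 D40460 (iv D39989) (iv F182032)
theorem F186800 : act 2 n40460 = n39345 := d19_1 D40460 (iv D39345) (iv F182033)
theorem F186801 : act 8 n40460 = n39338 := d37_2 D39337 D40460 (iv D39338) (iv D38106) D38105
def n40461 : Q := act 9 n39337
theorem D40461 : act 9 n39337 = n40461 := rfl
theorem F186802 : act 0 n40461 = n39990 := d8_1 D40461 (iv D39990) (iv F182032)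
theorem F186803 : act 2 n40461 = n39346 := d23_1 D40461 (iv D39346) (iv F182033)
theorem F186804 : act 6 n40461 = n40133 := d41_1 D40461 (iv D40133) (iv F182034)
theorem F186805 : act 8 n40461 = n39380 := d44_1 D40461 (iv D39380) (iv D38146) (iv F176540) D39337
def n40462 : Q := act 4 n39338
theorem D40462 : act 4 n39338 = n40462 := rfl
theorem F186806 : act 0 n40462 = n39991 := d3_1 D40462 (iv D39991) (iv F182035)
theorem F186807 : act 2 n40462 = n39347 := d18_1 D40462 (iv D39347) (iv F182036)
theorem F186808 : act 5 n40462 = n39343 := d30_2 D39338 D40462 (iv D39343) (iv D38111) (iv F176543)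
def n40463 : Q := act 6 n39338
theorem D40463 : act 6 n39338 = n40463 := rfl
theorem F186809 : act 0 n40463 = n39992 := d5_1 D40463 (iv D39992) (iv F182035)
theorem F186810 : act 2 n40463 = n39348 := d20_1 D40463 (iv D39348) (iv F182036)
theorem F186811 : act 3 n40463 = n39718 := d26_1 D40463 (iv F186796) F186794
theorem F186812 : act 5 n40463 = n39340 := d35_1 D40463 (iv D39340) (iv D38107) (iv F176544) D39338
def n40464 : Q := act 9 n39338
theorem D40464 : act 9 n39338 = n40464 := rfl
theorem F186813 : act 0 n40464 = n39935 := d8_1 D40464 F184530 (iv F182035)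
theorem F186814 : act 2 n40464 = n39349 := d23_1 D40464 (iv D39349) (iv F182036)
theorem F186815 : act 3 n40464 = n39934 := d29_1 D40464 (iv F186798) F186794
theorem F186816 : act 5 n40464 = n39339 := d38_1 D40464 (iv D39339) D39338
theorem F186817 : act 7 n40464 = n40008 := d43_1 D40464 (iv F186372) F186371
def n40465 : Q := act 7 n39340
theorem D40465 : act 7 n39340 = n40465 := rfl
theorem F186818 : act 0 n40465 = n39449 := d6_1 D40465 F182656 (iv F182044)
theorem F186819 : act 1 n40465 = n39509 := d14_1 D40465 (iv F186773) F186769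
theorem F186820 : act 2 n40465 = n39350 := d21_1 D40465 (iv D39350) (iv F182045)
theorem F186821 : act 3 n40465 = n39434 := d27_1 D40465 F182558 (iv F182046)
theorem F186822 : act 4 n40465 = n40465 := d32_1 D40465 (iv D40465) F182047
theorem F186823 : act 6 n40465 = n39342 := d39_1 D40465 (iv D39342) (iv D38109) (iv F176549) D39340
theorem F186824 : act 8 n40465 = n39432 := d42_2 (iv F182048) D40465 F182545
theorem F186825 : act 9 n39642 = n40465 := d44_0 F186824 F182546 F178171 D38847 (iv F183474)
def n40466 : Q := act 9 n39340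
theorem D40466 : act 9 n39340 = n40466 := rfl
theorem F186826 : act 0 n40466 = n39919 := d8_1 D40466 F184488 (iv F182044)
theorem F186827 : act 1 n40466 = n39654 := d16_1 D40466 (iv F186775) F186769
theorem F186828 : act 2 n40466 = n39351 := d23_1 D40466 (iv D39351) (iv F182045)
theorem F186829 : act 3 n40466 = n39647 := d29_1 D40466 F183490 (iv F182046)
theorem F186830 : act 4 n40466 = n40466 := d34_1 D40466 (iv D40466) F182047
theorem F186831 : act 6 n40466 = n39341 := d41_1 D40466 (iv D39341) D39340
theorem F186832 : act 7 n40466 = n39642 := d43_1 D40466 F186825 (iv D40465)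
theorem F186833 : act 8 n40466 = n40004 := d44_1 D40466 (iv D40004) (iv F182815) F182816 (iv F182048)
def n40467 : Q := act 3 n39343
theorem D40467 : act 3 n39343 = n40467 := rfl
theorem F186834 : act 0 n40467 = n39993 := d2_1 D40467 (iv D39993) (iv F182065)
theorem F186835 : act 1 n40467 = n39856 := d10_1 D40467 (iv F186778) F186776
theorem F186836 : act 4 n40467 = n39416 := d24_2 D39343 D40467 (iv D39416) (iv D38210) (iv F176575)
theorem F186837 : act 6 n40467 = n40467 := d26_2 F182067 D40467 (iv D40467)
theorem F186838 : act 7 n40467 = n39624 := d27_2 F186386 D40467 (iv F186384)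
theorem F186839 : act 8 n40467 = n39606 := d28_2 F186690 D40467 (iv F186687)
theorem F186840 : act 2 n39571 = n40467 := d45_0 (iv D40467) (iv D39343) (iv D38111) F170013 F162726 (iv D33334) F146269 F137278 F106857 (iv D19005) (iv D14894) F53781 F44719 F35802 D7513 F35830 F28803 F23275 (iv F27893) F27894 D7293 F34739 F131416 (iv F29579) (iv D6179) (iv F29571) (iv F36801) F36798 F31194 F132541 (iv F132718) F33513 (iv F133061) F29737 F29735 (iv F36955) (iv F133508) (iv F52799) D14628 D18637 (iv F105561) (iv F135803) F135804 (iv F137665) (iv F146776) D33440 (iv F163047) (iv F169411) F169408 F163058 F155154 (iv F158763) F158764 F150309 (iv F158229) (iv F161255) (iv F168384) D37831 F174813 (iv F179929) (iv F184845) F184846 (iv F183184)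
theorem F186841 : act 9 n40467 = n39562 := d23_2 D39571 F186840 F183153
def n40468 : Q := act 9 n39343
theorem D40468 : act 9 n39343 = n40468 := rfl
theorem F186842 : act 0 n40468 = n39994 := d8_1 D40468 (iv D39994) (iv F182065)
theorem F186843 : act 1 n40468 = n39854 := d16_1 D40468 (iv F186781) F186776
theorem F186844 : act 2 n40468 = n39355 := d23_1 D40468 (iv D39355) (iv F182066)
theorem F186845 : act 3 n40468 = n39562 := d29_1 D40468 (iv F186841) (iv D40467)
theorem F186846 : act 4 n40468 = n39344 := d34_1 D40468 (iv D39344) D39343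
theorem F186847 : act 6 n40468 = n40468 := d41_1 D40468 (iv D40468) F182067
theorem F186848 : act 7 n40468 = n39623 := d43_1 D40468 (iv F186388) F186386
theorem F186849 : act 8 n40468 = n39799 := d44_1 D40468 (iv F186678) F186677 (iv F186691) F186690
def n40469 : Q := act 4 n39345
theorem D40469 : act 4 n39345 = n40469 := rfl
theorem F186850 : act 0 n40469 = n39995 := d3_1 D40469 (iv D39995) (iv F182076)
theorem F186851 : act 8 n40469 = n39347 := d33_2 (iv F182078) D40469 (iv D39347)
def n40470 : Q := act 6 n39345
theorem D40470 : act 6 n39345 = n40470 := rfl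
theorem F186852 : act 0 n40470 = n39996 := d5_1 D40470 (iv D39996) (iv F182076)
theorem F186853 : act 3 n40470 = n39626 := d26_1 D40470 (iv D39626) (iv F182077)
theorem F186854 : act 5 n40470 = n39756 := d35_1 D40470 F183960 F180003 (iv F176585) D39345
theorem F186855 : act 8 n40470 = n39348 := d40_2 (iv F182078) D40470 (iv D39348)
def n40471 : Q := act 9 n39345
theorem D40471 : act 9 n39345 = n40471 := rfl
theorem F186856 : act 0 n40471 = n39997 := d8_1 D40471 (iv D39997) (iv F182076)
theorem F186857 : act 3 n40471 = n39627 := d29_1 D40471 (iv D39627) (iv F182077)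
theorem F186858 : act 5 n40471 = n39346 := d38_1 D40471 (iv D39346) D39345
def n40472 : Q := act 3 n39347
theorem D40472 : act 3 n39347 = n40472 := rfl
theorem F186859 : act 0 n40472 = n39998 := d2_1 D40472 (iv D39998) (iv F182083)
theorem F186860 : act 4 n40472 = n39628 := d24_2 D39347 D40472 (iv D39628) (iv D38440) (iv F176587)
theorem F186861 : act 5 n40472 = n39354 := d25_2 (iv F182084) D40472 (iv D39354)
theorem F186862 : act 7 n40472 = n39678 := d27_2 F186404 D40472 F186405
def n40473 : Q := act 6 n39347
theorem D40473 : act 6 n39347 = n40473 := rfl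
theorem F186863 : act 0 n40473 = n39999 := d5_1 D40473 (iv D39999) (iv F182083)
theorem F186864 : act 4 n40473 = n39348 := d31_1 D40473 (iv D39348) D39347
theorem F186865 : act 5 n40473 = n40473 := d35_1 D40473 (iv D40473) F182084 F176623 (iv F182084)
def n40474 : Q := act 9 n39347
theorem D40474 : act 9 n39347 = n40474 := rfl
theorem F186866 : act 0 n40474 = n40000 := d8_1 D40474 (iv D40000) (iv F182083)
theorem F186867 : act 4 n40474 = n39349 := d34_1 D40474 (iv D39349) D39347
theorem F186868 : act 5 n40474 = n39355 := d38_1 D40474 (iv D39355) (iv F182084)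
def n40475 : Q := act 7 n39348
theorem D40475 : act 7 n39348 = n40475 := rfl
theorem F186869 : act 0 n40475 = n40001 := d6_1 D40475 (iv D40001) (iv F182085)
theorem F186870 : act 3 n40475 = n39631 := d27_1 D40475 (iv D39631) (iv F182086)
theorem F186871 : act 5 n40475 = n39350 := d36_1 D40475 (iv D39350) (iv F182087)
def n40476 : Q := act 9 n39348
theorem D40476 : act 9 n39348 = n40476 := rfl
theorem F186872 : act 0 n40476 = n40002 := d8_1 D40476 (iv D40002) (iv F182085)
theorem F186873 : act 3 n40476 = n39632 := d29_1 D40476 (iv D39632) (iv F182086)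
theorem F186874 : act 5 n40476 = n39351 := d38_1 D40476 (iv D39351) (iv F182087)
theorem F186875 : act 6 n40476 = n39349 := d41_1 D40476 (iv D39349) D39348
def n40477 : Q := act 8 n39349
theorem D40477 : act 8 n39349 = n40477 := rfl
theorem F186876 : act 0 n40477 = n40003 := d7_1 D40477 (iv D40003) (iv F182088)
theorem F186877 : act 3 n40477 = n39633 := d28_1 D40477 (iv D39633) (iv F182089)
theorem F186878 : act 5 n40477 = n39398 := d37_1 D40477 (iv D39398) F176816 (iv F176592) (iv F182090)
def n40478 : Q := act 9 n39350
theorem D40478 : act 9 n39350 = n40478 := rfl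
theorem F186879 : act 0 n40478 = n40004 := d8_1 D40478 (iv D40004) (iv F182091)
theorem F186880 : act 1 n40478 = n39922 := d16_1 D40478 F185462 F185456
theorem F186881 : act 2 n40478 = n39642 := d23_1 D40478 F186825 F186820
theorem F186882 : act 3 n40478 = n39634 := d29_1 D40478 (iv D39634) (iv F182092)
theorem F186883 : act 4 n40478 = n40478 := d34_1 D40478 (iv D40478) F182093
theorem F186884 : act 6 n40478 = n39353 := d41_1 D40478 (iv D39353) (iv F182094)
theorem F186885 : act 7 n40478 = n39351 := d43_1 D40478 (iv D39351) D39350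
theorem F186886 : act 8 n40478 = n39919 := d44_1 D40478 F184488 (iv F182690) F182691 (iv F182095)
def n40479 : Q := act 8 n39351
theorem D40479 : act 8 n39351 = n40479 := rfl
theorem F186887 : act 0 n40479 = n39642 := d7_1 D40479 F183474 (iv F182096)
theorem F186888 : act 1 n40479 = n39441 := d15_1 D40479 (iv F185470) F185464
theorem F186889 : act 2 n40479 = n40004 := d22_1 D40479 (iv F186833) F186828
theorem F186890 : act 3 n40479 = n39440 := d28_1 D40479 F182599 (iv F182097)
theorem F186891 : act 4 n40479 = n40479 := d33_1 D40479 (iv D40479) F182098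
theorem F186892 : act 6 n40479 = n39352 := d40_1 D40479 (iv D39352) (iv F182099)
theorem F186893 : act 7 n40479 = n39919 := d42_1 D40479 (iv F186886) F186885
theorem F186894 : act 9 n40479 = n39449 := d44_2 D39351 D40479 F182657 F177682 (iv F176596)
def n40480 : Q := act 2 n39354
theorem D40480 : act 2 n39354 = n40480 := rfl
theorem F186895 : act 0 n40480 = n40005 := d1_1 D40480 (iv D40005) (iv F182116)
theorem F186896 : act 3 n40480 = n39571 := d17_2 D39354 D40480 F186840 (iv D40467) F182066
theorem F186897 : act 4 n40480 = n39357 := d18_2 (iv F182117) D40480 (iv D39357)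
theorem F186898 : act 6 n40480 = n40480 := d20_2 F182118 D40480 (iv D40480)
theorem F186899 : act 7 n40480 = n39420 := d21_2 (iv F182119) D40480 F182461
theorem F186900 : act 8 n40480 = n39414 := d22_2 (iv F182120) D40480 F182423
theorem F186901 : act 9 n39570 = n40480 := d43_0 F186899 F182465 (iv F183182)
def n40481 : Q := act 9 n39354
theorem D40481 : act 9 n39354 = n40481 := rfl
theorem F186902 : act 0 n40481 = n40006 := d8_1 D40481 (iv D40006) (iv F182116)
theorem F186903 : act 2 n40481 = n39570 := d23_1 D40481 F186901 (iv D40480)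
theorem F186904 : act 3 n40481 = n39355 := d29_1 D40481 (iv D39355) D39354
theorem F186905 : act 4 n40481 = n39358 := d34_1 D40481 (iv D39358) (iv F182117)
theorem F186906 : act 6 n40481 = n40481 := d41_1 D40481 (iv D40481) F182118
theorem F186907 : act 7 n40481 = n39635 := d43_1 D40481 F183450 (iv F182119)
theorem F186908 : act 8 n39421 = n40481 := d42_0 F186907 F183449 (iv F182469)
def n40482 : Q := act 8 n39355
theorem D40482 : act 8 n39355 = n40482 := rfl
theorem F186909 : act 0 n40482 = n40007 := d7_1 D40482 (iv D40007) (iv F182121)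
theorem F186910 : act 2 n40482 = n39799 := d22_1 D40482 (iv F186849) F186844
theorem F186911 : act 3 n40482 = n39421 := d28_1 D40482 F186908 F186904
theorem F186912 : act 4 n40482 = n39356 := d33_1 D40482 (iv D39356) (iv F182122)
theorem F186913 : act 6 n40482 = n40482 := d40_1 D40482 (iv D40482) F182123
theorem F186914 : act 7 n40482 = n39830 := d42_1 D40482 (iv F186439) F186438
theorem F186915 : act 9 n40482 = n39863 := d44_2 D39355 D40482 (iv D39863) (iv F181925) F181924
def n40483 : Q := act 5 n39359
theorem D40483 : act 5 n39359 = n40483 := rfl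
theorem F186916 : act 0 n40483 = n39365 := d4_1 D40483 (iv D39365) (iv F182145)
theorem F186917 : act 1 n40483 = n40008 := d12_1 D40483 (iv D40008) (iv F182146)
theorem F186918 : act 3 n40483 = n39360 := d25_1 D40483 (iv D39360) (iv F182147)
theorem F186919 : act 4 n40483 = n39838 := d30_1 D40483 F184186 F179222 (iv F177132) (iv F182148)
theorem F186920 : act 6 n40483 = n39580 := d35_2 D39359 D40483 (iv D39580) F178077 (iv F176651)
def n40484 : Q := act 8 n39360
theorem D40484 : act 8 n39360 = n40484 := rfl
theorem F186921 : act 0 n40484 = n39367 := d7_1 D40484 (iv D39367) (iv F182149)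
theorem F186922 : act 1 n40484 = n40009 := d15_1 D40484 (iv D40009) (iv F182150)
theorem F186923 : act 2 n40484 = n39586 := d22_1 D40484 F183251 (iv F182151)
theorem F186924 : act 4 n40484 = n39730 := d33_1 D40484 F183870 (iv F182152)
theorem F186925 : act 6 n40484 = n39582 := d40_1 D40484 F183236 (iv F182153)
def n40485 : Q := act 5 n39361
theorem D40485 : act 5 n39361 = n40485 := rfl
theorem F186926 : act 0 n40485 = n39368 := d4_1 D40485 (iv D39368) (iv F182154)
theorem F186927 : act 1 n40485 = n40010 := d12_1 D40485 (iv D40010) (iv F182155)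
theorem F186928 : act 2 n40485 = n39544 := d19_1 D40485 F183069 (iv F182156)
theorem F186929 : act 4 n40485 = n40044 := d30_1 D40485 (iv D40044) F179910 (iv F176666) (iv F182157)
theorem F186930 : act 6 n40485 = n39537 := d35_2 (iv F182158) D40485 (iv D39537) F177886 (iv F176660)
def n40486 : Q := act 5 n39363
theorem D40486 : act 5 n39363 = n40486 := rfl
theorem F186931 : act 1 n40486 = n39636 := d12_1 D40486 (iv D39636) (iv F182167)
theorem F186932 : act 2 n40486 = n39365 := d19_1 D40486 (iv D39365) (iv F182168)
theorem F186933 : act 3 n40486 = n39945 := d25_1 D40486 F184564 (iv F182169)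
theorem F186934 : act 6 n40486 = n39941 := d35_2 D39363 D40486 (iv D39941) F179612 (iv F176679)
theorem F186935 : act 9 n40486 = n40016 := d38_2 (iv F182171) D40486 F184777
def n40487 : Q := act 8 n39363
theorem D40487 : act 8 n39363 = n40487 := rfl
theorem F186936 : act 0 n40487 = n40097 := d7_1 D40487 (iv F186539) F186533
theorem F186937 : act 1 n40487 = n39637 := d15_1 D40487 (iv D39637) (iv F182167)
theorem F186938 : act 2 n40487 = n39366 := d22_1 D40487 (iv D39366) (iv F182168)
theorem F186939 : act 3 n40487 = n39925 := d28_1 D40487 F184503 (iv F182169)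
theorem F186940 : act 4 n40487 = n39418 := d33_1 D40487 (iv D39418) (iv F182170)
theorem F186941 : act 6 n40487 = n39364 := d40_1 D40487 (iv D39364) D39363
theorem F186942 : act 7 n40487 = n39547 := d42_1 D40487 (iv F186468) F186467
theorem F186943 : act 9 n40487 = n39546 := d44_2 (iv F182171) D40487 F183075 (iv F183013) F183012
def n40488 : Q := act 8 n39365
theorem D40488 : act 8 n39365 = n40488 := rfl
theorem F186944 : act 1 n40488 = n39373 := d15_1 D40488 (iv D39373) (iv F182180)
theorem F186945 : act 3 n40488 = n39367 := d28_1 D40488 (iv D39367) (iv F182181)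
theorem F186946 : act 6 n40488 = n40124 := d40_1 D40488 F185030 (iv F182182)
def n40489 : Q := act 5 n39366
theorem D40489 : act 5 n39366 = n40489 := rfl
theorem F186947 : act 1 n40489 = n39374 := d12_1 D40489 (iv D39374) (iv F182183)
theorem F186948 : act 3 n40489 = n39368 := d25_1 D40489 (iv D39368) (iv F182184)
theorem F186949 : act 6 n40489 = n40079 := d35_2 (iv F182186) D40489 (iv D40079) F180033 (iv F176695)
def n40490 : Q := act 5 n39367
theorem D40490 : act 5 n39367 = n40490 := rfl
theorem F186950 : act 1 n40490 = n39379 := d12_1 D40490 (iv D39379) (iv F182187)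
theorem F186951 : act 2 n40490 = n40089 := d19_1 D40490 F184949 (iv F182188)
theorem F186952 : act 6 n40490 = n40081 := d35_2 (iv F182189) D40490 (iv D40081) F180038 D38981
theorem F186953 : act 8 n40490 = n39368 := d37_2 D39367 D40490 (iv D39368) (iv D38136) D38135
def n40491 : Q := act 9 n39367
theorem D40491 : act 9 n39367 = n40491 := rfl
theorem F186954 : act 1 n40491 = n39380 := d16_1 D40491 (iv D39380) (iv F182187)
theorem F186955 : act 2 n40491 = n40129 := d23_1 D40491 (iv D40129) (iv F182188)
theorem F186956 : act 6 n40491 = n40126 := d41_1 D40491 (iv D40126) (iv F182189)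
def n40492 : Q := act 4 n39368
theorem D40492 : act 4 n39368 = n40492 := rfl
theorem F186957 : act 0 n40492 = n40044 := d3_1 D40492 (iv F186929) F186926
theorem F186958 : act 1 n40492 = n39381 := d11_1 D40492 (iv D39381) (iv F182190)
theorem F186959 : act 2 n40492 = n40092 := d18_1 D40492 F184953 (iv F182191)
theorem F186960 : act 5 n40492 = n39370 := d30_2 D39368 D40492 (iv D39370) (iv D38138) (iv F176702)
theorem F186961 : act 6 n40492 = n40083 := d31_2 (iv F182192) D40492 (iv D40083)
def n40493 : Q := act 9 n39368
theorem D40493 : act 9 n39368 = n40493 := rfl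
theorem F186962 : act 1 n40493 = n39383 := d16_1 D40493 (iv D39383) (iv F182190)
theorem F186963 : act 2 n40493 = n40095 := d23_1 D40493 (iv D40095) (iv F182191)
theorem F186964 : act 5 n40493 = n39369 := d38_1 D40493 (iv D39369) D39368
theorem F186965 : act 6 n40493 = n40084 := d41_1 D40493 (iv D40084) (iv F182192)
def n40494 : Q := act 9 n39370
theorem D40494 : act 9 n39370 = n40494 := rfl
theorem F186966 : act 0 n40494 = n39845 := d8_1 D40494 F184200 (iv F182197)
theorem F186967 : act 1 n40494 = n39389 := d16_1 D40494 (iv D39389) (iv F182198)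
theorem F186968 : act 2 n40494 = n40185 := d23_1 D40494 (iv D40185) (iv F182199)
theorem F186969 : act 3 n40494 = n40101 := d29_1 D40494 (iv F186159) F186156
theorem F186970 : act 4 n40494 = n39371 := d34_1 D40494 (iv D39371) D39370
theorem F186971 : act 6 n40494 = n39403 := d41_1 D40494 (iv D39403) (iv F182200)
theorem F186972 : act 8 n40494 = n40100 := d44_1 D40494 (iv D40100) (iv F181302) (iv F181303) (iv F182201)
def n40495 : Q := act 8 n39372
theorem D40495 : act 8 n39372 = n40495 := rfl
theorem F186973 : act 0 n40495 = n40017 := d7_1 D40495 (iv D40017) (iv F182209)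
theorem F186974 : act 2 n40495 = n39648 := d22_1 D40495 (iv D39648) (iv F182210)
theorem F186975 : act 4 n40495 = n39373 := d33_1 D40495 (iv D39373) D39372
def n40496 : Q := act 5 n39373
theorem D40496 : act 5 n39373 = n40496 := rfl
theorem F186976 : act 0 n40496 = n40018 := d4_1 D40496 (iv D40018) (iv F182212)
theorem F186977 : act 2 n40496 = n39649 := d19_1 D40496 (iv D39649) (iv F182213)
theorem F186978 : act 3 n40496 = n39379 := d25_1 D40496 (iv D39379) (iv F182214)
theorem F186979 : act 8 n40496 = n39374 := d37_2 D39373 D40496 (iv D39374) (iv D38141) D38140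
def n40497 : Q := act 9 n39373
theorem D40497 : act 9 n39373 = n40497 := rfl
theorem F186980 : act 0 n40497 = n40019 := d8_1 D40497 (iv D40019) (iv F182212)
theorem F186981 : act 2 n40497 = n39650 := d23_1 D40497 (iv D39650) (iv F182213)
theorem F186982 : act 3 n40497 = n39380 := d29_1 D40497 (iv D39380) (iv F182214)
def n40498 : Q := act 4 n39374
theorem D40498 : act 4 n39374 = n40498 := rfl
theorem F186983 : act 0 n40498 = n40020 := d3_1 D40498 (iv D40020) (iv F182215)
theorem F186984 : act 2 n40498 = n39651 := d18_1 D40498 (iv D39651) (iv F182216)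
theorem F186985 : act 5 n40498 = n39421 := d30_2 D39374 D40498 (iv D39421) (iv D38220) (iv F176725)
theorem F186986 : act 7 n40498 = n39837 := d32_2 F186531 D40498 (iv F186530)
def n40499 : Q := act 6 n39374
theorem D40499 : act 6 n39374 = n40499 := rfl
theorem F186987 : act 0 n40499 = n40021 := d5_1 D40499 (iv D40021) (iv F182215)
theorem F186988 : act 1 n40499 = n40079 := d13_1 D40499 (iv F186949) F186947
theorem F186989 : act 2 n40499 = n39652 := d20_1 D40499 (iv D39652) (iv F182216)
theorem F186990 : act 3 n40499 = n39382 := d26_1 D40499 (iv D39382) (iv F182217)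
theorem F186991 : act 5 n40499 = n39376 := d35_1 D40499 (iv D39376) (iv D38142) (iv F176726) D39374
def n40500 : Q := act 9 n39374
theorem D40500 : act 9 n39374 = n40500 := rfl
theorem F186992 : act 0 n40500 = n39937 := d8_1 D40500 F184537 (iv F182215)
theorem F186993 : act 2 n40500 = n39653 := d23_1 D40500 (iv D39653) (iv F182216)
theorem F186994 : act 3 n40500 = n39383 := d29_1 D40500 (iv D39383) (iv F182217)
theorem F186995 : act 5 n40500 = n39375 := d38_1 D40500 (iv D39375) D39374
theorem F186996 : act 7 n40500 = n40010 := d43_1 D40500 (iv F186532) F186531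
def n40501 : Q := act 7 n39376
theorem D40501 : act 7 n39376 = n40501 := rfl
theorem F186997 : act 0 n40501 = n40022 := d6_1 D40501 (iv D40022) (iv F182225)
theorem F186998 : act 1 n40501 = n39768 := d14_1 D40501 F183994 (iv F182226)
theorem F186999 : act 2 n40501 = n39654 := d21_1 D40501 (iv D39654) (iv F182227)
theorem F187000 : act 3 n40501 = n39384 := d27_1 D40501 (iv D39384) (iv F182228)
theorem F187001 : act 4 n40501 = n40501 := d32_1 D40501 (iv D40501) F182229
theorem F187002 : act 6 n40501 = n39378 := d39_1 D40501 (iv D39378) (iv D38144) (iv F176732) D39376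
theorem F187003 : act 8 n40501 = n39765 := d42_2 (iv F182230) D40501 F183982
theorem F187004 : act 9 n40120 = n40501 := d44_0 F187003 F183983 F180021 D38971 D40120
def n40502 : Q := act 9 n39376
theorem D40502 : act 9 n39376 = n40502 := rfl
theorem F187005 : act 0 n40502 = n39511 := d8_1 D40502 F182944 (iv F182225)
theorem F187006 : act 1 n40502 = n40080 := d16_1 D40502 (iv D40080) (iv F182226)
theorem F187007 : act 2 n40502 = n39509 := d23_1 D40502 F182934 (iv F182227)
theorem F187008 : act 3 n40502 = n39385 := d29_1 D40502 (iv D39385) (iv F182228)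
theorem F187009 : act 4 n40502 = n40502 := d34_1 D40502 (iv D40502) F182229
theorem F187010 : act 6 n40502 = n39377 := d41_1 D40502 (iv D39377) D39376
theorem F187011 : act 7 n40502 = n40120 := d43_1 D40502 F187004 (iv D40501)
theorem F187012 : act 8 n40502 = n40119 := d44_1 D40502 (iv D40119) (iv F184410) F184411 (iv F182230)
def n40503 : Q := act 4 n39379
theorem D40503 : act 4 n39379 = n40503 := rfl
theorem F187013 : act 0 n40503 = n40023 := d3_1 D40503 (iv D40023) (iv F182247)
theorem F187014 : act 2 n40503 = n39390 := d18_1 D40503 (iv D39390) (iv F182248)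
theorem F187015 : act 8 n40503 = n39381 := d33_2 (iv F182249) D40503 (iv D39381)
def n40504 : Q := act 6 n39379
theorem D40504 : act 6 n39379 = n40504 := rfl
theorem F187016 : act 0 n40504 = n40024 := d5_1 D40504 (iv D40024) (iv F182247)
theorem F187017 : act 1 n40504 = n40081 := d13_1 D40504 (iv F186952) F186950
theorem F187018 : act 2 n40504 = n39391 := d20_1 D40504 (iv D39391) (iv F182248)
theorem F187019 : act 5 n40504 = n40076 := d35_1 D40504 F184922 (iv F180307) F180308 D39379
theorem F187020 : act 8 n40504 = n39382 := d40_2 (iv F182249) D40504 (iv D39382)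
def n40505 : Q := act 9 n39379
theorem D40505 : act 9 n39379 = n40505 := rfl
theorem F187021 : act 0 n40505 = n40025 := d8_1 D40505 (iv D40025) (iv F182247)
theorem F187022 : act 2 n40505 = n39392 := d23_1 D40505 (iv D39392) (iv F182248)
theorem F187023 : act 5 n40505 = n39380 := d38_1 D40505 (iv D39380) D39379
def n40506 : Q := act 3 n39381
theorem D40506 : act 3 n39381 = n40506 := rfl
theorem F187024 : act 0 n40506 = n40026 := d2_1 D40506 (iv D40026) (iv F182252)
theorem F187025 : act 5 n40506 = n39388 := d25_2 (iv F182254) D40506 (iv D39388)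
def n40507 : Q := act 6 n39381
theorem D40507 : act 6 n39381 = n40507 := rfl
theorem F187026 : act 0 n40507 = n40027 := d5_1 D40507 (iv D40027) (iv F182252)
theorem F187027 : act 1 n40507 = n40083 := d13_1 D40507 (iv F186961) F186958
theorem F187028 : act 2 n40507 = n39394 := d20_1 D40507 (iv D39394) (iv F182253)
theorem F187029 : act 4 n40507 = n39382 := d31_1 D40507 (iv D39382) D39381
theorem F187030 : act 5 n40507 = n39405 := d35_1 D40507 (iv D39405) F176886 (iv F176798) (iv F182254)
def n40508 : Q := act 9 n39381
theorem D40508 : act 9 n39381 = n40508 := rfl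
theorem F187031 : act 0 n40508 = n40028 := d8_1 D40508 (iv D40028) (iv F182252)
theorem F187032 : act 2 n40508 = n39395 := d23_1 D40508 (iv D39395) (iv F182253)
theorem F187033 : act 4 n40508 = n39383 := d34_1 D40508 (iv D39383) D39381
theorem F187034 : act 5 n40508 = n39389 := d38_1 D40508 (iv D39389) (iv F182254)
def n40509 : Q := act 7 n39382
theorem D40509 : act 7 n39382 = n40509 := rfl
theorem F187035 : act 0 n40509 = n40029 := d6_1 D40509 (iv D40029) (iv F182255)
theorem F187036 : act 1 n40509 = n39770 := d14_1 D40509 F183999 (iv F182256)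
theorem F187037 : act 2 n40509 = n39396 := d21_1 D40509 (iv D39396) (iv F182257)
theorem F187038 : act 5 n40509 = n39384 := d36_1 D40509 (iv D39384) (iv F182258)
def n40510 : Q := act 9 n39382
theorem D40510 : act 9 n39382 = n40510 := rfl
theorem F187039 : act 0 n40510 = n39636 := d8_1 D40510 F183453 (iv F182255)
theorem F187040 : act 1 n40510 = n40084 := d16_1 D40510 (iv D40084) (iv F182256)
theorem F187041 : act 2 n40510 = n39397 := d23_1 D40510 (iv D39397) (iv F182257)
theorem F187042 : act 5 n40510 = n39385 := d38_1 D40510 (iv D39385) (iv F182258)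
theorem F187043 : act 6 n40510 = n39383 := d41_1 D40510 (iv D39383) D39382
def n40511 : Q := act 8 n39383
theorem D40511 : act 8 n39383 = n40511 := rfl
theorem F187044 : act 0 n40511 = n40030 := d7_1 D40511 (iv D40030) (iv F182259)
theorem F187045 : act 2 n40511 = n39398 := d22_1 D40511 (iv D39398) (iv F182260)
def n40512 : Q := act 9 n39384
theorem D40512 : act 9 n39384 = n40512 := rfl
theorem F187046 : act 0 n40512 = n39572 := d8_1 D40512 F183191 (iv F182262)
theorem F187047 : act 1 n40512 = n39771 := d16_1 D40512 (iv D39771) (iv F182263)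
theorem F187048 : act 2 n40512 = n39399 := d23_1 D40512 (iv D39399) (iv F182264)
theorem F187049 : act 3 n40512 = n40120 := d29_1 D40512 F187004 F187000
theorem F187050 : act 4 n40512 = n39407 := d34_1 D40512 (iv D39407) (iv F182265)
theorem F187051 : act 6 n40512 = n39387 := d41_1 D40512 (iv D39387) (iv F182266)
theorem F187052 : act 7 n40512 = n39385 := d43_1 D40512 (iv D39385) D39384
theorem F187053 : act 8 n40512 = n39724 := d44_1 D40512 F183854 (iv F181075) F181076 (iv F182267)
def n40513 : Q := act 8 n39385
theorem D40513 : act 8 n39385 = n40513 := rfl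
theorem F187054 : act 0 n40513 = n39637 := d7_1 D40513 (iv D39637) (iv F182268)
theorem F187055 : act 1 n40513 = n39786 := d15_1 D40513 F184053 (iv F182269)
theorem F187056 : act 2 n40513 = n39400 := d22_1 D40513 (iv D39400) (iv F182270)
theorem F187057 : act 3 n40513 = n40119 := d28_1 D40513 (iv F187012) F187008
theorem F187058 : act 4 n40513 = n39408 := d33_1 D40513 (iv D39408) (iv F182271)
theorem F187059 : act 6 n40513 = n39386 := d40_1 D40513 (iv D39386) (iv F182272)
theorem F187060 : act 7 n40513 = n39724 := d42_1 D40513 (iv F187053) F187052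
theorem F187061 : act 9 n40513 = n39892 := d44_2 D39385 D40513 F184379 F180012 (iv F176768)
def n40514 : Q := act 3 n39390
theorem D40514 : act 3 n39390 = n40514 := rfl
theorem F187062 : act 0 n40514 = n40031 := d2_1 D40514 (iv D40031) (iv F182297)
theorem F187063 : act 4 n40514 = n39660 := d24_2 D39390 D40514 (iv D39660) (iv D38472) (iv F176805)
theorem F187064 : act 8 n40514 = n39393 := d28_2 (iv F182298) D40514 (iv D39393)
def n40515 : Q := act 6 n39390
theorem D40515 : act 6 n39390 = n40515 := rfl
theorem F187065 : act 0 n40515 = n40032 := d5_1 D40515 (iv D40032) (iv F182297)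
theorem F187066 : act 4 n40515 = n39391 := d31_1 D40515 (iv D39391) D39390
theorem F187067 : act 8 n40515 = n39394 := d40_2 (iv F182298) D40515 (iv D39394)
def n40516 : Q := act 9 n39390
theorem D40516 : act 9 n39390 = n40516 := rfl
theorem F187068 : act 0 n40516 = n40033 := d8_1 D40516 (iv D40033) (iv F182297)
theorem F187069 : act 4 n40516 = n39392 := d34_1 D40516 (iv D39392) D39390
def n40517 : Q := act 7 n39391
theorem D40517 : act 7 n39391 = n40517 := rfl
theorem F187070 : act 0 n40517 = n40034 := d6_1 D40517 (iv D40034) (iv F182299)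
theorem F187071 : act 3 n40517 = n39662 := d27_1 D40517 (iv D39662) (iv F182300)
theorem F187072 : act 8 n40517 = n39396 := d42_2 (iv F182301) D40517 (iv D39396)
def n40518 : Q := act 9 n39391
theorem D40518 : act 9 n39391 = n40518 := rfl
theorem F187073 : act 0 n40518 = n40035 := d8_1 D40518 (iv D40035) (iv F182299)
theorem F187074 : act 3 n40518 = n39663 := d29_1 D40518 (iv D39663) (iv F182300)
theorem F187075 : act 6 n40518 = n39392 := d41_1 D40518 (iv D39392) D39391
def n40519 : Q := act 8 n39392
theorem D40519 : act 8 n39392 = n40519 := rfl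
theorem F187076 : act 0 n40519 = n40036 := d7_1 D40519 (iv D40036) (iv F182302)
theorem F187077 : act 3 n40519 = n39664 := d28_1 D40519 (iv D39664) (iv F182303)
theorem F187078 : act 9 n40519 = n39398 := d44_2 D39392 D40519 (iv D39398) (iv D38160) (iv F176806)
def n40520 : Q := act 7 n39394
theorem D40520 : act 7 n39394 = n40520 := rfl
theorem F187079 : act 0 n40520 = n40037 := d6_1 D40520 (iv D40037) (iv F182308)
theorem F187080 : act 4 n40520 = n39396 := d32_1 D40520 (iv D39396) (iv F182309)
theorem F187081 : act 5 n40520 = n39409 := d36_1 D40520 (iv D39409) (iv F182310)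
def n40521 : Q := act 8 n39395
theorem D40521 : act 8 n39395 = n40521 := rfl
theorem F187082 : act 0 n40521 = n40038 := d7_1 D40521 (iv D40038) (iv F182311)
theorem F187083 : act 4 n40521 = n39398 := d33_1 D40521 (iv D39398) (iv F182312)
def n40522 : Q := act 9 n39396
theorem D40522 : act 9 n39396 = n40522 := rfl
theorem F187084 : act 0 n40522 = n39573 := d8_1 D40522 F183195 (iv F182314)
theorem F187085 : act 1 n40522 = n39588 := d16_1 D40522 (iv F186143) F186139
theorem F187086 : act 3 n40522 = n39475 := d29_1 D40522 (iv F182781) (iv F182315)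
theorem F187087 : act 5 n40522 = n39399 := d38_1 D40522 (iv D39399) (iv F182316)
theorem F187088 : act 7 n40522 = n39397 := d43_1 D40522 (iv D39397) D39396
def n40523 : Q := act 8 n39397
theorem D40523 : act 8 n39397 = n40523 := rfl
theorem F187089 : act 0 n40523 = n39639 := d7_1 D40523 (iv D39639) (iv F182317)
theorem F187090 : act 1 n40523 = n39660 := d15_1 D40523 F183530 (iv F182318)
theorem F187091 : act 3 n40523 = n39524 := d28_1 D40523 F182990 (iv F182319)
theorem F187092 : act 6 n40523 = n39398 := d40_1 D40523 (iv D39398) (iv F182321)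
def n40524 : Q := act 5 n39400
theorem D40524 : act 5 n39400 = n40524 := rfl
theorem F187093 : act 0 n40524 = n39640 := d4_1 D40524 (iv D39640) (iv F182331)
theorem F187094 : act 1 n40524 = n39613 := d12_1 D40524 F183353 (iv F182332)
theorem F187095 : act 3 n40524 = n39493 := d25_1 D40524 F182877 (iv F182333)
theorem F187096 : act 7 n40524 = n39725 := d36_2 (iv F182336) D40524 (iv D39725)
def n40525 : Q := act 6 n39404
theorem D40525 : act 6 n39404 = n40525 := rfl
theorem F187097 : act 0 n40525 = n40042 := d5_1 D40525 (iv D40042) (iv F182359)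
theorem F187098 : act 1 n40525 = n40085 := d13_1 D40525 F184940 (iv F182360)
theorem F187099 : act 3 n40525 = n39405 := d26_1 D40525 (iv D39405) D39404
theorem F187100 : act 4 n40525 = n40525 := d31_1 D40525 (iv D40525) F182361
theorem F187101 : act 8 n40525 = n40182 := d40_2 (iv F182364) D40525 (iv D40182)
def n40526 : Q := act 7 n39405
theorem D40526 : act 7 n39405 = n40526 := rfl
theorem F187102 : act 0 n40526 = n40043 := d6_1 D40526 (iv D40043) (iv F182365)
theorem F187103 : act 1 n40526 = n39773 := d14_1 D40526 F184010 (iv F182366)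
theorem F187104 : act 2 n40526 = n39409 := d21_1 D40526 (iv D39409) (iv F182367)
theorem F187105 : act 4 n40526 = n39406 := d32_1 D40526 (iv D39406) (iv F182368)
theorem F187106 : act 6 n40526 = n40526 := d39_1 D40526 (iv D40526) (iv D39405) F176887 D39405
theorem F187107 : act 8 n40526 = n40184 := d42_2 (iv F182369) D40526 (iv D40184)
def n40527 : Q := act 5 n39408
theorem D40527 : act 5 n39408 = n40527 := rfl
theorem F187108 : act 0 n40527 = n39674 := d4_1 D40527 (iv D39674) (iv F182384)
theorem F187109 : act 1 n40527 = n39860 := d12_1 D40527 (iv D39860) (iv F182385)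
theorem F187110 : act 2 n40527 = n39410 := d19_1 D40527 (iv D39410) (iv F182386)
theorem F187111 : act 3 n40527 = n40527 := d25_1 D40527 (iv D40527) F182387
theorem F187112 : act 6 n40527 = n40527 := d35_2 (iv F182388) D40527 (iv D40527) F182388 F176910
theorem F187113 : act 7 n40527 = n39735 := d36_2 (iv F182389) D40527 (iv D39735)
theorem F187114 : act 8 n40527 = n39933 := d37_2 D39408 D40527 F184522 (iv F181319) F181317
theorem F187115 : act 9 n40527 = n39918 := d38_2 (iv F182390) D40527 F184481
def n40528 : Q := act 4 n39410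
theorem D40528 : act 4 n39410 = n40528 := rfl
theorem F187116 : act 0 n40528 = n39676 := d3_1 D40528 (iv D39676) (iv F182394)
theorem F187117 : act 1 n40528 = n39605 := d11_1 D40528 F183317 (iv F182395)
theorem F187118 : act 3 n40528 = n39487 := d24_1 D40528 (iv D39487) F177662 (iv F176961) (iv F182396)
theorem F187119 : act 6 n40528 = n40528 := d31_2 F182397 D40528 (iv D40528)
theorem F187120 : act 7 n40528 = n39736 := d32_2 (iv F182398) D40528 (iv D39736)
theorem F187121 : act 8 n40528 = n39932 := d33_2 (iv F182399) D40528 F184519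
def n40529 : Q := act 4 n39412
theorem D40529 : act 4 n39412 = n40529 := rfl
theorem F187122 : act 0 n40529 = n39986 := d3_1 D40529 (iv D39986) (iv F182408)
theorem F187123 : act 2 n40529 = n39665 := d18_1 D40529 (iv D39665) (iv F182409)
theorem F187124 : act 3 n40529 = n39599 := d24_1 D40529 (iv D39599) F178154 (iv F176996) (iv F182410)
theorem F187125 : act 6 n40529 = n40529 := d31_2 F182411 D40529 (iv D40529)
theorem F187126 : act 7 n40529 = n39415 := d32_2 (iv F182412) D40529 (iv D39415)
theorem F187127 : act 8 n40529 = n39679 := d33_2 (iv F182413) D40529 F183615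
theorem F187128 : act 9 n40529 = n39414 := d34_2 (iv F182414) D40529 (iv D39414)
def n40530 : Q := act 5 n39418
theorem D40530 : act 5 n39418 = n40530 := rfl
theorem F187129 : act 0 n40530 = n40187 := d4_1 D40530 F185158 (iv F182448)
theorem F187130 : act 1 n40530 = n39674 := d12_1 D40530 (iv D39674) (iv F182449)
theorem F187131 : act 2 n40530 = n39419 := d19_1 D40530 (iv D39419) (iv F182450)
theorem F187132 : act 3 n40530 = n40530 := d25_1 D40530 (iv D40530) F182451
theorem F187133 : act 6 n40530 = n40530 := d35_2 (iv F182452) D40530 (iv D40530) F182452 F177141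
theorem F187134 : act 7 n40530 = n39710 := d36_2 (iv F182453) D40530 F183801
theorem F187135 : act 9 n40530 = n39709 := d38_2 (iv F182454) D40530 F183794
def n40531 : Q := act 4 n39419
theorem D40531 : act 4 n39419 = n40531 := rfl
theorem F187136 : act 1 n40531 = n39421 := d11_1 D40531 (iv D39421) (iv F182455)
theorem F187137 : act 6 n40531 = n40531 := d31_2 F182457 D40531 (iv D40531)
theorem F187138 : act 7 n40531 = n39845 := d32_2 (iv F182458) D40531 F184198
theorem F187139 : act 9 n40531 = n40045 := d34_2 (iv F182459) D40531 F184838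
def n40532 : Q := act 5 n39420
theorem D40532 : act 5 n39420 = n40532 := rfl
theorem F187140 : act 0 n40532 = n40047 := d4_1 D40532 (iv D40047) (iv F182460)
theorem F187141 : act 2 n40532 = n39678 := d19_1 D40532 (iv D39678) (iv F182461)
theorem F187142 : act 3 n40532 = n39630 := d25_1 D40532 F183429 (iv F182462)
theorem F187143 : act 9 n40532 = n39628 := d38_2 (iv F182465) D40532 F183422
def n40533 : Q := act 9 n39421
theorem D40533 : act 9 n39421 = n40533 := rfl
theorem F187144 : act 0 n40533 = n39938 := d8_1 D40533 F184543 (iv F182466)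
theorem F187145 : act 1 n40533 = n40045 := d16_1 D40533 (iv F187139) F187136
theorem F187146 : act 2 n40533 = n39679 := d23_1 D40533 (iv D39679) (iv F182467)
theorem F187147 : act 3 n40533 = n39863 := d29_1 D40533 (iv F186915) F186911
theorem F187148 : act 4 n40533 = n39422 := d34_1 D40533 (iv D39422) D39421
theorem F187149 : act 6 n40533 = n40533 := d41_1 D40533 (iv D40533) F182468
theorem F187150 : act 7 n40533 = n39672 := d43_1 D40533 F183588 (iv F182469)
theorem F187151 : act 8 n40533 = n39665 := d44_1 D40533 F183544 (iv F182120) D40481 (iv F186908)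
def n40534 : Q := act 6 n39423
theorem D40534 : act 6 n39423 = n40534 := rfl
theorem F187152 : act 0 n40534 = n40048 := d5_1 D40534 (iv D40048) (iv F182478)
theorem F187153 : act 1 n40534 = n40174 := d13_1 D40534 (iv D40174) (iv F182479)
theorem F187154 : act 2 n40534 = n39690 := d20_1 D40534 (iv D39690) (iv F182480)
theorem F187155 : act 3 n40534 = n39701 := d26_1 D40534 F183745 (iv F182481)
theorem F187156 : act 4 n40534 = n40534 := d31_1 D40534 (iv D40534) F182482
theorem F187157 : act 8 n40534 = n40172 := d40_2 (iv F182484) D40534 (iv D40172)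
theorem F187158 : act 9 n40534 = n39699 := d41_2 (iv F182485) D40534 (iv D39699)
def n40535 : Q := act 5 n39424
theorem D40535 : act 5 n39424 = n40535 := rfl
theorem F187159 : act 0 n40535 = n39718 := d4_1 D40535 (iv D39718) (iv F182486)
theorem F187160 : act 1 n40535 = n39426 := d12_1 D40535 (iv D39426) (iv F182487)
theorem F187161 : act 2 n40535 = n39460 := d19_1 D40535 (iv D39460) (iv F182488)
theorem F187162 : act 3 n40535 = n39992 := d25_1 D40535 F184710 (iv F182489)
theorem F187163 : act 4 n40535 = n39715 := d30_1 D40535 (iv D39715) F178804 (iv F177204) (iv F182490)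
theorem F187164 : act 6 n40535 = n39882 := d35_2 D39424 D40535 (iv D39882) (iv D38730) (iv F177197)
theorem F187165 : act 7 n40535 = n39450 := d36_2 (iv F182491) D40535 (iv D39450)
theorem F187166 : act 9 n40535 = n39920 := d38_2 (iv F182493) D40535 (iv D39920)
def n40536 : Q := act 5 n39425
theorem D40536 : act 5 n39425 = n40536 := rfl
theorem F187167 : act 0 n40536 = n39467 := d4_1 D40536 (iv D39467) (iv F182494)
theorem F187168 : act 1 n40536 = n39992 := d12_1 D40536 F184710 (iv F182495)
theorem F187169 : act 2 n40536 = n40069 := d19_1 D40536 (iv D40069) (iv F182496)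
theorem F187170 : act 3 n40536 = n39426 := d25_1 D40536 (iv D39426) (iv F182497)
theorem F187171 : act 6 n40536 = n39883 := d35_2 D39425 D40536 (iv D39883) (iv D38731) (iv F177213)
theorem F187172 : act 7 n40536 = n39451 := d36_2 (iv F182499) D40536 (iv D39451)
theorem F187173 : act 9 n40536 = n39921 := d38_2 (iv F182500) D40536 (iv D39921)
def n40537 : Q := act 8 n39426
theorem D40537 : act 8 n39426 = n40537 := rfl
theorem F187174 : act 0 n40537 = n39469 := d7_1 D40537 (iv D39469) (iv F182501)
theorem F187175 : act 2 n40537 = n39428 := d22_1 D40537 (iv D39428) (iv F182502)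
theorem F187176 : act 4 n40537 = n39717 := d33_1 D40537 (iv D39717) (iv F182503)
theorem F187177 : act 6 n40537 = n39884 := d40_1 D40537 (iv D39884) (iv F182504)
theorem F187178 : act 7 n40537 = n39452 := d42_1 D40537 (iv D39452) (iv F182505)
def n40538 : Q := act 5 n39427
theorem D40538 : act 5 n39427 = n40538 := rfl
theorem F187179 : act 0 n40538 = n39470 := d4_1 D40538 (iv D39470) (iv F182507)
theorem F187180 : act 1 n40538 = n39458 := d12_1 D40538 (iv D39458) (iv F182508)
theorem F187181 : act 2 n40538 = n39429 := d19_1 D40538 (iv D39429) (iv F182509)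
theorem F187182 : act 4 n40538 = n39465 := d30_1 D40538 (iv D39465) F177524 F177233 (iv F182510)
theorem F187183 : act 6 n40538 = n39873 := d35_2 (iv F182511) D40538 (iv D39873) (iv D38721) F177225
theorem F187184 : act 7 n40538 = n39453 := d36_2 (iv F182512) D40538 (iv D39453)
theorem F187185 : act 9 n40538 = n39745 := d38_2 F182513 D40538 (iv D39745)
def n40539 : Q := act 5 n39428
theorem D40539 : act 5 n39428 = n40539 := rfl
theorem F187186 : act 0 n40539 = n39473 := d4_1 D40539 (iv D39473) (iv F182514)
theorem F187187 : act 1 n40539 = n39553 := d12_1 D40539 F183104 (iv F182515)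
theorem F187188 : act 3 n40539 = n40071 := d25_1 D40539 (iv D40071) (iv F182516)
theorem F187189 : act 7 n40539 = n39454 := d36_2 (iv F182519) D40539 (iv D39454)
theorem F187190 : act 8 n40539 = n39429 := d37_2 D39428 D40539 (iv D39429) (iv D38232) D38231
theorem F187191 : act 4 n39575 = n40539 := d33_3 F187190 F182523 D39575
def n40540 : Q := act 9 n39428
theorem D40540 : act 9 n39428 = n40540 := rfl
theorem F187192 : act 0 n40540 = n39474 := d8_1 D40540 (iv D39474) (iv F182514)
theorem F187193 : act 1 n40540 = n39723 := d16_1 D40540 (iv D39723) (iv F182515)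
theorem F187194 : act 3 n40540 = n40072 := d29_1 D40540 (iv D40072) (iv F182516)
theorem F187195 : act 4 n40540 = n39720 := d34_1 D40540 (iv D39720) (iv F182517)
theorem F187196 : act 6 n40540 = n39888 := d41_1 D40540 (iv D39888) (iv F182518)
theorem F187197 : act 7 n40540 = n39455 := d43_1 D40540 (iv D39455) (iv F182519)
theorem F187198 : act 8 n40540 = n39928 := d44_1 D40540 (iv D39928) (iv D38778) (iv F177241) D39428
def n40541 : Q := act 6 n39430
theorem D40541 : act 6 n39430 = n40541 := rfl
theorem F187199 : act 0 n40541 = n39514 := d5_1 D40541 F182960 (iv F182526)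
theorem F187200 : act 1 n40541 = n39432 := d13_1 D40541 (iv D39432) (iv F182527)
theorem F187201 : act 2 n40541 = n40119 := d20_1 D40541 F185016 (iv F182528)
theorem F187202 : act 3 n40541 = n39431 := d26_1 D40541 (iv D39431) (iv F182529)
theorem F187203 : act 4 n40541 = n40541 := d31_1 D40541 (iv D40541) F182530
theorem F187204 : act 7 n40541 = n39714 := d39_2 D39430 D40541 (iv D39714) (iv D38553) (iv F177254)
theorem F187205 : act 8 n40541 = n39509 := d40_2 (iv F182532) D40541 (iv D39509)
theorem F187206 : act 9 n40541 = n39486 := d41_2 (iv F182533) D40541 (iv D39486)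
def n40542 : Q := act 5 n39431
theorem D40542 : act 5 n39431 = n40542 := rfl
theorem F187207 : act 0 n40542 = n39516 := d4_1 D40542 (iv D39516) (iv F182534)
theorem F187208 : act 1 n40542 = n39433 := d12_1 D40542 (iv D39433) (iv F182535)
theorem F187209 : act 2 n40542 = n39493 := d19_1 D40542 F182877 (iv F182536)
theorem F187210 : act 4 n40542 = n39450 := d30_1 D40542 (iv D39450) F177429 (iv F177268) (iv F182537)
theorem F187211 : act 6 n40542 = n39495 := d35_2 D39431 D40542 F182882 F177693 (iv F177261)
theorem F187212 : act 7 n40542 = n39715 := d36_2 (iv F182538) D40542 (iv D39715)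
theorem F187213 : act 9 n40542 = n39494 := d38_2 (iv F182540) D40542 F182880
def n40543 : Q := act 5 n39432
theorem D40543 : act 5 n39432 = n40543 := rfl
theorem F187214 : act 0 n40543 = n39489 := d4_1 D40543 (iv D39489) (iv F182541)
theorem F187215 : act 2 n40543 = n39746 := d19_1 D40543 (iv D39746) (iv F182542)
theorem F187216 : act 3 n40543 = n39433 := d25_1 D40543 (iv D39433) (iv F182543)
theorem F187217 : act 6 n40543 = n39604 := d35_2 D39432 D40543 F183315 F178166 (iv F177276)
theorem F187218 : act 7 n40543 = n39716 := d36_2 (iv F182545) D40543 (iv D39716)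
theorem F187219 : act 9 n40543 = n39603 := d38_2 (iv F182546) D40543 F183312
def n40544 : Q := act 8 n39433
theorem D40544 : act 8 n39433 = n40544 := rfl
theorem F187220 : act 0 n40544 = n39490 := d7_1 D40544 (iv D39490) (iv F182547)
theorem F187221 : act 2 n40544 = n39435 := d22_1 D40544 (iv D39435) (iv F182548)
theorem F187222 : act 4 n40544 = n39452 := d33_1 D40544 (iv D39452) (iv F182549)
theorem F187223 : act 6 n40544 = n39614 := d40_1 D40544 (iv D39614) (iv F182550)
theorem F187224 : act 7 n40544 = n39717 := d42_1 D40544 (iv D39717) (iv F182551)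
def n40545 : Q := act 5 n39434
theorem D40545 : act 5 n39434 = n40545 := rfl
theorem F187225 : act 0 n40545 = n39450 := d4_1 D40545 (iv D39450) (iv F182553)
theorem F187226 : act 1 n40545 = n39510 := d12_1 D40545 (iv D39510) (iv F182554)
theorem F187227 : act 2 n40545 = n39436 := d19_1 D40545 (iv D39436) (iv F182555)
theorem F187228 : act 4 n40545 = n39516 := d30_1 D40545 (iv D39516) F177797 (iv F177294) (iv F182556)
theorem F187229 : act 6 n40545 = n39646 := d35_2 (iv F182557) D40545 F183483 F178328 (iv F177287)
theorem F187230 : act 7 n40545 = n39718 := d36_2 (iv F182558) D40545 (iv D39718)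
theorem F187231 : act 9 n40545 = n39645 := d38_2 (iv F182559) D40545 F183481
def n40546 : Q := act 5 n39435
theorem D40546 : act 5 n39435 = n40546 := rfl
theorem F187232 : act 0 n40546 = n39491 := d4_1 D40546 (iv D39491) (iv F182560)
theorem F187233 : act 1 n40546 = n39655 := d12_1 D40546 F183514 (iv F182561)
theorem F187234 : act 3 n40546 = n39748 := d25_1 D40546 (iv D39748) (iv F182562)
theorem F187235 : act 4 n40546 = n39643 := d30_1 D40546 (iv D39643) F182673 (iv D39454) (iv F182563)
theorem F187236 : act 7 n40546 = n39719 := d36_2 (iv F182565) D40546 (iv D39719)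
theorem F187237 : act 8 n40546 = n39436 := d37_2 D39435 D40546 (iv D39436) (iv D38241) D38240
def n40547 : Q := act 9 n39435
theorem D40547 : act 9 n39435 = n40547 := rfl
theorem F187238 : act 0 n40547 = n39492 := d8_1 D40547 (iv D39492) (iv F182560)
theorem F187239 : act 1 n40547 = n39722 := d16_1 D40547 (iv D39722) (iv F182561)
theorem F187240 : act 3 n40547 = n39749 := d29_1 D40547 (iv D39749) (iv F182562)
theorem F187241 : act 4 n40547 = n39455 := d34_1 D40547 (iv D39455) (iv F182563)
theorem F187242 : act 6 n40547 = n40049 := d41_1 D40547 (iv D40049) (iv F182564)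
theorem F187243 : act 7 n40547 = n39720 := d43_1 D40547 (iv D39720) (iv F182565)
theorem F187244 : act 8 n40547 = n39741 := d44_1 D40547 (iv D39741) (iv D38581) (iv F177304) D39435
def n40548 : Q := act 6 n39436
theorem D40548 : act 6 n39436 = n40548 := rfl
theorem F187245 : act 0 n40548 = n39494 := d5_1 D40548 (iv D39494) (iv F182566)
theorem F187246 : act 1 n40548 = n39523 := d13_1 D40548 F182987 (iv F182567)
theorem F187247 : act 2 n40548 = n39646 := d20_1 D40548 (iv F187229) F187227
theorem F187248 : act 3 n40548 = n39751 := d26_1 D40548 (iv D39751) (iv F182568)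
theorem F187249 : act 4 n40548 = n39645 := d31_1 D40548 (iv D39645) (iv F182569)
theorem F187250 : act 5 n40548 = n39438 := d35_1 D40548 (iv D39438) (iv D38242) (iv F177309) D39436
theorem F187251 : act 9 n39516 = n40548 := d38_0 F187250 F182585 D39516
def n40549 : Q := act 9 n39436
theorem D40549 : act 9 n39436 = n40549 := rfl
theorem F187252 : act 0 n40549 = n39495 := d8_1 D40549 (iv D39495) (iv F182566)
theorem F187253 : act 1 n40549 = n39522 := d16_1 D40549 (iv F182981) (iv F182567)
theorem F187254 : act 2 n40549 = n39645 := d23_1 D40549 (iv F187231) F187227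
theorem F187255 : act 3 n40549 = n39752 := d29_1 D40549 (iv D39752) (iv F182568)
theorem F187256 : act 4 n40549 = n39646 := d34_1 D40549 (iv D39646) (iv F182569)
theorem F187257 : act 5 n40549 = n39437 := d38_1 D40549 (iv D39437) D39436
theorem F187258 : act 6 n40549 = n39516 := d41_1 D40549 F187251 (iv D40548)
theorem F187259 : act 7 n40549 = n39721 := d43_1 D40549 (iv D39721) (iv F182570)
def n40550 : Q := act 7 n39438
theorem D40550 : act 7 n39438 = n40550 := rfl
theorem F187260 : act 0 n40550 = n39480 := d6_1 D40550 F182806 (iv F182579)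
theorem F187261 : act 1 n40550 = n39471 := d14_1 D40550 F182764 (iv F182580)
theorem F187262 : act 2 n40550 = n39577 := d21_1 D40550 F183213 (iv F182581)
theorem F187263 : act 3 n40550 = n39561 := d27_1 D40550 F183150 (iv F182582)
theorem F187264 : act 4 n40550 = n39456 := d32_1 D40550 (iv D39456) (iv F182583)
theorem F187265 : act 6 n40550 = n39439 := d39_1 D40550 (iv D39439) (iv D38244) (iv F177316) D39438
theorem F187266 : act 8 n40550 = n39829 := d42_2 (iv F182584) D40550 F184170
theorem F187267 : act 9 n40550 = n39466 := d43_2 (iv F182585) D40550 F182747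
def n40551 : Q := act 5 n39440
theorem D40551 : act 5 n39440 = n40551 := rfl
theorem F187268 : act 0 n40551 = n39645 := d4_1 D40551 F183481 (iv F182594)
theorem F187269 : act 1 n40551 = n39442 := d12_1 D40551 (iv D39442) (iv F182595)
theorem F187270 : act 2 n40551 = n39495 := d19_1 D40551 F182882 (iv F182596)
theorem F187271 : act 4 n40551 = n39494 := d30_1 D40551 F182880 F177696 (iv F177354) (iv F182597)
theorem F187272 : act 6 n40551 = n39493 := d35_2 D39440 D40551 F182877 F177700 (iv F177347)
theorem F187273 : act 7 n40551 = n39920 := d36_2 (iv F182598) D40551 (iv D39920)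
theorem F187274 : act 9 n40551 = n39450 := d38_2 (iv F182600) D40551 (iv D39450)
def n40552 : Q := act 5 n39441
theorem D40552 : act 5 n39441 = n40552 := rfl
theorem F187275 : act 0 n40552 = n39496 := d4_1 D40552 (iv D39496) (iv F182601)
theorem F187276 : act 2 n40552 = n39767 := d19_1 D40552 (iv D39767) (iv F182602)
theorem F187277 : act 3 n40552 = n39442 := d25_1 D40552 (iv D39442) (iv F182603)
theorem F187278 : act 6 n40552 = n39613 := d35_2 D39441 D40552 F183353 F178212 (iv F177362)
theorem F187279 : act 7 n40552 = n39921 := d36_2 (iv F182605) D40552 (iv D39921)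
theorem F187280 : act 9 n40552 = n39451 := d38_2 (iv F182606) D40552 (iv D39451)
def n40553 : Q := act 8 n39442
theorem D40553 : act 8 n39442 = n40553 := rfl
theorem F187281 : act 0 n40553 = n39498 := d7_1 D40553 (iv D39498) (iv F182607)
theorem F187282 : act 2 n40553 = n39444 := d22_1 D40553 (iv D39444) (iv F182608)
theorem F187283 : act 4 n40553 = n39611 := d33_1 D40553 F183347 (iv F182609)
theorem F187284 : act 6 n40553 = n39610 := d40_1 D40553 F183343 (iv F182610)
theorem F187285 : act 7 n40553 = n39923 := d42_1 D40553 (iv D39923) (iv F182611)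
def n40554 : Q := act 5 n39443
theorem D40554 : act 5 n39443 = n40554 := rfl
theorem F187286 : act 0 n40554 = n39499 := d4_1 D40554 (iv D39499) (iv F182613)
theorem F187287 : act 1 n40554 = n39632 := d12_1 D40554 F183435 (iv F182614)
theorem F187288 : act 2 n40554 = n39445 := d19_1 D40554 (iv D39445) (iv F182615)
theorem F187289 : act 4 n40554 = n40175 := d30_1 D40554 (iv D40175) F180241 (iv F177380) (iv F182616)
theorem F187290 : act 6 n40554 = n39505 := d35_2 (iv F182617) D40554 F182917 F177741 (iv F177373)
theorem F187291 : act 7 n40554 = n39924 := d36_2 (iv F182618) D40554 (iv D39924)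
theorem F187292 : act 9 n40554 = n39504 := d38_2 (iv F182619) D40554 F182914
def n40555 : Q := act 5 n39444
theorem D40555 : act 5 n39444 = n40555 := rfl
theorem F187293 : act 0 n40555 = n39501 := d4_1 D40555 (iv D39501) (iv F182620)
theorem F187294 : act 1 n40555 = n39828 := d12_1 D40555 F184165 (iv F182621)
theorem F187295 : act 3 n40555 = n39775 := d25_1 D40555 (iv D39775) (iv F182622)
theorem F187296 : act 7 n40555 = n39927 := d36_2 (iv F182625) D40555 (iv D39927)
theorem F187297 : act 8 n40555 = n39445 := d37_2 D39444 D40555 (iv D39445) (iv D38253) D38252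
def n40556 : Q := act 9 n39444
theorem D40556 : act 9 n39444 = n40556 := rfl
theorem F187298 : act 0 n40556 = n39502 := d8_1 D40556 (iv D39502) (iv F182620)
theorem F187299 : act 1 n40556 = n40049 := d16_1 D40556 (iv D40049) (iv F182621)
theorem F187300 : act 3 n40556 = n39776 := d29_1 D40556 (iv D39776) (iv F182622)
theorem F187301 : act 4 n40556 = n39741 := d34_1 D40556 (iv D39741) (iv F182623)
theorem F187302 : act 6 n40556 = n39722 := d41_1 D40556 (iv D39722) (iv F182624)
theorem F187303 : act 7 n40556 = n39928 := d43_1 D40556 (iv D39928) (iv F182625)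
theorem F187304 : act 8 n40556 = n39455 := d44_1 D40556 (iv D39455) (iv D38262) (iv F177390) D39444
def n40557 : Q := act 4 n39445
theorem D40557 : act 4 n39445 = n40557 := rfl
theorem F187305 : act 0 n40557 = n39503 := d3_1 D40557 (iv D39503) (iv F182626)
theorem F187306 : act 1 n40557 = n39825 := d11_1 D40557 F184155 (iv F182627)
theorem F187307 : act 2 n40557 = n40175 := d18_1 D40557 (iv F187289) F187288
theorem F187308 : act 5 n40557 = n39447 := d30_2 D39445 D40557 (iv D39447) (iv D38255) (iv F177394)
theorem F187309 : act 7 n40557 = n39929 := d32_2 (iv F182629) D40557 (iv D39929)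
theorem F187310 : act 9 n40557 = n39812 := d34_2 (iv F182630) D40557 (iv D39812)
def n40558 : Q := act 6 n39445
theorem D40558 : act 6 n39445 = n40558 := rfl
theorem F187311 : act 0 n40558 = n39504 := d5_1 D40558 (iv D39504) (iv F182626)
theorem F187312 : act 1 n40558 = n39827 := d13_1 D40558 F184162 (iv F182627)
theorem F187313 : act 2 n40558 = n39505 := d20_1 D40558 (iv F187290) F187288
theorem F187314 : act 3 n40558 = n39778 := d26_1 D40558 (iv D39778) (iv F182628)
theorem F187315 : act 5 n40558 = n39446 := d35_1 D40558 (iv D39446) (iv D38254) (iv F177395) D39445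
theorem F187316 : act 9 n40558 = n39499 := d41_2 (iv F182630) D40558 F182898
def n40559 : Q := act 3 n39447
theorem D40559 : act 3 n39447 = n40559 := rfl
theorem F187317 : act 0 n40559 = n39507 := d2_1 D40559 (iv D39507) (iv F182638)
theorem F187318 : act 1 n40559 = n39737 := d10_1 D40559 F183891 (iv F182639)
theorem F187319 : act 4 n40559 = n39448 := d24_2 D39447 D40559 (iv D39448) (iv D38256) (iv F177409)
theorem F187320 : act 6 n40559 = n39692 := d26_2 (iv F182641) D40559 (iv D39692)
theorem F187321 : act 7 n40559 = n39932 := d27_2 (iv F182642) D40559 (iv D39932)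
theorem F187322 : act 8 n40559 = n39736 := d28_2 (iv F182643) D40559 F183887
theorem F187323 : act 9 n40559 = n39813 := d29_2 (iv F182644) D40559 (iv D39813)
def n40560 : Q := act 2 n39448
theorem D40560 : act 2 n39448 = n40560 := rfl
theorem F187324 : act 0 n40560 = n39508 := d1_1 D40560 (iv D39508) (iv F182645)
theorem F187325 : act 1 n40560 = n39865 := d9_1 D40560 F184272 F179288 (iv F178872) (iv F182646)
theorem F187326 : act 3 n40560 = n40560 := d17_2 D39448 D40560 (iv D40560) (iv D39448) F177416
theorem F187327 : act 5 n40560 = n39784 := d19_2 (iv F182647) D40560 (iv D39784)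
theorem F187328 : act 6 n40560 = n39693 := d20_2 (iv F182648) D40560 (iv D39693)
theorem F187329 : act 7 n40560 = n39933 := d21_2 (iv F182649) D40560 (iv D39933)
theorem F187330 : act 8 n40560 = n39735 := d22_2 (iv F182650) D40560 F183881
theorem F187331 : act 9 n40560 = n39857 := d23_2 (iv F182651) D40560 F184237
def n40561 : Q := act 5 n39449
theorem D40561 : act 5 n39449 = n40561 := rfl
theorem F187332 : act 1 n40561 = n39451 := d12_1 D40561 (iv D39451) (iv F182652)
theorem F187333 : act 2 n40561 = n40001 := d19_1 D40561 F184737 (iv F182653)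
theorem F187334 : act 3 n40561 = n39450 := d25_1 D40561 (iv D39450) (iv F182654)
theorem F187335 : act 7 n40561 = n39992 := d36_2 (iv F182656) D40561 F184710
def n40562 : Q := act 8 n39450
theorem D40562 : act 8 n39450 = n40562 := rfl
theorem F187336 : act 1 n40562 = n39452 := d15_1 D40562 (iv D39452) (iv F182658)
theorem F187337 : act 2 n40562 = n39491 := d22_1 D40562 F182870 (iv F182659)
theorem F187338 : act 5 n40562 = n39490 := d37_1 D40562 (iv D39490) (iv D38304) (iv F177430) D39450
def n40563 : Q := act 4 n39451
theorem D40563 : act 4 n39451 = n40563 := rfl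
theorem F187339 : act 0 n40563 = n39517 := d3_1 D40563 (iv D39517) (iv F182660)
theorem F187340 : act 5 n40563 = n40563 := d30_2 D39451 D40563 (iv D40563) (iv D39451) F177433
def n40564 : Q := act 8 n39451
theorem D40564 : act 8 n39451 = n40564 := rfl
theorem F187341 : act 0 n40564 = n39518 := d7_1 D40564 (iv D39518) (iv F182660)
theorem F187342 : act 3 n40564 = n39452 := d28_1 D40564 (iv D39452) (iv F182661)
def n40565 : Q := act 5 n39452
theorem D40565 : act 5 n39452 = n40565 := rfl
theorem F187343 : act 0 n40565 = n39520 := d4_1 D40565 (iv D39520) (iv F182662)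
theorem F187344 : act 1 n40565 = n39490 := d12_1 D40565 (iv F187338) F187336
theorem F187345 : act 2 n40565 = n39454 := d19_1 D40565 (iv D39454) (iv F182663)
theorem F187346 : act 8 n40565 = n39453 := d37_2 D39452 D40565 (iv D39453) (iv D38261) D38260
theorem F187347 : act 4 n39515 = n40565 := d33_3 F187346 F182667 D39515
theorem F187348 : act 6 n40056 = n40565 := d40_3 F187346 F182668 D40056
def n40566 : Q := act 9 n39452
theorem D40566 : act 9 n39452 = n40566 := rfl
theorem F187349 : act 0 n40566 = n39521 := d8_1 D40566 (iv D39521) (iv F182662)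
theorem F187350 : act 2 n40566 = n39455 := d23_1 D40566 (iv D39455) (iv F182663)
def n40567 : Q := act 9 n39454
theorem D40567 : act 9 n39454 = n40567 := rfl
theorem F187351 : act 0 n40567 = n39526 := d8_1 D40567 (iv D39526) (iv F182670)
theorem F187352 : act 1 n40567 = n39609 := d16_1 D40567 (iv D39609) (iv F182671)
theorem F187353 : act 4 n40567 = n39644 := d34_1 D40567 (iv D39644) F182673
theorem F187354 : act 5 n40567 = n39455 := d38_1 D40567 (iv D39455) D39454
theorem F187355 : act 6 n40567 = n40134 := d41_1 D40567 (iv D40134) F182674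
theorem F187356 : act 8 n40567 = n39811 := d44_1 D40567 (iv D39811) (iv D38650) (iv F177448) (iv F182672)
def n40568 : Q := act 5 n39457
theorem D40568 : act 5 n39457 = n40568 := rfl
theorem F187357 : act 0 n40568 = n39716 := d4_1 D40568 (iv D39716) (iv F182685)
theorem F187358 : act 2 n40568 = n39603 := d19_1 D40568 F183312 (iv F182686)
theorem F187359 : act 3 n40568 = n39458 := d25_1 D40568 (iv D39458) (iv F182687)
theorem F187360 : act 6 n40568 = n39598 := d35_2 D39457 D40568 (iv D39598) F178151 (iv F177467)
theorem F187361 : act 7 n40568 = n39489 := d36_2 (iv F182689) D40568 (iv D39489)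
theorem F187362 : act 9 n40568 = n39746 := d38_2 (iv F182691) D40568 (iv D39746)
def n40569 : Q := act 8 n39458
theorem D40569 : act 8 n39458 = n40569 := rfl
theorem F187363 : act 0 n40569 = n39717 := d7_1 D40569 (iv D39717) (iv F182692)
theorem F187364 : act 2 n40569 = n39459 := d22_1 D40569 (iv D39459) (iv F182693)
theorem F187365 : act 4 n40569 = n39469 := d33_1 D40569 (iv D39469) (iv F182694)
theorem F187366 : act 6 n40569 = n39874 := d40_1 D40569 (iv D39874) (iv F182695)
theorem F187367 : act 7 n40569 = n39490 := d42_1 D40569 (iv D39490) (iv F182696)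
def n40570 : Q := act 5 n39459
theorem D40570 : act 5 n39459 = n40570 := rfl
theorem F187368 : act 0 n40570 = n39719 := d4_1 D40570 (iv D39719) (iv F182698)
theorem F187369 : act 1 n40570 = n39554 := d12_1 D40570 (iv D39554) (iv F182699)
theorem F187370 : act 3 n40570 = n39740 := d25_1 D40570 (iv D39740) (iv F182700)
theorem F187371 : act 6 n40570 = n39968 := d35_2 (iv F182702) D40570 F184645 (iv F183332) F183331
theorem F187372 : act 7 n40570 = n39491 := d36_2 (iv F182703) D40570 (iv D39491)
theorem F187373 : act 8 n40570 = n39460 := d37_2 D39459 D40570 (iv D39460) (iv D38269) D38268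
theorem F187374 : act 4 n39726 = n40570 := d33_3 F187373 F182707 D39726
def n40571 : Q := act 9 n39459
theorem D40571 : act 9 n39459 = n40571 := rfl
theorem F187375 : act 0 n40571 = n39720 := d8_1 D40571 (iv D39720) (iv F182698)
theorem F187376 : act 1 n40571 = n39555 := d16_1 D40571 (iv D39555) (iv F182699)
theorem F187377 : act 3 n40571 = n39741 := d29_1 D40571 (iv D39741) (iv F182700)
theorem F187378 : act 4 n40571 = n39474 := d34_1 D40571 (iv D39474) (iv F182701)
theorem F187379 : act 6 n40571 = n39875 := d41_1 D40571 (iv D39875) (iv F182702)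
theorem F187380 : act 7 n40571 = n39492 := d43_1 D40571 (iv D39492) (iv F182703)
theorem F187381 : act 8 n40571 = n39749 := d44_1 D40571 (iv D39749) (iv D38590) (iv F177481) D39459
def n40572 : Q := act 5 n39461
theorem D40572 : act 5 n39461 = n40572 := rfl
theorem F187382 : act 0 n40572 = n39465 := d4_1 D40572 (iv D39465) (iv F182710)
theorem F187383 : act 1 n40572 = n39718 := d12_1 D40572 (iv D39718) (iv F182711)
theorem F187384 : act 2 n40572 = n39475 := d19_1 D40572 F182779 (iv F182712)
theorem F187385 : act 4 n40572 = n39470 := d30_1 D40572 (iv D39470) F177551 (iv F177498) (iv F182713)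
theorem F187386 : act 7 n40572 = n39510 := d36_2 (iv F182714) D40572 (iv D39510)
theorem F187387 : act 9 n40572 = n39658 := d38_2 (iv F182716) D40572 F183526
def n40573 : Q := act 6 n39462
theorem D40573 : act 6 n39462 = n40573 := rfl
theorem F187388 : act 0 n40573 = n40120 := d5_1 D40573 F185019 (iv F182717)
theorem F187389 : act 1 n40573 = n39947 := d13_1 D40573 F184572 (iv F182718)
theorem F187390 : act 2 n40573 = n39463 := d20_1 D40573 (iv D39463) (iv F182719)
theorem F187391 : act 3 n40573 = n39572 := d26_1 D40573 (iv D39572) (iv F182720)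
theorem F187392 : act 4 n40573 = n40573 := d31_1 D40573 (iv D40573) F182721
theorem F187393 : act 7 n40573 = n39511 := d39_2 D39462 D40573 (iv D39511) (iv D38325) (iv F177507)
theorem F187394 : act 8 n40573 = n39569 := d40_2 (iv F182723) D40573 F183178
theorem F187395 : act 9 n40573 = n40022 := d41_2 (iv F182724) D40573 F184793
def n40574 : Q := act 5 n39463
theorem D40574 : act 5 n39463 = n40574 := rfl
theorem F187396 : act 1 n40574 = n39467 := d12_1 D40574 (iv D39467) (iv F182725)
theorem F187397 : act 3 n40574 = n39465 := d25_1 D40574 (iv D39465) (iv F182726)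
theorem F187398 : act 7 n40574 = n39513 := d36_2 (iv F182728) D40574 (iv D39513)
theorem F187399 : act 9 n40574 = n40162 := d38_2 (iv F182729) D40574 F185096
def n40575 : Q := act 8 n39463
theorem D40575 : act 8 n39463 = n40575 := rfl
theorem F187400 : act 0 n40575 = n39714 := d7_1 D40575 (iv F186774) F186768
theorem F187401 : act 1 n40575 = n39468 := d15_1 D40575 (iv D39468) (iv F182725)
theorem F187402 : act 2 n40575 = n39569 := d22_1 D40575 (iv F187394) F187390
theorem F187403 : act 3 n40575 = n39466 := d28_1 D40575 (iv D39466) (iv F182726)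
theorem F187404 : act 4 n40575 = n40575 := d33_1 D40575 (iv D40575) F182727
theorem F187405 : act 6 n40575 = n39464 := d40_1 D40575 (iv D39464) D39463
theorem F187406 : act 7 n40575 = n39514 := d42_1 D40575 (iv D39514) (iv F182728)
theorem F187407 : act 9 n40575 = n39561 := d44_2 (iv F182729) D40575 (iv F185972) F185973 F184141
def n40576 : Q := act 8 n39465
theorem D40576 : act 8 n39465 = n40576 := rfl
theorem F187408 : act 1 n40576 = n39469 := d15_1 D40576 (iv D39469) (iv F182738)
theorem F187409 : act 2 n40576 = n39575 := d22_1 D40576 (iv D39575) (iv F182739)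
theorem F187410 : act 7 n40576 = n39515 := d42_1 D40576 (iv D39515) (iv F182740)
def n40577 : Q := act 5 n39466
theorem D40577 : act 5 n39466 = n40577 := rfl
theorem F187411 : act 0 n40577 = n39715 := d4_1 D40577 (iv D39715) (iv F182742)
theorem F187412 : act 1 n40577 = n39470 := d12_1 D40577 (iv D39470) (iv F182743)
theorem F187413 : act 2 n40577 = n39576 := d19_1 D40577 (iv D39576) (iv F182744)
theorem F187414 : act 4 n40577 = n39718 := d30_1 D40577 (iv D39718) F178811 (iv F177537) (iv F182745)
theorem F187415 : act 6 n40577 = n39906 := d35_2 (iv F182746) D40577 (iv D39906) (iv D38754) F177532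
theorem F187416 : act 7 n40577 = n39516 := d36_2 (iv F182747) D40577 (iv D39516)
def n40578 : Q := act 4 n39467
theorem D40578 : act 4 n39467 = n40578 := rfl
theorem F187417 : act 5 n40578 = n40578 := d30_2 D39467 D40578 (iv D40578) (iv D39467) F177541
theorem F187418 : act 7 n40578 = n39517 := d32_2 (iv F182749) D40578 (iv D39517)
def n40579 : Q := act 8 n39467
theorem D40579 : act 8 n39467 = n40579 := rfl
theorem F187419 : act 3 n40579 = n39469 := d28_1 D40579 (iv D39469) (iv F182748)
theorem F187420 : act 7 n40579 = n39518 := d42_1 D40579 (iv D39518) (iv F182749)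
def n40580 : Q := act 5 n39468
theorem D40580 : act 5 n39468 = n40580 := rfl
theorem F187421 : act 3 n40580 = n39470 := d25_1 D40580 (iv D39470) (iv F182750)
theorem F187422 : act 6 n40580 = n39843 := d35_2 (iv F182752) D40580 F184195 F179172 F177546
theorem F187423 : act 7 n40580 = n39519 := d36_2 (iv F182753) D40580 (iv D39519)
theorem F187424 : act 9 n40580 = n39805 := d38_2 F182754 D40580 F184105
def n40581 : Q := act 5 n39469
theorem D40581 : act 5 n39469 = n40581 := rfl
theorem F187425 : act 2 n40581 = n39473 := d19_1 D40581 (iv D39473) (iv F182755)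
theorem F187426 : act 7 n40581 = n39520 := d36_2 (iv F182756) D40581 (iv D39520)
theorem F187427 : act 8 n40581 = n39470 := d37_2 D39469 D40581 (iv D39470) (iv D38281) D38280
def n40582 : Q := act 9 n39469
theorem D40582 : act 9 n39469 = n40582 := rfl
theorem F187428 : act 2 n40582 = n39474 := d23_1 D40582 (iv D39474) (iv F182755)
theorem F187429 : act 7 n40582 = n39521 := d43_1 D40582 (iv D39521) (iv F182756)
def n40583 : Q := act 6 n39470
theorem D40583 : act 6 n39470 = n40583 := rfl
theorem F187430 : act 0 n40583 = n39873 := d5_1 D40583 (iv F187183) F187179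
theorem F187431 : act 1 n40583 = n39906 := d13_1 D40583 (iv F187415) F187412
theorem F187432 : act 2 n40583 = n39476 := d20_1 D40583 (iv D39476) (iv F182757)
theorem F187433 : act 3 n40583 = n39843 := d26_1 D40583 (iv F187422) F187421
theorem F187434 : act 5 n40583 = n39472 := d35_1 D40583 (iv D39472) (iv D38282) (iv F177552) D39470
theorem F187435 : act 7 n40583 = n39733 := d39_2 (iv F182758) D40583 F183877 F182980 (iv D39522)
theorem F187436 : act 9 n39732 = n40583 := d43_0 F187435 (iv D39733) D39732
def n40584 : Q := act 9 n39470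
theorem D40584 : act 9 n39470 = n40584 := rfl
theorem F187437 : act 0 n40584 = n39745 := d8_1 D40584 (iv F187185) F187179
theorem F187438 : act 2 n40584 = n39477 := d23_1 D40584 (iv D39477) (iv F182757)
theorem F187439 : act 3 n40584 = n39805 := d29_1 D40584 (iv F187424) F187421
theorem F187440 : act 4 n40584 = n39658 := d34_1 D40584 (iv F187387) F187385
theorem F187441 : act 5 n40584 = n39471 := d38_1 D40584 (iv D39471) D39470
theorem F187442 : act 6 n40584 = n39732 := d41_1 D40584 F187436 (iv D40583)
theorem F187443 : act 7 n40584 = n39523 := d43_1 D40584 (iv D39523) (iv F182758)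
def n40585 : Q := act 4 n39473
theorem D40585 : act 4 n39473 = n40585 := rfl
theorem F187444 : act 0 n40585 = n39575 := d3_1 D40585 F187191 F187186
theorem F187445 : act 1 n40585 = n39585 := d11_1 D40585 (iv D39585) (iv F182772)
theorem F187446 : act 5 n40585 = n39726 := d30_2 D39473 D40585 F187374 (iv D40570) F182701
theorem F187447 : act 7 n40585 = n39524 := d32_2 (iv F182773) D40585 (iv D39524)
theorem F187448 : act 8 n40585 = n39475 := d33_2 (iv F182774) D40585 (iv D39475)
def n40586 : Q := act 6 n39473
theorem D40586 : act 6 n39473 = n40586 := rfl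
theorem F187449 : act 1 n40586 = n39586 := d13_1 D40586 (iv D39586) (iv F182772)
theorem F187450 : act 8 n40586 = n39476 := d40_2 (iv F182774) D40586 (iv D39476)
def n40587 : Q := act 9 n39473
theorem D40587 : act 9 n39473 = n40587 := rfl
theorem F187451 : act 1 n40587 = n39587 := d16_1 D40587 (iv D39587) (iv F182772)
theorem F187452 : act 5 n40587 = n39474 := d38_1 D40587 (iv D39474) D39473
theorem F187453 : act 7 n40587 = n39526 := d43_1 D40587 (iv D39526) (iv F182773)
def n40588 : Q := act 6 n39475
theorem D40588 : act 6 n39475 = n40588 := rfl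
theorem F187454 : act 0 n40588 = n39531 := d5_1 D40588 F183020 (iv F182777)
theorem F187455 : act 1 n40588 = n39589 := d13_1 D40588 (iv D39589) (iv F182778)
theorem F187456 : act 4 n40588 = n39476 := d31_1 D40588 (iv D39476) D39475
theorem F187457 : act 5 n40588 = n39529 := d35_1 D40588 (iv D39529) F177844 (iv F177599) (iv F182779)
theorem F187458 : act 7 n40588 = n39591 := d39_2 (iv F182780) D40588 F183268 F178110 F177823
theorem F187459 : act 9 n40588 = n39590 := d41_2 F182781 D40588 F183265
def n40589 : Q := act 7 n39476
theorem D40589 : act 7 n39476 = n40589 := rfl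
theorem F187460 : act 0 n40589 = n40068 := d6_1 D40589 (iv F185896) F185890
theorem F187461 : act 1 n40589 = n39590 := d14_1 D40589 (iv D39590) (iv F182782)
theorem F187462 : act 2 n40589 = n39733 := d21_1 D40589 (iv F187435) F187432
theorem F187463 : act 4 n40589 = n39591 := d32_1 D40589 (iv F187458) F187456
theorem F187464 : act 5 n40589 = n39478 := d36_1 D40589 (iv D39478) (iv F182783)
theorem F187465 : act 6 n40589 = n39527 := d39_1 D40589 (iv D39527) (iv D38340) (iv F177576) D39476
theorem F187466 : act 9 n39589 = n40589 := d41_0 F187465 F183003 D39589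
def n40590 : Q := act 9 n39476
theorem D40590 : act 9 n39476 = n40590 := rfl
theorem F187467 : act 0 n40590 = n39766 := d8_1 D40590 (iv F185897) F185890
theorem F187468 : act 1 n40590 = n39591 := d16_1 D40590 (iv D39591) (iv F182782)
theorem F187469 : act 2 n40590 = n39732 := d23_1 D40590 F187436 F187432
theorem F187470 : act 4 n40590 = n39590 := d34_1 D40590 (iv F187459) F187456
theorem F187471 : act 5 n40590 = n39479 := d38_1 D40590 (iv D39479) (iv F182783)
theorem F187472 : act 6 n40590 = n39477 := d41_1 D40590 (iv D39477) D39476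
theorem F187473 : act 7 n40590 = n39589 := d43_1 D40590 F187466 (iv D40589)
def n40591 : Q := act 8 n39477
theorem D40591 : act 8 n39477 = n40591 := rfl
theorem F187474 : act 0 n40591 = n39788 := d7_1 D40591 (iv D39788) (iv F182784)
theorem F187475 : act 1 n40591 = n39592 := d15_1 D40591 (iv D39592) (iv F182785)
theorem F187476 : act 4 n40591 = n39662 := d33_1 D40591 F183534 (iv F182786)
theorem F187477 : act 7 n40591 = n39528 := d42_1 D40591 (iv D39528) (iv F182788)
def n40592 : Q := act 5 n39480
theorem D40592 : act 5 n39480 = n40592 := rfl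
theorem F187478 : act 1 n40592 = n39482 := d12_1 D40592 (iv D39482) (iv F182802)
theorem F187479 : act 2 n40592 = n39595 := d19_1 D40592 (iv D39595) (iv F182803)
theorem F187480 : act 3 n40592 = n40109 := d25_1 D40592 F184995 (iv F182804)
theorem F187481 : act 4 n40592 = n39920 := d30_1 D40592 (iv D39920) F179545 (iv F177613) (iv F182805)
theorem F187482 : act 6 n40592 = n39894 := d35_2 D39480 D40592 (iv D39894) (iv D38742) (iv F177607)
theorem F187483 : act 7 n40592 = n39494 := d36_2 (iv F182806) D40592 F182880
theorem F187484 : act 9 n40592 = n39715 := d38_2 (iv F182808) D40592 (iv D39715)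
def n40593 : Q := act 5 n39481
theorem D40593 : act 5 n39481 = n40593 := rfl
theorem F187485 : act 0 n40593 = n39746 := d4_1 D40593 (iv D39746) (iv F182809)
theorem F187486 : act 1 n40593 = n40109 := d12_1 D40593 F184995 (iv F182810)
theorem F187487 : act 2 n40593 = n39489 := d19_1 D40593 (iv D39489) (iv F182811)
theorem F187488 : act 3 n40593 = n39482 := d25_1 D40593 (iv D39482) (iv F182812)
theorem F187489 : act 6 n40593 = n39895 := d35_2 D39481 D40593 (iv D39895) (iv D38743) (iv F177622)
theorem F187490 : act 7 n40593 = n39603 := d36_2 (iv F182814) D40593 F183312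
theorem F187491 : act 9 n40593 = n39716 := d38_2 (iv F182816) D40593 (iv D39716)
def n40594 : Q := act 8 n39482
theorem D40594 : act 8 n39482 = n40594 := rfl
theorem F187492 : act 0 n40594 = n39747 := d7_1 D40594 (iv D39747) (iv F182817)
theorem F187493 : act 2 n40594 = n39483 := d22_1 D40594 (iv D39483) (iv F182818)
theorem F187494 : act 4 n40594 = n39923 := d33_1 D40594 (iv D39923) (iv F182819)
theorem F187495 : act 5 n40594 = n40144 := d37_1 D40594 F185065 F180182 (iv F177629) D39482
theorem F187496 : act 6 n40594 = n39896 := d40_1 D40594 (iv D39896) (iv F182820)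
theorem F187497 : act 7 n40594 = n39611 := d42_1 D40594 F183347 (iv F182821)
def n40595 : Q := act 5 n39483
theorem D40595 : act 5 n39483 = n40595 := rfl
theorem F187498 : act 0 n40595 = n39748 := d4_1 D40595 (iv D39748) (iv F182823)
theorem F187499 : act 1 n40595 = n39600 := d12_1 D40595 (iv D39600) (iv F182824)
theorem F187500 : act 2 n40595 = n40144 := d19_1 D40595 (iv F187495) F187493
theorem F187501 : act 3 n40595 = n39491 := d25_1 D40595 (iv D39491) (iv F182825)
theorem F187502 : act 7 n40595 = n39740 := d36_2 (iv F182828) D40595 (iv D39740)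
theorem F187503 : act 8 n40595 = n39484 := d37_2 D39483 D40595 (iv D39484) (iv D38297) D38296
def n40596 : Q := act 9 n39483
theorem D40596 : act 9 n39483 = n40596 := rfl
theorem F187504 : act 0 n40596 = n39749 := d8_1 D40596 (iv D39749) (iv F182823)
theorem F187505 : act 1 n40596 = n39601 := d16_1 D40596 (iv D39601) (iv F182824)
theorem F187506 : act 3 n40596 = n39492 := d29_1 D40596 (iv D39492) (iv F182825)
theorem F187507 : act 4 n40596 = n39928 := d34_1 D40596 (iv D39928) (iv F182826)
theorem F187508 : act 6 n40596 = n39901 := d41_1 D40596 (iv D39901) (iv F182827)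
theorem F187509 : act 7 n40596 = n39741 := d43_1 D40596 (iv D39741) (iv F182828)
theorem F187510 : act 8 n40596 = n39720 := d44_1 D40596 (iv D39720) (iv D38558) (iv F177637) D39483
def n40597 : Q := act 4 n39484
theorem D40597 : act 4 n39484 = n40597 := rfl
theorem F187511 : act 0 n40597 = n39750 := d3_1 D40597 (iv D39750) (iv F182829)
theorem F187512 : act 1 n40597 = n39602 := d11_1 D40597 (iv D39602) (iv F182830)
theorem F187513 : act 2 n40597 = n40149 := d18_1 D40597 F185073 (iv F182831)
theorem F187514 : act 5 n40597 = n39487 := d30_2 D39484 D40597 (iv D39487) (iv D38300) (iv F177642)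
theorem F187515 : act 7 n40597 = n39742 := d32_2 (iv F182833) D40597 (iv D39742)
def n40598 : Q := act 6 n39484
theorem D40598 : act 6 n39484 = n40598 := rfl
theorem F187516 : act 0 n40598 = n39751 := d5_1 D40598 (iv D39751) (iv F182829)
theorem F187517 : act 1 n40598 = n39603 := d13_1 D40598 (iv D39603) (iv F182830)
theorem F187518 : act 2 n40598 = n40116 := d20_1 D40598 F185010 (iv F182831)
theorem F187519 : act 3 n40598 = n39494 := d26_1 D40598 (iv D39494) (iv F182832)
theorem F187520 : act 5 n40598 = n39486 := d35_1 D40598 (iv D39486) (iv D38298) (iv F177643) D39484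
theorem F187521 : act 7 n40598 = n40109 := d39_2 (iv F182833) D40598 (iv D40109) F180086 (iv F178897)
def n40599 : Q := act 9 n39484
theorem D40599 : act 9 n39484 = n40599 := rfl
theorem F187522 : act 0 n40599 = n39752 := d8_1 D40599 (iv D39752) (iv F182829)
theorem F187523 : act 1 n40599 = n39604 := d16_1 D40599 (iv D39604) (iv F182830)
theorem F187524 : act 2 n40599 = n40152 := d23_1 D40599 (iv D40152) (iv F182831)
theorem F187525 : act 3 n40599 = n39495 := d29_1 D40599 (iv D39495) (iv F182832)
theorem F187526 : act 5 n40599 = n39485 := d38_1 D40599 (iv D39485) D39484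
theorem F187527 : act 7 n40599 = n39743 := d43_1 D40599 (iv D39743) (iv F182833)
def n40600 : Q := act 9 n39487
theorem D40600 : act 9 n39487 = n40600 := rfl
theorem F187528 : act 0 n40600 = n39753 := d8_1 D40600 (iv D39753) (iv F182849)
theorem F187529 : act 1 n40600 = n39606 := d16_1 D40600 (iv D39606) (iv F182850)
theorem F187530 : act 2 n40600 = n40177 := d23_1 D40600 (iv D40177) (iv F182851)
theorem F187531 : act 4 n40600 = n39488 := d34_1 D40600 (iv D39488) D39487
theorem F187532 : act 6 n40600 = n40600 := d41_1 D40600 (iv D40600) F182852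
theorem F187533 : act 7 n40600 = n39744 := d43_1 D40600 (iv D39744) (iv F182853)
theorem F187534 : act 8 n40600 = n39856 := d44_1 D40600 (iv D39856) (iv F184073) F184074 (iv F182854)
def n40601 : Q := act 4 n39489
theorem D40601 : act 4 n39489 = n40601 := rfl
theorem F187535 : act 3 n40601 = n39517 := d24_1 D40601 (iv D39517) F177799 (iv F177684) (iv F182863)
theorem F187536 : act 5 n40601 = n40601 := d30_2 D39489 D40601 (iv D40601) (iv D39489) F177681
theorem F187537 : act 6 n40601 = n40057 := d31_2 (iv F182864) D40601 (iv D40057)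
theorem F187538 : act 9 n40601 = n39755 := d34_2 (iv F182865) D40601 (iv D39755)
def n40602 : Q := act 8 n39489
theorem D40602 : act 8 n39489 = n40602 := rfl
theorem F187539 : act 3 n40602 = n39490 := d28_1 D40602 (iv D39490) (iv F182863)
theorem F187540 : act 6 n40602 = n40058 := d40_1 D40602 (iv D40058) (iv F182864)
def n40603 : Q := act 9 n39490
theorem D40603 : act 9 n39490 = n40603 := rfl
theorem F187541 : act 2 n40603 = n39492 := d23_1 D40603 (iv D39492) (iv F182866)
theorem F187542 : act 4 n40603 = n39521 := d34_1 D40603 (iv D39521) (iv F182867)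
theorem F187543 : act 6 n40603 = n40059 := d41_1 D40603 (iv D40059) (iv F182868)
theorem F187544 : act 8 n40603 = n39757 := d44_1 D40603 (iv D39757) (iv D38598) (iv F177686) D39490
def n40604 : Q := act 4 n39491
theorem D40604 : act 4 n39491 = n40604 := rfl
theorem F187545 : act 0 n40604 = n39643 := d3_1 D40604 (iv F187235) F187232
theorem F187546 : act 1 n40604 = n39610 := d11_1 D40604 (iv D39610) (iv F182869)
theorem F187547 : act 5 n40604 = n39524 := d30_2 D39491 D40604 (iv D39524) (iv D38337) (iv F177688)
theorem F187548 : act 7 n40604 = n39726 := d32_2 F187372 D40604 F187374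
theorem F187549 : act 8 n40604 = n39493 := d33_2 (iv F182870) D40604 (iv D39493)
def n40605 : Q := act 6 n39491
theorem D40605 : act 6 n39491 = n40605 := rfl
theorem F187550 : act 1 n40605 = n39611 := d13_1 D40605 (iv D39611) (iv F182869)
theorem F187551 : act 5 n40605 = n40061 := d35_1 D40605 (iv D40061) (iv D38917) (iv F177689) D39491
theorem F187552 : act 8 n40605 = n39494 := d40_2 (iv F182870) D40605 (iv D39494)
def n40606 : Q := act 9 n39491
theorem D40606 : act 9 n39491 = n40606 := rfl
theorem F187553 : act 1 n40606 = n39612 := d16_1 D40606 (iv D39612) (iv F182869)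
theorem F187554 : act 5 n40606 = n39492 := d38_1 D40606 (iv D39492) D39491
def n40607 : Q := act 8 n39495
theorem D40607 : act 8 n39495 = n40607 := rfl
theorem F187555 : act 1 n40607 = n39614 := d15_1 D40607 (iv D39614) (iv F182881)
theorem F187556 : act 5 n40607 = n39762 := d37_1 D40607 (iv D39762) F178959 (iv F177694) (iv F182882)
def n40608 : Q := act 4 n39496
theorem D40608 : act 4 n39496 = n40608 := rfl
theorem F187557 : act 1 n40608 = n40160 := d11_1 D40608 F185091 (iv F182883)
theorem F187558 : act 3 n40608 = n39755 := d24_1 D40608 (iv D39755) F178948 (iv F177715) (iv F182884)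
theorem F187559 : act 5 n40608 = n40608 := d30_2 D39496 D40608 (iv D40608) (iv D39496) F177705
theorem F187560 : act 6 n40608 = n40052 := d31_2 (iv F182885) D40608 (iv D40052)
theorem F187561 : act 9 n40608 = n39517 := d34_2 (iv F182886) D40608 (iv D39517)
def n40609 : Q := act 8 n39496
theorem D40609 : act 8 n39496 = n40609 := rfl
theorem F187562 : act 1 n40609 = n40158 := d15_1 D40609 F185088 (iv F182883)
theorem F187563 : act 3 n40609 = n39498 := d28_1 D40609 (iv D39498) (iv F182884)
theorem F187564 : act 6 n40609 = n40053 := d40_1 D40609 (iv D40053) (iv F182885)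
def n40610 : Q := act 5 n39497
theorem D40610 : act 5 n39497 = n40610 := rfl
theorem F187565 : act 1 n40610 = n39818 := d12_1 D40610 F184137 (iv F182887)
theorem F187566 : act 3 n40610 = n39499 := d25_1 D40610 (iv D39499) (iv F182888)
theorem F187567 : act 6 n40610 = n39779 := d35_2 (iv F182890) D40610 F184025 F179021 (iv F177710)
theorem F187568 : act 9 n40610 = n39778 := d38_2 (iv F182891) D40610 F184022
def n40611 : Q := act 5 n39498
theorem D40611 : act 5 n39498 = n40611 := rfl
theorem F187569 : act 1 n40611 = n39821 := d12_1 D40611 F184145 (iv F182892)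
theorem F187570 : act 2 n40611 = n39501 := d19_1 D40611 (iv D39501) (iv F182893)
theorem F187571 : act 6 n40611 = n39810 := d35_2 (iv F182895) D40611 (iv D39810) F179114 (iv F179973)
theorem F187572 : act 8 n40611 = n39499 := d37_2 D39498 D40611 (iv D39499) (iv D38313) D38312
def n40612 : Q := act 9 n39498
theorem D40612 : act 9 n39498 = n40612 := rfl
theorem F187573 : act 1 n40612 = n40165 := d16_1 D40612 (iv D40165) (iv F182892)
theorem F187574 : act 2 n40612 = n39502 := d23_1 D40612 (iv D39502) (iv F182893)
theorem F187575 : act 4 n40612 = n39757 := d34_1 D40612 (iv D39757) (iv F182894)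
theorem F187576 : act 6 n40612 = n40054 := d41_1 D40612 (iv D40054) (iv F182895)
theorem F187577 : act 8 n40612 = n39521 := d44_1 D40612 (iv D39521) (iv D38333) (iv F177717) D39498
def n40613 : Q := act 4 n39499
theorem D40613 : act 4 n39499 = n40613 := rfl
theorem F187578 : act 0 n40613 = n40175 := d3_1 D40613 (iv F187289) F187286
theorem F187579 : act 1 n40613 = n39824 := d11_1 D40613 F184151 (iv F182896)
theorem F187580 : act 2 n40613 = n39503 := d18_1 D40613 (iv D39503) (iv F182897)
theorem F187581 : act 5 n40613 = n39500 := d30_2 D39499 D40613 (iv D39500) (iv D38314) (iv F177720)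
theorem F187582 : act 6 n40613 = n39812 := d31_2 (iv F182898) D40613 (iv D39812)
def n40614 : Q := act 3 n39500
theorem D40614 : act 3 n39500 = n40614 := rfl
theorem F187583 : act 0 n40614 = n40174 := d2_1 D40614 F185120 (iv F182899)
theorem F187584 : act 1 n40614 = n39849 := d10_1 D40614 F184209 (iv F182900)
theorem F187585 : act 4 n40614 = n40614 := d24_2 D39500 D40614 (iv D40614) (iv D39500) F177725
theorem F187586 : act 6 n40614 = n39694 := d26_2 (iv F182902) D40614 (iv D39694)
theorem F187587 : act 8 n40614 = n39699 := d28_2 (iv F182903) D40614 F183735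
def n40615 : Q := act 4 n39501
theorem D40615 : act 4 n39501 = n40615 := rfl
theorem F187588 : act 1 n40615 = n39625 := d11_1 D40615 (iv D39625) (iv F182904)
theorem F187589 : act 5 n40615 = n39758 := d30_2 D39501 D40615 (iv D39758) (iv D38599) (iv F177735)
theorem F187590 : act 8 n40615 = n39503 := d33_2 (iv F182905) D40615 (iv D39503)
def n40616 : Q := act 6 n39501
theorem D40616 : act 6 n39501 = n40616 := rfl
theorem F187591 : act 1 n40616 = n39626 := d13_1 D40616 (iv D39626) (iv F182904)
theorem F187592 : act 2 n40616 = n39810 := d20_1 D40616 (iv F187571) F187570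
theorem F187593 : act 5 n40616 = n39754 := d35_1 D40616 F183956 (iv D38912) (iv F177736) D39501
theorem F187594 : act 8 n40616 = n39504 := d40_2 (iv F182905) D40616 (iv D39504)
def n40617 : Q := act 9 n39501
theorem D40617 : act 9 n39501 = n40617 := rfl
theorem F187595 : act 1 n40617 = n39627 := d16_1 D40617 (iv D39627) (iv F182904)
theorem F187596 : act 5 n40617 = n39502 := d38_1 D40617 (iv D39502) D39501
def n40618 : Q := act 3 n39503
theorem D40618 : act 3 n39503 = n40618 := rfl
theorem F187597 : act 1 n40618 = n39628 := d10_1 D40618 (iv D39628) (iv F182910)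
theorem F187598 : act 5 n40618 = n39507 := d25_2 (iv F182911) D40618 (iv D39507)
def n40619 : Q := act 6 n39503
theorem D40619 : act 6 n39503 = n40619 := rfl
theorem F187599 : act 1 n40619 = n39629 := d13_1 D40619 (iv D39629) (iv F182910)
theorem F187600 : act 2 n40619 = n39812 := d20_1 D40619 (iv F187582) F187580
theorem F187601 : act 4 n40619 = n39504 := d31_1 D40619 (iv D39504) D39503
theorem F187602 : act 5 n40619 = n39696 := d35_1 D40619 (iv D39696) F178630 (iv F177753) (iv F182911)
theorem F187603 : act 9 n40619 = n40175 := d41_2 F185797 D40619 (iv F185796)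
def n40620 : Q := act 7 n39504
theorem D40620 : act 7 n39504 = n40620 := rfl
theorem F187604 : act 1 n40620 = n39631 := d14_1 D40620 (iv D39631) (iv F182912)
theorem F187605 : act 2 n40620 = n39789 := d21_1 D40620 F184064 (iv F182913)
theorem F187606 : act 5 n40620 = n39506 := d36_1 D40620 (iv D39506) (iv F182914)
theorem F187607 : act 9 n40620 = n39924 := d43_2 F187292 D40620 (iv F187291)
def n40621 : Q := act 8 n39505
theorem D40621 : act 8 n39505 = n40621 := rfl
theorem F187608 : act 0 n40621 = n39810 := d7_1 D40621 F184119 (iv F182915)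
theorem F187609 : act 1 n40621 = n39633 := d15_1 D40621 (iv D39633) (iv F182916)
theorem F187610 : act 5 n40621 = n39528 := d37_1 D40621 (iv D39528) F177833 (iv F177742) (iv F182917)
def n40622 : Q := act 2 n39507
theorem D40622 : act 2 n39507 = n40622 := rfl
theorem F187611 : act 4 n40622 = n39508 := d18_2 (iv F182925) D40622 (iv D39508)
theorem F187612 : act 6 n40622 = n39698 := d20_2 (iv F182926) D40622 (iv D39698)
theorem F187613 : act 8 n40622 = n39763 := d22_2 (iv F182927) D40622 (iv D39763)
def n40623 : Q := act 1 n39508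
theorem D40623 : act 1 n39508 = n40623 := rfl
theorem F187614 : act 0 n40623 = n40102 := d0_1 D40623 (iv F186102) F186101 (iv F187325) F187324
theorem F187615 : act 2 n40623 = n39552 := d9_2 D39508 D40623 F183097 (iv D38448) (iv F177755)
theorem F187616 : act 3 n40623 = n40623 := d10_2 F182928 D40623 (iv D40623)
theorem F187617 : act 6 n40623 = n39687 := d13_2 (iv F182929) D40623 F183668
theorem F187618 : act 8 n40623 = n39710 := d15_2 (iv F182930) D40623 F183798
theorem F187619 : act 9 n40623 = n39551 := d16_2 F185833 D40623 (iv F185829)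
def n40624 : Q := act 5 n39509
theorem D40624 : act 5 n39509 = n40624 := rfl
theorem F187620 : act 0 n40624 = n39513 := d4_1 D40624 (iv D39513) (iv F182931)
theorem F187621 : act 3 n40624 = n39510 := d25_1 D40624 (iv D39510) (iv F182932)
theorem F187622 : act 6 n40624 = n39653 := d35_2 D39509 D40624 F183507 F178349 (iv F177761)
theorem F187623 : act 9 n40624 = n39652 := d38_2 (iv F182934) D40624 F183504
def n40625 : Q := act 8 n39510
theorem D40625 : act 8 n39510 = n40625 := rfl
theorem F187624 : act 0 n40625 = n39515 := d7_1 D40625 (iv D39515) (iv F182935)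
theorem F187625 : act 2 n40625 = n39524 := d22_1 D40625 F182990 (iv F182936)
theorem F187626 : act 4 n40625 = n39520 := d33_1 D40625 F182973 (iv F182937)
theorem F187627 : act 6 n40625 = n39659 := d40_1 D40625 (iv D39659) (iv F182938)
def n40626 : Q := act 5 n39511
theorem D40626 : act 5 n39511 = n40626 := rfl
theorem F187628 : act 1 n40626 = n39945 := d12_1 D40626 F184564 (iv F182940)
theorem F187629 : act 2 n40626 = n39513 := d19_1 D40626 (iv D39513) (iv F182941)
theorem F187630 : act 3 n40626 = n39636 := d25_1 D40626 (iv D39636) (iv F182942)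
theorem F187631 : act 6 n40626 = n39937 := d35_2 D39511 D40626 (iv D39937) F179595 (iv F177771)
theorem F187632 : act 9 n40626 = n40021 := d38_2 (iv F182944) D40626 F184789
def n40627 : Q := act 8 n39511
theorem D40627 : act 8 n39511 = n40627 := rfl
theorem F187633 : act 0 n40627 = n40119 := d7_1 D40627 (iv F187012) F187005
theorem F187634 : act 1 n40627 = n39925 := d15_1 D40627 F184503 (iv F182940)
theorem F187635 : act 2 n40627 = n39514 := d22_1 D40627 (iv D39514) (iv F182941)
theorem F187636 : act 3 n40627 = n39637 := d28_1 D40627 (iv D39637) (iv F182942)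
theorem F187637 : act 4 n40627 = n40627 := d33_1 D40627 (iv D40627) F182943
theorem F187638 : act 6 n40627 = n39512 := d40_1 D40627 (iv D39512) D39511
theorem F187639 : act 7 n40627 = n39569 := d42_1 D40627 (iv F187394) F187393
theorem F187640 : act 9 n40627 = n39568 := d44_2 (iv F182944) D40627 (iv F186018) (iv F186019) F183813
def n40628 : Q := act 4 n39513
theorem D40628 : act 4 n39513 = n40628 := rfl
theorem F187641 : act 1 n40628 = n39517 := d11_1 D40628 (iv D39517) (iv F182953)
theorem F187642 : act 5 n40628 = n40628 := d30_2 D39513 D40628 (iv D40628) (iv D39513) F177783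
theorem F187643 : act 6 n40628 = n40161 := d31_2 (iv F182955) D40628 F185093
theorem F187644 : act 9 n40628 = n40160 := d34_2 (iv F182956) D40628 F185091
def n40629 : Q := act 8 n39513
theorem D40629 : act 8 n39513 = n40629 := rfl
theorem F187645 : act 1 n40629 = n39518 := d15_1 D40629 (iv D39518) (iv F182953)
theorem F187646 : act 3 n40629 = n39515 := d28_1 D40629 (iv D39515) (iv F182954)
theorem F187647 : act 6 n40629 = n40163 := d40_1 D40629 (iv D40163) (iv F182955)
def n40630 : Q := act 5 n39514
theorem D40630 : act 5 n39514 = n40630 := rfl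
theorem F187648 : act 1 n40630 = n39519 := d12_1 D40630 (iv D39519) (iv F182957)
theorem F187649 : act 3 n40630 = n39516 := d25_1 D40630 (iv D39516) (iv F182958)
theorem F187650 : act 6 n40630 = n39752 := d35_2 (iv F182960) D40630 F183947 F178932 (iv F177788)
theorem F187651 : act 9 n40630 = n39751 := d38_2 (iv F182961) D40630 F183945
def n40631 : Q := act 5 n39515
theorem D40631 : act 5 n39515 = n40631 := rfl
theorem F187652 : act 1 n40631 = n39520 := d12_1 D40631 (iv D39520) (iv F182962)
theorem F187653 : act 2 n40631 = n39643 := d19_1 D40631 (iv D39643) (iv F182963)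
theorem F187654 : act 8 n40631 = n39516 := d37_2 D39515 D40631 (iv D39516) (iv D38330) D38329
def n40632 : Q := act 9 n39515
theorem D40632 : act 9 n39515 = n40632 := rfl
theorem F187655 : act 1 n40632 = n39521 := d16_1 D40632 (iv D39521) (iv F182962)
theorem F187656 : act 2 n40632 = n39644 := d23_1 D40632 (iv D39644) (iv F182963)
theorem F187657 : act 6 n40632 = n40166 := d41_1 D40632 F185103 (iv F182964)
theorem F187658 : act 8 n40632 = n40165 := d44_1 D40632 (iv D40165) F180209 (iv F177794) D39515
def n40633 : Q := act 8 n39517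
theorem D40633 : act 8 n39517 = n40633 := rfl
theorem F187659 : act 4 n40633 = n39518 := d33_1 D40633 (iv D39518) D39517
def n40634 : Q := act 5 n39518
theorem D40634 : act 5 n39518 = n40634 := rfl
theorem F187660 : act 3 n40634 = n39520 := d25_1 D40634 (iv D39520) (iv F182968)
theorem F187661 : act 6 n40634 = n39806 := d35_2 F185310 D40634 (iv F186650) F186651 (iv F185309)
theorem F187662 : act 8 n40634 = n39519 := d37_2 D39518 D40634 (iv D39519) (iv D38332) D38331
def n40635 : Q := act 9 n39518
theorem D40635 : act 9 n39518 = n40635 := rfl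
theorem F187663 : act 3 n40635 = n39521 := d29_1 D40635 (iv D39521) (iv F182968)
def n40636 : Q := act 4 n39519
theorem D40636 : act 4 n39519 = n40636 := rfl
theorem F187664 : act 5 n40636 = n40636 := d30_2 D39519 D40636 (iv D40636) (iv D39519) F177801
theorem F187665 : act 6 n40636 = n39804 := d31_2 (iv F182970) D40636 F184102
theorem F187666 : act 9 n40636 = n39803 := d34_2 (iv F182971) D40636 F184100
def n40637 : Q := act 6 n39520
theorem D40637 : act 6 n39520 = n40637 := rfl
theorem F187667 : act 0 n40637 = n40056 := d5_1 D40637 F187348 F187343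
theorem F187668 : act 2 n40637 = n39525 := d20_1 D40637 (iv D39525) (iv F182972)
theorem F187669 : act 3 n40637 = n39806 := d26_1 D40637 (iv F187661) F187660
theorem F187670 : act 4 n40637 = n39659 := d31_1 D40637 (iv F187627) F187626
theorem F187671 : act 8 n40637 = n39522 := d40_2 (iv F182973) D40637 (iv D39522)
theorem F187672 : act 7 n39734 = n40637 := d42_3 F187671 (iv F182980) D39734
def n40638 : Q := act 9 n39520
theorem D40638 : act 9 n39520 = n40638 := rfl
theorem F187673 : act 2 n40638 = n39526 := d23_1 D40638 (iv D39526) (iv F182972)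
theorem F187674 : act 5 n40638 = n39521 := d38_1 D40638 (iv D39521) D39520
def n40639 : Q := act 8 n39523
theorem D40639 : act 8 n39523 = n40639 := rfl
theorem F187675 : act 0 n40639 = n39754 := d7_1 D40639 (iv D39754) (iv F182982)
theorem F187676 : act 2 n40639 = n39528 := d22_1 D40639 (iv D39528) (iv F182983)
theorem F187677 : act 3 n40639 = n39801 := d28_1 D40639 F184097 (iv F182984)
theorem F187678 : act 4 n40639 = n39656 := d33_1 D40639 F183520 (iv F182985)
theorem F187679 : act 6 n40639 = n39655 := d40_1 D40639 F183516 (iv F182987)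
def n40640 : Q := act 9 n39524
theorem D40640 : act 9 n39524 = n40640 := rfl
theorem F187680 : act 0 n40640 = n39644 := d8_1 D40640 (iv D39644) (iv F182988)
theorem F187681 : act 1 n40640 = n39661 := d16_1 D40640 (iv D39661) (iv F182989)
theorem F187682 : act 4 n40640 = n39526 := d34_1 D40640 (iv D39526) D39524
theorem F187683 : act 6 n40640 = n39664 := d41_1 D40640 F183538 F182991
theorem F187684 : act 8 n40640 = n39663 := d44_1 D40640 (iv D39663) F178379 F177824 (iv F182990)
def n40641 : Q := act 7 n39525
theorem D40641 : act 7 n39525 = n40641 := rfl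
theorem F187685 : act 0 n40641 = n40103 := d6_1 D40641 F184979 (iv F182992)
theorem F187686 : act 1 n40641 = n39662 := d14_1 D40641 (iv D39662) (iv F182993)
theorem F187687 : act 2 n40641 = n39734 := d21_1 D40641 F187672 F187668
theorem F187688 : act 4 n40641 = n39592 := d32_1 D40641 F183270 (iv F182994)
theorem F187689 : act 8 n40641 = n39527 := d42_2 (iv F182995) D40641 (iv D39527)
def n40642 : Q := act 9 n39525
theorem D40642 : act 9 n39525 = n40642 := rfl
theorem F187690 : act 0 n40642 = n40134 := d8_1 D40642 (iv D40134) (iv F182992)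
theorem F187691 : act 1 n40642 = n39663 := d16_1 D40642 (iv D39663) (iv F182993)
theorem F187692 : act 4 n40642 = n39664 := d34_1 D40642 F183538 (iv F182994)
theorem F187693 : act 6 n40642 = n39526 := d41_1 D40642 (iv D39526) D39525
theorem F187694 : act 8 n40642 = n39661 := d44_1 D40642 (iv D39661) F178377 F177829 (iv F182995)
def n40643 : Q := act 8 n39526
theorem D40643 : act 8 n39526 = n40643 := rfl
theorem F187695 : act 0 n40643 = n39811 := d7_1 D40643 (iv F187356) F187351
theorem F187696 : act 1 n40643 = n39664 := d15_1 D40643 (iv D39664) (iv F182996)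
theorem F187697 : act 4 n40643 = n39663 := d33_1 D40643 (iv F187684) F187682
theorem F187698 : act 6 n40643 = n39661 := d40_1 D40643 (iv F187694) F187693
theorem F187699 : act 9 n40643 = n39528 := d44_2 D39526 D40643 (iv D39528) (iv D38341) (iv F177818)
def n40644 : Q := act 5 n39530
theorem D40644 : act 5 n39530 = n40644 := rfl
theorem F187700 : act 1 n40644 = n39534 := d12_1 D40644 (iv D39534) (iv F183014)
theorem F187701 : act 3 n40644 = n39531 := d25_1 D40644 (iv D39531) (iv F183015)
theorem F187702 : act 6 n40644 = n39573 := d35_2 D39530 D40644 (iv D39573) (iv D38388) (iv F177857)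
theorem F187703 : act 7 n40644 = n39958 := d36_2 (iv F183017) D40644 F184607
theorem F187704 : act 9 n40644 = n39957 := d38_2 (iv F183018) D40644 F184604
def n40645 : Q := act 8 n39531
theorem D40645 : act 8 n39531 = n40645 := rfl
theorem F187705 : act 1 n40645 = n39536 := d15_1 D40645 (iv D39536) (iv F183019)
theorem F187706 : act 6 n40645 = n39575 := d40_1 D40645 (iv D39575) (iv F183020)
theorem F187707 : act 7 n40645 = n40131 := d42_1 D40645 (iv D40131) (iv F183021)
def n40646 : Q := act 5 n39532
theorem D40646 : act 5 n39532 = n40646 := rfl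
theorem F187708 : act 0 n40646 = n40016 := d4_1 D40646 F184777 (iv F183023)
theorem F187709 : act 1 n40646 = n39537 := d12_1 D40646 (iv D39537) (iv F183024)
theorem F187710 : act 6 n40646 = n40010 := d35_2 (iv F183026) D40646 (iv D40010) F179820 (iv F177866)
theorem F187711 : act 7 n40646 = n40132 := d36_2 (iv F183027) D40646 (iv D40132)
def n40647 : Q := act 4 n39533
theorem D40647 : act 4 n39533 = n40647 := rfl
theorem F187712 : act 0 n40647 = n40041 := d3_1 D40647 F184832 (iv F183028)
theorem F187713 : act 1 n40647 = n39539 := d11_1 D40647 (iv D39539) (iv F183029)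
theorem F187714 : act 2 n40647 = n39855 := d18_1 D40647 F184232 (iv F183030)
theorem F187715 : act 6 n40647 = n39684 := d31_2 (iv F183032) D40647 F183654
theorem F187716 : act 7 n40647 = n40188 := d32_2 (iv F183033) D40647 (iv D40188)
theorem F187717 : act 8 n40647 = n39917 := d33_2 (iv F183034) D40647 F184478
theorem F187718 : act 9 n40647 = n39853 := d34_2 (iv F183035) D40647 F184227
theorem F187719 : act 3 n39872 = n40647 := d28_3 F187717 F184477 (iv F184293)
def n40648 : Q := act 4 n39534
theorem D40648 : act 4 n39534 = n40648 := rfl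
theorem F187720 : act 0 n40648 = n40077 := d3_1 D40648 (iv D40077) (iv F183036)
theorem F187721 : act 5 n40648 = n40648 := d30_2 D39534 D40648 (iv D40648) (iv D39534) F177875
theorem F187722 : act 6 n40648 = n39578 := d31_2 (iv F183038) D40648 (iv D39578)
def n40649 : Q := act 8 n39534
theorem D40649 : act 8 n39534 = n40649 := rfl
theorem F187723 : act 0 n40649 = n40078 := d7_1 D40649 (iv D40078) (iv F183036)
theorem F187724 : act 3 n40649 = n39536 := d28_1 D40649 (iv D39536) (iv F183037)
theorem F187725 : act 6 n40649 = n39579 := d40_1 D40649 (iv D39579) (iv F183038)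
def n40650 : Q := act 5 n39535
theorem D40650 : act 5 n39535 = n40650 := rfl
theorem F187726 : act 0 n40650 = n40079 := d4_1 D40650 (iv D40079) (iv F183039)
theorem F187727 : act 3 n40650 = n39537 := d25_1 D40650 (iv D39537) (iv F183040)
def n40651 : Q := act 5 n39536
theorem D40651 : act 5 n39536 = n40651 := rfl
theorem F187728 : act 0 n40651 = n40081 := d4_1 D40651 (iv D40081) (iv F183043)
theorem F187729 : act 2 n40651 = n39541 := d19_1 D40651 (iv D39541) (iv F183044)
theorem F187730 : act 8 n40651 = n39537 := d37_2 D39536 D40651 (iv D39537) (iv D38352) D38351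
def n40652 : Q := act 9 n39536
theorem D40652 : act 9 n39536 = n40652 := rfl
theorem F187731 : act 0 n40652 = n40082 := d8_1 D40652 (iv D40082) (iv F183043)
theorem F187732 : act 2 n40652 = n39542 := d23_1 D40652 (iv D39542) (iv F183044)
theorem F187733 : act 6 n40652 = n39583 := d41_1 D40652 (iv D39583) (iv F183045)
def n40653 : Q := act 4 n39537
theorem D40653 : act 4 n39537 = n40653 := rfl
theorem F187734 : act 0 n40653 = n40083 := d3_1 D40653 (iv D40083) (iv F183046)
theorem F187735 : act 2 n40653 = n39543 := d18_1 D40653 (iv D39543) (iv F183047)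
theorem F187736 : act 5 n40653 = n39539 := d30_2 D39537 D40653 (iv D39539) (iv D38354) (iv F177885)
theorem F187737 : act 6 n40653 = n40044 := d31_2 F186930 D40653 (iv F186929)
def n40654 : Q := act 9 n39537
theorem D40654 : act 9 n39537 = n40654 := rfl
theorem F187738 : act 0 n40654 = n40084 := d8_1 D40654 (iv D40084) (iv F183046)
theorem F187739 : act 2 n40654 = n39545 := d23_1 D40654 (iv D39545) (iv F183047)
theorem F187740 : act 5 n40654 = n39538 := d38_1 D40654 (iv D39538) D39537
def n40655 : Q := act 3 n39539
theorem D40655 : act 3 n39539 = n40655 := rfl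
theorem F187741 : act 0 n40655 = n40085 := d2_1 D40655 (iv D40085) (iv F183052)
theorem F187742 : act 1 n40655 = n39872 := d10_1 D40655 F187719 F187713
theorem F187743 : act 4 n40655 = n40655 := d24_2 D39539 D40655 (iv D40655) (iv D39539) F177893
theorem F187744 : act 6 n40655 = n39704 := d26_2 (iv F183054) D40655 (iv D39704)
theorem F187745 : act 8 n40655 = n40039 := d28_2 (iv F183055) D40655 F184826
def n40656 : Q := act 9 n39539
theorem D40656 : act 9 n39539 = n40656 := rfl
theorem F187746 : act 0 n40656 = n40086 := d8_1 D40656 (iv D40086) (iv F183052)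
theorem F187747 : act 1 n40656 = n39853 := d16_1 D40656 (iv F187718) F187713
theorem F187748 : act 2 n40656 = n39549 := d23_1 D40656 (iv D39549) (iv F183053)
theorem F187749 : act 4 n40656 = n39540 := d34_1 D40656 (iv D39540) D39539
theorem F187750 : act 6 n40656 = n39705 := d41_1 D40656 (iv D39705) (iv F183054)
def n40657 : Q := act 8 n39540
theorem D40657 : act 8 n39540 = n40657 := rfl
theorem F187751 : act 0 n40657 = n40087 := d7_1 D40657 (iv D40087) (iv F183056)
theorem F187752 : act 1 n40657 = n39857 := d15_1 D40657 F184239 (iv F183057)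
theorem F187753 : act 2 n40657 = n39550 := d22_1 D40657 (iv D39550) (iv F183058)
theorem F187754 : act 3 n40657 = n40657 := d28_1 D40657 (iv D40657) F183059
theorem F187755 : act 6 n40657 = n39706 := d40_1 D40657 (iv D39706) (iv F183061)
theorem F187756 : act 9 n40657 = n39865 := d44_2 D39540 D40657 (iv D39865) F179284 (iv F177895)
def n40658 : Q := act 4 n39541
theorem D40658 : act 4 n39541 = n40658 := rfl
theorem F187757 : act 0 n40658 = n40088 := d3_1 D40658 (iv D40088) (iv F183062)
theorem F187758 : act 8 n40658 = n39543 := d33_2 (iv F183063) D40658 (iv D39543)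
def n40659 : Q := act 6 n39541
theorem D40659 : act 6 n39541 = n40659 := rfl
theorem F187759 : act 0 n40659 = n40089 := d5_1 D40659 (iv D40089) (iv F183062)
theorem F187760 : act 5 n40659 = n39586 := d35_1 D40659 (iv D39586) (iv D38400) (iv F177901) D39541
theorem F187761 : act 8 n40659 = n39544 := d40_2 (iv F183063) D40659 (iv D39544)
def n40660 : Q := act 9 n39541
theorem D40660 : act 9 n39541 = n40660 := rfl
theorem F187762 : act 0 n40660 = n40090 := d8_1 D40660 (iv D40090) (iv F183062)
theorem F187763 : act 5 n40660 = n39542 := d38_1 D40660 (iv D39542) D39541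
def n40661 : Q := act 3 n39543
theorem D40661 : act 3 n39543 = n40661 := rfl
theorem F187764 : act 0 n40661 = n40091 := d2_1 D40661 (iv D40091) (iv F183066)
theorem F187765 : act 1 n40661 = n39678 := d10_1 D40661 F186405 F186402
theorem F187766 : act 5 n40661 = n39548 := d25_2 (iv F183067) D40661 (iv D39548)
def n40662 : Q := act 6 n39543
theorem D40662 : act 6 n39543 = n40662 := rfl
theorem F187767 : act 0 n40662 = n40092 := d5_1 D40662 (iv D40092) (iv F183066)
theorem F187768 : act 2 n40662 = n40044 := d20_1 D40662 (iv F187737) F187735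
theorem F187769 : act 4 n40662 = n39544 := d31_1 D40662 (iv D39544) D39543
theorem F187770 : act 5 n40662 = n39707 := d35_1 D40662 (iv D39707) F178751 (iv F177917) (iv F183067)
def n40663 : Q := act 9 n39543
theorem D40663 : act 9 n39543 = n40663 := rfl
theorem F187771 : act 0 n40663 = n40093 := d8_1 D40663 (iv D40093) (iv F183066)
theorem F187772 : act 4 n40663 = n39545 := d34_1 D40663 (iv D39545) D39543
theorem F187773 : act 5 n40663 = n39549 := d38_1 D40663 (iv D39549) (iv F183067)
def n40664 : Q := act 7 n39544
theorem D40664 : act 7 n39544 = n40664 := rfl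
theorem F187774 : act 0 n40664 = n40094 := d6_1 D40664 (iv D40094) (iv F183068)
theorem F187775 : act 5 n40664 = n39546 := d36_1 D40664 (iv D39546) (iv F183069)
def n40665 : Q := act 9 n39544
theorem D40665 : act 9 n39544 = n40665 := rfl
theorem F187776 : act 0 n40665 = n40095 := d8_1 D40665 (iv D40095) (iv F183068)
theorem F187777 : act 5 n40665 = n39547 := d38_1 D40665 (iv D39547) (iv F183069)
theorem F187778 : act 6 n40665 = n39545 := d41_1 D40665 (iv D39545) D39544
def n40666 : Q := act 8 n39545
theorem D40666 : act 8 n39545 = n40666 := rfl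
theorem F187779 : act 0 n40666 = n40096 := d7_1 D40666 (iv D40096) (iv F183070)
def n40667 : Q := act 2 n39548
theorem D40667 : act 2 n39548 = n40667 := rfl
theorem F187780 : act 0 n40667 = n40099 := d1_1 D40667 (iv D40099) (iv F183079)
theorem F187781 : act 4 n40667 = n39551 := d18_2 (iv F183081) D40667 (iv D39551)
theorem F187782 : act 6 n40667 = n39686 := d20_2 (iv F183082) D40667 F183664
theorem F187783 : act 8 n40667 = n39673 := d22_2 (iv F183083) D40667 F183589
def n40668 : Q := act 9 n39548
theorem D40668 : act 9 n39548 = n40668 := rfl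
theorem F187784 : act 0 n40668 = n40100 := d8_1 D40668 (iv D40100) (iv F183079)
theorem F187785 : act 1 n40668 = n39635 := d16_1 D40668 F183450 (iv F183080)
theorem F187786 : act 3 n40668 = n39549 := d29_1 D40668 (iv D39549) D39548
theorem F187787 : act 4 n40668 = n39552 := d34_1 D40668 (iv D39552) (iv F183081)
theorem F187788 : act 6 n40668 = n39689 := d41_1 D40668 (iv D39689) (iv F183082)
theorem F187789 : act 8 n40668 = n39845 := d44_1 D40668 F184200 F179911 (iv F178517) (iv F183083)
def n40669 : Q := act 8 n39549
theorem D40669 : act 8 n39549 = n40669 := rfl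
theorem F187790 : act 0 n40669 = n40101 := d7_1 D40669 (iv D40101) (iv F183084)
theorem F187791 : act 1 n40669 = n39830 := d15_1 D40669 (iv F186439) F186433
theorem F187792 : act 3 n40669 = n39845 := d28_1 D40669 (iv F187789) F187786
theorem F187793 : act 4 n40669 = n39550 := d33_1 D40669 (iv D39550) (iv F183085)
theorem F187794 : act 6 n40669 = n39711 := d40_1 D40669 (iv D39711) (iv F183086)
theorem F187795 : act 9 n40669 = n39866 := d44_2 D39549 D40669 (iv D39866) (iv F181111) F181110
def n40670 : Q := act 9 n39553
theorem D40670 : act 9 n39553 = n40670 := rfl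
theorem F187796 : act 0 n40670 = n40051 := d8_1 D40670 (iv D40051) (iv F183101)
theorem F187797 : act 2 n40670 = n39555 := d23_1 D40670 (iv D39555) (iv F183102)
theorem F187798 : act 4 n40670 = n39583 := d34_1 D40670 (iv D39583) (iv F183103)
theorem F187799 : act 5 n40670 = n39723 := d38_1 D40670 (iv D39723) (iv F183104)
theorem F187800 : act 7 n40670 = n39609 := d43_1 D40670 (iv D39609) (iv F183105)
theorem F187801 : act 8 n40670 = n39795 := d44_1 D40670 (iv D39795) (iv D38636) (iv F177942) D39553
def n40671 : Q := act 9 n39554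
theorem D40671 : act 9 n39554 = n40671 := rfl
theorem F187802 : act 0 n40671 = n40050 := d8_1 D40671 (iv D40050) (iv F183106)
theorem F187803 : act 2 n40671 = n39723 := d23_1 D40671 (iv D39723) (iv F183107)
theorem F187804 : act 4 n40671 = n39729 := d34_1 D40671 (iv D39729) F183110
theorem F187805 : act 5 n40671 = n39555 := d38_1 D40671 (iv D39555) D39554
theorem F187806 : act 6 n40671 = n39972 := d41_1 D40671 (iv D39972) F183111
theorem F187807 : act 7 n40671 = n39612 := d43_1 D40671 (iv D39612) (iv F183108)
def n40672 : Q := act 4 n39556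
theorem D40672 : act 4 n39556 = n40672 := rfl
theorem F187808 : act 0 n40672 = n40104 := d3_1 D40672 (iv D40104) (iv F183116)
theorem F187809 : act 1 n40672 = n40037 := d11_1 D40672 F184822 (iv F183117)
theorem F187810 : act 3 n40672 = n39792 := d24_1 D40672 (iv D39792) F179079 (iv F177967) (iv F183118)
theorem F187811 : act 5 n40672 = n39665 := d30_2 D39556 D40672 (iv D39665) (iv D38479) (iv F177954)
theorem F187812 : act 7 n40672 = n39615 := d32_2 (iv F183119) D40672 (iv D39615)
theorem F187813 : act 9 n40672 = n39578 := d34_2 (iv F183120) D40672 (iv D39578)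
def n40673 : Q := act 8 n39556
theorem D40673 : act 8 n39556 = n40673 := rfl
theorem F187814 : act 0 n40673 = n40105 := d7_1 D40673 (iv D40105) (iv F183116)
theorem F187815 : act 1 n40673 = n40034 := d15_1 D40673 F184817 (iv F183117)
theorem F187816 : act 3 n40673 = n39558 := d28_1 D40673 (iv D39558) (iv F183118)
theorem F187817 : act 7 n40673 = n39616 := d42_1 D40673 (iv D39616) (iv F183119)
def n40674 : Q := act 5 n39557
theorem D40674 : act 5 n39557 = n40674 := rfl
theorem F187818 : act 0 n40674 = n39894 := d4_1 D40674 (iv D39894) (iv F183121)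
theorem F187819 : act 1 n40674 = n39732 := d12_1 D40674 F183874 (iv F183122)
theorem F187820 : act 2 n40674 = n39984 := d19_1 D40674 (iv D39984) (iv F183123)
theorem F187821 : act 3 n40674 = n39559 := d25_1 D40674 (iv D39559) (iv F183124)
theorem F187822 : act 4 n40674 = n39934 := d30_1 D40674 (iv D39934) F179580 F178406 (iv F183125)
theorem F187823 : act 7 n40674 = n39617 := d36_2 (iv F183127) D40674 (iv D39617)
theorem F187824 : act 9 n40674 = n39906 := d38_2 F183128 D40674 (iv D39906)
def n40675 : Q := act 5 n39558
theorem D40675 : act 5 n39558 = n40675 := rfl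
theorem F187825 : act 0 n40675 = n40106 := d4_1 D40675 (iv D40106) (iv F183129)
theorem F187826 : act 1 n40675 = n39834 := d12_1 D40675 F184179 (iv F183130)
theorem F187827 : act 2 n40675 = n39563 := d19_1 D40675 (iv D39563) (iv F183131)
theorem F187828 : act 7 n40675 = n39619 := d36_2 (iv F183133) D40675 (iv D39619)
theorem F187829 : act 8 n40675 = n39559 := d37_2 D39558 D40675 (iv D39559) (iv D38373) D38372
def n40676 : Q := act 9 n39558
theorem D40676 : act 9 n39558 = n40676 := rfl
theorem F187830 : act 0 n40676 = n40107 := d8_1 D40676 (iv D40107) (iv F183129)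
theorem F187831 : act 1 n40676 = n40167 := d16_1 D40676 (iv D40167) (iv F183130)
theorem F187832 : act 2 n40676 = n39564 := d23_1 D40676 (iv D39564) (iv F183131)
theorem F187833 : act 4 n40676 = n39795 := d34_1 D40676 (iv D39795) (iv F183132)
theorem F187834 : act 7 n40676 = n39620 := d43_1 D40676 (iv D39620) (iv F183133)
theorem F187835 : act 8 n40676 = n39583 := d44_1 D40676 (iv D39583) (iv D38397) (iv F177969) D39558
def n40677 : Q := act 4 n39559
theorem D40677 : act 4 n39559 = n40677 := rfl
theorem F187836 : act 0 n40677 = n40108 := d3_1 D40677 (iv D40108) (iv F183134)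
theorem F187837 : act 1 n40677 = n39840 := d11_1 D40677 F184189 (iv F183135)
theorem F187838 : act 2 n40677 = n39565 := d18_1 D40677 (iv D39565) (iv F183136)
theorem F187839 : act 5 n40677 = n39562 := d30_2 D39559 D40677 (iv D39562) (iv D38376) (iv F177973)
theorem F187840 : act 7 n40677 = n39621 := d32_2 (iv F183137) D40677 (iv D39621)
def n40678 : Q := act 6 n39559
theorem D40678 : act 6 n39559 = n40678 := rfl
theorem F187841 : act 0 n40678 = n40109 := d5_1 D40678 (iv D40109) (iv F183134)
theorem F187842 : act 1 n40678 = n39805 := d13_1 D40678 F184106 (iv F183135)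
theorem F187843 : act 2 n40678 = n39566 := d20_1 D40678 (iv D39566) (iv F183136)
theorem F187844 : act 5 n40678 = n39561 := d35_1 D40678 (iv D39561) (iv D38374) (iv F177974) D39559
theorem F187845 : act 7 n40678 = n39751 := d39_2 (iv F183137) D40678 (iv D39751) F178929 (iv F178241)
def n40679 : Q := act 9 n39559
theorem D40679 : act 9 n39559 = n40679 := rfl
theorem F187846 : act 0 n40679 = n39907 := d8_1 D40679 F184451 (iv F183134)
theorem F187847 : act 1 n40679 = n39843 := d16_1 D40679 (iv D39843) (iv F183135)
theorem F187848 : act 2 n40679 = n39567 := d23_1 D40679 (iv D39567) (iv F183136)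
theorem F187849 : act 3 n40679 = n39906 := d29_1 D40679 (iv F187824) F187821
theorem F187850 : act 5 n40679 = n39560 := d38_1 D40679 (iv D39560) D39559
theorem F187851 : act 7 n40679 = n39622 := d43_1 D40679 (iv D39622) (iv F183137)
def n40680 : Q := act 4 n39563
theorem D40680 : act 4 n39563 = n40680 := rfl
theorem F187852 : act 0 n40680 = n40110 := d3_1 D40680 (iv D40110) (iv F183157)
theorem F187853 : act 5 n40680 = n39800 := d30_2 D39563 D40680 (iv D39800) (iv D38641) (iv F178003)
theorem F187854 : act 7 n40680 = n39625 := d32_2 (iv F183158) D40680 (iv D39625)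
theorem F187855 : act 8 n40680 = n39565 := d33_2 (iv F183159) D40680 (iv D39565)
def n40681 : Q := act 6 n39563
theorem D40681 : act 6 n39563 = n40681 := rfl
theorem F187856 : act 0 n40681 = n40111 := d5_1 D40681 (iv D40111) (iv F183157)
theorem F187857 : act 8 n40681 = n39566 := d40_2 (iv F183159) D40681 (iv D39566)
def n40682 : Q := act 9 n39563
theorem D40682 : act 9 n39563 = n40682 := rfl
theorem F187858 : act 0 n40682 = n40112 := d8_1 D40682 (iv D40112) (iv F183157)
theorem F187859 : act 5 n40682 = n39564 := d38_1 D40682 (iv D39564) D39563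
theorem F187860 : act 7 n40682 = n39627 := d43_1 D40682 (iv D39627) (iv F183158)
def n40683 : Q := act 3 n39565
theorem D40683 : act 3 n39565 = n40683 := rfl
theorem F187861 : act 0 n40683 = n40113 := d2_1 D40683 (iv D40113) (iv F183164)
theorem F187862 : act 4 n40683 = n39678 := d24_2 D39565 D40683 F186405 (iv D40390) F181602
theorem F187863 : act 5 n40683 = n39570 := d25_2 (iv F183165) D40683 (iv D39570)
theorem F187864 : act 7 n40683 = n39628 := d27_2 (iv F183166) D40683 (iv D39628)
def n40684 : Q := act 6 n39565
theorem D40684 : act 6 n39565 = n40684 := rfl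
theorem F187865 : act 0 n40684 = n40114 := d5_1 D40684 (iv D40114) (iv F183164)
theorem F187866 : act 4 n40684 = n39566 := d31_1 D40684 (iv D39566) D39565
theorem F187867 : act 5 n40684 = n40684 := d35_1 D40684 (iv D40684) F183165 F178023 (iv F183165)
def n40685 : Q := act 9 n39565
theorem D40685 : act 9 n39565 = n40685 := rfl
theorem F187868 : act 0 n40685 = n40115 := d8_1 D40685 (iv D40115) (iv F183164)
theorem F187869 : act 4 n40685 = n39567 := d34_1 D40685 (iv D39567) D39565
theorem F187870 : act 5 n40685 = n39571 := d38_1 D40685 (iv D39571) (iv F183165)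
theorem F187871 : act 7 n40685 = n39630 := d43_1 D40685 (iv D39630) (iv F183166)
def n40686 : Q := act 7 n39566
theorem D40686 : act 7 n39566 = n40686 := rfl
theorem F187872 : act 0 n40686 = n40116 := d6_1 D40686 (iv D40116) (iv F183167)
theorem F187873 : act 2 n40686 = n39751 := d21_1 D40686 (iv F187845) F187843
theorem F187874 : act 5 n40686 = n39568 := d36_1 D40686 (iv D39568) (iv F183168)
theorem F187875 : act 6 n40686 = n39631 := d39_1 D40686 (iv D39631) (iv D38441) (iv F178006) D39566
def n40687 : Q := act 9 n39566
theorem D40687 : act 9 n39566 = n40687 := rfl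
theorem F187876 : act 0 n40687 = n40117 := d8_1 D40687 (iv D40117) (iv F183167)
theorem F187877 : act 5 n40687 = n39569 := d38_1 D40687 (iv D39569) (iv F183168)
theorem F187878 : act 6 n40687 = n39567 := d41_1 D40687 (iv D39567) D39566
def n40688 : Q := act 8 n39567
theorem D40688 : act 8 n39567 = n40688 := rfl
theorem F187879 : act 0 n40688 = n40118 := d7_1 D40688 (iv D40118) (iv F183169)
theorem F187880 : act 5 n40688 = n39592 := d37_1 D40688 (iv D39592) F178109 (iv F178011) (iv F183170)
theorem F187881 : act 7 n40688 = n39633 := d42_1 D40688 (iv D39633) (iv F183171)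
def n40689 : Q := act 5 n39572
theorem D40689 : act 5 n39572 = n40689 := rfl
theorem F187882 : act 2 n40689 = n39573 := d19_1 D40689 (iv D39573) (iv F183188)
theorem F187883 : act 7 n40689 = n39636 := d36_2 (iv F183190) D40689 (iv D39636)
theorem F187884 : act 9 n40689 = n40029 := d38_2 (iv F183191) D40689 F184808
def n40690 : Q := act 4 n39573
theorem D40690 : act 4 n39573 = n40690 := rfl
theorem F187885 : act 1 n40690 = n39578 := d11_1 D40690 (iv D39578) (iv F183192)
theorem F187886 : act 3 n40690 = n40073 := d24_1 D40690 (iv D40073) (iv F182522) F182523 (iv F183193)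
theorem F187887 : act 5 n40690 = n39668 := d30_2 D39573 D40690 (iv D39668) (iv D38483) (iv F178041)
theorem F187888 : act 7 n40690 = n39638 := d32_2 (iv F183194) D40690 (iv D39638)
theorem F187889 : act 9 n40690 = n40037 := d34_2 (iv F183195) D40690 F184822
def n40691 : Q := act 8 n39573
theorem D40691 : act 8 n39573 = n40691 := rfl
theorem F187890 : act 1 n40691 = n39579 := d15_1 D40691 (iv D39579) (iv F183192)
theorem F187891 : act 3 n40691 = n39575 := d28_1 D40691 (iv D39575) (iv F183193)
theorem F187892 : act 7 n40691 = n39639 := d42_1 D40691 (iv D39639) (iv F183194)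
def n40692 : Q := act 5 n39574
theorem D40692 : act 5 n39574 = n40692 := rfl
theorem F187893 : act 0 n40692 = n39725 := d4_1 D40692 (iv D39725) (iv F183196)
theorem F187894 : act 1 n40692 = n39580 := d12_1 D40692 (iv D39580) (iv F183197)
theorem F187895 : act 3 n40692 = n39576 := d25_1 D40692 (iv D39576) (iv F183198)
theorem F187896 : act 4 n40692 = n39760 := d30_1 D40692 F183968 F178961 F178429 (iv F183199)
theorem F187897 : act 6 n40692 = n40008 := d35_2 (iv F183200) D40692 (iv D40008) (iv D38854) F178049
theorem F187898 : act 7 n40692 = n39640 := d36_2 (iv F183201) D40692 (iv D39640)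
def n40693 : Q := act 5 n39575
theorem D40693 : act 5 n39575 = n40693 := rfl
theorem F187899 : act 0 n40693 = n39726 := d4_1 D40693 (iv F187446) F187444
theorem F187900 : act 1 n40693 = n39582 := d12_1 D40693 (iv D39582) (iv F183202)
theorem F187901 : act 4 n40693 = n39719 := d30_1 D40693 (iv D39719) (iv F182517) D40539 (iv F187191)
theorem F187902 : act 7 n40693 = n39643 := d36_2 (iv F183203) D40693 (iv D39643)
theorem F187903 : act 8 n40693 = n39576 := d37_2 D39575 D40693 (iv D39576) (iv D38391) D38390
theorem F187904 : act 6 n40009 = n40693 := d40_3 F187903 F183207 D40009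
def n40694 : Q := act 9 n39575
theorem D40694 : act 9 n39575 = n40694 := rfl
theorem F187905 : act 1 n40694 = n39583 := d16_1 D40694 (iv D39583) (iv F183202)
theorem F187906 : act 7 n40694 = n39644 := d43_1 D40694 (iv D39644) (iv F183203)
theorem F187907 : act 8 n40694 = n40167 := d44_1 D40694 (iv D40167) F180215 (iv F178052) D39575
def n40695 : Q := act 9 n39576
theorem D40695 : act 9 n39576 = n40695 := rfl
theorem F187908 : act 0 n40695 = n39595 := d8_1 D40695 F183284 (iv F183204)
theorem F187909 : act 1 n40695 = n39584 := d16_1 D40695 (iv D39584) (iv F183205)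
theorem F187910 : act 4 n40695 = n39721 := d34_1 D40695 (iv D39721) (iv F183206)
theorem F187911 : act 5 n40695 = n39577 := d38_1 D40695 (iv D39577) D39576
theorem F187912 : act 6 n40695 = n39984 := d41_1 D40695 F184689 (iv F183207)
theorem F187913 : act 7 n40695 = n39646 := d43_1 D40695 (iv D39646) (iv F183208)
def n40696 : Q := act 8 n39578
theorem D40696 : act 8 n39578 = n40696 := rfl
theorem F187914 : act 0 n40696 = n40123 := d7_1 D40696 (iv D40123) (iv F183215)
theorem F187915 : act 4 n40696 = n39579 := d33_1 D40696 (iv D39579) D39578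
theorem F187916 : act 7 n40696 = n39648 := d42_1 D40696 (iv D39648) (iv F183217)
def n40697 : Q := act 5 n39579
theorem D40697 : act 5 n39579 = n40697 := rfl
theorem F187917 : act 0 n40697 = n40124 := d4_1 D40697 (iv D40124) (iv F183218)
theorem F187918 : act 3 n40697 = n39582 := d25_1 D40697 (iv D39582) (iv F183219)
theorem F187919 : act 7 n40697 = n39649 := d36_2 (iv F183220) D40697 (iv D39649)
theorem F187920 : act 8 n40697 = n39580 := d37_2 D39579 D40697 (iv D39580) (iv D38395) D38394
theorem F187921 : act 4 n39831 = n40697 := d33_3 F187920 F183223 (iv F184175)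
def n40698 : Q := act 9 n39579
theorem D40698 : act 9 n39579 = n40698 := rfl
theorem F187922 : act 0 n40698 = n40125 := d8_1 D40698 (iv D40125) (iv F183218)
theorem F187923 : act 3 n40698 = n39583 := d29_1 D40698 (iv D39583) (iv F183219)
theorem F187924 : act 7 n40698 = n39650 := d43_1 D40698 (iv D39650) (iv F183220)
def n40699 : Q := act 9 n39580
theorem D40699 : act 9 n39580 = n40699 := rfl
theorem F187925 : act 0 n40699 = n39909 := d8_1 D40699 F184458 (iv F183221)
theorem F187926 : act 2 n40699 = n40010 := d23_1 D40699 (iv F186532) F186528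
theorem F187927 : act 3 n40699 = n39584 := d29_1 D40699 (iv D39584) (iv F183222)
theorem F187928 : act 4 n40699 = n39839 := d34_1 D40699 (iv D39839) (iv F183223)
theorem F187929 : act 5 n40699 = n39581 := d38_1 D40699 (iv D39581) D39580
theorem F187930 : act 7 n40699 = n39653 := d43_1 D40699 (iv D39653) (iv F183224)
def n40700 : Q := act 9 n39582
theorem D40700 : act 9 n39582 = n40700 := rfl
theorem F187931 : act 0 n40700 = n40126 := d8_1 D40700 (iv D40126) (iv F183232)
theorem F187932 : act 2 n40700 = n39587 := d23_1 D40700 (iv D39587) (iv F183233)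
theorem F187933 : act 4 n40700 = n39731 := d34_1 D40700 (iv D39731) (iv F183234)
theorem F187934 : act 5 n40700 = n39583 := d38_1 D40700 (iv D39583) D39582
theorem F187935 : act 7 n40700 = n39657 := d43_1 D40700 (iv D39657) (iv F183235)
def n40701 : Q := act 8 n39584
theorem D40701 : act 8 n39584 = n40701 := rfl
theorem F187936 : act 0 n40701 = n40127 := d7_1 D40701 (iv D40127) (iv F183240)
theorem F187937 : act 2 n40701 = n39592 := d22_1 D40701 (iv D39592) (iv F183241)
theorem F187938 : act 4 n40701 = n39734 := d33_1 D40701 (iv D39734) (iv F183242)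
theorem F187939 : act 7 n40701 = n39659 := d42_1 D40701 (iv D39659) (iv F183244)
def n40702 : Q := act 3 n39585
theorem D40702 : act 3 n39585 = n40702 := rfl
theorem F187940 : act 0 n40702 = n40121 := d2_1 D40702 F185021 (iv F183245)
theorem F187941 : act 2 n40702 = n39815 := d17_1 D40702 F184131 F179130 (iv F178846) (iv F183246)
theorem F187942 : act 5 n40702 = n39728 := d25_2 (iv F183247) D40702 F183864
theorem F187943 : act 7 n40702 = n39660 := d27_2 (iv F183248) D40702 (iv D39660)
theorem F187944 : act 8 n40702 = n39588 := d28_2 (iv F183249) D40702 (iv D39588)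
def n40703 : Q := act 6 n39585
theorem D40703 : act 6 n39585 = n40703 := rfl
theorem F187945 : act 0 n40703 = n40076 := d5_1 D40703 F184922 (iv F183245)
theorem F187946 : act 2 n40703 = n39730 := d20_1 D40703 (iv D39730) (iv F183246)
theorem F187947 : act 4 n40703 = n39586 := d31_1 D40703 (iv D39586) D39585
theorem F187948 : act 5 n40703 = n40024 := d35_1 D40703 (iv D40024) (iv D38867) (iv F178845) (iv F183247)
theorem F187949 : act 8 n40703 = n39589 := d40_2 (iv F183249) D40703 (iv D39589)
def n40704 : Q := act 9 n39585
theorem D40704 : act 9 n39585 = n40704 := rfl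
theorem F187950 : act 0 n40704 = n40122 := d8_1 D40704 (iv D40122) (iv F183245)
theorem F187951 : act 2 n40704 = n39731 := d23_1 D40704 (iv D39731) (iv F183246)
theorem F187952 : act 4 n40704 = n39587 := d34_1 D40704 (iv D39587) D39585
theorem F187953 : act 5 n40704 = n39729 := d38_1 D40704 (iv D39729) (iv F183247)
theorem F187954 : act 7 n40704 = n39661 := d43_1 D40704 (iv D39661) (iv F183248)
def n40705 : Q := act 7 n39586
theorem D40705 : act 7 n39586 = n40705 := rfl
theorem F187955 : act 0 n40705 = n40128 := d6_1 D40705 (iv D40128) (iv F183250)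
theorem F187956 : act 6 n40705 = n39662 := d39_1 D40705 (iv D39662) (iv D38473) (iv F178098) D39586
theorem F187957 : act 8 n40705 = n39590 := d42_2 (iv F183251) D40705 (iv D39590)
def n40706 : Q := act 9 n39586
theorem D40706 : act 9 n39586 = n40706 := rfl
theorem F187958 : act 0 n40706 = n40129 := d8_1 D40706 (iv D40129) (iv F183250)
theorem F187959 : act 6 n40706 = n39587 := d41_1 D40706 (iv D39587) D39586
def n40707 : Q := act 8 n39587
theorem D40707 : act 8 n39587 = n40707 := rfl
theorem F187960 : act 0 n40707 = n40130 := d7_1 D40707 (iv D40130) (iv F183252)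
theorem F187961 : act 7 n40707 = n39664 := d42_1 D40707 (iv D39664) (iv F183254)
theorem F187962 : act 9 n40707 = n39592 := d44_2 D39587 D40707 (iv D39592) (iv D38404) (iv F178099)
def n40708 : Q := act 6 n39588
theorem D40708 : act 6 n39588 = n40708 := rfl
theorem F187963 : act 0 n40708 = n40075 := d5_1 D40708 F184919 (iv F183255)
theorem F187964 : act 2 n40708 = n39818 := d20_1 D40708 (iv D39818) (iv F183256)
theorem F187965 : act 3 n40708 = n39589 := d26_1 D40708 (iv D39589) D39588
theorem F187966 : act 5 n40708 = n39712 := d35_1 D40708 (iv D39712) F178784 (iv F178124) (iv F183257)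
def n40709 : Q := act 8 n39591
theorem D40709 : act 8 n39591 = n40709 := rfl
theorem F187967 : act 0 n40709 = n40131 := d7_1 D40709 (iv D40131) (iv F183266)
theorem F187968 : act 6 n40709 = n39592 := d40_1 D40709 (iv D39592) (iv F183268)
def n40710 : Q := act 5 n39593
theorem D40710 : act 5 n39593 = n40710 := rfl
theorem F187969 : act 0 n40710 = n40132 := d4_1 D40710 (iv D40132) (iv F183271)
theorem F187970 : act 1 n40710 = n40029 := d12_1 D40710 F184808 (iv F183272)
theorem F187971 : act 7 n40710 = n40016 := d36_2 (iv F183275) D40710 F184777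
def n40711 : Q := act 5 n39594
theorem D40711 : act 5 n39594 = n40711 := rfl
theorem F187972 : act 1 n40711 = n39596 := d12_1 D40711 (iv D39596) (iv F183276)
theorem F187973 : act 2 n40711 = n39890 := d19_1 D40711 F184369 (iv F183277)
theorem F187974 : act 3 n40711 = n39595 := d25_1 D40711 (iv D39595) (iv F183278)
theorem F187975 : act 6 n40711 = n39885 := d35_2 D39594 D40711 (iv D39885) F179375 (iv F178131)
theorem F187976 : act 9 n40711 = n39725 := d38_2 (iv F183281) D40711 (iv D39725)
def n40712 : Q := act 8 n39595
theorem D40712 : act 8 n39595 = n40712 := rfl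
theorem F187977 : act 1 n40712 = n39597 := d15_1 D40712 (iv D39597) (iv F183282)
theorem F187978 : act 6 n40712 = n39985 := d40_1 D40712 (iv D39985) (iv F183283)
def n40713 : Q := act 4 n39596
theorem D40713 : act 4 n39596 = n40713 := rfl
theorem F187979 : act 0 n40713 = n39914 := d3_1 D40713 (iv D39914) (iv F183285)
theorem F187980 : act 2 n40713 = n39607 := d18_1 D40713 (iv D39607) (iv F183286)
theorem F187981 : act 5 n40713 = n39671 := d30_2 D39596 D40713 (iv D39671) (iv D38491) (iv F178140)
theorem F187982 : act 6 n40713 = n39987 := d31_2 (iv F183288) D40713 (iv D39987)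
theorem F187983 : act 9 n40713 = n39727 := d34_2 (iv F183289) D40713 (iv D39727)
def n40714 : Q := act 8 n39596
theorem D40714 : act 8 n39596 = n40714 := rfl
theorem F187984 : act 0 n40714 = n39912 := d7_1 D40714 F184466 (iv F183285)
theorem F187985 : act 2 n40714 = n39608 := d22_1 D40714 (iv D39608) (iv F183286)
theorem F187986 : act 3 n40714 = n39597 := d28_1 D40714 (iv D39597) (iv F183287)
theorem F187987 : act 5 n40714 = n39874 := d37_1 D40714 (iv D39874) (iv D38722) (iv F178141) D39596
theorem F187988 : act 6 n40714 = n39988 := d40_1 D40714 (iv D39988) (iv F183288)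
def n40715 : Q := act 5 n39597
theorem D40715 : act 5 n39597 = n40715 := rfl
theorem F187989 : act 0 n40715 = n39911 := d4_1 D40715 F184463 (iv F183290)
theorem F187990 : act 2 n40715 = n39600 := d19_1 D40715 (iv D39600) (iv F183291)
theorem F187991 : act 3 n40715 = n39874 := d25_1 D40715 (iv F187987) F187986
theorem F187992 : act 8 n40715 = n39598 := d37_2 D39597 D40715 (iv D39598) (iv D38413) D38412
def n40716 : Q := act 9 n39597
theorem D40716 : act 9 n39597 = n40716 := rfl
theorem F187993 : act 0 n40716 = n40133 := d8_1 D40716 (iv D40133) (iv F183290)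
theorem F187994 : act 2 n40716 = n39601 := d23_1 D40716 (iv D39601) (iv F183291)
theorem F187995 : act 6 n40716 = n39990 := d41_1 D40716 (iv D39990) (iv F183292)
theorem F187996 : act 8 n40716 = n39729 := d44_1 D40716 (iv D39729) (iv D38567) (iv F178146) D39597
def n40717 : Q := act 4 n39598
theorem D40717 : act 4 n39598 = n40717 := rfl
theorem F187997 : act 0 n40717 = n39910 := d3_1 D40717 (iv D39910) (iv F183293)
theorem F187998 : act 2 n40717 = n39602 := d18_1 D40717 (iv D39602) (iv F183294)
theorem F187999 : act 5 n40717 = n39599 := d30_2 D39598 D40717 (iv D39599) (iv D38414) (iv F178150)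
theorem F188000 : act 7 n40717 = n39846 := d32_2 F185262 D40717 (iv F185260)
def n40718 : Q := act 4 n39600
theorem D40718 : act 4 n39600 = n40718 := rfl
theorem F188001 : act 0 n40718 = n40066 := d3_1 D40718 F184900 (iv F183301)
theorem F188002 : act 8 n40718 = n39602 := d33_2 (iv F183303) D40718 (iv D39602)
def n40719 : Q := act 6 n39600
theorem D40719 : act 6 n39600 = n40719 := rfl
theorem F188003 : act 0 n40719 = n39756 := d5_1 D40719 F183960 (iv F183301)
theorem F188004 : act 3 n40719 = n39611 := d26_1 D40719 (iv D39611) (iv F183302)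
theorem F188005 : act 5 n40719 = n39996 := d35_1 D40719 (iv D39996) (iv D38841) (iv F178160) D39600
theorem F188006 : act 8 n40719 = n39603 := d40_2 (iv F183303) D40719 (iv D39603)
def n40720 : Q := act 9 n39600
theorem D40720 : act 9 n39600 = n40720 := rfl
theorem F188007 : act 0 n40720 = n40067 := d8_1 D40720 (iv D40067) (iv F183301)
theorem F188008 : act 3 n40720 = n39612 := d29_1 D40720 (iv D39612) (iv F183302)
theorem F188009 : act 5 n40720 = n39601 := d38_1 D40720 (iv D39601) D39600
def n40721 : Q := act 3 n39602
theorem D40721 : act 3 n39602 = n40721 := rfl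
theorem F188010 : act 0 n40721 = n40052 := d2_1 D40721 F184866 (iv F183308)
theorem F188011 : act 4 n40721 = n39613 := d24_2 D39602 D40721 (iv D39613) (iv D38426) (iv F178162)
theorem F188012 : act 5 n40721 = n39605 := d25_2 (iv F183309) D40721 (iv D39605)
theorem F188013 : act 7 n40721 = n39727 := d27_2 F185283 D40721 (iv F185280)
theorem F188014 : act 2 n39792 = n40721 := d21_3 F188013 F183860 (iv F184076)
def n40722 : Q := act 6 n39602
theorem D40722 : act 6 n39602 = n40722 := rfl
theorem F188015 : act 0 n40722 = n39755 := d5_1 D40722 F183958 (iv F183308)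
theorem F188016 : act 4 n40722 = n39603 := d31_1 D40722 (iv D39603) D39602
theorem F188017 : act 5 n40722 = n40722 := d35_1 D40722 (iv D40722) F183309 F178173 (iv F183309)
def n40723 : Q := act 9 n39602
theorem D40723 : act 9 n39602 = n40723 := rfl
theorem F188018 : act 0 n40723 = n40057 := d8_1 D40723 F184883 (iv F183308)
theorem F188019 : act 4 n40723 = n39604 := d34_1 D40723 (iv D39604) D39602
theorem F188020 : act 5 n40723 = n39606 := d38_1 D40723 (iv D39606) (iv F183309)
def n40724 : Q := act 8 n39604
theorem D40724 : act 8 n39604 = n40724 := rfl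
theorem F188021 : act 0 n40724 = n40058 := d7_1 D40724 (iv D40058) (iv F183313)
theorem F188022 : act 3 n40724 = n39614 := d28_1 D40724 (iv D39614) (iv F183314)
theorem F188023 : act 5 n40724 = n39734 := d37_1 D40724 (iv D39734) F178853 (iv F178167) (iv F183315)
def n40725 : Q := act 8 n39607
theorem D40725 : act 8 n39607 = n40725 := rfl
theorem F188024 : act 0 n40725 = n39915 := d7_1 D40725 F184472 (iv F183324)
theorem F188025 : act 3 n40725 = n39648 := d28_1 D40725 (iv D39648) (iv F183325)
theorem F188026 : act 4 n40725 = n39608 := d33_1 D40725 (iv D39608) D39607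
theorem F188027 : act 6 n40725 = n40135 := d40_1 D40725 (iv D40135) (iv F183327)
def n40726 : Q := act 9 n39608
theorem D40726 : act 9 n39608 = n40726 := rfl
theorem F188028 : act 0 n40726 = n39916 := d8_1 D40726 (iv D39916) (iv F183329)
theorem F188029 : act 3 n40726 = n39609 := d29_1 D40726 (iv D39609) (iv F183330)
theorem F188030 : act 5 n40726 = n39875 := d38_1 D40726 (iv D39875) (iv F183331)
theorem F188031 : act 6 n40726 = n40136 := d41_1 D40726 (iv D40136) (iv F183332)
theorem F188032 : act 8 n40726 = n39816 := d44_1 D40726 (iv D39816) (iv D38654) (iv F178186) D39608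
def n40727 : Q := act 3 n39610
theorem D40727 : act 3 n39610 = n40727 := rfl
theorem F188033 : act 0 n40727 = n40053 := d2_1 D40727 F184869 (iv F183339)
theorem F188034 : act 2 n40727 = n39793 := d17_1 D40727 F184077 F179081 (iv F178823) (iv F183340)
theorem F188035 : act 5 n40727 = n39660 := d25_2 (iv F183341) D40727 (iv D39660)
theorem F188036 : act 7 n40727 = n39728 := d27_2 (iv F183342) D40727 F183864
theorem F188037 : act 8 n40727 = n39613 := d28_2 (iv F183343) D40727 (iv D39613)
def n40728 : Q := act 9 n39610
theorem D40728 : act 9 n39610 = n40728 := rfl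
theorem F188038 : act 0 n40728 = n40054 := d8_1 D40728 (iv D40054) (iv F183339)
theorem F188039 : act 2 n40728 = n39722 := d23_1 D40728 (iv D39722) (iv F183340)
theorem F188040 : act 4 n40728 = n39612 := d34_1 D40728 (iv D39612) D39610
theorem F188041 : act 5 n40728 = n39661 := d38_1 D40728 (iv D39661) (iv F183341)
theorem F188042 : act 7 n40728 = n39729 := d43_1 D40728 (iv D39729) (iv F183342)
def n40729 : Q := act 9 n39611
theorem D40729 : act 9 n39611 = n40729 := rfl
theorem F188043 : act 0 n40729 = n39757 := d8_1 D40729 (iv D39757) (iv F183344)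
theorem F188044 : act 2 n40729 = n39741 := d23_1 D40729 (iv D39741) (iv F183345)
theorem F188045 : act 5 n40729 = n40145 := d38_1 D40729 (iv D40145) (iv F183346)
theorem F188046 : act 6 n40729 = n39612 := d41_1 D40729 (iv D39612) D39611
def n40730 : Q := act 8 n39612
theorem D40730 : act 8 n39612 = n40730 := rfl
theorem F188047 : act 0 n40730 = n40059 := d7_1 D40730 F184886 (iv F183348)
theorem F188048 : act 2 n40730 = n40049 := d22_1 D40730 F184856 (iv F183349)
theorem F188049 : act 5 n40730 = n39836 := d37_1 D40730 (iv D39836) F179162 (iv F178198) (iv F183350)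
theorem F188050 : act 9 n40730 = n39614 := d44_2 D39612 D40730 (iv D39614) (iv D38428) (iv F178194)
def n40731 : Q := act 8 n39615
theorem D40731 : act 8 n39615 = n40731 := rfl
theorem F188051 : act 0 n40731 = n40135 := d7_1 D40731 (iv D40135) (iv F183358)
theorem F188052 : act 1 n40731 = n40032 := d15_1 D40731 F184814 (iv F183359)
theorem F188053 : act 3 n40731 = n39814 := d28_1 D40731 (iv D39814) (iv F183360)
theorem F188054 : act 4 n40731 = n39616 := d33_1 D40731 (iv D39616) D39615
theorem F188055 : act 6 n40731 = n39915 := d40_1 D40731 F184472 (iv F183362)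
def n40732 : Q := act 5 n39616
theorem D40732 : act 5 n39616 = n40732 := rfl
theorem F188056 : act 0 n40732 = n39968 := d4_1 D40732 F184645 (iv F183364)
theorem F188057 : act 1 n40732 = n39730 := d12_1 D40732 F183869 (iv F183365)
theorem F188058 : act 3 n40732 = n39619 := d25_1 D40732 (iv D39619) (iv F183366)
theorem F188059 : act 6 n40732 = n39719 := d35_2 (iv F183367) D40732 (iv D39719) F178815 D38762
theorem F188060 : act 8 n40732 = n39617 := d37_2 D39616 D40732 (iv D39617) (iv D38431) D38430
theorem F188061 : act 4 n40009 = n40732 := d33_3 F188060 F183371 D40009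
def n40733 : Q := act 9 n39616
theorem D40733 : act 9 n39616 = n40733 := rfl
theorem F188062 : act 0 n40733 = n40136 := d8_1 D40733 (iv D40136) (iv F183364)
theorem F188063 : act 1 n40733 = n40035 := d16_1 D40733 (iv D40035) (iv F183365)
theorem F188064 : act 3 n40733 = n39620 := d29_1 D40733 (iv D39620) (iv F183366)
theorem F188065 : act 6 n40733 = n39916 := d41_1 D40733 (iv D39916) (iv F183367)
theorem F188066 : act 8 n40733 = n39650 := d44_1 D40733 (iv D39650) (iv D38461) (iv F178219) D39616
def n40734 : Q := act 9 n39617
theorem D40734 : act 9 n39617 = n40734 := rfl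
theorem F188067 : act 0 n40734 = n39876 := d8_1 D40734 F184304 (iv F183368)
theorem F188068 : act 1 n40734 = n39733 := d16_1 D40734 (iv D39733) (iv F183369)
theorem F188069 : act 2 n40734 = n39934 := d23_1 D40734 (iv F186798) F186793
theorem F188070 : act 3 n40734 = n39622 := d29_1 D40734 (iv D39622) (iv F183370)
theorem F188071 : act 4 n40734 = n39984 := d34_1 D40734 F184689 (iv F183371)
theorem F188072 : act 5 n40734 = n39618 := d38_1 D40734 (iv D39618) D39617
theorem F188073 : act 6 n40734 = n39721 := d41_1 D40734 (iv D39721) (iv F183372)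
theorem F188074 : act 7 n40734 = n39906 := d43_1 D40734 (iv F187824) F187823
def n40735 : Q := act 4 n39619
theorem D40735 : act 4 n39619 = n40735 := rfl
theorem F188075 : act 0 n40735 = n40137 := d3_1 D40735 (iv D40137) (iv F183381)
theorem F188076 : act 1 n40735 = n39832 := d11_1 D40735 F184176 (iv F183382)
theorem F188077 : act 2 n40735 = n39625 := d18_1 D40735 (iv D39625) (iv F183383)
theorem F188078 : act 5 n40735 = n39820 := d30_2 D39619 D40735 (iv D39820) (iv D38658) (iv F178236)
theorem F188079 : act 6 n40735 = n39758 := d31_2 (iv F183384) D40735 (iv D39758)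
theorem F188080 : act 8 n40735 = n39621 := d33_2 (iv F183385) D40735 (iv D39621)
def n40736 : Q := act 9 n39619
theorem D40736 : act 9 n39619 = n40736 := rfl
theorem F188081 : act 0 n40736 = n40138 := d8_1 D40736 (iv D40138) (iv F183381)
theorem F188082 : act 1 n40736 = n39835 := d16_1 D40736 (iv D39835) (iv F183382)
theorem F188083 : act 2 n40736 = n39627 := d23_1 D40736 (iv D39627) (iv F183383)
theorem F188084 : act 5 n40736 = n39620 := d38_1 D40736 (iv D39620) D39619
theorem F188085 : act 6 n40736 = n39759 := d41_1 D40736 (iv D39759) (iv F183384)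
def n40737 : Q := act 3 n39621
theorem D40737 : act 3 n39621 = n40737 := rfl
theorem F188086 : act 0 n40737 = n40011 := d2_1 D40737 F184767 (iv F183392)
theorem F188087 : act 1 n40737 = n39838 := d10_1 D40737 F184185 (iv F183393)
theorem F188088 : act 4 n40737 = n40008 := d24_2 D39621 D40737 F184763 (iv F183371) F183370
theorem F188089 : act 5 n40737 = n39623 := d25_2 (iv F183395) D40737 (iv D39623)
theorem F188090 : act 6 n40737 = n39760 := d26_2 (iv F183396) D40737 (iv D39760)
def n40738 : Q := act 9 n39621
theorem D40738 : act 9 n39621 = n40738 := rfl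
theorem F188091 : act 0 n40738 = n40139 := d8_1 D40738 (iv D40139) (iv F183392)
theorem F188092 : act 1 n40738 = n39841 := d16_1 D40738 (iv D39841) (iv F183393)
theorem F188093 : act 2 n40738 = n39630 := d23_1 D40738 (iv D39630) (iv F183394)
theorem F188094 : act 4 n40738 = n39622 := d34_1 D40738 (iv D39622) D39621
theorem F188095 : act 5 n40738 = n39624 := d38_1 D40738 (iv D39624) (iv F183395)
theorem F188096 : act 6 n40738 = n39761 := d41_1 D40738 (iv D39761) (iv F183396)
def n40739 : Q := act 8 n39622
theorem D40739 : act 8 n39622 = n40739 := rfl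
theorem F188097 : act 0 n40739 = n40140 := d7_1 D40739 (iv D40140) (iv F183397)
theorem F188098 : act 1 n40739 = n39844 := d15_1 D40739 (iv D39844) (iv F183398)
theorem F188099 : act 2 n40739 = n39633 := d22_1 D40739 (iv D39633) (iv F183399)
theorem F188100 : act 5 n40739 = n39659 := d37_1 D40739 (iv D39659) F178371 (iv F178247) (iv F183400)
theorem F188101 : act 6 n40739 = n39762 := d40_1 D40739 (iv D39762) (iv F183401)
def n40740 : Q := act 3 n39625
theorem D40740 : act 3 n39625 = n40740 := rfl
theorem F188102 : act 0 n40740 = n40141 := d2_1 D40740 (iv D40141) (iv F183412)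
theorem F188103 : act 5 n40740 = n39831 := d25_2 (iv F183413) D40740 (iv D39831)
theorem F188104 : act 8 n40740 = n39628 := d28_2 (iv F183414) D40740 (iv D39628)
def n40741 : Q := act 6 n39625
theorem D40741 : act 6 n39625 = n40741 := rfl
theorem F188105 : act 0 n40741 = n40142 := d5_1 D40741 (iv D40142) (iv F183412)
theorem F188106 : act 2 n40741 = n39758 := d20_1 D40741 (iv F188079) F188077
theorem F188107 : act 4 n40741 = n39626 := d31_1 D40741 (iv D39626) D39625
theorem F188108 : act 8 n40741 = n39629 := d40_2 (iv F183414) D40741 (iv D39629)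
def n40742 : Q := act 9 n39625
theorem D40742 : act 9 n39625 = n40742 := rfl
theorem F188109 : act 0 n40742 = n40143 := d8_1 D40742 (iv D40143) (iv F183412)
theorem F188110 : act 4 n40742 = n39627 := d34_1 D40742 (iv D39627) D39625
theorem F188111 : act 5 n40742 = n39833 := d38_1 D40742 (iv D39833) (iv F183413)
def n40743 : Q := act 7 n39626
theorem D40743 : act 7 n39626 = n40743 := rfl
theorem F188112 : act 0 n40743 = n40144 := d6_1 D40743 (iv D40144) (iv F183415)
theorem F188113 : act 2 n40743 = n39748 := d21_1 D40743 F183937 (iv F183416)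
theorem F188114 : act 5 n40743 = n39747 := d36_1 D40743 F183935 (iv F183417)
theorem F188115 : act 8 n40743 = n39631 := d42_2 (iv F183418) D40743 (iv D39631)
def n40744 : Q := act 9 n39626
theorem D40744 : act 9 n39626 = n40744 := rfl
theorem F188116 : act 0 n40744 = n40145 := d8_1 D40744 (iv D40145) (iv F183415)
theorem F188117 : act 2 n40744 = n39759 := d23_1 D40744 (iv D39759) (iv F183416)
theorem F188118 : act 5 n40744 = n39757 := d38_1 D40744 (iv D39757) (iv F183417)
theorem F188119 : act 6 n40744 = n39627 := d41_1 D40744 (iv D39627) D39626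
def n40745 : Q := act 8 n39627
theorem D40745 : act 8 n39627 = n40745 := rfl
theorem F188120 : act 0 n40745 = n40146 := d7_1 D40745 (iv D40146) (iv F183419)
theorem F188121 : act 5 n40745 = n39664 := d37_1 D40745 (iv D39664) F178381 (iv F178264) (iv F183420)
theorem F188122 : act 9 n40745 = n39633 := d44_2 D39627 D40745 (iv D39633) (iv D38442) (iv F178260)
def n40746 : Q := act 2 n39628
theorem D40746 : act 2 n39628 = n40746 := rfl
theorem F188123 : act 0 n40746 = n40147 := d1_1 D40746 (iv D40147) (iv F183421)
theorem F188124 : act 5 n40746 = n39635 := d19_2 (iv F183422) D40746 (iv D39635)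
theorem F188125 : act 9 n40746 = n39678 := d23_2 F187143 D40746 (iv F187141)
def n40747 : Q := act 6 n39628
theorem D40747 : act 6 n39628 = n40747 := rfl
theorem F188126 : act 0 n40747 = n40148 := d5_1 D40747 (iv D40148) (iv F183421)
theorem F188127 : act 3 n40747 = n39629 := d26_1 D40747 (iv D39629) D39628
theorem F188128 : act 5 n40747 = n39699 := d35_1 D40747 (iv D39699) F178668 (iv F178289) (iv F183422)
def n40748 : Q := act 7 n39629
theorem D40748 : act 7 n39629 = n40748 := rfl
theorem F188129 : act 0 n40748 = n40149 := d6_1 D40748 (iv D40149) (iv F183423)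
theorem F188130 : act 2 n40748 = n39750 := d21_1 D40748 F183943 (iv F183424)
theorem F188131 : act 4 n40748 = n39631 := d32_1 D40748 (iv D39631) (iv F183425)
theorem F188132 : act 5 n40748 = n39700 := d36_1 D40748 (iv D39700) (iv F183426)
def n40749 : Q := act 9 n39629
theorem D40749 : act 9 n39629 = n40749 := rfl
theorem F188133 : act 0 n40749 = n40150 := d8_1 D40749 (iv D40150) (iv F183423)
theorem F188134 : act 1 n40749 = n40175 := d16_1 D40749 (iv F187603) F187599
theorem F188135 : act 2 n40749 = n39761 := d23_1 D40749 (iv D39761) (iv F183424)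
theorem F188136 : act 4 n40749 = n39632 := d34_1 D40749 (iv D39632) (iv F183425)
theorem F188137 : act 5 n40749 = n39701 := d38_1 D40749 (iv D39701) (iv F183426)
theorem F188138 : act 6 n40749 = n39630 := d41_1 D40749 (iv D39630) D39629
def n40750 : Q := act 8 n39630
theorem D40750 : act 8 n39630 = n40750 := rfl
theorem F188139 : act 0 n40750 = n40151 := d7_1 D40750 (iv D40151) (iv F183427)
theorem F188140 : act 4 n40750 = n39633 := d33_1 D40750 (iv D39633) (iv F183428)
def n40751 : Q := act 9 n39631
theorem D40751 : act 9 n39631 = n40751 := rfl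
theorem F188141 : act 0 n40751 = n40152 := d8_1 D40751 (iv D40152) (iv F183430)
theorem F188142 : act 1 n40751 = n39924 := d16_1 D40751 (iv F187607) F187604
theorem F188143 : act 2 n40751 = n39752 := d23_1 D40751 (iv D39752) (iv F183431)
theorem F188144 : act 5 n40751 = n39634 := d38_1 D40751 (iv D39634) (iv F183432)
theorem F188145 : act 7 n40751 = n39632 := d43_1 D40751 (iv D39632) D39631
def n40752 : Q := act 8 n39632
theorem D40752 : act 8 n39632 = n40752 := rfl
theorem F188146 : act 0 n40752 = n40153 := d7_1 D40752 (iv D40153) (iv F183433)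
theorem F188147 : act 2 n40752 = n39762 := d22_1 D40752 (iv D39762) (iv F183434)
theorem F188148 : act 6 n40752 = n39633 := d40_1 D40752 (iv D39633) (iv F183436)
def n40753 : Q := act 4 n39636
theorem D40753 : act 4 n39636 = n40753 := rfl
theorem F188149 : act 2 n40753 = n39638 := d18_1 D40753 (iv D39638) (iv F183451)
theorem F188150 : act 5 n40753 = n39673 := d30_2 D39636 D40753 (iv D39673) (iv D38497) (iv F178300)
theorem F188151 : act 6 n40753 = n40028 := d31_2 (iv F183452) D40753 F184805
theorem F188152 : act 9 n40753 = n40027 := d34_2 (iv F183453) D40753 F184802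
def n40754 : Q := act 8 n39636
theorem D40754 : act 8 n39636 = n40754 := rfl
theorem F188153 : act 2 n40754 = n39639 := d22_1 D40754 (iv D39639) (iv F183451)
theorem F188154 : act 6 n40754 = n40030 := d40_1 D40754 (iv D40030) (iv F183452)
def n40755 : Q := act 5 n39637
theorem D40755 : act 5 n39637 = n40755 := rfl
theorem F188155 : act 2 n40755 = n39640 := d19_1 D40755 (iv D39640) (iv F183454)
def n40756 : Q := act 8 n39638
theorem D40756 : act 8 n39638 = n40756 := rfl
theorem F188156 : act 1 n40756 = n39648 := d15_1 D40756 (iv D39648) (iv F183457)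
theorem F188157 : act 4 n40756 = n39639 := d33_1 D40756 (iv D39639) D39638
theorem F188158 : act 6 n40756 = n40038 := d40_1 D40756 (iv D40038) (iv F183459)
def n40757 : Q := act 5 n39639
theorem D40757 : act 5 n39639 = n40757 := rfl
theorem F188159 : act 1 n40757 = n39649 := d12_1 D40757 (iv D39649) (iv F183461)
theorem F188160 : act 3 n40757 = n39643 := d25_1 D40757 (iv D39643) (iv F183462)
theorem F188161 : act 8 n40757 = n39640 := d37_2 D39639 D40757 (iv D39640) (iv D38452) D38451
def n40758 : Q := act 9 n39639
theorem D40758 : act 9 n39639 = n40758 := rfl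
theorem F188162 : act 1 n40758 = n39650 := d16_1 D40758 (iv D39650) (iv F183461)
theorem F188163 : act 3 n40758 = n39644 := d29_1 D40758 (iv D39644) (iv F183462)
theorem F188164 : act 6 n40758 = n40036 := d41_1 D40758 F184821 (iv F183463)
theorem F188165 : act 8 n40758 = n40035 := d44_1 D40758 (iv D40035) F179862 (iv F178308) D39639
def n40759 : Q := act 4 n39640
theorem D40759 : act 4 n39640 = n40759 := rfl
theorem F188166 : act 1 n40759 = n39651 := d11_1 D40759 (iv D39651) (iv F183464)
theorem F188167 : act 3 n40759 = n39750 := d24_1 D40759 (iv D39750) (iv F182568) F182569 (iv F183465)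
theorem F188168 : act 5 n40759 = n39676 := d30_2 D39640 D40759 (iv D39676) (iv D38501) (iv F178311)
theorem F188169 : act 7 n40759 = n39760 := d32_2 F187898 D40759 (iv F187896)
def n40760 : Q := act 6 n39640
theorem D40760 : act 6 n39640 = n40760 := rfl
theorem F188170 : act 1 n40760 = n39652 := d13_1 D40760 (iv D39652) (iv F183464)
theorem F188171 : act 3 n40760 = n39645 := d26_1 D40760 (iv D39645) (iv F183465)
theorem F188172 : act 5 n40760 = n39642 := d35_1 D40760 (iv D39642) (iv D38453) (iv F178312) D39640
def n40761 : Q := act 9 n39640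
theorem D40761 : act 9 n39640 = n40761 := rfl
theorem F188173 : act 1 n40761 = n39653 := d16_1 D40761 (iv D39653) (iv F183464)
theorem F188174 : act 3 n40761 = n39646 := d29_1 D40761 (iv D39646) (iv F183465)
theorem F188175 : act 5 n40761 = n39641 := d38_1 D40761 (iv D39641) D39640
def n40762 : Q := act 6 n39643
theorem D40762 : act 6 n39643 = n40762 := rfl
theorem F188176 : act 1 n40762 = n39656 := d13_1 D40762 (iv D39656) (iv F183475)
theorem F188177 : act 5 n40762 = n40153 := d35_1 D40762 F185081 F180185 (iv F178324) D39643
theorem F188178 : act 8 n40762 = n39645 := d40_2 (iv F183476) D40762 (iv D39645)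
def n40763 : Q := act 9 n39643
theorem D40763 : act 9 n39643 = n40763 := rfl
theorem F188179 : act 1 n40763 = n39657 := d16_1 D40763 (iv D39657) (iv F183475)
theorem F188180 : act 5 n40763 = n39644 := d38_1 D40763 (iv D39644) D39643
def n40764 : Q := act 7 n39645
theorem D40764 : act 7 n39645 = n40764 := rfl
theorem F188181 : act 0 n40764 = n39920 := d6_1 D40764 (iv F187273) F187268
theorem F188182 : act 1 n40764 = n39658 := d14_1 D40764 (iv D39658) (iv F183480)
theorem F188183 : act 2 n40764 = n39721 := d21_1 D40764 (iv F187259) F187254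
theorem F188184 : act 5 n40764 = n39647 := d36_1 D40764 (iv D39647) (iv F183481)
theorem F188185 : act 6 n40764 = n39934 := d39_1 D40764 F184525 (iv F183207) F183208 D39645
theorem F188186 : act 9 n40764 = n39718 := d43_2 F187231 D40764 (iv F187230)
def n40765 : Q := act 8 n39646
theorem D40765 : act 8 n39646 = n40765 := rfl
theorem F188187 : act 1 n40765 = n39659 := d15_1 D40765 (iv D39659) (iv F183482)
theorem F188188 : act 5 n40765 = n39844 := d37_1 D40765 (iv D39844) F179169 (iv F178329) (iv F183483)
def n40766 : Q := act 5 n39648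
theorem D40766 : act 5 n39648 = n40766 := rfl
theorem F188189 : act 0 n40766 = n40155 := d4_1 D40766 (iv D40155) (iv F183491)
theorem F188190 : act 8 n40766 = n39678 := d37_2 D39648 D40766 (iv D39678) (iv D38504) (iv F178341)
def n40767 : Q := act 9 n39648
theorem D40767 : act 9 n39648 = n40767 := rfl
theorem F188191 : act 0 n40767 = n40156 := d8_1 D40767 (iv D40156) (iv F183491)
theorem F188192 : act 4 n40767 = n39650 := d34_1 D40767 (iv D39650) (iv F183492)
def n40768 : Q := act 4 n39649
theorem D40768 : act 4 n39649 = n40768 := rfl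
theorem F188193 : act 0 n40768 = n40157 := d3_1 D40768 (iv D40157) (iv F183493)
theorem F188194 : act 3 n40768 = n39800 := d24_1 D40768 (iv D39800) F183517 (iv D39655) (iv F183494)
theorem F188195 : act 7 n40768 = n39831 := d32_2 F187919 D40768 F187921
theorem F188196 : act 8 n40768 = n39651 := d33_2 (iv F183495) D40768 (iv D39651)
def n40769 : Q := act 6 n39649
theorem D40769 : act 6 n39649 = n40769 := rfl
theorem F188197 : act 0 n40769 = n40158 := d5_1 D40769 (iv D40158) (iv F183493)
theorem F188198 : act 3 n40769 = n39656 := d26_1 D40769 (iv D39656) (iv F183494)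
theorem F188199 : act 8 n40769 = n39652 := d40_2 (iv F183495) D40769 (iv D39652)
def n40770 : Q := act 9 n39649
theorem D40770 : act 9 n39649 = n40770 := rfl
theorem F188200 : act 0 n40770 = n40159 := d8_1 D40770 (iv D40159) (iv F183493)
theorem F188201 : act 3 n40770 = n39657 := d29_1 D40770 (iv D39657) (iv F183494)
theorem F188202 : act 5 n40770 = n39650 := d38_1 D40770 (iv D39650) D39649
def n40771 : Q := act 6 n39651
theorem D40771 : act 6 n39651 = n40771 := rfl
theorem F188203 : act 0 n40771 = n40160 := d5_1 D40771 (iv D40160) (iv F183498)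
theorem F188204 : act 3 n40771 = n39803 := d26_1 D40771 (iv D39803) (iv F183499)
theorem F188205 : act 4 n40771 = n39652 := d31_1 D40771 (iv D39652) D39651
theorem F188206 : act 5 n40771 = n40771 := d35_1 D40771 (iv D40771) F183500 F178537 (iv F183500)
def n40772 : Q := act 9 n39651
theorem D40772 : act 9 n39651 = n40772 := rfl
theorem F188207 : act 0 n40772 = n40161 := d8_1 D40772 (iv D40161) (iv F183498)
theorem F188208 : act 3 n40772 = n39804 := d29_1 D40772 (iv D39804) (iv F183499)
theorem F188209 : act 4 n40772 = n39653 := d34_1 D40772 (iv D39653) D39651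
theorem F188210 : act 5 n40772 = n39679 := d38_1 D40772 (iv D39679) (iv F183500)
theorem F188211 : act 7 n40772 = n39839 := d43_1 D40772 (iv D39839) (iv F183501)
def n40773 : Q := act 7 n39652
theorem D40773 : act 7 n39652 = n40773 := rfl
theorem F188212 : act 0 n40773 = n40162 := d6_1 D40773 (iv D40162) (iv F183502)
theorem F188213 : act 3 n40773 = n39658 := d27_1 D40773 (iv D39658) (iv F183503)
theorem F188214 : act 5 n40773 = n39654 := d36_1 D40773 (iv D39654) (iv F183504)
def n40774 : Q := act 8 n39653
theorem D40774 : act 8 n39653 = n40774 := rfl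
theorem F188215 : act 0 n40774 = n40163 := d7_1 D40774 (iv D40163) (iv F183505)
theorem F188216 : act 3 n40774 = n39659 := d28_1 D40774 (iv D39659) (iv F183506)
def n40775 : Q := act 9 n39655
theorem D40775 : act 9 n39655 = n40775 := rfl
theorem F188217 : act 0 n40775 = n40055 := d8_1 D40775 (iv D40055) (iv F183512)
theorem F188218 : act 2 n40775 = n39661 := d23_1 D40775 (iv D39661) (iv F183513)
theorem F188219 : act 3 n40775 = n39802 := d29_1 D40775 (iv D39802) F183517
theorem F188220 : act 4 n40775 = n39657 := d34_1 D40775 (iv D39657) D39655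
theorem F188221 : act 5 n40775 = n39722 := d38_1 D40775 (iv D39722) (iv F183514)
theorem F188222 : act 7 n40775 = n39731 := d43_1 D40775 (iv D39731) (iv F183515)
def n40776 : Q := act 7 n39656
theorem D40776 : act 7 n39656 = n40776 := rfl
theorem F188223 : act 0 n40776 = n40164 := d6_1 D40776 (iv D40164) (iv F183518)
theorem F188224 : act 2 n40776 = n39662 := d21_1 D40776 (iv D39662) (iv F183519)
theorem F188225 : act 8 n40776 = n39658 := d42_2 (iv F183520) D40776 (iv D39658)
def n40777 : Q := act 9 n39656
theorem D40777 : act 9 n39656 = n40777 := rfl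
theorem F188226 : act 0 n40777 = n40165 := d8_1 D40777 (iv D40165) (iv F183518)
theorem F188227 : act 2 n40777 = n39663 := d23_1 D40777 (iv D39663) (iv F183519)
theorem F188228 : act 6 n40777 = n39657 := d41_1 D40777 (iv D39657) D39656
def n40778 : Q := act 8 n39657
theorem D40778 : act 8 n39657 = n40778 := rfl
theorem F188229 : act 0 n40778 = n40166 := d7_1 D40778 (iv D40166) (iv F183521)
theorem F188230 : act 2 n40778 = n39664 := d22_1 D40778 (iv D39664) (iv F183522)
theorem F188231 : act 9 n40778 = n39659 := d44_2 D39657 D40778 (iv D39659) (iv D38470) (iv F178358)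
def n40779 : Q := act 9 n39660
theorem D40779 : act 9 n39660 = n40779 := rfl
theorem F188232 : act 0 n40779 = n40154 := d8_1 D40779 (iv D40154) (iv F183529)
theorem F188233 : act 3 n40779 = n39661 := d29_1 D40779 (iv D39661) D39660
def n40780 : Q := act 9 n39662
theorem D40780 : act 9 n39662 = n40780 := rfl
theorem F188234 : act 0 n40780 = n40167 := d8_1 D40780 (iv D40167) (iv F183533)
theorem F188235 : act 7 n40780 = n39663 := d43_1 D40780 (iv D39663) D39662
def n40781 : Q := act 4 n39666
theorem D40781 : act 4 n39666 = n40781 := rfl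
theorem F188236 : act 2 n40781 = n39668 := d18_1 D40781 (iv D39668) (iv F183545)
theorem F188237 : act 6 n40781 = n40781 := d31_2 F183547 D40781 (iv D40781)
theorem F188238 : act 7 n40781 = n39673 := d32_2 (iv F183548) D40781 (iv D39673)
theorem F188239 : act 9 n40781 = n40043 := d34_2 (iv F183549) D40781 F184836
def n40782 : Q := act 4 n39670
theorem D40782 : act 4 n39670 = n40782 := rfl
theorem F188240 : act 0 n40782 = n39764 := d3_1 D40782 F183977 (iv F183571)
theorem F188241 : act 1 n40782 = n39671 := d11_1 D40782 (iv D39671) (iv F183572)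
theorem F188242 : act 2 n40782 = n39917 := d18_1 D40782 F184478 (iv F183573)
theorem F188243 : act 3 n40782 = n39744 := d24_1 D40782 F183925 F178907 (iv F178463) (iv F183574)
theorem F188244 : act 6 n40782 = n39680 := d31_2 (iv F183575) D40782 (iv D39680)
theorem F188245 : act 8 n40782 = n39855 := d33_2 (iv F183576) D40782 F184232
theorem F188246 : act 9 n40782 = n39736 := d34_2 (iv F183577) D40782 (iv D39736)
def n40783 : Q := act 5 n39672
theorem D40783 : act 5 n39672 = n40783 := rfl
theorem F188247 : act 0 n40783 = n40015 := d4_1 D40783 F184775 (iv F183582)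
theorem F188248 : act 1 n40783 = n40044 := d12_1 D40783 (iv D40044) (iv F183583)
theorem F188249 : act 2 n40783 = n39839 := d19_1 D40783 F184188 (iv F183584)
theorem F188250 : act 3 n40783 = n39867 := d25_1 D40783 (iv D39867) (iv F183585)
theorem F188251 : act 4 n40783 = n40010 := d30_1 D40783 (iv D40010) F179819 (iv F178485) (iv F183586)
theorem F188252 : act 9 n40783 = n39837 := d38_2 (iv F183588) D40783 F184184
def n40784 : Q := act 3 n39673
theorem D40784 : act 3 n39673 = n40784 := rfl
theorem F188253 : act 2 n40784 = n40039 := d17_1 D40784 F184826 (iv F181106) F181107 (iv F183589)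
theorem F188254 : act 4 n40784 = n40784 := d24_2 D39673 D40784 (iv D40784) (iv D39673) F178502
theorem F188255 : act 6 n40784 = n39685 := d26_2 (iv F183590) D40784 (iv D39685)
theorem F188256 : act 9 n40784 = n40042 := d29_2 (iv F183591) D40784 F184833
def n40785 : Q := act 4 n39674
theorem D40785 : act 4 n39674 = n40785 := rfl
theorem F188257 : act 2 n40785 = n39676 := d18_1 D40785 (iv D39676) (iv F183592)
theorem F188258 : act 6 n40785 = n40785 := d31_2 F183594 D40785 (iv D40785)
theorem F188259 : act 7 n40785 = n39763 := d32_2 (iv F183595) D40785 F183973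
def n40786 : Q := act 9 n39674
theorem D40786 : act 9 n39674 = n40786 := rfl
theorem F188260 : act 0 n40786 = n39918 := d8_1 D40786 (iv F187115) F187108
theorem F188261 : act 1 n40786 = n39709 := d16_1 D40786 (iv F187135) F187130
theorem F188262 : act 2 n40786 = n39677 := d23_1 D40786 (iv D39677) (iv F183592)
theorem F188263 : act 3 n40786 = n40786 := d29_1 D40786 (iv D40786) F183593
theorem F188264 : act 5 n40786 = n39675 := d38_1 D40786 (iv D39675) D39674
theorem F188265 : act 6 n40786 = n40786 := d41_1 D40786 (iv D40786) F183594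
theorem F188266 : act 7 n40786 = n39703 := d43_1 D40786 F183761 (iv F183595)
theorem F188267 : act 8 n39713 = n40786 := d42_0 F188266 F183760 (iv F183818)
def n40787 : Q := act 9 n39676
theorem D40787 : act 9 n39676 = n40787 := rfl
theorem F188268 : act 1 n40787 = n39679 := d16_1 D40787 (iv D39679) (iv F183603)
theorem F188269 : act 3 n40787 = n39753 := d29_1 D40787 (iv D39753) (iv F183604)
theorem F188270 : act 4 n40787 = n39677 := d34_1 D40787 (iv D39677) D39676
theorem F188271 : act 6 n40787 = n40787 := d41_1 D40787 (iv D40787) F183605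
theorem F188272 : act 7 n40787 = n39764 := d43_1 D40787 (iv D39764) (iv F183606)
def n40788 : Q := act 6 n39678
theorem D40788 : act 6 n39678 = n40788 := rfl
theorem F188273 : act 0 n40788 = n40168 := d5_1 D40788 (iv D40168) (iv F183612)
theorem F188274 : act 5 n40788 = n39690 := d35_1 D40788 (iv D39690) (iv D38517) (iv F178534) D39678
def n40789 : Q := act 6 n39682
theorem D40789 : act 6 n39682 = n40789 := rfl
theorem F188275 : act 0 n40789 = n39917 := d5_1 D40789 (iv D39917) (iv F183634)
theorem F188276 : act 1 n40789 = n39707 := d13_1 D40789 (iv D39707) (iv F183635)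
theorem F188277 : act 2 n40789 = n39764 := d20_1 D40789 F183978 (iv F183636)
theorem F188278 : act 3 n40789 = n39690 := d26_1 D40789 (iv D39690) (iv F183637)
theorem F188279 : act 4 n40789 = n39703 := d31_1 D40789 (iv D39703) (iv F183638)
theorem F188280 : act 8 n40789 = n40041 := d40_2 (iv F183640) D40789 (iv D40041)
theorem F188281 : act 9 n40789 = n39763 := d41_2 F183641 D40789 F183974
def n40790 : Q := act 8 n39685
theorem D40790 : act 8 n39685 = n40790 := rfl
theorem F188282 : act 0 n40790 = n40178 := d7_1 D40790 (iv F186165) F186160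
theorem F188283 : act 2 n40790 = n39704 := d22_1 D40790 F183767 (iv F183658)
theorem F188284 : act 3 n40790 = n39686 := d28_1 D40790 (iv D39686) D39685
theorem F188285 : act 4 n40790 = n40790 := d33_1 D40790 (iv D40790) F183659
theorem F188286 : act 5 n40790 = n39871 := d37_1 D40790 (iv D39871) F179303 (iv F179887) (iv F183660)
theorem F188287 : act 7 n40790 = n40790 := d42_1 D40790 (iv D40790) F183661
def n40791 : Q := act 5 n39686
theorem D40791 : act 5 n39686 = n40791 := rfl
theorem F188288 : act 0 n40791 = n40181 := d4_1 D40791 F185141 (iv F183663)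
theorem F188289 : act 1 n40791 = n40171 := d12_1 D40791 (iv F185783) F185781
theorem F188290 : act 2 n40791 = n39688 := d19_1 D40791 (iv D39688) (iv F183664)
theorem F188291 : act 3 n40791 = n39871 := d25_1 D40791 (iv F188286) F188284
theorem F188292 : act 4 n40791 = n40791 := d30_1 D40791 (iv D40791) F183665 F178589 (iv F183665)
theorem F188293 : act 7 n40791 = n40791 := d36_2 F183666 D40791 (iv D40791)
theorem F188294 : act 8 n40791 = n39870 := d37_2 D39686 D40791 F184286 F179894 (iv F178583)
def n40792 : Q := act 9 n39686
theorem D40792 : act 9 n39686 = n40792 := rfl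
theorem F188295 : act 0 n40792 = n40186 := d8_1 D40792 F185156 (iv F183663)
theorem F188296 : act 1 n40792 = n39698 := d16_1 D40792 (iv F185786) F185781
theorem F188297 : act 2 n40792 = n39689 := d23_1 D40792 (iv D39689) (iv F183664)
theorem F188298 : act 4 n40792 = n39687 := d34_1 D40792 (iv D39687) (iv F183665)
theorem F188299 : act 7 n40792 = n40792 := d43_1 D40792 (iv D40792) F183666
theorem F188300 : act 8 n40792 = n39708 := d44_1 D40792 (iv D39708) F178753 (iv F178585) D39686
def n40793 : Q := act 6 n39688
theorem D40793 : act 6 n39688 = n40793 := rfl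
theorem F188301 : act 0 n40793 = n40182 := d5_1 D40793 (iv D40182) (iv F183674)
theorem F188302 : act 1 n40793 = n39690 := d13_1 D40793 (iv D39690) (iv F183675)
theorem F188303 : act 3 n40793 = n39707 := d26_1 D40793 (iv D39707) (iv F183676)
theorem F188304 : act 4 n40793 = n40793 := d31_1 D40793 (iv D40793) F183677
theorem F188305 : act 8 n40793 = n40042 := d40_2 (iv F183679) D40793 (iv D40042)
def n40794 : Q := act 9 n39688
theorem D40794 : act 9 n39688 = n40794 := rfl
theorem F188306 : act 0 n40794 = n40183 := d8_1 D40794 (iv D40183) (iv F183674)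
theorem F188307 : act 1 n40794 = n39691 := d16_1 D40794 (iv D39691) (iv F183675)
theorem F188308 : act 3 n40794 = n39708 := d29_1 D40794 (iv D39708) (iv F183676)
theorem F188309 : act 4 n40794 = n40794 := d34_1 D40794 (iv D40794) F183677
theorem F188310 : act 5 n40794 = n39689 := d38_1 D40794 (iv D39689) D39688
theorem F188311 : act 7 n40794 = n40794 := d43_1 D40794 (iv D40794) F183678
def n40795 : Q := act 7 n39690
theorem D40795 : act 7 n39690 = n40795 := rfl
theorem F188312 : act 0 n40795 = n40169 := d6_1 D40795 (iv D40169) (iv F183686)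
theorem F188313 : act 4 n40795 = n40795 := d32_1 D40795 (iv D40795) F183687
theorem F188314 : act 6 n40795 = n40795 := d39_1 D40795 (iv D40795) (iv D39690) F178604 D39690
def n40796 : Q := act 9 n39690
theorem D40796 : act 9 n39690 = n40796 := rfl
theorem F188315 : act 0 n40796 = n40170 := d8_1 D40796 (iv D40170) (iv F183686)
theorem F188316 : act 2 n40796 = n39699 := d23_1 D40796 (iv F187158) F187154
theorem F188317 : act 3 n40796 = n39763 := d29_1 D40796 (iv F188281) F188278
theorem F188318 : act 4 n40796 = n40796 := d34_1 D40796 (iv D40796) F183687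
theorem F188319 : act 6 n40796 = n39691 := d41_1 D40796 (iv D39691) D39690
def n40797 : Q := act 8 n39691
theorem D40797 : act 8 n39691 = n40797 := rfl
theorem F188320 : act 0 n40797 = n40171 := d7_1 D40797 (iv D40171) (iv F183688)
theorem F188321 : act 2 n40797 = n39694 := d22_1 D40797 F183712 (iv F183689)
theorem F188322 : act 3 n40797 = n39698 := d28_1 D40797 F183733 (iv F183690)
theorem F188323 : act 4 n40797 = n40797 := d33_1 D40797 (iv D40797) F183691
theorem F188324 : act 5 n40797 = n39847 := d37_1 D40797 F184203 F179219 (iv F178609) (iv F183692)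
theorem F188325 : act 7 n40797 = n40797 := d42_1 D40797 (iv D40797) F183693
def n40798 : Q := act 2 n39692
theorem D40798 : act 2 n39692 = n40798 := rfl
theorem F188326 : act 0 n40798 = n39698 := d1_1 D40798 (iv D39698) (iv F183694)
theorem F188327 : act 1 n40798 = n39871 := d9_1 D40798 F184289 F179310 (iv F178888) (iv F183695)
theorem F188328 : act 3 n40798 = n40171 := d17_2 D39692 D40798 F185111 (iv D39038) (iv F178612)
theorem F188329 : act 4 n40798 = n39693 := d18_2 (iv F183696) D40798 (iv D39693)
theorem F188330 : act 7 n40798 = n40798 := d21_2 F183697 D40798 (iv D40798)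
theorem F188331 : act 8 n40798 = n39738 := d22_2 (iv F183698) D40798 F183897
theorem F188332 : act 9 n40798 = n39847 := d23_2 (iv F183699) D40798 (iv D39847)
def n40799 : Q := act 2 n39695
theorem D40799 : act 2 n39695 = n40799 := rfl
theorem F188333 : act 3 n40799 = n39847 := d17_2 D39695 D40799 (iv D39847) (iv D38682) (iv F178629)
theorem F188334 : act 4 n40799 = n40799 := d18_2 F183714 D40799 (iv D40799)
theorem F188335 : act 5 n40799 = n39698 := d19_2 (iv F183715) D40799 (iv D39698)

end Cfsg.Agent.Helper17.SP6TC
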