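import Cfsg.Agent.Helper17.SP6TC.Facts14

set_option autoImplicit false
set_option linter.all false

noncomputable section

namespace Cfsg.Agent.Helper17.SP6TC

theorem F188336 : act 7 n40799 = n40799 := d21_2 F183716 D40799 (iv D40799)
theorem F188337 : act 8 n40799 = n39848 := d22_2 (iv F183717) D40799 (iv D39848)
theorem F188338 : act 9 n40799 = n40171 := d23_2 (iv F183718) D40799 F185111
def n40800 : Q := act 6 n39695
theorem D40800 : act 6 n39695 = n40800 := rfl
theorem F188339 : act 1 n40800 = n39699 := d13_1 D40800 (iv D39699) (iv F183713)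
theorem F188340 : act 3 n40800 = n39696 := d26_1 D40800 (iv D39696) D39695
theorem F188341 : act 4 n40800 = n40800 := d31_1 D40800 (iv D40800) F183714
theorem F188342 : act 8 n40800 = n39849 := d40_2 (iv F183717) D40800 (iv D39849)
theorem F188343 : act 9 n40800 = n40174 := d41_2 (iv F183718) D40800 (iv D40174)
def n40801 : Q := act 7 n39696
theorem D40801 : act 7 n39696 = n40801 := rfl
theorem F188344 : act 1 n40801 = n39700 := d14_1 D40801 (iv D39700) (iv F183719)
theorem F188345 : act 2 n40801 = n39791 := d21_1 D40801 F184072 (iv F183720)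
theorem F188346 : act 4 n40801 = n39697 := d32_1 D40801 (iv D39697) (iv F183721)
theorem F188347 : act 6 n40801 = n40801 := d39_1 D40801 (iv D40801) (iv D39696) F178631 D39696
theorem F188348 : act 8 n40801 = n39850 := d42_2 (iv F183722) D40801 (iv D39850)
theorem F188349 : act 9 n40801 = n39926 := d43_2 (iv F183723) D40801 F184506
def n40802 : Q := act 7 n39699
theorem D40802 : act 7 n39699 = n40802 := rfl
theorem F188350 : act 0 n40802 = n40176 := d6_1 D40802 (iv D40176) (iv F183734)
theorem F188351 : act 3 n40802 = n39700 := d27_1 D40802 (iv D39700) (iv F183735)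
theorem F188352 : act 4 n40802 = n40802 := d32_1 D40802 (iv D40802) F183736
theorem F188353 : act 6 n40802 = n40802 := d39_1 D40802 (iv D40802) (iv D39699) F178669 D39699
def n40803 : Q := act 9 n39700
theorem D40803 : act 9 n39700 = n40803 := rfl
theorem F188354 : act 0 n40803 = n40177 := d8_1 D40803 (iv D40177) (iv F183737)
theorem F188355 : act 1 n40803 = n39926 := d16_1 D40803 (iv F188349) F188344
theorem F188356 : act 2 n40803 = n39753 := d23_1 D40803 (iv D39753) (iv F183738)
theorem F188357 : act 4 n40803 = n39702 := d34_1 D40803 (iv D39702) (iv F183739)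
theorem F188358 : act 6 n40803 = n40803 := d41_1 D40803 (iv D40803) F183740
theorem F188359 : act 7 n40803 = n39701 := d43_1 D40803 (iv D39701) D39700
theorem F188360 : act 8 n40173 = n40803 := d42_0 F188359 (iv F183746) D40173
def n40804 : Q := act 9 n39704
theorem D40804 : act 9 n39704 = n40804 := rfl
theorem F188361 : act 0 n40804 = n40179 := d8_1 D40804 (iv D40179) (iv F183762)
theorem F188362 : act 1 n40804 = n39848 := d16_1 D40804 F184208 (iv F183763)
theorem F188363 : act 3 n40804 = n39705 := d29_1 D40804 (iv D39705) D39704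
theorem F188364 : act 4 n40804 = n40804 := d34_1 D40804 (iv D40804) F183764
theorem F188365 : act 5 n40804 = n39711 := d38_1 D40804 F183808 (iv F183765)
theorem F188366 : act 7 n40804 = n40804 := d43_1 D40804 (iv D40804) F183766
def n40805 : Q := act 8 n39705
theorem D40805 : act 8 n39705 = n40805 := rfl
theorem F188367 : act 0 n40805 = n40180 := d7_1 D40805 (iv D40180) (iv F183768)
theorem F188368 : act 1 n40805 = n39847 := d15_1 D40805 F184203 (iv F183769)
theorem F188369 : act 2 n40805 = n39711 := d22_1 D40805 (iv D39711) (iv F183770)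
theorem F188370 : act 4 n40805 = n39706 := d33_1 D40805 (iv D39706) (iv F183771)
theorem F188371 : act 7 n40805 = n40805 := d42_1 D40805 (iv D40805) F183773
theorem F188372 : act 9 n40805 = n39871 := d44_2 D39705 D40805 (iv D39871) F179305 (iv F178742)
def n40806 : Q := act 7 n39707
theorem D40806 : act 7 n39707 = n40806 := rfl
theorem F188373 : act 0 n40806 = n40184 := d6_1 D40806 (iv D40184) (iv F183781)
theorem F188374 : act 2 n40806 = n40045 := d21_1 D40806 (iv D40045) (iv F183782)
theorem F188375 : act 4 n40806 = n39709 := d32_1 D40806 (iv D39709) (iv F183783)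
theorem F188376 : act 6 n40806 = n40806 := d39_1 D40806 (iv D40806) (iv D39707) F178752 D39707
theorem F188377 : act 8 n40806 = n40043 := d42_2 (iv F183784) D40806 (iv D40043)
def n40807 : Q := act 9 n39707
theorem D40807 : act 9 n39707 = n40807 := rfl
theorem F188378 : act 0 n40807 = n40185 := d8_1 D40807 (iv D40185) (iv F183781)
theorem F188379 : act 1 n40807 = n39763 := d16_1 D40807 (iv F188281) F188276
theorem F188380 : act 2 n40807 = n39845 := d23_1 D40807 F184200 (iv F183782)
theorem F188381 : act 4 n40807 = n39710 := d34_1 D40807 (iv D39710) (iv F183783)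
theorem F188382 : act 6 n40807 = n39708 := d41_1 D40807 (iv D39708) D39707
def n40808 : Q := act 4 n39713
theorem D40808 : act 4 n39713 = n40808 := rfl
theorem F188383 : act 0 n40808 = n40188 := d3_1 D40808 (iv D40188) (iv F183814)
theorem F188384 : act 1 n40808 = n40043 := d11_1 D40808 F184836 (iv F183815)
theorem F188385 : act 6 n40808 = n40808 := d31_2 F183817 D40808 (iv D40808)
theorem F188386 : act 7 n40808 = n40041 := d32_2 (iv F183818) D40808 F184832
def n40809 : Q := act 5 n39714
theorem D40809 : act 5 n39714 = n40809 := rfl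
theorem F188387 : act 1 n40809 = n39716 := d12_1 D40809 (iv D39716) (iv F183819)
theorem F188388 : act 2 n40809 = n40117 := d19_1 D40809 F185011 (iv F183820)
theorem F188389 : act 3 n40809 = n39715 := d25_1 D40809 (iv D39715) (iv F183821)
theorem F188390 : act 6 n40809 = n39907 := d35_2 D39714 D40809 (iv D39907) (iv D38755) (iv F178800)
theorem F188391 : act 9 n40809 = n40109 := d38_2 (iv F183823) D40809 F184995
def n40810 : Q := act 8 n39715
theorem D40810 : act 8 n39715 = n40810 := rfl
theorem F188392 : act 1 n40810 = n39717 := d15_1 D40810 (iv D39717) (iv F183824)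
theorem F188393 : act 2 n40810 = n39726 := d22_1 D40810 (iv D39726) (iv F183825)
theorem F188394 : act 6 n40810 = n39908 := d40_1 D40810 (iv D39908) (iv F183826)
def n40811 : Q := act 4 n39716
theorem D40811 : act 4 n39716 = n40811 := rfl
theorem F188395 : act 2 n40811 = n39755 := d18_1 D40811 (iv D39755) (iv F183827)
theorem F188396 : act 5 n40811 = n40811 := d30_2 D39716 D40811 (iv D40811) (iv D39716) F178807
theorem F188397 : act 6 n40811 = n39910 := d31_2 (iv F183829) D40811 (iv D39910)
def n40812 : Q := act 8 n39716
theorem D40812 : act 8 n39716 = n40812 := rfl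
theorem F188398 : act 2 n40812 = n39756 := d22_1 D40812 (iv D39756) (iv F183827)
theorem F188399 : act 3 n40812 = n39717 := d28_1 D40812 (iv D39717) (iv F183828)
theorem F188400 : act 6 n40812 = n39911 := d40_1 D40812 (iv D39911) (iv F183829)
def n40813 : Q := act 5 n39717
theorem D40813 : act 5 n39717 = n40813 := rfl
theorem F188401 : act 2 n40813 = n39719 := d19_1 D40813 (iv D39719) (iv F183830)
theorem F188402 : act 8 n40813 = n39718 := d37_2 D39717 D40813 (iv D39718) (iv D38557) D38556
def n40814 : Q := act 9 n39717
theorem D40814 : act 9 n39717 = n40814 := rfl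
theorem F188403 : act 2 n40814 = n39720 := d23_1 D40814 (iv D39720) (iv F183830)
theorem F188404 : act 6 n40814 = n39913 := d41_1 D40814 (iv D39913) (iv F183831)
def n40815 : Q := act 9 n39719
theorem D40815 : act 9 n39719 = n40815 := rfl
theorem F188405 : act 1 n40815 = n39731 := d16_1 D40815 (iv D39731) (iv F183833)
theorem F188406 : act 3 n40815 = n39759 := d29_1 D40815 (iv D39759) (iv F183834)
theorem F188407 : act 5 n40815 = n39720 := d38_1 D40815 (iv D39720) D39719
def n40816 : Q := act 8 n39721
theorem D40816 : act 8 n39721 = n40816 := rfl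
theorem F188408 : act 1 n40816 = n39734 := d15_1 D40816 (iv D39734) (iv F183839)
theorem F188409 : act 3 n40816 = n39762 := d28_1 D40816 (iv D39762) (iv F183840)
def n40817 : Q := act 5 n39724
theorem D40817 : act 5 n39724 = n40817 := rfl
theorem F188410 : act 1 n40817 = n39807 := d12_1 D40817 (iv D39807) (iv F183850)
theorem F188411 : act 2 n40817 = n39725 := d19_1 D40817 (iv D39725) (iv F183851)
theorem F188412 : act 3 n40817 = n40117 := d25_1 D40817 F185011 (iv F183852)
theorem F188413 : act 6 n40817 = n39891 := d35_2 D39724 D40817 F184373 F179396 (iv F178834)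
theorem F188414 : act 9 n40817 = n39890 := d38_2 (iv F183854) D40817 F184369
def n40818 : Q := act 4 n39725
theorem D40818 : act 4 n39725 = n40818 := rfl
theorem F188415 : act 0 n40818 = n39760 := d3_1 D40818 (iv F187896) F187893
theorem F188416 : act 1 n40818 = n39727 := d11_1 D40818 (iv D39727) (iv F183855)
theorem F188417 : act 3 n40818 = n39742 := d24_1 D40818 (iv D39742) (iv F182706) F182707 (iv F183856)
theorem F188418 : act 5 n40818 = n39736 := d30_2 D39725 D40818 (iv D39736) (iv D38575) (iv F178838)
theorem F188419 : act 6 n40818 = n40011 := d31_2 (iv F183857) D40818 (iv D40011)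
def n40819 : Q := act 8 n39725
theorem D40819 : act 8 n39725 = n40819 := rfl
theorem F188420 : act 1 n40819 = n39728 := d15_1 D40819 (iv D39728) (iv F183855)
theorem F188421 : act 3 n40819 = n39726 := d28_1 D40819 (iv D39726) (iv F183856)
theorem F188422 : act 6 n40819 = n40012 := d40_1 D40819 (iv D40012) (iv F183857)
def n40820 : Q := act 9 n39726
theorem D40820 : act 9 n39726 = n40820 := rfl
theorem F188423 : act 1 n40820 = n39729 := d16_1 D40820 (iv D39729) (iv F183858)
theorem F188424 : act 6 n40820 = n40014 := d41_1 D40820 (iv D40014) (iv F183859)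
def n40821 : Q := act 8 n39727
theorem D40821 : act 8 n39727 = n40821 := rfl
theorem F188425 : act 2 n40821 = n39814 := d22_1 D40821 (iv D39814) (iv F183860)
theorem F188426 : act 4 n40821 = n39728 := d33_1 D40821 (iv D39728) D39727
theorem F188427 : act 6 n40821 = n40017 := d40_1 D40821 (iv D40017) (iv F183862)
def n40822 : Q := act 9 n39728
theorem D40822 : act 9 n39728 = n40822 := rfl
theorem F188428 : act 2 n40822 = n39816 := d23_1 D40822 (iv D39816) (iv F183863)
theorem F188429 : act 3 n40822 = n39729 := d29_1 D40822 (iv D39729) (iv F183864)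
theorem F188430 : act 6 n40822 = n40019 := d41_1 D40822 (iv D40019) (iv F183865)
def n40823 : Q := act 7 n39730
theorem D40823 : act 7 n39730 = n40823 := rfl
theorem F188431 : act 3 n40823 = n39834 := d27_1 D40823 (iv D39834) (iv F183868)
theorem F188432 : act 5 n40823 = n40034 := d36_1 D40823 (iv D40034) (iv F183869)
theorem F188433 : act 8 n40823 = n39732 := d42_2 (iv F183870) D40823 (iv D39732)
def n40824 : Q := act 9 n39730
theorem D40824 : act 9 n39730 = n40824 := rfl
theorem F188434 : act 3 n40824 = n39835 := d29_1 D40824 (iv D39835) (iv F183868)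
theorem F188435 : act 5 n40824 = n40035 := d38_1 D40824 (iv D40035) (iv F183869)
theorem F188436 : act 6 n40824 = n39731 := d41_1 D40824 (iv D39731) D39730
def n40825 : Q := act 8 n39731
theorem D40825 : act 8 n39731 = n40825 := rfl
theorem F188437 : act 3 n40825 = n39836 := d28_1 D40825 (iv D39836) (iv F183871)
theorem F188438 : act 9 n40825 = n39734 := d44_2 D39731 D40825 (iv D39734) (iv D38571) (iv F178847)
def n40826 : Q := act 8 n39733
theorem D40826 : act 8 n39733 = n40826 := rfl
theorem F188439 : act 3 n40826 = n39844 := d28_1 D40826 (iv D39844) (iv F183875)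
theorem F188440 : act 6 n40826 = n39734 := d40_1 D40826 (iv D39734) (iv F183877)
def n40827 : Q := act 4 n39735
theorem D40827 : act 4 n39735 = n40827 := rfl
theorem F188441 : act 0 n40827 = n39763 := d3_1 D40827 F183973 (iv F183879)
theorem F188442 : act 1 n40827 = n39864 := d11_1 D40827 (iv D39864) (iv F183880)
theorem F188443 : act 2 n40827 = n39736 := d18_1 D40827 (iv D39736) (iv F183881)
theorem F188444 : act 6 n40827 = n39738 := d31_2 (iv F183883) D40827 (iv D39738)
theorem F188445 : act 9 n40827 = n39917 := d34_2 (iv F183884) D40827 F184478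
theorem F188446 : act 3 n40170 = n40827 := d29_3 F188445 F184477 D40170
def n40828 : Q := act 5 n39737
theorem D40828 : act 5 n39737 = n40828 := rfl
theorem F188447 : act 0 n40828 = n40063 := d4_1 D40828 F184894 (iv F183889)
theorem F188448 : act 2 n40828 = n39867 := d19_1 D40828 (iv D39867) (iv F183890)
theorem F188449 : act 3 n40828 = n39825 := d25_1 D40828 F184156 (iv F183891)
theorem F188450 : act 9 n40828 = n39823 := d38_2 F183894 D40828 F184149
def n40829 : Q := act 6 n39739
theorem D40829 : act 6 n39739 = n40829 := rfl
theorem F188451 : act 0 n40829 = n40172 := d5_1 D40829 (iv D40172) (iv F183902)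
theorem F188452 : act 2 n40829 = n39872 := d20_1 D40829 (iv D39872) (iv F183903)
theorem F188453 : act 3 n40829 = n39851 := d26_1 D40829 F184217 (iv F183904)
theorem F188454 : act 4 n40829 = n40829 := d31_1 D40829 (iv D40829) F183905
theorem F188455 : act 8 n40829 = n40048 := d40_2 (iv F183907) D40829 (iv D40048)
theorem F188456 : act 9 n40829 = n39849 := d41_2 (iv F183908) D40829 (iv D39849)
def n40830 : Q := act 4 n39740
theorem D40830 : act 4 n39740 = n40830 := rfl
theorem F188457 : act 0 n40830 = n39758 := d3_1 D40830 (iv D39758) (iv F183909)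
theorem F188458 : act 2 n40830 = n40142 := d18_1 D40830 F185062 (iv F183910)
theorem F188459 : act 6 n40830 = n40137 := d31_2 (iv F183911) D40830 (iv D40137)
theorem F188460 : act 8 n40830 = n39742 := d33_2 (iv F183912) D40830 (iv D39742)
def n40831 : Q := act 9 n39740
theorem D40831 : act 9 n39740 = n40831 := rfl
theorem F188461 : act 0 n40831 = n39759 := d8_1 D40831 (iv D39759) (iv F183909)
theorem F188462 : act 2 n40831 = n40145 := d23_1 D40831 (iv D40145) (iv F183910)
theorem F188463 : act 5 n40831 = n39741 := d38_1 D40831 (iv D39741) D39740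
theorem F188464 : act 6 n40831 = n40138 := d41_1 D40831 (iv D40138) (iv F183911)
def n40832 : Q := act 9 n39742
theorem D40832 : act 9 n39742 = n40832 := rfl
theorem F188465 : act 0 n40832 = n39761 := d8_1 D40832 (iv D39761) (iv F183915)
theorem F188466 : act 2 n40832 = n40150 := d23_1 D40832 (iv D40150) (iv F183916)
theorem F188467 : act 4 n40832 = n39743 := d34_1 D40832 (iv D39743) D39742
theorem F188468 : act 5 n40832 = n39744 := d38_1 D40832 (iv D39744) (iv F183917)
theorem F188469 : act 6 n40832 = n40139 := d41_1 D40832 (iv D40139) (iv F183918)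
def n40833 : Q := act 8 n39743
theorem D40833 : act 8 n39743 = n40833 := rfl
theorem F188470 : act 0 n40833 = n39762 := d7_1 D40833 (iv D39762) (iv F183919)
theorem F188471 : act 2 n40833 = n40153 := d22_1 D40833 (iv D40153) (iv F183920)
theorem F188472 : act 6 n40833 = n40140 := d40_1 D40833 (iv D40140) (iv F183922)
def n40834 : Q := act 8 n39745
theorem D40834 : act 8 n39745 = n40834 := rfl
theorem F188473 : act 1 n40834 = n39747 := d15_1 D40834 (iv D39747) (iv F183928)
theorem F188474 : act 2 n40834 = n39788 := d22_1 D40834 (iv D39788) (iv F183929)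
theorem F188475 : act 4 n40834 = n40164 := d33_1 D40834 F185099 (iv F183930)
theorem F188476 : act 7 n40834 = n39754 := d42_1 D40834 (iv D39754) (iv F183931)
def n40835 : Q := act 4 n39746
theorem D40835 : act 4 n39746 = n40835 := rfl
theorem F188477 : act 5 n40835 = n40835 := d30_2 D39746 D40835 (iv D40835) (iv D39746) F178922
theorem F188478 : act 7 n40835 = n39755 := d32_2 (iv F183933) D40835 (iv D39755)
def n40836 : Q := act 8 n39746
theorem D40836 : act 8 n39746 = n40836 := rfl
theorem F188479 : act 3 n40836 = n39747 := d28_1 D40836 (iv D39747) (iv F183932)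
theorem F188480 : act 7 n40836 = n39756 := d42_1 D40836 (iv D39756) (iv F183933)
def n40837 : Q := act 9 n39747
theorem D40837 : act 9 n39747 = n40837 := rfl
theorem F188481 : act 2 n40837 = n39749 := d23_1 D40837 (iv D39749) (iv F183934)
theorem F188482 : act 7 n40837 = n39757 := d43_1 D40837 (iv D39757) (iv F183935)
def n40838 : Q := act 4 n39748
theorem D40838 : act 4 n39748 = n40838 := rfl
theorem F188483 : act 1 n40838 = n39800 := d11_1 D40838 (iv D39800) (iv F183936)
theorem F188484 : act 7 n40838 = n39758 := d32_2 (iv F183937) D40838 (iv D39758)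
theorem F188485 : act 8 n40838 = n39750 := d33_2 (iv F183938) D40838 (iv D39750)
def n40839 : Q := act 6 n39748
theorem D40839 : act 6 n39748 = n40839 := rfl
theorem F188486 : act 1 n40839 = n39801 := d13_1 D40839 (iv D39801) (iv F183936)
theorem F188487 : act 8 n40839 = n39751 := d40_2 (iv F183938) D40839 (iv D39751)
def n40840 : Q := act 9 n39748
theorem D40840 : act 9 n39748 = n40840 := rfl
theorem F188488 : act 1 n40840 = n39802 := d16_1 D40840 (iv D39802) (iv F183936)
theorem F188489 : act 5 n40840 = n39749 := d38_1 D40840 (iv D39749) D39748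
theorem F188490 : act 7 n40840 = n39759 := d43_1 D40840 (iv D39759) (iv F183937)
def n40841 : Q := act 6 n39750
theorem D40841 : act 6 n39750 = n40841 := rfl
theorem F188491 : act 1 n40841 = n39803 := d13_1 D40841 (iv D39803) (iv F183941)
theorem F188492 : act 4 n40841 = n39751 := d31_1 D40841 (iv D39751) D39750
theorem F188493 : act 5 n40841 = n40841 := d35_1 D40841 (iv D40841) F183942 F178937 (iv F183942)
def n40842 : Q := act 9 n39750
theorem D40842 : act 9 n39750 = n40842 := rfl
theorem F188494 : act 1 n40842 = n39804 := d16_1 D40842 (iv D39804) (iv F183941)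
theorem F188495 : act 4 n40842 = n39752 := d34_1 D40842 (iv D39752) D39750
theorem F188496 : act 5 n40842 = n39753 := d38_1 D40842 (iv D39753) (iv F183942)
theorem F188497 : act 7 n40842 = n39761 := d43_1 D40842 (iv D39761) (iv F183943)
def n40843 : Q := act 8 n39752
theorem D40843 : act 8 n39752 = n40843 := rfl
theorem F188498 : act 1 n40843 = n39806 := d15_1 D40843 (iv D39806) (iv F183946)
theorem F188499 : act 7 n40843 = n39762 := d42_1 D40843 (iv D39762) (iv F183948)
def n40844 : Q := act 9 n39754
theorem D40844 : act 9 n39754 = n40844 := rfl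
theorem F188500 : act 1 n40844 = n39757 := d16_1 D40844 (iv D39757) (iv F183953)
theorem F188501 : act 2 n40844 = n39811 := d23_1 D40844 (iv D39811) (iv F183954)
theorem F188502 : act 4 n40844 = n40165 := d34_1 D40844 (iv D40165) (iv F183955)
theorem F188503 : act 6 n40844 = n40055 := d41_1 D40844 (iv D40055) (iv F183956)
def n40845 : Q := act 8 n39755
theorem D40845 : act 8 n39755 = n40845 := rfl
theorem F188504 : act 4 n40845 = n39756 := d33_1 D40845 (iv D39756) D39755
theorem F188505 : act 6 n40845 = n40066 := d40_1 D40845 (iv D40066) (iv F183958)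
def n40846 : Q := act 9 n39756
theorem D40846 : act 9 n39756 = n40846 := rfl
theorem F188506 : act 3 n40846 = n39757 := d29_1 D40846 (iv D39757) (iv F183959)
theorem F188507 : act 6 n40846 = n40067 := d41_1 D40846 (iv D40067) (iv F183960)
def n40847 : Q := act 3 n39758
theorem D40847 : act 3 n39758 = n40847 := rfl
theorem F188508 : act 1 n40847 = n39831 := d10_1 D40847 (iv D39831) (iv F183963)
theorem F188509 : act 8 n40847 = n39760 := d28_2 (iv F183964) D40847 (iv D39760)
def n40848 : Q := act 9 n39758
theorem D40848 : act 9 n39758 = n40848 := rfl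
theorem F188510 : act 1 n40848 = n39833 := d16_1 D40848 (iv D39833) (iv F183963)
theorem F188511 : act 4 n40848 = n39759 := d34_1 D40848 (iv D39759) D39758
def n40849 : Q := act 8 n39759
theorem D40849 : act 8 n39759 = n40849 := rfl
theorem F188512 : act 1 n40849 = n39836 := d15_1 D40849 (iv D39836) (iv F183965)
theorem F188513 : act 9 n40849 = n39762 := d44_2 D39759 D40849 (iv D39762) (iv D38602) (iv F178953)
def n40850 : Q := act 2 n39760
theorem D40850 : act 2 n39760 = n40850 := rfl
theorem F188514 : act 5 n40850 = n39763 := d19_2 (iv F183968) D40850 (iv D39763)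
def n40851 : Q := act 9 n39760
theorem D40851 : act 9 n39760 = n40851 := rfl
theorem F188515 : act 1 n40851 = n39839 := d16_1 D40851 (iv D39839) (iv F183967)
theorem F188516 : act 3 n40851 = n39761 := d29_1 D40851 (iv D39761) D39760
theorem F188517 : act 5 n40851 = n39764 := d38_1 D40851 (iv D39764) (iv F183968)
def n40852 : Q := act 8 n39761
theorem D40852 : act 8 n39761 = n40852 := rfl
theorem F188518 : act 1 n40852 = n39842 := d15_1 D40852 (iv D39842) (iv F183969)
theorem F188519 : act 4 n40852 = n39762 := d33_1 D40852 (iv D39762) (iv F183970)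
def n40853 : Q := act 5 n39765
theorem D40853 : act 5 n39765 = n40853 := rfl
theorem F188520 : act 1 n40853 = n39767 := d12_1 D40853 (iv D39767) (iv F183979)
theorem F188521 : act 3 n40853 = n39766 := d25_1 D40853 (iv D39766) (iv F183980)
theorem F188522 : act 6 n40853 = n39787 := d35_2 D39765 D40853 (iv D39787) (iv D38630) (iv F178980)
theorem F188523 : act 7 n40853 = n40075 := d36_2 (iv F183982) D40853 (iv D40075)
theorem F188524 : act 9 n40853 = n40074 := d38_2 (iv F183983) D40853 F184916
def n40854 : Q := act 8 n39766
theorem D40854 : act 8 n39766 = n40854 := rfl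
theorem F188525 : act 1 n40854 = n39769 := d15_1 D40854 (iv D39769) (iv F183984)
theorem F188526 : act 4 n40854 = n40128 := d33_1 D40854 F185040 (iv F183985)
theorem F188527 : act 6 n40854 = n39788 := d40_1 D40854 (iv D39788) (iv F183986)
theorem F188528 : act 7 n40854 = n40076 := d42_1 D40854 (iv D40076) (iv F183987)
def n40855 : Q := act 4 n39767
theorem D40855 : act 4 n39767 = n40855 := rfl
theorem F188529 : act 5 n40855 = n40855 := d30_2 D39767 D40855 (iv D40855) (iv D39767) F178986
theorem F188530 : act 6 n40855 = n39792 := d31_2 (iv F183989) D40855 (iv D39792)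
theorem F188531 : act 7 n40855 = n40077 := d32_2 (iv F183990) D40855 (iv D40077)
def n40856 : Q := act 8 n39767
theorem D40856 : act 8 n39767 = n40856 := rfl
theorem F188532 : act 3 n40856 = n39769 := d28_1 D40856 (iv D39769) (iv F183988)
theorem F188533 : act 6 n40856 = n39793 := d40_1 D40856 (iv D39793) (iv F183989)
theorem F188534 : act 7 n40856 = n40078 := d42_1 D40856 (iv D40078) (iv F183990)
def n40857 : Q := act 5 n39768
theorem D40857 : act 5 n39768 = n40857 := rfl
theorem F188535 : act 3 n40857 = n39770 := d25_1 D40857 (iv D39770) (iv F183991)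
theorem F188536 : act 7 n40857 = n40079 := d36_2 (iv F183994) D40857 (iv D40079)
def n40858 : Q := act 5 n39769
theorem D40858 : act 5 n39769 = n40858 := rfl
theorem F188537 : act 2 n40858 = n39775 := d19_1 D40858 (iv D39775) (iv F183995)
theorem F188538 : act 7 n40858 = n40081 := d36_2 (iv F183997) D40858 (iv D40081)
theorem F188539 : act 8 n40858 = n39770 := d37_2 D39769 D40858 (iv D39770) (iv D38614) D38613
def n40859 : Q := act 9 n39769
theorem D40859 : act 9 n39769 = n40859 := rfl
theorem F188540 : act 2 n40859 = n39776 := d23_1 D40859 (iv D39776) (iv F183995)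
theorem F188541 : act 6 n40859 = n39795 := d41_1 D40859 (iv D39795) (iv F183996)
theorem F188542 : act 7 n40859 = n40082 := d43_1 D40859 (iv D40082) (iv F183997)
def n40860 : Q := act 4 n39770
theorem D40860 : act 4 n39770 = n40860 := rfl
theorem F188543 : act 2 n40860 = n39777 := d18_1 D40860 (iv D39777) (iv F183998)
theorem F188544 : act 5 n40860 = n39773 := d30_2 D39770 D40860 (iv D39773) (iv D38617) (iv F178995)
theorem F188545 : act 7 n40860 = n40083 := d32_2 (iv F183999) D40860 (iv D40083)
def n40861 : Q := act 6 n39770
theorem D40861 : act 6 n39770 = n40861 := rfl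
theorem F188546 : act 2 n40861 = n39778 := d20_1 D40861 (iv D39778) (iv F183998)
theorem F188547 : act 5 n40861 = n39772 := d35_1 D40861 (iv D39772) (iv D38615) (iv F178996) D39770
def n40862 : Q := act 9 n39770
theorem D40862 : act 9 n39770 = n40862 := rfl
theorem F188548 : act 2 n40862 = n39779 := d23_1 D40862 (iv D39779) (iv F183998)
theorem F188549 : act 5 n40862 = n39771 := d38_1 D40862 (iv D39771) D39770
theorem F188550 : act 7 n40862 = n40084 := d43_1 D40862 (iv D40084) (iv F183999)
def n40863 : Q := act 3 n39773
theorem D40863 : act 3 n39773 = n40863 := rfl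
theorem F188551 : act 4 n40863 = n40863 := d24_2 D39773 D40863 (iv D40863) (iv D39773) F179007
theorem F188552 : act 6 n40863 = n40863 := d26_2 F184009 D40863 (iv D40863)
theorem F188553 : act 7 n40863 = n40085 := d27_2 (iv F184010) D40863 (iv D40085)
def n40864 : Q := act 9 n39773
theorem D40864 : act 9 n39773 = n40864 := rfl
theorem F188554 : act 2 n40864 = n39782 := d23_1 D40864 (iv D39782) (iv F184008)
theorem F188555 : act 4 n40864 = n39774 := d34_1 D40864 (iv D39774) D39773
theorem F188556 : act 6 n40864 = n40864 := d41_1 D40864 (iv D40864) F184009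
theorem F188557 : act 7 n40864 = n40086 := d43_1 D40864 (iv D40086) (iv F184010)
def n40865 : Q := act 8 n39774
theorem D40865 : act 8 n39774 = n40865 := rfl
theorem F188558 : act 1 n40865 = n39784 := d15_1 D40865 (iv F186054) F186049
theorem F188559 : act 2 n40865 = n39783 := d22_1 D40865 (iv D39783) (iv F184011)
theorem F188560 : act 3 n40865 = n40865 := d28_1 D40865 (iv D40865) F184012
theorem F188561 : act 5 n40865 = n39865 := d37_1 D40865 (iv D39865) (iv D38709) (iv F179014) (iv F184013)
theorem F188562 : act 6 n40865 = n40865 := d40_1 D40865 (iv D40865) F184014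
theorem F188563 : act 7 n40865 = n40087 := d42_1 D40865 (iv D40087) (iv F184015)
def n40866 : Q := act 4 n39775
theorem D40866 : act 4 n39775 = n40866 := rfl
theorem F188564 : act 7 n40866 = n40088 := d32_2 (iv F184016) D40866 (iv D40088)
theorem F188565 : act 8 n40866 = n39777 := d33_2 (iv F184017) D40866 (iv D39777)
def n40867 : Q := act 6 n39775
theorem D40867 : act 6 n39775 = n40867 := rfl
theorem F188566 : act 5 n40867 = n39801 := d35_1 D40867 (iv D39801) (iv D38641) (iv F179015) D39775
theorem F188567 : act 8 n40867 = n39778 := d40_2 (iv F184017) D40867 (iv D39778)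
def n40868 : Q := act 9 n39775
theorem D40868 : act 9 n39775 = n40868 := rfl
theorem F188568 : act 5 n40868 = n39776 := d38_1 D40868 (iv D39776) D39775
theorem F188569 : act 7 n40868 = n40090 := d43_1 D40868 (iv D40090) (iv F184016)
def n40869 : Q := act 3 n39777
theorem D40869 : act 3 n39777 = n40869 := rfl
theorem F188570 : act 5 n40869 = n39781 := d25_2 (iv F184020) D40869 (iv D39781)
theorem F188571 : act 7 n40869 = n40091 := d27_2 (iv F184021) D40869 (iv D40091)
def n40870 : Q := act 6 n39777
theorem D40870 : act 6 n39777 = n40870 := rfl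
theorem F188572 : act 4 n40870 = n39778 := d31_1 D40870 (iv D39778) D39777
theorem F188573 : act 5 n40870 = n40870 := d35_1 D40870 (iv D40870) F184020 F179029 (iv F184020)
def n40871 : Q := act 9 n39777
theorem D40871 : act 9 n39777 = n40871 := rfl
theorem F188574 : act 1 n40871 = n39817 := d16_1 D40871 (iv F186313) F186310
theorem F188575 : act 4 n40871 = n39779 := d34_1 D40871 (iv D39779) D39777
theorem F188576 : act 5 n40871 = n39782 := d38_1 D40871 (iv D39782) (iv F184020)
theorem F188577 : act 7 n40871 = n40093 := d43_1 D40871 (iv D40093) (iv F184021)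
def n40872 : Q := act 7 n39778
theorem D40872 : act 7 n39778 = n40872 := rfl
theorem F188578 : act 5 n40872 = n39780 := d36_1 D40872 (iv D39780) (iv F184022)
theorem F188579 : act 6 n40872 = n40094 := d39_1 D40872 (iv D40094) (iv D38947) (iv F179017) D39778
def n40873 : Q := act 8 n39779
theorem D40873 : act 8 n39779 = n40873 := rfl
theorem F188580 : act 1 n40873 = n39815 := d15_1 D40873 F184132 (iv F184023)
theorem F188581 : act 3 n40873 = n39810 := d28_1 D40873 F184119 (iv F184024)
theorem F188582 : act 5 n40873 = n39809 := d37_1 D40873 (iv D39809) (iv D38649) (iv F179023) (iv F184025)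
theorem F188583 : act 7 n40873 = n40096 := d42_1 D40873 (iv D40096) (iv F184026)
def n40874 : Q := act 2 n39781
theorem D40874 : act 2 n39781 = n40874 := rfl
theorem F188584 : act 4 n40874 = n39784 := d18_2 (iv F184030) D40874 (iv D39784)
theorem F188585 : act 6 n40874 = n40874 := d20_2 F184031 D40874 (iv D40874)
theorem F188586 : act 7 n40874 = n40099 := d21_2 (iv F184032) D40874 (iv D40099)
def n40875 : Q := act 9 n39781
theorem D40875 : act 9 n39781 = n40875 := rfl
theorem F188587 : act 1 n40875 = n39869 := d16_1 D40875 (iv F186325) F186320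
theorem F188588 : act 3 n40875 = n39782 := d29_1 D40875 (iv D39782) D39781
theorem F188589 : act 4 n40875 = n39785 := d34_1 D40875 (iv D39785) (iv F184030)
theorem F188590 : act 6 n40875 = n40875 := d41_1 D40875 (iv D40875) F184031
theorem F188591 : act 7 n40875 = n40100 := d43_1 D40875 (iv D40100) (iv F184032)
def n40876 : Q := act 8 n39782
theorem D40876 : act 8 n39782 = n40876 := rfl
theorem F188592 : act 1 n40876 = n39868 := d15_1 D40876 F184280 (iv F184033)
theorem F188593 : act 4 n40876 = n39783 := d33_1 D40876 (iv D39783) (iv F184034)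
theorem F188594 : act 6 n40876 = n40876 := d40_1 D40876 (iv D40876) F184035
theorem F188595 : act 7 n40876 = n40101 := d42_1 D40876 (iv D40101) (iv F184036)
def n40877 : Q := act 9 n39784
theorem D40877 : act 9 n39784 = n40877 := rfl
theorem F188596 : act 2 n40877 = n39785 := d23_1 D40877 (iv D39785) D39784
theorem F188597 : act 3 n40877 = n40877 := d29_1 D40877 (iv D40877) F184042
theorem F188598 : act 5 n40877 = n39857 := d38_1 D40877 (iv F187331) F187327
theorem F188599 : act 6 n40877 = n40877 := d41_1 D40877 (iv D40877) F184043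
theorem F188600 : act 7 n40877 = n40102 := d43_1 D40877 (iv D40102) (iv F184044)
theorem F188601 : act 8 n40877 = n40187 := d44_1 D40877 (iv D40187) (iv F182376) (iv F186055) F186054
def n40878 : Q := act 5 n39786
theorem D40878 : act 5 n39786 = n40878 := rfl
theorem F188602 : act 2 n40878 = n39787 := d19_1 D40878 (iv D39787) (iv F184050)
theorem F188603 : act 7 n40878 = n39807 := d36_2 (iv F184052) D40878 (iv D39807)
theorem F188604 : act 9 n40878 = n39980 := d38_2 (iv F184054) D40878 F184675
def n40879 : Q := act 4 n39787
theorem D40879 : act 4 n39787 = n40879 := rfl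
theorem F188605 : act 1 n40879 = n39792 := d11_1 D40879 (iv D39792) (iv F184055)
theorem F188606 : act 3 n40879 = n40037 := d24_1 D40879 F184822 F179872 (iv F179060) (iv F184056)
theorem F188607 : act 5 n40879 = n39861 := d30_2 D39787 D40879 (iv D39861) (iv D38704) (iv F179055)
theorem F188608 : act 7 n40879 = n39808 := d32_2 (iv F184057) D40879 (iv D39808)
theorem F188609 : act 9 n40879 = n40073 := d34_2 (iv F184058) D40879 (iv D40073)
def n40880 : Q := act 8 n39787
theorem D40880 : act 8 n39787 = n40880 := rfl
theorem F188610 : act 1 n40880 = n39793 := d15_1 D40880 (iv D39793) (iv F184055)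
theorem F188611 : act 3 n40880 = n39788 := d28_1 D40880 (iv D39788) (iv F184056)
theorem F188612 : act 5 n40880 = n40096 := d37_1 D40880 (iv D40096) F180053 (iv F179057) D39787
theorem F188613 : act 7 n40880 = n39809 := d42_1 D40880 (iv D39809) (iv F184057)
def n40881 : Q := act 5 n39788
theorem D40881 : act 5 n39788 = n40881 := rfl
theorem F188614 : act 1 n40881 = n39794 := d12_1 D40881 (iv D39794) (iv F184059)
theorem F188615 : act 3 n40881 = n40096 := d25_1 D40881 (iv F188612) F188611
theorem F188616 : act 7 n40881 = n39810 := d36_2 (iv F184061) D40881 (iv D39810)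
theorem F188617 : act 8 n40881 = n39789 := d37_2 D39788 D40881 (iv D39789) (iv D38632) D38631
def n40882 : Q := act 9 n39788
theorem D40882 : act 9 n39788 = n40882 := rfl
theorem F188618 : act 1 n40882 = n39795 := d16_1 D40882 (iv D39795) (iv F184059)
theorem F188619 : act 4 n40882 = n40167 := d34_1 D40882 (iv D40167) (iv F184060)
theorem F188620 : act 7 n40882 = n39811 := d43_1 D40882 (iv D39811) (iv F184061)
def n40883 : Q := act 4 n39789
theorem D40883 : act 4 n39789 = n40883 := rfl
theorem F188621 : act 1 n40883 = n39796 := d11_1 D40883 (iv D39796) (iv F184062)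
theorem F188622 : act 5 n40883 = n39791 := d30_2 D39789 D40883 (iv D39791) (iv D38634) (iv F179064)
theorem F188623 : act 7 n40883 = n39812 := d32_2 (iv F184064) D40883 (iv D39812)
theorem F188624 : act 9 n40883 = n39929 := d34_2 (iv F184065) D40883 (iv D39929)
def n40884 : Q := act 6 n39789
theorem D40884 : act 6 n39789 = n40884 := rfl
theorem F188625 : act 1 n40884 = n39797 := d13_1 D40884 (iv D39797) (iv F184062)
theorem F188626 : act 3 n40884 = n40095 := d26_1 D40884 F184959 (iv F184063)
theorem F188627 : act 5 n40884 = n39790 := d35_1 D40884 (iv D39790) (iv D38633) (iv F179065) D39789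
theorem F188628 : act 9 n40884 = n39930 := d41_2 (iv F184065) D40884 (iv D39930)
def n40885 : Q := act 3 n39791
theorem D40885 : act 3 n39791 = n40885 := rfl
theorem F188629 : act 1 n40885 = n39799 := d10_1 D40885 (iv D39799) (iv F184070)
theorem F188630 : act 4 n40885 = n39858 := d24_2 D39791 D40885 F184241 F179247 (iv F179074)
theorem F188631 : act 6 n40885 = n40885 := d26_2 F184071 D40885 (iv D40885)
theorem F188632 : act 7 n40885 = n39813 := d27_2 (iv F184072) D40885 (iv D39813)
theorem F188633 : act 8 n40885 = n39854 := d28_2 (iv F184073) D40885 F184228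
theorem F188634 : act 9 n40885 = n39932 := d29_2 (iv F184074) D40885 (iv D39932)
def n40886 : Q := act 8 n39792
theorem D40886 : act 8 n39792 = n40886 := rfl
theorem F188635 : act 4 n40886 = n39793 := d33_1 D40886 (iv D39793) D39792
theorem F188636 : act 7 n40886 = n39814 := d42_1 D40886 (iv D39814) (iv F184076)
def n40887 : Q := act 9 n39793
theorem D40887 : act 9 n39793 = n40887 := rfl
theorem F188637 : act 3 n40887 = n39795 := d29_1 D40887 (iv D39795) (iv F184077)
theorem F188638 : act 7 n40887 = n39816 := d43_1 D40887 (iv D39816) (iv F184078)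
def n40888 : Q := act 4 n39794
theorem D40888 : act 4 n39794 = n40888 := rfl
theorem F188639 : act 2 n40888 = n39800 := d18_1 D40888 (iv D39800) (iv F184079)
theorem F188640 : act 7 n40888 = n39820 := d32_2 (iv F184080) D40888 (iv D39820)
theorem F188641 : act 8 n40888 = n39796 := d33_2 (iv F184081) D40888 (iv D39796)
def n40889 : Q := act 6 n39794
theorem D40889 : act 6 n39794 = n40889 := rfl
theorem F188642 : act 2 n40889 = n39801 := d20_1 D40889 (iv D39801) (iv F184079)
theorem F188643 : act 8 n40889 = n39797 := d40_2 (iv F184081) D40889 (iv D39797)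
def n40890 : Q := act 9 n39794
theorem D40890 : act 9 n39794 = n40890 := rfl
theorem F188644 : act 2 n40890 = n39802 := d23_1 D40890 (iv D39802) (iv F184079)
theorem F188645 : act 5 n40890 = n39795 := d38_1 D40890 (iv D39795) D39794
theorem F188646 : act 7 n40890 = n39822 := d43_1 D40890 (iv D39822) (iv F184080)
def n40891 : Q := act 3 n39796
theorem D40891 : act 3 n39796 = n40891 := rfl
theorem F188647 : act 5 n40891 = n39799 := d25_2 (iv F184085) D40891 (iv D39799)
theorem F188648 : act 7 n40891 = n39823 := d27_2 (iv F184086) D40891 (iv D39823)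
def n40892 : Q := act 6 n39796
theorem D40892 : act 6 n39796 = n40892 := rfl
theorem F188649 : act 2 n40892 = n39803 := d20_1 D40892 (iv D39803) (iv F184084)
theorem F188650 : act 4 n40892 = n39797 := d31_1 D40892 (iv D39797) D39796
theorem F188651 : act 5 n40892 = n40892 := d35_1 D40892 (iv D40892) F184085 F179091 (iv F184085)
def n40893 : Q := act 7 n39797
theorem D40893 : act 7 n39797 = n40893 := rfl
theorem F188652 : act 2 n40893 = n39805 := d21_1 D40893 (iv D39805) (iv F184087)
theorem F188653 : act 5 n40893 = n39798 := d36_1 D40893 (iv D39798) (iv F184088)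
theorem F188654 : act 6 n40893 = n39826 := d39_1 D40893 (iv D39826) (iv D38661) (iv F179084) D39797
def n40894 : Q := act 6 n39800
theorem D40894 : act 6 n39800 = n40894 := rfl
theorem F188655 : act 4 n40894 = n39801 := d31_1 D40894 (iv D39801) D39800
theorem F188656 : act 8 n40894 = n39803 := d40_2 (iv F184096) D40894 (iv D39803)
def n40895 : Q := act 9 n39800
theorem D40895 : act 9 n39800 = n40895 := rfl
theorem F188657 : act 4 n40895 = n39802 := d34_1 D40895 (iv D39802) D39800
theorem F188658 : act 7 n40895 = n39833 := d43_1 D40895 (iv D39833) (iv F184095)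
def n40896 : Q := act 7 n39801
theorem D40896 : act 7 n39801 = n40896 := rfl
theorem F188659 : act 6 n40896 = n39834 := d39_1 D40896 (iv D39834) (iv D38669) (iv F179093) D39801
theorem F188660 : act 8 n40896 = n39805 := d42_2 (iv F184097) D40896 (iv D39805)
def n40897 : Q := act 9 n39801
theorem D40897 : act 9 n39801 = n40897 := rfl
theorem F188661 : act 6 n40897 = n39802 := d41_1 D40897 (iv D39802) D39801
def n40898 : Q := act 8 n39802
theorem D40898 : act 8 n39802 = n40898 := rfl
theorem F188662 : act 7 n40898 = n39836 := d42_1 D40898 (iv D39836) (iv F184099)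
theorem F188663 : act 9 n40898 = n39806 := d44_2 D39802 D40898 (iv D39806) (iv D38645) (iv F179094)
def n40899 : Q := act 7 n39803
theorem D40899 : act 7 n39803 = n40899 := rfl
theorem F188664 : act 4 n40899 = n39805 := d32_1 D40899 (iv D39805) (iv F184100)
theorem F188665 : act 5 n40899 = n40899 := d36_1 D40899 (iv D40899) F184101
theorem F188666 : act 6 n40899 = n39840 := d39_1 D40899 (iv D39840) (iv D38672) (iv F179097) D39803
def n40900 : Q := act 8 n39804
theorem D40900 : act 8 n39804 = n40900 := rfl
theorem F188667 : act 4 n40900 = n39806 := d33_1 D40900 (iv D39806) (iv F184102)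
theorem F188668 : act 7 n40900 = n39842 := d42_1 D40900 (iv D39842) (iv F184104)
def n40901 : Q := act 4 n39807
theorem D40901 : act 4 n39807 = n40901 := rfl
theorem F188669 : act 2 n40901 = n39808 := d18_1 D40901 (iv D39808) (iv F184108)
theorem F188670 : act 5 n40901 = n39864 := d30_2 D39807 D40901 (iv D39864) (iv D38709) (iv F179107)
theorem F188671 : act 6 n40901 = n39979 := d31_2 (iv F184109) D40901 F184672
theorem F188672 : act 9 n40901 = n39978 := d34_2 (iv F184110) D40901 F184669
def n40902 : Q := act 8 n39807
theorem D40902 : act 8 n39807 = n40902 := rfl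
theorem F188673 : act 2 n40902 = n39809 := d22_1 D40902 (iv D39809) (iv F184108)
theorem F188674 : act 6 n40902 = n39981 := d40_1 D40902 (iv D39981) (iv F184109)
def n40903 : Q := act 8 n39808
theorem D40903 : act 8 n39808 = n40903 := rfl
theorem F188675 : act 1 n40903 = n39814 := d15_1 D40903 (iv D39814) (iv F184111)
theorem F188676 : act 3 n40903 = n40032 := d28_1 D40903 F184814 (iv F184112)
theorem F188677 : act 4 n40903 = n39809 := d33_1 D40903 (iv D39809) D39808
theorem F188678 : act 6 n40903 = n40031 := d40_1 D40903 F184812 (iv F184114)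
def n40904 : Q := act 9 n39809
theorem D40904 : act 9 n39809 = n40904 := rfl
theorem F188679 : act 1 n40904 = n39816 := d16_1 D40904 (iv D39816) (iv F184115)
theorem F188680 : act 3 n40904 = n39811 := d29_1 D40904 (iv D39811) (iv F184116)
theorem F188681 : act 6 n40904 = n40154 := d41_1 D40904 (iv D40154) (iv F184117)
def n40905 : Q := act 4 n39810
theorem D40905 : act 4 n39810 = n40905 := rfl
theorem F188682 : act 1 n40905 = n39820 := d11_1 D40905 (iv D39820) (iv F184118)
theorem F188683 : act 5 n40905 = n39832 := d30_2 D39810 D40905 F184176 F179160 (iv F179113)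
theorem F188684 : act 8 n40905 = n39812 := d33_2 (iv F184119) D40905 (iv D39812)
def n40906 : Q := act 9 n39810
theorem D40906 : act 9 n39810 = n40906 := rfl
theorem F188685 : act 1 n40906 = n39822 := d16_1 D40906 (iv D39822) (iv F184118)
theorem F188686 : act 5 n40906 = n39811 := d38_1 D40906 (iv D39811) D39810
def n40907 : Q := act 3 n39812
theorem D40907 : act 3 n39812 = n40907 := rfl
theorem F188687 : act 1 n40907 = n39823 := d10_1 D40907 (iv D39823) (iv F184123)
theorem F188688 : act 5 n40907 = n39813 := d25_2 (iv F184124) D40907 (iv D39813)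
def n40908 : Q := act 2 n39813
theorem D40908 : act 2 n39813 = n40908 := rfl
theorem F188689 : act 4 n40908 = n39857 := d18_2 (iv F184126) D40908 F184237
theorem F188690 : act 6 n40908 = n39847 := d20_2 (iv F184127) D40908 (iv D39847)
theorem F188691 : act 8 n40908 = n39853 := d22_2 (iv F184128) D40908 F184226
def n40909 : Q := act 5 n39814
theorem D40909 : act 5 n39814 = n40909 := rfl
theorem F188692 : act 8 n40909 = n39867 := d37_2 D39814 D40909 (iv D39867) (iv D38712) (iv F179119)
def n40910 : Q := act 9 n39814
theorem D40910 : act 9 n39814 = n40910 := rfl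
theorem F188693 : act 4 n40910 = n39816 := d34_1 D40910 (iv D39816) (iv F184129)
theorem F188694 : act 6 n40910 = n40156 := d41_1 D40910 (iv D40156) (iv F184130)
def n40911 : Q := act 4 n39815
theorem D40911 : act 4 n39815 = n40911 := rfl
theorem F188695 : act 8 n40911 = n39817 := d33_2 (iv F184132) D40911 (iv D39817)
def n40912 : Q := act 6 n39815
theorem D40912 : act 6 n39815 = n40912 := rfl
theorem F188696 : act 3 n40912 = n39821 := d26_1 D40912 (iv D39821) (iv F184131)
theorem F188697 : act 5 n40912 = n40158 := d35_1 D40912 (iv D40158) (iv D39017) (iv F179122) D39815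
theorem F188698 : act 8 n40912 = n39818 := d40_2 (iv F184132) D40912 (iv D39818)
def n40913 : Q := act 9 n39815
theorem D40913 : act 9 n39815 = n40913 := rfl
theorem F188699 : act 3 n40913 = n39822 := d29_1 D40913 (iv D39822) (iv F184131)
theorem F188700 : act 5 n40913 = n39816 := d38_1 D40913 (iv D39816) D39815
def n40914 : Q := act 3 n39817
theorem D40914 : act 3 n39817 = n40914 := rfl
theorem F188701 : act 4 n40914 = n39823 := d24_2 D39817 D40914 (iv D39823) (iv D38660) (iv F179123)
theorem F188702 : act 5 n40914 = n39869 := d25_2 (iv F184135) D40914 (iv D39869)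
def n40915 : Q := act 6 n39817
theorem D40915 : act 6 n39817 = n40915 := rfl
theorem F188703 : act 4 n40915 = n39818 := d31_1 D40915 (iv D39818) D39817
theorem F188704 : act 5 n40915 = n40915 := d35_1 D40915 (iv D40915) F184135 F179299 (iv F184135)
def n40916 : Q := act 7 n39818
theorem D40916 : act 7 n39818 = n40916 := rfl
theorem F188705 : act 3 n40916 = n39826 := d27_1 D40916 (iv D39826) (iv F184136)
theorem F188706 : act 5 n40916 = n39819 := d36_1 D40916 (iv D39819) (iv F184137)
def n40917 : Q := act 3 n39820
theorem D40917 : act 3 n39820 = n40917 := rfl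
theorem F188707 : act 8 n40917 = n39823 := d28_2 (iv F184143) D40917 (iv D39823)
def n40918 : Q := act 6 n39820
theorem D40918 : act 6 n39820 = n40918 := rfl
theorem F188708 : act 2 n40918 = n39832 := d20_1 D40918 (iv D39832) (iv F184142)
theorem F188709 : act 4 n40918 = n39821 := d31_1 D40918 (iv D39821) D39820
theorem F188710 : act 8 n40918 = n39824 := d40_2 (iv F184143) D40918 (iv D39824)
def n40919 : Q := act 9 n39820
theorem D40919 : act 9 n39820 = n40919 := rfl
theorem F188711 : act 2 n40919 = n39833 := d23_1 D40919 (iv D39833) (iv F184142)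
theorem F188712 : act 4 n40919 = n39822 := d34_1 D40919 (iv D39822) D39820
def n40920 : Q := act 7 n39821
theorem D40920 : act 7 n39821 = n40920 := rfl
theorem F188713 : act 2 n40920 = n39834 := d21_1 D40920 (iv D39834) (iv F184144)
theorem F188714 : act 5 n40920 = n40164 := d36_1 D40920 (iv D40164) (iv F184145)
theorem F188715 : act 8 n40920 = n39826 := d42_2 (iv F184146) D40920 (iv D39826)
def n40921 : Q := act 9 n39821
theorem D40921 : act 9 n39821 = n40921 := rfl
theorem F188716 : act 2 n40921 = n39835 := d23_1 D40921 (iv D39835) (iv F184144)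
theorem F188717 : act 5 n40921 = n40165 := d38_1 D40921 (iv D40165) (iv F184145)
theorem F188718 : act 6 n40921 = n39822 := d41_1 D40921 (iv D39822) D39821
def n40922 : Q := act 8 n39822
theorem D40922 : act 8 n39822 = n40922 := rfl
theorem F188719 : act 0 n40922 = n40062 := d7_1 D40922 (iv F185657) F185653
theorem F188720 : act 2 n40922 = n39836 := d22_1 D40922 (iv D39836) (iv F184147)
theorem F188721 : act 5 n40922 = n40049 := d37_1 D40922 F184856 (iv F183336) F183338 (iv F184148)
theorem F188722 : act 9 n40922 = n39828 := d44_2 D39822 D40922 (iv D39828) (iv D38662) (iv F179131)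
def n40923 : Q := act 2 n39823
theorem D40923 : act 2 n39823 = n40923 := rfl
theorem F188723 : act 3 n40923 = n39837 := d17_2 D39823 D40923 (iv D39837) (iv D38671) (iv F179134)
theorem F188724 : act 5 n40923 = n39830 := d19_2 (iv F184149) D40923 (iv D39830)
theorem F188725 : act 9 n40923 = n39867 := d23_2 F188450 D40923 (iv F188448)
def n40924 : Q := act 6 n39823
theorem D40924 : act 6 n39823 = n40924 := rfl
theorem F188726 : act 3 n40924 = n39824 := d26_1 D40924 (iv D39824) D39823
theorem F188727 : act 5 n40924 = n39849 := d35_1 D40924 (iv D39849) F179189 (iv F179154) (iv F184149)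
def n40925 : Q := act 7 n39824
theorem D40925 : act 7 n39824 = n40925 := rfl
theorem F188728 : act 2 n40925 = n39840 := d21_1 D40925 (iv D39840) (iv F184150)
theorem F188729 : act 4 n40925 = n39826 := d32_1 D40925 (iv D39826) (iv F184151)
theorem F188730 : act 5 n40925 = n39850 := d36_1 D40925 (iv D39850) (iv F184152)
def n40926 : Q := act 9 n39824
theorem D40926 : act 9 n39824 = n40926 := rfl
theorem F188731 : act 0 n40926 = n40064 := d8_1 D40926 (iv F185667) F185662
theorem F188732 : act 2 n40926 = n39841 := d23_1 D40926 (iv D39841) (iv F184150)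
theorem F188733 : act 4 n40926 = n39827 := d34_1 D40926 (iv D39827) (iv F184151)
theorem F188734 : act 5 n40926 = n39851 := d38_1 D40926 (iv D39851) (iv F184152)
theorem F188735 : act 6 n40926 = n39825 := d41_1 D40926 (iv D39825) D39824
def n40927 : Q := act 8 n39825
theorem D40927 : act 8 n39825 = n40927 := rfl
theorem F188736 : act 0 n40927 = n40060 := d7_1 D40927 F184888 (iv F184153)
theorem F188737 : act 2 n40927 = n39842 := d22_1 D40927 (iv D39842) (iv F184154)
theorem F188738 : act 4 n40927 = n39828 := d33_1 D40927 (iv D39828) (iv F184155)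
def n40928 : Q := act 9 n39826
theorem D40928 : act 9 n39826 = n40928 := rfl
theorem F188739 : act 0 n40928 = n40065 := d8_1 D40928 (iv F185672) F185668
theorem F188740 : act 2 n40928 = n39843 := d23_1 D40928 (iv D39843) (iv F184157)
theorem F188741 : act 5 n40928 = n39829 := d38_1 D40928 (iv D39829) (iv F184158)
theorem F188742 : act 7 n40928 = n39827 := d43_1 D40928 (iv D39827) D39826
def n40929 : Q := act 8 n39827
theorem D40929 : act 8 n39827 = n40929 := rfl
theorem F188743 : act 0 n40929 = n40061 := d7_1 D40929 F184890 (iv F184159)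
theorem F188744 : act 2 n40929 = n39844 := d22_1 D40929 (iv D39844) (iv F184160)
theorem F188745 : act 6 n40929 = n39828 := d40_1 D40929 (iv D39828) (iv F184162)
def n40930 : Q := act 2 n39831
theorem D40930 : act 2 n39831 = n40930 := rfl
theorem F188746 : act 8 n40930 = n39837 := d22_2 (iv F184175) D40930 (iv D39837)
def n40931 : Q := act 6 n39831
theorem D40931 : act 6 n39831 = n40931 := rfl
theorem F188747 : act 3 n40931 = n39832 := d26_1 D40931 (iv D39832) D39831
theorem F188748 : act 8 n40931 = n39838 := d40_2 (iv F184175) D40931 (iv D39838)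
def n40932 : Q := act 9 n39831
theorem D40932 : act 9 n39831 = n40932 := rfl
theorem F188749 : act 3 n40932 = n39833 := d29_1 D40932 (iv D39833) D39831
def n40933 : Q := act 7 n39832
theorem D40933 : act 7 n39832 = n40933 := rfl
theorem F188750 : act 4 n40933 = n39834 := d32_1 D40933 (iv D39834) (iv F184176)
theorem F188751 : act 8 n40933 = n39840 := d42_2 (iv F184177) D40933 (iv D39840)
def n40934 : Q := act 9 n39832
theorem D40934 : act 9 n39832 = n40934 := rfl
theorem F188752 : act 4 n40934 = n39835 := d34_1 D40934 (iv D39835) (iv F184176)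
theorem F188753 : act 6 n40934 = n39833 := d41_1 D40934 (iv D39833) D39832
def n40935 : Q := act 8 n39833
theorem D40935 : act 8 n39833 = n40935 := rfl
theorem F188754 : act 4 n40935 = n39836 := d33_1 D40935 (iv D39836) (iv F184178)
theorem F188755 : act 9 n40935 = n39842 := d44_2 D39833 D40935 (iv D39842) (iv D38673) (iv F179159)
def n40936 : Q := act 9 n39834
theorem D40936 : act 9 n39834 = n40936 := rfl
theorem F188756 : act 5 n40936 = n40167 := d38_1 D40936 (iv D40167) (iv F184179)
theorem F188757 : act 7 n40936 = n39835 := d43_1 D40936 (iv D39835) D39834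
def n40937 : Q := act 8 n39835
theorem D40937 : act 8 n39835 = n40937 := rfl
theorem F188758 : act 6 n40937 = n39836 := d40_1 D40937 (iv D39836) (iv F184182)
theorem F188759 : act 9 n40937 = n39844 := d44_2 D39835 D40937 (iv D39844) (iv D38675) (iv F179161)
def n40938 : Q := act 1 n39837
theorem D40938 : act 1 n39837 = n40938 := rfl
theorem F188760 : act 5 n40938 = n39845 := d12_2 (iv F184184) D40938 (iv D39845)
theorem F188761 : act 9 n40938 = n40044 := d16_2 F188252 D40938 (iv F188248)
def n40939 : Q := act 6 n39837
theorem D40939 : act 6 n39837 = n40939 := rfl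
theorem F188762 : act 2 n40939 = n39838 := d20_1 D40939 (iv D39838) D39837
theorem F188763 : act 5 n40939 = n39853 := d35_1 D40939 (iv D39853) F179219 (iv F179175) (iv F184184)
def n40940 : Q := act 7 n39838
theorem D40940 : act 7 n39838 = n40940 := rfl
theorem F188764 : act 3 n40940 = n39840 := d27_1 D40940 (iv D39840) (iv F184185)
theorem F188765 : act 5 n40940 = n39854 := d36_1 D40940 (iv D39854) (iv F184186)
def n40941 : Q := act 9 n39838
theorem D40941 : act 9 n39838 = n40941 := rfl
theorem F188766 : act 3 n40941 = n39841 := d29_1 D40941 (iv D39841) (iv F184185)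
theorem F188767 : act 5 n40941 = n39855 := d38_1 D40941 (iv D39855) (iv F184186)
theorem F188768 : act 6 n40941 = n39839 := d41_1 D40941 (iv D39839) D39838
def n40942 : Q := act 8 n39839
theorem D40942 : act 8 n39839 = n40942 := rfl
theorem F188769 : act 3 n40942 = n39842 := d28_1 D40942 (iv D39842) (iv F184187)
def n40943 : Q := act 9 n39840
theorem D40943 : act 9 n39840 = n40943 := rfl
theorem F188770 : act 4 n40943 = n39843 := d34_1 D40943 (iv D39843) (iv F184189)
theorem F188771 : act 5 n40943 = n39856 := d38_1 D40943 (iv D39856) (iv F184190)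
theorem F188772 : act 7 n40943 = n39841 := d43_1 D40943 (iv D39841) D39840
def n40944 : Q := act 8 n39841
theorem D40944 : act 8 n39841 = n40944 := rfl
theorem F188773 : act 4 n40944 = n39844 := d33_1 D40944 (iv D39844) (iv F184191)
theorem F188774 : act 6 n40944 = n39842 := d40_1 D40944 (iv D39842) (iv F184193)
def n40945 : Q := act 5 n39842
theorem D40945 : act 5 n39842 = n40945 := rfl
theorem F188775 : act 8 n40945 = n39846 := d37_2 D39842 D40945 (iv D39846) (iv D38680) (iv F179167)
def n40946 : Q := act 8 n39843
theorem D40946 : act 8 n39843 = n40946 := rfl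
theorem F188776 : act 7 n40946 = n39844 := d42_1 D40946 (iv D39844) (iv F184196)
def n40947 : Q := act 6 n39848
theorem D40947 : act 6 n39848 = n40947 := rfl
theorem F188777 : act 2 n40947 = n39849 := d20_1 D40947 (iv D39849) D39848
theorem F188778 : act 3 n40947 = n39853 := d26_1 D40947 (iv D39853) (iv F184204)
theorem F188779 : act 4 n40947 = n40947 := d31_1 D40947 (iv D40947) F184205
theorem F188780 : act 9 n40947 = n39872 := d41_2 (iv F184208) D40947 (iv D39872)
def n40948 : Q := act 7 n39849
theorem D40948 : act 7 n39849 = n40948 := rfl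
theorem F188781 : act 3 n40948 = n39850 := d27_1 D40948 (iv D39850) (iv F184209)
theorem F188782 : act 4 n40948 = n40948 := d32_1 D40948 (iv D40948) F184210
theorem F188783 : act 6 n40948 = n40948 := d39_1 D40948 (iv D40948) (iv D39849) F179190 D39849
def n40949 : Q := act 9 n39850
theorem D40949 : act 9 n39850 = n40949 := rfl
theorem F188784 : act 0 n40949 = n40173 := d8_1 D40949 (iv F185779) F185774
theorem F188785 : act 2 n40949 = n39856 := d23_1 D40949 (iv D39856) (iv F184211)
theorem F188786 : act 4 n40949 = n39852 := d34_1 D40949 (iv D39852) (iv F184212)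
theorem F188787 : act 6 n40949 = n40949 := d41_1 D40949 (iv D40949) F184213
theorem F188788 : act 7 n40949 = n39851 := d43_1 D40949 (iv D39851) D39850
theorem F188789 : act 8 n40949 = n40177 := d44_1 D40949 (iv D40177) (iv F184507) (iv F188349) F188348
def n40950 : Q := act 7 n39853
theorem D40950 : act 7 n39853 = n40950 := rfl
theorem F188790 : act 2 n40950 = n39854 := d21_1 D40950 (iv D39854) (iv F184226)
theorem F188791 : act 4 n40950 = n39859 := d32_1 D40950 (iv D39859) (iv F184227)
theorem F188792 : act 6 n40950 = n40950 := d39_1 D40950 (iv D40950) (iv D39853) F179220 D39853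
theorem F188793 : act 9 n40950 = n40188 := d43_2 F187718 D40950 (iv F187716)
def n40951 : Q := act 7 n39857
theorem D40951 : act 7 n39857 = n40951 := rfl
theorem F188794 : act 2 n40951 = n39858 := d21_1 D40951 (iv D39858) (iv F184237)
theorem F188795 : act 3 n40951 = n40951 := d27_1 D40951 (iv D40951) F184238
theorem F188796 : act 5 n40951 = n40102 := d36_1 D40951 (iv F188600) F188598
theorem F188797 : act 6 n40951 = n40951 := d39_1 D40951 (iv D40951) (iv D39857) F179240 D39857
theorem F188798 : act 8 n40951 = n39859 := d42_2 (iv F184239) D40951 (iv D39859)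
theorem F188799 : act 9 n40951 = n39933 := d43_2 F187331 D40951 (iv F187329)
def n40952 : Q := act 4 n39860
theorem D40952 : act 4 n39860 = n40952 := rfl
theorem F188800 : act 2 n40952 = n39861 := d18_1 D40952 (iv D39861) (iv F184251)
theorem F188801 : act 6 n40952 = n40952 := d31_2 F184253 D40952 (iv D40952)
theorem F188802 : act 7 n40952 = n39864 := d32_2 (iv F184254) D40952 (iv D39864)
theorem F188803 : act 9 n40952 = n40040 := d34_2 (iv F184255) D40952 F184829
def n40953 : Q := act 8 n39860
theorem D40953 : act 8 n39860 = n40953 := rfl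
theorem F188804 : act 1 n40953 = n39933 := d15_1 D40953 (iv F187114) F187109
theorem F188805 : act 2 n40953 = n39862 := d22_1 D40953 (iv D39862) (iv F184251)
theorem F188806 : act 3 n40953 = n40953 := d28_1 D40953 (iv D40953) F184252
theorem F188807 : act 5 n40953 = n40087 := d37_1 D40953 (iv D40087) F180047 (iv F179261) D39860
theorem F188808 : act 6 n40953 = n40953 := d40_1 D40953 (iv D40953) F184253
theorem F188809 : act 7 n40953 = n39865 := d42_1 D40953 (iv D39865) (iv F184254)
def n40954 : Q := act 8 n39861
theorem D40954 : act 8 n39861 = n40954 := rfl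
theorem F188810 : act 1 n40954 = n39863 := d15_1 D40954 (iv D39863) (iv F184256)
theorem F188811 : act 3 n40954 = n40045 := d28_1 D40954 F184840 (iv F184257)
theorem F188812 : act 4 n40954 = n39862 := d33_1 D40954 (iv D39862) D39861
theorem F188813 : act 6 n40954 = n40954 := d40_1 D40954 (iv D40954) F184258
theorem F188814 : act 7 n40954 = n39866 := d42_1 D40954 (iv D39866) (iv F184259)
def n40955 : Q := act 5 n39863
theorem D40955 : act 5 n39863 = n40955 := rfl
theorem F188815 : act 7 n40955 = n39867 := d36_2 (iv F184268) D40955 (iv D39867)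
def n40956 : Q := act 3 n39864
theorem D40956 : act 3 n39864 = n40956 := rfl
theorem F188816 : act 1 n40956 = n40170 := d10_1 D40956 F188446 F188442
theorem F188817 : act 2 n40956 = n40042 := d17_1 D40956 F184833 F179904 (iv F179286) (iv F184269)
theorem F188818 : act 4 n40956 = n40956 := d24_2 D39864 D40956 (iv D40956) (iv D39864) F179282
theorem F188819 : act 6 n40956 = n39870 := d26_2 (iv F184270) D40956 (iv D39870)
theorem F188820 : act 9 n40956 = n40039 := d29_2 (iv F184271) D40956 F184826
def n40957 : Q := act 8 n39864
theorem D40957 : act 8 n39864 = n40957 := rfl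
theorem F188821 : act 2 n40957 = n39866 := d22_1 D40957 (iv D39866) (iv F184269)
theorem F188822 : act 4 n40957 = n39865 := d33_1 D40957 (iv D39865) D39864
theorem F188823 : act 6 n40957 = n39871 := d40_1 D40957 (iv D39871) (iv F184270)
def n40958 : Q := act 5 n39866
theorem D40958 : act 5 n39866 = n40958 := rfl
theorem F188824 : act 1 n40958 = n39867 := d12_1 D40958 (iv D39867) (iv F184275)
theorem F188825 : act 3 n40958 = n40044 := d25_1 D40958 (iv D40044) (iv F184276)
def n40959 : Q := act 4 n39867
theorem D40959 : act 4 n39867 = n40959 := rfl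
theorem F188826 : act 5 n40959 = n39868 := d30_2 D39867 D40959 (iv D39868) (iv D38713) (iv F179291)
def n40960 : Q := act 6 n39867
theorem D40960 : act 6 n39867 = n40960 := rfl
theorem F188827 : act 5 n40960 = n39872 := d35_1 D40960 (iv D39872) (iv D38720) (iv F179292) D39867
def n40961 : Q := act 7 n39872
theorem D40961 : act 7 n39872 = n40961 := rfl
theorem F188828 : act 3 n40961 = n40188 := d27_1 D40961 (iv F187716) (iv F187719)
theorem F188829 : act 4 n40961 = n40961 := d32_1 D40961 (iv D40961) F184292
theorem F188830 : act 6 n40961 = n40961 := d39_1 D40961 (iv D40961) (iv D39872) F179315 D39872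
theorem F188831 : act 8 n40961 = n40169 := d42_2 (iv F184293) D40961 (iv D40169)
def n40962 : Q := act 8 n39873
theorem D40962 : act 8 n39873 = n40962 := rfl
theorem F188832 : act 1 n40962 = n39874 := d15_1 D40962 (iv D39874) (iv F184294)
def n40963 : Q := act 9 n39874
theorem D40963 : act 9 n39874 = n40963 := rfl
theorem F188833 : act 0 n40963 = n39913 := d8_1 D40963 (iv D39913) (iv F184295)
theorem F188834 : act 2 n40963 = n39875 := d23_1 D40963 (iv D39875) (iv F184296)
def n40964 : Q := act 8 n39876
theorem D40964 : act 8 n39876 = n40964 := rfl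
theorem F188835 : act 1 n40964 = n39877 := d15_1 D40964 (iv D39877) (iv F184299)
theorem F188836 : act 2 n40964 = n39936 := d22_1 D40964 (iv D39936) (iv F184300)
theorem F188837 : act 3 n40964 = n40140 := d28_1 D40964 (iv D40140) (iv F184301)
theorem F188838 : act 4 n40964 = n39985 := d33_1 D40964 (iv D39985) (iv F184302)
theorem F188839 : act 5 n40964 = n40163 := d37_1 D40964 (iv D40163) F180204 (iv F179328) D39876
theorem F188840 : act 7 n40964 = n39908 := d42_1 D40964 (iv D39908) (iv F184303)
def n40965 : Q := act 9 n39877
theorem D40965 : act 9 n39877 = n40965 := rfl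
theorem F188841 : act 2 n40965 = n39880 := d23_1 D40965 (iv D39880) (iv F184305)
theorem F188842 : act 4 n40965 = n39990 := d34_1 D40965 (iv D39990) (iv F184306)
theorem F188843 : act 7 n40965 = n39913 := d43_1 D40965 (iv D39913) (iv F184307)
theorem F188844 : act 8 n40965 = n39972 := d44_1 D40965 (iv D39972) (iv D38819) (iv F179333) D39877
def n40966 : Q := act 4 n39879
theorem D40966 : act 4 n39879 = n40966 := rfl
theorem F188845 : act 1 n40966 = n39951 := d11_1 D40966 (iv D39951) (iv F184315)
theorem F188846 : act 3 n40966 = n40123 := d24_1 D40966 F185026 F180126 F179965 (iv F184316)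
theorem F188847 : act 5 n40966 = n39995 := d30_2 D39879 D40966 (iv D39995) (iv D38841) (iv F179343)
theorem F188848 : act 7 n40966 = n39915 := d32_2 (iv F184317) D40966 (iv D39915)
theorem F188849 : act 8 n40966 = n39881 := d33_2 (iv F184318) D40966 (iv D39881)
def n40967 : Q := act 9 n39879
theorem D40967 : act 9 n39879 = n40967 := rfl
theorem F188850 : act 1 n40967 = n39953 := d16_1 D40967 (iv D39953) (iv F184315)
theorem F188851 : act 3 n40967 = n40051 := d29_1 D40967 (iv D40051) (iv F184316)
theorem F188852 : act 5 n40967 = n39880 := d38_1 D40967 (iv D39880) D39879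
theorem F188853 : act 7 n40967 = n39916 := d43_1 D40967 (iv D39916) (iv F184317)
def n40968 : Q := act 8 n39882
theorem D40968 : act 8 n39882 = n40968 := rfl
theorem F188854 : act 1 n40968 = n39884 := d15_1 D40968 (iv D39884) (iv F184328)
theorem F188855 : act 2 n40968 = n39968 := d22_1 D40968 (iv D39968) (iv F184329)
theorem F188856 : act 3 n40968 = n39989 := d28_1 D40968 F184704 (iv F184330)
theorem F188857 : act 4 n40968 = n39908 := d33_1 D40968 (iv D39908) (iv F184331)
theorem F188858 : act 5 n40968 = n39988 := d37_1 D40968 (iv D39988) (iv D38835) (iv F179358) D39882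
theorem F188859 : act 7 n40968 = n39985 := d42_1 D40968 (iv D39985) (iv F184332)
def n40969 : Q := act 4 n39883
theorem D40969 : act 4 n39883 = n40969 := rfl
theorem F188860 : act 1 n40969 = n39991 := d11_1 D40969 (iv D39991) (iv F184334)
theorem F188861 : act 2 n40969 = n40104 := d18_1 D40969 (iv D40104) (iv F184335)
theorem F188862 : act 3 n40969 = n39910 := d24_1 D40969 (iv D39910) F179502 (iv F179368) (iv F184336)
theorem F188863 : act 5 n40969 = n39986 := d30_2 D39883 D40969 (iv D39986) (iv D38834) (iv F179363)
theorem F188864 : act 7 n40969 = n39987 := d32_2 (iv F184337) D40969 (iv D39987)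
theorem F188865 : act 9 n40969 = n39939 := d34_2 (iv F184338) D40969 (iv D39939)
def n40970 : Q := act 8 n39883
theorem D40970 : act 8 n39883 = n40970 := rfl
theorem F188866 : act 1 n40970 = n39989 := d15_1 D40970 F184704 (iv F184334)
theorem F188867 : act 2 n40970 = n40105 := d22_1 D40970 (iv D40105) (iv F184335)
theorem F188868 : act 3 n40970 = n39884 := d28_1 D40970 (iv D39884) (iv F184336)
theorem F188869 : act 5 n40970 = n39985 := d37_1 D40970 (iv D39985) (iv D38833) (iv F179365) D39883
theorem F188870 : act 7 n40970 = n39988 := d42_1 D40970 (iv D39988) (iv F184337)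
def n40971 : Q := act 5 n39884
theorem D40971 : act 5 n39884 = n40971 := rfl
theorem F188871 : act 1 n40971 = n39988 := d12_1 D40971 (iv F188858) F188854
theorem F188872 : act 2 n40971 = n39887 := d19_1 D40971 (iv D39887) (iv F184339)
theorem F188873 : act 3 n40971 = n39985 := d25_1 D40971 (iv F188869) F188868
theorem F188874 : act 7 n40971 = n39989 := d36_2 (iv F184341) D40971 (iv D39989)
theorem F188875 : act 8 n40971 = n39885 := d37_2 D39884 D40971 (iv D39885) (iv D38733) D38732
def n40972 : Q := act 9 n39884
theorem D40972 : act 9 n39884 = n40972 := rfl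
theorem F188876 : act 2 n40972 = n39888 := d23_1 D40972 (iv D39888) (iv F184339)
theorem F188877 : act 4 n40972 = n39913 := d34_1 D40972 (iv D39913) (iv F184340)
theorem F188878 : act 7 n40972 = n39990 := d43_1 D40972 (iv D39990) (iv F184341)
theorem F188879 : act 8 n40972 = n39943 := d44_1 D40972 (iv D39943) (iv D38791) (iv F179370) D39884
def n40973 : Q := act 4 n39885
theorem D40973 : act 4 n39885 = n40973 := rfl
theorem F188880 : act 1 n40973 = n39987 := d11_1 D40973 (iv D39987) (iv F184342)
theorem F188881 : act 2 n40973 = n39889 := d18_1 D40973 (iv D39889) (iv F184343)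
theorem F188882 : act 3 n40973 = n40139 := d24_1 D40973 F185057 (iv F184301) F184302 (iv F184344)
theorem F188883 : act 5 n40973 = n39886 := d30_2 D39885 D40973 (iv D39886) (iv D38734) (iv F179374)
theorem F188884 : act 7 n40973 = n39991 := d32_2 (iv F184345) D40973 (iv D39991)
theorem F188885 : act 9 n40973 = n40011 := d34_2 (iv F184346) D40973 (iv D40011)
def n40974 : Q := act 4 n39887
theorem D40974 : act 4 n39887 = n40974 := rfl
theorem F188886 : act 1 n40974 = n39974 := d11_1 D40974 (iv D39974) (iv F184354)
theorem F188887 : act 5 n40974 = n39915 := d30_2 D39887 D40974 (iv D39915) (iv D38762) (iv F179387)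
theorem F188888 : act 7 n40974 = n39995 := d32_2 (iv F184356) D40974 (iv D39995)
theorem F188889 : act 8 n40974 = n39889 := d33_2 (iv F184357) D40974 (iv D39889)
theorem F188890 : act 3 n40155 = n40974 := d28_3 F188889 (iv F184366) (iv F185084)
def n40975 : Q := act 6 n39887
theorem D40975 : act 6 n39887 = n40975 := rfl
theorem F188891 : act 1 n40975 = n39975 := d13_1 D40975 (iv D39975) (iv F184354)
theorem F188892 : act 3 n40975 = n40111 := d26_1 D40975 (iv D40111) (iv F184355)
theorem F188893 : act 8 n40975 = n39890 := d40_2 (iv F184357) D40975 (iv D39890)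
def n40976 : Q := act 9 n39887
theorem D40976 : act 9 n39887 = n40976 := rfl
theorem F188894 : act 1 n40976 = n39976 := d16_1 D40976 (iv D39976) (iv F184354)
theorem F188895 : act 3 n40976 = n40112 := d29_1 D40976 (iv D40112) (iv F184355)
theorem F188896 : act 5 n40976 = n39888 := d38_1 D40976 (iv D39888) D39887
theorem F188897 : act 7 n40976 = n39997 := d43_1 D40976 (iv D39997) (iv F184356)
def n40977 : Q := act 6 n39889
theorem D40977 : act 6 n39889 = n40977 := rfl
theorem F188898 : act 1 n40977 = n39978 := d13_1 D40977 (iv D39978) (iv F184363)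
theorem F188899 : act 3 n40977 = n40168 := d26_1 D40977 (iv D40168) F184366
theorem F188900 : act 4 n40977 = n39890 := d31_1 D40977 (iv D39890) D39889
theorem F188901 : act 5 n40977 = n39917 := d35_1 D40977 (iv D39917) F179523 (iv F179409) (iv F184364)
def n40978 : Q := act 9 n39889
theorem D40978 : act 9 n39889 = n40978 := rfl
theorem F188902 : act 1 n40978 = n39979 := d16_1 D40978 (iv D39979) (iv F184363)
theorem F188903 : act 2 n40978 = n40011 := d23_1 D40978 (iv F188885) F188881
theorem F188904 : act 3 n40978 = n40147 := d29_1 D40978 F185070 F184366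
theorem F188905 : act 4 n40978 = n39891 := d34_1 D40978 (iv D39891) D39889
theorem F188906 : act 5 n40978 = n39893 := d38_1 D40978 (iv D39893) (iv F184364)
theorem F188907 : act 7 n40978 = n40000 := d43_1 D40978 (iv D40000) (iv F184365)
def n40979 : Q := act 7 n39890
theorem D40979 : act 7 n39890 = n40979 := rfl
theorem F188908 : act 1 n40979 = n39980 := d14_1 D40979 (iv D39980) (iv F184367)
theorem F188909 : act 3 n40979 = n40116 := d27_1 D40979 (iv D40116) (iv F184368)
theorem F188910 : act 5 n40979 = n39892 := d36_1 D40979 (iv D39892) (iv F184369)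
theorem F188911 : act 6 n40979 = n40001 := d39_1 D40979 (iv D40001) (iv D38844) (iv F179391) D39890
def n40980 : Q := act 8 n39891
theorem D40980 : act 8 n39891 = n40980 := rfl
theorem F188912 : act 1 n40980 = n39981 := d15_1 D40980 (iv D39981) (iv F184370)
theorem F188913 : act 2 n40980 = n40012 := d22_1 D40980 (iv D40012) (iv F184371)
theorem F188914 : act 3 n40980 = n40118 := d28_1 D40980 (iv D40118) (iv F184372)
theorem F188915 : act 5 n40980 = n39959 := d37_1 D40980 (iv D39959) F179656 (iv F179398) (iv F184373)
theorem F188916 : act 7 n40980 = n40003 := d42_1 D40980 (iv D40003) (iv F184374)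
def n40981 : Q := act 8 n39894
theorem D40981 : act 8 n39894 = n40981 := rfl
theorem F188917 : act 1 n40981 = n39896 := d15_1 D40981 (iv D39896) (iv F184386)
theorem F188918 : act 2 n40981 = n39985 := d22_1 D40981 (iv D39985) (iv F184387)
theorem F188919 : act 3 n40981 = n40106 := d28_1 D40981 F184987 (iv F184388)
theorem F188920 : act 4 n40981 = n39936 := d33_1 D40981 (iv D39936) (iv F184389)
theorem F188921 : act 5 n40981 = n40105 := d37_1 D40981 (iv D40105) (iv D38960) (iv F179423) D39894
theorem F188922 : act 7 n40981 = n39968 := d42_1 D40981 (iv D39968) (iv F184390)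
def n40982 : Q := act 4 n39895
theorem D40982 : act 4 n39895 = n40982 := rfl
theorem F188923 : act 1 n40982 = n40108 := d11_1 D40982 (iv D40108) (iv F184392)
theorem F188924 : act 2 n40982 = n40057 := d18_1 D40982 (iv D40057) (iv F184393)
theorem F188925 : act 3 n40982 = n39939 := d24_1 D40982 (iv D39939) F179606 (iv F179433) (iv F184394)
theorem F188926 : act 5 n40982 = n40046 := d30_2 D39895 D40982 (iv D40046) (iv D38896) (iv F179428)
theorem F188927 : act 7 n40982 = n39969 := d32_2 (iv F184395) D40982 (iv D39969)
theorem F188928 : act 9 n40982 = n39910 := d34_2 (iv F184396) D40982 (iv D39910)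
def n40983 : Q := act 8 n39895
theorem D40983 : act 8 n39895 = n40983 := rfl
theorem F188929 : act 1 n40983 = n40106 := d15_1 D40983 F184987 (iv F184392)
theorem F188930 : act 2 n40983 = n40058 := d22_1 D40983 (iv D40058) (iv F184393)
theorem F188931 : act 3 n40983 = n39896 := d28_1 D40983 (iv D39896) (iv F184394)
theorem F188932 : act 5 n40983 = n40103 := d37_1 D40983 (iv D40103) (iv D38959) (iv F179430) D39895
theorem F188933 : act 7 n40983 = n39970 := d42_1 D40983 (iv D39970) (iv F184395)
def n40984 : Q := act 5 n39896
theorem D40984 : act 5 n39896 = n40984 := rfl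
theorem F188934 : act 1 n40984 = n40105 := d12_1 D40984 (iv F188921) F188917
theorem F188935 : act 2 n40984 = n39900 := d19_1 D40984 (iv D39900) (iv F184397)
theorem F188936 : act 3 n40984 = n40103 := d25_1 D40984 (iv F188932) F188931
theorem F188937 : act 7 n40984 = n39971 := d36_2 (iv F184399) D40984 (iv D39971)
theorem F188938 : act 8 n40984 = n39897 := d37_2 D39896 D40984 (iv D39897) (iv D38745) D38744
def n40985 : Q := act 9 n39896
theorem D40985 : act 9 n39896 = n40985 := rfl
theorem F188939 : act 2 n40985 = n39901 := d23_1 D40985 (iv D39901) (iv F184397)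
theorem F188940 : act 4 n40985 = n39943 := d34_1 D40985 (iv D39943) (iv F184398)
theorem F188941 : act 7 n40985 = n39972 := d43_1 D40985 (iv D39972) (iv F184399)
theorem F188942 : act 8 n40985 = n39913 := d44_1 D40985 (iv D39913) (iv D38759) (iv F179435) D39896
def n40986 : Q := act 4 n39897
theorem D40986 : act 4 n39897 = n40986 := rfl
theorem F188943 : act 1 n40986 = n40104 := d11_1 D40986 (iv D40104) (iv F184400)
theorem F188944 : act 2 n40986 = n39902 := d18_1 D40986 (iv D39902) (iv F184401)
theorem F188945 : act 3 n40986 = n39956 := d24_1 D40986 F184600 F179655 (iv F180077) (iv F184402)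
theorem F188946 : act 5 n40986 = n39899 := d30_2 D39897 D40986 (iv D39899) (iv D38747) (iv F179439)
theorem F188947 : act 7 n40986 = n39973 := d32_2 (iv F184403) D40986 (iv D39973)
theorem F188948 : act 9 n40986 = n39954 := d34_2 (iv F184404) D40986 F184595
def n40987 : Q := act 6 n39897
theorem D40987 : act 6 n39897 = n40987 := rfl
theorem F188949 : act 1 n40987 = n40069 := d13_1 D40987 F184908 (iv F184400)
theorem F188950 : act 2 n40987 = n39903 := d20_1 D40987 (iv D39903) (iv F184401)
theorem F188951 : act 3 n40987 = n40068 := d26_1 D40987 F184905 (iv F184402)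
theorem F188952 : act 5 n40987 = n39898 := d35_1 D40987 (iv D39898) (iv D38746) (iv F179440) D39897
theorem F188953 : act 7 n40987 = n40074 := d39_2 (iv F184403) D40987 (iv D40074) (iv F181102) F181101
theorem F188954 : act 9 n40987 = n40075 := d41_2 (iv F184404) D40987 F184919
def n40988 : Q := act 4 n39900
theorem D40988 : act 4 n39900 = n40988 := rfl
theorem F188955 : act 1 n40988 = n39995 := d11_1 D40988 (iv D39995) (iv F184419)
theorem F188956 : act 5 n40988 = n39951 := d30_2 D39900 D40988 (iv D39951) (iv D38799) (iv F179459)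
theorem F188957 : act 7 n40988 = n39974 := d32_2 (iv F184421) D40988 (iv D39974)
theorem F188958 : act 8 n40988 = n39902 := d33_2 (iv F184422) D40988 (iv D39902)
def n40989 : Q := act 6 n39900
theorem D40989 : act 6 n39900 = n40989 := rfl
theorem F188959 : act 1 n40989 = n39996 := d13_1 D40989 (iv D39996) (iv F184419)
theorem F188960 : act 3 n40989 = n40061 := d26_1 D40989 (iv D40061) (iv F184420)
theorem F188961 : act 8 n40989 = n39903 := d40_2 (iv F184422) D40989 (iv D39903)
def n40990 : Q := act 9 n39900
theorem D40990 : act 9 n39900 = n40990 := rfl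
theorem F188962 : act 1 n40990 = n39997 := d16_1 D40990 (iv D39997) (iv F184419)
theorem F188963 : act 3 n40990 = n40062 := d29_1 D40990 (iv D40062) (iv F184420)
theorem F188964 : act 5 n40990 = n39901 := d38_1 D40990 (iv D39901) D39900
theorem F188965 : act 7 n40990 = n39976 := d43_1 D40990 (iv D39976) (iv F184421)
def n40991 : Q := act 3 n39902
theorem D40991 : act 3 n39902 = n40991 := rfl
theorem F188966 : act 1 n40991 = n39998 := d10_1 D40991 (iv D39998) (iv F184428)
theorem F188967 : act 4 n40991 = n40063 := d24_2 D39902 D40991 (iv D40063) (iv D38919) (iv F179462)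
theorem F188968 : act 5 n40991 = n39905 := d25_2 (iv F184429) D40991 (iv D39905)
theorem F188969 : act 7 n40991 = n39977 := d27_2 (iv F184430) D40991 (iv D39977)
def n40992 : Q := act 6 n39902
theorem D40992 : act 6 n39902 = n40992 := rfl
theorem F188970 : act 1 n40992 = n39999 := d13_1 D40992 (iv D39999) (iv F184428)
theorem F188971 : act 4 n40992 = n39903 := d31_1 D40992 (iv D39903) D39902
theorem F188972 : act 5 n40992 = n40992 := d35_1 D40992 (iv D40992) F184429 F179474 (iv F184429)
def n40993 : Q := act 7 n39903
theorem D40993 : act 7 n39903 = n40993 := rfl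
theorem F188973 : act 1 n40993 = n40001 := d14_1 D40993 (iv D40001) (iv F184431)
theorem F188974 : act 2 n40993 = n40074 := d21_1 D40993 (iv F188953) F188950
theorem F188975 : act 3 n40993 = n40065 := d27_1 D40993 (iv D40065) (iv F184432)
theorem F188976 : act 5 n40993 = n39904 := d36_1 D40993 (iv D39904) (iv F184433)
theorem F188977 : act 6 n40993 = n39980 := d39_1 D40993 (iv D39980) (iv D38825) (iv F179463) D39903
def n40994 : Q := act 8 n39906
theorem D40994 : act 8 n39906 = n40994 := rfl
theorem F188978 : act 0 n40994 = n39908 := d7_1 D40994 (iv D39908) (iv F184445)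
theorem F188979 : act 2 n40994 = n40009 := d22_1 D40994 (iv D40009) (iv F184446)
def n40995 : Q := act 4 n39907
theorem D40995 : act 4 n39907 = n40995 := rfl
theorem F188980 : act 1 n40995 = n39910 := d11_1 D40995 (iv D39910) (iv F184447)
theorem F188981 : act 2 n40995 = n40115 := d18_1 D40995 F185006 (iv F184448)
theorem F188982 : act 3 n40995 = n39991 := d24_1 D40995 (iv D39991) (iv F184330) F184331 (iv F184449)
theorem F188983 : act 5 n40995 = n39993 := d30_2 D39907 D40995 F184712 F179936 (iv F179488)
theorem F188984 : act 7 n40995 = n40139 := d32_2 (iv F184450) D40995 F185057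
theorem F188985 : act 9 n40995 = n40108 := d34_2 (iv F184451) D40995 (iv D40108)
def n40996 : Q := act 8 n39907
theorem D40996 : act 8 n39907 = n40996 := rfl
theorem F188986 : act 1 n40996 = n39911 := d15_1 D40996 (iv D39911) (iv F184447)
theorem F188987 : act 2 n40996 = n40118 := d22_1 D40996 (iv D40118) (iv F184448)
theorem F188988 : act 3 n40996 = n39908 := d28_1 D40996 (iv D39908) (iv F184449)
theorem F188989 : act 5 n40996 = n40127 := d37_1 D40996 (iv D40127) F180137 (iv F179490) D39907
theorem F188990 : act 7 n40996 = n40140 := d42_1 D40996 (iv D40140) (iv F184450)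
def n40997 : Q := act 5 n39908
theorem D40997 : act 5 n39908 = n40997 := rfl
theorem F188991 : act 1 n40997 = n39912 := d12_1 D40997 (iv D39912) (iv F184452)
theorem F188992 : act 2 n40997 = n40013 := d19_1 D40997 (iv D40013) (iv F184453)
theorem F188993 : act 3 n40997 = n40127 := d25_1 D40997 (iv F188989) F188988
theorem F188994 : act 7 n40997 = n40163 := d36_2 F188840 D40997 (iv F188839)
theorem F188995 : act 8 n40997 = n39909 := d37_2 D39908 D40997 (iv D39909) (iv D38757) D38756
def n40998 : Q := act 9 n39908
theorem D40998 : act 9 n39908 = n40998 := rfl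
theorem F188996 : act 1 n40998 = n39913 := d16_1 D40998 (iv D39913) (iv F184452)
theorem F188997 : act 2 n40998 = n40014 := d23_1 D40998 (iv D40014) (iv F184453)
def n40999 : Q := act 8 n39910
theorem D40999 : act 8 n39910 = n40999 := rfl
theorem F188998 : act 2 n40999 = n40066 := d22_1 D40999 (iv D40066) (iv F184459)
theorem F188999 : act 4 n40999 = n39911 := d33_1 D40999 (iv D39911) D39910
def n41000 : Q := act 9 n39911
theorem D41000 : act 9 n39911 = n41000 := rfl
theorem F189000 : act 2 n41000 = n40067 := d23_1 D41000 (iv D40067) (iv F184461)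
theorem F189001 : act 3 n41000 = n39913 := d29_1 D41000 (iv D39913) (iv F184462)
theorem F189002 : act 5 n41000 = n40133 := d38_1 D41000 (iv D40133) (iv F184463)
def n41001 : Q := act 4 n39912
theorem D41001 : act 4 n39912 = n41001 := rfl
theorem F189003 : act 2 n41001 = n39915 := d18_1 D41001 (iv D39915) (iv F184464)
theorem F189004 : act 8 n41001 = n39914 := d33_2 (iv F184466) D41001 (iv D39914)
def n41002 : Q := act 9 n39912
theorem D41002 : act 9 n39912 = n41002 := rfl
theorem F189005 : act 2 n41002 = n39916 := d23_1 D41002 (iv D39916) (iv F184464)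
theorem F189006 : act 3 n41002 = n40133 := d29_1 D41002 (iv D40133) (iv F184465)
theorem F189007 : act 5 n41002 = n39913 := d38_1 D41002 (iv D39913) D39912
def n41003 : Q := act 9 n39915
theorem D41003 : act 9 n39915 = n41003 := rfl
theorem F189008 : act 1 n41003 = n40033 := d16_1 D41003 (iv D40033) (iv F184470)
theorem F189009 : act 3 n41003 = n40156 := d29_1 D41003 (iv D40156) (iv F184471)
theorem F189010 : act 4 n41003 = n39916 := d34_1 D41003 (iv D39916) D39915
def n41004 : Q := act 7 n39917
theorem D41004 : act 7 n39917 = n41004 := rfl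
theorem F189011 : act 1 n41004 = n40040 := d14_1 D41004 (iv D40040) (iv F184476)
theorem F189012 : act 3 n41004 = n40169 := d27_1 D41004 (iv D40169) (iv F184477)
theorem F189013 : act 4 n41004 = n39918 := d32_1 D41004 (iv D39918) (iv F184478)
theorem F189014 : act 6 n41004 = n41004 := d39_1 D41004 (iv D41004) (iv D39917) F179524 D39917
theorem F189015 : act 8 n41004 = n40188 := d42_2 F187717 D41004 (iv F187716)
def n41005 : Q := act 5 n39919
theorem D41005 : act 5 n39919 = n41005 := rfl
theorem F189016 : act 1 n41005 = n39921 := d12_1 D41005 (iv D39921) (iv F184484)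
theorem F189017 : act 2 n41005 = n40002 := d19_1 D41005 F184739 (iv F184485)
theorem F189018 : act 3 n41005 = n39920 := d25_1 D41005 (iv D39920) (iv F184486)
theorem F189019 : act 6 n41005 = n39935 := d35_2 D39919 D41005 (iv D39935) (iv D38785) (iv F179542)
theorem F189020 : act 9 n41005 = n39992 := d38_2 (iv F184488) D41005 F184710
def n41006 : Q := act 8 n39920
theorem D41006 : act 8 n39920 = n41006 := rfl
theorem F189021 : act 1 n41006 = n39923 := d15_1 D41006 (iv D39923) (iv F184489)
theorem F189022 : act 6 n41006 = n39936 := d40_1 D41006 (iv D39936) (iv F184490)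
def n41007 : Q := act 4 n39921
theorem D41007 : act 4 n39921 = n41007 := rfl
theorem F189023 : act 2 n41007 = n40077 := d18_1 D41007 (iv D40077) (iv F184491)
theorem F189024 : act 5 n41007 = n41007 := d30_2 D39921 D41007 (iv D41007) (iv D39921) F179548
theorem F189025 : act 6 n41007 = n39939 := d31_2 (iv F184493) D41007 (iv D39939)
def n41008 : Q := act 8 n39921
theorem D41008 : act 8 n39921 = n41008 := rfl
theorem F189026 : act 2 n41008 = n40078 := d22_1 D41008 (iv D40078) (iv F184491)
theorem F189027 : act 3 n41008 = n39923 := d28_1 D41008 (iv D39923) (iv F184492)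
theorem F189028 : act 6 n41008 = n39940 := d40_1 D41008 (iv D39940) (iv F184493)
def n41009 : Q := act 5 n39922
theorem D41009 : act 5 n39922 = n41009 := rfl
theorem F189029 : act 2 n41009 = n40079 := d19_1 D41009 (iv D40079) (iv F184494)
theorem F189030 : act 3 n41009 = n39924 := d25_1 D41009 (iv D39924) (iv F184495)
def n41010 : Q := act 5 n39923
theorem D41010 : act 5 n39923 = n41010 := rfl
theorem F189031 : act 2 n41010 = n39927 := d19_1 D41010 (iv D39927) (iv F184498)
theorem F189032 : act 8 n41010 = n39924 := d37_2 D39923 D41010 (iv D39924) (iv D38775) D38774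
def n41011 : Q := act 9 n39923
theorem D41011 : act 9 n39923 = n41011 := rfl
theorem F189033 : act 2 n41011 = n39928 := d23_1 D41011 (iv D39928) (iv F184498)
theorem F189034 : act 6 n41011 = n39943 := d41_1 D41011 (iv D39943) (iv F184499)
def n41012 : Q := act 4 n39924
theorem D41012 : act 4 n39924 = n41012 := rfl
theorem F189035 : act 2 n41012 = n39929 := d18_1 D41012 (iv D39929) (iv F184500)
theorem F189036 : act 5 n41012 = n39926 := d30_2 D39924 D41012 (iv D39926) (iv D38777) (iv F179556)
theorem F189037 : act 7 n41012 = n40175 := d32_2 F187291 D41012 (iv F187289)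
def n41013 : Q := act 6 n39924
theorem D41013 : act 6 n39924 = n41013 := rfl
theorem F189038 : act 2 n41013 = n39930 := d20_1 D41013 (iv D39930) (iv F184500)
theorem F189039 : act 5 n41013 = n39925 := d35_1 D41013 (iv D39925) (iv D38776) (iv F179557) D39924
def n41014 : Q := act 3 n39926
theorem D41014 : act 3 n39926 = n41014 := rfl
theorem F189040 : act 4 n41014 = n41014 := d24_2 D39926 D41014 (iv D41014) (iv D39926) F179563
theorem F189041 : act 6 n41014 = n41014 := d26_2 F184505 D41014 (iv D41014)
theorem F189042 : act 7 n41014 = n40174 := d27_2 (iv F184506) D41014 F185120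
theorem F189043 : act 8 n41014 = n40176 := d28_2 (iv F184507) D41014 F185123
def n41015 : Q := act 4 n39927
theorem D41015 : act 4 n39927 = n41015 := rfl
theorem F189044 : act 8 n41015 = n39929 := d33_2 (iv F184509) D41015 (iv D39929)
def n41016 : Q := act 6 n39927
theorem D41016 : act 6 n39927 = n41016 := rfl
theorem F189045 : act 3 n41016 = n40089 := d26_1 D41016 (iv D40089) (iv F184508)
theorem F189046 : act 5 n41016 = n39952 := d35_1 D41016 (iv D39952) (iv D38799) (iv F179568) D39927
theorem F189047 : act 8 n41016 = n39930 := d40_2 (iv F184509) D41016 (iv D39930)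
def n41017 : Q := act 9 n39927
theorem D41017 : act 9 n39927 = n41017 := rfl
theorem F189048 : act 3 n41017 = n40090 := d29_1 D41017 (iv D40090) (iv F184508)
theorem F189049 : act 5 n41017 = n39928 := d38_1 D41017 (iv D39928) D39927
def n41018 : Q := act 3 n39929
theorem D41018 : act 3 n39929 = n41018 := rfl
theorem F189050 : act 4 n41018 = n40091 := d24_2 D39929 D41018 (iv D40091) (iv D38946) (iv F179569)
theorem F189051 : act 5 n41018 = n39932 := d25_2 (iv F184512) D41018 (iv D39932)
def n41019 : Q := act 6 n39929
theorem D41019 : act 6 n39929 = n41019 := rfl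
theorem F189052 : act 4 n41019 = n39930 := d31_1 D41019 (iv D39930) D39929
theorem F189053 : act 5 n41019 = n41019 := d35_1 D41019 (iv D41019) F184512 F179576 (iv F184512)
def n41020 : Q := act 7 n39930
theorem D41020 : act 7 n39930 = n41020 := rfl
theorem F189054 : act 3 n41020 = n40094 := d27_1 D41020 (iv D40094) (iv F184513)
theorem F189055 : act 5 n41020 = n39931 := d36_1 D41020 (iv D39931) (iv F184514)
def n41021 : Q := act 2 n39932
theorem D41021 : act 2 n39932 = n41021 := rfl
theorem F189056 : act 4 n41021 = n39933 := d18_2 (iv F184519) D41021 (iv D39933)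
theorem F189057 : act 6 n41021 = n41021 := d20_2 F184520 D41021 (iv D41021)
def n41022 : Q := act 8 n39934
theorem D41022 : act 8 n39934 = n41022 := rfl
theorem F189058 : act 0 n41022 = n39936 := d7_1 D41022 (iv D39936) (iv F184524)
theorem F189059 : act 7 n41022 = n40009 := d42_1 D41022 (iv D40009) (iv F184525)
def n41023 : Q := act 4 n39935
theorem D41023 : act 4 n39935 = n41023 := rfl
theorem F189060 : act 1 n41023 = n39939 := d11_1 D41023 (iv D39939) (iv F184526)
theorem F189061 : act 2 n41023 = n40000 := d18_1 D41023 F184734 (iv F184527)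
theorem F189062 : act 3 n41023 = n40108 := d24_1 D41023 (iv D40108) (iv F184388) F184389 (iv F184528)
theorem F189063 : act 5 n41023 = n39994 := d30_2 D39935 D41023 F184721 F179772 (iv F179585)
theorem F189064 : act 7 n41023 = n40011 := d32_2 (iv F184529) D41023 (iv D40011)
theorem F189065 : act 9 n41023 = n39991 := d34_2 (iv F184530) D41023 (iv D39991)
def n41024 : Q := act 8 n39935
theorem D41024 : act 8 n39935 = n41024 := rfl
theorem F189066 : act 1 n41024 = n39940 := d15_1 D41024 (iv D39940) (iv F184526)
theorem F189067 : act 2 n41024 = n40003 := d22_1 D41024 (iv D40003) (iv F184527)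
theorem F189068 : act 3 n41024 = n39936 := d28_1 D41024 (iv D39936) (iv F184528)
theorem F189069 : act 5 n41024 = n40030 := d37_1 D41024 (iv D40030) F179850 (iv F179587) D39935
theorem F189070 : act 7 n41024 = n40012 := d42_1 D41024 (iv D40012) (iv F184529)
def n41025 : Q := act 5 n39936
theorem D41025 : act 5 n39936 = n41025 := rfl
theorem F189071 : act 1 n41025 = n39942 := d12_1 D41025 (iv D39942) (iv F184531)
theorem F189072 : act 2 n41025 = n40163 := d19_1 D41025 (iv F188839) F188836
theorem F189073 : act 3 n41025 = n40030 := d25_1 D41025 (iv F189069) F189068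
theorem F189074 : act 7 n41025 = n40013 := d36_2 (iv F184532) D41025 (iv D40013)
theorem F189075 : act 8 n41025 = n39937 := d37_2 D39936 D41025 (iv D39937) (iv D38787) D38786
def n41026 : Q := act 9 n39936
theorem D41026 : act 9 n39936 = n41026 := rfl
theorem F189076 : act 1 n41026 = n39943 := d16_1 D41026 (iv D39943) (iv F184531)
theorem F189077 : act 7 n41026 = n40014 := d43_1 D41026 (iv D40014) (iv F184532)
def n41027 : Q := act 4 n39937
theorem D41027 : act 4 n39937 = n41027 := rfl
theorem F189078 : act 1 n41027 = n39944 := d11_1 D41027 (iv D39944) (iv F184533)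
theorem F189079 : act 2 n41027 = n40161 := d18_1 D41027 F185093 (iv F184534)
theorem F189080 : act 5 n41027 = n39938 := d30_2 D39937 D41027 (iv D39938) (iv D38788) (iv F179594)
theorem F189081 : act 7 n41027 = n40015 := d32_2 (iv F184536) D41027 (iv D40015)
theorem F189082 : act 9 n41027 = n40020 := d34_2 (iv F184537) D41027 (iv D40020)
def n41028 : Q := act 8 n39939
theorem D41028 : act 8 n39939 = n41028 := rfl
theorem F189083 : act 2 n41028 = n40123 := d22_1 D41028 (iv D40123) (iv F184544)
theorem F189084 : act 4 n41028 = n39940 := d33_1 D41028 (iv D39940) D39939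
theorem F189085 : act 7 n41028 = n40017 := d42_1 D41028 (iv D40017) (iv F184546)
def n41029 : Q := act 5 n39940
theorem D41029 : act 5 n39940 = n41029 := rfl
theorem F189086 : act 1 n41029 = n40030 := d12_1 D41029 (iv F189069) F189066
theorem F189087 : act 2 n41029 = n40124 := d19_1 D41029 (iv D40124) (iv F184547)
theorem F189088 : act 3 n41029 = n39942 := d25_1 D41029 (iv D39942) (iv F184548)
theorem F189089 : act 7 n41029 = n40018 := d36_2 (iv F184549) D41029 (iv D40018)
theorem F189090 : act 8 n41029 = n39941 := d37_2 D39940 D41029 (iv D39941) (iv D38790) D38789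
def n41030 : Q := act 9 n39940
theorem D41030 : act 9 n39940 = n41030 := rfl
theorem F189091 : act 2 n41030 = n40125 := d23_1 D41030 (iv D40125) (iv F184547)
theorem F189092 : act 3 n41030 = n39943 := d29_1 D41030 (iv D39943) (iv F184548)
theorem F189093 : act 7 n41030 = n40019 := d43_1 D41030 (iv D40019) (iv F184549)
def n41031 : Q := act 4 n39942
theorem D41031 : act 4 n39942 = n41031 := rfl
theorem F189094 : act 2 n41031 = n39951 := d18_1 D41031 (iv D39951) (iv F184555)
theorem F189095 : act 7 n41031 = n40023 := d32_2 (iv F184556) D41031 (iv D40023)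
theorem F189096 : act 8 n41031 = n39944 := d33_2 (iv F184557) D41031 (iv D39944)
def n41032 : Q := act 6 n39942
theorem D41032 : act 6 n39942 = n41032 := rfl
theorem F189097 : act 2 n41032 = n39952 := d20_1 D41032 (iv D39952) (iv F184555)
theorem F189098 : act 8 n41032 = n39945 := d40_2 (iv F184557) D41032 (iv D39945)
def n41033 : Q := act 9 n39942
theorem D41033 : act 9 n39942 = n41033 := rfl
theorem F189099 : act 2 n41033 = n39953 := d23_1 D41033 (iv D39953) (iv F184555)
theorem F189100 : act 5 n41033 = n39943 := d38_1 D41033 (iv D39943) D39942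
theorem F189101 : act 7 n41033 = n40025 := d43_1 D41033 (iv D40025) (iv F184556)
def n41034 : Q := act 3 n39944
theorem D41034 : act 3 n39944 = n41034 := rfl
theorem F189102 : act 5 n41034 = n39949 := d25_2 (iv F184561) D41034 (iv D39949)
theorem F189103 : act 7 n41034 = n40026 := d27_2 (iv F184562) D41034 (iv D40026)
def n41035 : Q := act 6 n39944
theorem D41035 : act 6 n39944 = n41035 := rfl
theorem F189104 : act 2 n41035 = n39955 := d20_1 D41035 (iv D39955) (iv F184560)
theorem F189105 : act 4 n41035 = n39945 := d31_1 D41035 (iv D39945) D39944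
theorem F189106 : act 5 n41035 = n41035 := d35_1 D41035 (iv D41035) F184561 F179638 (iv F184561)
def n41036 : Q := act 9 n39944
theorem D41036 : act 9 n39944 = n41036 := rfl
theorem F189107 : act 1 n41036 = n40020 := d16_1 D41036 (iv F189082) F189078
theorem F189108 : act 2 n41036 = n39956 := d23_1 D41036 (iv D39956) (iv F184560)
theorem F189109 : act 4 n41036 = n39946 := d34_1 D41036 (iv D39946) D39944
theorem F189110 : act 5 n41036 = n39950 := d38_1 D41036 (iv D39950) (iv F184561)
theorem F189111 : act 7 n41036 = n40028 := d43_1 D41036 (iv D40028) (iv F184562)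
def n41037 : Q := act 7 n39945
theorem D41037 : act 7 n39945 = n41037 := rfl
theorem F189112 : act 2 n41037 = n39957 := d21_1 D41037 (iv D39957) (iv F184563)
theorem F189113 : act 5 n41037 = n39947 := d36_1 D41037 (iv D39947) (iv F184564)
theorem F189114 : act 6 n41037 = n40029 := d39_1 D41037 (iv D40029) (iv D38870) (iv F179618) D39945
def n41038 : Q := act 9 n39945
theorem D41038 : act 9 n39945 = n41038 := rfl
theorem F189115 : act 1 n41038 = n40021 := d16_1 D41038 (iv F187632) F187628
theorem F189116 : act 2 n41038 = n39958 := d23_1 D41038 (iv D39958) (iv F184563)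
theorem F189117 : act 3 n41038 = n40016 := d29_1 D41038 (iv F186935) F186933
theorem F189118 : act 5 n41038 = n39948 := d38_1 D41038 (iv D39948) (iv F184564)
theorem F189119 : act 6 n41038 = n39946 := d41_1 D41038 (iv D39946) D39945
def n41039 : Q := act 8 n39946
theorem D41039 : act 8 n39946 = n41039 := rfl
theorem F189120 : act 1 n41039 = n40018 := d15_1 D41039 F184782 (iv F184565)
theorem F189121 : act 2 n41039 = n39959 := d22_1 D41039 (iv D39959) (iv F184566)
theorem F189122 : act 3 n41039 = n40013 := d28_1 D41039 F184772 (iv F184567)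
theorem F189123 : act 5 n41039 = n40012 := d37_1 D41039 (iv D40012) (iv D38857) (iv F179625) (iv F184568)
theorem F189124 : act 7 n41039 = n40030 := d42_1 D41039 (iv D40030) (iv F184569)
def n41040 : Q := act 3 n39951
theorem D41040 : act 3 n39951 = n41040 := rfl
theorem F189125 : act 1 n41040 = n40123 := d10_1 D41040 (iv F188846) F188845
theorem F189126 : act 4 n41040 = n40121 := d24_2 D39951 D41040 F185021 F180122 (iv F179646)
theorem F189127 : act 7 n41040 = n40031 := d27_2 (iv F184587) D41040 (iv D40031)
theorem F189128 : act 8 n41040 = n39954 := d28_2 (iv F184588) D41040 (iv D39954)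
def n41041 : Q := act 6 n39951
theorem D41041 : act 6 n39951 = n41041 := rfl
theorem F189129 : act 4 n41041 = n39952 := d31_1 D41041 (iv D39952) D39951
theorem F189130 : act 8 n41041 = n39955 := d40_2 (iv F184588) D41041 (iv D39955)
def n41042 : Q := act 9 n39951
theorem D41042 : act 9 n39951 = n41042 := rfl
theorem F189131 : act 4 n41042 = n39953 := d34_1 D41042 (iv D39953) D39951
theorem F189132 : act 7 n41042 = n40033 := d43_1 D41042 (iv D40033) (iv F184587)
def n41043 : Q := act 7 n39952
theorem D41043 : act 7 n39952 = n41043 := rfl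
theorem F189133 : act 3 n41043 = n40128 := d27_1 D41043 (iv D40128) (iv F184589)
theorem F189134 : act 6 n41043 = n40034 := d39_1 D41043 (iv D40034) (iv D38876) (iv F179647) D39952
theorem F189135 : act 8 n41043 = n39957 := d42_2 (iv F184590) D41043 (iv D39957)
def n41044 : Q := act 9 n39952
theorem D41044 : act 9 n39952 = n41044 := rfl
theorem F189136 : act 3 n41044 = n40129 := d29_1 D41044 (iv D40129) (iv F184589)
theorem F189137 : act 6 n41044 = n39953 := d41_1 D41044 (iv D39953) D39952
def n41045 : Q := act 8 n39953
theorem D41045 : act 8 n39953 = n41045 := rfl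
theorem F189138 : act 3 n41045 = n40130 := d28_1 D41045 (iv D40130) (iv F184591)
theorem F189139 : act 7 n41045 = n40036 := d42_1 D41045 (iv D40036) (iv F184593)
theorem F189140 : act 9 n41045 = n39959 := d44_2 D39953 D41045 (iv D39959) (iv D38803) (iv F179648)
def n41046 : Q := act 6 n39954
theorem D41046 : act 6 n39954 = n41046 := rfl
theorem F189141 : act 1 n41046 = n40077 := d13_1 D41046 F184924 (iv F184594)
theorem F189142 : act 3 n41046 = n39955 := d26_1 D41046 (iv D39955) D39954
theorem F189143 : act 4 n41046 = n40075 := d31_1 D41046 F184919 (iv F184595)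
theorem F189144 : act 5 n41046 = n41046 := d35_1 D41046 (iv D41046) F184596 F179669 (iv F184596)
def n41047 : Q := act 7 n39955
theorem D41047 : act 7 n39955 = n41047 := rfl
theorem F189145 : act 4 n41047 = n39957 := d32_1 D41047 (iv D39957) (iv F184598)
theorem F189146 : act 5 n41047 = n41047 := d36_1 D41047 (iv D41047) F184599
theorem F189147 : act 6 n41047 = n40037 := d39_1 D41047 (iv D40037) (iv D38879) (iv F179652) D39955
def n41048 : Q := act 9 n39955
theorem D41048 : act 9 n39955 = n41048 := rfl
theorem F189148 : act 4 n41048 = n39958 := d34_1 D41048 (iv D39958) (iv F184598)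
theorem F189149 : act 5 n41048 = n41048 := d38_1 D41048 (iv D41048) F184599
theorem F189150 : act 6 n41048 = n39956 := d41_1 D41048 (iv D39956) D39955
def n41049 : Q := act 8 n39956
theorem D41049 : act 8 n39956 = n41049 := rfl
theorem F189151 : act 4 n41049 = n39959 := d33_1 D41049 (iv D39959) (iv F184600)
theorem F189152 : act 7 n41049 = n40038 := d42_1 D41049 (iv D40038) (iv F184602)
def n41050 : Q := act 8 n39958
theorem D41050 : act 8 n39958 = n41050 := rfl
theorem F189153 : act 3 n41050 = n40131 := d28_1 D41050 (iv D40131) (iv F184606)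
theorem F189154 : act 6 n41050 = n39959 := d40_1 D41050 (iv D39959) (iv F184608)
def n41051 : Q := act 5 n39960
theorem D41051 : act 5 n39960 = n41051 := rfl
theorem F189155 : act 3 n41051 = n40132 := d25_1 D41051 (iv D40132) (iv F184611)
def n41052 : Q := act 9 n39961
theorem D41052 : act 9 n39961 = n41052 := rfl
theorem F189156 : act 2 n41052 = n39963 := d23_1 D41052 (iv D39963) (iv F184614)
theorem F189157 : act 4 n41052 = n40133 := d34_1 D41052 (iv D40133) (iv F184615)
theorem F189158 : act 7 n41052 = n40059 := d43_1 D41052 (iv D40059) (iv F184616)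
theorem F189159 : act 8 n41052 = n40050 := d44_1 D41052 (iv D40050) (iv D38907) (iv F179680) D39961
def n41053 : Q := act 4 n39962
theorem D41053 : act 4 n39962 = n41053 := rfl
theorem F189160 : act 1 n41053 = n40110 := d11_1 D41053 (iv D40110) (iv F184617)
theorem F189161 : act 5 n41053 = n40066 := d30_2 D39962 D41053 F184900 F180003 (iv F179683)
theorem F189162 : act 7 n41053 = n40060 := d32_2 (iv F184619) D41053 (iv D40060)
theorem F189163 : act 8 n41053 = n39964 := d33_2 (iv F184620) D41053 (iv D39964)
def n41054 : Q := act 6 n39962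
theorem D41054 : act 6 n39962 = n41054 := rfl
theorem F189164 : act 1 n41054 = n40111 := d13_1 D41054 (iv D40111) (iv F184617)
theorem F189165 : act 3 n41054 = n39975 := d26_1 D41054 (iv D39975) (iv F184618)
theorem F189166 : act 8 n41054 = n39965 := d40_2 (iv F184620) D41054 (iv D39965)
def n41055 : Q := act 9 n39962
theorem D41055 : act 9 n39962 = n41055 := rfl
theorem F189167 : act 1 n41055 = n40112 := d16_1 D41055 (iv D40112) (iv F184617)
theorem F189168 : act 3 n41055 = n39976 := d29_1 D41055 (iv D39976) (iv F184618)
theorem F189169 : act 5 n41055 = n39963 := d38_1 D41055 (iv D39963) D39962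
theorem F189170 : act 7 n41055 = n40062 := d43_1 D41055 (iv D40062) (iv F184619)
def n41056 : Q := act 3 n39964
theorem D41056 : act 3 n39964 = n41056 := rfl
theorem F189171 : act 1 n41056 = n40113 := d10_1 D41056 (iv D40113) (iv F184626)
theorem F189172 : act 4 n41056 = n39977 := d24_2 D39964 D41056 (iv D39977) (iv D38824) (iv F179686)
theorem F189173 : act 5 n41056 = n39967 := d25_2 (iv F184627) D41056 (iv D39967)
theorem F189174 : act 7 n41056 = n40063 := d27_2 (iv F184628) D41056 (iv D40063)
def n41057 : Q := act 6 n39964
theorem D41057 : act 6 n39964 = n41057 := rfl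
theorem F189175 : act 1 n41057 = n40114 := d13_1 D41057 (iv D40114) (iv F184626)
theorem F189176 : act 4 n41057 = n39965 := d31_1 D41057 (iv D39965) D39964
theorem F189177 : act 5 n41057 = n41057 := d35_1 D41057 (iv D41057) F184627 F179697 (iv F184627)
def n41058 : Q := act 7 n39965
theorem D41058 : act 7 n39965 = n41058 := rfl
theorem F189178 : act 1 n41058 = n40116 := d14_1 D41058 (iv D40116) (iv F184629)
theorem F189179 : act 3 n41058 = n39980 := d27_1 D41058 (iv D39980) (iv F184630)
theorem F189180 : act 5 n41058 = n39966 := d36_1 D41058 (iv D39966) (iv F184631)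
theorem F189181 : act 6 n41058 = n40065 := d39_1 D41058 (iv D40065) (iv D38920) (iv F179687) D39965
def n41059 : Q := act 9 n39968
theorem D41059 : act 9 n39968 = n41059 := rfl
theorem F189182 : act 1 n41059 = n39972 := d16_1 D41059 (iv D39972) (iv F184642)
theorem F189183 : act 3 n41059 = n40138 := d29_1 D41059 (iv D40138) (iv F184643)
theorem F189184 : act 4 n41059 = n40014 := d34_1 D41059 (iv D40014) (iv F184644)
theorem F189185 : act 5 n41059 = n40136 := d38_1 D41059 (iv D40136) (iv F184645)
def n41060 : Q := act 8 n39969
theorem D41060 : act 8 n39969 = n41060 := rfl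
theorem F189186 : act 1 n41060 = n40137 := d15_1 D41060 F185053 (iv F184646)
theorem F189187 : act 3 n41060 = n40017 := d28_1 D41060 (iv D40017) (iv F184647)
theorem F189188 : act 4 n41060 = n39970 := d33_1 D41060 (iv D39970) D39969
theorem F189189 : act 5 n41060 = n40151 := d37_1 D41060 (iv D40151) F180181 (iv F179930) (iv F184648)
def n41061 : Q := act 9 n39970
theorem D41061 : act 9 n39970 = n41061 := rfl
theorem F189190 : act 1 n41061 = n40138 := d16_1 D41061 (iv D40138) (iv F184649)
theorem F189191 : act 3 n41061 = n39972 := d29_1 D41061 (iv D39972) (iv F184650)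
theorem F189192 : act 5 n41061 = n40134 := d38_1 D41061 (iv D40134) (iv F184651)
def n41062 : Q := act 4 n39971
theorem D41062 : act 4 n39971 = n41062 := rfl
theorem F189193 : act 1 n41062 = n40135 := d11_1 D41062 F185049 (iv F184652)
theorem F189194 : act 2 n41062 = n39974 := d18_1 D41062 (iv D39974) (iv F184653)
theorem F189195 : act 3 n41062 = n40038 := d24_1 D41062 F184824 F179874 (iv F180159) (iv F184654)
theorem F189196 : act 5 n41062 = n40023 := d30_2 D39971 D41062 (iv D40023) (iv D38867) (iv F179711)
theorem F189197 : act 8 n41062 = n39973 := d33_2 (iv F184655) D41062 (iv D39973)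
def n41063 : Q := act 9 n39971
theorem D41063 : act 9 n39971 = n41063 := rfl
theorem F189198 : act 1 n41063 = n40136 := d16_1 D41063 (iv D40136) (iv F184652)
theorem F189199 : act 2 n41063 = n39976 := d23_1 D41063 (iv D39976) (iv F184653)
theorem F189200 : act 3 n41063 = n40134 := d29_1 D41063 (iv D40134) (iv F184654)
theorem F189201 : act 5 n41063 = n39972 := d38_1 D41063 (iv D39972) D39971
theorem F189202 : act 8 n41063 = n40154 := d44_1 D41063 (iv D40154) (iv D39014) (iv F179715) (iv F184655)
def n41064 : Q := act 3 n39974
theorem D41064 : act 3 n39974 = n41064 := rfl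
theorem F189203 : act 1 n41064 = n40155 := d10_1 D41064 F188890 F188886
theorem F189204 : act 5 n41064 = n40031 := d25_2 (iv F184663) D41064 (iv D40031)
theorem F189205 : act 8 n41064 = n39977 := d28_2 (iv F184664) D41064 (iv D39977)
def n41065 : Q := act 6 n39974
theorem D41065 : act 6 n39974 = n41065 := rfl
theorem F189206 : act 4 n41065 = n39975 := d31_1 D41065 (iv D39975) D39974
theorem F189207 : act 8 n41065 = n39978 := d40_2 (iv F184664) D41065 (iv D39978)
def n41066 : Q := act 9 n39974
theorem D41066 : act 9 n39974 = n41066 := rfl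
theorem F189208 : act 4 n41066 = n39976 := d34_1 D41066 (iv D39976) D39974
theorem F189209 : act 5 n41066 = n40033 := d38_1 D41066 (iv D40033) (iv F184663)
def n41067 : Q := act 7 n39975
theorem D41067 : act 7 n39975 = n41067 := rfl
theorem F189210 : act 2 n41067 = n40071 := d21_1 D41067 (iv F185916) F185913
theorem F189211 : act 5 n41067 = n40070 := d36_1 D41067 (iv F185910) F185908
theorem F189212 : act 8 n41067 = n39980 := d42_2 (iv F184665) D41067 (iv D39980)
def n41068 : Q := act 9 n39975
theorem D41068 : act 9 n39975 = n41068 := rfl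
theorem F189213 : act 6 n41068 = n39976 := d41_1 D41068 (iv D39976) D39975
def n41069 : Q := act 8 n39976
theorem D41069 : act 8 n39976 = n41069 := rfl
theorem F189214 : act 2 n41069 = n40154 := d22_1 D41069 (iv F189202) F189199
theorem F189215 : act 9 n41069 = n39981 := d44_2 D39976 D41069 (iv D39981) (iv D38826) (iv F179722)
def n41070 : Q := act 2 n39977
theorem D41070 : act 2 n39977 = n41070 := rfl
theorem F189216 : act 3 n41070 = n40028 := d17_2 D39977 D41070 F184804 (iv F184660) F184659
theorem F189217 : act 5 n41070 = n39982 := d19_2 (iv F184668) D41070 (iv D39982)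
theorem F189218 : act 9 n40026 = n41070 := d38_0 F189217 (iv F184681) (iv F184800)
def n41071 : Q := act 6 n39977
theorem D41071 : act 6 n39977 = n41071 := rfl
theorem F189219 : act 1 n41071 = n40168 := d13_1 D41071 (iv D40168) (iv F184667)
theorem F189220 : act 3 n41071 = n39978 := d26_1 D41071 (iv D39978) D39977
theorem F189221 : act 5 n41071 = n40039 := d35_1 D41071 (iv D40039) F179877 (iv F179734) (iv F184668)
def n41072 : Q := act 9 n39977
theorem D41072 : act 9 n39977 = n41072 := rfl
theorem F189222 : act 1 n41072 = n40147 := d16_1 D41072 F185070 (iv F184667)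
theorem F189223 : act 2 n41072 = n40026 := d23_1 D41072 F189218 (iv D41070)
theorem F189224 : act 3 n41072 = n39979 := d29_1 D41072 (iv D39979) D39977
theorem F189225 : act 5 n41072 = n39983 := d38_1 D41072 (iv D39983) (iv F184668)
def n41073 : Q := act 7 n39978
theorem D41073 : act 7 n39978 = n41073 := rfl
theorem F189226 : act 2 n41073 = n40073 := d21_1 D41073 (iv F185931) F185927
theorem F189227 : act 4 n41073 = n39980 := d32_1 D41073 (iv D39980) (iv F184669)
theorem F189228 : act 5 n41073 = n40040 := d36_1 D41073 (iv D40040) (iv F184670)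
def n41074 : Q := act 8 n39979
theorem D41074 : act 8 n39979 = n41074 := rfl
theorem F189229 : act 2 n41074 = n40031 := d22_1 D41074 F184812 (iv F184671)
theorem F189230 : act 4 n41074 = n39981 := d33_1 D41074 (iv D39981) (iv F184672)
def n41075 : Q := act 8 n39984
theorem D41075 : act 8 n39984 = n41075 := rfl
theorem F189231 : act 0 n41075 = n39985 := d7_1 D41075 (iv D39985) (iv F184688)
def n41076 : Q := act 9 n39985
theorem D41076 : act 9 n39985 = n41076 := rfl
theorem F189232 : act 1 n41076 = n39990 := d16_1 D41076 (iv D39990) (iv F184690)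
theorem F189233 : act 8 n41076 = n40014 := d44_1 D41076 (iv D40014) (iv D38858) (iv F179752) D39985
def n41077 : Q := act 8 n39987
theorem D41077 : act 8 n39987 = n41077 := rfl
theorem F189234 : act 2 n41077 = n40135 := d22_1 D41077 (iv D40135) (iv F184698)
theorem F189235 : act 4 n41077 = n39988 := d33_1 D41077 (iv D39988) D39987
def n41078 : Q := act 9 n39988
theorem D41078 : act 9 n39988 = n41078 := rfl
theorem F189236 : act 2 n41078 = n40136 := d23_1 D41078 (iv D40136) (iv F184701)
theorem F189237 : act 3 n41078 = n39990 := d29_1 D41078 (iv D39990) (iv F184702)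
theorem F189238 : act 8 n41078 = n40019 := d44_1 D41078 (iv D40019) (iv D38863) (iv F179762) D39988
def n41079 : Q := act 4 n39989
theorem D41079 : act 4 n39989 = n41079 := rfl
theorem F189239 : act 2 n41079 = n39995 := d18_1 D41079 (iv D39995) (iv F184703)
theorem F189240 : act 8 n41079 = n39991 := d33_2 (iv F184704) D41079 (iv D39991)
def n41080 : Q := act 6 n39989
theorem D41080 : act 6 n39989 = n41080 := rfl
theorem F189241 : act 2 n41080 = n39996 := d20_1 D41080 (iv D39996) (iv F184703)
theorem F189242 : act 8 n41080 = n39992 := d40_2 (iv F184704) D41080 (iv D39992)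
def n41081 : Q := act 9 n39989
theorem D41081 : act 9 n39989 = n41081 := rfl
theorem F189243 : act 2 n41081 = n39997 := d23_1 D41081 (iv D39997) (iv F184703)
theorem F189244 : act 5 n41081 = n39990 := d38_1 D41081 (iv D39990) D39989
def n41082 : Q := act 6 n39991
theorem D41082 : act 6 n39991 = n41082 := rfl
theorem F189245 : act 2 n41082 = n39999 := d20_1 D41082 (iv D39999) (iv F184707)
theorem F189246 : act 4 n41082 = n39992 := d31_1 D41082 (iv D39992) D39991
theorem F189247 : act 5 n41082 = n41082 := d35_1 D41082 (iv D41082) F184708 F179768 (iv F184708)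
def n41083 : Q := act 3 n39995
theorem D41083 : act 3 n39995 = n41083 := rfl
theorem F189248 : act 4 n41083 = n40141 := d24_2 D39995 D41083 (iv D40141) (iv D39003) (iv F179775)
theorem F189249 : act 5 n41083 = n40123 := d25_2 F188847 D41083 (iv F188846)
theorem F189250 : act 7 n41083 = n40155 := d27_2 F188888 D41083 F188890
theorem F189251 : act 8 n41083 = n39998 := d28_2 (iv F184724) D41083 (iv D39998)
def n41084 : Q := act 6 n39995
theorem D41084 : act 6 n39995 = n41084 := rfl
theorem F189252 : act 4 n41084 = n39996 := d31_1 D41084 (iv D39996) D39995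
theorem F189253 : act 8 n41084 = n39999 := d40_2 (iv F184724) D41084 (iv D39999)
def n41085 : Q := act 9 n39995
theorem D41085 : act 9 n39995 = n41085 := rfl
theorem F189254 : act 4 n41085 = n39997 := d34_1 D41085 (iv D39997) D39995
def n41086 : Q := act 7 n39996
theorem D41086 : act 7 n39996 = n41086 := rfl
theorem F189255 : act 3 n41086 = n40144 := d27_1 D41086 (iv D40144) (iv F184725)
theorem F189256 : act 8 n41086 = n40001 := d42_2 (iv F184726) D41086 (iv D40001)
def n41087 : Q := act 9 n39996
theorem D41087 : act 9 n39996 = n41087 := rfl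
theorem F189257 : act 3 n41087 = n40145 := d29_1 D41087 (iv D40145) (iv F184725)
theorem F189258 : act 6 n41087 = n39997 := d41_1 D41087 (iv D39997) D39996
def n41088 : Q := act 8 n39997
theorem D41088 : act 8 n39997 = n41088 := rfl
theorem F189259 : act 3 n41088 = n40146 := d28_1 D41088 (iv D40146) (iv F184727)
theorem F189260 : act 5 n41088 = n40036 := d37_1 D41088 (iv D40036) F179864 (iv F179778) (iv F184728)
theorem F189261 : act 9 n41088 = n40003 := d44_2 D39997 D41088 (iv D40003) (iv D38845) (iv F179776)
def n41089 : Q := act 2 n39998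
theorem D41089 : act 2 n39998 = n41089 := rfl
theorem F189262 : act 3 n41089 = n40115 := d17_2 D39998 D41089 (iv F188981) F188982 F184707
theorem F189263 : act 4 n41089 = n40147 := d18_2 (iv F184729) D41089 (iv D40147)
theorem F189264 : act 5 n41089 = n40005 := d19_2 (iv F184730) D41089 (iv D40005)
theorem F189265 : act 7 n41089 = n40047 := d21_2 (iv F184731) D41089 F184848
theorem F189266 : act 9 n40113 = n41089 := d43_0 F189265 F184850 (iv F185003)
def n41090 : Q := act 6 n39998
theorem D41090 : act 6 n39998 = n41090 := rfl
theorem F189267 : act 3 n41090 = n39999 := d26_1 D41090 (iv D39999) D39998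
theorem F189268 : act 4 n41090 = n40148 := d31_1 D41090 (iv D40148) (iv F184729)
theorem F189269 : act 5 n41090 = n41090 := d35_1 D41090 (iv D41090) F184730 F179794 (iv F184730)
def n41091 : Q := act 9 n39998
theorem D41091 : act 9 n39998 = n41091 := rfl
theorem F189270 : act 2 n41091 = n40113 := d23_1 D41091 F189266 (iv D41089)
theorem F189271 : act 3 n41091 = n40000 := d29_1 D41091 (iv D40000) D39998
theorem F189272 : act 4 n41091 = n40047 := d34_1 D41091 F184850 (iv F184729)
theorem F189273 : act 5 n41091 = n40006 := d38_1 D41091 (iv D40006) (iv F184730)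
theorem F189274 : act 7 n41091 = n40147 := d43_1 D41091 F185070 (iv F184731)
def n41092 : Q := act 7 n39999
theorem D41092 : act 7 n39999 = n41092 := rfl
theorem F189275 : act 4 n41092 = n40001 := d32_1 D41092 (iv D40001) (iv F184732)
theorem F189276 : act 5 n41092 = n41092 := d36_1 D41092 (iv D41092) F184733
def n41093 : Q := act 9 n39999
theorem D41093 : act 9 n39999 = n41093 := rfl
theorem F189277 : act 4 n41093 = n40002 := d34_1 D41093 (iv D40002) (iv F184732)
theorem F189278 : act 5 n41093 = n41093 := d38_1 D41093 (iv D41093) F184733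
theorem F189279 : act 6 n41093 = n40000 := d41_1 D41093 (iv D40000) D39999
def n41094 : Q := act 8 n40000
theorem D41094 : act 8 n40000 = n41094 := rfl
theorem F189280 : act 4 n41094 = n40003 := d33_1 D41094 (iv D40003) (iv F184734)
def n41095 : Q := act 9 n40001
theorem D41095 : act 9 n40001 = n41095 := rfl
theorem F189281 : act 3 n41095 = n40152 := d29_1 D41095 (iv D40152) (iv F184736)
theorem F189282 : act 5 n41095 = n40004 := d38_1 D41095 (iv D40004) (iv F184737)
theorem F189283 : act 7 n41095 = n40002 := d43_1 D41095 (iv D40002) D40001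
def n41096 : Q := act 8 n40002
theorem D41096 : act 8 n40002 = n41096 := rfl
theorem F189284 : act 3 n41096 = n40153 := d28_1 D41096 (iv D40153) (iv F184738)
theorem F189285 : act 6 n41096 = n40003 := d40_1 D41096 (iv D40003) (iv F184740)
def n41097 : Q := act 5 n40007
theorem D41097 : act 5 n40007 = n41097 := rfl
theorem F189286 : act 3 n41097 = n40020 := d25_1 D41097 F184786 (iv F184759)
theorem F189287 : act 4 n41097 = n40026 := d30_1 D41097 F184800 F179854 (iv F179800) (iv F184760)
def n41098 : Q := act 8 n40008
theorem D41098 : act 8 n40008 = n41098 := rfl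
theorem F189288 : act 0 n41098 = n40012 := d7_1 D41098 (iv D40012) (iv F184762)
theorem F189289 : act 3 n41098 = n40009 := d28_1 D41098 (iv D40009) (iv F184763)
def n41099 : Q := act 5 n40009
theorem D41099 : act 5 n40009 = n41099 := rfl
theorem F189290 : act 0 n41099 = n40013 := d4_1 D41099 (iv D40013) (iv F184764)
theorem F189291 : act 8 n41099 = n40010 := d37_2 D40009 D41099 (iv D40010) (iv D38856) D38855
def n41100 : Q := act 9 n40009
theorem D41100 : act 9 n40009 = n41100 := rfl
theorem F189292 : act 0 n41100 = n40014 := d8_1 D41100 (iv D40014) (iv F184764)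
def n41101 : Q := act 8 n40011
theorem D41101 : act 8 n40011 = n41101 := rfl
theorem F189293 : act 1 n41101 = n40017 := d15_1 D41101 (iv D40017) (iv F184766)
theorem F189294 : act 3 n41101 = n40137 := d28_1 D41101 F185053 (iv F184767)
theorem F189295 : act 4 n41101 = n40012 := d33_1 D41101 (iv D40012) D40011
def n41102 : Q := act 9 n40012
theorem D41102 : act 9 n40012 = n41102 := rfl
theorem F189296 : act 1 n41102 = n40019 := d16_1 D41102 (iv D40019) (iv F184769)
theorem F189297 : act 3 n41102 = n40014 := d29_1 D41102 (iv D40014) (iv F184770)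
def n41103 : Q := act 4 n40013
theorem D41103 : act 4 n40013 = n41103 := rfl
theorem F189298 : act 1 n41103 = n40023 := d11_1 D41103 (iv D40023) (iv F184771)
theorem F189299 : act 5 n41103 = n40135 := d30_2 D40013 D41103 F185049 (iv F184645) F184644
theorem F189300 : act 8 n41103 = n40015 := d33_2 (iv F184772) D41103 (iv D40015)
def n41104 : Q := act 6 n40013
theorem D41104 : act 6 n40013 = n41104 := rfl
theorem F189301 : act 1 n41104 = n40024 := d13_1 D41104 (iv D40024) (iv F184771)
theorem F189302 : act 8 n41104 = n40016 := d40_2 (iv F184772) D41104 (iv D40016)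
def n41105 : Q := act 9 n40013
theorem D41105 : act 9 n40013 = n41105 := rfl
theorem F189303 : act 1 n41105 = n40025 := d16_1 D41105 (iv D40025) (iv F184771)
theorem F189304 : act 5 n41105 = n40014 := d38_1 D41105 (iv D40014) D40013
def n41106 : Q := act 6 n40015
theorem D41106 : act 6 n40015 = n41106 := rfl
theorem F189305 : act 1 n41106 = n40027 := d13_1 D41106 (iv D40027) (iv F184774)
theorem F189306 : act 4 n41106 = n40016 := d31_1 D41106 (iv D40016) D40015
theorem F189307 : act 5 n41106 = n40041 := d35_1 D41106 (iv D40041) F179896 (iv F179828) (iv F184775)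
def n41107 : Q := act 5 n40017
theorem D41107 : act 5 n40017 = n41107 := rfl
theorem F189308 : act 2 n41107 = n40155 := d19_1 D41107 (iv D40155) (iv F184778)
theorem F189309 : act 3 n41107 = n40151 := d25_1 D41107 (iv F189189) F189187
theorem F189310 : act 8 n41107 = n40047 := d37_2 D40017 D41107 (iv D40047) (iv D38902) (iv F179831)
def n41108 : Q := act 9 n40017
theorem D41108 : act 9 n40017 = n41108 := rfl
theorem F189311 : act 2 n41108 = n40156 := d23_1 D41108 (iv D40156) (iv F184778)
theorem F189312 : act 4 n41108 = n40019 := d34_1 D41108 (iv D40019) (iv F184779)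
def n41109 : Q := act 4 n40018
theorem D41109 : act 4 n40018 = n41109 := rfl
theorem F189313 : act 2 n41109 = n40157 := d18_1 D41109 (iv D40157) (iv F184780)
theorem F189314 : act 8 n41109 = n40020 := d33_2 (iv F184782) D41109 (iv D40020)
def n41110 : Q := act 6 n40018
theorem D41110 : act 6 n40018 = n41110 := rfl
theorem F189315 : act 2 n41110 = n40158 := d20_1 D41110 (iv D40158) (iv F184780)
theorem F189316 : act 3 n41110 = n40024 := d26_1 D41110 (iv D40024) (iv F184781)
theorem F189317 : act 8 n41110 = n40021 := d40_2 (iv F184782) D41110 (iv D40021)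
def n41111 : Q := act 9 n40018
theorem D41111 : act 9 n40018 = n41111 := rfl
theorem F189318 : act 2 n41111 = n40159 := d23_1 D41111 (iv D40159) (iv F184780)
theorem F189319 : act 3 n41111 = n40025 := d29_1 D41111 (iv D40025) (iv F184781)
theorem F189320 : act 5 n41111 = n40019 := d38_1 D41111 (iv D40019) D40018
def n41112 : Q := act 6 n40020
theorem D41112 : act 6 n40020 = n41112 := rfl
theorem F189321 : act 2 n41112 = n40160 := d20_1 D41112 (iv D40160) (iv F184785)
theorem F189322 : act 4 n41112 = n40021 := d31_1 D41112 (iv D40021) D40020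
theorem F189323 : act 5 n41112 = n41112 := d35_1 D41112 (iv D41112) F184786 F179950 (iv F184786)
def n41113 : Q := act 7 n40021
theorem D41113 : act 7 n40021 = n41113 := rfl
theorem F189324 : act 2 n41113 = n40162 := d21_1 D41113 (iv D40162) (iv F184787)
theorem F189325 : act 3 n41113 = n40029 := d27_1 D41113 (iv D40029) (iv F184788)
theorem F189326 : act 5 n41113 = n40022 := d36_1 D41113 (iv D40022) (iv F184789)
def n41114 : Q := act 3 n40023
theorem D41114 : act 3 n40023 = n41114 := rfl
theorem F189327 : act 5 n41114 = n40038 := d25_2 F189196 D41114 (iv F189195)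
theorem F189328 : act 8 n41114 = n40026 := d28_2 (iv F184795) D41114 (iv D40026)
def n41115 : Q := act 6 n40023
theorem D41115 : act 6 n40023 = n41115 := rfl
theorem F189329 : act 2 n41115 = n40032 := d20_1 D41115 (iv D40032) (iv F184794)
theorem F189330 : act 4 n41115 = n40024 := d31_1 D41115 (iv D40024) D40023
theorem F189331 : act 8 n41115 = n40027 := d40_2 (iv F184795) D41115 (iv D40027)
def n41116 : Q := act 9 n40023
theorem D41116 : act 9 n40023 = n41116 := rfl
theorem F189332 : act 2 n41116 = n40033 := d23_1 D41116 (iv D40033) (iv F184794)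
theorem F189333 : act 4 n41116 = n40025 := d34_1 D41116 (iv D40025) D40023
def n41117 : Q := act 7 n40024
theorem D41117 : act 7 n40024 = n41117 := rfl
theorem F189334 : act 2 n41117 = n40034 := d21_1 D41117 (iv D40034) (iv F184796)
theorem F189335 : act 8 n41117 = n40029 := d42_2 (iv F184797) D41117 (iv D40029)
def n41118 : Q := act 9 n40024
theorem D41118 : act 9 n40024 = n41118 := rfl
theorem F189336 : act 2 n41118 = n40035 := d23_1 D41118 (iv D40035) (iv F184796)
theorem F189337 : act 6 n41118 = n40025 := d41_1 D41118 (iv D40025) D40024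
def n41119 : Q := act 8 n40025
theorem D41119 : act 8 n40025 = n41119 := rfl
theorem F189338 : act 2 n41119 = n40036 := d22_1 D41119 (iv D40036) (iv F184798)
theorem F189339 : act 9 n41119 = n40030 := d44_2 D40025 D41119 (iv D40030) (iv D38871) (iv F179843)
def n41120 : Q := act 6 n40026
theorem D41120 : act 6 n40026 = n41120 := rfl
theorem F189340 : act 3 n41120 = n40027 := d26_1 D41120 (iv D40027) D40026
theorem F189341 : act 5 n41120 = n40042 := d35_1 D41120 (iv D40042) F179902 (iv F179855) (iv F184800)
def n41121 : Q := act 7 n40027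
theorem D41121 : act 7 n40027 = n41121 := rfl
theorem F189342 : act 2 n41121 = n40037 := d21_1 D41121 (iv D40037) (iv F184801)
theorem F189343 : act 4 n41121 = n40029 := d32_1 D41121 (iv D40029) (iv F184802)
theorem F189344 : act 5 n41121 = n40043 := d36_1 D41121 (iv D40043) (iv F184803)
def n41122 : Q := act 8 n40028
theorem D41122 : act 8 n40028 = n41122 := rfl
theorem F189345 : act 2 n41122 = n40038 := d22_1 D41122 (iv D40038) (iv F184804)
theorem F189346 : act 4 n41122 = n40030 := d33_1 D41122 (iv D40030) (iv F184805)
def n41123 : Q := act 9 n40031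
theorem D41123 : act 9 n40031 = n41123 := rfl
theorem F189347 : act 1 n41123 = n40156 := d16_1 D41123 (iv D40156) (iv F184810)
theorem F189348 : act 3 n41123 = n40033 := d29_1 D41123 (iv D40033) D40031
theorem F189349 : act 4 n41123 = n40154 := d34_1 D41123 (iv D40154) (iv F184811)
def n41124 : Q := act 5 n40032
theorem D41124 : act 5 n40032 = n41124 := rfl
theorem F189350 : act 8 n41124 = n40044 := d37_2 (iv F184814) D41124 (iv D40044) F179911 (iv F179869)
def n41125 : Q := act 7 n40032
theorem D41125 : act 7 n40032 = n41125 := rfl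
theorem F189351 : act 4 n41125 = n40034 := d32_1 D41125 (iv D40034) (iv F184813)
theorem F189352 : act 8 n41125 = n40037 := d42_2 (iv F184814) D41125 (iv D40037)
def n41126 : Q := act 9 n40032
theorem D41126 : act 9 n40032 = n41126 := rfl
theorem F189353 : act 4 n41126 = n40035 := d34_1 D41126 (iv D40035) (iv F184813)
theorem F189354 : act 6 n41126 = n40033 := d41_1 D41126 (iv D40033) D40032
def n41127 : Q := act 8 n40033
theorem D41127 : act 8 n40033 = n41127 := rfl
theorem F189355 : act 4 n41127 = n40036 := d33_1 D41127 (iv D40036) (iv F184815)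
theorem F189356 : act 9 n41127 = n40038 := d44_2 D40033 D41127 (iv D40038) (iv D38880) (iv F179860)
def n41128 : Q := act 9 n40034
theorem D41128 : act 9 n40034 = n41128 := rfl
theorem F189357 : act 3 n41128 = n40167 := d29_1 D41128 (iv D40167) (iv F184816)
theorem F189358 : act 7 n41128 = n40035 := d43_1 D41128 (iv D40035) D40034
def n41129 : Q := act 7 n40039
theorem D41129 : act 7 n40039 = n41129 := rfl
theorem F189359 : act 1 n41129 = n40169 := d14_1 D41129 (iv D40169) (iv F184825)
theorem F189360 : act 3 n41129 = n40040 := d27_1 D41129 (iv D40040) (iv F184826)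
theorem F189361 : act 4 n41129 = n41129 := d32_1 D41129 (iv D41129) F184827
theorem F189362 : act 6 n41129 = n41129 := d39_1 D41129 (iv D41129) (iv D40039) F179878 D40039
def n41130 : Q := act 7 n40042
theorem D41130 : act 7 n40042 = n41130 := rfl
theorem F189363 : act 3 n41130 = n40043 := d27_1 D41130 (iv D40043) (iv F184833)
theorem F189364 : act 4 n41130 = n41130 := d32_1 D41130 (iv D41130) F184834
theorem F189365 : act 6 n41130 = n41130 := d39_1 D41130 (iv D41130) (iv D40042) F179903 D40042
def n41131 : Q := act 7 n40044
theorem D41131 : act 7 n40044 = n41131 := rfl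
theorem F189366 : act 5 n41131 = n40045 := d36_1 D41131 (iv D40045) D40044
def n41132 : Q := act 6 n40047
theorem D41132 : act 6 n40047 = n41132 := rfl
theorem F189367 : act 2 n41132 = n40168 := d20_1 D41132 (iv D40168) (iv F184848)
theorem F189368 : act 3 n41132 = n40150 := d26_1 D41132 F185077 (iv F184849)
theorem F189369 : act 5 n41132 = n40048 := d35_1 D41132 (iv D40048) (iv D38904) (iv F179947) D40047
theorem F189370 : act 9 n41132 = n40148 := d41_2 (iv F184850) D41132 (iv D40148)
def n41133 : Q := act 7 n40048
theorem D41133 : act 7 n40048 = n41133 := rfl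
theorem F189371 : act 2 n41133 = n40169 := d21_1 D41133 (iv D40169) (iv F184851)
theorem F189372 : act 3 n41133 = n40177 := d27_1 D41133 F185128 (iv F184852)
theorem F189373 : act 4 n41133 = n41133 := d32_1 D41133 (iv D41133) F184853
theorem F189374 : act 6 n41133 = n41133 := d39_1 D41133 (iv D41133) (iv D40048) F179954 D40048
theorem F189375 : act 9 n41133 = n40176 := d43_2 (iv F184854) D41133 (iv D40176)
def n41134 : Q := act 8 n40052
theorem D41134 : act 8 n40052 = n41134 := rfl
theorem F189376 : act 1 n41134 = n40157 := d15_1 D41134 F185086 (iv F184865)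
theorem F189377 : act 3 n41134 = n40066 := d28_1 D41134 (iv D40066) (iv F184866)
theorem F189378 : act 4 n41134 = n40053 := d33_1 D41134 (iv D40053) D40052
def n41135 : Q := act 9 n40053
theorem D41135 : act 9 n40053 = n41135 := rfl
theorem F189379 : act 1 n41135 = n40159 := d16_1 D41135 (iv D40159) (iv F184868)
theorem F189380 : act 3 n41135 = n40054 := d29_1 D41135 (iv D40054) (iv F184869)
theorem F189381 : act 5 n41135 = n40154 := d38_1 D41135 (iv D40154) (iv F184870)
def n41136 : Q := act 8 n40055
theorem D41136 : act 8 n40055 = n41136 := rfl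
theorem F189382 : act 1 n41136 = n40059 := d15_1 D41136 F184886 (iv F184875)
theorem F189383 : act 2 n41136 = n40134 := d22_1 D41136 F185048 (iv F184876)
theorem F189384 : act 4 n41136 = n40166 := d33_1 D41136 (iv D40166) (iv F184877)
theorem F189385 : act 9 n41136 = n40056 := d44_2 D40055 D41136 (iv D40056) (iv D38914) (iv F179977)
def n41137 : Q := act 8 n40057
theorem D41137 : act 8 n40057 = n41137 := rfl
theorem F189386 : act 4 n41137 = n40058 := d33_1 D41137 (iv D40058) D40057
def n41138 : Q := act 9 n40058
theorem D41138 : act 9 n40058 = n41138 := rfl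
theorem F189387 : act 3 n41138 = n40059 := d29_1 D41138 (iv D40059) (iv F184884)
theorem F189388 : act 8 n41138 = n40067 := d44_1 D41138 (iv D40067) (iv D38924) (iv F179985) D40058
def n41139 : Q := act 3 n40060
theorem D41139 : act 3 n40060 = n41139 := rfl
theorem F189389 : act 1 n41139 = n40141 := d10_1 D41139 (iv D40141) (iv F184887)
theorem F189390 : act 8 n41139 = n40063 := d28_2 (iv F184888) D41139 (iv D40063)
def n41140 : Q := act 6 n40060
theorem D41140 : act 6 n40060 = n41140 := rfl
theorem F189391 : act 1 n41140 = n40142 := d13_1 D41140 (iv D40142) (iv F184887)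
theorem F189392 : act 4 n41140 = n40061 := d31_1 D41140 (iv D40061) D40060
theorem F189393 : act 8 n41140 = n40064 := d40_2 (iv F184888) D41140 (iv D40064)
def n41141 : Q := act 9 n40060
theorem D41141 : act 9 n40060 = n41141 := rfl
theorem F189394 : act 1 n41141 = n40143 := d16_1 D41141 (iv D40143) (iv F184887)
theorem F189395 : act 4 n41141 = n40062 := d34_1 D41141 (iv D40062) D40060
def n41142 : Q := act 7 n40061
theorem D41142 : act 7 n40061 = n41142 := rfl
theorem F189396 : act 1 n41142 = n40144 := d14_1 D41142 (iv D40144) (iv F184889)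
theorem F189397 : act 8 n41142 = n40065 := d42_2 (iv F184890) D41142 (iv D40065)
def n41143 : Q := act 9 n40061
theorem D41143 : act 9 n40061 = n41143 := rfl
theorem F189398 : act 1 n41143 = n40145 := d16_1 D41143 (iv D40145) (iv F184889)
theorem F189399 : act 6 n41143 = n40062 := d41_1 D41143 (iv D40062) D40061
def n41144 : Q := act 6 n40063
theorem D41144 : act 6 n40063 = n41144 := rfl
theorem F189400 : act 1 n41144 = n40148 := d13_1 D41144 (iv D40148) (iv F184893)
theorem F189401 : act 3 n41144 = n40064 := d26_1 D41144 (iv D40064) D40063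
theorem F189402 : act 5 n41144 = n40172 := d35_1 D41144 (iv D40172) F180230 (iv F180000) (iv F184894)
def n41145 : Q := act 7 n40064
theorem D41145 : act 7 n40064 = n41145 := rfl
theorem F189403 : act 1 n41145 = n40149 := d14_1 D41145 (iv D40149) (iv F184895)
theorem F189404 : act 4 n41145 = n40065 := d32_1 D41145 (iv D40065) (iv F184896)
theorem F189405 : act 5 n41145 = n40173 := d36_1 D41145 (iv D40173) (iv F184897)
def n41146 : Q := act 9 n40066
theorem D41146 : act 9 n40066 = n41146 := rfl
theorem F189406 : act 4 n41146 = n40067 := d34_1 D41146 (iv D40067) (iv F184900)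
def n41147 : Q := act 8 n40068
theorem D41147 : act 8 n40068 = n41147 := rfl
theorem F189407 : act 1 n41147 = n40070 := d15_1 D41147 (iv D40070) (iv F184903)
theorem F189408 : act 4 n41147 = n40131 := d33_1 D41147 (iv D40131) (iv F184904)
theorem F189409 : act 6 n41147 = n40103 := d40_1 D41147 (iv D40103) (iv F184905)
def n41148 : Q := act 4 n40069
theorem D41148 : act 4 n40069 = n41148 := rfl
theorem F189410 : act 5 n41148 = n41148 := d30_2 D40069 D41148 (iv D41148) (iv D40069) F180014
theorem F189411 : act 6 n41148 = n40104 := d31_2 (iv F184908) D41148 (iv D40104)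
theorem F189412 : act 9 n41148 = n40077 := d34_2 (iv F184909) D41148 (iv D40077)
def n41149 : Q := act 8 n40069
theorem D41149 : act 8 n40069 = n41149 := rfl
theorem F189413 : act 3 n41149 = n40070 := d28_1 D41149 (iv D40070) (iv F184907)
theorem F189414 : act 6 n41149 = n40105 := d40_1 D41149 (iv D40105) (iv F184908)
def n41150 : Q := act 9 n40070
theorem D41150 : act 9 n40070 = n41150 := rfl
theorem F189415 : act 2 n41150 = n40072 := d23_1 D41150 (iv D40072) (iv F184910)
theorem F189416 : act 6 n41150 = n40107 := d41_1 D41150 (iv D40107) (iv F184911)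
theorem F189417 : act 8 n41150 = n40082 := d44_1 D41150 (iv D40082) (iv D38939) (iv F180018) D40070
def n41151 : Q := act 4 n40071
theorem D41151 : act 4 n40071 = n41151 := rfl
theorem F189418 : act 8 n41151 = n40073 := d33_2 (iv F184912) D41151 (iv D40073)
def n41152 : Q := act 6 n40071
theorem D41152 : act 6 n40071 = n41152 := rfl
theorem F189419 : act 5 n41152 = n40111 := d35_1 D41152 (iv D40111) (iv D38965) (iv F180019) D40071
theorem F189420 : act 8 n41152 = n40074 := d40_2 (iv F184912) D41152 (iv D40074)
def n41153 : Q := act 9 n40071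
theorem D41153 : act 9 n40071 = n41153 := rfl
theorem F189421 : act 5 n41153 = n40072 := d38_1 D41153 (iv D40072) D40071
def n41154 : Q := act 6 n40073
theorem D41154 : act 6 n40073 = n41154 := rfl
theorem F189422 : act 4 n41154 = n40074 := d31_1 D41154 (iv D40074) D40073
theorem F189423 : act 5 n41154 = n41154 := d35_1 D41154 (iv D41154) F184915 F180022 (iv F184915)
def n41155 : Q := act 8 n40075
theorem D41155 : act 8 n40075 = n41155 := rfl
theorem F189424 : act 1 n41155 = n40078 := d15_1 D41155 (iv D40078) (iv F184917)
theorem F189425 : act 3 n41155 = n40076 := d28_1 D41155 (iv D40076) (iv F184918)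
theorem F189426 : act 6 n41155 = n40121 := d40_1 D41155 (iv D40121) (iv F184919)
def n41156 : Q := act 9 n40076
theorem D41156 : act 9 n40076 = n41156 := rfl
theorem F189427 : act 1 n41156 = n40082 := d16_1 D41156 (iv D40082) (iv F184920)
theorem F189428 : act 4 n41156 = n40129 := d34_1 D41156 (iv D40129) (iv F184921)
theorem F189429 : act 6 n41156 = n40122 := d41_1 D41156 (iv D40122) (iv F184922)
def n41157 : Q := act 8 n40077
theorem D41157 : act 8 n40077 = n41157 := rfl
theorem F189430 : act 4 n41157 = n40078 := d33_1 D41157 (iv D40078) D40077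
theorem F189431 : act 6 n41157 = n40123 := d40_1 D41157 (iv D40123) (iv F184924)
def n41158 : Q := act 5 n40078
theorem D41158 : act 5 n40078 = n41158 := rfl
theorem F189432 : act 3 n41158 = n40081 := d25_1 D41158 (iv D40081) (iv F184925)
theorem F189433 : act 8 n41158 = n40079 := d37_2 D40078 D41158 (iv D40079) (iv D38937) D38936
def n41159 : Q := act 9 n40078
theorem D41159 : act 9 n40078 = n41159 := rfl
theorem F189434 : act 3 n41159 = n40082 := d29_1 D41159 (iv D40082) (iv F184925)
theorem F189435 : act 6 n41159 = n40125 := d41_1 D41159 (iv D40125) (iv F184926)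
def n41160 : Q := act 4 n40079
theorem D41160 : act 4 n40079 = n41160 := rfl
theorem F189436 : act 5 n41160 = n41160 := d30_2 D40079 D41160 (iv D41160) (iv D40079) F180032
def n41161 : Q := act 9 n40079
theorem D41161 : act 9 n40079 = n41161 := rfl
theorem F189437 : act 3 n41161 = n40084 := d29_1 D41161 (iv D40084) (iv F184927)
theorem F189438 : act 5 n41161 = n40080 := d38_1 D41161 (iv D40080) D40079
def n41162 : Q := act 4 n40081
theorem D41162 : act 4 n40081 = n41162 := rfl
theorem F189439 : act 2 n41162 = n40088 := d18_1 D41162 (iv D40088) (iv F184931)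
theorem F189440 : act 8 n41162 = n40083 := d33_2 (iv F184932) D41162 (iv D40083)
def n41163 : Q := act 9 n40081
theorem D41163 : act 9 n40081 = n41163 := rfl
theorem F189441 : act 2 n41163 = n40090 := d23_1 D41163 (iv D40090) (iv F184931)
theorem F189442 : act 5 n41163 = n40082 := d38_1 D41163 (iv D40082) D40081
def n41164 : Q := act 3 n40083
theorem D41164 : act 3 n40083 = n41164 := rfl
theorem F189443 : act 5 n41164 = n40085 := d25_2 (iv F184936) D41164 (iv D40085)
def n41165 : Q := act 9 n40083
theorem D41165 : act 9 n40083 = n41165 := rfl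
theorem F189444 : act 2 n41165 = n40093 := d23_1 D41165 (iv D40093) (iv F184935)
theorem F189445 : act 4 n41165 = n40084 := d34_1 D41165 (iv D40084) D40083
theorem F189446 : act 5 n41165 = n40086 := d38_1 D41165 (iv D40086) (iv F184936)
def n41166 : Q := act 8 n40084
theorem D41166 : act 8 n40084 = n41166 := rfl
theorem F189447 : act 2 n41166 = n40096 := d22_1 D41166 (iv D40096) (iv F184937)
def n41167 : Q := act 2 n40085
theorem D41167 : act 2 n40085 = n41167 := rfl
theorem F189448 : act 3 n41167 = n40099 := d17_2 D40085 D41167 (iv D40099) (iv D38953) (iv F180043)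
theorem F189449 : act 4 n41167 = n41167 := d18_2 F184939 D41167 (iv D41167)
theorem F189450 : act 6 n41167 = n40178 := d20_2 (iv F184940) D41167 (iv D40178)
def n41168 : Q := act 9 n40085
theorem D41168 : act 9 n40085 = n41168 := rfl
theorem F189451 : act 3 n41168 = n40086 := d29_1 D41168 (iv D40086) D40085
theorem F189452 : act 4 n41168 = n41168 := d34_1 D41168 (iv D41168) F184939
theorem F189453 : act 6 n41168 = n40179 := d41_1 D41168 (iv D40179) (iv F184940)
def n41169 : Q := act 8 n40086
theorem D41169 : act 8 n40086 = n41169 := rfl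
theorem F189454 : act 1 n41169 = n40099 := d15_1 D41169 (iv F186152) F186149
theorem F189455 : act 2 n41169 = n40101 := d22_1 D41169 (iv D40101) (iv F184941)
theorem F189456 : act 4 n41169 = n40087 := d33_1 D41169 (iv D40087) (iv F184942)
theorem F189457 : act 6 n41169 = n40180 := d40_1 D41169 (iv D40180) (iv F184943)
def n41170 : Q := act 3 n40088
theorem D41170 : act 3 n40088 = n41170 := rfl
theorem F189458 : act 8 n41170 = n40091 := d28_2 (iv F184948) D41170 (iv D40091)
def n41171 : Q := act 6 n40088
theorem D41171 : act 6 n40088 = n41171 := rfl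
theorem F189459 : act 4 n41171 = n40089 := d31_1 D41171 (iv D40089) D40088
theorem F189460 : act 8 n41171 = n40092 := d40_2 (iv F184948) D41171 (iv D40092)
def n41172 : Q := act 9 n40088
theorem D41172 : act 9 n40088 = n41172 := rfl
theorem F189461 : act 4 n41172 = n40090 := d34_1 D41172 (iv D40090) D40088
def n41173 : Q := act 7 n40089
theorem D41173 : act 7 n40089 = n41173 := rfl
theorem F189462 : act 5 n41173 = n40128 := d36_1 D41173 (iv D40128) (iv F184949)
theorem F189463 : act 8 n41173 = n40094 := d42_2 (iv F184950) D41173 (iv D40094)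
def n41174 : Q := act 9 n40089
theorem D41174 : act 9 n40089 = n41174 := rfl
theorem F189464 : act 5 n41174 = n40129 := d38_1 D41174 (iv D40129) (iv F184949)
theorem F189465 : act 6 n41174 = n40090 := d41_1 D41174 (iv D40090) D40089
def n41175 : Q := act 8 n40090
theorem D41175 : act 8 n40090 = n41175 := rfl
theorem F189466 : act 9 n41175 = n40096 := d44_2 D40090 D41175 (iv D40096) (iv D38948) (iv F180049)
def n41176 : Q := act 2 n40091
theorem D41176 : act 2 n40091 = n41176 := rfl
theorem F189467 : act 5 n41176 = n40099 := d19_2 (iv F184952) D41176 (iv D40099)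
def n41177 : Q := act 6 n40091
theorem D41177 : act 6 n40091 = n41177 := rfl
theorem F189468 : act 3 n41177 = n40092 := d26_1 D41177 (iv D40092) D40091
theorem F189469 : act 5 n41177 = n40182 := d35_1 D41177 (iv D40182) F180264 (iv F180065) (iv F184952)
def n41178 : Q := act 9 n40091
theorem D41178 : act 9 n40091 = n41178 := rfl
theorem F189470 : act 3 n41178 = n40093 := d29_1 D41178 (iv D40093) D40091
theorem F189471 : act 5 n41178 = n40100 := d38_1 D41178 (iv D40100) (iv F184952)
def n41179 : Q := act 7 n40092
theorem D41179 : act 7 n40092 = n41179 := rfl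
theorem F189472 : act 4 n41179 = n40094 := d32_1 D41179 (iv D40094) (iv F184953)
theorem F189473 : act 5 n41179 = n40184 := d36_1 D41179 (iv D40184) (iv F184954)
def n41180 : Q := act 9 n40092
theorem D41180 : act 9 n40092 = n41180 := rfl
theorem F189474 : act 4 n41180 = n40095 := d34_1 D41180 (iv D40095) (iv F184953)
theorem F189475 : act 5 n41180 = n40185 := d38_1 D41180 (iv D40185) (iv F184954)
theorem F189476 : act 6 n41180 = n40093 := d41_1 D41180 (iv D40093) D40092
def n41181 : Q := act 8 n40093
theorem D41181 : act 8 n40093 = n41181 := rfl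
theorem F189477 : act 4 n41181 = n40096 := d33_1 D41181 (iv D40096) (iv F184955)
def n41182 : Q := act 9 n40094
theorem D41182 : act 9 n40094 = n41182 := rfl
theorem F189478 : act 5 n41182 = n40097 := d38_1 D41182 (iv D40097) (iv F184957)
theorem F189479 : act 7 n41182 = n40095 := d43_1 D41182 (iv D40095) D40094
def n41183 : Q := act 8 n40095
theorem D41183 : act 8 n40095 = n41183 := rfl
theorem F189480 : act 6 n41183 = n40096 := d40_1 D41183 (iv D40096) (iv F184959)
def n41184 : Q := act 5 n40098
theorem D41184 : act 5 n40098 = n41184 := rfl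
theorem F189481 : act 9 n41184 = n40132 := d38_2 (iv F184965) D41184 (iv D40132)
def n41185 : Q := act 9 n40099
theorem D41185 : act 9 n40099 = n41185 := rfl
theorem F189482 : act 2 n41185 = n40100 := d23_1 D41185 (iv D40100) D40099
theorem F189483 : act 4 n41185 = n40102 := d34_1 D41185 (iv D40102) (iv F184966)
theorem F189484 : act 6 n41185 = n40186 := d41_1 D41185 F185156 (iv F184967)
theorem F189485 : act 8 n41185 = n40185 := d44_1 D41185 (iv D40185) (iv F182369) (iv F186153) F186152
def n41186 : Q := act 5 n40101
theorem D41186 : act 5 n40101 = n41186 := rfl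
def n41187 : Q := act 9 n40103
theorem D41187 : act 9 n40103 = n41187 := rfl
theorem F189486 : act 1 n41187 = n40107 := d16_1 D41187 (iv D40107) (iv F184977)
theorem F189487 : act 4 n41187 = n40130 := d34_1 D41187 F185043 (iv F184978)
theorem F189488 : act 7 n41187 = n40134 := d43_1 D41187 (iv D40134) (iv F184979)
theorem F189489 : act 8 n41187 = n40122 := d44_1 D41187 (iv D40122) (iv D38977) (iv F180079) D40103
def n41188 : Q := act 8 n40104
theorem D41188 : act 8 n40104 = n41188 := rfl
theorem F189490 : act 4 n41188 = n40105 := d33_1 D41188 (iv D40105) D40104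
theorem F189491 : act 7 n41188 = n40135 := d42_1 D41188 (iv D40135) (iv F184981)
def n41189 : Q := act 9 n40105
theorem D41189 : act 9 n40105 = n41189 := rfl
theorem F189492 : act 3 n41189 = n40107 := d29_1 D41189 (iv D40107) (iv F184983)
theorem F189493 : act 7 n41189 = n40136 := d43_1 D41189 (iv D40136) (iv F184984)
theorem F189494 : act 8 n41189 = n40125 := d44_1 D41189 (iv D40125) (iv D38979) (iv F180082) D40105
def n41190 : Q := act 4 n40106
theorem D41190 : act 4 n40106 = n41190 := rfl
theorem F189495 : act 2 n41190 = n40110 := d18_1 D41190 (iv D40110) (iv F184985)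
theorem F189496 : act 7 n41190 = n40137 := d32_2 (iv F184986) D41190 (iv D40137)
theorem F189497 : act 8 n41190 = n40108 := d33_2 (iv F184987) D41190 (iv D40108)
def n41191 : Q := act 6 n40106
theorem D41191 : act 6 n40106 = n41191 := rfl
theorem F189498 : act 2 n41191 = n40111 := d20_1 D41191 (iv D40111) (iv F184985)
theorem F189499 : act 8 n41191 = n40109 := d40_2 (iv F184987) D41191 (iv D40109)
def n41192 : Q := act 9 n40106
theorem D41192 : act 9 n40106 = n41192 := rfl
theorem F189500 : act 2 n41192 = n40112 := d23_1 D41192 (iv D40112) (iv F184985)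
theorem F189501 : act 5 n41192 = n40107 := d38_1 D41192 (iv D40107) D40106
theorem F189502 : act 7 n41192 = n40138 := d43_1 D41192 (iv D40138) (iv F184986)
def n41193 : Q := act 6 n40108
theorem D41193 : act 6 n40108 = n41193 := rfl
theorem F189503 : act 2 n41193 = n40114 := d20_1 D41193 (iv D40114) (iv F184991)
theorem F189504 : act 4 n41193 = n40109 := d31_1 D41193 (iv D40109) D40108
theorem F189505 : act 5 n41193 = n41193 := d35_1 D41193 (iv D41193) F184992 F180090 (iv F184992)
def n41194 : Q := act 3 n40110
theorem D41194 : act 3 n40110 = n41194 := rfl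
theorem F189506 : act 4 n41194 = n40155 := d24_2 D40110 D41194 F188890 (iv D40974) F184355
theorem F189507 : act 5 n41194 = n40157 := d25_2 F185558 D41194 (iv F185557)
theorem F189508 : act 7 n41194 = n40141 := d27_2 (iv F184996) D41194 (iv D40141)
theorem F189509 : act 8 n41194 = n40113 := d28_2 (iv F184997) D41194 (iv D40113)
def n41195 : Q := act 6 n40110
theorem D41195 : act 6 n40110 = n41195 := rfl
theorem F189510 : act 4 n41195 = n40111 := d31_1 D41195 (iv D40111) D40110
theorem F189511 : act 8 n41195 = n40114 := d40_2 (iv F184997) D41195 (iv D40114)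
def n41196 : Q := act 9 n40110
theorem D41196 : act 9 n40110 = n41196 := rfl
theorem F189512 : act 4 n41196 = n40112 := d34_1 D41196 (iv D40112) D40110
theorem F189513 : act 7 n41196 = n40143 := d43_1 D41196 (iv D40143) (iv F184996)
def n41197 : Q := act 7 n40111
theorem D41197 : act 7 n40111 = n41197 := rfl
theorem F189514 : act 6 n41197 = n40144 := d39_1 D41197 (iv D40144) (iv D39004) (iv F180092) D40111
theorem F189515 : act 8 n41197 = n40116 := d42_2 (iv F184998) D41197 (iv D40116)
def n41198 : Q := act 9 n40111
theorem D41198 : act 9 n40111 = n41198 := rfl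
theorem F189516 : act 6 n41198 = n40112 := d41_1 D41198 (iv D40112) D40111
def n41199 : Q := act 8 n40112
theorem D41199 : act 8 n40112 = n41199 := rfl
theorem F189517 : act 5 n41199 = n40130 := d37_1 D41199 (iv D40130) F180140 (iv F180095) (iv F184999)
theorem F189518 : act 7 n41199 = n40146 := d42_1 D41199 (iv D40146) (iv F185000)
theorem F189519 : act 9 n41199 = n40118 := d44_2 D40112 D41199 (iv D40118) (iv D38969) (iv F180093)
def n41200 : Q := act 6 n40113
theorem D41200 : act 6 n40113 = n41200 := rfl
theorem F189520 : act 3 n41200 = n40114 := d26_1 D41200 (iv D40114) D40113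
theorem F189521 : act 4 n41200 = n40168 := d31_1 D41200 (iv D40168) (iv F185001)
theorem F189522 : act 5 n41200 = n41200 := d35_1 D41200 (iv D41200) F185002 F180112 (iv F185002)
def n41201 : Q := act 7 n40114
theorem D41201 : act 7 n40114 = n41201 := rfl
theorem F189523 : act 4 n41201 = n40116 := d32_1 D41201 (iv D40116) (iv F185004)
theorem F189524 : act 5 n41201 = n41201 := d36_1 D41201 (iv D41201) F185005
theorem F189525 : act 6 n41201 = n40149 := d39_1 D41201 (iv D40149) (iv D39007) (iv F180097) D40114
def n41202 : Q := act 9 n40114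
theorem D41202 : act 9 n40114 = n41202 := rfl
theorem F189526 : act 4 n41202 = n40117 := d34_1 D41202 (iv D40117) (iv F185004)
theorem F189527 : act 5 n41202 = n41202 := d38_1 D41202 (iv D41202) F185005
theorem F189528 : act 6 n41202 = n40115 := d41_1 D41202 (iv D40115) D40114
def n41203 : Q := act 8 n40115
theorem D41203 : act 8 n40115 = n41203 := rfl
theorem F189529 : act 4 n41203 = n40118 := d33_1 D41203 (iv D40118) (iv F185006)
theorem F189530 : act 7 n41203 = n40151 := d42_1 D41203 (iv D40151) (iv F185008)
def n41204 : Q := act 9 n40116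
theorem D41204 : act 9 n40116 = n41204 := rfl
theorem F189531 : act 5 n41204 = n40119 := d38_1 D41204 (iv D40119) (iv F185009)
theorem F189532 : act 6 n41204 = n40152 := d41_1 D41204 (iv D40152) (iv F185010)
theorem F189533 : act 7 n41204 = n40117 := d43_1 D41204 (iv D40117) D40116
def n41205 : Q := act 8 n40117
theorem D41205 : act 8 n40117 = n41205 := rfl
theorem F189534 : act 6 n41205 = n40118 := d40_1 D41205 (iv D40118) (iv F185012)
def n41206 : Q := act 5 n40120
theorem D41206 : act 5 n40120 = n41206 := rfl
theorem F189535 : act 6 n41206 = n40132 := d35_2 (iv F185019) D41206 (iv D40132) F180148 (iv F180106)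
def n41207 : Q := act 9 n40121
theorem D41207 : act 9 n40121 = n41207 := rfl
theorem F189536 : act 1 n41207 = n40125 := d16_1 D41207 (iv D40125) (iv F185020)
theorem F189537 : act 3 n41207 = n40122 := d29_1 D41207 (iv D40122) (iv F185021)
theorem F189538 : act 7 n41207 = n40154 := d43_1 D41207 (iv D40154) (iv F185022)
def n41208 : Q := act 9 n40123
theorem D41208 : act 9 n40123 = n41208 := rfl
theorem F189539 : act 4 n41208 = n40125 := d34_1 D41208 (iv D40125) (iv F185026)
theorem F189540 : act 7 n41208 = n40156 := d43_1 D41208 (iv D40156) (iv F185027)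
def n41209 : Q := act 9 n40124
theorem D41209 : act 9 n40124 = n41209 := rfl
theorem F189541 : act 3 n41209 = n40126 := d29_1 D41209 (iv D40126) (iv F185028)
theorem F189542 : act 5 n41209 = n40125 := d38_1 D41209 (iv D40125) D40124
theorem F189543 : act 7 n41209 = n40159 := d43_1 D41209 (iv D40159) (iv F185029)
def n41210 : Q := act 8 n40126
theorem D41210 : act 8 n40126 = n41210 := rfl
theorem F189544 : act 1 n41210 = n40133 := d15_1 D41210 (iv F185184) F185178
theorem F189545 : act 2 n41210 = n40130 := d22_1 D41210 (iv D40130) (iv F185033)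
theorem F189546 : act 7 n41210 = n40166 := d42_1 D41210 (iv D40166) (iv F185035)
theorem F189547 : act 9 n41210 = n40127 := d44_2 D40126 D41210 (iv D40127) (iv D38983) (iv F180132)
def n41211 : Q := act 9 n40128
theorem D41211 : act 9 n40128 = n41211 := rfl
theorem F189548 : act 6 n41211 = n40167 := d41_1 D41211 (iv D40167) (iv F185039)
theorem F189549 : act 7 n41211 = n40129 := d43_1 D41211 (iv D40129) D40128
def n41212 : Q := act 8 n40129
theorem D41212 : act 8 n40129 = n41212 := rfl
theorem F189550 : act 6 n41212 = n40130 := d40_1 D41212 (iv D40130) (iv F185041)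
theorem F189551 : act 9 n41212 = n40131 := d44_2 D40129 D41212 (iv D40131) (iv D38987) (iv F180139)
def n41213 : Q := act 5 n40131
theorem D41213 : act 5 n40131 = n41213 := rfl
theorem F189552 : act 8 n41213 = n40132 := d37_2 D40131 D41213 (iv D40132) (iv D38989) (iv F180144)
def n41214 : Q := act 4 n40132
theorem D41214 : act 4 n40132 = n41214 := rfl
theorem F189553 : act 5 n41214 = n40188 := d30_2 D40132 D41214 (iv D40188) (iv D39058) (iv F180147)
def n41215 : Q := act 9 n40135
theorem D41215 : act 9 n40135 = n41215 := rfl
theorem F189554 : act 4 n41215 = n40136 := d34_1 D41215 (iv D40136) (iv F185049)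
theorem F189555 : act 8 n41215 = n40156 := d44_1 D41215 (iv D40156) (iv D39016) (iv F180161) D40135
def n41216 : Q := act 9 n40137
theorem D41216 : act 9 n40137 = n41216 := rfl
theorem F189556 : act 2 n41216 = n40143 := d23_1 D41216 (iv D40143) (iv F185052)
theorem F189557 : act 4 n41216 = n40138 := d34_1 D41216 (iv D40138) D40137
def n41217 : Q := act 8 n40138
theorem D41217 : act 8 n40138 = n41217 := rfl
theorem F189558 : act 2 n41217 = n40146 := d22_1 D41217 (iv D40146) (iv F185054)
theorem F189559 : act 5 n41217 = n40166 := d37_1 D41217 (iv D40166) F180211 (iv F180166) (iv F185055)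
theorem F189560 : act 9 n41217 = n40140 := d44_2 D40138 D41217 (iv D40140) (iv D39001) (iv F180164)
def n41218 : Q := act 8 n40139
theorem D41218 : act 8 n40139 = n41218 := rfl
theorem F189561 : act 2 n41218 = n40151 := d22_1 D41218 (iv D40151) (iv F185056)
theorem F189562 : act 4 n41218 = n40140 := d33_1 D41218 (iv D40140) (iv F185057)
def n41219 : Q := act 2 n40141
theorem D41219 : act 2 n40141 = n41219 := rfl
theorem F189563 : act 8 n41219 = n40147 := d22_2 (iv F185061) D41219 (iv D40147)
def n41220 : Q := act 6 n40141
theorem D41220 : act 6 n40141 = n41220 := rfl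
theorem F189564 : act 3 n41220 = n40142 := d26_1 D41220 (iv D40142) D40141
theorem F189565 : act 8 n41220 = n40148 := d40_2 (iv F185061) D41220 (iv D40148)
def n41221 : Q := act 9 n40141
theorem D41221 : act 9 n40141 = n41221 := rfl
theorem F189566 : act 3 n41221 = n40143 := d29_1 D41221 (iv D40143) D40141
def n41222 : Q := act 5 n40142
theorem D41222 : act 5 n40142 = n41222 := rfl
theorem F189567 : act 8 n41222 = n40175 := d37_2 (iv F185063) D41222 (iv D40175) F180242 (iv F180179)
def n41223 : Q := act 7 n40142
theorem D41223 : act 7 n40142 = n41223 := rfl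
theorem F189568 : act 4 n41223 = n40144 := d32_1 D41223 (iv D40144) (iv F185062)
theorem F189569 : act 8 n41223 = n40149 := d42_2 (iv F185063) D41223 (iv D40149)
def n41224 : Q := act 9 n40142
theorem D41224 : act 9 n40142 = n41224 := rfl
theorem F189570 : act 4 n41224 = n40145 := d34_1 D41224 (iv D40145) (iv F185062)
theorem F189571 : act 6 n41224 = n40143 := d41_1 D41224 (iv D40143) D40142
def n41225 : Q := act 8 n40143
theorem D41225 : act 8 n40143 = n41225 := rfl
theorem F189572 : act 4 n41225 = n40146 := d33_1 D41225 (iv D40146) (iv F185064)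
theorem F189573 : act 9 n41225 = n40151 := d44_2 D40143 D41225 (iv D40151) (iv D39008) (iv F180174)
def n41226 : Q := act 9 n40144
theorem D41226 : act 9 n40144 = n41226 := rfl
theorem F189574 : act 7 n41226 = n40145 := d43_1 D41226 (iv D40145) D40144
def n41227 : Q := act 8 n40145
theorem D41227 : act 8 n40145 = n41227 := rfl
theorem F189575 : act 6 n41227 = n40146 := d40_1 D41227 (iv D40146) (iv F185066)
theorem F189576 : act 9 n41227 = n40153 := d44_2 D40145 D41227 (iv D40153) (iv D39010) (iv F180175)
def n41228 : Q := act 6 n40147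
theorem D41228 : act 6 n40147 = n41228 := rfl
theorem F189577 : act 2 n41228 = n40148 := d20_1 D41228 (iv D40148) D40147
theorem F189578 : act 5 n41228 = n40170 := d35_1 D41228 F185110 F180226 (iv F180190) (iv F185069)
theorem F189579 : act 9 n41228 = n40168 := d41_2 (iv F185070) D41228 (iv D40168)
def n41229 : Q := act 7 n40148
theorem D41229 : act 7 n40148 = n41229 := rfl
theorem F189580 : act 3 n41229 = n40149 := d27_1 D41229 (iv D40149) (iv F185071)
theorem F189581 : act 5 n41229 = n40176 := d36_1 D41229 (iv D40176) (iv F185072)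
def n41230 : Q := act 9 n40149
theorem D41230 : act 9 n40149 = n41230 := rfl
theorem F189582 : act 4 n41230 = n40152 := d34_1 D41230 (iv D40152) (iv F185073)
theorem F189583 : act 5 n41230 = n40177 := d38_1 D41230 (iv D40177) (iv F185074)
theorem F189584 : act 7 n41230 = n40150 := d43_1 D41230 (iv D40150) D40149
def n41231 : Q := act 8 n40150
theorem D41231 : act 8 n40150 = n41231 := rfl
theorem F189585 : act 4 n41231 = n40153 := d33_1 D41231 (iv D40153) (iv F185075)
theorem F189586 : act 6 n41231 = n40151 := d40_1 D41231 (iv D40151) (iv F185077)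
def n41232 : Q := act 8 n40152
theorem D41232 : act 8 n40152 = n41232 := rfl
theorem F189587 : act 7 n41232 = n40153 := d42_1 D41232 (iv D40153) (iv F185080)
def n41233 : Q := act 6 n40155
theorem D41233 : act 6 n40155 = n41233 := rfl
theorem F189588 : act 8 n41233 = n40168 := d40_2 (iv F185084) D41233 (iv D40168)
def n41234 : Q := act 9 n40155
theorem D41234 : act 9 n40155 = n41234 := rfl
theorem F189589 : act 5 n41234 = n40156 := d38_1 D41234 (iv D40156) D40155
def n41235 : Q := act 6 n40157
theorem D41235 : act 6 n40157 = n41235 := rfl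
theorem F189590 : act 4 n41235 = n40158 := d31_1 D41235 (iv D40158) D40157
theorem F189591 : act 8 n41235 = n40160 := d40_2 (iv F185086) D41235 (iv D40160)
def n41236 : Q := act 9 n40157
theorem D41236 : act 9 n40157 = n41236 := rfl
theorem F189592 : act 4 n41236 = n40159 := d34_1 D41236 (iv D40159) D40157
def n41237 : Q := act 7 n40158
theorem D41237 : act 7 n40158 = n41237 := rfl
theorem F189593 : act 3 n41237 = n40164 := d27_1 D41237 (iv D40164) (iv F185087)
theorem F189594 : act 8 n41237 = n40162 := d42_2 (iv F185088) D41237 (iv D40162)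
def n41238 : Q := act 9 n40158
theorem D41238 : act 9 n40158 = n41238 := rfl
theorem F189595 : act 3 n41238 = n40165 := d29_1 D41238 (iv D40165) (iv F185087)
theorem F189596 : act 6 n41238 = n40159 := d41_1 D41238 (iv D40159) D40158
def n41239 : Q := act 8 n40159
theorem D41239 : act 8 n40159 = n41239 := rfl
theorem F189597 : act 3 n41239 = n40166 := d28_1 D41239 (iv D40166) (iv F185089)
theorem F189598 : act 9 n41239 = n40163 := d44_2 D40159 D41239 (iv D40163) (iv D39021) (iv F180198)
def n41240 : Q := act 7 n40160
theorem D41240 : act 7 n40160 = n41240 := rfl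
theorem F189599 : act 4 n41240 = n40162 := d32_1 D41240 (iv D40162) (iv F185091)
theorem F189600 : act 5 n41240 = n41240 := d36_1 D41240 (iv D41240) F185092
def n41241 : Q := act 8 n40161
theorem D41241 : act 8 n40161 = n41241 := rfl
theorem F189601 : act 4 n41241 = n40163 := d33_1 D41241 (iv D40163) (iv F185093)
def n41242 : Q := act 9 n40164
theorem D41242 : act 9 n40164 = n41242 := rfl
theorem F189602 : act 2 n41242 = n40167 := d23_1 D41242 (iv D40167) (iv F185098)
theorem F189603 : act 7 n41242 = n40165 := d43_1 D41242 (iv D40165) D40164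
def n41243 : Q := act 7 n40168
theorem D41243 : act 7 n40168 = n41243 := rfl
theorem F189604 : act 5 n41243 = n40169 := d36_1 D41243 (iv D40169) (iv F185105)
def n41244 : Q := act 9 n40169
theorem D41244 : act 9 n40169 = n41244 := rfl
theorem F189605 : act 2 n41244 = n40176 := d23_1 D41244 (iv F189375) F189371
theorem F189606 : act 4 n41244 = n41244 := d34_1 D41244 (iv D41244) F185106
theorem F189607 : act 6 n41244 = n41244 := d41_1 D41244 (iv D41244) F185107
theorem F189608 : act 7 n41244 = n40170 := d43_1 D41244 (iv D40170) D40169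
def n41245 : Q := act 8 n40170
theorem D41245 : act 8 n40170 = n41245 := rfl
theorem F189609 : act 2 n41245 = n40174 := d22_1 D41245 F185122 (iv F185108)
theorem F189610 : act 4 n41245 = n41245 := d33_1 D41245 (iv D41245) F185109
theorem F189611 : act 6 n41245 = n40171 := d40_1 D41245 (iv D40171) (iv F185110)
def n41246 : Q := act 7 n40172
theorem D41246 : act 7 n40172 = n41246 := rfl
theorem F189612 : act 1 n41246 = n40176 := d14_1 D41246 (iv D40176) (iv F185114)
theorem F189613 : act 3 n41246 = n40173 := d27_1 D41246 (iv D40173) (iv F185115)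
theorem F189614 : act 4 n41246 = n41246 := d32_1 D41246 (iv D41246) F185116
theorem F189615 : act 6 n41246 = n41246 := d39_1 D41246 (iv D41246) (iv D40172) F180231 D40172
def n41247 : Q := act 5 n40174
theorem D41247 : act 5 n40174 = n41247 := rfl
theorem F189616 : act 3 n41247 = n40175 := d25_1 D41247 (iv D40175) (iv F185120)
def n41248 : Q := act 1 n40178
theorem D41248 : act 1 n40178 = n41248 := rfl
theorem F189617 : act 2 n41248 = n40183 := d9_2 D40178 D41248 (iv F186169) F186170 F182360
theorem F189618 : act 3 n41248 = n40180 := d10_2 (iv F185129) D41248 F185136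
theorem F189619 : act 4 n41248 = n41248 := d11_2 F185130 D41248 (iv D41248)
theorem F189620 : act 5 n41248 = n40186 := d12_2 F186181 D41248 (iv F186177)
theorem F189621 : act 7 n41248 = n41248 := d14_2 F185131 D41248 (iv D41248)
theorem F189622 : act 8 n41248 = n40179 := d15_2 F186165 D41248 F186166
theorem F189623 : act 9 n40181 = n41248 := d44_0 F189622 (iv D40179) (iv F181326) D40354 (iv F186175)
def n41249 : Q := act 9 n40178
theorem D41249 : act 9 n40178 = n41249 := rfl
theorem F189624 : act 1 n41249 = n40181 := d16_1 D41249 F189623 (iv D41248)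
theorem F189625 : act 2 n41249 = n40179 := d23_1 D41249 (iv D40179) D40178
theorem F189626 : act 3 n41249 = n40186 := d29_1 D41249 F185156 (iv F185129)
theorem F189627 : act 4 n41249 = n41249 := d34_1 D41249 (iv D41249) F185130
theorem F189628 : act 5 n41249 = n40180 := d38_1 D41249 (iv F186183) F186181
theorem F189629 : act 7 n41249 = n41249 := d43_1 D41249 (iv D41249) F185131
theorem F189630 : act 8 n41249 = n40183 := d44_1 D41249 (iv D40183) (iv F182364) F186167 F186165
def n41250 : Q := act 6 n40181
theorem D41250 : act 6 n40181 = n41250 := rfl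
theorem F189631 : act 2 n41250 = n40182 := d20_1 D41250 (iv D40182) D40181
theorem F189632 : act 4 n41250 = n41250 := d31_1 D41250 (iv D41250) F185140
def n41251 : Q := act 7 n40182
theorem D41251 : act 7 n40182 = n41251 := rfl
theorem F189633 : act 3 n41251 = n40184 := d27_1 D41251 (iv D40184) (iv F185143)
theorem F189634 : act 4 n41251 = n41251 := d32_1 D41251 (iv D41251) F185144
theorem F189635 : act 6 n41251 = n41251 := d39_1 D41251 (iv D41251) (iv D40182) F180265 D40182
def n41252 : Q := act 9 n40182
theorem D41252 : act 9 n40182 = n41252 := rfl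
theorem F189636 : act 3 n41252 = n40185 := d29_1 D41252 (iv D40185) (iv F185143)
theorem F189637 : act 4 n41252 = n41252 := d34_1 D41252 (iv D41252) F185144
theorem F189638 : act 6 n41252 = n40183 := d41_1 D41252 (iv D40183) D40182
def n41253 : Q := act 9 n40184
theorem D41253 : act 9 n40184 = n41253 := rfl
theorem F189639 : act 4 n41253 = n40187 := d34_1 D41253 (iv D40187) (iv F185149)
theorem F189640 : act 6 n41253 = n41253 := d41_1 D41253 (iv D41253) F185150
theorem F189641 : act 7 n41253 = n40185 := d43_1 D41253 (iv D40185) D40184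
def n41254 : Q := act 8 n40189
theorem D41254 : act 8 n40189 = n41254 := rfl
theorem F189642 : act 0 n41254 = n40821 := d7_1 D41254 (iv D40821) (iv F185162)
theorem F189643 : act 1 n41254 = n40271 := d15_1 D41254 F185685 (iv F185163)
theorem F189644 : act 2 n41254 = n40258 := d22_1 D41254 (iv D40258) (iv F185164)
theorem F189645 : act 3 n41254 = n40213 := d28_1 D41254 F185333 (iv F185165)
theorem F189646 : act 4 n41254 = n40190 := d33_1 D41254 (iv D40190) D40189
theorem F189647 : act 5 n41254 = n41139 := d37_1 D41254 F189390 F184894 (iv F180381) (iv F185166)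
theorem F189648 : act 6 n41254 = n40495 := d40_1 D41254 (iv D40495) (iv F185167)
theorem F189649 : act 7 n41254 = n41134 := d42_1 D41254 (iv D41134) (iv F185168)
def n41255 : Q := act 9 n40190
theorem D41255 : act 9 n40190 = n41255 := rfl
theorem F189650 : act 0 n41255 = n40822 := d8_1 D41255 (iv D40822) (iv F185170)
theorem F189651 : act 1 n41255 = n41209 := d16_1 D41255 (iv D41209) (iv F185171)
theorem F189652 : act 2 n41255 = n40260 := d23_1 D41255 (iv D40260) (iv F185172)
theorem F189653 : act 3 n41255 = n40191 := d29_1 D41255 (iv D40191) (iv F185173)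
theorem F189654 : act 5 n41255 = n41207 := d38_1 D41255 (iv D41207) (iv F185174)
theorem F189655 : act 6 n41255 = n40497 := d41_1 D41255 (iv D40497) (iv F185175)
theorem F189656 : act 7 n41255 = n41135 := d43_1 D41255 (iv D41135) (iv F185176)
theorem F189657 : act 8 n41255 = n41002 := d44_1 D41255 (iv D41002) F184466 (iv F180302) D40190
def n41256 : Q := act 7 n40192
theorem D41256 : act 7 n40192 = n41256 := rfl
theorem F189658 : act 0 n41256 = n40823 := d6_1 D41256 (iv D40823) (iv F185185)
theorem F189659 : act 1 n41256 = n40373 := d14_1 D41256 F186296 (iv F185186)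
theorem F189660 : act 2 n41256 = n40854 := d21_1 D41256 F188528 (iv F185187)
theorem F189661 : act 3 n41256 = n40274 := d27_1 D41256 (iv D40274) (iv F185188)
theorem F189662 : act 4 n41256 = n40402 := d32_1 D41256 F186485 (iv F185189)
theorem F189663 : act 5 n41256 = n40517 := d36_1 D41256 (iv D40517) (iv F185190)
theorem F189664 : act 6 n41256 = n40834 := d39_1 D41256 F188476 F183956 (iv F180315) D40192
theorem F189665 : act 8 n41256 = n40194 := d42_2 (iv F185191) D41256 (iv D40194)
def n41257 : Q := act 9 n40192
theorem D41257 : act 9 n40192 = n41257 := rfl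
theorem F189666 : act 0 n41257 = n40824 := d8_1 D41257 (iv D40824) (iv F185185)
theorem F189667 : act 1 n41257 = n40443 := d16_1 D41257 (iv D40443) (iv F185186)
theorem F189668 : act 2 n41257 = n41156 := d23_1 D41257 (iv D41156) (iv F185187)
theorem F189669 : act 3 n41257 = n40275 := d29_1 D41257 (iv D40275) (iv F185188)
theorem F189670 : act 4 n41257 = n40491 := d34_1 D41257 (iv D40491) (iv F185189)
theorem F189671 : act 5 n41257 = n40518 := d38_1 D41257 (iv D40518) (iv F185190)
theorem F189672 : act 6 n41257 = n40193 := d41_1 D41257 (iv D40193) D40192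
def n41258 : Q := act 8 n40193
theorem D41258 : act 8 n40193 = n41258 := rfl
theorem F189673 : act 0 n41258 = n40825 := d7_1 D41258 (iv D40825) (iv F185192)
theorem F189674 : act 1 n41258 = n41052 := d15_1 D41258 F189159 (iv F185193)
theorem F189675 : act 2 n41258 = n41187 := d22_1 D41258 F189489 (iv F185194)
theorem F189676 : act 3 n41258 = n40276 := d28_1 D41258 (iv D40276) (iv F185195)
theorem F189677 : act 4 n41258 = n41210 := d33_1 D41258 (iv D41210) (iv F185196)
theorem F189678 : act 5 n41258 = n41138 := d37_1 D41258 F189388 F184902 (iv F180323) (iv F185197)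
theorem F189679 : act 7 n41258 = n41136 := d42_1 D41258 (iv D41136) (iv F185198)
theorem F189680 : act 9 n41258 = n40196 := d44_2 D40193 D41258 (iv D40196) (iv D39064) (iv F180316)
def n41259 : Q := act 8 n40195
theorem D41259 : act 8 n40195 = n41259 := rfl
theorem F189681 : act 0 n41259 = n40826 := d7_1 D41259 (iv D40826) (iv F185207)
theorem F189682 : act 1 n41259 = n40438 := d15_1 D41259 (iv D40438) (iv F185208)
theorem F189683 : act 2 n41259 = n41147 := d22_1 D41259 (iv D41147) (iv F185209)
theorem F189684 : act 3 n41259 = n40284 := d28_1 D41259 (iv D40284) (iv F185210)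
theorem F189685 : act 4 n41259 = n40453 := d33_1 D41259 (iv D40453) (iv F185211)
theorem F189686 : act 6 n41259 = n40196 := d40_1 D41259 (iv D40196) (iv F185213)
theorem F189687 : act 7 n41259 = n40962 := d42_1 D41259 (iv D40962) (iv F185214)
def n41260 : Q := act 5 n40197
theorem D41260 : act 5 n40197 = n41260 := rfl
theorem F189688 : act 0 n41260 = n40761 := d4_1 D41260 F188175 (iv F185222)
theorem F189689 : act 1 n41260 = n40200 := d12_1 D41260 (iv D40200) (iv F185223)
theorem F189690 : act 2 n41260 = n40979 := d19_1 D41260 F188910 (iv F185224)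
theorem F189691 : act 3 n41260 = n40199 := d25_1 D41260 (iv D40199) (iv F185225)
theorem F189692 : act 6 n41260 = n40561 := d35_2 (iv F185227) D41260 (iv D40561) (iv D39449) (iv F180357)
theorem F189693 : act 7 n41260 = n40711 := d36_2 (iv F185228) D41260 (iv D40711)
theorem F189694 : act 9 n41260 = n40524 := d38_2 (iv F185229) D41260 (iv D40524)
def n41261 : Q := act 4 n40198
theorem D41261 : act 4 n40198 = n41261 := rfl
theorem F189695 : act 0 n41261 = n40787 := d3_1 D41261 F188270 (iv F185230)
theorem F189696 : act 1 n41261 = n40439 := d11_1 D41261 (iv D40439) (iv F185231)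
theorem F189697 : act 2 n41261 = n41004 := d18_1 D41261 F189013 (iv F185232)
theorem F189698 : act 3 n41261 = n40600 := d24_1 D41261 F187531 F182858 (iv F180370) (iv F185233)
theorem F189699 : act 6 n41261 = n41261 := d31_2 F185234 D41261 (iv D41261)
theorem F189700 : act 7 n41261 = n40782 := d32_2 (iv F185235) D41261 (iv D40782)
theorem F189701 : act 8 n41261 = n40456 := d33_2 (iv F185236) D41261 (iv D40456)
theorem F189702 : act 9 n41261 = n40528 := d34_2 (iv F185237) D41261 (iv D40528)
def n41262 : Q := act 8 n40199
theorem D41262 : act 8 n40199 = n41262 := rfl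
theorem F189703 : act 0 n41262 = n40765 := d7_1 D41262 (iv D40765) (iv F185238)
theorem F189704 : act 1 n41262 = n40201 := d15_1 D41262 (iv D40201) (iv F185239)
theorem F189705 : act 2 n41262 = n40605 := d22_1 D41262 F187552 (iv F185240)
theorem F189706 : act 4 n41262 = n40607 := d33_1 D41262 (iv D40607) (iv F185241)
theorem F189707 : act 5 n41262 = n40284 := d37_1 D41262 (iv D40284) F180836 (iv F180388) D40199
theorem F189708 : act 6 n41262 = n40562 := d40_1 D41262 (iv D40562) (iv F185242)
theorem F189709 : act 7 n41262 = n40712 := d42_1 D41262 (iv D40712) (iv F185243)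
def n41263 : Q := act 4 n40200
theorem D41263 : act 4 n40200 = n41263 := rfl
theorem F189710 : act 0 n41263 = n40208 := d3_1 D41263 (iv D40208) (iv F185245)
theorem F189711 : act 2 n41263 = n40442 := d18_1 D41263 (iv D40442) (iv F185246)
theorem F189712 : act 3 n41263 = n40723 := d24_1 D41263 F188019 F183314 (iv F180399) (iv F185247)
theorem F189713 : act 5 n41263 = n40439 := d30_2 D40200 D41263 (iv D40439) (iv D39314) (iv F180393)
theorem F189714 : act 6 n41263 = n40563 := d31_2 (iv F185248) D41263 (iv D40563)
theorem F189715 : act 7 n41263 = n40713 := d32_2 (iv F185249) D41263 (iv D40713)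
theorem F189716 : act 9 n41263 = n40721 := d34_2 (iv F185250) D41263 F188011
def n41264 : Q := act 8 n40200
theorem D41264 : act 8 n40200 = n41264 := rfl
theorem F189717 : act 0 n41264 = n40209 := d7_1 D41264 (iv D40209) (iv F185245)
theorem F189718 : act 2 n41264 = n40440 := d22_1 D41264 F186696 (iv F185246)
theorem F189719 : act 3 n41264 = n40201 := d28_1 D41264 (iv D40201) (iv F185247)
theorem F189720 : act 5 n41264 = n40438 := d37_1 D41264 (iv D40438) (iv D39313) (iv F180395) D40200
theorem F189721 : act 6 n41264 = n40564 := d40_1 D41264 (iv D40564) (iv F185248)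
theorem F189722 : act 7 n41264 = n40714 := d42_1 D41264 (iv D40714) (iv F185249)
def n41265 : Q := act 5 n40201
theorem D41265 : act 5 n40201 = n41265 := rfl
theorem F189723 : act 0 n41265 = n40210 := d4_1 D41265 (iv D40210) (iv F185251)
theorem F189724 : act 1 n41265 = n40284 := d12_1 D41265 (iv F189707) F189704
theorem F189725 : act 2 n41265 = n40203 := d19_1 D41265 (iv D40203) (iv F185252)
theorem F189726 : act 3 n41265 = n40438 := d25_1 D41265 (iv F189720) F189719
theorem F189727 : act 4 n41265 = n40945 := d30_1 D41265 (iv D40945) F184194 (iv F183357) (iv F185253)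
theorem F189728 : act 6 n41265 = n40219 := d35_2 (iv F185254) D41265 F185366 F187348 (iv D40565)
theorem F189729 : act 7 n41265 = n40715 := d36_2 (iv F185255) D41265 (iv D40715)
theorem F189730 : act 8 n41265 = n40202 := d37_2 D40201 D41265 (iv D40202) (iv D39074) D39073
def n41266 : Q := act 9 n40201
theorem D41266 : act 9 n40201 = n41266 := rfl
theorem F189731 : act 0 n41266 = n40211 := d8_1 D41266 (iv D40211) (iv F185251)
theorem F189732 : act 2 n41266 = n40204 := d23_1 D41266 (iv D40204) (iv F185252)
theorem F189733 : act 4 n41266 = n40730 := d34_1 D41266 F188050 (iv F185253)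
theorem F189734 : act 6 n41266 = n40566 := d41_1 D41266 (iv D40566) (iv F185254)
theorem F189735 : act 7 n41266 = n40716 := d43_1 D41266 (iv D40716) (iv F185255)
theorem F189736 : act 8 n41266 = n40728 := d44_1 D41266 (iv D40728) F183343 (iv F180402) D40201
def n41267 : Q := act 4 n40203
theorem D41267 : act 4 n40203 = n41267 := rfl
theorem F189737 : act 0 n41267 = n40213 := d3_1 D41267 (iv D40213) (iv F185264)
theorem F189738 : act 1 n41267 = n40830 := d11_1 D41267 (iv D40830) (iv F185265)
theorem F189739 : act 2 n41267 = n40945 := d18_1 D41267 (iv F189727) F189725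
theorem F189740 : act 3 n41267 = n40821 := d24_1 D41267 F188426 F183864 F183110 (iv F185266)
theorem F189741 : act 5 n41267 = n40927 := d30_2 D40203 D41267 F188738 F184165 (iv F180414)
theorem F189742 : act 6 n41267 = n41060 := d31_2 (iv F185267) D41267 F189188
theorem F189743 : act 7 n41267 = n40718 := d32_2 (iv F185268) D41267 (iv D40718)
theorem F189744 : act 8 n41267 = n40205 := d33_2 (iv F185269) D41267 (iv D40205)
def n41268 : Q := act 9 n40203
theorem D41268 : act 9 n40203 = n41268 := rfl
theorem F189745 : act 0 n41268 = n40215 := d8_1 D41268 (iv D40215) (iv F185264)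
theorem F189746 : act 1 n41268 = n40831 := d16_1 D41268 (iv D40831) (iv F185265)
theorem F189747 : act 3 n41268 = n40671 := d29_1 D41268 (iv D40671) (iv F185266)
theorem F189748 : act 5 n41268 = n40204 := d38_1 D41268 (iv D40204) D40203
theorem F189749 : act 6 n41268 = n41061 := d41_1 D41268 (iv D41061) (iv F185267)
theorem F189750 : act 7 n41268 = n40720 := d43_1 D41268 (iv D40720) (iv F185268)
def n41269 : Q := act 9 n40205
theorem D41269 : act 9 n40205 = n41269 := rfl
theorem F189751 : act 0 n41269 = n40217 := d8_1 D41269 (iv D40217) (iv F185277)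
theorem F189752 : act 1 n41269 = n40832 := d16_1 D41269 (iv D40832) (iv F185278)
theorem F189753 : act 2 n41269 = n40216 := d23_1 D41269 (iv F185348) (iv F185279)
theorem F189754 : act 3 n41269 = n40713 := d29_1 D41269 F187983 (iv F185280)
theorem F189755 : act 4 n41269 = n40206 := d34_1 D41269 (iv D40206) D40205
theorem F189756 : act 5 n41269 = n40207 := d38_1 D41269 (iv D40207) (iv F185281)
theorem F189757 : act 6 n41269 = n40212 := d41_1 D41269 F185329 (iv F185282)
theorem F189758 : act 7 n41269 = n40723 := d43_1 D41269 (iv D40723) (iv F185283)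
def n41270 : Q := act 8 n40206
theorem D41270 : act 8 n40206 = n41270 := rfl
theorem F189759 : act 0 n41270 = n40219 := d7_1 D41270 (iv D40219) (iv F185284)
theorem F189760 : act 1 n41270 = n40833 := d15_1 D41270 (iv D40833) (iv F185285)
theorem F189761 : act 2 n41270 = n40214 := d22_1 D41270 F185338 (iv F185286)
theorem F189762 : act 3 n41270 = n40433 := d28_1 D41270 (iv D40433) (iv F185287)
theorem F189763 : act 5 n41270 = n40637 := d37_1 D41270 F187671 F182979 (iv F180429) (iv F185288)
theorem F189764 : act 6 n41270 = n40210 := d40_1 D41270 F185316 (iv F185289)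
theorem F189765 : act 7 n41270 = n40724 := d42_1 D41270 (iv D40724) (iv F185290)
def n41271 : Q := act 8 n40208
theorem D41271 : act 8 n40208 = n41271 := rfl
theorem F189766 : act 1 n41271 = n41241 := d15_1 D41271 (iv D41241) (iv F185299)
theorem F189767 : act 2 n41271 = n40966 := d22_1 D41271 F188849 (iv F185300)
theorem F189768 : act 3 n41271 = n41137 := d28_1 D41271 (iv D41137) (iv F185301)
theorem F189769 : act 4 n41271 = n40209 := d33_1 D41271 (iv D40209) D40208
theorem F189770 : act 5 n41271 = n41079 := d37_1 D41271 F189240 F184708 (iv F184313) (iv F185302)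
theorem F189771 : act 6 n41271 = n40633 := d40_1 D41271 (iv D40633) (iv F185303)
theorem F189772 : act 7 n41271 = n41001 := d42_1 D41271 F189004 (iv F185304)
def n41272 : Q := act 9 n40209
theorem D41272 : act 9 n40209 = n41272 := rfl
theorem F189773 : act 1 n41272 = n41239 := d16_1 D41272 F189598 (iv F185306)
theorem F189774 : act 2 n41272 = n40967 := d23_1 D41272 (iv D40967) (iv F185307)
theorem F189775 : act 3 n41272 = n40211 := d29_1 D41272 (iv D40211) (iv F185308)
theorem F189776 : act 5 n41272 = n40965 := d38_1 D41272 (iv D40965) (iv F185309)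
theorem F189777 : act 6 n41272 = n40635 := d41_1 D41272 (iv D40635) (iv F185310)
theorem F189778 : act 7 n41272 = n41002 := d43_1 D41272 (iv D41002) (iv F185311)
theorem F189779 : act 8 n41272 = n41135 := d44_1 D41272 (iv D41135) (iv D40053) (iv F180458) D40209
def n41273 : Q := act 4 n40210
theorem D41273 : act 4 n40210 = n41273 := rfl
theorem F189780 : act 0 n41273 = n40945 := d3_1 D41273 (iv F189727) F189723
theorem F189781 : act 1 n41273 = n41218 := d11_1 D41273 F189562 (iv F185312)
theorem F189782 : act 2 n41273 = n40213 := d18_1 D41273 (iv D40213) (iv F185313)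
theorem F189783 : act 3 n41273 = n41077 := d24_1 D41273 F189235 F184702 (iv F184306) (iv F185314)
theorem F189784 : act 5 n41273 = n40282 := d30_2 D40210 D41273 F185731 F180840 (iv F180461)
theorem F189785 : act 7 n41273 = n40999 := d32_2 (iv F185315) D41273 F188999
theorem F189786 : act 8 n41273 = n40212 := d33_2 (iv F185316) D41273 (iv D40212)
def n41274 : Q := act 9 n40210
theorem D41274 : act 9 n40210 = n41274 := rfl
theorem F189787 : act 1 n41274 = n41217 := d16_1 D41274 F189560 (iv F185312)
theorem F189788 : act 2 n41274 = n40215 := d23_1 D41274 (iv D40215) (iv F185313)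
theorem F189789 : act 3 n41274 = n40965 := d29_1 D41274 (iv D40965) (iv F185314)
theorem F189790 : act 5 n41274 = n40211 := d38_1 D41274 (iv D40211) D40210
theorem F189791 : act 7 n41274 = n41000 := d43_1 D41274 (iv D41000) (iv F185315)
theorem F189792 : act 8 n41274 = n41061 := d44_1 D41274 (iv D41061) (iv D39970) (iv F180468) (iv F185316)
def n41275 : Q := act 6 n40213
theorem D41275 : act 6 n40213 = n41275 := rfl
theorem F189793 : act 0 n41275 = n41060 := d5_1 D41275 (iv F189742) F189737
theorem F189794 : act 1 n41275 = n40272 := d13_1 D41275 (iv D40272) (iv F185330)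
theorem F189795 : act 3 n41275 = n40495 := d26_1 D41275 (iv F189648) F189645
theorem F189796 : act 4 n41275 = n40214 := d31_1 D41275 (iv D40214) D40213
theorem F189797 : act 8 n41275 = n40216 := d40_2 (iv F185333) D41275 (iv D40216)
theorem F189798 : act 5 n40750 = n41275 := d37_5 F189797 F185347 F180518 (iv F183429) D40750
def n41276 : Q := act 9 n40213
theorem D41276 : act 9 n40213 = n41276 := rfl
theorem F189799 : act 1 n41276 = n40273 := d16_1 D41276 (iv D40273) (iv F185330)
theorem F189800 : act 4 n41276 = n40215 := d34_1 D41276 (iv D40215) D40213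
theorem F189801 : act 5 n41276 = n41141 := d38_1 D41276 (iv D41141) (iv F185331)
theorem F189802 : act 7 n41276 = n41146 := d43_1 D41276 (iv D41146) (iv F185332)
def n41277 : Q := act 7 n40214
theorem D41277 : act 7 n40214 = n41277 := rfl
theorem F189803 : act 0 n41277 = n40983 := d6_1 D41277 F188933 (iv F185334)
theorem F189804 : act 1 n41277 = n40274 := d14_1 D41277 (iv D40274) (iv F185335)
theorem F189805 : act 2 n41277 = n40724 := d21_1 D41277 (iv F189765) F189761
theorem F189806 : act 3 n41277 = n40373 := d27_1 D41277 F186296 (iv F185336)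
theorem F189807 : act 5 n41277 = n40641 := d36_1 D41277 (iv D40641) (iv F185337)
theorem F189808 : act 6 n41277 = n40836 := d39_1 D41277 F188480 F183960 (iv F180479) D40214
theorem F189809 : act 8 n41277 = n40218 := d42_2 (iv F185338) D41277 (iv D40218)
def n41278 : Q := act 9 n40214
theorem D41278 : act 9 n40214 = n41278 := rfl
theorem F189810 : act 0 n41278 = n41061 := d8_1 D41278 (iv D41061) (iv F185334)
theorem F189811 : act 1 n41278 = n40275 := d16_1 D41278 (iv D40275) (iv F185335)
theorem F189812 : act 3 n41278 = n40443 := d29_1 D41278 (iv D40443) (iv F185336)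
theorem F189813 : act 5 n41278 = n40642 := d38_1 D41278 (iv D40642) (iv F185337)
theorem F189814 : act 6 n41278 = n40215 := d41_1 D41278 (iv D40215) D40214
def n41279 : Q := act 8 n40215
theorem D41279 : act 8 n40215 = n41279 := rfl
theorem F189815 : act 1 n41279 = n40276 := d15_1 D41279 (iv D40276) (iv F185339)
theorem F189816 : act 2 n41279 = n41061 := d22_1 D41279 (iv F189792) F189788
theorem F189817 : act 3 n41279 = n41052 := d28_1 D41279 F189159 (iv F185340)
theorem F189818 : act 5 n41279 = n41136 := d37_1 D41279 (iv D41136) F184878 (iv F180486) (iv F185341)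
theorem F189819 : act 7 n41279 = n41138 := d42_1 D41279 F189388 (iv F185342)
theorem F189820 : act 9 n41279 = n40219 := d44_2 D40215 D41279 (iv D40219) (iv D39089) (iv F180480)
def n41280 : Q := act 7 n40216
theorem D41280 : act 7 n40216 = n41280 := rfl
theorem F189821 : act 0 n41280 = n40982 := d6_1 D41280 F188927 (iv F185343)
theorem F189822 : act 1 n41280 = n40280 := d14_1 D41280 (iv D40280) (iv F185344)
theorem F189823 : act 2 n41280 = n40723 := d21_1 D41280 (iv F189758) F189753
theorem F189824 : act 3 n41280 = n40408 := d27_1 D41280 F186522 (iv F185345)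
theorem F189825 : act 4 n41280 = n40218 := d32_1 D41280 (iv D40218) (iv F185346)
theorem F189826 : act 5 n41280 = n40220 := d36_1 D41280 (iv D40220) (iv F185347)
theorem F189827 : act 6 n41280 = n40835 := d39_1 D41280 F188478 F183958 (iv F180489) D40216
theorem F189828 : act 9 n41280 = n40717 := d43_2 F185348 D41280 F188000
def n41281 : Q := act 8 n40217
theorem D41281 : act 8 n40217 = n41281 := rfl
theorem F189829 : act 1 n41281 = n40282 := d15_1 D41281 (iv D40282) (iv F185349)
theorem F189830 : act 2 n41281 = n41060 := d22_1 D41281 (iv D41060) (iv F185350)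
theorem F189831 : act 3 n41281 = n41001 := d28_1 D41281 F189004 (iv F185351)
theorem F189832 : act 4 n41281 = n40219 := d33_1 D41281 (iv D40219) (iv F185352)
theorem F189833 : act 5 n41281 = n41218 := d37_1 D41281 (iv D41218) F185058 (iv F180513) (iv F185353)
theorem F189834 : act 6 n41281 = n40945 := d40_1 D41281 F188775 (iv F185354)
theorem F189835 : act 7 n41281 = n41137 := d42_1 D41281 (iv D41137) (iv F185355)
def n41282 : Q := act 4 n40221
theorem D41282 : act 4 n40221 = n41282 := rfl
theorem F189836 : act 0 n41282 = n40855 := d3_1 D41282 (iv D40855) (iv F185376)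
theorem F189837 : act 1 n41282 = n41048 := d11_1 D41282 F189148 (iv F185377)
theorem F189838 : act 2 n41282 = n40608 := d18_1 D41282 (iv D40608) (iv F185378)
theorem F189839 : act 3 n41282 = n41148 := d24_1 D41282 (iv D41148) F184907 (iv F180546) (iv F185379)
theorem F189840 : act 5 n41282 = n41282 := d30_2 D40221 D41282 (iv D41282) (iv D40221) F180532
theorem F189841 : act 6 n41282 = n40241 := d31_2 (iv F185380) D41282 (iv D40241)
theorem F189842 : act 7 n41282 = n40648 := d32_2 (iv F185381) D41282 (iv D40648)
theorem F189843 : act 9 n41282 = n40333 := d34_2 (iv F185382) D41282 (iv D40333)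
def n41283 : Q := act 8 n40221
theorem D41283 : act 8 n40221 = n41283 := rfl
theorem F189844 : act 0 n41283 = n40856 := d7_1 D41283 (iv D40856) (iv F185376)
theorem F189845 : act 1 n41283 = n41050 := d15_1 D41283 (iv D41050) (iv F185377)
theorem F189846 : act 2 n41283 = n40609 := d22_1 D41283 (iv D40609) (iv F185378)
theorem F189847 : act 3 n41283 = n40223 := d28_1 D41283 (iv D40223) (iv F185379)
theorem F189848 : act 6 n41283 = n40242 := d40_1 D41283 (iv D40242) (iv F185380)
theorem F189849 : act 7 n41283 = n40649 := d42_1 D41283 (iv D40649) (iv F185381)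
def n41284 : Q := act 5 n40222
theorem D41284 : act 5 n40222 = n41284 := rfl
theorem F189850 : act 0 n41284 = n40857 := d4_1 D41284 (iv D40857) (iv F185383)
theorem F189851 : act 1 n41284 = n41051 := d12_1 D41284 (iv D41051) (iv F185384)
theorem F189852 : act 2 n41284 = n40610 := d19_1 D41284 (iv D40610) (iv F185385)
theorem F189853 : act 3 n41284 = n40224 := d25_1 D41284 (iv D40224) (iv F185386)
theorem F189854 : act 6 n41284 = n40862 := d35_2 (iv F185388) D41284 F188549 F184002 (iv F180540)
theorem F189855 : act 7 n41284 = n40650 := d36_2 (iv F185389) D41284 (iv D40650)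
theorem F189856 : act 9 n41284 = n40861 := d38_2 (iv F185390) D41284 F188547
def n41285 : Q := act 5 n40223
theorem D41285 : act 5 n40223 = n41285 := rfl
theorem F189857 : act 0 n41285 = n40858 := d4_1 D41285 (iv D40858) (iv F185391)
theorem F189858 : act 1 n41285 = n41213 := d12_1 D41285 (iv D41213) (iv F185392)
theorem F189859 : act 2 n41285 = n40229 := d19_1 D41285 (iv D40229) (iv F185393)
theorem F189860 : act 7 n41285 = n40651 := d36_2 (iv F185396) D41285 (iv D40651)
theorem F189861 : act 8 n41285 = n40224 := d37_2 D40223 D41285 (iv D40224) (iv D39097) D39096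
def n41286 : Q := act 9 n40223
theorem D41286 : act 9 n40223 = n41286 := rfl
theorem F189862 : act 0 n41286 = n40859 := d8_1 D41286 (iv D40859) (iv F185391)
theorem F189863 : act 1 n41286 = n41212 := d16_1 D41286 F189551 (iv F185392)
theorem F189864 : act 2 n41286 = n40230 := d23_1 D41286 (iv D40230) (iv F185393)
theorem F189865 : act 4 n41286 = n41150 := d34_1 D41286 (iv D41150) (iv F185394)
theorem F189866 : act 6 n41286 = n40244 := d41_1 D41286 (iv D40244) (iv F185395)
theorem F189867 : act 7 n41286 = n40652 := d43_1 D41286 (iv D40652) (iv F185396)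
theorem F189868 : act 8 n41286 = n40337 := d44_1 D41286 (iv D40337) (iv D39208) (iv F180549) D40223
def n41287 : Q := act 4 n40224
theorem D41287 : act 4 n40224 = n41287 := rfl
theorem F189869 : act 0 n41287 = n40860 := d3_1 D41287 (iv D40860) (iv F185397)
theorem F189870 : act 1 n41287 = n41214 := d11_1 D41287 (iv D41214) (iv F185398)
theorem F189871 : act 2 n41287 = n40231 := d18_1 D41287 (iv D40231) (iv F185399)
theorem F189872 : act 5 n41287 = n40227 := d30_2 D40224 D41287 (iv D40227) (iv D39100) (iv F180553)
theorem F189873 : act 7 n41287 = n40653 := d32_2 (iv F185400) D41287 (iv D40653)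
def n41288 : Q := act 6 n40224
theorem D41288 : act 6 n40224 = n41288 := rfl
theorem F189874 : act 0 n41288 = n40861 := d5_1 D41288 (iv D40861) (iv F185397)
theorem F189875 : act 1 n41288 = n41206 := d13_1 D41288 F189535 (iv F185398)
theorem F189876 : act 2 n41288 = n40232 := d20_1 D41288 (iv D40232) (iv F185399)
theorem F189877 : act 3 n41288 = n40862 := d26_1 D41288 (iv F189854) F189853
theorem F189878 : act 5 n41288 = n40226 := d35_1 D41288 (iv D40226) (iv D39098) (iv F180554) D40224
theorem F189879 : act 7 n41161 = n41288 := d36_0 F189878 F185414 (iv F189438)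
theorem F189880 : act 9 n40857 = n41288 := d38_0 F189878 F185416 D40857
def n41289 : Q := act 9 n40224
theorem D41289 : act 9 n40224 = n41289 := rfl
theorem F189881 : act 0 n41289 = n40862 := d8_1 D41289 (iv D40862) (iv F185397)
theorem F189882 : act 1 n41289 = n41184 := d16_1 D41289 F189481 (iv F185398)
theorem F189883 : act 2 n41289 = n40233 := d23_1 D41289 (iv D40233) (iv F185399)
theorem F189884 : act 3 n41289 = n40861 := d29_1 D41289 (iv F189856) F189853
theorem F189885 : act 5 n41289 = n40225 := d38_1 D41289 (iv D40225) D40224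
theorem F189886 : act 6 n41289 = n40857 := d41_1 D41289 F189880 (iv D41288)
theorem F189887 : act 7 n41289 = n40654 := d43_1 D41289 (iv D40654) (iv F185400)
def n41290 : Q := act 3 n40227
theorem D41290 : act 3 n40227 = n41290 := rfl
theorem F189888 : act 0 n41290 = n40863 := d2_1 D41290 (iv D40863) (iv F185417)
theorem F189889 : act 1 n41290 = n40961 := d10_1 D41290 F188828 (iv F185418)
theorem F189890 : act 4 n41290 = n41290 := d24_2 D40227 D41290 (iv D41290) (iv D40227) F180575
theorem F189891 : act 6 n41290 = n41290 := d26_2 F185420 D41290 (iv D41290)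
theorem F189892 : act 7 n41290 = n40655 := d27_2 (iv F185421) D41290 (iv D40655)
theorem F189893 : act 8 n41290 = n41129 := d28_2 (iv F185422) D41290 F189360
def n41291 : Q := act 9 n40227
theorem D41291 : act 9 n40227 = n41291 := rfl
theorem F189894 : act 0 n41291 = n40864 := d8_1 D41291 (iv D40864) (iv F185417)
theorem F189895 : act 1 n41291 = n40950 := d16_1 D41291 F188793 (iv F185418)
theorem F189896 : act 2 n41291 = n40237 := d23_1 D41291 (iv D40237) (iv F185419)
theorem F189897 : act 4 n41291 = n40228 := d34_1 D41291 (iv D40228) D40227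
theorem F189898 : act 6 n41291 = n41291 := d41_1 D41291 (iv D41291) F185420
theorem F189899 : act 7 n41291 = n40656 := d43_1 D41291 (iv D40656) (iv F185421)
def n41292 : Q := act 8 n40228
theorem D41292 : act 8 n40228 = n41292 := rfl
theorem F189900 : act 0 n41292 = n40865 := d7_1 D41292 (iv D40865) (iv F185423)
theorem F189901 : act 1 n41292 = n40951 := d15_1 D41292 F188798 (iv F185424)
theorem F189902 : act 2 n41292 = n40238 := d22_1 D41292 (iv D40238) (iv F185425)
theorem F189903 : act 3 n41292 = n41292 := d28_1 D41292 (iv D41292) F185426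
theorem F189904 : act 5 n41292 = n40342 := d37_1 D41292 (iv D40342) F181268 (iv F180585) (iv F185427)
theorem F189905 : act 6 n41292 = n41292 := d40_1 D41292 (iv D41292) F185428
theorem F189906 : act 7 n41292 = n40657 := d42_1 D41292 (iv D40657) (iv F185429)
theorem F189907 : act 9 n41292 = n40953 := d44_2 D40228 D41292 (iv D40953) F184255 (iv F180578)
def n41293 : Q := act 4 n40229
theorem D41293 : act 4 n40229 = n41293 := rfl
theorem F189908 : act 0 n41293 = n40866 := d3_1 D41293 (iv D40866) (iv F185430)
theorem F189909 : act 1 n41293 = n40469 := d11_1 D41293 (iv D40469) (iv F185431)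
theorem F189910 : act 5 n41293 = n41151 := d30_2 D40229 D41293 (iv D41151) (iv D40071) (iv F180589)
theorem F189911 : act 7 n41293 = n40658 := d32_2 (iv F185433) D41293 (iv D40658)
theorem F189912 : act 8 n41293 = n40231 := d33_2 (iv F185434) D41293 (iv D40231)
def n41294 : Q := act 6 n40229
theorem D41294 : act 6 n40229 = n41294 := rfl
theorem F189913 : act 0 n41294 = n40867 := d5_1 D41294 (iv D40867) (iv F185430)
theorem F189914 : act 1 n41294 = n40470 := d13_1 D41294 (iv D40470) (iv F185431)
theorem F189915 : act 3 n41294 = n40616 := d26_1 D41294 (iv D40616) (iv F185432)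
theorem F189916 : act 5 n41294 = n40250 := d35_1 D41294 (iv D40250) (iv D39119) (iv F180590) D40229
theorem F189917 : act 8 n41294 = n40232 := d40_2 (iv F185434) D41294 (iv D40232)
def n41295 : Q := act 9 n40229
theorem D41295 : act 9 n40229 = n41295 := rfl
theorem F189918 : act 0 n41295 = n40868 := d8_1 D41295 (iv D40868) (iv F185430)
theorem F189919 : act 1 n41295 = n40471 := d16_1 D41295 (iv D40471) (iv F185431)
theorem F189920 : act 3 n41295 = n40617 := d29_1 D41295 (iv D40617) (iv F185432)
theorem F189921 : act 5 n41295 = n40230 := d38_1 D41295 (iv D40230) D40229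
theorem F189922 : act 7 n41295 = n40660 := d43_1 D41295 (iv D40660) (iv F185433)
def n41296 : Q := act 3 n40231
theorem D41296 : act 3 n40231 = n41296 := rfl
theorem F189923 : act 0 n41296 = n40869 := d2_1 D41296 (iv D40869) (iv F185442)
theorem F189924 : act 1 n41296 = n40472 := d10_1 D41296 (iv D40472) (iv F185443)
theorem F189925 : act 4 n41296 = n40618 := d24_2 D40231 D41296 (iv D40618) (iv D39503) (iv F180594)
theorem F189926 : act 5 n41296 = n40236 := d25_2 (iv F185444) D41296 (iv D40236)
theorem F189927 : act 7 n41296 = n40661 := d27_2 (iv F185445) D41296 (iv D40661)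
def n41297 : Q := act 6 n40231
theorem D41297 : act 6 n40231 = n41297 := rfl
theorem F189928 : act 0 n41297 = n40870 := d5_1 D41297 (iv D40870) (iv F185442)
theorem F189929 : act 1 n41297 = n40473 := d13_1 D41297 (iv D40473) (iv F185443)
theorem F189930 : act 4 n41297 = n40232 := d31_1 D41297 (iv D40232) D40231
theorem F189931 : act 5 n41297 = n41297 := d35_1 D41297 (iv D41297) F185444 F180626 (iv F185444)
def n41298 : Q := act 9 n40231
theorem D41298 : act 9 n40231 = n41298 := rfl
theorem F189932 : act 0 n41298 = n40871 := d8_1 D41298 (iv D40871) (iv F185442)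
theorem F189933 : act 1 n41298 = n40474 := d16_1 D41298 (iv D40474) (iv F185443)
theorem F189934 : act 4 n41298 = n40233 := d34_1 D41298 (iv D40233) D40231
theorem F189935 : act 5 n41298 = n40237 := d38_1 D41298 (iv D40237) (iv F185444)
theorem F189936 : act 7 n41298 = n40663 := d43_1 D41298 (iv D40663) (iv F185445)
def n41299 : Q := act 7 n40232
theorem D41299 : act 7 n40232 = n41299 := rfl
theorem F189937 : act 0 n41299 = n40872 := d6_1 D41299 (iv D40872) (iv F185446)
theorem F189938 : act 1 n41299 = n40475 := d14_1 D41299 (iv D40475) (iv F185447)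
theorem F189939 : act 2 n41299 = n41161 := d21_1 D41299 F189879 F189876
theorem F189940 : act 3 n41299 = n40620 := d27_1 D41299 (iv D40620) (iv F185448)
theorem F189941 : act 5 n41299 = n40234 := d36_1 D41299 (iv D40234) (iv F185449)
theorem F189942 : act 6 n41299 = n40664 := d39_1 D41299 (iv D40664) (iv D39544) (iv F180595) D40232
theorem F189943 : act 9 n41009 = n41299 := d38_0 F189941 (iv F185462) D41009
def n41300 : Q := act 9 n40232
theorem D41300 : act 9 n40232 = n41300 := rfl
theorem F189944 : act 0 n41300 = n40610 := d8_1 D41300 F187568 (iv F185446)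
theorem F189945 : act 1 n41300 = n40476 := d16_1 D41300 (iv D40476) (iv F185447)
theorem F189946 : act 2 n41300 = n40857 := d23_1 D41300 F189880 F189876
theorem F189947 : act 3 n41300 = n40554 := d29_1 D41300 F187292 (iv F185448)
theorem F189948 : act 5 n41300 = n40235 := d38_1 D41300 (iv D40235) (iv F185449)
theorem F189949 : act 6 n41300 = n40233 := d41_1 D41300 (iv D40233) D40232
theorem F189950 : act 7 n41300 = n41009 := d43_1 D41300 F189943 (iv D41299)
def n41301 : Q := act 8 n40233
theorem D41301 : act 8 n40233 = n41301 := rfl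
theorem F189951 : act 0 n41301 = n40873 := d7_1 D41301 (iv D40873) (iv F185450)
theorem F189952 : act 1 n41301 = n40477 := d15_1 D41301 (iv D40477) (iv F185451)
theorem F189953 : act 3 n41301 = n40621 := d28_1 D41301 (iv D40621) (iv F185452)
theorem F189954 : act 5 n41301 = n40350 := d37_1 D41301 (iv D40350) F181288 (iv F180602) (iv F185453)
theorem F189955 : act 7 n41301 = n40666 := d42_1 D41301 (iv D40666) (iv F185454)
def n41302 : Q := act 2 n40236
theorem D41302 : act 2 n40236 = n41302 := rfl
theorem F189956 : act 0 n41302 = n40874 := d1_1 D41302 (iv D40874) (iv F185471)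
theorem F189957 : act 4 n41302 = n40239 := d18_2 (iv F185473) D41302 (iv D40239)
theorem F189958 : act 6 n41302 = n41302 := d20_2 F185474 D41302 (iv D41302)
theorem F189959 : act 7 n41302 = n40667 := d21_2 (iv F185475) D41302 (iv D40667)
theorem F189960 : act 8 n41302 = n40781 := d22_2 (iv F185476) D41302 F188236
def n41303 : Q := act 9 n40236
theorem D41303 : act 9 n40236 = n41303 := rfl
theorem F189961 : act 0 n41303 = n40875 := d8_1 D41303 (iv D40875) (iv F185471)
theorem F189962 : act 1 n41303 = n40481 := d16_1 D41303 (iv D40481) (iv F185472)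
theorem F189963 : act 3 n41303 = n40237 := d29_1 D41303 (iv D40237) D40236
theorem F189964 : act 4 n41303 = n40240 := d34_1 D41303 (iv D40240) (iv F185473)
theorem F189965 : act 6 n41303 = n41303 := d41_1 D41303 (iv D41303) F185474
theorem F189966 : act 7 n41303 = n40668 := d43_1 D41303 (iv D40668) (iv F185475)
theorem F189967 : act 8 n41303 = n40531 := d44_1 D41303 F187139 F184840 (iv F183562) (iv F185476)
def n41304 : Q := act 8 n40237
theorem D41304 : act 8 n40237 = n41304 := rfl
theorem F189968 : act 0 n41304 = n40876 := d7_1 D41304 (iv D40876) (iv F185477)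
theorem F189969 : act 1 n41304 = n40482 := d15_1 D41304 (iv D40482) (iv F185478)
theorem F189970 : act 3 n41304 = n40531 := d28_1 D41304 (iv F189967) F189963
theorem F189971 : act 4 n41304 = n40238 := d33_1 D41304 (iv D40238) (iv F185479)
theorem F189972 : act 6 n41304 = n41304 := d40_1 D41304 (iv D41304) F185480
theorem F189973 : act 7 n41304 = n40669 := d42_1 D41304 (iv D40669) (iv F185481)
theorem F189974 : act 9 n41304 = n40954 := d44_2 D40237 D41304 (iv D40954) F184260 (iv F180628)
def n41305 : Q := act 1 n40239
theorem D41305 : act 1 n40239 = n41305 := rfl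
theorem F189975 : act 0 n41305 = n40951 := d0_1 D41305 (iv F189901) F189900 F188558 (iv F185489)
theorem F189976 : act 2 n41305 = n40300 := d9_2 D40239 D41305 F185835 (iv D39357) (iv F180636)
theorem F189977 : act 3 n41305 = n41305 := d10_2 F185490 D41305 (iv D41305)
theorem F189978 : act 5 n41305 = n40623 := d12_2 (iv F185491) D41305 (iv D40623)
theorem F189979 : act 6 n41305 = n41305 := d13_2 F185492 D41305 (iv D41305)
theorem F189980 : act 7 n41305 = n40299 := d14_2 (iv F185493) D41305 F185829
theorem F189981 : act 8 n41305 = n40301 := d15_2 (iv F185494) D41305 F185842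
theorem F189982 : act 9 n40372 = n41305 := d44_0 F189981 F185847 F188267 (iv D40786) (iv F186291)
def n41306 : Q := act 9 n40239
theorem D41306 : act 9 n40239 = n41306 := rfl
theorem F189983 : act 0 n41306 = n40877 := d8_1 D41306 (iv D40877) (iv F185489)
theorem F189984 : act 1 n41306 = n40372 := d16_1 D41306 F189982 (iv D41305)
theorem F189985 : act 2 n41306 = n40240 := d23_1 D41306 (iv D40240) D40239
theorem F189986 : act 3 n41306 = n41306 := d29_1 D41306 (iv D41306) F185490
theorem F189987 : act 5 n41306 = n40299 := d38_1 D41306 F185833 (iv F185491)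
theorem F189988 : act 6 n41306 = n41306 := d41_1 D41306 (iv D41306) F185492
theorem F189989 : act 7 n41306 = n40623 := d43_1 D41306 F187619 (iv F185493)
theorem F189990 : act 8 n41306 = n40530 := d44_1 D41306 F187135 F183796 (iv F183549) (iv F185494)
def n41307 : Q := act 8 n40241
theorem D41307 : act 8 n40241 = n41307 := rfl
theorem F189991 : act 0 n41307 = n40886 := d7_1 D41307 (iv D40886) (iv F185502)
theorem F189992 : act 1 n41307 = n41049 := d15_1 D41307 (iv D41049) (iv F185503)
theorem F189993 : act 2 n41307 = n41134 := d22_1 D41307 (iv D41134) (iv F185504)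
theorem F189994 : act 3 n41307 = n41188 := d28_1 D41307 (iv D41188) (iv F185505)
theorem F189995 : act 4 n41307 = n40242 := d33_1 D41307 (iv D40242) D40241
theorem F189996 : act 7 n41307 = n40258 := d42_1 D41307 (iv D40258) (iv F185507)
def n41308 : Q := act 9 n40242
theorem D41308 : act 9 n40242 = n41308 := rfl
theorem F189997 : act 0 n41308 = n40887 := d8_1 D41308 (iv D40887) (iv F185509)
theorem F189998 : act 1 n41308 = n41045 := d16_1 D41308 F189140 (iv F185510)
theorem F189999 : act 2 n41308 = n41135 := d23_1 D41308 (iv D41135) (iv F185511)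
theorem F190000 : act 3 n41308 = n40244 := d29_1 D41308 (iv D40244) (iv F185512)
theorem F190001 : act 5 n41308 = n41069 := d38_1 D41308 F189215 (iv F185513)
theorem F190002 : act 7 n41308 = n40260 := d43_1 D41308 (iv D40260) (iv F185514)
theorem F190003 : act 8 n41308 = n40967 := d44_1 D41308 (iv D40967) F184318 (iv F180662) D40242
def n41309 : Q := act 4 n40243
theorem D41309 : act 4 n40243 = n41309 := rfl
theorem F190004 : act 0 n41309 = n40888 := d3_1 D41309 (iv D40888) (iv F185515)
theorem F190005 : act 1 n41309 = n41203 := d11_1 D41309 F189529 (iv F185516)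
theorem F190006 : act 2 n41309 = n40249 := d18_1 D41309 (iv D40249) (iv F185517)
theorem F190007 : act 5 n41309 = n41190 := d30_2 D40243 D41309 (iv D41190) (iv D40106) (iv F180666)
theorem F190008 : act 7 n41309 = n40264 := d32_2 (iv F185519) D41309 (iv D40264)
theorem F190009 : act 8 n41309 = n40245 := d33_2 (iv F185520) D41309 (iv D40245)
def n41310 : Q := act 6 n40243
theorem D41310 : act 6 n40243 = n41310 := rfl
theorem F190010 : act 0 n41310 = n40889 := d5_1 D41310 (iv D40889) (iv F185515)
theorem F190011 : act 1 n41310 = n41205 := d13_1 D41310 F189534 (iv F185516)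
theorem F190012 : act 2 n41310 = n40250 := d20_1 D41310 (iv D40250) (iv F185517)
theorem F190013 : act 3 n41310 = n40902 := d26_1 D41310 F188674 (iv F185518)
theorem F190014 : act 8 n41310 = n40246 := d40_2 (iv F185520) D41310 (iv D40246)
def n41311 : Q := act 9 n40243
theorem D41311 : act 9 n40243 = n41311 := rfl
theorem F190015 : act 0 n41311 = n40890 := d8_1 D41311 (iv D40890) (iv F185515)
theorem F190016 : act 1 n41311 = n41199 := d16_1 D41311 F189519 (iv F185516)
theorem F190017 : act 2 n41311 = n40251 := d23_1 D41311 (iv D40251) (iv F185517)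
theorem F190018 : act 3 n41311 = n41069 := d29_1 D41311 F189215 (iv F185518)
theorem F190019 : act 5 n41311 = n40244 := d38_1 D41311 (iv D40244) D40243
theorem F190020 : act 7 n41311 = n40266 := d43_1 D41311 (iv D40266) (iv F185519)
theorem F190021 : act 8 n41311 = n41055 := d44_1 D41311 (iv D41055) F184620 (iv F180673) (iv F185520)
def n41312 : Q := act 3 n40245
theorem D41312 : act 3 n40245 = n41312 := rfl
theorem F190022 : act 0 n41312 = n40891 := d2_1 D41312 (iv D40891) (iv F185527)
theorem F190023 : act 1 n41312 = n41089 := d10_1 D41312 F189262 (iv F185528)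
theorem F190024 : act 2 n41312 = n41097 := d17_1 D41312 F189286 F184785 (iv F180708) (iv F185529)
theorem F190025 : act 4 n41312 = n41072 := d24_2 D40245 D41312 F189224 F184672 (iv F180671)
theorem F190026 : act 5 n41312 = n40248 := d25_2 (iv F185530) D41312 (iv D40248)
theorem F190027 : act 7 n41312 = n40267 := d27_2 (iv F185531) D41312 (iv D40267)
theorem F190028 : act 9 n41312 = n41056 := d29_2 (iv F185532) D41312 (iv D41056)
def n41313 : Q := act 6 n40245
theorem D41313 : act 6 n40245 = n41313 := rfl
theorem F190029 : act 0 n41313 = n40892 := d5_1 D41313 (iv D40892) (iv F185527)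
theorem F190030 : act 1 n41313 = n41202 := d13_1 D41313 F189528 (iv F185528)
theorem F190031 : act 2 n41313 = n40252 := d20_1 D41313 (iv D40252) (iv F185529)
theorem F190032 : act 4 n41313 = n40246 := d31_1 D41313 (iv D40246) D40245
theorem F190033 : act 5 n41313 = n41313 := d35_1 D41313 (iv D41313) F185530 F180691 (iv F185530)
theorem F190034 : act 9 n41313 = n41057 := d41_2 (iv F185532) D41313 (iv D41057)
def n41314 : Q := act 7 n40246
theorem D41314 : act 7 n40246 = n41314 := rfl
theorem F190035 : act 0 n41314 = n40893 := d6_1 D41314 (iv D40893) (iv F185533)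
theorem F190036 : act 1 n41314 = n41204 := d14_1 D41314 F189533 (iv F185534)
theorem F190037 : act 2 n41314 = n40254 := d21_1 D41314 (iv D40254) (iv F185535)
theorem F190038 : act 3 n41314 = n40878 := d27_1 D41314 F188603 (iv F185536)
theorem F190039 : act 5 n41314 = n40247 := d36_1 D41314 (iv D40247) (iv F185537)
theorem F190040 : act 6 n41314 = n40269 := d39_1 D41314 (iv D40269) (iv D39136) (iv F180672) D40246
theorem F190041 : act 9 n41314 = n41058 := d43_2 (iv F185538) D41314 (iv D41058)
def n41315 : Q := act 6 n40249
theorem D41315 : act 6 n40249 = n41315 := rfl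
theorem F190042 : act 0 n41315 = n40894 := d5_1 D41315 (iv D40894) (iv F185555)
theorem F190043 : act 1 n41315 = n40845 := d13_1 D41315 F188505 (iv F185556)
theorem F190044 : act 3 n41315 = n41235 := d26_1 D41315 (iv D41235) (iv F185557)
theorem F190045 : act 4 n41315 = n40250 := d31_1 D41315 (iv D40250) D40249
theorem F190046 : act 8 n41315 = n40252 := d40_2 (iv F185560) D41315 (iv D40252)
def n41316 : Q := act 9 n40249
theorem D41316 : act 9 n40249 = n41316 := rfl
theorem F190047 : act 0 n41316 = n40895 := d8_1 D41316 (iv D40895) (iv F185555)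
theorem F190048 : act 1 n41316 = n41146 := d16_1 D41316 (iv D41146) (iv F185556)
theorem F190049 : act 3 n41316 = n41236 := d29_1 D41316 (iv D41236) (iv F185557)
theorem F190050 : act 4 n41316 = n40251 := d34_1 D41316 (iv D40251) D40249
theorem F190051 : act 5 n41316 = n41196 := d38_1 D41316 (iv D41196) (iv F185558)
theorem F190052 : act 7 n41316 = n40273 := d43_1 D41316 (iv D40273) (iv F185559)
def n41317 : Q := act 7 n40250
theorem D41317 : act 7 n40250 = n41317 := rfl
theorem F190053 : act 0 n41317 = n40896 := d6_1 D41317 (iv D40896) (iv F185561)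
theorem F190054 : act 1 n41317 = n40836 := d14_1 D41317 F188480 (iv F185562)
theorem F190055 : act 3 n41317 = n40834 := d27_1 D41317 F188476 (iv F185563)
theorem F190056 : act 6 n41317 = n40274 := d39_1 D41317 (iv D40274) (iv D39140) (iv F180698) D40250
theorem F190057 : act 8 n41317 = n40254 := d42_2 (iv F185564) D41317 (iv D40254)
def n41318 : Q := act 9 n40250
theorem D41318 : act 9 n40250 = n41318 := rfl
theorem F190058 : act 0 n41318 = n40897 := d8_1 D41318 (iv D40897) (iv F185561)
theorem F190059 : act 1 n41318 = n40846 := d16_1 D41318 (iv D40846) (iv F185562)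
theorem F190060 : act 3 n41318 = n40844 := d29_1 D41318 (iv D40844) (iv F185563)
theorem F190061 : act 6 n41318 = n40251 := d41_1 D41318 (iv D40251) D40250
def n41319 : Q := act 8 n40251
theorem D41319 : act 8 n40251 = n41319 := rfl
theorem F190062 : act 0 n41319 = n40898 := d7_1 D41319 (iv D40898) (iv F185565)
theorem F190063 : act 1 n41319 = n41138 := d15_1 D41319 F189388 (iv F185566)
theorem F190064 : act 2 n41319 = n41055 := d22_1 D41319 (iv F190021) F190017
theorem F190065 : act 3 n41319 = n41136 := d28_1 D41319 (iv D41136) (iv F185567)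
theorem F190066 : act 5 n41319 = n41052 := d37_1 D41319 F189159 F184858 (iv F180705) (iv F185568)
theorem F190067 : act 7 n41319 = n40276 := d42_1 D41319 (iv D40276) (iv F185569)
theorem F190068 : act 9 n41319 = n40256 := d44_2 D40251 D41319 (iv D40256) (iv D39123) (iv F180699)
def n41320 : Q := act 7 n40252
theorem D41320 : act 7 n40252 = n41320 := rfl
theorem F190069 : act 0 n41320 = n40899 := d6_1 D41320 (iv D40899) (iv F185570)
theorem F190070 : act 1 n41320 = n40835 := d14_1 D41320 F188478 (iv F185571)
theorem F190071 : act 3 n41320 = n41240 := d27_1 D41320 (iv D41240) (iv F185572)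
theorem F190072 : act 4 n41320 = n40254 := d32_1 D41320 (iv D40254) (iv F185573)
theorem F190073 : act 5 n41320 = n41320 := d36_1 D41320 (iv D41320) F185574
theorem F190074 : act 6 n41320 = n40280 := d39_1 D41320 (iv D40280) (iv D39143) (iv F180710) D40252
def n41321 : Q := act 9 n40252
theorem D41321 : act 9 n40252 = n41321 := rfl
theorem F190075 : act 0 n41321 = n40636 := d8_1 D41321 F187666 (iv F185570)
theorem F190076 : act 1 n41321 = n40601 := d16_1 D41321 F187538 (iv F185571)
theorem F190077 : act 2 n41321 = n41057 := d23_1 D41321 (iv F190034) F190031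
theorem F190078 : act 3 n41321 = n40628 := d29_1 D41321 F187644 (iv F185572)
theorem F190079 : act 4 n41321 = n40255 := d34_1 D41321 (iv D40255) (iv F185573)
theorem F190080 : act 5 n41321 = n41321 := d38_1 D41321 (iv D41321) F185574
theorem F190081 : act 6 n41321 = n40253 := d41_1 D41321 (iv D40253) D40252
def n41322 : Q := act 8 n40253
theorem D41322 : act 8 n40253 = n41322 := rfl
theorem F190082 : act 0 n41322 = n40900 := d7_1 D41322 (iv D40900) (iv F185575)
theorem F190083 : act 1 n41322 = n41137 := d15_1 D41322 (iv D41137) (iv F185576)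
theorem F190084 : act 2 n41322 = n41053 := d22_1 D41322 F189163 (iv F185577)
theorem F190085 : act 3 n41322 = n41241 := d28_1 D41322 (iv D41241) (iv F185578)
theorem F190086 : act 4 n41322 = n40256 := d33_1 D41322 (iv D40256) (iv F185579)
theorem F190087 : act 5 n41322 = n40999 := d37_1 D41322 (iv D40999) F184460 F180748 (iv F185580)
theorem F190088 : act 7 n41322 = n40282 := d42_1 D41322 (iv D40282) (iv F185581)
def n41323 : Q := act 9 n40254
theorem D41323 : act 9 n40254 = n41323 := rfl
theorem F190089 : act 0 n41323 = n40580 := d8_1 D41323 F187424 (iv F185582)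
theorem F190090 : act 1 n41323 = n40568 := d16_1 D41323 F187362 (iv F185583)
theorem F190091 : act 2 n41323 = n41058 := d23_1 D41323 (iv F190041) F190037
theorem F190092 : act 3 n41323 = n40538 := d29_1 D41323 F187185 (iv F185584)
theorem F190093 : act 5 n41323 = n40257 := d38_1 D41323 (iv D40257) (iv F185585)
theorem F190094 : act 6 n41323 = n40283 := d41_1 D41323 (iv D40283) (iv F185586)
theorem F190095 : act 7 n41323 = n40255 := d43_1 D41323 (iv D40255) D40254
def n41324 : Q := act 8 n40255
theorem D41324 : act 8 n40255 = n41324 := rfl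
theorem F190096 : act 0 n41324 = n40634 := d7_1 D41324 F187662 (iv F185587)
theorem F190097 : act 1 n41324 = n40602 := d15_1 D41324 (iv D40602) (iv F185588)
theorem F190098 : act 2 n41324 = n41054 := d22_1 D41324 F189166 (iv F185589)
theorem F190099 : act 3 n41324 = n40565 := d28_1 D41324 F187346 (iv F185590)
theorem F190100 : act 5 n41324 = n40564 := d37_1 D41324 (iv D40564) (iv D39451) F180732 (iv F185591)
theorem F190101 : act 6 n41324 = n40256 := d40_1 D41324 (iv D40256) (iv F185592)
def n41325 : Q := act 5 n40258
theorem D41325 : act 5 n40258 = n41325 := rfl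
theorem F190102 : act 0 n41325 = n40909 := d4_1 D41325 (iv D40909) (iv F185607)
theorem F190103 : act 1 n41325 = n41114 := d12_1 D41325 F189327 (iv F185608)
theorem F190104 : act 2 n41325 = n41139 := d19_1 D41325 (iv F189647) F189644
theorem F190105 : act 3 n41325 = n41103 := d25_1 D41325 F189299 (iv F185609)
theorem F190106 : act 8 n41325 = n40304 := d37_2 D40258 D41325 (iv D40304) (iv D39176) (iv F180752)
def n41326 : Q := act 9 n40258
theorem D41326 : act 9 n40258 = n41326 := rfl
theorem F190107 : act 0 n41326 = n40910 := d8_1 D41326 (iv D40910) (iv F185607)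
theorem F190108 : act 1 n41326 = n41127 := d16_1 D41326 F189356 (iv F185608)
theorem F190109 : act 3 n41326 = n41215 := d29_1 D41326 (iv D41215) (iv F185609)
theorem F190110 : act 4 n41326 = n40260 := d34_1 D41326 (iv D40260) (iv F185610)
theorem F190111 : act 6 n41326 = n40767 := d41_1 D41326 (iv D40767) (iv F185611)
theorem F190112 : act 8 n41326 = n41003 := d44_1 D41326 (iv D41003) F184472 (iv F180754) D40258
def n41327 : Q := act 4 n40259
theorem D41327 : act 4 n40259 = n41327 := rfl
theorem F190113 : act 0 n41327 = n40911 := d3_1 D41327 (iv D40911) (iv F185612)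
theorem F190114 : act 1 n41327 = n41094 := d11_1 D41327 F189280 (iv F185613)
theorem F190115 : act 2 n41327 = n41040 := d18_1 D41327 F189126 (iv F185614)
theorem F190116 : act 7 n41327 = n41074 := d32_2 (iv F185616) D41327 F189230
theorem F190117 : act 8 n41327 = n40261 := d33_2 (iv F185617) D41327 (iv D40261)
def n41328 : Q := act 6 n40259
theorem D41328 : act 6 n40259 = n41328 := rfl
theorem F190118 : act 0 n41328 = n40912 := d5_1 D41328 (iv D40912) (iv F185612)
theorem F190119 : act 1 n41328 = n41096 := d13_1 D41328 F189285 (iv F185613)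
theorem F190120 : act 2 n41328 = n41155 := d20_1 D41328 F189426 (iv F185614)
theorem F190121 : act 3 n41328 = n40265 := d26_1 D41328 (iv D40265) (iv F185615)
theorem F190122 : act 5 n41328 = n40769 := d35_1 D41328 (iv D40769) (iv D39649) (iv F180758) D40259
theorem F190123 : act 8 n41328 = n40262 := d40_2 (iv F185617) D41328 (iv D40262)
def n41329 : Q := act 9 n40259
theorem D41329 : act 9 n40259 = n41329 := rfl
theorem F190124 : act 0 n41329 = n40913 := d8_1 D41329 (iv D40913) (iv F185612)
theorem F190125 : act 1 n41329 = n41088 := d16_1 D41329 F189261 (iv F185613)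
theorem F190126 : act 2 n41329 = n41207 := d23_1 D41329 (iv D41207) (iv F185614)
theorem F190127 : act 3 n41329 = n40266 := d29_1 D41329 (iv D40266) (iv F185615)
theorem F190128 : act 5 n41329 = n40260 := d38_1 D41329 (iv D40260) D40259
theorem F190129 : act 7 n41329 = n41069 := d43_1 D41329 F189215 (iv F185616)
theorem F190130 : act 8 n41329 = n40990 := d44_1 D41329 (iv D40990) F184422 (iv F180764) (iv F185617)
def n41330 : Q := act 3 n40261
theorem D41330 : act 3 n40261 = n41330 := rfl
theorem F190131 : act 0 n41330 = n40914 := d2_1 D41330 (iv D40914) (iv F185623)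
theorem F190132 : act 1 n41330 = n41091 := d10_1 D41330 F189271 (iv F185624)
theorem F190133 : act 2 n41330 = n41034 := d17_1 D41330 (iv D41034) F184560 D39954 (iv F185625)
theorem F190134 : act 4 n41330 = n40267 := d24_2 D40261 D41330 (iv D40267) (iv D39135) (iv F180762)
theorem F190135 : act 5 n41330 = n40306 := d25_2 (iv F185626) D41330 (iv D40306)
theorem F190136 : act 7 n41330 = n41072 := d27_2 (iv F185627) D41330 F189224
theorem F190137 : act 9 n41330 = n40991 := d29_2 (iv F185628) D41330 (iv D40991)
def n41331 : Q := act 6 n40261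
theorem D41331 : act 6 n40261 = n41331 := rfl
theorem F190138 : act 0 n41331 = n40915 := d5_1 D41331 (iv D40915) (iv F185623)
theorem F190139 : act 1 n41331 = n41093 := d13_1 D41331 F189279 (iv F185624)
theorem F190140 : act 2 n41331 = n41046 := d20_1 D41331 (iv D41046) (iv F185625)
theorem F190141 : act 4 n41331 = n40262 := d31_1 D41331 (iv D40262) D40261
theorem F190142 : act 5 n41331 = n41331 := d35_1 D41331 (iv D41331) F185626 F181051 (iv F185626)
theorem F190143 : act 9 n41331 = n40992 := d41_2 (iv F185628) D41331 (iv D40992)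
def n41332 : Q := act 7 n40262
theorem D41332 : act 7 n40262 = n41332 := rfl
theorem F190144 : act 0 n41332 = n40916 := d6_1 D41332 (iv D40916) (iv F185629)
theorem F190145 : act 1 n41332 = n41095 := d14_1 D41332 F189283 (iv F185630)
theorem F190146 : act 2 n41332 = n40853 := d21_1 D41332 F188523 (iv F185631)
theorem F190147 : act 3 n41332 = n40269 := d27_1 D41332 (iv D40269) (iv F185632)
theorem F190148 : act 5 n41332 = n40263 := d36_1 D41332 (iv D40263) (iv F185633)
theorem F190149 : act 6 n41332 = n40878 := d39_1 D41332 F188603 F184109 (iv F180763) D40262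
theorem F190150 : act 9 n41332 = n40993 := d43_2 (iv F185634) D41332 (iv D40993)
def n41333 : Q := act 3 n40264
theorem D41333 : act 3 n40264 = n41333 := rfl
theorem F190151 : act 0 n41333 = n40917 := d2_1 D41333 (iv D40917) (iv F185643)
theorem F190152 : act 1 n41333 = n41107 := d10_1 D41333 F189309 (iv F185644)
theorem F190153 : act 5 n41333 = n41101 := d25_2 (iv F185646) D41333 F189294
theorem F190154 : act 8 n41333 = n40267 := d28_2 (iv F185647) D41333 (iv D40267)
def n41334 : Q := act 6 n40264
theorem D41334 : act 6 n40264 = n41334 := rfl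
theorem F190155 : act 0 n41334 = n40918 := d5_1 D41334 (iv D40918) (iv F185643)
theorem F190156 : act 1 n41334 = n41231 := d13_1 D41334 F189586 (iv F185644)
theorem F190157 : act 2 n41334 = n40272 := d20_1 D41334 (iv D40272) (iv F185645)
theorem F190158 : act 4 n41334 = n40265 := d31_1 D41334 (iv D40265) D40264
theorem F190159 : act 8 n41334 = n40268 := d40_2 (iv F185647) D41334 (iv D40268)
def n41335 : Q := act 9 n40264
theorem D41335 : act 9 n40264 = n41335 := rfl
theorem F190160 : act 0 n41335 = n40919 := d8_1 D41335 (iv D40919) (iv F185643)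
theorem F190161 : act 1 n41335 = n41225 := d16_1 D41335 F189573 (iv F185644)
theorem F190162 : act 2 n41335 = n40273 := d23_1 D41335 (iv D40273) (iv F185645)
theorem F190163 : act 4 n41335 = n40266 := d34_1 D41335 (iv D40266) D40264
theorem F190164 : act 5 n41335 = n41216 := d38_1 D41335 (iv D41216) (iv F185646)
theorem F190165 : act 8 n41335 = n41141 := d44_1 D41335 (iv D41141) F184888 (iv F180794) (iv F185647)
def n41336 : Q := act 7 n40265
theorem D41336 : act 7 n40265 = n41336 := rfl
theorem F190166 : act 0 n41336 = n40920 := d6_1 D41336 (iv D40920) (iv F185648)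
theorem F190167 : act 1 n41336 = n41232 := d14_1 D41336 F189587 (iv F185649)
theorem F190168 : act 2 n41336 = n40274 := d21_1 D41336 (iv D40274) (iv F185650)
theorem F190169 : act 5 n41336 = n40776 := d36_1 D41336 (iv D40776) (iv F185651)
theorem F190170 : act 8 n41336 = n40269 := d42_2 (iv F185652) D41336 (iv D40269)
def n41337 : Q := act 9 n40265
theorem D41337 : act 9 n40265 = n41337 := rfl
theorem F190171 : act 0 n41337 = n40921 := d8_1 D41337 (iv D40921) (iv F185648)
theorem F190172 : act 1 n41337 = n41227 := d16_1 D41337 F189576 (iv F185649)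
theorem F190173 : act 2 n41337 = n40275 := d23_1 D41337 (iv D40275) (iv F185650)
theorem F190174 : act 5 n41337 = n40777 := d38_1 D41337 (iv D40777) (iv F185651)
theorem F190175 : act 6 n41337 = n40266 := d41_1 D41337 (iv D40266) D40265
theorem F190176 : act 8 n41337 = n41143 := d44_1 D41337 (iv D41143) F184890 (iv F180799) (iv F185652)
def n41338 : Q := act 2 n40267
theorem D41338 : act 2 n40267 = n41338 := rfl
theorem F190177 : act 0 n41338 = n40923 := d1_1 D41338 (iv D40923) (iv F185658)
theorem F190178 : act 1 n41338 = n41070 := d9_1 D41338 (iv D41070) F184667 (iv F184848) (iv F185659)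
theorem F190179 : act 3 n41338 = n40277 := d17_2 D40267 D41338 (iv D40277) (iv D39142) (iv F180792)
theorem F190180 : act 4 n41338 = n41034 := d18_2 F190134 D41338 (iv F190133)
theorem F190181 : act 5 n41338 = n40270 := d19_2 (iv F185660) D41338 (iv D40270)
theorem F190182 : act 7 n41338 = n41097 := d21_2 F190027 D41338 (iv F190024)
theorem F190183 : act 9 n41338 = n40304 := d23_2 (iv F185661) D41338 F185866
def n41339 : Q := act 6 n40267
theorem D41339 : act 6 n40267 = n41339 := rfl
theorem F190184 : act 0 n41339 = n40924 := d5_1 D41339 (iv D40924) (iv F185658)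
theorem F190185 : act 1 n41339 = n41132 := d13_1 D41339 (iv D41132) (iv F185659)
theorem F190186 : act 3 n41339 = n40268 := d26_1 D41339 (iv D40268) D40267
theorem F190187 : act 5 n41339 = n40289 := d35_1 D41339 (iv D40289) F180881 (iv F180810) (iv F185660)
theorem F190188 : act 9 n41339 = n41144 := d41_2 (iv F185661) D41339 (iv D41144)
def n41340 : Q := act 7 n40268
theorem D41340 : act 7 n40268 = n41340 := rfl
theorem F190189 : act 0 n41340 = n40925 := d6_1 D41340 (iv D40925) (iv F185662)
theorem F190190 : act 1 n41340 = n41230 := d14_1 D41340 F189584 (iv F185663)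
theorem F190191 : act 2 n41340 = n40280 := d21_1 D41340 (iv D40280) (iv F185664)
theorem F190192 : act 4 n41340 = n40269 := d32_1 D41340 (iv D40269) (iv F185665)
theorem F190193 : act 5 n41340 = n40290 := d36_1 D41340 (iv D40290) (iv F185666)
theorem F190194 : act 9 n41340 = n41145 := d43_2 (iv F185667) D41340 (iv D41145)
def n41341 : Q := act 2 n40271
theorem D41341 : act 2 n40271 = n41341 := rfl
theorem F190195 : act 0 n41341 = n40930 := d1_1 D41341 (iv D40930) (iv F185681)
theorem F190196 : act 1 n41341 = n41122 := d9_1 D41341 F189345 (iv F185608) (iv F189644) F189643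
theorem F190197 : act 4 n41341 = n41029 := d18_2 (iv F185682) D41341 F189087
theorem F190198 : act 5 n41341 = n41219 := d19_2 (iv F185683) D41341 (iv D41219)
theorem F190199 : act 7 n41341 = n41109 := d21_2 (iv F185684) D41341 F189313
theorem F190200 : act 8 n41341 = n40277 := d22_2 (iv F185685) D41341 (iv D40277)
def n41342 : Q := act 6 n40271
theorem D41342 : act 6 n40271 = n41342 := rfl
theorem F190201 : act 0 n41342 = n40931 := d5_1 D41342 (iv D40931) (iv F185681)
theorem F190202 : act 1 n41342 = n40495 := d13_1 D41342 (iv F189648) F189643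
theorem F190203 : act 3 n41342 = n40272 := d26_1 D41342 (iv D40272) D40271
theorem F190204 : act 4 n41342 = n40488 := d31_1 D41342 F186946 (iv F185682)
theorem F190205 : act 8 n41342 = n40278 := d40_2 (iv F185685) D41342 (iv D40278)
def n41343 : Q := act 9 n40271
theorem D41343 : act 9 n40271 = n41343 := rfl
theorem F190206 : act 0 n41343 = n40932 := d8_1 D41343 (iv D40932) (iv F185681)
theorem F190207 : act 3 n41343 = n40273 := d29_1 D41343 (iv D40273) D40271
theorem F190208 : act 4 n41343 = n41209 := d34_1 D41343 (iv D41209) (iv F185682)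
theorem F190209 : act 5 n41343 = n41221 := d38_1 D41343 (iv D41221) (iv F185683)
theorem F190210 : act 7 n41343 = n41236 := d43_1 D41343 (iv D41236) (iv F185684)
def n41344 : Q := act 5 n40272
theorem D41344 : act 5 n40272 = n41344 := rfl
theorem F190211 : act 0 n41344 = n40905 := d4_1 D41344 F188683 (iv F185686)
theorem F190212 : act 1 n41344 = n40750 := d12_1 D41344 F189798 F189794
theorem F190213 : act 4 n41344 = n40621 := d30_1 D41344 F187610 F183006 (iv F180817) (iv F185687)
theorem F190214 : act 6 n41344 = n41222 := d35_2 D40272 D41344 (iv D41222) (iv D40142) (iv F180814)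
theorem F190215 : act 8 n41344 = n40293 := d37_2 (iv F185688) D41344 (iv D40293) F180913 (iv F180827)
def n41345 : Q := act 7 n40272
theorem D41345 : act 7 n40272 = n41345 := rfl
theorem F190216 : act 0 n41345 = n40933 := d6_1 D41345 (iv D40933) (iv F185686)
theorem F190217 : act 4 n41345 = n40274 := d32_1 D41345 (iv D40274) (iv F185687)
theorem F190218 : act 8 n41345 = n40280 := d42_2 (iv F185688) D41345 (iv D40280)
def n41346 : Q := act 9 n40272
theorem D41346 : act 9 n40272 = n41346 := rfl
theorem F190219 : act 0 n41346 = n40934 := d8_1 D41346 (iv D40934) (iv F185686)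
theorem F190220 : act 4 n41346 = n40275 := d34_1 D41346 (iv D40275) (iv F185687)
theorem F190221 : act 6 n41346 = n40273 := d41_1 D41346 (iv D40273) D40272
def n41347 : Q := act 8 n40273
theorem D41347 : act 8 n40273 = n41347 := rfl
theorem F190222 : act 0 n41347 = n40935 := d7_1 D41347 (iv D40935) (iv F185689)
theorem F190223 : act 2 n41347 = n41141 := d22_1 D41347 (iv F190165) F190162
theorem F190224 : act 4 n41347 = n40276 := d33_1 D41347 (iv D40276) (iv F185690)
theorem F190225 : act 9 n41347 = n40282 := d44_2 D40273 D41347 (iv D40282) (iv D39144) (iv F180815)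
def n41348 : Q := act 9 n40274
theorem D41348 : act 9 n40274 = n41348 := rfl
theorem F190226 : act 0 n41348 = n40936 := d8_1 D41348 (iv D40936) (iv F185692)
theorem F190227 : act 5 n41348 = n40780 := d38_1 D41348 (iv D40780) (iv F185693)
theorem F190228 : act 7 n41348 = n40275 := d43_1 D41348 (iv D40275) D40274
def n41349 : Q := act 8 n40275
theorem D41349 : act 8 n40275 = n41349 := rfl
theorem F190229 : act 0 n41349 = n40937 := d7_1 D41349 (iv D40937) (iv F185695)
theorem F190230 : act 2 n41349 = n41143 := d22_1 D41349 (iv F190176) F190173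
theorem F190231 : act 6 n41349 = n40276 := d40_1 D41349 (iv D40276) (iv F185697)
theorem F190232 : act 9 n41349 = n40284 := d44_2 D40275 D41349 (iv D40284) (iv D39146) (iv F180818)
def n41350 : Q := act 6 n40277
theorem D41350 : act 6 n40277 = n41350 := rfl
theorem F190233 : act 0 n41350 = n40939 := d5_1 D41350 (iv D40939) (iv F185702)
theorem F190234 : act 1 n41350 = n40753 := d13_1 D41350 F188151 (iv F185703)
theorem F190235 : act 2 n41350 = n40278 := d20_1 D41350 (iv D40278) D40277
theorem F190236 : act 4 n41350 = n40486 := d31_1 D41350 F186934 (iv F185704)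
theorem F190237 : act 5 n41350 = n40295 := d35_1 D41350 (iv D40295) F180925 (iv F180852) (iv F185705)
theorem F190238 : act 9 n41350 = n41106 := d41_2 F185707 D41350 (iv D41106)
def n41351 : Q := act 7 n40278
theorem D41351 : act 7 n40278 = n41351 := rfl
theorem F190239 : act 0 n41351 = n40940 := d6_1 D41351 (iv D40940) (iv F185708)
theorem F190240 : act 1 n41351 = n40408 := d14_1 D41351 F186522 (iv F185709)
theorem F190241 : act 3 n41351 = n40280 := d27_1 D41351 (iv D40280) (iv F185710)
theorem F190242 : act 4 n41351 = n40400 := d32_1 D41351 F186473 (iv F185711)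
theorem F190243 : act 5 n41351 = n40296 := d36_1 D41351 (iv D40296) (iv F185712)
theorem F190244 : act 6 n41351 = n41240 := d39_1 D41351 (iv D41240) (iv D40160) (iv F180824) D40278
def n41352 : Q := act 9 n40278
theorem D41352 : act 9 n40278 = n41352 := rfl
theorem F190245 : act 0 n41352 = n40941 := d8_1 D41352 (iv D40941) (iv F185708)
theorem F190246 : act 1 n41352 = n40457 := d16_1 D41352 F186787 (iv F185709)
theorem F190247 : act 2 n41352 = n41106 := d23_1 D41352 (iv F190238) F190235
theorem F190248 : act 3 n41352 = n40281 := d29_1 D41352 (iv D40281) (iv F185710)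
theorem F190249 : act 4 n41352 = n40452 := d34_1 D41352 F186762 (iv F185711)
theorem F190250 : act 5 n41352 = n40297 := d38_1 D41352 (iv D40297) (iv F185712)
theorem F190251 : act 6 n41352 = n40279 := d41_1 D41352 (iv D40279) D40278
def n41353 : Q := act 8 n40279
theorem D41353 : act 8 n40279 = n41353 := rfl
theorem F190252 : act 0 n41353 = n40942 := d7_1 D41353 (iv D40942) (iv F185713)
theorem F190253 : act 1 n41353 = n41001 := d15_1 D41353 F189004 (iv F185714)
theorem F190254 : act 2 n41353 = n41103 := d22_1 D41353 F189300 (iv F185715)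
theorem F190255 : act 3 n41353 = n40282 := d28_1 D41353 (iv D40282) (iv F185716)
theorem F190256 : act 4 n41353 = n40997 := d33_1 D41353 F188995 (iv F185717)
theorem F190257 : act 5 n41353 = n41077 := d37_1 D41353 (iv D41077) F184699 (iv F180863) (iv F185718)
theorem F190258 : act 7 n41353 = n41241 := d42_1 D41353 (iv D41241) (iv F185719)
def n41354 : Q := act 9 n40280
theorem D41354 : act 9 n40280 = n41354 := rfl
theorem F190259 : act 0 n41354 = n40943 := d8_1 D41354 (iv D40943) (iv F185720)
theorem F190260 : act 1 n41354 = n40717 := d16_1 D41354 (iv F189828) F189822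
theorem F190261 : act 2 n41354 = n41145 := d23_1 D41354 (iv F190194) F190191
theorem F190262 : act 4 n41354 = n40283 := d34_1 D41354 (iv D40283) (iv F185721)
theorem F190263 : act 5 n41354 = n40298 := d38_1 D41354 (iv D40298) (iv F185722)
theorem F190264 : act 7 n41354 = n40281 := d43_1 D41354 (iv D40281) D40280
def n41355 : Q := act 8 n40281
theorem D41355 : act 8 n40281 = n41355 := rfl
theorem F190265 : act 0 n41355 = n40944 := d7_1 D41355 (iv D40944) (iv F185723)
theorem F190266 : act 1 n41355 = n40945 := d15_1 D41355 F188775 (iv F185724)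
theorem F190267 : act 2 n41355 = n41140 := d22_1 D41355 F189393 (iv F185725)
theorem F190268 : act 4 n41355 = n40284 := d33_1 D41355 (iv D40284) (iv F185726)
theorem F190269 : act 5 n41355 = n40852 := d37_1 D41355 (iv D40852) F183971 (iv F180948) (iv F185727)
theorem F190270 : act 6 n41355 = n40282 := d40_1 D41355 (iv D40282) (iv F185728)
def n41356 : Q := act 8 n40283
theorem D41356 : act 8 n40283 = n41356 := rfl
theorem F190271 : act 0 n41356 = n40946 := d7_1 D41356 (iv D40946) (iv F185732)
theorem F190272 : act 1 n41356 = n40715 := d15_1 D41356 F187992 (iv F185733)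
theorem F190273 : act 2 n41356 = n41142 := d22_1 D41356 F189397 (iv F185734)
theorem F190274 : act 3 n41356 = n40962 := d28_1 D41356 (iv D40962) (iv F185735)
theorem F190275 : act 5 n41356 = n40712 := d37_1 D41356 (iv D40712) (iv D39595) (iv F180848) (iv F185736)
theorem F190276 : act 7 n41356 = n40284 := d42_1 D41356 (iv D40284) (iv F185737)
def n41357 : Q := act 2 n40285
theorem D41357 : act 2 n40285 = n41357 := rfl
theorem F190277 : act 0 n41357 = n40799 := d1_1 D41357 (iv D40799) (iv F185741)
theorem F190278 : act 1 n41357 = n40790 := d9_1 D41357 F188283 F183763 (iv F183903) (iv F185742)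
theorem F190279 : act 3 n41357 = n40291 := d17_2 D40285 D41357 (iv D40291) (iv D39157) (iv F180866)
theorem F190280 : act 4 n41357 = n41357 := d18_2 F185743 D41357 (iv D41357)
theorem F190281 : act 5 n41357 = n40798 := d19_2 (iv F185744) D41357 (iv D40798)
theorem F190282 : act 7 n41357 = n41357 := d21_2 F185745 D41357 (iv D41357)
theorem F190283 : act 8 n41357 = n40288 := d22_2 (iv F185746) D41357 (iv D40288)
theorem F190284 : act 9 n41357 = n40797 := d23_2 (iv F185747) D41357 F188321
def n41358 : Q := act 6 n40285
theorem D41358 : act 6 n40285 = n41358 := rfl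
theorem F190285 : act 0 n41358 = n40800 := d5_1 D41358 (iv D40800) (iv F185741)
theorem F190286 : act 1 n41358 = n40829 := d13_1 D41358 (iv D40829) (iv F185742)
theorem F190287 : act 3 n41358 = n40286 := d26_1 D41358 (iv D40286) D40285
theorem F190288 : act 4 n41358 = n41358 := d31_1 D41358 (iv D41358) F185743
theorem F190289 : act 8 n41358 = n40289 := d40_2 (iv F185746) D41358 (iv D40289)
theorem F190290 : act 9 n41358 = n40614 := d41_2 (iv F185747) D41358 F187586
def n41359 : Q := act 5 n40286
theorem D41359 : act 5 n40286 = n41359 := rfl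
theorem F190291 : act 0 n41359 = n40619 := d4_1 D41359 F187602 (iv F185748)
theorem F190292 : act 1 n41359 = n40926 := d12_1 D41359 F188734 (iv F185749)
theorem F190293 : act 2 n41359 = n40293 := d19_1 D41359 (iv D40293) (iv F185750)
theorem F190294 : act 4 n41359 = n40558 := d30_1 D41359 F187315 F182635 (iv F180875) (iv F185751)
theorem F190295 : act 6 n41359 = n40557 := d35_2 D40286 D41359 F187308 F182641 (iv F180867)
theorem F190296 : act 9 n41359 = n40613 := d38_2 (iv F185753) D41359 F187581
def n41360 : Q := act 7 n40286
theorem D41360 : act 7 n40286 = n41360 := rfl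
theorem F190297 : act 0 n41360 = n40801 := d6_1 D41360 (iv D40801) (iv F185748)
theorem F190298 : act 1 n41360 = n40949 := d14_1 D41360 F188788 (iv F185749)
theorem F190299 : act 2 n41360 = n40294 := d21_1 D41360 (iv D40294) (iv F185750)
theorem F190300 : act 4 n41360 = n40287 := d32_1 D41360 (iv D40287) (iv F185751)
theorem F190301 : act 6 n41360 = n41360 := d39_1 D41360 (iv D41360) (iv D40286) F180868 D40286
theorem F190302 : act 8 n41360 = n40290 := d42_2 (iv F185752) D41360 (iv D40290)
theorem F190303 : act 9 n41360 = n40363 := d43_2 (iv F185753) D41360 F186237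
def n41361 : Q := act 6 n40288
theorem D41361 : act 6 n40288 = n41361 := rfl
theorem F190304 : act 0 n41361 = n40947 := d5_1 D41361 (iv D40947) (iv F185762)
theorem F190305 : act 1 n41361 = n40784 := d13_1 D41361 F188255 (iv F185763)
theorem F190306 : act 2 n41361 = n40289 := d20_1 D41361 (iv D40289) D40288
theorem F190307 : act 3 n41361 = n40295 := d26_1 D41361 (iv D40295) (iv F185764)
theorem F190308 : act 4 n41361 = n41361 := d31_1 D41361 (iv D41361) F185765
theorem F190309 : act 9 n41361 = n40307 := d41_2 (iv F185768) D41361 (iv D40307)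
def n41362 : Q := act 7 n40289
theorem D41362 : act 7 n40289 = n41362 := rfl
theorem F190310 : act 0 n41362 = n40948 := d6_1 D41362 (iv D40948) (iv F185769)
theorem F190311 : act 1 n41362 = n41133 := d14_1 D41362 (iv D41133) (iv F185770)
theorem F190312 : act 3 n41362 = n40290 := d27_1 D41362 (iv D40290) (iv F185771)
theorem F190313 : act 4 n41362 = n41362 := d32_1 D41362 (iv D41362) F185772
theorem F190314 : act 6 n41362 = n41362 := d39_1 D41362 (iv D41362) (iv D40289) F180882 D40289
theorem F190315 : act 9 n41362 = n41246 := d43_2 (iv F185773) D41362 (iv D41246)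
def n41363 : Q := act 6 n40291
theorem D41363 : act 6 n40291 = n41363 := rfl
theorem F190316 : act 0 n41363 = n40908 := d5_1 D41363 F188690 (iv F185780)
theorem F190317 : act 1 n41363 = n40667 := d13_1 D41363 F187782 (iv F185781)
theorem F190318 : act 2 n41363 = n40292 := d20_1 D41363 (iv D40292) D40291
theorem F190319 : act 4 n41363 = n40299 := d31_1 D41363 (iv D40299) (iv F185782)
theorem F190320 : act 8 n41363 = n40295 := d40_2 (iv F185785) D41363 (iv D40295)
theorem F190321 : act 9 n41363 = n40622 := d41_2 (iv F185786) D41363 F187612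
def n41364 : Q := act 5 n40292
theorem D41364 : act 5 n40292 = n41364 := rfl
theorem F190322 : act 0 n41364 = n40907 := d4_1 D41364 F188688 (iv F185787)
theorem F190323 : act 1 n41364 = n40532 := d12_1 D41364 (iv D40532) (iv F185788)
theorem F190324 : act 3 n41364 = n40293 := d25_1 D41364 (iv D40293) (iv F185789)
theorem F190325 : act 6 n41364 = n41247 := d35_2 D40292 D41364 (iv D41247) (iv D40174) (iv F180906)
theorem F190326 : act 9 n41364 = n40618 := d38_2 (iv F185792) D41364 F187598
def n41365 : Q := act 7 n40292
theorem D41365 : act 7 n40292 = n41365 := rfl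
theorem F190327 : act 0 n41365 = n40885 := d6_1 D41365 F188632 (iv F185787)
theorem F190328 : act 1 n41365 = n40480 := d14_1 D41365 F186899 (iv F185788)
theorem F190329 : act 3 n41365 = n40294 := d27_1 D41365 (iv D40294) (iv F185789)
theorem F190330 : act 4 n41365 = n40300 := d32_1 D41365 (iv D40300) (iv F185790)
theorem F190331 : act 6 n41365 = n41365 := d39_1 D41365 (iv D41365) (iv D40292) F180907 D40292
theorem F190332 : act 8 n41365 = n40296 := d42_2 (iv F185791) D41365 (iv D40296)
theorem F190333 : act 9 n41365 = n40371 := d43_2 (iv F185792) D41365 F186284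
def n41366 : Q := act 7 n40293
theorem D41366 : act 7 n40293 = n41366 := rfl
theorem F190334 : act 0 n41366 = n40883 := d6_1 D41366 F188623 (iv F185793)
theorem F190335 : act 1 n41366 = n40685 := d14_1 D41366 F187871 (iv F185794)
theorem F190336 : act 4 n41366 = n40368 := d32_1 D41366 F186263 (iv F185795)
theorem F190337 : act 5 n41366 = n40294 := d36_1 D41366 (iv D40294) D40293
theorem F190338 : act 9 n41366 = n40366 := d43_2 (iv F185797) D41366 F186254
def n41367 : Q := act 7 n40295
theorem D41367 : act 7 n40295 = n41367 := rfl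
theorem F190339 : act 0 n41367 = n40950 := d6_1 D41367 (iv D40950) (iv F185804)
theorem F190340 : act 1 n41367 = n40781 := d14_1 D41367 F188238 (iv F185805)
theorem F190341 : act 2 n41367 = n40296 := d21_1 D41367 (iv D40296) (iv F185806)
theorem F190342 : act 4 n41367 = n40301 := d32_1 D41367 (iv D40301) (iv F185807)
theorem F190343 : act 6 n41367 = n41367 := d39_1 D41367 (iv D41367) (iv D40295) F180926 D40295
theorem F190344 : act 9 n41367 = n40808 := d43_2 (iv F185808) D41367 F188386
def n41368 : Q := act 9 n40296
theorem D41368 : act 9 n40296 = n41368 := rfl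
theorem F190345 : act 0 n41368 = n40456 := d8_1 D41368 F186781 (iv F185809)
theorem F190346 : act 1 n41368 = n40529 := d16_1 D41368 F187128 (iv F185810)
theorem F190347 : act 2 n41368 = n40808 := d23_1 D41368 (iv F190344) F190341
theorem F190348 : act 3 n41368 = n40298 := d29_1 D41368 (iv D40298) (iv F185811)
theorem F190349 : act 4 n41368 = n40302 := d34_1 D41368 (iv D40302) (iv F185812)
theorem F190350 : act 6 n41368 = n41368 := d41_1 D41368 (iv D41368) F185813
theorem F190351 : act 7 n41368 = n40297 := d43_1 D41368 (iv D40297) D40296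
theorem F190352 : act 8 n41368 = n40787 := d44_1 D41368 (iv D40787) (iv F186285) (iv F190333) F190332
def n41369 : Q := act 5 n40303
theorem D41369 : act 5 n40303 = n41369 := rfl
theorem F190353 : act 0 n41369 = n40955 := d4_1 D41369 (iv D40955) (iv F185856)
theorem F190354 : act 1 n41369 = n41034 := d12_1 D41369 F189102 (iv F185857)
theorem F190355 : act 2 n41369 = n41056 := d19_1 D41369 F189173 (iv F185858)
theorem F190356 : act 3 n41369 = n41027 := d25_1 D41369 F189080 (iv F185859)
theorem F190357 : act 4 n41369 = n41070 := d30_1 D41369 F189217 F184678 (iv F181014) (iv F185860)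
theorem F190358 : act 7 n41369 = n40304 := d36_2 (iv F185862) D41369 (iv D40304)
theorem F190359 : act 9 n41369 = n41097 := d38_2 (iv F185863) D41369 (iv D41097)
def n41370 : Q := act 4 n40304
theorem D41370 : act 4 n40304 = n41370 := rfl
theorem F190360 : act 0 n41370 = n40959 := d3_1 D41370 (iv D40959) (iv F185864)
theorem F190361 : act 1 n41370 = n41097 := d11_1 D41370 F189287 (iv F185865)
theorem F190362 : act 2 n41370 = n40991 := d18_1 D41370 F188967 (iv F185866)
theorem F190363 : act 3 n41370 = n41036 := d24_1 D41370 F189109 F184567 D40015 (iv F185867)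
theorem F190364 : act 5 n41370 = n40305 := d30_2 D40304 D41370 (iv D40305) (iv D39177) (iv F181030)
theorem F190365 : act 7 n41370 = n41070 := d32_2 F190358 D41370 (iv F190357)
theorem F190366 : act 9 n41370 = n41034 := d34_2 F190183 D41370 (iv F190180)
def n41371 : Q := act 6 n40304
theorem D41371 : act 6 n40304 = n41371 := rfl
theorem F190367 : act 0 n41371 = n40960 := d5_1 D41371 (iv D40960) (iv F185864)
theorem F190368 : act 1 n41371 = n41120 := d13_1 D41371 (iv D41120) (iv F185865)
theorem F190369 : act 2 n41371 = n41144 := d20_1 D41371 (iv D41144) (iv F185866)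
theorem F190370 : act 3 n41371 = n41106 := d26_1 D41371 (iv D41106) (iv F185867)
theorem F190371 : act 5 n41371 = n40307 := d35_1 D41371 (iv D40307) (iv D39181) (iv F181031) D40304
def n41372 : Q := act 7 n40307
theorem D41372 : act 7 n40307 = n41372 := rfl
theorem F190372 : act 0 n41372 = n40961 := d6_1 D41372 (iv D40961) (iv F185884)
theorem F190373 : act 1 n41372 = n41130 := d14_1 D41372 (iv D41130) (iv F185885)
theorem F190374 : act 2 n41372 = n41246 := d21_1 D41372 (iv D41246) (iv F185886)
theorem F190375 : act 3 n41372 = n40808 := d27_1 D41372 F188386 (iv F185887)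
theorem F190376 : act 4 n41372 = n41372 := d32_1 D41372 (iv D41372) F185888
theorem F190377 : act 6 n41372 = n41372 := d39_1 D41372 (iv D41372) (iv D40307) F181067 D40307
theorem F190378 : act 8 n41372 = n40795 := d42_2 (iv F185889) D41372 (iv D40795)
def n41373 : Q := act 8 n40308
theorem D41373 : act 8 n40308 = n41373 := rfl
theorem F190379 : act 0 n41373 = n40586 := d7_1 D41373 F187450 (iv F185890)
theorem F190380 : act 1 n41373 = n40310 := d15_1 D41373 (iv D40310) (iv F185891)
theorem F190381 : act 2 n41373 = n40962 := d22_1 D41373 (iv D40962) (iv F185892)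
theorem F190382 : act 3 n41373 = n41152 := d28_1 D41373 F189420 (iv F185893)
theorem F190383 : act 4 n41373 = n40645 := d33_1 D41373 (iv D40645) (iv F185894)
theorem F190384 : act 5 n41373 = n40975 := d37_1 D41373 F188893 F184369 (iv F181075) D40308
theorem F190385 : act 6 n41373 = n40539 := d40_1 D41373 F187190 (iv F185895)
theorem F190386 : act 7 n41373 = n41147 := d42_1 D41373 (iv D41147) (iv F185896)
def n41374 : Q := act 4 n40309
theorem D41374 : act 4 n40309 = n41374 := rfl
theorem F190387 : act 0 n41374 = n40333 := d3_1 D41374 (iv D40333) (iv F185898)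
theorem F190388 : act 1 n41374 = n41154 := d11_1 D41374 F189422 (iv F185899)
theorem F190389 : act 2 n41374 = n40563 := d18_1 D41374 (iv D40563) (iv F185900)
theorem F190390 : act 3 n41374 = n40648 := d24_1 D41374 (iv D40648) F183037 (iv F181087) (iv F185901)
theorem F190391 : act 5 n41374 = n41374 := d30_2 D40309 D41374 (iv D41374) (iv D40309) F181081
theorem F190392 : act 6 n41374 = n40442 := d31_2 (iv F185902) D41374 (iv D40442)
theorem F190393 : act 7 n41374 = n41148 := d32_2 (iv F185903) D41374 (iv D41148)
theorem F190394 : act 9 n41374 = n40855 := d34_2 (iv F185904) D41374 (iv D40855)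
def n41375 : Q := act 8 n40309
theorem D41375 : act 8 n40309 = n41375 := rfl
theorem F190395 : act 0 n41375 = n40334 := d7_1 D41375 (iv D40334) (iv F185898)
theorem F190396 : act 1 n41375 = n41152 := d15_1 D41375 F189420 (iv F185899)
theorem F190397 : act 2 n41375 = n40564 := d22_1 D41375 (iv D40564) (iv F185900)
theorem F190398 : act 3 n41375 = n40310 := d28_1 D41375 (iv D40310) (iv F185901)
theorem F190399 : act 5 n41375 = n41054 := d37_1 D41375 F189166 F184631 (iv F181083) D40309
theorem F190400 : act 6 n41375 = n40440 := d40_1 D41375 F186696 (iv F185902)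
theorem F190401 : act 7 n41375 = n41149 := d42_1 D41375 (iv D41149) (iv F185903)
def n41376 : Q := act 9 n40310
theorem D41376 : act 9 n40310 = n41376 := rfl
theorem F190402 : act 0 n41376 = n40337 := d8_1 D41376 (iv D40337) (iv F185905)
theorem F190403 : act 2 n41376 = n40312 := d23_1 D41376 (iv D40312) (iv F185906)
theorem F190404 : act 4 n41376 = n40652 := d34_1 D41376 (iv D40652) (iv F185907)
theorem F190405 : act 5 n41376 = n41068 := d38_1 D41376 (iv D41068) (iv F185908)
theorem F190406 : act 6 n41376 = n40670 := d41_1 D41376 (iv D40670) (iv F185909)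
theorem F190407 : act 7 n41376 = n41150 := d43_1 D41376 (iv D41150) (iv F185910)
theorem F190408 : act 8 n41376 = n40859 := d44_1 D41376 (iv D40859) (iv D39769) (iv F181090) D40310
def n41377 : Q := act 4 n40311
theorem D41377 : act 4 n40311 = n41377 := rfl
theorem F190409 : act 0 n41377 = n40343 := d3_1 D41377 (iv D40343) (iv F185911)
theorem F190410 : act 1 n41377 = n40725 := d11_1 D41377 F188026 (iv F185912)
theorem F190411 : act 2 n41377 = n41065 := d18_1 D41377 F189206 (iv F185913)
theorem F190412 : act 3 n41377 = n40756 := d24_1 D41377 F188157 F183462 F182673 (iv F185914)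
theorem F190413 : act 5 n41377 = n40658 := d30_2 D40311 D41377 (iv D40658) (iv D39541) (iv F181094)
theorem F190414 : act 6 n41377 = n41062 := d31_2 (iv F185915) D41377 (iv D41062)
theorem F190415 : act 7 n41377 = n41151 := d32_2 (iv F185916) D41377 (iv D41151)
theorem F190416 : act 8 n41377 = n40313 := d33_2 (iv F185917) D41377 (iv D40313)
def n41378 : Q := act 9 n40311
theorem D41378 : act 9 n40311 = n41378 := rfl
theorem F190417 : act 0 n41378 = n40345 := d8_1 D41378 (iv D40345) (iv F185911)
theorem F190418 : act 1 n41378 = n40726 := d16_1 D41378 (iv D40726) (iv F185912)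
theorem F190419 : act 2 n41378 = n41068 := d23_1 D41378 (iv D41068) (iv F185913)
theorem F190420 : act 3 n41378 = n40567 := d29_1 D41378 (iv D40567) (iv F185914)
theorem F190421 : act 5 n41378 = n40312 := d38_1 D41378 (iv D40312) D40311
theorem F190422 : act 6 n41378 = n41063 := d41_1 D41378 (iv D41063) (iv F185915)
theorem F190423 : act 7 n41378 = n41153 := d43_1 D41378 (iv D41153) (iv F185916)
theorem F190424 : act 8 n41378 = n40904 := d44_1 D41378 (iv D40904) (iv D39809) (iv F181103) (iv F185917)
def n41379 : Q := act 4 n40314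
theorem D41379 : act 4 n40314 = n41379 := rfl
theorem F190425 : act 0 n41379 = n41148 := d3_1 D41379 (iv D41148) (iv F185933)
theorem F190426 : act 1 n41379 = n41047 := d11_1 D41379 F189145 (iv F185934)
theorem F190427 : act 2 n41379 = n40578 := d18_1 D41379 (iv D40578) (iv F185935)
theorem F190428 : act 3 n41379 = n40855 := d24_1 D41379 (iv D40855) F183988 (iv F181130) (iv F185936)
theorem F190429 : act 5 n41379 = n41379 := d30_2 D40314 D41379 (iv D41379) (iv D40314) F181116
theorem F190430 : act 6 n41379 = n40672 := d31_2 (iv F185937) D41379 (iv D40672)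
theorem F190431 : act 7 n41379 = n40333 := d32_2 (iv F185938) D41379 (iv D40333)
theorem F190432 : act 9 n41379 = n40648 := d34_2 (iv F185939) D41379 (iv D40648)
def n41380 : Q := act 8 n40314
theorem D41380 : act 8 n40314 = n41380 := rfl
theorem F190433 : act 0 n41380 = n41149 := d7_1 D41380 (iv D41149) (iv F185933)
theorem F190434 : act 1 n41380 = n41043 := d15_1 D41380 F189135 (iv F185934)
theorem F190435 : act 2 n41380 = n40579 := d22_1 D41380 (iv D40579) (iv F185935)
theorem F190436 : act 3 n41380 = n40316 := d28_1 D41380 (iv D40316) (iv F185936)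
theorem F190437 : act 6 n41380 = n40673 := d40_1 D41380 (iv D40673) (iv F185937)
theorem F190438 : act 7 n41380 = n40334 := d42_1 D41380 (iv D40334) (iv F185938)
def n41381 : Q := act 5 n40315
theorem D41381 : act 5 n40315 = n41381 := rfl
theorem F190439 : act 0 n41381 = n41058 := d4_1 D41381 F189180 (iv F185940)
theorem F190440 : act 1 n41381 = n41020 := d12_1 D41381 F189055 (iv F185941)
theorem F190441 : act 2 n41381 = n40580 := d19_1 D41381 (iv D40580) (iv F185942)
theorem F190442 : act 3 n41381 = n40317 := d25_1 D41381 (iv D40317) (iv F185943)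
theorem F190443 : act 6 n41381 = n40928 := d35_2 (iv F185945) D41381 F188741 F184169 F181125
theorem F190444 : act 7 n41381 = n40335 := d36_2 (iv F185946) D41381 (iv D40335)
theorem F190445 : act 9 n41381 = n40893 := d38_2 F185947 D41381 F188653
def n41382 : Q := act 5 n40316
theorem D41382 : act 5 n40316 = n41382 := rfl
theorem F190446 : act 0 n41382 = n41067 := d4_1 D41382 F189211 (iv F185948)
theorem F190447 : act 1 n41382 = n41173 := d12_1 D41382 F189462 (iv F185949)
theorem F190448 : act 2 n41382 = n40322 := d19_1 D41382 (iv D40322) (iv F185950)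
theorem F190449 : act 7 n41382 = n40336 := d36_2 (iv F185953) D41382 (iv D40336)
theorem F190450 : act 8 n41382 = n40317 := d37_2 D40316 D41382 (iv D40317) (iv D39191) D39190
def n41383 : Q := act 9 n40316
theorem D41383 : act 9 n40316 = n41383 := rfl
theorem F190451 : act 0 n41383 = n41150 := d8_1 D41383 (iv D41150) (iv F185948)
theorem F190452 : act 1 n41383 = n41211 := d16_1 D41383 (iv D41211) (iv F185949)
theorem F190453 : act 2 n41383 = n40323 := d23_1 D41383 (iv D40323) (iv F185950)
theorem F190454 : act 4 n41383 = n40859 := d34_1 D41383 (iv D40859) (iv F185951)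
theorem F190455 : act 6 n41383 = n40676 := d41_1 D41383 (iv D40676) (iv F185952)
theorem F190456 : act 7 n41383 = n40337 := d43_1 D41383 (iv D40337) (iv F185953)
theorem F190457 : act 8 n41383 = n40652 := d44_1 D41383 (iv D40652) (iv D39536) (iv F181133) D40316
def n41384 : Q := act 4 n40317
theorem D41384 : act 4 n40317 = n41384 := rfl
theorem F190458 : act 0 n41384 = n41073 := d3_1 D41384 F189227 (iv F185954)
theorem F190459 : act 1 n41384 = n41179 := d11_1 D41384 F189472 (iv F185955)
theorem F190460 : act 2 n41384 = n40324 := d18_1 D41384 (iv D40324) (iv F185956)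
theorem F190461 : act 5 n41384 = n40320 := d30_2 D40317 D41384 (iv D40320) (iv D39194) (iv F181137)
theorem F190462 : act 7 n41384 = n40338 := d32_2 (iv F185957) D41384 (iv D40338)
def n41385 : Q := act 6 n40317
theorem D41385 : act 6 n40317 = n41385 := rfl
theorem F190463 : act 0 n41385 = n40993 := d5_1 D41385 F188977 (iv F185954)
theorem F190464 : act 1 n41385 = n40872 := d13_1 D41385 F188579 (iv F185955)
theorem F190465 : act 2 n41385 = n40325 := d20_1 D41385 (iv D40325) (iv F185956)
theorem F190466 : act 3 n41385 = n40928 := d26_1 D41385 (iv F190443) F190442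
theorem F190467 : act 5 n41385 = n40319 := d35_1 D41385 (iv D40319) (iv D39192) (iv F181138) D40317
theorem F190468 : act 7 n41385 = n40377 := d39_2 (iv F185957) D41385 (iv D40377) F181491 (iv F181252)
theorem F190469 : act 9 n40916 = n41385 := d43_0 F190468 F186318 D40916
def n41386 : Q := act 9 n40317
theorem D41386 : act 9 n40317 = n41386 := rfl
theorem F190470 : act 0 n41386 = n40878 := d8_1 D41386 F188604 (iv F185954)
theorem F190471 : act 1 n41386 = n41182 := d16_1 D41386 (iv D41182) (iv F185955)
theorem F190472 : act 2 n41386 = n40326 := d23_1 D41386 (iv D40326) (iv F185956)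
theorem F190473 : act 3 n41386 = n40893 := d29_1 D41386 (iv F190445) F190442
theorem F190474 : act 5 n41386 = n40318 := d38_1 D41386 (iv D40318) D40317
theorem F190475 : act 6 n41386 = n40916 := d41_1 D41386 F190469 (iv D41385)
theorem F190476 : act 7 n41386 = n40339 := d43_1 D41386 (iv D40339) (iv F185957)
def n41387 : Q := act 3 n40320
theorem D41387 : act 3 n40320 = n41387 := rfl
theorem F190477 : act 0 n41387 = n41129 := d2_1 D41387 F189360 (iv F185974)
theorem F190478 : act 1 n41387 = n41251 := d10_1 D41387 F189633 (iv F185975)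
theorem F190479 : act 4 n41387 = n41387 := d24_2 D40320 D41387 (iv D41387) (iv D40320) F181159
theorem F190480 : act 6 n41387 = n41387 := d26_2 F185977 D41387 (iv D41387)
theorem F190481 : act 7 n41387 = n40340 := d27_2 (iv F185978) D41387 (iv D40340)
theorem F190482 : act 8 n41387 = n40863 := d28_2 (iv F185979) D41387 (iv D40863)
def n41388 : Q := act 9 n40320
theorem D41388 : act 9 n40320 = n41388 := rfl
theorem F190483 : act 0 n41388 = n40952 := d8_1 D41388 F188803 (iv F185974)
theorem F190484 : act 1 n41388 = n41253 := d16_1 D41388 (iv D41253) (iv F185975)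
theorem F190485 : act 2 n41388 = n40330 := d23_1 D41388 (iv D40330) (iv F185976)
theorem F190486 : act 4 n41388 = n40321 := d34_1 D41388 (iv D40321) D40320
theorem F190487 : act 6 n41388 = n41388 := d41_1 D41388 (iv D41388) F185977
theorem F190488 : act 7 n41388 = n40341 := d43_1 D41388 (iv D40341) (iv F185978)
def n41389 : Q := act 8 n40321
theorem D41389 : act 8 n40321 = n41389 := rfl
theorem F190489 : act 0 n41389 = n40953 := d7_1 D41389 (iv D40953) (iv F185980)
theorem F190490 : act 1 n41389 = n40877 := d15_1 D41389 F188601 (iv F185981)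
theorem F190491 : act 2 n41389 = n40331 := d22_1 D41389 (iv D40331) (iv F185982)
theorem F190492 : act 3 n41389 = n41389 := d28_1 D41389 (iv D41389) F185983
theorem F190493 : act 5 n41389 = n40657 := d37_1 D41389 (iv D40657) F183060 (iv F181169) (iv F185984)
theorem F190494 : act 6 n41389 = n41389 := d40_1 D41389 (iv D41389) F185985
theorem F190495 : act 7 n41389 = n40342 := d42_1 D41389 (iv D40342) (iv F185986)
theorem F190496 : act 9 n41389 = n40865 := d44_2 D40321 D41389 (iv D40865) (iv D39774) (iv F181162)
def n41390 : Q := act 4 n40322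
theorem D41390 : act 4 n40322 = n41390 := rfl
theorem F190497 : act 0 n41390 = n41151 := d3_1 D41390 (iv D41151) (iv F185987)
theorem F190498 : act 1 n41390 = n40421 := d11_1 D41390 (iv D40421) (iv F185988)
theorem F190499 : act 5 n41390 = n40866 := d30_2 D40322 D41390 (iv D40866) (iv D39775) (iv F181173)
theorem F190500 : act 7 n41390 = n40343 := d32_2 (iv F185990) D41390 (iv D40343)
theorem F190501 : act 8 n41390 = n40324 := d33_2 (iv F185991) D41390 (iv D40324)
def n41391 : Q := act 6 n40322
theorem D41391 : act 6 n40322 = n41391 := rfl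
theorem F190502 : act 0 n41391 = n41152 := d5_1 D41391 (iv D41152) (iv F185987)
theorem F190503 : act 1 n41391 = n40422 := d13_1 D41391 (iv D40422) (iv F185988)
theorem F190504 : act 3 n41391 = n40586 := d26_1 D41391 (iv D40586) (iv F185989)
theorem F190505 : act 5 n41391 = n40681 := d35_1 D41391 (iv D40681) (iv D39563) (iv F181174) D40322
theorem F190506 : act 8 n41391 = n40325 := d40_2 (iv F185991) D41391 (iv D40325)
def n41392 : Q := act 9 n40322
theorem D41392 : act 9 n40322 = n41392 := rfl
theorem F190507 : act 0 n41392 = n41153 := d8_1 D41392 (iv D41153) (iv F185987)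
theorem F190508 : act 1 n41392 = n40423 := d16_1 D41392 (iv D40423) (iv F185988)
theorem F190509 : act 3 n41392 = n40587 := d29_1 D41392 (iv D40587) (iv F185989)
theorem F190510 : act 5 n41392 = n40323 := d38_1 D41392 (iv D40323) D40322
theorem F190511 : act 7 n41392 = n40345 := d43_1 D41392 (iv D40345) (iv F185990)
def n41393 : Q := act 3 n40324
theorem D41393 : act 3 n40324 = n41393 := rfl
theorem F190512 : act 0 n41393 = n40690 := d2_1 D41393 F187886 (iv F185999)
theorem F190513 : act 1 n41393 = n40424 := d10_1 D41393 (iv D40424) (iv F186000)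
theorem F190514 : act 4 n41393 = n40522 := d24_2 D40324 D41393 F187086 (iv D39475) (iv F181178)
theorem F190515 : act 5 n41393 = n40329 := d25_2 (iv F186001) D41393 (iv D40329)
theorem F190516 : act 7 n41393 = n40346 := d27_2 (iv F186002) D41393 (iv D40346)
theorem F190517 : act 9 n40520 = n41393 := d43_0 F190516 (iv F186124) D40520
def n41394 : Q := act 6 n40324
theorem D41394 : act 6 n40324 = n41394 := rfl
theorem F190518 : act 0 n41394 = n41154 := d5_1 D41394 (iv D41154) (iv F185999)
theorem F190519 : act 1 n41394 = n40425 := d13_1 D41394 (iv D40425) (iv F186000)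
theorem F190520 : act 4 n41394 = n40325 := d31_1 D41394 (iv D40325) D40324
theorem F190521 : act 5 n41394 = n41394 := d35_1 D41394 (iv D41394) F186001 F181210 (iv F186001)
def n41395 : Q := act 9 n40324
theorem D41395 : act 9 n40324 = n41395 := rfl
theorem F190522 : act 0 n41395 = n40879 := d8_1 D41395 F188609 (iv F185999)
theorem F190523 : act 1 n41395 = n40426 := d16_1 D41395 (iv D40426) (iv F186000)
theorem F190524 : act 3 n41395 = n40520 := d29_1 D41395 F190517 (iv D41393)
theorem F190525 : act 4 n41395 = n40326 := d34_1 D41395 (iv D40326) D40324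
theorem F190526 : act 5 n41395 = n40330 := d38_1 D41395 (iv D40330) (iv F186001)
theorem F190527 : act 7 n41395 = n40348 := d43_1 D41395 (iv D40348) (iv F186002)
def n41396 : Q := act 7 n40325
theorem D41396 : act 7 n40325 = n41396 := rfl
theorem F190528 : act 0 n41396 = n40987 := d6_1 D41396 F188953 (iv F186003)
theorem F190529 : act 1 n41396 = n40427 := d14_1 D41396 (iv D40427) (iv F186004)
theorem F190530 : act 2 n41396 = n40377 := d21_1 D41396 (iv F190468) F190465
theorem F190531 : act 3 n41396 = n40589 := d27_1 D41396 (iv D40589) (iv F186005)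
theorem F190532 : act 5 n41396 = n40327 := d36_1 D41396 (iv D40327) (iv F186006)
theorem F190533 : act 6 n41396 = n40349 := d39_1 D41396 (iv D40349) (iv D39216) (iv F181179) D40325
theorem F190534 : act 9 n40708 = n41396 := d41_0 F190533 F186143 D40708
def n41397 : Q := act 9 n40325
theorem D41397 : act 9 n40325 = n41397 := rfl
theorem F190535 : act 0 n41397 = n40853 := d8_1 D41397 F188524 (iv F186003)
theorem F190536 : act 1 n41397 = n40428 := d16_1 D41397 (iv D40428) (iv F186004)
theorem F190537 : act 2 n41397 = n40916 := d23_1 D41397 F190469 F190465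
theorem F190538 : act 3 n41397 = n40590 := d29_1 D41397 (iv D40590) (iv F186005)
theorem F190539 : act 5 n41397 = n40328 := d38_1 D41397 (iv D40328) (iv F186006)
theorem F190540 : act 6 n41397 = n40326 := d41_1 D41397 (iv D40326) D40325
theorem F190541 : act 7 n41397 = n40708 := d43_1 D41397 F190534 (iv D41396)
def n41398 : Q := act 8 n40326
theorem D41398 : act 8 n40326 = n41398 := rfl
theorem F190542 : act 0 n41398 = n40880 := d7_1 D41398 (iv D40880) (iv F186007)
theorem F190543 : act 1 n41398 = n40429 := d15_1 D41398 (iv D40429) (iv F186008)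
theorem F190544 : act 3 n41398 = n40591 := d28_1 D41398 (iv D40591) (iv F186009)
theorem F190545 : act 5 n41398 = n40666 := d37_1 D41398 (iv D40666) F183071 (iv F181186) (iv F186010)
theorem F190546 : act 7 n41398 = n40350 := d42_1 D41398 (iv D40350) (iv F186011)
def n41399 : Q := act 2 n40329
theorem D41399 : act 2 n40329 = n41399 := rfl
theorem F190547 : act 0 n41399 = n40781 := d1_1 D41399 F188236 (iv F186028)
theorem F190548 : act 1 n41399 = n40864 := d9_1 D41399 F188554 F184033 F181842 (iv F186029)
theorem F190549 : act 4 n41399 = n40332 := d18_2 (iv F186030) D41399 (iv D40332)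
theorem F190550 : act 6 n41399 = n41399 := d20_2 F186031 D41399 (iv D41399)
theorem F190551 : act 7 n41399 = n40351 := d21_2 (iv F186032) D41399 (iv D40351)
theorem F190552 : act 8 n41399 = n40874 := d22_2 (iv F186033) D41399 (iv D40874)
theorem F190553 : act 9 n41399 = n40526 := d23_2 F186034 D41399 F187104
def n41400 : Q := act 8 n40330
theorem D41400 : act 8 n40330 = n41400 := rfl
theorem F190554 : act 0 n41400 = n40954 := d7_1 D41400 (iv D40954) (iv F186035)
theorem F190555 : act 1 n41400 = n40419 := d15_1 D41400 F186581 (iv F186036)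
theorem F190556 : act 3 n41400 = n40406 := d28_1 D41400 F186510 (iv F186037)
theorem F190557 : act 4 n41400 = n40331 := d33_1 D41400 (iv D40331) (iv F186038)
theorem F190558 : act 6 n41400 = n41400 := d40_1 D41400 (iv D41400) F186039
theorem F190559 : act 7 n41400 = n40352 := d42_1 D41400 (iv D40352) (iv F186040)
theorem F190560 : act 9 n41400 = n40876 := d44_2 D40330 D41400 (iv D40876) (iv D39782) (iv F181212)
def n41401 : Q := act 8 n40333
theorem D41401 : act 8 n40333 = n41401 := rfl
theorem F190561 : act 1 n41401 = n41041 := d15_1 D41401 F189130 (iv F186056)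
theorem F190562 : act 2 n41401 = n40633 := d22_1 D41401 (iv D40633) (iv F186057)
theorem F190563 : act 3 n41401 = n41157 := d28_1 D41401 (iv D41157) (iv F186058)
theorem F190564 : act 4 n41401 = n40334 := d33_1 D41401 (iv D40334) D40333
theorem F190565 : act 6 n41401 = n40966 := d40_1 D41401 F188849 (iv F186060)
def n41402 : Q := act 5 n40334
theorem D41402 : act 5 n40334 = n41402 := rfl
theorem F190566 : act 0 n41402 = n41054 := d4_1 D41402 (iv F190399) F190395
theorem F190567 : act 1 n41402 = n41016 := d12_1 D41402 F189046 (iv F186061)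
theorem F190568 : act 2 n41402 = n40634 := d19_1 D41402 (iv D40634) (iv F186062)
theorem F190569 : act 3 n41402 = n40336 := d25_1 D41402 (iv D40336) (iv F186063)
theorem F190570 : act 6 n41402 = n40434 := d35_2 (iv F186064) D41402 (iv D40434) F181872 D39879
theorem F190571 : act 8 n41402 = n40335 := d37_2 D40334 D41402 (iv D40335) (iv D39207) D39206
def n41403 : Q := act 9 n40334
theorem D41403 : act 9 n40334 = n41403 := rfl
theorem F190572 : act 1 n41403 = n41044 := d16_1 D41403 (iv D41044) (iv F186061)
theorem F190573 : act 2 n41403 = n40635 := d23_1 D41403 (iv D40635) (iv F186062)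
theorem F190574 : act 3 n41403 = n40337 := d29_1 D41403 (iv D40337) (iv F186063)
theorem F190575 : act 6 n41403 = n40967 := d41_1 D41403 (iv D40967) (iv F186064)
def n41404 : Q := act 4 n40335
theorem D41404 : act 4 n40335 = n41404 := rfl
theorem F190576 : act 0 n41404 = n41057 := d3_1 D41404 F189176 (iv F186065)
theorem F190577 : act 1 n41404 = n41019 := d11_1 D41404 F189052 (iv F186066)
theorem F190578 : act 2 n41404 = n40636 := d18_1 D41404 (iv D40636) (iv F186067)
theorem F190579 : act 5 n41404 = n41404 := d30_2 D40335 D41404 (iv D41404) (iv D40335) F181242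
theorem F190580 : act 6 n41404 = n40436 := d31_2 (iv F186069) D41404 (iv D40436)
theorem F190581 : act 9 n41404 = n40892 := d34_2 (iv F186070) D41404 F188650
def n41405 : Q := act 4 n40336
theorem D41405 : act 4 n40336 = n41405 := rfl
theorem F190582 : act 0 n41405 = n41065 := d3_1 D41405 F189206 (iv F186071)
theorem F190583 : act 1 n41405 = n41171 := d11_1 D41405 F189459 (iv F186072)
theorem F190584 : act 2 n41405 = n40343 := d18_1 D41405 (iv D40343) (iv F186073)
theorem F190585 : act 5 n41405 = n41162 := d30_2 D40336 D41405 (iv D41162) (iv D40081) (iv F181247)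
theorem F190586 : act 6 n41405 = n40444 := d31_2 (iv F186074) D41405 (iv D40444)
theorem F190587 : act 8 n41405 = n40338 := d33_2 (iv F186075) D41405 (iv D40338)
def n41406 : Q := act 9 n40336
theorem D41406 : act 9 n40336 = n41406 := rfl
theorem F190588 : act 0 n41406 = n41068 := d8_1 D41406 (iv D41068) (iv F186071)
theorem F190589 : act 1 n41406 = n41174 := d16_1 D41406 (iv D41174) (iv F186072)
theorem F190590 : act 2 n41406 = n40345 := d23_1 D41406 (iv D40345) (iv F186073)
theorem F190591 : act 5 n41406 = n40337 := d38_1 D41406 (iv D40337) D40336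
theorem F190592 : act 6 n41406 = n40445 := d41_1 D41406 (iv D40445) (iv F186074)
def n41407 : Q := act 3 n40338
theorem D41407 : act 3 n40338 = n41407 := rfl
theorem F190593 : act 0 n41407 = n41071 := d2_1 D41407 F189220 (iv F186080)
theorem F190594 : act 1 n41407 = n41177 := d10_1 D41407 F189468 (iv F186081)
theorem F190595 : act 5 n41407 = n40340 := d25_2 (iv F186083) D41407 (iv D40340)
theorem F190596 : act 6 n41407 = n40446 := d26_2 (iv F186084) D41407 (iv D40446)
def n41408 : Q := act 9 n40338
theorem D41408 : act 9 n40338 = n41408 := rfl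
theorem F190597 : act 0 n41408 = n40901 := d8_1 D41408 F188672 (iv F186080)
theorem F190598 : act 1 n41408 = n41180 := d16_1 D41408 (iv D41180) (iv F186081)
theorem F190599 : act 2 n41408 = n40348 := d23_1 D41408 (iv D40348) (iv F186082)
theorem F190600 : act 4 n41408 = n40339 := d34_1 D41408 (iv D40339) D40338
theorem F190601 : act 5 n41408 = n40341 := d38_1 D41408 (iv D40341) (iv F186083)
theorem F190602 : act 6 n41408 = n40447 := d41_1 D41408 (iv D40447) (iv F186084)
def n41409 : Q := act 8 n40339
theorem D41409 : act 8 n40339 = n41409 := rfl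
theorem F190603 : act 0 n41409 = n40902 := d7_1 D41409 (iv D40902) (iv F186085)
theorem F190604 : act 1 n41409 = n41183 := d15_1 D41409 (iv D41183) (iv F186086)
theorem F190605 : act 2 n41409 = n40350 := d22_1 D41409 (iv D40350) (iv F186087)
theorem F190606 : act 3 n41409 = n40889 := d28_1 D41409 F188643 (iv F186088)
theorem F190607 : act 6 n41409 = n40448 := d40_1 D41409 (iv D40448) (iv F186090)
def n41410 : Q := act 2 n40340
theorem D41410 : act 2 n40340 = n41410 := rfl
theorem F190608 : act 0 n41410 = n40784 := d1_1 D41410 F188253 (iv F186091)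
theorem F190609 : act 3 n41410 = n40351 := d17_2 D40340 D41410 (iv D40351) (iv D39219) (iv F181261)
theorem F190610 : act 4 n41410 = n41410 := d18_2 F186093 D41410 (iv D41410)
theorem F190611 : act 6 n41410 = n40353 := d20_2 (iv F186094) D41410 (iv D40353)
theorem F190612 : act 8 n41410 = n41167 := d22_2 (iv F186095) D41410 (iv D41167)
theorem F190613 : act 1 n41168 = n41410 := d13_3 F190611 (iv F186166) (iv F189453)
theorem F190614 : act 9 n40525 = n41410 := d41_0 F190611 (iv F186167) D40525
def n41411 : Q := act 9 n40340
theorem D41411 : act 9 n40340 = n41411 := rfl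
theorem F190615 : act 0 n41411 = n40956 := d8_1 D41411 F188820 (iv F186091)
theorem F190616 : act 1 n41411 = n41252 := d16_1 D41411 (iv D41252) (iv F186092)
theorem F190617 : act 2 n41411 = n40525 := d23_1 D41411 F190614 (iv D41410)
theorem F190618 : act 3 n41411 = n40341 := d29_1 D41411 (iv D40341) D40340
theorem F190619 : act 4 n41411 = n41411 := d34_1 D41411 (iv D41411) F186093
theorem F190620 : act 6 n41411 = n40354 := d41_1 D41411 (iv D40354) (iv F186094)
theorem F190621 : act 8 n41250 = n41411 := d40_0 F190620 (iv F186175) D41250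
def n41412 : Q := act 8 n40341
theorem D41412 : act 8 n40341 = n41412 := rfl
theorem F190622 : act 0 n41412 = n40957 := d7_1 D41412 (iv D40957) (iv F186096)
theorem F190623 : act 1 n41412 = n41185 := d15_1 D41412 F189485 (iv F186097)
theorem F190624 : act 2 n41412 = n40352 := d22_1 D41412 (iv D40352) (iv F186098)
theorem F190625 : act 3 n41412 = n41250 := d28_1 D41412 F190621 F190618
theorem F190626 : act 4 n41412 = n40342 := d33_1 D41412 (iv D40342) (iv F186099)
theorem F190627 : act 6 n41412 = n40355 := d40_1 D41412 (iv D40355) (iv F186100)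
theorem F190628 : act 9 n41412 = n41169 := d44_2 D40341 D41412 (iv D41169) (iv D40086) (iv F181263)
def n41413 : Q := act 3 n40343
theorem D41413 : act 3 n40343 = n41413 := rfl
theorem F190629 : act 0 n41413 = n40756 := d2_1 D41413 (iv F190412) F190409
theorem F190630 : act 1 n41413 = n40514 := d10_1 D41413 (iv D40514) (iv F186107)
theorem F190631 : act 4 n41413 = n40523 := d24_2 D40343 D41413 F187091 (iv D39524) (iv F181271)
theorem F190632 : act 5 n41413 = n41170 := d25_2 (iv F186108) D41413 (iv D41170)
theorem F190633 : act 8 n41413 = n40346 := d28_2 (iv F186109) D41413 (iv D40346)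
theorem F190634 : act 6 n40521 = n41413 := d40_3 F190633 (iv F186123) D40521
def n41414 : Q := act 6 n40343
theorem D41414 : act 6 n40343 = n41414 := rfl
theorem F190635 : act 0 n41414 = n41062 := d5_1 D41414 (iv F190414) F190409
theorem F190636 : act 1 n41414 = n40515 := d13_1 D41414 (iv D40515) (iv F186107)
theorem F190637 : act 2 n41414 = n40444 := d20_1 D41414 (iv F190586) F190584
theorem F190638 : act 3 n41414 = n40521 := d26_1 D41414 F190634 (iv D41413)
theorem F190639 : act 4 n41414 = n40344 := d31_1 D41414 (iv D40344) D40343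
theorem F190640 : act 8 n41414 = n40347 := d40_2 (iv F186109) D41414 (iv D40347)
theorem F190641 : act 5 n40503 = n41414 := d37_5 F190640 F186130 F181345 (iv F182254) (iv F187015)
def n41415 : Q := act 9 n40343
theorem D41415 : act 9 n40343 = n41415 := rfl
theorem F190642 : act 1 n41415 = n40516 := d16_1 D41415 (iv D40516) (iv F186107)
theorem F190643 : act 4 n41415 = n40345 := d34_1 D41415 (iv D40345) D40343
theorem F190644 : act 5 n41415 = n41172 := d38_1 D41415 (iv D41172) (iv F186108)
def n41416 : Q := act 7 n40344
theorem D41416 : act 7 n40344 = n41416 := rfl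
theorem F190645 : act 0 n41416 = n40984 := d6_1 D41416 F188937 (iv F186110)
theorem F190646 : act 1 n41416 = n40517 := d14_1 D41416 (iv D40517) (iv F186111)
theorem F190647 : act 2 n41416 = n40374 := d21_1 D41416 F186300 (iv F186112)
theorem F190648 : act 3 n41416 = n40641 := d27_1 D41416 (iv D40641) (iv F186113)
theorem F190649 : act 5 n41416 = n40373 := d36_1 D41416 F186296 (iv F186114)
theorem F190650 : act 8 n41416 = n40349 := d42_2 (iv F186115) D41416 (iv D40349)
def n41417 : Q := act 9 n40344
theorem D41417 : act 9 n40344 = n41417 := rfl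
theorem F190651 : act 0 n41417 = n41063 := d8_1 D41417 (iv D41063) (iv F186110)
theorem F190652 : act 1 n41417 = n40518 := d16_1 D41417 (iv D40518) (iv F186111)
theorem F190653 : act 2 n41417 = n40445 := d23_1 D41417 (iv D40445) (iv F186112)
theorem F190654 : act 3 n41417 = n40642 := d29_1 D41417 (iv D40642) (iv F186113)
theorem F190655 : act 5 n41417 = n40443 := d38_1 D41417 (iv D40443) (iv F186114)
theorem F190656 : act 6 n41417 = n40345 := d41_1 D41417 (iv D40345) D40344
theorem F190657 : act 8 n41417 = n40779 := d44_1 D41417 (iv D40779) F183530 F181284 (iv F186115)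
def n41418 : Q := act 8 n40345
theorem D41418 : act 8 n40345 = n41418 := rfl
theorem F190658 : act 0 n41418 = n40904 := d7_1 D41418 (iv F190424) F190417
theorem F190659 : act 1 n41418 = n40519 := d15_1 D41418 (iv D40519) (iv F186116)
theorem F190660 : act 3 n41418 = n40643 := d28_1 D41418 (iv D40643) (iv F186117)
theorem F190661 : act 6 n41418 = n40779 := d40_1 D41418 (iv F190657) F190656
theorem F190662 : act 9 n41418 = n40350 := d44_2 D40345 D41418 (iv D40350) (iv D39217) (iv F181272)
def n41419 : Q := act 2 n40346
theorem D41419 : act 2 n40346 = n41419 := rfl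
theorem F190663 : act 0 n41419 = n40753 := d1_1 D41419 F188149 (iv F186119)
theorem F190664 : act 1 n41419 = n41165 := d9_1 D41419 F189444 (iv F186725) F186726 (iv F186120)
theorem F190665 : act 4 n41419 = n40510 := d18_2 (iv F186121) D41419 F187041
theorem F190666 : act 5 n41419 = n40351 := d19_2 (iv F186122) D41419 (iv D40351)
theorem F190667 : act 6 n41419 = n40508 := d20_2 F186123 D41419 F187032
theorem F190668 : act 9 n41419 = n40507 := d23_2 F186124 D41419 F187028
def n41420 : Q := act 7 n40347
theorem D41420 : act 7 n40347 = n41420 := rfl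
theorem F190669 : act 0 n41420 = n40986 := d6_1 D41420 F188947 (iv F186125)
theorem F190670 : act 1 n41420 = n40520 := d14_1 D41420 (iv D40520) (iv F186126)
theorem F190671 : act 2 n41420 = n40376 := d21_1 D41420 F186312 (iv F186127)
theorem F190672 : act 3 n41420 = n40426 := d27_1 D41420 F186611 (iv F186128)
theorem F190673 : act 4 n41420 = n40349 := d32_1 D41420 (iv D40349) (iv F186129)
theorem F190674 : act 5 n41420 = n40356 := d36_1 D41420 (iv D40356) (iv F186130)
theorem F190675 : act 9 n41420 = n40424 := d43_2 F186131 D41420 F186603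
def n41421 : Q := act 8 n40348
theorem D41421 : act 8 n40348 = n41421 := rfl
theorem F190676 : act 0 n41421 = n40903 := d7_1 D41421 (iv D40903) (iv F186132)
theorem F190677 : act 1 n41421 = n40521 := d15_1 D41421 (iv D40521) (iv F186133)
theorem F190678 : act 3 n41421 = n40515 := d28_1 D41421 F187067 (iv F186134)
theorem F190679 : act 4 n41421 = n40350 := d33_1 D41421 (iv D40350) (iv F186135)
theorem F190680 : act 6 n41421 = n40514 := d40_1 D41421 F187064 (iv F186137)
def n41422 : Q := act 5 n40352
theorem D41422 : act 5 n40352 = n41422 := rfl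
theorem F190681 : act 0 n41422 = n40958 := d4_1 D41422 (iv D40958) (iv F186154)
theorem F190682 : act 1 n41422 = n40506 := d12_1 D41422 F187025 (iv F186155)
theorem F190683 : act 3 n41422 = n40492 := d25_1 D41422 F186960 (iv F186156)
theorem F190684 : act 6 n41422 = n41164 := d35_2 (iv F186158) D41422 F189443 F184940 (iv F181366)
theorem F190685 : act 9 n41422 = n41186 := d38_2 (iv F186159) D41422 (iv D41186)
def n41423 : Q := act 4 n40357
theorem D41423 : act 4 n40357 = n41423 := rfl
theorem F190686 : act 0 n41423 = n41007 := d3_1 D41423 (iv D41007) (iv F186192)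
theorem F190687 : act 1 n41423 = n41240 := d11_1 D41423 F189599 (iv F186193)
theorem F190688 : act 2 n41423 = n40648 := d18_1 D41423 (iv D40648) (iv F186194)
theorem F190689 : act 3 n41423 = n40835 := d24_1 D41423 (iv D40835) F183932 (iv F181387) (iv F186195)
theorem F190690 : act 5 n41423 = n41423 := d30_2 D40357 D41423 (iv D41423) (iv D40357) F181373
theorem F190691 : act 6 n41423 = n40408 := d31_2 (iv F186196) D41423 (iv D40408)
theorem F190692 : act 7 n41423 = n40608 := d32_2 (iv F186197) D41423 (iv D40608)
theorem F190693 : act 9 n41423 = n40578 := d34_2 (iv F186198) D41423 (iv D40578)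
def n41424 : Q := act 8 n40357
theorem D41424 : act 8 n40357 = n41424 := rfl
theorem F190694 : act 0 n41424 = n41008 := d7_1 D41424 (iv D41008) (iv F186192)
theorem F190695 : act 1 n41424 = n41237 := d15_1 D41424 F189594 (iv F186193)
theorem F190696 : act 2 n41424 = n40649 := d22_1 D41424 (iv D40649) (iv F186194)
theorem F190697 : act 3 n41424 = n40359 := d28_1 D41424 (iv D40359) (iv F186195)
theorem F190698 : act 6 n41424 = n40409 := d40_1 D41424 (iv D40409) (iv F186196)
theorem F190699 : act 7 n41424 = n40609 := d42_1 D41424 (iv D40609) (iv F186197)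
def n41425 : Q := act 5 n40358
theorem D41425 : act 5 n40358 = n41425 := rfl
theorem F190700 : act 0 n41425 = n41009 := d4_1 D41425 (iv D41009) (iv F186199)
theorem F190701 : act 1 n41425 = n40916 := d12_1 D41425 F188706 (iv F186200)
theorem F190702 : act 2 n41425 = n40650 := d19_1 D41425 (iv D40650) (iv F186201)
theorem F190703 : act 3 n41425 = n40360 := d25_1 D41425 (iv D40360) (iv F186202)
theorem F190704 : act 6 n41425 = n41182 := d35_2 (iv F186204) D41425 F189478 F184961 F181383
theorem F190705 : act 7 n41425 = n40610 := d36_2 (iv F186205) D41425 (iv D40610)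
theorem F190706 : act 9 n41425 = n40872 := d38_2 (iv F186206) D41425 F188578
def n41426 : Q := act 5 n40359
theorem D41426 : act 5 n40359 = n41426 := rfl
theorem F190707 : act 0 n41426 = n41010 := d4_1 D41426 (iv D41010) (iv F186207)
theorem F190708 : act 1 n41426 = n40920 := d12_1 D41426 F188714 (iv F186208)
theorem F190709 : act 2 n41426 = n40364 := d19_1 D41426 (iv D40364) (iv F186209)
theorem F190710 : act 7 n41426 = n40611 := d36_2 (iv F186212) D41426 (iv D40611)
theorem F190711 : act 8 n41426 = n40360 := d37_2 D40359 D41426 (iv D40360) (iv D39233) D39232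
def n41427 : Q := act 9 n40359
theorem D41427 : act 9 n40359 = n41427 := rfl
theorem F190712 : act 0 n41427 = n41011 := d8_1 D41427 (iv D41011) (iv F186207)
theorem F190713 : act 1 n41427 = n41242 := d16_1 D41427 (iv D41242) (iv F186208)
theorem F190714 : act 2 n41427 = n40365 := d23_1 D41427 (iv D40365) (iv F186209)
theorem F190715 : act 4 n41427 = n40837 := d34_1 D41427 (iv D40837) (iv F186210)
theorem F190716 : act 6 n41427 = n40413 := d41_1 D41427 (iv D40413) (iv F186211)
theorem F190717 : act 7 n41427 = n40612 := d43_1 D41427 (iv D40612) (iv F186212)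
theorem F190718 : act 8 n41427 = n40582 := d44_1 D41427 (iv D40582) (iv D39469) (iv F181390) D40359
def n41428 : Q := act 4 n40360
theorem D41428 : act 4 n40360 = n41428 := rfl
theorem F190719 : act 0 n41428 = n41012 := d3_1 D41428 (iv D41012) (iv F186213)
theorem F190720 : act 1 n41428 = n40925 := d11_1 D41428 F188729 (iv F186214)
theorem F190721 : act 2 n41428 = n40366 := d18_1 D41428 (iv D40366) (iv F186215)
theorem F190722 : act 5 n41428 = n40363 := d30_2 D40360 D41428 (iv D40363) (iv D39236) (iv F181394)
theorem F190723 : act 7 n41428 = n40613 := d32_2 (iv F186216) D41428 (iv D40613)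
def n41429 : Q := act 6 n40360
theorem D41429 : act 6 n40360 = n41429 := rfl
theorem F190724 : act 0 n41429 = n41013 := d5_1 D41429 (iv D41013) (iv F186213)
theorem F190725 : act 1 n41429 = n40893 := d13_1 D41429 F188654 (iv F186214)
theorem F190726 : act 2 n41429 = n40367 := d20_1 D41429 (iv D40367) (iv F186215)
theorem F190727 : act 3 n41429 = n41182 := d26_1 D41429 (iv F190704) F190703
theorem F190728 : act 5 n41429 = n40362 := d35_1 D41429 (iv D40362) (iv D39234) (iv F181395) D40360
theorem F190729 : act 7 n41429 = n40884 := d39_2 (iv F186216) D41429 (iv D40884) F184064 (iv F182898)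
theorem F190730 : act 9 n41020 = n41429 := d43_0 F190729 F188628 D41020
def n41430 : Q := act 9 n40360
theorem D41430 : act 9 n40360 = n41430 := rfl
theorem F190731 : act 0 n41430 = n40620 := d8_1 D41430 F187607 (iv F186213)
theorem F190732 : act 1 n41430 = n40928 := d16_1 D41430 (iv D40928) (iv F186214)
theorem F190733 : act 2 n41430 = n40368 := d23_1 D41430 (iv D40368) (iv F186215)
theorem F190734 : act 3 n41430 = n40872 := d29_1 D41430 (iv F190706) F190703
theorem F190735 : act 5 n41430 = n40361 := d38_1 D41430 (iv D40361) D40360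
theorem F190736 : act 6 n41430 = n41020 := d41_1 D41430 F190730 (iv D41429)
theorem F190737 : act 7 n41430 = n40558 := d43_1 D41430 F187316 (iv F186216)
def n41431 : Q := act 3 n40363
theorem D41431 : act 3 n40363 = n41431 := rfl
theorem F190738 : act 0 n41431 = n41014 := d2_1 D41431 (iv D41014) (iv F186233)
theorem F190739 : act 1 n41431 = n40948 := d10_1 D41431 F188781 (iv F186234)
theorem F190740 : act 4 n41431 = n41431 := d24_2 D40363 D41431 (iv D41431) (iv D40363) F181416
theorem F190741 : act 6 n41431 = n41431 := d26_2 F186236 D41431 (iv D41431)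
theorem F190742 : act 7 n41431 = n40614 := d27_2 (iv F186237) D41431 (iv D40614)
theorem F190743 : act 8 n41431 = n40802 := d28_2 (iv F186238) D41431 F188351
def n41432 : Q := act 4 n40364
theorem D41432 : act 4 n40364 = n41432 := rfl
theorem F190744 : act 0 n41432 = n41015 := d3_1 D41432 (iv D41015) (iv F186239)
theorem F190745 : act 1 n41432 = n40680 := d11_1 D41432 (iv D40680) (iv F186240)
theorem F190746 : act 5 n41432 = n40838 := d30_2 D40364 D41432 (iv D40838) (iv D39748) (iv F181430)
theorem F190747 : act 7 n41432 = n40615 := d32_2 (iv F186242) D41432 (iv D40615)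
theorem F190748 : act 8 n41432 = n40366 := d33_2 (iv F186243) D41432 (iv D40366)
def n41433 : Q := act 6 n40364
theorem D41433 : act 6 n40364 = n41433 := rfl
theorem F190749 : act 0 n41433 = n41016 := d5_1 D41433 (iv D41016) (iv F186239)
theorem F190750 : act 1 n41433 = n40681 := d13_1 D41433 (iv D40681) (iv F186240)
theorem F190751 : act 3 n41433 = n40659 := d26_1 D41433 (iv D40659) (iv F186241)
theorem F190752 : act 5 n41433 = n40422 := d35_1 D41433 (iv D40422) (iv D39295) (iv F181431) D40364
theorem F190753 : act 8 n41433 = n40367 := d40_2 (iv F186243) D41433 (iv D40367)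
def n41434 : Q := act 9 n40364
theorem D41434 : act 9 n40364 = n41434 := rfl
theorem F190754 : act 0 n41434 = n41017 := d8_1 D41434 (iv D41017) (iv F186239)
theorem F190755 : act 1 n41434 = n40682 := d16_1 D41434 (iv D40682) (iv F186240)
theorem F190756 : act 3 n41434 = n40660 := d29_1 D41434 (iv D40660) (iv F186241)
theorem F190757 : act 5 n41434 = n40365 := d38_1 D41434 (iv D40365) D40364
theorem F190758 : act 7 n41434 = n40617 := d43_1 D41434 (iv D40617) (iv F186242)
def n41435 : Q := act 3 n40366
theorem D41435 : act 3 n40366 = n41435 := rfl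
theorem F190759 : act 0 n41435 = n41018 := d2_1 D41435 (iv D41018) (iv F186251)
theorem F190760 : act 1 n41435 = n40683 := d10_1 D41435 (iv D40683) (iv F186252)
theorem F190761 : act 4 n41435 = n40661 := d24_2 D40366 D41435 (iv D40661) (iv D39543) (iv F181435)
theorem F190762 : act 5 n41435 = n40371 := d25_2 (iv F186253) D41435 (iv D40371)
theorem F190763 : act 7 n41435 = n40618 := d27_2 (iv F186254) D41435 (iv D40618)
def n41436 : Q := act 6 n40366
theorem D41436 : act 6 n40366 = n41436 := rfl
theorem F190764 : act 0 n41436 = n41019 := d5_1 D41436 (iv D41019) (iv F186251)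
theorem F190765 : act 1 n41436 = n40684 := d13_1 D41436 (iv D40684) (iv F186252)
theorem F190766 : act 4 n41436 = n40367 := d31_1 D41436 (iv D40367) D40366
theorem F190767 : act 5 n41436 = n41436 := d35_1 D41436 (iv D41436) F186253 F181467 (iv F186253)
def n41437 : Q := act 7 n40367
theorem D41437 : act 7 n40367 = n41437 := rfl
theorem F190768 : act 0 n41437 = n41020 := d6_1 D41437 (iv D41020) (iv F186255)
theorem F190769 : act 1 n41437 = n40686 := d14_1 D41437 (iv D40686) (iv F186256)
theorem F190770 : act 2 n41437 = n40884 := d21_1 D41437 (iv F190729) F190726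
theorem F190771 : act 3 n41437 = n40664 := d27_1 D41437 (iv D40664) (iv F186257)
theorem F190772 : act 5 n41437 = n40369 := d36_1 D41437 (iv D40369) (iv F186258)
theorem F190773 : act 6 n41437 = n40620 := d39_1 D41437 (iv D40620) (iv D39504) (iv F181436) D40367
theorem F190774 : act 9 n41013 = n41437 := d41_0 F190773 F187607 D41013
def n41438 : Q := act 9 n40367
theorem D41438 : act 9 n40367 = n41438 := rfl
theorem F190775 : act 0 n41438 = n40884 := d8_1 D41438 F188628 (iv F186255)
theorem F190776 : act 1 n41438 = n40687 := d16_1 D41438 (iv D40687) (iv F186256)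
theorem F190777 : act 2 n41438 = n41020 := d23_1 D41438 F190730 F190726
theorem F190778 : act 3 n41438 = n40665 := d29_1 D41438 (iv D40665) (iv F186257)
theorem F190779 : act 5 n41438 = n40370 := d38_1 D41438 (iv D40370) (iv F186258)
theorem F190780 : act 6 n41438 = n40368 := d41_1 D41438 (iv D40368) D40367
theorem F190781 : act 7 n41438 = n41013 := d43_1 D41438 F190774 (iv D41437)
def n41439 : Q := act 8 n40368
theorem D41439 : act 8 n40368 = n41439 := rfl
theorem F190782 : act 0 n41439 = n40881 := d7_1 D41439 F188617 (iv F186259)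
theorem F190783 : act 1 n41439 = n40688 := d15_1 D41439 (iv D40688) (iv F186260)
theorem F190784 : act 3 n41439 = n40666 := d28_1 D41439 (iv D40666) (iv F186261)
theorem F190785 : act 5 n41439 = n40591 := d37_1 D41439 (iv D40591) F182787 (iv F181443) (iv F186262)
theorem F190786 : act 7 n41439 = n40621 := d42_1 D41439 (iv D40621) (iv F186263)
def n41440 : Q := act 2 n40371
theorem D41440 : act 2 n40371 = n41440 := rfl
theorem F190787 : act 0 n41440 = n41021 := d1_1 D41440 (iv D41021) (iv F186280)
theorem F190788 : act 4 n41440 = n40372 := d18_2 (iv F186282) D41440 (iv D40372)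
theorem F190789 : act 6 n41440 = n41440 := d20_2 F186283 D41440 (iv D41440)
theorem F190790 : act 7 n41440 = n40622 := d21_2 (iv F186284) D41440 (iv D40622)
theorem F190791 : act 8 n41440 = n40785 := d22_2 (iv F186285) D41440 F188257
def n41441 : Q := act 9 n40373
theorem D41441 : act 9 n40373 = n41441 := rfl
theorem F190792 : act 0 n41441 = n40985 := d8_1 D41441 (iv D40985) (iv F186292)
theorem F190793 : act 2 n41441 = n40375 := d23_1 D41441 (iv D40375) (iv F186293)
theorem F190794 : act 4 n41441 = n40413 := d34_1 D41441 (iv D40413) (iv F186294)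
theorem F190795 : act 6 n41441 = n40837 := d41_1 D41441 (iv D40837) (iv F186295)
theorem F190796 : act 7 n41441 = n40443 := d43_1 D41441 (iv D40443) (iv F186296)
theorem F190797 : act 8 n41441 = n40963 := d44_1 D41441 (iv D40963) (iv D39874) (iv F181481) D40373
def n41442 : Q := act 4 n40374
theorem D41442 : act 4 n40374 = n41442 := rfl
theorem F190798 : act 0 n41442 = n40988 := d3_1 D41442 (iv D40988) (iv F186297)
theorem F190799 : act 1 n41442 = n40866 := d11_1 D41442 (iv D40866) (iv F186298)
theorem F190800 : act 5 n41442 = n40421 := d30_2 D40374 D41442 (iv D40421) (iv D39295) (iv F181485)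
theorem F190801 : act 7 n41442 = n40444 := d32_2 (iv F186300) D41442 (iv D40444)
theorem F190802 : act 8 n41442 = n40376 := d33_2 (iv F186301) D41442 (iv D40376)
def n41443 : Q := act 6 n40374
theorem D41443 : act 6 n40374 = n41443 := rfl
theorem F190803 : act 0 n41443 = n40989 := d5_1 D41443 (iv D40989) (iv F186297)
theorem F190804 : act 1 n41443 = n40867 := d13_1 D41443 (iv D40867) (iv F186298)
theorem F190805 : act 3 n41443 = n40929 := d26_1 D41443 F188745 (iv F186299)
theorem F190806 : act 5 n41443 = n40839 := d35_1 D41443 (iv D40839) (iv D39748) (iv F181486) D40374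
theorem F190807 : act 8 n41443 = n40377 := d40_2 (iv F186301) D41443 (iv D40377)
def n41444 : Q := act 9 n40374
theorem D41444 : act 9 n40374 = n41444 := rfl
theorem F190808 : act 0 n41444 = n40990 := d8_1 D41444 (iv D40990) (iv F186297)
theorem F190809 : act 1 n41444 = n40868 := d16_1 D41444 (iv D40868) (iv F186298)
theorem F190810 : act 3 n41444 = n40922 := d29_1 D41444 F188722 (iv F186299)
theorem F190811 : act 5 n41444 = n40375 := d38_1 D41444 (iv D40375) D40374
theorem F190812 : act 7 n41444 = n40445 := d43_1 D41444 (iv D40445) (iv F186300)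
theorem F190813 : act 8 n41444 = n40913 := d44_1 D41444 (iv D40913) F184132 (iv F181492) (iv F186301)
def n41445 : Q := act 3 n40376
theorem D41445 : act 3 n40376 = n41445 := rfl
theorem F190814 : act 0 n41445 = n40991 := d2_1 D41445 (iv D40991) (iv F186309)
theorem F190815 : act 1 n41445 = n40869 := d10_1 D41445 (iv D40869) (iv F186310)
theorem F190816 : act 4 n41445 = n40828 := d24_2 D40376 D41445 F188449 F184155 (iv F181490)
theorem F190817 : act 5 n41445 = n40378 := d25_2 (iv F186311) D41445 (iv D40378)
theorem F190818 : act 7 n41445 = n40446 := d27_2 (iv F186312) D41445 (iv D40446)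
theorem F190819 : act 9 n41445 = n40914 := d29_2 (iv F186313) D41445 (iv D40914)
theorem F190820 : act 2 n40959 = n41445 := d19_3 F190817 (iv F186326) (iv F188826)
def n41446 : Q := act 6 n40376
theorem D41446 : act 6 n40376 = n41446 := rfl
theorem F190821 : act 0 n41446 = n40992 := d5_1 D41446 (iv D40992) (iv F186309)
theorem F190822 : act 1 n41446 = n40870 := d13_1 D41446 (iv D40870) (iv F186310)
theorem F190823 : act 4 n41446 = n40377 := d31_1 D41446 (iv D40377) D40376
theorem F190824 : act 5 n41446 = n41446 := d35_1 D41446 (iv D41446) F186311 F181501 (iv F186311)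
theorem F190825 : act 9 n41446 = n40915 := d41_2 (iv F186313) D41446 (iv D40915)
def n41447 : Q := act 5 n40379
theorem D41447 : act 5 n40379 = n41447 := rfl
theorem F190826 : act 0 n41447 = n40381 := d4_1 D41447 (iv D40381) (iv F186327)
theorem F190827 : act 1 n41447 = n40459 := d12_1 D41447 (iv D40459) (iv F186328)
theorem F190828 : act 2 n41447 = n40588 := d19_1 D41447 F187457 (iv F186329)
theorem F190829 : act 3 n41447 = n40454 := d25_1 D41447 (iv D40454) (iv F186330)
theorem F190830 : act 4 n41447 = n40583 := d30_1 D41447 F187434 F182769 (iv F181525) (iv F186331)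
theorem F190831 : act 6 n41447 = n40572 := d35_2 D40379 D41447 (iv D40572) (iv D39461) (iv F181518)
theorem F190832 : act 7 n41447 = n40451 := d36_2 (iv F186332) D41447 (iv D40451)
theorem F190833 : act 9 n41447 = n40397 := d38_2 (iv F186334) D41447 (iv D40397)
def n41448 : Q := act 5 n40380
theorem D41448 : act 5 n40380 = n41448 := rfl
theorem F190834 : act 0 n41448 = n40454 := d4_1 D41448 (iv D40454) (iv F186335)
theorem F190835 : act 1 n41448 = n40383 := d12_1 D41448 (iv D40383) (iv F186336)
theorem F190836 : act 2 n41448 = n40710 := d19_1 D41448 (iv D40710) (iv F186337)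
theorem F190837 : act 3 n41448 = n40381 := d25_1 D41448 (iv D40381) (iv F186338)
theorem F190838 : act 6 n41448 = n40574 := d35_2 D40380 D41448 (iv D40574) (iv D39463) (iv F181534)
theorem F190839 : act 7 n41448 = n40452 := d36_2 (iv F186340) D41448 (iv D40452)
theorem F190840 : act 9 n41448 = n40400 := d38_2 (iv F186342) D41448 (iv D40400)
def n41449 : Q := act 8 n40381
theorem D41449 : act 8 n40381 = n41449 := rfl
theorem F190841 : act 1 n41449 = n40384 := d15_1 D41449 (iv D40384) (iv F186343)
theorem F190842 : act 2 n41449 = n40645 := d22_1 D41449 (iv D40645) (iv F186344)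
theorem F190843 : act 4 n41449 = n40962 := d33_1 D41449 (iv D40962) (iv F186345)
theorem F190844 : act 6 n41449 = n40576 := d40_1 D41449 (iv D40576) (iv F186346)
theorem F190845 : act 7 n41449 = n40453 := d42_1 D41449 (iv D40453) (iv F186347)
def n41450 : Q := act 5 n40382
theorem D41450 : act 5 n40382 = n41450 := rfl
theorem F190846 : act 0 n41450 = n40452 := d4_1 D41450 (iv D40452) (iv F186349)
theorem F190847 : act 1 n41450 = n40385 := d12_1 D41450 (iv D40385) (iv F186350)
theorem F190848 : act 2 n41450 = n40646 := d19_1 D41450 (iv D40646) (iv F186351)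
theorem F190849 : act 3 n41450 = n40451 := d25_1 D41450 (iv D40451) (iv F186352)
theorem F190850 : act 4 n41450 = n40941 := d30_1 D41450 F188767 F184232 F181556 (iv F186353)
theorem F190851 : act 6 n41450 = n40699 := d35_2 (iv F186354) D41450 F187929 F183229 (iv F181547)
theorem F190852 : act 7 n41450 = n40454 := d36_2 (iv F186355) D41450 (iv D40454)
theorem F190853 : act 9 n41450 = n40483 := d38_2 F186356 D41450 (iv D40483)
def n41451 : Q := act 4 n40383
theorem D41451 : act 4 n40383 = n41451 := rfl
theorem F190854 : act 0 n41451 = n40969 := d3_1 D41451 (iv D40969) (iv F186357)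
theorem F190855 : act 2 n41451 = n40672 := d18_1 D41451 (iv D40672) (iv F186358)
theorem F190856 : act 3 n41451 = n40717 := d24_1 D41451 (iv D40717) F183295 (iv F181567) (iv F186359)
theorem F190857 : act 5 n41451 = n40529 := d30_2 D40383 D41451 (iv D40529) (iv D39412) (iv F181561)
theorem F190858 : act 6 n41451 = n40578 := d31_2 (iv F186360) D41451 (iv D40578)
theorem F190859 : act 7 n41451 = n40457 := d32_2 (iv F186361) D41451 (iv D40457)
theorem F190860 : act 9 n41451 = n40408 := d34_2 (iv F186362) D41451 (iv D40408)
def n41452 : Q := act 8 n40383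
theorem D41452 : act 8 n40383 = n41452 := rfl
theorem F190861 : act 0 n41452 = n40970 := d7_1 D41452 (iv D40970) (iv F186357)
theorem F190862 : act 2 n41452 = n40673 := d22_1 D41452 (iv D40673) (iv F186358)
theorem F190863 : act 3 n41452 = n40384 := d28_1 D41452 (iv D40384) (iv F186359)
theorem F190864 : act 5 n41452 = n41075 := d37_1 D41452 (iv D41075) (iv D39984) (iv F181563) D40383
theorem F190865 : act 6 n41452 = n40579 := d40_1 D41452 (iv D40579) (iv F186360)
theorem F190866 : act 7 n41452 = n40458 := d42_1 D41452 (iv D40458) (iv F186361)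
def n41453 : Q := act 5 n40384
theorem D41453 : act 5 n40384 = n41453 := rfl
theorem F190867 : act 0 n41453 = n40971 := d4_1 D41453 (iv D40971) (iv F186363)
theorem F190868 : act 2 n41453 = n40388 := d19_1 D41453 (iv D40388) (iv F186364)
theorem F190869 : act 3 n41453 = n41075 := d25_1 D41453 (iv F190864) F190863
theorem F190870 : act 7 n41453 = n40460 := d36_2 (iv F186367) D41453 (iv D40460)
theorem F190871 : act 8 n41453 = n40385 := d37_2 D40384 D41453 (iv D40385) (iv D39260) D39259
def n41454 : Q := act 9 n40384
theorem D41454 : act 9 n40384 = n41454 := rfl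
theorem F190872 : act 0 n41454 = n40972 := d8_1 D41454 (iv D40972) (iv F186363)
theorem F190873 : act 2 n41454 = n40389 := d23_1 D41454 (iv D40389) (iv F186364)
theorem F190874 : act 4 n41454 = n40963 := d34_1 D41454 (iv D40963) (iv F186365)
theorem F190875 : act 6 n41454 = n40582 := d41_1 D41454 (iv D40582) (iv F186366)
theorem F190876 : act 7 n41454 = n40461 := d43_1 D41454 (iv D40461) (iv F186367)
theorem F190877 : act 8 n41454 = n40413 := d44_1 D41454 (iv D40413) (iv D39287) (iv F181570) D40384
def n41455 : Q := act 4 n40385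
theorem D41455 : act 4 n40385 = n41455 := rfl
theorem F190878 : act 0 n41455 = n40973 := d3_1 D41455 (iv D40973) (iv F186368)
theorem F190879 : act 1 n41455 = n40941 := d11_1 D41455 (iv F190850) F190847
theorem F190880 : act 2 n41455 = n40390 := d18_1 D41455 (iv D40390) (iv F186369)
theorem F190881 : act 3 n41455 = n40738 := d24_1 D41455 F188094 (iv F188070) F188071 (iv F186370)
theorem F190882 : act 5 n41455 = n40387 := d30_2 D40385 D41455 (iv D40387) (iv D39262) (iv F181574)
theorem F190883 : act 7 n41455 = n40462 := d32_2 (iv F186371) D41455 (iv D40462)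
theorem F190884 : act 9 n41455 = n40737 := d34_2 (iv F186372) D41455 F188088
theorem F190885 : act 6 n40851 = n41455 := d41_3 F190884 F188090 D40851
def n41456 : Q := act 6 n40385
theorem D41456 : act 6 n40385 = n41456 := rfl
theorem F190886 : act 0 n41456 = n40711 := d5_1 D41456 F187975 (iv F186368)
theorem F190887 : act 1 n41456 = n40699 := d13_1 D41456 (iv F190851) F190847
theorem F190888 : act 2 n41456 = n40391 := d20_1 D41456 (iv D40391) (iv F186369)
theorem F190889 : act 3 n41456 = n40695 := d26_1 D41456 F187912 (iv F186370)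
theorem F190890 : act 4 n41456 = n40851 := d31_1 D41456 F190885 (iv D41455)
theorem F190891 : act 5 n41456 = n40386 := d35_1 D41456 (iv D40386) (iv D39261) (iv F181575) D40385
theorem F190892 : act 9 n41456 = n40692 := d41_2 (iv F186372) D41456 F187897
theorem F190893 : act 7 n40761 = n41456 := d43_3 F190892 F187898 D40761
def n41457 : Q := act 4 n40388
theorem D41457 : act 4 n40388 = n41457 := rfl
theorem F190894 : act 0 n41457 = n40974 := d3_1 D41457 (iv D40974) (iv F186389)
theorem F190895 : act 1 n41457 = n40658 := d11_1 D41457 (iv D40658) (iv F186390)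
theorem F190896 : act 5 n41457 = n40725 := d30_2 D40388 D41457 F188026 F183331 (iv F181597)
theorem F190897 : act 7 n41457 = n40469 := d32_2 (iv F186392) D41457 (iv D40469)
theorem F190898 : act 8 n41457 = n40390 := d33_2 (iv F186393) D41457 (iv D40390)
theorem F190899 : act 3 n40766 = n41457 := d28_3 F190898 (iv F186405) (iv F188190)
def n41458 : Q := act 6 n40388
theorem D41458 : act 6 n40388 = n41458 := rfl
theorem F190900 : act 0 n41458 = n40975 := d5_1 D41458 (iv D40975) (iv F186389)
theorem F190901 : act 1 n41458 = n40659 := d13_1 D41458 (iv D40659) (iv F186390)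
theorem F190902 : act 3 n41458 = n40681 := d26_1 D41458 (iv D40681) (iv F186391)
theorem F190903 : act 5 n41458 = n40586 := d35_1 D41458 (iv D40586) (iv D39473) (iv F181598) D40388
theorem F190904 : act 8 n41458 = n40391 := d40_2 (iv F186393) D41458 (iv D40391)
def n41459 : Q := act 9 n40388
theorem D41459 : act 9 n40388 = n41459 := rfl
theorem F190905 : act 0 n41459 = n40976 := d8_1 D41459 (iv D40976) (iv F186389)
theorem F190906 : act 1 n41459 = n40660 := d16_1 D41459 (iv D40660) (iv F186390)
theorem F190907 : act 3 n41459 = n40682 := d29_1 D41459 (iv D40682) (iv F186391)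
theorem F190908 : act 5 n41459 = n40389 := d38_1 D41459 (iv D40389) D40388
theorem F190909 : act 7 n41459 = n40471 := d43_1 D41459 (iv D40471) (iv F186392)
def n41460 : Q := act 6 n40390
theorem D41460 : act 6 n40390 = n41460 := rfl
theorem F190910 : act 0 n41460 = n40977 := d5_1 D41460 (iv D40977) (iv F186401)
theorem F190911 : act 1 n41460 = n40662 := d13_1 D41460 (iv D40662) (iv F186402)
theorem F190912 : act 2 n41460 = n40851 := d20_1 D41460 F190885 F190880
theorem F190913 : act 3 n41460 = n40788 := d26_1 D41460 (iv D40788) F186405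
theorem F190914 : act 4 n41460 = n40391 := d31_1 D41460 (iv D40391) D40390
theorem F190915 : act 5 n41460 = n40789 := d35_1 D41460 (iv D40789) (iv D39682) (iv F181636) (iv F186403)
theorem F190916 : act 9 n40850 = n41460 := d38_0 F190915 F188281 (iv F188514)
def n41461 : Q := act 9 n40390
theorem D41461 : act 9 n40390 = n41461 := rfl
theorem F190917 : act 0 n41461 = n40978 := d8_1 D41461 (iv D40978) (iv F186401)
theorem F190918 : act 1 n41461 = n40663 := d16_1 D41461 (iv D40663) (iv F186402)
theorem F190919 : act 2 n41461 = n40737 := d23_1 D41461 (iv F190884) F190880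
theorem F190920 : act 3 n41461 = n40746 := d29_1 D41461 F188125 F186405
theorem F190921 : act 4 n41461 = n40392 := d34_1 D41461 (iv D40392) D40390
theorem F190922 : act 5 n41461 = n40395 := d38_1 D41461 (iv D40395) (iv F186403)
theorem F190923 : act 6 n41461 = n40850 := d41_1 D41461 F190916 (iv D41460)
theorem F190924 : act 7 n41461 = n40474 := d43_1 D41461 (iv D40474) (iv F186404)
def n41462 : Q := act 7 n40391
theorem D41462 : act 7 n40391 = n41462 := rfl
theorem F190925 : act 0 n41462 = n40979 := d6_1 D41462 (iv D40979) (iv F186406)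
theorem F190926 : act 1 n41462 = n40664 := d14_1 D41462 (iv D40664) (iv F186407)
theorem F190927 : act 2 n41462 = n40761 := d21_1 D41462 F190893 F190888
theorem F190928 : act 3 n41462 = n40686 := d27_1 D41462 (iv D40686) (iv F186408)
theorem F190929 : act 5 n41462 = n40393 := d36_1 D41462 (iv D40393) (iv F186409)
theorem F190930 : act 6 n41462 = n40475 := d39_1 D41462 (iv D40475) (iv D39348) (iv F181603) D40391
theorem F190931 : act 9 n40755 = n41462 := d38_0 F190929 (iv F186423) D40755
def n41463 : Q := act 9 n40391
theorem D41463 : act 9 n40391 = n41463 := rfl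
theorem F190932 : act 0 n41463 = n40817 := d8_1 D41463 F188414 (iv F186406)
theorem F190933 : act 1 n41463 = n40665 := d16_1 D41463 (iv D40665) (iv F186407)
theorem F190934 : act 2 n41463 = n40692 := d23_1 D41463 (iv F190892) F190888
theorem F190935 : act 3 n41463 = n40687 := d29_1 D41463 (iv D40687) (iv F186408)
theorem F190936 : act 4 n41463 = n40850 := d34_1 D41463 F190916 F190914
theorem F190937 : act 5 n41463 = n40394 := d38_1 D41463 (iv D40394) (iv F186409)
theorem F190938 : act 6 n41463 = n40392 := d41_1 D41463 (iv D40392) D40391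
theorem F190939 : act 7 n41463 = n40755 := d43_1 D41463 F190931 (iv D41462)
def n41464 : Q := act 8 n40392
theorem D41464 : act 8 n40392 = n41464 := rfl
theorem F190940 : act 0 n41464 = n40980 := d7_1 D41464 (iv D40980) (iv F186410)
theorem F190941 : act 1 n41464 = n40666 := d15_1 D41464 (iv D40666) (iv F186411)
theorem F190942 : act 2 n41464 = n41098 := d22_1 D41464 (iv D41098) (iv F186412)
theorem F190943 : act 3 n41464 = n40688 := d28_1 D41464 (iv D40688) (iv F186413)
theorem F190944 : act 5 n41464 = n40429 := d37_1 D41464 (iv D40429) F181812 (iv F181611) (iv F186414)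
theorem F190945 : act 7 n41464 = n40477 := d42_1 D41464 (iv D40477) (iv F186415)
def n41465 : Q := act 5 n40396
theorem D41465 : act 5 n40396 = n41465 := rfl
theorem F190946 : act 0 n41465 = n40400 := d4_1 D41465 (iv D40400) (iv F186440)
theorem F190947 : act 1 n41465 = n40464 := d12_1 D41465 F186816 (iv F186441)
theorem F190948 : act 2 n41465 = n41184 := d19_1 D41465 (iv D41184) (iv F186442)
theorem F190949 : act 3 n41465 = n40397 := d25_1 D41465 (iv D40397) (iv F186443)
theorem F190950 : act 4 n41465 = n40940 := d30_1 D41465 F188765 F184229 (iv F182016) (iv F186444)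
theorem F190951 : act 6 n41465 = n40773 := d35_2 D40396 D41465 F188214 F183511 (iv F181652)
theorem F190952 : act 7 n41465 = n40483 := d36_2 (iv F186445) D41465 (iv D40483)
theorem F190953 : act 9 n41465 = n40454 := d38_2 (iv F186447) D41465 (iv D40454)
def n41466 : Q := act 8 n40397
theorem D41466 : act 8 n40397 = n41466 := rfl
theorem F190954 : act 0 n41466 = n40402 := d7_1 D41466 (iv D40402) (iv F186448)
theorem F190955 : act 1 n41466 = n41022 := d15_1 D41466 (iv D41022) (iv F186449)
theorem F190956 : act 2 n41466 = n40705 := d22_1 D41466 F187957 (iv F186450)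
theorem F190957 : act 4 n41466 = n40823 := d33_1 D41466 F188433 (iv F186451)
theorem F190958 : act 6 n41466 = n40776 := d40_1 D41466 F188225 (iv F186452)
theorem F190959 : act 7 n41466 = n40484 := d42_1 D41466 (iv D40484) (iv F186453)
def n41467 : Q := act 5 n40398
theorem D41467 : act 5 n40398 = n41467 := rfl
theorem F190960 : act 0 n41467 = n40403 := d4_1 D41467 (iv D40403) (iv F186454)
theorem F190961 : act 1 n41467 = n40500 := d12_1 D41467 F186995 (iv F186455)
theorem F190962 : act 2 n41467 = n40664 := d19_1 D41467 F187775 (iv F186456)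
theorem F190963 : act 3 n41467 = n40493 := d25_1 D41467 F186964 (iv F186457)
theorem F190964 : act 4 n41467 = n41131 := d30_1 D41467 F189366 F184838 (iv F181672) (iv F186458)
theorem F190965 : act 6 n41467 = n41161 := d35_2 (iv F186459) D41467 F189438 F184930 (iv F181665)
theorem F190966 : act 7 n41467 = n40485 := d36_2 (iv F186460) D41467 (iv D40485)
theorem F190967 : act 9 n41467 = n40489 := d38_2 (iv F186461) D41467 (iv D40489)
def n41468 : Q := act 5 n40399
theorem D41468 : act 5 n40399 = n41468 := rfl
theorem F190968 : act 0 n41468 = n41184 := d4_1 D41468 (iv D41184) (iv F186462)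
theorem F190969 : act 1 n41468 = n40689 := d12_1 D41468 (iv D40689) (iv F186463)
theorem F190970 : act 2 n41468 = n40400 := d19_1 D41468 (iv D40400) (iv F186464)
theorem F190971 : act 3 n41468 = n41037 := d25_1 D41468 F189113 (iv F186465)
theorem F190972 : act 6 n41468 = n41113 := d35_2 D40399 D41468 F189326 F184793 (iv F181681)
theorem F190973 : act 7 n41468 = n40486 := d36_2 (iv F186467) D41468 (iv D40486)
theorem F190974 : act 9 n41468 = n40710 := d38_2 (iv F186469) D41468 (iv D40710)
def n41469 : Q := act 8 n40400
theorem D41469 : act 8 n40400 = n41469 := rfl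
theorem F190975 : act 1 n41469 = n40409 := d15_1 D41469 (iv D40409) (iv F186470)
theorem F190976 : act 3 n41469 = n40402 := d28_1 D41469 (iv D40402) (iv F186471)
theorem F190977 : act 6 n41469 = n41237 := d40_1 D41469 F189594 (iv F186472)
theorem F190978 : act 7 n41469 = n40488 := d42_1 D41469 (iv D40488) (iv F186473)
def n41470 : Q := act 5 n40401
theorem D41470 : act 5 n40401 = n41470 := rfl
theorem F190979 : act 0 n41470 = n40493 := d4_1 D41470 F186964 (iv F186474)
theorem F190980 : act 1 n41470 = n40410 := d12_1 D41470 (iv D40410) (iv F186475)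
theorem F190981 : act 2 n41470 = n40665 := d19_1 D41470 F187777 (iv F186476)
theorem F190982 : act 3 n41470 = n40403 := d25_1 D41470 (iv D40403) (iv F186477)
theorem F190983 : act 4 n41470 = n40938 := d30_1 D41470 F188760 F184198 (iv F182163) (iv F186478)
theorem F190984 : act 6 n41470 = n40654 := d35_2 (iv F186479) D41470 F187740 F183051 (iv F181693)
theorem F190985 : act 7 n41470 = n40489 := d36_2 (iv F186480) D41470 (iv D40489)
theorem F190986 : act 9 n41470 = n40485 := d38_2 (iv F186481) D41470 (iv D40485)
def n41471 : Q := act 5 n40402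
theorem D41471 : act 5 n40402 = n41471 := rfl
theorem F190987 : act 1 n41471 = n40412 := d12_1 D41471 (iv D40412) (iv F186482)
theorem F190988 : act 2 n41471 = n41173 := d19_1 D41471 F189462 (iv F186483)
theorem F190989 : act 7 n41471 = n40490 := d36_2 (iv F186485) D41471 (iv D40490)
theorem F190990 : act 8 n41471 = n40403 := d37_2 D40402 D41471 (iv D40403) (iv D39279) D39278
def n41472 : Q := act 9 n40402
theorem D41472 : act 9 n40402 = n41472 := rfl
theorem F190991 : act 1 n41472 = n40413 := d16_1 D41472 (iv D40413) (iv F186482)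
theorem F190992 : act 2 n41472 = n41211 := d23_1 D41472 (iv D41211) (iv F186483)
theorem F190993 : act 6 n41472 = n41242 := d41_1 D41472 (iv D41242) (iv F186484)
theorem F190994 : act 7 n41472 = n40491 := d43_1 D41472 (iv D40491) (iv F186485)
def n41473 : Q := act 4 n40403
theorem D41473 : act 4 n40403 = n41473 := rfl
theorem F190995 : act 0 n41473 = n41131 := d3_1 D41473 (iv F190964) F190960
theorem F190996 : act 1 n41473 = n40414 := d11_1 D41473 (iv D40414) (iv F186486)
theorem F190997 : act 2 n41473 = n41179 := d18_1 D41473 F189472 (iv F186487)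
theorem F190998 : act 5 n41473 = n40406 := d30_2 D40403 D41473 (iv D40406) (iv D39282) (iv F181702)
theorem F190999 : act 7 n41473 = n40492 := d32_2 (iv F186488) D41473 (iv D40492)
def n41474 : Q := act 6 n40403
theorem D41474 : act 6 n40403 = n41474 := rfl
theorem F191000 : act 0 n41474 = n41161 := d5_1 D41474 (iv F190965) F190960
theorem F191001 : act 1 n41474 = n40415 := d13_1 D41474 (iv D40415) (iv F186486)
theorem F191002 : act 2 n41474 = n40872 := d20_1 D41474 F188579 (iv F186487)
theorem F191003 : act 3 n41474 = n40654 := d26_1 D41474 (iv F190984) F190982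
theorem F191004 : act 5 n41474 = n40405 := d35_1 D41474 (iv D40405) (iv D39280) (iv F181703) D40403
theorem F191005 : act 7 n41474 = n40861 := d39_2 (iv F186488) D41474 (iv D40861) F183999 (iv F182192)
theorem F191006 : act 9 n40650 = n41474 := d43_0 F191005 (iv F189856) F189855
def n41475 : Q := act 9 n40403
theorem D41475 : act 9 n40403 = n41475 := rfl
theorem F191007 : act 0 n41475 = n40489 := d8_1 D41475 (iv F190967) F190960
theorem F191008 : act 1 n41475 = n40416 := d16_1 D41475 (iv D40416) (iv F186486)
theorem F191009 : act 2 n41475 = n41182 := d23_1 D41475 (iv D41182) (iv F186487)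
theorem F191010 : act 3 n41475 = n40485 := d29_1 D41475 (iv F190986) F190982
theorem F191011 : act 5 n41475 = n40404 := d38_1 D41475 (iv D40404) D40403
theorem F191012 : act 6 n41475 = n40650 := d41_1 D41475 F191006 (iv D41474)
theorem F191013 : act 7 n41475 = n40493 := d43_1 D41475 (iv D40493) (iv F186488)
def n41476 : Q := act 9 n40406
theorem D41476 : act 9 n40406 = n41476 := rfl
theorem F191014 : act 0 n41476 = n40531 := d8_1 D41476 F187139 (iv F186505)
theorem F191015 : act 1 n41476 = n40420 := d16_1 D41476 (iv D40420) (iv F186506)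
theorem F191016 : act 2 n41476 = n41253 := d23_1 D41476 (iv D41253) (iv F186507)
theorem F191017 : act 3 n41476 = n40876 := d29_1 D41476 (iv F190560) F190556
theorem F191018 : act 4 n41476 = n40407 := d34_1 D41476 (iv D40407) D40406
theorem F191019 : act 6 n41476 = n41476 := d41_1 D41476 (iv D41476) F186508
theorem F191020 : act 7 n41476 = n40494 := d43_1 D41476 (iv D40494) (iv F186509)
theorem F191021 : act 8 n41476 = n40875 := d44_1 D41476 (iv D40875) (iv F186033) (iv F186034) (iv F186510)
def n41477 : Q := act 8 n40408
theorem D41477 : act 8 n40408 = n41477 := rfl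
theorem F191022 : act 0 n41477 = n41028 := d7_1 D41477 (iv D41028) (iv F186519)
theorem F191023 : act 2 n41477 = n40696 := d22_1 D41477 (iv D40696) (iv F186520)
theorem F191024 : act 4 n41477 = n40409 := d33_1 D41477 (iv D40409) D40408
theorem F191025 : act 7 n41477 = n40495 := d42_1 D41477 (iv D40495) (iv F186522)
def n41478 : Q := act 5 n40409
theorem D41478 : act 5 n40409 = n41478 := rfl
theorem F191026 : act 0 n41478 = n41029 := d4_1 D41478 (iv D41029) (iv F186523)
theorem F191027 : act 2 n41478 = n40697 := d19_1 D41478 (iv D40697) (iv F186524)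
theorem F191028 : act 3 n41478 = n40412 := d25_1 D41478 (iv D40412) (iv F186525)
theorem F191029 : act 7 n41478 = n40496 := d36_2 (iv F186526) D41478 (iv D40496)
theorem F191030 : act 8 n41478 = n40410 := d37_2 D40409 D41478 (iv D40410) (iv D39285) D39284
theorem F191031 : act 4 n40930 = n41478 := d33_3 F191030 F186530 (iv F188746)
def n41479 : Q := act 9 n40409
theorem D41479 : act 9 n40409 = n41479 := rfl
theorem F191032 : act 0 n41479 = n41030 := d8_1 D41479 (iv D41030) (iv F186523)
theorem F191033 : act 2 n41479 = n40698 := d23_1 D41479 (iv D40698) (iv F186524)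
theorem F191034 : act 3 n41479 = n40413 := d29_1 D41479 (iv D40413) (iv F186525)
theorem F191035 : act 7 n41479 = n40497 := d43_1 D41479 (iv D40497) (iv F186526)
def n41480 : Q := act 6 n40410
theorem D41480 : act 6 n40410 = n41480 := rfl
theorem F191036 : act 0 n41480 = n40486 := d5_1 D41480 F186934 (iv F186527)
theorem F191037 : act 1 n41480 = n40654 := d13_1 D41480 (iv F190984) F190980
theorem F191038 : act 2 n41480 = n40483 := d20_1 D41480 F186920 (iv F186528)
theorem F191039 : act 3 n41480 = n40415 := d26_1 D41480 (iv D40415) (iv F186529)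
theorem F191040 : act 4 n41480 = n40939 := d31_1 D41480 (iv D40939) (iv F186530)
theorem F191041 : act 5 n41480 = n40411 := d35_1 D41480 (iv D40411) (iv D39286) (iv F181743) D40410
theorem F191042 : act 9 n41480 = n40646 := d41_2 (iv F186532) D41480 F187710
theorem F191043 : act 7 n41184 = n41480 := d43_3 F191042 F187711 (iv F189481)
def n41481 : Q := act 4 n40412
theorem D41481 : act 4 n40412 = n41481 := rfl
theorem F191044 : act 0 n41481 = n41031 := d3_1 D41481 (iv D41031) (iv F186541)
theorem F191045 : act 2 n41481 = n40421 := d18_1 D41481 (iv D40421) (iv F186542)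
theorem F191046 : act 7 n41481 = n40503 := d32_2 (iv F186543) D41481 (iv D40503)
theorem F191047 : act 8 n41481 = n40414 := d33_2 (iv F186544) D41481 (iv D40414)
def n41482 : Q := act 6 n40412
theorem D41482 : act 6 n40412 = n41482 := rfl
theorem F191048 : act 0 n41482 = n41032 := d5_1 D41482 (iv D41032) (iv F186541)
theorem F191049 : act 2 n41482 = n40422 := d20_1 D41482 (iv D40422) (iv F186542)
theorem F191050 : act 8 n41482 = n40415 := d40_2 (iv F186544) D41482 (iv D40415)
def n41483 : Q := act 9 n40412
theorem D41483 : act 9 n40412 = n41483 := rfl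
theorem F191051 : act 0 n41483 = n41033 := d8_1 D41483 (iv D41033) (iv F186541)
theorem F191052 : act 2 n41483 = n40423 := d23_1 D41483 (iv D40423) (iv F186542)
theorem F191053 : act 5 n41483 = n40413 := d38_1 D41483 (iv D40413) D40412
theorem F191054 : act 7 n41483 = n40505 := d43_1 D41483 (iv D40505) (iv F186543)
def n41484 : Q := act 3 n40414
theorem D41484 : act 3 n40414 = n41484 := rfl
theorem F191055 : act 0 n41484 = n41034 := d2_1 D41484 (iv D41034) (iv F186548)
theorem F191056 : act 2 n41484 = n40914 := d17_1 D41484 (iv D40914) F186604 (iv D40424) (iv F186549)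
theorem F191057 : act 4 n41484 = n40923 := d24_2 D40414 D41484 F188723 (iv F186530) F186529
theorem F191058 : act 5 n41484 = n40419 := d25_2 (iv F186550) D41484 (iv D40419)
theorem F191059 : act 7 n41484 = n40506 := d27_2 (iv F186551) D41484 (iv D40506)
theorem F191060 : act 9 n40959 = n41484 := d38_0 F191058 (iv F186582) (iv F188826)
def n41485 : Q := act 6 n40414
theorem D41485 : act 6 n40414 = n41485 := rfl
theorem F191061 : act 0 n41485 = n41035 := d5_1 D41485 (iv D41035) (iv F186548)
theorem F191062 : act 2 n41485 = n40425 := d20_1 D41485 (iv D40425) (iv F186549)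
theorem F191063 : act 4 n41485 = n40415 := d31_1 D41485 (iv D40415) D40414
theorem F191064 : act 5 n41485 = n41485 := d35_1 D41485 (iv D41485) F186550 F181788 (iv F186550)
def n41486 : Q := act 9 n40414
theorem D41486 : act 9 n40414 = n41486 := rfl
theorem F191065 : act 0 n41486 = n41036 := d8_1 D41486 (iv D41036) (iv F186548)
theorem F191066 : act 2 n41486 = n40426 := d23_1 D41486 (iv D40426) (iv F186549)
theorem F191067 : act 3 n41486 = n40959 := d29_1 D41486 F191060 (iv D41484)
theorem F191068 : act 4 n41486 = n40416 := d34_1 D41486 (iv D40416) D40414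
theorem F191069 : act 5 n41486 = n40420 := d38_1 D41486 (iv D40420) (iv F186550)
theorem F191070 : act 7 n41486 = n40508 := d43_1 D41486 (iv D40508) (iv F186551)
def n41487 : Q := act 7 n40415
theorem D41487 : act 7 n40415 = n41487 := rfl
theorem F191071 : act 0 n41487 = n41037 := d6_1 D41487 (iv D41037) (iv F186552)
theorem F191072 : act 1 n41487 = n40861 := d14_1 D41487 (iv F191005) F191001
theorem F191073 : act 2 n41487 = n40427 := d21_1 D41487 (iv D40427) (iv F186553)
theorem F191074 : act 3 n41487 = n41184 := d27_1 D41487 F191043 F191039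
theorem F191075 : act 5 n41487 = n40417 := d36_1 D41487 (iv D40417) (iv F186554)
theorem F191076 : act 6 n41487 = n40509 := d39_1 D41487 (iv D40509) (iv D39382) (iv F181759) D40415
theorem F191077 : act 9 n41051 = n41487 := d38_0 F191075 (iv F186567) D41051
def n41488 : Q := act 9 n40415
theorem D41488 : act 9 n40415 = n41488 := rfl
theorem F191078 : act 0 n41488 = n41038 := d8_1 D41488 (iv D41038) (iv F186552)
theorem F191079 : act 1 n41488 = n40650 := d16_1 D41488 F191006 F191001
theorem F191080 : act 2 n41488 = n40428 := d23_1 D41488 (iv D40428) (iv F186553)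
theorem F191081 : act 3 n41488 = n40646 := d29_1 D41488 (iv F191042) F191039
theorem F191082 : act 5 n41488 = n40418 := d38_1 D41488 (iv D40418) (iv F186554)
theorem F191083 : act 6 n41488 = n40416 := d41_1 D41488 (iv D40416) D40415
theorem F191084 : act 7 n41488 = n41051 := d43_1 D41488 F191077 (iv D41487)
def n41489 : Q := act 8 n40416
theorem D41489 : act 8 n40416 = n41489 := rfl
theorem F191085 : act 0 n41489 = n41039 := d7_1 D41489 (iv D41039) (iv F186555)
theorem F191086 : act 2 n41489 = n40429 := d22_1 D41489 (iv D40429) (iv F186556)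
theorem F191087 : act 3 n41489 = n41099 := d28_1 D41489 F189291 (iv F186557)
theorem F191088 : act 5 n41489 = n41098 := d37_1 D41489 (iv D41098) (iv D40008) (iv F181766) (iv F186558)
theorem F191089 : act 7 n41489 = n40511 := d42_1 D41489 (iv D40511) (iv F186559)
def n41490 : Q := act 3 n40421
theorem D41490 : act 3 n40421 = n41490 := rfl
theorem F191090 : act 0 n41490 = n41040 := d2_1 D41490 (iv D41040) (iv F186590)
theorem F191091 : act 4 n41490 = n40702 := d24_2 D40421 D41490 (iv D40702) (iv D39585) (iv F181798)
theorem F191092 : act 7 n41490 = n40514 := d27_2 (iv F186591) D41490 (iv D40514)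
theorem F191093 : act 8 n41490 = n40424 := d28_2 (iv F186592) D41490 (iv D40424)
theorem F191094 : act 2 n40911 = n41490 := d22_3 F191093 (iv F186604) (iv F188695)
def n41491 : Q := act 6 n40421
theorem D41491 : act 6 n40421 = n41491 := rfl
theorem F191095 : act 0 n41491 = n41041 := d5_1 D41491 (iv D41041) (iv F186590)
theorem F191096 : act 4 n41491 = n40422 := d31_1 D41491 (iv D40422) D40421
theorem F191097 : act 8 n41491 = n40425 := d40_2 (iv F186592) D41491 (iv D40425)
def n41492 : Q := act 9 n40421
theorem D41492 : act 9 n40421 = n41492 := rfl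
theorem F191098 : act 0 n41492 = n41042 := d8_1 D41492 (iv D41042) (iv F186590)
theorem F191099 : act 4 n41492 = n40423 := d34_1 D41492 (iv D40423) D40421
theorem F191100 : act 7 n41492 = n40516 := d43_1 D41492 (iv D40516) (iv F186591)
def n41493 : Q := act 7 n40422
theorem D41493 : act 7 n40422 = n41493 := rfl
theorem F191101 : act 0 n41493 = n41043 := d6_1 D41493 (iv D41043) (iv F186593)
theorem F191102 : act 3 n41493 = n40705 := d27_1 D41493 (iv D40705) (iv F186594)
theorem F191103 : act 6 n41493 = n40517 := d39_1 D41493 (iv D40517) (iv D39391) (iv F181799) D40422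
theorem F191104 : act 8 n41493 = n40427 := d42_2 (iv F186595) D41493 (iv D40427)
def n41494 : Q := act 9 n40422
theorem D41494 : act 9 n40422 = n41494 := rfl
theorem F191105 : act 0 n41494 = n41044 := d8_1 D41494 (iv D41044) (iv F186593)
theorem F191106 : act 3 n41494 = n40706 := d29_1 D41494 (iv D40706) (iv F186594)
theorem F191107 : act 6 n41494 = n40423 := d41_1 D41494 (iv D40423) D40422
def n41495 : Q := act 8 n40423
theorem D41495 : act 8 n40423 = n41495 := rfl
theorem F191108 : act 0 n41495 = n41045 := d7_1 D41495 (iv D41045) (iv F186596)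
theorem F191109 : act 3 n41495 = n40707 := d28_1 D41495 (iv D40707) (iv F186597)
theorem F191110 : act 7 n41495 = n40519 := d42_1 D41495 (iv D40519) (iv F186599)
theorem F191111 : act 9 n41495 = n40429 := d44_2 D40423 D41495 (iv D40429) (iv D39299) (iv F181800)
def n41496 : Q := act 6 n40424
theorem D41496 : act 6 n40424 = n41496 := rfl
theorem F191112 : act 0 n41496 = n41046 := d5_1 D41496 (iv D41046) (iv F186600)
theorem F191113 : act 2 n41496 = n40915 := d20_1 D41496 (iv D40915) F186604
theorem F191114 : act 3 n41496 = n40425 := d26_1 D41496 (iv D40425) D40424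
theorem F191115 : act 4 n41496 = n40708 := d31_1 D41496 (iv D40708) (iv F186601)
theorem F191116 : act 5 n41496 = n41496 := d35_1 D41496 (iv D41496) F186602 F181840 (iv F186602)
def n41497 : Q := act 7 n40425
theorem D41497 : act 7 n40425 = n41497 := rfl
theorem F191117 : act 0 n41497 = n41047 := d6_1 D41497 (iv D41047) (iv F186605)
theorem F191118 : act 4 n41497 = n40427 := d32_1 D41497 (iv D40427) (iv F186606)
theorem F191119 : act 5 n41497 = n41497 := d36_1 D41497 (iv D41497) F186607
theorem F191120 : act 6 n41497 = n40520 := d39_1 D41497 (iv D40520) (iv D39394) (iv F181806) D40425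
def n41498 : Q := act 9 n40425
theorem D41498 : act 9 n40425 = n41498 := rfl
theorem F191121 : act 0 n41498 = n41048 := d8_1 D41498 (iv D41048) (iv F186605)
theorem F191122 : act 4 n41498 = n40428 := d34_1 D41498 (iv D40428) (iv F186606)
theorem F191123 : act 5 n41498 = n41498 := d38_1 D41498 (iv D41498) F186607
theorem F191124 : act 6 n41498 = n40426 := d41_1 D41498 (iv D40426) D40425
def n41499 : Q := act 8 n40426
theorem D41499 : act 8 n40426 = n41499 := rfl
theorem F191125 : act 0 n41499 = n41049 := d7_1 D41499 (iv D41049) (iv F186608)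
theorem F191126 : act 4 n41499 = n40429 := d33_1 D41499 (iv D40429) (iv F186609)
theorem F191127 : act 7 n41499 = n40521 := d42_1 D41499 (iv D40521) (iv F186611)
def n41500 : Q := act 9 n40427
theorem D41500 : act 9 n40427 = n41500 := rfl
theorem F191128 : act 0 n41500 = n40644 := d8_1 D41500 F187704 (iv F186612)
theorem F191129 : act 1 n41500 = n40708 := d16_1 D41500 F190534 F190529
theorem F191130 : act 2 n41500 = n41051 := d23_1 D41500 F191077 F191073
theorem F191131 : act 3 n41500 = n40588 := d29_1 D41500 F187459 (iv F186613)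
theorem F191132 : act 5 n41500 = n40430 := d38_1 D41500 (iv D40430) (iv F186614)
theorem F191133 : act 6 n41500 = n40522 := d41_1 D41500 (iv D40522) (iv F186615)
theorem F191134 : act 7 n41500 = n40428 := d43_1 D41500 (iv D40428) D40427
def n41501 : Q := act 8 n40428
theorem D41501 : act 8 n40428 = n41501 := rfl
theorem F191135 : act 0 n41501 = n41050 := d7_1 D41501 (iv D41050) (iv F186616)
theorem F191136 : act 3 n41501 = n40709 := d28_1 D41501 (iv D40709) (iv F186617)
theorem F191137 : act 6 n41501 = n40429 := d40_1 D41501 (iv D40429) (iv F186619)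
def n41502 : Q := act 5 n40431
theorem D41502 : act 5 n40431 = n41502 := rfl
theorem F191138 : act 0 n41502 = n41051 := d4_1 D41502 (iv D41051) (iv F186631)
theorem F191139 : act 1 n41502 = n41113 := d12_1 D41502 F189326 (iv F186632)
theorem F191140 : act 2 n41502 = n40644 := d19_1 D41502 (iv D40644) (iv F186633)
theorem F191141 : act 3 n41502 = n40710 := d25_1 D41502 (iv D40710) (iv F186634)
theorem F191142 : act 6 n41502 = n40689 := d35_2 (iv F186636) D41502 (iv D40689) (iv D39572) (iv F181827)
theorem F191143 : act 7 n41502 = n41038 := d36_2 (iv F186637) D41502 F189118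
theorem F191144 : act 9 n41502 = n41037 := d38_2 (iv F186638) D41502 F189113
def n41503 : Q := act 8 n40432
theorem D41503 : act 8 n40432 = n41503 := rfl
theorem F191145 : act 0 n41503 = n40816 := d7_1 D41503 (iv D40816) (iv F186639)
theorem F191146 : act 1 n41503 = n40433 := d15_1 D41503 (iv D40433) (iv F186640)
theorem F191147 : act 2 n41503 = n41006 := d22_1 D41503 (iv D41006) (iv F186641)
theorem F191148 : act 3 n41503 = n40833 := d28_1 D41503 (iv D40833) (iv F186642)
theorem F191149 : act 4 n41503 = n40712 := d33_1 D41503 (iv D40712) (iv F186643)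
theorem F191150 : act 5 n41503 = n40843 := d37_1 D41503 (iv D40843) F183947 (iv F181860) D40432
theorem F191151 : act 6 n41503 = n40964 := d40_1 D41503 (iv D40964) (iv F186644)
theorem F191152 : act 7 n41503 = n40607 := d42_1 D41503 (iv D40607) (iv F186645)
def n41504 : Q := act 9 n40433
theorem D41504 : act 9 n40433 = n41504 := rfl
theorem F191153 : act 0 n41504 = n41052 := d8_1 D41504 (iv D41052) (iv F186647)
theorem F191154 : act 2 n41504 = n40435 := d23_1 D41504 (iv D40435) (iv F186648)
theorem F191155 : act 4 n41504 = n40716 := d34_1 D41504 (iv D40716) (iv F186649)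
theorem F191156 : act 5 n41504 = n40898 := d38_1 D41504 F188663 (iv F186650)
theorem F191157 : act 6 n41504 = n40965 := d41_1 D41504 (iv D40965) (iv F186651)
theorem F191158 : act 7 n41504 = n40730 := d43_1 D41504 F188050 (iv F186652)
theorem F191159 : act 8 n41504 = n40671 := d44_1 D41504 (iv D40671) F183109 (iv F181867) D40433
def n41505 : Q := act 4 n40434
theorem D41505 : act 4 n40434 = n41505 := rfl
theorem F191160 : act 0 n41505 = n41053 := d3_1 D41505 (iv D41053) (iv F186653)
theorem F191161 : act 1 n41505 = n41015 := d11_1 D41505 (iv D41015) (iv F186654)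
theorem F191162 : act 2 n41505 = n40900 := d18_1 D41505 F188667 (iv F186655)
theorem F191163 : act 5 n41505 = n40718 := d30_2 D40434 D41505 (iv D40718) (iv D39600) (iv F181871)
theorem F191164 : act 7 n41505 = n40927 := d32_2 (iv F186657) D41505 F188738
theorem F191165 : act 8 n41505 = n40436 := d33_2 (iv F186658) D41505 (iv D40436)
def n41506 : Q := act 9 n40434
theorem D41506 : act 9 n40434 = n41506 := rfl
theorem F191166 : act 0 n41506 = n41055 := d8_1 D41506 (iv D41055) (iv F186653)
theorem F191167 : act 1 n41506 = n41017 := d16_1 D41506 (iv D41017) (iv F186654)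
theorem F191168 : act 2 n41506 = n40898 := d23_1 D41506 F188663 (iv F186655)
theorem F191169 : act 3 n41506 = n40445 := d29_1 D41506 (iv D40445) (iv F186656)
theorem F191170 : act 5 n41506 = n40435 := d38_1 D41506 (iv D40435) D40434
theorem F191171 : act 7 n41506 = n40922 := d43_1 D41506 F188722 (iv F186657)
theorem F191172 : act 8 n41506 = n40890 := d44_1 D41506 (iv D40890) F184081 (iv F181879) (iv F186658)
def n41507 : Q := act 3 n40436
theorem D41507 : act 3 n40436 = n41507 := rfl
theorem F191173 : act 0 n41507 = n41056 := d2_1 D41507 (iv D41056) (iv F186666)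
theorem F191174 : act 1 n41507 = n41018 := d10_1 D41507 (iv D41018) (iv F186667)
theorem F191175 : act 4 n41507 = n40446 := d24_2 D40436 D41507 (iv D40446) (iv D39321) (iv F181877)
theorem F191176 : act 5 n41507 = n40437 := d25_2 (iv F186669) D41507 (iv D40437)
theorem F191177 : act 7 n41507 = n40828 := d27_2 (iv F186670) D41507 F188449
theorem F191178 : act 9 n41507 = n40891 := d29_2 (iv F186671) D41507 (iv D40891)
theorem F191179 : act 2 n40955 = n41507 := d21_3 F191177 F188448 (iv F188815)
def n41508 : Q := act 9 n40438
theorem D41508 : act 9 n40438 = n41508 := rfl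
theorem F191180 : act 0 n41508 = n40965 := d8_1 D41508 (iv D40965) (iv F186680)
theorem F191181 : act 2 n41508 = n40441 := d23_1 D41508 (iv D40441) (iv F186681)
theorem F191182 : act 4 n41508 = n40461 := d34_1 D41508 (iv D40461) (iv F186682)
theorem F191183 : act 6 n41508 = n41052 := d41_1 D41508 (iv D41052) (iv F186683)
theorem F191184 : act 7 n41508 = n40963 := d43_1 D41508 (iv D40963) (iv F186684)
theorem F191185 : act 8 n41508 = n40443 := d44_1 D41508 (iv D40443) (iv D39318) (iv F181900) D40438
def n41509 : Q := act 4 n40440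
theorem D41509 : act 4 n40440 = n41509 := rfl
theorem F191186 : act 0 n41509 = n40966 := d3_1 D41509 (iv D40966) (iv F186692)
theorem F191187 : act 1 n41509 = n41151 := d11_1 D41509 (iv D41151) (iv F186693)
theorem F191188 : act 3 n41509 = n40696 := d24_1 D41509 F187915 F183219 (iv F183103) (iv F186694)
theorem F191189 : act 5 n41509 = n40469 := d30_2 D40440 D41509 (iv D40469) (iv D39345) (iv F181911)
theorem F191190 : act 7 n41509 = n40725 := d32_2 (iv F186695) D41509 F188026
theorem F191191 : act 8 n41509 = n40442 := d33_2 (iv F186696) D41509 (iv D40442)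
def n41510 : Q := act 9 n40440
theorem D41510 : act 9 n40440 = n41510 := rfl
theorem F191192 : act 0 n41510 = n40967 := d8_1 D41510 (iv D40967) (iv F186692)
theorem F191193 : act 1 n41510 = n41153 := d16_1 D41510 (iv D41153) (iv F186693)
theorem F191194 : act 3 n41510 = n40670 := d29_1 D41510 (iv D40670) (iv F186694)
theorem F191195 : act 5 n41510 = n40441 := d38_1 D41510 (iv D40441) D40440
theorem F191196 : act 7 n41510 = n40726 := d43_1 D41510 (iv D40726) (iv F186695)
theorem F191197 : act 8 n41510 = n40887 := d44_1 D41510 (iv D40887) (iv D39793) (iv F181918) (iv F186696)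
def n41511 : Q := act 3 n40444
theorem D41511 : act 3 n40444 = n41511 := rfl
theorem F191198 : act 0 n41511 = n41064 := d2_1 D41511 (iv D41064) (iv F186714)
theorem F191199 : act 1 n41511 = n41170 := d10_1 D41511 (iv D41170) (iv F186715)
theorem F191200 : act 5 n41511 = n40514 := d25_2 (iv F186716) D41511 (iv D40514)
theorem F191201 : act 8 n41511 = n40446 := d28_2 (iv F186717) D41511 (iv D40446)
def n41512 : Q := act 9 n40444
theorem D41512 : act 9 n40444 = n41512 := rfl
theorem F191202 : act 0 n41512 = n41066 := d8_1 D41512 (iv D41066) (iv F186714)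
theorem F191203 : act 1 n41512 = n41172 := d16_1 D41512 (iv D41172) (iv F186715)
theorem F191204 : act 4 n41512 = n40445 := d34_1 D41512 (iv D40445) D40444
theorem F191205 : act 5 n41512 = n40516 := d38_1 D41512 (iv D40516) (iv F186716)
def n41513 : Q := act 8 n40445
theorem D41513 : act 8 n40445 = n41513 := rfl
theorem F191206 : act 0 n41513 = n41069 := d7_1 D41513 (iv D41069) (iv F186718)
theorem F191207 : act 1 n41513 = n41175 := d15_1 D41513 (iv D41175) (iv F186719)
theorem F191208 : act 2 n41513 = n40779 := d22_1 D41513 (iv F190657) F190653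
theorem F191209 : act 3 n41513 = n40890 := d28_1 D41513 (iv F191172) F191169
theorem F191210 : act 5 n41513 = n40887 := d37_1 D41513 (iv F191197) F191195 F186703 (iv F186720)
theorem F191211 : act 7 n41513 = n40913 := d42_1 D41513 (iv F190813) F190812
theorem F191212 : act 9 n41513 = n40448 := d44_2 D40445 D41513 (iv D40448) (iv D39322) (iv F181932)
def n41514 : Q := act 2 n40446
theorem D41514 : act 2 n40446 = n41514 := rfl
theorem F191213 : act 0 n41514 = n41070 := d1_1 D41514 (iv D41070) (iv F186721)
theorem F191214 : act 3 n41514 = n40508 := d17_2 D40446 D41514 F187032 (iv F186128) F186127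
theorem F191215 : act 4 n41514 = n40955 := d18_2 F191175 D41514 F191179
theorem F191216 : act 5 n41514 = n40449 := d19_2 (iv F186723) D41514 (iv D40449)
theorem F191217 : act 7 n41514 = n40959 := d21_2 F190818 D41514 F190820
theorem F191218 : act 9 n40506 = n41514 := d43_0 F191217 F191060 F191059
theorem F191219 : act 1 n41514 = n41186 := d16_1 F191218 (iv F190685) F190682
def n41515 : Q := act 9 n40446
theorem D41515 : act 9 n40446 = n41515 := rfl
theorem F191220 : act 0 n41515 = n41072 := d8_1 D41515 (iv D41072) (iv F186721)
theorem F191221 : act 1 n41515 = n41178 := d16_1 D41515 (iv D41178) (iv F186722)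
theorem F191222 : act 2 n41515 = n40506 := d23_1 D41515 F191218 (iv D41514)
theorem F191223 : act 3 n41515 = n40447 := d29_1 D41515 (iv D40447) D40446
theorem F191224 : act 4 n41515 = n40891 := d34_1 D41515 (iv F191178) F191175
theorem F191225 : act 5 n41515 = n40450 := d38_1 D41515 (iv D40450) (iv F186723)
theorem F191226 : act 7 n41515 = n40914 := d43_1 D41515 (iv F190819) F190818
def n41516 : Q := act 8 n40447
theorem D41516 : act 8 n40447 = n41516 := rfl
theorem F191227 : act 0 n41516 = n41074 := d7_1 D41516 (iv D41074) (iv F186724)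
theorem F191228 : act 1 n41516 = n41181 := d15_1 D41516 (iv D41181) (iv F186725)
theorem F191229 : act 2 n41516 = n40514 := d22_1 D41516 F187064 (iv F186726)
theorem F191230 : act 4 n41516 = n40448 := d33_1 D41516 (iv D40448) (iv F186727)
theorem F191231 : act 7 n41516 = n40911 := d42_1 D41516 F188695 (iv F186729)
def n41517 : Q := act 8 n40451
theorem D41517 : act 8 n40451 = n41517 := rfl
theorem F191232 : act 0 n41517 = n40453 := d7_1 D41517 (iv D40453) (iv F186752)
theorem F191233 : act 1 n41517 = n41075 := d15_1 D41517 (iv D41075) (iv F186753)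
theorem F191234 : act 2 n41517 = n40709 := d22_1 D41517 (iv D40709) (iv F186754)
theorem F191235 : act 4 n41517 = n40826 := d33_1 D41517 (iv D40826) (iv F186755)
theorem F191236 : act 6 n41517 = n40701 := d40_1 D41517 (iv D40701) (iv F186756)
def n41518 : Q := act 8 n40452
theorem D41518 : act 8 n40452 = n41518 := rfl
theorem F191237 : act 1 n41518 = n40458 := d15_1 D41518 (iv D40458) (iv F186758)
theorem F191238 : act 2 n41518 = n41104 := d22_1 D41518 F189302 (iv F186759)
theorem F191239 : act 3 n41518 = n40453 := d28_1 D41518 (iv D40453) (iv F186760)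
theorem F191240 : act 6 n41518 = n40997 := d40_1 D41518 F188995 (iv F186761)
def n41519 : Q := act 5 n40453
theorem D41519 : act 5 n40453 = n41519 := rfl
theorem F191241 : act 1 n41519 = n40460 := d12_1 D41519 (iv D40460) (iv F186763)
theorem F191242 : act 2 n41519 = n41213 := d19_1 D41519 (iv D41213) (iv F186764)
theorem F191243 : act 8 n41519 = n40454 := d37_2 D40453 D41519 (iv D40454) (iv D39331) D39330
def n41520 : Q := act 9 n40453
theorem D41520 : act 9 n40453 = n41520 := rfl
theorem F191244 : act 1 n41520 = n40461 := d16_1 D41520 (iv D40461) (iv F186763)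
theorem F191245 : act 2 n41520 = n41212 := d23_1 D41520 F189551 (iv F186764)
theorem F191246 : act 6 n41520 = n41210 := d41_1 D41520 F189547 (iv F186765)
theorem F191247 : act 8 n41520 = n40491 := d44_1 D41520 (iv D40491) (iv D39367) (iv F181993) D40453
def n41521 : Q := act 4 n40454
theorem D41521 : act 4 n40454 = n41521 := rfl
theorem F191248 : act 1 n41521 = n40462 := d11_1 D41521 (iv D40462) (iv F186766)
theorem F191249 : act 2 n41521 = n41214 := d18_1 D41521 (iv D41214) (iv F186767)
theorem F191250 : act 3 n41521 = n40943 := d24_1 D41521 F188770 (iv F187433) (iv F190830) F190829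
theorem F191251 : act 5 n41521 = n40456 := d30_2 D40454 D41521 (iv D40456) (iv D39333) (iv F181996)
theorem F191252 : act 7 n41521 = n40941 := d32_2 F190852 D41521 (iv F190850)
theorem F191253 : act 9 n41521 = n40940 := d34_2 F190953 D41521 (iv F190950)
def n41522 : Q := act 6 n40454
theorem D41522 : act 6 n40454 = n41522 := rfl
theorem F191254 : act 0 n41522 = n40574 := d5_1 D41522 (iv F190838) F190834
theorem F191255 : act 1 n41522 = n40463 := d13_1 D41522 (iv D40463) (iv F186766)
theorem F191256 : act 2 n41522 = n41206 := d20_1 D41522 F189535 (iv F186767)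
theorem F191257 : act 3 n41522 = n40572 := d26_1 D41522 (iv F190831) F190829
theorem F191258 : act 5 n41522 = n40455 := d35_1 D41522 (iv D40455) (iv D39332) (iv F181997) D40454
theorem F191259 : act 7 n41522 = n40624 := d39_2 F190852 D41522 F187622 (iv F187930) (iv F190851)
theorem F191260 : act 9 n41522 = n40773 := d41_2 F190953 D41522 (iv F190951)
def n41523 : Q := act 8 n40457
theorem D41523 : act 8 n40457 = n41523 := rfl
theorem F191261 : act 0 n41523 = n41077 := d7_1 D41523 (iv D41077) (iv F186782)
theorem F191262 : act 2 n41523 = n40731 := d22_1 D41523 (iv D40731) (iv F186783)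
theorem F191263 : act 3 n41523 = n40945 := d28_1 D41523 F188775 (iv F186784)
theorem F191264 : act 4 n41523 = n40458 := d33_1 D41523 (iv D40458) D40457
theorem F191265 : act 5 n41523 = n40942 := d37_1 D41523 (iv D40942) F184188 (iv F182430) (iv F186785)
theorem F191266 : act 6 n41523 = n41001 := d40_1 D41523 F189004 (iv F186786)
def n41524 : Q := act 5 n40458
theorem D41524 : act 5 n40458 = n41524 := rfl
theorem F191267 : act 0 n41524 = n40968 := d4_1 D41524 F188858 (iv F186788)
theorem F191268 : act 2 n41524 = n40732 := d19_1 D41524 (iv D40732) (iv F186789)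
theorem F191269 : act 3 n41524 = n40460 := d25_1 D41524 (iv D40460) (iv F186790)
theorem F191270 : act 6 n41524 = n40813 := d35_2 (iv F186791) D41524 (iv D40813) F183831 D39912
theorem F191271 : act 7 n41524 = n41075 := d36_2 F190866 D41524 (iv F190864)
theorem F191272 : act 8 n41524 = n40459 := d37_2 D40458 D41524 (iv D40459) (iv D39336) D39335
theorem F191273 : act 4 n40994 = n41524 := d33_3 F191272 F186795 D40994
def n41525 : Q := act 9 n40458
theorem D41525 : act 9 n40458 = n41525 := rfl
theorem F191274 : act 0 n41525 = n41078 := d8_1 D41525 (iv D41078) (iv F186788)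
theorem F191275 : act 2 n41525 = n40733 := d23_1 D41525 (iv D40733) (iv F186789)
theorem F191276 : act 3 n41525 = n40461 := d29_1 D41525 (iv D40461) (iv F186790)
theorem F191277 : act 6 n41525 = n41002 := d41_1 D41525 (iv D41002) (iv F186791)
theorem F191278 : act 8 n41525 = n40497 := d44_1 D41525 (iv D40497) (iv D39373) (iv F182024) D40458
def n41526 : Q := act 4 n40460
theorem D41526 : act 4 n40460 = n41526 := rfl
theorem F191279 : act 0 n41526 = n41079 := d3_1 D41526 (iv D41079) (iv F186799)
theorem F191280 : act 2 n41526 = n40469 := d18_1 D41526 (iv D40469) (iv F186800)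
theorem F191281 : act 8 n41526 = n40462 := d33_2 (iv F186801) D41526 (iv D40462)
def n41527 : Q := act 6 n40460
theorem D41527 : act 6 n40460 = n41527 := rfl
theorem F191282 : act 0 n41527 = n41080 := d5_1 D41527 (iv D41080) (iv F186799)
theorem F191283 : act 2 n41527 = n40470 := d20_1 D41527 (iv D40470) (iv F186800)
theorem F191284 : act 3 n41527 = n40813 := d26_1 D41527 (iv F191270) F191269
theorem F191285 : act 5 n41527 = n40812 := d35_1 D41527 F188400 F184463 (iv F182034) D40460
theorem F191286 : act 8 n41527 = n40463 := d40_2 (iv F186801) D41527 (iv D40463)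
def n41528 : Q := act 9 n40460
theorem D41528 : act 9 n40460 = n41528 := rfl
theorem F191287 : act 0 n41528 = n41081 := d8_1 D41528 (iv D41081) (iv F186799)
theorem F191288 : act 2 n41528 = n40471 := d23_1 D41528 (iv D40471) (iv F186800)
theorem F191289 : act 5 n41528 = n40461 := d38_1 D41528 (iv D40461) D40460
def n41529 : Q := act 3 n40462
theorem D41529 : act 3 n40462 = n41529 := rfl
theorem F191290 : act 0 n41529 = n40995 := d2_1 D41529 F188982 (iv F186806)
theorem F191291 : act 1 n41529 = n40943 := d10_1 D41529 (iv F191250) F191248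
theorem F191292 : act 4 n41529 = n40679 := d24_2 D40462 D41529 F187849 (iv F186795) F186794
theorem F191293 : act 5 n41529 = n40467 := d25_2 (iv F186808) D41529 (iv D40467)
theorem F191294 : act 7 n41529 = n40738 := d27_2 F190883 D41529 (iv F190881)
theorem F191295 : act 2 n40685 = n41529 := d21_3 F191294 F188093 (iv F187871)
theorem F191296 : act 9 n40677 = n41529 := d43_0 F191294 (iv D40738) (iv F187840)
def n41530 : Q := act 6 n40462
theorem D41530 : act 6 n40462 = n41530 := rfl
theorem F191297 : act 0 n41530 = n41082 := d5_1 D41530 (iv D41082) (iv F186806)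
theorem F191298 : act 2 n41530 = n40473 := d20_1 D41530 (iv D40473) (iv F186807)
theorem F191299 : act 4 n41530 = n40463 := d31_1 D41530 (iv D40463) D40462
theorem F191300 : act 5 n41530 = n41530 := d35_1 D41530 (iv D41530) F186808 F182067 (iv F186808)
def n41531 : Q := act 9 n40462
theorem D41531 : act 9 n40462 = n41531 := rfl
theorem F191301 : act 0 n41531 = n41023 := d8_1 D41531 F189065 (iv F186806)
theorem F191302 : act 1 n41531 = n40940 := d16_1 D41531 (iv F191253) F191248
theorem F191303 : act 2 n41531 = n40474 := d23_1 D41531 (iv D40474) (iv F186807)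
theorem F191304 : act 3 n41531 = n40677 := d29_1 D41531 F191296 (iv D41529)
theorem F191305 : act 4 n41531 = n40464 := d34_1 D41531 (iv D40464) D40462
theorem F191306 : act 5 n41531 = n40468 := d38_1 D41531 (iv D40468) (iv F186808)
theorem F191307 : act 7 n41531 = n40737 := d43_1 D41531 (iv F190884) F190883
def n41532 : Q := act 7 n40463
theorem D41532 : act 7 n40463 = n41532 := rfl
theorem F191308 : act 0 n41532 = n40561 := d6_1 D41532 F187335 (iv F186809)
theorem F191309 : act 1 n41532 = n40624 := d14_1 D41532 (iv F191259) F191255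
theorem F191310 : act 2 n41532 = n40475 := d21_1 D41532 (iv D40475) (iv F186810)
theorem F191311 : act 3 n41532 = n40545 := d27_1 D41532 F187230 (iv F186811)
theorem F191312 : act 5 n41532 = n40465 := d36_1 D41532 (iv D40465) (iv F186812)
theorem F191313 : act 6 n41532 = n40761 := d39_1 D41532 F190893 (iv D41456) F186371 D40463
theorem F191314 : act 9 n40760 = n41532 := d41_0 F191313 (iv D40761) D40760
def n41533 : Q := act 9 n40463
theorem D41533 : act 9 n40463 = n41533 := rfl
theorem F191315 : act 0 n41533 = n41005 := d8_1 D41533 F189020 (iv F186809)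
theorem F191316 : act 1 n41533 = n40773 := d16_1 D41533 (iv F191260) F191255
theorem F191317 : act 2 n41533 = n40476 := d23_1 D41533 (iv D40476) (iv F186810)
theorem F191318 : act 3 n41533 = n40764 := d29_1 D41533 F188186 (iv F186811)
theorem F191319 : act 5 n41533 = n40466 := d38_1 D41533 (iv D40466) (iv F186812)
theorem F191320 : act 6 n41533 = n40464 := d41_1 D41533 (iv D40464) D40463
theorem F191321 : act 7 n41533 = n40760 := d43_1 D41533 F191314 (iv D41532)
def n41534 : Q := act 8 n40464
theorem D41534 : act 8 n40464 = n41534 := rfl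
theorem F191322 : act 0 n41534 = n41024 := d7_1 D41534 (iv D41024) (iv F186813)
theorem F191323 : act 2 n41534 = n40477 := d22_1 D41534 (iv D40477) (iv F186814)
theorem F191324 : act 3 n41534 = n41022 := d28_1 D41534 (iv D41022) (iv F186815)
theorem F191325 : act 5 n41534 = n40511 := d37_1 D41534 (iv D40511) F182261 (iv F182043) (iv F186816)
theorem F191326 : act 7 n41534 = n41098 := d42_1 D41534 (iv D41098) (iv F186817)
def n41535 : Q := act 3 n40469
theorem D41535 : act 3 n40469 = n41535 := rfl
theorem F191327 : act 0 n41535 = n41083 := d2_1 D41535 (iv D41083) (iv F186850)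
theorem F191328 : act 4 n41535 = n40740 := d24_2 D40469 D41535 (iv D40740) (iv D39625) (iv F182077)
theorem F191329 : act 5 n41535 = n40696 := d25_2 F191189 D41535 (iv F191188)
theorem F191330 : act 7 n41535 = n40766 := d27_2 F190897 D41535 F190899
theorem F191331 : act 8 n41535 = n40472 := d28_2 (iv F186851) D41535 (iv D40472)
def n41536 : Q := act 6 n40469
theorem D41536 : act 6 n40469 = n41536 := rfl
theorem F191332 : act 0 n41536 = n41084 := d5_1 D41536 (iv D41084) (iv F186850)
theorem F191333 : act 4 n41536 = n40470 := d31_1 D41536 (iv D40470) D40469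
theorem F191334 : act 8 n41536 = n40473 := d40_2 (iv F186851) D41536 (iv D40473)
def n41537 : Q := act 9 n40469
theorem D41537 : act 9 n40469 = n41537 := rfl
theorem F191335 : act 0 n41537 = n41085 := d8_1 D41537 (iv D41085) (iv F186850)
theorem F191336 : act 4 n41537 = n40471 := d34_1 D41537 (iv D40471) D40469
def n41538 : Q := act 7 n40470
theorem D41538 : act 7 n40470 = n41538 := rfl
theorem F191337 : act 0 n41538 = n41086 := d6_1 D41538 (iv D41086) (iv F186852)
theorem F191338 : act 3 n41538 = n40743 := d27_1 D41538 (iv D40743) (iv F186853)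
theorem F191339 : act 5 n41538 = n40836 := d36_1 D41538 F188480 (iv F186854)
theorem F191340 : act 8 n41538 = n40475 := d42_2 (iv F186855) D41538 (iv D40475)
def n41539 : Q := act 9 n40470
theorem D41539 : act 9 n40470 = n41539 := rfl
theorem F191341 : act 0 n41539 = n41087 := d8_1 D41539 (iv D41087) (iv F186852)
theorem F191342 : act 3 n41539 = n40744 := d29_1 D41539 (iv D40744) (iv F186853)
theorem F191343 : act 5 n41539 = n40846 := d38_1 D41539 (iv D40846) (iv F186854)
theorem F191344 : act 6 n41539 = n40471 := d41_1 D41539 (iv D40471) D40470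
def n41540 : Q := act 8 n40471
theorem D41540 : act 8 n40471 = n41540 := rfl
theorem F191345 : act 0 n41540 = n41088 := d7_1 D41540 (iv D41088) (iv F186856)
theorem F191346 : act 3 n41540 = n40745 := d28_1 D41540 (iv D40745) (iv F186857)
theorem F191347 : act 5 n41540 = n40519 := d37_1 D41540 (iv D40519) F182304 (iv F182082) (iv F186858)
theorem F191348 : act 9 n41540 = n40477 := d44_2 D40471 D41540 (iv D40477) (iv D39349) (iv F182078)
def n41541 : Q := act 2 n40472
theorem D41541 : act 2 n40472 = n41541 := rfl
theorem F191349 : act 0 n41541 = n41089 := d1_1 D41541 (iv D41089) (iv F186859)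
theorem F191350 : act 3 n41541 = n40685 := d17_2 D40472 D41541 F191295 (iv D41529) F186807
theorem F191351 : act 4 n41541 = n40746 := d18_2 (iv F186860) D41541 (iv D40746)
theorem F191352 : act 5 n41541 = n40480 := d19_2 (iv F186861) D41541 (iv D40480)
theorem F191353 : act 7 n41541 = n40532 := d21_2 (iv F186862) D41541 F187141
theorem F191354 : act 9 n40683 = n41541 := d43_0 F191353 F187143 (iv F187864)
def n41542 : Q := act 6 n40472
theorem D41542 : act 6 n40472 = n41542 := rfl
theorem F191355 : act 0 n41542 = n41090 := d5_1 D41542 (iv D41090) (iv F186859)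
theorem F191356 : act 3 n41542 = n40473 := d26_1 D41542 (iv D40473) D40472
theorem F191357 : act 4 n41542 = n40747 := d31_1 D41542 (iv D40747) (iv F186860)
theorem F191358 : act 5 n41542 = n41542 := d35_1 D41542 (iv D41542) F186861 F182118 (iv F186861)
def n41543 : Q := act 9 n40472
theorem D41543 : act 9 n40472 = n41543 := rfl
theorem F191359 : act 0 n41543 = n41091 := d8_1 D41543 (iv D41091) (iv F186859)
theorem F191360 : act 2 n41543 = n40683 := d23_1 D41543 F191354 (iv D41541)
theorem F191361 : act 3 n41543 = n40474 := d29_1 D41543 (iv D40474) D40472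
theorem F191362 : act 4 n41543 = n40532 := d34_1 D41543 F187143 (iv F186860)
theorem F191363 : act 5 n41543 = n40481 := d38_1 D41543 (iv D40481) (iv F186861)
theorem F191364 : act 7 n41543 = n40746 := d43_1 D41543 F188125 (iv F186862)
def n41544 : Q := act 7 n40473
theorem D41544 : act 7 n40473 = n41544 := rfl
theorem F191365 : act 0 n41544 = n41092 := d6_1 D41544 (iv D41092) (iv F186863)
theorem F191366 : act 4 n41544 = n40475 := d32_1 D41544 (iv D40475) (iv F186864)
theorem F191367 : act 5 n41544 = n41544 := d36_1 D41544 (iv D41544) F186865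
def n41545 : Q := act 9 n40473
theorem D41545 : act 9 n40473 = n41545 := rfl
theorem F191368 : act 0 n41545 = n41093 := d8_1 D41545 (iv D41093) (iv F186863)
theorem F191369 : act 4 n41545 = n40476 := d34_1 D41545 (iv D40476) (iv F186864)
theorem F191370 : act 5 n41545 = n41545 := d38_1 D41545 (iv D41545) F186865
theorem F191371 : act 6 n41545 = n40474 := d41_1 D41545 (iv D40474) D40473
def n41546 : Q := act 8 n40474
theorem D41546 : act 8 n40474 = n41546 := rfl
theorem F191372 : act 0 n41546 = n41094 := d7_1 D41546 (iv D41094) (iv F186866)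
theorem F191373 : act 4 n41546 = n40477 := d33_1 D41546 (iv D40477) (iv F186867)
def n41547 : Q := act 9 n40475
theorem D41547 : act 9 n40475 = n41547 := rfl
theorem F191374 : act 0 n41547 = n41095 := d8_1 D41547 (iv D41095) (iv F186869)
theorem F191375 : act 1 n41547 = n41009 := d16_1 D41547 F189943 F189938
theorem F191376 : act 2 n41547 = n40760 := d23_1 D41547 F191314 F191310
theorem F191377 : act 3 n41547 = n40751 := d29_1 D41547 (iv D40751) (iv F186870)
theorem F191378 : act 5 n41547 = n40478 := d38_1 D41547 (iv D40478) (iv F186871)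
theorem F191379 : act 6 n41547 = n40755 := d41_1 D41547 F190931 F190930
theorem F191380 : act 7 n41547 = n40476 := d43_1 D41547 (iv D40476) D40475
def n41548 : Q := act 8 n40476
theorem D41548 : act 8 n40476 = n41548 := rfl
theorem F191381 : act 0 n41548 = n41096 := d7_1 D41548 (iv D41096) (iv F186872)
theorem F191382 : act 3 n41548 = n40752 := d28_1 D41548 (iv D40752) (iv F186873)
theorem F191383 : act 6 n41548 = n40477 := d40_1 D41548 (iv D40477) (iv F186875)
def n41549 : Q := act 5 n40479
theorem D41549 : act 5 n40479 = n41549 := rfl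
theorem F191384 : act 0 n41549 = n40760 := d4_1 D41549 F188172 (iv F186887)
theorem F191385 : act 1 n41549 = n40552 := d12_1 D41549 (iv D40552) (iv F186888)
theorem F191386 : act 2 n41549 = n41095 := d19_1 D41549 F189282 (iv F186889)
theorem F191387 : act 3 n41549 = n40551 := d25_1 D41549 (iv D40551) (iv F186890)
theorem F191388 : act 6 n41549 = n40524 := d35_2 (iv F186892) D41549 (iv D40524) F182335 (iv F182105)
theorem F191389 : act 7 n41549 = n41005 := d36_2 (iv F186893) D41549 (iv D41005)
theorem F191390 : act 9 n41549 = n40561 := d38_2 (iv F186894) D41549 (iv D40561)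
def n41550 : Q := act 5 n40482
theorem D41550 : act 5 n40482 = n41550 := rfl
theorem F191391 : act 0 n41550 = n41097 := d4_1 D41550 (iv D41097) (iv F186909)
theorem F191392 : act 2 n41550 = n40891 := d19_1 D41550 F188647 (iv F186910)
theorem F191393 : act 3 n41550 = n40498 := d25_1 D41550 F186985 (iv F186911)
theorem F191394 : act 4 n41550 = n40506 := d30_1 D41550 F187025 F182290 (iv F182127) (iv F186912)
theorem F191395 : act 7 n41550 = n40923 := d36_2 (iv F186914) D41550 F188724
theorem F191396 : act 9 n41550 = n40955 := d38_2 (iv F186915) D41550 (iv D40955)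
def n41551 : Q := act 8 n40483
theorem D41551 : act 8 n40483 = n41551 := rfl
theorem F191397 : act 0 n41551 = n40488 := d7_1 D41551 (iv D40488) (iv F186916)
theorem F191398 : act 1 n41551 = n41098 := d15_1 D41551 (iv D41098) (iv F186917)
theorem F191399 : act 3 n41551 = n40484 := d28_1 D41551 (iv D40484) (iv F186918)
theorem F191400 : act 4 n41551 = n40931 := d33_1 D41551 F188748 (iv F186919)
theorem F191401 : act 6 n41551 = n40697 := d40_1 D41551 F187920 (iv F186920)
def n41552 : Q := act 5 n40484
theorem D41552 : act 5 n40484 = n41552 := rfl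
theorem F191402 : act 0 n41552 = n40490 := d4_1 D41552 (iv D40490) (iv F186921)
theorem F191403 : act 1 n41552 = n41099 := d12_1 D41552 (iv D41099) (iv F186922)
theorem F191404 : act 2 n41552 = n40659 := d19_1 D41552 F187760 (iv F186923)
theorem F191405 : act 4 n41552 = n41124 := d30_1 D41552 (iv D41124) F184813 (iv F183869) (iv F186924)
theorem F191406 : act 6 n41552 = n40651 := d35_2 (iv F186925) D41552 (iv D40651) F183045 D39582
theorem F191407 : act 8 n41552 = n40485 := d37_2 D40484 D41552 (iv D40485) (iv D39361) D39360
def n41553 : Q := act 9 n40484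
theorem D41553 : act 9 n40484 = n41553 := rfl
theorem F191408 : act 0 n41553 = n40491 := d8_1 D41553 (iv D40491) (iv F186921)
theorem F191409 : act 1 n41553 = n41100 := d16_1 D41553 (iv D41100) (iv F186922)
theorem F191410 : act 2 n41553 = n40706 := d23_1 D41553 (iv D40706) (iv F186923)
theorem F191411 : act 4 n41553 = n40824 := d34_1 D41553 (iv D40824) (iv F186924)
theorem F191412 : act 6 n41553 = n40700 := d41_1 D41553 (iv D40700) (iv F186925)
def n41554 : Q := act 8 n40486
theorem D41554 : act 8 n40486 = n41554 := rfl
theorem F191413 : act 1 n41554 = n40754 := d15_1 D41554 (iv D40754) (iv F186931)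
theorem F191414 : act 2 n41554 = n40488 := d22_1 D41554 (iv D40488) (iv F186932)
theorem F191415 : act 3 n41554 = n41032 := d28_1 D41554 F189098 (iv F186933)
theorem F191416 : act 6 n41554 = n41029 := d40_1 D41554 F189090 (iv F186934)
def n41555 : Q := act 5 n40487
theorem D41555 : act 5 n40487 = n41555 := rfl
theorem F191417 : act 0 n41555 = n41182 := d4_1 D41555 F189478 (iv F186936)
theorem F191418 : act 1 n41555 = n40755 := d12_1 D41555 (iv D40755) (iv F186937)
theorem F191419 : act 2 n41555 = n40489 := d19_1 D41555 (iv D40489) (iv F186938)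
theorem F191420 : act 3 n41555 = n41013 := d25_1 D41555 F189039 (iv F186939)
theorem F191421 : act 6 n41555 = n41009 := d35_2 (iv F186941) D41555 (iv D41009) F184497 (iv F182177)
theorem F191422 : act 7 n41555 = n40665 := d36_2 (iv F186942) D41555 F187777
theorem F191423 : act 9 n41555 = n40664 := d38_2 (iv F186943) D41555 F187775
def n41556 : Q := act 5 n40488
theorem D41556 : act 5 n40488 = n41556 := rfl
theorem F191424 : act 1 n41556 = n40496 := d12_1 D41556 (iv D40496) (iv F186944)
theorem F191425 : act 3 n41556 = n40490 := d25_1 D41556 (iv D40490) (iv F186945)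
theorem F191426 : act 6 n41556 = n41158 := d35_2 (iv F186946) D41556 (iv D41158) F184926 D40124
theorem F191427 : act 8 n41556 = n40489 := d37_2 D40488 D41556 (iv D40489) (iv D39366) D39365
def n41557 : Q := act 9 n40488
theorem D41557 : act 9 n40488 = n41557 := rfl
theorem F191428 : act 1 n41557 = n40497 := d16_1 D41557 (iv D40497) (iv F186944)
theorem F191429 : act 3 n41557 = n40491 := d29_1 D41557 (iv D40491) (iv F186945)
theorem F191430 : act 6 n41557 = n41209 := d41_1 D41557 (iv D41209) (iv F186946)
def n41558 : Q := act 4 n40489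
theorem D41558 : act 4 n40489 = n41558 := rfl
theorem F191431 : act 1 n41558 = n40498 := d11_1 D41558 (iv D40498) (iv F186947)
theorem F191432 : act 5 n41558 = n40531 := d30_2 D40489 D41558 (iv D40531) (iv D39419) (iv F182185)
theorem F191433 : act 6 n41558 = n41160 := d31_2 (iv F186949) D41558 (iv D41160)
theorem F191434 : act 7 n41558 = n40938 := d32_2 F190985 D41558 (iv F190983)
theorem F191435 : act 9 n41558 = n41131 := d34_2 F190967 D41558 (iv F190964)
def n41559 : Q := act 4 n40490
theorem D41559 : act 4 n40490 = n41559 := rfl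
theorem F191436 : act 0 n41559 = n41124 := d3_1 D41559 (iv F191405) F191402
theorem F191437 : act 1 n41559 = n40503 := d11_1 D41559 (iv D40503) (iv F186950)
theorem F191438 : act 2 n41559 = n41171 := d18_1 D41559 F189459 (iv F186951)
theorem F191439 : act 5 n41559 = n40515 := d30_2 D40490 D41559 F187066 (iv F185190) F185189
theorem F191440 : act 6 n41559 = n41162 := d31_2 (iv F186952) D41559 (iv D41162)
theorem F191441 : act 8 n41559 = n40492 := d33_2 (iv F186953) D41559 (iv D40492)
def n41560 : Q := act 9 n40490
theorem D41560 : act 9 n40490 = n41560 := rfl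
theorem F191442 : act 1 n41560 = n40505 := d16_1 D41560 (iv D40505) (iv F186950)
theorem F191443 : act 2 n41560 = n41174 := d23_1 D41560 (iv D41174) (iv F186951)
theorem F191444 : act 5 n41560 = n40491 := d38_1 D41560 (iv D40491) D40490
theorem F191445 : act 6 n41560 = n41163 := d41_1 D41560 (iv D41163) (iv F186952)
def n41561 : Q := act 9 n40492
theorem D41561 : act 9 n40492 = n41561 := rfl
theorem F191446 : act 0 n41561 = n40938 := d8_1 D41561 F188761 (iv F186957)
theorem F191447 : act 1 n41561 = n40508 := d16_1 D41561 (iv D40508) (iv F186958)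
theorem F191448 : act 2 n41561 = n41180 := d23_1 D41561 (iv D41180) (iv F186959)
theorem F191449 : act 3 n41561 = n41186 := d29_1 D41561 (iv F190685) F190683
theorem F191450 : act 4 n41561 = n40493 := d34_1 D41561 (iv D40493) D40492
theorem F191451 : act 5 n41561 = n40494 := d38_1 D41561 (iv D40494) (iv F186960)
theorem F191452 : act 6 n41561 = n41165 := d41_1 D41561 (iv D41165) (iv F186961)
def n41562 : Q := act 8 n40493
theorem D41562 : act 8 n40493 = n41562 := rfl
theorem F191453 : act 1 n41562 = n40511 := d15_1 D41562 (iv D40511) (iv F186962)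
theorem F191454 : act 2 n41562 = n41183 := d22_1 D41562 (iv D41183) (iv F186963)
theorem F191455 : act 6 n41562 = n41166 := d40_1 D41562 (iv D41166) (iv F186965)
def n41563 : Q := act 5 n40495
theorem D41563 : act 5 n40495 = n41563 := rfl
theorem F191456 : act 0 n41563 = n41107 := d4_1 D41563 (iv D41107) (iv F186973)
theorem F191457 : act 2 n41563 = n40766 := d19_1 D41563 (iv D40766) (iv F186974)
theorem F191458 : act 3 n41563 = n40750 := d25_1 D41563 F189798 F189795
theorem F191459 : act 8 n41563 = n40532 := d37_2 D40495 D41563 (iv D40532) (iv D39420) (iv F182211)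
def n41564 : Q := act 9 n40495
theorem D41564 : act 9 n40495 = n41564 := rfl
theorem F191460 : act 0 n41564 = n41108 := d8_1 D41564 (iv D41108) (iv F186973)
theorem F191461 : act 2 n41564 = n40767 := d23_1 D41564 (iv D40767) (iv F186974)
theorem F191462 : act 4 n41564 = n40497 := d34_1 D41564 (iv D40497) (iv F186975)
def n41565 : Q := act 4 n40496
theorem D41565 : act 4 n40496 = n41565 := rfl
theorem F191463 : act 0 n41565 = n41109 := d3_1 D41565 (iv D41109) (iv F186976)
theorem F191464 : act 2 n41565 = n40768 := d18_1 D41565 (iv D40768) (iv F186977)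
theorem F191465 : act 7 n41565 = n40930 := d32_2 F191029 D41565 F191031
theorem F191466 : act 8 n41565 = n40498 := d33_2 (iv F186979) D41565 (iv D40498)
def n41566 : Q := act 6 n40496
theorem D41566 : act 6 n40496 = n41566 := rfl
theorem F191467 : act 0 n41566 = n41110 := d5_1 D41566 (iv D41110) (iv F186976)
theorem F191468 : act 1 n41566 = n41158 := d13_1 D41566 (iv F191426) F191424
theorem F191469 : act 2 n41566 = n40769 := d20_1 D41566 (iv D40769) (iv F186977)
theorem F191470 : act 3 n41566 = n40504 := d26_1 D41566 (iv D40504) (iv F186978)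
theorem F191471 : act 5 n41566 = n41155 := d35_1 D41566 F189426 (iv F185174) F185175 D40496
theorem F191472 : act 8 n41566 = n40499 := d40_2 (iv F186979) D41566 (iv D40499)
def n41567 : Q := act 9 n40496
theorem D41567 : act 9 n40496 = n41567 := rfl
theorem F191473 : act 0 n41567 = n41111 := d8_1 D41567 (iv D41111) (iv F186976)
theorem F191474 : act 2 n41567 = n40770 := d23_1 D41567 (iv D40770) (iv F186977)
theorem F191475 : act 3 n41567 = n40505 := d29_1 D41567 (iv D40505) (iv F186978)
theorem F191476 : act 5 n41567 = n40497 := d38_1 D41567 (iv D40497) D40496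
def n41568 : Q := act 6 n40498
theorem D41568 : act 6 n40498 = n41568 := rfl
theorem F191477 : act 0 n41568 = n41112 := d5_1 D41568 (iv D41112) (iv F186983)
theorem F191478 : act 1 n41568 = n41160 := d13_1 D41568 (iv F191433) F191431
theorem F191479 : act 2 n41568 = n40771 := d20_1 D41568 (iv D40771) (iv F186984)
theorem F191480 : act 4 n41568 = n40499 := d31_1 D41568 (iv D40499) D40498
theorem F191481 : act 5 n41568 = n41568 := d35_1 D41568 (iv D41568) F186985 F182468 (iv F186985)
def n41569 : Q := act 9 n40498
theorem D41569 : act 9 n40498 = n41569 := rfl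
theorem F191482 : act 0 n41569 = n41027 := d8_1 D41569 F189082 (iv F186983)
theorem F191483 : act 1 n41569 = n41131 := d16_1 D41569 (iv F191435) F191431
theorem F191484 : act 2 n41569 = n40772 := d23_1 D41569 (iv D40772) (iv F186984)
theorem F191485 : act 3 n41569 = n40955 := d29_1 D41569 (iv F191396) F191393
theorem F191486 : act 4 n41569 = n40500 := d34_1 D41569 (iv D40500) D40498
theorem F191487 : act 5 n41569 = n40533 := d38_1 D41569 (iv D40533) (iv F186985)
theorem F191488 : act 7 n41569 = n40783 := d43_1 D41569 F188252 (iv F186986)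
def n41570 : Q := act 7 n40499
theorem D41570 : act 7 n40499 = n41570 := rfl
theorem F191489 : act 0 n41570 = n41113 := d6_1 D41570 (iv D41113) (iv F186987)
theorem F191490 : act 1 n41570 = n40857 := d14_1 D41570 F188536 (iv F186988)
theorem F191491 : act 2 n41570 = n40773 := d21_1 D41570 (iv D40773) (iv F186989)
theorem F191492 : act 3 n41570 = n40509 := d27_1 D41570 (iv D40509) (iv F186990)
theorem F191493 : act 5 n41570 = n40501 := d36_1 D41570 (iv D40501) (iv F186991)
theorem F191494 : act 6 n41570 = n41184 := d39_1 D41570 F191043 (iv D41480) F186531 D40499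
theorem F191495 : act 9 n41206 = n41570 := d41_0 F191494 F189481 (iv F189535)
def n41571 : Q := act 9 n40499
theorem D41571 : act 9 n40499 = n41571 := rfl
theorem F191496 : act 0 n41571 = n40626 := d8_1 D41571 F187632 (iv F186987)
theorem F191497 : act 1 n41571 = n41161 := d16_1 D41571 (iv D41161) (iv F186988)
theorem F191498 : act 2 n41571 = n40624 := d23_1 D41571 F187623 (iv F186989)
theorem F191499 : act 3 n41571 = n40510 := d29_1 D41571 (iv D40510) (iv F186990)
theorem F191500 : act 5 n41571 = n40502 := d38_1 D41571 (iv D40502) (iv F186991)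
theorem F191501 : act 6 n41571 = n40500 := d41_1 D41571 (iv D40500) D40499
theorem F191502 : act 7 n41571 = n41206 := d43_1 D41571 F191495 (iv D41570)
def n41572 : Q := act 8 n40500
theorem D41572 : act 8 n40500 = n41572 := rfl
theorem F191503 : act 0 n41572 = n41025 := d7_1 D41572 F189075 (iv F186992)
theorem F191504 : act 2 n41572 = n40774 := d22_1 D41572 (iv D40774) (iv F186993)
theorem F191505 : act 3 n41572 = n40511 := d28_1 D41572 (iv D40511) (iv F186994)
theorem F191506 : act 5 n41572 = n41022 := d37_1 D41572 (iv D41022) (iv D39934) (iv F182224) (iv F186995)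
theorem F191507 : act 7 n41572 = n41099 := d42_1 D41572 F189291 (iv F186996)
def n41573 : Q := act 3 n40503
theorem D41573 : act 3 n40503 = n41573 := rfl
theorem F191508 : act 0 n41573 = n41114 := d2_1 D41573 (iv D41114) (iv F187013)
theorem F191509 : act 5 n41573 = n40521 := d25_2 (iv F190641) D41573 (iv F190638)
theorem F191510 : act 8 n41573 = n40506 := d28_2 (iv F187015) D41573 (iv D40506)
def n41574 : Q := act 6 n40503
theorem D41574 : act 6 n40503 = n41574 := rfl
theorem F191511 : act 0 n41574 = n41115 := d5_1 D41574 (iv D41115) (iv F187013)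
theorem F191512 : act 1 n41574 = n41162 := d13_1 D41574 (iv F191440) F191437
theorem F191513 : act 2 n41574 = n40515 := d20_1 D41574 (iv D40515) (iv F187014)
theorem F191514 : act 4 n41574 = n40504 := d31_1 D41574 (iv D40504) D40503
theorem F191515 : act 5 n41574 = n41171 := d35_1 D41574 (iv D41171) (iv F186108) D41414 (iv F190641)
theorem F191516 : act 8 n41574 = n40507 := d40_2 (iv F187015) D41574 (iv D40507)
def n41575 : Q := act 9 n40503
theorem D41575 : act 9 n40503 = n41575 := rfl
theorem F191517 : act 0 n41575 = n41116 := d8_1 D41575 (iv D41116) (iv F187013)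
theorem F191518 : act 2 n41575 = n40516 := d23_1 D41575 (iv D40516) (iv F187014)
theorem F191519 : act 4 n41575 = n40505 := d34_1 D41575 (iv D40505) D40503
def n41576 : Q := act 7 n40504
theorem D41576 : act 7 n40504 = n41576 := rfl
theorem F191520 : act 0 n41576 = n41117 := d6_1 D41576 (iv D41117) (iv F187016)
theorem F191521 : act 1 n41576 = n40858 := d14_1 D41576 F188538 (iv F187017)
theorem F191522 : act 2 n41576 = n40517 := d21_1 D41576 (iv D40517) (iv F187018)
theorem F191523 : act 5 n41576 = n40854 := d36_1 D41576 F188528 (iv F187019)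
theorem F191524 : act 8 n41576 = n40509 := d42_2 (iv F187020) D41576 (iv D40509)
def n41577 : Q := act 9 n40504
theorem D41577 : act 9 n40504 = n41577 := rfl
theorem F191525 : act 0 n41577 = n41118 := d8_1 D41577 (iv D41118) (iv F187016)
theorem F191526 : act 1 n41577 = n41163 := d16_1 D41577 (iv D41163) (iv F187017)
theorem F191527 : act 2 n41577 = n40518 := d23_1 D41577 (iv D40518) (iv F187018)
theorem F191528 : act 5 n41577 = n41156 := d38_1 D41577 (iv D41156) (iv F187019)
theorem F191529 : act 6 n41577 = n40505 := d41_1 D41577 (iv D40505) D40504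
def n41578 : Q := act 8 n40505
theorem D41578 : act 8 n40505 = n41578 := rfl
theorem F191530 : act 0 n41578 = n41119 := d7_1 D41578 (iv D41119) (iv F187021)
theorem F191531 : act 2 n41578 = n40519 := d22_1 D41578 (iv D40519) (iv F187022)
theorem F191532 : act 9 n41578 = n40511 := d44_2 D40505 D41578 (iv D40511) (iv D39383) (iv F182249)
def n41579 : Q := act 6 n40506
theorem D41579 : act 6 n40506 = n41579 := rfl
theorem F191533 : act 0 n41579 = n41120 := d5_1 D41579 (iv D41120) (iv F187024)
theorem F191534 : act 1 n41579 = n41164 := d13_1 D41579 (iv F190684) F190682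
theorem F191535 : act 3 n41579 = n40507 := d26_1 D41579 (iv D40507) D40506
theorem F191536 : act 5 n41579 = n40525 := d35_1 D41579 (iv D40525) F182362 (iv F182291) (iv F187025)
def n41580 : Q := act 7 n40507
theorem D41580 : act 7 n40507 = n41580 := rfl
theorem F191537 : act 0 n41580 = n41121 := d6_1 D41580 (iv D41121) (iv F187026)
theorem F191538 : act 1 n41580 = n40860 := d14_1 D41580 F188545 (iv F187027)
theorem F191539 : act 2 n41580 = n40520 := d21_1 D41580 (iv D40520) (iv F187028)
theorem F191540 : act 4 n41580 = n40509 := d32_1 D41580 (iv D40509) (iv F187029)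
theorem F191541 : act 5 n41580 = n40526 := d36_1 D41580 (iv D40526) (iv F187030)
def n41581 : Q := act 8 n40508
theorem D41581 : act 8 n40508 = n41581 := rfl
theorem F191542 : act 0 n41581 = n41122 := d7_1 D41581 (iv D41122) (iv F187031)
theorem F191543 : act 2 n41581 = n40521 := d22_1 D41581 (iv D40521) (iv F187032)
theorem F191544 : act 4 n41581 = n40511 := d33_1 D41581 (iv D40511) (iv F187033)
def n41582 : Q := act 9 n40509
theorem D41582 : act 9 n40509 = n41582 := rfl
theorem F191545 : act 0 n41582 = n40689 := d8_1 D41582 F187884 (iv F187035)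
theorem F191546 : act 1 n41582 = n40862 := d16_1 D41582 (iv D40862) (iv F187036)
theorem F191547 : act 2 n41582 = n40522 := d23_1 D41582 (iv D40522) (iv F187037)
theorem F191548 : act 3 n41582 = n41206 := d29_1 D41582 F191495 F191492
theorem F191549 : act 5 n41582 = n40512 := d38_1 D41582 (iv D40512) (iv F187038)
theorem F191550 : act 6 n41582 = n41051 := d41_1 D41582 F191077 F191076
theorem F191551 : act 7 n41582 = n40510 := d43_1 D41582 (iv D40510) D40509
def n41583 : Q := act 8 n40510
theorem D41583 : act 8 n40510 = n41583 := rfl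
theorem F191552 : act 0 n41583 = n40754 := d7_1 D41583 (iv D40754) (iv F187039)
theorem F191553 : act 1 n41583 = n41166 := d15_1 D41583 (iv D41166) (iv F187040)
theorem F191554 : act 2 n41583 = n40523 := d22_1 D41583 (iv D40523) (iv F187041)
theorem F191555 : act 6 n41583 = n40511 := d40_1 D41583 (iv D40511) (iv F187043)
def n41584 : Q := act 5 n40513
theorem D41584 : act 5 n40513 = n41584 := rfl
theorem F191556 : act 0 n41584 = n40755 := d4_1 D41584 (iv D40755) (iv F187054)
theorem F191557 : act 1 n41584 = n40878 := d12_1 D41584 (iv D40878) (iv F187055)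
theorem F191558 : act 2 n41584 = n40524 := d19_1 D41584 (iv D40524) (iv F187056)
theorem F191559 : act 3 n41584 = n41204 := d25_1 D41584 F189531 (iv F187057)
theorem F191560 : act 6 n41584 = n41095 := d35_2 (iv F187059) D41584 F189282 F184745 (iv F182278)
theorem F191561 : act 7 n41584 = n40817 := d36_2 (iv F187060) D41584 (iv D40817)
theorem F191562 : act 9 n41584 = n40979 := d38_2 (iv F187061) D41584 F188910
def n41585 : Q := act 9 n40514
theorem D41585 : act 9 n40514 = n41585 := rfl
theorem F191563 : act 0 n41585 = n41123 := d8_1 D41585 (iv D41123) (iv F187062)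
theorem F191564 : act 3 n41585 = n40516 := d29_1 D41585 (iv D40516) D40514
theorem F191565 : act 4 n41585 = n40779 := d34_1 D41585 (iv D40779) (iv F187063)
def n41586 : Q := act 7 n40515
theorem D41586 : act 7 n40515 = n41586 := rfl
theorem F191566 : act 0 n41586 = n41125 := d6_1 D41586 (iv D41125) (iv F187065)
theorem F191567 : act 4 n41586 = n40517 := d32_1 D41586 (iv D40517) (iv F187066)
theorem F191568 : act 8 n41586 = n40520 := d42_2 (iv F187067) D41586 (iv D40520)
def n41587 : Q := act 9 n40515
theorem D41587 : act 9 n40515 = n41587 := rfl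
theorem F191569 : act 0 n41587 = n41126 := d8_1 D41587 (iv D41126) (iv F187065)
theorem F191570 : act 4 n41587 = n40518 := d34_1 D41587 (iv D40518) (iv F187066)
theorem F191571 : act 6 n41587 = n40516 := d41_1 D41587 (iv D40516) D40515
def n41588 : Q := act 8 n40516
theorem D41588 : act 8 n40516 = n41588 := rfl
theorem F191572 : act 0 n41588 = n41127 := d7_1 D41588 (iv D41127) (iv F187068)
theorem F191573 : act 4 n41588 = n40519 := d33_1 D41588 (iv D40519) (iv F187069)
theorem F191574 : act 9 n41588 = n40521 := d44_2 D40516 D41588 (iv D40521) (iv D39395) (iv F182298)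
def n41589 : Q := act 9 n40517
theorem D41589 : act 9 n40517 = n41589 := rfl
theorem F191575 : act 0 n41589 = n41128 := d8_1 D41589 (iv D41128) (iv F187070)
theorem F191576 : act 3 n41589 = n40780 := d29_1 D41589 (iv D40780) (iv F187071)
theorem F191577 : act 7 n41589 = n40518 := d43_1 D41589 (iv D40518) D40517
def n41590 : Q := act 8 n40518
theorem D41590 : act 8 n40518 = n41590 := rfl
theorem F191578 : act 0 n41590 = n40758 := d7_1 D41590 F188165 (iv F187073)
theorem F191579 : act 1 n41590 = n40779 := d15_1 D41590 (iv F190657) F190652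
theorem F191580 : act 3 n41590 = n40640 := d28_1 D41590 F187684 (iv F187074)
theorem F191581 : act 6 n41590 = n40519 := d40_1 D41590 (iv D40519) (iv F187075)
theorem F191582 : act 9 n41590 = n40523 := d44_2 D40518 D41590 (iv D40523) (iv D39397) (iv F182301)
def n41591 : Q := act 8 n40522
theorem D41591 : act 8 n40522 = n41591 := rfl
theorem F191583 : act 0 n41591 = n40691 := d7_1 D41591 (iv D40691) (iv F187084)
theorem F191584 : act 1 n41591 = n40702 := d15_1 D41591 F187944 (iv F187085)
theorem F191585 : act 3 n41591 = n40585 := d28_1 D41591 F187448 (iv F187086)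
theorem F191586 : act 5 n41591 = n40819 := d37_1 D41591 (iv D40819) (iv D39725) F182330 (iv F187087)
theorem F191587 : act 7 n41591 = n40523 := d42_1 D41591 (iv D40523) (iv F187088)
def n41592 : Q := act 5 n40523
theorem D41592 : act 5 n40523 = n41592 := rfl
theorem F191588 : act 0 n41592 = n40757 := d4_1 D41592 (iv D40757) (iv F187089)
theorem F191589 : act 1 n41592 = n40727 := d12_1 D41592 F188035 (iv F187090)
theorem F191590 : act 3 n41592 = n40604 := d25_1 D41592 F187547 (iv F187091)
theorem F191591 : act 7 n41592 = n40819 := d36_2 F191587 D41592 (iv F191586)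
theorem F191592 : act 8 n41592 = n40524 := d37_2 D40523 D41592 (iv D40524) (iv D39400) (iv F182320)
def n41593 : Q := act 4 n40524
theorem D41593 : act 4 n40524 = n41593 := rfl
theorem F191593 : act 0 n41593 = n40759 := d3_1 D41593 (iv D40759) (iv F187093)
theorem F191594 : act 1 n41593 = n40721 := d11_1 D41593 F188011 (iv F187094)
theorem F191595 : act 3 n41593 = n40597 := d24_1 D41593 (iv D40597) F182832 D39493 (iv F187095)
theorem F191596 : act 5 n41593 = n40528 := d30_2 D40524 D41593 (iv D40528) (iv D39410) (iv F182334)
theorem F191597 : act 7 n41593 = n40818 := d32_2 (iv F187096) D41593 (iv D40818)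
def n41594 : Q := act 7 n40525
theorem D41594 : act 7 n40525 = n41594 := rfl
theorem F191598 : act 0 n41594 = n41130 := d6_1 D41594 (iv D41130) (iv F187097)
theorem F191599 : act 1 n41594 = n40863 := d14_1 D41594 F188553 (iv F187098)
theorem F191600 : act 3 n41594 = n40526 := d27_1 D41594 (iv D40526) (iv F187099)
theorem F191601 : act 4 n41594 = n41594 := d32_1 D41594 (iv D41594) F187100
theorem F191602 : act 6 n41594 = n41594 := d39_1 D41594 (iv D41594) (iv D40525) F182363 D40525
theorem F191603 : act 8 n41594 = n41251 := d42_2 (iv F187101) D41594 (iv D41251)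
def n41595 : Q := act 4 n40527
theorem D41595 : act 4 n40527 = n41595 := rfl
theorem F191604 : act 0 n41595 = n40785 := d3_1 D41595 (iv D40785) (iv F187108)
theorem F191605 : act 1 n41595 = n40952 := d11_1 D41595 (iv D40952) (iv F187109)
theorem F191606 : act 2 n41595 = n40528 := d18_1 D41595 (iv D40528) (iv F187110)
theorem F191607 : act 6 n41595 = n41595 := d31_2 F187112 D41595 (iv D41595)
theorem F191608 : act 7 n41595 = n40827 := d32_2 (iv F187113) D41595 (iv D40827)
theorem F191609 : act 8 n41595 = n41021 := d33_2 (iv F187114) D41595 F189056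
theorem F191610 : act 9 n41595 = n41004 := d34_2 (iv F187115) D41595 F189013
theorem F191611 : act 3 n41244 = n41595 := d45_1 (iv F189605) (iv D41595) (iv D40527) F182388 F176911 (iv D36748) F162948 F155058 F146494 F138894 F133652 (iv F133647) (iv D15191) F54825 (iv F69523) D19398 F87973 (iv F107916) D29723 D31738 (iv F156381) F156382 F148655 (iv F157378) (iv F165337) F165338 (iv F164698) F164695 (iv F163051) F163052 F155142 (iv D31533) (iv D29543) D29544 (iv F146633) (iv F154633) (iv F162478) D36633 D38057 D39292 F181784 (iv F181459) F181460 F177914 F172744 (iv F178767) (iv D38546) F172737 (iv F170079) F170080 (iv F170734) F170735 (iv D35879) F158651 (iv F166427) F166424 D37391 (iv F179185) (iv F183710) (iv F187586) (iv F190742) F190743 F188350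
def n41596 : Q := act 4 n40530
theorem D41596 : act 4 n40530 = n41596 := rfl
theorem F191612 : act 0 n41596 = n41253 := d3_1 D41596 F189639 (iv F187129)
theorem F191613 : act 1 n41596 = n40785 := d11_1 D41596 (iv D40785) (iv F187130)
theorem F191614 : act 2 n41596 = n40531 := d18_1 D41596 (iv D40531) (iv F187131)
theorem F191615 : act 6 n41596 = n41596 := d31_2 F187133 D41596 (iv D41596)
theorem F191616 : act 7 n41596 = n40807 := d32_2 (iv F187134) D41596 F188381
theorem F191617 : act 9 n41596 = n40806 := d34_2 (iv F187135) D41596 F188375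
def n41597 : Q := act 6 n40532
theorem D41597 : act 6 n40532 = n41597 := rfl
theorem F191618 : act 0 n41597 = n41132 := d5_1 D41597 (iv D41132) (iv F187140)
theorem F191619 : act 1 n41597 = n41247 := d13_1 D41597 (iv F190325) F190323
theorem F191620 : act 2 n41597 = n40788 := d20_1 D41597 (iv D40788) (iv F187141)
theorem F191621 : act 3 n41597 = n40749 := d26_1 D41597 F188138 (iv F187142)
theorem F191622 : act 5 n41597 = n40534 := d35_1 D41597 (iv D40534) (iv D39423) (iv F182464) D40532
theorem F191623 : act 9 n41597 = n40747 := d41_2 (iv F187143) D41597 (iv D40747)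
def n41598 : Q := act 7 n40534
theorem D41598 : act 7 n40534 = n41598 := rfl
theorem F191624 : act 0 n41598 = n41133 := d6_1 D41598 (iv D41133) (iv F187152)
theorem F191625 : act 1 n41598 = n41014 := d14_1 D41598 F189042 (iv F187153)
theorem F191626 : act 2 n41598 = n40795 := d21_1 D41598 (iv D40795) (iv F187154)
theorem F191627 : act 3 n41598 = n40803 := d27_1 D41598 F188359 (iv F187155)
theorem F191628 : act 4 n41598 = n41598 := d32_1 D41598 (iv D41598) F187156
theorem F191629 : act 6 n41598 = n41598 := d39_1 D41598 (iv D41598) (iv D40534) F182483 D40534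
theorem F191630 : act 8 n41598 = n41246 := d42_2 (iv F187157) D41598 (iv D41246)
theorem F191631 : act 9 n41598 = n40802 := d43_2 (iv F187158) D41598 (iv D40802)
def n41599 : Q := act 8 n40535
theorem D41599 : act 8 n40535 = n41599 := rfl
theorem F191632 : act 0 n41599 = n40813 := d7_1 D41599 F188402 (iv F187159)
theorem F191633 : act 1 n41599 = n40537 := d15_1 D41599 (iv D40537) (iv F187160)
theorem F191634 : act 2 n41599 = n40570 := d22_1 D41599 F187373 (iv F187161)
theorem F191635 : act 3 n41599 = n41080 := d28_1 D41599 F189242 (iv F187162)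
theorem F191636 : act 4 n41599 = n40810 := d33_1 D41599 (iv D40810) (iv F187163)
theorem F191637 : act 5 n41599 = n40569 := d37_1 D41599 (iv D40569) (iv D39458) (iv F182492) D40535
theorem F191638 : act 6 n41599 = n40968 := d40_1 D41599 (iv D40968) (iv F187164)
theorem F191639 : act 7 n41599 = n40562 := d42_1 D41599 (iv D40562) (iv F187165)
def n41600 : Q := act 4 n40536
theorem D41600 : act 4 n40536 = n41600 := rfl
theorem F191640 : act 0 n41600 = n40578 := d3_1 D41600 (iv D40578) (iv F187167)
theorem F191641 : act 1 n41600 = n41082 := d11_1 D41600 F189246 (iv F187168)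
theorem F191642 : act 2 n41600 = n41148 := d18_1 D41600 (iv D41148) (iv F187169)
theorem F191643 : act 3 n41600 = n40811 := d24_1 D41600 (iv D40811) F183828 (iv F182503) (iv F187170)
theorem F191644 : act 5 n41600 = n41600 := d30_2 D40536 D41600 (iv D41600) (iv D40536) F182498
theorem F191645 : act 6 n41600 = n40969 := d31_2 (iv F187171) D41600 (iv D40969)
theorem F191646 : act 7 n41600 = n40563 := d32_2 (iv F187172) D41600 (iv D40563)
theorem F191647 : act 9 n41600 = n41007 := d34_2 (iv F187173) D41600 (iv D41007)
def n41601 : Q := act 8 n40536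
theorem D41601 : act 8 n40536 = n41601 := rfl
theorem F191648 : act 0 n41601 = n40579 := d7_1 D41601 (iv D40579) (iv F187167)
theorem F191649 : act 1 n41601 = n41080 := d15_1 D41601 F189242 (iv F187168)
theorem F191650 : act 2 n41601 = n41149 := d22_1 D41601 (iv D41149) (iv F187169)
theorem F191651 : act 3 n41601 = n40537 := d28_1 D41601 (iv D40537) (iv F187170)
theorem F191652 : act 6 n41601 = n40970 := d40_1 D41601 (iv D40970) (iv F187171)
theorem F191653 : act 7 n41601 = n40564 := d42_1 D41601 (iv D40564) (iv F187172)
def n41602 : Q := act 5 n40537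
theorem D41602 : act 5 n40537 = n41602 := rfl
theorem F191654 : act 0 n41602 = n40581 := d4_1 D41602 (iv D40581) (iv F187174)
theorem F191655 : act 1 n41602 = n40569 := d12_1 D41602 (iv F191637) F191633
theorem F191656 : act 2 n41602 = n40539 := d19_1 D41602 (iv D40539) (iv F187175)
theorem F191657 : act 7 n41602 = n40565 := d36_2 (iv F187178) D41602 (iv D40565)
theorem F191658 : act 8 n41602 = n40538 := d37_2 D40537 D41602 (iv D40538) (iv D39427) D39426
theorem F191659 : act 4 n40576 = n41602 := d33_3 F191658 F187182 D40576
theorem F191660 : act 6 n40962 = n41602 := d40_3 F191658 F187183 D40962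
def n41603 : Q := act 9 n40537
theorem D41603 : act 9 n40537 = n41603 := rfl
theorem F191661 : act 0 n41603 = n40582 := d8_1 D41603 (iv D40582) (iv F187174)
theorem F191662 : act 2 n41603 = n40540 := d23_1 D41603 (iv D40540) (iv F187175)
theorem F191663 : act 4 n41603 = n40814 := d34_1 D41603 (iv D40814) (iv F187176)
theorem F191664 : act 6 n41603 = n40972 := d41_1 D41603 (iv D40972) (iv F187177)
theorem F191665 : act 7 n41603 = n40566 := d43_1 D41603 (iv D40566) (iv F187178)
theorem F191666 : act 8 n41603 = n41011 := d44_1 D41603 (iv D41011) (iv D39923) (iv F182506) D40537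
def n41604 : Q := act 9 n40539
theorem D41604 : act 9 n40539 = n41604 := rfl
theorem F191667 : act 0 n41604 = n40587 := d8_1 D41604 (iv D40587) (iv F187186)
theorem F191668 : act 1 n41604 = n40670 := d16_1 D41604 (iv D40670) (iv F187187)
theorem F191669 : act 3 n41604 = n41153 := d29_1 D41604 (iv D41153) (iv F187188)
theorem F191670 : act 4 n41604 = n40694 := d34_1 D41604 (iv D40694) F187191
theorem F191671 : act 5 n41604 = n40540 := d38_1 D41604 (iv D40540) D40539
theorem F191672 : act 7 n41604 = n40567 := d43_1 D41604 (iv D40567) (iv F187189)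
theorem F191673 : act 8 n41604 = n40882 := d44_1 D41604 (iv D40882) (iv D39788) (iv F182525) (iv F187190)
def n41605 : Q := act 5 n40541
theorem D41605 : act 5 n40541 = n41605 := rfl
theorem F191674 : act 0 n41605 = n40630 := d4_1 D41605 (iv D40630) (iv F187199)
theorem F191675 : act 1 n41605 = n40543 := d12_1 D41605 (iv D40543) (iv F187200)
theorem F191676 : act 2 n41605 = n41204 := d19_1 D41605 F189531 (iv F187201)
theorem F191677 : act 3 n41605 = n40542 := d25_1 D41605 (iv D40542) (iv F187202)
theorem F191678 : act 6 n41605 = n40599 := d35_2 D40541 D41605 F187526 F182839 (iv F182531)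
theorem F191679 : act 7 n41605 = n40809 := d36_2 (iv F187204) D41605 (iv D40809)
theorem F191680 : act 9 n41605 = n40598 := d38_2 (iv F187206) D41605 F187520
def n41606 : Q := act 8 n40542
theorem D41606 : act 8 n40542 = n41606 := rfl
theorem F191681 : act 0 n41606 = n40631 := d7_1 D41606 F187654 (iv F187207)
theorem F191682 : act 1 n41606 = n40544 := d15_1 D41606 (iv D40544) (iv F187208)
theorem F191683 : act 2 n41606 = n40604 := d22_1 D41606 F187549 (iv F187209)
theorem F191684 : act 4 n41606 = n40562 := d33_1 D41606 (iv D40562) (iv F187210)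
theorem F191685 : act 5 n41606 = n40625 := d37_1 D41606 (iv D40625) (iv D39510) (iv F182539) D40542
theorem F191686 : act 6 n41606 = n40607 := d40_1 D41606 (iv D40607) (iv F187211)
theorem F191687 : act 7 n41606 = n40810 := d42_1 D41606 (iv D40810) (iv F187212)
def n41607 : Q := act 4 n40543
theorem D41607 : act 4 n40543 = n41607 := rfl
theorem F191688 : act 0 n41607 = n40601 := d3_1 D41607 (iv D40601) (iv F187214)
theorem F191689 : act 2 n41607 = n40835 := d18_1 D41607 (iv D40835) (iv F187215)
theorem F191690 : act 3 n41607 = n40563 := d24_1 D41607 (iv D40563) F182661 (iv F182549) (iv F187216)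
theorem F191691 : act 5 n41607 = n41607 := d30_2 D40543 D41607 (iv D41607) (iv D40543) F182544
theorem F191692 : act 6 n41607 = n40723 := d31_2 (iv F187217) D41607 F188019
theorem F191693 : act 7 n41607 = n40811 := d32_2 (iv F187218) D41607 (iv D40811)
theorem F191694 : act 9 n41607 = n40722 := d34_2 (iv F187219) D41607 F188016
def n41608 : Q := act 8 n40543
theorem D41608 : act 8 n40543 = n41608 := rfl
theorem F191695 : act 0 n41608 = n40602 := d7_1 D41608 (iv D40602) (iv F187214)
theorem F191696 : act 2 n41608 = n40836 := d22_1 D41608 (iv D40836) (iv F187215)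
theorem F191697 : act 3 n41608 = n40544 := d28_1 D41608 (iv D40544) (iv F187216)
theorem F191698 : act 6 n41608 = n40724 := d40_1 D41608 (iv D40724) (iv F187217)
theorem F191699 : act 7 n41608 = n40812 := d42_1 D41608 (iv D40812) (iv F187218)
def n41609 : Q := act 5 n40544
theorem D41609 : act 5 n40544 = n41609 := rfl
theorem F191700 : act 0 n41609 = n40562 := d4_1 D41609 F187338 (iv F187220)
theorem F191701 : act 1 n41609 = n40625 := d12_1 D41609 (iv F191685) F191682
theorem F191702 : act 2 n41609 = n40546 := d19_1 D41609 (iv D40546) (iv F187221)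
theorem F191703 : act 4 n41609 = n40631 := d30_1 D41609 (iv D40631) F187347 (iv D40565) (iv F187222)
theorem F191704 : act 6 n41609 = n40765 := d35_2 (iv F187223) D41609 F188188 F184197 (iv F183357)
theorem F191705 : act 7 n41609 = n40813 := d36_2 (iv F187224) D41609 (iv D40813)
theorem F191706 : act 8 n41609 = n40545 := d37_2 D40544 D41609 (iv D40545) (iv D39434) D39433
def n41610 : Q := act 9 n40544
theorem D41610 : act 9 n40544 = n41610 := rfl
theorem F191707 : act 0 n41610 = n40603 := d8_1 D41610 (iv D40603) (iv F187220)
theorem F191708 : act 2 n41610 = n40547 := d23_1 D41610 (iv D40547) (iv F187221)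
theorem F191709 : act 4 n41610 = n40566 := d34_1 D41610 (iv D40566) (iv F187222)
theorem F191710 : act 6 n41610 = n40730 := d41_1 D41610 F188050 (iv F187223)
theorem F191711 : act 7 n41610 = n40814 := d43_1 D41610 (iv D40814) (iv F187224)
theorem F191712 : act 8 n41610 = n40729 := d44_1 D41610 (iv D40729) F183347 (iv F182552) D40544
def n41611 : Q := act 6 n40546
theorem D41611 : act 6 n40546 = n41611 := rfl
theorem F191713 : act 0 n41611 = n40605 := d5_1 D41611 (iv D40605) (iv F187232)
theorem F191714 : act 1 n41611 = n40639 := d13_1 D41611 F187679 (iv F187233)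
theorem F191715 : act 2 n41611 = n40765 := d20_1 D41611 (iv F191704) F191702
theorem F191716 : act 3 n41611 = n40839 := d26_1 D41611 (iv D40839) (iv F187234)
theorem F191717 : act 4 n41611 = n40762 := d31_1 D41611 (iv D40762) (iv F187235)
theorem F191718 : act 5 n41611 = n40929 := d35_1 D41611 F188745 F184165 (iv F182564) D40546
theorem F191719 : act 8 n41611 = n40548 := d40_2 (iv F187237) D41611 (iv D40548)
def n41612 : Q := act 9 n40546
theorem D41612 : act 9 n40546 = n41612 := rfl
theorem F191720 : act 0 n41612 = n40606 := d8_1 D41612 (iv D40606) (iv F187232)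
theorem F191721 : act 1 n41612 = n40775 := d16_1 D41612 (iv D40775) (iv F187233)
theorem F191722 : act 3 n41612 = n40840 := d29_1 D41612 (iv D40840) (iv F187234)
theorem F191723 : act 4 n41612 = n40763 := d34_1 D41612 (iv D40763) (iv F187235)
theorem F191724 : act 5 n41612 = n40547 := d38_1 D41612 (iv D40547) D40546
theorem F191725 : act 7 n41612 = n40815 := d43_1 D41612 (iv D40815) (iv F187236)
def n41613 : Q := act 7 n40548
theorem D41613 : act 7 n40548 = n41613 := rfl
theorem F191726 : act 0 n41613 = n40592 := d6_1 D41613 F187483 (iv F187245)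
theorem F191727 : act 1 n41613 = n40584 := d14_1 D41613 F187443 (iv F187246)
theorem F191728 : act 2 n41613 = n40695 := d21_1 D41613 F187913 (iv F187247)
theorem F191729 : act 3 n41613 = n40678 := d27_1 D41613 F187845 (iv F187248)
theorem F191730 : act 4 n41613 = n40764 := d32_1 D41613 (iv D40764) (iv F187249)
theorem F191731 : act 5 n41613 = n40550 := d36_1 D41613 (iv D40550) (iv F187250)
theorem F191732 : act 6 n41613 = n40674 := d39_1 D41613 F187823 F183372 (iv F182570) D40548
theorem F191733 : act 9 n41613 = n40577 := d43_2 F187251 D41613 F187416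
def n41614 : Q := act 8 n40549
theorem D41614 : act 8 n40549 = n41614 := rfl
theorem F191734 : act 0 n41614 = n40607 := d7_1 D41614 (iv D40607) (iv F187252)
theorem F191735 : act 1 n41614 = n40637 := d15_1 D41614 F187671 (iv F187253)
theorem F191736 : act 2 n41614 = n40762 := d22_1 D41614 F188178 (iv F187254)
theorem F191737 : act 3 n41614 = n40843 := d28_1 D41614 (iv D40843) (iv F187255)
theorem F191738 : act 4 n41614 = n40765 := d33_1 D41614 (iv D40765) (iv F187256)
theorem F191739 : act 5 n41614 = n40833 := d37_1 D41614 (iv D40833) F183921 (iv F182578) (iv F187257)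
theorem F191740 : act 6 n41614 = n40631 := d40_1 D41614 F187654 (iv F187258)
theorem F191741 : act 7 n41614 = n40816 := d42_1 D41614 (iv D40816) (iv F187259)
def n41615 : Q := act 8 n40551
theorem D41615 : act 8 n40551 = n41615 := rfl
theorem F191742 : act 0 n41615 = n40762 := d7_1 D41615 F188178 (iv F187268)
theorem F191743 : act 1 n41615 = n40553 := d15_1 D41615 (iv D40553) (iv F187269)
theorem F191744 : act 2 n41615 = n40607 := d22_1 D41615 (iv D40607) (iv F187270)
theorem F191745 : act 4 n41615 = n40605 := d33_1 D41615 F187552 (iv F187271)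
theorem F191746 : act 5 n41615 = n40752 := d37_1 D41615 (iv D40752) F183435 (iv F182599) D40551
theorem F191747 : act 6 n41615 = n40604 := d40_1 D41615 F187549 (iv F187272)
theorem F191748 : act 7 n41615 = n41006 := d42_1 D41615 (iv D41006) (iv F187273)
def n41616 : Q := act 4 n40552
theorem D41616 : act 4 n40552 = n41616 := rfl
theorem F191749 : act 0 n41616 = n40608 := d3_1 D41616 (iv D40608) (iv F187275)
theorem F191750 : act 2 n41616 = n40855 := d18_1 D41616 (iv D40855) (iv F187276)
theorem F191751 : act 3 n41616 = n40722 := d24_1 D41616 F188016 F183311 (iv F182609) (iv F187277)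
theorem F191752 : act 5 n41616 = n41616 := d30_2 D40552 D41616 (iv D41616) (iv D40552) F182604
theorem F191753 : act 6 n41616 = n40721 := d31_2 (iv F187278) D41616 F188011
theorem F191754 : act 7 n41616 = n41007 := d32_2 (iv F187279) D41616 (iv D41007)
theorem F191755 : act 9 n41616 = n40563 := d34_2 (iv F187280) D41616 (iv D40563)
def n41617 : Q := act 8 n40552
theorem D41617 : act 8 n40552 = n41617 := rfl
theorem F191756 : act 0 n41617 = n40609 := d7_1 D41617 (iv D40609) (iv F187275)
theorem F191757 : act 2 n41617 = n40856 := d22_1 D41617 (iv D40856) (iv F187276)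
theorem F191758 : act 3 n41617 = n40553 := d28_1 D41617 (iv D40553) (iv F187277)
theorem F191759 : act 6 n41617 = n40727 := d40_1 D41617 F188037 (iv F187278)
theorem F191760 : act 7 n41617 = n41008 := d42_1 D41617 (iv D41008) (iv F187279)
def n41618 : Q := act 5 n40553
theorem D41618 : act 5 n40553 = n41618 := rfl
theorem F191761 : act 0 n41618 = n40611 := d4_1 D41618 (iv D40611) (iv F187281)
theorem F191762 : act 1 n41618 = n40752 := d12_1 D41618 (iv F191746) F191743
theorem F191763 : act 2 n41618 = n40555 := d19_1 D41618 (iv D40555) (iv F187282)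
theorem F191764 : act 4 n41618 = n41222 := d30_1 D41618 (iv D41222) F185062 (iv F183346) (iv F187283)
theorem F191765 : act 6 n41618 = n40621 := d35_2 (iv F187284) D41618 F187610 F183007 (iv F183341)
theorem F191766 : act 7 n41618 = n41010 := d36_2 (iv F187285) D41618 (iv D41010)
theorem F191767 : act 8 n41618 = n40554 := d37_2 D40553 D41618 (iv D40554) (iv D39443) D39442
def n41619 : Q := act 9 n40553
theorem D41619 : act 9 n40553 = n41619 := rfl
theorem F191768 : act 0 n41619 = n40612 := d8_1 D41619 (iv D40612) (iv F187281)
theorem F191769 : act 2 n41619 = n40556 := d23_1 D41619 (iv D40556) (iv F187282)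
theorem F191770 : act 4 n41619 = n40729 := d34_1 D41619 (iv D40729) (iv F187283)
theorem F191771 : act 6 n41619 = n40728 := d41_1 D41619 (iv D40728) (iv F187284)
theorem F191772 : act 7 n41619 = n41011 := d43_1 D41619 (iv D41011) (iv F187285)
theorem F191773 : act 8 n41619 = n40566 := d44_1 D41619 (iv D40566) (iv D39452) (iv F182612) D40553
def n41620 : Q := act 4 n40555
theorem D41620 : act 4 n40555 = n41620 := rfl
theorem F191774 : act 0 n41620 = n40615 := d3_1 D41620 (iv D40615) (iv F187293)
theorem F191775 : act 1 n41620 = n40927 := d11_1 D41620 F188738 (iv F187294)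
theorem F191776 : act 2 n41620 = n41222 := d18_1 D41620 (iv F191764) F191763
theorem F191777 : act 5 n41620 = n40830 := d30_2 D40555 D41620 (iv D40830) (iv D39740) (iv F182623)
theorem F191778 : act 7 n41620 = n41015 := d32_2 (iv F187296) D41620 (iv D41015)
theorem F191779 : act 8 n41620 = n40557 := d33_2 (iv F187297) D41620 (iv D40557)
def n41621 : Q := act 6 n40555
theorem D41621 : act 6 n40555 = n41621 := rfl
theorem F191780 : act 0 n41621 = n40616 := d5_1 D41621 (iv D40616) (iv F187293)
theorem F191781 : act 1 n41621 = n40929 := d13_1 D41621 F188745 (iv F187294)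
theorem F191782 : act 2 n41621 = n40621 := d20_1 D41621 (iv F191765) F191763
theorem F191783 : act 3 n41621 = n40867 := d26_1 D41621 (iv D40867) (iv F187295)
theorem F191784 : act 5 n41621 = n40639 := d35_1 D41621 F187679 F183514 (iv F182624) D40555
theorem F191785 : act 8 n41621 = n40558 := d40_2 (iv F187297) D41621 (iv D40558)
def n41622 : Q := act 9 n40555
theorem D41622 : act 9 n40555 = n41622 := rfl
theorem F191786 : act 0 n41622 = n40617 := d8_1 D41622 (iv D40617) (iv F187293)
theorem F191787 : act 1 n41622 = n40922 := d16_1 D41622 F188722 (iv F187294)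
theorem F191788 : act 3 n41622 = n40868 := d29_1 D41622 (iv D40868) (iv F187295)
theorem F191789 : act 5 n41622 = n40556 := d38_1 D41622 (iv D40556) D40555
theorem F191790 : act 7 n41622 = n41017 := d43_1 D41622 (iv D41017) (iv F187296)
theorem F191791 : act 8 n41622 = n40906 := d44_1 D41622 (iv D40906) F184119 (iv F182630) (iv F187297)
def n41623 : Q := act 3 n40557
theorem D41623 : act 3 n40557 = n41623 := rfl
theorem F191792 : act 0 n41623 = n40618 := d2_1 D41623 (iv D40618) (iv F187305)
theorem F191793 : act 1 n41623 = n40828 := d10_1 D41623 F188449 (iv F187306)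
theorem F191794 : act 4 n41623 = n40869 := d24_2 D40557 D41623 (iv D40869) (iv D39777) (iv F182628)
theorem F191795 : act 5 n41623 = n40559 := d25_2 (iv F187308) D41623 (iv D40559)
theorem F191796 : act 7 n41623 = n41018 := d27_2 (iv F187309) D41623 (iv D41018)
theorem F191797 : act 9 n41623 = n40907 := d29_2 (iv F187310) D41623 (iv D40907)
def n41624 : Q := act 2 n40559
theorem D41624 : act 2 n40559 = n41624 := rfl
theorem F191798 : act 0 n41624 = n40622 := d1_1 D41624 (iv D40622) (iv F187317)
theorem F191799 : act 1 n41624 = n40957 := d9_1 D41624 F188821 F184275 (iv F183890) (iv F187318)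
theorem F191800 : act 3 n41624 = n41245 := d17_2 D40559 D41624 F189609 F185120 (iv F182640)
theorem F191801 : act 4 n41624 = n40560 := d18_2 (iv F187319) D41624 (iv D40560)
theorem F191802 : act 6 n41624 = n40798 := d20_2 (iv F187320) D41624 (iv D40798)
theorem F191803 : act 7 n41624 = n41021 := d21_2 (iv F187321) D41624 (iv D41021)
theorem F191804 : act 8 n41624 = n40827 := d22_2 (iv F187322) D41624 F188443
theorem F191805 : act 9 n41624 = n40908 := d23_2 (iv F187323) D41624 (iv D40908)
def n41625 : Q := act 4 n40561
theorem D41625 : act 4 n40561 = n41625 := rfl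
theorem F191806 : act 1 n41625 = n40563 := d11_1 D41625 (iv D40563) (iv F187332)
theorem F191807 : act 2 n41625 = n41092 := d18_1 D41625 F189275 (iv F187333)
theorem F191808 : act 5 n41625 = n41625 := d30_2 D40561 D41625 (iv D41625) (iv D40561) F182655
theorem F191809 : act 7 n41625 = n41082 := d32_2 (iv F187335) D41625 F189246
def n41626 : Q := act 8 n40561
theorem D41626 : act 8 n40561 = n41626 := rfl
theorem F191810 : act 1 n41626 = n40564 := d15_1 D41626 (iv D40564) (iv F187332)
theorem F191811 : act 2 n41626 = n41086 := d22_1 D41626 F189256 (iv F187333)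
theorem F191812 : act 3 n41626 = n40562 := d28_1 D41626 (iv D40562) (iv F187334)
theorem F191813 : act 5 n41626 = n40602 := d37_1 D41626 (iv D40602) (iv D39489) (iv F182657) D40561
theorem F191814 : act 7 n41626 = n41080 := d42_1 D41626 F189242 (iv F187335)
def n41627 : Q := act 9 n40562
theorem D41627 : act 9 n40562 = n41627 := rfl
theorem F191815 : act 1 n41627 = n40566 := d16_1 D41627 (iv D40566) (iv F187336)
theorem F191816 : act 2 n41627 = n40606 := d23_1 D41627 (iv D40606) (iv F187337)
theorem F191817 : act 5 n41627 = n40603 := d38_1 D41627 (iv D40603) (iv F187338)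
def n41628 : Q := act 8 n40563
theorem D41628 : act 8 n40563 = n41628 := rfl
theorem F191818 : act 0 n41628 = n40633 := d7_1 D41628 (iv D40633) (iv F187339)
theorem F191819 : act 4 n41628 = n40564 := d33_1 D41628 (iv D40564) D40563
def n41629 : Q := act 9 n40564
theorem D41629 : act 9 n40564 = n41629 := rfl
theorem F191820 : act 0 n41629 = n40635 := d8_1 D41629 (iv D40635) (iv F187341)
theorem F191821 : act 3 n41629 = n40566 := d29_1 D41629 (iv D40566) (iv F187342)
def n41630 : Q := act 9 n40565
theorem D41630 : act 9 n40565 = n41630 := rfl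
theorem F191822 : act 0 n41630 = n40638 := d8_1 D41630 (iv D40638) (iv F187343)
theorem F191823 : act 1 n41630 = n40603 := d16_1 D41630 (iv D40603) (iv F187344)
theorem F191824 : act 2 n41630 = n40567 := d23_1 D41630 (iv D40567) (iv F187345)
theorem F191825 : act 4 n41630 = n40632 := d34_1 D41630 (iv D40632) F187347
theorem F191826 : act 5 n41630 = n40566 := d38_1 D41630 (iv D40566) D40565
theorem F191827 : act 6 n41630 = n41136 := d41_1 D41630 F189385 F187348
theorem F191828 : act 8 n41630 = n40844 := d44_1 D41630 (iv D40844) (iv D39754) (iv F182669) (iv F187346)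
def n41631 : Q := act 4 n40568
theorem D41631 : act 4 n40568 = n41631 := rfl
theorem F191829 : act 0 n41631 = n40811 := d3_1 D41631 (iv D40811) (iv F187357)
theorem F191830 : act 2 n41631 = n40722 := d18_1 D41631 F188016 (iv F187358)
theorem F191831 : act 3 n41631 = n40578 := d24_1 D41631 (iv D40578) F182748 (iv F182694) (iv F187359)
theorem F191832 : act 5 n41631 = n41631 := d30_2 D40568 D41631 (iv D41631) (iv D40568) F182688
theorem F191833 : act 6 n41631 = n40717 := d31_2 (iv F187360) D41631 (iv D40717)
theorem F191834 : act 7 n41631 = n40601 := d32_2 (iv F187361) D41631 (iv D40601)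
theorem F191835 : act 9 n41631 = n40835 := d34_2 (iv F187362) D41631 (iv D40835)
def n41632 : Q := act 8 n40568
theorem D41632 : act 8 n40568 = n41632 := rfl
theorem F191836 : act 0 n41632 = n40812 := d7_1 D41632 (iv D40812) (iv F187357)
theorem F191837 : act 2 n41632 = n40719 := d22_1 D41632 F188006 (iv F187358)
theorem F191838 : act 3 n41632 = n40569 := d28_1 D41632 (iv D40569) (iv F187359)
theorem F191839 : act 5 n41632 = n41080 := d37_1 D41632 F189242 F184710 (iv F182690) D40568
theorem F191840 : act 6 n41632 = n40715 := d40_1 D41632 F187992 (iv F187360)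
theorem F191841 : act 7 n41632 = n40602 := d42_1 D41632 (iv D40602) (iv F187361)
def n41633 : Q := act 9 n40569
theorem D41633 : act 9 n40569 = n41633 := rfl
theorem F191842 : act 0 n41633 = n40814 := d8_1 D41633 (iv D40814) (iv F187363)
theorem F191843 : act 2 n41633 = n40571 := d23_1 D41633 (iv D40571) (iv F187364)
theorem F191844 : act 4 n41633 = n40582 := d34_1 D41633 (iv D40582) (iv F187365)
theorem F191845 : act 6 n41633 = n40963 := d41_1 D41633 (iv D40963) (iv F187366)
theorem F191846 : act 7 n41633 = n40603 := d43_1 D41633 (iv D40603) (iv F187367)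
theorem F191847 : act 8 n41633 = n40837 := d44_1 D41633 (iv D40837) (iv D39747) (iv F182697) D40569
def n41634 : Q := act 9 n40570
theorem D41634 : act 9 n40570 = n41634 := rfl
theorem F191848 : act 0 n41634 = n40815 := d8_1 D41634 (iv D40815) (iv F187368)
theorem F191849 : act 1 n41634 = n40671 := d16_1 D41634 (iv D40671) (iv F187369)
theorem F191850 : act 3 n41634 = n40831 := d29_1 D41634 (iv D40831) (iv F187370)
theorem F191851 : act 4 n41634 = n40820 := d34_1 D41634 (iv D40820) F187374
theorem F191852 : act 5 n41634 = n40571 := d38_1 D41634 (iv D40571) D40570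
theorem F191853 : act 6 n41634 = n41059 := d41_1 D41634 (iv D41059) (iv F187371)
theorem F191854 : act 7 n41634 = n40606 := d43_1 D41634 (iv D40606) (iv F187372)
def n41635 : Q := act 8 n40572
theorem D41635 : act 8 n40572 = n41635 := rfl
theorem F191855 : act 0 n41635 = n40576 := d7_1 D41635 (iv D40576) (iv F187382)
theorem F191856 : act 1 n41635 = n40813 := d15_1 D41635 F188402 (iv F187383)
theorem F191857 : act 2 n41635 = n40585 := d22_1 D41635 F187448 (iv F187384)
theorem F191858 : act 4 n41635 = n40581 := d33_1 D41635 F187427 (iv F187385)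
theorem F191859 : act 5 n41635 = n40810 := d37_1 D41635 (iv D40810) (iv D39715) (iv F182715) D40572
theorem F191860 : act 7 n41635 = n40625 := d42_1 D41635 (iv D40625) (iv F187386)
def n41636 : Q := act 5 n40573
theorem D41636 : act 5 n40573 = n41636 := rfl
theorem F191861 : act 0 n41636 = n41206 := d4_1 D41636 (iv D41206) (iv F187388)
theorem F191862 : act 1 n41636 = n41037 := d12_1 D41636 F189113 (iv F187389)
theorem F191863 : act 2 n41636 = n40574 := d19_1 D41636 (iv D40574) (iv F187390)
theorem F191864 : act 3 n41636 = n40689 := d25_1 D41636 (iv D40689) (iv F187391)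
theorem F191865 : act 6 n41636 = n40710 := d35_2 D40573 D41636 (iv D40710) F183274 (iv F182722)
theorem F191866 : act 7 n41636 = n40626 := d36_2 (iv F187393) D41636 (iv D40626)
theorem F191867 : act 9 n41636 = n41113 := d38_2 (iv F187395) D41636 F189326
def n41637 : Q := act 4 n40574
theorem D41637 : act 4 n40574 = n41637 := rfl
theorem F191868 : act 1 n41637 = n40578 := d11_1 D41637 (iv D40578) (iv F187396)
theorem F191869 : act 5 n41637 = n41637 := d30_2 D40574 D41637 (iv D41637) (iv D40574) F182727
theorem F191870 : act 7 n41637 = n40628 := d32_2 (iv F187398) D41637 (iv D40628)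
theorem F191871 : act 9 n41637 = n41240 := d34_2 (iv F187399) D41637 F189599
def n41638 : Q := act 8 n40574
theorem D41638 : act 8 n40574 = n41638 := rfl
theorem F191872 : act 1 n41638 = n40579 := d15_1 D41638 (iv D40579) (iv F187396)
theorem F191873 : act 3 n41638 = n40576 := d28_1 D41638 (iv D40576) (iv F187397)
theorem F191874 : act 7 n41638 = n40629 := d42_1 D41638 (iv D40629) (iv F187398)
def n41639 : Q := act 5 n40575
theorem D41639 : act 5 n40575 = n41639 := rfl
theorem F191875 : act 0 n41639 = n40809 := d4_1 D41639 (iv D40809) (iv F187400)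
theorem F191876 : act 1 n41639 = n40580 := d12_1 D41639 (iv D40580) (iv F187401)
theorem F191877 : act 2 n41639 = n40687 := d19_1 D41639 F187877 (iv F187402)
theorem F191878 : act 3 n41639 = n40577 := d25_1 D41639 (iv D40577) (iv F187403)
theorem F191879 : act 6 n41639 = n40679 := d35_2 (iv F187405) D41639 F187850 F183143 (iv F182735)
theorem F191880 : act 7 n41639 = n40630 := d36_2 (iv F187406) D41639 (iv D40630)
theorem F191881 : act 9 n41639 = n40678 := d38_2 (iv F187407) D41639 F187844
def n41640 : Q := act 5 n40576
theorem D41640 : act 5 n40576 = n41640 := rfl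
theorem F191882 : act 0 n41640 = n40810 := d4_1 D41640 (iv F191859) F191855
theorem F191883 : act 1 n41640 = n40581 := d12_1 D41640 (iv D40581) (iv F187408)
theorem F191884 : act 2 n41640 = n40693 := d19_1 D41640 (iv D40693) (iv F187409)
theorem F191885 : act 4 n41640 = n40813 := d30_1 D41640 (iv D40813) (iv F187176) D41602 (iv F191659)
theorem F191886 : act 7 n41640 = n40631 := d36_2 (iv F187410) D41640 (iv D40631)
theorem F191887 : act 8 n41640 = n40577 := d37_2 D40576 D41640 (iv D40577) (iv D39466) D39465
theorem F191888 : act 6 n40994 = n41640 := d40_3 F191887 F187415 D40994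
def n41641 : Q := act 9 n40576
theorem D41641 : act 9 n40576 = n41641 := rfl
theorem F191889 : act 1 n41641 = n40582 := d16_1 D41641 (iv D40582) (iv F187408)
theorem F191890 : act 2 n41641 = n40694 := d23_1 D41641 (iv D40694) (iv F187409)
theorem F191891 : act 7 n41641 = n40632 := d43_1 D41641 (iv D40632) (iv F187410)
theorem F191892 : act 8 n41641 = n41242 := d44_1 D41641 (iv D41242) F185099 (iv F182741) D40576
def n41642 : Q := act 8 n40578
theorem D41642 : act 8 n40578 = n41642 := rfl
theorem F191893 : act 4 n41642 = n40579 := d33_1 D41642 (iv D40579) D40578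
theorem F191894 : act 7 n41642 = n40633 := d42_1 D41642 (iv D40633) (iv F187418)
def n41643 : Q := act 5 n40579
theorem D41643 : act 5 n40579 = n41643 := rfl
theorem F191895 : act 3 n41643 = n40581 := d25_1 D41643 (iv D40581) (iv F187419)
theorem F191896 : act 7 n41643 = n40634 := d36_2 (iv F187420) D41643 (iv D40634)
theorem F191897 : act 8 n41643 = n40580 := d37_2 D40579 D41643 (iv D40580) (iv D39468) D39467
theorem F191898 : act 6 n40946 = n41643 := d40_3 F191897 F187422 D40946
def n41644 : Q := act 9 n40579
theorem D41644 : act 9 n40579 = n41644 := rfl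
theorem F191899 : act 3 n41644 = n40582 := d29_1 D41644 (iv D40582) (iv F187419)
theorem F191900 : act 7 n41644 = n40635 := d43_1 D41644 (iv D40635) (iv F187420)
def n41645 : Q := act 4 n40580
theorem D41645 : act 4 n40580 = n41645 := rfl
theorem F191901 : act 5 n41645 = n41645 := d30_2 D40580 D41645 (iv D41645) (iv D40580) F182751
theorem F191902 : act 6 n41645 = n40943 := d31_2 (iv F187422) D41645 F188770
theorem F191903 : act 7 n41645 = n40636 := d32_2 (iv F187423) D41645 (iv D40636)
theorem F191904 : act 9 n41645 = n40899 := d34_2 (iv F187424) D41645 F188664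
def n41646 : Q := act 6 n40581
theorem D41646 : act 6 n40581 = n41646 := rfl
theorem F191905 : act 0 n41646 = n40962 := d5_1 D41646 F191660 F191654
theorem F191906 : act 1 n41646 = n40994 := d13_1 D41646 F191888 F191883
theorem F191907 : act 2 n41646 = n40586 := d20_1 D41646 (iv D40586) (iv F187425)
theorem F191908 : act 3 n41646 = n40946 := d26_1 D41646 F191898 F191895
theorem F191909 : act 7 n41646 = n40826 := d39_2 (iv F187426) D41646 F188440 F187672 (iv D40637)
theorem F191910 : act 8 n41646 = n40583 := d40_2 (iv F187427) D41646 (iv D40583)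
def n41647 : Q := act 9 n40581
theorem D41647 : act 9 n40581 = n41647 := rfl
theorem F191911 : act 2 n41647 = n40587 := d23_1 D41647 (iv D40587) (iv F187425)
theorem F191912 : act 5 n41647 = n40582 := d38_1 D41647 (iv D40582) D40581
theorem F191913 : act 7 n41647 = n40638 := d43_1 D41647 (iv D40638) (iv F187426)
def n41648 : Q := act 8 n40584
theorem D41648 : act 8 n40584 = n41648 := rfl
theorem F191914 : act 0 n41648 = n40834 := d7_1 D41648 (iv D40834) (iv F187437)
theorem F191915 : act 2 n41648 = n40591 := d22_1 D41648 (iv D40591) (iv F187438)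
theorem F191916 : act 3 n41648 = n40896 := d28_1 D41648 F188660 (iv F187439)
theorem F191917 : act 4 n41648 = n40776 := d33_1 D41648 F188225 (iv F187440)
theorem F191918 : act 6 n41648 = n40823 := d40_1 D41648 F188433 (iv F187442)
theorem F191919 : act 7 n41648 = n40639 := d42_1 D41648 (iv D40639) (iv F187443)
def n41649 : Q := act 6 n40585
theorem D41649 : act 6 n40585 = n41649 := rfl
theorem F191920 : act 0 n41649 = n40645 := d5_1 D41649 F187706 (iv F187444)
theorem F191921 : act 1 n41649 = n40703 := d13_1 D41649 (iv D40703) (iv F187445)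
theorem F191922 : act 4 n41649 = n40586 := d31_1 D41649 (iv D40586) D40585
theorem F191923 : act 5 n41649 = n41104 := d35_1 D41649 (iv D41104) (iv D40013) (iv F183859) (iv F187446)
theorem F191924 : act 7 n41649 = n40709 := d39_2 (iv F187447) D41649 F187968 F183270 F182991
theorem F191925 : act 8 n41649 = n40588 := d40_2 (iv F187448) D41649 (iv D40588)
def n41650 : Q := act 9 n40585
theorem D41650 : act 9 n40585 = n41650 := rfl
theorem F191926 : act 0 n41650 = n40694 := d8_1 D41650 (iv D40694) (iv F187444)
theorem F191927 : act 1 n41650 = n40704 := d16_1 D41650 (iv D40704) (iv F187445)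
theorem F191928 : act 4 n41650 = n40587 := d34_1 D41650 (iv D40587) D40585
theorem F191929 : act 5 n41650 = n40820 := d38_1 D41650 (iv D40820) (iv F187446)
theorem F191930 : act 7 n41650 = n40640 := d43_1 D41650 (iv D40640) (iv F187447)
theorem F191931 : act 8 n41650 = n40780 := d44_1 D41650 (iv D40780) F183534 F182781 (iv F187448)
def n41651 : Q := act 7 n40586
theorem D41651 : act 7 n40586 = n41651 := rfl
theorem F191932 : act 0 n41651 = n41147 := d6_1 D41651 (iv F190386) F190379
theorem F191933 : act 1 n41651 = n40705 := d14_1 D41651 (iv D40705) (iv F187449)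
theorem F191934 : act 2 n41651 = n40826 := d21_1 D41651 (iv F191909) F191907
theorem F191935 : act 4 n41651 = n40709 := d32_1 D41651 (iv F191924) F191922
theorem F191936 : act 6 n41651 = n40641 := d39_1 D41651 (iv D40641) (iv D39525) (iv F182773) D40586
theorem F191937 : act 8 n41651 = n40589 := d42_2 (iv F187450) D41651 (iv D40589)
def n41652 : Q := act 9 n40586
theorem D41652 : act 9 n40586 = n41652 := rfl
theorem F191938 : act 1 n41652 = n40706 := d16_1 D41652 (iv D40706) (iv F187449)
theorem F191939 : act 6 n41652 = n40587 := d41_1 D41652 (iv D40587) D40586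
def n41653 : Q := act 8 n40587
theorem D41653 : act 8 n40587 = n41653 := rfl
theorem F191940 : act 0 n41653 = n40882 := d7_1 D41653 (iv F191673) F191667
theorem F191941 : act 1 n41653 = n40707 := d15_1 D41653 (iv D40707) (iv F187451)
theorem F191942 : act 4 n41653 = n40780 := d33_1 D41653 (iv F191931) F191928
theorem F191943 : act 7 n41653 = n40643 := d42_1 D41653 (iv D40643) (iv F187453)
theorem F191944 : act 9 n41653 = n40591 := d44_2 D40587 D41653 (iv D40591) (iv D39477) (iv F182774)
def n41654 : Q := act 8 n40590
theorem D41654 : act 8 n40590 = n41654 := rfl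
theorem F191945 : act 0 n41654 = n40854 := d7_1 D41654 (iv D40854) (iv F187467)
theorem F191946 : act 1 n41654 = n40709 := d15_1 D41654 (iv D40709) (iv F187468)
theorem F191947 : act 2 n41654 = n40823 := d22_1 D41654 F188433 (iv F187469)
theorem F191948 : act 4 n41654 = n40705 := d33_1 D41654 F187957 (iv F187470)
theorem F191949 : act 5 n41654 = n41117 := d37_1 D41654 F189335 F184808 F182801 (iv F187471)
theorem F191950 : act 6 n41654 = n40591 := d40_1 D41654 (iv D40591) (iv F187472)
theorem F191951 : act 7 n41654 = n40703 := d42_1 D41654 F187949 (iv F187473)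
def n41655 : Q := act 8 n40592
theorem D41655 : act 8 n40592 = n41655 := rfl
theorem F191952 : act 1 n41655 = n40594 := d15_1 D41655 (iv D40594) (iv F187478)
theorem F191953 : act 2 n41655 = n40712 := d22_1 D41655 (iv D40712) (iv F187479)
theorem F191954 : act 3 n41655 = n41191 := d28_1 D41655 F189499 (iv F187480)
theorem F191955 : act 4 n41655 = n41006 := d33_1 D41655 (iv D41006) (iv F187481)
theorem F191956 : act 5 n41655 = n41142 := d37_1 D41655 F189397 F184899 (iv F182807) D40592
theorem F191957 : act 6 n41655 = n40981 := d40_1 D41655 (iv D40981) (iv F187482)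
theorem F191958 : act 7 n41655 = n40605 := d42_1 D41655 F187552 (iv F187483)
def n41656 : Q := act 4 n40593
theorem D41656 : act 4 n40593 = n41656 := rfl
theorem F191959 : act 0 n41656 = n40835 := d3_1 D41656 (iv D40835) (iv F187485)
theorem F191960 : act 1 n41656 = n41193 := d11_1 D41656 F189504 (iv F187486)
theorem F191961 : act 2 n41656 = n40601 := d18_1 D41656 (iv D40601) (iv F187487)
theorem F191962 : act 3 n41656 = n41007 := d24_1 D41656 (iv D41007) F184492 (iv F182819) (iv F187488)
theorem F191963 : act 5 n41656 = n41656 := d30_2 D40593 D41656 (iv D41656) (iv D40593) F182813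
theorem F191964 : act 6 n41656 = n40982 := d31_2 (iv F187489) D41656 (iv D40982)
theorem F191965 : act 7 n41656 = n40722 := d32_2 (iv F187490) D41656 F188016
theorem F191966 : act 9 n41656 = n40811 := d34_2 (iv F187491) D41656 (iv D40811)
def n41657 : Q := act 8 n40593
theorem D41657 : act 8 n40593 = n41657 := rfl
theorem F191967 : act 0 n41657 = n40836 := d7_1 D41657 (iv D40836) (iv F187485)
theorem F191968 : act 1 n41657 = n41191 := d15_1 D41657 F189499 (iv F187486)
theorem F191969 : act 2 n41657 = n40602 := d22_1 D41657 (iv D40602) (iv F187487)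
theorem F191970 : act 3 n41657 = n40594 := d28_1 D41657 (iv D40594) (iv F187488)
theorem F191971 : act 5 n41657 = n41086 := d37_1 D41657 F189256 F184737 (iv F182815) D40593
theorem F191972 : act 6 n41657 = n40983 := d40_1 D41657 (iv D40983) (iv F187489)
theorem F191973 : act 7 n41657 = n40719 := d42_1 D41657 F188006 (iv F187490)
def n41658 : Q := act 9 n40594
theorem D41658 : act 9 n40594 = n41658 := rfl
theorem F191974 : act 0 n41658 = n40837 := d8_1 D41658 (iv D40837) (iv F187492)
theorem F191975 : act 2 n41658 = n40596 := d23_1 D41658 (iv D40596) (iv F187493)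
theorem F191976 : act 4 n41658 = n41011 := d34_1 D41658 (iv D41011) (iv F187494)
theorem F191977 : act 5 n41658 = n41226 := d38_1 D41658 (iv D41226) (iv F187495)
theorem F191978 : act 6 n41658 = n40985 := d41_1 D41658 (iv D40985) (iv F187496)
theorem F191979 : act 7 n41658 = n40729 := d43_1 D41658 (iv D40729) (iv F187497)
theorem F191980 : act 8 n41658 = n40814 := d44_1 D41658 (iv D40814) (iv D39717) (iv F182822) D40594
def n41659 : Q := act 4 n40595
theorem D41659 : act 4 n40595 = n41659 := rfl
theorem F191981 : act 0 n41659 = n40838 := d3_1 D41659 (iv D40838) (iv F187498)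
theorem F191982 : act 1 n41659 = n40718 := d11_1 D41659 (iv D40718) (iv F187499)
theorem F191983 : act 2 n41659 = n41223 := d18_1 D41659 F189568 (iv F187500)
theorem F191984 : act 5 n41659 = n41015 := d30_2 D40595 D41659 (iv D41015) (iv D39927) (iv F182826)
theorem F191985 : act 7 n41659 = n40830 := d32_2 (iv F187502) D41659 (iv D40830)
theorem F191986 : act 8 n41659 = n40597 := d33_2 (iv F187503) D41659 (iv D40597)
def n41660 : Q := act 6 n40595
theorem D41660 : act 6 n40595 = n41660 := rfl
theorem F191987 : act 0 n41660 = n40839 := d5_1 D41660 (iv D40839) (iv F187498)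
theorem F191988 : act 1 n41660 = n40719 := d13_1 D41660 (iv D40719) (iv F187499)
theorem F191989 : act 2 n41660 = n41197 := d20_1 D41660 F189514 (iv F187500)
theorem F191990 : act 3 n41660 = n40605 := d26_1 D41660 (iv D40605) (iv F187501)
theorem F191991 : act 5 n41660 = n40989 := d35_1 D41660 (iv D40989) (iv D39900) (iv F182827) D40595
theorem F191992 : act 7 n41660 = n41191 := d39_2 (iv F187502) D41660 (iv D41191) F184986 (iv F183911)
theorem F191993 : act 8 n41660 = n40598 := d40_2 (iv F187503) D41660 (iv D40598)
def n41661 : Q := act 9 n40595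
theorem D41661 : act 9 n40595 = n41661 := rfl
theorem F191994 : act 0 n41661 = n40840 := d8_1 D41661 (iv D40840) (iv F187498)
theorem F191995 : act 1 n41661 = n40720 := d16_1 D41661 (iv D40720) (iv F187499)
theorem F191996 : act 2 n41661 = n41226 := d23_1 D41661 (iv D41226) (iv F187500)
theorem F191997 : act 3 n41661 = n40606 := d29_1 D41661 (iv D40606) (iv F187501)
theorem F191998 : act 5 n41661 = n40596 := d38_1 D41661 (iv D40596) D40595
theorem F191999 : act 7 n41661 = n40831 := d43_1 D41661 (iv D40831) (iv F187502)
def n41662 : Q := act 6 n40597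
theorem D41662 : act 6 n40597 = n41662 := rfl
theorem F192000 : act 0 n41662 = n40841 := d5_1 D41662 (iv D40841) (iv F187511)
theorem F192001 : act 1 n41662 = n40722 := d13_1 D41662 (iv D40722) (iv F187512)
theorem F192002 : act 2 n41662 = n41201 := d20_1 D41662 F189525 (iv F187513)
theorem F192003 : act 4 n41662 = n40598 := d31_1 D41662 (iv D40598) D40597
theorem F192004 : act 5 n41662 = n41662 := d35_1 D41662 (iv D41662) F187514 F182852 (iv F187514)
theorem F192005 : act 7 n41662 = n41193 := d39_2 (iv F187515) D41662 (iv D41193) F184993 (iv F183918)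
def n41663 : Q := act 9 n40597
theorem D41663 : act 9 n40597 = n41663 := rfl
theorem F192006 : act 0 n41663 = n40842 := d8_1 D41663 (iv D40842) (iv F187511)
theorem F192007 : act 1 n41663 = n40723 := d16_1 D41663 (iv D40723) (iv F187512)
theorem F192008 : act 2 n41663 = n41230 := d23_1 D41663 (iv D41230) (iv F187513)
theorem F192009 : act 4 n41663 = n40599 := d34_1 D41663 (iv D40599) D40597
theorem F192010 : act 5 n41663 = n40600 := d38_1 D41663 (iv D40600) (iv F187514)
theorem F192011 : act 7 n41663 = n40832 := d43_1 D41663 (iv D40832) (iv F187515)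
def n41664 : Q := act 8 n40599
theorem D41664 : act 8 n40599 = n41664 := rfl
theorem F192012 : act 0 n41664 = n40843 := d7_1 D41664 (iv D40843) (iv F187522)
theorem F192013 : act 1 n41664 = n40724 := d15_1 D41664 (iv D40724) (iv F187523)
theorem F192014 : act 2 n41664 = n41232 := d22_1 D41664 (iv D41232) (iv F187524)
theorem F192015 : act 3 n41664 = n40607 := d28_1 D41664 (iv D40607) (iv F187525)
theorem F192016 : act 5 n41664 = n40816 := d37_1 D41664 (iv D40816) F183841 (iv F182841) (iv F187526)
theorem F192017 : act 7 n41664 = n40833 := d42_1 D41664 (iv D40833) (iv F187527)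
def n41665 : Q := act 8 n40601
theorem D41665 : act 8 n40601 = n41665 := rfl
theorem F192018 : act 3 n41665 = n40633 := d28_1 D41665 (iv D40633) (iv F187535)
theorem F192019 : act 4 n41665 = n40602 := d33_1 D41665 (iv D40602) D40601
theorem F192020 : act 6 n41665 = n41137 := d40_1 D41665 (iv D41137) (iv F187537)
def n41666 : Q := act 9 n40602
theorem D41666 : act 9 n40602 = n41666 := rfl
theorem F192021 : act 3 n41666 = n40603 := d29_1 D41666 (iv D40603) (iv F187539)
theorem F192022 : act 6 n41666 = n41138 := d41_1 D41666 (iv D41138) (iv F187540)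
theorem F192023 : act 8 n41666 = n40846 := d44_1 D41666 (iv D40846) (iv D39756) (iv F182865) D40602
def n41667 : Q := act 9 n40604
theorem D41667 : act 9 n40604 = n41667 := rfl
theorem F192024 : act 0 n41667 = n40763 := d8_1 D41667 (iv D40763) (iv F187545)
theorem F192025 : act 1 n41667 = n40728 := d16_1 D41667 (iv D40728) (iv F187546)
theorem F192026 : act 4 n41667 = n40606 := d34_1 D41667 (iv D40606) D40604
theorem F192027 : act 5 n41667 = n40640 := d38_1 D41667 (iv D40640) (iv F187547)
theorem F192028 : act 7 n41667 = n40820 := d43_1 D41667 (iv D40820) (iv F187548)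
def n41668 : Q := act 9 n40605
theorem D41668 : act 9 n40605 = n41668 := rfl
theorem F192029 : act 1 n41668 = n40729 := d16_1 D41668 (iv D40729) (iv F187550)
theorem F192030 : act 5 n41668 = n41143 := d38_1 D41668 (iv D41143) (iv F187551)
theorem F192031 : act 6 n41668 = n40606 := d41_1 D41668 (iv D40606) D40605
def n41669 : Q := act 8 n40606
theorem D41669 : act 8 n40606 = n41669 := rfl
theorem F192032 : act 1 n41669 = n40730 := d15_1 D41669 (iv D40730) (iv F187553)
theorem F192033 : act 5 n41669 = n40849 := d37_1 D41669 (iv D40849) F183966 (iv F182874) (iv F187554)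
theorem F192034 : act 9 n41669 = n40607 := d44_2 D40606 D41669 (iv D40607) (iv D39495) (iv F182870)
def n41670 : Q := act 8 n40608
theorem D41670 : act 8 n40608 = n41670 := rfl
theorem F192035 : act 1 n41670 = n41235 := d15_1 D41670 F189591 (iv F187557)
theorem F192036 : act 3 n41670 = n40845 := d28_1 D41670 (iv D40845) (iv F187558)
theorem F192037 : act 4 n41670 = n40609 := d33_1 D41670 (iv D40609) D40608
theorem F192038 : act 6 n41670 = n41134 := d40_1 D41670 (iv D41134) (iv F187560)
def n41671 : Q := act 5 n40609
theorem D41671 : act 5 n40609 = n41671 := rfl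
theorem F192039 : act 1 n41671 = n40912 := d12_1 D41671 F188697 (iv F187562)
theorem F192040 : act 3 n41671 = n40611 := d25_1 D41671 (iv D40611) (iv F187563)
theorem F192041 : act 6 n41671 = n40873 := d35_2 (iv F187564) D41671 F188582 F184117 (iv F184870)
theorem F192042 : act 8 n41671 = n40610 := d37_2 D40609 D41671 (iv D40610) (iv D39497) D39496
def n41672 : Q := act 9 n40609
theorem D41672 : act 9 n40609 = n41672 := rfl
theorem F192043 : act 1 n41672 = n41238 := d16_1 D41672 (iv D41238) (iv F187562)
theorem F192044 : act 3 n41672 = n40612 := d29_1 D41672 (iv D40612) (iv F187563)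
theorem F192045 : act 6 n41672 = n41135 := d41_1 D41672 (iv D41135) (iv F187564)
theorem F192046 : act 8 n41672 = n40635 := d44_1 D41672 (iv D40635) (iv D39518) (iv F182886) D40609
def n41673 : Q := act 4 n40610
theorem D41673 : act 4 n40610 = n41673 := rfl
theorem F192047 : act 1 n41673 = n40915 := d11_1 D41673 F188703 (iv F187565)
theorem F192048 : act 5 n41673 = n41673 := d30_2 D40610 D41673 (iv D41673) (iv D40610) F182889
theorem F192049 : act 6 n41673 = n40871 := d31_2 (iv F187567) D41673 F188575
theorem F192050 : act 9 n41673 = n40870 := d34_2 (iv F187568) D41673 F188572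
def n41674 : Q := act 4 n40611
theorem D41674 : act 4 n40611 = n41674 := rfl
theorem F192051 : act 0 n41674 = n41222 := d3_1 D41674 (iv F191764) F191761
theorem F192052 : act 1 n41674 = n40918 := d11_1 D41674 F188709 (iv F187569)
theorem F192053 : act 2 n41674 = n40615 := d18_1 D41674 (iv D40615) (iv F187570)
theorem F192054 : act 5 n41674 = n40741 := d30_2 D40611 D41674 F188107 F183417 (iv F182894)
theorem F192055 : act 6 n41674 = n40905 := d31_2 (iv F187571) D41674 (iv D40905)
theorem F192056 : act 8 n41674 = n40613 := d33_2 (iv F187572) D41674 (iv D40613)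
def n41675 : Q := act 9 n40611
theorem D41675 : act 9 n40611 = n41675 := rfl
theorem F192057 : act 1 n41675 = n40921 := d16_1 D41675 (iv D40921) (iv F187569)
theorem F192058 : act 2 n41675 = n40617 := d23_1 D41675 (iv D40617) (iv F187570)
theorem F192059 : act 5 n41675 = n40612 := d38_1 D41675 (iv D40612) D40611
theorem F192060 : act 6 n41675 = n40906 := d41_1 D41675 (iv D40906) (iv F187571)
def n41676 : Q := act 3 n40613
theorem D41676 : act 3 n40613 = n41676 := rfl
theorem F192061 : act 0 n41676 = n41247 := d2_1 D41676 F189616 (iv F187578)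
theorem F192062 : act 1 n41676 = n40924 := d10_1 D41676 F188726 (iv F187579)
theorem F192063 : act 5 n41676 = n40614 := d25_2 (iv F187581) D41676 (iv D40614)
theorem F192064 : act 6 n41676 = n40907 := d26_2 (iv F187582) D41676 (iv D40907)
def n41677 : Q := act 2 n40614
theorem D41677 : act 2 n40614 = n41677 := rfl
theorem F192065 : act 0 n41677 = n41245 := d1_1 D41677 F189609 (iv F187583)
theorem F192066 : act 3 n41677 = n40622 := d17_2 D40614 D41677 (iv D40622) (iv D39507) (iv F182901)
theorem F192067 : act 4 n41677 = n41677 := d18_2 F187585 D41677 (iv D41677)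
theorem F192068 : act 6 n41677 = n40797 := d20_2 (iv F187586) D41677 F188321
theorem F192069 : act 8 n41677 = n40796 := d22_2 (iv F187587) D41677 F188316
def n41678 : Q := act 3 n40615
theorem D41678 : act 3 n40615 = n41678 := rfl
theorem F192070 : act 1 n41678 = n40740 := d10_1 D41678 (iv D40740) (iv F187588)
theorem F192071 : act 5 n41678 = n40847 := d25_2 (iv F187589) D41678 (iv D40847)
theorem F192072 : act 8 n41678 = n40618 := d28_2 (iv F187590) D41678 (iv D40618)
def n41679 : Q := act 6 n40615
theorem D41679 : act 6 n40615 = n41679 := rfl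
theorem F192073 : act 1 n41679 = n40741 := d13_1 D41679 (iv D40741) (iv F187588)
theorem F192074 : act 2 n41679 = n40905 := d20_1 D41679 (iv F192055) F192053
theorem F192075 : act 4 n41679 = n40616 := d31_1 D41679 (iv D40616) D40615
theorem F192076 : act 5 n41679 = n40918 := d35_1 D41679 (iv D40918) (iv F188078) F188079 (iv F187589)
theorem F192077 : act 8 n41679 = n40619 := d40_2 (iv F187590) D41679 (iv D40619)
def n41680 : Q := act 9 n40615
theorem D41680 : act 9 n40615 = n41680 := rfl
theorem F192078 : act 1 n41680 = n40742 := d16_1 D41680 (iv D40742) (iv F187588)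
theorem F192079 : act 4 n41680 = n40617 := d34_1 D41680 (iv D40617) D40615
theorem F192080 : act 5 n41680 = n40848 := d38_1 D41680 (iv D40848) (iv F187589)
def n41681 : Q := act 7 n40616
theorem D41681 : act 7 n40616 = n41681 := rfl
theorem F192081 : act 1 n41681 = n40743 := d14_1 D41681 (iv D40743) (iv F187591)
theorem F192082 : act 2 n41681 = n40881 := d21_1 D41681 F188616 (iv F187592)
theorem F192083 : act 5 n41681 = n40834 := d36_1 D41681 F188476 (iv F187593)
theorem F192084 : act 8 n41681 = n40620 := d42_2 (iv F187594) D41681 (iv D40620)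
def n41682 : Q := act 9 n40616
theorem D41682 : act 9 n40616 = n41682 := rfl
theorem F192085 : act 1 n41682 = n40744 := d16_1 D41682 (iv D40744) (iv F187591)
theorem F192086 : act 2 n41682 = n40906 := d23_1 D41682 (iv D40906) (iv F187592)
theorem F192087 : act 5 n41682 = n40844 := d38_1 D41682 (iv D40844) (iv F187593)
theorem F192088 : act 6 n41682 = n40617 := d41_1 D41682 (iv D40617) D40616
def n41683 : Q := act 8 n40617
theorem D41683 : act 8 n40617 = n41683 := rfl
theorem F192089 : act 0 n41683 = n40906 := d7_1 D41683 (iv F191791) F191786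
theorem F192090 : act 1 n41683 = n40745 := d15_1 D41683 (iv D40745) (iv F187595)
theorem F192091 : act 5 n41683 = n40643 := d37_1 D41683 (iv D40643) F182997 (iv F182909) (iv F187596)
theorem F192092 : act 9 n41683 = n40621 := d44_2 D40617 D41683 (iv D40621) (iv D39505) (iv F182905)
def n41684 : Q := act 2 n40618
theorem D41684 : act 2 n40618 = n41684 := rfl
theorem F192093 : act 5 n41684 = n40622 := d19_2 (iv F187598) D41684 (iv D40622)
def n41685 : Q := act 6 n40618
theorem D41685 : act 6 n40618 = n41685 := rfl
theorem F192094 : act 1 n41685 = n40747 := d13_1 D41685 (iv D40747) (iv F187597)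
theorem F192095 : act 3 n41685 = n40619 := d26_1 D41685 (iv D40619) D40618
theorem F192096 : act 5 n41685 = n40800 := d35_1 D41685 (iv D40800) F183715 (iv F182926) (iv F187598)
theorem F192097 : act 9 n41685 = n41247 := d41_2 F190326 D41685 (iv F190325)
def n41686 : Q := act 7 n40619
theorem D41686 : act 7 n40619 = n41686 := rfl
theorem F192098 : act 1 n41686 = n40748 := d14_1 D41686 (iv D40748) (iv F187599)
theorem F192099 : act 2 n41686 = n40883 := d21_1 D41686 F188623 (iv F187600)
theorem F192100 : act 4 n41686 = n40620 := d32_1 D41686 (iv D40620) (iv F187601)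
theorem F192101 : act 5 n41686 = n40801 := d36_1 D41686 (iv D40801) (iv F187602)
theorem F192102 : act 9 n41686 = n41012 := d43_2 (iv F187603) D41686 F189037
def n41687 : Q := act 1 n40622
theorem D41687 : act 1 n40622 = n41687 := rfl
theorem F192103 : act 0 n41687 = n41185 := d0_1 D41687 (iv F190623) F190622 (iv F191799) F191798
theorem F192104 : act 2 n41687 = n40668 := d9_2 D40622 D41687 F187785 (iv D39635) (iv F182924)
theorem F192105 : act 4 n41687 = n40623 := d11_2 (iv F187611) D41687 (iv D40623)
theorem F192106 : act 6 n41687 = n40792 := d13_2 (iv F187612) D41687 F188296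
theorem F192107 : act 8 n41687 = n40807 := d15_2 (iv F187613) D41687 F188379
theorem F192108 : act 9 n41687 = n40667 := d16_2 F190321 D41687 (iv F190317)
def n41688 : Q := act 4 n40624
theorem D41688 : act 4 n40624 = n41688 := rfl
theorem F192109 : act 0 n41688 = n40628 := d3_1 D41688 (iv D40628) (iv F187620)
theorem F192110 : act 3 n41688 = n40636 := d24_1 D41688 (iv D40636) F182969 (iv F182937) (iv F187621)
theorem F192111 : act 5 n41688 = n41688 := d30_2 D40624 D41688 (iv D41688) (iv D40624) F182933
theorem F192112 : act 6 n41688 = n40772 := d31_2 (iv F187622) D41688 F188209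
theorem F192113 : act 9 n41688 = n40771 := d34_2 (iv F187623) D41688 F188205
def n41689 : Q := act 8 n40624
theorem D41689 : act 8 n40624 = n41689 := rfl
theorem F192114 : act 0 n41689 = n40629 := d7_1 D41689 (iv D40629) (iv F187620)
theorem F192115 : act 3 n41689 = n40625 := d28_1 D41689 (iv D40625) (iv F187621)
theorem F192116 : act 6 n41689 = n40774 := d40_1 D41689 (iv D40774) (iv F187622)
def n41690 : Q := act 9 n40625
theorem D41690 : act 9 n40625 = n41690 := rfl
theorem F192117 : act 0 n41690 = n40632 := d8_1 D41690 (iv D40632) (iv F187624)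
theorem F192118 : act 2 n41690 = n40640 := d23_1 D41690 (iv D40640) (iv F187625)
theorem F192119 : act 4 n41690 = n40638 := d34_1 D41690 (iv D40638) (iv F187626)
theorem F192120 : act 6 n41690 = n40778 := d41_1 D41690 F188231 (iv F187627)
theorem F192121 : act 8 n41690 = n40777 := d44_1 D41690 (iv D40777) F183520 (iv F182939) D40625
def n41691 : Q := act 4 n40626
theorem D41691 : act 4 n40626 = n41691 := rfl
theorem F192122 : act 1 n41691 = n41035 := d11_1 D41691 F189105 (iv F187628)
theorem F192123 : act 2 n41691 = n40628 := d18_1 D41691 (iv D40628) (iv F187629)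
theorem F192124 : act 5 n41691 = n41691 := d30_2 D40626 D41691 (iv D41691) (iv D40626) F182943
theorem F192125 : act 6 n41691 = n41027 := d31_2 (iv F187631) D41691 (iv D41027)
theorem F192126 : act 9 n41691 = n41112 := d34_2 (iv F187632) D41691 F189322
def n41692 : Q := act 8 n40626
theorem D41692 : act 8 n40626 = n41692 := rfl
theorem F192127 : act 1 n41692 = n41032 := d15_1 D41692 F189098 (iv F187628)
theorem F192128 : act 2 n41692 = n40629 := d22_1 D41692 (iv D40629) (iv F187629)
theorem F192129 : act 3 n41692 = n40754 := d28_1 D41692 (iv D40754) (iv F187630)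
theorem F192130 : act 6 n41692 = n41025 := d40_1 D41692 F189075 (iv F187631)
def n41693 : Q := act 5 n40627
theorem D41693 : act 5 n40627 = n41693 := rfl
theorem F192131 : act 0 n41693 = n41204 := d4_1 D41693 F189531 (iv F187633)
theorem F192132 : act 1 n41693 = n41013 := d12_1 D41693 F189039 (iv F187634)
theorem F192133 : act 2 n41693 = n40630 := d19_1 D41693 (iv D40630) (iv F187635)
theorem F192134 : act 3 n41693 = n40755 := d25_1 D41693 (iv D40755) (iv F187636)
theorem F192135 : act 6 n41693 = n40751 := d35_2 (iv F187638) D41693 F188144 F183443 (iv F182950)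
theorem F192136 : act 7 n41693 = n40687 := d36_2 (iv F187639) D41693 F187877
theorem F192137 : act 9 n41693 = n40686 := d38_2 (iv F187640) D41693 F187874
def n41694 : Q := act 8 n40628
theorem D41694 : act 8 n40628 = n41694 := rfl
theorem F192138 : act 1 n41694 = n40633 := d15_1 D41694 (iv D40633) (iv F187641)
theorem F192139 : act 4 n41694 = n40629 := d33_1 D41694 (iv D40629) D40628
theorem F192140 : act 6 n41694 = n41241 := d40_1 D41694 (iv D41241) (iv F187643)
def n41695 : Q := act 5 n40629
theorem D41695 : act 5 n40629 = n41695 := rfl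
theorem F192141 : act 1 n41695 = n40634 := d12_1 D41695 (iv D40634) (iv F187645)
theorem F192142 : act 3 n41695 = n40631 := d25_1 D41695 (iv D40631) (iv F187646)
theorem F192143 : act 6 n41695 = n40843 := d35_2 (iv F187647) D41695 (iv F191150) F191151 F188839
theorem F192144 : act 8 n41695 = n40630 := d37_2 D40629 D41695 (iv D40630) (iv D39514) D39513
def n41696 : Q := act 9 n40629
theorem D41696 : act 9 n40629 = n41696 := rfl
theorem F192145 : act 1 n41696 = n40635 := d16_1 D41696 (iv D40635) (iv F187645)
theorem F192146 : act 3 n41696 = n40632 := d29_1 D41696 (iv D40632) (iv F187646)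
theorem F192147 : act 6 n41696 = n41239 := d41_1 D41696 F189598 (iv F187647)
theorem F192148 : act 8 n41696 = n41238 := d44_1 D41696 (iv D41238) F185088 (iv F182956) D40629
def n41697 : Q := act 4 n40630
theorem D41697 : act 4 n40630 = n41697 := rfl
theorem F192149 : act 1 n41697 = n40636 := d11_1 D41697 (iv D40636) (iv F187648)
theorem F192150 : act 5 n41697 = n41697 := d30_2 D40630 D41697 (iv D41697) (iv D40630) F182959
theorem F192151 : act 6 n41697 = n40842 := d31_2 (iv F187650) D41697 F188495
theorem F192152 : act 9 n41697 = n40841 := d34_2 (iv F187651) D41697 F188492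
def n41698 : Q := act 9 n40631
theorem D41698 : act 9 n40631 = n41698 := rfl
theorem F192153 : act 1 n41698 = n40638 := d16_1 D41698 (iv D40638) (iv F187652)
theorem F192154 : act 2 n41698 = n40763 := d23_1 D41698 (iv D40763) (iv F187653)
theorem F192155 : act 5 n41698 = n40632 := d38_1 D41698 (iv D40632) D40631
def n41699 : Q := act 5 n40633
theorem D41699 : act 5 n40633 = n41699 := rfl
theorem F192156 : act 8 n41699 = n41699 := d37_2 D40633 D41699 (iv D41699) (iv D40633) F182967
def n41700 : Q := act 9 n40633
theorem D41700 : act 9 n40633 = n41700 := rfl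
theorem F192157 : act 4 n41700 = n40635 := d34_1 D41700 (iv D40635) (iv F187659)
def n41701 : Q := act 4 n40634
theorem D41701 : act 4 n40634 = n41701 := rfl
theorem F192158 : act 6 n41701 = n40900 := d31_2 (iv F187661) D41701 F188667
theorem F192159 : act 8 n41701 = n40636 := d33_2 (iv F187662) D41701 (iv D40636)
def n41702 : Q := act 9 n40634
theorem D41702 : act 9 n40634 = n41702 := rfl
theorem F192160 : act 3 n41702 = n40638 := d29_1 D41702 (iv D40638) (iv F187660)
theorem F192161 : act 5 n41702 = n40635 := d38_1 D41702 (iv D40635) D40634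
theorem F192162 : act 6 n41702 = n40898 := d41_1 D41702 F188663 (iv F187661)
theorem F192163 : act 8 n41702 = n40897 := d44_1 D41702 (iv D40897) F184097 (iv F182971) (iv F187662)
def n41703 : Q := act 9 n40637
theorem D41703 : act 9 n40637 = n41703 := rfl
theorem F192164 : act 0 n41703 = n41136 := d8_1 D41703 F189385 (iv F187667)
theorem F192165 : act 2 n41703 = n40642 := d23_1 D41703 (iv D40642) (iv F187668)
theorem F192166 : act 3 n41703 = n40898 := d29_1 D41703 F188663 (iv F187669)
theorem F192167 : act 4 n41703 = n40778 := d34_1 D41703 F188231 (iv F187670)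
theorem F192168 : act 6 n41703 = n40638 := d41_1 D41703 (iv D40638) D40637
theorem F192169 : act 7 n41703 = n40825 := d43_1 D41703 F188438 F187672
theorem F192170 : act 8 n41703 = n40775 := d44_1 D41703 (iv D40775) F183516 F182981 (iv F187671)
def n41704 : Q := act 8 n40638
theorem D41704 : act 8 n40638 = n41704 := rfl
theorem F192171 : act 0 n41704 = n40844 := d7_1 D41704 (iv F191828) F191822
theorem F192172 : act 2 n41704 = n40643 := d22_1 D41704 (iv D40643) (iv F187673)
theorem F192173 : act 3 n41704 = n40897 := d28_1 D41704 (iv F192163) F192160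
theorem F192174 : act 4 n41704 = n40777 := d33_1 D41704 (iv F192121) F192119
theorem F192175 : act 6 n41704 = n40775 := d40_1 D41704 (iv F192170) F192168
theorem F192176 : act 9 n41704 = n40639 := d44_2 D40638 D41704 (iv D40639) (iv D39523) (iv F182973)
def n41705 : Q := act 9 n40641
theorem D41705 : act 9 n40641 = n41705 := rfl
theorem F192177 : act 0 n41705 = n41187 := d8_1 D41705 (iv D41187) (iv F187685)
theorem F192178 : act 1 n41705 = n40780 := d16_1 D41705 (iv D40780) (iv F187686)
theorem F192179 : act 2 n41705 = n40825 := d23_1 D41705 F188438 (iv F187687)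
theorem F192180 : act 4 n41705 = n40707 := d34_1 D41705 F187962 (iv F187688)
theorem F192181 : act 7 n41705 = n40642 := d43_1 D41705 (iv D40642) D40641
theorem F192182 : act 8 n41705 = n40704 := d44_1 D41705 (iv D40704) F183249 (iv F183003) (iv F187689)
def n41706 : Q := act 4 n40644
theorem D41706 : act 4 n40644 = n41706 := rfl
theorem F192183 : act 1 n41706 = n40648 := d11_1 D41706 (iv D40648) (iv F187700)
theorem F192184 : act 3 n41706 = n41154 := d24_1 D41706 F189422 (iv F185893) F185894 (iv F187701)
theorem F192185 : act 5 n41706 = n41706 := d30_2 D40644 D41706 (iv D41706) (iv D40644) F183016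
theorem F192186 : act 6 n41706 = n40690 := d31_2 (iv F187702) D41706 (iv D40690)
theorem F192187 : act 7 n41706 = n41048 := d32_2 (iv F187703) D41706 F189148
theorem F192188 : act 9 n41706 = n41047 := d34_2 (iv F187704) D41706 F189145
def n41707 : Q := act 8 n40644
theorem D41707 : act 8 n40644 = n41707 := rfl
theorem F192189 : act 1 n41707 = n40649 := d15_1 D41707 (iv D40649) (iv F187700)
theorem F192190 : act 3 n41707 = n40645 := d28_1 D41707 (iv D40645) (iv F187701)
theorem F192191 : act 6 n41707 = n40691 := d40_1 D41707 (iv D40691) (iv F187702)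
theorem F192192 : act 7 n41707 = n41050 := d42_1 D41707 (iv D41050) (iv F187703)
def n41708 : Q := act 5 n40645
theorem D41708 : act 5 n40645 = n41708 := rfl
theorem F192193 : act 0 n41708 = n41104 := d4_1 D41708 (iv F191923) F191920
theorem F192194 : act 1 n41708 = n40651 := d12_1 D41708 (iv D40651) (iv F187705)
theorem F192195 : act 6 n41708 = n41099 := d35_2 (iv F187706) D41708 (iv D41099) F187904 (iv D40693)
theorem F192196 : act 7 n41708 = n41213 := d36_2 (iv F187707) D41708 (iv D41213)
theorem F192197 : act 8 n41708 = n40646 := d37_2 D40645 D41708 (iv D40646) (iv D39532) D39531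
def n41709 : Q := act 9 n40645
theorem D41709 : act 9 n40645 = n41709 := rfl
theorem F192198 : act 1 n41709 = n40652 := d16_1 D41709 (iv D40652) (iv F187705)
theorem F192199 : act 6 n41709 = n40694 := d41_1 D41709 (iv D40694) (iv F187706)
theorem F192200 : act 7 n41709 = n41212 := d43_1 D41709 F189551 (iv F187707)
theorem F192201 : act 8 n41709 = n41211 := d44_1 D41709 (iv D41211) F185040 (iv F183022) D40645
def n41710 : Q := act 4 n40646
theorem D41710 : act 4 n40646 = n41710 := rfl
theorem F192202 : act 0 n41710 = n41106 := d3_1 D41710 F189306 (iv F187708)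
theorem F192203 : act 1 n41710 = n40653 := d11_1 D41710 (iv D40653) (iv F187709)
theorem F192204 : act 2 n41710 = n40941 := d18_1 D41710 (iv F190850) F190848
theorem F192205 : act 5 n41710 = n40647 := d30_2 D40646 D41710 (iv D40647) (iv D39533) (iv F183025)
theorem F192206 : act 6 n41710 = n40783 := d31_2 (iv F187710) D41710 F188251
theorem F192207 : act 7 n41710 = n41214 := d32_2 (iv F187711) D41710 (iv D41214)
theorem F192208 : act 9 n41710 = n40939 := d34_2 F191042 D41710 (iv F191040)
theorem F192209 : act 3 n40960 = n41710 := d26_3 F192206 F188250 D40960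
def n41711 : Q := act 8 n40648
theorem D41711 : act 8 n40648 = n41711 := rfl
theorem F192210 : act 0 n41711 = n41157 := d7_1 D41711 (iv D41157) (iv F187720)
theorem F192211 : act 4 n41711 = n40649 := d33_1 D41711 (iv D40649) D40648
theorem F192212 : act 6 n41711 = n40696 := d40_1 D41711 (iv D40696) (iv F187722)
def n41712 : Q := act 5 n40649
theorem D41712 : act 5 n40649 = n41712 := rfl
theorem F192213 : act 0 n41712 = n41158 := d4_1 D41712 (iv D41158) (iv F187723)
theorem F192214 : act 3 n41712 = n40651 := d25_1 D41712 (iv D40651) (iv F187724)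
theorem F192215 : act 8 n41712 = n40650 := d37_2 D40649 D41712 (iv D40650) (iv D39535) D39534
def n41713 : Q := act 9 n40649
theorem D41713 : act 9 n40649 = n41713 := rfl
theorem F192216 : act 0 n41713 = n41159 := d8_1 D41713 (iv D41159) (iv F187723)
theorem F192217 : act 3 n41713 = n40652 := d29_1 D41713 (iv D40652) (iv F187724)
theorem F192218 : act 6 n41713 = n40698 := d41_1 D41713 (iv D40698) (iv F187725)
def n41714 : Q := act 4 n40650
theorem D41714 : act 4 n40650 = n41714 := rfl
theorem F192219 : act 0 n41714 = n41160 := d3_1 D41714 (iv D41160) (iv F187726)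
theorem F192220 : act 5 n41714 = n41714 := d30_2 D40650 D41714 (iv D41714) (iv D40650) F183041
def n41715 : Q := act 4 n40651
theorem D41715 : act 4 n40651 = n41715 := rfl
theorem F192221 : act 0 n41715 = n41162 := d3_1 D41715 (iv D41162) (iv F187728)
theorem F192222 : act 2 n41715 = n40658 := d18_1 D41715 (iv D40658) (iv F187729)
theorem F192223 : act 5 n41715 = n41065 := d30_2 D40651 D41715 F189206 (iv F185908) F185907
theorem F192224 : act 6 n41715 = n41124 := d31_2 F191406 D41715 (iv F191405)
theorem F192225 : act 8 n41715 = n40653 := d33_2 (iv F187730) D41715 (iv D40653)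
def n41716 : Q := act 9 n40651
theorem D41716 : act 9 n40651 = n41716 := rfl
theorem F192226 : act 0 n41716 = n41163 := d8_1 D41716 (iv D41163) (iv F187728)
theorem F192227 : act 2 n41716 = n40660 := d23_1 D41716 (iv D40660) (iv F187729)
theorem F192228 : act 5 n41716 = n40652 := d38_1 D41716 (iv D40652) D40651
def n41717 : Q := act 3 n40653
theorem D41717 : act 3 n40653 = n41717 := rfl
theorem F192229 : act 0 n41717 = n41164 := d2_1 D41717 (iv D41164) (iv F187734)
theorem F192230 : act 1 n41717 = n40960 := d10_1 D41717 F192209 F192203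
theorem F192231 : act 5 n41717 = n40655 := d25_2 (iv F187736) D41717 (iv D40655)
theorem F192232 : act 6 n41717 = n40958 := d26_2 (iv F187737) D41717 F188825
def n41718 : Q := act 9 n40653
theorem D41718 : act 9 n40653 = n41718 := rfl
theorem F192233 : act 0 n41718 = n41165 := d8_1 D41718 (iv D41165) (iv F187734)
theorem F192234 : act 1 n41718 = n40939 := d16_1 D41718 (iv F192208) F192203
theorem F192235 : act 2 n41718 = n40663 := d23_1 D41718 (iv D40663) (iv F187735)
theorem F192236 : act 4 n41718 = n40654 := d34_1 D41718 (iv D40654) D40653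
theorem F192237 : act 5 n41718 = n40656 := d38_1 D41718 (iv D40656) (iv F187736)
theorem F192238 : act 6 n41718 = n40938 := d41_1 D41718 F188761 (iv F187737)
def n41719 : Q := act 8 n40654
theorem D41719 : act 8 n40654 = n41719 := rfl
theorem F192239 : act 0 n41719 = n41166 := d7_1 D41719 (iv D41166) (iv F187738)
theorem F192240 : act 2 n41719 = n40666 := d22_1 D41719 (iv D40666) (iv F187739)
def n41720 : Q := act 2 n40655
theorem D41720 : act 2 n40655 = n41720 := rfl
theorem F192241 : act 0 n41720 = n41167 := d1_1 D41720 (iv D41167) (iv F187741)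
theorem F192242 : act 3 n41720 = n40667 := d17_2 D40655 D41720 (iv D40667) (iv D39548) (iv F183053)
theorem F192243 : act 4 n41720 = n41720 := d18_2 F187743 D41720 (iv D41720)
theorem F192244 : act 6 n41720 = n40790 := d20_2 (iv F187744) D41720 F188283
theorem F192245 : act 8 n41720 = n40784 := d22_2 (iv F187745) D41720 F188253
def n41721 : Q := act 9 n40655
theorem D41721 : act 9 n40655 = n41721 := rfl
theorem F192246 : act 0 n41721 = n41168 := d8_1 D41721 (iv D41168) (iv F187741)
theorem F192247 : act 1 n41721 = n40947 := d16_1 D41721 F188780 (iv F187742)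
theorem F192248 : act 3 n41721 = n40656 := d29_1 D41721 (iv D40656) D40655
theorem F192249 : act 4 n41721 = n41721 := d34_1 D41721 (iv D41721) F187743
theorem F192250 : act 6 n41721 = n40804 := d41_1 D41721 (iv D40804) (iv F187744)
def n41722 : Q := act 8 n40656
theorem D41722 : act 8 n40656 = n41722 := rfl
theorem F192251 : act 0 n41722 = n41169 := d7_1 D41722 (iv D41169) (iv F187746)
theorem F192252 : act 1 n41722 = n40908 := d15_1 D41722 F188691 (iv F187747)
theorem F192253 : act 2 n41722 = n40669 := d22_1 D41722 (iv D40669) (iv F187748)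
theorem F192254 : act 4 n41722 = n40657 := d33_1 D41722 (iv D40657) (iv F187749)
theorem F192255 : act 6 n41722 = n40805 := d40_1 D41722 (iv D40805) (iv F187750)
theorem F192256 : act 9 n41722 = n40957 := d44_2 D40656 D41722 (iv D40957) F184271 (iv F183055)
def n41723 : Q := act 3 n40658
theorem D41723 : act 3 n40658 = n41723 := rfl
theorem F192257 : act 0 n41723 = n41170 := d2_1 D41723 (iv D41170) (iv F187757)
theorem F192258 : act 1 n41723 = n40766 := d10_1 D41723 F190899 F190895
theorem F192259 : act 5 n41723 = n40756 := d25_2 F190413 D41723 (iv F190412)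
theorem F192260 : act 8 n41723 = n40661 := d28_2 (iv F187758) D41723 (iv D40661)
def n41724 : Q := act 6 n40658
theorem D41724 : act 6 n40658 = n41724 := rfl
theorem F192261 : act 0 n41724 = n41171 := d5_1 D41724 (iv D41171) (iv F187757)
theorem F192262 : act 2 n41724 = n41124 := d20_1 D41724 (iv F192224) F192222
theorem F192263 : act 4 n41724 = n40659 := d31_1 D41724 (iv D40659) D40658
theorem F192264 : act 5 n41724 = n41115 := d35_1 D41724 (iv D41115) (iv F189196) (iv F190414) F190413
theorem F192265 : act 8 n41724 = n40662 := d40_2 (iv F187758) D41724 (iv D40662)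
def n41725 : Q := act 9 n40658
theorem D41725 : act 9 n40658 = n41725 := rfl
theorem F192266 : act 0 n41725 = n41172 := d8_1 D41725 (iv D41172) (iv F187757)
theorem F192267 : act 4 n41725 = n40660 := d34_1 D41725 (iv D40660) D40658
def n41726 : Q := act 7 n40659
theorem D41726 : act 7 n40659 = n41726 := rfl
theorem F192268 : act 0 n41726 = n41173 := d6_1 D41726 (iv D41173) (iv F187759)
theorem F192269 : act 5 n41726 = n40705 := d36_1 D41726 (iv D40705) (iv F187760)
theorem F192270 : act 8 n41726 = n40664 := d42_2 (iv F187761) D41726 (iv D40664)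
def n41727 : Q := act 9 n40659
theorem D41727 : act 9 n40659 = n41727 := rfl
theorem F192271 : act 0 n41727 = n41174 := d8_1 D41727 (iv D41174) (iv F187759)
theorem F192272 : act 5 n41727 = n40706 := d38_1 D41727 (iv D40706) (iv F187760)
theorem F192273 : act 6 n41727 = n40660 := d41_1 D41727 (iv D40660) D40659
def n41728 : Q := act 8 n40660
theorem D41728 : act 8 n40660 = n41728 := rfl
theorem F192274 : act 0 n41728 = n41175 := d7_1 D41728 (iv D41175) (iv F187762)
theorem F192275 : act 9 n41728 = n40666 := d44_2 D40660 D41728 (iv D40666) (iv D39545) (iv F183063)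
def n41729 : Q := act 2 n40661
theorem D41729 : act 2 n40661 = n41729 := rfl
theorem F192276 : act 0 n41729 = n41176 := d1_1 D41729 (iv D41176) (iv F187764)
theorem F192277 : act 5 n41729 = n40667 := d19_2 (iv F187766) D41729 (iv D40667)
def n41730 : Q := act 6 n40661
theorem D41730 : act 6 n40661 = n41730 := rfl
theorem F192278 : act 0 n41730 = n41177 := d5_1 D41730 (iv D41177) (iv F187764)
theorem F192279 : act 1 n41730 = n40788 := d13_1 D41730 (iv D40788) (iv F187765)
theorem F192280 : act 3 n41730 = n40662 := d26_1 D41730 (iv D40662) D40661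
theorem F192281 : act 5 n41730 = n40793 := d35_1 D41730 (iv D40793) (iv D39688) (iv F183082) (iv F187766)
def n41731 : Q := act 9 n40661
theorem D41731 : act 9 n40661 = n41731 := rfl
theorem F192282 : act 0 n41731 = n41178 := d8_1 D41731 (iv D41178) (iv F187764)
theorem F192283 : act 1 n41731 = n40746 := d16_1 D41731 F188125 (iv F187765)
theorem F192284 : act 3 n41731 = n40663 := d29_1 D41731 (iv D40663) D40661
theorem F192285 : act 5 n41731 = n40668 := d38_1 D41731 (iv D40668) (iv F187766)
def n41732 : Q := act 7 n40662
theorem D41732 : act 7 n40662 = n41732 := rfl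
theorem F192286 : act 0 n41732 = n41179 := d6_1 D41732 (iv D41179) (iv F187767)
theorem F192287 : act 2 n41732 = n41131 := d21_1 D41732 (iv D41131) (iv F187768)
theorem F192288 : act 4 n41732 = n40664 := d32_1 D41732 (iv D40664) (iv F187769)
theorem F192289 : act 5 n41732 = n40806 := d36_1 D41732 (iv D40806) (iv F187770)
def n41733 : Q := act 9 n40662
theorem D41733 : act 9 n40662 = n41733 := rfl
theorem F192290 : act 0 n41733 = n41180 := d8_1 D41733 (iv D41180) (iv F187767)
theorem F192291 : act 1 n41733 = n40850 := d16_1 D41733 F190916 F190911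
theorem F192292 : act 2 n41733 = n40938 := d23_1 D41733 F188761 (iv F187768)
theorem F192293 : act 4 n41733 = n40665 := d34_1 D41733 (iv D40665) (iv F187769)
theorem F192294 : act 5 n41733 = n40807 := d38_1 D41733 (iv D40807) (iv F187770)
theorem F192295 : act 6 n41733 = n40663 := d41_1 D41733 (iv D40663) D40662
def n41734 : Q := act 8 n40663
theorem D41734 : act 8 n40663 = n41734 := rfl
theorem F192296 : act 0 n41734 = n41181 := d7_1 D41734 (iv D41181) (iv F187771)
theorem F192297 : act 4 n41734 = n40666 := d33_1 D41734 (iv D40666) (iv F187772)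
def n41735 : Q := act 8 n40665
theorem D41735 : act 8 n40665 = n41735 := rfl
theorem F192298 : act 0 n41735 = n41183 := d7_1 D41735 (iv D41183) (iv F187776)
theorem F192299 : act 6 n41735 = n40666 := d40_1 D41735 (iv D40666) (iv F187778)
def n41736 : Q := act 5 n40669
theorem D41736 : act 5 n40669 = n41736 := rfl
theorem F192300 : act 0 n41736 = n41186 := d4_1 D41736 (iv D41186) (iv F187790)
theorem F192301 : act 1 n41736 = n40923 := d12_1 D41736 F188724 (iv F187791)
theorem F192302 : act 3 n41736 = n40938 := d25_1 D41736 F188760 (iv F187792)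
theorem F192303 : act 9 n41736 = n40958 := d38_2 (iv F187795) D41736 (iv D40958)
def n41737 : Q := act 8 n40672
theorem D41737 : act 8 n40672 = n41737 := rfl
theorem F192304 : act 0 n41737 = n41188 := d7_1 D41737 (iv D41188) (iv F187808)
theorem F192305 : act 1 n41737 = n41125 := d15_1 D41737 F189352 (iv F187809)
theorem F192306 : act 3 n41737 = n40886 := d28_1 D41737 (iv D40886) (iv F187810)
theorem F192307 : act 4 n41737 = n40673 := d33_1 D41737 (iv D40673) D40672
theorem F192308 : act 7 n41737 = n40731 := d42_1 D41737 (iv D40731) (iv F187812)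
def n41738 : Q := act 5 n40673
theorem D41738 : act 5 n40673 = n41738 := rfl
theorem F192309 : act 0 n41738 = n40981 := d4_1 D41738 F188921 (iv F187814)
theorem F192310 : act 1 n41738 = n40823 := d12_1 D41738 F188432 (iv F187815)
theorem F192311 : act 2 n41738 = n41075 := d19_1 D41738 (iv F190864) F190862
theorem F192312 : act 3 n41738 = n40675 := d25_1 D41738 (iv D40675) (iv F187816)
theorem F192313 : act 7 n41738 = n40732 := d36_2 (iv F187817) D41738 (iv D40732)
theorem F192314 : act 8 n41738 = n40674 := d37_2 D40673 D41738 (iv D40674) (iv D39557) D39556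
theorem F192315 : act 4 n41022 = n41738 := d45_2 (iv F191323) F191324 (iv D41738) (iv F190437) F190438 (iv D40334) F181235 F177799 (iv F177684) (iv D38304) (iv D36931) (iv D35346) (iv F163866) F163865 (iv F164101) F164102 F156173 F156174 (iv F158277) (iv D34044) (iv F156892) F156893 (iv F164720) (iv D35481) (iv F164717) (iv F171682) (iv D37004) (iv F171669) (iv F176412) F176413 D38084 F176420 F176421 (iv F176110) (iv F181588) F181589 F177004 F172373 F165243 F157257 F148524 F139218 F108574 (iv F107196) F107197 F85495 (iv F107299) F107300 (iv F137430) (iv F146453) (iv F155050) (iv F162969) (iv F170336) (iv F176938) (iv F176939) (iv F178862) F178863 (iv F183853) D40817 F188413 F184374 D40003 (iv F186876)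
def n41739 : Q := act 9 n40673
theorem D41739 : act 9 n40673 = n41739 := rfl
theorem F192316 : act 0 n41739 = n41189 := d8_1 D41739 (iv D41189) (iv F187814)
theorem F192317 : act 1 n41739 = n41128 := d16_1 D41739 (iv D41128) (iv F187815)
theorem F192318 : act 3 n41739 = n40676 := d29_1 D41739 (iv D40676) (iv F187816)
theorem F192319 : act 7 n41739 = n40733 := d43_1 D41739 (iv D40733) (iv F187817)
theorem F192320 : act 8 n41739 = n40698 := d44_1 D41739 (iv D40698) (iv D39579) (iv F183120) D40673
def n41740 : Q := act 4 n40675
theorem D41740 : act 4 n40675 = n41740 := rfl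
theorem F192321 : act 0 n41740 = n41190 := d3_1 D41740 (iv D41190) (iv F187825)
theorem F192322 : act 1 n41740 = n40933 := d11_1 D41740 F188750 (iv F187826)
theorem F192323 : act 2 n41740 = n40680 := d18_1 D41740 (iv D40680) (iv F187827)
theorem F192324 : act 5 n41740 = n40888 := d30_2 D40675 D41740 (iv D40888) (iv D39794) (iv F183132)
theorem F192325 : act 7 n41740 = n40735 := d32_2 (iv F187828) D41740 (iv D40735)
theorem F192326 : act 8 n41740 = n40677 := d33_2 (iv F187829) D41740 (iv D40677)
def n41741 : Q := act 6 n40675
theorem D41741 : act 6 n40675 = n41741 := rfl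
theorem F192327 : act 0 n41741 = n41191 := d5_1 D41741 (iv D41191) (iv F187825)
theorem F192328 : act 1 n41741 = n40896 := d13_1 D41741 F188659 (iv F187826)
theorem F192329 : act 2 n41741 = n40681 := d20_1 D41741 (iv D40681) (iv F187827)
theorem F192330 : act 7 n41741 = n40839 := d39_2 (iv F187828) D41741 (iv D40839) F183937 (iv F183384)
theorem F192331 : act 8 n41741 = n40678 := d40_2 (iv F187829) D41741 (iv D40678)
def n41742 : Q := act 9 n40675
theorem D41742 : act 9 n40675 = n41742 := rfl
theorem F192332 : act 0 n41742 = n41192 := d8_1 D41742 (iv D41192) (iv F187825)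
theorem F192333 : act 1 n41742 = n40936 := d16_1 D41742 (iv D40936) (iv F187826)
theorem F192334 : act 2 n41742 = n40682 := d23_1 D41742 (iv D40682) (iv F187827)
theorem F192335 : act 5 n41742 = n40676 := d38_1 D41742 (iv D40676) D40675
theorem F192336 : act 7 n41742 = n40736 := d43_1 D41742 (iv D40736) (iv F187828)
def n41743 : Q := act 6 n40677
theorem D41743 : act 6 n40677 = n41743 := rfl
theorem F192337 : act 0 n41743 = n41193 := d5_1 D41743 (iv D41193) (iv F187836)
theorem F192338 : act 1 n41743 = n40899 := d13_1 D41743 F188666 (iv F187837)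
theorem F192339 : act 2 n41743 = n40684 := d20_1 D41743 (iv D40684) (iv F187838)
theorem F192340 : act 4 n41743 = n40678 := d31_1 D41743 (iv D40678) D40677
theorem F192341 : act 5 n41743 = n41743 := d35_1 D41743 (iv D41743) F187839 F183154 (iv F187839)
theorem F192342 : act 7 n41743 = n40841 := d39_2 (iv F187840) D41743 (iv D40841) F183943 (iv F183396)
def n41744 : Q := act 8 n40679
theorem D41744 : act 8 n40679 = n41744 := rfl
theorem F192343 : act 0 n41744 = n40996 := d7_1 D41744 (iv D40996) (iv F187846)
theorem F192344 : act 1 n41744 = n40946 := d15_1 D41744 (iv D40946) (iv F187847)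
theorem F192345 : act 2 n41744 = n40688 := d22_1 D41744 (iv D40688) (iv F187848)
theorem F192346 : act 3 n41744 = n40994 := d28_1 D41744 (iv D40994) (iv F187849)
theorem F192347 : act 5 n41744 = n40701 := d37_1 D41744 (iv D40701) F183243 (iv F183145) (iv F187850)
theorem F192348 : act 7 n41744 = n40739 := d42_1 D41744 (iv D40739) (iv F187851)
def n41745 : Q := act 3 n40680
theorem D41745 : act 3 n40680 = n41745 := rfl
theorem F192349 : act 0 n41745 = n41194 := d2_1 D41745 (iv D41194) (iv F187852)
theorem F192350 : act 4 n41745 = n40766 := d24_2 D40680 D41745 F190899 (iv D41457) F186391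
theorem F192351 : act 5 n41745 = n40768 := d25_2 (iv F187853) D41745 F188194
theorem F192352 : act 7 n41745 = n40740 := d27_2 (iv F187854) D41745 (iv D40740)
theorem F192353 : act 8 n41745 = n40683 := d28_2 (iv F187855) D41745 (iv D40683)
def n41746 : Q := act 6 n40680
theorem D41746 : act 6 n40680 = n41746 := rfl
theorem F192354 : act 0 n41746 = n41195 := d5_1 D41746 (iv D41195) (iv F187852)
theorem F192355 : act 4 n41746 = n40681 := d31_1 D41746 (iv D40681) D40680
theorem F192356 : act 8 n41746 = n40684 := d40_2 (iv F187855) D41746 (iv D40684)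
def n41747 : Q := act 9 n40680
theorem D41747 : act 9 n40680 = n41747 := rfl
theorem F192357 : act 0 n41747 = n41196 := d8_1 D41747 (iv D41196) (iv F187852)
theorem F192358 : act 4 n41747 = n40682 := d34_1 D41747 (iv D40682) D40680
theorem F192359 : act 5 n41747 = n40895 := d38_1 D41747 (iv D40895) (iv F187853)
theorem F192360 : act 7 n41747 = n40742 := d43_1 D41747 (iv D40742) (iv F187854)
def n41748 : Q := act 7 n40681
theorem D41748 : act 7 n40681 = n41748 := rfl
theorem F192361 : act 0 n41748 = n41197 := d6_1 D41748 (iv D41197) (iv F187856)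
theorem F192362 : act 2 n41748 = n40839 := d21_1 D41748 (iv F192330) F192329
theorem F192363 : act 6 n41748 = n40743 := d39_1 D41748 (iv D40743) (iv D39626) (iv F183158) D40681
theorem F192364 : act 8 n41748 = n40686 := d42_2 (iv F187857) D41748 (iv D40686)
def n41749 : Q := act 9 n40681
theorem D41749 : act 9 n40681 = n41749 := rfl
theorem F192365 : act 0 n41749 = n41198 := d8_1 D41749 (iv D41198) (iv F187856)
theorem F192366 : act 6 n41749 = n40682 := d41_1 D41749 (iv D40682) D40681
def n41750 : Q := act 8 n40682
theorem D41750 : act 8 n40682 = n41750 := rfl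
theorem F192367 : act 0 n41750 = n41199 := d7_1 D41750 (iv D41199) (iv F187858)
theorem F192368 : act 5 n41750 = n40707 := d37_1 D41750 (iv D40707) F183253 (iv F183163) (iv F187859)
theorem F192369 : act 7 n41750 = n40745 := d42_1 D41750 (iv D40745) (iv F187860)
theorem F192370 : act 9 n41750 = n40688 := d44_2 D40682 D41750 (iv D40688) (iv D39567) (iv F183159)
def n41751 : Q := act 6 n40683
theorem D41751 : act 6 n40683 = n41751 := rfl
theorem F192371 : act 0 n41751 = n41200 := d5_1 D41751 (iv D41200) (iv F187861)
theorem F192372 : act 3 n41751 = n40684 := d26_1 D41751 (iv D40684) D40683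
theorem F192373 : act 4 n41751 = n40788 := d31_1 D41751 (iv D40788) (iv F187862)
theorem F192374 : act 5 n41751 = n41751 := d35_1 D41751 (iv D41751) F187863 F183181 (iv F187863)
def n41752 : Q := act 7 n40684
theorem D41752 : act 7 n40684 = n41752 := rfl
theorem F192375 : act 0 n41752 = n41201 := d6_1 D41752 (iv D41201) (iv F187865)
theorem F192376 : act 2 n41752 = n40841 := d21_1 D41752 (iv F192342) F192339
theorem F192377 : act 4 n41752 = n40686 := d32_1 D41752 (iv D40686) (iv F187866)
theorem F192378 : act 5 n41752 = n41752 := d36_1 D41752 (iv D41752) F187867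
theorem F192379 : act 6 n41752 = n40748 := d39_1 D41752 (iv D40748) (iv D39629) (iv F183166) D40684
def n41753 : Q := act 9 n40684
theorem D41753 : act 9 n40684 = n41753 := rfl
theorem F192380 : act 0 n41753 = n41202 := d8_1 D41753 (iv D41202) (iv F187865)
theorem F192381 : act 4 n41753 = n40687 := d34_1 D41753 (iv D40687) (iv F187866)
theorem F192382 : act 5 n41753 = n41753 := d38_1 D41753 (iv D41753) F187867
theorem F192383 : act 6 n41753 = n40685 := d41_1 D41753 (iv D40685) D40684
def n41754 : Q := act 8 n40685
theorem D41754 : act 8 n40685 = n41754 := rfl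
theorem F192384 : act 0 n41754 = n41203 := d7_1 D41754 (iv D41203) (iv F187868)
theorem F192385 : act 4 n41754 = n40688 := d33_1 D41754 (iv D40688) (iv F187869)
theorem F192386 : act 7 n41754 = n40750 := d42_1 D41754 (iv D40750) (iv F187871)
def n41755 : Q := act 8 n40687
theorem D41755 : act 8 n40687 = n41755 := rfl
theorem F192387 : act 0 n41755 = n41205 := d7_1 D41755 (iv D41205) (iv F187876)
theorem F192388 : act 6 n41755 = n40688 := d40_1 D41755 (iv D40688) (iv F187878)
def n41756 : Q := act 4 n40689
theorem D41756 : act 4 n40689 = n41756 := rfl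
theorem F192389 : act 2 n41756 = n40690 := d18_1 D41756 (iv D40690) (iv F187882)
theorem F192390 : act 5 n41756 = n40781 := d30_2 D40689 D41756 (iv D40781) (iv D39666) (iv F183189)
theorem F192391 : act 7 n41756 = n40753 := d32_2 (iv F187883) D41756 (iv D40753)
theorem F192392 : act 9 n41756 = n41121 := d34_2 (iv F187884) D41756 F189343
def n41757 : Q := act 8 n40689
theorem D41757 : act 8 n40689 = n41757 := rfl
theorem F192393 : act 2 n41757 = n40691 := d22_1 D41757 (iv D40691) (iv F187882)
theorem F192394 : act 7 n41757 = n40754 := d42_1 D41757 (iv D40754) (iv F187883)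
def n41758 : Q := act 8 n40690
theorem D41758 : act 8 n40690 = n41758 := rfl
theorem F192395 : act 1 n41758 = n40696 := d15_1 D41758 (iv D40696) (iv F187885)
theorem F192396 : act 3 n41758 = n41151 := d28_1 D41758 F189418 (iv F187886)
theorem F192397 : act 4 n41758 = n40691 := d33_1 D41758 (iv D40691) D40690
theorem F192398 : act 7 n41758 = n40756 := d42_1 D41758 (iv D40756) (iv F187888)
def n41759 : Q := act 5 n40691
theorem D41759 : act 5 n40691 = n41759 := rfl
theorem F192399 : act 0 n41759 = n40819 := d4_1 D41759 (iv F191586) F191583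
theorem F192400 : act 1 n41759 = n40697 := d12_1 D41759 (iv D40697) (iv F187890)
theorem F192401 : act 3 n41759 = n40693 := d25_1 D41759 (iv D40693) (iv F187891)
theorem F192402 : act 7 n41759 = n40757 := d36_2 (iv F187892) D41759 (iv D40757)
theorem F192403 : act 8 n41759 = n40692 := d37_2 D40691 D41759 (iv D40692) (iv D39574) D39573
theorem F192404 : act 4 n40847 = n41759 := d33_3 F192403 F187896 (iv F188509)
theorem F192405 : act 6 n41098 = n41759 := d40_3 F192403 F187897 D41098
def n41760 : Q := act 9 n40691
theorem D41760 : act 9 n40691 = n41760 := rfl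
theorem F192406 : act 1 n41760 = n40698 := d16_1 D41760 (iv D40698) (iv F187890)
theorem F192407 : act 3 n41760 = n40694 := d29_1 D41760 (iv D40694) (iv F187891)
theorem F192408 : act 7 n41760 = n40758 := d43_1 D41760 (iv D40758) (iv F187892)
theorem F192409 : act 8 n41760 = n41128 := d44_1 D41760 (iv D41128) F184817 (iv F183195) D40691
def n41761 : Q := act 9 n40693
theorem D41761 : act 9 n40693 = n41761 := rfl
theorem F192410 : act 0 n41761 = n40820 := d8_1 D41761 (iv D40820) (iv F187899)
theorem F192411 : act 1 n41761 = n40700 := d16_1 D41761 (iv D40700) (iv F187900)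
theorem F192412 : act 4 n41761 = n40815 := d34_1 D41761 (iv D40815) (iv F187901)
theorem F192413 : act 5 n41761 = n40694 := d38_1 D41761 (iv D40694) D40693
theorem F192414 : act 6 n41761 = n41100 := d41_1 D41761 (iv D41100) F187904
theorem F192415 : act 7 n41761 = n40763 := d43_1 D41761 (iv D40763) (iv F187902)
def n41762 : Q := act 8 n40695
theorem D41762 : act 8 n40695 = n41762 := rfl
theorem F192416 : act 0 n41762 = n40712 := d7_1 D41762 (iv D40712) (iv F187908)
theorem F192417 : act 1 n41762 = n40701 := d15_1 D41762 (iv D40701) (iv F187909)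
theorem F192418 : act 4 n41762 = n40816 := d33_1 D41762 (iv D40816) (iv F187910)
theorem F192419 : act 5 n41762 = n40946 := d37_1 D41762 (iv D40946) F184195 (iv F183214) (iv F187911)
theorem F192420 : act 6 n41762 = n41075 := d40_1 D41762 (iv D41075) (iv F187912)
theorem F192421 : act 7 n41762 = n40765 := d42_1 D41762 (iv D40765) (iv F187913)
def n41763 : Q := act 9 n40696
theorem D41763 : act 9 n40696 = n41763 := rfl
theorem F192422 : act 0 n41763 = n41208 := d8_1 D41763 (iv D41208) (iv F187914)
theorem F192423 : act 4 n41763 = n40698 := d34_1 D41763 (iv D40698) (iv F187915)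
theorem F192424 : act 7 n41763 = n40767 := d43_1 D41763 (iv D40767) (iv F187916)
def n41764 : Q := act 9 n40697
theorem D41764 : act 9 n40697 = n41764 := rfl
theorem F192425 : act 0 n41764 = n41209 := d8_1 D41764 (iv D41209) (iv F187917)
theorem F192426 : act 3 n41764 = n40700 := d29_1 D41764 (iv D40700) (iv F187918)
theorem F192427 : act 4 n41764 = n40932 := d34_1 D41764 (iv D40932) F187921
theorem F192428 : act 5 n41764 = n40698 := d38_1 D41764 (iv D40698) D40697
theorem F192429 : act 7 n41764 = n40770 := d43_1 D41764 (iv D40770) (iv F187919)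
def n41765 : Q := act 8 n40699
theorem D41765 : act 8 n40699 = n41765 := rfl
theorem F192430 : act 0 n41765 = n40997 := d7_1 D41765 F188995 (iv F187925)
theorem F192431 : act 2 n41765 = n41099 := d22_1 D41765 F189291 (iv F187926)
theorem F192432 : act 3 n41765 = n40701 := d28_1 D41765 (iv D40701) (iv F187927)
theorem F192433 : act 4 n41765 = n40942 := d33_1 D41765 (iv D40942) (iv F187928)
theorem F192434 : act 5 n41765 = n40994 := d37_1 D41765 (iv D40994) (iv D39906) (iv F183231) (iv F187929)
theorem F192435 : act 7 n41765 = n40774 := d42_1 D41765 (iv D40774) (iv F187930)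
def n41766 : Q := act 8 n40700
theorem D41766 : act 8 n40700 = n41766 := rfl
theorem F192436 : act 0 n41766 = n41210 := d7_1 D41766 (iv D41210) (iv F187931)
theorem F192437 : act 2 n41766 = n40707 := d22_1 D41766 (iv D40707) (iv F187932)
theorem F192438 : act 4 n41766 = n40825 := d33_1 D41766 (iv D40825) (iv F187933)
theorem F192439 : act 7 n41766 = n40778 := d42_1 D41766 (iv D40778) (iv F187935)
theorem F192440 : act 9 n41766 = n40701 := d44_2 D40700 D41766 (iv D40701) (iv D39584) (iv F183236)
def n41767 : Q := act 6 n40702
theorem D41767 : act 6 n40702 = n41767 := rfl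
theorem F192441 : act 0 n41767 = n41155 := d5_1 D41767 F189426 (iv F187940)
theorem F192442 : act 2 n41767 = n40912 := d20_1 D41767 (iv D40912) (iv F187941)
theorem F192443 : act 3 n41767 = n40703 := d26_1 D41767 (iv D40703) D40702
theorem F192444 : act 5 n41767 = n41110 := d35_1 D41767 (iv D41110) (iv D40018) (iv F183865) (iv F187942)
theorem F192445 : act 8 n41767 = n40708 := d40_2 (iv F187944) D41767 (iv D40708)
def n41768 : Q := act 9 n40702
theorem D41768 : act 9 n40702 = n41768 := rfl
theorem F192446 : act 0 n41768 = n41207 := d8_1 D41768 (iv D41207) (iv F187940)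
theorem F192447 : act 2 n41768 = n40913 := d23_1 D41768 (iv D40913) (iv F187941)
theorem F192448 : act 3 n41768 = n40704 := d29_1 D41768 (iv D40704) D40702
theorem F192449 : act 5 n41768 = n40822 := d38_1 D41768 (iv D40822) (iv F187942)
theorem F192450 : act 7 n41768 = n40779 := d43_1 D41768 (iv D40779) (iv F187943)
def n41769 : Q := act 9 n40703
theorem D41769 : act 9 n40703 = n41769 := rfl
theorem F192451 : act 0 n41769 = n41156 := d8_1 D41769 (iv D41156) (iv F187945)
theorem F192452 : act 2 n41769 = n40824 := d23_1 D41769 (iv D40824) (iv F187946)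
theorem F192453 : act 4 n41769 = n40706 := d34_1 D41769 (iv D40706) (iv F187947)
theorem F192454 : act 5 n41769 = n41118 := d38_1 D41769 (iv D41118) (iv F187948)
theorem F192455 : act 6 n41769 = n40704 := d41_1 D41769 (iv D40704) D40703
def n41770 : Q := act 9 n40705
theorem D41770 : act 9 n40705 = n41770 := rfl
theorem F192456 : act 0 n41770 = n41211 := d8_1 D41770 (iv D41211) (iv F187955)
theorem F192457 : act 6 n41770 = n40780 := d41_1 D41770 (iv D40780) (iv F187956)
theorem F192458 : act 7 n41770 = n40706 := d43_1 D41770 (iv D40706) D40705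
def n41771 : Q := act 8 n40706
theorem D41771 : act 8 n40706 = n41771 := rfl
theorem F192459 : act 0 n41771 = n41212 := d7_1 D41771 (iv D41212) (iv F187958)
theorem F192460 : act 6 n41771 = n40707 := d40_1 D41771 (iv D40707) (iv F187959)
theorem F192461 : act 9 n41771 = n40709 := d44_2 D40706 D41771 (iv D40709) (iv D39591) (iv F183251)
def n41772 : Q := act 5 n40709
theorem D41772 : act 5 n40709 = n41772 := rfl
theorem F192462 : act 0 n41772 = n41213 := d4_1 D41772 (iv D41213) (iv F187967)
theorem F192463 : act 1 n41772 = n41117 := d12_1 D41772 (iv F191949) F191946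
theorem F192464 : act 7 n41772 = n41104 := d36_2 F191924 D41772 (iv F191923)
theorem F192465 : act 8 n41772 = n40710 := d37_2 D40709 D41772 (iv D40710) (iv D39593) (iv F183267)
def n41773 : Q := act 4 n40710
theorem D41773 : act 4 n40710 = n41773 := rfl
theorem F192466 : act 0 n41773 = n41214 := d3_1 D41773 (iv D41214) (iv F187969)
theorem F192467 : act 1 n41773 = n41121 := d11_1 D41773 F189343 (iv F187970)
theorem F192468 : act 5 n41773 = n40808 := d30_2 D40710 D41773 (iv D40808) (iv D39713) (iv F183273)
theorem F192469 : act 7 n41773 = n41106 := d32_2 (iv F187971) D41773 F189306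
def n41774 : Q := act 4 n40711
theorem D41774 : act 4 n40711 = n41774 := rfl
theorem F192470 : act 0 n41774 = n40851 := d3_1 D41774 (iv F190890) F190886
theorem F192471 : act 1 n41774 = n40713 := d11_1 D41774 (iv D40713) (iv F187972)
theorem F192472 : act 2 n41774 = n40977 := d18_1 D41774 F188900 (iv F187973)
theorem F192473 : act 3 n41774 = n40832 := d24_1 D41774 F188467 (iv F186642) F186643 (iv F187974)
theorem F192474 : act 5 n41774 = n40782 := d30_2 D40711 D41774 (iv D40782) (iv D39670) (iv F183279)
theorem F192475 : act 6 n41774 = n40973 := d31_2 (iv F187975) D41774 (iv D40973)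
theorem F192476 : act 9 n41774 = n40818 := d34_2 (iv F187976) D41774 (iv D40818)
def n41775 : Q := act 8 n40711
theorem D41775 : act 8 n40711 = n41775 := rfl
theorem F192477 : act 1 n41775 = n40714 := d15_1 D41775 (iv D40714) (iv F187972)
theorem F192478 : act 2 n41775 = n40975 := d22_1 D41775 F188893 (iv F187973)
theorem F192479 : act 3 n41775 = n40712 := d28_1 D41775 (iv D40712) (iv F187974)
theorem F192480 : act 5 n41775 = n40962 := d37_1 D41775 (iv D40962) (iv D39873) (iv F183280) D40711
theorem F192481 : act 6 n41775 = n40971 := d40_1 D41775 F188875 (iv F187975)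
def n41776 : Q := act 9 n40712
theorem D41776 : act 9 n40712 = n41776 := rfl
theorem F192482 : act 1 n41776 = n40716 := d16_1 D41776 (iv D40716) (iv F187977)
theorem F192483 : act 6 n41776 = n41076 := d41_1 D41776 (iv D41076) (iv F187978)
theorem F192484 : act 8 n41776 = n40820 := d44_1 D41776 (iv D40820) (iv D39726) (iv F183284) D40712
def n41777 : Q := act 8 n40713
theorem D41777 : act 8 n40713 = n41777 := rfl
theorem F192485 : act 0 n41777 = n41001 := d7_1 D41777 F189004 (iv F187979)
theorem F192486 : act 2 n41777 = n40725 := d22_1 D41777 (iv D40725) (iv F187980)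
theorem F192487 : act 4 n41777 = n40714 := d33_1 D41777 (iv D40714) D40713
theorem F192488 : act 6 n41777 = n41077 := d40_1 D41777 (iv D41077) (iv F187982)
def n41778 : Q := act 9 n40714
theorem D41778 : act 9 n40714 = n41778 := rfl
theorem F192489 : act 0 n41778 = n41002 := d8_1 D41778 (iv D41002) (iv F187984)
theorem F192490 : act 2 n41778 = n40726 := d23_1 D41778 (iv D40726) (iv F187985)
theorem F192491 : act 3 n41778 = n40716 := d29_1 D41778 (iv D40716) (iv F187986)
theorem F192492 : act 5 n41778 = n40963 := d38_1 D41778 (iv D40963) (iv F187987)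
theorem F192493 : act 6 n41778 = n41078 := d41_1 D41778 (iv D41078) (iv F187988)
theorem F192494 : act 8 n41778 = n40822 := d44_1 D41778 (iv D40822) (iv D39728) (iv F183289) D40714
def n41779 : Q := act 4 n40715
theorem D41779 : act 4 n40715 = n41779 := rfl
theorem F192495 : act 0 n41779 = n40999 := d3_1 D41779 F188999 (iv F187989)
theorem F192496 : act 2 n41779 = n40718 := d18_1 D41779 (iv D40718) (iv F187990)
theorem F192497 : act 5 n41779 = n40900 := d30_2 D40715 D41779 F188667 (iv F186650) F186649
theorem F192498 : act 7 n41779 = n40945 := d32_2 F189729 D41779 (iv F189727)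
theorem F192499 : act 8 n41779 = n40717 := d33_2 (iv F187992) D41779 (iv D40717)
def n41780 : Q := act 9 n40715
theorem D41780 : act 9 n40715 = n41780 := rfl
theorem F192500 : act 0 n41780 = n41000 := d8_1 D41780 (iv D41000) (iv F187989)
theorem F192501 : act 2 n41780 = n40720 := d23_1 D41780 (iv D40720) (iv F187990)
theorem F192502 : act 3 n41780 = n40963 := d29_1 D41780 (iv D40963) (iv F187991)
theorem F192503 : act 5 n41780 = n40716 := d38_1 D41780 (iv D40716) D40715
def n41781 : Q := act 3 n40718
theorem D41781 : act 3 n40718 = n41781 := rfl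
theorem F192504 : act 0 n41781 = n41134 := d2_1 D41781 F189377 (iv F188001)
theorem F192505 : act 4 n41781 = n40727 := d24_2 D40718 D41781 (iv D40727) (iv D39610) (iv F183302)
theorem F192506 : act 7 n41781 = n40821 := d27_2 F189743 D41781 (iv F189740)
theorem F192507 : act 8 n41781 = n40721 := d28_2 (iv F188002) D41781 (iv D40721)
theorem F192508 : act 2 n40886 = n41781 := d45_0 (iv D41781) (iv D40718) (iv D39600) F178160 (iv F179388) (iv D38735) (iv F179367) (iv F184336) D40969 F188863 F184694 F184695 (iv F180863) F180858 (iv F181029) F181030 D39177 F181036 F181037 (iv D38830) F173894 (iv D36096) (iv D34380) (iv D32494) F141810 F114831 (iv D20160) F72069 (iv F72239) D20222 F91490 F72402 D20286 F91734 (iv F115497) (iv F142527) (iv F149826) (iv F158212) D35742 (iv F171981) F171982 (iv F169915) F169916 F162675 D35896 F166509 F166510 (iv F165239) F165237 F157278 D33839 (iv F163425) F163426 F163427 (iv D33857) (iv F157336) (iv F165312) D37164 (iv F178341) (iv F180753) (iv F185507) D41307 F189991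
def n41782 : Q := act 6 n40718
theorem D41782 : act 6 n40718 = n41782 := rfl
theorem F192509 : act 0 n41782 = n40845 := d5_1 D41782 F188505 (iv F188001)
theorem F192510 : act 4 n41782 = n40719 := d31_1 D41782 (iv D40719) D40718
theorem F192511 : act 8 n41782 = n40722 := d40_2 (iv F188002) D41782 (iv D40722)
def n41783 : Q := act 9 n40718
theorem D41783 : act 9 n40718 = n41783 := rfl
theorem F192512 : act 0 n41783 = n41146 := d8_1 D41783 (iv D41146) (iv F188001)
theorem F192513 : act 4 n41783 = n40720 := d34_1 D41783 (iv D40720) D40718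
def n41784 : Q := act 9 n40719
theorem D41784 : act 9 n40719 = n41784 := rfl
theorem F192514 : act 0 n41784 = n40846 := d8_1 D41784 (iv D40846) (iv F188003)
theorem F192515 : act 3 n41784 = n40729 := d29_1 D41784 (iv D40729) (iv F188004)
theorem F192516 : act 5 n41784 = n41087 := d38_1 D41784 (iv D41087) (iv F188005)
theorem F192517 : act 6 n41784 = n40720 := d41_1 D41784 (iv D40720) D40719
def n41785 : Q := act 8 n40720
theorem D41785 : act 8 n40720 = n41785 := rfl
theorem F192518 : act 0 n41785 = n41138 := d7_1 D41785 F189388 (iv F188007)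
theorem F192519 : act 3 n41785 = n40730 := d28_1 D41785 (iv D40730) (iv F188008)
theorem F192520 : act 5 n41785 = n40825 := d37_1 D41785 (iv D40825) F183872 (iv F183307) (iv F188009)
theorem F192521 : act 9 n41785 = n40724 := d44_2 D40720 D41785 (iv D40724) (iv D39604) (iv F183303)
def n41786 : Q := act 8 n40723
theorem D41786 : act 8 n40723 = n41786 := rfl
theorem F192522 : act 0 n41786 = n41137 := d7_1 D41786 (iv D41137) (iv F188018)
theorem F192523 : act 4 n41786 = n40724 := d33_1 D41786 (iv D40724) (iv F188019)
def n41787 : Q := act 9 n40725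
theorem D41787 : act 9 n40725 = n41787 := rfl
theorem F192524 : act 0 n41787 = n41003 := d8_1 D41787 (iv D41003) (iv F188024)
theorem F192525 : act 3 n41787 = n40767 := d29_1 D41787 (iv D40767) (iv F188025)
theorem F192526 : act 4 n41787 = n40726 := d34_1 D41787 (iv D40726) (iv F188026)
theorem F192527 : act 6 n41787 = n41215 := d41_1 D41787 (iv D41215) (iv F188027)
theorem F192528 : act 8 n41787 = n40910 := d44_1 D41787 (iv D40910) (iv D39814) (iv F183328) D40725
def n41788 : Q := act 9 n40727
theorem D41788 : act 9 n40727 = n41788 := rfl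
theorem F192529 : act 0 n41788 = n41135 := d8_1 D41788 (iv D41135) (iv F188033)
theorem F192530 : act 2 n41788 = n40887 := d23_1 D41788 (iv D40887) (iv F188034)
theorem F192531 : act 3 n41788 = n40728 := d29_1 D41788 (iv D40728) D40727
theorem F192532 : act 5 n41788 = n40779 := d38_1 D41788 (iv D40779) (iv F188035)
theorem F192533 : act 7 n41788 = n40822 := d43_1 D41788 (iv D40822) (iv F188036)
def n41789 : Q := act 5 n40731
theorem D41789 : act 5 n40731 = n41789 := rfl
theorem F192534 : act 0 n41789 = n41103 := d4_1 D41789 F189299 (iv F188051)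
theorem F192535 : act 1 n41789 = n41124 := d12_1 D41789 (iv D41124) (iv F188052)
theorem F192536 : act 2 n41789 = n40942 := d19_1 D41789 (iv F191265) F191262
theorem F192537 : act 3 n41789 = n40909 := d25_1 D41789 (iv D40909) (iv F188053)
theorem F192538 : act 4 n41789 = n41099 := d30_1 D41789 (iv D41099) F188061 (iv D40732) (iv F188054)
theorem F192539 : act 8 n41789 = n40783 := d37_2 D40731 D41789 (iv D40783) (iv D39672) (iv F183361)
def n41790 : Q := act 9 n40731
theorem D41790 : act 9 n40731 = n41790 := rfl
theorem F192540 : act 0 n41790 = n41215 := d8_1 D41790 (iv D41215) (iv F188051)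
theorem F192541 : act 1 n41790 = n41126 := d16_1 D41790 (iv D41126) (iv F188052)
theorem F192542 : act 3 n41790 = n40910 := d29_1 D41790 (iv D40910) (iv F188053)
theorem F192543 : act 4 n41790 = n40733 := d34_1 D41790 (iv D40733) (iv F188054)
theorem F192544 : act 6 n41790 = n41003 := d41_1 D41790 (iv D41003) (iv F188055)
theorem F192545 : act 8 n41790 = n40767 := d44_1 D41790 (iv D40767) (iv D39648) (iv F183363) D40731
def n41791 : Q := act 9 n40732
theorem D41791 : act 9 n40732 = n41791 := rfl
theorem F192546 : act 0 n41791 = n41059 := d8_1 D41791 (iv D41059) (iv F188056)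
theorem F192547 : act 1 n41791 = n40824 := d16_1 D41791 (iv D40824) (iv F188057)
theorem F192548 : act 3 n41791 = n40736 := d29_1 D41791 (iv D40736) (iv F188058)
theorem F192549 : act 4 n41791 = n41100 := d34_1 D41791 (iv D41100) F188061
theorem F192550 : act 5 n41791 = n40733 := d38_1 D41791 (iv D40733) D40732
theorem F192551 : act 6 n41791 = n40815 := d41_1 D41791 (iv D40815) (iv F188059)
def n41792 : Q := act 8 n40734
theorem D41792 : act 8 n40734 = n41792 := rfl
theorem F192552 : act 0 n41792 = n40964 := d7_1 D41792 (iv D40964) (iv F188067)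
theorem F192553 : act 1 n41792 = n40826 := d15_1 D41792 (iv D40826) (iv F188068)
theorem F192554 : act 2 n41792 = n41022 := d22_1 D41792 (iv D41022) (iv F188069)
theorem F192555 : act 3 n41792 = n40739 := d28_1 D41792 (iv D40739) (iv F188070)
theorem F192556 : act 4 n41792 = n41075 := d33_1 D41792 (iv D41075) (iv F188071)
theorem F192557 : act 5 n41792 = n40774 := d37_1 D41792 (iv D40774) F183507 (iv F183380) (iv F188072)
theorem F192558 : act 6 n41792 = n40816 := d40_1 D41792 (iv D40816) (iv F188073)
theorem F192559 : act 7 n41792 = n40994 := d42_1 D41792 (iv D40994) (iv F188074)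
def n41793 : Q := act 3 n40735
theorem D41793 : act 3 n40735 = n41793 := rfl
theorem F192560 : act 0 n41793 = n41101 := d2_1 D41793 F189294 (iv F188075)
theorem F192561 : act 1 n41793 = n40931 := d10_1 D41793 F188747 (iv F188076)
theorem F192562 : act 4 n41793 = n41098 := d24_2 D40735 D41793 F189289 F188061 F188058
theorem F192563 : act 5 n41793 = n40917 := d25_2 (iv F188078) D41793 (iv D40917)
theorem F192564 : act 6 n41793 = n40847 := d26_2 (iv F188079) D41793 (iv D40847)
theorem F192565 : act 8 n41793 = n40737 := d28_2 (iv F188080) D41793 (iv D40737)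
def n41794 : Q := act 9 n40735
theorem D41794 : act 9 n40735 = n41794 := rfl
theorem F192566 : act 0 n41794 = n41216 := d8_1 D41794 (iv D41216) (iv F188075)
theorem F192567 : act 1 n41794 = n40934 := d16_1 D41794 (iv D40934) (iv F188076)
theorem F192568 : act 2 n41794 = n40742 := d23_1 D41794 (iv D40742) (iv F188077)
theorem F192569 : act 4 n41794 = n40736 := d34_1 D41794 (iv D40736) D40735
theorem F192570 : act 5 n41794 = n40919 := d38_1 D41794 (iv D40919) (iv F188078)
theorem F192571 : act 6 n41794 = n40848 := d41_1 D41794 (iv D40848) (iv F188079)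
def n41795 : Q := act 8 n40736
theorem D41795 : act 8 n40736 = n41795 := rfl
theorem F192572 : act 0 n41795 = n41217 := d7_1 D41795 (iv D41217) (iv F188081)
theorem F192573 : act 1 n41795 = n40937 := d15_1 D41795 (iv D40937) (iv F188082)
theorem F192574 : act 2 n41795 = n40745 := d22_1 D41795 (iv D40745) (iv F188083)
theorem F192575 : act 5 n41795 = n40778 := d37_1 D41795 (iv D40778) F183523 (iv F183391) (iv F188084)
theorem F192576 : act 6 n41795 = n40849 := d40_1 D41795 (iv D40849) (iv F188085)
theorem F192577 : act 9 n41795 = n40739 := d44_2 D40736 D41795 (iv D40739) (iv D39622) (iv F183385)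
def n41796 : Q := act 8 n40738
theorem D41796 : act 8 n40738 = n41796 := rfl
theorem F192578 : act 0 n41796 = n41218 := d7_1 D41796 (iv D41218) (iv F188091)
theorem F192579 : act 1 n41796 = n40944 := d15_1 D41796 (iv D40944) (iv F188092)
theorem F192580 : act 2 n41796 = n40750 := d22_1 D41796 (iv D40750) (iv F188093)
theorem F192581 : act 4 n41796 = n40739 := d33_1 D41796 (iv D40739) (iv F188094)
theorem F192582 : act 6 n41796 = n40852 := d40_1 D41796 (iv D40852) (iv F188096)
def n41797 : Q := act 2 n40740
theorem D41797 : act 2 n40740 = n41797 := rfl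
theorem F192583 : act 0 n41797 = n41219 := d1_1 D41797 (iv D41219) (iv F188102)
theorem F192584 : act 5 n41797 = n40930 := d19_2 (iv F188103) D41797 (iv D40930)
theorem F192585 : act 8 n41797 = n40746 := d22_2 (iv F188104) D41797 (iv D40746)
def n41798 : Q := act 6 n40740
theorem D41798 : act 6 n40740 = n41798 := rfl
theorem F192586 : act 0 n41798 = n41220 := d5_1 D41798 (iv D41220) (iv F188102)
theorem F192587 : act 3 n41798 = n40741 := d26_1 D41798 (iv D40741) D40740
theorem F192588 : act 8 n41798 = n40747 := d40_2 (iv F188104) D41798 (iv D40747)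
def n41799 : Q := act 9 n40740
theorem D41799 : act 9 n40740 = n41799 := rfl
theorem F192589 : act 0 n41799 = n41221 := d8_1 D41799 (iv D41221) (iv F188102)
theorem F192590 : act 3 n41799 = n40742 := d29_1 D41799 (iv D40742) D40740
theorem F192591 : act 5 n41799 = n40932 := d38_1 D41799 (iv D40932) (iv F188103)
def n41800 : Q := act 7 n40741
theorem D41800 : act 7 n40741 = n41800 := rfl
theorem F192592 : act 0 n41800 = n41223 := d6_1 D41800 (iv D41223) (iv F188105)
theorem F192593 : act 2 n41800 = n40838 := d21_1 D41800 F188484 (iv F188106)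
theorem F192594 : act 4 n41800 = n40743 := d32_1 D41800 (iv D40743) (iv F188107)
theorem F192595 : act 8 n41800 = n40748 := d42_2 (iv F188108) D41800 (iv D40748)
def n41801 : Q := act 9 n40741
theorem D41801 : act 9 n40741 = n41801 := rfl
theorem F192596 : act 0 n41801 = n41224 := d8_1 D41801 (iv D41224) (iv F188105)
theorem F192597 : act 2 n41801 = n40848 := d23_1 D41801 (iv D40848) (iv F188106)
theorem F192598 : act 4 n41801 = n40744 := d34_1 D41801 (iv D40744) (iv F188107)
theorem F192599 : act 6 n41801 = n40742 := d41_1 D41801 (iv D40742) D40741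
def n41802 : Q := act 8 n40742
theorem D41802 : act 8 n40742 = n41802 := rfl
theorem F192600 : act 0 n41802 = n41225 := d7_1 D41802 (iv D41225) (iv F188109)
theorem F192601 : act 4 n41802 = n40745 := d33_1 D41802 (iv D40745) (iv F188110)
theorem F192602 : act 9 n41802 = n40750 := d44_2 D40742 D41802 (iv D40750) (iv D39630) (iv F183414)
def n41803 : Q := act 9 n40743
theorem D41803 : act 9 n40743 = n41803 := rfl
theorem F192603 : act 0 n41803 = n41226 := d8_1 D41803 (iv D41226) (iv F188112)
theorem F192604 : act 2 n41803 = n40840 := d23_1 D41803 (iv D40840) (iv F188113)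
theorem F192605 : act 5 n41803 = n40837 := d38_1 D41803 (iv D40837) (iv F188114)
theorem F192606 : act 7 n41803 = n40744 := d43_1 D41803 (iv D40744) D40743
def n41804 : Q := act 8 n40744
theorem D41804 : act 8 n40744 = n41804 := rfl
theorem F192607 : act 0 n41804 = n41227 := d7_1 D41804 (iv D41227) (iv F188116)
theorem F192608 : act 2 n41804 = n40849 := d22_1 D41804 (iv D40849) (iv F188117)
theorem F192609 : act 6 n41804 = n40745 := d40_1 D41804 (iv D40745) (iv F188119)
theorem F192610 : act 9 n41804 = n40752 := d44_2 D40744 D41804 (iv D40752) (iv D39632) (iv F183418)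
def n41805 : Q := act 6 n40746
theorem D41805 : act 6 n40746 = n41805 := rfl
theorem F192611 : act 0 n41805 = n41228 := d5_1 D41805 (iv D41228) (iv F188123)
theorem F192612 : act 2 n41805 = n40747 := d20_1 D41805 (iv D40747) D40746
theorem F192613 : act 3 n41805 = n40850 := d26_1 D41805 (iv F190923) F190920
theorem F192614 : act 5 n41805 = n40796 := d35_1 D41805 F188319 F183692 (iv F183448) (iv F188124)
theorem F192615 : act 9 n41805 = n40788 := d41_2 (iv F188125) D41805 (iv D40788)
def n41806 : Q := act 7 n40747
theorem D41806 : act 7 n40747 = n41806 := rfl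
theorem F192616 : act 0 n41806 = n41229 := d6_1 D41806 (iv D41229) (iv F188126)
theorem F192617 : act 3 n41806 = n40748 := d27_1 D41806 (iv D40748) (iv F188127)
theorem F192618 : act 5 n41806 = n40802 := d36_1 D41806 (iv D40802) (iv F188128)
def n41807 : Q := act 9 n40748
theorem D41807 : act 9 n40748 = n41807 := rfl
theorem F192619 : act 0 n41807 = n41230 := d8_1 D41807 (iv D41230) (iv F188129)
theorem F192620 : act 1 n41807 = n41012 := d16_1 D41807 (iv F192102) F192098
theorem F192621 : act 2 n41807 = n40842 := d23_1 D41807 (iv D40842) (iv F188130)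
theorem F192622 : act 4 n41807 = n40751 := d34_1 D41807 (iv D40751) (iv F188131)
theorem F192623 : act 5 n41807 = n40803 := d38_1 D41807 (iv D40803) (iv F188132)
theorem F192624 : act 7 n41807 = n40749 := d43_1 D41807 (iv D40749) D40748
def n41808 : Q := act 8 n40749
theorem D41808 : act 8 n40749 = n41808 := rfl
theorem F192625 : act 0 n41808 = n41231 := d7_1 D41808 (iv D41231) (iv F188133)
theorem F192626 : act 1 n41808 = n41222 := d15_1 D41808 F189567 (iv F188134)
theorem F192627 : act 2 n41808 = n40852 := d22_1 D41808 (iv D40852) (iv F188135)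
theorem F192628 : act 4 n41808 = n40752 := d33_1 D41808 (iv D40752) (iv F188136)
theorem F192629 : act 5 n41808 = n41140 := d37_1 D41808 F189393 F184897 F183746 (iv F188137)
theorem F192630 : act 6 n41808 = n40750 := d40_1 D41808 (iv D40750) (iv F188138)
def n41809 : Q := act 8 n40751
theorem D41809 : act 8 n40751 = n41809 := rfl
theorem F192631 : act 0 n41809 = n41232 := d7_1 D41809 (iv D41232) (iv F188141)
theorem F192632 : act 1 n41809 = n41010 := d15_1 D41809 F189032 (iv F188142)
theorem F192633 : act 2 n41809 = n40843 := d22_1 D41809 (iv D40843) (iv F188143)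
theorem F192634 : act 5 n41809 = n41006 := d37_1 D41809 (iv D41006) (iv D39920) (iv F183445) (iv F188144)
theorem F192635 : act 7 n41809 = n40752 := d42_1 D41809 (iv D40752) (iv F188145)
def n41810 : Q := act 3 n40753
theorem D41810 : act 3 n40753 = n41810 := rfl
theorem F192636 : act 2 n41810 = n41071 := d17_1 D41810 F189220 (iv F185927) F185928 (iv F188149)
theorem F192637 : act 5 n41810 = n40784 := d25_2 (iv F188150) D41810 (iv D40784)
theorem F192638 : act 6 n41810 = n41070 := d26_2 (iv F188151) D41810 F189216
theorem F192639 : act 9 n41810 = n41120 := d29_2 (iv F188152) D41810 F189340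
def n41811 : Q := act 8 n40753
theorem D41811 : act 8 n40753 = n41811 := rfl
theorem F192640 : act 2 n41811 = n40756 := d22_1 D41811 (iv D40756) (iv F188149)
theorem F192641 : act 4 n41811 = n40754 := d33_1 D41811 (iv D40754) D40753
theorem F192642 : act 6 n41811 = n41122 := d40_1 D41811 (iv D41122) (iv F188151)
def n41812 : Q := act 5 n40754
theorem D41812 : act 5 n40754 = n41812 := rfl
theorem F192643 : act 2 n41812 = n40757 := d19_1 D41812 (iv D40757) (iv F188153)
theorem F192644 : act 8 n41812 = n40755 := d37_2 D40754 D41812 (iv D40755) (iv D39637) D39636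
def n41813 : Q := act 9 n40754
theorem D41813 : act 9 n40754 = n41813 := rfl
theorem F192645 : act 2 n41813 = n40758 := d23_1 D41813 (iv D40758) (iv F188153)
theorem F192646 : act 6 n41813 = n41119 := d41_1 D41813 F189339 (iv F188154)
theorem F192647 : act 8 n41813 = n41118 := d44_1 D41813 (iv D41118) F184797 (iv F183453) D40754
def n41814 : Q := act 4 n40755
theorem D41814 : act 4 n40755 = n41814 := rfl
theorem F192648 : act 2 n41814 = n40759 := d18_1 D41814 (iv D40759) (iv F188155)
theorem F192649 : act 5 n41814 = n40785 := d30_2 D40755 D41814 (iv D40785) (iv D39674) (iv F183455)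
theorem F192650 : act 7 n41814 = n40850 := d32_2 F190939 D41814 (iv F190936)
def n41815 : Q := act 9 n40756
theorem D41815 : act 9 n40756 = n41815 := rfl
theorem F192651 : act 1 n41815 = n40767 := d16_1 D41815 (iv D40767) (iv F188156)
theorem F192652 : act 4 n41815 = n40758 := d34_1 D41815 (iv D40758) (iv F188157)
theorem F192653 : act 6 n41815 = n41127 := d41_1 D41815 F189356 (iv F188158)
theorem F192654 : act 8 n41815 = n41126 := d44_1 D41815 (iv D41126) F184814 (iv F183460) D40756
def n41816 : Q := act 4 n40757
theorem D41816 : act 4 n40757 = n41816 := rfl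
theorem F192655 : act 1 n41816 = n40768 := d11_1 D41816 (iv D40768) (iv F188159)
theorem F192656 : act 3 n41816 = n40838 := d24_1 D41816 (iv D40838) (iv F187234) F187235 (iv F188160)
theorem F192657 : act 7 n41816 = n40847 := d32_2 F192402 D41816 F192404
theorem F192658 : act 8 n41816 = n40759 := d33_2 (iv F188161) D41816 (iv D40759)
def n41817 : Q := act 6 n40757
theorem D41817 : act 6 n40757 = n41817 := rfl
theorem F192659 : act 1 n41817 = n40769 := d13_1 D41817 (iv D40769) (iv F188159)
theorem F192660 : act 3 n41817 = n40762 := d26_1 D41817 (iv D40762) (iv F188160)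
theorem F192661 : act 5 n41817 = n41096 := d35_1 D41817 F189285 F184742 (iv F183463) D40757
theorem F192662 : act 8 n41817 = n40760 := d40_2 (iv F188161) D41817 (iv D40760)
def n41818 : Q := act 9 n40757
theorem D41818 : act 9 n40757 = n41818 := rfl
theorem F192663 : act 1 n41818 = n40770 := d16_1 D41818 (iv D40770) (iv F188159)
theorem F192664 : act 3 n41818 = n40763 := d29_1 D41818 (iv D40763) (iv F188160)
theorem F192665 : act 5 n41818 = n40758 := d38_1 D41818 (iv D40758) D40757
def n41819 : Q := act 6 n40759
theorem D41819 : act 6 n40759 = n41819 := rfl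
theorem F192666 : act 1 n41819 = n40771 := d13_1 D41819 (iv D40771) (iv F188166)
theorem F192667 : act 3 n41819 = n40841 := d26_1 D41819 (iv D40841) (iv F188167)
theorem F192668 : act 4 n41819 = n40760 := d31_1 D41819 (iv D40760) D40759
theorem F192669 : act 5 n41819 = n41819 := d35_1 D41819 (iv D41819) F188168 F183605 (iv F188168)
def n41820 : Q := act 9 n40759
theorem D41820 : act 9 n40759 = n41820 := rfl
theorem F192670 : act 1 n41820 = n40772 := d16_1 D41820 (iv D40772) (iv F188166)
theorem F192671 : act 3 n41820 = n40842 := d29_1 D41820 (iv D40842) (iv F188167)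
theorem F192672 : act 4 n41820 = n40761 := d34_1 D41820 (iv D40761) D40759
theorem F192673 : act 5 n41820 = n40787 := d38_1 D41820 (iv D40787) (iv F188168)
theorem F192674 : act 7 n41820 = n40851 := d43_1 D41820 (iv D40851) (iv F188169)
def n41821 : Q := act 8 n40761
theorem D41821 : act 8 n40761 = n41821 := rfl
theorem F192675 : act 1 n41821 = n40774 := d15_1 D41821 (iv D40774) (iv F188173)
theorem F192676 : act 3 n41821 = n40765 := d28_1 D41821 (iv D40765) (iv F188174)
theorem F192677 : act 5 n41821 = n40826 := d37_1 D41821 (iv D40826) F183876 (iv F183470) (iv F188175)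
def n41822 : Q := act 7 n40762
theorem D41822 : act 7 n40762 = n41822 := rfl
theorem F192678 : act 0 n41822 = n41006 := d6_1 D41822 (iv F191748) F191742
theorem F192679 : act 1 n41822 = n40776 := d14_1 D41822 (iv D40776) (iv F188176)
theorem F192680 : act 2 n41822 = n40816 := d21_1 D41822 (iv F191741) F191736
theorem F192681 : act 5 n41822 = n41232 := d36_1 D41822 F189587 (iv F188177)
theorem F192682 : act 6 n41822 = n41022 := d39_1 D41822 F189059 F187904 F187902 D40762
theorem F192683 : act 8 n41822 = n40764 := d42_2 (iv F188178) D41822 (iv D40764)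
def n41823 : Q := act 9 n40762
theorem D41823 : act 9 n40762 = n41823 := rfl
theorem F192684 : act 1 n41823 = n40777 := d16_1 D41823 (iv D40777) (iv F188176)
theorem F192685 : act 5 n41823 = n41227 := d38_1 D41823 F189576 (iv F188177)
theorem F192686 : act 6 n41823 = n40763 := d41_1 D41823 (iv D40763) D40762
def n41824 : Q := act 8 n40763
theorem D41824 : act 8 n40763 = n41824 := rfl
theorem F192687 : act 1 n41824 = n40778 := d15_1 D41824 (iv D40778) (iv F188179)
theorem F192688 : act 5 n41824 = n40937 := d37_1 D41824 (iv D40937) F184181 (iv F183479) (iv F188180)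
theorem F192689 : act 9 n41824 = n40765 := d44_2 D40763 D41824 (iv D40765) (iv D39646) (iv F183476)
def n41825 : Q := act 6 n40766
theorem D41825 : act 6 n40766 = n41825 := rfl
theorem F192690 : act 0 n41825 = n41233 := d5_1 D41825 (iv D41233) (iv F188189)
theorem F192691 : act 8 n41825 = n40788 := d40_2 (iv F188190) D41825 (iv D40788)
def n41826 : Q := act 9 n40766
theorem D41826 : act 9 n40766 = n41826 := rfl
theorem F192692 : act 0 n41826 = n41234 := d8_1 D41826 (iv D41234) (iv F188189)
theorem F192693 : act 5 n41826 = n40767 := d38_1 D41826 (iv D40767) D40766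
def n41827 : Q := act 6 n40768
theorem D41827 : act 6 n40768 = n41827 := rfl
theorem F192694 : act 0 n41827 = n41235 := d5_1 D41827 (iv D41235) (iv F188193)
theorem F192695 : act 3 n41827 = n40894 := d26_1 D41827 (iv D40894) (iv F188194)
theorem F192696 : act 4 n41827 = n40769 := d31_1 D41827 (iv D40769) D40768
theorem F192697 : act 8 n41827 = n40771 := d40_2 (iv F188196) D41827 (iv D40771)
def n41828 : Q := act 9 n40768
theorem D41828 : act 9 n40768 = n41828 := rfl
theorem F192698 : act 0 n41828 = n41236 := d8_1 D41828 (iv D41236) (iv F188193)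
theorem F192699 : act 3 n41828 = n40895 := d29_1 D41828 (iv D40895) (iv F188194)
theorem F192700 : act 4 n41828 = n40770 := d34_1 D41828 (iv D40770) D40768
theorem F192701 : act 7 n41828 = n40932 := d43_1 D41828 (iv D40932) (iv F188195)
def n41829 : Q := act 7 n40769
theorem D41829 : act 7 n40769 = n41829 := rfl
theorem F192702 : act 0 n41829 = n41237 := d6_1 D41829 (iv D41237) (iv F188197)
theorem F192703 : act 3 n41829 = n40776 := d27_1 D41829 (iv D40776) (iv F188198)
theorem F192704 : act 8 n41829 = n40773 := d42_2 (iv F188199) D41829 (iv D40773)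
def n41830 : Q := act 9 n40769
theorem D41830 : act 9 n40769 = n41830 := rfl
theorem F192705 : act 0 n41830 = n41238 := d8_1 D41830 (iv D41238) (iv F188197)
theorem F192706 : act 3 n41830 = n40777 := d29_1 D41830 (iv D40777) (iv F188198)
theorem F192707 : act 6 n41830 = n40770 := d41_1 D41830 (iv D40770) D40769
def n41831 : Q := act 8 n40770
theorem D41831 : act 8 n40770 = n41831 := rfl
theorem F192708 : act 0 n41831 = n41239 := d7_1 D41831 (iv D41239) (iv F188200)
theorem F192709 : act 3 n41831 = n40778 := d28_1 D41831 (iv D40778) (iv F188201)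
theorem F192710 : act 9 n41831 = n40774 := d44_2 D40770 D41831 (iv D40774) (iv D39653) (iv F183495)
def n41832 : Q := act 7 n40771
theorem D41832 : act 7 n40771 = n41832 := rfl
theorem F192711 : act 0 n41832 = n41240 := d6_1 D41832 (iv D41240) (iv F188203)
theorem F192712 : act 3 n41832 = n40899 := d27_1 D41832 (iv D40899) (iv F188204)
theorem F192713 : act 4 n41832 = n40773 := d32_1 D41832 (iv D40773) (iv F188205)
theorem F192714 : act 5 n41832 = n41832 := d36_1 D41832 (iv D41832) F188206
theorem F192715 : act 6 n41832 = n40940 := d39_1 D41832 (iv D40940) (iv D39838) (iv F183501) D40771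
def n41833 : Q := act 8 n40772
theorem D41833 : act 8 n40772 = n41833 := rfl
theorem F192716 : act 0 n41833 = n41241 := d7_1 D41833 (iv D41241) (iv F188207)
theorem F192717 : act 3 n41833 = n40900 := d28_1 D41833 (iv D40900) (iv F188208)
theorem F192718 : act 4 n41833 = n40774 := d33_1 D41833 (iv D40774) (iv F188209)
theorem F192719 : act 7 n41833 = n40942 := d42_1 D41833 (iv D40942) (iv F188211)
def n41834 : Q := act 9 n40776
theorem D41834 : act 9 n40776 = n41834 := rfl
theorem F192720 : act 0 n41834 = n41242 := d8_1 D41834 (iv D41242) (iv F188223)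
theorem F192721 : act 2 n41834 = n40780 := d23_1 D41834 (iv D40780) (iv F188224)
theorem F192722 : act 7 n41834 = n40777 := d43_1 D41834 (iv D40777) D40776
def n41835 : Q := act 3 n40781
theorem D41835 : act 3 n40781 = n41835 := rfl
theorem F192723 : act 2 n41835 = n41129 := d17_1 D41835 F189360 F184828 (iv F183559) (iv F188236)
theorem F192724 : act 4 n41835 = n41835 := d24_2 D40781 D41835 (iv D41835) (iv D40781) F183546
theorem F192725 : act 6 n41835 = n41835 := d26_2 F188237 D41835 (iv D41835)
theorem F192726 : act 7 n41835 = n40784 := d27_2 (iv F188238) D41835 (iv D40784)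
theorem F192727 : act 9 n41835 = n41130 := d29_2 (iv F188239) D41835 F189363
def n41836 : Q := act 3 n40785
theorem D41836 : act 3 n40785 = n41836 := rfl
theorem F192728 : act 0 n41836 = n41244 := d2_1 D41836 F191611 F191604
theorem F192729 : act 2 n41836 = n40802 := d17_1 D41836 F188351 F183738 (iv F183604) (iv F188257)
theorem F192730 : act 4 n41836 = n41836 := d24_2 D40785 D41836 (iv D41836) (iv D40785) F183593
theorem F192731 : act 6 n41836 = n41836 := d26_2 F188258 D41836 (iv D41836)
theorem F192732 : act 7 n41836 = n40796 := d27_2 (iv F188259) D41836 F188317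
theorem F192733 : act 9 n40795 = n41836 := d43_0 F192732 (iv D40796) D40795
def n41837 : Q := act 9 n40785
theorem D41837 : act 9 n40785 = n41837 := rfl
theorem F192734 : act 0 n41837 = n41004 := d8_1 D41837 (iv F191610) F191604
theorem F192735 : act 1 n41837 = n40806 := d16_1 D41837 (iv F191617) F191613
theorem F192736 : act 2 n41837 = n40787 := d23_1 D41837 (iv D40787) (iv F188257)
theorem F192737 : act 3 n41837 = n40795 := d29_1 D41837 F192733 (iv D41836)
theorem F192738 : act 4 n41837 = n40786 := d34_1 D41837 (iv D40786) D40785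
theorem F192739 : act 6 n41837 = n41837 := d41_1 D41837 (iv D41837) F188258
theorem F192740 : act 7 n41837 = n40789 := d43_1 D41837 F188281 (iv F188259)
theorem F192741 : act 8 n40808 = n41837 := d42_0 F192740 F188280 (iv F188386)
def n41838 : Q := act 7 n40788
theorem D41838 : act 7 n40788 = n41838 := rfl
theorem F192742 : act 0 n41838 = n41243 := d6_1 D41838 (iv D41243) (iv F188273)
theorem F192743 : act 5 n41838 = n40795 := d36_1 D41838 (iv D40795) (iv F188274)
def n41839 : Q := act 9 n40790
theorem D41839 : act 9 n40790 = n41839 := rfl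
theorem F192744 : act 0 n41839 = n41249 := d8_1 D41839 (iv D41249) (iv F188282)
theorem F192745 : act 1 n41839 = n40797 := d16_1 D41839 (iv F190284) F190278
theorem F192746 : act 2 n41839 = n40804 := d23_1 D41839 (iv D40804) (iv F188283)
theorem F192747 : act 3 n41839 = n40792 := d29_1 D41839 (iv D40792) (iv F188284)
theorem F192748 : act 4 n41839 = n41839 := d34_1 D41839 (iv D41839) F188285
theorem F192749 : act 5 n41839 = n40805 := d38_1 D41839 F188372 (iv F188286)
theorem F192750 : act 7 n41839 = n41839 := d43_1 D41839 (iv D41839) F188287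
theorem F192751 : act 8 n41839 = n40794 := d44_1 D41839 (iv D40794) F183679 (iv F183662) D40790
def n41840 : Q := act 6 n40791
theorem D41840 : act 6 n40791 = n41840 := rfl
theorem F192752 : act 0 n41840 = n41250 := d5_1 D41840 (iv D41250) (iv F188288)
theorem F192753 : act 1 n41840 = n41245 := d13_1 D41840 F189611 (iv F188289)
theorem F192754 : act 2 n41840 = n40793 := d20_1 D41840 (iv D40793) (iv F188290)
theorem F192755 : act 3 n41840 = n40957 := d26_1 D41840 F188823 (iv F188291)
theorem F192756 : act 4 n41840 = n41840 := d31_1 D41840 (iv D41840) F188292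
theorem F192757 : act 8 n41840 = n40956 := d40_2 (iv F188294) D41840 F188819
def n41841 : Q := act 9 n40791
theorem D41841 : act 9 n40791 = n41841 := rfl
theorem F192758 : act 0 n41841 = n41248 := d8_1 D41841 (iv F189623) (iv F188288)
theorem F192759 : act 1 n41841 = n40799 := d16_1 D41841 F188338 (iv F188289)
theorem F192760 : act 2 n41841 = n40794 := d23_1 D41841 (iv D40794) (iv F188290)
theorem F192761 : act 3 n41841 = n40805 := d29_1 D41841 F188372 (iv F188291)
theorem F192762 : act 4 n41841 = n41841 := d34_1 D41841 (iv D41841) F188292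
theorem F192763 : act 5 n41841 = n40792 := d38_1 D41841 (iv D40792) D40791
theorem F192764 : act 7 n41841 = n41841 := d43_1 D41841 (iv D41841) F188293
theorem F192765 : act 8 n41841 = n40804 := d44_1 D41841 (iv D40804) F183767 (iv F184288) (iv F188294)
def n41842 : Q := act 7 n40793
theorem D41842 : act 7 n40793 = n41842 := rfl
theorem F192766 : act 0 n41842 = n41251 := d6_1 D41842 (iv D41251) (iv F188301)
theorem F192767 : act 1 n41842 = n40795 := d14_1 D41842 (iv D40795) (iv F188302)
theorem F192768 : act 3 n41842 = n40806 := d27_1 D41842 (iv D40806) (iv F188303)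
theorem F192769 : act 4 n41842 = n41842 := d32_1 D41842 (iv D41842) F188304
theorem F192770 : act 6 n41842 = n41842 := d39_1 D41842 (iv D41842) (iv D40793) F183678 D40793
theorem F192771 : act 8 n41842 = n41130 := d42_2 (iv F188305) D41842 (iv D41130)
def n41843 : Q := act 9 n40793
theorem D41843 : act 9 n40793 = n41843 := rfl
theorem F192772 : act 0 n41843 = n41252 := d8_1 D41843 (iv D41252) (iv F188301)
theorem F192773 : act 1 n41843 = n40796 := d16_1 D41843 (iv D40796) (iv F188302)
theorem F192774 : act 3 n41843 = n40807 := d29_1 D41843 (iv D40807) (iv F188303)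
theorem F192775 : act 4 n41843 = n41843 := d34_1 D41843 (iv D41843) F188304
theorem F192776 : act 6 n41843 = n40794 := d41_1 D41843 (iv D40794) D40793
def n41844 : Q := act 6 n40799
theorem D41844 : act 6 n40799 = n41844 := rfl
theorem F192777 : act 2 n41844 = n40800 := d20_1 D41844 (iv D40800) D40799
theorem F192778 : act 3 n41844 = n40908 := d26_1 D41844 F188690 (iv F188333)
theorem F192779 : act 4 n41844 = n41844 := d31_1 D41844 (iv D41844) F188334
theorem F192780 : act 8 n41844 = n40947 := d40_2 (iv F188337) D41844 (iv D40947)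
theorem F192781 : act 9 n41844 = n41245 := d41_2 (iv F188338) D41844 F189611
def n41845 : Q := act 7 n40800
theorem D41845 : act 7 n40800 = n41845 := rfl
theorem F192782 : act 1 n41845 = n40802 := d14_1 D41845 (iv D40802) (iv F188339)
theorem F192783 : act 3 n41845 = n40801 := d27_1 D41845 (iv D40801) (iv F188340)
theorem F192784 : act 4 n41845 = n41845 := d32_1 D41845 (iv D41845) F188341
theorem F192785 : act 6 n41845 = n41845 := d39_1 D41845 (iv D41845) (iv D40800) F183716 D40800
theorem F192786 : act 8 n41845 = n40948 := d42_2 (iv F188342) D41845 (iv D40948)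
theorem F192787 : act 9 n41845 = n41014 := d43_2 (iv F188343) D41845 F189042
def n41846 : Q := act 4 n40809
theorem D41846 : act 4 n40809 = n41846 := rfl
theorem F192788 : act 1 n41846 = n40811 := d11_1 D41846 (iv D40811) (iv F188387)
theorem F192789 : act 2 n41846 = n41202 := d18_1 D41846 F189526 (iv F188388)
theorem F192790 : act 3 n41846 = n41082 := d24_1 D41846 F189246 (iv F187162) F187163 (iv F188389)
theorem F192791 : act 5 n41846 = n41846 := d30_2 D40809 D41846 (iv D41846) (iv D40809) F183822
theorem F192792 : act 6 n41846 = n40995 := d31_2 (iv F188390) D41846 (iv D40995)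
theorem F192793 : act 9 n41846 = n41193 := d34_2 (iv F188391) D41846 F189504
def n41847 : Q := act 8 n40809
theorem D41847 : act 8 n40809 = n41847 := rfl
theorem F192794 : act 1 n41847 = n40812 := d15_1 D41847 (iv D40812) (iv F188387)
theorem F192795 : act 2 n41847 = n41205 := d22_1 D41847 (iv D41205) (iv F188388)
theorem F192796 : act 3 n41847 = n40810 := d28_1 D41847 (iv D40810) (iv F188389)
theorem F192797 : act 6 n41847 = n40996 := d40_1 D41847 (iv D40996) (iv F188390)
def n41848 : Q := act 9 n40810
theorem D41848 : act 9 n40810 = n41848 := rfl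
theorem F192798 : act 1 n41848 = n40814 := d16_1 D41848 (iv D40814) (iv F188392)
theorem F192799 : act 2 n41848 = n40820 := d23_1 D41848 (iv D40820) (iv F188393)
theorem F192800 : act 6 n41848 = n40998 := d41_1 D41848 (iv D40998) (iv F188394)
def n41849 : Q := act 8 n40811
theorem D41849 : act 8 n40811 = n41849 := rfl
theorem F192801 : act 2 n41849 = n40845 := d22_1 D41849 (iv D40845) (iv F188395)
theorem F192802 : act 4 n41849 = n40812 := d33_1 D41849 (iv D40812) D40811
theorem F192803 : act 6 n41849 = n40999 := d40_1 D41849 (iv D40999) (iv F188397)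
def n41850 : Q := act 9 n40812
theorem D41850 : act 9 n40812 = n41850 := rfl
theorem F192804 : act 2 n41850 = n40846 := d23_1 D41850 (iv D40846) (iv F188398)
theorem F192805 : act 3 n41850 = n40814 := d29_1 D41850 (iv D40814) (iv F188399)
theorem F192806 : act 6 n41850 = n41000 := d41_1 D41850 (iv D41000) (iv F188400)
def n41851 : Q := act 9 n40813
theorem D41851 : act 9 n40813 = n41851 := rfl
theorem F192807 : act 2 n41851 = n40815 := d23_1 D41851 (iv D40815) (iv F188401)
theorem F192808 : act 5 n41851 = n40814 := d38_1 D41851 (iv D40814) D40813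
def n41852 : Q := act 8 n40815
theorem D41852 : act 8 n40815 = n41852 := rfl
theorem F192809 : act 1 n41852 = n40825 := d15_1 D41852 (iv D40825) (iv F188405)
theorem F192810 : act 3 n41852 = n40849 := d28_1 D41852 (iv D40849) (iv F188406)
theorem F192811 : act 9 n41852 = n40816 := d44_2 D40815 D41852 (iv D40816) (iv D39721) (iv F183835)
def n41853 : Q := act 4 n40817
theorem D41853 : act 4 n40817 = n41853 := rfl
theorem F192812 : act 0 n41853 = n40850 := d3_1 D41853 (iv F190936) F190932
theorem F192813 : act 1 n41853 = n40901 := d11_1 D41853 (iv D40901) (iv F188410)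
theorem F192814 : act 2 n41853 = n40818 := d18_1 D41853 (iv D40818) (iv F188411)
theorem F192815 : act 5 n41853 = n40827 := d30_2 D40817 D41853 (iv D40827) (iv D39735) (iv F183853)
theorem F192816 : act 6 n41853 = n40978 := d31_2 (iv F188413) D41853 F188905
theorem F192817 : act 9 n41853 = n40977 := d34_2 (iv F188414) D41853 F188900
theorem F192818 : act 3 n41228 = n41853 := d29_3 F192817 F188899 (iv F189579)
def n41854 : Q := act 8 n40817
theorem D41854 : act 8 n40817 = n41854 := rfl
theorem F192819 : act 1 n41854 = n40902 := d15_1 D41854 (iv D40902) (iv F188410)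
theorem F192820 : act 2 n41854 = n40819 := d22_1 D41854 (iv D40819) (iv F188411)
theorem F192821 : act 3 n41854 = n41205 := d28_1 D41854 (iv D41205) (iv F188412)
theorem F192822 : act 6 n41854 = n40980 := d40_1 D41854 (iv D40980) (iv F188413)
def n41855 : Q := act 8 n40818
theorem D41855 : act 8 n40818 = n41855 := rfl
theorem F192823 : act 0 n41855 = n40847 := d7_1 D41855 F188509 (iv F188415)
theorem F192824 : act 1 n41855 = n40821 := d15_1 D41855 (iv D40821) (iv F188416)
theorem F192825 : act 3 n41855 = n40830 := d28_1 D41855 F188460 (iv F188417)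
theorem F192826 : act 4 n41855 = n40819 := d33_1 D41855 (iv D40819) D40818
theorem F192827 : act 6 n41855 = n41101 := d40_1 D41855 (iv D41101) (iv F188419)
def n41856 : Q := act 9 n40819
theorem D41856 : act 9 n40819 = n41856 := rfl
theorem F192828 : act 1 n41856 = n40822 := d16_1 D41856 (iv D40822) (iv F188420)
theorem F192829 : act 3 n41856 = n40820 := d29_1 D41856 (iv D40820) (iv F188421)
theorem F192830 : act 6 n41856 = n41102 := d41_1 D41856 (iv D41102) (iv F188422)
def n41857 : Q := act 5 n40821
theorem D41857 : act 5 n40821 = n41857 := rfl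
theorem F192831 : act 0 n41857 = n41139 := d4_1 D41857 (iv F189647) F189642
theorem F192832 : act 2 n41857 = n40909 := d19_1 D41857 (iv D40909) (iv F188425)
theorem F192833 : act 3 n41857 = n40927 := d25_1 D41857 (iv F189741) F189740
theorem F192834 : act 8 n41857 = n40828 := d37_2 D40821 D41857 (iv D40828) (iv D39737) (iv F183861)
def n41858 : Q := act 9 n40821
theorem D41858 : act 9 n40821 = n41858 := rfl
theorem F192835 : act 2 n41858 = n40910 := d23_1 D41858 (iv D40910) (iv F188425)
theorem F192836 : act 4 n41858 = n40822 := d34_1 D41858 (iv D40822) (iv F188426)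
theorem F192837 : act 6 n41858 = n41108 := d41_1 D41858 (iv D41108) (iv F188427)
def n41859 : Q := act 9 n40823
theorem D41859 : act 9 n40823 = n41859 := rfl
theorem F192838 : act 3 n41859 = n40936 := d29_1 D41859 (iv D40936) (iv F188431)
theorem F192839 : act 5 n41859 = n41128 := d38_1 D41859 (iv D41128) (iv F188432)
theorem F192840 : act 7 n41859 = n40824 := d43_1 D41859 (iv D40824) D40823
def n41860 : Q := act 8 n40824
theorem D41860 : act 8 n40824 = n41860 := rfl
theorem F192841 : act 3 n41860 = n40937 := d28_1 D41860 (iv D40937) (iv F188434)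
theorem F192842 : act 6 n41860 = n40825 := d40_1 D41860 (iv D40825) (iv F188436)
theorem F192843 : act 9 n41860 = n40826 := d44_2 D40824 D41860 (iv D40826) (iv D39733) (iv F183870)
def n41861 : Q := act 6 n40828
theorem D41861 : act 6 n40828 = n41861 := rfl
theorem F192844 : act 0 n41861 = n41144 := d5_1 D41861 (iv D41144) (iv F188447)
theorem F192845 : act 2 n41861 = n40960 := d20_1 D41861 (iv D40960) (iv F188448)
theorem F192846 : act 3 n41861 = n40926 := d26_1 D41861 F188735 (iv F188449)
theorem F192847 : act 5 n41861 = n40829 := d35_1 D41861 (iv D40829) (iv D39739) (iv F183893) D40828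
theorem F192848 : act 9 n41861 = n40924 := d41_2 (iv F188450) D41861 (iv D40924)
def n41862 : Q := act 7 n40829
theorem D41862 : act 7 n40829 = n41862 := rfl
theorem F192849 : act 0 n41862 = n41246 := d6_1 D41862 (iv D41246) (iv F188451)
theorem F192850 : act 2 n41862 = n40961 := d21_1 D41862 (iv D40961) (iv F188452)
theorem F192851 : act 3 n41862 = n40949 := d27_1 D41862 F188788 (iv F188453)
theorem F192852 : act 4 n41862 = n41862 := d32_1 D41862 (iv D41862) F188454
theorem F192853 : act 6 n41862 = n41862 := d39_1 D41862 (iv D41862) (iv D40829) F183906 D40829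
theorem F192854 : act 8 n41862 = n41133 := d42_2 (iv F188455) D41862 (iv D41133)
theorem F192855 : act 9 n41862 = n40948 := d43_2 (iv F188456) D41862 (iv D40948)
def n41863 : Q := act 9 n40830
theorem D41863 : act 9 n40830 = n41863 := rfl
theorem F192856 : act 0 n41863 = n40848 := d8_1 D41863 (iv D40848) (iv F188457)
theorem F192857 : act 2 n41863 = n41224 := d23_1 D41863 (iv D41224) (iv F188458)
theorem F192858 : act 4 n41863 = n40831 := d34_1 D41863 (iv D40831) D40830
theorem F192859 : act 6 n41863 = n41216 := d41_1 D41863 (iv D41216) (iv F188459)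
def n41864 : Q := act 8 n40831
theorem D41864 : act 8 n40831 = n41864 := rfl
theorem F192860 : act 0 n41864 = n40849 := d7_1 D41864 (iv D40849) (iv F188461)
theorem F192861 : act 2 n41864 = n41227 := d22_1 D41864 (iv D41227) (iv F188462)
theorem F192862 : act 6 n41864 = n41217 := d40_1 D41864 (iv D41217) (iv F188464)
theorem F192863 : act 9 n41864 = n40833 := d44_2 D40831 D41864 (iv D40833) (iv D39743) (iv F183912)
def n41865 : Q := act 8 n40832
theorem D41865 : act 8 n40832 = n41865 := rfl
theorem F192864 : act 0 n41865 = n40852 := d7_1 D41865 (iv D40852) (iv F188465)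
theorem F192865 : act 2 n41865 = n41231 := d22_1 D41865 (iv D41231) (iv F188466)
theorem F192866 : act 4 n41865 = n40833 := d33_1 D41865 (iv D40833) (iv F188467)
theorem F192867 : act 5 n41865 = n40944 := d37_1 D41865 (iv D40944) F184192 (iv F183927) (iv F188468)
theorem F192868 : act 6 n41865 = n41218 := d40_1 D41865 (iv D41218) (iv F188469)
def n41866 : Q := act 9 n40834
theorem D41866 : act 9 n40834 = n41866 := rfl
theorem F192869 : act 1 n41866 = n40837 := d16_1 D41866 (iv D40837) (iv F188473)
theorem F192870 : act 2 n41866 = n40882 := d23_1 D41866 (iv D40882) (iv F188474)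
theorem F192871 : act 4 n41866 = n41242 := d34_1 D41866 (iv D41242) (iv F188475)
theorem F192872 : act 7 n41866 = n40844 := d43_1 D41866 (iv D40844) (iv F188476)
def n41867 : Q := act 8 n40835
theorem D41867 : act 8 n40835 = n41867 := rfl
theorem F192873 : act 4 n41867 = n40836 := d33_1 D41867 (iv D40836) D40835
theorem F192874 : act 7 n41867 = n40845 := d42_1 D41867 (iv D40845) (iv F188478)
def n41868 : Q := act 9 n40836
theorem D41868 : act 9 n40836 = n41868 := rfl
theorem F192875 : act 3 n41868 = n40837 := d29_1 D41868 (iv D40837) (iv F188479)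
theorem F192876 : act 7 n41868 = n40846 := d43_1 D41868 (iv D40846) (iv F188480)
def n41869 : Q := act 6 n40838
theorem D41869 : act 6 n40838 = n41869 := rfl
theorem F192877 : act 1 n41869 = n40894 := d13_1 D41869 (iv D40894) (iv F188483)
theorem F192878 : act 4 n41869 = n40839 := d31_1 D41869 (iv D40839) D40838
theorem F192879 : act 8 n41869 = n40841 := d40_2 (iv F188485) D41869 (iv D40841)
def n41870 : Q := act 9 n40838
theorem D41870 : act 9 n40838 = n41870 := rfl
theorem F192880 : act 1 n41870 = n40895 := d16_1 D41870 (iv D40895) (iv F188483)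
theorem F192881 : act 4 n41870 = n40840 := d34_1 D41870 (iv D40840) D40838
theorem F192882 : act 7 n41870 = n40848 := d43_1 D41870 (iv D40848) (iv F188484)
def n41871 : Q := act 9 n40839
theorem D41871 : act 9 n40839 = n41871 := rfl
theorem F192883 : act 1 n41871 = n40897 := d16_1 D41871 (iv D40897) (iv F188486)
theorem F192884 : act 6 n41871 = n40840 := d41_1 D41871 (iv D40840) D40839
def n41872 : Q := act 8 n40840
theorem D41872 : act 8 n40840 = n41872 := rfl
theorem F192885 : act 1 n41872 = n40898 := d15_1 D41872 (iv D40898) (iv F188488)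
theorem F192886 : act 7 n41872 = n40849 := d42_1 D41872 (iv D40849) (iv F188490)
theorem F192887 : act 9 n41872 = n40843 := d44_2 D40840 D41872 (iv D40843) (iv D39752) (iv F183938)
def n41873 : Q := act 8 n40842
theorem D41873 : act 8 n40842 = n41873 := rfl
theorem F192888 : act 1 n41873 = n40900 := d15_1 D41873 (iv D40900) (iv F188494)
theorem F192889 : act 4 n41873 = n40843 := d33_1 D41873 (iv D40843) (iv F188495)
theorem F192890 : act 7 n41873 = n40852 := d42_1 D41873 (iv D40852) (iv F188497)
def n41874 : Q := act 5 n40845
theorem D41874 : act 5 n40845 = n41874 := rfl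
theorem F192891 : act 8 n41874 = n41874 := d37_2 D40845 D41874 (iv D41874) (iv D40845) F183957
def n41875 : Q := act 9 n40845
theorem D41875 : act 9 n40845 = n41875 := rfl
theorem F192892 : act 4 n41875 = n40846 := d34_1 D41875 (iv D40846) (iv F188504)
theorem F192893 : act 6 n41875 = n41146 := d41_1 D41875 (iv D41146) (iv F188505)
def n41876 : Q := act 2 n40847
theorem D41876 : act 2 n40847 = n41876 := rfl
theorem F192894 : act 8 n41876 = n40850 := d22_2 (iv F188509) D41876 (iv D40850)
def n41877 : Q := act 9 n40847
theorem D41877 : act 9 n40847 = n41877 := rfl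
theorem F192895 : act 1 n41877 = n40932 := d16_1 D41877 (iv D40932) (iv F188508)
theorem F192896 : act 3 n41877 = n40848 := d29_1 D41877 (iv D40848) D40847
def n41878 : Q := act 8 n40848
theorem D41878 : act 8 n40848 = n41878 := rfl
theorem F192897 : act 1 n41878 = n40935 := d15_1 D41878 (iv D40935) (iv F188510)
theorem F192898 : act 4 n41878 = n40849 := d33_1 D41878 (iv D40849) (iv F188511)
theorem F192899 : act 9 n41878 = n40852 := d44_2 D40848 D41878 (iv D40852) (iv D39761) (iv F183964)
def n41879 : Q := act 8 n40851
theorem D41879 : act 8 n40851 = n41879 := rfl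
theorem F192900 : act 1 n41879 = n40942 := d15_1 D41879 (iv D40942) (iv F188515)
theorem F192901 : act 3 n41879 = n40852 := d28_1 D41879 (iv D40852) (iv F188516)
def n41880 : Q := act 4 n40853
theorem D41880 : act 4 n40853 = n41880 := rfl
theorem F192902 : act 1 n41880 = n40855 := d11_1 D41880 (iv D40855) (iv F188520)
theorem F192903 : act 3 n41880 = n41047 := d24_1 D41880 F189145 F184603 (iv F183985) (iv F188521)
theorem F192904 : act 5 n41880 = n41880 := d30_2 D40853 D41880 (iv D41880) (iv D40853) F183981
theorem F192905 : act 6 n41880 = n40879 := d31_2 (iv F188522) D41880 (iv D40879)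
theorem F192906 : act 7 n41880 = n41046 := d32_2 (iv F188523) D41880 F189143
theorem F192907 : act 9 n41880 = n41154 := d34_2 (iv F188524) D41880 F189422
def n41881 : Q := act 8 n40853
theorem D41881 : act 8 n40853 = n41881 := rfl
theorem F192908 : act 1 n41881 = n40856 := d15_1 D41881 (iv D40856) (iv F188520)
theorem F192909 : act 3 n41881 = n40854 := d28_1 D41881 (iv D40854) (iv F188521)
theorem F192910 : act 6 n41881 = n40880 := d40_1 D41881 (iv D40880) (iv F188522)
theorem F192911 : act 7 n41881 = n41155 := d42_1 D41881 (iv D41155) (iv F188523)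
def n41882 : Q := act 9 n40854
theorem D41882 : act 9 n40854 = n41882 := rfl
theorem F192912 : act 1 n41882 = n40859 := d16_1 D41882 (iv D40859) (iv F188525)
theorem F192913 : act 4 n41882 = n41211 := d34_1 D41882 (iv D41211) (iv F188526)
theorem F192914 : act 6 n41882 = n40882 := d41_1 D41882 (iv D40882) (iv F188527)
theorem F192915 : act 7 n41882 = n41156 := d43_1 D41882 (iv D41156) (iv F188528)
def n41883 : Q := act 8 n40855
theorem D41883 : act 8 n40855 = n41883 := rfl
theorem F192916 : act 4 n41883 = n40856 := d33_1 D41883 (iv D40856) D40855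
theorem F192917 : act 6 n41883 = n40886 := d40_1 D41883 (iv D40886) (iv F188530)
theorem F192918 : act 7 n41883 = n41157 := d42_1 D41883 (iv D41157) (iv F188531)
def n41884 : Q := act 5 n40856
theorem D41884 : act 5 n40856 = n41884 := rfl
theorem F192919 : act 3 n41884 = n40858 := d25_1 D41884 (iv D40858) (iv F188532)
theorem F192920 : act 7 n41884 = n41158 := d36_2 (iv F188534) D41884 (iv D41158)
theorem F192921 : act 8 n41884 = n40857 := d37_2 D40856 D41884 (iv D40857) (iv D39768) D39767
def n41885 : Q := act 9 n40856
theorem D41885 : act 9 n40856 = n41885 := rfl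
theorem F192922 : act 3 n41885 = n40859 := d29_1 D41885 (iv D40859) (iv F188532)
theorem F192923 : act 6 n41885 = n40887 := d41_1 D41885 (iv D40887) (iv F188533)
theorem F192924 : act 7 n41885 = n41159 := d43_1 D41885 (iv D41159) (iv F188534)
def n41886 : Q := act 4 n40857
theorem D41886 : act 4 n40857 = n41886 := rfl
theorem F192925 : act 5 n41886 = n41886 := d30_2 D40857 D41886 (iv D41886) (iv D40857) F183992
theorem F192926 : act 7 n41886 = n41160 := d32_2 (iv F188536) D41886 (iv D41160)
def n41887 : Q := act 4 n40858
theorem D41887 : act 4 n40858 = n41887 := rfl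
theorem F192927 : act 2 n41887 = n40866 := d18_1 D41887 (iv D40866) (iv F188537)
theorem F192928 : act 7 n41887 = n41162 := d32_2 (iv F188538) D41887 (iv D41162)
theorem F192929 : act 8 n41887 = n40860 := d33_2 (iv F188539) D41887 (iv D40860)
def n41888 : Q := act 6 n40858
theorem D41888 : act 6 n40858 = n41888 := rfl
theorem F192930 : act 2 n41888 = n40867 := d20_1 D41888 (iv D40867) (iv F188537)
theorem F192931 : act 5 n41888 = n40889 := d35_1 D41888 (iv D40889) (iv D39794) (iv F183996) D40858
theorem F192932 : act 8 n41888 = n40861 := d40_2 (iv F188539) D41888 (iv D40861)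
def n41889 : Q := act 9 n40858
theorem D41889 : act 9 n40858 = n41889 := rfl
theorem F192933 : act 2 n41889 = n40868 := d23_1 D41889 (iv D40868) (iv F188537)
theorem F192934 : act 5 n41889 = n40859 := d38_1 D41889 (iv D40859) D40858
theorem F192935 : act 7 n41889 = n41163 := d43_1 D41889 (iv D41163) (iv F188538)
def n41890 : Q := act 3 n40860
theorem D41890 : act 3 n40860 = n41890 := rfl
theorem F192936 : act 5 n41890 = n40863 := d25_2 (iv F188544) D41890 (iv D40863)
theorem F192937 : act 7 n41890 = n41164 := d27_2 (iv F188545) D41890 (iv D41164)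
def n41891 : Q := act 6 n40860
theorem D41891 : act 6 n40860 = n41891 := rfl
theorem F192938 : act 2 n41891 = n40870 := d20_1 D41891 (iv D40870) (iv F188543)
theorem F192939 : act 4 n41891 = n40861 := d31_1 D41891 (iv D40861) D40860
theorem F192940 : act 5 n41891 = n41891 := d35_1 D41891 (iv D41891) F188544 F184009 (iv F188544)
def n41892 : Q := act 9 n40860
theorem D41892 : act 9 n40860 = n41892 := rfl
theorem F192941 : act 2 n41892 = n40871 := d23_1 D41892 (iv D40871) (iv F188543)
theorem F192942 : act 4 n41892 = n40862 := d34_1 D41892 (iv D40862) D40860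
theorem F192943 : act 5 n41892 = n40864 := d38_1 D41892 (iv D40864) (iv F188544)
theorem F192944 : act 7 n41892 = n41165 := d43_1 D41892 (iv D41165) (iv F188545)
def n41893 : Q := act 8 n40862
theorem D41893 : act 8 n40862 = n41893 := rfl
theorem F192945 : act 2 n41893 = n40873 := d22_1 D41893 (iv D40873) (iv F188548)
theorem F192946 : act 5 n41893 = n40902 := d37_1 D41893 (iv D40902) (iv D39807) (iv F184004) (iv F188549)
theorem F192947 : act 7 n41893 = n41166 := d42_1 D41893 (iv D41166) (iv F188550)
def n41894 : Q := act 2 n40863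
theorem D41894 : act 2 n40863 = n41894 := rfl
theorem F192948 : act 3 n41894 = n40874 := d17_2 D40863 D41894 (iv D40874) (iv D39781) (iv F184008)
theorem F192949 : act 4 n41894 = n41894 := d18_2 F188551 D41894 (iv D41894)
theorem F192950 : act 6 n41894 = n41894 := d20_2 F188552 D41894 (iv D41894)
theorem F192951 : act 7 n41894 = n41167 := d21_2 (iv F188553) D41894 (iv D41167)
def n41895 : Q := act 9 n40863
theorem D41895 : act 9 n40863 = n41895 := rfl
theorem F192952 : act 3 n41895 = n40864 := d29_1 D41895 (iv D40864) D40863
theorem F192953 : act 4 n41895 = n41895 := d34_1 D41895 (iv D41895) F188551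
theorem F192954 : act 6 n41895 = n41895 := d41_1 D41895 (iv D41895) F188552
theorem F192955 : act 7 n41895 = n41168 := d43_1 D41895 (iv D41168) (iv F188553)
def n41896 : Q := act 8 n40864
theorem D41896 : act 8 n40864 = n41896 := rfl
theorem F192956 : act 1 n41896 = n40874 := d15_1 D41896 (iv F190552) F190548
theorem F192957 : act 2 n41896 = n40876 := d22_1 D41896 (iv D40876) (iv F188554)
theorem F192958 : act 4 n41896 = n40865 := d33_1 D41896 (iv D40865) (iv F188555)
theorem F192959 : act 6 n41896 = n41896 := d40_1 D41896 (iv D41896) F188556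
theorem F192960 : act 7 n41896 = n41169 := d42_1 D41896 (iv D41169) (iv F188557)
def n41897 : Q := act 3 n40866
theorem D41897 : act 3 n40866 = n41897 := rfl
theorem F192961 : act 7 n41897 = n41170 := d27_2 (iv F188564) D41897 (iv D41170)
theorem F192962 : act 8 n41897 = n40869 := d28_2 (iv F188565) D41897 (iv D40869)
def n41898 : Q := act 6 n40866
theorem D41898 : act 6 n40866 = n41898 := rfl
theorem F192963 : act 4 n41898 = n40867 := d31_1 D41898 (iv D40867) D40866
theorem F192964 : act 8 n41898 = n40870 := d40_2 (iv F188565) D41898 (iv D40870)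
def n41899 : Q := act 9 n40866
theorem D41899 : act 9 n40866 = n41899 := rfl
theorem F192965 : act 4 n41899 = n40868 := d34_1 D41899 (iv D40868) D40866
theorem F192966 : act 7 n41899 = n41172 := d43_1 D41899 (iv D41172) (iv F188564)
def n41900 : Q := act 7 n40867
theorem D41900 : act 7 n40867 = n41900 := rfl
theorem F192967 : act 5 n41900 = n40896 := d36_1 D41900 (iv D40896) (iv F188566)
theorem F192968 : act 6 n41900 = n41173 := d39_1 D41900 (iv D41173) (iv D40089) (iv F184016) D40867
theorem F192969 : act 8 n41900 = n40872 := d42_2 (iv F188567) D41900 (iv D40872)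
def n41901 : Q := act 9 n40867
theorem D41901 : act 9 n40867 = n41901 := rfl
theorem F192970 : act 5 n41901 = n40897 := d38_1 D41901 (iv D40897) (iv F188566)
theorem F192971 : act 6 n41901 = n40868 := d41_1 D41901 (iv D40868) D40867
def n41902 : Q := act 8 n40868
theorem D41902 : act 8 n40868 = n41902 := rfl
theorem F192972 : act 1 n41902 = n40913 := d15_1 D41902 (iv F190813) F190809
theorem F192973 : act 3 n41902 = n40906 := d28_1 D41902 (iv F191791) F191788
theorem F192974 : act 5 n41902 = n40904 := d37_1 D41902 (iv F190424) F190421 F185924 (iv F188568)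
theorem F192975 : act 7 n41902 = n41175 := d42_1 D41902 (iv D41175) (iv F188569)
theorem F192976 : act 9 n41902 = n40873 := d44_2 D40868 D41902 (iv D40873) (iv D39779) (iv F184017)
def n41903 : Q := act 2 n40869
theorem D41903 : act 2 n40869 = n41903 := rfl
theorem F192977 : act 5 n41903 = n40874 := d19_2 (iv F188570) D41903 (iv D40874)
theorem F192978 : act 7 n41903 = n41176 := d21_2 (iv F188571) D41903 (iv D41176)
def n41904 : Q := act 6 n40869
theorem D41904 : act 6 n40869 = n41904 := rfl
theorem F192979 : act 3 n41904 = n40870 := d26_1 D41904 (iv D40870) D40869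
theorem F192980 : act 5 n41904 = n41904 := d35_1 D41904 (iv D41904) F188570 F184031 (iv F188570)
def n41905 : Q := act 9 n40869
theorem D41905 : act 9 n40869 = n41905 := rfl
theorem F192981 : act 1 n41905 = n40914 := d16_1 D41905 (iv F190819) F190815
theorem F192982 : act 3 n41905 = n40871 := d29_1 D41905 (iv D40871) D40869
theorem F192983 : act 4 n41905 = n40907 := d34_1 D41905 (iv F191797) F191794
theorem F192984 : act 5 n41905 = n40875 := d38_1 D41905 (iv D40875) (iv F188570)
theorem F192985 : act 7 n41905 = n41178 := d43_1 D41905 (iv D41178) (iv F188571)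
def n41906 : Q := act 7 n40870
theorem D41906 : act 7 n40870 = n41906 := rfl
theorem F192986 : act 4 n41906 = n40872 := d32_1 D41906 (iv D40872) (iv F188572)
theorem F192987 : act 5 n41906 = n41906 := d36_1 D41906 (iv D41906) F188573
theorem F192988 : act 6 n41906 = n41179 := d39_1 D41906 (iv D41179) (iv D40092) (iv F184021) D40870
def n41907 : Q := act 8 n40871
theorem D41907 : act 8 n40871 = n41907 := rfl
theorem F192989 : act 1 n41907 = n40911 := d15_1 D41907 F188695 (iv F188574)
theorem F192990 : act 4 n41907 = n40873 := d33_1 D41907 (iv D40873) (iv F188575)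
theorem F192991 : act 7 n41907 = n41181 := d42_1 D41907 (iv D41181) (iv F188577)
def n41908 : Q := act 9 n40874
theorem D41908 : act 9 n40874 = n41908 := rfl
theorem F192992 : act 2 n41908 = n40875 := d23_1 D41908 (iv D40875) D40874
theorem F192993 : act 4 n41908 = n40877 := d34_1 D41908 (iv D40877) (iv F188584)
theorem F192994 : act 6 n41908 = n41908 := d41_1 D41908 (iv D41908) F188585
theorem F192995 : act 7 n41908 = n41185 := d43_1 D41908 (iv D41185) (iv F188586)
theorem F192996 : act 8 n41908 = n41253 := d44_1 D41908 (iv D41253) (iv F187107) (iv F190553) F190552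
def n41909 : Q := act 5 n40876
theorem D41909 : act 5 n40876 = n41909 := rfl
theorem F192997 : act 1 n41909 = n40959 := d12_1 D41909 F188826 (iv F188592)
theorem F192998 : act 4 n41909 = n40958 := d30_1 D41909 (iv D40958) F184277 (iv F184039) (iv F188593)
theorem F192999 : act 7 n41909 = n41186 := d36_2 (iv F188595) D41909 (iv D41186)
def n41910 : Q := act 4 n40878
theorem D41910 : act 4 n40878 = n41910 := rfl
theorem F193000 : act 2 n41910 = n40879 := d18_1 D41910 (iv D40879) (iv F188602)
theorem F193001 : act 5 n41910 = n40952 := d30_2 D40878 D41910 (iv D40952) (iv D39860) (iv F184051)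
theorem F193002 : act 7 n41910 = n40901 := d32_2 (iv F188603) D41910 (iv D40901)
theorem F193003 : act 9 n41910 = n41073 := d34_2 (iv F188604) D41910 F189227
def n41911 : Q := act 8 n40878
theorem D41911 : act 8 n40878 = n41911 := rfl
theorem F193004 : act 2 n41911 = n40880 := d22_1 D41911 (iv D40880) (iv F188602)
theorem F193005 : act 5 n41911 = n41166 := d37_1 D41911 (iv D41166) F184938 (iv F184053) D40878
theorem F193006 : act 7 n41911 = n40902 := d42_1 D41911 (iv D40902) (iv F188603)
def n41912 : Q := act 8 n40879
theorem D41912 : act 8 n40879 = n41912 := rfl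
theorem F193007 : act 1 n41912 = n40886 := d15_1 D41912 (iv D40886) (iv F188605)
theorem F193008 : act 3 n41912 = n41125 := d28_1 D41912 F189352 (iv F188606)
theorem F193009 : act 4 n41912 = n40880 := d33_1 D41912 (iv D40880) D40879
theorem F193010 : act 7 n41912 = n40903 := d42_1 D41912 (iv D40903) (iv F188608)
def n41913 : Q := act 9 n40880
theorem D41913 : act 9 n40880 = n41913 := rfl
theorem F193011 : act 1 n41913 = n40887 := d16_1 D41913 (iv D40887) (iv F188610)
theorem F193012 : act 3 n41913 = n40882 := d29_1 D41913 (iv D40882) (iv F188611)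
theorem F193013 : act 5 n41913 = n41175 := d38_1 D41913 F189466 (iv F188612)
theorem F193014 : act 7 n41913 = n40904 := d43_1 D41913 (iv D40904) (iv F188613)
theorem F193015 : act 8 n41913 = n41153 := d44_1 D41913 (iv D41153) F184912 (iv F184058) D40880
def n41914 : Q := act 4 n40881
theorem D41914 : act 4 n40881 = n41914 := rfl
theorem F193016 : act 1 n41914 = n40888 := d11_1 D41914 (iv D40888) (iv F188614)
theorem F193017 : act 5 n41914 = n40933 := d30_2 D40881 D41914 F188750 F184179 (iv F184060)
theorem F193018 : act 7 n41914 = n40905 := d32_2 (iv F188616) D41914 (iv D40905)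
theorem F193019 : act 8 n41914 = n40883 := d33_2 (iv F188617) D41914 (iv D40883)
def n41915 : Q := act 6 n40881
theorem D41915 : act 6 n40881 = n41915 := rfl
theorem F193020 : act 1 n41915 = n40889 := d13_1 D41915 (iv D40889) (iv F188614)
theorem F193021 : act 3 n41915 = n41183 := d26_1 D41915 F189480 (iv F188615)
theorem F193022 : act 8 n41915 = n40884 := d40_2 (iv F188617) D41915 (iv D40884)
def n41916 : Q := act 9 n40881
theorem D41916 : act 9 n40881 = n41916 := rfl
theorem F193023 : act 1 n41916 = n40890 := d16_1 D41916 (iv D40890) (iv F188614)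
theorem F193024 : act 3 n41916 = n41175 := d29_1 D41916 F189466 (iv F188615)
theorem F193025 : act 5 n41916 = n40882 := d38_1 D41916 (iv D40882) D40881
theorem F193026 : act 7 n41916 = n40906 := d43_1 D41916 (iv D40906) (iv F188616)
theorem F193027 : act 8 n41916 = n41017 := d44_1 D41916 (iv D41017) F184509 (iv F184065) (iv F188617)
def n41917 : Q := act 3 n40883
theorem D41917 : act 3 n40883 = n41917 := rfl
theorem F193028 : act 1 n41917 = n40891 := d10_1 D41917 (iv D40891) (iv F188621)
theorem F193029 : act 4 n41917 = n41178 := d24_2 D40883 D41917 F189470 F184955 (iv F184063)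
theorem F193030 : act 5 n41917 = n40885 := d25_2 (iv F188622) D41917 (iv D40885)
theorem F193031 : act 7 n41917 = n40907 := d27_2 (iv F188623) D41917 (iv D40907)
theorem F193032 : act 9 n41917 = n41018 := d29_2 (iv F188624) D41917 (iv D41018)
def n41918 : Q := act 6 n40883
theorem D41918 : act 6 n40883 = n41918 := rfl
theorem F193033 : act 1 n41918 = n40892 := d13_1 D41918 (iv D40892) (iv F188621)
theorem F193034 : act 4 n41918 = n40884 := d31_1 D41918 (iv D40884) D40883
theorem F193035 : act 5 n41918 = n41918 := d35_1 D41918 (iv D41918) F188622 F184071 (iv F188622)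
theorem F193036 : act 9 n41918 = n41019 := d41_2 (iv F188624) D41918 (iv D41019)
def n41919 : Q := act 2 n40885
theorem D41919 : act 2 n40885 = n41919 := rfl
theorem F193037 : act 4 n41919 = n40951 := d18_2 (iv F188630) D41919 F188794
theorem F193038 : act 6 n41919 = n41919 := d20_2 F188631 D41919 (iv D41919)
theorem F193039 : act 7 n41919 = n40908 := d21_2 (iv F188632) D41919 (iv D40908)
theorem F193040 : act 8 n41919 = n40950 := d22_2 (iv F188633) D41919 F188790
theorem F193041 : act 9 n41919 = n41021 := d23_2 (iv F188634) D41919 (iv D41021)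
def n41920 : Q := act 5 n40886
theorem D41920 : act 5 n40886 = n41920 := rfl
theorem F193042 : act 7 n41920 = n40909 := d36_2 (iv F188636) D41920 (iv D40909)
theorem F193043 : act 8 n41920 = n40955 := d37_2 D40886 D41920 (iv D40955) (iv D39863) (iv F184075)
def n41921 : Q := act 9 n40886
theorem D41921 : act 9 n40886 = n41921 := rfl
theorem F193044 : act 4 n41921 = n40887 := d34_1 D41921 (iv D40887) (iv F188635)
theorem F193045 : act 7 n41921 = n40910 := d43_1 D41921 (iv D40910) (iv F188636)
def n41922 : Q := act 3 n40888
theorem D41922 : act 3 n40888 = n41922 := rfl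
theorem F193046 : act 7 n41922 = n40917 := d27_2 (iv F188640) D41922 (iv D40917)
theorem F193047 : act 8 n41922 = n40891 := d28_2 (iv F188641) D41922 (iv D40891)
def n41923 : Q := act 6 n40888
theorem D41923 : act 6 n40888 = n41923 := rfl
theorem F193048 : act 2 n41923 = n40894 := d20_1 D41923 (iv D40894) (iv F188639)
theorem F193049 : act 4 n41923 = n40889 := d31_1 D41923 (iv D40889) D40888
theorem F193050 : act 8 n41923 = n40892 := d40_2 (iv F188641) D41923 (iv D40892)
def n41924 : Q := act 9 n40888
theorem D41924 : act 9 n40888 = n41924 := rfl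
theorem F193051 : act 2 n41924 = n40895 := d23_1 D41924 (iv D40895) (iv F188639)
theorem F193052 : act 4 n41924 = n40890 := d34_1 D41924 (iv D40890) D40888
theorem F193053 : act 7 n41924 = n40919 := d43_1 D41924 (iv D40919) (iv F188640)
def n41925 : Q := act 7 n40889
theorem D41925 : act 7 n40889 = n41925 := rfl
theorem F193054 : act 2 n41925 = n40896 := d21_1 D41925 (iv D40896) (iv F188642)
theorem F193055 : act 6 n41925 = n40920 := d39_1 D41925 (iv D40920) (iv D39821) (iv F184080) D40889
theorem F193056 : act 8 n41925 = n40893 := d42_2 (iv F188643) D41925 (iv D40893)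
def n41926 : Q := act 9 n40889
theorem D41926 : act 9 n40889 = n41926 := rfl
theorem F193057 : act 2 n41926 = n40897 := d23_1 D41926 (iv D40897) (iv F188642)
theorem F193058 : act 6 n41926 = n40890 := d41_1 D41926 (iv D40890) D40889
def n41927 : Q := act 6 n40891
theorem D41927 : act 6 n40891 = n41927 := rfl
theorem F193059 : act 3 n41927 = n40892 := d26_1 D41927 (iv D40892) D40891
theorem F193060 : act 5 n41927 = n41927 := d35_1 D41927 (iv D41927) F188647 F184093 (iv F188647)
def n41928 : Q := act 7 n40892
theorem D41928 : act 7 n40892 = n41928 := rfl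
theorem F193061 : act 2 n41928 = n40899 := d21_1 D41928 (iv D40899) (iv F188649)
theorem F193062 : act 4 n41928 = n40893 := d32_1 D41928 (iv D40893) (iv F188650)
theorem F193063 : act 5 n41928 = n41928 := d36_1 D41928 (iv D41928) F188651
theorem F193064 : act 6 n41928 = n40925 := d39_1 D41928 (iv D40925) (iv D39824) (iv F184086) D40892
def n41929 : Q := act 5 n40894
theorem D41929 : act 5 n40894 = n41929 := rfl
theorem F193065 : act 8 n41929 = n41929 := d37_2 (iv F188656) D41929 (iv D41929) F188656 F184101
def n41930 : Q := act 7 n40894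
theorem D41930 : act 7 n40894 = n41930 := rfl
theorem F193066 : act 4 n41930 = n40896 := d32_1 D41930 (iv D40896) (iv F188655)
theorem F193067 : act 6 n41930 = n40933 := d39_1 D41930 (iv D40933) (iv D39832) (iv F184095) D40894
theorem F193068 : act 8 n41930 = n40899 := d42_2 (iv F188656) D41930 (iv D40899)
def n41931 : Q := act 9 n40894
theorem D41931 : act 9 n40894 = n41931 := rfl
theorem F193069 : act 4 n41931 = n40897 := d34_1 D41931 (iv D40897) (iv F188655)
theorem F193070 : act 6 n41931 = n40895 := d41_1 D41931 (iv D40895) D40894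
def n41932 : Q := act 8 n40895
theorem D41932 : act 8 n40895 = n41932 := rfl
theorem F193071 : act 4 n41932 = n40898 := d33_1 D41932 (iv D40898) (iv F188657)
theorem F193072 : act 7 n41932 = n40935 := d42_1 D41932 (iv D40935) (iv F188658)
theorem F193073 : act 9 n41932 = n40900 := d44_2 D40895 D41932 (iv D40900) (iv D39804) (iv F184096)
def n41933 : Q := act 9 n40896
theorem D41933 : act 9 n40896 = n41933 := rfl
theorem F193074 : act 6 n41933 = n40936 := d41_1 D41933 (iv D40936) (iv F188659)
theorem F193075 : act 7 n41933 = n40897 := d43_1 D41933 (iv D40897) D40896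
def n41934 : Q := act 3 n40901
theorem D41934 : act 3 n40901 = n41934 := rfl
theorem F193076 : act 1 n41934 = n41228 := d10_1 D41934 F192818 F192813
theorem F193077 : act 2 n41934 = n41120 := d17_1 D41934 F189340 F184801 (iv F184112) (iv F188669)
theorem F193078 : act 5 n41934 = n40956 := d25_2 (iv F188670) D41934 (iv D40956)
theorem F193079 : act 6 n41934 = n41072 := d26_2 (iv F188671) D41934 F189224
theorem F193080 : act 9 n41934 = n41071 := d29_2 (iv F188672) D41934 F189220
def n41935 : Q := act 8 n40901
theorem D41935 : act 8 n40901 = n41935 := rfl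
theorem F193081 : act 2 n41935 = n40903 := d22_1 D41935 (iv D40903) (iv F188669)
theorem F193082 : act 4 n41935 = n40902 := d33_1 D41935 (iv D40902) D40901
theorem F193083 : act 6 n41935 = n41074 := d40_1 D41935 (iv D41074) (iv F188671)
def n41936 : Q := act 9 n40902
theorem D41936 : act 9 n40902 = n41936 := rfl
theorem F193084 : act 2 n41936 = n40904 := d23_1 D41936 (iv D40904) (iv F188673)
theorem F193085 : act 6 n41936 = n41069 := d41_1 D41936 F189215 (iv F188674)
theorem F193086 : act 8 n41936 = n41068 := d44_1 D41936 (iv D41068) F184665 (iv F184110) D40902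
def n41937 : Q := act 5 n40903
theorem D41937 : act 5 n40903 = n41937 := rfl
theorem F193087 : act 1 n41937 = n40909 := d12_1 D41937 (iv D40909) (iv F188675)
theorem F193088 : act 3 n41937 = n41124 := d25_1 D41937 (iv D41124) (iv F188676)
theorem F193089 : act 8 n41937 = n40958 := d37_2 D40903 D41937 (iv D40958) (iv D39866) (iv F184113)
def n41938 : Q := act 9 n40903
theorem D41938 : act 9 n40903 = n41938 := rfl
theorem F193090 : act 1 n41938 = n40910 := d16_1 D41938 (iv D40910) (iv F188675)
theorem F193091 : act 3 n41938 = n41126 := d29_1 D41938 (iv D41126) (iv F188676)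
theorem F193092 : act 4 n41938 = n40904 := d34_1 D41938 (iv D40904) (iv F188677)
theorem F193093 : act 6 n41938 = n41123 := d41_1 D41938 (iv D41123) (iv F188678)
def n41939 : Q := act 3 n40905
theorem D41939 : act 3 n40905 = n41939 := rfl
theorem F193094 : act 1 n41939 = n40917 := d10_1 D41939 (iv D40917) (iv F188682)
theorem F193095 : act 5 n41939 = n40931 := d25_2 (iv F188683) D41939 F188747
theorem F193096 : act 8 n41939 = n40907 := d28_2 (iv F188684) D41939 (iv D40907)
def n41940 : Q := act 9 n40905
theorem D41940 : act 9 n40905 = n41940 := rfl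
theorem F193097 : act 1 n41940 = n40919 := d16_1 D41940 (iv D40919) (iv F188682)
theorem F193098 : act 4 n41940 = n40906 := d34_1 D41940 (iv D40906) D40905
theorem F193099 : act 5 n41940 = n40934 := d38_1 D41940 (iv D40934) (iv F188683)
def n41941 : Q := act 2 n40907
theorem D41941 : act 2 n40907 = n41941 := rfl
theorem F193100 : act 5 n41941 = n40908 := d19_2 (iv F188688) D41941 (iv D40908)
def n41942 : Q := act 4 n40909
theorem D41942 : act 4 n40909 = n41942 := rfl
theorem F193101 : act 5 n41942 = n40911 := d30_2 D40909 D41942 (iv D40911) (iv D39815) (iv F184129)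
theorem F193102 : act 8 n41942 = n40959 := d33_2 (iv F188692) D41942 (iv D40959)
def n41943 : Q := act 6 n40909
theorem D41943 : act 6 n40909 = n41943 := rfl
theorem F193103 : act 5 n41943 = n41233 := d35_1 D41943 (iv D41233) (iv D40155) (iv F184130) D40909
theorem F193104 : act 8 n41943 = n40960 := d40_2 (iv F188692) D41943 (iv D40960)
def n41944 : Q := act 9 n40909
theorem D41944 : act 9 n40909 = n41944 := rfl
theorem F193105 : act 5 n41944 = n40910 := d38_1 D41944 (iv D40910) D40909
def n41945 : Q := act 3 n40911
theorem D41945 : act 3 n40911 = n41945 := rfl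
theorem F193106 : act 4 n41945 = n40917 := d24_2 D40911 D41945 (iv D40917) (iv D39820) (iv F184131)
theorem F193107 : act 8 n41945 = n40914 := d28_2 (iv F188695) D41945 (iv D40914)
def n41946 : Q := act 6 n40911
theorem D41946 : act 6 n40911 = n41946 := rfl
theorem F193108 : act 4 n41946 = n40912 := d31_1 D41946 (iv D40912) D40911
theorem F193109 : act 8 n41946 = n40915 := d40_2 (iv F188695) D41946 (iv D40915)
def n41947 : Q := act 9 n40911
theorem D41947 : act 9 n40911 = n41947 := rfl
theorem F193110 : act 4 n41947 = n40913 := d34_1 D41947 (iv D40913) D40911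
def n41948 : Q := act 7 n40912
theorem D41948 : act 7 n40912 = n41948 := rfl
theorem F193111 : act 3 n41948 = n40920 := d27_1 D41948 (iv D40920) (iv F188696)
theorem F193112 : act 5 n41948 = n41237 := d36_1 D41948 (iv D41237) (iv F188697)
theorem F193113 : act 8 n41948 = n40916 := d42_2 (iv F188698) D41948 (iv D40916)
def n41949 : Q := act 9 n40912
theorem D41949 : act 9 n40912 = n41949 := rfl
theorem F193114 : act 3 n41949 = n40921 := d29_1 D41949 (iv D40921) (iv F188696)
theorem F193115 : act 5 n41949 = n41238 := d38_1 D41949 (iv D41238) (iv F188697)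
theorem F193116 : act 6 n41949 = n40913 := d41_1 D41949 (iv D40913) D40912
def n41950 : Q := act 6 n40914
theorem D41950 : act 6 n40914 = n41950 := rfl
theorem F193117 : act 3 n41950 = n40915 := d26_1 D41950 (iv D40915) D40914
theorem F193118 : act 4 n41950 = n40924 := d31_1 D41950 (iv D40924) (iv F188701)
theorem F193119 : act 5 n41950 = n41950 := d35_1 D41950 (iv D41950) F188702 F184282 (iv F188702)
def n41951 : Q := act 7 n40915
theorem D41951 : act 7 n40915 = n41951 := rfl
theorem F193120 : act 4 n41951 = n40916 := d32_1 D41951 (iv D40916) (iv F188703)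
theorem F193121 : act 5 n41951 = n41951 := d36_1 D41951 (iv D41951) F188704
def n41952 : Q := act 2 n40917
theorem D41952 : act 2 n40917 = n41952 := rfl
theorem F193122 : act 3 n41952 = n40930 := d17_2 D40917 D41952 (iv D40930) (iv D39831) (iv F184142)
theorem F193123 : act 8 n41952 = n40923 := d22_2 (iv F188707) D41952 (iv D40923)
def n41953 : Q := act 6 n40917
theorem D41953 : act 6 n40917 = n41953 := rfl
theorem F193124 : act 3 n41953 = n40918 := d26_1 D41953 (iv D40918) D40917
theorem F193125 : act 8 n41953 = n40924 := d40_2 (iv F188707) D41953 (iv D40924)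
def n41954 : Q := act 9 n40917
theorem D41954 : act 9 n40917 = n41954 := rfl
theorem F193126 : act 3 n41954 = n40919 := d29_1 D41954 (iv D40919) D40917
def n41955 : Q := act 7 n40918
theorem D41955 : act 7 n40918 = n41955 := rfl
theorem F193127 : act 2 n41955 = n40933 := d21_1 D41955 (iv D40933) (iv F188708)
theorem F193128 : act 4 n41955 = n40920 := d32_1 D41955 (iv D40920) (iv F188709)
theorem F193129 : act 8 n41955 = n40925 := d42_2 (iv F188710) D41955 (iv D40925)
def n41956 : Q := act 9 n40918
theorem D41956 : act 9 n40918 = n41956 := rfl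
theorem F193130 : act 2 n41956 = n40934 := d23_1 D41956 (iv D40934) (iv F188708)
theorem F193131 : act 4 n41956 = n40921 := d34_1 D41956 (iv D40921) (iv F188709)
theorem F193132 : act 6 n41956 = n40919 := d41_1 D41956 (iv D40919) D40918
def n41957 : Q := act 8 n40919
theorem D41957 : act 8 n40919 = n41957 := rfl
theorem F193133 : act 0 n41957 = n41141 := d7_1 D41957 (iv F190165) F190160
theorem F193134 : act 2 n41957 = n40935 := d22_1 D41957 (iv D40935) (iv F188711)
theorem F193135 : act 4 n41957 = n40922 := d33_1 D41957 (iv D40922) (iv F188712)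
theorem F193136 : act 9 n41957 = n40927 := d44_2 D40919 D41957 (iv D40927) (iv D39825) (iv F184143)
def n41958 : Q := act 9 n40920
theorem D41958 : act 9 n40920 = n41958 := rfl
theorem F193137 : act 2 n41958 = n40936 := d23_1 D41958 (iv D40936) (iv F188713)
theorem F193138 : act 5 n41958 = n41242 := d38_1 D41958 (iv D41242) (iv F188714)
theorem F193139 : act 7 n41958 = n40921 := d43_1 D41958 (iv D40921) D40920
def n41959 : Q := act 8 n40921
theorem D41959 : act 8 n40921 = n41959 := rfl
theorem F193140 : act 0 n41959 = n41143 := d7_1 D41959 (iv F190176) F190171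
theorem F193141 : act 2 n41959 = n40937 := d22_1 D41959 (iv D40937) (iv F188716)
theorem F193142 : act 6 n41959 = n40922 := d40_1 D41959 (iv D40922) (iv F188718)
theorem F193143 : act 9 n41959 = n40929 := d44_2 D40921 D41959 (iv D40929) (iv D39827) (iv F184146)
def n41960 : Q := act 6 n40923
theorem D41960 : act 6 n40923 = n41960 := rfl
theorem F193144 : act 2 n41960 = n40924 := d20_1 D41960 (iv D40924) D40923
theorem F193145 : act 3 n41960 = n40939 := d26_1 D41960 (iv D40939) (iv F188723)
theorem F193146 : act 5 n41960 = n40947 := d35_1 D41960 (iv D40947) F184206 (iv F184173) (iv F188724)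
theorem F193147 : act 9 n41960 = n40960 := d41_2 (iv F188725) D41960 (iv D40960)
def n41961 : Q := act 7 n40924
theorem D41961 : act 7 n40924 = n41961 := rfl
theorem F193148 : act 3 n41961 = n40925 := d27_1 D41961 (iv D40925) (iv F188726)
theorem F193149 : act 5 n41961 = n40948 := d36_1 D41961 (iv D40948) (iv F188727)
def n41962 : Q := act 9 n40925
theorem D41962 : act 9 n40925 = n41962 := rfl
theorem F193150 : act 0 n41962 = n41145 := d8_1 D41962 (iv F190194) F190189
theorem F193151 : act 2 n41962 = n40943 := d23_1 D41962 (iv D40943) (iv F188728)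
theorem F193152 : act 4 n41962 = n40928 := d34_1 D41962 (iv D40928) (iv F188729)
theorem F193153 : act 5 n41962 = n40949 := d38_1 D41962 (iv D40949) (iv F188730)
theorem F193154 : act 7 n41962 = n40926 := d43_1 D41962 (iv D40926) D40925
def n41963 : Q := act 8 n40926
theorem D41963 : act 8 n40926 = n41963 := rfl
theorem F193155 : act 0 n41963 = n41140 := d7_1 D41963 F189393 (iv F188731)
theorem F193156 : act 2 n41963 = n40944 := d22_1 D41963 (iv D40944) (iv F188732)
theorem F193157 : act 4 n41963 = n40929 := d33_1 D41963 (iv D40929) (iv F188733)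
theorem F193158 : act 5 n41963 = n41231 := d37_1 D41963 (iv D41231) F185076 (iv F184218) (iv F188734)
theorem F193159 : act 6 n41963 = n40927 := d40_1 D41963 (iv D40927) (iv F188735)
def n41964 : Q := act 8 n40928
theorem D41964 : act 8 n40928 = n41964 := rfl
theorem F193160 : act 0 n41964 = n41142 := d7_1 D41964 F189397 (iv F188739)
theorem F193161 : act 2 n41964 = n40946 := d22_1 D41964 (iv D40946) (iv F188740)
theorem F193162 : act 7 n41964 = n40929 := d42_1 D41964 (iv D40929) (iv F188742)
def n41965 : Q := act 1 n40930
theorem D41965 : act 1 n40930 = n41965 := rfl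
theorem F193163 : act 8 n41965 = n40938 := d15_2 (iv F188746) D41965 (iv D40938)
def n41966 : Q := act 6 n40930
theorem D41966 : act 6 n40930 = n41966 := rfl
theorem F193164 : act 2 n41966 = n40931 := d20_1 D41966 (iv D40931) D40930
theorem F193165 : act 8 n41966 = n40939 := d40_2 (iv F188746) D41966 (iv D40939)
def n41967 : Q := act 9 n40930
theorem D41967 : act 9 n40930 = n41967 := rfl
theorem F193166 : act 2 n41967 = n40932 := d23_1 D41967 (iv D40932) D40930
def n41968 : Q := act 7 n40931
theorem D41968 : act 7 n40931 = n41968 := rfl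
theorem F193167 : act 3 n41968 = n40933 := d27_1 D41968 (iv D40933) (iv F188747)
theorem F193168 : act 8 n41968 = n40940 := d42_2 (iv F188748) D41968 (iv D40940)
def n41969 : Q := act 9 n40931
theorem D41969 : act 9 n40931 = n41969 := rfl
theorem F193169 : act 3 n41969 = n40934 := d29_1 D41969 (iv D40934) (iv F188747)
theorem F193170 : act 6 n41969 = n40932 := d41_1 D41969 (iv D40932) D40931
def n41970 : Q := act 8 n40932
theorem D41970 : act 8 n40932 = n41970 := rfl
theorem F193171 : act 3 n41970 = n40935 := d28_1 D41970 (iv D40935) (iv F188749)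
theorem F193172 : act 9 n41970 = n40942 := d44_2 D40932 D41970 (iv D40942) (iv D39839) (iv F184175)
def n41971 : Q := act 9 n40933
theorem D41971 : act 9 n40933 = n41971 := rfl
theorem F193173 : act 4 n41971 = n40936 := d34_1 D41971 (iv D40936) (iv F188750)
theorem F193174 : act 7 n41971 = n40934 := d43_1 D41971 (iv D40934) D40933
def n41972 : Q := act 8 n40934
theorem D41972 : act 8 n40934 = n41972 := rfl
theorem F193175 : act 4 n41972 = n40937 := d33_1 D41972 (iv D40937) (iv F188752)
theorem F193176 : act 6 n41972 = n40935 := d40_1 D41972 (iv D40935) (iv F188753)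
theorem F193177 : act 9 n41972 = n40944 := d44_2 D40934 D41972 (iv D40944) (iv D39841) (iv F184177)
def n41973 : Q := act 5 n40935
theorem D41973 : act 5 n40935 = n41973 := rfl
theorem F193178 : act 9 n41973 = n40945 := d38_2 (iv F188755) D41973 (iv D40945)
def n41974 : Q := act 8 n40936
theorem D41974 : act 8 n40936 = n41974 := rfl
theorem F193179 : act 7 n41974 = n40937 := d42_1 D41974 (iv D40937) (iv F188757)
theorem F193180 : act 9 n41974 = n40946 := d44_2 D40936 D41974 (iv D40946) (iv D39843) (iv F184180)
def n41975 : Q := act 7 n40939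
theorem D41975 : act 7 n40939 = n41975 := rfl
theorem F193181 : act 2 n41975 = n40940 := d21_1 D41975 (iv D40940) (iv F188762)
theorem F193182 : act 4 n41975 = n41184 := d32_1 D41975 F191043 F191040
theorem F193183 : act 5 n41975 = n40950 := d36_1 D41975 (iv D40950) (iv F188763)
theorem F193184 : act 9 n41975 = n41214 := d43_2 F192208 D41975 (iv F192207)
def n41976 : Q := act 8 n40941
theorem D41976 : act 8 n40941 = n41976 := rfl
theorem F193185 : act 3 n41976 = n40944 := d28_1 D41976 (iv D40944) (iv F188766)
theorem F193186 : act 6 n41976 = n40942 := d40_1 D41976 (iv D40942) (iv F188768)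
def n41977 : Q := act 8 n40943
theorem D41977 : act 8 n40943 = n41977 := rfl
theorem F193187 : act 4 n41977 = n40946 := d33_1 D41977 (iv D40946) (iv F188770)
theorem F193188 : act 7 n41977 = n40944 := d42_1 D41977 (iv D40944) (iv F188772)
def n41978 : Q := act 7 n40947
theorem D41978 : act 7 n40947 = n41978 := rfl
theorem F193189 : act 2 n41978 = n40948 := d21_1 D41978 (iv D40948) (iv F188777)
theorem F193190 : act 3 n41978 = n40950 := d27_1 D41978 (iv D40950) (iv F188778)
theorem F193191 : act 4 n41978 = n41978 := d32_1 D41978 (iv D41978) F188779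
theorem F193192 : act 6 n41978 = n41978 := d39_1 D41978 (iv D41978) (iv D40947) F184207 D40947
theorem F193193 : act 9 n41978 = n40961 := d43_2 (iv F188780) D41978 (iv D40961)
def n41979 : Q := act 3 n40952
theorem D41979 : act 3 n40952 = n41979 := rfl
theorem F193194 : act 1 n41979 = n41244 := d10_1 D41979 F191611 F191605
theorem F193195 : act 2 n41979 = n41130 := d17_1 D41979 F189363 F184835 (iv F184257) (iv F188800)
theorem F193196 : act 4 n41979 = n41979 := d24_2 D40952 D41979 (iv D41979) (iv D40952) F184252
theorem F193197 : act 6 n41979 = n41979 := d26_2 F188801 D41979 (iv D41979)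
theorem F193198 : act 7 n41979 = n40956 := d27_2 (iv F188802) D41979 (iv D40956)
theorem F193199 : act 9 n41979 = n41129 := d29_2 (iv F188803) D41979 F189360
def n41980 : Q := act 8 n40952
theorem D41980 : act 8 n40952 = n41980 := rfl
theorem F193200 : act 1 n41980 = n41021 := d15_1 D41980 (iv F191609) F191605
theorem F193201 : act 2 n41980 = n40954 := d22_1 D41980 (iv D40954) (iv F188800)
theorem F193202 : act 4 n41980 = n40953 := d33_1 D41980 (iv D40953) D40952
theorem F193203 : act 6 n41980 = n41980 := d40_1 D41980 (iv D41980) F188801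
theorem F193204 : act 7 n41980 = n40957 := d42_1 D41980 (iv D40957) (iv F188802)
def n41981 : Q := act 5 n40954
theorem D41981 : act 5 n40954 = n41981 := rfl
theorem F193205 : act 1 n41981 = n40955 := d12_1 D41981 (iv D40955) (iv F188810)
theorem F193206 : act 3 n41981 = n41131 := d25_1 D41981 F189366 (iv F188811)
theorem F193207 : act 4 n41981 = n41186 := d30_1 D41981 (iv D41186) F184971 (iv F184263) (iv F188812)
theorem F193208 : act 7 n41981 = n40958 := d36_2 (iv F188814) D41981 (iv D40958)
def n41982 : Q := act 6 n40955
theorem D41982 : act 6 n40955 = n41982 := rfl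
theorem F193209 : act 5 n41982 = n41982 := d35_1 D41982 (iv D41982) (iv D40955) F184267 D40955
def n41983 : Q := act 5 n40957
theorem D41983 : act 5 n40957 = n41983 := rfl
theorem F193210 : act 2 n41983 = n40958 := d19_1 D41983 (iv D40958) (iv F188821)
def n41984 : Q := act 6 n40959
theorem D41984 : act 6 n40959 = n41984 := rfl
theorem F193211 : act 4 n41984 = n40960 := d31_1 D41984 (iv D40960) D40959
theorem F193212 : act 5 n41984 = n41984 := d35_1 D41984 (iv D41984) F188826 F184279 (iv F188826)
def n41985 : Q := act 7 n40960
theorem D41985 : act 7 n40960 = n41985 := rfl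
theorem F193213 : act 3 n41985 = n41214 := d27_1 D41985 (iv F192207) (iv F192209)
theorem F193214 : act 5 n41985 = n40961 := d36_1 D41985 (iv D40961) (iv F188827)
def n41986 : Q := act 9 n40962
theorem D41986 : act 9 n40962 = n41986 := rfl
theorem F193215 : act 1 n41986 = n40963 := d16_1 D41986 (iv D40963) (iv F188832)
def n41987 : Q := act 9 n40964
theorem D41987 : act 9 n40964 = n41987 := rfl
theorem F193216 : act 1 n41987 = n40965 := d16_1 D41987 (iv D40965) (iv F188835)
theorem F193217 : act 2 n41987 = n41026 := d23_1 D41987 (iv D41026) (iv F188836)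
theorem F193218 : act 3 n41987 = n41217 := d29_1 D41987 F189560 (iv F188837)
theorem F193219 : act 4 n41987 = n41076 := d34_1 D41987 (iv D41076) (iv F188838)
theorem F193220 : act 5 n41987 = n41239 := d38_1 D41987 F189598 (iv F188839)
theorem F193221 : act 7 n41987 = n40998 := d43_1 D41987 (iv D40998) (iv F188840)
theorem F193222 : act 8 n41987 = n41059 := d44_1 D41987 (iv D41059) (iv D39968) (iv F184304) D40964
def n41988 : Q := act 9 n40966
theorem D41988 : act 9 n40966 = n41988 := rfl
theorem F193223 : act 1 n41988 = n41042 := d16_1 D41988 (iv D41042) (iv F188845)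
theorem F193224 : act 3 n41988 = n41208 := d29_1 D41988 (iv D41208) (iv F188846)
theorem F193225 : act 4 n41988 = n40967 := d34_1 D41988 (iv D40967) D40966
theorem F193226 : act 5 n41988 = n41085 := d38_1 D41988 (iv D41085) (iv F188847)
theorem F193227 : act 7 n41988 = n41003 := d43_1 D41988 (iv D41003) (iv F188848)
def n41989 : Q := act 9 n40968
theorem D41989 : act 9 n40968 = n41989 := rfl
theorem F193228 : act 1 n41989 = n40972 := d16_1 D41989 (iv D40972) (iv F188854)
theorem F193229 : act 2 n41989 = n41059 := d23_1 D41989 (iv D41059) (iv F188855)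
theorem F193230 : act 3 n41989 = n41081 := d29_1 D41989 (iv D41081) (iv F188856)
theorem F193231 : act 4 n41989 = n40998 := d34_1 D41989 (iv D40998) (iv F188857)
theorem F193232 : act 5 n41989 = n41078 := d38_1 D41989 (iv D41078) (iv F188858)
theorem F193233 : act 7 n41989 = n41076 := d43_1 D41989 (iv D41076) (iv F188859)
theorem F193234 : act 8 n41989 = n41026 := d44_1 D41989 (iv D41026) (iv D39936) (iv F184333) D40968
def n41990 : Q := act 8 n40969
theorem D41990 : act 8 n40969 = n41990 := rfl
theorem F193235 : act 1 n41990 = n41079 := d15_1 D41990 F189240 (iv F188860)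
theorem F193236 : act 2 n41990 = n41188 := d22_1 D41990 (iv D41188) (iv F188861)
theorem F193237 : act 3 n41990 = n40999 := d28_1 D41990 (iv D40999) (iv F188862)
theorem F193238 : act 4 n41990 = n40970 := d33_1 D41990 (iv D40970) D40969
theorem F193239 : act 5 n41990 = n41241 := d37_1 D41990 (iv D41241) F185094 (iv F184696) (iv F188863)
theorem F193240 : act 7 n41990 = n41077 := d42_1 D41990 (iv D41077) (iv F188864)
def n41991 : Q := act 9 n40970
theorem D41991 : act 9 n40970 = n41991 := rfl
theorem F193241 : act 1 n41991 = n41081 := d16_1 D41991 (iv D41081) (iv F188866)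
theorem F193242 : act 2 n41991 = n41189 := d23_1 D41991 (iv D41189) (iv F188867)
theorem F193243 : act 3 n41991 = n40972 := d29_1 D41991 (iv D40972) (iv F188868)
theorem F193244 : act 5 n41991 = n41076 := d38_1 D41991 (iv D41076) (iv F188869)
theorem F193245 : act 7 n41991 = n41078 := d43_1 D41991 (iv D41078) (iv F188870)
theorem F193246 : act 8 n41991 = n41030 := d44_1 D41991 (iv D41030) (iv D39940) (iv F184338) D40970
def n41992 : Q := act 4 n40971
theorem D41992 : act 4 n40971 = n41992 := rfl
theorem F193247 : act 1 n41992 = n41077 := d11_1 D41992 F189235 (iv F188871)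
theorem F193248 : act 2 n41992 = n40974 := d18_1 D41992 (iv D40974) (iv F188872)
theorem F193249 : act 3 n41992 = n41218 := d24_1 D41992 F189562 (iv F188837) F188838 (iv F188873)
theorem F193250 : act 5 n41992 = n41001 := d30_2 D40971 D41992 (iv D41001) (iv D39912) (iv F184340)
theorem F193251 : act 7 n41992 = n41079 := d32_2 (iv F188874) D41992 (iv D41079)
theorem F193252 : act 8 n41992 = n40973 := d33_2 (iv F188875) D41992 (iv D40973)
def n41993 : Q := act 9 n40971
theorem D41993 : act 9 n40971 = n41993 := rfl
theorem F193253 : act 1 n41993 = n41078 := d16_1 D41993 (iv D41078) (iv F188871)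
theorem F193254 : act 2 n41993 = n40976 := d23_1 D41993 (iv D40976) (iv F188872)
theorem F193255 : act 3 n41993 = n41076 := d29_1 D41993 (iv D41076) (iv F188873)
theorem F193256 : act 5 n41993 = n40972 := d38_1 D41993 (iv D40972) D40971
theorem F193257 : act 7 n41993 = n41081 := d43_1 D41993 (iv D41081) (iv F188874)
theorem F193258 : act 8 n41993 = n41102 := d44_1 D41993 (iv D41102) (iv D40012) (iv F184346) (iv F188875)
def n41994 : Q := act 6 n40974
theorem D41994 : act 6 n40974 = n41994 := rfl
theorem F193259 : act 1 n41994 = n41065 := d13_1 D41994 (iv D41065) (iv F188886)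
theorem F193260 : act 3 n41994 = n41233 := d26_1 D41994 (iv D41233) F188890
theorem F193261 : act 4 n41994 = n40975 := d31_1 D41994 (iv D40975) D40974
theorem F193262 : act 8 n41994 = n40977 := d40_2 (iv F188889) D41994 (iv D40977)
def n41995 : Q := act 9 n40974
theorem D41995 : act 9 n40974 = n41995 := rfl
theorem F193263 : act 1 n41995 = n41066 := d16_1 D41995 (iv D41066) (iv F188886)
theorem F193264 : act 3 n41995 = n41234 := d29_1 D41995 (iv D41234) F188890
theorem F193265 : act 4 n41995 = n40976 := d34_1 D41995 (iv D40976) D40974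
theorem F193266 : act 5 n41995 = n41003 := d38_1 D41995 (iv D41003) (iv F188887)
theorem F193267 : act 7 n41995 = n41085 := d43_1 D41995 (iv D41085) (iv F188888)
def n41996 : Q := act 7 n40975
theorem D41996 : act 7 n40975 = n41996 := rfl
theorem F193268 : act 1 n41996 = n41067 := d14_1 D41996 (iv D41067) (iv F188891)
theorem F193269 : act 3 n41996 = n41197 := d27_1 D41996 (iv D41197) (iv F188892)
theorem F193270 : act 5 n41996 = n41147 := d36_1 D41996 (iv F190386) F190384
theorem F193271 : act 6 n41996 = n41086 := d39_1 D41996 (iv D41086) (iv D39996) (iv F184356) D40975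
theorem F193272 : act 8 n41996 = n40979 := d42_2 (iv F188893) D41996 (iv D40979)
def n41997 : Q := act 9 n40975
theorem D41997 : act 9 n40975 = n41997 := rfl
theorem F193273 : act 1 n41997 = n41068 := d16_1 D41997 (iv D41068) (iv F188891)
theorem F193274 : act 3 n41997 = n41198 := d29_1 D41997 (iv D41198) (iv F188892)
theorem F193275 : act 6 n41997 = n40976 := d41_1 D41997 (iv D40976) D40975
def n41998 : Q := act 8 n40976
theorem D41998 : act 8 n40976 = n41998 := rfl
theorem F193276 : act 1 n41998 = n41069 := d15_1 D41998 (iv D41069) (iv F188894)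
theorem F193277 : act 2 n41998 = n41102 := d22_1 D41998 (iv F193258) F193254
theorem F193278 : act 3 n41998 = n41199 := d28_1 D41998 (iv D41199) (iv F188895)
theorem F193279 : act 5 n41998 = n41045 := d37_1 D41998 (iv D41045) F184592 (iv F184362) (iv F188896)
theorem F193280 : act 7 n41998 = n41088 := d42_1 D41998 (iv D41088) (iv F188897)
theorem F193281 : act 9 n41998 = n40980 := d44_2 D40976 D41998 (iv D40980) (iv D39891) (iv F184357)
def n41999 : Q := act 7 n40977
theorem D41999 : act 7 n40977 = n41999 := rfl
theorem F193282 : act 1 n41999 = n41073 := d14_1 D41999 (iv D41073) (iv F188898)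
theorem F193283 : act 3 n41999 = n41243 := d27_1 D41999 (iv D41243) (iv F188899)
theorem F193284 : act 4 n41999 = n40979 := d32_1 D41999 (iv D40979) (iv F188900)
theorem F193285 : act 5 n41999 = n41004 := d36_1 D41999 (iv D41004) (iv F188901)
theorem F193286 : act 6 n41999 = n41092 := d39_1 D41999 (iv D41092) (iv D39999) (iv F184365) D40977
def n42000 : Q := act 8 n40978
theorem D42000 : act 8 n40978 = n42000 := rfl
theorem F193287 : act 1 n42000 = n41074 := d15_1 D42000 (iv D41074) (iv F188902)
theorem F193288 : act 2 n42000 = n41101 := d22_1 D42000 (iv D41101) (iv F188903)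
theorem F193289 : act 3 n42000 = n41219 := d28_1 D42000 F189563 (iv F188904)
theorem F193290 : act 4 n42000 = n40980 := d33_1 D42000 (iv D40980) (iv F188905)
theorem F193291 : act 7 n42000 = n41094 := d42_1 D42000 (iv D41094) (iv F188907)
def n42001 : Q := act 9 n40981
theorem D42001 : act 9 n40981 = n42001 := rfl
theorem F193292 : act 1 n42001 = n40985 := d16_1 D42001 (iv D40985) (iv F188917)
theorem F193293 : act 2 n42001 = n41076 := d23_1 D42001 (iv D41076) (iv F188918)
theorem F193294 : act 3 n42001 = n41192 := d29_1 D42001 (iv D41192) (iv F188919)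
theorem F193295 : act 4 n42001 = n41026 := d34_1 D42001 (iv D41026) (iv F188920)
theorem F193296 : act 5 n42001 = n41189 := d38_1 D42001 (iv D41189) (iv F188921)
theorem F193297 : act 7 n42001 = n41059 := d43_1 D42001 (iv D41059) (iv F188922)
theorem F193298 : act 8 n42001 = n40998 := d44_1 D42001 (iv D40998) (iv D39908) (iv F184391) D40981
def n42002 : Q := act 8 n40982
theorem D42002 : act 8 n40982 = n42002 := rfl
theorem F193299 : act 1 n42002 = n41190 := d15_1 D42002 F189497 (iv F188923)
theorem F193300 : act 2 n42002 = n41137 := d22_1 D42002 (iv D41137) (iv F188924)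
theorem F193301 : act 3 n42002 = n41028 := d28_1 D42002 (iv D41028) (iv F188925)
theorem F193302 : act 4 n42002 = n40983 := d33_1 D42002 (iv D40983) D40982
theorem F193303 : act 5 n42002 = n41203 := d37_1 D42002 (iv D41203) F185007 (iv F184846) (iv F188926)
theorem F193304 : act 7 n42002 = n41060 := d42_1 D42002 (iv D41060) (iv F188927)
def n42003 : Q := act 9 n40983
theorem D42003 : act 9 n40983 = n42003 := rfl
theorem F193305 : act 1 n42003 = n41192 := d16_1 D42003 (iv D41192) (iv F188929)
theorem F193306 : act 2 n42003 = n41138 := d23_1 D42003 (iv D41138) (iv F188930)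
theorem F193307 : act 3 n42003 = n40985 := d29_1 D42003 (iv D40985) (iv F188931)
theorem F193308 : act 5 n42003 = n41187 := d38_1 D42003 (iv D41187) (iv F188932)
theorem F193309 : act 7 n42003 = n41061 := d43_1 D42003 (iv D41061) (iv F188933)
theorem F193310 : act 8 n42003 = n41000 := d44_1 D42003 (iv D41000) (iv D39911) (iv F184396) D40983
def n42004 : Q := act 4 n40984
theorem D42004 : act 4 n40984 = n42004 := rfl
theorem F193311 : act 1 n42004 = n41188 := d11_1 D42004 F189490 (iv F188934)
theorem F193312 : act 2 n42004 = n40988 := d18_1 D42004 (iv D40988) (iv F188935)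
theorem F193313 : act 3 n42004 = n41049 := d24_1 D42004 F189151 F184609 (iv F184978) (iv F188936)
theorem F193314 : act 5 n42004 = n41031 := d30_2 D40984 D42004 (iv D41031) (iv D39942) (iv F184398)
theorem F193315 : act 7 n42004 = n41062 := d32_2 (iv F188937) D42004 (iv D41062)
theorem F193316 : act 8 n42004 = n40986 := d33_2 (iv F188938) D42004 (iv D40986)
def n42005 : Q := act 6 n40984
theorem D42005 : act 6 n40984 = n42005 := rfl
theorem F193317 : act 1 n42005 = n41149 := d13_1 D42005 F189414 (iv F188934)
theorem F193318 : act 2 n42005 = n40989 := d20_1 D42005 (iv D40989) (iv F188935)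
theorem F193319 : act 3 n42005 = n41147 := d26_1 D42005 F189409 (iv F188936)
theorem F193320 : act 5 n42005 = n41197 := d35_1 D42005 F189514 (iv F187495) F187496 D40984
theorem F193321 : act 7 n42005 = n41152 := d39_2 (iv F188937) D42005 (iv D41152) (iv F185916) F185915
theorem F193322 : act 8 n42005 = n40987 := d40_2 (iv F188938) D42005 (iv D40987)
def n42006 : Q := act 9 n40984
theorem D42006 : act 9 n40984 = n42006 := rfl
theorem F193323 : act 1 n42006 = n41189 := d16_1 D42006 (iv D41189) (iv F188934)
theorem F193324 : act 2 n42006 = n40990 := d23_1 D42006 (iv D40990) (iv F188935)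
theorem F193325 : act 3 n42006 = n41187 := d29_1 D42006 (iv D41187) (iv F188936)
theorem F193326 : act 5 n42006 = n40985 := d38_1 D42006 (iv D40985) D40984
theorem F193327 : act 7 n42006 = n41063 := d43_1 D42006 (iv D41063) (iv F188937)
theorem F193328 : act 8 n42006 = n41207 := d44_1 D42006 (iv D41207) (iv D40121) (iv F184404) (iv F188938)
def n42007 : Q := act 6 n40986
theorem D42007 : act 6 n40986 = n42007 := rfl
theorem F193329 : act 1 n42007 = n41148 := d13_1 D42007 F189411 (iv F188943)
theorem F193330 : act 2 n42007 = n40992 := d20_1 D42007 (iv D40992) (iv F188944)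
theorem F193331 : act 3 n42007 = n41048 := d26_1 D42007 F189150 (iv F188945)
theorem F193332 : act 4 n42007 = n40987 := d31_1 D42007 (iv D40987) D40986
theorem F193333 : act 5 n42007 = n42007 := d35_1 D42007 (iv D42007) F188946 F184415 (iv F188946)
theorem F193334 : act 7 n42007 = n41154 := d39_2 (iv F188947) D42007 (iv D41154) (iv F185931) F185930
theorem F193335 : act 9 n42007 = n41046 := d41_2 (iv F188948) D42007 (iv D41046)
def n42008 : Q := act 3 n40988
theorem D42008 : act 3 n40988 = n42008 := rfl
theorem F193336 : act 1 n42008 = n41083 := d10_1 D42008 (iv D41083) (iv F188955)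
theorem F193337 : act 4 n42008 = n41139 := d24_2 D40988 D42008 (iv D41139) (iv D40060) (iv F184420)
theorem F193338 : act 5 n42008 = n41040 := d25_2 (iv F188956) D42008 (iv D41040)
theorem F193339 : act 7 n42008 = n41064 := d27_2 (iv F188957) D42008 (iv D41064)
theorem F193340 : act 8 n42008 = n40991 := d28_2 (iv F188958) D42008 (iv D40991)
def n42009 : Q := act 6 n40988
theorem D42009 : act 6 n40988 = n42009 := rfl
theorem F193341 : act 1 n42009 = n41084 := d13_1 D42009 (iv D41084) (iv F188955)
theorem F193342 : act 4 n42009 = n40989 := d31_1 D42009 (iv D40989) D40988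
theorem F193343 : act 8 n42009 = n40992 := d40_2 (iv F188958) D42009 (iv D40992)
def n42010 : Q := act 9 n40988
theorem D42010 : act 9 n40988 = n42010 := rfl
theorem F193344 : act 1 n42010 = n41085 := d16_1 D42010 (iv D41085) (iv F188955)
theorem F193345 : act 4 n42010 = n40990 := d34_1 D42010 (iv D40990) D40988
theorem F193346 : act 5 n42010 = n41042 := d38_1 D42010 (iv D41042) (iv F188956)
theorem F193347 : act 7 n42010 = n41066 := d43_1 D42010 (iv D41066) (iv F188957)
def n42011 : Q := act 7 n40989
theorem D42011 : act 7 n40989 = n42011 := rfl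
theorem F193348 : act 1 n42011 = n41086 := d14_1 D42011 (iv D41086) (iv F188959)
theorem F193349 : act 2 n42011 = n41152 := d21_1 D42011 (iv F193321) F193318
theorem F193350 : act 3 n42011 = n41142 := d27_1 D42011 (iv D41142) (iv F188960)
theorem F193351 : act 5 n42011 = n41191 := d36_1 D42011 (iv F191992) F191991
theorem F193352 : act 6 n42011 = n41067 := d39_1 D42011 (iv D41067) (iv D39975) (iv F184421) D40989
theorem F193353 : act 8 n42011 = n40993 := d42_2 (iv F188961) D42011 (iv D40993)
def n42012 : Q := act 9 n40989
theorem D42012 : act 9 n40989 = n42012 := rfl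
theorem F193354 : act 1 n42012 = n41087 := d16_1 D42012 (iv D41087) (iv F188959)
theorem F193355 : act 3 n42012 = n41143 := d29_1 D42012 (iv D41143) (iv F188960)
theorem F193356 : act 6 n42012 = n40990 := d41_1 D42012 (iv D40990) D40989
def n42013 : Q := act 6 n40991
theorem D42013 : act 6 n40991 = n42013 := rfl
theorem F193357 : act 1 n42013 = n41090 := d13_1 D42013 (iv D41090) (iv F188966)
theorem F193358 : act 3 n42013 = n40992 := d26_1 D42013 (iv D40992) D40991
theorem F193359 : act 4 n42013 = n41144 := d31_1 D42013 (iv D41144) (iv F188967)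
theorem F193360 : act 5 n42013 = n42013 := d35_1 D42013 (iv D42013) F188968 F184442 (iv F188968)
def n42014 : Q := act 7 n40992
theorem D42014 : act 7 n40992 = n42014 := rfl
theorem F193361 : act 1 n42014 = n41092 := d14_1 D42014 (iv D41092) (iv F188970)
theorem F193362 : act 2 n42014 = n41154 := d21_1 D42014 (iv F193334) F193330
theorem F193363 : act 4 n42014 = n40993 := d32_1 D42014 (iv D40993) (iv F188971)
theorem F193364 : act 5 n42014 = n42014 := d36_1 D42014 (iv D42014) F188972
theorem F193365 : act 6 n42014 = n41073 := d39_1 D42014 (iv D41073) (iv D39978) (iv F184430) D40992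
def n42015 : Q := act 9 n40994
theorem D42015 : act 9 n40994 = n42015 := rfl
theorem F193366 : act 0 n42015 = n40998 := d8_1 D42015 (iv D40998) (iv F188978)
theorem F193367 : act 2 n42015 = n41100 := d23_1 D42015 (iv D41100) (iv F188979)
def n42016 : Q := act 8 n40995
theorem D42016 : act 8 n40995 = n42016 := rfl
theorem F193368 : act 1 n42016 = n40999 := d15_1 D42016 (iv D40999) (iv F188980)
theorem F193369 : act 2 n42016 = n41203 := d22_1 D42016 (iv D41203) (iv F188981)
theorem F193370 : act 3 n42016 = n41079 := d28_1 D42016 F189240 (iv F188982)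
theorem F193371 : act 4 n42016 = n40996 := d33_1 D42016 (iv D40996) D40995
theorem F193372 : act 5 n42016 = n41137 := d37_1 D42016 (iv D41137) F184882 (iv F184715) (iv F188983)
theorem F193373 : act 7 n42016 = n41218 := d42_1 D42016 (iv D41218) (iv F188984)
def n42017 : Q := act 9 n40996
theorem D42017 : act 9 n40996 = n42017 := rfl
theorem F193374 : act 1 n42017 = n41000 := d16_1 D42017 (iv D41000) (iv F188986)
theorem F193375 : act 2 n42017 = n41199 := d23_1 D42017 F189519 (iv F188987)
theorem F193376 : act 3 n42017 = n40998 := d29_1 D42017 (iv D40998) (iv F188988)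
theorem F193377 : act 5 n42017 = n41210 := d38_1 D42017 F189547 (iv F188989)
theorem F193378 : act 7 n42017 = n41217 := d43_1 D42017 F189560 (iv F188990)
theorem F193379 : act 8 n42017 = n41192 := d44_1 D42017 (iv D41192) F184987 (iv F184451) D40996
def n42018 : Q := act 9 n40997
theorem D42018 : act 9 n40997 = n42018 := rfl
theorem F193380 : act 1 n42018 = n41002 := d16_1 D42018 (iv D41002) (iv F188991)
theorem F193381 : act 2 n42018 = n41105 := d23_1 D42018 (iv D41105) (iv F188992)
theorem F193382 : act 3 n42018 = n41210 := d29_1 D42018 F189547 (iv F188993)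
theorem F193383 : act 5 n42018 = n40998 := d38_1 D42018 (iv D40998) D40997
theorem F193384 : act 7 n42018 = n41239 := d43_1 D42018 F189598 (iv F188994)
theorem F193385 : act 8 n42018 = n41209 := d44_1 D42018 (iv D41209) F185030 (iv F184458) (iv F188995)
def n42019 : Q := act 9 n40999
theorem D42019 : act 9 n40999 = n42019 := rfl
theorem F193386 : act 2 n42019 = n41146 := d23_1 D42019 (iv D41146) (iv F188998)
theorem F193387 : act 4 n42019 = n41000 := d34_1 D42019 (iv D41000) (iv F188999)
def n42020 : Q := act 9 n41001
theorem D42020 : act 9 n41001 = n42020 := rfl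
theorem F193388 : act 2 n42020 = n41003 := d23_1 D42020 (iv D41003) (iv F189003)
theorem F193389 : act 4 n42020 = n41002 := d34_1 D42020 (iv D41002) D41001
def n42021 : Q := act 4 n41005
theorem D42021 : act 4 n41005 = n42021 := rfl
theorem F193390 : act 1 n42021 = n41007 := d11_1 D42021 (iv D41007) (iv F189016)
theorem F193391 : act 2 n42021 = n41093 := d18_1 D42021 F189277 (iv F189017)
theorem F193392 : act 3 n42021 = n41193 := d24_1 D42021 F189504 (iv F187480) F187481 (iv F189018)
theorem F193393 : act 5 n42021 = n42021 := d30_2 D41005 D42021 (iv D42021) (iv D41005) F184487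
theorem F193394 : act 6 n42021 = n41023 := d31_2 (iv F189019) D42021 (iv D41023)
theorem F193395 : act 9 n42021 = n41082 := d34_2 (iv F189020) D42021 F189246
def n42022 : Q := act 8 n41005
theorem D42022 : act 8 n41005 = n42022 := rfl
theorem F193396 : act 1 n42022 = n41008 := d15_1 D42022 (iv D41008) (iv F189016)
theorem F193397 : act 2 n42022 = n41096 := d22_1 D42022 (iv D41096) (iv F189017)
theorem F193398 : act 3 n42022 = n41006 := d28_1 D42022 (iv D41006) (iv F189018)
theorem F193399 : act 6 n42022 = n41024 := d40_1 D42022 (iv D41024) (iv F189019)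
def n42023 : Q := act 9 n41006
theorem D42023 : act 9 n41006 = n42023 := rfl
theorem F193400 : act 1 n42023 = n41011 := d16_1 D42023 (iv D41011) (iv F189021)
theorem F193401 : act 6 n42023 = n41026 := d41_1 D42023 (iv D41026) (iv F189022)
def n42024 : Q := act 8 n41007
theorem D42024 : act 8 n41007 = n42024 := rfl
theorem F193402 : act 2 n42024 = n41157 := d22_1 D42024 (iv D41157) (iv F189023)
theorem F193403 : act 4 n42024 = n41008 := d33_1 D42024 (iv D41008) D41007
theorem F193404 : act 6 n42024 = n41028 := d40_1 D42024 (iv D41028) (iv F189025)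
def n42025 : Q := act 5 n41008
theorem D42025 : act 5 n41008 = n42025 := rfl
theorem F193405 : act 2 n42025 = n41158 := d19_1 D42025 (iv D41158) (iv F189026)
theorem F193406 : act 3 n42025 = n41010 := d25_1 D42025 (iv D41010) (iv F189027)
theorem F193407 : act 8 n42025 = n41009 := d37_2 D41008 D42025 (iv D41009) (iv D39922) D39921
def n42026 : Q := act 9 n41008
theorem D42026 : act 9 n41008 = n42026 := rfl
theorem F193408 : act 2 n42026 = n41159 := d23_1 D42026 (iv D41159) (iv F189026)
theorem F193409 : act 3 n42026 = n41011 := d29_1 D42026 (iv D41011) (iv F189027)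
theorem F193410 : act 6 n42026 = n41030 := d41_1 D42026 (iv D41030) (iv F189028)
def n42027 : Q := act 4 n41009
theorem D42027 : act 4 n41009 = n42027 := rfl
theorem F193411 : act 2 n42027 = n41160 := d18_1 D42027 (iv D41160) (iv F189029)
theorem F193412 : act 5 n42027 = n42027 := d30_2 D41009 D42027 (iv D42027) (iv D41009) F184496
def n42028 : Q := act 4 n41010
theorem D42028 : act 4 n41010 = n42028 := rfl
theorem F193413 : act 2 n42028 = n41015 := d18_1 D42028 (iv D41015) (iv F189031)
theorem F193414 : act 5 n42028 = n41223 := d30_2 D41010 D42028 F189568 (iv F187495) F187494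
theorem F193415 : act 7 n42028 = n41222 := d32_2 F191766 D42028 (iv F191764)
theorem F193416 : act 8 n42028 = n41012 := d33_2 (iv F189032) D42028 (iv D41012)
def n42029 : Q := act 6 n41010
theorem D42029 : act 6 n41010 = n42029 := rfl
theorem F193417 : act 2 n42029 = n41016 := d20_1 D42029 (iv D41016) (iv F189031)
theorem F193418 : act 5 n42029 = n41032 := d35_1 D42029 (iv D41032) (iv D39942) (iv F184499) D41010
theorem F193419 : act 8 n42029 = n41013 := d40_2 (iv F189032) D42029 (iv D41013)
def n42030 : Q := act 9 n41010
theorem D42030 : act 9 n41010 = n42030 := rfl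
theorem F193420 : act 2 n42030 = n41017 := d23_1 D42030 (iv D41017) (iv F189031)
theorem F193421 : act 5 n42030 = n41011 := d38_1 D42030 (iv D41011) D41010
def n42031 : Q := act 3 n41012
theorem D42031 : act 3 n41012 = n42031 := rfl
theorem F193422 : act 5 n42031 = n41014 := d25_2 (iv F189036) D42031 (iv D41014)
theorem F193423 : act 7 n42031 = n41247 := d27_2 (iv F189037) D42031 F189616
def n42032 : Q := act 6 n41012
theorem D42032 : act 6 n41012 = n42032 := rfl
theorem F193424 : act 2 n42032 = n41019 := d20_1 D42032 (iv D41019) (iv F189035)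
theorem F193425 : act 4 n42032 = n41013 := d31_1 D42032 (iv D41013) D41012
theorem F193426 : act 5 n42032 = n42032 := d35_1 D42032 (iv D42032) F189036 F184505 (iv F189036)
def n42033 : Q := act 2 n41014
theorem D42033 : act 2 n41014 = n42033 := rfl
theorem F193427 : act 3 n42033 = n41021 := d17_2 D41014 D42033 (iv D41021) (iv D39932) (iv F184504)
theorem F193428 : act 4 n42033 = n42033 := d18_2 F189040 D42033 (iv D42033)
theorem F193429 : act 6 n42033 = n42033 := d20_2 F189041 D42033 (iv D42033)
theorem F193430 : act 7 n42033 = n41245 := d21_2 (iv F189042) D42033 F189609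
theorem F193431 : act 8 n42033 = n41244 := d22_2 (iv F189043) D42033 F189605
def n42034 : Q := act 3 n41015
theorem D42034 : act 3 n41015 = n42034 := rfl
theorem F193432 : act 4 n42034 = n41170 := d24_2 D41015 D42034 (iv D41170) (iv D40088) (iv F184508)
theorem F193433 : act 8 n42034 = n41018 := d28_2 (iv F189044) D42034 (iv D41018)
def n42035 : Q := act 6 n41015
theorem D42035 : act 6 n41015 = n42035 := rfl
theorem F193434 : act 4 n42035 = n41016 := d31_1 D42035 (iv D41016) D41015
theorem F193435 : act 8 n42035 = n41019 := d40_2 (iv F189044) D42035 (iv D41019)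
def n42036 : Q := act 9 n41015
theorem D42036 : act 9 n41015 = n42036 := rfl
theorem F193436 : act 4 n42036 = n41017 := d34_1 D42036 (iv D41017) D41015
def n42037 : Q := act 7 n41016
theorem D42037 : act 7 n41016 = n42037 := rfl
theorem F193437 : act 3 n42037 = n41173 := d27_1 D42037 (iv D41173) (iv F189045)
theorem F193438 : act 5 n42037 = n41043 := d36_1 D42037 (iv D41043) (iv F189046)
theorem F193439 : act 8 n42037 = n41020 := d42_2 (iv F189047) D42037 (iv D41020)
def n42038 : Q := act 9 n41016
theorem D42038 : act 9 n41016 = n42038 := rfl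
theorem F193440 : act 3 n42038 = n41174 := d29_1 D42038 (iv D41174) (iv F189045)
theorem F193441 : act 5 n42038 = n41044 := d38_1 D42038 (iv D41044) (iv F189046)
theorem F193442 : act 6 n42038 = n41017 := d41_1 D42038 (iv D41017) D41016
def n42039 : Q := act 2 n41018
theorem D42039 : act 2 n41018 = n42039 := rfl
theorem F193443 : act 4 n42039 = n41176 := d18_2 (iv F189050) D42039 (iv D41176)
theorem F193444 : act 5 n42039 = n41021 := d19_2 (iv F189051) D42039 (iv D41021)
def n42040 : Q := act 6 n41018
theorem D42040 : act 6 n41018 = n42040 := rfl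
theorem F193445 : act 3 n42040 = n41019 := d26_1 D42040 (iv D41019) D41018
theorem F193446 : act 4 n42040 = n41177 := d31_1 D42040 (iv D41177) (iv F189050)
theorem F193447 : act 5 n42040 = n42040 := d35_1 D42040 (iv D42040) F189051 F184520 (iv F189051)
def n42041 : Q := act 7 n41019
theorem D42041 : act 7 n41019 = n42041 := rfl
theorem F193448 : act 4 n42041 = n41020 := d32_1 D42041 (iv D41020) (iv F189052)
theorem F193449 : act 5 n42041 = n42041 := d36_1 D42041 (iv D42041) F189053
def n42042 : Q := act 9 n41022
theorem D42042 : act 9 n41022 = n42042 := rfl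
theorem F193450 : act 0 n42042 = n41026 := d8_1 D42042 (iv D41026) (iv F189058)
theorem F193451 : act 7 n42042 = n41100 := d43_1 D42042 (iv D41100) (iv F189059)
def n42043 : Q := act 8 n41023
theorem D42043 : act 8 n41023 = n42043 := rfl
theorem F193452 : act 1 n42043 = n41028 := d15_1 D42043 (iv D41028) (iv F189060)
theorem F193453 : act 2 n42043 = n41094 := d22_1 D42043 (iv D41094) (iv F189061)
theorem F193454 : act 3 n42043 = n41190 := d28_1 D42043 F189497 (iv F189062)
theorem F193455 : act 4 n42043 = n41024 := d33_1 D42043 (iv D41024) D41023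
theorem F193456 : act 7 n42043 = n41101 := d42_1 D42043 (iv D41101) (iv F189064)
def n42044 : Q := act 9 n41024
theorem D42044 : act 9 n41024 = n42044 := rfl
theorem F193457 : act 1 n42044 = n41030 := d16_1 D42044 (iv D41030) (iv F189066)
theorem F193458 : act 2 n42044 = n41088 := d23_1 D42044 F189261 (iv F189067)
theorem F193459 : act 3 n42044 = n41026 := d29_1 D42044 (iv D41026) (iv F189068)
theorem F193460 : act 5 n42044 = n41119 := d38_1 D42044 F189339 (iv F189069)
theorem F193461 : act 7 n42044 = n41102 := d43_1 D42044 (iv D41102) (iv F189070)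
theorem F193462 : act 8 n42044 = n41081 := d44_1 D42044 (iv D41081) F184704 (iv F184530) D41024
def n42045 : Q := act 4 n41025
theorem D42045 : act 4 n41025 = n42045 := rfl
theorem F193463 : act 1 n42045 = n41031 := d11_1 D42045 (iv D41031) (iv F189071)
theorem F193464 : act 2 n42045 = n41241 := d18_1 D42045 F189601 (iv F189072)
theorem F193465 : act 5 n42045 = n41188 := d30_2 D41025 D42045 F189490 (iv F188921) F188920
theorem F193466 : act 7 n42045 = n41103 := d32_2 (iv F189074) D42045 (iv D41103)
theorem F193467 : act 8 n42045 = n41027 := d33_2 (iv F189075) D42045 (iv D41027)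
def n42046 : Q := act 9 n41025
theorem D42046 : act 9 n41025 = n42046 := rfl
theorem F193468 : act 1 n42046 = n41033 := d16_1 D42046 (iv D41033) (iv F189071)
theorem F193469 : act 2 n42046 = n41239 := d23_1 D42046 F189598 (iv F189072)
theorem F193470 : act 3 n42046 = n41119 := d29_1 D42046 F189339 (iv F189073)
theorem F193471 : act 5 n42046 = n41026 := d38_1 D42046 (iv D41026) D41025
theorem F193472 : act 7 n42046 = n41105 := d43_1 D42046 (iv D41105) (iv F189074)
theorem F193473 : act 8 n42046 = n41111 := d44_1 D42046 (iv D41111) F184782 (iv F184537) (iv F189075)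
def n42047 : Q := act 5 n41028
theorem D42047 : act 5 n41028 = n42047 := rfl
theorem F193474 : act 2 n42047 = n41083 := d19_1 D42047 F189249 (iv F189083)
theorem F193475 : act 3 n42047 = n41203 := d25_1 D42047 (iv F193303) F193301
theorem F193476 : act 4 n42047 = n41219 := d30_1 D42047 (iv F190198) F190197 (iv D41029) (iv F189084)
theorem F193477 : act 7 n42047 = n41107 := d36_2 (iv F189085) D42047 (iv D41107)
theorem F193478 : act 8 n42047 = n41089 := d37_2 D41028 D42047 F189264 F184751 (iv F184545)
def n42048 : Q := act 9 n41028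
theorem D42048 : act 9 n41028 = n42048 := rfl
theorem F193479 : act 2 n42048 = n41208 := d23_1 D42048 (iv D41208) (iv F189083)
theorem F193480 : act 4 n42048 = n41030 := d34_1 D42048 (iv D41030) (iv F189084)
theorem F193481 : act 7 n42048 = n41108 := d43_1 D42048 (iv D41108) (iv F189085)
def n42049 : Q := act 9 n41029
theorem D42049 : act 9 n41029 = n42049 := rfl
theorem F193482 : act 1 n42049 = n41119 := d16_1 D42049 F189339 (iv F189086)
theorem F193483 : act 2 n42049 = n41209 := d23_1 D42049 (iv D41209) (iv F189087)
theorem F193484 : act 3 n42049 = n41033 := d29_1 D42049 (iv D41033) (iv F189088)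
theorem F193485 : act 5 n42049 = n41030 := d38_1 D42049 (iv D41030) D41029
theorem F193486 : act 7 n42049 = n41111 := d43_1 D42049 (iv D41111) (iv F189089)
theorem F193487 : act 8 n42049 = n41105 := d44_1 D42049 (iv D41105) F184772 (iv F184554) (iv F189090)
def n42050 : Q := act 3 n41031
theorem D42050 : act 3 n41031 = n42050 := rfl
theorem F193488 : act 5 n42050 = n41049 := d25_2 F193314 D42050 (iv F193313)
theorem F193489 : act 7 n42050 = n41114 := d27_2 (iv F189095) D42050 (iv D41114)
theorem F193490 : act 8 n42050 = n41034 := d28_2 (iv F189096) D42050 (iv D41034)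
def n42051 : Q := act 6 n41031
theorem D42051 : act 6 n41031 = n42051 := rfl
theorem F193491 : act 2 n42051 = n41041 := d20_1 D42051 (iv D41041) (iv F189094)
theorem F193492 : act 4 n42051 = n41032 := d31_1 D42051 (iv D41032) D41031
theorem F193493 : act 8 n42051 = n41035 := d40_2 (iv F189096) D42051 (iv D41035)
def n42052 : Q := act 9 n41031
theorem D42052 : act 9 n41031 = n42052 := rfl
theorem F193494 : act 2 n42052 = n41042 := d23_1 D42052 (iv D41042) (iv F189094)
theorem F193495 : act 4 n42052 = n41033 := d34_1 D42052 (iv D41033) D41031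
theorem F193496 : act 7 n42052 = n41116 := d43_1 D42052 (iv D41116) (iv F189095)
def n42053 : Q := act 7 n41032
theorem D42053 : act 7 n41032 = n42053 := rfl
theorem F193497 : act 2 n42053 = n41043 := d21_1 D42053 (iv D41043) (iv F189097)
theorem F193498 : act 6 n42053 = n41117 := d39_1 D42053 (iv D41117) (iv D40024) (iv F184556) D41032
theorem F193499 : act 8 n42053 = n41037 := d42_2 (iv F189098) D42053 (iv D41037)
def n42054 : Q := act 9 n41032
theorem D42054 : act 9 n41032 = n42054 := rfl
theorem F193500 : act 2 n42054 = n41044 := d23_1 D42054 (iv D41044) (iv F189097)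
theorem F193501 : act 6 n42054 = n41033 := d41_1 D42054 (iv D41033) D41032
def n42055 : Q := act 8 n41033
theorem D42055 : act 8 n41033 = n42055 := rfl
theorem F193502 : act 1 n42055 = n41111 := d15_1 D42055 (iv F193473) F193468
theorem F193503 : act 2 n42055 = n41045 := d22_1 D42055 (iv D41045) (iv F189099)
theorem F193504 : act 3 n42055 = n41105 := d28_1 D42055 (iv F193487) F193484
theorem F193505 : act 5 n42055 = n41102 := d37_1 D42055 (iv F193258) F193256 F188879 (iv F189100)
theorem F193506 : act 7 n42055 = n41119 := d42_1 D42055 (iv D41119) (iv F189101)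
theorem F193507 : act 9 n42055 = n41039 := d44_2 D41033 D42055 (iv D41039) (iv D39946) (iv F184557)
def n42056 : Q := act 6 n41034
theorem D42056 : act 6 n41034 = n42056 := rfl
theorem F193508 : act 3 n42056 = n41035 := d26_1 D42056 (iv D41035) D41034
theorem F193509 : act 5 n42056 = n42056 := d35_1 D42056 (iv D42056) F189102 F184579 (iv F189102)
def n42057 : Q := act 7 n41035
theorem D42057 : act 7 n41035 = n42057 := rfl
theorem F193510 : act 2 n42057 = n41047 := d21_1 D42057 (iv D41047) (iv F189104)
theorem F193511 : act 4 n42057 = n41037 := d32_1 D42057 (iv D41037) (iv F189105)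
theorem F193512 : act 5 n42057 = n42057 := d36_1 D42057 (iv D42057) F189106
theorem F193513 : act 6 n42057 = n41121 := d39_1 D42057 (iv D41121) (iv D40027) (iv F184562) D41035
def n42058 : Q := act 9 n41035
theorem D42058 : act 9 n41035 = n42058 := rfl
theorem F193514 : act 1 n42058 = n41112 := d16_1 D42058 (iv F192126) F192122
theorem F193515 : act 2 n42058 = n41048 := d23_1 D42058 (iv D41048) (iv F189104)
theorem F193516 : act 4 n42058 = n41038 := d34_1 D42058 (iv D41038) (iv F189105)
theorem F193517 : act 5 n42058 = n42058 := d38_1 D42058 (iv D42058) F189106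
theorem F193518 : act 6 n42058 = n41036 := d41_1 D42058 (iv D41036) D41035
def n42059 : Q := act 8 n41036
theorem D42059 : act 8 n41036 = n42059 := rfl
theorem F193519 : act 1 n42059 = n41109 := d15_1 D42059 F189314 (iv F189107)
theorem F193520 : act 2 n42059 = n41049 := d22_1 D42059 (iv D41049) (iv F189108)
theorem F193521 : act 4 n42059 = n41039 := d33_1 D42059 (iv D41039) (iv F189109)
theorem F193522 : act 7 n42059 = n41122 := d42_1 D42059 (iv D41122) (iv F189111)
def n42060 : Q := act 8 n41038
theorem D42060 : act 8 n41038 = n42060 := rfl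
theorem F193523 : act 1 n42060 = n41110 := d15_1 D42060 F189317 (iv F189115)
theorem F193524 : act 2 n42060 = n41050 := d22_1 D42060 (iv D41050) (iv F189116)
theorem F193525 : act 3 n42060 = n41104 := d28_1 D42060 F189302 (iv F189117)
theorem F193526 : act 6 n42060 = n41039 := d40_1 D42060 (iv D41039) (iv F189119)
def n42061 : Q := act 6 n41040
theorem D42061 : act 6 n41040 = n42061 := rfl
theorem F193527 : act 1 n42061 = n41157 := d13_1 D42061 F189431 (iv F189125)
theorem F193528 : act 3 n42061 = n41041 := d26_1 D42061 (iv D41041) D41040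
theorem F193529 : act 4 n42061 = n41155 := d31_1 D42061 F189426 (iv F189126)
theorem F193530 : act 8 n42061 = n41046 := d40_2 (iv F189128) D42061 (iv D41046)
def n42062 : Q := act 9 n41040
theorem D42062 : act 9 n41040 = n42062 := rfl
theorem F193531 : act 1 n42062 = n41208 := d16_1 D42062 (iv D41208) (iv F189125)
theorem F193532 : act 3 n42062 = n41042 := d29_1 D42062 (iv D41042) D41040
theorem F193533 : act 4 n42062 = n41207 := d34_1 D42062 (iv D41207) (iv F189126)
theorem F193534 : act 7 n42062 = n41123 := d43_1 D42062 (iv D41123) (iv F189127)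
def n42063 : Q := act 5 n41041
theorem D42063 : act 5 n41041 = n42063 := rfl
theorem F193535 : act 8 n42063 = n42063 := d37_2 (iv F189130) D42063 (iv D42063) F189130 F184599
def n42064 : Q := act 7 n41041
theorem D42064 : act 7 n41041 = n42064 := rfl
theorem F193536 : act 4 n42064 = n41043 := d32_1 D42064 (iv D41043) (iv F189129)
theorem F193537 : act 6 n42064 = n41125 := d39_1 D42064 (iv D41125) (iv D40032) (iv F184587) D41041
theorem F193538 : act 8 n42064 = n41047 := d42_2 (iv F189130) D42064 (iv D41047)
def n42065 : Q := act 9 n41041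
theorem D42065 : act 9 n41041 = n42065 := rfl
theorem F193539 : act 4 n42065 = n41044 := d34_1 D42065 (iv D41044) (iv F189129)
theorem F193540 : act 6 n42065 = n41042 := d41_1 D42065 (iv D41042) D41041
def n42066 : Q := act 8 n41042
theorem D42066 : act 8 n41042 = n42066 := rfl
theorem F193541 : act 4 n42066 = n41045 := d33_1 D42066 (iv D41045) (iv F189131)
theorem F193542 : act 7 n42066 = n41127 := d42_1 D42066 (iv D41127) (iv F189132)
theorem F193543 : act 9 n42066 = n41049 := d44_2 D41042 D42066 (iv D41049) (iv D39956) (iv F184588)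
def n42067 : Q := act 9 n41043
theorem D42067 : act 9 n41043 = n42067 := rfl
theorem F193544 : act 3 n42067 = n41211 := d29_1 D42067 (iv D41211) (iv F189133)
theorem F193545 : act 6 n42067 = n41128 := d41_1 D42067 (iv D41128) (iv F189134)
theorem F193546 : act 7 n42067 = n41044 := d43_1 D42067 (iv D41044) D41043
def n42068 : Q := act 8 n41044
theorem D42068 : act 8 n41044 = n42068 := rfl
theorem F193547 : act 3 n42068 = n41212 := d28_1 D42068 (iv D41212) (iv F189136)
theorem F193548 : act 6 n42068 = n41045 := d40_1 D42068 (iv D41045) (iv F189137)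
theorem F193549 : act 9 n42068 = n41050 := d44_2 D41044 D42068 (iv D41050) (iv D39958) (iv F184590)
def n42069 : Q := act 8 n41048
theorem D42069 : act 8 n41048 = n42069 := rfl
theorem F193550 : act 4 n42069 = n41050 := d33_1 D42069 (iv D41050) (iv F189148)
theorem F193551 : act 6 n42069 = n41049 := d40_1 D42069 (iv D41049) (iv F189150)
def n42070 : Q := act 5 n41050
theorem D42070 : act 5 n41050 = n42070 := rfl
theorem F193552 : act 3 n42070 = n41213 := d25_1 D42070 (iv D41213) (iv F189153)
theorem F193553 : act 8 n42070 = n41051 := d37_2 D41050 D42070 (iv D41051) (iv D39960) (iv F184607)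
def n42071 : Q := act 4 n41051
theorem D42071 : act 4 n41051 = n42071 := rfl
theorem F193554 : act 5 n42071 = n42071 := d30_2 D41051 D42071 (iv D42071) (iv D41051) F184612
def n42072 : Q := act 3 n41053
theorem D42072 : act 3 n41053 = n42072 := rfl
theorem F193555 : act 1 n42072 = n41194 := d10_1 D42072 (iv D41194) (iv F189160)
theorem F193556 : act 4 n42072 = n41064 := d24_2 D41053 D42072 (iv D41064) (iv D39974) (iv F184618)
theorem F193557 : act 5 n42072 = n41134 := d25_2 (iv F189161) D42072 F189377
theorem F193558 : act 7 n42072 = n41139 := d27_2 (iv F189162) D42072 (iv D41139)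
theorem F193559 : act 8 n42072 = n41056 := d28_2 (iv F189163) D42072 (iv D41056)
def n42073 : Q := act 6 n41053
theorem D42073 : act 6 n41053 = n42073 := rfl
theorem F193560 : act 1 n42073 = n41195 := d13_1 D42073 (iv D41195) (iv F189160)
theorem F193561 : act 4 n42073 = n41054 := d31_1 D42073 (iv D41054) D41053
theorem F193562 : act 8 n42073 = n41057 := d40_2 (iv F189163) D42073 (iv D41057)
def n42074 : Q := act 9 n41053
theorem D42074 : act 9 n41053 = n42074 := rfl
theorem F193563 : act 1 n42074 = n41196 := d16_1 D42074 (iv D41196) (iv F189160)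
theorem F193564 : act 4 n42074 = n41055 := d34_1 D42074 (iv D41055) D41053
theorem F193565 : act 5 n42074 = n41146 := d38_1 D42074 (iv D41146) (iv F189161)
theorem F193566 : act 7 n42074 = n41141 := d43_1 D42074 (iv D41141) (iv F189162)
def n42075 : Q := act 7 n41054
theorem D42075 : act 7 n41054 = n42075 := rfl
theorem F193567 : act 1 n42075 = n41197 := d14_1 D42075 (iv D41197) (iv F189164)
theorem F193568 : act 3 n42075 = n41067 := d27_1 D42075 (iv D41067) (iv F189165)
theorem F193569 : act 5 n42075 = n41149 := d36_1 D42075 (iv F190401) F190399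
theorem F193570 : act 6 n42075 = n41142 := d39_1 D42075 (iv D41142) (iv D40061) (iv F184619) D41054
theorem F193571 : act 8 n42075 = n41058 := d42_2 (iv F189166) D42075 (iv D41058)
def n42076 : Q := act 9 n41054
theorem D42076 : act 9 n41054 = n42076 := rfl
theorem F193572 : act 1 n42076 = n41198 := d16_1 D42076 (iv D41198) (iv F189164)
theorem F193573 : act 3 n42076 = n41068 := d29_1 D42076 (iv D41068) (iv F189165)
theorem F193574 : act 6 n42076 = n41055 := d41_1 D42076 (iv D41055) D41054
def n42077 : Q := act 6 n41056
theorem D42077 : act 6 n41056 = n42077 := rfl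
theorem F193575 : act 1 n42077 = n41200 := d13_1 D42077 (iv D41200) (iv F189171)
theorem F193576 : act 3 n42077 = n41057 := d26_1 D42077 (iv D41057) D41056
theorem F193577 : act 4 n42077 = n41071 := d31_1 D42077 (iv D41071) (iv F189172)
theorem F193578 : act 5 n42077 = n42077 := d35_1 D42077 (iv D42077) F189173 F184639 (iv F189173)
def n42078 : Q := act 7 n41057
theorem D42078 : act 7 n41057 = n42078 := rfl
theorem F193579 : act 1 n42078 = n41201 := d14_1 D42078 (iv D41201) (iv F189175)
theorem F193580 : act 4 n42078 = n41058 := d32_1 D42078 (iv D41058) (iv F189176)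
theorem F193581 : act 5 n42078 = n42078 := d36_1 D42078 (iv D42078) F189177
theorem F193582 : act 6 n42078 = n41145 := d39_1 D42078 (iv D41145) (iv D40064) (iv F184628) D41057
def n42079 : Q := act 9 n41060
theorem D42079 : act 9 n41060 = n42079 := rfl
theorem F193583 : act 1 n42079 = n41216 := d16_1 D42079 (iv D41216) (iv F189186)
theorem F193584 : act 3 n42079 = n41108 := d29_1 D42079 (iv D41108) (iv F189187)
theorem F193585 : act 4 n42079 = n41061 := d34_1 D42079 (iv D41061) (iv F189188)
theorem F193586 : act 5 n42079 = n41225 := d38_1 D42079 F189573 (iv F189189)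
def n42080 : Q := act 9 n41062
theorem D42080 : act 9 n41062 = n42080 := rfl
theorem F193587 : act 1 n42080 = n41215 := d16_1 D42080 (iv D41215) (iv F189193)
theorem F193588 : act 2 n42080 = n41066 := d23_1 D42080 (iv D41066) (iv F189194)
theorem F193589 : act 3 n42080 = n41127 := d29_1 D42080 F189356 (iv F189195)
theorem F193590 : act 4 n42080 = n41063 := d34_1 D42080 (iv D41063) D41062
theorem F193591 : act 5 n42080 = n41116 := d38_1 D42080 (iv D41116) (iv F189196)
theorem F193592 : act 8 n42080 = n41123 := d44_1 D42080 (iv D41123) F184812 (iv F184662) (iv F189197)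
def n42081 : Q := act 2 n41064
theorem D42081 : act 2 n41064 = n42081 := rfl
theorem F193593 : act 3 n42081 = n41122 := d17_2 D41064 D42081 F189345 (iv F189195) F189194
theorem F193594 : act 5 n42081 = n41074 := d19_2 (iv F189204) D42081 F189229
theorem F193595 : act 8 n42081 = n41070 := d22_2 (iv F189205) D42081 (iv D41070)
def n42082 : Q := act 6 n41064
theorem D42082 : act 6 n41064 = n42082 := rfl
theorem F193596 : act 1 n42082 = n41233 := d13_1 D42082 (iv D41233) (iv F189203)
theorem F193597 : act 3 n42082 = n41065 := d26_1 D42082 (iv D41065) D41064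
theorem F193598 : act 8 n42082 = n41071 := d40_2 (iv F189205) D42082 (iv D41071)
def n42083 : Q := act 9 n41064
theorem D42083 : act 9 n41064 = n42083 := rfl
theorem F193599 : act 1 n42083 = n41234 := d16_1 D42083 (iv D41234) (iv F189203)
theorem F193600 : act 3 n42083 = n41066 := d29_1 D42083 (iv D41066) D41064
theorem F193601 : act 5 n42083 = n41123 := d38_1 D42083 (iv D41123) (iv F189204)
def n42084 : Q := act 7 n41065
theorem D42084 : act 7 n41065 = n42084 := rfl
theorem F193602 : act 2 n42084 = n41151 := d21_1 D42084 (iv F190415) F190411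
theorem F193603 : act 4 n42084 = n41067 := d32_1 D42084 (iv D41067) (iv F189206)
theorem F193604 : act 8 n42084 = n41073 := d42_2 (iv F189207) D42084 (iv D41073)
def n42085 : Q := act 9 n41065
theorem D42085 : act 9 n41065 = n42085 := rfl
theorem F193605 : act 4 n42085 = n41068 := d34_1 D42085 (iv D41068) (iv F189206)
theorem F193606 : act 6 n42085 = n41066 := d41_1 D42085 (iv D41066) D41065
def n42086 : Q := act 8 n41066
theorem D42086 : act 8 n41066 = n42086 := rfl
theorem F193607 : act 2 n42086 = n41123 := d22_1 D42086 (iv F193592) F193588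
theorem F193608 : act 4 n42086 = n41069 := d33_1 D42086 (iv D41069) (iv F189208)
theorem F193609 : act 9 n42086 = n41074 := d44_2 D41066 D42086 (iv D41074) (iv D39979) (iv F184664)
def n42087 : Q := act 9 n41067
theorem D42087 : act 9 n41067 = n42087 := rfl
theorem F193610 : act 2 n42087 = n41153 := d23_1 D42087 (iv D41153) (iv F189210)
theorem F193611 : act 5 n42087 = n41150 := d38_1 D42087 (iv D41150) (iv F189211)
theorem F193612 : act 7 n42087 = n41068 := d43_1 D42087 (iv D41068) D41067
def n42088 : Q := act 7 n41071
theorem D42088 : act 7 n41071 = n42088 := rfl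
theorem F193613 : act 1 n42088 = n41243 := d14_1 D42088 (iv D41243) (iv F189219)
theorem F193614 : act 3 n42088 = n41073 := d27_1 D42088 (iv D41073) (iv F189220)
theorem F193615 : act 5 n42088 = n41129 := d36_1 D42088 (iv D41129) (iv F189221)
def n42089 : Q := act 8 n41072
theorem D42089 : act 8 n41072 = n42089 := rfl
theorem F193616 : act 1 n42089 = n41219 := d15_1 D42089 F189563 (iv F189222)
theorem F193617 : act 2 n42089 = n41114 := d22_1 D42089 F189328 (iv F189223)
theorem F193618 : act 3 n42089 = n41074 := d28_1 D42089 (iv D41074) (iv F189224)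
theorem F193619 : act 5 n42089 = n41122 := d37_1 D42089 (iv D41122) F184806 (iv F184687) (iv F189225)
def n42090 : Q := act 9 n41075
theorem D42090 : act 9 n41075 = n42090 := rfl
theorem F193620 : act 0 n42090 = n41076 := d8_1 D42090 (iv D41076) (iv F189231)
theorem F193621 : act 8 n42090 = n41100 := d44_1 D42090 (iv D41100) (iv D40009) (iv F184689) D41075
def n42091 : Q := act 9 n41077
theorem D42091 : act 9 n41077 = n42091 := rfl
theorem F193622 : act 2 n42091 = n41215 := d23_1 D42091 (iv D41215) (iv F189234)
theorem F193623 : act 4 n42091 = n41078 := d34_1 D42091 (iv D41078) (iv F189235)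
theorem F193624 : act 8 n42091 = n41108 := d44_1 D42091 (iv D41108) (iv D40017) (iv F184700) D41077
def n42092 : Q := act 6 n41079
theorem D42092 : act 6 n41079 = n42092 := rfl
theorem F193625 : act 2 n42092 = n41084 := d20_1 D42092 (iv D41084) (iv F189239)
theorem F193626 : act 4 n42092 = n41080 := d31_1 D42092 (iv D41080) D41079
theorem F193627 : act 8 n42092 = n41082 := d40_2 (iv F189240) D42092 (iv D41082)
def n42093 : Q := act 9 n41079
theorem D42093 : act 9 n41079 = n42093 := rfl
theorem F193628 : act 2 n42093 = n41085 := d23_1 D42093 (iv D41085) (iv F189239)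
theorem F193629 : act 4 n42093 = n41081 := d34_1 D42093 (iv D41081) D41079
def n42094 : Q := act 9 n41080
theorem D42094 : act 9 n41080 = n42094 := rfl
theorem F193630 : act 2 n42094 = n41087 := d23_1 D42094 (iv D41087) (iv F189241)
theorem F193631 : act 6 n42094 = n41081 := d41_1 D42094 (iv D41081) D41080
def n42095 : Q := act 6 n41083
theorem D42095 : act 6 n41083 = n42095 := rfl
theorem F193632 : act 3 n42095 = n41084 := d26_1 D42095 (iv D41084) D41083
theorem F193633 : act 4 n42095 = n41220 := d31_1 D42095 (iv D41220) (iv F189248)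
theorem F193634 : act 8 n42095 = n41090 := d40_2 (iv F189251) D42095 (iv D41090)
def n42096 : Q := act 9 n41083
theorem D42096 : act 9 n41083 = n42096 := rfl
theorem F193635 : act 3 n42096 = n41085 := d29_1 D42096 (iv D41085) D41083
theorem F193636 : act 4 n42096 = n41221 := d34_1 D42096 (iv D41221) (iv F189248)
theorem F193637 : act 5 n42096 = n41208 := d38_1 D42096 (iv D41208) (iv F189249)
theorem F193638 : act 7 n42096 = n41234 := d43_1 D42096 (iv D41234) (iv F189250)
def n42097 : Q := act 5 n41084
theorem D42097 : act 5 n41084 = n42097 := rfl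
theorem F193639 : act 8 n42097 = n42097 := d37_2 (iv F189253) D42097 (iv D42097) F189253 F184733
def n42098 : Q := act 7 n41084
theorem D42098 : act 7 n41084 = n42098 := rfl
theorem F193640 : act 4 n42098 = n41086 := d32_1 D42098 (iv D41086) (iv F189252)
theorem F193641 : act 8 n42098 = n41092 := d42_2 (iv F189253) D42098 (iv D41092)
def n42099 : Q := act 9 n41084
theorem D42099 : act 9 n41084 = n42099 := rfl
theorem F193642 : act 4 n42099 = n41087 := d34_1 D42099 (iv D41087) (iv F189252)
theorem F193643 : act 6 n42099 = n41085 := d41_1 D42099 (iv D41085) D41084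
def n42100 : Q := act 8 n41085
theorem D42100 : act 8 n41085 = n42100 := rfl
theorem F193644 : act 4 n42100 = n41088 := d33_1 D42100 (iv D41088) (iv F189254)
theorem F193645 : act 9 n42100 = n41094 := d44_2 D41085 D42100 (iv D41094) (iv D40000) (iv F184724)
def n42101 : Q := act 9 n41086
theorem D42101 : act 9 n41086 = n42101 := rfl
theorem F193646 : act 3 n42101 = n41226 := d29_1 D42101 (iv D41226) (iv F189255)
theorem F193647 : act 7 n42101 = n41087 := d43_1 D42101 (iv D41087) D41086
def n42102 : Q := act 8 n41087
theorem D42102 : act 8 n41087 = n42102 := rfl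
theorem F193648 : act 3 n42102 = n41227 := d28_1 D42102 (iv D41227) (iv F189257)
theorem F193649 : act 6 n42102 = n41088 := d40_1 D42102 (iv D41088) (iv F189258)
theorem F193650 : act 9 n42102 = n41096 := d44_2 D41087 D42102 (iv D41096) (iv D40002) (iv F184726)
def n42103 : Q := act 6 n41089
theorem D42103 : act 6 n41089 = n42103 := rfl
theorem F193651 : act 2 n42103 = n41090 := d20_1 D42103 (iv D41090) D41089
theorem F193652 : act 3 n42103 = n41202 := d26_1 D42103 F189528 (iv F189262)
theorem F193653 : act 4 n42103 = n41228 := d31_1 D42103 (iv D41228) (iv F189263)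
theorem F193654 : act 5 n42103 = n42103 := d35_1 D42103 (iv D42103) F189264 F184749 (iv F189264)
theorem F193655 : act 9 n42103 = n41200 := d41_2 F189266 D42103 (iv D41200)
def n42104 : Q := act 7 n41090
theorem D42104 : act 7 n41090 = n42104 := rfl
theorem F193656 : act 3 n42104 = n41092 := d27_1 D42104 (iv D41092) (iv F189267)
theorem F193657 : act 4 n42104 = n41229 := d32_1 D42104 (iv D41229) (iv F189268)
theorem F193658 : act 5 n42104 = n42104 := d36_1 D42104 (iv D42104) F189269
theorem F193659 : act 6 n42104 = n41243 := d39_1 D42104 (iv D41243) (iv D40168) (iv F184731) D41090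
def n42105 : Q := act 9 n41090
theorem D42105 : act 9 n41090 = n42105 := rfl
theorem F193660 : act 2 n42105 = n41200 := d23_1 D42105 (iv F193655) F193651
theorem F193661 : act 3 n42105 = n41093 := d29_1 D42105 (iv D41093) (iv F189267)
theorem F193662 : act 4 n42105 = n41132 := d34_1 D42105 F189370 (iv F189268)
theorem F193663 : act 5 n42105 = n42105 := d38_1 D42105 (iv D42105) F189269
theorem F193664 : act 6 n42105 = n41091 := d41_1 D42105 (iv D41091) D41090
def n42106 : Q := act 8 n41091
theorem D42106 : act 8 n41091 = n42106 := rfl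
theorem F193665 : act 2 n42106 = n41194 := d22_1 D42106 F189509 (iv F189270)
theorem F193666 : act 3 n42106 = n41094 := d28_1 D42106 (iv D41094) (iv F189271)
theorem F193667 : act 4 n42106 = n41107 := d33_1 D42106 F189310 (iv F189272)
theorem F193668 : act 5 n42106 = n41109 := d37_1 D42106 F189314 F184786 (iv F184758) (iv F189273)
theorem F193669 : act 7 n42106 = n41219 := d42_1 D42106 F189563 (iv F189274)
def n42107 : Q := act 9 n41092
theorem D42107 : act 9 n41092 = n42107 := rfl
theorem F193670 : act 4 n42107 = n41095 := d34_1 D42107 (iv D41095) (iv F189275)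
theorem F193671 : act 5 n42107 = n42107 := d38_1 D42107 (iv D42107) F189276
theorem F193672 : act 7 n42107 = n41093 := d43_1 D42107 (iv D41093) D41092
def n42108 : Q := act 8 n41093
theorem D42108 : act 8 n41093 = n42108 := rfl
theorem F193673 : act 4 n42108 = n41096 := d33_1 D42108 (iv D41096) (iv F189277)
theorem F193674 : act 6 n42108 = n41094 := d40_1 D42108 (iv D41094) (iv F189279)
def n42109 : Q := act 5 n41094
theorem D42109 : act 5 n41094 = n42109 := rfl
theorem F193675 : act 3 n42109 = n41109 := d25_1 D42109 (iv F193668) F193666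
theorem F193676 : act 4 n42109 = n41114 := d30_1 D42109 F189327 F184824 (iv F184742) (iv F189280)
theorem F193677 : act 8 n42109 = n41097 := d37_2 D41094 D42109 (iv D41097) (iv D40007) (iv F184735)
def n42110 : Q := act 8 n41095
theorem D42110 : act 8 n41095 = n42110 := rfl
theorem F193678 : act 3 n42110 = n41232 := d28_1 D42110 (iv D41232) (iv F189281)
theorem F193679 : act 7 n42110 = n41096 := d42_1 D42110 (iv D41096) (iv F189283)
def n42111 : Q := act 6 n41097
theorem D42111 : act 6 n41097 = n42111 := rfl
theorem F193680 : act 3 n42111 = n41112 := d26_1 D42111 (iv D41112) (iv F189286)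
theorem F193681 : act 4 n42111 = n41120 := d31_1 D42111 (iv D41120) (iv F189287)
theorem F193682 : act 5 n42111 = n42111 := d35_1 D42111 (iv D42111) (iv D41097) F184761 D41097
def n42112 : Q := act 9 n41098
theorem D42112 : act 9 n41098 = n42112 := rfl
theorem F193683 : act 0 n42112 = n41102 := d8_1 D42112 (iv D41102) (iv F189288)
theorem F193684 : act 3 n42112 = n41100 := d29_1 D42112 (iv D41100) (iv F189289)
def n42113 : Q := act 9 n41099
theorem D42113 : act 9 n41099 = n42113 := rfl
theorem F193685 : act 0 n42113 = n41105 := d8_1 D42113 (iv D41105) (iv F189290)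
theorem F193686 : act 5 n42113 = n41100 := d38_1 D42113 (iv D41100) D41099
def n42114 : Q := act 9 n41101
theorem D42114 : act 9 n41101 = n42114 := rfl
theorem F193687 : act 1 n42114 = n41108 := d16_1 D42114 (iv D41108) (iv F189293)
theorem F193688 : act 3 n42114 = n41216 := d29_1 D42114 (iv D41216) (iv F189294)
theorem F193689 : act 4 n42114 = n41102 := d34_1 D42114 (iv D41102) (iv F189295)
def n42115 : Q := act 6 n41103
theorem D42115 : act 6 n41103 = n42115 := rfl
theorem F193690 : act 1 n42115 = n41115 := d13_1 D42115 (iv D41115) (iv F189298)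
theorem F193691 : act 4 n42115 = n41104 := d31_1 D42115 (iv D41104) D41103
theorem F193692 : act 8 n42115 = n41106 := d40_2 (iv F189300) D42115 (iv D41106)
def n42116 : Q := act 9 n41103
theorem D42116 : act 9 n41103 = n42116 := rfl
theorem F193693 : act 1 n42116 = n41116 := d16_1 D42116 (iv D41116) (iv F189298)
theorem F193694 : act 4 n42116 = n41105 := d34_1 D42116 (iv D41105) D41103
theorem F193695 : act 5 n42116 = n41215 := d38_1 D42116 (iv D41215) (iv F189299)
def n42117 : Q := act 9 n41104
theorem D42117 : act 9 n41104 = n42117 := rfl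
theorem F193696 : act 1 n42117 = n41118 := d16_1 D42117 (iv D41118) (iv F189301)
theorem F193697 : act 6 n42117 = n41105 := d41_1 D42117 (iv D41105) D41104
def n42118 : Q := act 6 n41107
theorem D42118 : act 6 n41107 = n42118 := rfl
theorem F193698 : act 2 n42118 = n41233 := d20_1 D42118 (iv D41233) (iv F189308)
theorem F193699 : act 3 n42118 = n41231 := d26_1 D42118 F189586 (iv F189309)
theorem F193700 : act 8 n42118 = n41132 := d40_2 (iv F189310) D42118 (iv D41132)
def n42119 : Q := act 9 n41107
theorem D42119 : act 9 n41107 = n42119 := rfl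
theorem F193701 : act 2 n42119 = n41234 := d23_1 D42119 (iv D41234) (iv F189308)
theorem F193702 : act 3 n42119 = n41225 := d29_1 D42119 F189573 (iv F189309)
theorem F193703 : act 5 n42119 = n41108 := d38_1 D42119 (iv D41108) D41107
theorem F193704 : act 8 n42119 = n41221 := d44_1 D42119 (iv D41221) F185061 (iv F184850) (iv F189310)
def n42120 : Q := act 6 n41109
theorem D42120 : act 6 n41109 = n42120 := rfl
theorem F193705 : act 2 n42120 = n41235 := d20_1 D42120 (iv D41235) (iv F189313)
theorem F193706 : act 4 n42120 = n41110 := d31_1 D42120 (iv D41110) D41109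
theorem F193707 : act 8 n42120 = n41112 := d40_2 (iv F189314) D42120 (iv D41112)
def n42121 : Q := act 9 n41109
theorem D42121 : act 9 n41109 = n42121 := rfl
theorem F193708 : act 2 n42121 = n41236 := d23_1 D42121 (iv D41236) (iv F189313)
theorem F193709 : act 4 n42121 = n41111 := d34_1 D42121 (iv D41111) D41109
def n42122 : Q := act 7 n41110
theorem D42122 : act 7 n41110 = n42122 := rfl
theorem F193710 : act 2 n42122 = n41237 := d21_1 D42122 (iv D41237) (iv F189315)
theorem F193711 : act 3 n42122 = n41117 := d27_1 D42122 (iv D41117) (iv F189316)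
theorem F193712 : act 8 n42122 = n41113 := d42_2 (iv F189317) D42122 (iv D41113)
def n42123 : Q := act 9 n41110
theorem D42123 : act 9 n41110 = n42123 := rfl
theorem F193713 : act 2 n42123 = n41238 := d23_1 D42123 (iv D41238) (iv F189315)
theorem F193714 : act 3 n42123 = n41118 := d29_1 D42123 (iv D41118) (iv F189316)
theorem F193715 : act 6 n42123 = n41111 := d41_1 D42123 (iv D41111) D41110
def n42124 : Q := act 7 n41112
theorem D42124 : act 7 n41112 = n42124 := rfl
theorem F193716 : act 2 n42124 = n41240 := d21_1 D42124 (iv D41240) (iv F189321)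
theorem F193717 : act 4 n42124 = n41113 := d32_1 D42124 (iv D41113) (iv F189322)
theorem F193718 : act 5 n42124 = n42124 := d36_1 D42124 (iv D42124) F189323
def n42125 : Q := act 6 n41114
theorem D42125 : act 6 n41114 = n42125 := rfl
theorem F193719 : act 3 n42125 = n41115 := d26_1 D42125 (iv D41115) D41114
theorem F193720 : act 8 n42125 = n41120 := d40_2 (iv F189328) D42125 (iv D41120)
def n42126 : Q := act 9 n41114
theorem D42126 : act 9 n41114 = n42126 := rfl
theorem F193721 : act 3 n42126 = n41116 := d29_1 D42126 (iv D41116) D41114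
theorem F193722 : act 5 n42126 = n41127 := d38_1 D42126 F189356 (iv F189327)
def n42127 : Q := act 7 n41115
theorem D42127 : act 7 n41115 = n42127 := rfl
theorem F193723 : act 2 n42127 = n41125 := d21_1 D42127 (iv D41125) (iv F189329)
theorem F193724 : act 4 n42127 = n41117 := d32_1 D42127 (iv D41117) (iv F189330)
theorem F193725 : act 8 n42127 = n41121 := d42_2 (iv F189331) D42127 (iv D41121)
def n42128 : Q := act 9 n41115
theorem D42128 : act 9 n41115 = n42128 := rfl
theorem F193726 : act 2 n42128 = n41126 := d23_1 D42128 (iv D41126) (iv F189329)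
theorem F193727 : act 4 n42128 = n41118 := d34_1 D42128 (iv D41118) (iv F189330)
theorem F193728 : act 6 n42128 = n41116 := d41_1 D42128 (iv D41116) D41115
def n42129 : Q := act 8 n41116
theorem D42129 : act 8 n41116 = n42129 := rfl
theorem F193729 : act 2 n42129 = n41127 := d22_1 D42129 (iv D41127) (iv F189332)
theorem F193730 : act 4 n42129 = n41119 := d33_1 D42129 (iv D41119) (iv F189333)
theorem F193731 : act 9 n42129 = n41122 := d44_2 D41116 D42129 (iv D41122) (iv D40028) (iv F184795)
def n42130 : Q := act 9 n41117
theorem D42130 : act 9 n41117 = n42130 := rfl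
theorem F193732 : act 2 n42130 = n41128 := d23_1 D42130 (iv D41128) (iv F189334)
theorem F193733 : act 7 n42130 = n41118 := d43_1 D42130 (iv D41118) D41117
def n42131 : Q := act 7 n41120
theorem D42131 : act 7 n41120 = n42131 := rfl
theorem F193734 : act 3 n42131 = n41121 := d27_1 D42131 (iv D41121) (iv F189340)
theorem F193735 : act 5 n42131 = n41130 := d36_1 D42131 (iv D41130) (iv F189341)
def n42132 : Q := act 7 n41124
theorem D42132 : act 7 n41124 = n42132 := rfl
theorem F193736 : act 5 n42132 = n41125 := d36_1 D42132 (iv D41125) D41124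
theorem F193737 : act 8 n42132 = n41131 := d42_2 (iv F189350) D42132 (iv D41131)
def n42133 : Q := act 9 n41124
theorem D42133 : act 9 n41124 = n42133 := rfl
theorem F193738 : act 5 n42133 = n41126 := d38_1 D42133 (iv D41126) D41124
def n42134 : Q := act 9 n41125
theorem D42134 : act 9 n41125 = n42134 := rfl
theorem F193739 : act 4 n42134 = n41128 := d34_1 D42134 (iv D41128) (iv F189351)
theorem F193740 : act 7 n42134 = n41126 := d43_1 D42134 (iv D41126) D41125
def n42135 : Q := act 6 n41131
theorem D42135 : act 6 n41131 = n42135 := rfl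
theorem F193741 : act 4 n42135 = n41161 := d31_1 D42135 (iv F190965) F190964
theorem F193742 : act 5 n42135 = n42135 := d35_1 D42135 (iv D42135) F189366 F184839 (iv F189366)
theorem F193743 : act 9 n42135 = n41160 := d41_2 F191435 D42135 (iv F191433)
def n42136 : Q := act 7 n41132
theorem D42136 : act 7 n41132 = n42136 := rfl
theorem F193744 : act 2 n42136 = n41243 := d21_1 D42136 (iv D41243) (iv F189367)
theorem F193745 : act 3 n42136 = n41230 := d27_1 D42136 F189584 (iv F189368)
theorem F193746 : act 5 n42136 = n41133 := d36_1 D42136 (iv D41133) (iv F189369)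
theorem F193747 : act 9 n42136 = n41229 := d43_2 (iv F189370) D42136 (iv D41229)
def n42137 : Q := act 9 n41134
theorem D42137 : act 9 n41134 = n42137 := rfl
theorem F193748 : act 1 n42137 = n41236 := d16_1 D42137 (iv D41236) (iv F189376)
theorem F193749 : act 3 n42137 = n41146 := d29_1 D42137 (iv D41146) (iv F189377)
theorem F193750 : act 4 n42137 = n41135 := d34_1 D42137 (iv D41135) (iv F189378)
def n42138 : Q := act 9 n41137
theorem D42138 : act 9 n41137 = n42138 := rfl
theorem F193751 : act 4 n42138 = n41138 := d34_1 D42138 (iv D41138) (iv F189386)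
theorem F193752 : act 8 n42138 = n41146 := d44_1 D42138 (iv D41146) (iv D40066) (iv F184883) D41137
def n42139 : Q := act 6 n41139
theorem D42139 : act 6 n41139 = n42139 := rfl
theorem F193753 : act 1 n42139 = n41220 := d13_1 D42139 (iv D41220) (iv F189389)
theorem F193754 : act 3 n42139 = n41140 := d26_1 D42139 (iv D41140) D41139
theorem F193755 : act 8 n42139 = n41144 := d40_2 (iv F189390) D42139 (iv D41144)
def n42140 : Q := act 9 n41139
theorem D42140 : act 9 n41139 = n42140 := rfl
theorem F193756 : act 1 n42140 = n41221 := d16_1 D42140 (iv D41221) (iv F189389)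
theorem F193757 : act 3 n42140 = n41141 := d29_1 D42140 (iv D41141) D41139
def n42141 : Q := act 7 n41140
theorem D42141 : act 7 n41140 = n42141 := rfl
theorem F193758 : act 1 n42141 = n41223 := d14_1 D42141 (iv D41223) (iv F189391)
theorem F193759 : act 4 n42141 = n41142 := d32_1 D42141 (iv D41142) (iv F189392)
theorem F193760 : act 8 n42141 = n41145 := d42_2 (iv F189393) D42141 (iv D41145)
def n42142 : Q := act 9 n41140
theorem D42142 : act 9 n41140 = n42142 := rfl
theorem F193761 : act 1 n42142 = n41224 := d16_1 D42142 (iv D41224) (iv F189391)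
theorem F193762 : act 4 n42142 = n41143 := d34_1 D42142 (iv D41143) (iv F189392)
theorem F193763 : act 6 n42142 = n41141 := d41_1 D42142 (iv D41141) D41140
def n42143 : Q := act 9 n41142
theorem D42143 : act 9 n41142 = n42143 := rfl
theorem F193764 : act 1 n42143 = n41226 := d16_1 D42143 (iv D41226) (iv F189396)
theorem F193765 : act 7 n42143 = n41143 := d43_1 D42143 (iv D41143) D41142
def n42144 : Q := act 7 n41144
theorem D42144 : act 7 n41144 = n42144 := rfl
theorem F193766 : act 1 n42144 = n41229 := d14_1 D42144 (iv D41229) (iv F189400)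
theorem F193767 : act 3 n42144 = n41145 := d27_1 D42144 (iv D41145) (iv F189401)
theorem F193768 : act 5 n42144 = n41246 := d36_1 D42144 (iv D41246) (iv F189402)
def n42145 : Q := act 9 n41147
theorem D42145 : act 9 n41147 = n42145 := rfl
theorem F193769 : act 1 n42145 = n41150 := d16_1 D42145 (iv D41150) (iv F189407)
theorem F193770 : act 4 n42145 = n41212 := d34_1 D42145 F189551 (iv F189408)
theorem F193771 : act 6 n42145 = n41187 := d41_1 D42145 (iv D41187) (iv F189409)
theorem F193772 : act 8 n42145 = n41156 := d44_1 D42145 (iv D41156) (iv D40076) (iv F184906) D41147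
def n42146 : Q := act 8 n41148
theorem D42146 : act 8 n41148 = n42146 := rfl
theorem F193773 : act 4 n42146 = n41149 := d33_1 D42146 (iv D41149) D41148
theorem F193774 : act 6 n42146 = n41188 := d40_1 D42146 (iv D41188) (iv F189411)
def n42147 : Q := act 9 n41149
theorem D42147 : act 9 n41149 = n42147 := rfl
theorem F193775 : act 3 n42147 = n41150 := d29_1 D42147 (iv D41150) (iv F189413)
theorem F193776 : act 6 n42147 = n41189 := d41_1 D42147 (iv D41189) (iv F189414)
theorem F193777 : act 8 n42147 = n41159 := d44_1 D42147 (iv D41159) (iv D40078) (iv F184909) D41149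
def n42148 : Q := act 6 n41151
theorem D42148 : act 6 n41151 = n42148 := rfl
theorem F193778 : act 4 n42148 = n41152 := d31_1 D42148 (iv D41152) D41151
theorem F193779 : act 8 n42148 = n41154 := d40_2 (iv F189418) D42148 (iv D41154)
def n42149 : Q := act 9 n41151
theorem D42149 : act 9 n41151 = n42149 := rfl
theorem F193780 : act 4 n42149 = n41153 := d34_1 D42149 (iv D41153) D41151
def n42150 : Q := act 9 n41152
theorem D42150 : act 9 n41152 = n42150 := rfl
theorem F193781 : act 5 n42150 = n41198 := d38_1 D42150 (iv D41198) (iv F189419)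
theorem F193782 : act 6 n42150 = n41153 := d41_1 D42150 (iv D41153) D41152
def n42151 : Q := act 9 n41155
theorem D42151 : act 9 n41155 = n42151 := rfl
theorem F193783 : act 1 n42151 = n41159 := d16_1 D42151 (iv D41159) (iv F189424)
theorem F193784 : act 3 n42151 = n41156 := d29_1 D42151 (iv D41156) (iv F189425)
theorem F193785 : act 6 n42151 = n41207 := d41_1 D42151 (iv D41207) (iv F189426)
def n42152 : Q := act 5 n41157
theorem D42152 : act 5 n41157 = n42152 := rfl
theorem F193786 : act 8 n42152 = n42152 := d37_2 D41157 D42152 (iv D42152) (iv D41157) F184923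
def n42153 : Q := act 9 n41157
theorem D42153 : act 9 n41157 = n42153 := rfl
theorem F193787 : act 4 n42153 = n41159 := d34_1 D42153 (iv D41159) (iv F189430)
theorem F193788 : act 6 n42153 = n41208 := d41_1 D42153 (iv D41208) (iv F189431)
def n42154 : Q := act 4 n41158
theorem D42154 : act 4 n41158 = n42154 := rfl
theorem F193789 : act 8 n42154 = n41160 := d33_2 (iv F189433) D42154 (iv D41160)
def n42155 : Q := act 9 n41158
theorem D42155 : act 9 n41158 = n42155 := rfl
theorem F193790 : act 3 n42155 = n41163 := d29_1 D42155 (iv D41163) (iv F189432)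
theorem F193791 : act 5 n42155 = n41159 := d38_1 D42155 (iv D41159) D41158
def n42156 : Q := act 3 n41160
theorem D42156 : act 3 n41160 = n42156 := rfl
theorem F193792 : act 4 n42156 = n41164 := d24_2 D41160 D42156 (iv D41164) (iv D40083) (iv F184927)
theorem F193793 : act 5 n42156 = n42156 := d25_2 F189436 D42156 (iv D42156)
def n42157 : Q := act 8 n41161
theorem D42157 : act 8 n41161 = n42157 := rfl
theorem F193794 : act 3 n42157 = n41166 := d28_1 D42157 (iv D41166) (iv F189437)
def n42158 : Q := act 3 n41162
theorem D42158 : act 3 n41162 = n42158 := rfl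
theorem F193795 : act 8 n42158 = n41164 := d28_2 (iv F189440) D42158 (iv D41164)
def n42159 : Q := act 9 n41162
theorem D42159 : act 9 n41162 = n42159 := rfl
theorem F193796 : act 2 n42159 = n41172 := d23_1 D42159 (iv D41172) (iv F189439)
theorem F193797 : act 4 n42159 = n41163 := d34_1 D42159 (iv D41163) D41162
def n42160 : Q := act 8 n41163
theorem D42160 : act 8 n41163 = n42160 := rfl
theorem F193798 : act 2 n42160 = n41175 := d22_1 D42160 (iv D41175) (iv F189441)
theorem F193799 : act 9 n42160 = n41166 := d44_2 D41163 D42160 (iv D41166) (iv D40084) (iv F184932)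
def n42161 : Q := act 2 n41164
theorem D42161 : act 2 n41164 = n42161 := rfl
theorem F193800 : act 3 n42161 = n41176 := d17_2 D41164 D42161 (iv D41176) (iv D40091) (iv F184935)
theorem F193801 : act 5 n42161 = n41167 := d19_2 (iv F189443) D42161 (iv D41167)
def n42162 : Q := act 9 n41164
theorem D42162 : act 9 n41164 = n42162 := rfl
theorem F193802 : act 3 n42162 = n41165 := d29_1 D42162 (iv D41165) D41164
theorem F193803 : act 5 n42162 = n41168 := d38_1 D42162 (iv D41168) (iv F189443)
theorem F193804 : act 6 n42162 = n41186 := d41_1 D42162 (iv F190685) F190684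
def n42163 : Q := act 8 n41165
theorem D42163 : act 8 n41165 = n42163 := rfl
theorem F193805 : act 2 n42163 = n41181 := d22_1 D42163 (iv D41181) (iv F189444)
theorem F193806 : act 4 n42163 = n41166 := d33_1 D42163 (iv D41166) (iv F189445)
def n42164 : Q := act 1 n41167
theorem D42164 : act 1 n41167 = n42164 := rfl
theorem F193807 : act 2 n42164 = n41252 := d9_2 D41167 D42164 (iv F190616) F190617 F187098
theorem F193808 : act 3 n42164 = n41169 := d10_2 (iv F189448) D42164 F189454
theorem F193809 : act 4 n42164 = n42164 := d11_2 F189449 D42164 (iv D42164)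
theorem F193810 : act 6 n42164 = n41248 := d13_2 (iv F189450) D42164 (iv D41248)
theorem F193811 : act 8 n42164 = n41168 := d15_2 F190612 D42164 F190613
theorem F193812 : act 9 n41250 = n42164 := d44_0 F193811 (iv D41168) (iv F186095) D41411 (iv F190621)
def n42165 : Q := act 9 n41167
theorem D42165 : act 9 n41167 = n42165 := rfl
theorem F193813 : act 1 n42165 = n41250 := d16_1 D42165 F193812 (iv D42164)
theorem F193814 : act 2 n42165 = n41168 := d23_1 D42165 (iv D41168) D41167
theorem F193815 : act 3 n42165 = n41185 := d29_1 D42165 (iv D41185) (iv F189448)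
theorem F193816 : act 4 n42165 = n42165 := d34_1 D42165 (iv D42165) F189449
theorem F193817 : act 6 n42165 = n41249 := d41_1 D42165 (iv D41249) (iv F189450)
theorem F193818 : act 8 n42165 = n41252 := d44_1 D42165 (iv D41252) (iv F187101) F190614 F190612
def n42166 : Q := act 5 n41169
theorem D42166 : act 5 n41169 = n42166 := rfl
theorem F193819 : act 1 n42166 = n41176 := d12_1 D42166 F189467 (iv F189454)
theorem F193820 : act 2 n42166 = n41186 := d19_1 D42166 (iv D41186) (iv F189455)
def n42167 : Q := act 2 n41170
theorem D42167 : act 2 n41170 = n42167 := rfl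
theorem F193821 : act 8 n42167 = n41176 := d22_2 (iv F189458) D42167 (iv D41176)
def n42168 : Q := act 6 n41170
theorem D42168 : act 6 n41170 = n42168 := rfl
theorem F193822 : act 3 n42168 = n41171 := d26_1 D42168 (iv D41171) D41170
theorem F193823 : act 8 n42168 = n41177 := d40_2 (iv F189458) D42168 (iv D41177)
def n42169 : Q := act 9 n41170
theorem D42169 : act 9 n41170 = n42169 := rfl
theorem F193824 : act 3 n42169 = n41172 := d29_1 D42169 (iv D41172) D41170
def n42170 : Q := act 7 n41171
theorem D42170 : act 7 n41171 = n42170 := rfl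
theorem F193825 : act 4 n42170 = n41173 := d32_1 D42170 (iv D41173) (iv F189459)
theorem F193826 : act 8 n42170 = n41179 := d42_2 (iv F189460) D42170 (iv D41179)
def n42171 : Q := act 9 n41171
theorem D42171 : act 9 n41171 = n42171 := rfl
theorem F193827 : act 4 n42171 = n41174 := d34_1 D42171 (iv D41174) (iv F189459)
theorem F193828 : act 6 n42171 = n41172 := d41_1 D42171 (iv D41172) D41171
def n42172 : Q := act 8 n41172
theorem D42172 : act 8 n41172 = n42172 := rfl
theorem F193829 : act 4 n42172 = n41175 := d33_1 D42172 (iv D41175) (iv F189461)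
theorem F193830 : act 9 n42172 = n41181 := d44_2 D41172 D42172 (iv D41181) (iv D40093) (iv F184948)
def n42173 : Q := act 9 n41173
theorem D42173 : act 9 n41173 = n42173 := rfl
theorem F193831 : act 5 n42173 = n41211 := d38_1 D42173 (iv D41211) (iv F189462)
theorem F193832 : act 7 n42173 = n41174 := d43_1 D42173 (iv D41174) D41173
def n42174 : Q := act 8 n41174
theorem D42174 : act 8 n41174 = n42174 := rfl
theorem F193833 : act 6 n42174 = n41175 := d40_1 D42174 (iv D41175) (iv F189465)
theorem F193834 : act 9 n42174 = n41183 := d44_2 D41174 D42174 (iv D41183) (iv D40095) (iv F184950)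
def n42175 : Q := act 6 n41176
theorem D42175 : act 6 n41176 = n42175 := rfl
theorem F193835 : act 2 n42175 = n41177 := d20_1 D42175 (iv D41177) D41176
theorem F193836 : act 5 n42175 = n41250 := d35_1 D42175 (iv D41250) F185141 (iv F184967) (iv F189467)
def n42176 : Q := act 9 n41176
theorem D42176 : act 9 n41176 = n42176 := rfl
theorem F193837 : act 2 n42176 = n41178 := d23_1 D42176 (iv D41178) D41176
theorem F193838 : act 5 n42176 = n41185 := d38_1 D42176 (iv D41185) (iv F189467)
def n42177 : Q := act 7 n41177
theorem D42177 : act 7 n41177 = n42177 := rfl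
theorem F193839 : act 3 n42177 = n41179 := d27_1 D42177 (iv D41179) (iv F189468)
theorem F193840 : act 5 n42177 = n41251 := d36_1 D42177 (iv D41251) (iv F189469)
def n42178 : Q := act 9 n41177
theorem D42178 : act 9 n41177 = n42178 := rfl
theorem F193841 : act 3 n42178 = n41180 := d29_1 D42178 (iv D41180) (iv F189468)
theorem F193842 : act 5 n42178 = n41252 := d38_1 D42178 (iv D41252) (iv F189469)
theorem F193843 : act 6 n42178 = n41178 := d41_1 D42178 (iv D41178) D41177
def n42179 : Q := act 8 n41178
theorem D42179 : act 8 n41178 = n42179 := rfl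
theorem F193844 : act 3 n42179 = n41181 := d28_1 D42179 (iv D41181) (iv F189470)
def n42180 : Q := act 9 n41179
theorem D42180 : act 9 n41179 = n42180 := rfl
theorem F193845 : act 4 n42180 = n41182 := d34_1 D42180 (iv D41182) (iv F189472)
theorem F193846 : act 5 n42180 = n41253 := d38_1 D42180 (iv D41253) (iv F189473)
theorem F193847 : act 7 n42180 = n41180 := d43_1 D42180 (iv D41180) D41179
def n42181 : Q := act 8 n41180
theorem D42181 : act 8 n41180 = n42181 := rfl
theorem F193848 : act 4 n42181 = n41183 := d33_1 D42181 (iv D41183) (iv F189474)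
theorem F193849 : act 6 n42181 = n41181 := d40_1 D42181 (iv D41181) (iv F189476)
def n42182 : Q := act 5 n41181
theorem D42182 : act 5 n41181 = n42182 := rfl
theorem F193850 : act 8 n42182 = n41186 := d37_2 D41181 D42182 (iv D41186) (iv D40101) (iv F184956)
def n42183 : Q := act 8 n41182
theorem D42183 : act 8 n41182 = n42183 := rfl
theorem F193851 : act 7 n42183 = n41183 := d42_1 D42183 (iv D41183) (iv F189479)
def n42184 : Q := act 5 n41183
theorem D42184 : act 5 n41183 = n42184 := rfl
theorem F193852 : act 8 n42184 = n41184 := d37_2 D41183 D42184 (iv D41184) (iv D40098) (iv F184958)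
def n42185 : Q := act 9 n41188
theorem D42185 : act 9 n41188 = n42185 := rfl
theorem F193853 : act 4 n42185 = n41189 := d34_1 D42185 (iv D41189) (iv F189490)
theorem F193854 : act 7 n42185 = n41215 := d43_1 D42185 (iv D41215) (iv F189491)
theorem F193855 : act 8 n42185 = n41208 := d44_1 D42185 (iv D41208) (iv D40123) (iv F184982) D41188
def n42186 : Q := act 6 n41190
theorem D42186 : act 6 n41190 = n42186 := rfl
theorem F193856 : act 2 n42186 = n41195 := d20_1 D42186 (iv D41195) (iv F189495)
theorem F193857 : act 4 n42186 = n41191 := d31_1 D42186 (iv D41191) D41190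
theorem F193858 : act 8 n42186 = n41193 := d40_2 (iv F189497) D42186 (iv D41193)
def n42187 : Q := act 9 n41190
theorem D42187 : act 9 n41190 = n42187 := rfl
theorem F193859 : act 2 n42187 = n41196 := d23_1 D42187 (iv D41196) (iv F189495)
theorem F193860 : act 4 n42187 = n41192 := d34_1 D42187 (iv D41192) D41190
theorem F193861 : act 7 n42187 = n41216 := d43_1 D42187 (iv D41216) (iv F189496)
def n42188 : Q := act 9 n41191
theorem D42188 : act 9 n41191 = n42188 := rfl
theorem F193862 : act 2 n42188 = n41198 := d23_1 D42188 (iv D41198) (iv F189498)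
theorem F193863 : act 6 n42188 = n41192 := d41_1 D42188 (iv D41192) D41191
def n42189 : Q := act 6 n41194
theorem D42189 : act 6 n41194 = n42189 := rfl
theorem F193864 : act 3 n42189 = n41195 := d26_1 D42189 (iv D41195) D41194
theorem F193865 : act 4 n42189 = n41233 := d31_1 D42189 (iv D41233) (iv F189506)
theorem F193866 : act 8 n42189 = n41200 := d40_2 (iv F189509) D42189 (iv D41200)
def n42190 : Q := act 9 n41194
theorem D42190 : act 9 n41194 = n42190 := rfl
theorem F193867 : act 3 n42190 = n41196 := d29_1 D42190 (iv D41196) D41194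
theorem F193868 : act 4 n42190 = n41234 := d34_1 D42190 (iv D41234) (iv F189506)
theorem F193869 : act 5 n42190 = n41236 := d38_1 D42190 (iv D41236) (iv F189507)
theorem F193870 : act 7 n42190 = n41221 := d43_1 D42190 (iv D41221) (iv F189508)
def n42191 : Q := act 5 n41195
theorem D42191 : act 5 n41195 = n42191 := rfl
theorem F193871 : act 8 n42191 = n42191 := d37_2 (iv F189511) D42191 (iv D42191) F189511 F185005
def n42192 : Q := act 7 n41195
theorem D42192 : act 7 n41195 = n42192 := rfl
theorem F193872 : act 4 n42192 = n41197 := d32_1 D42192 (iv D41197) (iv F189510)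
theorem F193873 : act 6 n42192 = n41223 := d39_1 D42192 (iv D41223) (iv D40142) (iv F184996) D41195
theorem F193874 : act 8 n42192 = n41201 := d42_2 (iv F189511) D42192 (iv D41201)
def n42193 : Q := act 9 n41195
theorem D42193 : act 9 n41195 = n42193 := rfl
theorem F193875 : act 4 n42193 = n41198 := d34_1 D42193 (iv D41198) (iv F189510)
theorem F193876 : act 6 n42193 = n41196 := d41_1 D42193 (iv D41196) D41195
def n42194 : Q := act 8 n41196
theorem D42194 : act 8 n41196 = n42194 := rfl
theorem F193877 : act 4 n42194 = n41199 := d33_1 D42194 (iv D41199) (iv F189512)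
theorem F193878 : act 7 n42194 = n41225 := d42_1 D42194 (iv D41225) (iv F189513)
theorem F193879 : act 9 n42194 = n41203 := d44_2 D41196 D42194 (iv D41203) (iv D40115) (iv F184997)
def n42195 : Q := act 9 n41197
theorem D42195 : act 9 n41197 = n42195 := rfl
theorem F193880 : act 6 n42195 = n41226 := d41_1 D42195 (iv D41226) (iv F189514)
theorem F193881 : act 7 n42195 = n41198 := d43_1 D42195 (iv D41198) D41197
def n42196 : Q := act 8 n41198
theorem D42196 : act 8 n41198 = n42196 := rfl
theorem F193882 : act 6 n42196 = n41199 := d40_1 D42196 (iv D41199) (iv F189516)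
theorem F193883 : act 9 n42196 = n41205 := d44_2 D41198 D42196 (iv D41205) (iv D40117) (iv F184998)
def n42197 : Q := act 7 n41200
theorem D42197 : act 7 n41200 = n42197 := rfl
theorem F193884 : act 3 n42197 = n41201 := d27_1 D42197 (iv D41201) (iv F189520)
theorem F193885 : act 4 n42197 = n41243 := d32_1 D42197 (iv D41243) (iv F189521)
theorem F193886 : act 5 n42197 = n42197 := d36_1 D42197 (iv D42197) F189522
theorem F193887 : act 6 n42197 = n41229 := d39_1 D42197 (iv D41229) (iv D40148) (iv F185003) D41200
def n42198 : Q := act 9 n41201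
theorem D42198 : act 9 n41201 = n42198 := rfl
theorem F193888 : act 4 n42198 = n41204 := d34_1 D42198 (iv D41204) (iv F189523)
theorem F193889 : act 5 n42198 = n42198 := d38_1 D42198 (iv D42198) F189524
theorem F193890 : act 6 n42198 = n41230 := d41_1 D42198 (iv D41230) (iv F189525)
theorem F193891 : act 7 n42198 = n41202 := d43_1 D42198 (iv D41202) D41201
def n42199 : Q := act 8 n41202
theorem D42199 : act 8 n41202 = n42199 := rfl
theorem F193892 : act 4 n42199 = n41205 := d33_1 D42199 (iv D41205) (iv F189526)
theorem F193893 : act 6 n42199 = n41203 := d40_1 D42199 (iv D41203) (iv F189528)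
def n42200 : Q := act 8 n41204
theorem D42200 : act 8 n41204 = n42200 := rfl
theorem F193894 : act 6 n42200 = n41232 := d40_1 D42200 (iv D41232) (iv F189532)
theorem F193895 : act 7 n42200 = n41205 := d42_1 D42200 (iv D41205) (iv F189533)
def n42201 : Q := act 5 n41205
theorem D42201 : act 5 n41205 = n42201 := rfl
theorem F193896 : act 6 n42201 = n41213 := d35_2 (iv F189534) D42201 (iv D41213) F185044 (iv F185013)
theorem F193897 : act 8 n42201 = n41206 := d37_2 D41205 D42201 (iv D41206) (iv D40120) (iv F185011)
def n42202 : Q := act 4 n41206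
theorem D42202 : act 4 n41206 = n42202 := rfl
theorem F193898 : act 5 n42202 = n42202 := d30_2 D41206 D42202 (iv D42202) (iv D41206) F185018
theorem F193899 : act 6 n42202 = n41214 := d31_2 (iv F189535) D42202 (iv D41214)
def n42203 : Q := act 5 n41212
theorem D42203 : act 5 n41212 = n42203 := rfl
theorem F193900 : act 9 n42203 = n41213 := d38_2 (iv F189551) D42203 (iv D41213)
def n42204 : Q := act 4 n41213
theorem D42204 : act 4 n41213 = n42204 := rfl
theorem F193901 : act 8 n42204 = n41214 := d33_2 (iv F189552) D42204 (iv D41214)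
def n42205 : Q := act 8 n41216
theorem D42205 : act 8 n41216 = n42205 := rfl
theorem F193902 : act 2 n42205 = n41225 := d22_1 D42205 (iv D41225) (iv F189556)
theorem F193903 : act 4 n42205 = n41217 := d33_1 D42205 (iv D41217) (iv F189557)
theorem F193904 : act 9 n42205 = n41218 := d44_2 D41216 D42205 (iv D41218) (iv D40139) (iv F185053)
def n42206 : Q := act 6 n41219
theorem D42206 : act 6 n41219 = n42206 := rfl
theorem F193905 : act 2 n42206 = n41220 := d20_1 D42206 (iv D41220) D41219
theorem F193906 : act 8 n42206 = n41228 := d40_2 (iv F189563) D42206 (iv D41228)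
def n42207 : Q := act 9 n41219
theorem D42207 : act 9 n41219 = n42207 := rfl
theorem F193907 : act 2 n42207 = n41221 := d23_1 D42207 (iv D41221) D41219
theorem F193908 : act 8 n42207 = n41234 := d44_1 D42207 (iv D41234) F185084 (iv F185070) (iv F189563)
def n42208 : Q := act 5 n41220
theorem D42208 : act 5 n41220 = n42208 := rfl
theorem F193909 : act 3 n42208 = n41222 := d25_1 D42208 (iv D41222) (iv F189564)
theorem F193910 : act 8 n42208 = n41247 := d37_2 (iv F189565) D42208 (iv D41247) F185122 (iv F185072)
def n42209 : Q := act 7 n41220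
theorem D42209 : act 7 n41220 = n42209 := rfl
theorem F193911 : act 3 n42209 = n41223 := d27_1 D42209 (iv D41223) (iv F189564)
theorem F193912 : act 8 n42209 = n41229 := d42_2 (iv F189565) D42209 (iv D41229)
def n42210 : Q := act 9 n41220
theorem D42210 : act 9 n41220 = n42210 := rfl
theorem F193913 : act 3 n42210 = n41224 := d29_1 D42210 (iv D41224) (iv F189564)
theorem F193914 : act 6 n42210 = n41221 := d41_1 D42210 (iv D41221) D41220
def n42211 : Q := act 9 n41222
theorem D42211 : act 9 n41222 = n42211 := rfl
theorem F193915 : act 5 n42211 = n41224 := d38_1 D42211 (iv D41224) D41222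
def n42212 : Q := act 9 n41223
theorem D42212 : act 9 n41223 = n42212 := rfl
theorem F193916 : act 4 n42212 = n41226 := d34_1 D42212 (iv D41226) (iv F189568)
theorem F193917 : act 7 n42212 = n41224 := d43_1 D42212 (iv D41224) D41223
def n42213 : Q := act 8 n41224
theorem D42213 : act 8 n41224 = n42213 := rfl
theorem F193918 : act 4 n42213 = n41227 := d33_1 D42213 (iv D41227) (iv F189570)
theorem F193919 : act 6 n42213 = n41225 := d40_1 D42213 (iv D41225) (iv F189571)
theorem F193920 : act 9 n42213 = n41231 := d44_2 D41224 D42213 (iv D41231) (iv D40150) (iv F185063)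
def n42214 : Q := act 8 n41226
theorem D42214 : act 8 n41226 = n42214 := rfl
theorem F193921 : act 7 n42214 = n41227 := d42_1 D42214 (iv D41227) (iv F189574)
theorem F193922 : act 9 n42214 = n41232 := d44_2 D41226 D42214 (iv D41232) (iv D40152) (iv F185065)
def n42215 : Q := act 7 n41228
theorem D42215 : act 7 n41228 = n42215 := rfl
theorem F193923 : act 2 n42215 = n41229 := d21_1 D42215 (iv D41229) (iv F189577)
theorem F193924 : act 5 n42215 = n41244 := d36_1 D42215 F189608 (iv F189578)
theorem F193925 : act 9 n42215 = n41243 := d43_2 (iv F189579) D42215 (iv D41243)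
def n42216 : Q := act 8 n41230
theorem D42216 : act 8 n41230 = n42216 := rfl
theorem F193926 : act 4 n42216 = n41232 := d33_1 D42216 (iv D41232) (iv F189582)
theorem F193927 : act 7 n42216 = n41231 := d42_1 D42216 (iv D41231) (iv F189584)
def n42217 : Q := act 7 n41233
theorem D42217 : act 7 n41233 = n42217 := rfl
theorem F193928 : act 8 n42217 = n41243 := d42_2 (iv F189588) D42217 (iv D41243)
def n42218 : Q := act 9 n41233
theorem D42218 : act 9 n41233 = n42218 := rfl
theorem F193929 : act 6 n42218 = n41234 := d41_1 D42218 (iv D41234) D41233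
def n42219 : Q := act 5 n41235
theorem D42219 : act 5 n41235 = n42219 := rfl
theorem F193930 : act 8 n42219 = n42219 := d37_2 (iv F189591) D42219 (iv D42219) F189591 F185092
def n42220 : Q := act 7 n41235
theorem D42220 : act 7 n41235 = n42220 := rfl
theorem F193931 : act 4 n42220 = n41237 := d32_1 D42220 (iv D41237) (iv F189590)
theorem F193932 : act 8 n42220 = n41240 := d42_2 (iv F189591) D42220 (iv D41240)
def n42221 : Q := act 9 n41235
theorem D42221 : act 9 n41235 = n42221 := rfl
theorem F193933 : act 4 n42221 = n41238 := d34_1 D42221 (iv D41238) (iv F189590)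
theorem F193934 : act 6 n42221 = n41236 := d41_1 D42221 (iv D41236) D41235
def n42222 : Q := act 8 n41236
theorem D42222 : act 8 n41236 = n42222 := rfl
theorem F193935 : act 4 n42222 = n41239 := d33_1 D42222 (iv D41239) (iv F189592)
theorem F193936 : act 9 n42222 = n41241 := d44_2 D41236 D42222 (iv D41241) (iv D40161) (iv F185086)
def n42223 : Q := act 9 n41237
theorem D42223 : act 9 n41237 = n42223 := rfl
theorem F193937 : act 3 n42223 = n41242 := d29_1 D42223 (iv D41242) (iv F189593)
theorem F193938 : act 7 n42223 = n41238 := d43_1 D42223 (iv D41238) D41237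
def n42224 : Q := act 5 n41245
theorem D42224 : act 5 n41245 = n42224 := rfl
theorem F193939 : act 2 n42224 = n41247 := d19_1 D42224 (iv D41247) (iv F189609)
def n42225 : Q := act 4 n41247
theorem D42225 : act 4 n41247 = n42225 := rfl
theorem F193940 : act 5 n42225 = n42225 := d30_2 D41247 D42225 (iv D42225) (iv D41247) F185121
def n42226 : Q := act 7 n41250
theorem D42226 : act 7 n41250 = n42226 := rfl
theorem F193941 : act 2 n42226 = n41251 := d21_1 D42226 (iv D41251) (iv F189631)
theorem F193942 : act 4 n42226 = n42226 := d32_1 D42226 (iv D42226) F189632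
theorem F193943 : act 6 n42226 = n42226 := d39_1 D42226 (iv D42226) (iv D41250) F185142 D41250
def n42227 : Q := act 9 n41251
theorem D42227 : act 9 n41251 = n42227 := rfl
theorem F193944 : act 3 n42227 = n41253 := d29_1 D42227 (iv D41253) (iv F189633)
theorem F193945 : act 4 n42227 = n42227 := d34_1 D42227 (iv D42227) F189634
theorem F193946 : act 6 n42227 = n42227 := d41_1 D42227 (iv D42227) F189635
theorem F193947 : act 7 n42227 = n41252 := d43_1 D42227 (iv D41252) D41251
def n42228 : Q := act 9 n41254
theorem D42228 : act 9 n41254 = n42228 := rfl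
theorem F193948 : act 0 n42228 = n41858 := d8_1 D42228 (iv D41858) (iv F189642)
theorem F193949 : act 1 n42228 = n41343 := d16_1 D42228 (iv D41343) (iv F189643)
theorem F193950 : act 2 n42228 = n41326 := d23_1 D42228 (iv D41326) (iv F189644)
theorem F193951 : act 3 n42228 = n41276 := d29_1 D42228 (iv D41276) (iv F189645)
theorem F193952 : act 4 n42228 = n41255 := d34_1 D42228 (iv D41255) (iv F189646)
theorem F193953 : act 5 n42228 = n42140 := d38_1 D42228 (iv D42140) (iv F189647)
theorem F193954 : act 6 n42228 = n41564 := d41_1 D42228 (iv D41564) (iv F189648)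
theorem F193955 : act 7 n42228 = n42137 := d43_1 D42228 (iv D42137) (iv F189649)
theorem F193956 : act 8 n42228 = n42020 := d44_1 D42228 (iv D42020) F189004 (iv F185169) D41254
def n42229 : Q := act 9 n41256
theorem D42229 : act 9 n41256 = n42229 := rfl
theorem F193957 : act 0 n42229 = n41859 := d8_1 D42229 (iv D41859) (iv F189658)
theorem F193958 : act 1 n42229 = n41441 := d16_1 D42229 (iv D41441) (iv F189659)
theorem F193959 : act 2 n42229 = n41882 := d23_1 D42229 (iv D41882) (iv F189660)
theorem F193960 : act 3 n42229 = n41348 := d29_1 D42229 (iv D41348) (iv F189661)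
theorem F193961 : act 4 n42229 = n41472 := d34_1 D42229 (iv D41472) (iv F189662)
theorem F193962 : act 5 n42229 = n41589 := d38_1 D42229 (iv D41589) (iv F189663)
theorem F193963 : act 6 n42229 = n41866 := d41_1 D42229 (iv D41866) (iv F189664)
theorem F193964 : act 7 n42229 = n41257 := d43_1 D42229 (iv D41257) D41256
theorem F193965 : act 8 n42229 = n41986 := d44_1 D42229 (iv D41986) (iv D40962) F185206 (iv F189665)
def n42230 : Q := act 8 n41257
theorem D42230 : act 8 n41257 = n42230 := rfl
theorem F193966 : act 0 n42230 = n41860 := d7_1 D42230 (iv D41860) (iv F189666)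
theorem F193967 : act 1 n42230 = n41508 := d15_1 D42230 F191185 (iv F189667)
theorem F193968 : act 2 n42230 = n42145 := d22_1 D42230 F193772 (iv F189668)
theorem F193969 : act 3 n42230 = n41349 := d28_1 D42230 (iv D41349) (iv F189669)
theorem F193970 : act 4 n42230 = n41520 := d33_1 D42230 F191247 (iv F189670)
theorem F193971 : act 6 n42230 = n41258 := d40_1 D42230 (iv D41258) (iv F189672)
theorem F193972 : act 7 n42230 = n41986 := d42_1 D42230 (iv F193965) F193964
theorem F193973 : act 9 n42230 = n41259 := d44_2 D41257 D42230 (iv D41259) (iv D40195) (iv F185191)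
def n42231 : Q := act 5 n41259
theorem D42231 : act 5 n41259 = n42231 := rfl
theorem F193974 : act 0 n42231 = n41821 := d4_1 D42231 F192677 (iv F189681)
theorem F193975 : act 1 n42231 = n41264 := d12_1 D42231 F189720 (iv F189682)
theorem F193976 : act 2 n42231 = n41996 := d19_1 D42231 F193270 (iv F189683)
theorem F193977 : act 3 n42231 = n41262 := d25_1 D42231 F189707 (iv F189684)
theorem F193978 : act 6 n42231 = n41626 := d35_2 (iv F189686) D42231 F191813 F187540 (iv F185220)
theorem F193979 : act 7 n42231 = n41775 := d36_2 (iv F189687) D42231 F192480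
theorem F193980 : act 8 n42231 = n41260 := d37_2 D41259 D42231 (iv D41260) (iv D40197) (iv F185212)
def n42232 : Q := act 4 n41260
theorem D42232 : act 4 n41260 = n42232 := rfl
theorem F193981 : act 0 n42232 = n41820 := d3_1 D42232 F192672 (iv F189688)
theorem F193982 : act 1 n42232 = n41263 := d11_1 D42232 (iv D41263) (iv F189689)
theorem F193983 : act 2 n42232 = n41999 := d18_1 D42232 F193284 (iv F189690)
theorem F193984 : act 3 n42232 = n41663 := d24_1 D42232 F192009 F187525 (iv F185241) (iv F189691)
theorem F193985 : act 5 n42232 = n41261 := d30_2 D41260 D42232 (iv D41261) (iv D40198) (iv F185226)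
theorem F193986 : act 6 n42232 = n41625 := d31_2 (iv F189692) D42232 (iv D41625)
theorem F193987 : act 7 n42232 = n41774 := d32_2 (iv F189693) D42232 (iv D41774)
theorem F193988 : act 9 n42232 = n41593 := d34_2 (iv F189694) D42232 (iv D41593)
def n42233 : Q := act 9 n41262
theorem D42233 : act 9 n41262 = n42233 := rfl
theorem F193989 : act 0 n42233 = n41824 := d8_1 D42233 F192689 (iv F189703)
theorem F193990 : act 1 n42233 = n41266 := d16_1 D42233 (iv D41266) (iv F189704)
theorem F193991 : act 2 n42233 = n41668 := d23_1 D42233 (iv D41668) (iv F189705)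
theorem F193992 : act 4 n42233 = n41669 := d34_1 D42233 F192034 (iv F189706)
theorem F193993 : act 5 n42233 = n41349 := d38_1 D42233 F190232 (iv F189707)
theorem F193994 : act 6 n42233 = n41627 := d41_1 D42233 (iv D41627) (iv F189708)
theorem F193995 : act 7 n42233 = n41776 := d43_1 D42233 (iv D41776) (iv F189709)
theorem F193996 : act 8 n42233 = n41667 := d44_1 D42233 (iv D41667) F187549 (iv F185244) D41262
def n42234 : Q := act 8 n41263
theorem D42234 : act 8 n41263 = n42234 := rfl
theorem F193997 : act 0 n42234 = n41271 := d7_1 D42234 (iv D41271) (iv F189710)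
theorem F193998 : act 2 n42234 = n41509 := d22_1 D42234 F191191 (iv F189711)
theorem F193999 : act 3 n42234 = n41786 := d28_1 D42234 (iv D41786) (iv F189712)
theorem F194000 : act 4 n42234 = n41264 := d33_1 D42234 (iv D41264) D41263
theorem F194001 : act 5 n42234 = n41526 := d37_1 D42234 F191281 F186808 (iv F186690) (iv F189713)
theorem F194002 : act 6 n42234 = n41628 := d40_1 D42234 (iv D41628) (iv F189714)
theorem F194003 : act 7 n42234 = n41777 := d42_1 D42234 (iv D41777) (iv F189715)
def n42235 : Q := act 9 n41264
theorem D42235 : act 9 n41264 = n42235 := rfl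
theorem F194004 : act 0 n42235 = n41272 := d8_1 D42235 (iv D41272) (iv F189717)
theorem F194005 : act 2 n42235 = n41510 := d23_1 D42235 (iv D41510) (iv F189718)
theorem F194006 : act 3 n42235 = n41266 := d29_1 D42235 (iv D41266) (iv F189719)
theorem F194007 : act 5 n42235 = n41508 := d38_1 D42235 (iv D41508) (iv F189720)
theorem F194008 : act 6 n42235 = n41629 := d41_1 D42235 (iv D41629) (iv F189721)
theorem F194009 : act 7 n42235 = n41778 := d43_1 D42235 (iv D41778) (iv F189722)
theorem F194010 : act 8 n42235 = n41788 := d44_1 D42235 (iv D41788) F188037 (iv F185250) D41264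
def n42236 : Q := act 9 n41265
theorem D42236 : act 9 n41265 = n42236 := rfl
theorem F194011 : act 0 n42236 = n41274 := d8_1 D42236 (iv D41274) (iv F189723)
theorem F194012 : act 1 n42236 = n41349 := d16_1 D42236 F190232 (iv F189724)
theorem F194013 : act 2 n42236 = n41268 := d23_1 D42236 (iv D41268) (iv F189725)
theorem F194014 : act 3 n42236 = n41508 := d29_1 D42236 (iv D41508) (iv F189726)
theorem F194015 : act 4 n42236 = n41973 := d34_1 D42236 F193178 (iv F189727)
theorem F194016 : act 5 n42236 = n41266 := d38_1 D42236 (iv D41266) D41265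
theorem F194017 : act 6 n42236 = n41279 := d41_1 D42236 F189820 (iv F189728)
theorem F194018 : act 7 n42236 = n41780 := d43_1 D42236 (iv D41780) (iv F189729)
theorem F194019 : act 8 n42236 = n41278 := d44_1 D42236 (iv D41278) F185338 (iv F185263) (iv F189730)
def n42237 : Q := act 9 n41267
theorem D42237 : act 9 n41267 = n42237 := rfl
theorem F194020 : act 0 n42237 = n41276 := d8_1 D42237 (iv D41276) (iv F189737)
theorem F194021 : act 1 n42237 = n41863 := d16_1 D42237 (iv D41863) (iv F189738)
theorem F194022 : act 2 n42237 = n41973 := d23_1 D42237 F193178 (iv F189739)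
theorem F194023 : act 3 n42237 = n41858 := d29_1 D42237 (iv D41858) (iv F189740)
theorem F194024 : act 4 n42237 = n41268 := d34_1 D42237 (iv D41268) D41267
theorem F194025 : act 5 n42237 = n41957 := d38_1 D42237 F193136 (iv F189741)
theorem F194026 : act 6 n42237 = n42079 := d41_1 D42237 (iv D42079) (iv F189742)
theorem F194027 : act 7 n42237 = n41783 := d43_1 D42237 (iv D41783) (iv F189743)
def n42238 : Q := act 8 n41268
theorem D42238 : act 8 n41268 = n42238 := rfl
theorem F194028 : act 0 n42238 = n41279 := d7_1 D42238 (iv D41279) (iv F189745)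
theorem F194029 : act 1 n42238 = n41864 := d15_1 D42238 (iv D41864) (iv F189746)
theorem F194030 : act 2 n42238 = n41278 := d22_1 D42238 (iv F194019) F194013
theorem F194031 : act 3 n42238 = n41504 := d28_1 D42238 F191159 (iv F189747)
theorem F194032 : act 5 n42238 = n41703 := d37_1 D42238 F192170 F188221 (iv F185276) (iv F189748)
theorem F194033 : act 6 n42238 = n41274 := d40_1 D42238 F189792 (iv F189749)
theorem F194034 : act 7 n42238 = n41785 := d42_1 D42238 (iv D41785) (iv F189750)
theorem F194035 : act 9 n42238 = n41270 := d44_2 D41268 D42238 (iv D41270) (iv D40206) (iv F185269)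
def n42239 : Q := act 8 n41269
theorem D42239 : act 8 n41269 = n42239 := rfl
theorem F194036 : act 0 n42239 = n41281 := d7_1 D42239 (iv D41281) (iv F189751)
theorem F194037 : act 1 n42239 = n41865 := d15_1 D42239 (iv D41865) (iv F189752)
theorem F194038 : act 2 n42239 = n41275 := d22_1 D42239 F189797 (iv F189753)
theorem F194039 : act 3 n42239 = n41777 := d28_1 D42239 (iv D41777) (iv F189754)
theorem F194040 : act 4 n42239 = n41270 := d33_1 D42239 (iv D41270) (iv F189755)
theorem F194041 : act 5 n42239 = n41796 := d37_1 D42239 (iv D41796) F188095 (iv F185298) (iv F189756)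
theorem F194042 : act 6 n42239 = n41273 := d40_1 D42239 F189786 (iv F189757)
theorem F194043 : act 7 n42239 = n41786 := d42_1 D42239 (iv D41786) (iv F189758)
def n42240 : Q := act 9 n41271
theorem D42240 : act 9 n41271 = n42240 := rfl
theorem F194044 : act 1 n42240 = n42222 := d16_1 D42240 F193936 (iv F189766)
theorem F194045 : act 2 n42240 = n41988 := d23_1 D42240 (iv D41988) (iv F189767)
theorem F194046 : act 3 n42240 = n42138 := d29_1 D42240 (iv D42138) (iv F189768)
theorem F194047 : act 4 n42240 = n41272 := d34_1 D42240 (iv D41272) (iv F189769)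
theorem F194048 : act 5 n42240 = n42093 := d38_1 D42240 (iv D42093) (iv F189770)
theorem F194049 : act 6 n42240 = n41700 := d41_1 D42240 (iv D41700) (iv F189771)
theorem F194050 : act 7 n42240 = n42020 := d43_1 D42240 (iv D42020) (iv F189772)
theorem F194051 : act 8 n42240 = n42137 := d44_1 D42240 (iv D42137) (iv D41134) (iv F185305) D41271
def n42241 : Q := act 9 n41273
theorem D42241 : act 9 n41273 = n42241 := rfl
theorem F194052 : act 0 n42241 = n41973 := d8_1 D42241 F193178 (iv F189780)
theorem F194053 : act 1 n42241 = n42205 := d16_1 D42241 F193904 (iv F189781)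
theorem F194054 : act 2 n42241 = n41276 := d23_1 D42241 (iv D41276) (iv F189782)
theorem F194055 : act 3 n42241 = n42091 := d29_1 D42241 (iv D42091) (iv F189783)
theorem F194056 : act 4 n42241 = n41274 := d34_1 D42241 (iv D41274) D41273
theorem F194057 : act 5 n42241 = n41347 := d38_1 D42241 F190225 (iv F189784)
theorem F194058 : act 7 n42241 = n42019 := d43_1 D42241 (iv D42019) (iv F189785)
theorem F194059 : act 8 n42241 = n42079 := d44_1 D42241 (iv D42079) (iv D41060) (iv F185329) (iv F189786)
def n42242 : Q := act 7 n41275
theorem D42242 : act 7 n41275 = n42242 := rfl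
theorem F194060 : act 0 n42242 = n42002 := d6_1 D42242 F193304 (iv F189793)
theorem F194061 : act 1 n42242 = n41345 := d14_1 D42242 (iv D41345) (iv F189794)
theorem F194062 : act 2 n42242 = n41786 := d21_1 D42242 (iv F194043) F194038
theorem F194063 : act 3 n42242 = n41477 := d27_1 D42242 F191025 (iv F189795)
theorem F194064 : act 4 n42242 = n41277 := d32_1 D42242 (iv D41277) (iv F189796)
theorem F194065 : act 5 n42242 = n41754 := d36_1 D42242 F192386 F189798
theorem F194066 : act 6 n42242 = n41867 := d39_1 D42242 F192874 F188505 (iv F185332) D41275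
theorem F194067 : act 8 n42242 = n41280 := d42_2 (iv F189797) D42242 (iv D41280)
def n42243 : Q := act 9 n41275
theorem D42243 : act 9 n41275 = n42243 := rfl
theorem F194068 : act 0 n42243 = n42079 := d8_1 D42243 (iv D42079) (iv F189793)
theorem F194069 : act 1 n42243 = n41346 := d16_1 D42243 (iv D41346) (iv F189794)
theorem F194070 : act 3 n42243 = n41564 := d29_1 D42243 (iv D41564) (iv F189795)
theorem F194071 : act 4 n42243 = n41278 := d34_1 D42243 (iv D41278) (iv F189796)
theorem F194072 : act 5 n42243 = n41802 := d38_1 D42243 F192602 F189798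
theorem F194073 : act 6 n42243 = n41276 := d41_1 D42243 (iv D41276) D41275
theorem F194074 : act 8 n42243 = n41973 := d44_1 D42243 F193178 F188775 F185348 (iv F189797)
def n42244 : Q := act 8 n41276
theorem D42244 : act 8 n41276 = n42244 := rfl
theorem F194075 : act 1 n42244 = n41347 := d15_1 D42244 (iv D41347) (iv F189799)
theorem F194076 : act 2 n42244 = n42079 := d22_1 D42244 (iv F194059) F194054
theorem F194077 : act 3 n42244 = n42020 := d28_1 D42244 (iv F193956) F193951
theorem F194078 : act 4 n42244 = n41279 := d33_1 D42244 (iv D41279) (iv F189800)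
theorem F194079 : act 5 n42244 = n42205 := d37_1 D42244 (iv D42205) (iv F190164) F190165 (iv F189801)
theorem F194080 : act 6 n42244 = n41973 := d40_1 D42244 (iv F194074) F194073
theorem F194081 : act 7 n42244 = n42138 := d42_1 D42244 F193752 (iv F189802)
theorem F194082 : act 9 n42244 = n41281 := d44_2 D41276 D42244 (iv D41281) (iv D40217) (iv F185333)
def n42245 : Q := act 9 n41277
theorem D42245 : act 9 n41277 = n42245 := rfl
theorem F194083 : act 0 n42245 = n42003 := d8_1 D42245 (iv D42003) (iv F189803)
theorem F194084 : act 1 n42245 = n41348 := d16_1 D42245 (iv D41348) (iv F189804)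
theorem F194085 : act 2 n42245 = n41785 := d23_1 D42245 F192521 (iv F189805)
theorem F194086 : act 3 n42245 = n41441 := d29_1 D42245 (iv D41441) (iv F189806)
theorem F194087 : act 5 n42245 = n41705 := d38_1 D42245 (iv D41705) (iv F189807)
theorem F194088 : act 6 n42245 = n41868 := d41_1 D42245 (iv D41868) (iv F189808)
theorem F194089 : act 7 n42245 = n41278 := d43_1 D42245 (iv D41278) D41277
theorem F194090 : act 8 n42245 = n41780 := d44_1 D42245 (iv D41780) F187992 (iv F185362) (iv F189809)
def n42246 : Q := act 8 n41282
theorem D42246 : act 8 n41282 = n42246 := rfl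
theorem F194091 : act 0 n42246 = n41883 := d7_1 D42246 (iv D41883) (iv F189836)
theorem F194092 : act 1 n42246 = n42069 := d15_1 D42246 (iv D42069) (iv F189837)
theorem F194093 : act 2 n42246 = n41670 := d22_1 D42246 (iv D41670) (iv F189838)
theorem F194094 : act 3 n42246 = n42146 := d28_1 D42246 (iv D42146) (iv F189839)
theorem F194095 : act 4 n42246 = n41283 := d33_1 D42246 (iv D41283) D41282
theorem F194096 : act 6 n42246 = n41307 := d40_1 D42246 (iv D41307) (iv F189841)
theorem F194097 : act 7 n42246 = n41711 := d42_1 D42246 (iv D41711) (iv F189842)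
def n42247 : Q := act 5 n41283
theorem D42247 : act 5 n41283 = n42247 := rfl
theorem F194098 : act 0 n42247 = n41884 := d4_1 D42247 (iv D41884) (iv F189844)
theorem F194099 : act 1 n42247 = n42070 := d12_1 D42247 (iv D42070) (iv F189845)
theorem F194100 : act 2 n42247 = n41671 := d19_1 D42247 (iv D41671) (iv F189846)
theorem F194101 : act 3 n42247 = n41285 := d25_1 D42247 (iv D41285) (iv F189847)
theorem F194102 : act 6 n42247 = n41893 := d35_2 (iv F189848) D42247 F192946 F188674 (iv F185513)
theorem F194103 : act 7 n42247 = n41712 := d36_2 (iv F189849) D42247 (iv D41712)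
theorem F194104 : act 8 n42247 = n41284 := d37_2 D41283 D42247 (iv D41284) (iv D40222) D40221
def n42248 : Q := act 9 n41283
theorem D42248 : act 9 n41283 = n42248 := rfl
theorem F194105 : act 0 n42248 = n41885 := d8_1 D42248 (iv D41885) (iv F189844)
theorem F194106 : act 1 n42248 = n42068 := d16_1 D42248 F193549 (iv F189845)
theorem F194107 : act 2 n42248 = n41672 := d23_1 D42248 (iv D41672) (iv F189846)
theorem F194108 : act 3 n42248 = n41286 := d29_1 D42248 (iv D41286) (iv F189847)
theorem F194109 : act 6 n42248 = n41308 := d41_1 D42248 (iv D41308) (iv F189848)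
theorem F194110 : act 7 n42248 = n41713 := d43_1 D42248 (iv D41713) (iv F189849)
theorem F194111 : act 8 n42248 = n41403 := d44_1 D42248 (iv D41403) (iv D40334) (iv F185382) D41283
def n42249 : Q := act 4 n41284
theorem D42249 : act 4 n41284 = n42249 := rfl
theorem F194112 : act 0 n42249 = n41886 := d3_1 D42249 (iv D41886) (iv F189850)
theorem F194113 : act 1 n42249 = n42071 := d11_1 D42249 (iv D42071) (iv F189851)
theorem F194114 : act 2 n42249 = n41673 := d18_1 D42249 (iv D41673) (iv F189852)
theorem F194115 : act 5 n42249 = n42249 := d30_2 D41284 D42249 (iv D42249) (iv D41284) F185387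
theorem F194116 : act 6 n42249 = n41892 := d31_2 (iv F189854) D42249 F192942
theorem F194117 : act 7 n42249 = n41714 := d32_2 (iv F189855) D42249 (iv D41714)
theorem F194118 : act 9 n42249 = n41891 := d34_2 (iv F189856) D42249 F192939
def n42250 : Q := act 4 n41285
theorem D42250 : act 4 n41285 = n42250 := rfl
theorem F194119 : act 0 n42250 = n41887 := d3_1 D42250 (iv D41887) (iv F189857)
theorem F194120 : act 1 n42250 = n42204 := d11_1 D42250 (iv D42204) (iv F189858)
theorem F194121 : act 2 n42250 = n41293 := d18_1 D42250 (iv D41293) (iv F189859)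
theorem F194122 : act 5 n42250 = n42084 := d30_2 D41285 D42250 F193603 F189211 (iv F185394)
theorem F194123 : act 7 n42250 = n41715 := d32_2 (iv F189860) D42250 (iv D41715)
theorem F194124 : act 8 n42250 = n41287 := d33_2 (iv F189861) D42250 (iv D41287)
def n42251 : Q := act 6 n41285
theorem D42251 : act 6 n41285 = n42251 := rfl
theorem F194125 : act 0 n42251 = n41888 := d5_1 D42251 (iv D41888) (iv F189857)
theorem F194126 : act 1 n42251 = n42201 := d13_1 D42251 F193896 (iv F189858)
theorem F194127 : act 2 n42251 = n41294 := d20_1 D42251 (iv D41294) (iv F189859)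
theorem F194128 : act 3 n42251 = n41893 := d26_1 D42251 (iv F194102) F194101
theorem F194129 : act 5 n42251 = n41310 := d35_1 D42251 (iv D41310) (iv D40243) (iv F185395) D41285
theorem F194130 : act 8 n42251 = n41288 := d40_2 (iv F189861) D42251 (iv D41288)
theorem F194131 : act 7 n42251 = n42157 := d45_5 F191650 F189413 (iv F185394) D41285 D42251 (iv D42157) (iv F189939) F189940 (iv F192100) F192101 F188347 (iv D40801) F183722 F179191 (iv F179221) F179222 (iv F177132) (iv D38213) (iv D36818) (iv F169711) F169707 F168082 (iv F174340) F175840 F175838 (iv F177711) (iv D38311) (iv F174934) F174935 F168540 F161424 F153596 (iv D32697) F142673 F142670 F115928 F92055 (iv F85729) (iv D18927) F67874 F56055 F44508 F44509 D9581 F44967 D12255 D15751 (iv F91110) F91108 (iv F96126) F96127 (iv F120984) D30975 (iv F151343) D34455 (iv F167492) (iv F173433) (iv F174826) D39081 F180456 (iv F182749) D40579 (iv F191648)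
def n42252 : Q := act 9 n41285
theorem D42252 : act 9 n41285 = n42252 := rfl
theorem F194132 : act 0 n42252 = n41889 := d8_1 D42252 (iv D41889) (iv F189857)
theorem F194133 : act 1 n42252 = n42203 := d16_1 D42252 F193900 (iv F189858)
theorem F194134 : act 2 n42252 = n41295 := d23_1 D42252 (iv D41295) (iv F189859)
theorem F194135 : act 5 n42252 = n41286 := d38_1 D42252 (iv D41286) D41285
theorem F194136 : act 7 n42252 = n41716 := d43_1 D42252 (iv D41716) (iv F189860)
def n42253 : Q := act 3 n41287
theorem D42253 : act 3 n41287 = n42253 := rfl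
theorem F194137 : act 0 n42253 = n41890 := d2_1 D42253 (iv D41890) (iv F189869)
theorem F194138 : act 1 n42253 = n41985 := d10_1 D42253 F193213 (iv F189870)
theorem F194139 : act 5 n42253 = n41290 := d25_2 (iv F189872) D42253 (iv D41290)
theorem F194140 : act 7 n42253 = n41717 := d27_2 (iv F189873) D42253 (iv D41717)
def n42254 : Q := act 6 n41287
theorem D42254 : act 6 n41287 = n42254 := rfl
theorem F194141 : act 0 n42254 = n41891 := d5_1 D42254 (iv D41891) (iv F189869)
theorem F194142 : act 1 n42254 = n42202 := d13_1 D42254 F193899 (iv F189870)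
theorem F194143 : act 2 n42254 = n41297 := d20_1 D42254 (iv D41297) (iv F189871)
theorem F194144 : act 4 n42254 = n41288 := d31_1 D42254 (iv D41288) D41287
theorem F194145 : act 5 n42254 = n42254 := d35_1 D42254 (iv D42254) F189872 F185420 (iv F189872)
theorem F194146 : act 7 n42254 = n42135 := d39_2 (iv F189873) D42254 (iv D42135) (iv D41131) (iv F187737)
theorem F194147 : act 9 n41886 = n42254 := d43_0 F194146 F193743 (iv F192926)
def n42255 : Q := act 9 n41287
theorem D42255 : act 9 n41287 = n42255 := rfl
theorem F194148 : act 0 n42255 = n41892 := d8_1 D42255 (iv D41892) (iv F189869)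
theorem F194149 : act 1 n42255 = n41975 := d16_1 D42255 F193184 (iv F189870)
theorem F194150 : act 2 n42255 = n41298 := d23_1 D42255 (iv D41298) (iv F189871)
theorem F194151 : act 4 n42255 = n41289 := d34_1 D42255 (iv D41289) D41287
theorem F194152 : act 5 n42255 = n41291 := d38_1 D42255 (iv D41291) (iv F189872)
theorem F194153 : act 6 n42255 = n41886 := d41_1 D42255 F194147 (iv D42254)
theorem F194154 : act 7 n42255 = n41718 := d43_1 D42255 (iv D41718) (iv F189873)
def n42256 : Q := act 8 n41289
theorem D42256 : act 8 n41289 = n42256 := rfl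
theorem F194155 : act 0 n42256 = n41893 := d7_1 D42256 (iv D41893) (iv F189881)
theorem F194156 : act 1 n42256 = n42184 := d15_1 D42256 F193852 (iv F189882)
theorem F194157 : act 2 n42256 = n41301 := d22_1 D42256 (iv D41301) (iv F189883)
theorem F194158 : act 3 n42256 = n41888 := d28_1 D42256 F192932 (iv F189884)
theorem F194159 : act 5 n42256 = n41409 := d37_1 D42256 (iv D41409) F186089 (iv F185408) (iv F189885)
theorem F194160 : act 6 n42256 = n41884 := d40_1 D42256 F192921 (iv F189886)
theorem F194161 : act 7 n42256 = n41719 := d42_1 D42256 (iv D41719) (iv F189887)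
def n42257 : Q := act 2 n41290
theorem D42257 : act 2 n41290 = n42257 := rfl
theorem F194162 : act 0 n42257 = n41894 := d1_1 D42257 (iv D41894) (iv F189888)
theorem F194163 : act 3 n42257 = n41302 := d17_2 D41290 D42257 (iv D41302) (iv D40236) (iv F185419)
theorem F194164 : act 4 n42257 = n42257 := d18_2 F189890 D42257 (iv D42257)
theorem F194165 : act 6 n42257 = n42257 := d20_2 F189891 D42257 (iv D42257)
theorem F194166 : act 7 n42257 = n41720 := d21_2 (iv F189892) D42257 (iv D41720)
theorem F194167 : act 8 n42257 = n41835 := d22_2 (iv F189893) D42257 F192723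
def n42258 : Q := act 9 n41290
theorem D42258 : act 9 n41290 = n42258 := rfl
theorem F194168 : act 0 n42258 = n41895 := d8_1 D42258 (iv D41895) (iv F189888)
theorem F194169 : act 1 n42258 = n41978 := d16_1 D42258 F193193 (iv F189889)
theorem F194170 : act 3 n42258 = n41291 := d29_1 D42258 (iv D41291) D41290
theorem F194171 : act 4 n42258 = n42258 := d34_1 D42258 (iv D42258) F189890
theorem F194172 : act 6 n42258 = n42258 := d41_1 D42258 (iv D42258) F189891
theorem F194173 : act 7 n42258 = n41721 := d43_1 D42258 (iv D41721) (iv F189892)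
def n42259 : Q := act 8 n41291
theorem D42259 : act 8 n41291 = n42259 := rfl
theorem F194174 : act 0 n42259 = n41896 := d7_1 D42259 (iv D41896) (iv F189894)
theorem F194175 : act 1 n42259 = n41919 := d15_1 D42259 F193040 (iv F189895)
theorem F194176 : act 2 n42259 = n41304 := d22_1 D42259 (iv D41304) (iv F189896)
theorem F194177 : act 4 n42259 = n41292 := d33_1 D42259 (iv D41292) (iv F189897)
theorem F194178 : act 6 n42259 = n42259 := d40_1 D42259 (iv D42259) F189898
theorem F194179 : act 7 n42259 = n41722 := d42_1 D42259 (iv D41722) (iv F189899)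
theorem F194180 : act 9 n42259 = n41980 := d44_2 D41291 D42259 (iv D41980) F188803 (iv F185422)
def n42260 : Q := act 3 n41293
theorem D42260 : act 3 n41293 = n42260 := rfl
theorem F194181 : act 0 n42260 = n41897 := d2_1 D42260 (iv D41897) (iv F189908)
theorem F194182 : act 1 n42260 = n41535 := d10_1 D42260 (iv D41535) (iv F189909)
theorem F194183 : act 4 n42260 = n41678 := d24_2 D41293 D42260 (iv D41678) (iv D40615) (iv F185432)
theorem F194184 : act 5 n42260 = n41758 := d25_2 (iv F189910) D42260 F192396
theorem F194185 : act 7 n42260 = n41723 := d27_2 (iv F189911) D42260 (iv D41723)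
theorem F194186 : act 8 n42260 = n41296 := d28_2 (iv F189912) D42260 (iv D41296)
def n42261 : Q := act 6 n41293
theorem D42261 : act 6 n41293 = n42261 := rfl
theorem F194187 : act 0 n42261 = n41898 := d5_1 D42261 (iv D41898) (iv F189908)
theorem F194188 : act 1 n42261 = n41536 := d13_1 D42261 (iv D41536) (iv F189909)
theorem F194189 : act 4 n42261 = n41294 := d31_1 D42261 (iv D41294) D41293
theorem F194190 : act 8 n42261 = n41297 := d40_2 (iv F189912) D42261 (iv D41297)
def n42262 : Q := act 9 n41293
theorem D42262 : act 9 n41293 = n42262 := rfl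
theorem F194191 : act 0 n42262 = n41899 := d8_1 D42262 (iv D41899) (iv F189908)
theorem F194192 : act 1 n42262 = n41537 := d16_1 D42262 (iv D41537) (iv F189909)
theorem F194193 : act 4 n42262 = n41295 := d34_1 D42262 (iv D41295) D41293
theorem F194194 : act 5 n42262 = n42149 := d38_1 D42262 (iv D42149) (iv F189910)
theorem F194195 : act 7 n42262 = n41725 := d43_1 D42262 (iv D41725) (iv F189911)
def n42263 : Q := act 7 n41294
theorem D42263 : act 7 n41294 = n42263 := rfl
theorem F194196 : act 0 n42263 = n41900 := d6_1 D42263 (iv D41900) (iv F189913)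
theorem F194197 : act 1 n42263 = n41538 := d14_1 D42263 (iv D41538) (iv F189914)
theorem F194198 : act 2 n42263 = n42157 := d21_1 D42263 (iv F194131) F194127
theorem F194199 : act 3 n42263 = n41681 := d27_1 D42263 (iv D41681) (iv F189915)
theorem F194200 : act 5 n42263 = n41317 := d36_1 D42263 (iv D41317) (iv F189916)
theorem F194201 : act 6 n42263 = n41726 := d39_1 D42263 (iv D41726) (iv D40659) (iv F185433) D41294
theorem F194202 : act 8 n42263 = n41299 := d42_2 (iv F189917) D42263 (iv D41299)
def n42264 : Q := act 9 n41294
theorem D42264 : act 9 n41294 = n42264 := rfl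
theorem F194203 : act 0 n42264 = n41901 := d8_1 D42264 (iv D41901) (iv F189913)
theorem F194204 : act 1 n42264 = n41539 := d16_1 D42264 (iv D41539) (iv F189914)
theorem F194205 : act 3 n42264 = n41682 := d29_1 D42264 (iv D41682) (iv F189915)
theorem F194206 : act 5 n42264 = n41318 := d38_1 D42264 (iv D41318) (iv F189916)
theorem F194207 : act 6 n42264 = n41295 := d41_1 D42264 (iv D41295) D41294
def n42265 : Q := act 8 n41295
theorem D42265 : act 8 n41295 = n42265 := rfl
theorem F194208 : act 0 n42265 = n41902 := d7_1 D42265 (iv D41902) (iv F189918)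
theorem F194209 : act 1 n42265 = n41540 := d15_1 D42265 (iv D41540) (iv F189919)
theorem F194210 : act 3 n42265 = n41683 := d28_1 D42265 (iv D41683) (iv F189920)
theorem F194211 : act 5 n42265 = n41418 := d37_1 D42265 (iv D41418) F186118 (iv F185441) (iv F189921)
theorem F194212 : act 7 n42265 = n41728 := d42_1 D42265 (iv D41728) (iv F189922)
theorem F194213 : act 9 n42265 = n41301 := d44_2 D41295 D42265 (iv D41301) (iv D40233) (iv F185434)
def n42266 : Q := act 2 n41296
theorem D42266 : act 2 n41296 = n42266 := rfl
theorem F194214 : act 0 n42266 = n41903 := d1_1 D42266 (iv D41903) (iv F189923)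
theorem F194215 : act 4 n42266 = n41684 := d18_2 (iv F189925) D42266 (iv D41684)
theorem F194216 : act 5 n42266 = n41302 := d19_2 (iv F189926) D42266 (iv D41302)
theorem F194217 : act 7 n42266 = n41729 := d21_2 (iv F189927) D42266 (iv D41729)
def n42267 : Q := act 6 n41296
theorem D42267 : act 6 n41296 = n42267 := rfl
theorem F194218 : act 0 n42267 = n41904 := d5_1 D42267 (iv D41904) (iv F189923)
theorem F194219 : act 1 n42267 = n41542 := d13_1 D42267 (iv D41542) (iv F189924)
theorem F194220 : act 3 n42267 = n41297 := d26_1 D42267 (iv D41297) D41296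
theorem F194221 : act 4 n42267 = n41685 := d31_1 D42267 (iv D41685) (iv F189925)
theorem F194222 : act 5 n42267 = n42267 := d35_1 D42267 (iv D42267) F189926 F185474 (iv F189926)
theorem F194223 : act 9 n42225 = n42267 := d34_0 F194221 F192097 D42225
def n42268 : Q := act 9 n41296
theorem D42268 : act 9 n41296 = n42268 := rfl
theorem F194224 : act 0 n42268 = n41905 := d8_1 D42268 (iv D41905) (iv F189923)
theorem F194225 : act 1 n42268 = n41543 := d16_1 D42268 (iv D41543) (iv F189924)
theorem F194226 : act 3 n42268 = n41298 := d29_1 D42268 (iv D41298) D41296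
theorem F194227 : act 4 n42268 = n41364 := d34_1 D42268 F190326 (iv F189925)
theorem F194228 : act 5 n42268 = n41303 := d38_1 D42268 (iv D41303) (iv F189926)
theorem F194229 : act 6 n42268 = n42225 := d41_1 D42268 F194223 (iv D42267)
theorem F194230 : act 7 n42268 = n41731 := d43_1 D42268 (iv D41731) (iv F189927)
def n42269 : Q := act 7 n41297
theorem D42269 : act 7 n41297 = n42269 := rfl
theorem F194231 : act 0 n42269 = n41906 := d6_1 D42269 (iv D41906) (iv F189928)
theorem F194232 : act 1 n42269 = n41544 := d14_1 D42269 (iv D41544) (iv F189929)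
theorem F194233 : act 2 n42269 = n42135 := d21_1 D42269 (iv F194146) F194143
theorem F194234 : act 4 n42269 = n41299 := d32_1 D42269 (iv D41299) (iv F189930)
theorem F194235 : act 5 n42269 = n42269 := d36_1 D42269 (iv D42269) F189931
theorem F194236 : act 6 n42269 = n41732 := d39_1 D42269 (iv D41732) (iv D40662) (iv F185445) D41297
theorem F194237 : act 9 n42027 = n42269 := d34_0 F194234 (iv F189943) D42027
def n42270 : Q := act 9 n41297
theorem D42270 : act 9 n41297 = n42270 := rfl
theorem F194238 : act 0 n42270 = n41673 := d8_1 D42270 F192050 (iv F189928)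
theorem F194239 : act 1 n42270 = n41545 := d16_1 D42270 (iv D41545) (iv F189929)
theorem F194240 : act 2 n42270 = n41886 := d23_1 D42270 F194147 F194143
theorem F194241 : act 3 n42270 = n42225 := d29_1 D42270 F194223 F194220
theorem F194242 : act 4 n42270 = n41300 := d34_1 D42270 (iv D41300) (iv F189930)
theorem F194243 : act 5 n42270 = n42270 := d38_1 D42270 (iv D42270) F189931
theorem F194244 : act 6 n42270 = n41298 := d41_1 D42270 (iv D41298) D41297
theorem F194245 : act 7 n42270 = n42027 := d43_1 D42270 F194237 (iv D42269)
def n42271 : Q := act 8 n41298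
theorem D42271 : act 8 n41298 = n42271 := rfl
theorem F194246 : act 0 n42271 = n41907 := d7_1 D42271 (iv D41907) (iv F189932)
theorem F194247 : act 1 n42271 = n41546 := d15_1 D42271 (iv D41546) (iv F189933)
theorem F194248 : act 4 n42271 = n41301 := d33_1 D42271 (iv D41301) (iv F189934)
theorem F194249 : act 7 n42271 = n41734 := d42_1 D42271 (iv D41734) (iv F189936)
def n42272 : Q := act 8 n41300
theorem D42272 : act 8 n41300 = n42272 := rfl
theorem F194250 : act 0 n42272 = n41671 := d7_1 D42272 F192042 (iv F189944)
theorem F194251 : act 1 n42272 = n41548 := d15_1 D42272 (iv D41548) (iv F189945)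
theorem F194252 : act 2 n42272 = n41884 := d22_1 D42272 F192921 (iv F189946)
theorem F194253 : act 3 n42272 = n41618 := d28_1 D42272 F191767 (iv F189947)
theorem F194254 : act 5 n42272 = n41617 := d37_1 D42272 (iv D41617) (iv D40552) (iv F185470) (iv F189948)
theorem F194255 : act 6 n42272 = n41301 := d40_1 D42272 (iv D41301) (iv F189949)
theorem F194256 : act 7 n42272 = n42025 := d42_1 D42272 F193407 (iv F189950)
def n42273 : Q := act 1 n41302
theorem D42273 : act 1 n41302 = n42273 := rfl
theorem F194257 : act 0 n42273 = n41919 := d0_1 D42273 (iv F194175) F194174 F192956 (iv F189956)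
theorem F194258 : act 2 n42273 = n41365 := d9_2 D41302 D42273 F190328 (iv D40480) (iv F185472)
theorem F194259 : act 4 n42273 = n41305 := d11_2 (iv F189957) D42273 (iv D41305)
theorem F194260 : act 6 n42273 = n42273 := d13_2 F189958 D42273 (iv D42273)
theorem F194261 : act 7 n42273 = n41363 := d14_2 (iv F189959) D42273 F190317
theorem F194262 : act 8 n42273 = n41367 := d15_2 (iv F189960) D42273 F190340
theorem F194263 : act 9 n41440 = n42273 := d44_0 F194262 F190344 F192741 (iv D41837) (iv F190791)
def n42274 : Q := act 9 n41302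
theorem D42274 : act 9 n41302 = n42274 := rfl
theorem F194264 : act 0 n42274 = n41908 := d8_1 D42274 (iv D41908) (iv F189956)
theorem F194265 : act 1 n42274 = n41440 := d16_1 D42274 F194263 (iv D42273)
theorem F194266 : act 2 n42274 = n41303 := d23_1 D42274 (iv D41303) D41302
theorem F194267 : act 4 n42274 = n41306 := d34_1 D42274 (iv D41306) (iv F189957)
theorem F194268 : act 6 n42274 = n42274 := d41_1 D42274 (iv D42274) F189958
theorem F194269 : act 7 n42274 = n41687 := d43_1 D42274 F192108 (iv F189959)
theorem F194270 : act 8 n42274 = n41596 := d44_1 D42274 F191617 F188377 (iv F188239) (iv F189960)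
def n42275 : Q := act 5 n41304
theorem D42275 : act 5 n41304 = n42275 := rfl
theorem F194271 : act 0 n42275 = n41909 := d4_1 D42275 (iv D41909) (iv F189968)
theorem F194272 : act 1 n42275 = n41550 := d12_1 D42275 (iv D41550) (iv F189969)
theorem F194273 : act 3 n42275 = n41558 := d25_1 D42275 F191432 (iv F189970)
theorem F194274 : act 4 n42275 = n41422 := d30_1 D42275 (iv D41422) F186157 (iv F185485) (iv F189971)
theorem F194275 : act 7 n42275 = n41736 := d36_2 (iv F189973) D42275 (iv D41736)
theorem F194276 : act 9 n42275 = n41981 := d38_2 (iv F189974) D42275 (iv D41981)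
theorem F194277 : act 6 n42156 = n42275 := d31_0 F194274 F190684 (iv F193792)
def n42276 : Q := act 5 n41307
theorem D42276 : act 5 n41307 = n42276 := rfl
theorem F194278 : act 0 n42276 = n41920 := d4_1 D42276 (iv D41920) (iv F189991)
theorem F194279 : act 1 n42276 = n42050 := d12_1 D42276 F193488 (iv F189992)
theorem F194280 : act 2 n42276 = n42072 := d19_1 D42276 F193557 (iv F189993)
theorem F194281 : act 3 n42276 = n42045 := d25_1 D42276 F193465 (iv F189994)
theorem F194282 : act 4 n42276 = n42081 := d30_1 D42276 F193594 F189230 (iv F185513) (iv F189995)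
theorem F194283 : act 7 n42276 = n41325 := d36_2 (iv F189996) D42276 (iv D41325)
theorem F194284 : act 8 n42276 = n41369 := d37_2 D41307 D42276 (iv D41369) (iv D40303) (iv F185506)
def n42277 : Q := act 9 n41307
theorem D42277 : act 9 n41307 = n42277 := rfl
theorem F194285 : act 0 n42277 = n41921 := d8_1 D42277 (iv D41921) (iv F189991)
theorem F194286 : act 1 n42277 = n42066 := d16_1 D42277 F193543 (iv F189992)
theorem F194287 : act 2 n42277 = n42137 := d23_1 D42277 (iv D42137) (iv F189993)
theorem F194288 : act 3 n42277 = n42185 := d29_1 D42277 (iv D42185) (iv F189994)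
theorem F194289 : act 4 n42277 = n41308 := d34_1 D42277 (iv D41308) (iv F189995)
theorem F194290 : act 7 n42277 = n41326 := d43_1 D42277 (iv D41326) (iv F189996)
theorem F194291 : act 8 n42277 = n41988 := d44_1 D42277 (iv D41988) F188849 (iv F185508) D41307
def n42278 : Q := act 3 n41309
theorem D42278 : act 3 n41309 = n42278 := rfl
theorem F194292 : act 0 n42278 = n41922 := d2_1 D42278 (iv D41922) (iv F190004)
theorem F194293 : act 1 n42278 = n42047 := d10_1 D42278 F193475 (iv F190005)
theorem F194294 : act 2 n42278 = n42109 := d17_1 D42278 F193675 F189313 (iv F185557) (iv F190006)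
theorem F194295 : act 4 n42278 = n42089 := d24_2 D41309 D42278 F193618 F189230 (iv F185518)
theorem F194296 : act 5 n42278 = n42043 := d25_2 (iv F190007) D42278 F193454
theorem F194297 : act 7 n42278 = n41333 := d27_2 (iv F190008) D42278 (iv D41333)
theorem F194298 : act 8 n42278 = n41312 := d28_2 (iv F190009) D42278 (iv D41312)
def n42279 : Q := act 6 n41309
theorem D42279 : act 6 n41309 = n42279 := rfl
theorem F194299 : act 0 n42279 = n41923 := d5_1 D42279 (iv D41923) (iv F190004)
theorem F194300 : act 1 n42279 = n42199 := d13_1 D42279 F193893 (iv F190005)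
theorem F194301 : act 2 n42279 = n41315 := d20_1 D42279 (iv D41315) (iv F190006)
theorem F194302 : act 4 n42279 = n41310 := d31_1 D42279 (iv D41310) D41309
theorem F194303 : act 8 n42279 = n41313 := d40_2 (iv F190009) D42279 (iv D41313)
def n42280 : Q := act 9 n41309
theorem D42280 : act 9 n41309 = n42280 := rfl
theorem F194304 : act 0 n42280 = n41924 := d8_1 D42280 (iv D41924) (iv F190004)
theorem F194305 : act 1 n42280 = n42194 := d16_1 D42280 F193879 (iv F190005)
theorem F194306 : act 2 n42280 = n41316 := d23_1 D42280 (iv D41316) (iv F190006)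
theorem F194307 : act 4 n42280 = n41311 := d34_1 D42280 (iv D41311) D41309
theorem F194308 : act 5 n42280 = n42187 := d38_1 D42280 (iv D42187) (iv F190007)
theorem F194309 : act 7 n42280 = n41335 := d43_1 D42280 (iv D41335) (iv F190008)
theorem F194310 : act 8 n42280 = n42074 := d44_1 D42280 (iv D42074) F189163 (iv F185532) (iv F190009)
def n42281 : Q := act 7 n41310
theorem D42281 : act 7 n41310 = n42281 := rfl
theorem F194311 : act 0 n42281 = n41925 := d6_1 D42281 (iv D41925) (iv F190010)
theorem F194312 : act 1 n42281 = n42200 := d14_1 D42281 F193895 (iv F190011)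
theorem F194313 : act 2 n42281 = n41317 := d21_1 D42281 (iv D41317) (iv F190012)
theorem F194314 : act 3 n42281 = n41911 := d27_1 D42281 F193006 (iv F190013)
theorem F194315 : act 5 n42281 = n42157 := d36_1 D42281 (iv F194131) F194129
theorem F194316 : act 6 n42281 = n41336 := d39_1 D42281 (iv D41336) (iv D40265) (iv F185519) D41310
theorem F194317 : act 8 n42281 = n41314 := d42_2 (iv F190014) D42281 (iv D41314)
def n42282 : Q := act 9 n41310
theorem D42282 : act 9 n41310 = n42282 := rfl
theorem F194318 : act 0 n42282 = n41926 := d8_1 D42282 (iv D41926) (iv F190010)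
theorem F194319 : act 1 n42282 = n42196 := d16_1 D42282 F193883 (iv F190011)
theorem F194320 : act 2 n42282 = n41318 := d23_1 D42282 (iv D41318) (iv F190012)
theorem F194321 : act 3 n42282 = n41936 := d29_1 D42282 (iv D41936) (iv F190013)
theorem F194322 : act 6 n42282 = n41311 := d41_1 D42282 (iv D41311) D41310
theorem F194323 : act 8 n42282 = n42076 := d44_1 D42282 (iv D42076) F189166 (iv F185538) (iv F190014)
def n42283 : Q := act 6 n41312
theorem D42283 : act 6 n41312 = n42283 := rfl
theorem F194324 : act 0 n42283 = n41927 := d5_1 D42283 (iv D41927) (iv F190022)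
theorem F194325 : act 1 n42283 = n42103 := d13_1 D42283 (iv D42103) (iv F190023)
theorem F194326 : act 2 n42283 = n42111 := d20_1 D42283 (iv D42111) (iv F190024)
theorem F194327 : act 3 n42283 = n41313 := d26_1 D42283 (iv D41313) D41312
theorem F194328 : act 4 n42283 = n41934 := d31_1 D42283 F193079 (iv F190025)
theorem F194329 : act 5 n42283 = n42283 := d35_1 D42283 (iv D42283) F190026 F185551 (iv F190026)
theorem F194330 : act 9 n42283 = n42077 := d41_2 (iv F190028) D42283 (iv D42077)
def n42284 : Q := act 7 n41313
theorem D42284 : act 7 n41313 = n42284 := rfl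
theorem F194331 : act 0 n42284 = n41928 := d6_1 D42284 (iv D41928) (iv F190029)
theorem F194332 : act 1 n42284 = n42198 := d14_1 D42284 F193891 (iv F190030)
theorem F194333 : act 2 n42284 = n41320 := d21_1 D42284 (iv D41320) (iv F190031)
theorem F194334 : act 4 n42284 = n41314 := d32_1 D42284 (iv D41314) (iv F190032)
theorem F194335 : act 5 n42284 = n42284 := d36_1 D42284 (iv D42284) F190033
theorem F194336 : act 6 n42284 = n41340 := d39_1 D42284 (iv D41340) (iv D40268) (iv F185531) D41313
theorem F194337 : act 9 n42284 = n42078 := d43_2 (iv F190034) D42284 (iv D42078)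
def n42285 : Q := act 5 n41315
theorem D42285 : act 5 n41315 = n42285 := rfl
theorem F194338 : act 0 n42285 = n41929 := d4_1 D42285 (iv D41929) (iv F190042)
theorem F194339 : act 1 n42285 = n41874 := d12_1 D42285 (iv D41874) (iv F190043)
theorem F194340 : act 3 n42285 = n42219 := d25_1 D42285 (iv D42219) (iv F190044)
theorem F194341 : act 6 n42285 = n42191 := d35_2 D41315 D42285 (iv D42191) (iv D41195) (iv F185558)
theorem F194342 : act 8 n42285 = n42285 := d37_2 (iv F190046) D42285 (iv D42285) F190046 F185574
def n42286 : Q := act 7 n41315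
theorem D42286 : act 7 n41315 = n42286 := rfl
theorem F194343 : act 0 n42286 = n41930 := d6_1 D42286 (iv D41930) (iv F190042)
theorem F194344 : act 1 n42286 = n41867 := d14_1 D42286 F192874 (iv F190043)
theorem F194345 : act 3 n42286 = n42220 := d27_1 D42286 (iv D42220) (iv F190044)
theorem F194346 : act 4 n42286 = n41317 := d32_1 D42286 (iv D41317) (iv F190045)
theorem F194347 : act 6 n42286 = n41345 := d39_1 D42286 (iv D41345) (iv D40272) (iv F185559) D41315
theorem F194348 : act 8 n42286 = n41320 := d42_2 (iv F190046) D42286 (iv D41320)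
def n42287 : Q := act 9 n41315
theorem D42287 : act 9 n41315 = n42287 := rfl
theorem F194349 : act 0 n42287 = n41931 := d8_1 D42287 (iv D41931) (iv F190042)
theorem F194350 : act 1 n42287 = n41875 := d16_1 D42287 (iv D41875) (iv F190043)
theorem F194351 : act 3 n42287 = n42221 := d29_1 D42287 (iv D42221) (iv F190044)
theorem F194352 : act 4 n42287 = n41318 := d34_1 D42287 (iv D41318) (iv F190045)
theorem F194353 : act 6 n42287 = n41316 := d41_1 D42287 (iv D41316) D41315
def n42288 : Q := act 8 n41316
theorem D42288 : act 8 n41316 = n42288 := rfl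
theorem F194354 : act 0 n42288 = n41932 := d7_1 D42288 (iv D41932) (iv F190047)
theorem F194355 : act 1 n42288 = n42138 := d15_1 D42288 F193752 (iv F190048)
theorem F194356 : act 2 n42288 = n42074 := d22_1 D42288 (iv F194310) F194306
theorem F194357 : act 3 n42288 = n42222 := d28_1 D42288 (iv D42222) (iv F190049)
theorem F194358 : act 4 n42288 = n41319 := d33_1 D42288 (iv D41319) (iv F190050)
theorem F194359 : act 7 n42288 = n41347 := d42_1 D42288 (iv D41347) (iv F190052)
theorem F194360 : act 9 n42288 = n41322 := d44_2 D41316 D42288 (iv D41322) (iv D40253) (iv F185560)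
theorem F194361 : act 5 n42019 = n42288 := d38_3 F194360 F190087 D42019
def n42289 : Q := act 9 n41317
theorem D42289 : act 9 n41317 = n42289 := rfl
theorem F194362 : act 0 n42289 = n41933 := d8_1 D42289 (iv D41933) (iv F190053)
theorem F194363 : act 1 n42289 = n41868 := d16_1 D42289 (iv D41868) (iv F190054)
theorem F194364 : act 3 n42289 = n41866 := d29_1 D42289 (iv D41866) (iv F190055)
theorem F194365 : act 6 n42289 = n41348 := d41_1 D42289 (iv D41348) (iv F190056)
theorem F194366 : act 7 n42289 = n41318 := d43_1 D42289 (iv D41318) D41317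
def n42290 : Q := act 8 n41318
theorem D42290 : act 8 n41318 = n42290 := rfl
theorem F194367 : act 0 n42290 = n41702 := d7_1 D42290 F192163 (iv F190058)
theorem F194368 : act 1 n42290 = n41666 := d15_1 D42290 F192023 (iv F190059)
theorem F194369 : act 2 n42290 = n42076 := d22_1 D42290 (iv F194323) F194320
theorem F194370 : act 3 n42290 = n41630 := d28_1 D42290 F191828 (iv F190060)
theorem F194371 : act 6 n42290 = n41319 := d40_1 D42290 (iv D41319) (iv F190061)
theorem F194372 : act 9 n42290 = n41324 := d44_2 D41318 D42290 (iv D41324) (iv D40255) (iv F185564)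
theorem F194373 : act 5 n41629 = n42290 := d38_3 F194372 F190100 D41629
def n42291 : Q := act 9 n41320
theorem D42291 : act 9 n41320 = n42291 := rfl
theorem F194374 : act 0 n42291 = n41645 := d8_1 D42291 F191904 (iv F190069)
theorem F194375 : act 1 n42291 = n41631 := d16_1 D42291 F191835 (iv F190070)
theorem F194376 : act 2 n42291 = n42078 := d23_1 D42291 (iv F194337) F194333
theorem F194377 : act 3 n42291 = n41637 := d29_1 D42291 F191871 (iv F190071)
theorem F194378 : act 4 n42291 = n41323 := d34_1 D42291 (iv D41323) (iv F190072)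
theorem F194379 : act 5 n42291 = n42291 := d38_1 D42291 (iv D42291) F190073
theorem F194380 : act 6 n42291 = n41354 := d41_1 D42291 (iv D41354) (iv F190074)
theorem F194381 : act 7 n42291 = n41321 := d43_1 D42291 (iv D41321) D41320
def n42292 : Q := act 8 n41321
theorem D42292 : act 8 n41321 = n42292 := rfl
theorem F194382 : act 0 n42292 = n41701 := d7_1 D42292 F192159 (iv F190075)
theorem F194383 : act 1 n42292 = n41665 := d15_1 D42292 (iv D41665) (iv F190076)
theorem F194384 : act 2 n42292 = n42073 := d22_1 D42292 F193562 (iv F190077)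
theorem F194385 : act 3 n42292 = n41694 := d28_1 D42292 (iv D41694) (iv F190078)
theorem F194386 : act 4 n42292 = n41324 := d33_1 D42292 (iv D41324) (iv F190079)
theorem F194387 : act 6 n42292 = n41322 := d40_1 D42292 (iv D41322) (iv F190081)
def n42293 : Q := act 8 n41323
theorem D42293 : act 8 n41323 = n42293 := rfl
theorem F194388 : act 0 n42293 = n41643 := d7_1 D42293 F191897 (iv F190089)
theorem F194389 : act 1 n42293 = n41632 := d15_1 D42293 (iv D41632) (iv F190090)
theorem F194390 : act 2 n42293 = n42075 := d22_1 D42293 F193571 (iv F190091)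
theorem F194391 : act 3 n42293 = n41602 := d28_1 D42293 F191658 (iv F190092)
theorem F194392 : act 5 n42293 = n41601 := d37_1 D42293 (iv D41601) (iv D40536) (iv F185606) (iv F190093)
theorem F194393 : act 6 n42293 = n41356 := d40_1 D42293 (iv D41356) (iv F190094)
theorem F194394 : act 7 n42293 = n41324 := d42_1 D42293 (iv D41324) (iv F190095)
def n42294 : Q := act 4 n41325
theorem D42294 : act 4 n41325 = n42294 := rfl
theorem F194395 : act 0 n42294 = n41942 := d3_1 D42294 (iv D41942) (iv F190102)
theorem F194396 : act 1 n42294 = n42109 := d11_1 D42294 F193676 (iv F190103)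
theorem F194397 : act 2 n42294 = n42008 := d18_1 D42294 F193337 (iv F190104)
theorem F194398 : act 3 n42294 = n42059 := d24_1 D42294 F193521 F189122 D41103 (iv F190105)
theorem F194399 : act 5 n42294 = n41327 := d30_2 D41325 D42294 (iv D41327) (iv D40259) (iv F185610)
theorem F194400 : act 7 n42294 = n42081 := d32_2 F194283 D42294 (iv F194282)
theorem F194401 : act 8 n42294 = n41370 := d33_2 (iv F190106) D42294 (iv D41370)
def n42295 : Q := act 6 n41325
theorem D42295 : act 6 n41325 = n42295 := rfl
theorem F194402 : act 0 n42295 = n41943 := d5_1 D42295 (iv D41943) (iv F190102)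
theorem F194403 : act 1 n42295 = n42125 := d13_1 D42295 (iv D42125) (iv F190103)
theorem F194404 : act 2 n42295 = n42139 := d20_1 D42295 (iv D42139) (iv F190104)
theorem F194405 : act 3 n42295 = n42115 := d26_1 D42295 (iv D42115) (iv F190105)
theorem F194406 : act 5 n42295 = n41825 := d35_1 D42295 (iv D41825) (iv D40766) (iv F185611) D41325
theorem F194407 : act 8 n42295 = n41371 := d40_2 (iv F190106) D42295 (iv D41371)
def n42296 : Q := act 9 n41325
theorem D42296 : act 9 n41325 = n42296 := rfl
theorem F194408 : act 0 n42296 = n41944 := d8_1 D42296 (iv D41944) (iv F190102)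
theorem F194409 : act 1 n42296 = n42126 := d16_1 D42296 (iv D42126) (iv F190103)
theorem F194410 : act 2 n42296 = n42140 := d23_1 D42296 (iv D42140) (iv F190104)
theorem F194411 : act 3 n42296 = n42116 := d29_1 D42296 (iv D42116) (iv F190105)
theorem F194412 : act 5 n42296 = n41326 := d38_1 D42296 (iv D41326) D41325
def n42297 : Q := act 3 n41327
theorem D42297 : act 3 n41327 = n42297 := rfl
theorem F194413 : act 0 n42297 = n41945 := d2_1 D42297 (iv D41945) (iv F190113)
theorem F194414 : act 1 n42297 = n42106 := d10_1 D42297 F193666 (iv F190114)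
theorem F194415 : act 2 n42297 = n42050 := d17_1 D42297 (iv D42050) F189094 D41040 (iv F190115)
theorem F194416 : act 4 n42297 = n41333 := d24_2 D41327 D42297 (iv D41333) (iv D40264) (iv F185615)
theorem F194417 : act 5 n42297 = n42059 := d25_2 F194399 D42297 (iv F194398)
theorem F194418 : act 7 n42297 = n42089 := d27_2 (iv F190116) D42297 F193618
theorem F194419 : act 8 n42297 = n41330 := d28_2 (iv F190117) D42297 (iv D41330)
def n42298 : Q := act 6 n41327
theorem D42298 : act 6 n41327 = n42298 := rfl
theorem F194420 : act 0 n42298 = n41946 := d5_1 D42298 (iv D41946) (iv F190113)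
theorem F194421 : act 1 n42298 = n42108 := d13_1 D42298 F193674 (iv F190114)
theorem F194422 : act 2 n42298 = n42061 := d20_1 D42298 (iv D42061) (iv F190115)
theorem F194423 : act 4 n42298 = n41328 := d31_1 D42298 (iv D41328) D41327
theorem F194424 : act 8 n42298 = n41331 := d40_2 (iv F190117) D42298 (iv D41331)
def n42299 : Q := act 9 n41327
theorem D42299 : act 9 n41327 = n42299 := rfl
theorem F194425 : act 0 n42299 = n41947 := d8_1 D42299 (iv D41947) (iv F190113)
theorem F194426 : act 1 n42299 = n42100 := d16_1 D42299 F193645 (iv F190114)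
theorem F194427 : act 2 n42299 = n42062 := d23_1 D42299 (iv D42062) (iv F190115)
theorem F194428 : act 4 n42299 = n41329 := d34_1 D42299 (iv D41329) D41327
theorem F194429 : act 7 n42299 = n42086 := d43_1 D42299 F193609 (iv F190116)
theorem F194430 : act 8 n42299 = n42010 := d44_1 D42299 (iv D42010) F188958 (iv F185628) (iv F190117)
def n42300 : Q := act 7 n41328
theorem D42300 : act 7 n41328 = n42300 := rfl
theorem F194431 : act 0 n42300 = n41948 := d6_1 D42300 (iv D41948) (iv F190118)
theorem F194432 : act 1 n42300 = n42110 := d14_1 D42300 F193679 (iv F190119)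
theorem F194433 : act 2 n42300 = n41881 := d21_1 D42300 F192911 (iv F190120)
theorem F194434 : act 3 n42300 = n41336 := d27_1 D42300 (iv D41336) (iv F190121)
theorem F194435 : act 5 n42300 = n41829 := d36_1 D42300 (iv D41829) (iv F190122)
theorem F194436 : act 6 n42300 = n41911 := d39_1 D42300 F193006 F188674 (iv F185616) D41328
theorem F194437 : act 8 n42300 = n41332 := d42_2 (iv F190123) D42300 (iv D41332)
def n42301 : Q := act 9 n41328
theorem D42301 : act 9 n41328 = n42301 := rfl
theorem F194438 : act 0 n42301 = n41949 := d8_1 D42301 (iv D41949) (iv F190118)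
theorem F194439 : act 1 n42301 = n42102 := d16_1 D42301 F193650 (iv F190119)
theorem F194440 : act 2 n42301 = n42151 := d23_1 D42301 (iv D42151) (iv F190120)
theorem F194441 : act 3 n42301 = n41337 := d29_1 D42301 (iv D41337) (iv F190121)
theorem F194442 : act 5 n42301 = n41830 := d38_1 D42301 (iv D41830) (iv F190122)
theorem F194443 : act 6 n42301 = n41329 := d41_1 D42301 (iv D41329) D41328
theorem F194444 : act 8 n42301 = n42012 := d44_1 D42301 (iv D42012) F188961 (iv F185634) (iv F190123)
def n42302 : Q := act 6 n41330
theorem D42302 : act 6 n41330 = n42302 := rfl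
theorem F194445 : act 0 n42302 = n41950 := d5_1 D42302 (iv D41950) (iv F190131)
theorem F194446 : act 1 n42302 = n42105 := d13_1 D42302 F193664 (iv F190132)
theorem F194447 : act 2 n42302 = n42056 := d20_1 D42302 (iv D42056) (iv F190133)
theorem F194448 : act 3 n42302 = n41331 := d26_1 D42302 (iv D41331) D41330
theorem F194449 : act 4 n42302 = n41339 := d31_1 D42302 (iv D41339) (iv F190134)
theorem F194450 : act 5 n42302 = n42302 := d35_1 D42302 (iv D42302) F190135 F185880 (iv F190135)
theorem F194451 : act 9 n42302 = n42013 := d41_2 (iv F190137) D42302 (iv D42013)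
def n42303 : Q := act 7 n41331
theorem D42303 : act 7 n41331 = n42303 := rfl
theorem F194452 : act 0 n42303 = n41951 := d6_1 D42303 (iv D41951) (iv F190138)
theorem F194453 : act 1 n42303 = n42107 := d14_1 D42303 F193672 (iv F190139)
theorem F194454 : act 2 n42303 = n41880 := d21_1 D42303 F192906 (iv F190140)
theorem F194455 : act 4 n42303 = n41332 := d32_1 D42303 (iv D41332) (iv F190141)
theorem F194456 : act 5 n42303 = n42303 := d36_1 D42303 (iv D42303) F190142
theorem F194457 : act 6 n42303 = n41910 := d39_1 D42303 F193002 F188671 (iv F185627) D41331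
theorem F194458 : act 9 n42303 = n42014 := d43_2 (iv F190143) D42303 (iv D42014)
def n42304 : Q := act 2 n41333
theorem D42304 : act 2 n41333 = n42304 := rfl
theorem F194459 : act 0 n42304 = n41952 := d1_1 D42304 (iv D41952) (iv F190151)
theorem F194460 : act 1 n42304 = n42081 := d9_1 D42304 (iv D42081) F189203 (iv F189308) (iv F190152)
theorem F194461 : act 3 n42304 = n41341 := d17_2 D41333 D42304 (iv D41341) (iv D40271) (iv F185645)
theorem F194462 : act 4 n42304 = n42050 := d18_2 F194416 D42304 (iv F194415)
theorem F194463 : act 5 n42304 = n42000 := d19_2 (iv F190153) D42304 F193288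
theorem F194464 : act 7 n42304 = n42109 := d21_2 F194297 D42304 (iv F194294)
theorem F194465 : act 8 n42304 = n41338 := d22_2 (iv F190154) D42304 (iv D41338)
def n42305 : Q := act 6 n41333
theorem D42305 : act 6 n41333 = n42305 := rfl
theorem F194466 : act 0 n42305 = n41953 := d5_1 D42305 (iv D41953) (iv F190151)
theorem F194467 : act 1 n42305 = n42118 := d13_1 D42305 (iv D42118) (iv F190152)
theorem F194468 : act 3 n42305 = n41334 := d26_1 D42305 (iv D41334) D41333
theorem F194469 : act 8 n42305 = n41339 := d40_2 (iv F190154) D42305 (iv D41339)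
def n42306 : Q := act 9 n41333
theorem D42306 : act 9 n41333 = n42306 := rfl
theorem F194470 : act 0 n42306 = n41954 := d8_1 D42306 (iv D41954) (iv F190151)
theorem F194471 : act 1 n42306 = n42119 := d16_1 D42306 (iv D42119) (iv F190152)
theorem F194472 : act 3 n42306 = n41335 := d29_1 D42306 (iv D41335) D41333
theorem F194473 : act 5 n42306 = n42114 := d38_1 D42306 (iv D42114) (iv F190153)
theorem F194474 : act 8 n42306 = n42140 := d44_1 D42306 (iv D42140) F189390 (iv F185661) (iv F190154)
def n42307 : Q := act 5 n41334
theorem D42307 : act 5 n41334 = n42307 := rfl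
theorem F194475 : act 0 n42307 = n41679 := d4_1 D42307 F192076 (iv F190155)
theorem F194476 : act 1 n42307 = n41963 := d12_1 D42307 F193158 (iv F190156)
theorem F194477 : act 2 n42307 = n41344 := d19_1 D42307 (iv D41344) (iv F190157)
theorem F194478 : act 4 n42307 = n41621 := d30_1 D42307 F191784 F187678 (iv F185651) (iv F190158)
theorem F194479 : act 6 n42307 = n41620 := d35_2 D41334 D42307 F191777 F188459 (iv F185646)
theorem F194480 : act 8 n42307 = n41359 := d37_2 (iv F190159) D42307 (iv D41359) F185752 (iv F185666)
def n42308 : Q := act 7 n41334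
theorem D42308 : act 7 n41334 = n42308 := rfl
theorem F194481 : act 0 n42308 = n41955 := d6_1 D42308 (iv D41955) (iv F190155)
theorem F194482 : act 1 n42308 = n42216 := d14_1 D42308 F193927 (iv F190156)
theorem F194483 : act 2 n42308 = n41345 := d21_1 D42308 (iv D41345) (iv F190157)
theorem F194484 : act 4 n42308 = n41336 := d32_1 D42308 (iv D41336) (iv F190158)
theorem F194485 : act 8 n42308 = n41340 := d42_2 (iv F190159) D42308 (iv D41340)
def n42309 : Q := act 9 n41334
theorem D42309 : act 9 n41334 = n42309 := rfl
theorem F194486 : act 0 n42309 = n41956 := d8_1 D42309 (iv D41956) (iv F190155)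
theorem F194487 : act 1 n42309 = n42213 := d16_1 D42309 F193920 (iv F190156)
theorem F194488 : act 2 n42309 = n41346 := d23_1 D42309 (iv D41346) (iv F190157)
theorem F194489 : act 4 n42309 = n41337 := d34_1 D42309 (iv D41337) (iv F190158)
theorem F194490 : act 6 n42309 = n41335 := d41_1 D42309 (iv D41335) D41334
theorem F194491 : act 8 n42309 = n42142 := d44_1 D42309 (iv D42142) F189393 (iv F185667) (iv F190159)
def n42310 : Q := act 9 n41336
theorem D42310 : act 9 n41336 = n42310 := rfl
theorem F194492 : act 0 n42310 = n41958 := d8_1 D42310 (iv D41958) (iv F190166)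
theorem F194493 : act 1 n42310 = n42214 := d16_1 D42310 F193922 (iv F190167)
theorem F194494 : act 2 n42310 = n41348 := d23_1 D42310 (iv D41348) (iv F190168)
theorem F194495 : act 5 n42310 = n41834 := d38_1 D42310 (iv D41834) (iv F190169)
theorem F194496 : act 7 n42310 = n41337 := d43_1 D42310 (iv D41337) D41336
theorem F194497 : act 8 n42310 = n42143 := d44_1 D42310 (iv D42143) F189397 (iv F185672) (iv F190170)
def n42311 : Q := act 6 n41338
theorem D42311 : act 6 n41338 = n42311 := rfl
theorem F194498 : act 0 n42311 = n41960 := d5_1 D42311 (iv D41960) (iv F190177)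
theorem F194499 : act 1 n42311 = n41810 := d13_1 D42311 F192638 (iv F190178)
theorem F194500 : act 2 n42311 = n41339 := d20_1 D42311 (iv D41339) D41338
theorem F194501 : act 3 n42311 = n41350 := d26_1 D42311 (iv D41350) (iv F190179)
theorem F194502 : act 4 n42311 = n42056 := d31_1 D42311 (iv D42056) (iv F190180)
theorem F194503 : act 5 n42311 = n41361 := d35_1 D42311 (iv D41361) F185766 (iv F185677) (iv F190181)
theorem F194504 : act 9 n42311 = n41371 := d41_2 (iv F190183) D42311 (iv D41371)
def n42312 : Q := act 7 n41339
theorem D42312 : act 7 n41339 = n42312 := rfl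
theorem F194505 : act 0 n42312 = n41961 := d6_1 D42312 (iv D41961) (iv F190184)
theorem F194506 : act 1 n42312 = n42136 := d14_1 D42312 (iv D42136) (iv F190185)
theorem F194507 : act 3 n42312 = n41340 := d27_1 D42312 (iv D41340) (iv F190186)
theorem F194508 : act 5 n42312 = n41362 := d36_1 D42312 (iv D41362) (iv F190187)
theorem F194509 : act 9 n42312 = n42144 := d43_2 (iv F190188) D42312 (iv D42144)
def n42313 : Q := act 6 n41341
theorem D42313 : act 6 n41341 = n42313 := rfl
theorem F194510 : act 0 n42313 = n41966 := d5_1 D42313 (iv D41966) (iv F190195)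
theorem F194511 : act 1 n42313 = n41811 := d13_1 D42313 F192642 (iv F190196)
theorem F194512 : act 2 n42313 = n41342 := d20_1 D42313 (iv D41342) D41341
theorem F194513 : act 4 n42313 = n41554 := d31_1 D42313 F191416 (iv F190197)
theorem F194514 : act 8 n42313 = n41350 := d40_2 (iv F190200) D42313 (iv D41350)
def n42314 : Q := act 9 n41341
theorem D42314 : act 9 n41341 = n42314 := rfl
theorem F194515 : act 0 n42314 = n41967 := d8_1 D42314 (iv D41967) (iv F190195)
theorem F194516 : act 1 n42314 = n42129 := d16_1 D42314 F193731 (iv F190196)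
theorem F194517 : act 2 n42314 = n41343 := d23_1 D42314 (iv D41343) D41341
theorem F194518 : act 4 n42314 = n42049 := d34_1 D42314 (iv D42049) (iv F190197)
theorem F194519 : act 5 n42314 = n42207 := d38_1 D42314 (iv D42207) (iv F190198)
theorem F194520 : act 7 n42314 = n42121 := d43_1 D42314 (iv D42121) (iv F190199)
theorem F194521 : act 8 n42314 = n42116 := d44_1 D42314 (iv D42116) F189300 F185707 (iv F190200)
def n42315 : Q := act 5 n41342
theorem D42315 : act 5 n41342 = n42315 := rfl
theorem F194522 : act 0 n42315 = n41939 := d4_1 D42315 F193095 (iv F190201)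
theorem F194523 : act 1 n42315 = n41563 := d12_1 D42315 (iv D41563) (iv F190202)
theorem F194524 : act 3 n42315 = n41344 := d25_1 D42315 (iv D41344) (iv F190203)
theorem F194525 : act 6 n42315 = n42208 := d35_2 D41342 D42315 (iv D42208) (iv D41220) (iv F185683)
theorem F194526 : act 8 n42315 = n41364 := d37_2 (iv F190205) D42315 (iv D41364) F185791 (iv F185712)
def n42316 : Q := act 7 n41342
theorem D42316 : act 7 n41342 = n42316 := rfl
theorem F194527 : act 0 n42316 = n41968 := d6_1 D42316 (iv D41968) (iv F190201)
theorem F194528 : act 1 n42316 = n41477 := d14_1 D42316 F191025 (iv F190202)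
theorem F194529 : act 3 n42316 = n41345 := d27_1 D42316 (iv D41345) (iv F190203)
theorem F194530 : act 4 n42316 = n41469 := d32_1 D42316 F190978 (iv F190204)
theorem F194531 : act 6 n42316 = n42220 := d39_1 D42316 (iv D42220) (iv D41235) (iv F185684) D41342
theorem F194532 : act 8 n42316 = n41351 := d42_2 (iv F190205) D42316 (iv D41351)
def n42317 : Q := act 9 n41342
theorem D42317 : act 9 n41342 = n42317 := rfl
theorem F194533 : act 0 n42317 = n41969 := d8_1 D42317 (iv D41969) (iv F190201)
theorem F194534 : act 1 n42317 = n41564 := d16_1 D42317 (iv D41564) (iv F190202)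
theorem F194535 : act 3 n42317 = n41346 := d29_1 D42317 (iv D41346) (iv F190203)
theorem F194536 : act 4 n42317 = n41557 := d34_1 D42317 (iv D41557) (iv F190204)
theorem F194537 : act 6 n42317 = n41343 := d41_1 D42317 (iv D41343) D41342
def n42318 : Q := act 8 n41343
theorem D42318 : act 8 n41343 = n42318 := rfl
theorem F194538 : act 0 n42318 = n41970 := d7_1 D42318 (iv D41970) (iv F190206)
theorem F194539 : act 1 n42318 = n42020 := d15_1 D42318 (iv F193956) F193949
theorem F194540 : act 2 n42318 = n42116 := d22_1 D42318 (iv F194521) F194517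
theorem F194541 : act 3 n42318 = n41347 := d28_1 D42318 (iv D41347) (iv F190207)
theorem F194542 : act 4 n42318 = n42018 := d33_1 D42318 F193385 (iv F190208)
theorem F194543 : act 5 n42318 = n42091 := d37_1 D42318 F193624 (iv F193703) F193704 (iv F190209)
theorem F194544 : act 7 n42318 = n42222 := d42_1 D42318 (iv D42222) (iv F190210)
theorem F194545 : act 9 n42318 = n41353 := d44_2 D41343 D42318 (iv D41353) (iv D40279) (iv F185685)
def n42319 : Q := act 7 n41344
theorem D42319 : act 7 n41344 = n42319 := rfl
theorem F194546 : act 0 n42319 = n41914 := d6_1 D42319 F193018 (iv F190211)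
theorem F194547 : act 1 n42319 = n41754 := d14_1 D42319 F192386 (iv F190212)
theorem F194548 : act 4 n42319 = n41439 := d32_1 D42319 F190786 (iv F190213)
theorem F194549 : act 5 n42319 = n41345 := d36_1 D42319 (iv D41345) D41344
theorem F194550 : act 8 n42319 = n41366 := d42_2 (iv F190215) D42319 (iv D41366)
def n42320 : Q := act 9 n41344
theorem D42320 : act 9 n41344 = n42320 := rfl
theorem F194551 : act 0 n42320 = n41940 := d8_1 D42320 (iv D41940) (iv F190211)
theorem F194552 : act 1 n42320 = n41802 := d16_1 D42320 F192602 (iv F190212)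
theorem F194553 : act 4 n42320 = n41683 := d34_1 D42320 F192092 (iv F190213)
theorem F194554 : act 5 n42320 = n41346 := d38_1 D42320 (iv D41346) D41344
theorem F194555 : act 6 n42320 = n42211 := d41_1 D42320 (iv D42211) (iv F190214)
theorem F194556 : act 8 n42320 = n41680 := d44_1 D42320 (iv D41680) F187590 (iv F185797) (iv F190215)
def n42321 : Q := act 9 n41345
theorem D42321 : act 9 n41345 = n42321 := rfl
theorem F194557 : act 0 n42321 = n41971 := d8_1 D42321 (iv D41971) (iv F190216)
theorem F194558 : act 4 n42321 = n41348 := d34_1 D42321 (iv D41348) (iv F190217)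
theorem F194559 : act 7 n42321 = n41346 := d43_1 D42321 (iv D41346) D41345
def n42322 : Q := act 8 n41346
theorem D42322 : act 8 n41346 = n42322 := rfl
theorem F194560 : act 0 n42322 = n41972 := d7_1 D42322 (iv D41972) (iv F190219)
theorem F194561 : act 1 n42322 = n41973 := d15_1 D42322 (iv F194074) F194069
theorem F194562 : act 2 n42322 = n42142 := d22_1 D42322 (iv F194491) F194488
theorem F194563 : act 4 n42322 = n41349 := d33_1 D42322 (iv D41349) (iv F190220)
theorem F194564 : act 5 n42322 = n41878 := d37_1 D42322 (iv D41878) (iv F192080) (iv F194556) F194554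
theorem F194565 : act 6 n42322 = n41347 := d40_1 D42322 (iv D41347) (iv F190221)
theorem F194566 : act 9 n42322 = n41355 := d44_2 D41346 D42322 (iv D41355) (iv D40281) (iv F185688)
def n42323 : Q := act 8 n41348
theorem D42323 : act 8 n41348 = n42323 := rfl
theorem F194567 : act 0 n42323 = n41974 := d7_1 D42323 (iv D41974) (iv F190226)
theorem F194568 : act 1 n42323 = n41780 := d15_1 D42323 (iv F194090) F194084
theorem F194569 : act 2 n42323 = n42143 := d22_1 D42323 (iv F194497) F194494
theorem F194570 : act 3 n42323 = n41986 := d28_1 D42323 (iv F193965) F193960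
theorem F194571 : act 5 n42323 = n41776 := d37_1 D42323 F192484 (iv F191929) F191931 (iv F190227)
theorem F194572 : act 7 n42323 = n41349 := d42_1 D42323 (iv D41349) (iv F190228)
theorem F194573 : act 9 n42323 = n41356 := d44_2 D41348 D42323 (iv D41356) (iv D40283) (iv F185694)
def n42324 : Q := act 7 n41350
theorem D42324 : act 7 n41350 = n42324 := rfl
theorem F194574 : act 0 n42324 = n41975 := d6_1 D42324 (iv D41975) (iv F190233)
theorem F194575 : act 1 n42324 = n41756 := d14_1 D42324 F192391 (iv F190234)
theorem F194576 : act 2 n42324 = n41351 := d21_1 D42324 (iv D41351) (iv F190235)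
theorem F194577 : act 4 n42324 = n41468 := d32_1 D42324 F190973 (iv F190236)
theorem F194578 : act 5 n42324 = n41367 := d36_1 D42324 (iv D41367) (iv F190237)
theorem F194579 : act 6 n42324 = n42124 := d39_1 D42324 (iv D42124) (iv D41112) (iv F185706) D41350
theorem F194580 : act 9 n42324 = n41773 := d43_2 (iv F190238) D42324 F192469
def n42325 : Q := act 9 n41351
theorem D42325 : act 9 n41351 = n42325 := rfl
theorem F194581 : act 0 n42325 = n41521 := d8_1 D42325 F191253 (iv F190239)
theorem F194582 : act 1 n42325 = n41451 := d16_1 D42325 F190860 (iv F190240)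
theorem F194583 : act 2 n42325 = n41773 := d23_1 D42325 (iv F194580) F194576
theorem F194584 : act 3 n42325 = n41354 := d29_1 D42325 (iv D41354) (iv F190241)
theorem F194585 : act 4 n42325 = n41448 := d34_1 D42325 F190840 (iv F190242)
theorem F194586 : act 5 n42325 = n41368 := d38_1 D42325 (iv D41368) (iv F190243)
theorem F194587 : act 6 n42325 = n41637 := d41_1 D42325 F191871 (iv F190244)
theorem F194588 : act 7 n42325 = n41352 := d43_1 D42325 (iv D41352) D41351
def n42326 : Q := act 8 n41352
theorem D42326 : act 8 n41352 = n42326 := rfl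
theorem F194589 : act 0 n42326 = n41976 := d7_1 D42326 (iv D41976) (iv F190245)
theorem F194590 : act 1 n42326 = n41523 := d15_1 D42326 (iv D41523) (iv F190246)
theorem F194591 : act 2 n42326 = n42115 := d22_1 D42326 F193692 (iv F190247)
theorem F194592 : act 3 n42326 = n41355 := d28_1 D42326 (iv D41355) (iv F190248)
theorem F194593 : act 4 n42326 = n41518 := d33_1 D42326 (iv D41518) (iv F190249)
theorem F194594 : act 5 n42326 = n41879 := d37_1 D42326 (iv D41879) F188517 (iv F185820) (iv F190250)
theorem F194595 : act 6 n42326 = n41353 := d40_1 D42326 (iv D41353) (iv F190251)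
def n42327 : Q := act 8 n41354
theorem D42327 : act 8 n41354 = n42327 := rfl
theorem F194596 : act 0 n42327 = n41977 := d7_1 D42327 (iv D41977) (iv F190259)
theorem F194597 : act 1 n42327 = n41779 := d15_1 D42327 F192499 (iv F190260)
theorem F194598 : act 2 n42327 = n42141 := d22_1 D42327 F193760 (iv F190261)
theorem F194599 : act 4 n42327 = n41356 := d33_1 D42327 (iv D41356) (iv F190262)
theorem F194600 : act 5 n42327 = n41873 := d37_1 D42327 (iv D41873) F188496 (iv F185827) (iv F190263)
theorem F194601 : act 7 n42327 = n41355 := d42_1 D42327 (iv D41355) (iv F190264)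
def n42328 : Q := act 6 n41357
theorem D42328 : act 6 n41357 = n42328 := rfl
theorem F194602 : act 0 n42328 = n41844 := d5_1 D42328 (iv D41844) (iv F190277)
theorem F194603 : act 1 n42328 = n41720 := d13_1 D42328 F192244 (iv F190278)
theorem F194604 : act 2 n42328 = n41358 := d20_1 D42328 (iv D41358) D41357
theorem F194605 : act 3 n42328 = n41363 := d26_1 D42328 (iv D41363) (iv F190279)
theorem F194606 : act 4 n42328 = n42328 := d31_1 D42328 (iv D42328) F190280
theorem F194607 : act 8 n42328 = n41361 := d40_2 (iv F190283) D42328 (iv D41361)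
theorem F194608 : act 9 n42328 = n41677 := d41_2 (iv F190284) D42328 F192068
def n42329 : Q := act 5 n41358
theorem D42329 : act 5 n41358 = n42329 := rfl
theorem F194609 : act 0 n42329 = n41685 := d4_1 D42329 F192096 (iv F190285)
theorem F194610 : act 1 n42329 = n41861 := d12_1 D42329 F192847 (iv F190286)
theorem F194611 : act 3 n42329 = n41359 := d25_1 D42329 (iv D41359) (iv F190287)
theorem F194612 : act 6 n42329 = n41623 := d35_2 D41358 D42329 F191795 F187320 (iv F185744)
theorem F194613 : act 9 n42329 = n41676 := d38_2 (iv F190290) D42329 F192063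
theorem F194614 : act 4 n41904 = n42329 := d31_3 F194612 F191794 D41904
def n42330 : Q := act 7 n41358
theorem D42330 : act 7 n41358 = n42330 := rfl
theorem F194615 : act 0 n42330 = n41845 := d6_1 D42330 (iv D41845) (iv F190285)
theorem F194616 : act 1 n42330 = n41862 := d14_1 D42330 (iv D41862) (iv F190286)
theorem F194617 : act 3 n42330 = n41360 := d27_1 D42330 (iv D41360) (iv F190287)
theorem F194618 : act 4 n42330 = n42330 := d32_1 D42330 (iv D42330) F190288
theorem F194619 : act 6 n42330 = n42330 := d39_1 D42330 (iv D42330) (iv D41358) F185745 D41358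
theorem F194620 : act 8 n42330 = n41362 := d42_2 (iv F190289) D42330 (iv D41362)
theorem F194621 : act 9 n42330 = n41431 := d43_2 (iv F190290) D42330 F190742
def n42331 : Q := act 7 n41359
theorem D42331 : act 7 n41359 = n42331 := rfl
theorem F194622 : act 0 n42331 = n41686 := d6_1 D42331 (iv D41686) (iv F190291)
theorem F194623 : act 1 n42331 = n41962 := d14_1 D42331 F193154 (iv F190292)
theorem F194624 : act 2 n42331 = n41366 := d21_1 D42331 (iv D41366) (iv F190293)
theorem F194625 : act 4 n42331 = n41430 := d32_1 D42331 F190737 (iv F190294)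
theorem F194626 : act 5 n42331 = n41360 := d36_1 D42331 (iv D41360) D41359
theorem F194627 : act 6 n42331 = n42041 := d39_1 D42331 (iv D42041) (iv D41019) (iv F187309) (iv F190295)
theorem F194628 : act 9 n42331 = n41428 := d43_2 (iv F190296) D42331 F190723
def n42332 : Q := act 7 n41361
theorem D42332 : act 7 n41361 = n42332 := rfl
theorem F194629 : act 0 n42332 = n41978 := d6_1 D42332 (iv D41978) (iv F190304)
theorem F194630 : act 1 n42332 = n41835 := d14_1 D42332 F192726 (iv F190305)
theorem F194631 : act 2 n42332 = n41362 := d21_1 D42332 (iv D41362) (iv F190306)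
theorem F194632 : act 3 n42332 = n41367 := d27_1 D42332 (iv D41367) (iv F190307)
theorem F194633 : act 4 n42332 = n42332 := d32_1 D42332 (iv D42332) F190308
theorem F194634 : act 6 n42332 = n42332 := d39_1 D42332 (iv D42332) (iv D41361) F185767 D41361
theorem F194635 : act 9 n42332 = n41372 := d43_2 (iv F190309) D42332 (iv D41372)
def n42333 : Q := act 5 n41363
theorem D42333 : act 5 n41363 = n42333 := rfl
theorem F194636 : act 0 n42333 = n41941 := d4_1 D42333 F193100 (iv F190316)
theorem F194637 : act 1 n42333 = n41729 := d12_1 D42333 F192277 (iv F190317)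
theorem F194638 : act 2 n42333 = n41364 := d19_1 D42333 (iv D41364) (iv F190318)
theorem F194639 : act 6 n42333 = n42224 := d35_2 D41363 D42333 (iv D42224) F189611 (iv F185783)
theorem F194640 : act 9 n42333 = n41684 := d38_2 (iv F190321) D42333 F192093
def n42334 : Q := act 7 n41364
theorem D42334 : act 7 n41364 = n42334 := rfl
theorem F194641 : act 0 n42334 = n41917 := d6_1 D42334 F193031 (iv F190322)
theorem F194642 : act 1 n42334 = n41541 := d14_1 D42334 F191353 (iv F190323)
theorem F194643 : act 3 n42334 = n41366 := d27_1 D42334 (iv D41366) (iv F190324)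
theorem F194644 : act 4 n42334 = n41731 := d32_1 D42334 (iv F194230) F194227
theorem F194645 : act 5 n42334 = n41365 := d36_1 D42334 (iv D41365) D41364
theorem F194646 : act 9 n42334 = n41435 := d43_2 (iv F190326) D42334 F190763
def n42335 : Q := act 6 n41366
theorem D42335 : act 6 n41366 = n42335 := rfl
theorem F194647 : act 0 n42335 = n41918 := d5_1 D42335 (iv D41918) (iv F190334)
theorem F194648 : act 1 n42335 = n41753 := d13_1 D42335 F192383 (iv F190335)
theorem F194649 : act 2 n42335 = n42041 := d20_1 D42335 (iv F194627) F194624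
theorem F194650 : act 4 n42335 = n41438 := d31_1 D42335 F190780 (iv F190336)
theorem F194651 : act 5 n42335 = n42335 := d35_1 D42335 (iv D42335) F190337 F185801 (iv F190337)
theorem F194652 : act 7 n42335 = n42032 := d39_2 D41366 D42335 (iv D42032) F189037 (iv F185796)
theorem F194653 : act 9 n42335 = n41436 := d41_2 (iv F190338) D42335 (iv D41436)
def n42336 : Q := act 6 n41369
theorem D42336 : act 6 n41369 = n42336 := rfl
theorem F194654 : act 0 n42336 = n41982 := d5_1 D42336 (iv D41982) (iv F190353)
theorem F194655 : act 1 n42336 = n42056 := d13_1 D42336 (iv D42056) (iv F190354)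
theorem F194656 : act 2 n42336 = n42077 := d20_1 D42336 (iv D42077) (iv F190355)
theorem F194657 : act 3 n42336 = n41691 := d26_1 D42336 F192125 (iv F190356)
theorem F194658 : act 4 n42336 = n41810 := d31_1 D42336 F192638 (iv F190357)
theorem F194659 : act 5 n42336 = n42336 := d35_1 D42336 (iv D42336) (iv D41369) F185861 D41369
theorem F194660 : act 9 n42336 = n42111 := d41_2 (iv F190359) D42336 (iv D42111)
def n42337 : Q := act 6 n41370
theorem D42337 : act 6 n41370 = n42337 := rfl
theorem F194661 : act 0 n42337 = n41984 := d5_1 D42337 (iv D41984) (iv F190360)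
theorem F194662 : act 1 n42337 = n42111 := d13_1 D42337 (iv D42111) (iv F190361)
theorem F194663 : act 2 n42337 = n42013 := d20_1 D42337 (iv D42013) (iv F190362)
theorem F194664 : act 3 n42337 = n42058 := d26_1 D42337 F193518 (iv F190363)
theorem F194665 : act 4 n42337 = n41371 := d31_1 D42337 (iv D41371) D41370
theorem F194666 : act 5 n42337 = n42337 := d35_1 D42337 (iv D42337) F190364 F185872 (iv F190364)
theorem F194667 : act 9 n42337 = n42056 := d41_2 (iv F190366) D42337 (iv D42056)
def n42338 : Q := act 7 n41371
theorem D42338 : act 7 n41371 = n42338 := rfl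
theorem F194668 : act 0 n42338 = n41985 := d6_1 D42338 (iv D41985) (iv F190367)
theorem F194669 : act 1 n42338 = n42131 := d14_1 D42338 (iv D42131) (iv F190368)
theorem F194670 : act 2 n42338 = n42144 := d21_1 D42338 (iv D42144) (iv F190369)
theorem F194671 : act 3 n42338 = n41773 := d27_1 D42338 F192469 (iv F190370)
theorem F194672 : act 5 n42338 = n41372 := d36_1 D42338 (iv D41372) (iv F190371)
def n42339 : Q := act 9 n41373
theorem D42339 : act 9 n41373 = n42339 := rfl
theorem F194673 : act 0 n42339 = n41652 := d8_1 D42339 (iv D41652) (iv F190379)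
theorem F194674 : act 1 n42339 = n41376 := d16_1 D42339 (iv D41376) (iv F190380)
theorem F194675 : act 2 n42339 = n41986 := d23_1 D42339 (iv D41986) (iv F190381)
theorem F194676 : act 3 n42339 = n42150 := d29_1 D42339 (iv D42150) (iv F190382)
theorem F194677 : act 4 n42339 = n41709 := d34_1 D42339 (iv D41709) (iv F190383)
theorem F194678 : act 5 n42339 = n41997 := d38_1 D42339 (iv D41997) (iv F190384)
theorem F194679 : act 6 n42339 = n41604 := d41_1 D42339 (iv D41604) (iv F190385)
theorem F194680 : act 7 n42339 = n42145 := d43_1 D42339 (iv D42145) (iv F190386)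
theorem F194681 : act 8 n42339 = n41882 := d44_1 D42339 (iv D41882) (iv D40854) (iv F185897) D41373
def n42340 : Q := act 8 n41374
theorem D42340 : act 8 n41374 = n42340 := rfl
theorem F194682 : act 0 n42340 = n41401 := d7_1 D42340 (iv D41401) (iv F190387)
theorem F194683 : act 1 n42340 = n42148 := d15_1 D42340 F193779 (iv F190388)
theorem F194684 : act 2 n42340 = n41628 := d22_1 D42340 (iv D41628) (iv F190389)
theorem F194685 : act 3 n42340 = n41711 := d28_1 D42340 (iv D41711) (iv F190390)
theorem F194686 : act 4 n42340 = n41375 := d33_1 D42340 (iv D41375) D41374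
theorem F194687 : act 6 n42340 = n41509 := d40_1 D42340 F191191 (iv F190392)
theorem F194688 : act 7 n42340 = n42146 := d42_1 D42340 (iv D42146) (iv F190393)
def n42341 : Q := act 9 n41375
theorem D42341 : act 9 n41375 = n42341 := rfl
theorem F194689 : act 0 n42341 = n41403 := d8_1 D42341 (iv D41403) (iv F190395)
theorem F194690 : act 1 n42341 = n42150 := d16_1 D42341 (iv D42150) (iv F190396)
theorem F194691 : act 2 n42341 = n41629 := d23_1 D42341 (iv D41629) (iv F190397)
theorem F194692 : act 3 n42341 = n41376 := d29_1 D42341 (iv D41376) (iv F190398)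
theorem F194693 : act 5 n42341 = n42076 := d38_1 D42341 (iv D42076) (iv F190399)
theorem F194694 : act 6 n42341 = n41510 := d41_1 D42341 (iv D41510) (iv F190400)
theorem F194695 : act 7 n42341 = n42147 := d43_1 D42341 (iv D42147) (iv F190401)
theorem F194696 : act 8 n42341 = n41885 := d44_1 D42341 (iv D41885) (iv D40856) (iv F185904) D41375
def n42342 : Q := act 9 n41377
theorem D42342 : act 9 n41377 = n42342 := rfl
theorem F194697 : act 0 n42342 = n41415 := d8_1 D42342 (iv D41415) (iv F190409)
theorem F194698 : act 1 n42342 = n41787 := d16_1 D42342 (iv D41787) (iv F190410)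
theorem F194699 : act 2 n42342 = n42085 := d23_1 D42342 (iv D42085) (iv F190411)
theorem F194700 : act 3 n42342 = n41815 := d29_1 D42342 (iv D41815) (iv F190412)
theorem F194701 : act 4 n42342 = n41378 := d34_1 D42342 (iv D41378) D41377
theorem F194702 : act 5 n42342 = n41725 := d38_1 D42342 (iv D41725) (iv F190413)
theorem F194703 : act 6 n42342 = n42080 := d41_1 D42342 (iv D42080) (iv F190414)
theorem F194704 : act 7 n42342 = n42149 := d43_1 D42342 (iv D42149) (iv F190415)
theorem F194705 : act 8 n42342 = n41938 := d44_1 D42342 (iv D41938) (iv D40903) (iv F185932) (iv F190416)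
def n42343 : Q := act 8 n41379
theorem D42343 : act 8 n41379 = n42343 := rfl
theorem F194706 : act 0 n42343 = n42146 := d7_1 D42343 (iv D42146) (iv F190425)
theorem F194707 : act 1 n42343 = n42064 := d15_1 D42343 F193538 (iv F190426)
theorem F194708 : act 2 n42343 = n41642 := d22_1 D42343 (iv D41642) (iv F190427)
theorem F194709 : act 3 n42343 = n41883 := d28_1 D42343 (iv D41883) (iv F190428)
theorem F194710 : act 4 n42343 = n41380 := d33_1 D42343 (iv D41380) D41379
theorem F194711 : act 6 n42343 = n41737 := d40_1 D42343 (iv D41737) (iv F190430)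
theorem F194712 : act 7 n42343 = n41401 := d42_1 D42343 (iv D41401) (iv F190431)
def n42344 : Q := act 5 n41380
theorem D42344 : act 5 n41380 = n42344 := rfl
theorem F194713 : act 0 n42344 = n42075 := d4_1 D42344 F193569 (iv F190433)
theorem F194714 : act 1 n42344 = n42037 := d12_1 D42344 F193438 (iv F190434)
theorem F194715 : act 2 n42344 = n41643 := d19_1 D42344 (iv D41643) (iv F190435)
theorem F194716 : act 3 n42344 = n41382 := d25_1 D42344 (iv D41382) (iv F190436)
theorem F194717 : act 7 n42344 = n41402 := d36_2 (iv F190438) D42344 (iv D41402)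
theorem F194718 : act 8 n42344 = n41381 := d37_2 D41380 D42344 (iv D41381) (iv D40315) D40314
theorem F194719 : act 6 n41964 = n42344 := d40_3 F194718 F190443 D41964
def n42345 : Q := act 9 n41380
theorem D42345 : act 9 n41380 = n42345 := rfl
theorem F194720 : act 0 n42345 = n42147 := d8_1 D42345 (iv D42147) (iv F190433)
theorem F194721 : act 1 n42345 = n42067 := d16_1 D42345 (iv D42067) (iv F190434)
theorem F194722 : act 2 n42345 = n41644 := d23_1 D42345 (iv D41644) (iv F190435)
theorem F194723 : act 3 n42345 = n41383 := d29_1 D42345 (iv D41383) (iv F190436)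
theorem F194724 : act 6 n42345 = n41739 := d41_1 D42345 (iv D41739) (iv F190437)
theorem F194725 : act 7 n42345 = n41403 := d43_1 D42345 (iv D41403) (iv F190438)
theorem F194726 : act 8 n42345 = n41713 := d44_1 D42345 (iv D41713) (iv D40649) (iv F185939) D41380
def n42346 : Q := act 4 n41381
theorem D42346 : act 4 n41381 = n42346 := rfl
theorem F194727 : act 0 n42346 = n42078 := d3_1 D42346 F193580 (iv F190439)
theorem F194728 : act 1 n42346 = n42041 := d11_1 D42346 F193448 (iv F190440)
theorem F194729 : act 2 n42346 = n41645 := d18_1 D42346 (iv D41645) (iv F190441)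
theorem F194730 : act 5 n42346 = n42346 := d30_2 D41381 D42346 (iv D42346) (iv D41381) F185944
theorem F194731 : act 6 n42346 = n41962 := d31_2 (iv F190443) D42346 F193152
theorem F194732 : act 7 n42346 = n41404 := d32_2 (iv F190444) D42346 (iv D41404)
theorem F194733 : act 9 n42346 = n41928 := d34_2 (iv F190445) D42346 F193062
def n42347 : Q := act 4 n41382
theorem D42347 : act 4 n41382 = n42347 := rfl
theorem F194734 : act 0 n42347 = n42084 := d3_1 D42347 F193603 (iv F190446)
theorem F194735 : act 1 n42347 = n42170 := d11_1 D42347 F193825 (iv F190447)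
theorem F194736 : act 2 n42347 = n41390 := d18_1 D42347 (iv D41390) (iv F190448)
theorem F194737 : act 5 n42347 = n41887 := d30_2 D41382 D42347 (iv D41887) (iv D40858) (iv F185951)
theorem F194738 : act 7 n42347 = n41405 := d32_2 (iv F190449) D42347 (iv D41405)
theorem F194739 : act 8 n42347 = n41384 := d33_2 (iv F190450) D42347 (iv D41384)
def n42348 : Q := act 6 n41382
theorem D42348 : act 6 n41382 = n42348 := rfl
theorem F194740 : act 0 n42348 = n42011 := d5_1 D42348 F193352 (iv F190446)
theorem F194741 : act 1 n42348 = n41900 := d13_1 D42348 F192968 (iv F190447)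
theorem F194742 : act 2 n42348 = n41391 := d20_1 D42348 (iv D41391) (iv F190448)
theorem F194743 : act 3 n42348 = n41964 := d26_1 D42348 F194719 F194716
theorem F194744 : act 5 n42348 = n41741 := d35_1 D42348 (iv D41741) (iv D40675) (iv F185952) D41382
theorem F194745 : act 7 n42348 = n41443 := d39_2 (iv F190449) D42348 (iv D41443) F186300 (iv F186074)
theorem F194746 : act 8 n42348 = n41385 := d40_2 (iv F190450) D42348 (iv D41385)
def n42349 : Q := act 9 n41382
theorem D42349 : act 9 n41382 = n42349 := rfl
theorem F194747 : act 0 n42349 = n42087 := d8_1 D42349 (iv D42087) (iv F190446)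
theorem F194748 : act 1 n42349 = n42173 := d16_1 D42349 (iv D42173) (iv F190447)
theorem F194749 : act 2 n42349 = n41392 := d23_1 D42349 (iv D41392) (iv F190448)
theorem F194750 : act 5 n42349 = n41383 := d38_1 D42349 (iv D41383) D41382
theorem F194751 : act 7 n42349 = n41406 := d43_1 D42349 (iv D41406) (iv F190449)
def n42350 : Q := act 3 n41384
theorem D42350 : act 3 n41384 = n42350 := rfl
theorem F194752 : act 0 n42350 = n42088 := d2_1 D42350 F193614 (iv F190458)
theorem F194753 : act 1 n42350 = n42177 := d10_1 D42350 F193839 (iv F190459)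
theorem F194754 : act 5 n42350 = n41387 := d25_2 (iv F190461) D42350 (iv D41387)
theorem F194755 : act 7 n42350 = n41407 := d27_2 (iv F190462) D42350 (iv D41407)
def n42351 : Q := act 6 n41384
theorem D42351 : act 6 n41384 = n42351 := rfl
theorem F194756 : act 0 n42351 = n42014 := d5_1 D42351 F193365 (iv F190458)
theorem F194757 : act 1 n42351 = n41906 := d13_1 D42351 F192988 (iv F190459)
theorem F194758 : act 2 n42351 = n41394 := d20_1 D42351 (iv D41394) (iv F190460)
theorem F194759 : act 4 n42351 = n41385 := d31_1 D42351 (iv D41385) D41384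
theorem F194760 : act 5 n42351 = n42351 := d35_1 D42351 (iv D42351) F190461 F185977 (iv F190461)
theorem F194761 : act 7 n42351 = n41446 := d39_2 (iv F190462) D42351 (iv D41446) F186312 (iv F186084)
theorem F194762 : act 9 n41951 = n42351 := d43_0 F194761 F190825 D41951
def n42352 : Q := act 9 n41384
theorem D42352 : act 9 n41384 = n42352 := rfl
theorem F194763 : act 0 n42352 = n41910 := d8_1 D42352 F193003 (iv F190458)
theorem F194764 : act 1 n42352 = n42180 := d16_1 D42352 (iv D42180) (iv F190459)
theorem F194765 : act 2 n42352 = n41395 := d23_1 D42352 (iv D41395) (iv F190460)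
theorem F194766 : act 4 n42352 = n41386 := d34_1 D42352 (iv D41386) D41384
theorem F194767 : act 5 n42352 = n41388 := d38_1 D42352 (iv D41388) (iv F190461)
theorem F194768 : act 6 n42352 = n41951 := d41_1 D42352 F194762 (iv D42351)
theorem F194769 : act 7 n42352 = n41408 := d43_1 D42352 (iv D41408) (iv F190462)
def n42353 : Q := act 8 n41386
theorem D42353 : act 8 n41386 = n42353 := rfl
theorem F194770 : act 0 n42353 = n41911 := d7_1 D42353 (iv D41911) (iv F190470)
theorem F194771 : act 1 n42353 = n42183 := d15_1 D42353 (iv D42183) (iv F190471)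
theorem F194772 : act 2 n42353 = n41398 := d22_1 D42353 (iv D41398) (iv F190472)
theorem F194773 : act 3 n42353 = n41925 := d28_1 D42353 F193056 (iv F190473)
theorem F194774 : act 5 n42353 = n41719 := d37_1 D42353 (iv D41719) F187740 (iv F185965) (iv F190474)
theorem F194775 : act 6 n42353 = n41948 := d40_1 D42353 F193113 (iv F190475)
theorem F194776 : act 7 n42353 = n41409 := d42_1 D42353 (iv D41409) (iv F190476)
def n42354 : Q := act 2 n41387
theorem D42354 : act 2 n41387 = n42354 := rfl
theorem F194777 : act 0 n42354 = n41835 := d1_1 D42354 F192723 (iv F190477)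
theorem F194778 : act 3 n42354 = n41399 := d17_2 D41387 D42354 (iv D41399) (iv D40329) (iv F185976)
theorem F194779 : act 4 n42354 = n42354 := d18_2 F190479 D42354 (iv D42354)
theorem F194780 : act 6 n42354 = n42354 := d20_2 F190480 D42354 (iv D42354)
theorem F194781 : act 7 n42354 = n41410 := d21_2 (iv F190481) D42354 (iv D41410)
theorem F194782 : act 8 n42354 = n41894 := d22_2 (iv F190482) D42354 (iv D41894)
theorem F194783 : act 1 n41895 = n42354 := d14_3 F194781 (iv F190613) (iv F192955)
theorem F194784 : act 9 n41594 = n42354 := d43_0 F194781 (iv F190614) D41594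
def n42355 : Q := act 9 n41387
theorem D42355 : act 9 n41387 = n42355 := rfl
theorem F194785 : act 0 n42355 = n41979 := d8_1 D42355 F193199 (iv F190477)
theorem F194786 : act 1 n42355 = n42227 := d16_1 D42355 (iv D42227) (iv F190478)
theorem F194787 : act 2 n42355 = n41594 := d23_1 D42355 F194784 (iv D42354)
theorem F194788 : act 3 n42355 = n41388 := d29_1 D42355 (iv D41388) D41387
theorem F194789 : act 4 n42355 = n42355 := d34_1 D42355 (iv D42355) F190479
theorem F194790 : act 6 n42355 = n42355 := d41_1 D42355 (iv D42355) F190480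
theorem F194791 : act 7 n42355 = n41411 := d43_1 D42355 (iv D41411) (iv F190481)
theorem F194792 : act 8 n42226 = n42355 := d42_0 F194791 (iv F190621) D42226
def n42356 : Q := act 8 n41388
theorem D42356 : act 8 n41388 = n42356 := rfl
theorem F194793 : act 0 n42356 = n41980 := d7_1 D42356 (iv D41980) (iv F190483)
theorem F194794 : act 1 n42356 = n41908 := d15_1 D42356 F192996 (iv F190484)
theorem F194795 : act 2 n42356 = n41400 := d22_1 D42356 (iv D41400) (iv F190485)
theorem F194796 : act 3 n42356 = n42226 := d28_1 D42356 F194792 F194788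
theorem F194797 : act 4 n42356 = n41389 := d33_1 D42356 (iv D41389) (iv F190486)
theorem F194798 : act 6 n42356 = n42356 := d40_1 D42356 (iv D42356) F190487
theorem F194799 : act 7 n42356 = n41412 := d42_1 D42356 (iv D41412) (iv F190488)
theorem F194800 : act 9 n42356 = n41896 := d44_2 D41388 D42356 (iv D41896) (iv D40864) (iv F185979)
def n42357 : Q := act 3 n41390
theorem D42357 : act 3 n41390 = n42357 := rfl
theorem F194801 : act 0 n42357 = n41758 := d2_1 D42357 F192396 (iv F190497)
theorem F194802 : act 1 n42357 = n41490 := d10_1 D42357 (iv D41490) (iv F190498)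
theorem F194803 : act 4 n42357 = n41591 := d24_2 D41390 D42357 F191585 (iv D40585) (iv F185989)
theorem F194804 : act 5 n42357 = n41897 := d25_2 (iv F190499) D42357 (iv D41897)
theorem F194805 : act 7 n42357 = n41413 := d27_2 (iv F190500) D42357 (iv D41413)
theorem F194806 : act 8 n42357 = n41393 := d28_2 (iv F190501) D42357 (iv D41393)
def n42358 : Q := act 6 n41390
theorem D42358 : act 6 n41390 = n42358 := rfl
theorem F194807 : act 0 n42358 = n42148 := d5_1 D42358 (iv D42148) (iv F190497)
theorem F194808 : act 1 n42358 = n41491 := d13_1 D42358 (iv D41491) (iv F190498)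
theorem F194809 : act 4 n42358 = n41391 := d31_1 D42358 (iv D41391) D41390
theorem F194810 : act 8 n42358 = n41394 := d40_2 (iv F190501) D42358 (iv D41394)
def n42359 : Q := act 9 n41390
theorem D42359 : act 9 n41390 = n42359 := rfl
theorem F194811 : act 0 n42359 = n42149 := d8_1 D42359 (iv D42149) (iv F190497)
theorem F194812 : act 1 n42359 = n41492 := d16_1 D42359 (iv D41492) (iv F190498)
theorem F194813 : act 4 n42359 = n41392 := d34_1 D42359 (iv D41392) D41390
theorem F194814 : act 5 n42359 = n41899 := d38_1 D42359 (iv D41899) (iv F190499)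
theorem F194815 : act 7 n42359 = n41415 := d43_1 D42359 (iv D41415) (iv F190500)
def n42360 : Q := act 7 n41391
theorem D42360 : act 7 n41391 = n42360 := rfl
theorem F194816 : act 0 n42360 = n42005 := d6_1 D42360 F193321 (iv F190502)
theorem F194817 : act 1 n42360 = n41493 := d14_1 D42360 (iv D41493) (iv F190503)
theorem F194818 : act 2 n42360 = n41443 := d21_1 D42360 (iv F194745) F194742
theorem F194819 : act 3 n42360 = n41651 := d27_1 D42360 (iv D41651) (iv F190504)
theorem F194820 : act 5 n42360 = n41748 := d36_1 D42360 (iv D41748) (iv F190505)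
theorem F194821 : act 6 n42360 = n41416 := d39_1 D42360 (iv D41416) (iv D40344) (iv F185990) D41391
theorem F194822 : act 8 n42360 = n41396 := d42_2 (iv F190506) D42360 (iv D41396)
def n42361 : Q := act 9 n41391
theorem D42361 : act 9 n41391 = n42361 := rfl
theorem F194823 : act 0 n42361 = n42150 := d8_1 D42361 (iv D42150) (iv F190502)
theorem F194824 : act 1 n42361 = n41494 := d16_1 D42361 (iv D41494) (iv F190503)
theorem F194825 : act 3 n42361 = n41652 := d29_1 D42361 (iv D41652) (iv F190504)
theorem F194826 : act 5 n42361 = n41749 := d38_1 D42361 (iv D41749) (iv F190505)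
theorem F194827 : act 6 n42361 = n41392 := d41_1 D42361 (iv D41392) D41391
def n42362 : Q := act 8 n41392
theorem D42362 : act 8 n41392 = n42362 := rfl
theorem F194828 : act 0 n42362 = n41913 := d7_1 D42362 F193015 (iv F190507)
theorem F194829 : act 1 n42362 = n41495 := d15_1 D42362 (iv D41495) (iv F190508)
theorem F194830 : act 3 n42362 = n41653 := d28_1 D42362 (iv D41653) (iv F190509)
theorem F194831 : act 5 n42362 = n41728 := d37_1 D42362 (iv D41728) F187763 (iv F185998) (iv F190510)
theorem F194832 : act 7 n42362 = n41418 := d42_1 D42362 (iv D41418) (iv F190511)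
theorem F194833 : act 9 n42362 = n41398 := d44_2 D41392 D42362 (iv D41398) (iv D40326) (iv F185991)
def n42363 : Q := act 2 n41393
theorem D42363 : act 2 n41393 = n42363 := rfl
theorem F194834 : act 0 n42363 = n41756 := d1_1 D42363 F192389 (iv F190512)
theorem F194835 : act 1 n42363 = n41892 := d9_1 D42363 F192941 F188574 F186604 (iv F190513)
theorem F194836 : act 4 n42363 = n41582 := d18_2 (iv F190514) D42363 F191547
theorem F194837 : act 5 n42363 = n41399 := d19_2 (iv F190515) D42363 (iv D41399)
theorem F194838 : act 7 n42363 = n41419 := d21_2 (iv F190516) D42363 (iv D41419)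
theorem F194839 : act 9 n42363 = n41580 := d23_2 F190517 D42363 F191539
theorem F194840 : act 6 n42071 = n42363 := d31_0 F194836 F191550 D42071
def n42364 : Q := act 6 n41393
theorem D42364 : act 6 n41393 = n42364 := rfl
theorem F194841 : act 0 n42364 = n41706 := d5_1 D42364 F192186 (iv F190512)
theorem F194842 : act 1 n42364 = n41496 := d13_1 D42364 (iv D41496) (iv F190513)
theorem F194843 : act 2 n42364 = n42071 := d20_1 D42364 F194840 (iv D42363)
theorem F194844 : act 3 n42364 = n41394 := d26_1 D42364 (iv D41394) D41393
theorem F194845 : act 4 n42364 = n41500 := d31_1 D42364 F191133 (iv F190514)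
theorem F194846 : act 5 n42364 = n42364 := d35_1 D42364 (iv D42364) F190515 F186031 (iv F190515)
theorem F194847 : act 7 n42364 = n41498 := d39_2 (iv F190516) D42364 F191124 F186611 F186123
theorem F194848 : act 9 n42364 = n41497 := d41_2 F190517 D42364 F191120
def n42365 : Q := act 7 n41394
theorem D42365 : act 7 n41394 = n42365 := rfl
theorem F194849 : act 0 n42365 = n42007 := d6_1 D42365 F193334 (iv F190518)
theorem F194850 : act 1 n42365 = n41497 := d14_1 D42365 (iv D41497) (iv F190519)
theorem F194851 : act 2 n42365 = n41446 := d21_1 D42365 (iv F194761) F194758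
theorem F194852 : act 3 n42365 = n41498 := d27_1 D42365 (iv F194847) F194844
theorem F194853 : act 4 n42365 = n41396 := d32_1 D42365 (iv D41396) (iv F190520)
theorem F194854 : act 5 n42365 = n42365 := d36_1 D42365 (iv D42365) F190521
theorem F194855 : act 6 n42365 = n41420 := d39_1 D42365 (iv D41420) (iv D40347) (iv F186002) D41394
theorem F194856 : act 9 n41496 = n42365 := d41_0 F194855 F190675 D41496
def n42366 : Q := act 9 n41394
theorem D42366 : act 9 n41394 = n42366 := rfl
theorem F194857 : act 0 n42366 = n41880 := d8_1 D42366 F192907 (iv F190518)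
theorem F194858 : act 1 n42366 = n41498 := d16_1 D42366 (iv D41498) (iv F190519)
theorem F194859 : act 2 n42366 = n41951 := d23_1 D42366 F194762 F194758
theorem F194860 : act 3 n42366 = n41497 := d29_1 D42366 (iv F194848) F194844
theorem F194861 : act 4 n42366 = n41397 := d34_1 D42366 (iv D41397) (iv F190520)
theorem F194862 : act 5 n42366 = n42366 := d38_1 D42366 (iv D42366) F190521
theorem F194863 : act 6 n42366 = n41395 := d41_1 D42366 (iv D41395) D41394
theorem F194864 : act 7 n42366 = n41496 := d43_1 D42366 F194856 (iv D42365)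
def n42367 : Q := act 8 n41395
theorem D42367 : act 8 n41395 = n42367 := rfl
theorem F194865 : act 0 n42367 = n41912 := d7_1 D42367 (iv D41912) (iv F190522)
theorem F194866 : act 1 n42367 = n41499 := d15_1 D42367 (iv D41499) (iv F190523)
theorem F194867 : act 3 n42367 = n41586 := d28_1 D42367 F191568 (iv F190524)
theorem F194868 : act 4 n42367 = n41398 := d33_1 D42367 (iv D41398) (iv F190525)
theorem F194869 : act 7 n42367 = n41421 := d42_1 D42367 (iv D41421) (iv F190527)
def n42368 : Q := act 8 n41397
theorem D42368 : act 8 n41397 = n42368 := rfl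
theorem F194870 : act 0 n42368 = n41881 := d7_1 D42368 (iv D41881) (iv F190535)
theorem F194871 : act 1 n42368 = n41501 := d15_1 D42368 (iv D41501) (iv F190536)
theorem F194872 : act 2 n42368 = n41948 := d22_1 D42368 F193113 (iv F190537)
theorem F194873 : act 3 n42368 = n41654 := d28_1 D42368 (iv D41654) (iv F190538)
theorem F194874 : act 5 n42368 = n42122 := d37_1 D42368 F193712 F189326 F186027 (iv F190539)
theorem F194875 : act 6 n42368 = n41398 := d40_1 D42368 (iv D41398) (iv F190540)
theorem F194876 : act 7 n42368 = n41767 := d42_1 D42368 F192445 (iv F190541)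
def n42369 : Q := act 5 n41400
theorem D42369 : act 5 n41400 = n42369 := rfl
theorem F194877 : act 0 n42369 = n41981 := d4_1 D42369 (iv D41981) (iv F190554)
theorem F194878 : act 1 n42369 = n41484 := d12_1 D42369 F191058 (iv F190555)
theorem F194879 : act 3 n42369 = n41473 := d25_1 D42369 F190998 (iv F190556)
theorem F194880 : act 4 n42369 = n41736 := d30_1 D42369 (iv D41736) F187793 (iv F186044) (iv F190557)
theorem F194881 : act 7 n42369 = n41422 := d36_2 (iv F190559) D42369 (iv D41422)
theorem F194882 : act 9 n42369 = n41909 := d38_2 (iv F190560) D42369 (iv D41909)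
def n42370 : Q := act 5 n41401
theorem D42370 : act 5 n41401 = n42370 := rfl
theorem F194883 : act 1 n42370 = n42063 := d12_1 D42370 (iv D42063) (iv F190561)
theorem F194884 : act 2 n42370 = n41699 := d19_1 D42370 (iv D41699) (iv F190562)
theorem F194885 : act 3 n42370 = n42152 := d25_1 D42370 (iv D42152) (iv F190563)
theorem F194886 : act 6 n42370 = n42097 := d35_2 (iv F190565) D42370 (iv D42097) (iv D41084) (iv F188847)
theorem F194887 : act 8 n42370 = n42370 := d37_2 D41401 D42370 (iv D42370) (iv D41401) F186059
def n42371 : Q := act 9 n41401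
theorem D42371 : act 9 n41401 = n42371 := rfl
theorem F194888 : act 1 n42371 = n42065 := d16_1 D42371 (iv D42065) (iv F190561)
theorem F194889 : act 2 n42371 = n41700 := d23_1 D42371 (iv D41700) (iv F190562)
theorem F194890 : act 3 n42371 = n42153 := d29_1 D42371 (iv D42153) (iv F190563)
theorem F194891 : act 4 n42371 = n41403 := d34_1 D42371 (iv D41403) (iv F190564)
theorem F194892 : act 6 n42371 = n41988 := d41_1 D42371 (iv D41988) (iv F190565)
def n42372 : Q := act 4 n41402
theorem D42372 : act 4 n41402 = n42372 := rfl
theorem F194893 : act 0 n42372 = n42073 := d3_1 D42372 F193561 (iv F190566)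
theorem F194894 : act 1 n42372 = n42035 := d11_1 D42372 F193434 (iv F190567)
theorem F194895 : act 2 n42372 = n41701 := d18_1 D42372 (iv D41701) (iv F190568)
theorem F194896 : act 6 n42372 = n41505 := d31_2 (iv F190570) D42372 (iv D41505)
theorem F194897 : act 8 n42372 = n41404 := d33_2 (iv F190571) D42372 (iv D41404)
def n42373 : Q := act 9 n41402
theorem D42373 : act 9 n41402 = n42373 := rfl
theorem F194898 : act 0 n42373 = n42076 := d8_1 D42373 (iv D42076) (iv F190566)
theorem F194899 : act 1 n42373 = n42038 := d16_1 D42373 (iv D42038) (iv F190567)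
theorem F194900 : act 2 n42373 = n41702 := d23_1 D42373 (iv D41702) (iv F190568)
theorem F194901 : act 3 n42373 = n41406 := d29_1 D42373 (iv D41406) (iv F190569)
theorem F194902 : act 5 n42373 = n41403 := d38_1 D42373 (iv D41403) D41402
theorem F194903 : act 6 n42373 = n41506 := d41_1 D42373 (iv D41506) (iv F190570)
theorem F194904 : act 8 n42373 = n41926 := d44_1 D42373 (iv D41926) F188643 (iv F186070) (iv F190571)
def n42374 : Q := act 3 n41404
theorem D42374 : act 3 n41404 = n42374 := rfl
theorem F194905 : act 0 n42374 = n42077 := d2_1 D42374 F193576 (iv F190576)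
theorem F194906 : act 1 n42374 = n42040 := d10_1 D42374 F193445 (iv F190577)
theorem F194907 : act 4 n42374 = n41407 := d24_2 D41404 D42374 (iv D41407) (iv D40338) (iv F186068)
theorem F194908 : act 5 n42374 = n42374 := d25_2 F190579 D42374 (iv D42374)
theorem F194909 : act 6 n42374 = n41507 := d26_2 (iv F190580) D42374 (iv D41507)
theorem F194910 : act 9 n42374 = n41927 := d29_2 (iv F190581) D42374 F193059
theorem F194911 : act 2 n41982 = n42374 := d20_3 F194909 (iv F191179) D41982
def n42375 : Q := act 3 n41405
theorem D42375 : act 3 n41405 = n42375 := rfl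
theorem F194912 : act 0 n42375 = n42082 := d2_1 D42375 F193597 (iv F190582)
theorem F194913 : act 1 n42375 = n42168 := d10_1 D42375 F193822 (iv F190583)
theorem F194914 : act 5 n42375 = n42158 := d25_2 (iv F190585) D42375 (iv D42158)
theorem F194915 : act 6 n42375 = n41511 := d26_2 (iv F190586) D42375 (iv D41511)
theorem F194916 : act 8 n42375 = n41407 := d28_2 (iv F190587) D42375 (iv D41407)
def n42376 : Q := act 9 n41405
theorem D42376 : act 9 n41405 = n42376 := rfl
theorem F194917 : act 0 n42376 = n42085 := d8_1 D42376 (iv D42085) (iv F190582)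
theorem F194918 : act 1 n42376 = n42171 := d16_1 D42376 (iv D42171) (iv F190583)
theorem F194919 : act 2 n42376 = n41415 := d23_1 D42376 (iv D41415) (iv F190584)
theorem F194920 : act 4 n42376 = n41406 := d34_1 D42376 (iv D41406) D41405
theorem F194921 : act 5 n42376 = n42159 := d38_1 D42376 (iv D42159) (iv F190585)
theorem F194922 : act 6 n42376 = n41512 := d41_1 D42376 (iv D41512) (iv F190586)
def n42377 : Q := act 8 n41406
theorem D42377 : act 8 n41406 = n42377 := rfl
theorem F194923 : act 0 n42377 = n41936 := d7_1 D42377 F193086 (iv F190588)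
theorem F194924 : act 1 n42377 = n42174 := d15_1 D42377 (iv D42174) (iv F190589)
theorem F194925 : act 2 n42377 = n41418 := d22_1 D42377 (iv D41418) (iv F190590)
theorem F194926 : act 3 n42377 = n41926 := d28_1 D42377 (iv F194904) F194901
theorem F194927 : act 6 n42377 = n41513 := d40_1 D42377 (iv D41513) (iv F190592)
theorem F194928 : act 9 n42377 = n41409 := d44_2 D41406 D42377 (iv D41409) (iv D40339) (iv F186075)
def n42378 : Q := act 2 n41407
theorem D42378 : act 2 n41407 = n42378 := rfl
theorem F194929 : act 0 n42378 = n41810 := d1_1 D42378 F192636 (iv F190593)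
theorem F194930 : act 3 n42378 = n41419 := d17_2 D41407 D42378 (iv D41419) (iv D40346) (iv F186082)
theorem F194931 : act 4 n42378 = n41982 := d18_2 F194907 D42378 F194911
theorem F194932 : act 5 n42378 = n41410 := d19_2 (iv F190595) D42378 (iv D41410)
theorem F194933 : act 6 n42378 = n41514 := d20_2 (iv F190596) D42378 (iv D41514)
theorem F194934 : act 1 n42162 = n42378 := d13_3 F194933 F191219 (iv F193804)
theorem F194935 : act 9 n41579 = n42378 := d41_0 F194933 (iv F191218) D41579
def n42379 : Q := act 9 n41407
theorem D42379 : act 9 n41407 = n42379 := rfl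
theorem F194936 : act 0 n42379 = n41934 := d8_1 D42379 F193080 (iv F190593)
theorem F194937 : act 1 n42379 = n42178 := d16_1 D42379 (iv D42178) (iv F190594)
theorem F194938 : act 2 n42379 = n41579 := d23_1 D42379 F194935 (iv D42378)
theorem F194939 : act 3 n42379 = n41408 := d29_1 D42379 (iv D41408) D41407
theorem F194940 : act 4 n42379 = n41927 := d34_1 D42379 (iv F194910) F194907
theorem F194941 : act 5 n42379 = n41411 := d38_1 D42379 (iv D41411) (iv F190595)
theorem F194942 : act 6 n42379 = n41515 := d41_1 D42379 (iv D41515) (iv F190596)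
def n42380 : Q := act 8 n41408
theorem D42380 : act 8 n41408 = n42380 := rfl
theorem F194943 : act 0 n42380 = n41935 := d7_1 D42380 (iv D41935) (iv F190597)
theorem F194944 : act 1 n42380 = n42181 := d15_1 D42380 (iv D42181) (iv F190598)
theorem F194945 : act 2 n42380 = n41421 := d22_1 D42380 (iv D41421) (iv F190599)
theorem F194946 : act 4 n42380 = n41409 := d33_1 D42380 (iv D41409) (iv F190600)
theorem F194947 : act 6 n42380 = n41516 := d40_1 D42380 (iv D41516) (iv F190602)
def n42381 : Q := act 5 n41412
theorem D42381 : act 5 n41412 = n42381 := rfl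
theorem F194948 : act 0 n42381 = n41983 := d4_1 D42381 (iv D41983) (iv F190622)
theorem F194949 : act 1 n42381 = n42176 := d12_1 D42381 F193838 (iv F190623)
theorem F194950 : act 2 n42381 = n41422 := d19_1 D42381 (iv D41422) (iv F190624)
theorem F194951 : act 3 n42381 = n42175 := d25_1 D42381 F193836 (iv F190625)
theorem F194952 : act 6 n42381 = n42161 := d35_2 (iv F190627) D42381 F193801 F189450 (iv F186181)
theorem F194953 : act 9 n42381 = n42166 := d38_2 (iv F190628) D42381 (iv D42166)
def n42382 : Q := act 2 n41413
theorem D42382 : act 2 n41413 = n42382 := rfl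
theorem F194954 : act 0 n42382 = n41811 := d1_1 D42382 F192640 (iv F190629)
theorem F194955 : act 1 n42382 = n42163 := d9_1 D42382 F193805 (iv F191228) F191229 (iv F190630)
theorem F194956 : act 4 n42382 = n41583 := d18_2 (iv F190631) D42382 F191554
theorem F194957 : act 5 n42382 = n42167 := d19_2 (iv F190632) D42382 (iv D42167)
theorem F194958 : act 6 n42382 = n41581 := d20_2 F190634 D42382 F191543
theorem F194959 : act 8 n42382 = n41419 := d22_2 (iv F190633) D42382 (iv D41419)
def n42383 : Q := act 9 n41413
theorem D42383 : act 9 n41413 = n42383 := rfl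
theorem F194960 : act 0 n42383 = n41815 := d8_1 D42383 (iv D41815) (iv F190629)
theorem F194961 : act 1 n42383 = n41585 := d16_1 D42383 (iv D41585) (iv F190630)
theorem F194962 : act 3 n42383 = n41415 := d29_1 D42383 (iv D41415) D41413
theorem F194963 : act 4 n42383 = n41590 := d34_1 D42383 F191582 (iv F190631)
theorem F194964 : act 5 n42383 = n42169 := d38_1 D42383 (iv D42169) (iv F190632)
theorem F194965 : act 6 n42383 = n41588 := d41_1 D42383 F191574 F190634
theorem F194966 : act 8 n42383 = n41587 := d44_1 D42383 (iv D41587) F187067 F186124 (iv F190633)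
def n42384 : Q := act 7 n41414
theorem D42384 : act 7 n41414 = n42384 := rfl
theorem F194967 : act 0 n42384 = n42004 := d6_1 D42384 F193315 (iv F190635)
theorem F194968 : act 1 n42384 = n41586 := d14_1 D42384 (iv D41586) (iv F190636)
theorem F194969 : act 2 n42384 = n41442 := d21_1 D42384 F190801 (iv F190637)
theorem F194970 : act 3 n42384 = n41499 := d27_1 D42384 F191127 (iv F190638)
theorem F194971 : act 4 n42384 = n41416 := d32_1 D42384 (iv D41416) (iv F190639)
theorem F194972 : act 5 n42384 = n41481 := d36_1 D42384 F191046 F190641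
theorem F194973 : act 8 n42384 = n41420 := d42_2 (iv F190640) D42384 (iv D41420)
def n42385 : Q := act 9 n41414
theorem D42385 : act 9 n41414 = n42385 := rfl
theorem F194974 : act 0 n42385 = n42080 := d8_1 D42385 (iv D42080) (iv F190635)
theorem F194975 : act 1 n42385 = n41587 := d16_1 D42385 (iv D41587) (iv F190636)
theorem F194976 : act 2 n42385 = n41512 := d23_1 D42385 (iv D41512) (iv F190637)
theorem F194977 : act 3 n42385 = n41588 := d29_1 D42385 F191574 (iv F190638)
theorem F194978 : act 4 n42385 = n41417 := d34_1 D42385 (iv D41417) (iv F190639)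
theorem F194979 : act 5 n42385 = n41575 := d38_1 D42385 (iv D41575) F190641
theorem F194980 : act 6 n42385 = n41415 := d41_1 D42385 (iv D41415) D41414
theorem F194981 : act 8 n42385 = n41585 := d44_1 D42385 (iv D41585) F187064 F186131 (iv F190640)
def n42386 : Q := act 8 n41415
theorem D42386 : act 8 n41415 = n42386 := rfl
theorem F194982 : act 0 n42386 = n41938 := d7_1 D42386 (iv F194705) F194697
theorem F194983 : act 1 n42386 = n41588 := d15_1 D42386 (iv D41588) (iv F190642)
theorem F194984 : act 3 n42386 = n41587 := d28_1 D42386 (iv F194966) F194962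
theorem F194985 : act 4 n42386 = n41418 := d33_1 D42386 (iv D41418) (iv F190643)
theorem F194986 : act 6 n42386 = n41585 := d40_1 D42386 (iv F194981) F194980
theorem F194987 : act 9 n42386 = n41421 := d44_2 D41415 D42386 (iv D41421) (iv D40348) (iv F186109)
def n42387 : Q := act 9 n41416
theorem D42387 : act 9 n41416 = n42387 := rfl
theorem F194988 : act 0 n42387 = n42006 := d8_1 D42387 (iv D42006) (iv F190645)
theorem F194989 : act 1 n42387 = n41589 := d16_1 D42387 (iv D41589) (iv F190646)
theorem F194990 : act 2 n42387 = n41444 := d23_1 D42387 (iv D41444) (iv F190647)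
theorem F194991 : act 3 n42387 = n41705 := d29_1 D42387 (iv D41705) (iv F190648)
theorem F194992 : act 5 n42387 = n41441 := d38_1 D42387 (iv D41441) (iv F190649)
theorem F194993 : act 7 n42387 = n41417 := d43_1 D42387 (iv D41417) D41416
theorem F194994 : act 8 n42387 = n41768 := d44_1 D42387 (iv D41768) F187944 (iv F186143) (iv F190650)
def n42388 : Q := act 5 n41421
theorem D42388 : act 5 n41421 = n42388 := rfl
theorem F194995 : act 0 n42388 = n41937 := d4_1 D42388 (iv D41937) (iv F190676)
theorem F194996 : act 1 n42388 = n41573 := d12_1 D42388 F191509 (iv F190677)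
theorem F194997 : act 3 n42388 = n41559 := d25_1 D42388 F191439 (iv F190678)
theorem F194998 : act 6 n42388 = n42158 := d35_2 (iv F190680) D42388 (iv F194914) F194915 F191200
theorem F194999 : act 8 n42388 = n41422 := d37_2 D41421 D42388 (iv D41422) (iv D40352) (iv F186136)
def n42389 : Q := act 8 n41423
theorem D42389 : act 8 n41423 = n42389 := rfl
theorem F195000 : act 0 n42389 = n42024 := d7_1 D42389 (iv D42024) (iv F190686)
theorem F195001 : act 1 n42389 = n42220 := d15_1 D42389 F193932 (iv F190687)
theorem F195002 : act 2 n42389 = n41711 := d22_1 D42389 (iv D41711) (iv F190688)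
theorem F195003 : act 3 n42389 = n41867 := d28_1 D42389 (iv D41867) (iv F190689)
theorem F195004 : act 4 n42389 = n41424 := d33_1 D42389 (iv D41424) D41423
theorem F195005 : act 6 n42389 = n41477 := d40_1 D42389 (iv D41477) (iv F190691)
theorem F195006 : act 7 n42389 = n41670 := d42_1 D42389 (iv D41670) (iv F190692)
def n42390 : Q := act 5 n41424
theorem D42390 : act 5 n41424 = n42390 := rfl
theorem F195007 : act 0 n42390 = n42025 := d4_1 D42390 (iv D42025) (iv F190694)
theorem F195008 : act 1 n42390 = n41948 := d12_1 D42390 F193112 (iv F190695)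
theorem F195009 : act 2 n42390 = n41712 := d19_1 D42390 (iv D41712) (iv F190696)
theorem F195010 : act 3 n42390 = n41426 := d25_1 D42390 (iv D41426) (iv F190697)
theorem F195011 : act 7 n42390 = n41671 := d36_2 (iv F190699) D42390 (iv D41671)
theorem F195012 : act 8 n42390 = n41425 := d37_2 D41424 D42390 (iv D41425) (iv D40358) D40357
theorem F195013 : act 6 n42183 = n42390 := d40_3 F195012 F190704 D42183
def n42391 : Q := act 9 n41424
theorem D42391 : act 9 n41424 = n42391 := rfl
theorem F195014 : act 0 n42391 = n42026 := d8_1 D42391 (iv D42026) (iv F190694)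
theorem F195015 : act 1 n42391 = n42223 := d16_1 D42391 (iv D42223) (iv F190695)
theorem F195016 : act 2 n42391 = n41713 := d23_1 D42391 (iv D41713) (iv F190696)
theorem F195017 : act 3 n42391 = n41427 := d29_1 D42391 (iv D41427) (iv F190697)
theorem F195018 : act 6 n42391 = n41479 := d41_1 D42391 (iv D41479) (iv F190698)
theorem F195019 : act 7 n42391 = n41672 := d43_1 D42391 (iv D41672) (iv F190699)
theorem F195020 : act 8 n42391 = n41644 := d44_1 D42391 (iv D41644) (iv D40579) (iv F186198) D41424
def n42392 : Q := act 4 n41425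
theorem D42392 : act 4 n41425 = n42392 := rfl
theorem F195021 : act 0 n42392 = n42027 := d3_1 D42392 (iv D42027) (iv F190700)
theorem F195022 : act 1 n42392 = n41951 := d11_1 D42392 F193120 (iv F190701)
theorem F195023 : act 2 n42392 = n41714 := d18_1 D42392 (iv D41714) (iv F190702)
theorem F195024 : act 5 n42392 = n42392 := d30_2 D41425 D42392 (iv D42392) (iv D41425) F186203
theorem F195025 : act 6 n42392 = n42180 := d31_2 (iv F190704) D42392 F193845
theorem F195026 : act 7 n42392 = n41673 := d32_2 (iv F190705) D42392 (iv D41673)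
theorem F195027 : act 9 n42392 = n41906 := d34_2 (iv F190706) D42392 F192986
def n42393 : Q := act 4 n41426
theorem D42393 : act 4 n41426 = n42393 := rfl
theorem F195028 : act 0 n42393 = n42028 := d3_1 D42393 (iv D42028) (iv F190707)
theorem F195029 : act 1 n42393 = n41955 := d11_1 D42393 F193128 (iv F190708)
theorem F195030 : act 2 n42393 = n41432 := d18_1 D42393 (iv D41432) (iv F190709)
theorem F195031 : act 5 n42393 = n41800 := d30_2 D41426 D42393 F192594 F188114 (iv F186210)
theorem F195032 : act 7 n42393 = n41674 := d32_2 (iv F190710) D42393 (iv D41674)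
theorem F195033 : act 8 n42393 = n41428 := d33_2 (iv F190711) D42393 (iv D41428)
def n42394 : Q := act 6 n41426
theorem D42394 : act 6 n41426 = n42394 := rfl
theorem F195034 : act 0 n42394 = n42029 := d5_1 D42394 (iv D42029) (iv F190707)
theorem F195035 : act 1 n42394 = n41925 := d13_1 D42394 F193055 (iv F190708)
theorem F195036 : act 2 n42394 = n41433 := d20_1 D42394 (iv D41433) (iv F190709)
theorem F195037 : act 3 n42394 = n42183 := d26_1 D42394 F195013 F195010
theorem F195038 : act 5 n42394 = n41482 := d35_1 D42394 (iv D41482) (iv D40412) (iv F186211) D41426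
theorem F195039 : act 7 n42394 = n41915 := d39_2 (iv F190710) D42394 (iv D41915) F188616 (iv F187571)
theorem F195040 : act 8 n42394 = n41429 := d40_2 (iv F190711) D42394 (iv D41429)
def n42395 : Q := act 9 n41426
theorem D42395 : act 9 n41426 = n42395 := rfl
theorem F195041 : act 0 n42395 = n42030 := d8_1 D42395 (iv D42030) (iv F190707)
theorem F195042 : act 1 n42395 = n41958 := d16_1 D42395 (iv D41958) (iv F190708)
theorem F195043 : act 2 n42395 = n41434 := d23_1 D42395 (iv D41434) (iv F190709)
theorem F195044 : act 5 n42395 = n41427 := d38_1 D42395 (iv D41427) D41426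
theorem F195045 : act 7 n42395 = n41675 := d43_1 D42395 (iv D41675) (iv F190710)
def n42396 : Q := act 3 n41428
theorem D42396 : act 3 n41428 = n42396 := rfl
theorem F195046 : act 0 n42396 = n42031 := d2_1 D42396 (iv D42031) (iv F190719)
theorem F195047 : act 1 n42396 = n41961 := d10_1 D42396 F193148 (iv F190720)
theorem F195048 : act 5 n42396 = n41431 := d25_2 (iv F190722) D42396 (iv D41431)
theorem F195049 : act 7 n42396 = n41676 := d27_2 (iv F190723) D42396 (iv D41676)
def n42397 : Q := act 6 n41428
theorem D42397 : act 6 n41428 = n42397 := rfl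
theorem F195050 : act 0 n42397 = n42032 := d5_1 D42397 (iv D42032) (iv F190719)
theorem F195051 : act 1 n42397 = n41928 := d13_1 D42397 F193064 (iv F190720)
theorem F195052 : act 2 n42397 = n41436 := d20_1 D42397 (iv D41436) (iv F190721)
theorem F195053 : act 4 n42397 = n41429 := d31_1 D42397 (iv D41429) D41428
theorem F195054 : act 5 n42397 = n42397 := d35_1 D42397 (iv D42397) F190722 F186236 (iv F190722)
theorem F195055 : act 7 n42397 = n41918 := d39_2 (iv F190723) D42397 (iv D41918) F188623 (iv F187582)
theorem F195056 : act 9 n42397 = n42041 := d41_2 F194628 D42397 (iv F194627)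
def n42398 : Q := act 8 n41430
theorem D42398 : act 8 n41430 = n42398 := rfl
theorem F195057 : act 0 n42398 = n41681 := d7_1 D42398 F192084 (iv F190731)
theorem F195058 : act 1 n42398 = n41964 := d15_1 D42398 (iv D41964) (iv F190732)
theorem F195059 : act 2 n42398 = n41439 := d22_1 D42398 (iv D41439) (iv F190733)
theorem F195060 : act 3 n42398 = n41900 := d28_1 D42398 F192969 (iv F190734)
theorem F195061 : act 5 n42398 = n41648 := d37_1 D42398 (iv D41648) F187441 (iv F186224) (iv F190735)
theorem F195062 : act 6 n42398 = n42037 := d40_1 D42398 F193439 (iv F190736)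
theorem F195063 : act 7 n42398 = n41621 := d42_1 D42398 F191785 (iv F190737)
def n42399 : Q := act 2 n41431
theorem D42399 : act 2 n41431 = n42399 := rfl
theorem F195064 : act 0 n42399 = n42033 := d1_1 D42399 (iv D42033) (iv F190738)
theorem F195065 : act 3 n42399 = n41440 := d17_2 D41431 D42399 (iv D41440) (iv D40371) (iv F186235)
theorem F195066 : act 4 n42399 = n42399 := d18_2 F190740 D42399 (iv D42399)
theorem F195067 : act 6 n42399 = n42399 := d20_2 F190741 D42399 (iv D42399)
theorem F195068 : act 7 n42399 = n41677 := d21_2 (iv F190742) D42399 (iv D41677)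
theorem F195069 : act 8 n42399 = n41836 := d22_2 (iv F190743) D42399 F192729
def n42400 : Q := act 3 n41432
theorem D42400 : act 3 n41432 = n42400 := rfl
theorem F195070 : act 0 n42400 = n42034 := d2_1 D42400 (iv D42034) (iv F190744)
theorem F195071 : act 1 n42400 = n41745 := d10_1 D42400 (iv D41745) (iv F190745)
theorem F195072 : act 4 n42400 = n41723 := d24_2 D41432 D42400 (iv D41723) (iv D40658) (iv F186241)
theorem F195073 : act 5 n42400 = n41816 := d25_2 (iv F190746) D42400 F192656
theorem F195074 : act 7 n42400 = n41678 := d27_2 (iv F190747) D42400 (iv D41678)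
theorem F195075 : act 8 n42400 = n41435 := d28_2 (iv F190748) D42400 (iv D41435)
def n42401 : Q := act 6 n41432
theorem D42401 : act 6 n41432 = n42401 := rfl
theorem F195076 : act 0 n42401 = n42035 := d5_1 D42401 (iv D42035) (iv F190744)
theorem F195077 : act 1 n42401 = n41746 := d13_1 D42401 (iv D41746) (iv F190745)
theorem F195078 : act 4 n42401 = n41433 := d31_1 D42401 (iv D41433) D41432
theorem F195079 : act 8 n42401 = n41436 := d40_2 (iv F190748) D42401 (iv D41436)
def n42402 : Q := act 9 n41432
theorem D42402 : act 9 n41432 = n42402 := rfl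
theorem F195080 : act 0 n42402 = n42036 := d8_1 D42402 (iv D42036) (iv F190744)
theorem F195081 : act 1 n42402 = n41747 := d16_1 D42402 (iv D41747) (iv F190745)
theorem F195082 : act 4 n42402 = n41434 := d34_1 D42402 (iv D41434) D41432
theorem F195083 : act 5 n42402 = n41870 := d38_1 D42402 (iv D41870) (iv F190746)
theorem F195084 : act 7 n42402 = n41680 := d43_1 D42402 (iv D41680) (iv F190747)
def n42403 : Q := act 7 n41433
theorem D42403 : act 7 n41433 = n42403 := rfl
theorem F195085 : act 0 n42403 = n42037 := d6_1 D42403 (iv D42037) (iv F190749)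
theorem F195086 : act 1 n42403 = n41748 := d14_1 D42403 (iv D41748) (iv F190750)
theorem F195087 : act 2 n42403 = n41915 := d21_1 D42403 (iv F195039) F195036
theorem F195088 : act 3 n42403 = n41726 := d27_1 D42403 (iv D41726) (iv F190751)
theorem F195089 : act 5 n42403 = n41493 := d36_1 D42403 (iv D41493) (iv F190752)
theorem F195090 : act 6 n42403 = n41681 := d39_1 D42403 (iv D41681) (iv D40616) (iv F186242) D41433
theorem F195091 : act 8 n42403 = n41437 := d42_2 (iv F190753) D42403 (iv D41437)
def n42404 : Q := act 9 n41433
theorem D42404 : act 9 n41433 = n42404 := rfl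
theorem F195092 : act 0 n42404 = n42038 := d8_1 D42404 (iv D42038) (iv F190749)
theorem F195093 : act 1 n42404 = n41749 := d16_1 D42404 (iv D41749) (iv F190750)
theorem F195094 : act 3 n42404 = n41727 := d29_1 D42404 (iv D41727) (iv F190751)
theorem F195095 : act 5 n42404 = n41494 := d38_1 D42404 (iv D41494) (iv F190752)
theorem F195096 : act 6 n42404 = n41434 := d41_1 D42404 (iv D41434) D41433
def n42405 : Q := act 8 n41434
theorem D42405 : act 8 n41434 = n42405 := rfl
theorem F195097 : act 0 n42405 = n41916 := d7_1 D42405 F193027 (iv F190754)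
theorem F195098 : act 1 n42405 = n41750 := d15_1 D42405 (iv D41750) (iv F190755)
theorem F195099 : act 3 n42405 = n41728 := d28_1 D42405 (iv D41728) (iv F190756)
theorem F195100 : act 5 n42405 = n41653 := d37_1 D42405 (iv D41653) F187452 (iv F186250) (iv F190757)
theorem F195101 : act 7 n42405 = n41683 := d42_1 D42405 (iv D41683) (iv F190758)
theorem F195102 : act 9 n42405 = n41439 := d44_2 D41434 D42405 (iv D41439) (iv D40368) (iv F186243)
def n42406 : Q := act 2 n41435
theorem D42406 : act 2 n41435 = n42406 := rfl
theorem F195103 : act 0 n42406 = n42039 := d1_1 D42406 (iv D42039) (iv F190759)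
theorem F195104 : act 4 n42406 = n41729 := d18_2 (iv F190761) D42406 (iv D41729)
theorem F195105 : act 5 n42406 = n41440 := d19_2 (iv F190762) D42406 (iv D41440)
theorem F195106 : act 7 n42406 = n41684 := d21_2 (iv F190763) D42406 (iv D41684)
def n42407 : Q := act 6 n41435
theorem D42407 : act 6 n41435 = n42407 := rfl
theorem F195107 : act 0 n42407 = n42040 := d5_1 D42407 (iv D42040) (iv F190759)
theorem F195108 : act 1 n42407 = n41751 := d13_1 D42407 (iv D41751) (iv F190760)
theorem F195109 : act 3 n42407 = n41436 := d26_1 D42407 (iv D41436) D41435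
theorem F195110 : act 4 n42407 = n41730 := d31_1 D42407 (iv D41730) (iv F190761)
theorem F195111 : act 5 n42407 = n42407 := d35_1 D42407 (iv D42407) F190762 F186283 (iv F190762)
def n42408 : Q := act 7 n41436
theorem D42408 : act 7 n41436 = n42408 := rfl
theorem F195112 : act 0 n42408 = n42041 := d6_1 D42408 (iv D42041) (iv F190764)
theorem F195113 : act 1 n42408 = n41752 := d14_1 D42408 (iv D41752) (iv F190765)
theorem F195114 : act 2 n42408 = n41918 := d21_1 D42408 (iv F195055) F195052
theorem F195115 : act 4 n42408 = n41437 := d32_1 D42408 (iv D41437) (iv F190766)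
theorem F195116 : act 5 n42408 = n42408 := d36_1 D42408 (iv D42408) F190767
theorem F195117 : act 6 n42408 = n41686 := d39_1 D42408 (iv D41686) (iv D40619) (iv F186254) D41436
theorem F195118 : act 9 n42408 = n42032 := d43_2 F194653 D42408 (iv F194652)
def n42409 : Q := act 8 n41438
theorem D42409 : act 8 n41438 = n42409 := rfl
theorem F195119 : act 0 n42409 = n41915 := d7_1 D42409 F193022 (iv F190775)
theorem F195120 : act 1 n42409 = n41755 := d15_1 D42409 (iv D41755) (iv F190776)
theorem F195121 : act 2 n42409 = n42037 := d22_1 D42409 F193439 (iv F190777)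
theorem F195122 : act 3 n42409 = n41735 := d28_1 D42409 (iv D41735) (iv F190778)
theorem F195123 : act 5 n42409 = n42053 := d37_1 D42409 F193499 F189113 F186279 (iv F190779)
theorem F195124 : act 6 n42409 = n41439 := d40_1 D42409 (iv D41439) (iv F190780)
theorem F195125 : act 7 n42409 = n42029 := d42_1 D42409 F193419 (iv F190781)
def n42410 : Q := act 3 n41442
theorem D42410 : act 3 n41442 = n42410 := rfl
theorem F195126 : act 0 n42410 = n42008 := d2_1 D42410 (iv D42008) (iv F190798)
theorem F195127 : act 1 n42410 = n41897 := d10_1 D42410 (iv D41897) (iv F190799)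
theorem F195128 : act 4 n42410 = n41857 := d24_2 D41442 D42410 F192833 F188738 (iv F186299)
theorem F195129 : act 5 n42410 = n41490 := d25_2 (iv F190800) D42410 (iv D41490)
theorem F195130 : act 7 n42410 = n41511 := d27_2 (iv F190801) D42410 (iv D41511)
theorem F195131 : act 8 n42410 = n41445 := d28_2 (iv F190802) D42410 (iv D41445)
theorem F195132 : act 2 n41942 = n42410 := d22_3 F195131 (iv F190820) (iv F193102)
def n42411 : Q := act 6 n41442
theorem D42411 : act 6 n41442 = n42411 := rfl
theorem F195133 : act 0 n42411 = n42009 := d5_1 D42411 (iv D42009) (iv F190798)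
theorem F195134 : act 1 n42411 = n41898 := d13_1 D42411 (iv D41898) (iv F190799)
theorem F195135 : act 4 n42411 = n41443 := d31_1 D42411 (iv D41443) D41442
theorem F195136 : act 8 n42411 = n41446 := d40_2 (iv F190802) D42411 (iv D41446)
def n42412 : Q := act 9 n41442
theorem D42412 : act 9 n41442 = n42412 := rfl
theorem F195137 : act 0 n42412 = n42010 := d8_1 D42412 (iv D42010) (iv F190798)
theorem F195138 : act 1 n42412 = n41899 := d16_1 D42412 (iv D41899) (iv F190799)
theorem F195139 : act 4 n42412 = n41444 := d34_1 D42412 (iv D41444) D41442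
theorem F195140 : act 5 n42412 = n41492 := d38_1 D42412 (iv D41492) (iv F190800)
theorem F195141 : act 7 n42412 = n41512 := d43_1 D42412 (iv D41512) (iv F190801)
theorem F195142 : act 8 n42412 = n41947 := d44_1 D42412 (iv D41947) F188695 (iv F186313) (iv F190802)
def n42413 : Q := act 9 n41443
theorem D42413 : act 9 n41443 = n42413 := rfl
theorem F195143 : act 0 n42413 = n42012 := d8_1 D42413 (iv D42012) (iv F190803)
theorem F195144 : act 1 n42413 = n41901 := d16_1 D42413 (iv D41901) (iv F190804)
theorem F195145 : act 3 n42413 = n41959 := d29_1 D42413 F193143 (iv F190805)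
theorem F195146 : act 5 n42413 = n41871 := d38_1 D42413 (iv D41871) (iv F190806)
theorem F195147 : act 6 n42413 = n41444 := d41_1 D42413 (iv D41444) D41443
theorem F195148 : act 8 n42413 = n41949 := d44_1 D42413 (iv D41949) F188698 (iv F186318) (iv F190807)
def n42414 : Q := act 6 n41445
theorem D42414 : act 6 n41445 = n42414 := rfl
theorem F195149 : act 0 n42414 = n42013 := d5_1 D42414 (iv D42013) (iv F190814)
theorem F195150 : act 1 n42414 = n41904 := d13_1 D42414 (iv D41904) (iv F190815)
theorem F195151 : act 2 n42414 = n41984 := d20_1 D42414 (iv D41984) F190820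
theorem F195152 : act 3 n42414 = n41446 := d26_1 D42414 (iv D41446) D41445
theorem F195153 : act 4 n42414 = n41861 := d31_1 D42414 (iv D41861) (iv F190816)
theorem F195154 : act 5 n42414 = n42414 := d35_1 D42414 (iv D42414) F190817 F186322 (iv F190817)
theorem F195155 : act 9 n42414 = n41950 := d41_2 (iv F190819) D42414 (iv D41950)
def n42415 : Q := act 8 n41447
theorem D42415 : act 8 n41447 = n42415 := rfl
theorem F195156 : act 0 n42415 = n41449 := d7_1 D42415 (iv D41449) (iv F190826)
theorem F195157 : act 1 n42415 = n41524 := d15_1 D42415 F191272 (iv F190827)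
theorem F195158 : act 2 n42415 = n41649 := d22_1 D42415 F191925 (iv F190828)
theorem F195159 : act 3 n42415 = n41519 := d28_1 D42415 F191243 (iv F190829)
theorem F195160 : act 4 n42415 = n41646 := d33_1 D42415 F191910 (iv F190830)
theorem F195161 : act 5 n42415 = n41518 := d37_1 D42415 (iv D41518) (iv D40452) (iv F186333) D41447
theorem F195162 : act 6 n42415 = n41635 := d40_1 D42415 (iv D41635) (iv F190831)
theorem F195163 : act 7 n42415 = n41517 := d42_1 D42415 (iv D41517) (iv F190832)
def n42416 : Q := act 8 n41448
theorem D42416 : act 8 n41448 = n42416 := rfl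
theorem F195164 : act 0 n42416 = n41519 := d7_1 D42416 F191243 (iv F190834)
theorem F195165 : act 1 n42416 = n41452 := d15_1 D42416 (iv D41452) (iv F190835)
theorem F195166 : act 2 n42416 = n41772 := d22_1 D42416 F192465 (iv F190836)
theorem F195167 : act 3 n42416 = n41449 := d28_1 D42416 (iv D41449) (iv F190837)
theorem F195168 : act 5 n42416 = n41517 := d37_1 D42416 (iv D41517) (iv D40451) (iv F186341) D41448
theorem F195169 : act 6 n42416 = n41638 := d40_1 D42416 (iv D41638) (iv F190838)
theorem F195170 : act 7 n42416 = n41518 := d42_1 D42416 (iv D41518) (iv F190839)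
def n42417 : Q := act 5 n41449
theorem D42417 : act 5 n41449 = n42417 := rfl
theorem F195171 : act 0 n42417 = n41518 := d4_1 D42417 (iv F195161) F195156
theorem F195172 : act 1 n42417 = n41453 := d12_1 D42417 (iv D41453) (iv F190841)
theorem F195173 : act 2 n42417 = n41708 := d19_1 D42417 (iv D41708) (iv F190842)
theorem F195174 : act 3 n42417 = n41517 := d25_1 D42417 (iv F195168) F195167
theorem F195175 : act 6 n42417 = n41765 := d35_2 (iv F190844) D42417 F192434 F191888 (iv D41640)
theorem F195176 : act 7 n42417 = n41519 := d36_2 (iv F190845) D42417 (iv D41519)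
theorem F195177 : act 8 n42417 = n41450 := d37_2 D41449 D42417 (iv D41450) (iv D40382) D40381
theorem F195178 : act 4 n41976 = n42417 := d45_2 F193156 (iv F193185) (iv D42417) F190844 F187410 (iv D39515) F177792 (iv F178306) D39638 F183458 F178516 F172504 D38515 (iv F183664) (iv F188284) F188285 F188286 (iv F188823) (iv F193204) (iv D41980) F188800 F184257 F179915 F174119 F167317 (iv D34405) (iv F158168) (iv F165706) F165707 (iv F171258) F171259 F164037 (iv F164311) (iv F171447) (iv F177400) F177401 F173075 (iv D37315) (iv F173073) F173074 (iv D36229) (iv F167730) (iv F174309) F174310 D38936 F180030 F174419 D37754 (iv F179832) F179833 (iv F179711) D39971 (iv F185915) F185916 F184912 (iv F184674) (iv F189179) (iv F193580) F193581 F193582 (iv D41145) (iv F189393) (iv F193155)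
def n42418 : Q := act 9 n41449
theorem D42418 : act 9 n41449 = n42418 := rfl
theorem F195179 : act 1 n42418 = n41454 := d16_1 D42418 (iv D41454) (iv F190841)
theorem F195180 : act 2 n42418 = n41709 := d23_1 D42418 (iv D41709) (iv F190842)
theorem F195181 : act 4 n42418 = n41986 := d34_1 D42418 (iv D41986) (iv F190843)
theorem F195182 : act 6 n42418 = n41641 := d41_1 D42418 (iv D41641) (iv F190844)
theorem F195183 : act 7 n42418 = n41520 := d43_1 D42418 (iv D41520) (iv F190845)
theorem F195184 : act 8 n42418 = n41472 := d44_1 D42418 (iv D41472) (iv D40402) (iv F186348) D41449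
def n42419 : Q := act 8 n41451
theorem D42419 : act 8 n41451 = n42419 := rfl
theorem F195185 : act 0 n42419 = n41990 := d7_1 D42419 (iv D41990) (iv F190854)
theorem F195186 : act 2 n42419 = n41737 := d22_1 D42419 (iv D41737) (iv F190855)
theorem F195187 : act 3 n42419 = n41779 := d28_1 D42419 F192499 (iv F190856)
theorem F195188 : act 4 n42419 = n41452 := d33_1 D42419 (iv D41452) D41451
theorem F195189 : act 5 n42419 = n41833 := d37_1 D42419 (iv D41833) F188210 (iv F187127) (iv F190857)
theorem F195190 : act 6 n42419 = n41642 := d40_1 D42419 (iv D41642) (iv F190858)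
theorem F195191 : act 7 n42419 = n41523 := d42_1 D42419 (iv D41523) (iv F190859)
def n42420 : Q := act 9 n41452
theorem D42420 : act 9 n41452 = n42420 := rfl
theorem F195192 : act 0 n42420 = n41991 := d8_1 D42420 (iv D41991) (iv F190861)
theorem F195193 : act 2 n42420 = n41739 := d23_1 D42420 (iv D41739) (iv F190862)
theorem F195194 : act 3 n42420 = n41454 := d29_1 D42420 (iv D41454) (iv F190863)
theorem F195195 : act 5 n42420 = n42090 := d38_1 D42420 (iv D42090) (iv F190864)
theorem F195196 : act 6 n42420 = n41644 := d41_1 D42420 (iv D41644) (iv F190865)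
theorem F195197 : act 7 n42420 = n41525 := d43_1 D42420 (iv D41525) (iv F190866)
theorem F195198 : act 8 n42420 = n41479 := d44_1 D42420 (iv D41479) (iv D40409) (iv F186362) D41452
def n42421 : Q := act 4 n41453
theorem D42421 : act 4 n41453 = n42421 := rfl
theorem F195199 : act 0 n42421 = n41992 := d3_1 D42421 (iv D41992) (iv F190867)
theorem F195200 : act 1 n42421 = n41976 := d11_1 D42421 F195178 F195172
theorem F195201 : act 2 n42421 = n41457 := d18_1 D42421 (iv D41457) (iv F190868)
theorem F195202 : act 3 n42421 = n41796 := d24_1 D42421 F192581 (iv F192555) F192556 (iv F190869)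
theorem F195203 : act 5 n42421 = n41777 := d30_2 D41453 D42421 F192487 F187987 (iv F186365)
theorem F195204 : act 7 n42421 = n41526 := d32_2 (iv F190870) D42421 (iv D41526)
theorem F195205 : act 8 n42421 = n41455 := d33_2 (iv F190871) D42421 (iv D41455)
theorem F195206 : act 6 n41879 = n42421 := d40_3 F195205 (iv F190885) D41879
def n42422 : Q := act 6 n41453
theorem D42422 : act 6 n41453 = n42422 := rfl
theorem F195207 : act 0 n42422 = n41775 := d5_1 D42422 F192481 (iv F190867)
theorem F195208 : act 1 n42422 = n41765 := d13_1 D42422 (iv F195175) F195172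
theorem F195209 : act 2 n42422 = n41458 := d20_1 D42422 (iv D41458) (iv F190868)
theorem F195210 : act 3 n42422 = n41762 := d26_1 D42422 F192420 (iv F190869)
theorem F195211 : act 4 n42422 = n41879 := d31_1 D42422 F195206 (iv D42421)
theorem F195212 : act 5 n42422 = n41646 := d35_1 D42422 (iv D41646) (iv D40581) (iv F186366) D41453
theorem F195213 : act 8 n42422 = n41456 := d40_2 (iv F190871) D42422 (iv D41456)
theorem F195214 : act 7 n42422 = n41821 := d45_5 (iv F187990) F187991 (iv F186365) D41453 D42422 (iv D41821) (iv F190927) F190928 (iv F192377) F192378 F192379 (iv D40748) (iv F188108) F188106 D40847 F192404 (iv D41759) (iv F192191) F192192 (iv D41050) (iv F189116) F189117 (iv F189306) F189307 (iv D40041) F179897 (iv F183640) F183636 F178974 F173021 F166128 F158396 F149972 F140898 (iv F139775) F139776 F139777 F109512 F87214 (iv F133018) D24573 (iv F140194) F140195 F111490 (iv F140460) F140461 (iv F140658) F140659 F140656 (iv F140452) F140453 (iv F149570) (iv F157145) F157146 (iv F155384) (iv F161397) (iv F168490) (iv F174869) (iv F180493) (iv D39088)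 F174858 D38924 (iv F183301)
def n42423 : Q := act 9 n41453
theorem D42423 : act 9 n41453 = n42423 := rfl
theorem F195215 : act 0 n42423 = n41993 := d8_1 D42423 (iv D41993) (iv F190867)
theorem F195216 : act 2 n42423 = n41459 := d23_1 D42423 (iv D41459) (iv F190868)
theorem F195217 : act 3 n42423 = n42090 := d29_1 D42423 (iv D42090) (iv F190869)
theorem F195218 : act 5 n42423 = n41454 := d38_1 D42423 (iv D41454) D41453
theorem F195219 : act 7 n42423 = n41528 := d43_1 D42423 (iv D41528) (iv F190870)
theorem F195220 : act 8 n42423 = n42112 := d44_1 D42423 (iv D42112) (iv D41098) (iv F186372) (iv F190871)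
def n42424 : Q := act 6 n41457
theorem D42424 : act 6 n41457 = n42424 := rfl
theorem F195221 : act 0 n42424 = n41994 := d5_1 D42424 (iv D41994) (iv F190894)
theorem F195222 : act 1 n42424 = n41724 := d13_1 D42424 (iv D41724) (iv F190895)
theorem F195223 : act 2 n42424 = n41879 := d20_1 D42424 F195206 F195201
theorem F195224 : act 3 n42424 = n41825 := d26_1 D42424 (iv D41825) F190899
theorem F195225 : act 4 n42424 = n41458 := d31_1 D42424 (iv D41458) D41457
theorem F195226 : act 5 n42424 = n42115 := d35_1 D42424 (iv D42115) F189299 (iv F188027) (iv F190896)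
theorem F195227 : act 8 n42424 = n41460 := d40_2 (iv F190898) D42424 (iv D41460)
def n42425 : Q := act 9 n41457
theorem D42425 : act 9 n41457 = n42425 := rfl
theorem F195228 : act 0 n42425 = n41995 := d8_1 D42425 (iv D41995) (iv F190894)
theorem F195229 : act 1 n42425 = n41725 := d16_1 D42425 (iv D41725) (iv F190895)
theorem F195230 : act 3 n42425 = n41826 := d29_1 D42425 (iv D41826) F190899
theorem F195231 : act 4 n42425 = n41459 := d34_1 D42425 (iv D41459) D41457
theorem F195232 : act 5 n42425 = n41787 := d38_1 D42425 (iv D41787) (iv F190896)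
theorem F195233 : act 7 n42425 = n41537 := d43_1 D42425 (iv D41537) (iv F190897)
def n42426 : Q := act 7 n41458
theorem D42426 : act 7 n41458 = n42426 := rfl
theorem F195234 : act 0 n42426 = n41996 := d6_1 D42426 (iv D41996) (iv F190900)
theorem F195235 : act 1 n42426 = n41726 := d14_1 D42426 (iv D41726) (iv F190901)
theorem F195236 : act 2 n42426 = n41821 := d21_1 D42426 (iv F195214) F195209
theorem F195237 : act 3 n42426 = n41748 := d27_1 D42426 (iv D41748) (iv F190902)
theorem F195238 : act 5 n42426 = n41651 := d36_1 D42426 (iv D41651) (iv F190903)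
theorem F195239 : act 6 n42426 = n41538 := d39_1 D42426 (iv D41538) (iv D40470) (iv F186392) D41458
theorem F195240 : act 8 n42426 = n41462 := d42_2 (iv F190904) D42426 (iv D41462)
def n42427 : Q := act 9 n41458
theorem D42427 : act 9 n41458 = n42427 := rfl
theorem F195241 : act 0 n42427 = n41997 := d8_1 D42427 (iv D41997) (iv F190900)
theorem F195242 : act 1 n42427 = n41727 := d16_1 D42427 (iv D41727) (iv F190901)
theorem F195243 : act 3 n42427 = n41749 := d29_1 D42427 (iv D41749) (iv F190902)
theorem F195244 : act 5 n42427 = n41652 := d38_1 D42427 (iv D41652) (iv F190903)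
theorem F195245 : act 6 n42427 = n41459 := d41_1 D42427 (iv D41459) D41458
def n42428 : Q := act 8 n41459
theorem D42428 : act 8 n41459 = n42428 := rfl
theorem F195246 : act 0 n42428 = n41998 := d7_1 D42428 (iv D41998) (iv F190905)
theorem F195247 : act 1 n42428 = n41728 := d15_1 D42428 (iv D41728) (iv F190906)
theorem F195248 : act 2 n42428 = n42112 := d22_1 D42428 (iv F195220) F195216
theorem F195249 : act 3 n42428 = n41750 := d28_1 D42428 (iv D41750) (iv F190907)
theorem F195250 : act 5 n42428 = n41495 := d37_1 D42428 (iv D41495) F186598 (iv F186400) (iv F190908)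
theorem F195251 : act 7 n42428 = n41540 := d42_1 D42428 (iv D41540) (iv F190909)
theorem F195252 : act 9 n42428 = n41464 := d44_2 D41459 D42428 (iv D41464) (iv D40392) (iv F186393)
def n42429 : Q := act 7 n41460
theorem D42429 : act 7 n41460 = n42429 := rfl
theorem F195253 : act 0 n42429 = n41999 := d6_1 D42429 (iv D41999) (iv F190910)
theorem F195254 : act 1 n42429 = n41732 := d14_1 D42429 (iv D41732) (iv F190911)
theorem F195255 : act 2 n42429 = n41820 := d21_1 D42429 F192674 (iv F190912)
theorem F195256 : act 3 n42429 = n41838 := d27_1 D42429 (iv D41838) (iv F190913)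
theorem F195257 : act 4 n42429 = n41462 := d32_1 D42429 (iv D41462) (iv F190914)
theorem F195258 : act 5 n42429 = n41837 := d36_1 D42429 F192740 (iv F190915)
theorem F195259 : act 6 n42429 = n41544 := d39_1 D42429 (iv D41544) (iv D40473) (iv F186404) D41460
theorem F195260 : act 9 n42429 = n41814 := d43_2 F190916 D42429 F192650
def n42430 : Q := act 8 n41461
theorem D42430 : act 8 n41461 = n42430 := rfl
theorem F195261 : act 0 n42430 = n42000 := d7_1 D42430 (iv D42000) (iv F190917)
theorem F195262 : act 1 n42430 = n41734 := d15_1 D42430 (iv D41734) (iv F190918)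
theorem F195263 : act 2 n42430 = n41793 := d22_1 D42430 F192565 (iv F190919)
theorem F195264 : act 3 n42430 = n41797 := d28_1 D42430 F192585 (iv F190920)
theorem F195265 : act 4 n42430 = n41464 := d33_1 D42430 (iv D41464) (iv F190921)
theorem F195266 : act 5 n42430 = n41952 := d37_1 D42430 F193123 F188724 (iv F186439) (iv F190922)
theorem F195267 : act 6 n42430 = n41876 := d40_1 D42430 F192894 (iv F190923)
theorem F195268 : act 7 n42430 = n41546 := d42_1 D42430 (iv D41546) (iv F190924)
def n42431 : Q := act 8 n41463
theorem D42431 : act 8 n41463 = n42431 := rfl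
theorem F195269 : act 0 n42431 = n41854 := d7_1 D42431 (iv D41854) (iv F190932)
theorem F195270 : act 1 n42431 = n41735 := d15_1 D42431 (iv D41735) (iv F190933)
theorem F195271 : act 2 n42431 = n41759 := d22_1 D42431 F192403 (iv F190934)
theorem F195272 : act 3 n42431 = n41755 := d28_1 D42431 (iv D41755) (iv F190935)
theorem F195273 : act 4 n42431 = n41876 := d33_1 D42431 F192894 (iv F190936)
theorem F195274 : act 5 n42431 = n41757 := d37_1 D42431 (iv D41757) (iv D40689) (iv F186431) (iv F190937)
theorem F195275 : act 6 n42431 = n41464 := d40_1 D42431 (iv D41464) (iv F190938)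
theorem F195276 : act 7 n42431 = n41812 := d42_1 D42431 F192644 (iv F190939)
def n42432 : Q := act 8 n41465
theorem D42432 : act 8 n41465 = n42432 := rfl
theorem F195277 : act 0 n42432 = n41469 := d7_1 D42432 (iv D41469) (iv F190946)
theorem F195278 : act 1 n42432 = n41534 := d15_1 D42432 (iv D41534) (iv F190947)
theorem F195279 : act 2 n42432 = n42184 := d22_1 D42432 F193852 (iv F190948)
theorem F195280 : act 3 n42432 = n41466 := d28_1 D42432 (iv D41466) (iv F190949)
theorem F195281 : act 4 n42432 = n41968 := d33_1 D42432 F193168 (iv F190950)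
theorem F195282 : act 5 n42432 = n41562 := d37_1 D42432 (iv D41562) F186964 (iv F186446) D41465
theorem F195283 : act 6 n42432 = n41829 := d40_1 D42432 F192704 (iv F190951)
theorem F195284 : act 7 n42432 = n41551 := d42_1 D42432 (iv D41551) (iv F190952)
def n42433 : Q := act 5 n41466
theorem D42433 : act 5 n41466 = n42433 := rfl
theorem F195285 : act 0 n42433 = n41471 := d4_1 D42433 (iv D41471) (iv F190954)
theorem F195286 : act 1 n42433 = n41572 := d12_1 D42433 F191506 (iv F190955)
theorem F195287 : act 2 n42433 = n41726 := d19_1 D42433 F192269 (iv F190956)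
theorem F195288 : act 3 n42433 = n41562 := d25_1 D42433 (iv F195282) F195280
theorem F195289 : act 4 n42433 = n42132 := d30_1 D42433 F193736 F189351 (iv F188432) (iv F190957)
theorem F195290 : act 6 n42433 = n42157 := d35_2 (iv F190958) D42433 (iv F194315) F194316 F190169
theorem F195291 : act 7 n42433 = n41552 := d36_2 (iv F190959) D42433 (iv D41552)
theorem F195292 : act 8 n42433 = n41467 := d37_2 D41466 D42433 (iv D41467) (iv D40398) D40397
def n42434 : Q := act 9 n41466
theorem D42434 : act 9 n41466 = n42434 := rfl
theorem F195293 : act 0 n42434 = n41472 := d8_1 D42434 (iv D41472) (iv F190954)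
theorem F195294 : act 1 n42434 = n42042 := d16_1 D42434 (iv D42042) (iv F190955)
theorem F195295 : act 2 n42434 = n41770 := d23_1 D42434 (iv D41770) (iv F190956)
theorem F195296 : act 4 n42434 = n41859 := d34_1 D42434 (iv D41859) (iv F190957)
theorem F195297 : act 6 n42434 = n41834 := d41_1 D42434 (iv D41834) (iv F190958)
theorem F195298 : act 7 n42434 = n41553 := d43_1 D42434 (iv D41553) (iv F190959)
def n42435 : Q := act 8 n41468
theorem D42435 : act 8 n41468 = n42435 := rfl
theorem F195299 : act 0 n42435 = n42184 := d7_1 D42435 F193852 (iv F190968)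
theorem F195300 : act 1 n42435 = n41757 := d15_1 D42435 (iv D41757) (iv F190969)
theorem F195301 : act 2 n42435 = n41469 := d22_1 D42435 (iv D41469) (iv F190970)
theorem F195302 : act 3 n42435 = n42053 := d28_1 D42435 F193499 (iv F190971)
theorem F195303 : act 5 n42435 = n41735 := d37_1 D42435 (iv D41735) F187777 (iv F186468) D41468
theorem F195304 : act 6 n42435 = n42122 := d40_1 D42435 F193712 (iv F190972)
theorem F195305 : act 7 n42435 = n41554 := d42_1 D42435 (iv D41554) (iv F190973)
def n42436 : Q := act 5 n41469
theorem D42436 : act 5 n41469 = n42436 := rfl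
theorem F195306 : act 0 n42436 = n41562 := d4_1 D42436 (iv F195282) F195277
theorem F195307 : act 1 n42436 = n41478 := d12_1 D42436 (iv D41478) (iv F190975)
theorem F195308 : act 2 n42436 = n41735 := d19_1 D42436 (iv F195303) F195301
theorem F195309 : act 3 n42436 = n41471 := d25_1 D42436 (iv D41471) (iv F190976)
theorem F195310 : act 6 n42436 = n41719 := d35_2 (iv F190977) D42436 (iv F194774) F194775 F193112
theorem F195311 : act 7 n42436 = n41556 := d36_2 (iv F190978) D42436 (iv D41556)
theorem F195312 : act 8 n42436 = n41470 := d37_2 D41469 D42436 (iv D41470) (iv D40401) D40400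
theorem F195313 : act 4 n41965 = n42436 := d33_3 F195312 F190983 (iv F193163)
def n42437 : Q := act 9 n41469
theorem D42437 : act 9 n41469 = n42437 := rfl
theorem F195314 : act 1 n42437 = n41479 := d16_1 D42437 (iv D41479) (iv F190975)
theorem F195315 : act 3 n42437 = n41472 := d29_1 D42437 (iv D41472) (iv F190976)
theorem F195316 : act 6 n42437 = n42223 := d41_1 D42437 (iv D42223) (iv F190977)
theorem F195317 : act 7 n42437 = n41557 := d43_1 D42437 (iv D41557) (iv F190978)
def n42438 : Q := act 4 n41471
theorem D42438 : act 4 n41471 = n42438 := rfl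
theorem F195318 : act 0 n42438 = n42132 := d3_1 D42438 (iv F195289) F195285
theorem F195319 : act 1 n42438 = n41481 := d11_1 D42438 (iv D41481) (iv F190987)
theorem F195320 : act 2 n42438 = n42170 := d18_1 D42438 F193825 (iv F190988)
theorem F195321 : act 5 n42438 = n41586 := d30_2 D41471 D42438 F191567 (iv F189663) F189662
theorem F195322 : act 7 n42438 = n41559 := d32_2 (iv F190989) D42438 (iv D41559)
theorem F195323 : act 8 n42438 = n41473 := d33_2 (iv F190990) D42438 (iv D41473)
def n42439 : Q := act 6 n41471
theorem D42439 : act 6 n41471 = n42439 := rfl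
theorem F195324 : act 0 n42439 = n42157 := d5_1 D42439 (iv F195290) F195285
theorem F195325 : act 1 n42439 = n41482 := d13_1 D42439 (iv D41482) (iv F190987)
theorem F195326 : act 2 n42439 = n41900 := d20_1 D42439 F192968 (iv F190988)
theorem F195327 : act 3 n42439 = n41719 := d26_1 D42439 (iv F195310) F195309
theorem F195328 : act 5 n42439 = n41925 := d35_1 D42439 F193055 F188714 (iv F186484) D41471
theorem F195329 : act 7 n42439 = n41888 := d39_2 (iv F190989) D42439 (iv D41888) F188538 (iv F186952)
theorem F195330 : act 8 n42439 = n41474 := d40_2 (iv F190990) D42439 (iv D41474)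
def n42440 : Q := act 9 n41471
theorem D42440 : act 9 n41471 = n42440 := rfl
theorem F195331 : act 1 n42440 = n41483 := d16_1 D42440 (iv D41483) (iv F190987)
theorem F195332 : act 2 n42440 = n42173 := d23_1 D42440 (iv D42173) (iv F190988)
theorem F195333 : act 5 n42440 = n41472 := d38_1 D42440 (iv D41472) D41471
theorem F195334 : act 7 n42440 = n41560 := d43_1 D42440 (iv D41560) (iv F190989)
def n42441 : Q := act 6 n41473
theorem D42441 : act 6 n41473 = n42441 := rfl
theorem F195335 : act 0 n42441 = n42135 := d5_1 D42441 (iv D42135) (iv F190995)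
theorem F195336 : act 1 n42441 = n41485 := d13_1 D42441 (iv D41485) (iv F190996)
theorem F195337 : act 2 n42441 = n41906 := d20_1 D42441 F192988 (iv F190997)
theorem F195338 : act 4 n42441 = n41474 := d31_1 D42441 (iv D41474) D41473
theorem F195339 : act 5 n42441 = n42441 := d35_1 D42441 (iv D42441) F190998 F186508 (iv F190998)
theorem F195340 : act 7 n42441 = n41891 := d39_2 (iv F190999) D42441 (iv D41891) F188545 (iv F186961)
theorem F195341 : act 9 n41714 = n42441 := d43_0 F195340 (iv F194118) F194117
def n42442 : Q := act 9 n41473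
theorem D42442 : act 9 n41473 = n42442 := rfl
theorem F195342 : act 0 n42442 = n41558 := d8_1 D42442 F191435 (iv F190995)
theorem F195343 : act 1 n42442 = n41486 := d16_1 D42442 (iv D41486) (iv F190996)
theorem F195344 : act 2 n42442 = n42180 := d23_1 D42442 (iv D42180) (iv F190997)
theorem F195345 : act 3 n42442 = n41909 := d29_1 D42442 (iv F194882) F194879
theorem F195346 : act 4 n42442 = n41475 := d34_1 D42442 (iv D41475) D41473
theorem F195347 : act 5 n42442 = n41476 := d38_1 D42442 (iv D41476) (iv F190998)
theorem F195348 : act 6 n42442 = n41714 := d41_1 D42442 F195341 (iv D42441)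
theorem F195349 : act 7 n42442 = n41561 := d43_1 D42442 (iv D41561) (iv F190999)
def n42443 : Q := act 8 n41475
theorem D42443 : act 8 n41475 = n42443 := rfl
theorem F195350 : act 0 n42443 = n41556 := d7_1 D42443 F191427 (iv F191007)
theorem F195351 : act 1 n42443 = n41489 := d15_1 D42443 (iv D41489) (iv F191008)
theorem F195352 : act 2 n42443 = n42183 := d22_1 D42443 (iv D42183) (iv F191009)
theorem F195353 : act 3 n42443 = n41552 := d28_1 D42443 F191407 (iv F191010)
theorem F195354 : act 5 n42443 = n41551 := d37_1 D42443 (iv D41551) (iv D40483) (iv F186496) (iv F191011)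
theorem F195355 : act 6 n42443 = n41712 := d40_1 D42443 F192215 (iv F191012)
theorem F195356 : act 7 n42443 = n41562 := d42_1 D42443 (iv D41562) (iv F191013)
def n42444 : Q := act 5 n41477
theorem D42444 : act 5 n41477 = n42444 := rfl
theorem F195357 : act 0 n42444 = n42047 := d4_1 D42444 (iv D42047) (iv F191022)
theorem F195358 : act 2 n42444 = n41535 := d19_1 D42444 F191329 (iv F191023)
theorem F195359 : act 3 n42444 = n41754 := d25_1 D42444 (iv F194065) F194063
theorem F195360 : act 4 n42444 = n41797 := d30_1 D42444 F192584 F191031 (iv D41478) (iv F191024)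
theorem F195361 : act 7 n42444 = n41563 := d36_2 (iv F191025) D42444 (iv D41563)
theorem F195362 : act 8 n42444 = n41541 := d37_2 D41477 D42444 F191352 F186900 (iv F186521)
def n42445 : Q := act 9 n41477
theorem D42445 : act 9 n41477 = n42445 := rfl
theorem F195363 : act 0 n42445 = n42048 := d8_1 D42445 (iv D42048) (iv F191022)
theorem F195364 : act 2 n42445 = n41763 := d23_1 D42445 (iv D41763) (iv F191023)
theorem F195365 : act 4 n42445 = n41479 := d34_1 D42445 (iv D41479) (iv F191024)
theorem F195366 : act 7 n42445 = n41564 := d43_1 D42445 (iv D41564) (iv F191025)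
def n42446 : Q := act 6 n41478
theorem D42446 : act 6 n41478 = n42446 := rfl
theorem F195367 : act 0 n42446 = n41554 := d5_1 D42446 F191416 (iv F191026)
theorem F195368 : act 1 n42446 = n41719 := d13_1 D42446 (iv F195310) F195307
theorem F195369 : act 2 n42446 = n41551 := d20_1 D42446 F191401 (iv F191027)
theorem F195370 : act 3 n42446 = n41482 := d26_1 D42446 (iv D41482) (iv F191028)
theorem F195371 : act 4 n42446 = n41966 := d31_1 D42446 (iv D41966) F191031
theorem F195372 : act 5 n42446 = n42183 := d35_1 D42446 F195013 (iv D42390) F190698 D41478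
theorem F195373 : act 8 n42446 = n41480 := d40_2 (iv F191030) D42446 (iv D41480)
theorem F195374 : act 7 n42446 = n42184 := d45_5 (iv F194062) F194063 F191024 D41478 D42446 F193852 (iv F190948) F190949 F186451 F183874 F178856 (iv D37256) F165923 (iv F167216) (iv F174023) F174024 (iv F176164) F176165 D38131 D39364 F182174 F176693 F170113 F162796 (iv F162912) F162913 (iv D35123) F154986 F152440 F152441 (iv F145913) (iv D31394) (iv D29438) D29439 (iv F145893) F145894 F145895 (iv F146239) (iv F154531) (iv F162359) (iv D35011) (iv F162333) F162334 (iv F161410) F161411 (iv F168519) (iv D36432) F161399 F156417 (iv F157370) F157371 (iv F158724) F158725 F158726 D34194 (iv F166355) (iv F173236) (iv F179179) D39846 (iv F185354) F185355 D41137 (iv F192522)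
def n42447 : Q := act 9 n41478
theorem D42447 : act 9 n41478 = n42447 := rfl
theorem F195375 : act 0 n42447 = n42049 := d8_1 D42447 (iv D42049) (iv F191026)
theorem F195376 : act 2 n42447 = n41764 := d23_1 D42447 (iv D41764) (iv F191027)
theorem F195377 : act 3 n42447 = n41483 := d29_1 D42447 (iv D41483) (iv F191028)
theorem F195378 : act 4 n42447 = n41967 := d34_1 D42447 (iv D41967) F191031
theorem F195379 : act 5 n42447 = n41479 := d38_1 D42447 (iv D41479) D41478
theorem F195380 : act 7 n42447 = n41567 := d43_1 D42447 (iv D41567) (iv F191029)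
theorem F195381 : act 8 n42447 = n42113 := d44_1 D42447 (iv D42113) F189291 (iv F186532) (iv F191030)
def n42448 : Q := act 3 n41481
theorem D42448 : act 3 n41481 = n42448 := rfl
theorem F195382 : act 0 n42448 = n42050 := d2_1 D42448 (iv D42050) (iv F191044)
theorem F195383 : act 2 n42448 = n41945 := d17_1 D42448 (iv D41945) F191094 (iv D41490) (iv F191045)
theorem F195384 : act 4 n42448 = n41952 := d24_2 D41481 D42448 F193122 F191031 F191028
theorem F195385 : act 5 n42448 = n41499 := d25_2 F194972 D42448 (iv F194970)
theorem F195386 : act 7 n42448 = n41573 := d27_2 (iv F191046) D42448 (iv D41573)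
theorem F195387 : act 8 n42448 = n41484 := d28_2 (iv F191047) D42448 (iv D41484)
def n42449 : Q := act 6 n41481
theorem D42449 : act 6 n41481 = n42449 := rfl
theorem F195388 : act 0 n42449 = n42051 := d5_1 D42449 (iv D42051) (iv F191044)
theorem F195389 : act 2 n42449 = n41491 := d20_1 D42449 (iv D41491) (iv F191045)
theorem F195390 : act 4 n42449 = n41482 := d31_1 D42449 (iv D41482) D41481
theorem F195391 : act 8 n42449 = n41485 := d40_2 (iv F191047) D42449 (iv D41485)
def n42450 : Q := act 9 n41481
theorem D42450 : act 9 n41481 = n42450 := rfl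
theorem F195392 : act 0 n42450 = n42052 := d8_1 D42450 (iv D42052) (iv F191044)
theorem F195393 : act 2 n42450 = n41492 := d23_1 D42450 (iv D41492) (iv F191045)
theorem F195394 : act 4 n42450 = n41483 := d34_1 D42450 (iv D41483) D41481
theorem F195395 : act 7 n42450 = n41575 := d43_1 D42450 (iv D41575) (iv F191046)
def n42451 : Q := act 7 n41482
theorem D42451 : act 7 n41482 = n42451 := rfl
theorem F195396 : act 0 n42451 = n42053 := d6_1 D42451 (iv D42053) (iv F191048)
theorem F195397 : act 1 n42451 = n41888 := d14_1 D42451 (iv F195329) F195325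
theorem F195398 : act 2 n42451 = n41493 := d21_1 D42451 (iv D41493) (iv F191049)
theorem F195399 : act 3 n42451 = n42184 := d27_1 D42451 (iv F195374) F195370
theorem F195400 : act 5 n42451 = n41915 := d36_1 D42451 (iv F195039) F195038
theorem F195401 : act 6 n42451 = n41576 := d39_1 D42451 (iv D41576) (iv D40504) (iv F186543) D41482
theorem F195402 : act 8 n42451 = n41487 := d42_2 (iv F191050) D42451 (iv D41487)
def n42452 : Q := act 9 n41482
theorem D42452 : act 9 n41482 = n42452 := rfl
theorem F195403 : act 0 n42452 = n42054 := d8_1 D42452 (iv D42054) (iv F191048)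
theorem F195404 : act 2 n42452 = n41494 := d23_1 D42452 (iv D41494) (iv F191049)
theorem F195405 : act 6 n42452 = n41483 := d41_1 D42452 (iv D41483) D41482
def n42453 : Q := act 8 n41483
theorem D42453 : act 8 n41483 = n42453 := rfl
theorem F195406 : act 0 n42453 = n42055 := d7_1 D42453 (iv D42055) (iv F191051)
theorem F195407 : act 2 n42453 = n41495 := d22_1 D42453 (iv D41495) (iv F191052)
theorem F195408 : act 3 n42453 = n42113 := d28_1 D42453 (iv F195381) F195377
theorem F195409 : act 5 n42453 = n42112 := d37_1 D42453 (iv F195220) F195218 F190877 (iv F191053)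
theorem F195410 : act 7 n42453 = n41578 := d42_1 D42453 (iv D41578) (iv F191054)
theorem F195411 : act 9 n42453 = n41489 := d44_2 D41483 D42453 (iv D41489) (iv D40416) (iv F186544)
def n42454 : Q := act 6 n41484
theorem D42454 : act 6 n41484 = n42454 := rfl
theorem F195412 : act 0 n42454 = n42056 := d5_1 D42454 (iv D42056) (iv F191055)
theorem F195413 : act 2 n42454 = n41950 := d20_1 D42454 (iv D41950) (iv F191056)
theorem F195414 : act 3 n42454 = n41485 := d26_1 D42454 (iv D41485) D41484
theorem F195415 : act 4 n42454 = n41960 := d31_1 D42454 (iv D41960) (iv F191057)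
theorem F195416 : act 5 n42454 = n42454 := d35_1 D42454 (iv D42454) F191058 F186579 (iv F191058)
theorem F195417 : act 9 n42454 = n41984 := d41_2 F191060 D42454 (iv D41984)
def n42455 : Q := act 7 n41485
theorem D42455 : act 7 n41485 = n42455 := rfl
theorem F195418 : act 0 n42455 = n42057 := d6_1 D42455 (iv D42057) (iv F191061)
theorem F195419 : act 1 n42455 = n41891 := d14_1 D42455 (iv F195340) F195336
theorem F195420 : act 2 n42455 = n41497 := d21_1 D42455 (iv D41497) (iv F191062)
theorem F195421 : act 4 n42455 = n41487 := d32_1 D42455 (iv D41487) (iv F191063)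
theorem F195422 : act 5 n42455 = n42455 := d36_1 D42455 (iv D42455) F191064
theorem F195423 : act 6 n42455 = n41580 := d39_1 D42455 (iv D41580) (iv D40507) (iv F186551) D41485
theorem F195424 : act 9 n42071 = n42455 := d41_0 F195423 (iv F194839) (iv F194840)
def n42456 : Q := act 9 n41485
theorem D42456 : act 9 n41485 = n42456 := rfl
theorem F195425 : act 0 n42456 = n42058 := d8_1 D42456 (iv D42058) (iv F191061)
theorem F195426 : act 1 n42456 = n41714 := d16_1 D42456 F195341 F195336
theorem F195427 : act 2 n42456 = n41498 := d23_1 D42456 (iv D41498) (iv F191062)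
theorem F195428 : act 3 n42456 = n41984 := d29_1 D42456 (iv F195417) F195414
theorem F195429 : act 4 n42456 = n41488 := d34_1 D42456 (iv D41488) (iv F191063)
theorem F195430 : act 5 n42456 = n42456 := d38_1 D42456 (iv D42456) F191064
theorem F195431 : act 6 n42456 = n41486 := d41_1 D42456 (iv D41486) D41485
theorem F195432 : act 7 n42456 = n42071 := d43_1 D42456 F195424 (iv D42455)
def n42457 : Q := act 8 n41486
theorem D42457 : act 8 n41486 = n42457 := rfl
theorem F195433 : act 0 n42457 = n42059 := d7_1 D42457 (iv D42059) (iv F191065)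
theorem F195434 : act 2 n42457 = n41499 := d22_1 D42457 (iv D41499) (iv F191066)
theorem F195435 : act 3 n42457 = n41942 := d28_1 D42457 F193102 (iv F191067)
theorem F195436 : act 4 n42457 = n41489 := d33_1 D42457 (iv D41489) (iv F191068)
theorem F195437 : act 5 n42457 = n41945 := d37_1 D42457 F193107 F188702 (iv F186589) (iv F191069)
theorem F195438 : act 7 n42457 = n41581 := d42_1 D42457 (iv D41581) (iv F191070)
def n42458 : Q := act 8 n41488
theorem D42458 : act 8 n41488 = n42458 := rfl
theorem F195439 : act 0 n42458 = n42060 := d7_1 D42458 (iv D42060) (iv F191078)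
theorem F195440 : act 1 n42458 = n41712 := d15_1 D42458 F192215 (iv F191079)
theorem F195441 : act 2 n42458 = n41501 := d22_1 D42458 (iv D41501) (iv F191080)
theorem F195442 : act 3 n42458 = n41708 := d28_1 D42458 F192197 (iv F191081)
theorem F195443 : act 5 n42458 = n41707 := d37_1 D42458 (iv D41707) (iv D40644) (iv F186575) (iv F191082)
theorem F195444 : act 6 n42458 = n41489 := d40_1 D42458 (iv D41489) (iv F191083)
theorem F195445 : act 7 n42458 = n42070 := d42_1 D42458 F193553 (iv F191084)
def n42459 : Q := act 6 n41490
theorem D42459 : act 6 n41490 = n42459 := rfl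
theorem F195446 : act 0 n42459 = n42061 := d5_1 D42459 (iv D42061) (iv F191090)
theorem F195447 : act 2 n42459 = n41946 := d20_1 D42459 (iv D41946) F191094
theorem F195448 : act 3 n42459 = n41491 := d26_1 D42459 (iv D41491) D41490
theorem F195449 : act 4 n42459 = n41767 := d31_1 D42459 (iv D41767) (iv F191091)
theorem F195450 : act 8 n42459 = n41496 := d40_2 (iv F191093) D42459 (iv D41496)
def n42460 : Q := act 9 n41490
theorem D42460 : act 9 n41490 = n42460 := rfl
theorem F195451 : act 0 n42460 = n42062 := d8_1 D42460 (iv D42062) (iv F191090)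
theorem F195452 : act 2 n42460 = n41947 := d23_1 D42460 (iv D41947) F191094
theorem F195453 : act 3 n42460 = n41492 := d29_1 D42460 (iv D41492) D41490
theorem F195454 : act 4 n42460 = n41768 := d34_1 D42460 (iv D41768) (iv F191091)
theorem F195455 : act 7 n42460 = n41585 := d43_1 D42460 (iv D41585) (iv F191092)
def n42461 : Q := act 5 n41491
theorem D42461 : act 5 n41491 = n42461 := rfl
theorem F195456 : act 0 n42461 = n42063 := d4_1 D42461 (iv D42063) (iv F191095)
theorem F195457 : act 8 n42461 = n42461 := d37_2 (iv F191097) D42461 (iv D42461) F191097 F186607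
def n42462 : Q := act 7 n41491
theorem D42462 : act 7 n41491 = n42462 := rfl
theorem F195458 : act 0 n42462 = n42064 := d6_1 D42462 (iv D42064) (iv F191095)
theorem F195459 : act 4 n42462 = n41493 := d32_1 D42462 (iv D41493) (iv F191096)
theorem F195460 : act 6 n42462 = n41586 := d39_1 D42462 (iv D41586) (iv D40515) (iv F186591) D41491
theorem F195461 : act 8 n42462 = n41497 := d42_2 (iv F191097) D42462 (iv D41497)
def n42463 : Q := act 9 n41491
theorem D42463 : act 9 n41491 = n42463 := rfl
theorem F195462 : act 0 n42463 = n42065 := d8_1 D42463 (iv D42065) (iv F191095)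
theorem F195463 : act 4 n42463 = n41494 := d34_1 D42463 (iv D41494) (iv F191096)
theorem F195464 : act 6 n42463 = n41492 := d41_1 D42463 (iv D41492) D41491
def n42464 : Q := act 8 n41492
theorem D42464 : act 8 n41492 = n42464 := rfl
theorem F195465 : act 0 n42464 = n42066 := d7_1 D42464 (iv D42066) (iv F191098)
theorem F195466 : act 4 n42464 = n41495 := d33_1 D42464 (iv D41495) (iv F191099)
theorem F195467 : act 7 n42464 = n41588 := d42_1 D42464 (iv D41588) (iv F191100)
theorem F195468 : act 9 n42464 = n41499 := d44_2 D41492 D42464 (iv D41499) (iv D40426) (iv F186592)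
def n42465 : Q := act 9 n41493
theorem D42465 : act 9 n41493 = n42465 := rfl
theorem F195469 : act 0 n42465 = n42067 := d8_1 D42465 (iv D42067) (iv F191101)
theorem F195470 : act 3 n42465 = n41770 := d29_1 D42465 (iv D41770) (iv F191102)
theorem F195471 : act 6 n42465 = n41589 := d41_1 D42465 (iv D41589) (iv F191103)
theorem F195472 : act 7 n42465 = n41494 := d43_1 D42465 (iv D41494) D41493
def n42466 : Q := act 8 n41494
theorem D42466 : act 8 n41494 = n42466 := rfl
theorem F195473 : act 0 n42466 = n42068 := d7_1 D42466 (iv D42068) (iv F191105)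
theorem F195474 : act 3 n42466 = n41771 := d28_1 D42466 (iv D41771) (iv F191106)
theorem F195475 : act 6 n42466 = n41495 := d40_1 D42466 (iv D41495) (iv F191107)
theorem F195476 : act 9 n42466 = n41501 := d44_2 D41494 D42466 (iv D41501) (iv D40428) (iv F186595)
def n42467 : Q := act 8 n41498
theorem D42467 : act 8 n41498 = n42467 := rfl
theorem F195477 : act 0 n42467 = n42069 := d7_1 D42467 (iv D42069) (iv F191121)
theorem F195478 : act 4 n42467 = n41501 := d33_1 D42467 (iv D41501) (iv F191122)
theorem F195479 : act 6 n42467 = n41499 := d40_1 D42467 (iv D41499) (iv F191124)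
def n42468 : Q := act 8 n41500
theorem D42468 : act 8 n41500 = n42468 := rfl
theorem F195480 : act 0 n42468 = n41707 := d7_1 D42468 (iv D41707) (iv F191128)
theorem F195481 : act 1 n42468 = n41767 := d15_1 D42468 F192445 (iv F191129)
theorem F195482 : act 2 n42468 = n42070 := d22_1 D42468 F193553 (iv F191130)
theorem F195483 : act 3 n42468 = n41649 := d28_1 D42468 F191925 (iv F191131)
theorem F195484 : act 5 n42468 = n42060 := d37_1 D42468 (iv D42060) F189118 (iv F186630) (iv F191132)
theorem F195485 : act 6 n42468 = n41591 := d40_1 D42468 (iv D41591) (iv F191133)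
theorem F195486 : act 7 n42468 = n41501 := d42_1 D42468 (iv D41501) (iv F191134)
def n42469 : Q := act 5 n41501
theorem D42469 : act 5 n41501 = n42469 := rfl
theorem F195487 : act 0 n42469 = n42070 := d4_1 D42469 (iv D42070) (iv F191135)
theorem F195488 : act 1 n42469 = n42122 := d12_1 D42469 (iv F194874) F194871
theorem F195489 : act 2 n42469 = n41707 := d19_1 D42469 (iv F195443) F195441
theorem F195490 : act 3 n42469 = n41772 := d25_1 D42469 (iv D41772) (iv F191136)
theorem F195491 : act 6 n42469 = n41757 := d35_2 (iv F191137) D42469 (iv F195274) F195275 F190944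
theorem F195492 : act 7 n42469 = n42060 := d36_2 F195486 D42469 (iv F195484)
theorem F195493 : act 8 n42469 = n41502 := d37_2 D41501 D42469 (iv D41502) (iv D40431) (iv F186618)
def n42470 : Q := act 4 n41502
theorem D42470 : act 4 n41502 = n42470 := rfl
theorem F195494 : act 0 n42470 = n42071 := d3_1 D42470 (iv D42071) (iv F191138)
theorem F195495 : act 1 n42470 = n42124 := d11_1 D42470 F193717 (iv F191139)
theorem F195496 : act 2 n42470 = n41706 := d18_1 D42470 (iv D41706) (iv F191140)
theorem F195497 : act 5 n42470 = n42470 := d30_2 D41502 D42470 (iv D42470) (iv D41502) F186635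
theorem F195498 : act 6 n42470 = n41756 := d31_2 (iv F191142) D42470 (iv D41756)
theorem F195499 : act 7 n42470 = n42058 := d32_2 (iv F191143) D42470 F193516
theorem F195500 : act 9 n42470 = n42057 := d34_2 (iv F191144) D42470 F193511
def n42471 : Q := act 9 n41503
theorem D42471 : act 9 n41503 = n42471 := rfl
theorem F195501 : act 0 n42471 = n41852 := d8_1 D42471 F192811 (iv F191145)
theorem F195502 : act 1 n42471 = n41504 := d16_1 D42471 (iv D41504) (iv F191146)
theorem F195503 : act 2 n42471 = n42023 := d23_1 D42471 (iv D42023) (iv F191147)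
theorem F195504 : act 3 n42471 = n41864 := d29_1 D42471 F192863 (iv F191148)
theorem F195505 : act 4 n42471 = n41776 := d34_1 D42471 (iv D41776) (iv F191149)
theorem F195506 : act 5 n42471 = n41872 := d38_1 D42471 F192887 (iv F191150)
theorem F195507 : act 6 n42471 = n41987 := d41_1 D42471 (iv D41987) (iv F191151)
theorem F195508 : act 7 n42471 = n41669 := d43_1 D42471 F192034 (iv F191152)
theorem F195509 : act 8 n42471 = n41634 := d44_1 D42471 (iv D41634) F187373 (iv F186646) D41503
def n42472 : Q := act 3 n41505
theorem D42472 : act 3 n41505 = n42472 := rfl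
theorem F195510 : act 0 n42472 = n42072 := d2_1 D42472 (iv D42072) (iv F191160)
theorem F195511 : act 1 n42472 = n42034 := d10_1 D42472 (iv D42034) (iv F191161)
theorem F195512 : act 4 n42472 = n41511 := d24_2 D41505 D42472 (iv D41511) (iv D40444) (iv F186656)
theorem F195513 : act 5 n42472 = n41781 := d25_2 (iv F191163) D42472 (iv D41781)
theorem F195514 : act 7 n42472 = n41857 := d27_2 (iv F191164) D42472 F192833
theorem F195515 : act 8 n42472 = n41507 := d28_2 (iv F191165) D42472 (iv D41507)
theorem F195516 : act 2 n41920 = n42472 := d45_21 (iv F189993) F189994 F189490 (iv F188921) (iv F191957) F191958 F187552 (iv F185240) (iv F189691) D42232 F193985 F189699 F189700 F188245 (iv F187714) (iv F187719) F184292 (iv F188827) (iv D40960) (iv F188815) (iv F193043) (iv D42472) (iv D41505) (iv D40434) F181872 F179344 (iv D37470) (iv F173633) (iv F179502) D39910 F184460 F180151 (iv F180474) F180475 F175244 D38922 F179999 (iv F179478) F179479 F179480 F173900 (iv F173894) F173895 (iv F173903) (iv F175426) F175427 F175428 F169042 F167569 (iv F167409) F167410 (iv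 F167453) F167454 F167455 (iv D34489) (iv F159901) (iv F167577) D37633 (iv F179831) (iv F183862) (iv F188013) (iv F192507) F192504
def n42473 : Q := act 9 n41505
theorem D42473 : act 9 n41505 = n42473 := rfl
theorem F195517 : act 0 n42473 = n42074 := d8_1 D42473 (iv D42074) (iv F191160)
theorem F195518 : act 1 n42473 = n42036 := d16_1 D42473 (iv D42036) (iv F191161)
theorem F195519 : act 2 n42473 = n41932 := d23_1 D42473 F193073 (iv F191162)
theorem F195520 : act 4 n42473 = n41506 := d34_1 D42473 (iv D41506) D41505
theorem F195521 : act 5 n42473 = n41783 := d38_1 D42473 (iv D41783) (iv F191163)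
theorem F195522 : act 7 n42473 = n41957 := d43_1 D42473 F193136 (iv F191164)
theorem F195523 : act 8 n42473 = n41924 := d44_1 D42473 (iv D41924) F188641 (iv F186671) (iv F191165)
def n42474 : Q := act 9 n41509
theorem D42474 : act 9 n41509 = n42474 := rfl
theorem F195524 : act 0 n42474 = n41988 := d8_1 D42474 (iv D41988) (iv F191186)
theorem F195525 : act 1 n42474 = n42149 := d16_1 D42474 (iv D42149) (iv F191187)
theorem F195526 : act 3 n42474 = n41763 := d29_1 D42474 (iv D41763) (iv F191188)
theorem F195527 : act 4 n42474 = n41510 := d34_1 D42474 (iv D41510) D41509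
theorem F195528 : act 5 n42474 = n41537 := d38_1 D42474 (iv D41537) (iv F191189)
theorem F195529 : act 7 n42474 = n41787 := d43_1 D42474 (iv D41787) (iv F191190)
theorem F195530 : act 8 n42474 = n41921 := d44_1 D42474 (iv D41921) (iv D40886) (iv F186709) (iv F191191)
def n42475 : Q := act 2 n41511
theorem D42475 : act 2 n41511 = n42475 := rfl
theorem F195531 : act 0 n42475 = n42081 := d1_1 D42475 (iv D42081) (iv F191198)
theorem F195532 : act 3 n42475 = n41581 := d17_2 D41511 D42475 F191543 (iv F190638) F190637
theorem F195533 : act 4 n42475 = n41920 := d18_2 F195512 D42475 F195516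
theorem F195534 : act 5 n42475 = n41516 := d19_2 (iv F191200) D42475 F191229
theorem F195535 : act 7 n42475 = n41942 := d21_2 F195130 D42475 F195132
theorem F195536 : act 8 n42475 = n41514 := d22_2 (iv F191201) D42475 (iv D41514)
theorem F195537 : act 1 n42182 = n42475 := d15_3 F195536 F191219 (iv F193850)
def n42476 : Q := act 9 n41511
theorem D42476 : act 9 n41511 = n42476 := rfl
theorem F195538 : act 0 n42476 = n42083 := d8_1 D42476 (iv D42083) (iv F191198)
theorem F195539 : act 1 n42476 = n42169 := d16_1 D42476 (iv D42169) (iv F191199)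
theorem F195540 : act 3 n42476 = n41512 := d29_1 D42476 (iv D41512) D41511
theorem F195541 : act 5 n42476 = n41585 := d38_1 D42476 (iv D41585) (iv F191200)
def n42477 : Q := act 8 n41512
theorem D42477 : act 8 n41512 = n42477 := rfl
theorem F195542 : act 0 n42477 = n42086 := d7_1 D42477 (iv D42086) (iv F191202)
theorem F195543 : act 1 n42477 = n42172 := d15_1 D42477 (iv D42172) (iv F191203)
theorem F195544 : act 2 n42477 = n41585 := d22_1 D42477 (iv F194981) F194976
theorem F195545 : act 4 n42477 = n41513 := d33_1 D42477 (iv D41513) (iv F191204)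
theorem F195546 : act 7 n42477 = n41947 := d42_1 D42477 (iv F195142) F195141
theorem F195547 : act 9 n42477 = n41516 := d44_2 D41512 D42477 (iv D41516) (iv D40447) (iv F186717)
def n42478 : Q := act 8 n41515
theorem D42478 : act 8 n41515 = n42478 := rfl
theorem F195548 : act 0 n42478 = n42089 := d7_1 D42478 (iv D42089) (iv F191220)
theorem F195549 : act 1 n42478 = n42179 := d15_1 D42478 (iv D42179) (iv F191221)
theorem F195550 : act 2 n42478 = n41573 := d22_1 D42478 F191510 (iv F191222)
theorem F195551 : act 3 n42478 = n41516 := d28_1 D42478 (iv D41516) (iv F191223)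
theorem F195552 : act 4 n42478 = n41922 := d33_1 D42478 F193047 (iv F191224)
theorem F195553 : act 5 n42478 = n41581 := d37_1 D42478 (iv D41581) F187034 (iv F186751) (iv F191225)
theorem F195554 : act 7 n42478 = n41945 := d42_1 D42478 F193107 (iv F191226)
def n42479 : Q := act 9 n41517
theorem D42479 : act 9 n41517 = n42479 := rfl
theorem F195555 : act 0 n42479 = n41520 := d8_1 D42479 (iv D41520) (iv F191232)
theorem F195556 : act 1 n42479 = n42090 := d16_1 D42479 (iv D42090) (iv F191233)
theorem F195557 : act 2 n42479 = n41771 := d23_1 D42479 F192461 (iv F191234)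
theorem F195558 : act 4 n42479 = n41860 := d34_1 D42479 F192843 (iv F191235)
theorem F195559 : act 6 n42479 = n41766 := d41_1 D42479 F192440 (iv F191236)
theorem F195560 : act 8 n42479 = n41553 := d44_1 D42479 (iv D41553) (iv D40484) (iv F186757) D41517
def n42480 : Q := act 9 n41518
theorem D42480 : act 9 n41518 = n42480 := rfl
theorem F195561 : act 1 n42480 = n41525 := d16_1 D42480 (iv D41525) (iv F191237)
theorem F195562 : act 2 n42480 = n42117 := d23_1 D42480 (iv D42117) (iv F191238)
theorem F195563 : act 3 n42480 = n41520 := d29_1 D42480 (iv D41520) (iv F191239)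
theorem F195564 : act 6 n42480 = n42018 := d41_1 D42480 (iv D42018) (iv F191240)
theorem F195565 : act 8 n42480 = n41557 := d44_1 D42480 (iv D41557) (iv D40488) (iv F186762) D41518
def n42481 : Q := act 4 n41519
theorem D42481 : act 4 n41519 = n42481 := rfl
theorem F195566 : act 1 n42481 = n41526 := d11_1 D42481 (iv D41526) (iv F191241)
theorem F195567 : act 2 n42481 = n42204 := d18_1 D42481 (iv D42204) (iv F191242)
theorem F195568 : act 3 n42481 = n41977 := d24_1 D42481 F193187 (iv F191908) (iv F195160) F195159
theorem F195569 : act 7 n42481 = n41976 := d32_2 F195176 D42481 F195178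
theorem F195570 : act 8 n42481 = n41521 := d33_2 (iv F191243) D42481 (iv D41521)
def n42482 : Q := act 6 n41519
theorem D42482 : act 6 n41519 = n42482 := rfl
theorem F195571 : act 0 n42482 = n41638 := d5_1 D42482 (iv F195169) F195164
theorem F195572 : act 1 n42482 = n41527 := d13_1 D42482 (iv D41527) (iv F191241)
theorem F195573 : act 2 n42482 = n42201 := d20_1 D42482 F193896 (iv F191242)
theorem F195574 : act 3 n42482 = n41635 := d26_1 D42482 (iv F195162) F195159
theorem F195575 : act 5 n42482 = n41847 := d35_1 D42482 F192797 F188989 (iv F186765) D41519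
theorem F195576 : act 7 n42482 = n41689 := d39_2 F195176 D42482 F192116 (iv F192435) (iv F195175)
theorem F195577 : act 8 n42482 = n41522 := d40_2 (iv F191243) D42482 (iv D41522)
def n42483 : Q := act 9 n41519
theorem D42483 : act 9 n41519 = n42483 := rfl
theorem F195578 : act 1 n42483 = n41528 := d16_1 D42483 (iv D41528) (iv F191241)
theorem F195579 : act 2 n42483 = n42203 := d23_1 D42483 F193900 (iv F191242)
theorem F195580 : act 5 n42483 = n41520 := d38_1 D42483 (iv D41520) D41519
def n42484 : Q := act 6 n41521
theorem D42484 : act 6 n41521 = n42484 := rfl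
theorem F195581 : act 0 n42484 = n41637 := d5_1 D42484 (iv F194587) F194581
theorem F195582 : act 1 n42484 = n41530 := d13_1 D42484 (iv D41530) (iv F191248)
theorem F195583 : act 2 n42484 = n42202 := d20_1 D42484 F193899 (iv F191249)
theorem F195584 : act 3 n42484 = n41645 := d26_1 D42484 F191902 (iv F191250)
theorem F195585 : act 4 n42484 = n41522 := d31_1 D42484 (iv D41522) D41521
theorem F195586 : act 5 n42484 = n42484 := d35_1 D42484 (iv D42484) F191251 F186779 (iv F191251)
theorem F195587 : act 7 n42484 = n41688 := d39_2 (iv F191252) D42484 F192112 F188211 (iv F188768)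
theorem F195588 : act 9 n42484 = n41832 := d41_2 (iv F191253) D42484 F192715
def n42485 : Q := act 9 n41523
theorem D42485 : act 9 n41523 = n42485 := rfl
theorem F195589 : act 0 n42485 = n42091 := d8_1 D42485 (iv D42091) (iv F191261)
theorem F195590 : act 2 n42485 = n41790 := d23_1 D42485 (iv D41790) (iv F191262)
theorem F195591 : act 3 n42485 = n41973 := d29_1 D42485 F193178 (iv F191263)
theorem F195592 : act 4 n42485 = n41525 := d34_1 D42485 (iv D41525) (iv F191264)
theorem F195593 : act 5 n42485 = n41970 := d38_1 D42485 F193172 (iv F191265)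
theorem F195594 : act 6 n42485 = n42020 := d41_1 D42485 (iv D42020) (iv F191266)
theorem F195595 : act 8 n42485 = n41564 := d44_1 D42485 (iv D41564) (iv D40495) (iv F186787) D41523
def n42486 : Q := act 9 n41524
theorem D42486 : act 9 n41524 = n42486 := rfl
theorem F195596 : act 0 n42486 = n41989 := d8_1 D42486 (iv D41989) (iv F191267)
theorem F195597 : act 2 n42486 = n41791 := d23_1 D42486 (iv D41791) (iv F191268)
theorem F195598 : act 3 n42486 = n41528 := d29_1 D42486 (iv D41528) (iv F191269)
theorem F195599 : act 4 n42486 = n42015 := d34_1 D42486 (iv D42015) F191273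
theorem F195600 : act 5 n42486 = n41525 := d38_1 D42486 (iv D41525) D41524
theorem F195601 : act 6 n42486 = n41851 := d41_1 D42486 (iv D41851) (iv F191270)
theorem F195602 : act 7 n42486 = n42090 := d43_1 D42486 (iv D42090) (iv F191271)
theorem F195603 : act 8 n42486 = n42042 := d44_1 D42486 (iv D42042) (iv D41022) (iv F186798) (iv F191272)
def n42487 : Q := act 3 n41526
theorem D42487 : act 3 n41526 = n42487 := rfl
theorem F195604 : act 0 n42487 = n42016 := d2_1 D42487 F193370 (iv F191279)
theorem F195605 : act 1 n42487 = n41977 := d10_1 D42487 (iv F195568) F195566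
theorem F195606 : act 2 n42487 = n41754 := d17_1 D42487 (iv F195359) F195358 (iv D41535) (iv F191280)
theorem F195607 : act 4 n42487 = n41744 := d24_2 D41526 D42487 F192346 F191273 F191269
theorem F195608 : act 5 n42487 = n41786 := d25_2 F194001 D42487 (iv F193999)
theorem F195609 : act 7 n42487 = n41796 := d27_2 F195204 D42487 (iv F195202)
theorem F195610 : act 8 n42487 = n41529 := d28_2 (iv F191281) D42487 (iv D41529)
def n42488 : Q := act 6 n41526
theorem D42488 : act 6 n41526 = n42488 := rfl
theorem F195611 : act 0 n42488 = n42092 := d5_1 D42488 (iv D42092) (iv F191279)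
theorem F195612 : act 2 n42488 = n41536 := d20_1 D42488 (iv D41536) (iv F191280)
theorem F195613 : act 4 n42488 = n41527 := d31_1 D42488 (iv D41527) D41526
theorem F195614 : act 8 n42488 = n41530 := d40_2 (iv F191281) D42488 (iv D41530)
def n42489 : Q := act 9 n41526
theorem D42489 : act 9 n41526 = n42489 := rfl
theorem F195615 : act 0 n42489 = n42093 := d8_1 D42489 (iv D42093) (iv F191279)
theorem F195616 : act 2 n42489 = n41537 := d23_1 D42489 (iv D41537) (iv F191280)
theorem F195617 : act 4 n42489 = n41528 := d34_1 D42489 (iv D41528) D41526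
def n42490 : Q := act 7 n41527
theorem D42490 : act 7 n41527 = n42490 := rfl
theorem F195618 : act 0 n42490 = n41626 := d6_1 D42490 F191814 (iv F191282)
theorem F195619 : act 1 n42490 = n41689 := d14_1 D42490 (iv F195576) F195572
theorem F195620 : act 2 n42490 = n41538 := d21_1 D42490 (iv D41538) (iv F191283)
theorem F195621 : act 3 n42490 = n41609 := d27_1 D42490 F191705 (iv F191284)
theorem F195622 : act 5 n42490 = n41608 := d36_1 D42490 F191699 (iv F191285)
theorem F195623 : act 6 n42490 = n41821 := d39_1 D42490 (iv F195214) (iv D42422) F190870 D41527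
theorem F195624 : act 8 n42490 = n41532 := d42_2 (iv F191286) D42490 (iv D41532)
def n42491 : Q := act 9 n41527
theorem D42491 : act 9 n41527 = n42491 := rfl
theorem F195625 : act 0 n42491 = n42094 := d8_1 D42491 (iv D42094) (iv F191282)
theorem F195626 : act 2 n42491 = n41539 := d23_1 D42491 (iv D41539) (iv F191283)
theorem F195627 : act 3 n42491 = n41851 := d29_1 D42491 (iv D41851) (iv F191284)
theorem F195628 : act 5 n42491 = n41850 := d38_1 D42491 (iv D41850) (iv F191285)
theorem F195629 : act 6 n42491 = n41528 := d41_1 D42491 (iv D41528) D41527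
def n42492 : Q := act 8 n41528
theorem D42492 : act 8 n41528 = n42492 := rfl
theorem F195630 : act 0 n42492 = n42044 := d7_1 D42492 F193462 (iv F191287)
theorem F195631 : act 2 n42492 = n41540 := d22_1 D42492 (iv D41540) (iv F191288)
theorem F195632 : act 3 n42492 = n42042 := d28_1 D42492 (iv F195603) F195598
theorem F195633 : act 5 n42492 = n41578 := d37_1 D42492 (iv D41578) F187023 (iv F186805) (iv F191289)
theorem F195634 : act 7 n42492 = n42112 := d42_1 D42492 (iv F195220) F195219
theorem F195635 : act 9 n42492 = n41534 := d44_2 D41528 D42492 (iv D41534) (iv D40464) (iv F186801)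
def n42493 : Q := act 6 n41529
theorem D42493 : act 6 n41529 = n42493 := rfl
theorem F195636 : act 0 n42493 = n41846 := d5_1 D42493 F192792 (iv F191290)
theorem F195637 : act 1 n42493 = n41645 := d13_1 D42493 F191902 (iv F191291)
theorem F195638 : act 2 n42493 = n41753 := d20_1 D42493 F192383 F191295
theorem F195639 : act 3 n42493 = n41530 := d26_1 D42493 (iv D41530) D41529
theorem F195640 : act 4 n42493 = n41639 := d31_1 D42493 F191879 (iv F191292)
theorem F195641 : act 5 n42493 = n42493 := d35_1 D42493 (iv D42493) F191293 F186837 (iv F191293)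
theorem F195642 : act 7 n42493 = n41697 := d39_2 (iv F191294) D42493 F192151 F188497 (iv F188096)
theorem F195643 : act 9 n42493 = n41743 := d41_2 F191296 D42493 (iv D41743)
def n42494 : Q := act 7 n41530
theorem D42494 : act 7 n41530 = n42494 := rfl
theorem F195644 : act 0 n42494 = n41625 := d6_1 D42494 F191809 (iv F191297)
theorem F195645 : act 1 n42494 = n41688 := d14_1 D42494 (iv F195587) F195582
theorem F195646 : act 2 n42494 = n41544 := d21_1 D42494 (iv D41544) (iv F191298)
theorem F195647 : act 3 n42494 = n41697 := d27_1 D42494 (iv F195642) F195639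
theorem F195648 : act 4 n42494 = n41532 := d32_1 D42494 (iv D41532) (iv F191299)
theorem F195649 : act 5 n42494 = n42494 := d36_1 D42494 (iv D42494) F191300
theorem F195650 : act 6 n42494 = n41820 := d39_1 D42494 F192674 F190885 F190883 D41530
theorem F195651 : act 9 n41819 = n42494 := d41_0 F195650 (iv D41820) D41819
def n42495 : Q := act 9 n41530
theorem D42495 : act 9 n41530 = n42495 := rfl
theorem F195652 : act 0 n42495 = n42021 := d8_1 D42495 F193395 (iv F191297)
theorem F195653 : act 1 n42495 = n41832 := d16_1 D42495 (iv F195588) F195582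
theorem F195654 : act 2 n42495 = n41545 := d23_1 D42495 (iv D41545) (iv F191298)
theorem F195655 : act 3 n42495 = n41743 := d29_1 D42495 (iv F195643) F195639
theorem F195656 : act 4 n42495 = n41533 := d34_1 D42495 (iv D41533) (iv F191299)
theorem F195657 : act 5 n42495 = n42495 := d38_1 D42495 (iv D42495) F191300
theorem F195658 : act 6 n42495 = n41531 := d41_1 D42495 (iv D41531) D41530
theorem F195659 : act 7 n42495 = n41819 := d43_1 D42495 F195651 (iv D42494)
def n42496 : Q := act 8 n41531
theorem D42496 : act 8 n41531 = n42496 := rfl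
theorem F195660 : act 0 n42496 = n42043 := d7_1 D42496 (iv D42043) (iv F191301)
theorem F195661 : act 1 n42496 = n41968 := d15_1 D42496 F193168 (iv F191302)
theorem F195662 : act 2 n42496 = n41546 := d22_1 D42496 (iv D41546) (iv F191303)
theorem F195663 : act 3 n42496 = n41740 := d28_1 D42496 F192326 (iv F191304)
theorem F195664 : act 4 n42496 = n41534 := d33_1 D42496 (iv D41534) (iv F191305)
theorem F195665 : act 5 n42496 = n41922 := d37_1 D42496 F193047 F188647 (iv F186849) (iv F191306)
theorem F195666 : act 7 n42496 = n41793 := d42_1 D42496 F192565 (iv F191307)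
def n42497 : Q := act 8 n41533
theorem D42497 : act 8 n41533 = n42497 := rfl
theorem F195667 : act 0 n42497 = n42022 := d7_1 D42497 (iv D42022) (iv F191315)
theorem F195668 : act 1 n42497 = n41829 := d15_1 D42497 F192704 (iv F191316)
theorem F195669 : act 2 n42497 = n41548 := d22_1 D42497 (iv D41548) (iv F191317)
theorem F195670 : act 3 n42497 = n41822 := d28_1 D42497 F192683 (iv F191318)
theorem F195671 : act 5 n42497 = n42110 := d37_1 D42497 (iv D42110) F189282 (iv F186833) (iv F191319)
theorem F195672 : act 6 n42497 = n41534 := d40_1 D42497 (iv D41534) (iv F191320)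
theorem F195673 : act 7 n42497 = n41817 := d42_1 D42497 F192662 (iv F191321)
def n42498 : Q := act 6 n41535
theorem D42498 : act 6 n41535 = n42498 := rfl
theorem F195674 : act 0 n42498 = n42095 := d5_1 D42498 (iv D42095) (iv F191327)
theorem F195675 : act 3 n42498 = n41536 := d26_1 D42498 (iv D41536) D41535
theorem F195676 : act 4 n42498 = n41798 := d31_1 D42498 (iv D41798) (iv F191328)
theorem F195677 : act 8 n42498 = n41542 := d40_2 (iv F191331) D42498 (iv D41542)
def n42499 : Q := act 9 n41535
theorem D42499 : act 9 n41535 = n42499 := rfl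
theorem F195678 : act 0 n42499 = n42096 := d8_1 D42499 (iv D42096) (iv F191327)
theorem F195679 : act 3 n42499 = n41537 := d29_1 D42499 (iv D41537) D41535
theorem F195680 : act 4 n42499 = n41799 := d34_1 D42499 (iv D41799) (iv F191328)
theorem F195681 : act 5 n42499 = n41763 := d38_1 D42499 (iv D41763) (iv F191329)
theorem F195682 : act 7 n42499 = n41826 := d43_1 D42499 (iv D41826) (iv F191330)
def n42500 : Q := act 5 n41536
theorem D42500 : act 5 n41536 = n42500 := rfl
theorem F195683 : act 0 n42500 = n42097 := d4_1 D42500 (iv D42097) (iv F191332)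
theorem F195684 : act 4 n42500 = n41874 := d30_1 D42500 (iv D41874) F188504 (iv F186854) (iv F191333)
theorem F195685 : act 8 n42500 = n42500 := d37_2 (iv F191334) D42500 (iv D42500) F191334 F186865
def n42501 : Q := act 7 n41536
theorem D42501 : act 7 n41536 = n42501 := rfl
theorem F195686 : act 0 n42501 = n42098 := d6_1 D42501 (iv D42098) (iv F191332)
theorem F195687 : act 4 n42501 = n41538 := d32_1 D42501 (iv D41538) (iv F191333)
theorem F195688 : act 8 n42501 = n41544 := d42_2 (iv F191334) D42501 (iv D41544)
def n42502 : Q := act 9 n41536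
theorem D42502 : act 9 n41536 = n42502 := rfl
theorem F195689 : act 0 n42502 = n42099 := d8_1 D42502 (iv D42099) (iv F191332)
theorem F195690 : act 4 n42502 = n41539 := d34_1 D42502 (iv D41539) (iv F191333)
theorem F195691 : act 6 n42502 = n41537 := d41_1 D42502 (iv D41537) D41536
def n42503 : Q := act 8 n41537
theorem D42503 : act 8 n41537 = n42503 := rfl
theorem F195692 : act 0 n42503 = n42100 := d7_1 D42503 (iv D42100) (iv F191335)
theorem F195693 : act 4 n42503 = n41540 := d33_1 D42503 (iv D41540) (iv F191336)
theorem F195694 : act 9 n42503 = n41546 := d44_2 D41537 D42503 (iv D41546) (iv D40474) (iv F186851)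
def n42504 : Q := act 9 n41538
theorem D42504 : act 9 n41538 = n42504 := rfl
theorem F195695 : act 0 n42504 = n42101 := d8_1 D42504 (iv D42101) (iv F191337)
theorem F195696 : act 3 n42504 = n41803 := d29_1 D42504 (iv D41803) (iv F191338)
theorem F195697 : act 5 n42504 = n41868 := d38_1 D42504 (iv D41868) (iv F191339)
theorem F195698 : act 7 n42504 = n41539 := d43_1 D42504 (iv D41539) D41538
def n42505 : Q := act 8 n41539
theorem D42505 : act 8 n41539 = n42505 := rfl
theorem F195699 : act 0 n42505 = n42102 := d7_1 D42505 (iv D42102) (iv F191341)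
theorem F195700 : act 3 n42505 = n41804 := d28_1 D42505 (iv D41804) (iv F191342)
theorem F195701 : act 6 n42505 = n41540 := d40_1 D42505 (iv D41540) (iv F191344)
theorem F195702 : act 9 n42505 = n41548 := d44_2 D41539 D42505 (iv D41548) (iv D40476) (iv F186855)
def n42506 : Q := act 6 n41541
theorem D42506 : act 6 n41541 = n42506 := rfl
theorem F195703 : act 0 n42506 = n42103 := d5_1 D42506 (iv D42103) (iv F191349)
theorem F195704 : act 2 n42506 = n41542 := d20_1 D42506 (iv D41542) D41541
theorem F195705 : act 3 n42506 = n41753 := d26_1 D42506 F192383 (iv F191350)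
theorem F195706 : act 4 n42506 = n41805 := d31_1 D42506 (iv D41805) (iv F191351)
theorem F195707 : act 5 n42506 = n42506 := d35_1 D42506 (iv D42506) F191352 F186898 (iv F191352)
theorem F195708 : act 9 n42506 = n41751 := d41_2 F191354 D42506 (iv D41751)
def n42507 : Q := act 7 n41542
theorem D42507 : act 7 n41542 = n42507 := rfl
theorem F195709 : act 0 n42507 = n42104 := d6_1 D42507 (iv D42104) (iv F191355)
theorem F195710 : act 3 n42507 = n41544 := d27_1 D42507 (iv D41544) (iv F191356)
theorem F195711 : act 4 n42507 = n41806 := d32_1 D42507 (iv D41806) (iv F191357)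
theorem F195712 : act 5 n42507 = n42507 := d36_1 D42507 (iv D42507) F191358
theorem F195713 : act 6 n42507 = n41838 := d39_1 D42507 (iv D41838) (iv D40788) (iv F186862) D41542
def n42508 : Q := act 9 n41542
theorem D42508 : act 9 n41542 = n42508 := rfl
theorem F195714 : act 0 n42508 = n42105 := d8_1 D42508 (iv D42105) (iv F191355)
theorem F195715 : act 1 n42508 = n42225 := d16_1 D42508 F194223 F194219
theorem F195716 : act 2 n42508 = n41751 := d23_1 D42508 (iv F195708) F195704
theorem F195717 : act 3 n42508 = n41545 := d29_1 D42508 (iv D41545) (iv F191356)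
theorem F195718 : act 4 n42508 = n41597 := d34_1 D42508 F191623 (iv F191357)
theorem F195719 : act 5 n42508 = n42508 := d38_1 D42508 (iv D42508) F191358
theorem F195720 : act 6 n42508 = n41543 := d41_1 D42508 (iv D41543) D41542
def n42509 : Q := act 8 n41543
theorem D42509 : act 8 n41543 = n42509 := rfl
theorem F195721 : act 0 n42509 = n42106 := d7_1 D42509 (iv D42106) (iv F191359)
theorem F195722 : act 2 n42509 = n41745 := d22_1 D42509 F192353 (iv F191360)
theorem F195723 : act 3 n42509 = n41546 := d28_1 D42509 (iv D41546) (iv F191361)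
theorem F195724 : act 4 n42509 = n41563 := d33_1 D42509 F191459 (iv F191362)
theorem F195725 : act 5 n42509 = n41565 := d37_1 D42509 F191466 F186985 F186908 (iv F191363)
theorem F195726 : act 7 n42509 = n41797 := d42_1 D42509 F192585 (iv F191364)
def n42510 : Q := act 9 n41544
theorem D42510 : act 9 n41544 = n42510 := rfl
theorem F195727 : act 0 n42510 = n42107 := d8_1 D42510 (iv D42107) (iv F191365)
theorem F195728 : act 1 n42510 = n42027 := d16_1 D42510 F194237 F194232
theorem F195729 : act 2 n42510 = n41819 := d23_1 D42510 F195651 F195646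
theorem F195730 : act 4 n42510 = n41547 := d34_1 D42510 (iv D41547) (iv F191366)
theorem F195731 : act 5 n42510 = n42510 := d38_1 D42510 (iv D42510) F191367
theorem F195732 : act 6 n42510 = n41814 := d41_1 D42510 (iv F195260) F195259
theorem F195733 : act 7 n42510 = n41545 := d43_1 D42510 (iv D41545) D41544
def n42511 : Q := act 8 n41545
theorem D42511 : act 8 n41545 = n42511 := rfl
theorem F195734 : act 0 n42511 = n42108 := d7_1 D42511 (iv D42108) (iv F191368)
theorem F195735 : act 4 n42511 = n41548 := d33_1 D42511 (iv D41548) (iv F191369)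
theorem F195736 : act 6 n42511 = n41546 := d40_1 D42511 (iv D41546) (iv F191371)
def n42512 : Q := act 5 n41546
theorem D42512 : act 5 n41546 = n42512 := rfl
theorem F195737 : act 0 n42512 = n42109 := d4_1 D42512 (iv D42109) (iv F191372)
theorem F195738 : act 2 n42512 = n41922 := d19_1 D42512 (iv F195665) F195662
theorem F195739 : act 3 n42512 = n41565 := d25_1 D42512 (iv F195725) F195723
theorem F195740 : act 4 n42512 = n41573 := d30_1 D42512 F191509 F187083 (iv F186878) (iv F191373)
theorem F195741 : act 7 n42512 = n41952 := d36_2 F195268 D42512 (iv F195266)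
theorem F195742 : act 8 n42512 = n41550 := d37_2 D41546 D42512 (iv D41550) (iv D40482) (iv F186868)
def n42513 : Q := act 8 n41547
theorem D42513 : act 8 n41547 = n42513 := rfl
theorem F195743 : act 0 n42513 = n42110 := d7_1 D42513 (iv D42110) (iv F191374)
theorem F195744 : act 1 n42513 = n42025 := d15_1 D42513 F193407 (iv F191375)
theorem F195745 : act 2 n42513 = n41817 := d22_1 D42513 F192662 (iv F191376)
theorem F195746 : act 3 n42513 = n41809 := d28_1 D42513 (iv D41809) (iv F191377)
theorem F195747 : act 5 n42513 = n42022 := d37_1 D42513 (iv D42022) (iv D41005) (iv F186886) (iv F191378)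
theorem F195748 : act 6 n42513 = n41812 := d40_1 D42513 F192644 (iv F191379)
theorem F195749 : act 7 n42513 = n41548 := d42_1 D42513 (iv D41548) (iv F191380)
def n42514 : Q := act 5 n41548
theorem D42514 : act 5 n41548 = n42514 := rfl
theorem F195750 : act 0 n42514 = n41817 := d4_1 D42514 F192661 (iv F191381)
theorem F195751 : act 1 n42514 = n41617 := d12_1 D42514 (iv F194254) F194251
theorem F195752 : act 2 n42514 = n42110 := d19_1 D42514 (iv F195671) F195669
theorem F195753 : act 3 n42514 = n41615 := d25_1 D42514 F191746 (iv F191382)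
theorem F195754 : act 6 n42514 = n41592 := d35_2 (iv F191383) D42514 (iv D41592) F187092 (iv F186878)
theorem F195755 : act 7 n42514 = n42022 := d36_2 F195749 D42514 (iv F195747)
theorem F195756 : act 8 n42514 = n41549 := d37_2 D41548 D42514 (iv D41549) (iv D40479) (iv F186874)
def n42515 : Q := act 4 n41549
theorem D42515 : act 4 n41549 = n42515 := rfl
theorem F195757 : act 0 n42515 = n41819 := d3_1 D42515 F192668 (iv F191384)
theorem F195758 : act 1 n42515 = n41616 := d11_1 D42515 (iv D41616) (iv F191385)
theorem F195759 : act 2 n42515 = n42107 := d18_1 D42515 F193670 (iv F191386)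
theorem F195760 : act 3 n42515 = n41662 := d24_1 D42515 F192003 F187519 (iv F187271) (iv F191387)
theorem F195761 : act 5 n42515 = n42515 := d30_2 D41549 D42515 (iv D42515) (iv D41549) F186891
theorem F195762 : act 6 n42515 = n41593 := d31_2 (iv F191388) D42515 (iv D41593)
theorem F195763 : act 7 n42515 = n42021 := d32_2 (iv F191389) D42515 (iv D42021)
theorem F195764 : act 9 n42515 = n41625 := d34_2 (iv F191390) D42515 (iv D41625)
def n42516 : Q := act 6 n41550
theorem D42516 : act 6 n41550 = n42516 := rfl
theorem F195765 : act 0 n42516 = n42111 := d5_1 D42516 (iv D42111) (iv F191391)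
theorem F195766 : act 1 n42516 = n42156 := d13_1 D42516 F194277 F194272
theorem F195767 : act 2 n42516 = n41927 := d20_1 D42516 (iv D41927) (iv F191392)
theorem F195768 : act 3 n42516 = n41568 := d26_1 D42516 (iv D41568) (iv F191393)
theorem F195769 : act 4 n42516 = n41579 := d31_1 D42516 (iv D41579) (iv F191394)
theorem F195770 : act 5 n42516 = n42516 := d35_1 D42516 (iv D42516) (iv D41550) F186913 D41550
theorem F195771 : act 9 n42516 = n41982 := d41_2 (iv F191396) D42516 (iv D41982)
def n42517 : Q := act 9 n41551
theorem D42517 : act 9 n41551 = n42517 := rfl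
theorem F195772 : act 0 n42517 = n41557 := d8_1 D42517 (iv D41557) (iv F191397)
theorem F195773 : act 1 n42517 = n42112 := d16_1 D42517 (iv D42112) (iv F191398)
theorem F195774 : act 3 n42517 = n41553 := d29_1 D42517 (iv D41553) (iv F191399)
theorem F195775 : act 4 n42517 = n41969 := d34_1 D42517 (iv D41969) (iv F191400)
theorem F195776 : act 6 n42517 = n41764 := d41_1 D42517 (iv D41764) (iv F191401)
def n42518 : Q := act 9 n41552
theorem D42518 : act 9 n41552 = n42518 := rfl
theorem F195777 : act 0 n42518 = n41560 := d8_1 D42518 (iv D41560) (iv F191402)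
theorem F195778 : act 1 n42518 = n42113 := d16_1 D42518 (iv D42113) (iv F191403)
theorem F195779 : act 2 n42518 = n41727 := d23_1 D42518 (iv D41727) (iv F191404)
theorem F195780 : act 4 n42518 = n42133 := d34_1 D42518 (iv D42133) (iv F191405)
theorem F195781 : act 5 n42518 = n41553 := d38_1 D42518 (iv D41553) D41552
theorem F195782 : act 6 n42518 = n41716 := d41_1 D42518 (iv D41716) (iv F191406)
def n42519 : Q := act 5 n41554
theorem D42519 : act 5 n41554 = n42519 := rfl
theorem F195783 : act 0 n42519 = n42183 := d4_1 D42519 (iv F195372) F195367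
theorem F195784 : act 1 n42519 = n41812 := d12_1 D42519 (iv D41812) (iv F191413)
theorem F195785 : act 2 n42519 = n41556 := d19_1 D42519 (iv D41556) (iv F191414)
theorem F195786 : act 3 n42519 = n42029 := d25_1 D42519 F193418 (iv F191415)
theorem F195787 : act 6 n42519 = n42025 := d35_2 (iv F191416) D42519 (iv D42025) F189028 D41029
theorem F195788 : act 7 n42519 = n41735 := d36_2 F195305 D42519 (iv F195303)
theorem F195789 : act 8 n42519 = n41555 := d37_2 D41554 D42519 (iv D41555) (iv D40487) D40486
def n42520 : Q := act 9 n41554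
theorem D42520 : act 9 n41554 = n42520 := rfl
theorem F195790 : act 1 n42520 = n41813 := d16_1 D42520 (iv D41813) (iv F191413)
theorem F195791 : act 2 n42520 = n41557 := d23_1 D42520 (iv D41557) (iv F191414)
theorem F195792 : act 3 n42520 = n42054 := d29_1 D42520 (iv D42054) (iv F191415)
theorem F195793 : act 6 n42520 = n42049 := d41_1 D42520 (iv D42049) (iv F191416)
theorem F195794 : act 8 n42520 = n42117 := d44_1 D42520 (iv D42117) F189302 (iv F186935) D41554
def n42521 : Q := act 4 n41555
theorem D42521 : act 4 n41555 = n42521 := rfl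
theorem F195795 : act 0 n42521 = n42180 := d3_1 D42521 F193845 (iv F191417)
theorem F195796 : act 1 n42521 = n41814 := d11_1 D42521 (iv D41814) (iv F191418)
theorem F195797 : act 2 n42521 = n41558 := d18_1 D42521 (iv D41558) (iv F191419)
theorem F195798 : act 5 n42521 = n41596 := d30_2 D41555 D42521 (iv D41596) (iv D40530) (iv F186940)
theorem F195799 : act 6 n42521 = n42027 := d31_2 (iv F191421) D42521 (iv D42027)
theorem F195800 : act 7 n42521 = n41733 := d32_2 (iv F191422) D42521 F192293
theorem F195801 : act 9 n42521 = n41732 := d34_2 (iv F191423) D42521 F192288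
def n42522 : Q := act 4 n41556
theorem D42522 : act 4 n41556 = n42522 := rfl
theorem F195802 : act 1 n42522 = n41565 := d11_1 D42522 (iv D41565) (iv F191424)
theorem F195803 : act 6 n42522 = n42154 := d31_2 (iv F191426) D42522 (iv D42154)
theorem F195804 : act 7 n42522 = n41965 := d32_2 F195311 D42522 F195313
theorem F195805 : act 8 n42522 = n41558 := d33_2 (iv F191427) D42522 (iv D41558)
def n42523 : Q := act 9 n41556
theorem D42523 : act 9 n41556 = n42523 := rfl
theorem F195806 : act 1 n42523 = n41567 := d16_1 D42523 (iv D41567) (iv F191424)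
theorem F195807 : act 3 n42523 = n41560 := d29_1 D42523 (iv D41560) (iv F191425)
theorem F195808 : act 5 n42523 = n41557 := d38_1 D42523 (iv D41557) D41556
theorem F195809 : act 6 n42523 = n42155 := d41_1 D42523 (iv D42155) (iv F191426)
def n42524 : Q := act 9 n41559
theorem D42524 : act 9 n41559 = n42524 := rfl
theorem F195810 : act 0 n42524 = n42133 := d8_1 D42524 (iv D42133) (iv F191436)
theorem F195811 : act 1 n42524 = n41575 := d16_1 D42524 (iv D41575) (iv F191437)
theorem F195812 : act 2 n42524 = n42171 := d23_1 D42524 (iv D42171) (iv F191438)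
theorem F195813 : act 4 n42524 = n41560 := d34_1 D42524 (iv D41560) D41559
theorem F195814 : act 5 n42524 = n41587 := d38_1 D42524 (iv D41587) (iv F191439)
theorem F195815 : act 6 n42524 = n42159 := d41_1 D42524 (iv D42159) (iv F191440)
def n42525 : Q := act 8 n41560
theorem D42525 : act 8 n41560 = n42525 := rfl
theorem F195816 : act 1 n42525 = n41578 := d15_1 D42525 (iv D41578) (iv F191442)
theorem F195817 : act 2 n42525 = n42174 := d22_1 D42525 (iv D42174) (iv F191443)
theorem F195818 : act 6 n42525 = n42160 := d40_1 D42525 (iv D42160) (iv F191445)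
theorem F195819 : act 9 n42525 = n41562 := d44_2 D41560 D42525 (iv D41562) (iv D40493) (iv F186953)
def n42526 : Q := act 8 n41561
theorem D42526 : act 8 n41561 = n42526 := rfl
theorem F195820 : act 0 n42526 = n41965 := d7_1 D42526 F193163 (iv F191446)
theorem F195821 : act 1 n42526 = n41581 := d15_1 D42526 (iv D41581) (iv F191447)
theorem F195822 : act 2 n42526 = n42181 := d22_1 D42526 (iv D42181) (iv F191448)
theorem F195823 : act 3 n42526 = n42182 := d28_1 D42526 F193850 (iv F191449)
theorem F195824 : act 4 n42526 = n41562 := d33_1 D42526 (iv D41562) (iv F191450)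
theorem F195825 : act 5 n42526 = n42179 := d37_1 D42526 (iv D42179) F189471 (iv F186972) (iv F191451)
theorem F195826 : act 6 n42526 = n42163 := d40_1 D42526 (iv D42163) (iv F191452)
def n42527 : Q := act 6 n41563
theorem D42527 : act 6 n41563 = n42527 := rfl
theorem F195827 : act 0 n42527 = n42118 := d5_1 D42527 (iv D42118) (iv F191456)
theorem F195828 : act 1 n42527 = n42208 := d13_1 D42527 (iv F194525) F194523
theorem F195829 : act 2 n42527 = n41825 := d20_1 D42527 (iv D41825) (iv F191457)
theorem F195830 : act 3 n42527 = n41808 := d26_1 D42527 F192630 (iv F191458)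
theorem F195831 : act 5 n42527 = n42139 := d35_1 D42527 (iv D42139) (iv F189647) F189648 D41563
theorem F195832 : act 8 n42527 = n41597 := d40_2 (iv F191459) D42527 (iv D41597)
def n42528 : Q := act 9 n41563
theorem D42528 : act 9 n41563 = n42528 := rfl
theorem F195833 : act 0 n42528 = n42119 := d8_1 D42528 (iv D42119) (iv F191456)
theorem F195834 : act 2 n42528 = n41826 := d23_1 D42528 (iv D41826) (iv F191457)
theorem F195835 : act 3 n42528 = n41802 := d29_1 D42528 F192602 (iv F191458)
theorem F195836 : act 5 n42528 = n41564 := d38_1 D42528 (iv D41564) D41563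
theorem F195837 : act 8 n42528 = n41799 := d44_1 D42528 (iv D41799) F188104 (iv F187143) (iv F191459)
def n42529 : Q := act 6 n41565
theorem D42529 : act 6 n41565 = n42529 := rfl
theorem F195838 : act 0 n42529 = n42120 := d5_1 D42529 (iv D42120) (iv F191463)
theorem F195839 : act 1 n42529 = n42154 := d13_1 D42529 (iv F195803) F195802
theorem F195840 : act 2 n42529 = n41827 := d20_1 D42529 (iv D41827) (iv F191464)
theorem F195841 : act 4 n42529 = n41566 := d31_1 D42529 (iv D41566) D41565
theorem F195842 : act 8 n42529 = n41568 := d40_2 (iv F191466) D42529 (iv D41568)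
def n42530 : Q := act 9 n41565
theorem D42530 : act 9 n41565 = n42530 := rfl
theorem F195843 : act 0 n42530 = n42121 := d8_1 D42530 (iv D42121) (iv F191463)
theorem F195844 : act 2 n42530 = n41828 := d23_1 D42530 (iv D41828) (iv F191464)
theorem F195845 : act 4 n42530 = n41567 := d34_1 D42530 (iv D41567) D41565
theorem F195846 : act 7 n42530 = n41967 := d43_1 D42530 (iv D41967) (iv F191465)
def n42531 : Q := act 7 n41566
theorem D42531 : act 7 n41566 = n42531 := rfl
theorem F195847 : act 0 n42531 = n42122 := d6_1 D42531 (iv D42122) (iv F191467)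
theorem F195848 : act 1 n42531 = n41884 := d14_1 D42531 F192920 (iv F191468)
theorem F195849 : act 2 n42531 = n41829 := d21_1 D42531 (iv D41829) (iv F191469)
theorem F195850 : act 3 n42531 = n41576 := d27_1 D42531 (iv D41576) (iv F191470)
theorem F195851 : act 5 n42531 = n41881 := d36_1 D42531 F192911 (iv F191471)
theorem F195852 : act 6 n42531 = n42184 := d39_1 D42531 (iv F195374) (iv D42446) F191029 D41566
theorem F195853 : act 8 n42531 = n41570 := d42_2 (iv F191472) D42531 (iv D41570)
def n42532 : Q := act 9 n41566
theorem D42532 : act 9 n41566 = n42532 := rfl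
theorem F195854 : act 0 n42532 = n42123 := d8_1 D42532 (iv D42123) (iv F191467)
theorem F195855 : act 1 n42532 = n42155 := d16_1 D42532 (iv D42155) (iv F191468)
theorem F195856 : act 2 n42532 = n41830 := d23_1 D42532 (iv D41830) (iv F191469)
theorem F195857 : act 3 n42532 = n41577 := d29_1 D42532 (iv D41577) (iv F191470)
theorem F195858 : act 5 n42532 = n42151 := d38_1 D42532 (iv D42151) (iv F191471)
theorem F195859 : act 6 n42532 = n41567 := d41_1 D42532 (iv D41567) D41566
def n42533 : Q := act 8 n41567
theorem D42533 : act 8 n41567 = n42533 := rfl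
theorem F195860 : act 0 n42533 = n42046 := d7_1 D42533 F193473 (iv F191473)
theorem F195861 : act 2 n42533 = n41831 := d22_1 D42533 (iv D41831) (iv F191474)
theorem F195862 : act 3 n42533 = n41578 := d28_1 D42533 (iv D41578) (iv F191475)
theorem F195863 : act 5 n42533 = n42042 := d37_1 D42533 (iv F195603) F195600 F191278 (iv F191476)
theorem F195864 : act 7 n42533 = n42113 := d42_1 D42533 (iv F195381) F195380
theorem F195865 : act 9 n42533 = n41572 := d44_2 D41567 D42533 (iv D41572) (iv D40500) (iv F186979)
def n42534 : Q := act 7 n41568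
theorem D42534 : act 7 n41568 = n42534 := rfl
theorem F195866 : act 0 n42534 = n42124 := d6_1 D42534 (iv D42124) (iv F191477)
theorem F195867 : act 1 n42534 = n41886 := d14_1 D42534 F192926 (iv F191478)
theorem F195868 : act 2 n42534 = n41832 := d21_1 D42534 (iv D41832) (iv F191479)
theorem F195869 : act 4 n42534 = n41570 := d32_1 D42534 (iv D41570) (iv F191480)
theorem F195870 : act 5 n42534 = n42534 := d36_1 D42534 (iv D42534) F191481
theorem F195871 : act 6 n42534 = n41975 := d39_1 D42534 (iv D41975) (iv D40939) (iv F186986) D41568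
theorem F195872 : act 9 n42202 = n42534 := d41_0 F195871 F193184 (iv F193899)
def n42535 : Q := act 9 n41568
theorem D42535 : act 9 n41568 = n42535 := rfl
theorem F195873 : act 0 n42535 = n41691 := d8_1 D42535 F192126 (iv F191477)
theorem F195874 : act 1 n42535 = n42135 := d16_1 D42535 F193743 (iv F191478)
theorem F195875 : act 2 n42535 = n41688 := d23_1 D42535 F192113 (iv F191479)
theorem F195876 : act 3 n42535 = n41982 := d29_1 D42535 (iv F195771) F195768
theorem F195877 : act 4 n42535 = n41571 := d34_1 D42535 (iv D41571) (iv F191480)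
theorem F195878 : act 5 n42535 = n42535 := d38_1 D42535 (iv D42535) F191481
theorem F195879 : act 6 n42535 = n41569 := d41_1 D42535 (iv D41569) D41568
theorem F195880 : act 7 n42535 = n42202 := d43_1 D42535 F195872 (iv D42534)
def n42536 : Q := act 8 n41569
theorem D42536 : act 8 n41569 = n42536 := rfl
theorem F195881 : act 0 n42536 = n42045 := d7_1 D42536 F193467 (iv F191482)
theorem F195882 : act 1 n42536 = n42132 := d15_1 D42536 F193737 (iv F191483)
theorem F195883 : act 2 n42536 = n41833 := d22_1 D42536 (iv D41833) (iv F191484)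
theorem F195884 : act 3 n42536 = n41920 := d28_1 D42536 F193043 (iv F191485)
theorem F195885 : act 4 n42536 = n41572 := d33_1 D42536 (iv D41572) (iv F191486)
theorem F195886 : act 5 n42536 = n41737 := d37_1 D42536 (iv D41737) F187811 (iv F187151) (iv F191487)
theorem F195887 : act 7 n42536 = n41789 := d42_1 D42536 F192539 (iv F191488)
def n42537 : Q := act 8 n41571
theorem D42537 : act 8 n41571 = n42537 := rfl
theorem F195888 : act 0 n42537 = n41692 := d7_1 D42537 (iv D41692) (iv F191496)
theorem F195889 : act 1 n42537 = n42157 := d15_1 D42537 (iv D42157) (iv F191497)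
theorem F195890 : act 2 n42537 = n41689 := d22_1 D42537 (iv D41689) (iv F191498)
theorem F195891 : act 3 n42537 = n41583 := d28_1 D42537 (iv D41583) (iv F191499)
theorem F195892 : act 5 n42537 = n42200 := d37_1 D42537 (iv D42200) F189531 (iv F187012) (iv F191500)
theorem F195893 : act 6 n42537 = n41572 := d40_1 D42537 (iv D41572) (iv F191501)
theorem F195894 : act 7 n42537 = n42201 := d42_1 D42537 F193897 (iv F191502)
def n42538 : Q := act 6 n41573
theorem D42538 : act 6 n41573 = n42538 := rfl
theorem F195895 : act 0 n42538 = n42125 := d5_1 D42538 (iv D42125) (iv F191508)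
theorem F195896 : act 1 n42538 = n42158 := d13_1 D42538 (iv F194998) F194996
theorem F195897 : act 3 n42538 = n41574 := d26_1 D42538 (iv D41574) D41573
theorem F195898 : act 5 n42538 = n42168 := d35_1 D42538 (iv D42168) (iv F190632) (iv F190634) (iv F191509)
theorem F195899 : act 8 n42538 = n41579 := d40_2 (iv F191510) D42538 (iv D41579)
def n42539 : Q := act 9 n41573
theorem D42539 : act 9 n41573 = n42539 := rfl
theorem F195900 : act 0 n42539 = n42126 := d8_1 D42539 (iv D42126) (iv F191508)
theorem F195901 : act 3 n42539 = n41575 := d29_1 D42539 (iv D41575) D41573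
theorem F195902 : act 5 n42539 = n41588 := d38_1 D42539 F191574 (iv F191509)
def n42540 : Q := act 7 n41574
theorem D42540 : act 7 n41574 = n42540 := rfl
theorem F195903 : act 0 n42540 = n42127 := d6_1 D42540 (iv D42127) (iv F191511)
theorem F195904 : act 1 n42540 = n41887 := d14_1 D42540 F192928 (iv F191512)
theorem F195905 : act 2 n42540 = n41586 := d21_1 D42540 (iv D41586) (iv F191513)
theorem F195906 : act 4 n42540 = n41576 := d32_1 D42540 (iv D41576) (iv F191514)
theorem F195907 : act 5 n42540 = n42170 := d36_1 D42540 (iv D42170) (iv F191515)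
theorem F195908 : act 8 n42540 = n41580 := d42_2 (iv F191516) D42540 (iv D41580)
def n42541 : Q := act 9 n41574
theorem D42541 : act 9 n41574 = n42541 := rfl
theorem F195909 : act 0 n42541 = n42128 := d8_1 D42541 (iv D42128) (iv F191511)
theorem F195910 : act 1 n42541 = n42159 := d16_1 D42541 (iv D42159) (iv F191512)
theorem F195911 : act 2 n42541 = n41587 := d23_1 D42541 (iv D41587) (iv F191513)
theorem F195912 : act 4 n42541 = n41577 := d34_1 D42541 (iv D41577) (iv F191514)
theorem F195913 : act 5 n42541 = n42171 := d38_1 D42541 (iv D42171) (iv F191515)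
theorem F195914 : act 6 n42541 = n41575 := d41_1 D42541 (iv D41575) D41574
def n42542 : Q := act 8 n41575
theorem D42542 : act 8 n41575 = n42542 := rfl
theorem F195915 : act 0 n42542 = n42129 := d7_1 D42542 (iv D42129) (iv F191517)
theorem F195916 : act 2 n42542 = n41588 := d22_1 D42542 (iv D41588) (iv F191518)
theorem F195917 : act 4 n42542 = n41578 := d33_1 D42542 (iv D41578) (iv F191519)
theorem F195918 : act 9 n42542 = n41581 := d44_2 D41575 D42542 (iv D41581) (iv D40508) (iv F187015)
def n42543 : Q := act 9 n41576
theorem D42543 : act 9 n41576 = n42543 := rfl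
theorem F195919 : act 0 n42543 = n42130 := d8_1 D42543 (iv D42130) (iv F191520)
theorem F195920 : act 1 n42543 = n41889 := d16_1 D42543 (iv D41889) (iv F191521)
theorem F195921 : act 2 n42543 = n41589 := d23_1 D42543 (iv D41589) (iv F191522)
theorem F195922 : act 5 n42543 = n41882 := d38_1 D42543 (iv D41882) (iv F191523)
theorem F195923 : act 7 n42543 = n41577 := d43_1 D42543 (iv D41577) D41576
def n42544 : Q := act 8 n41577
theorem D42544 : act 8 n41577 = n42544 := rfl
theorem F195924 : act 0 n42544 = n41813 := d7_1 D42544 F192647 (iv F191525)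
theorem F195925 : act 1 n42544 = n42160 := d15_1 D42544 (iv D42160) (iv F191526)
theorem F195926 : act 2 n42544 = n41590 := d22_1 D42544 (iv D41590) (iv F191527)
theorem F195927 : act 6 n42544 = n41578 := d40_1 D42544 (iv D41578) (iv F191529)
theorem F195928 : act 9 n42544 = n41583 := d44_2 D41577 D42544 (iv D41583) (iv D40510) (iv F187020)
def n42545 : Q := act 7 n41579
theorem D42545 : act 7 n41579 = n42545 := rfl
theorem F195929 : act 0 n42545 = n42131 := d6_1 D42545 (iv D42131) (iv F191533)
theorem F195930 : act 1 n42545 = n41890 := d14_1 D42545 F192937 (iv F191534)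
theorem F195931 : act 3 n42545 = n41580 := d27_1 D42545 (iv D41580) (iv F191535)
theorem F195932 : act 5 n42545 = n41594 := d36_1 D42545 (iv D41594) (iv F191536)
def n42546 : Q := act 8 n41582
theorem D42546 : act 8 n41582 = n42546 := rfl
theorem F195933 : act 0 n42546 = n41757 := d7_1 D42546 (iv D41757) (iv F191545)
theorem F195934 : act 1 n42546 = n41893 := d15_1 D42546 (iv D41893) (iv F191546)
theorem F195935 : act 2 n42546 = n41591 := d22_1 D42546 (iv D41591) (iv F191547)
theorem F195936 : act 3 n42546 = n42201 := d28_1 D42546 F193897 (iv F191548)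
theorem F195937 : act 5 n42546 = n41854 := d37_1 D42546 (iv D41854) (iv D40817) (iv F187053) (iv F191549)
theorem F195938 : act 6 n42546 = n42070 := d40_1 D42546 F193553 (iv F191550)
theorem F195939 : act 7 n42546 = n41583 := d42_1 D42546 (iv D41583) (iv F191551)
def n42547 : Q := act 5 n41583
theorem D42547 : act 5 n41583 = n42547 := rfl
theorem F195940 : act 0 n42547 = n41812 := d4_1 D42547 (iv D41812) (iv F191552)
theorem F195941 : act 1 n42547 = n41911 := d12_1 D42547 F193005 (iv F191553)
theorem F195942 : act 2 n42547 = n41592 := d19_1 D42547 (iv D41592) (iv F191554)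
theorem F195943 : act 3 n42547 = n42200 := d25_1 D42547 (iv F195892) F195891
theorem F195944 : act 6 n42547 = n42110 := d35_2 (iv F191555) D42547 (iv F195671) F195672 F191325
theorem F195945 : act 7 n42547 = n41854 := d36_2 F195939 D42547 (iv F195937)
theorem F195946 : act 8 n42547 = n41584 := d37_2 D41583 D42547 (iv D41584) (iv D40513) (iv F187042)
def n42548 : Q := act 4 n41584
theorem D42548 : act 4 n41584 = n42548 := rfl
theorem F195947 : act 0 n42548 = n41814 := d3_1 D42548 (iv D41814) (iv F191556)
theorem F195948 : act 1 n42548 = n41910 := d11_1 D42548 (iv D41910) (iv F191557)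
theorem F195949 : act 2 n42548 = n41593 := d18_1 D42548 (iv D41593) (iv F191558)
theorem F195950 : act 5 n42548 = n41595 := d30_2 D41584 D42548 (iv D41595) (iv D40527) (iv F187058)
theorem F195951 : act 6 n42548 = n42107 := d31_2 (iv F191560) D42548 F193670
theorem F195952 : act 7 n42548 = n41853 := d32_2 (iv F191561) D42548 (iv D41853)
theorem F195953 : act 9 n42548 = n41999 := d34_2 (iv F191562) D42548 F193284
theorem F195954 : act 3 n42215 = n42548 := d45_8 (iv F180130) (iv F185028) (iv F185682) F185683 D41220 D42209 F193912 (iv F193923) (iv D42548) (iv D41584) F187059 F182279 (iv D38153) F170173 F162853 (iv D33735) (iv D31813) (iv D29781) F133643 (iv D19400) (iv F87964) F87965 D24569 F110585 (iv F138464) D31734 D33639 F156381 F147709 F138518 (iv F137070) (iv F145968) F145969 (iv D31403) (iv F145938) F145939 F145940 F137796 (iv D23883) (iv D18877) D18878 (iv F107271) (iv F137403) (iv F146415) D33372 D35128 D36746 F170301 (iv F168232) F168233 F161090 F153855 (iv F161754) (iv D34913) F153848 F148204 (iv F156947) (iv F164910) (iv F172159) (iv D37115)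 (iv F171854) (iv F178099) F178097
def n42549 : Q := act 9 n41586
theorem D42549 : act 9 n41586 = n42549 := rfl
theorem F195955 : act 0 n42549 = n42134 := d8_1 D42549 (iv D42134) (iv F191566)
theorem F195956 : act 4 n42549 = n41589 := d34_1 D42549 (iv D41589) (iv F191567)
theorem F195957 : act 7 n42549 = n41587 := d43_1 D42549 (iv D41587) D41586
def n42550 : Q := act 8 n41589
theorem D42550 : act 8 n41589 = n42550 := rfl
theorem F195958 : act 0 n42550 = n41760 := d7_1 D42550 F192409 (iv F191575)
theorem F195959 : act 1 n42550 = n41768 := d15_1 D42550 (iv F194994) F194989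
theorem F195960 : act 3 n42550 = n41650 := d28_1 D42550 F191931 (iv F191576)
theorem F195961 : act 7 n42550 = n41590 := d42_1 D42550 (iv D41590) (iv F191577)
theorem F195962 : act 9 n42550 = n41591 := d44_2 D41589 D42550 (iv D41591) (iv D40522) (iv F187072)
theorem F195963 : act 5 n41856 = n42550 := d38_3 F195962 F191586 D41856
def n42551 : Q := act 5 n41590
theorem D42551 : act 5 n41590 = n42551 := rfl
theorem F195964 : act 0 n42551 = n41818 := d4_1 D42551 F192665 (iv F191578)
theorem F195965 : act 1 n42551 = n41788 := d12_1 D42551 F192532 (iv F191579)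
theorem F195966 : act 3 n42551 = n41667 := d25_1 D42551 F192027 (iv F191580)
theorem F195967 : act 7 n42551 = n41856 := d36_2 F195961 D42551 F195963
theorem F195968 : act 9 n42551 = n41592 := d38_2 (iv F191582) D42551 (iv D41592)
def n42552 : Q := act 4 n41592
theorem D42552 : act 4 n41592 = n42552 := rfl
theorem F195969 : act 0 n42552 = n41816 := d3_1 D42552 (iv D41816) (iv F191588)
theorem F195970 : act 1 n42552 = n41781 := d11_1 D42552 F192505 (iv F191589)
theorem F195971 : act 3 n42552 = n41659 := d24_1 D42552 (iv D41659) F187501 D40604 (iv F191590)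
theorem F195972 : act 5 n42552 = n42034 := d30_2 D41592 D42552 F193432 (iv F190632) F190631
theorem F195973 : act 7 n42552 = n41855 := d32_2 (iv F191591) D42552 F192826
theorem F195974 : act 8 n42552 = n41593 := d33_2 (iv F191592) D42552 (iv D41593)
def n42553 : Q := act 3 n41596
theorem D42553 : act 3 n41596 = n42553 := rfl
theorem F195975 : act 0 n42553 = n42227 := d2_1 D42553 F193944 (iv F191612)
theorem F195976 : act 1 n42553 = n41836 := d10_1 D42553 (iv D41836) (iv F191613)
theorem F195977 : act 4 n42553 = n42553 := d24_2 D41596 D42553 (iv D42553) (iv D41596) F187132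
theorem F195978 : act 6 n42553 = n42553 := d26_2 F191615 D42553 (iv D42553)
theorem F195979 : act 7 n42553 = n41843 := d27_2 (iv F191616) D42553 F192774
theorem F195980 : act 9 n42553 = n41842 := d29_2 (iv F191617) D42553 F192768
def n42554 : Q := act 7 n41597
theorem D42554 : act 7 n41597 = n42554 := rfl
theorem F195981 : act 0 n42554 = n42136 := d6_1 D42554 (iv D42136) (iv F191618)
theorem F195982 : act 1 n42554 = n42031 := d14_1 D42554 F193423 (iv F191619)
theorem F195983 : act 2 n42554 = n41838 := d21_1 D42554 (iv D41838) (iv F191620)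
theorem F195984 : act 3 n42554 = n41807 := d27_1 D42554 F192624 (iv F191621)
theorem F195985 : act 5 n42554 = n41598 := d36_1 D42554 (iv D41598) (iv F191622)
theorem F195986 : act 9 n42554 = n41806 := d43_2 (iv F191623) D42554 (iv D41806)
def n42555 : Q := act 9 n41599
theorem D42555 : act 9 n41599 = n42555 := rfl
theorem F195987 : act 0 n42555 = n41851 := d8_1 D42555 (iv D41851) (iv F191632)
theorem F195988 : act 1 n42555 = n41603 := d16_1 D42555 (iv D41603) (iv F191633)
theorem F195989 : act 2 n42555 = n41634 := d23_1 D42555 (iv D41634) (iv F191634)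
theorem F195990 : act 3 n42555 = n42094 := d29_1 D42555 (iv D42094) (iv F191635)
theorem F195991 : act 4 n42555 = n41848 := d34_1 D42555 (iv D41848) (iv F191636)
theorem F195992 : act 5 n42555 = n41633 := d38_1 D42555 (iv D41633) (iv F191637)
theorem F195993 : act 6 n42555 = n41989 := d41_1 D42555 (iv D41989) (iv F191638)
theorem F195994 : act 7 n42555 = n41627 := d43_1 D42555 (iv D41627) (iv F191639)
theorem F195995 : act 8 n42555 = n42023 := d44_1 D42555 (iv D42023) (iv D41006) (iv F187166) D41599
def n42556 : Q := act 8 n41600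
theorem D42556 : act 8 n41600 = n42556 := rfl
theorem F195996 : act 0 n42556 = n41642 := d7_1 D42556 (iv D41642) (iv F191640)
theorem F195997 : act 1 n42556 = n42092 := d15_1 D42556 F193627 (iv F191641)
theorem F195998 : act 2 n42556 = n42146 := d22_1 D42556 (iv D42146) (iv F191642)
theorem F195999 : act 3 n42556 = n41849 := d28_1 D42556 (iv D41849) (iv F191643)
theorem F196000 : act 4 n42556 = n41601 := d33_1 D42556 (iv D41601) D41600
theorem F196001 : act 6 n42556 = n41990 := d40_1 D42556 (iv D41990) (iv F191645)
theorem F196002 : act 7 n42556 = n41628 := d42_1 D42556 (iv D41628) (iv F191646)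
def n42557 : Q := act 9 n41601
theorem D42557 : act 9 n41601 = n42557 := rfl
theorem F196003 : act 0 n42557 = n41644 := d8_1 D42557 (iv D41644) (iv F191648)
theorem F196004 : act 1 n42557 = n42094 := d16_1 D42557 (iv D42094) (iv F191649)
theorem F196005 : act 2 n42557 = n42147 := d23_1 D42557 (iv D42147) (iv F191650)
theorem F196006 : act 3 n42557 = n41603 := d29_1 D42557 (iv D41603) (iv F191651)
theorem F196007 : act 6 n42557 = n41991 := d41_1 D42557 (iv D41991) (iv F191652)
theorem F196008 : act 7 n42557 = n41629 := d43_1 D42557 (iv D41629) (iv F191653)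
theorem F196009 : act 8 n42557 = n42026 := d44_1 D42557 (iv D42026) (iv D41008) (iv F187173) D41601
def n42558 : Q := act 9 n41602
theorem D42558 : act 9 n41602 = n42558 := rfl
theorem F196010 : act 0 n42558 = n41647 := d8_1 D42558 (iv D41647) (iv F191654)
theorem F196011 : act 1 n42558 = n41633 := d16_1 D42558 (iv D41633) (iv F191655)
theorem F196012 : act 2 n42558 = n41604 := d23_1 D42558 (iv D41604) (iv F191656)
theorem F196013 : act 4 n42558 = n41641 := d34_1 D42558 (iv D41641) F191659
theorem F196014 : act 5 n42558 = n41603 := d38_1 D42558 (iv D41603) D41602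
theorem F196015 : act 6 n42558 = n41986 := d41_1 D42558 (iv D41986) F191660
theorem F196016 : act 7 n42558 = n41630 := d43_1 D42558 (iv D41630) (iv F191657)
theorem F196017 : act 8 n42558 = n41866 := d44_1 D42558 (iv D41866) (iv D40834) (iv F187185) (iv F191658)
def n42559 : Q := act 4 n41605
theorem D42559 : act 4 n41605 = n42559 := rfl
theorem F196018 : act 0 n42559 = n41697 := d3_1 D42559 (iv D41697) (iv F191674)
theorem F196019 : act 1 n42559 = n41607 := d11_1 D42559 (iv D41607) (iv F191675)
theorem F196020 : act 2 n42559 = n42198 := d18_1 D42559 F193888 (iv F191676)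
theorem F196021 : act 3 n42559 = n41625 := d24_1 D42559 (iv D41625) F187334 (iv F187210) (iv F191677)
theorem F196022 : act 5 n42559 = n42559 := d30_2 D41605 D42559 (iv D42559) (iv D41605) F187203
theorem F196023 : act 6 n42559 = n41663 := d31_2 (iv F191678) D42559 F192009
theorem F196024 : act 7 n42559 = n41846 := d32_2 (iv F191679) D42559 (iv D41846)
theorem F196025 : act 9 n42559 = n41662 := d34_2 (iv F191680) D42559 F192003
def n42560 : Q := act 8 n41605
theorem D42560 : act 8 n41605 = n42560 := rfl
theorem F196026 : act 0 n42560 = n41695 := d7_1 D42560 F192144 (iv F191674)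
theorem F196027 : act 1 n42560 = n41608 := d15_1 D42560 (iv D41608) (iv F191675)
theorem F196028 : act 2 n42560 = n42200 := d22_1 D42560 (iv D42200) (iv F191676)
theorem F196029 : act 3 n42560 = n41606 := d28_1 D42560 (iv D41606) (iv F191677)
theorem F196030 : act 5 n42560 = n41689 := d37_1 D42560 (iv D41689) (iv D40624) (iv F187205) D41605
theorem F196031 : act 6 n42560 = n41664 := d40_1 D42560 (iv D41664) (iv F191678)
theorem F196032 : act 7 n42560 = n41847 := d42_1 D42560 (iv D41847) (iv F191679)
def n42561 : Q := act 9 n41606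
theorem D42561 : act 9 n41606 = n42561 := rfl
theorem F196033 : act 0 n42561 = n41698 := d8_1 D42561 (iv D41698) (iv F191681)
theorem F196034 : act 1 n42561 = n41610 := d16_1 D42561 (iv D41610) (iv F191682)
theorem F196035 : act 2 n42561 = n41667 := d23_1 D42561 (iv D41667) (iv F191683)
theorem F196036 : act 4 n42561 = n41627 := d34_1 D42561 (iv D41627) (iv F191684)
theorem F196037 : act 5 n42561 = n41690 := d38_1 D42561 (iv D41690) (iv F191685)
theorem F196038 : act 6 n42561 = n41669 := d41_1 D42561 F192034 (iv F191686)
theorem F196039 : act 7 n42561 = n41848 := d43_1 D42561 (iv D41848) (iv F191687)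
theorem F196040 : act 8 n42561 = n41668 := d44_1 D42561 (iv D41668) F187552 (iv F187213) D41606
def n42562 : Q := act 8 n41607
theorem D42562 : act 8 n41607 = n42562 := rfl
theorem F196041 : act 0 n42562 = n41665 := d7_1 D42562 (iv D41665) (iv F191688)
theorem F196042 : act 2 n42562 = n41867 := d22_1 D42562 (iv D41867) (iv F191689)
theorem F196043 : act 3 n42562 = n41628 := d28_1 D42562 (iv D41628) (iv F191690)
theorem F196044 : act 4 n42562 = n41608 := d33_1 D42562 (iv D41608) D41607
theorem F196045 : act 6 n42562 = n41786 := d40_1 D42562 (iv D41786) (iv F191692)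
theorem F196046 : act 7 n42562 = n41849 := d42_1 D42562 (iv D41849) (iv F191693)
def n42563 : Q := act 9 n41608
theorem D42563 : act 9 n41608 = n42563 := rfl
theorem F196047 : act 0 n42563 = n41666 := d8_1 D42563 (iv D41666) (iv F191695)
theorem F196048 : act 2 n42563 = n41868 := d23_1 D42563 (iv D41868) (iv F191696)
theorem F196049 : act 3 n42563 = n41610 := d29_1 D42563 (iv D41610) (iv F191697)
theorem F196050 : act 6 n42563 = n41785 := d41_1 D42563 F192521 (iv F191698)
theorem F196051 : act 7 n42563 = n41850 := d43_1 D42563 (iv D41850) (iv F191699)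
theorem F196052 : act 8 n42563 = n41784 := d44_1 D42563 (iv D41784) F188006 (iv F187219) D41608
def n42564 : Q := act 9 n41609
theorem D42564 : act 9 n41609 = n42564 := rfl
theorem F196053 : act 0 n42564 = n41627 := d8_1 D42564 (iv D41627) (iv F191700)
theorem F196054 : act 1 n42564 = n41690 := d16_1 D42564 (iv D41690) (iv F191701)
theorem F196055 : act 2 n42564 = n41612 := d23_1 D42564 (iv D41612) (iv F191702)
theorem F196056 : act 4 n42564 = n41698 := d34_1 D42564 (iv D41698) (iv F191703)
theorem F196057 : act 5 n42564 = n41610 := d38_1 D42564 (iv D41610) D41609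
theorem F196058 : act 6 n42564 = n41824 := d41_1 D42564 F192689 (iv F191704)
theorem F196059 : act 7 n42564 = n41851 := d43_1 D42564 (iv D41851) (iv F191705)
theorem F196060 : act 8 n42564 = n41823 := d44_1 D42564 (iv D41823) F188178 (iv F187231) (iv F191706)
def n42565 : Q := act 7 n41611
theorem D42565 : act 7 n41611 = n42565 := rfl
theorem F196061 : act 0 n42565 = n41655 := d6_1 D42565 F191958 (iv F191713)
theorem F196062 : act 1 n42565 = n41648 := d14_1 D42565 F191919 (iv F191714)
theorem F196063 : act 2 n42565 = n41762 := d21_1 D42565 F192421 (iv F191715)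
theorem F196064 : act 3 n42565 = n41741 := d27_1 D42565 F192330 (iv F191716)
theorem F196065 : act 4 n42565 = n41822 := d32_1 D42565 (iv D41822) (iv F191717)
theorem F196066 : act 5 n42565 = n41964 := d36_1 D42565 F193162 (iv F191718)
theorem F196067 : act 6 n42565 = n41738 := d39_1 D42565 F192313 F188059 (iv F187236) D41611
theorem F196068 : act 8 n42565 = n41613 := d42_2 (iv F191719) D42565 (iv D41613)
def n42566 : Q := act 9 n41611
theorem D42566 : act 9 n41611 = n42566 := rfl
theorem F196069 : act 0 n42566 = n41668 := d8_1 D42566 (iv D41668) (iv F191713)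
theorem F196070 : act 1 n42566 = n41704 := d16_1 D42566 F192176 (iv F191714)
theorem F196071 : act 2 n42566 = n41824 := d23_1 D42566 F192689 (iv F191715)
theorem F196072 : act 3 n42566 = n41871 := d29_1 D42566 (iv D41871) (iv F191716)
theorem F196073 : act 4 n42566 = n41823 := d34_1 D42566 (iv D41823) (iv F191717)
theorem F196074 : act 5 n42566 = n41959 := d38_1 D42566 F193143 (iv F191718)
theorem F196075 : act 6 n42566 = n41612 := d41_1 D42566 (iv D41612) D41611
theorem F196076 : act 8 n42566 = n41698 := d44_1 D42566 (iv D41698) F187654 F187251 (iv F191719)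
def n42567 : Q := act 8 n41612
theorem D42567 : act 8 n41612 = n42567 := rfl
theorem F196077 : act 0 n42567 = n41669 := d7_1 D42567 (iv D41669) (iv F191720)
theorem F196078 : act 1 n42567 = n41703 := d15_1 D42567 F192170 (iv F191721)
theorem F196079 : act 2 n42567 = n41823 := d22_1 D42567 (iv F196060) F196055
theorem F196080 : act 3 n42567 = n41872 := d28_1 D42567 (iv D41872) (iv F191722)
theorem F196081 : act 4 n42567 = n41824 := d33_1 D42567 (iv D41824) (iv F191723)
theorem F196082 : act 5 n42567 = n41864 := d37_1 D42567 (iv D41864) F188463 (iv F187244) (iv F191724)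
theorem F196083 : act 6 n42567 = n41698 := d40_1 D42567 (iv F196076) F196075
theorem F196084 : act 7 n42567 = n41852 := d42_1 D42567 (iv D41852) (iv F191725)
theorem F196085 : act 9 n42567 = n41614 := d44_2 D41612 D42567 (iv D41614) (iv D40549) (iv F187237)
def n42568 : Q := act 9 n41615
theorem D42568 : act 9 n41615 = n42568 := rfl
theorem F196086 : act 0 n42568 = n41823 := d8_1 D42568 (iv D41823) (iv F191742)
theorem F196087 : act 1 n42568 = n41619 := d16_1 D42568 (iv D41619) (iv F191743)
theorem F196088 : act 2 n42568 = n41669 := d23_1 D42568 F192034 (iv F191744)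
theorem F196089 : act 4 n42568 = n41668 := d34_1 D42568 (iv D41668) (iv F191745)
theorem F196090 : act 5 n42568 = n41804 := d38_1 D42568 F192610 (iv F191746)
theorem F196091 : act 6 n42568 = n41667 := d41_1 D42568 (iv D41667) (iv F191747)
theorem F196092 : act 7 n42568 = n42023 := d43_1 D42568 (iv D42023) (iv F191748)
theorem F196093 : act 8 n42568 = n41627 := d44_1 D42568 (iv D41627) (iv D40562) (iv F187274) D41615
def n42569 : Q := act 8 n41616
theorem D42569 : act 8 n41616 = n42569 := rfl
theorem F196094 : act 0 n42569 = n41670 := d7_1 D42569 (iv D41670) (iv F191749)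
theorem F196095 : act 2 n42569 = n41883 := d22_1 D42569 (iv D41883) (iv F191750)
theorem F196096 : act 3 n42569 = n41782 := d28_1 D42569 F192511 (iv F191751)
theorem F196097 : act 4 n42569 = n41617 := d33_1 D42569 (iv D41617) D41616
theorem F196098 : act 6 n42569 = n41781 := d40_1 D42569 F192507 (iv F191753)
theorem F196099 : act 7 n42569 = n42024 := d42_1 D42569 (iv D42024) (iv F191754)
def n42570 : Q := act 9 n41617
theorem D42570 : act 9 n41617 = n42570 := rfl
theorem F196100 : act 0 n42570 = n41672 := d8_1 D42570 (iv D41672) (iv F191756)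
theorem F196101 : act 2 n42570 = n41885 := d23_1 D42570 (iv D41885) (iv F191757)
theorem F196102 : act 3 n42570 = n41619 := d29_1 D42570 (iv D41619) (iv F191758)
theorem F196103 : act 6 n42570 = n41788 := d41_1 D42570 (iv D41788) (iv F191759)
theorem F196104 : act 7 n42570 = n42026 := d43_1 D42570 (iv D42026) (iv F191760)
theorem F196105 : act 8 n42570 = n41629 := d44_1 D42570 (iv D41629) (iv D40564) (iv F187280) D41617
def n42571 : Q := act 9 n41618
theorem D42571 : act 9 n41618 = n42571 := rfl
theorem F196106 : act 0 n42571 = n41675 := d8_1 D42571 (iv D41675) (iv F191761)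
theorem F196107 : act 1 n42571 = n41804 := d16_1 D42571 F192610 (iv F191762)
theorem F196108 : act 2 n42571 = n41622 := d23_1 D42571 (iv D41622) (iv F191763)
theorem F196109 : act 4 n42571 = n42211 := d34_1 D42571 (iv D42211) (iv F191764)
theorem F196110 : act 5 n42571 = n41619 := d38_1 D42571 (iv D41619) D41618
theorem F196111 : act 6 n42571 = n41683 := d41_1 D42571 F192092 (iv F191765)
theorem F196112 : act 7 n42571 = n42030 := d43_1 D42571 (iv D42030) (iv F191766)
theorem F196113 : act 8 n42571 = n41682 := d44_1 D42571 (iv D41682) F187594 (iv F187292) (iv F191767)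
def n42572 : Q := act 3 n41620
theorem D42572 : act 3 n41620 = n42572 := rfl
theorem F196114 : act 0 n42572 = n41678 := d2_1 D42572 (iv D41678) (iv F191774)
theorem F196115 : act 1 n42572 = n41857 := d10_1 D42572 F192833 (iv F191775)
theorem F196116 : act 4 n42572 = n41897 := d24_2 D41620 D42572 (iv D41897) (iv D40866) (iv F187295)
theorem F196117 : act 5 n42572 = n41855 := d25_2 (iv F191777) D42572 F192825
theorem F196118 : act 7 n42572 = n42034 := d27_2 (iv F191778) D42572 (iv D42034)
theorem F196119 : act 8 n42572 = n41623 := d28_2 (iv F191779) D42572 (iv D41623)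
def n42573 : Q := act 9 n41620
theorem D42573 : act 9 n41620 = n42573 := rfl
theorem F196120 : act 0 n42573 = n41680 := d8_1 D42573 (iv D41680) (iv F191774)
theorem F196121 : act 1 n42573 = n41957 := d16_1 D42573 F193136 (iv F191775)
theorem F196122 : act 2 n42573 = n42211 := d23_1 D42573 (iv D42211) (iv F191776)
theorem F196123 : act 4 n42573 = n41622 := d34_1 D42573 (iv D41622) D41620
theorem F196124 : act 5 n42573 = n41863 := d38_1 D42573 (iv D41863) (iv F191777)
theorem F196125 : act 7 n42573 = n42036 := d43_1 D42573 (iv D42036) (iv F191778)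
theorem F196126 : act 8 n42573 = n41940 := d44_1 D42573 (iv D41940) F188684 (iv F187310) (iv F191779)
def n42574 : Q := act 9 n41621
theorem D42574 : act 9 n41621 = n42574 := rfl
theorem F196127 : act 0 n42574 = n41682 := d8_1 D42574 (iv D41682) (iv F191780)
theorem F196128 : act 1 n42574 = n41959 := d16_1 D42574 F193143 (iv F191781)
theorem F196129 : act 2 n42574 = n41683 := d23_1 D42574 F192092 (iv F191782)
theorem F196130 : act 3 n42574 = n41901 := d29_1 D42574 (iv D41901) (iv F191783)
theorem F196131 : act 5 n42574 = n41704 := d38_1 D42574 F192176 (iv F191784)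
theorem F196132 : act 6 n42574 = n41622 := d41_1 D42574 (iv D41622) D41621
theorem F196133 : act 8 n42574 = n41675 := d44_1 D42574 (iv D41675) F187572 (iv F187316) (iv F191785)
def n42575 : Q := act 2 n41623
theorem D42575 : act 2 n41623 = n42575 := rfl
theorem F196134 : act 0 n42575 = n41684 := d1_1 D42575 (iv D41684) (iv F191792)
theorem F196135 : act 1 n42575 = n41983 := d9_1 D42575 F193210 F188824 (iv F188448) (iv F191793)
theorem F196136 : act 3 n42575 = n42224 := d17_2 D41623 D42575 F193939 F189616 (iv F187307)
theorem F196137 : act 4 n42575 = n41903 := d18_2 (iv F191794) D42575 (iv D41903)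
theorem F196138 : act 5 n42575 = n41624 := d19_2 (iv F191795) D42575 (iv D41624)
theorem F196139 : act 7 n42575 = n42039 := d21_2 (iv F191796) D42575 (iv D42039)
theorem F196140 : act 9 n42575 = n41941 := d23_2 (iv F191797) D42575 (iv D41941)
def n42576 : Q := act 8 n41625
theorem D42576 : act 8 n41625 = n42576 := rfl
theorem F196141 : act 1 n42576 = n41628 := d15_1 D42576 (iv D41628) (iv F191806)
theorem F196142 : act 2 n42576 = n42098 := d22_1 D42576 F193641 (iv F191807)
theorem F196143 : act 4 n42576 = n41626 := d33_1 D42576 (iv D41626) D41625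
theorem F196144 : act 7 n42576 = n42092 := d42_1 D42576 F193627 (iv F191809)
def n42577 : Q := act 9 n41626
theorem D42577 : act 9 n41626 = n42577 := rfl
theorem F196145 : act 1 n42577 = n41629 := d16_1 D42577 (iv D41629) (iv F191810)
theorem F196146 : act 2 n42577 = n42101 := d23_1 D42577 (iv D42101) (iv F191811)
theorem F196147 : act 3 n42577 = n41627 := d29_1 D42577 (iv D41627) (iv F191812)
theorem F196148 : act 5 n42577 = n41666 := d38_1 D42577 (iv D41666) (iv F191813)
theorem F196149 : act 7 n42577 = n42094 := d43_1 D42577 (iv D42094) (iv F191814)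
def n42578 : Q := act 5 n41628
theorem D42578 : act 5 n41628 = n42578 := rfl
theorem F196150 : act 0 n42578 = n41699 := d4_1 D42578 (iv D41699) (iv F191818)
theorem F196151 : act 8 n42578 = n42578 := d37_2 D41628 D42578 (iv D42578) (iv D41628) F187340
def n42579 : Q := act 9 n41628
theorem D42579 : act 9 n41628 = n42579 := rfl
theorem F196152 : act 0 n42579 = n41700 := d8_1 D42579 (iv D41700) (iv F191818)
theorem F196153 : act 4 n42579 = n41629 := d34_1 D42579 (iv D41629) (iv F191819)
def n42580 : Q := act 8 n41631
theorem D42580 : act 8 n41631 = n42580 := rfl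
theorem F196154 : act 0 n42580 = n41849 := d7_1 D42580 (iv D41849) (iv F191829)
theorem F196155 : act 2 n42580 = n41782 := d22_1 D42580 F192511 (iv F191830)
theorem F196156 : act 3 n42580 = n41642 := d28_1 D42580 (iv D41642) (iv F191831)
theorem F196157 : act 4 n42580 = n41632 := d33_1 D42580 (iv D41632) D41631
theorem F196158 : act 6 n42580 = n41779 := d40_1 D42580 F192499 (iv F191833)
theorem F196159 : act 7 n42580 = n41665 := d42_1 D42580 (iv D41665) (iv F191834)
def n42581 : Q := act 9 n41632
theorem D42581 : act 9 n41632 = n42581 := rfl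
theorem F196160 : act 0 n42581 = n41850 := d8_1 D42581 (iv D41850) (iv F191836)
theorem F196161 : act 2 n42581 = n41784 := d23_1 D42581 (iv D41784) (iv F191837)
theorem F196162 : act 3 n42581 = n41633 := d29_1 D42581 (iv D41633) (iv F191838)
theorem F196163 : act 5 n42581 = n42094 := d38_1 D42581 (iv D42094) (iv F191839)
theorem F196164 : act 6 n42581 = n41780 := d41_1 D42581 (iv D41780) (iv F191840)
theorem F196165 : act 7 n42581 = n41666 := d43_1 D42581 (iv D41666) (iv F191841)
theorem F196166 : act 8 n42581 = n41868 := d44_1 D42581 (iv D41868) (iv D40836) (iv F187362) D41632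
def n42582 : Q := act 9 n41635
theorem D42582 : act 9 n41635 = n42582 := rfl
theorem F196167 : act 0 n42582 = n41641 := d8_1 D42582 (iv D41641) (iv F191855)
theorem F196168 : act 1 n42582 = n41851 := d16_1 D42582 (iv D41851) (iv F191856)
theorem F196169 : act 2 n42582 = n41650 := d23_1 D42582 (iv D41650) (iv F191857)
theorem F196170 : act 4 n42582 = n41647 := d34_1 D42582 (iv D41647) (iv F191858)
theorem F196171 : act 5 n42582 = n41848 := d38_1 D42582 (iv D41848) (iv F191859)
theorem F196172 : act 7 n42582 = n41690 := d43_1 D42582 (iv D41690) (iv F191860)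
theorem F196173 : act 8 n42582 = n41834 := d44_1 D42582 (iv D41834) F188225 (iv F187387) D41635
def n42583 : Q := act 4 n41636
theorem D42583 : act 4 n41636 = n42583 := rfl
theorem F196174 : act 0 n42583 = n42202 := d3_1 D42583 (iv D42202) (iv F191861)
theorem F196175 : act 1 n42583 = n42057 := d11_1 D42583 F193511 (iv F191862)
theorem F196176 : act 2 n42583 = n41637 := d18_1 D42583 (iv D41637) (iv F191863)
theorem F196177 : act 5 n42583 = n42583 := d30_2 D41636 D42583 (iv D42583) (iv D41636) F187392
theorem F196178 : act 6 n42583 = n41773 := d31_2 (iv F191865) D42583 (iv D41773)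
theorem F196179 : act 7 n42583 = n41691 := d32_2 (iv F191866) D42583 (iv D41691)
theorem F196180 : act 9 n42583 = n42124 := d34_2 (iv F191867) D42583 F193717
def n42584 : Q := act 8 n41636
theorem D42584 : act 8 n41636 = n42584 := rfl
theorem F196181 : act 0 n42584 = n42201 := d7_1 D42584 F193897 (iv F191861)
theorem F196182 : act 1 n42584 = n42053 := d15_1 D42584 F193499 (iv F191862)
theorem F196183 : act 2 n42584 = n41638 := d22_1 D42584 (iv D41638) (iv F191863)
theorem F196184 : act 3 n42584 = n41757 := d28_1 D42584 (iv D41757) (iv F191864)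
theorem F196185 : act 5 n42584 = n41755 := d37_1 D42584 (iv D41755) F187877 (iv F187394) D41636
theorem F196186 : act 6 n42584 = n41772 := d40_1 D42584 F192465 (iv F191865)
theorem F196187 : act 7 n42584 = n41692 := d42_1 D42584 (iv D41692) (iv F191866)
def n42585 : Q := act 8 n41637
theorem D42585 : act 8 n41637 = n42585 := rfl
theorem F196188 : act 1 n42585 = n41642 := d15_1 D42585 (iv D41642) (iv F191868)
theorem F196189 : act 4 n42585 = n41638 := d33_1 D42585 (iv D41638) D41637
theorem F196190 : act 7 n42585 = n41694 := d42_1 D42585 (iv D41694) (iv F191870)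
def n42586 : Q := act 5 n41638
theorem D42586 : act 5 n41638 = n42586 := rfl
theorem F196191 : act 0 n42586 = n41847 := d4_1 D42586 (iv F195575) F195571
theorem F196192 : act 1 n42586 = n41643 := d12_1 D42586 (iv D41643) (iv F191872)
theorem F196193 : act 2 n42586 = n41755 := d19_1 D42586 (iv F196185) F196183
theorem F196194 : act 3 n42586 = n41640 := d25_1 D42586 (iv D41640) (iv F191873)
theorem F196195 : act 6 n42586 = n41744 := d35_2 F195169 D42586 F192347 (iv F191236) (iv F195168)
theorem F196196 : act 7 n42586 = n41695 := d36_2 (iv F191874) D42586 (iv D41695)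
theorem F196197 : act 8 n42586 = n41639 := d37_2 D41638 D42586 (iv D41639) (iv D40575) D40574
def n42587 : Q := act 9 n41638
theorem D42587 : act 9 n41638 = n42587 := rfl
theorem F196198 : act 1 n42587 = n41644 := d16_1 D42587 (iv D41644) (iv F191872)
theorem F196199 : act 3 n42587 = n41641 := d29_1 D42587 (iv D41641) (iv F191873)
theorem F196200 : act 7 n42587 = n41696 := d43_1 D42587 (iv D41696) (iv F191874)
theorem F196201 : act 8 n42587 = n42223 := d44_1 D42587 (iv D42223) F189594 (iv F187399) D41638
def n42588 : Q := act 9 n41640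
theorem D42588 : act 9 n41640 = n42588 := rfl
theorem F196202 : act 0 n42588 = n41848 := d8_1 D42588 (iv D41848) (iv F191882)
theorem F196203 : act 1 n42588 = n41647 := d16_1 D42588 (iv D41647) (iv F191883)
theorem F196204 : act 2 n42588 = n41761 := d23_1 D42588 (iv D41761) (iv F191884)
theorem F196205 : act 4 n42588 = n41851 := d34_1 D42588 (iv D41851) (iv F191885)
theorem F196206 : act 5 n42588 = n41641 := d38_1 D42588 (iv D41641) D41640
theorem F196207 : act 6 n42588 = n42015 := d41_1 D42588 (iv D42015) F191888
theorem F196208 : act 7 n42588 = n41698 := d43_1 D42588 (iv D41698) (iv F191886)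
def n42589 : Q := act 5 n41642
theorem D42589 : act 5 n41642 = n42589 := rfl
theorem F196209 : act 7 n42589 = n41699 := d36_2 (iv F191894) D42589 (iv D41699)
theorem F196210 : act 8 n42589 = n42589 := d37_2 D41642 D42589 (iv D42589) (iv D41642) F187417
def n42590 : Q := act 9 n41642
theorem D42590 : act 9 n41642 = n42590 := rfl
theorem F196211 : act 4 n42590 = n41644 := d34_1 D42590 (iv D41644) (iv F191893)
theorem F196212 : act 7 n42590 = n41700 := d43_1 D42590 (iv D41700) (iv F191894)
def n42591 : Q := act 4 n41643
theorem D42591 : act 4 n41643 = n42591 := rfl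
theorem F196213 : act 6 n42591 = n41977 := d31_2 F191898 D42591 F193187
theorem F196214 : act 7 n42591 = n41701 := d32_2 (iv F191896) D42591 (iv D41701)
theorem F196215 : act 8 n42591 = n41645 := d33_2 (iv F191897) D42591 (iv D41645)
def n42592 : Q := act 9 n41643
theorem D42592 : act 9 n41643 = n42592 := rfl
theorem F196216 : act 3 n42592 = n41647 := d29_1 D42592 (iv D41647) (iv F191895)
theorem F196217 : act 5 n42592 = n41644 := d38_1 D42592 (iv D41644) D41643
theorem F196218 : act 6 n42592 = n41974 := d41_1 D42592 F193180 F191898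
theorem F196219 : act 7 n42592 = n41702 := d43_1 D42592 (iv D41702) (iv F191896)
theorem F196220 : act 8 n42592 = n41933 := d44_1 D42592 (iv D41933) F188660 (iv F187424) (iv F191897)
def n42593 : Q := act 9 n41646
theorem D42593 : act 9 n41646 = n42593 := rfl
theorem F196221 : act 0 n42593 = n41986 := d8_1 D42593 (iv D41986) (iv F191905)
theorem F196222 : act 1 n42593 = n42015 := d16_1 D42593 (iv D42015) (iv F191906)
theorem F196223 : act 2 n42593 = n41652 := d23_1 D42593 (iv D41652) (iv F191907)
theorem F196224 : act 3 n42593 = n41974 := d29_1 D42593 F193180 (iv F191908)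
theorem F196225 : act 6 n42593 = n41647 := d41_1 D42593 (iv D41647) D41646
theorem F196226 : act 7 n42593 = n41860 := d43_1 D42593 F192843 (iv F191909)
theorem F196227 : act 8 n42593 = n41859 := d44_1 D42593 (iv D41859) F188433 F187436 (iv F191910)
def n42594 : Q := act 8 n41647
theorem D42594 : act 8 n41647 = n42594 := rfl
theorem F196228 : act 0 n42594 = n41866 := d7_1 D42594 (iv F196017) F196010
theorem F196229 : act 2 n42594 = n41653 := d22_1 D42594 (iv D41653) (iv F191911)
theorem F196230 : act 3 n42594 = n41933 := d28_1 D42594 (iv F196220) F196216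
theorem F196231 : act 4 n42594 = n41834 := d33_1 D42594 (iv F196173) F196170
theorem F196232 : act 6 n42594 = n41859 := d40_1 D42594 (iv F196227) F196225
theorem F196233 : act 7 n42594 = n41704 := d42_1 D42594 (iv D41704) (iv F191913)
theorem F196234 : act 9 n42594 = n41648 := d44_2 D41647 D42594 (iv D41648) (iv D40584) (iv F187427)
def n42595 : Q := act 9 n41649
theorem D42595 : act 9 n41649 = n42595 := rfl
theorem F196235 : act 0 n42595 = n41709 := d8_1 D42595 (iv D41709) (iv F191920)
theorem F196236 : act 1 n42595 = n41769 := d16_1 D42595 (iv D41769) (iv F191921)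
theorem F196237 : act 4 n42595 = n41652 := d34_1 D42595 (iv D41652) (iv F191922)
theorem F196238 : act 5 n42595 = n42117 := d38_1 D42595 (iv D42117) (iv F191923)
theorem F196239 : act 6 n42595 = n41650 := d41_1 D42595 (iv D41650) D41649
theorem F196240 : act 7 n42595 = n41771 := d43_1 D42595 F192461 (iv F191924)
theorem F196241 : act 8 n42595 = n41770 := d44_1 D42595 (iv D41770) F187957 (iv F187459) (iv F191925)
def n42596 : Q := act 9 n41651
theorem D42596 : act 9 n41651 = n42596 := rfl
theorem F196242 : act 0 n42596 = n42145 := d8_1 D42596 (iv D42145) (iv F191932)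
theorem F196243 : act 1 n42596 = n41770 := d16_1 D42596 (iv D41770) (iv F191933)
theorem F196244 : act 2 n42596 = n41860 := d23_1 D42596 F192843 (iv F191934)
theorem F196245 : act 4 n42596 = n41771 := d34_1 D42596 F192461 (iv F191935)
theorem F196246 : act 6 n42596 = n41705 := d41_1 D42596 (iv D41705) (iv F191936)
theorem F196247 : act 7 n42596 = n41652 := d43_1 D42596 (iv D41652) D41651
theorem F196248 : act 8 n42596 = n41769 := d44_1 D42596 (iv D41769) F187949 F187466 (iv F191937)
def n42597 : Q := act 8 n41652
theorem D42597 : act 8 n41652 = n42597 := rfl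
theorem F196249 : act 0 n42597 = n41882 := d7_1 D42597 (iv F194681) F194673
theorem F196250 : act 1 n42597 = n41771 := d15_1 D42597 (iv D41771) (iv F191938)
theorem F196251 : act 2 n42597 = n41859 := d22_1 D42597 (iv F196227) F196223
theorem F196252 : act 4 n42597 = n41770 := d33_1 D42597 (iv F196241) F196237
theorem F196253 : act 6 n42597 = n41653 := d40_1 D42597 (iv D41653) (iv F191939)
theorem F196254 : act 7 n42597 = n41769 := d42_1 D42597 (iv F196248) F196247
theorem F196255 : act 9 n42597 = n41654 := d44_2 D41652 D42597 (iv D41654) (iv D40590) (iv F187450)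
theorem F196256 : act 5 n42130 = n42597 := d38_3 F196255 F191949 D42130
def n42598 : Q := act 9 n41655
theorem D42598 : act 9 n41655 = n42598 := rfl
theorem F196257 : act 1 n42598 = n41658 := d16_1 D42598 (iv D41658) (iv F191952)
theorem F196258 : act 2 n42598 = n41776 := d23_1 D42598 (iv D41776) (iv F191953)
theorem F196259 : act 3 n42598 = n42188 := d29_1 D42598 (iv D42188) (iv F191954)
theorem F196260 : act 4 n42598 = n42023 := d34_1 D42598 (iv D42023) (iv F191955)
theorem F196261 : act 5 n42598 = n42143 := d38_1 D42598 (iv D42143) (iv F191956)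
theorem F196262 : act 6 n42598 = n42001 := d41_1 D42598 (iv D42001) (iv F191957)
theorem F196263 : act 7 n42598 = n41668 := d43_1 D42598 (iv D41668) (iv F191958)
theorem F196264 : act 8 n42598 = n41848 := d44_1 D42598 (iv D41848) (iv D40810) (iv F187484) D41655
def n42599 : Q := act 8 n41656
theorem D42599 : act 8 n41656 = n42599 := rfl
theorem F196265 : act 0 n42599 = n41867 := d7_1 D42599 (iv D41867) (iv F191959)
theorem F196266 : act 1 n42599 = n42186 := d15_1 D42599 F193858 (iv F191960)
theorem F196267 : act 2 n42599 = n41665 := d22_1 D42599 (iv D41665) (iv F191961)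
theorem F196268 : act 3 n42599 = n42024 := d28_1 D42599 (iv D42024) (iv F191962)
theorem F196269 : act 4 n42599 = n41657 := d33_1 D42599 (iv D41657) D41656
theorem F196270 : act 6 n42599 = n42002 := d40_1 D42599 (iv D42002) (iv F191964)
theorem F196271 : act 7 n42599 = n41782 := d42_1 D42599 F192511 (iv F191965)
def n42600 : Q := act 9 n41657
theorem D42600 : act 9 n41657 = n42600 := rfl
theorem F196272 : act 0 n42600 = n41868 := d8_1 D42600 (iv D41868) (iv F191967)
theorem F196273 : act 1 n42600 = n42188 := d16_1 D42600 (iv D42188) (iv F191968)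
theorem F196274 : act 2 n42600 = n41666 := d23_1 D42600 (iv D41666) (iv F191969)
theorem F196275 : act 3 n42600 = n41658 := d29_1 D42600 (iv D41658) (iv F191970)
theorem F196276 : act 5 n42600 = n42101 := d38_1 D42600 (iv D42101) (iv F191971)
theorem F196277 : act 6 n42600 = n42003 := d41_1 D42600 (iv D42003) (iv F191972)
theorem F196278 : act 7 n42600 = n41784 := d43_1 D42600 (iv D41784) (iv F191973)
theorem F196279 : act 8 n42600 = n41850 := d44_1 D42600 (iv D41850) (iv D40812) (iv F187491) D41657
def n42601 : Q := act 6 n41659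
theorem D42601 : act 6 n41659 = n42601 := rfl
theorem F196280 : act 0 n42601 = n41869 := d5_1 D42601 (iv D41869) (iv F191981)
theorem F196281 : act 1 n42601 = n41782 := d13_1 D42601 (iv D41782) (iv F191982)
theorem F196282 : act 2 n42601 = n42192 := d20_1 D42601 F193873 (iv F191983)
theorem F196283 : act 4 n42601 = n41660 := d31_1 D42601 (iv D41660) D41659
theorem F196284 : act 7 n42601 = n42186 := d39_2 (iv F191985) D42601 (iv D42186) F189496 (iv F188459)
theorem F196285 : act 8 n42601 = n41662 := d40_2 (iv F191986) D42601 (iv D41662)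
def n42602 : Q := act 9 n41659
theorem D42602 : act 9 n41659 = n42602 := rfl
theorem F196286 : act 0 n42602 = n41870 := d8_1 D42602 (iv D41870) (iv F191981)
theorem F196287 : act 1 n42602 = n41783 := d16_1 D42602 (iv D41783) (iv F191982)
theorem F196288 : act 2 n42602 = n42212 := d23_1 D42602 (iv D42212) (iv F191983)
theorem F196289 : act 4 n42602 = n41661 := d34_1 D42602 (iv D41661) D41659
theorem F196290 : act 5 n42602 = n42036 := d38_1 D42602 (iv D42036) (iv F191984)
theorem F196291 : act 7 n42602 = n41863 := d43_1 D42602 (iv D41863) (iv F191985)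
def n42603 : Q := act 9 n41660
theorem D42603 : act 9 n41660 = n42603 := rfl
theorem F196292 : act 0 n42603 = n41871 := d8_1 D42603 (iv D41871) (iv F191987)
theorem F196293 : act 1 n42603 = n41784 := d16_1 D42603 (iv D41784) (iv F191988)
theorem F196294 : act 2 n42603 = n42195 := d23_1 D42603 (iv D42195) (iv F191989)
theorem F196295 : act 3 n42603 = n41668 := d29_1 D42603 (iv D41668) (iv F191990)
theorem F196296 : act 5 n42603 = n42012 := d38_1 D42603 (iv D42012) (iv F191991)
theorem F196297 : act 6 n42603 = n41661 := d41_1 D42603 (iv D41661) D41660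
theorem F196298 : act 7 n42603 = n42188 := d43_1 D42603 (iv D42188) (iv F191992)
def n42604 : Q := act 8 n41661
theorem D42604 : act 8 n41661 = n42604 := rfl
theorem F196299 : act 0 n42604 = n41872 := d7_1 D42604 (iv D41872) (iv F191994)
theorem F196300 : act 1 n42604 = n41785 := d15_1 D42604 (iv D41785) (iv F191995)
theorem F196301 : act 2 n42604 = n42214 := d22_1 D42604 (iv D42214) (iv F191996)
theorem F196302 : act 3 n42604 = n41669 := d28_1 D42604 (iv D41669) (iv F191997)
theorem F196303 : act 5 n42604 = n41852 := d37_1 D42604 (iv D41852) F188407 (iv F187510) (iv F191998)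
theorem F196304 : act 7 n42604 = n41864 := d42_1 D42604 (iv D41864) (iv F191999)
theorem F196305 : act 9 n42604 = n41664 := d44_2 D41661 D42604 (iv D41664) (iv D40599) (iv F187503)
def n42605 : Q := act 8 n41663
theorem D42605 : act 8 n41663 = n42605 := rfl
theorem F196306 : act 0 n42605 = n41873 := d7_1 D42605 (iv D41873) (iv F192006)
theorem F196307 : act 1 n42605 = n41786 := d15_1 D42605 (iv D41786) (iv F192007)
theorem F196308 : act 2 n42605 = n42216 := d22_1 D42605 (iv D42216) (iv F192008)
theorem F196309 : act 4 n42605 = n41664 := d33_1 D42605 (iv D41664) (iv F192009)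
theorem F196310 : act 5 n42605 = n41977 := d37_1 D42605 (iv D41977) F188771 (iv F187534) (iv F192010)
theorem F196311 : act 7 n42605 = n41865 := d42_1 D42605 (iv D41865) (iv F192011)
def n42606 : Q := act 5 n41665
theorem D42606 : act 5 n41665 = n42606 := rfl
theorem F196312 : act 3 n42606 = n41699 := d25_1 D42606 (iv D41699) (iv F192018)
theorem F196313 : act 8 n42606 = n42606 := d37_2 D41665 D42606 (iv D42606) (iv D41665) F187536
def n42607 : Q := act 9 n41665
theorem D42607 : act 9 n41665 = n42607 := rfl
theorem F196314 : act 3 n42607 = n41700 := d29_1 D42607 (iv D41700) (iv F192018)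
theorem F196315 : act 4 n42607 = n41666 := d34_1 D42607 (iv D41666) (iv F192019)
theorem F196316 : act 6 n42607 = n42138 := d41_1 D42607 (iv D42138) (iv F192020)
theorem F196317 : act 8 n42607 = n41875 := d44_1 D42607 (iv D41875) (iv D40845) (iv F187538) D41665
def n42608 : Q := act 5 n41670
theorem D42608 : act 5 n41670 = n42608 := rfl
theorem F196318 : act 1 n42608 = n42219 := d12_1 D42608 (iv D42219) (iv F192035)
theorem F196319 : act 3 n42608 = n41874 := d25_1 D42608 (iv D41874) (iv F192036)
theorem F196320 : act 8 n42608 = n42608 := d37_2 D41670 D42608 (iv D42608) (iv D41670) F187559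
def n42609 : Q := act 9 n41670
theorem D42609 : act 9 n41670 = n42609 := rfl
theorem F196321 : act 1 n42609 = n42221 := d16_1 D42609 (iv D42221) (iv F192035)
theorem F196322 : act 3 n42609 = n41875 := d29_1 D42609 (iv D41875) (iv F192036)
theorem F196323 : act 4 n42609 = n41672 := d34_1 D42609 (iv D41672) (iv F192037)
theorem F196324 : act 6 n42609 = n42137 := d41_1 D42609 (iv D42137) (iv F192038)
theorem F196325 : act 8 n42609 = n41700 := d44_1 D42609 (iv D41700) (iv D40633) (iv F187561) D41670
def n42610 : Q := act 4 n41671
theorem D42610 : act 4 n41671 = n42610 := rfl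
theorem F196326 : act 1 n42610 = n41946 := d11_1 D42610 F193108 (iv F192039)
theorem F196327 : act 6 n42610 = n41907 := d31_2 (iv F192041) D42610 F192990
theorem F196328 : act 8 n42610 = n41673 := d33_2 (iv F192042) D42610 (iv D41673)
def n42611 : Q := act 9 n41671
theorem D42611 : act 9 n41671 = n42611 := rfl
theorem F196329 : act 1 n42611 = n41949 := d16_1 D42611 (iv D41949) (iv F192039)
theorem F196330 : act 3 n42611 = n41675 := d29_1 D42611 (iv D41675) (iv F192040)
theorem F196331 : act 5 n42611 = n41672 := d38_1 D42611 (iv D41672) D41671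
theorem F196332 : act 6 n42611 = n41902 := d41_1 D42611 F192976 (iv F192041)
theorem F196333 : act 8 n42611 = n41901 := d44_1 D42611 (iv D41901) F188567 (iv F187568) (iv F192042)
def n42612 : Q := act 3 n41673
theorem D42612 : act 3 n41673 = n42612 := rfl
theorem F196334 : act 0 n42612 = n42225 := d2_1 D42612 (iv F194241) F194238
theorem F196335 : act 1 n42612 = n41950 := d10_1 D42612 F193117 (iv F192047)
theorem F196336 : act 4 n42612 = n41676 := d24_2 D41673 D42612 (iv D41676) (iv D40613) (iv F187566)
theorem F196337 : act 5 n42612 = n42612 := d25_2 F192048 D42612 (iv D42612)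
theorem F196338 : act 6 n42612 = n41905 := d26_2 (iv F192049) D42612 F192982
theorem F196339 : act 9 n42612 = n41904 := d29_2 (iv F192050) D42612 F192979
def n42613 : Q := act 3 n41674
theorem D42613 : act 3 n41674 = n42613 := rfl
theorem F196340 : act 0 n42613 = n42208 := d2_1 D42613 F193909 (iv F192051)
theorem F196341 : act 1 n42613 = n41953 := d10_1 D42613 F193124 (iv F192052)
theorem F196342 : act 5 n42613 = n41798 := d25_2 (iv F192054) D42613 F192587
theorem F196343 : act 6 n42613 = n41939 := d26_2 (iv F192055) D42613 (iv D41939)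
theorem F196344 : act 8 n42613 = n41676 := d28_2 (iv F192056) D42613 (iv D41676)
def n42614 : Q := act 9 n41674
theorem D42614 : act 9 n41674 = n42614 := rfl
theorem F196345 : act 0 n42614 = n42211 := d8_1 D42614 (iv D42211) (iv F192051)
theorem F196346 : act 1 n42614 = n41956 := d16_1 D42614 (iv D41956) (iv F192052)
theorem F196347 : act 2 n42614 = n41680 := d23_1 D42614 (iv D41680) (iv F192053)
theorem F196348 : act 4 n42614 = n41675 := d34_1 D42614 (iv D41675) D41674
theorem F196349 : act 5 n42614 = n41801 := d38_1 D42614 (iv D41801) (iv F192054)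
theorem F196350 : act 6 n42614 = n41940 := d41_1 D42614 (iv D41940) (iv F192055)
def n42615 : Q := act 2 n41676
theorem D42615 : act 2 n41676 = n42615 := rfl
theorem F196351 : act 0 n42615 = n42224 := d1_1 D42615 F193939 (iv F192061)
theorem F196352 : act 3 n42615 = n41684 := d17_2 D41676 D42615 (iv D41684) (iv D40618) (iv F187580)
theorem F196353 : act 5 n42615 = n41677 := d19_2 (iv F192063) D42615 (iv D41677)
theorem F196354 : act 6 n42615 = n41941 := d20_2 (iv F192064) D42615 (iv D41941)
def n42616 : Q := act 1 n41677
theorem D42616 : act 1 n41677 = n42616 := rfl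
theorem F196355 : act 0 n42616 = n42165 := d0_1 D42616 F193813 (iv F192752) F192753 (iv F192065)
theorem F196356 : act 2 n42616 = n41721 := d9_2 D41677 D42616 F192247 F188777 (iv F187584)
theorem F196357 : act 3 n42616 = n41687 := d10_2 (iv F192066) D42616 (iv D41687)
theorem F196358 : act 4 n42616 = n42616 := d11_2 F192067 D42616 (iv D42616)
theorem F196359 : act 6 n42616 = n41839 := d13_2 (iv F192068) D42616 F192745
theorem F196360 : act 8 n42616 = n41843 := d15_2 (iv F192069) D42616 F192773
theorem F196361 : act 9 n42616 = n41720 := d16_2 F194608 D42616 (iv F194603)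
def n42617 : Q := act 2 n41678
theorem D42617 : act 2 n41678 = n42617 := rfl
theorem F196362 : act 5 n42617 = n41876 := d19_2 (iv F192071) D42617 (iv D41876)
theorem F196363 : act 8 n42617 = n41684 := d22_2 (iv F192072) D42617 (iv D41684)
def n42618 : Q := act 6 n41678
theorem D42618 : act 6 n41678 = n42618 := rfl
theorem F196364 : act 1 n42618 = n41798 := d13_1 D42618 (iv D41798) (iv F192070)
theorem F196365 : act 3 n42618 = n41679 := d26_1 D42618 (iv D41679) D41678
theorem F196366 : act 5 n42618 = n41953 := d35_1 D42618 (iv D41953) (iv F192563) F192564 (iv F192071)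
theorem F196367 : act 8 n42618 = n41685 := d40_2 (iv F192072) D42618 (iv D41685)
def n42619 : Q := act 9 n41678
theorem D42619 : act 9 n41678 = n42619 := rfl
theorem F196368 : act 1 n42619 = n41799 := d16_1 D42619 (iv D41799) (iv F192070)
theorem F196369 : act 3 n42619 = n41680 := d29_1 D42619 (iv D41680) D41678
theorem F196370 : act 5 n42619 = n41877 := d38_1 D42619 (iv D41877) (iv F192071)
def n42620 : Q := act 7 n41679
theorem D42620 : act 7 n41679 = n42620 := rfl
theorem F196371 : act 1 n42620 = n41800 := d14_1 D42620 (iv D41800) (iv F192073)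
theorem F196372 : act 2 n42620 = n41914 := d21_1 D42620 F193018 (iv F192074)
theorem F196373 : act 4 n42620 = n41681 := d32_1 D42620 (iv D41681) (iv F192075)
theorem F196374 : act 5 n42620 = n41955 := d36_1 D42620 (iv D41955) (iv F192076)
theorem F196375 : act 8 n42620 = n41686 := d42_2 (iv F192077) D42620 (iv D41686)
def n42621 : Q := act 9 n41679
theorem D42621 : act 9 n41679 = n42621 := rfl
theorem F196376 : act 1 n42621 = n41801 := d16_1 D42621 (iv D41801) (iv F192073)
theorem F196377 : act 2 n42621 = n41940 := d23_1 D42621 (iv D41940) (iv F192074)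
theorem F196378 : act 4 n42621 = n41682 := d34_1 D42621 (iv D41682) (iv F192075)
theorem F196379 : act 5 n42621 = n41956 := d38_1 D42621 (iv D41956) (iv F192076)
theorem F196380 : act 6 n42621 = n41680 := d41_1 D42621 (iv D41680) D41679
theorem F196381 : act 8 n42621 = n42211 := d44_1 D42621 (iv D42211) F189567 (iv F187603) (iv F192077)
def n42622 : Q := act 9 n41681
theorem D42622 : act 9 n41681 = n42622 := rfl
theorem F196382 : act 1 n42622 = n41803 := d16_1 D42622 (iv D41803) (iv F192081)
theorem F196383 : act 2 n42622 = n41916 := d23_1 D42622 (iv D41916) (iv F192082)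
theorem F196384 : act 5 n42622 = n41866 := d38_1 D42622 (iv D41866) (iv F192083)
theorem F196385 : act 7 n42622 = n41682 := d43_1 D42622 (iv D41682) D41681
theorem F196386 : act 8 n42622 = n42030 := d44_1 D42622 (iv D42030) F189032 (iv F187607) (iv F192084)
def n42623 : Q := act 1 n41684
theorem D42623 : act 1 n41684 = n42623 := rfl
theorem F196387 : act 0 n42623 = n42176 := d0_1 D42623 (iv F194949) F194948 (iv F196135) F196134
theorem F196388 : act 2 n42623 = n41731 := d9_2 D41684 D42623 F192283 (iv D40746) (iv F187597)
theorem F196389 : act 5 n42623 = n41687 := d12_2 (iv F192093) D42623 (iv D41687)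
theorem F196390 : act 9 n42623 = n41729 := d16_2 F194640 D42623 (iv F194637)
def n42624 : Q := act 6 n41684
theorem D42624 : act 6 n41684 = n42624 := rfl
theorem F196391 : act 2 n42624 = n41685 := d20_1 D42624 (iv D41685) D41684
theorem F196392 : act 3 n42624 = n41941 := d26_1 D42624 (iv F196354) F196352
theorem F196393 : act 5 n42624 = n41844 := d35_1 D42624 (iv D41844) F188335 (iv F187612) (iv F192093)
theorem F196394 : act 9 n42624 = n42224 := d41_2 F194640 D42624 (iv F194639)
def n42625 : Q := act 7 n41685
theorem D42625 : act 7 n41685 = n42625 := rfl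
theorem F196395 : act 1 n42625 = n41806 := d14_1 D42625 (iv D41806) (iv F192094)
theorem F196396 : act 3 n42625 = n41686 := d27_1 D42625 (iv D41686) (iv F192095)
theorem F196397 : act 5 n42625 = n41845 := d36_1 D42625 (iv D41845) (iv F192096)
theorem F196398 : act 9 n42625 = n42031 := d43_2 (iv F192097) D42625 F193423
def n42626 : Q := act 8 n41688
theorem D42626 : act 8 n41688 = n42626 := rfl
theorem F196399 : act 0 n42626 = n41694 := d7_1 D42626 (iv D41694) (iv F192109)
theorem F196400 : act 3 n42626 = n41701 := d28_1 D42626 F192159 (iv F192110)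
theorem F196401 : act 4 n42626 = n41689 := d33_1 D42626 (iv D41689) D41688
theorem F196402 : act 6 n42626 = n41833 := d40_1 D42626 (iv D41833) (iv F192112)
def n42627 : Q := act 9 n41689
theorem D42627 : act 9 n41689 = n42627 := rfl
theorem F196403 : act 0 n42627 = n41696 := d8_1 D42627 (iv D41696) (iv F192114)
theorem F196404 : act 3 n42627 = n41690 := d29_1 D42627 (iv D41690) (iv F192115)
theorem F196405 : act 6 n42627 = n41831 := d41_1 D42627 F192710 (iv F192116)
theorem F196406 : act 8 n42627 = n41830 := d44_1 D42627 (iv D41830) F188199 (iv F187623) D41689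
def n42628 : Q := act 8 n41691
theorem D42628 : act 8 n41691 = n42628 := rfl
theorem F196407 : act 1 n42628 = n42051 := d15_1 D42628 F193493 (iv F192122)
theorem F196408 : act 2 n42628 = n41694 := d22_1 D42628 (iv D41694) (iv F192123)
theorem F196409 : act 4 n42628 = n41692 := d33_1 D42628 (iv D41692) D41691
theorem F196410 : act 6 n42628 = n42045 := d40_1 D42628 F193467 (iv F192125)
def n42629 : Q := act 5 n41692
theorem D42629 : act 5 n41692 = n42629 := rfl
theorem F196411 : act 0 n42629 = n42200 := d4_1 D42629 (iv F195892) F195888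
theorem F196412 : act 1 n42629 = n42029 := d12_1 D42629 F193418 (iv F192127)
theorem F196413 : act 2 n42629 = n41695 := d19_1 D42629 (iv D41695) (iv F192128)
theorem F196414 : act 3 n42629 = n41812 := d25_1 D42629 (iv D41812) (iv F192129)
theorem F196415 : act 6 n42629 = n41809 := d35_2 (iv F192130) D42629 F192634 F189022 D41025
theorem F196416 : act 7 n42629 = n41755 := d36_2 F196187 D42629 (iv F196185)
theorem F196417 : act 8 n42629 = n41693 := d37_2 D41692 D42629 (iv D41693) (iv D40627) D40626
def n42630 : Q := act 9 n41692
theorem D42630 : act 9 n41692 = n42630 := rfl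
theorem F196418 : act 1 n42630 = n42054 := d16_1 D42630 (iv D42054) (iv F192127)
theorem F196419 : act 2 n42630 = n41696 := d23_1 D42630 (iv D41696) (iv F192128)
theorem F196420 : act 3 n42630 = n41813 := d29_1 D42630 (iv D41813) (iv F192129)
theorem F196421 : act 6 n42630 = n42046 := d41_1 D42630 (iv D42046) (iv F192130)
theorem F196422 : act 8 n42630 = n42123 := d44_1 D42630 (iv D42123) F189317 (iv F187632) D41692
def n42631 : Q := act 4 n41693
theorem D42631 : act 4 n41693 = n42631 := rfl
theorem F196423 : act 0 n42631 = n42198 := d3_1 D42631 F193888 (iv F192131)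
theorem F196424 : act 1 n42631 = n42032 := d11_1 D42631 F193425 (iv F192132)
theorem F196425 : act 2 n42631 = n41697 := d18_1 D42631 (iv D41697) (iv F192133)
theorem F196426 : act 5 n42631 = n42631 := d30_2 D41693 D42631 (iv D42631) (iv D41693) F187637
theorem F196427 : act 6 n42631 = n41807 := d31_2 (iv F192135) D42631 F192622
theorem F196428 : act 7 n42631 = n41753 := d32_2 (iv F192136) D42631 F192381
theorem F196429 : act 9 n42631 = n41752 := d34_2 (iv F192137) D42631 F192377
def n42632 : Q := act 5 n41694
theorem D42632 : act 5 n41694 = n42632 := rfl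
theorem F196430 : act 1 n42632 = n41699 := d12_1 D42632 (iv D41699) (iv F192138)
theorem F196431 : act 8 n42632 = n42632 := d37_2 D41694 D42632 (iv D42632) (iv D41694) F187642
def n42633 : Q := act 9 n41694
theorem D42633 : act 9 n41694 = n42633 := rfl
theorem F196432 : act 1 n42633 = n41700 := d16_1 D42633 (iv D41700) (iv F192138)
theorem F196433 : act 4 n42633 = n41696 := d34_1 D42633 (iv D41696) (iv F192139)
theorem F196434 : act 6 n42633 = n42222 := d41_1 D42633 F193936 (iv F192140)
theorem F196435 : act 8 n42633 = n42221 := d44_1 D42633 (iv D42221) F189591 (iv F187644) D41694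
def n42634 : Q := act 4 n41695
theorem D42634 : act 4 n41695 = n42634 := rfl
theorem F196436 : act 1 n42634 = n41701 := d11_1 D42634 (iv D41701) (iv F192141)
theorem F196437 : act 6 n42634 = n41873 := d31_2 (iv F192143) D42634 F192889
theorem F196438 : act 8 n42634 = n41697 := d33_2 (iv F192144) D42634 (iv D41697)
def n42635 : Q := act 9 n41695
theorem D42635 : act 9 n41695 = n42635 := rfl
theorem F196439 : act 1 n42635 = n41702 := d16_1 D42635 (iv D41702) (iv F192141)
theorem F196440 : act 3 n42635 = n41698 := d29_1 D42635 (iv D41698) (iv F192142)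
theorem F196441 : act 5 n42635 = n41696 := d38_1 D42635 (iv D41696) D41695
theorem F196442 : act 6 n42635 = n41872 := d41_1 D42635 F192887 (iv F192143)
theorem F196443 : act 8 n42635 = n41871 := d44_1 D42635 (iv D41871) F188487 (iv F187651) (iv F192144)
def n42636 : Q := act 4 n41699
theorem D42636 : act 4 n41699 = n42636 := rfl
theorem F196444 : act 5 n42636 = n41701 := d30_2 D41699 D42636 (iv D41701) (iv D40634) (iv F187659)
theorem F196445 : act 8 n42636 = n42636 := d33_2 F192156 D42636 (iv D42636)
def n42637 : Q := act 6 n41699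
theorem D42637 : act 6 n41699 = n42637 := rfl
theorem F196446 : act 2 n42637 = n42097 := d20_1 D42637 (iv F194886) F194884
theorem F196447 : act 5 n42637 = n42092 := d35_1 D42637 (iv D42092) (iv F189770) F189771 D41699
theorem F196448 : act 8 n42637 = n42637 := d40_2 F192156 D42637 (iv D42637)
def n42638 : Q := act 9 n41699
theorem D42638 : act 9 n41699 = n42638 := rfl
theorem F196449 : act 5 n42638 = n41700 := d38_1 D42638 (iv D41700) D41699
def n42639 : Q := act 9 n41701
theorem D42639 : act 9 n41701 = n42639 := rfl
theorem F196450 : act 4 n42639 = n41702 := d34_1 D42639 (iv D41702) D41701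
theorem F196451 : act 6 n42639 = n41932 := d41_1 D42639 F193073 (iv F192158)
theorem F196452 : act 8 n42639 = n41931 := d44_1 D42639 (iv D41931) F188656 (iv F187666) (iv F192159)
def n42640 : Q := act 8 n41706
theorem D42640 : act 8 n41706 = n42640 := rfl
theorem F196453 : act 1 n42640 = n41711 := d15_1 D42640 (iv D41711) (iv F192183)
theorem F196454 : act 3 n42640 = n42148 := d28_1 D42640 F193779 (iv F192184)
theorem F196455 : act 4 n42640 = n41707 := d33_1 D42640 (iv D41707) D41706
theorem F196456 : act 6 n42640 = n41758 := d40_1 D42640 (iv D41758) (iv F192186)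
theorem F196457 : act 7 n42640 = n42069 := d42_1 D42640 (iv D42069) (iv F192187)
def n42641 : Q := act 9 n41707
theorem D42641 : act 9 n41707 = n42641 := rfl
theorem F196458 : act 1 n42641 = n41713 := d16_1 D42641 (iv D41713) (iv F192189)
theorem F196459 : act 3 n42641 = n41709 := d29_1 D42641 (iv D41709) (iv F192190)
theorem F196460 : act 6 n42641 = n41760 := d41_1 D42641 (iv D41760) (iv F192191)
theorem F196461 : act 7 n42641 = n42068 := d43_1 D42641 F193549 (iv F192192)
theorem F196462 : act 8 n42641 = n42067 := d44_1 D42641 (iv D42067) F189135 (iv F187704) D41707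
def n42642 : Q := act 4 n41708
theorem D42642 : act 4 n41708 = n42642 := rfl
theorem F196463 : act 0 n42642 = n42115 := d3_1 D42642 F193691 (iv F192193)
theorem F196464 : act 1 n42642 = n41715 := d11_1 D42642 (iv D41715) (iv F192194)
theorem F196465 : act 2 n42642 = n41976 := d18_1 D42642 F195178 F195173
theorem F196466 : act 5 n42642 = n41994 := d30_2 D41708 D42642 F193261 (iv F190384) F190383
theorem F196467 : act 6 n42642 = n41789 := d31_2 (iv F192195) D42642 F192538
theorem F196468 : act 7 n42642 = n42204 := d32_2 (iv F192196) D42642 (iv D42204)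
theorem F196469 : act 8 n42642 = n41710 := d33_2 (iv F192197) D42642 (iv D41710)
theorem F196470 : act 3 n41943 = n42642 := d28_3 F196469 (iv F192209) (iv F193104)
def n42643 : Q := act 9 n41708
theorem D42643 : act 9 n41708 = n42643 := rfl
theorem F196471 : act 0 n42643 = n42117 := d8_1 D42643 (iv D42117) (iv F192193)
theorem F196472 : act 1 n42643 = n41716 := d16_1 D42643 (iv D41716) (iv F192194)
theorem F196473 : act 5 n42643 = n41709 := d38_1 D42643 (iv D41709) D41708
theorem F196474 : act 6 n42643 = n42113 := d41_1 D42643 (iv D42113) (iv F192195)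
theorem F196475 : act 7 n42643 = n42203 := d43_1 D42643 F193900 (iv F192196)
def n42644 : Q := act 5 n41711
theorem D42644 : act 5 n41711 = n42644 := rfl
theorem F196476 : act 0 n42644 = n42152 := d4_1 D42644 (iv D42152) (iv F192210)
theorem F196477 : act 8 n42644 = n42644 := d37_2 D41711 D42644 (iv D42644) (iv D41711) F187721
def n42645 : Q := act 9 n41711
theorem D42645 : act 9 n41711 = n42645 := rfl
theorem F196478 : act 0 n42645 = n42153 := d8_1 D42645 (iv D42153) (iv F192210)
theorem F196479 : act 4 n42645 = n41713 := d34_1 D42645 (iv D41713) (iv F192211)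
theorem F196480 : act 6 n42645 = n41763 := d41_1 D42645 (iv D41763) (iv F192212)
def n42646 : Q := act 4 n41712
theorem D42646 : act 4 n41712 = n42646 := rfl
theorem F196481 : act 0 n42646 = n42154 := d3_1 D42646 (iv D42154) (iv F192213)
theorem F196482 : act 8 n42646 = n41714 := d33_2 (iv F192215) D42646 (iv D41714)
def n42647 : Q := act 9 n41712
theorem D42647 : act 9 n41712 = n42647 := rfl
theorem F196483 : act 0 n42647 = n42155 := d8_1 D42647 (iv D42155) (iv F192213)
theorem F196484 : act 3 n42647 = n41716 := d29_1 D42647 (iv D41716) (iv F192214)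
theorem F196485 : act 5 n42647 = n41713 := d38_1 D42647 (iv D41713) D41712
def n42648 : Q := act 3 n41714
theorem D42648 : act 3 n41714 = n42648 := rfl
theorem F196486 : act 0 n42648 = n42156 := d2_1 D42648 (iv D42156) (iv F192219)
theorem F196487 : act 1 n42648 = n41984 := d10_1 D42648 (iv F195428) F195426
theorem F196488 : act 4 n42648 = n41717 := d24_2 D41714 D42648 (iv D41717) (iv D40653) (iv F187727)
theorem F196489 : act 5 n42648 = n42648 := d25_2 F192220 D42648 (iv D42648)
theorem F196490 : act 6 n42648 = n41909 := d26_2 F195348 D42648 (iv F195345)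
def n42649 : Q := act 3 n41715
theorem D42649 : act 3 n41715 = n42649 := rfl
theorem F196491 : act 0 n42649 = n42158 := d2_1 D42649 (iv D42158) (iv F192221)
theorem F196492 : act 1 n42649 = n41943 := d10_1 D42649 F196470 F196464
theorem F196493 : act 5 n42649 = n42082 := d25_2 (iv F192223) D42649 F193597
theorem F196494 : act 6 n42649 = n41937 := d26_2 (iv F192224) D42649 F193088
theorem F196495 : act 8 n42649 = n41717 := d28_2 (iv F192225) D42649 (iv D41717)
def n42650 : Q := act 9 n41715
theorem D42650 : act 9 n41715 = n42650 := rfl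
theorem F196496 : act 0 n42650 = n42159 := d8_1 D42650 (iv D42159) (iv F192221)
theorem F196497 : act 2 n42650 = n41725 := d23_1 D42650 (iv D41725) (iv F192222)
theorem F196498 : act 4 n42650 = n41716 := d34_1 D42650 (iv D41716) D41715
theorem F196499 : act 5 n42650 = n42085 := d38_1 D42650 (iv D42085) (iv F192223)
theorem F196500 : act 6 n42650 = n42133 := d41_1 D42650 (iv D42133) (iv F192224)
def n42651 : Q := act 8 n41716
theorem D42651 : act 8 n41716 = n42651 := rfl
theorem F196501 : act 0 n42651 = n42160 := d7_1 D42651 (iv D42160) (iv F192226)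
theorem F196502 : act 2 n42651 = n41728 := d22_1 D42651 (iv D41728) (iv F192227)
theorem F196503 : act 9 n42651 = n41719 := d44_2 D41716 D42651 (iv D41719) (iv D40654) (iv F187730)
def n42652 : Q := act 2 n41717
theorem D42652 : act 2 n41717 = n42652 := rfl
theorem F196504 : act 0 n42652 = n42161 := d1_1 D42652 (iv D42161) (iv F192229)
theorem F196505 : act 3 n42652 = n41729 := d17_2 D41717 D42652 (iv D41729) (iv D40661) (iv F187735)
theorem F196506 : act 5 n42652 = n41720 := d19_2 (iv F192231) D42652 (iv D41720)
theorem F196507 : act 6 n42652 = n41983 := d20_2 (iv F192232) D42652 F193210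
def n42653 : Q := act 9 n41717
theorem D42653 : act 9 n41717 = n42653 := rfl
theorem F196508 : act 0 n42653 = n42162 := d8_1 D42653 (iv D42162) (iv F192229)
theorem F196509 : act 1 n42653 = n41960 := d16_1 D42653 F193147 (iv F192230)
theorem F196510 : act 3 n42653 = n41718 := d29_1 D42653 (iv D41718) D41717
theorem F196511 : act 5 n42653 = n41721 := d38_1 D42653 (iv D41721) (iv F192231)
theorem F196512 : act 6 n42653 = n41736 := d41_1 D42653 F192303 (iv F192232)
def n42654 : Q := act 8 n41718
theorem D42654 : act 8 n41718 = n42654 := rfl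
theorem F196513 : act 0 n42654 = n42163 := d7_1 D42654 (iv D42163) (iv F192233)
theorem F196514 : act 1 n42654 = n41966 := d15_1 D42654 F193165 (iv F192234)
theorem F196515 : act 2 n42654 = n41734 := d22_1 D42654 (iv D41734) (iv F192235)
theorem F196516 : act 4 n42654 = n41719 := d33_1 D42654 (iv D41719) (iv F192236)
theorem F196517 : act 6 n42654 = n41965 := d40_1 D42654 F193163 (iv F192238)
def n42655 : Q := act 8 n41721
theorem D42655 : act 8 n41721 = n42655 := rfl
theorem F196518 : act 0 n42655 = n42164 := d7_1 D42655 F193811 (iv F192246)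
theorem F196519 : act 1 n42655 = n41844 := d15_1 D42655 F192780 (iv F192247)
theorem F196520 : act 2 n42655 = n41843 := d22_1 D42655 (iv F196360) F196356
theorem F196521 : act 3 n42655 = n41722 := d28_1 D42655 (iv D41722) (iv F192248)
theorem F196522 : act 4 n42655 = n42655 := d33_1 D42655 (iv D42655) F192249
theorem F196523 : act 6 n42655 = n41841 := d40_1 D42655 F192765 (iv F192250)
theorem F196524 : act 9 n42655 = n41840 := d44_2 D41721 D42655 F192757 F188820 (iv F187745)
def n42656 : Q := act 5 n41722
theorem D42656 : act 5 n41722 = n42656 := rfl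
theorem F196525 : act 0 n42656 = n42166 := d4_1 D42656 (iv D42166) (iv F192251)
theorem F196526 : act 1 n42656 = n41941 := d12_1 D42656 F193100 (iv F192252)
theorem F196527 : act 2 n42656 = n41736 := d19_1 D42656 (iv D41736) (iv F192253)
theorem F196528 : act 9 n42656 = n41983 := d38_2 (iv F192256) D42656 (iv D41983)
def n42657 : Q := act 2 n41723
theorem D42657 : act 2 n41723 = n42657 := rfl
theorem F196529 : act 0 n42657 = n42167 := d1_1 D42657 (iv D42167) (iv F192257)
theorem F196530 : act 5 n42657 = n41811 := d19_2 (iv F192259) D42657 F192640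
theorem F196531 : act 8 n42657 = n41729 := d22_2 (iv F192260) D42657 (iv D41729)
def n42658 : Q := act 6 n41723
theorem D42658 : act 6 n41723 = n42658 := rfl
theorem F196532 : act 0 n42658 = n42168 := d5_1 D42658 (iv D42168) (iv F192257)
theorem F196533 : act 1 n42658 = n41825 := d13_1 D42658 (iv D41825) (iv F192258)
theorem F196534 : act 3 n42658 = n41724 := d26_1 D42658 (iv D41724) D41723
theorem F196535 : act 5 n42658 = n42125 := d35_1 D42658 (iv D42125) F189327 (iv F188158) (iv F192259)
theorem F196536 : act 8 n42658 = n41730 := d40_2 (iv F192260) D42658 (iv D41730)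
def n42659 : Q := act 9 n41723
theorem D42659 : act 9 n41723 = n42659 := rfl
theorem F196537 : act 0 n42659 = n42169 := d8_1 D42659 (iv D42169) (iv F192257)
theorem F196538 : act 1 n42659 = n41826 := d16_1 D42659 (iv D41826) (iv F192258)
theorem F196539 : act 3 n42659 = n41725 := d29_1 D42659 (iv D41725) D41723
theorem F196540 : act 5 n42659 = n41815 := d38_1 D42659 (iv D41815) (iv F192259)
def n42660 : Q := act 7 n41724
theorem D42660 : act 7 n41724 = n42660 := rfl
theorem F196541 : act 0 n42660 = n42170 := d6_1 D42660 (iv D42170) (iv F192261)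
theorem F196542 : act 2 n42660 = n42132 := d21_1 D42660 (iv D42132) (iv F192262)
theorem F196543 : act 4 n42660 = n41726 := d32_1 D42660 (iv D41726) (iv F192263)
theorem F196544 : act 5 n42660 = n42127 := d36_1 D42660 (iv D42127) (iv F192264)
theorem F196545 : act 8 n42660 = n41732 := d42_2 (iv F192265) D42660 (iv D41732)
def n42661 : Q := act 9 n41724
theorem D42661 : act 9 n41724 = n42661 := rfl
theorem F196546 : act 0 n42661 = n42171 := d8_1 D42661 (iv D42171) (iv F192261)
theorem F196547 : act 2 n42661 = n42133 := d23_1 D42661 (iv D42133) (iv F192262)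
theorem F196548 : act 4 n42661 = n41727 := d34_1 D42661 (iv D41727) (iv F192263)
theorem F196549 : act 5 n42661 = n42128 := d38_1 D42661 (iv D42128) (iv F192264)
theorem F196550 : act 6 n42661 = n41725 := d41_1 D42661 (iv D41725) D41724
def n42662 : Q := act 8 n41725
theorem D42662 : act 8 n41725 = n42662 := rfl
theorem F196551 : act 0 n42662 = n42172 := d7_1 D42662 (iv D42172) (iv F192266)
theorem F196552 : act 4 n42662 = n41728 := d33_1 D42662 (iv D41728) (iv F192267)
theorem F196553 : act 9 n42662 = n41734 := d44_2 D41725 D42662 (iv D41734) (iv D40663) (iv F187758)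
def n42663 : Q := act 9 n41726
theorem D42663 : act 9 n41726 = n42663 := rfl
theorem F196554 : act 0 n42663 = n42173 := d8_1 D42663 (iv D42173) (iv F192268)
theorem F196555 : act 5 n42663 = n41770 := d38_1 D42663 (iv D41770) (iv F192269)
theorem F196556 : act 7 n42663 = n41727 := d43_1 D42663 (iv D41727) D41726
def n42664 : Q := act 8 n41727
theorem D42664 : act 8 n41727 = n42664 := rfl
theorem F196557 : act 0 n42664 = n42174 := d7_1 D42664 (iv D42174) (iv F192271)
theorem F196558 : act 6 n42664 = n41728 := d40_1 D42664 (iv D41728) (iv F192273)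
theorem F196559 : act 9 n42664 = n41735 := d44_2 D41727 D42664 (iv D41735) (iv D40665) (iv F187761)
def n42665 : Q := act 6 n41729
theorem D42665 : act 6 n41729 = n42665 := rfl
theorem F196560 : act 0 n42665 = n42175 := d5_1 D42665 (iv D42175) (iv F192276)
theorem F196561 : act 1 n42665 = n42224 := d13_1 D42665 (iv F194639) F194637
theorem F196562 : act 2 n42665 = n41730 := d20_1 D42665 (iv D41730) D41729
theorem F196563 : act 3 n42665 = n41983 := d26_1 D42665 (iv F196507) F196505
theorem F196564 : act 5 n42665 = n41840 := d35_1 D42665 (iv D41840) (iv D40791) (iv F187782) (iv F192277)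
def n42666 : Q := act 7 n41730
theorem D42666 : act 7 n41730 = n42666 := rfl
theorem F196565 : act 0 n42666 = n42177 := d6_1 D42666 (iv D42177) (iv F192278)
theorem F196566 : act 1 n42666 = n41838 := d14_1 D42666 (iv D41838) (iv F192279)
theorem F196567 : act 3 n42666 = n41732 := d27_1 D42666 (iv D41732) (iv F192280)
theorem F196568 : act 5 n42666 = n41842 := d36_1 D42666 (iv D41842) (iv F192281)
def n42667 : Q := act 9 n41730
theorem D42667 : act 9 n41730 = n42667 := rfl
theorem F196569 : act 0 n42667 = n42178 := d8_1 D42667 (iv D42178) (iv F192278)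
theorem F196570 : act 1 n42667 = n41805 := d16_1 D42667 F192615 (iv F192279)
theorem F196571 : act 3 n42667 = n41733 := d29_1 D42667 (iv D41733) (iv F192280)
theorem F196572 : act 5 n42667 = n41843 := d38_1 D42667 (iv D41843) (iv F192281)
theorem F196573 : act 6 n42667 = n41731 := d41_1 D42667 (iv D41731) D41730
def n42668 : Q := act 8 n41731
theorem D42668 : act 8 n41731 = n42668 := rfl
theorem F196574 : act 0 n42668 = n42179 := d7_1 D42668 (iv D42179) (iv F192282)
theorem F196575 : act 1 n42668 = n41797 := d15_1 D42668 F192585 (iv F192283)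
theorem F196576 : act 3 n42668 = n41734 := d28_1 D42668 (iv D41734) (iv F192284)
theorem F196577 : act 5 n42668 = n41965 := d37_1 D42668 F193163 F188760 (iv F187789) (iv F192285)
def n42669 : Q := act 8 n41733
theorem D42669 : act 8 n41733 = n42669 := rfl
theorem F196578 : act 0 n42669 = n42181 := d7_1 D42669 (iv D42181) (iv F192290)
theorem F196579 : act 1 n42669 = n41876 := d15_1 D42669 F192894 (iv F192291)
theorem F196580 : act 2 n42669 = n41965 := d22_1 D42669 F193163 (iv F192292)
theorem F196581 : act 4 n42669 = n41735 := d33_1 D42669 (iv D41735) (iv F192293)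
theorem F196582 : act 6 n42669 = n41734 := d40_1 D42669 (iv D41734) (iv F192295)
def n42670 : Q := act 5 n41734
theorem D42670 : act 5 n41734 = n42670 := rfl
theorem F196583 : act 0 n42670 = n42182 := d4_1 D42670 (iv D42182) (iv F192296)
theorem F196584 : act 1 n42670 = n41952 := d12_1 D42670 (iv F195266) F195262
theorem F196585 : act 3 n42670 = n41965 := d25_1 D42670 (iv F196577) F196576
theorem F196586 : act 8 n42670 = n41736 := d37_2 D41734 D42670 (iv D41736) (iv D40669) (iv F187773)
def n42671 : Q := act 9 n41737
theorem D42671 : act 9 n41737 = n42671 := rfl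
theorem F196587 : act 0 n42671 = n42185 := d8_1 D42671 (iv D42185) (iv F192304)
theorem F196588 : act 1 n42671 = n42134 := d16_1 D42671 (iv D42134) (iv F192305)
theorem F196589 : act 3 n42671 = n41921 := d29_1 D42671 (iv D41921) (iv F192306)
theorem F196590 : act 4 n42671 = n41739 := d34_1 D42671 (iv D41739) (iv F192307)
theorem F196591 : act 7 n42671 = n41790 := d43_1 D42671 (iv D41790) (iv F192308)
theorem F196592 : act 8 n42671 = n41763 := d44_1 D42671 (iv D41763) (iv D40696) (iv F187813) D41737
def n42672 : Q := act 9 n41738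
theorem D42672 : act 9 n41738 = n42672 := rfl
theorem F196593 : act 0 n42672 = n42001 := d8_1 D42672 (iv D42001) (iv F192309)
theorem F196594 : act 1 n42672 = n41859 := d16_1 D42672 (iv D41859) (iv F192310)
theorem F196595 : act 2 n42672 = n42090 := d23_1 D42672 (iv D42090) (iv F192311)
theorem F196596 : act 3 n42672 = n41742 := d29_1 D42672 (iv D41742) (iv F192312)
theorem F196597 : act 4 n42672 = n42042 := d34_1 D42672 (iv D42042) F192315
theorem F196598 : act 5 n42672 = n41739 := d38_1 D42672 (iv D41739) D41738
theorem F196599 : act 7 n42672 = n41791 := d43_1 D42672 (iv D41791) (iv F192313)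
theorem F196600 : act 8 n42672 = n42015 := d44_1 D42672 (iv D42015) (iv D40994) (iv F187824) (iv F192314)
def n42673 : Q := act 6 n41740
theorem D42673 : act 6 n41740 = n42673 := rfl
theorem F196601 : act 0 n42673 = n42186 := d5_1 D42673 (iv D42186) (iv F192321)
theorem F196602 : act 1 n42673 = n41930 := d13_1 D42673 F193067 (iv F192322)
theorem F196603 : act 2 n42673 = n41746 := d20_1 D42673 (iv D41746) (iv F192323)
theorem F196604 : act 4 n42673 = n41741 := d31_1 D42673 (iv D41741) D41740
theorem F196605 : act 7 n42673 = n41869 := d39_2 (iv F192325) D42673 (iv D41869) F188484 (iv F188079)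
theorem F196606 : act 8 n42673 = n41743 := d40_2 (iv F192326) D42673 (iv D41743)
def n42674 : Q := act 9 n41740
theorem D42674 : act 9 n41740 = n42674 := rfl
theorem F196607 : act 0 n42674 = n42187 := d8_1 D42674 (iv D42187) (iv F192321)
theorem F196608 : act 1 n42674 = n41971 := d16_1 D42674 (iv D41971) (iv F192322)
theorem F196609 : act 2 n42674 = n41747 := d23_1 D42674 (iv D41747) (iv F192323)
theorem F196610 : act 4 n42674 = n41742 := d34_1 D42674 (iv D41742) D41740
theorem F196611 : act 5 n42674 = n41924 := d38_1 D42674 (iv D41924) (iv F192324)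
theorem F196612 : act 7 n42674 = n41794 := d43_1 D42674 (iv D41794) (iv F192325)
def n42675 : Q := act 9 n41741
theorem D42675 : act 9 n41741 = n42675 := rfl
theorem F196613 : act 0 n42675 = n42188 := d8_1 D42675 (iv D42188) (iv F192327)
theorem F196614 : act 1 n42675 = n41933 := d16_1 D42675 (iv D41933) (iv F192328)
theorem F196615 : act 2 n42675 = n41749 := d23_1 D42675 (iv D41749) (iv F192329)
theorem F196616 : act 6 n42675 = n41742 := d41_1 D42675 (iv D41742) D41741
theorem F196617 : act 7 n42675 = n41871 := d43_1 D42675 (iv D41871) (iv F192330)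
def n42676 : Q := act 8 n41742
theorem D42676 : act 8 n41742 = n42676 := rfl
theorem F196618 : act 0 n42676 = n42017 := d7_1 D42676 F193379 (iv F192332)
theorem F196619 : act 1 n42676 = n41974 := d15_1 D42676 (iv D41974) (iv F192333)
theorem F196620 : act 2 n42676 = n41750 := d22_1 D42676 (iv D41750) (iv F192334)
theorem F196621 : act 3 n42676 = n42015 := d28_1 D42676 (iv F196600) F196596
theorem F196622 : act 5 n42676 = n41766 := d37_1 D42676 (iv D41766) F187934 (iv F187835) (iv F192335)
theorem F196623 : act 7 n42676 = n41795 := d42_1 D42676 (iv D41795) (iv F192336)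
theorem F196624 : act 9 n42676 = n41744 := d44_2 D41742 D42676 (iv D41744) (iv D40679) (iv F187829)
def n42677 : Q := act 6 n41745
theorem D42677 : act 6 n41745 = n42677 := rfl
theorem F196625 : act 0 n42677 = n42189 := d5_1 D42677 (iv D42189) (iv F192349)
theorem F196626 : act 3 n42677 = n41746 := d26_1 D42677 (iv D41746) D41745
theorem F196627 : act 4 n42677 = n41825 := d31_1 D42677 (iv D41825) (iv F192350)
theorem F196628 : act 8 n42677 = n41751 := d40_2 (iv F192353) D42677 (iv D41751)
def n42678 : Q := act 9 n41745
theorem D42678 : act 9 n41745 = n42678 := rfl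
theorem F196629 : act 0 n42678 = n42190 := d8_1 D42678 (iv D42190) (iv F192349)
theorem F196630 : act 3 n42678 = n41747 := d29_1 D42678 (iv D41747) D41745
theorem F196631 : act 4 n42678 = n41826 := d34_1 D42678 (iv D41826) (iv F192350)
theorem F196632 : act 5 n42678 = n41828 := d38_1 D42678 (iv D41828) (iv F192351)
theorem F196633 : act 7 n42678 = n41799 := d43_1 D42678 (iv D41799) (iv F192352)
def n42679 : Q := act 5 n41746
theorem D42679 : act 5 n41746 = n42679 := rfl
theorem F196634 : act 0 n42679 = n42191 := d4_1 D42679 (iv D42191) (iv F192354)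
theorem F196635 : act 6 n42679 = n41929 := d35_2 D41746 D42679 (iv D41929) (iv D40894) (iv F187853)
theorem F196636 : act 8 n42679 = n42679 := d37_2 (iv F192356) D42679 (iv D42679) F192356 F187867
def n42680 : Q := act 7 n41746
theorem D42680 : act 7 n41746 = n42680 := rfl
theorem F196637 : act 0 n42680 = n42192 := d6_1 D42680 (iv D42192) (iv F192354)
theorem F196638 : act 2 n42680 = n41869 := d21_1 D42680 (iv F196605) F196603
theorem F196639 : act 4 n42680 = n41748 := d32_1 D42680 (iv D41748) (iv F192355)
theorem F196640 : act 6 n42680 = n41800 := d39_1 D42680 (iv D41800) (iv D40741) (iv F187854) D41746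
theorem F196641 : act 8 n42680 = n41752 := d42_2 (iv F192356) D42680 (iv D41752)
def n42681 : Q := act 9 n41746
theorem D42681 : act 9 n41746 = n42681 := rfl
theorem F196642 : act 0 n42681 = n42193 := d8_1 D42681 (iv D42193) (iv F192354)
theorem F196643 : act 4 n42681 = n41749 := d34_1 D42681 (iv D41749) (iv F192355)
theorem F196644 : act 6 n42681 = n41747 := d41_1 D42681 (iv D41747) D41746
def n42682 : Q := act 8 n41747
theorem D42682 : act 8 n41747 = n42682 := rfl
theorem F196645 : act 0 n42682 = n42194 := d7_1 D42682 (iv D42194) (iv F192357)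
theorem F196646 : act 4 n42682 = n41750 := d33_1 D42682 (iv D41750) (iv F192358)
theorem F196647 : act 7 n42682 = n41802 := d42_1 D42682 (iv D41802) (iv F192360)
theorem F196648 : act 9 n42682 = n41754 := d44_2 D41747 D42682 (iv D41754) (iv D40685) (iv F187855)
def n42683 : Q := act 9 n41748
theorem D42683 : act 9 n41748 = n42683 := rfl
theorem F196649 : act 0 n42683 = n42195 := d8_1 D42683 (iv D42195) (iv F192361)
theorem F196650 : act 2 n42683 = n41871 := d23_1 D42683 (iv D41871) (iv F192362)
theorem F196651 : act 6 n42683 = n41803 := d41_1 D42683 (iv D41803) (iv F192363)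
theorem F196652 : act 7 n42683 = n41749 := d43_1 D42683 (iv D41749) D41748
def n42684 : Q := act 8 n41749
theorem D42684 : act 8 n41749 = n42684 := rfl
theorem F196653 : act 0 n42684 = n42196 := d7_1 D42684 (iv D42196) (iv F192365)
theorem F196654 : act 6 n42684 = n41750 := d40_1 D42684 (iv D41750) (iv F192366)
theorem F196655 : act 9 n42684 = n41755 := d44_2 D41749 D42684 (iv D41755) (iv D40687) (iv F187857)
def n42685 : Q := act 7 n41751
theorem D42685 : act 7 n41751 = n42685 := rfl
theorem F196656 : act 0 n42685 = n42197 := d6_1 D42685 (iv D42197) (iv F192371)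
theorem F196657 : act 3 n42685 = n41752 := d27_1 D42685 (iv D41752) (iv F192372)
theorem F196658 : act 4 n42685 = n41838 := d32_1 D42685 (iv D41838) (iv F192373)
theorem F196659 : act 5 n42685 = n42685 := d36_1 D42685 (iv D42685) F192374
theorem F196660 : act 6 n42685 = n41806 := d39_1 D42685 (iv D41806) (iv D40747) (iv F187864) D41751
def n42686 : Q := act 8 n41753
theorem D42686 : act 8 n41753 = n42686 := rfl
theorem F196661 : act 0 n42686 = n42199 := d7_1 D42686 (iv D42199) (iv F192380)
theorem F196662 : act 4 n42686 = n41755 := d33_1 D42686 (iv D41755) (iv F192381)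
theorem F196663 : act 6 n42686 = n41754 := d40_1 D42686 (iv D41754) (iv F192383)
def n42687 : Q := act 3 n41756
theorem D42687 : act 3 n41756 = n42687 := rfl
theorem F196664 : act 2 n42687 = n42088 := d17_1 D42687 F193614 F189226 (iv F187886) (iv F192389)
theorem F196665 : act 5 n42687 = n41835 := d25_2 (iv F192390) D42687 (iv D41835)
theorem F196666 : act 7 n42687 = n41810 := d27_2 (iv F192391) D42687 (iv D41810)
theorem F196667 : act 9 n42687 = n42131 := d29_2 (iv F192392) D42687 F193734
def n42688 : Q := act 8 n41756
theorem D42688 : act 8 n41756 = n42688 := rfl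
theorem F196668 : act 2 n42688 = n41758 := d22_1 D42688 (iv D41758) (iv F192389)
theorem F196669 : act 4 n42688 = n41757 := d33_1 D42688 (iv D41757) D41756
theorem F196670 : act 7 n42688 = n41811 := d42_1 D42688 (iv D41811) (iv F192391)
def n42689 : Q := act 9 n41757
theorem D42689 : act 9 n41757 = n42689 := rfl
theorem F196671 : act 2 n42689 = n41760 := d23_1 D42689 (iv D41760) (iv F192393)
theorem F196672 : act 7 n42689 = n41813 := d43_1 D42689 (iv D41813) (iv F192394)
theorem F196673 : act 8 n42689 = n42130 := d44_1 D42689 (iv D42130) F189335 (iv F187884) D41757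
def n42690 : Q := act 9 n41758
theorem D42690 : act 9 n41758 = n42690 := rfl
theorem F196674 : act 1 n42690 = n41763 := d16_1 D42690 (iv D41763) (iv F192395)
theorem F196675 : act 3 n42690 = n42149 := d29_1 D42690 (iv D42149) (iv F192396)
theorem F196676 : act 4 n42690 = n41760 := d34_1 D42690 (iv D41760) (iv F192397)
theorem F196677 : act 7 n42690 = n41815 := d43_1 D42690 (iv D41815) (iv F192398)
theorem F196678 : act 8 n42690 = n42134 := d44_1 D42690 (iv D42134) F189352 (iv F187889) D41758
def n42691 : Q := act 9 n41759
theorem D42691 : act 9 n41759 = n42691 := rfl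
theorem F196679 : act 0 n42691 = n41856 := d8_1 D42691 (iv D41856) (iv F192399)
theorem F196680 : act 1 n42691 = n41764 := d16_1 D42691 (iv D41764) (iv F192400)
theorem F196681 : act 3 n42691 = n41761 := d29_1 D42691 (iv D41761) (iv F192401)
theorem F196682 : act 4 n42691 = n41877 := d34_1 D42691 (iv D41877) F192404
theorem F196683 : act 5 n42691 = n41760 := d38_1 D42691 (iv D41760) D41759
theorem F196684 : act 6 n42691 = n42112 := d41_1 D42691 (iv D42112) F192405
theorem F196685 : act 7 n42691 = n41818 := d43_1 D42691 (iv D41818) (iv F192402)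
def n42692 : Q := act 8 n41761
theorem D42692 : act 8 n41761 = n42692 := rfl
theorem F196686 : act 0 n42692 = n41776 := d7_1 D42692 F192484 (iv F192410)
theorem F196687 : act 1 n42692 = n41766 := d15_1 D42692 (iv D41766) (iv F192411)
theorem F196688 : act 4 n42692 = n41852 := d33_1 D42692 (iv D41852) (iv F192412)
theorem F196689 : act 5 n42692 = n41974 := d37_1 D42692 (iv D41974) F188756 (iv F187907) (iv F192413)
theorem F196690 : act 6 n42692 = n42090 := d40_1 D42692 F193621 (iv F192414)
theorem F196691 : act 7 n42692 = n41824 := d42_1 D42692 (iv D41824) (iv F192415)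
theorem F196692 : act 9 n42692 = n41762 := d44_2 D41761 D42692 (iv D41762) (iv D40695) (iv F187903)
def n42693 : Q := act 8 n41764
theorem D42693 : act 8 n41764 = n42693 := rfl
theorem F196693 : act 0 n42693 = n42018 := d7_1 D42693 F193385 (iv F192425)
theorem F196694 : act 2 n42693 = n42113 := d22_1 D42693 (iv F195381) F195376
theorem F196695 : act 3 n42693 = n41766 := d28_1 D42693 (iv D41766) (iv F192426)
theorem F196696 : act 4 n42693 = n41970 := d33_1 D42693 (iv D41970) (iv F192427)
theorem F196697 : act 5 n42693 = n42015 := d37_1 D42693 (iv F196600) F196598 F192320 (iv F192428)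
theorem F196698 : act 7 n42693 = n41831 := d42_1 D42693 (iv D41831) (iv F192429)
theorem F196699 : act 9 n42693 = n41765 := d44_2 D41764 D42693 (iv D41765) (iv D40699) (iv F187920)
def n42694 : Q := act 9 n41767
theorem D42694 : act 9 n41767 = n42694 := rfl
theorem F196700 : act 0 n42694 = n42151 := d8_1 D42694 (iv D42151) (iv F192441)
theorem F196701 : act 2 n42694 = n41949 := d23_1 D42694 (iv D41949) (iv F192442)
theorem F196702 : act 3 n42694 = n41769 := d29_1 D42694 (iv D41769) (iv F192443)
theorem F196703 : act 5 n42694 = n42123 := d38_1 D42694 (iv D42123) (iv F192444)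
theorem F196704 : act 6 n42694 = n41768 := d41_1 D42694 (iv D41768) D41767
def n42695 : Q := act 5 n41771
theorem D42695 : act 5 n41771 = n42695 := rfl
theorem F196705 : act 0 n42695 = n42203 := d4_1 D42695 (iv D42203) (iv F192459)
theorem F196706 : act 1 n42695 = n42130 := d12_1 D42695 F196256 F196250
theorem F196707 : act 7 n42695 = n42117 := d36_2 F196240 D42695 (iv F196238)
theorem F196708 : act 9 n42695 = n41772 := d38_2 (iv F192461) D42695 (iv D41772)
def n42696 : Q := act 4 n41772
theorem D42696 : act 4 n41772 = n42696 := rfl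
theorem F196709 : act 0 n42696 = n42204 := d3_1 D42696 (iv D42204) (iv F192462)
theorem F196710 : act 1 n42696 = n42127 := d11_1 D42696 F193724 (iv F192463)
theorem F196711 : act 7 n42696 = n42115 := d32_2 (iv F192464) D42696 F193691
theorem F196712 : act 8 n42696 = n41773 := d33_2 (iv F192465) D42696 (iv D41773)
def n42697 : Q := act 8 n41774
theorem D42697 : act 8 n41774 = n42697 := rfl
theorem F196713 : act 0 n42697 = n41879 := d7_1 D42697 (iv D41879) (iv F192470)
theorem F196714 : act 1 n42697 = n41777 := d15_1 D42697 (iv D41777) (iv F192471)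
theorem F196715 : act 2 n42697 = n41994 := d22_1 D42697 F193262 (iv F192472)
theorem F196716 : act 3 n42697 = n41865 := d28_1 D42697 (iv D41865) (iv F192473)
theorem F196717 : act 4 n42697 = n41775 := d33_1 D42697 (iv D41775) D41774
theorem F196718 : act 5 n42697 = n41976 := d37_1 D42697 (iv D41976) F188767 (iv F188245) (iv F192474)
theorem F196719 : act 6 n42697 = n41992 := d40_1 D42697 F193252 (iv F192475)
def n42698 : Q := act 9 n41775
theorem D42698 : act 9 n41775 = n42698 := rfl
theorem F196720 : act 1 n42698 = n41778 := d16_1 D42698 (iv D41778) (iv F192477)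
theorem F196721 : act 2 n42698 = n41997 := d23_1 D42698 (iv D41997) (iv F192478)
theorem F196722 : act 3 n42698 = n41776 := d29_1 D42698 (iv D41776) (iv F192479)
theorem F196723 : act 5 n42698 = n41986 := d38_1 D42698 (iv D41986) (iv F192480)
theorem F196724 : act 6 n42698 = n41993 := d41_1 D42698 (iv D41993) (iv F192481)
theorem F196725 : act 8 n42698 = n41856 := d44_1 D42698 (iv D41856) (iv D40819) (iv F187976) D41775
def n42699 : Q := act 9 n41777
theorem D42699 : act 9 n41777 = n42699 := rfl
theorem F196726 : act 0 n42699 = n42020 := d8_1 D42699 (iv D42020) (iv F192485)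
theorem F196727 : act 2 n42699 = n41787 := d23_1 D42699 (iv D41787) (iv F192486)
theorem F196728 : act 4 n42699 = n41778 := d34_1 D42699 (iv D41778) (iv F192487)
theorem F196729 : act 6 n42699 = n42091 := d41_1 D42699 (iv D42091) (iv F192488)
theorem F196730 : act 8 n42699 = n41858 := d44_1 D42699 (iv D41858) (iv D40821) (iv F187983) D41777
def n42700 : Q := act 9 n41779
theorem D42700 : act 9 n41779 = n42700 := rfl
theorem F196731 : act 0 n42700 = n42019 := d8_1 D42700 (iv D42019) (iv F192495)
theorem F196732 : act 2 n42700 = n41783 := d23_1 D42700 (iv D41783) (iv F192496)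
theorem F196733 : act 4 n42700 = n41780 := d34_1 D42700 (iv D41780) D41779
theorem F196734 : act 5 n42700 = n41932 := d38_1 D42700 F193073 (iv F192497)
theorem F196735 : act 7 n42700 = n41973 := d43_1 D42700 F193178 (iv F192498)
def n42701 : Q := act 9 n41781
theorem D42701 : act 9 n41781 = n42701 := rfl
theorem F196736 : act 0 n42701 = n42137 := d8_1 D42701 (iv D42137) (iv F192504)
theorem F196737 : act 2 n42701 = n41921 := d23_1 D42701 (iv D41921) F192508
theorem F196738 : act 3 n42701 = n41783 := d29_1 D42701 (iv D41783) D41781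
theorem F196739 : act 4 n42701 = n41788 := d34_1 D42701 (iv D41788) (iv F192505)
theorem F196740 : act 7 n42701 = n41858 := d43_1 D42701 (iv D41858) (iv F192506)
def n42702 : Q := act 5 n41782
theorem D42702 : act 5 n41782 = n42702 := rfl
theorem F196741 : act 0 n42702 = n41874 := d4_1 D42702 (iv D41874) (iv F192509)
theorem F196742 : act 4 n42702 = n42097 := d30_1 D42702 (iv D42097) F189252 (iv F188005) (iv F192510)
theorem F196743 : act 8 n42702 = n42702 := d37_2 (iv F192511) D42702 (iv D42702) F192511 F188017
def n42703 : Q := act 9 n41782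
theorem D42703 : act 9 n41782 = n42703 := rfl
theorem F196744 : act 0 n42703 = n41875 := d8_1 D42703 (iv D41875) (iv F192509)
theorem F196745 : act 4 n42703 = n41784 := d34_1 D42703 (iv D41784) (iv F192510)
theorem F196746 : act 6 n42703 = n41783 := d41_1 D42703 (iv D41783) D41782
def n42704 : Q := act 8 n41783
theorem D42704 : act 8 n41783 = n42704 := rfl
theorem F196747 : act 0 n42704 = n42138 := d7_1 D42704 F193752 (iv F192512)
theorem F196748 : act 4 n42704 = n41785 := d33_1 D42704 (iv D41785) (iv F192513)
theorem F196749 : act 9 n42704 = n41786 := d44_2 D41783 D42704 (iv D41786) (iv D40723) (iv F188002)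
def n42705 : Q := act 9 n41789
theorem D42705 : act 9 n41789 = n42705 := rfl
theorem F196750 : act 0 n42705 = n42116 := d8_1 D42705 (iv D42116) (iv F192534)
theorem F196751 : act 1 n42705 = n42133 := d16_1 D42705 (iv D42133) (iv F192535)
theorem F196752 : act 2 n42705 = n41970 := d23_1 D42705 F193172 (iv F192536)
theorem F196753 : act 3 n42705 = n41944 := d29_1 D42705 (iv D41944) (iv F192537)
theorem F196754 : act 4 n42705 = n42113 := d34_1 D42705 (iv D42113) (iv F192538)
theorem F196755 : act 5 n42705 = n41790 := d38_1 D42705 (iv D41790) D41789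
theorem F196756 : act 8 n42705 = n41967 := d44_1 D42705 (iv D41967) F188746 (iv F188252) (iv F192539)
def n42706 : Q := act 8 n41791
theorem D42706 : act 8 n41791 = n42706 := rfl
theorem F196757 : act 0 n42706 = n41987 := d7_1 D42706 F193222 (iv F192546)
theorem F196758 : act 1 n42706 = n41860 := d15_1 D42706 (iv D41860) (iv F192547)
theorem F196759 : act 2 n42706 = n42042 := d22_1 D42706 (iv F195603) F195597
theorem F196760 : act 3 n42706 = n41795 := d28_1 D42706 (iv D41795) (iv F192548)
theorem F196761 : act 4 n42706 = n42090 := d33_1 D42706 F193621 (iv F192549)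
theorem F196762 : act 5 n42706 = n41831 := d37_1 D42706 (iv D41831) F188202 (iv F188066) (iv F192550)
theorem F196763 : act 6 n42706 = n41852 := d40_1 D42706 (iv D41852) (iv F192551)
theorem F196764 : act 7 n42706 = n42015 := d42_1 D42706 (iv F196600) F196599
theorem F196765 : act 9 n42706 = n41792 := d44_2 D41791 D42706 (iv D41792) (iv D40734) (iv F188060)
def n42707 : Q := act 9 n41793
theorem D42707 : act 9 n41793 = n42707 := rfl
theorem F196766 : act 0 n42707 = n42114 := d8_1 D42707 (iv D42114) (iv F192560)
theorem F196767 : act 1 n42707 = n41969 := d16_1 D42707 (iv D41969) (iv F192561)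
theorem F196768 : act 3 n42707 = n41794 := d29_1 D42707 (iv D41794) D41793
theorem F196769 : act 4 n42707 = n42112 := d34_1 D42707 (iv D42112) (iv F192562)
theorem F196770 : act 5 n42707 = n41954 := d38_1 D42707 (iv D41954) (iv F192563)
theorem F196771 : act 6 n42707 = n41877 := d41_1 D42707 (iv D41877) (iv F192564)
def n42708 : Q := act 8 n41794
theorem D42708 : act 8 n41794 = n42708 := rfl
theorem F196772 : act 0 n42708 = n42205 := d7_1 D42708 (iv D42205) (iv F192566)
theorem F196773 : act 1 n42708 = n41972 := d15_1 D42708 (iv D41972) (iv F192567)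
theorem F196774 : act 2 n42708 = n41802 := d22_1 D42708 (iv D41802) (iv F192568)
theorem F196775 : act 4 n42708 = n41795 := d33_1 D42708 (iv D41795) (iv F192569)
theorem F196776 : act 6 n42708 = n41878 := d40_1 D42708 (iv D41878) (iv F192571)
theorem F196777 : act 9 n42708 = n41796 := d44_2 D41794 D42708 (iv D41796) (iv D40738) (iv F188080)
def n42709 : Q := act 6 n41797
theorem D42709 : act 6 n41797 = n42709 := rfl
theorem F196778 : act 0 n42709 = n42206 := d5_1 D42709 (iv D42206) (iv F192583)
theorem F196779 : act 2 n42709 = n41798 := d20_1 D42709 (iv D41798) D41797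
theorem F196780 : act 3 n42709 = n41876 := d26_1 D42709 (iv F195267) F195264
theorem F196781 : act 8 n42709 = n41805 := d40_2 (iv F192585) D42709 (iv D41805)
def n42710 : Q := act 9 n41797
theorem D42710 : act 9 n41797 = n42710 := rfl
theorem F196782 : act 0 n42710 = n42207 := d8_1 D42710 (iv D42207) (iv F192583)
theorem F196783 : act 2 n42710 = n41799 := d23_1 D42710 (iv D41799) D41797
theorem F196784 : act 5 n42710 = n41967 := d38_1 D42710 (iv D41967) (iv F192584)
theorem F196785 : act 8 n42710 = n41826 := d44_1 D42710 (iv D41826) F188190 (iv F188125) (iv F192585)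
def n42711 : Q := act 7 n41798
theorem D42711 : act 7 n41798 = n42711 := rfl
theorem F196786 : act 0 n42711 = n42209 := d6_1 D42711 (iv D42209) (iv F192586)
theorem F196787 : act 3 n42711 = n41800 := d27_1 D42711 (iv D41800) (iv F192587)
theorem F196788 : act 8 n42711 = n41806 := d42_2 (iv F192588) D42711 (iv D41806)
def n42712 : Q := act 9 n41798
theorem D42712 : act 9 n41798 = n42712 := rfl
theorem F196789 : act 0 n42712 = n42210 := d8_1 D42712 (iv D42210) (iv F192586)
theorem F196790 : act 3 n42712 = n41801 := d29_1 D42712 (iv D41801) (iv F192587)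
theorem F196791 : act 6 n42712 = n41799 := d41_1 D42712 (iv D41799) D41798
def n42713 : Q := act 9 n41800
theorem D42713 : act 9 n41800 = n42713 := rfl
theorem F196792 : act 0 n42713 = n42212 := d8_1 D42713 (iv D42212) (iv F192592)
theorem F196793 : act 2 n42713 = n41870 := d23_1 D42713 (iv D41870) (iv F192593)
theorem F196794 : act 4 n42713 = n41803 := d34_1 D42713 (iv D41803) (iv F192594)
theorem F196795 : act 7 n42713 = n41801 := d43_1 D42713 (iv D41801) D41800
def n42714 : Q := act 8 n41801
theorem D42714 : act 8 n41801 = n42714 := rfl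
theorem F196796 : act 0 n42714 = n42213 := d7_1 D42714 (iv D42213) (iv F192596)
theorem F196797 : act 1 n42714 = n42211 := d15_1 D42714 (iv F196381) F196376
theorem F196798 : act 2 n42714 = n41878 := d22_1 D42714 (iv D41878) (iv F192597)
theorem F196799 : act 4 n42714 = n41804 := d33_1 D42714 (iv D41804) (iv F192598)
theorem F196800 : act 6 n42714 = n41802 := d40_1 D42714 (iv D41802) (iv F192599)
theorem F196801 : act 9 n42714 = n41808 := d44_2 D41801 D42714 (iv D41808) (iv D40749) (iv F188108)
theorem F196802 : act 5 n42142 = n42714 := d38_3 F196801 F192629 D42142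
def n42715 : Q := act 8 n41803
theorem D42715 : act 8 n41803 = n42715 := rfl
theorem F196803 : act 0 n42715 = n42214 := d7_1 D42715 (iv D42214) (iv F192603)
theorem F196804 : act 1 n42715 = n42030 := d15_1 D42715 (iv F196386) F196382
theorem F196805 : act 2 n42715 = n41872 := d22_1 D42715 (iv D41872) (iv F192604)
theorem F196806 : act 5 n42715 = n42023 := d37_1 D42715 (iv F195995) F195992 F191847 (iv F192605)
theorem F196807 : act 7 n42715 = n41804 := d42_1 D42715 (iv D41804) (iv F192606)
theorem F196808 : act 9 n42715 = n41809 := d44_2 D41803 D42715 (iv D41809) (iv D40751) (iv F188115)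
def n42716 : Q := act 7 n41805
theorem D42716 : act 7 n41805 = n42716 := rfl
theorem F196809 : act 0 n42716 = n42215 := d6_1 D42716 (iv D42215) (iv F192611)
theorem F196810 : act 2 n42716 = n41806 := d21_1 D42716 (iv D41806) (iv F192612)
theorem F196811 : act 3 n42716 = n41814 := d27_1 D42716 F192650 (iv F192613)
theorem F196812 : act 5 n42716 = n41836 := d36_1 D42716 F192732 (iv F192614)
theorem F196813 : act 9 n42716 = n41838 := d43_2 (iv F192615) D42716 (iv D41838)
def n42717 : Q := act 8 n41807
theorem D42717 : act 8 n41807 = n42717 := rfl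
theorem F196814 : act 0 n42717 = n42216 := d7_1 D42717 (iv D42216) (iv F192619)
theorem F196815 : act 1 n42717 = n42028 := d15_1 D42717 F193416 (iv F192620)
theorem F196816 : act 2 n42717 = n41873 := d22_1 D42717 (iv D41873) (iv F192621)
theorem F196817 : act 4 n42717 = n41809 := d33_1 D42717 (iv D41809) (iv F192622)
theorem F196818 : act 5 n42717 = n42141 := d37_1 D42717 F193760 F189405 F188360 (iv F192623)
theorem F196819 : act 7 n42717 = n41808 := d42_1 D42717 (iv D41808) (iv F192624)
def n42718 : Q := act 8 n41810
theorem D42718 : act 8 n41810 = n42718 := rfl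
theorem F196820 : act 2 n42718 = n42082 := d22_1 D42718 F193598 (iv F192636)
theorem F196821 : act 3 n42718 = n41811 := d28_1 D42718 (iv D41811) D41810
theorem F196822 : act 6 n42718 = n42081 := d40_1 D42718 F193595 (iv F192638)
def n42719 : Q := act 9 n41811
theorem D42719 : act 9 n41811 = n42719 := rfl
theorem F196823 : act 2 n42719 = n41815 := d23_1 D42719 (iv D41815) (iv F192640)
theorem F196824 : act 4 n42719 = n41813 := d34_1 D42719 (iv D41813) (iv F192641)
theorem F196825 : act 6 n42719 = n42129 := d41_1 D42719 F193731 (iv F192642)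
theorem F196826 : act 8 n42719 = n42128 := d44_1 D42719 (iv D42128) F189331 (iv F188152) D41811
def n42720 : Q := act 4 n41812
theorem D42720 : act 4 n41812 = n42720 := rfl
theorem F196827 : act 2 n42720 = n41816 := d18_1 D42720 (iv D41816) (iv F192643)
theorem F196828 : act 7 n42720 = n41876 := d32_2 F195276 D42720 (iv F195273)
theorem F196829 : act 8 n42720 = n41814 := d33_2 (iv F192644) D42720 (iv D41814)
def n42721 : Q := act 9 n41812
theorem D42721 : act 9 n41812 = n42721 := rfl
theorem F196830 : act 2 n42721 = n41818 := d23_1 D42721 (iv D41818) (iv F192643)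
theorem F196831 : act 5 n42721 = n41813 := d38_1 D42721 (iv D41813) D41812
def n42722 : Q := act 6 n41816
theorem D42722 : act 6 n41816 = n42722 := rfl
theorem F196832 : act 1 n42722 = n41827 := d13_1 D42722 (iv D41827) (iv F192655)
theorem F196833 : act 3 n42722 = n41869 := d26_1 D42722 (iv D41869) (iv F192656)
theorem F196834 : act 4 n42722 = n41817 := d31_1 D42722 (iv D41817) D41816
theorem F196835 : act 8 n42722 = n41819 := d40_2 (iv F192658) D42722 (iv D41819)
def n42723 : Q := act 9 n41816
theorem D42723 : act 9 n41816 = n42723 := rfl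
theorem F196836 : act 1 n42723 = n41828 := d16_1 D42723 (iv D41828) (iv F192655)
theorem F196837 : act 3 n42723 = n41870 := d29_1 D42723 (iv D41870) (iv F192656)
theorem F196838 : act 4 n42723 = n41818 := d34_1 D42723 (iv D41818) D41816
theorem F196839 : act 7 n42723 = n41877 := d43_1 D42723 (iv D41877) (iv F192657)
def n42724 : Q := act 9 n41817
theorem D42724 : act 9 n41817 = n42724 := rfl
theorem F196840 : act 1 n42724 = n41830 := d16_1 D42724 (iv D41830) (iv F192659)
theorem F196841 : act 3 n42724 = n41823 := d29_1 D42724 (iv D41823) (iv F192660)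
theorem F196842 : act 5 n42724 = n42102 := d38_1 D42724 F193650 (iv F192661)
theorem F196843 : act 6 n42724 = n41818 := d41_1 D42724 (iv D41818) D41817
def n42725 : Q := act 8 n41818
theorem D42725 : act 8 n41818 = n42725 := rfl
theorem F196844 : act 1 n42725 = n41831 := d15_1 D42725 (iv D41831) (iv F192663)
theorem F196845 : act 3 n42725 = n41824 := d28_1 D42725 (iv D41824) (iv F192664)
theorem F196846 : act 5 n42725 = n41860 := d37_1 D42725 (iv D41860) F188435 (iv F188165) (iv F192665)
theorem F196847 : act 9 n42725 = n41821 := d44_2 D41818 D42725 (iv D41821) (iv D40761) (iv F188161)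
def n42726 : Q := act 8 n41820
theorem D42726 : act 8 n41820 = n42726 := rfl
theorem F196848 : act 1 n42726 = n41833 := d15_1 D42726 (iv D41833) (iv F192670)
theorem F196849 : act 3 n42726 = n41873 := d28_1 D42726 (iv D41873) (iv F192671)
theorem F196850 : act 4 n42726 = n41821 := d33_1 D42726 (iv D41821) (iv F192672)
theorem F196851 : act 7 n42726 = n41879 := d42_1 D42726 (iv D41879) (iv F192674)
def n42727 : Q := act 9 n41822
theorem D42727 : act 9 n41822 = n42727 := rfl
theorem F196852 : act 0 n42727 = n42023 := d8_1 D42727 (iv D42023) (iv F192678)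
theorem F196853 : act 1 n42727 = n41834 := d16_1 D42727 (iv D41834) (iv F192679)
theorem F196854 : act 2 n42727 = n41852 := d23_1 D42727 F192811 (iv F192680)
theorem F196855 : act 5 n42727 = n42214 := d38_1 D42727 F193922 (iv F192681)
theorem F196856 : act 6 n42727 = n42042 := d41_1 D42727 (iv D42042) (iv F192682)
theorem F196857 : act 7 n42727 = n41823 := d43_1 D42727 (iv D41823) D41822
theorem F196858 : act 8 n42727 = n41851 := d44_1 D42727 (iv D41851) F188402 (iv F188186) (iv F192683)
def n42728 : Q := act 7 n41825
theorem D42728 : act 7 n41825 = n42728 := rfl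
theorem F196859 : act 0 n42728 = n42217 := d6_1 D42728 (iv D42217) (iv F192690)
theorem F196860 : act 8 n42728 = n41838 := d42_2 (iv F192691) D42728 (iv D41838)
def n42729 : Q := act 9 n41825
theorem D42729 : act 9 n41825 = n42729 := rfl
theorem F196861 : act 0 n42729 = n42218 := d8_1 D42729 (iv D42218) (iv F192690)
theorem F196862 : act 6 n42729 = n41826 := d41_1 D42729 (iv D41826) D41825
def n42730 : Q := act 5 n41827
theorem D42730 : act 5 n41827 = n42730 := rfl
theorem F196863 : act 0 n42730 = n42219 := d4_1 D42730 (iv D42219) (iv F192694)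
theorem F196864 : act 3 n42730 = n41929 := d25_1 D42730 (iv D41929) (iv F192695)
theorem F196865 : act 8 n42730 = n42730 := d37_2 (iv F192697) D42730 (iv D42730) F192697 F188206
def n42731 : Q := act 7 n41827
theorem D42731 : act 7 n41827 = n42731 := rfl
theorem F196866 : act 0 n42731 = n42220 := d6_1 D42731 (iv D42220) (iv F192694)
theorem F196867 : act 3 n42731 = n41930 := d27_1 D42731 (iv D41930) (iv F192695)
theorem F196868 : act 4 n42731 = n41829 := d32_1 D42731 (iv D41829) (iv F192696)
theorem F196869 : act 6 n42731 = n41968 := d39_1 D42731 (iv D41968) (iv D40931) (iv F188195) D41827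
theorem F196870 : act 8 n42731 = n41832 := d42_2 (iv F192697) D42731 (iv D41832)
def n42732 : Q := act 9 n41827
theorem D42732 : act 9 n41827 = n42732 := rfl
theorem F196871 : act 0 n42732 = n42221 := d8_1 D42732 (iv D42221) (iv F192694)
theorem F196872 : act 3 n42732 = n41931 := d29_1 D42732 (iv D41931) (iv F192695)
theorem F196873 : act 4 n42732 = n41830 := d34_1 D42732 (iv D41830) (iv F192696)
theorem F196874 : act 6 n42732 = n41828 := d41_1 D42732 (iv D41828) D41827
def n42733 : Q := act 8 n41828
theorem D42733 : act 8 n41828 = n42733 := rfl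
theorem F196875 : act 0 n42733 = n42222 := d7_1 D42733 (iv D42222) (iv F192698)
theorem F196876 : act 3 n42733 = n41932 := d28_1 D42733 (iv D41932) (iv F192699)
theorem F196877 : act 4 n42733 = n41831 := d33_1 D42733 (iv D41831) (iv F192700)
theorem F196878 : act 7 n42733 = n41970 := d42_1 D42733 (iv D41970) (iv F192701)
theorem F196879 : act 9 n42733 = n41833 := d44_2 D41828 D42733 (iv D41833) (iv D40772) (iv F188196)
def n42734 : Q := act 9 n41829
theorem D42734 : act 9 n41829 = n42734 := rfl
theorem F196880 : act 0 n42734 = n42223 := d8_1 D42734 (iv D42223) (iv F192702)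
theorem F196881 : act 3 n42734 = n41834 := d29_1 D42734 (iv D41834) (iv F192703)
theorem F196882 : act 7 n42734 = n41830 := d43_1 D42734 (iv D41830) D41829
def n42735 : Q := act 7 n41840
theorem D42735 : act 7 n41840 = n42735 := rfl
theorem F196883 : act 0 n42735 = n42226 := d6_1 D42735 (iv D42226) (iv F192752)
theorem F196884 : act 1 n42735 = n42033 := d14_1 D42735 F193430 (iv F192753)
theorem F196885 : act 2 n42735 = n41842 := d21_1 D42735 (iv D41842) (iv F192754)
theorem F196886 : act 3 n42735 = n41980 := d27_1 D42735 F193204 (iv F192755)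
theorem F196887 : act 4 n42735 = n42735 := d32_1 D42735 (iv D42735) F192756
theorem F196888 : act 6 n42735 = n42735 := d39_1 D42735 (iv D42735) (iv D41840) F188293 D41840
theorem F196889 : act 8 n42735 = n41979 := d42_2 (iv F192757) D42735 F193198
def n42736 : Q := act 7 n41844
theorem D42736 : act 7 n41844 = n42736 := rfl
theorem F196890 : act 2 n42736 = n41845 := d21_1 D42736 (iv D41845) (iv F192777)
theorem F196891 : act 3 n42736 = n41919 := d27_1 D42736 F193039 (iv F192778)
theorem F196892 : act 4 n42736 = n42736 := d32_1 D42736 (iv D42736) F192779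
theorem F196893 : act 6 n42736 = n42736 := d39_1 D42736 (iv D42736) (iv D41844) F188336 D41844
theorem F196894 : act 8 n42736 = n41978 := d42_2 (iv F192780) D42736 (iv D41978)
theorem F196895 : act 9 n42736 = n42033 := d43_2 (iv F192781) D42736 F193430
def n42737 : Q := act 8 n41846
theorem D42737 : act 8 n41846 = n42737 := rfl
theorem F196896 : act 1 n42737 = n41849 := d15_1 D42737 (iv D41849) (iv F192788)
theorem F196897 : act 2 n42737 = n42199 := d22_1 D42737 (iv D42199) (iv F192789)
theorem F196898 : act 3 n42737 = n42092 := d28_1 D42737 F193627 (iv F192790)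
theorem F196899 : act 4 n42737 = n41847 := d33_1 D42737 (iv D41847) D41846
theorem F196900 : act 6 n42737 = n42016 := d40_1 D42737 (iv D42016) (iv F192792)
def n42738 : Q := act 9 n41847
theorem D42738 : act 9 n41847 = n42738 := rfl
theorem F196901 : act 1 n42738 = n41850 := d16_1 D42738 (iv D41850) (iv F192794)
theorem F196902 : act 2 n42738 = n42196 := d23_1 D42738 F193883 (iv F192795)
theorem F196903 : act 3 n42738 = n41848 := d29_1 D42738 (iv D41848) (iv F192796)
theorem F196904 : act 6 n42738 = n42017 := d41_1 D42738 (iv D42017) (iv F192797)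
theorem F196905 : act 8 n42738 = n42188 := d44_1 D42738 (iv D42188) F189499 (iv F188391) D41847
def n42739 : Q := act 5 n41849
theorem D42739 : act 5 n41849 = n42739 := rfl
theorem F196906 : act 2 n42739 = n41874 := d19_1 D42739 (iv D41874) (iv F192801)
theorem F196907 : act 8 n42739 = n42739 := d37_2 D41849 D42739 (iv D42739) (iv D41849) F188396
def n42740 : Q := act 9 n41849
theorem D42740 : act 9 n41849 = n42740 := rfl
theorem F196908 : act 2 n42740 = n41875 := d23_1 D42740 (iv D41875) (iv F192801)
theorem F196909 : act 4 n42740 = n41850 := d34_1 D42740 (iv D41850) (iv F192802)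
theorem F196910 : act 6 n42740 = n42019 := d41_1 D42740 (iv D42019) (iv F192803)
def n42741 : Q := act 8 n41853
theorem D42741 : act 8 n41853 = n42741 := rfl
theorem F196911 : act 0 n42741 = n41876 := d7_1 D42741 F192894 (iv F192812)
theorem F196912 : act 1 n42741 = n41935 := d15_1 D42741 (iv D41935) (iv F192813)
theorem F196913 : act 2 n42741 = n41855 := d22_1 D42741 (iv D41855) (iv F192814)
theorem F196914 : act 3 n42741 = n42206 := d28_1 D42741 F193906 F192818
theorem F196915 : act 4 n42741 = n41854 := d33_1 D42741 (iv D41854) D41853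
theorem F196916 : act 6 n42741 = n42000 := d40_1 D42741 (iv D42000) (iv F192816)
def n42742 : Q := act 9 n41854
theorem D42742 : act 9 n41854 = n42742 := rfl
theorem F196917 : act 1 n42742 = n41936 := d16_1 D42742 (iv D41936) (iv F192819)
theorem F196918 : act 2 n42742 = n41856 := d23_1 D42742 (iv D41856) (iv F192820)
theorem F196919 : act 3 n42742 = n42196 := d29_1 D42742 F193883 (iv F192821)
theorem F196920 : act 6 n42742 = n41998 := d41_1 D42742 F193281 (iv F192822)
theorem F196921 : act 8 n42742 = n41997 := d44_1 D42742 (iv D41997) F188893 (iv F188414) D41854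
def n42743 : Q := act 9 n41855
theorem D42743 : act 9 n41855 = n42743 := rfl
theorem F196922 : act 0 n42743 = n41877 := d8_1 D42743 (iv D41877) (iv F192823)
theorem F196923 : act 1 n42743 = n41858 := d16_1 D42743 (iv D41858) (iv F192824)
theorem F196924 : act 3 n42743 = n41863 := d29_1 D42743 (iv D41863) (iv F192825)
theorem F196925 : act 4 n42743 = n41856 := d34_1 D42743 (iv D41856) (iv F192826)
theorem F196926 : act 6 n42743 = n42114 := d41_1 D42743 (iv D42114) (iv F192827)
def n42744 : Q := act 6 n41857
theorem D42744 : act 6 n41857 = n42744 := rfl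
theorem F196927 : act 0 n42744 = n42139 := d5_1 D42744 (iv D42139) (iv F192831)
theorem F196928 : act 2 n42744 = n41943 := d20_1 D42744 (iv D41943) (iv F192832)
theorem F196929 : act 3 n42744 = n41963 := d26_1 D42744 F193159 (iv F192833)
theorem F196930 : act 5 n42744 = n42118 := d35_1 D42744 (iv D42118) (iv D41107) (iv F188427) D41857
theorem F196931 : act 8 n42744 = n41861 := d40_2 (iv F192834) D42744 (iv D41861)
def n42745 : Q := act 9 n41857
theorem D42745 : act 9 n41857 = n42745 := rfl
theorem F196932 : act 0 n42745 = n42140 := d8_1 D42745 (iv D42140) (iv F192831)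
theorem F196933 : act 2 n42745 = n41944 := d23_1 D42745 (iv D41944) (iv F192832)
theorem F196934 : act 3 n42745 = n41957 := d29_1 D42745 F193136 (iv F192833)
theorem F196935 : act 5 n42745 = n41858 := d38_1 D42745 (iv D41858) D41857
theorem F196936 : act 8 n42745 = n41954 := d44_1 D42745 (iv D41954) F188707 (iv F188450) (iv F192834)
def n42746 : Q := act 7 n41861
theorem D42746 : act 7 n41861 = n42746 := rfl
theorem F196937 : act 0 n42746 = n42144 := d6_1 D42746 (iv D42144) (iv F192844)
theorem F196938 : act 2 n42746 = n41985 := d21_1 D42746 (iv D41985) (iv F192845)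
theorem F196939 : act 3 n42746 = n41962 := d27_1 D42746 F193154 (iv F192846)
theorem F196940 : act 5 n42746 = n41862 := d36_1 D42746 (iv D41862) (iv F192847)
theorem F196941 : act 9 n42746 = n41961 := d43_2 (iv F192848) D42746 (iv D41961)
def n42747 : Q := act 8 n41863
theorem D42747 : act 8 n41863 = n42747 := rfl
theorem F196942 : act 0 n42747 = n41878 := d7_1 D42747 (iv D41878) (iv F192856)
theorem F196943 : act 2 n42747 = n42213 := d22_1 D42747 (iv D42213) (iv F192857)
theorem F196944 : act 4 n42747 = n41864 := d33_1 D42747 (iv D41864) (iv F192858)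
theorem F196945 : act 5 n42747 = n41972 := d37_1 D42747 (iv D41972) (iv F193099) (iv F196126) F196124
theorem F196946 : act 6 n42747 = n42205 := d40_1 D42747 (iv D42205) (iv F192859)
theorem F196947 : act 9 n42747 = n41865 := d44_2 D41863 D42747 (iv D41865) (iv D40832) (iv F188460)
def n42748 : Q := act 5 n41867
theorem D42748 : act 5 n41867 = n42748 := rfl
theorem F196948 : act 7 n42748 = n41874 := d36_2 (iv F192874) D42748 (iv D41874)
theorem F196949 : act 8 n42748 = n42748 := d37_2 D41867 D42748 (iv D42748) (iv D41867) F188477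
def n42749 : Q := act 9 n41867
theorem D42749 : act 9 n41867 = n42749 := rfl
theorem F196950 : act 4 n42749 = n41868 := d34_1 D42749 (iv D41868) (iv F192873)
theorem F196951 : act 7 n42749 = n41875 := d43_1 D42749 (iv D41875) (iv F192874)
def n42750 : Q := act 5 n41869
theorem D42750 : act 5 n41869 = n42750 := rfl
theorem F196952 : act 1 n42750 = n41929 := d12_1 D42750 (iv D41929) (iv F192877)
theorem F196953 : act 8 n42750 = n42750 := d37_2 (iv F192879) D42750 (iv D42750) F192879 F188493
def n42751 : Q := act 9 n41869
theorem D42751 : act 9 n41869 = n42751 := rfl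
theorem F196954 : act 1 n42751 = n41931 := d16_1 D42751 (iv D41931) (iv F192877)
theorem F196955 : act 4 n42751 = n41871 := d34_1 D42751 (iv D41871) (iv F192878)
theorem F196956 : act 6 n42751 = n41870 := d41_1 D42751 (iv D41870) D41869
def n42752 : Q := act 8 n41870
theorem D42752 : act 8 n41870 = n42752 := rfl
theorem F196957 : act 1 n42752 = n41932 := d15_1 D42752 (iv D41932) (iv F192880)
theorem F196958 : act 4 n42752 = n41872 := d33_1 D42752 (iv D41872) (iv F192881)
theorem F196959 : act 7 n42752 = n41878 := d42_1 D42752 (iv D41878) (iv F192882)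
theorem F196960 : act 9 n42752 = n41873 := d44_2 D41870 D42752 (iv D41873) (iv D40842) (iv F188485)
def n42753 : Q := act 6 n41874
theorem D42753 : act 6 n41874 = n42753 := rfl
theorem F196961 : act 1 n42753 = n42191 := d13_1 D42753 (iv F194341) F194339
theorem F196962 : act 5 n42753 = n42073 := d35_1 D42753 (iv D42073) F189161 (iv F188505) D41874
theorem F196963 : act 8 n42753 = n42753 := d40_2 F192891 D42753 (iv D42753)
def n42754 : Q := act 9 n41874
theorem D42754 : act 9 n41874 = n42754 := rfl
theorem F196964 : act 5 n42754 = n41875 := d38_1 D42754 (iv D41875) D41874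
def n42755 : Q := act 9 n41876
theorem D42755 : act 9 n41876 = n42755 := rfl
theorem F196965 : act 2 n42755 = n41877 := d23_1 D42755 (iv D41877) D41876
def n42756 : Q := act 8 n41877
theorem D42756 : act 8 n41877 = n42756 := rfl
theorem F196966 : act 1 n42756 = n41970 := d15_1 D42756 (iv D41970) (iv F192895)
theorem F196967 : act 3 n42756 = n41878 := d28_1 D42756 (iv D41878) (iv F192896)
theorem F196968 : act 9 n42756 = n41879 := d44_2 D41877 D42756 (iv D41879) (iv D40851) (iv F188509)
def n42757 : Q := act 8 n41880
theorem D42757 : act 8 n41880 = n42757 := rfl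
theorem F196969 : act 1 n42757 = n41883 := d15_1 D42757 (iv D41883) (iv F192902)
theorem F196970 : act 3 n42757 = n42064 := d28_1 D42757 F193538 (iv F192903)
theorem F196971 : act 4 n42757 = n41881 := d33_1 D42757 (iv D41881) D41880
theorem F196972 : act 6 n42757 = n41912 := d40_1 D42757 (iv D41912) (iv F192905)
theorem F196973 : act 7 n42757 = n42061 := d42_1 D42757 F193530 (iv F192906)
def n42758 : Q := act 9 n41881
theorem D42758 : act 9 n41881 = n42758 := rfl
theorem F196974 : act 1 n42758 = n41885 := d16_1 D42758 (iv D41885) (iv F192908)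
theorem F196975 : act 3 n42758 = n41882 := d29_1 D42758 (iv D41882) (iv F192909)
theorem F196976 : act 6 n42758 = n41913 := d41_1 D42758 (iv D41913) (iv F192910)
theorem F196977 : act 7 n42758 = n42151 := d43_1 D42758 (iv D42151) (iv F192911)
theorem F196978 : act 8 n42758 = n42150 := d44_1 D42758 (iv D42150) F189420 (iv F188524) D41881
def n42759 : Q := act 5 n41883
theorem D42759 : act 5 n41883 = n42759 := rfl
theorem F196979 : act 7 n42759 = n42152 := d36_2 (iv F192918) D42759 (iv D42152)
theorem F196980 : act 8 n42759 = n42759 := d37_2 D41883 D42759 (iv D42759) (iv D41883) F188529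
def n42760 : Q := act 9 n41883
theorem D42760 : act 9 n41883 = n42760 := rfl
theorem F196981 : act 4 n42760 = n41885 := d34_1 D42760 (iv D41885) (iv F192916)
theorem F196982 : act 6 n42760 = n41921 := d41_1 D42760 (iv D41921) (iv F192917)
theorem F196983 : act 7 n42760 = n42153 := d43_1 D42760 (iv D42153) (iv F192918)
def n42761 : Q := act 4 n41884
theorem D42761 : act 4 n41884 = n42761 := rfl
theorem F196984 : act 7 n42761 = n42154 := d32_2 (iv F192920) D42761 (iv D42154)
theorem F196985 : act 8 n42761 = n41886 := d33_2 (iv F192921) D42761 (iv D41886)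
def n42762 : Q := act 9 n41884
theorem D42762 : act 9 n41884 = n42762 := rfl
theorem F196986 : act 3 n42762 = n41889 := d29_1 D42762 (iv D41889) (iv F192919)
theorem F196987 : act 5 n42762 = n41885 := d38_1 D42762 (iv D41885) D41884
theorem F196988 : act 7 n42762 = n42155 := d43_1 D42762 (iv D42155) (iv F192920)
def n42763 : Q := act 3 n41886
theorem D42763 : act 3 n41886 = n42763 := rfl
theorem F196989 : act 4 n42763 = n41890 := d24_2 D41886 D42763 (iv D41890) (iv D40860) (iv F188535)
theorem F196990 : act 5 n42763 = n42763 := d25_2 F192925 D42763 (iv D42763)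
theorem F196991 : act 7 n42763 = n42156 := d27_2 (iv F192926) D42763 (iv D42156)
def n42764 : Q := act 3 n41887
theorem D42764 : act 3 n41887 = n42764 := rfl
theorem F196992 : act 7 n42764 = n42158 := d27_2 (iv F192928) D42764 (iv D42158)
theorem F196993 : act 8 n42764 = n41890 := d28_2 (iv F192929) D42764 (iv D41890)
def n42765 : Q := act 6 n41887
theorem D42765 : act 6 n41887 = n42765 := rfl
theorem F196994 : act 2 n42765 = n41898 := d20_1 D42765 (iv D41898) (iv F192927)
theorem F196995 : act 4 n42765 = n41888 := d31_1 D42765 (iv D41888) D41887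
theorem F196996 : act 8 n42765 = n41891 := d40_2 (iv F192929) D42765 (iv D41891)
def n42766 : Q := act 9 n41887
theorem D42766 : act 9 n41887 = n42766 := rfl
theorem F196997 : act 2 n42766 = n41899 := d23_1 D42766 (iv D41899) (iv F192927)
theorem F196998 : act 4 n42766 = n41889 := d34_1 D42766 (iv D41889) D41887
theorem F196999 : act 7 n42766 = n42159 := d43_1 D42766 (iv D42159) (iv F192928)
def n42767 : Q := act 9 n41888
theorem D42767 : act 9 n41888 = n42767 := rfl
theorem F197000 : act 2 n42767 = n41901 := d23_1 D42767 (iv D41901) (iv F192930)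
theorem F197001 : act 5 n42767 = n41926 := d38_1 D42767 (iv D41926) (iv F192931)
theorem F197002 : act 6 n42767 = n41889 := d41_1 D42767 (iv D41889) D41888
def n42768 : Q := act 8 n41889
theorem D42768 : act 8 n41889 = n42768 := rfl
theorem F197003 : act 2 n42768 = n41902 := d22_1 D42768 (iv D41902) (iv F192933)
theorem F197004 : act 5 n42768 = n41936 := d37_1 D42768 F193086 (iv F190405) F190408 (iv F192934)
theorem F197005 : act 7 n42768 = n42160 := d42_1 D42768 (iv D42160) (iv F192935)
theorem F197006 : act 9 n42768 = n41893 := d44_2 D41889 D42768 (iv D41893) (iv D40862) (iv F188539)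
def n42769 : Q := act 2 n41890
theorem D42769 : act 2 n41890 = n42769 := rfl
theorem F197007 : act 3 n42769 = n41903 := d17_2 D41890 D42769 (iv D41903) (iv D40869) (iv F188543)
theorem F197008 : act 5 n42769 = n41894 := d19_2 (iv F192936) D42769 (iv D41894)
theorem F197009 : act 7 n42769 = n42161 := d21_2 (iv F192937) D42769 (iv D42161)
def n42770 : Q := act 6 n41890
theorem D42770 : act 6 n41890 = n42770 := rfl
theorem F197010 : act 3 n42770 = n41891 := d26_1 D42770 (iv D41891) D41890
theorem F197011 : act 5 n42770 = n42770 := d35_1 D42770 (iv D42770) F192936 F188552 (iv F192936)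
def n42771 : Q := act 9 n41890
theorem D42771 : act 9 n41890 = n42771 := rfl
theorem F197012 : act 3 n42771 = n41892 := d29_1 D42771 (iv D41892) D41890
theorem F197013 : act 5 n42771 = n41895 := d38_1 D42771 (iv D41895) (iv F192936)
theorem F197014 : act 7 n42771 = n42162 := d43_1 D42771 (iv D42162) (iv F192937)
def n42772 : Q := act 8 n41892
theorem D42772 : act 8 n41892 = n42772 := rfl
theorem F197015 : act 2 n42772 = n41907 := d22_1 D42772 (iv D41907) (iv F192941)
theorem F197016 : act 4 n42772 = n41893 := d33_1 D42772 (iv D41893) (iv F192942)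
theorem F197017 : act 7 n42772 = n42163 := d42_1 D42772 (iv D42163) (iv F192944)
def n42773 : Q := act 1 n41894
theorem D42773 : act 1 n41894 = n42773 := rfl
theorem F197018 : act 2 n42773 = n42227 := d9_2 D41894 D42773 (iv F194786) F194787 F191599
theorem F197019 : act 3 n42773 = n41896 := d10_2 (iv F192948) D42773 F192956
theorem F197020 : act 4 n42773 = n42773 := d11_2 F192949 D42773 (iv D42773)
theorem F197021 : act 6 n42773 = n42773 := d13_2 F192950 D42773 (iv D42773)
theorem F197022 : act 7 n42773 = n42164 := d14_2 (iv F192951) D42773 (iv D42164)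
theorem F197023 : act 8 n42773 = n41895 := d15_2 F194782 D42773 F194783
theorem F197024 : act 9 n42226 = n42773 := d44_0 F197023 (iv D41895) (iv F190482) D42355 (iv F194792)
def n42774 : Q := act 9 n41894
theorem D42774 : act 9 n41894 = n42774 := rfl
theorem F197025 : act 1 n42774 = n42226 := d16_1 D42774 F197024 (iv D42773)
theorem F197026 : act 2 n42774 = n41895 := d23_1 D42774 (iv D41895) D41894
theorem F197027 : act 3 n42774 = n41908 := d29_1 D42774 (iv D41908) (iv F192948)
theorem F197028 : act 4 n42774 = n42774 := d34_1 D42774 (iv D42774) F192949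
theorem F197029 : act 6 n42774 = n42774 := d41_1 D42774 (iv D42774) F192950
theorem F197030 : act 7 n42774 = n42165 := d43_1 D42774 (iv D42165) (iv F192951)
theorem F197031 : act 8 n42774 = n42227 := d44_1 D42774 (iv D42227) (iv F191603) F194784 F194782
def n42775 : Q := act 5 n41896
theorem D42775 : act 5 n41896 = n42775 := rfl
theorem F197032 : act 1 n42775 = n41903 := d12_1 D42775 F192977 (iv F192956)
theorem F197033 : act 2 n42775 = n41909 := d19_1 D42775 (iv D41909) (iv F192957)
theorem F197034 : act 4 n42775 = n41983 := d30_1 D42775 (iv D41983) F188822 (iv F188561) (iv F192958)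
theorem F197035 : act 7 n42775 = n42166 := d36_2 (iv F192960) D42775 (iv D42166)
def n42776 : Q := act 2 n41897
theorem D42776 : act 2 n41897 = n42776 := rfl
theorem F197036 : act 7 n42776 = n42167 := d21_2 (iv F192961) D42776 (iv D42167)
theorem F197037 : act 8 n42776 = n41903 := d22_2 (iv F192962) D42776 (iv D41903)
def n42777 : Q := act 6 n41897
theorem D42777 : act 6 n41897 = n42777 := rfl
theorem F197038 : act 3 n42777 = n41898 := d26_1 D42777 (iv D41898) D41897
theorem F197039 : act 8 n42777 = n41904 := d40_2 (iv F192962) D42777 (iv D41904)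
def n42778 : Q := act 9 n41897
theorem D42778 : act 9 n41897 = n42778 := rfl
theorem F197040 : act 3 n42778 = n41899 := d29_1 D42778 (iv D41899) D41897
theorem F197041 : act 7 n42778 = n42169 := d43_1 D42778 (iv D42169) (iv F192961)
def n42779 : Q := act 5 n41898
theorem D42779 : act 5 n41898 = n42779 := rfl
theorem F197042 : act 4 n42779 = n41929 := d30_1 D42779 (iv D41929) F188655 (iv F188566) (iv F192963)
theorem F197043 : act 8 n42779 = n42779 := d37_2 (iv F192964) D42779 (iv D42779) F192964 F188573
def n42780 : Q := act 7 n41898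
theorem D42780 : act 7 n41898 = n42780 := rfl
theorem F197044 : act 4 n42780 = n41900 := d32_1 D42780 (iv D41900) (iv F192963)
theorem F197045 : act 6 n42780 = n42170 := d39_1 D42780 (iv D42170) (iv D41171) (iv F188564) D41898
theorem F197046 : act 8 n42780 = n41906 := d42_2 (iv F192964) D42780 (iv D41906)
def n42781 : Q := act 9 n41898
theorem D42781 : act 9 n41898 = n42781 := rfl
theorem F197047 : act 4 n42781 = n41901 := d34_1 D42781 (iv D41901) (iv F192963)
theorem F197048 : act 6 n42781 = n41899 := d41_1 D42781 (iv D41899) D41898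
def n42782 : Q := act 8 n41899
theorem D42782 : act 8 n41899 = n42782 := rfl
theorem F197049 : act 1 n42782 = n41947 := d15_1 D42782 (iv F195142) F195138
theorem F197050 : act 4 n42782 = n41902 := d33_1 D42782 (iv D41902) (iv F192965)
theorem F197051 : act 7 n42782 = n42172 := d42_1 D42782 (iv D42172) (iv F192966)
theorem F197052 : act 9 n42782 = n41907 := d44_2 D41899 D42782 (iv D41907) (iv D40871) (iv F188565)
def n42783 : Q := act 9 n41900
theorem D42783 : act 9 n41900 = n42783 := rfl
theorem F197053 : act 5 n42783 = n41933 := d38_1 D42783 (iv D41933) (iv F192967)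
theorem F197054 : act 6 n42783 = n42173 := d41_1 D42783 (iv D42173) (iv F192968)
theorem F197055 : act 7 n42783 = n41901 := d43_1 D42783 (iv D41901) D41900
def n42784 : Q := act 6 n41903
theorem D42784 : act 6 n41903 = n42784 := rfl
theorem F197056 : act 2 n42784 = n41904 := d20_1 D42784 (iv D41904) D41903
theorem F197057 : act 5 n42784 = n42784 := d35_1 D42784 (iv D42784) F192977 F188585 (iv F192977)
def n42785 : Q := act 9 n41903
theorem D42785 : act 9 n41903 = n42785 := rfl
theorem F197058 : act 2 n42785 = n41905 := d23_1 D42785 (iv D41905) D41903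
theorem F197059 : act 4 n42785 = n41941 := d34_1 D42785 (iv F196140) F196137
theorem F197060 : act 5 n42785 = n41908 := d38_1 D42785 (iv D41908) (iv F192977)
theorem F197061 : act 7 n42785 = n42176 := d43_1 D42785 (iv D42176) (iv F192978)
def n42786 : Q := act 7 n41904
theorem D42786 : act 7 n41904 = n42786 := rfl
theorem F197062 : act 3 n42786 = n41906 := d27_1 D42786 (iv D41906) (iv F192979)
theorem F197063 : act 5 n42786 = n42786 := d36_1 D42786 (iv D42786) F192980
theorem F197064 : act 6 n42786 = n42177 := d39_1 D42786 (iv D42177) (iv D41177) (iv F188571) D41904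
def n42787 : Q := act 8 n41905
theorem D42787 : act 8 n41905 = n42787 := rfl
theorem F197065 : act 1 n42787 = n41945 := d15_1 D42787 F193107 (iv F192981)
theorem F197066 : act 3 n42787 = n41907 := d28_1 D42787 (iv D41907) (iv F192982)
theorem F197067 : act 4 n42787 = n41939 := d33_1 D42787 F193096 (iv F192983)
theorem F197068 : act 7 n42787 = n42179 := d42_1 D42787 (iv D42179) (iv F192985)
def n42788 : Q := act 5 n41907
theorem D42788 : act 5 n41907 = n42788 := rfl
theorem F197069 : act 1 n42788 = n41942 := d12_1 D42788 F193101 (iv F192989)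
theorem F197070 : act 4 n42788 = n41937 := d30_1 D42788 (iv D41937) F188677 (iv F188582) (iv F192990)
theorem F197071 : act 7 n42788 = n42182 := d36_2 (iv F192991) D42788 (iv D42182)
theorem F197072 : act 8 n42788 = n41909 := d37_2 D41907 D42788 (iv D41909) (iv D40876) (iv F188576)
def n42789 : Q := act 3 n41910
theorem D42789 : act 3 n41910 = n42789 := rfl
theorem F197073 : act 1 n42789 = n42215 := d10_1 D42789 F195954 F195948
theorem F197074 : act 2 n42789 = n42131 := d17_1 D42789 F193734 F189342 (iv F188606) (iv F193000)
theorem F197075 : act 5 n42789 = n41979 := d25_2 (iv F193001) D42789 (iv D41979)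
theorem F197076 : act 7 n42789 = n41934 := d27_2 (iv F193002) D42789 (iv D41934)
theorem F197077 : act 9 n42789 = n42088 := d29_2 (iv F193003) D42789 F193614
def n42790 : Q := act 8 n41910
theorem D42790 : act 8 n41910 = n42790 := rfl
theorem F197078 : act 2 n42790 = n41912 := d22_1 D42790 (iv D41912) (iv F193000)
theorem F197079 : act 4 n42790 = n41911 := d33_1 D42790 (iv D41911) D41910
theorem F197080 : act 7 n42790 = n41935 := d42_1 D42790 (iv D41935) (iv F193002)
def n42791 : Q := act 9 n41911
theorem D42791 : act 9 n41911 = n42791 := rfl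
theorem F197081 : act 2 n42791 = n41913 := d23_1 D42791 (iv D41913) (iv F193004)
theorem F197082 : act 5 n42791 = n42160 := d38_1 D42791 F193799 (iv F193005)
theorem F197083 : act 7 n42791 = n41936 := d43_1 D42791 (iv D41936) (iv F193006)
theorem F197084 : act 8 n42791 = n42087 := d44_1 D42791 (iv D42087) F189212 (iv F188604) D41911
def n42792 : Q := act 5 n41912
theorem D42792 : act 5 n41912 = n42792 := rfl
theorem F197085 : act 1 n42792 = n41920 := d12_1 D42792 (iv D41920) (iv F193007)
theorem F197086 : act 3 n42792 = n42132 := d25_1 D42792 F193736 (iv F193008)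
theorem F197087 : act 4 n42792 = n42182 := d30_1 D42792 (iv D42182) F189477 (iv F188612) (iv F193009)
theorem F197088 : act 7 n42792 = n41937 := d36_2 (iv F193010) D42792 (iv D41937)
theorem F197089 : act 8 n42792 = n41981 := d37_2 D41912 D42792 (iv D41981) (iv D40954) (iv F188607)
def n42793 : Q := act 9 n41912
theorem D42793 : act 9 n41912 = n42793 := rfl
theorem F197090 : act 1 n42793 = n41921 := d16_1 D42793 (iv D41921) (iv F193007)
theorem F197091 : act 3 n42793 = n42134 := d29_1 D42793 (iv D42134) (iv F193008)
theorem F197092 : act 4 n42793 = n41913 := d34_1 D42793 (iv D41913) (iv F193009)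
theorem F197093 : act 7 n42793 = n41938 := d43_1 D42793 (iv D41938) (iv F193010)
theorem F197094 : act 8 n42793 = n42149 := d44_1 D42793 (iv D42149) F189418 (iv F188609) D41912
def n42794 : Q := act 3 n41914
theorem D42794 : act 3 n41914 = n42794 := rfl
theorem F197095 : act 1 n42794 = n41922 := d10_1 D42794 (iv D41922) (iv F193016)
theorem F197096 : act 4 n42794 = n42179 := d24_2 D41914 D42794 F193844 F189477 (iv F188615)
theorem F197097 : act 5 n42794 = n41968 := d25_2 (iv F193017) D42794 F193167
theorem F197098 : act 7 n42794 = n41939 := d27_2 (iv F193018) D42794 (iv D41939)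
theorem F197099 : act 8 n42794 = n41917 := d28_2 (iv F193019) D42794 (iv D41917)
def n42795 : Q := act 6 n41914
theorem D42795 : act 6 n41914 = n42795 := rfl
theorem F197100 : act 1 n42795 = n41923 := d13_1 D42795 (iv D41923) (iv F193016)
theorem F197101 : act 4 n42795 = n41915 := d31_1 D42795 (iv D41915) D41914
theorem F197102 : act 8 n42795 = n41918 := d40_2 (iv F193019) D42795 (iv D41918)
def n42796 : Q := act 9 n41914
theorem D42796 : act 9 n41914 = n42796 := rfl
theorem F197103 : act 1 n42796 = n41924 := d16_1 D42796 (iv D41924) (iv F193016)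
theorem F197104 : act 4 n42796 = n41916 := d34_1 D42796 (iv D41916) D41914
theorem F197105 : act 5 n42796 = n41971 := d38_1 D42796 (iv D41971) (iv F193017)
theorem F197106 : act 7 n42796 = n41940 := d43_1 D42796 (iv D41940) (iv F193018)
theorem F197107 : act 8 n42796 = n42036 := d44_1 D42796 (iv D42036) F189044 (iv F188624) (iv F193019)
def n42797 : Q := act 9 n41915
theorem D42797 : act 9 n41915 = n42797 := rfl
theorem F197108 : act 1 n42797 = n41926 := d16_1 D42797 (iv D41926) (iv F193020)
theorem F197109 : act 3 n42797 = n42174 := d29_1 D42797 F193834 (iv F193021)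
theorem F197110 : act 6 n42797 = n41916 := d41_1 D42797 (iv D41916) D41915
theorem F197111 : act 8 n42797 = n42038 := d44_1 D42797 (iv D42038) F189047 (iv F188628) (iv F193022)
def n42798 : Q := act 2 n41917
theorem D42798 : act 2 n41917 = n42798 := rfl
theorem F197112 : act 4 n42798 = n42176 := d18_2 (iv F193029) D42798 F193837
theorem F197113 : act 5 n42798 = n41919 := d19_2 (iv F193030) D42798 (iv D41919)
theorem F197114 : act 7 n42798 = n41941 := d21_2 (iv F193031) D42798 (iv D41941)
theorem F197115 : act 9 n42798 = n42039 := d23_2 (iv F193032) D42798 (iv D42039)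
def n42799 : Q := act 6 n41917
theorem D42799 : act 6 n41917 = n42799 := rfl
theorem F197116 : act 1 n42799 = n41927 := d13_1 D42799 (iv D41927) (iv F193028)
theorem F197117 : act 3 n42799 = n41918 := d26_1 D42799 (iv D41918) D41917
theorem F197118 : act 4 n42799 = n42178 := d31_1 D42799 F193843 (iv F193029)
theorem F197119 : act 5 n42799 = n42799 := d35_1 D42799 (iv D42799) F193030 F188631 (iv F193030)
theorem F197120 : act 9 n42799 = n42040 := d41_2 (iv F193032) D42799 (iv D42040)
def n42800 : Q := act 6 n41920
theorem D42800 : act 6 n41920 = n42800 := rfl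
theorem F197121 : act 8 n42800 = n41982 := d40_2 (iv F193043) D42800 (iv D41982)
def n42801 : Q := act 9 n41920
theorem D42801 : act 9 n41920 = n42801 := rfl
theorem F197122 : act 5 n42801 = n41921 := d38_1 D42801 (iv D41921) D41920
theorem F197123 : act 7 n42801 = n41944 := d43_1 D42801 (iv D41944) (iv F193042)
def n42802 : Q := act 6 n41922
theorem D42802 : act 6 n41922 = n42802 := rfl
theorem F197124 : act 3 n42802 = n41923 := d26_1 D42802 (iv D41923) D41922
theorem F197125 : act 8 n42802 = n41927 := d40_2 (iv F193047) D42802 (iv D41927)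
def n42803 : Q := act 9 n41922
theorem D42803 : act 9 n41922 = n42803 := rfl
theorem F197126 : act 3 n42803 = n41924 := d29_1 D42803 (iv D41924) D41922
theorem F197127 : act 7 n42803 = n41954 := d43_1 D42803 (iv D41954) (iv F193046)
def n42804 : Q := act 5 n41923
theorem D42804 : act 5 n41923 = n42804 := rfl
theorem F197128 : act 2 n42804 = n41929 := d19_1 D42804 (iv D41929) (iv F193048)
theorem F197129 : act 8 n42804 = n42804 := d37_2 (iv F193050) D42804 (iv D42804) F193050 F188651
def n42805 : Q := act 7 n41923
theorem D42805 : act 7 n41923 = n42805 := rfl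
theorem F197130 : act 2 n42805 = n41930 := d21_1 D42805 (iv D41930) (iv F193048)
theorem F197131 : act 4 n42805 = n41925 := d32_1 D42805 (iv D41925) (iv F193049)
theorem F197132 : act 6 n42805 = n41955 := d39_1 D42805 (iv D41955) (iv D40918) (iv F188640) D41923
theorem F197133 : act 8 n42805 = n41928 := d42_2 (iv F193050) D42805 (iv D41928)
def n42806 : Q := act 9 n41923
theorem D42806 : act 9 n41923 = n42806 := rfl
theorem F197134 : act 2 n42806 = n41931 := d23_1 D42806 (iv D41931) (iv F193048)
theorem F197135 : act 4 n42806 = n41926 := d34_1 D42806 (iv D41926) (iv F193049)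
theorem F197136 : act 6 n42806 = n41924 := d41_1 D42806 (iv D41924) D41923
def n42807 : Q := act 9 n41925
theorem D42807 : act 9 n41925 = n42807 := rfl
theorem F197137 : act 2 n42807 = n41933 := d23_1 D42807 (iv D41933) (iv F193054)
theorem F197138 : act 6 n42807 = n41958 := d41_1 D42807 (iv D41958) (iv F193055)
theorem F197139 : act 7 n42807 = n41926 := d43_1 D42807 (iv D41926) D41925
def n42808 : Q := act 7 n41927
theorem D42808 : act 7 n41927 = n42808 := rfl
theorem F197140 : act 3 n42808 = n41928 := d27_1 D42808 (iv D41928) (iv F193059)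
theorem F197141 : act 5 n42808 = n42808 := d36_1 D42808 (iv D42808) F193060
theorem F197142 : act 6 n42808 = n41961 := d39_1 D42808 (iv D41961) (iv D40924) (iv F188648) D41927
def n42809 : Q := act 7 n41929
theorem D42809 : act 7 n41929 = n42809 := rfl
theorem F197143 : act 5 n42809 = n41930 := d36_1 D42809 (iv D41930) D41929
theorem F197144 : act 8 n42809 = n42809 := d42_2 F193065 D42809 (iv D42809)
def n42810 : Q := act 9 n41929
theorem D42810 : act 9 n41929 = n42810 := rfl
theorem F197145 : act 5 n42810 = n41931 := d38_1 D42810 (iv D41931) D41929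
def n42811 : Q := act 9 n41930
theorem D42811 : act 9 n41930 = n42811 := rfl
theorem F197146 : act 4 n42811 = n41933 := d34_1 D42811 (iv D41933) (iv F193066)
theorem F197147 : act 6 n42811 = n41971 := d41_1 D42811 (iv D41971) (iv F193067)
theorem F197148 : act 7 n42811 = n41931 := d43_1 D42811 (iv D41931) D41930
def n42812 : Q := act 8 n41934
theorem D42812 : act 8 n41934 = n42812 := rfl
theorem F197149 : act 1 n42812 = n42206 := d15_1 D42812 F193906 (iv F193076)
theorem F197150 : act 2 n42812 = n42125 := d22_1 D42812 F193720 (iv F193077)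
theorem F197151 : act 3 n42812 = n41935 := d28_1 D42812 (iv D41935) D41934
theorem F197152 : act 6 n42812 = n42089 := d40_1 D42812 (iv D42089) (iv F193079)
def n42813 : Q := act 5 n41935
theorem D42813 : act 5 n41935 = n42813 := rfl
theorem F197153 : act 2 n42813 = n41937 := d19_1 D42813 (iv D41937) (iv F193081)
theorem F197154 : act 8 n42813 = n41983 := d37_2 D41935 D42813 (iv D41983) (iv D40957) (iv F188670)
def n42814 : Q := act 9 n41935
theorem D42814 : act 9 n41935 = n42814 := rfl
theorem F197155 : act 2 n42814 = n41938 := d23_1 D42814 (iv D41938) (iv F193081)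
theorem F197156 : act 4 n42814 = n41936 := d34_1 D42814 (iv D41936) (iv F193082)
theorem F197157 : act 6 n42814 = n42086 := d41_1 D42814 F193609 (iv F193083)
theorem F197158 : act 8 n42814 = n42085 := d44_1 D42814 (iv D42085) F189207 (iv F188672) D41935
def n42815 : Q := act 9 n41937
theorem D42815 : act 9 n41937 = n42815 := rfl
theorem F197159 : act 1 n42815 = n41944 := d16_1 D42815 (iv D41944) (iv F193087)
theorem F197160 : act 3 n42815 = n42133 := d29_1 D42815 (iv D42133) (iv F193088)
theorem F197161 : act 5 n42815 = n41938 := d38_1 D42815 (iv D41938) D41937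
def n42816 : Q := act 2 n41939
theorem D42816 : act 2 n41939 = n42816 := rfl
theorem F197162 : act 5 n42816 = n41966 := d19_2 (iv F193095) D42816 F193164
theorem F197163 : act 8 n42816 = n41941 := d22_2 (iv F193096) D42816 (iv D41941)
def n42817 : Q := act 9 n41939
theorem D42817 : act 9 n41939 = n42817 := rfl
theorem F197164 : act 1 n42817 = n41954 := d16_1 D42817 (iv D41954) (iv F193094)
theorem F197165 : act 3 n42817 = n41940 := d29_1 D42817 (iv D41940) D41939
theorem F197166 : act 5 n42817 = n41969 := d38_1 D42817 (iv D41969) (iv F193095)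
def n42818 : Q := act 6 n41942
theorem D42818 : act 6 n41942 = n42818 := rfl
theorem F197167 : act 4 n42818 = n41943 := d31_1 D42818 (iv D41943) D41942
theorem F197168 : act 8 n42818 = n41984 := d40_2 (iv F193102) D42818 (iv D41984)
def n42819 : Q := act 9 n41942
theorem D42819 : act 9 n41942 = n42819 := rfl
theorem F197169 : act 4 n42819 = n41944 := d34_1 D42819 (iv D41944) D41942
theorem F197170 : act 5 n42819 = n41947 := d38_1 D42819 (iv D41947) (iv F193101)
def n42820 : Q := act 7 n41943
theorem D42820 : act 7 n41943 = n42820 := rfl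
theorem F197171 : act 3 n42820 = n42204 := d27_1 D42820 (iv F196468) (iv F196470)
theorem F197172 : act 5 n42820 = n42217 := d36_1 D42820 (iv D42217) (iv F193103)
theorem F197173 : act 8 n42820 = n41985 := d42_2 (iv F193104) D42820 (iv D41985)
def n42821 : Q := act 9 n41943
theorem D42821 : act 9 n41943 = n42821 := rfl
theorem F197174 : act 5 n42821 = n42218 := d38_1 D42821 (iv D42218) (iv F193103)
theorem F197175 : act 6 n42821 = n41944 := d41_1 D42821 (iv D41944) D41943
def n42822 : Q := act 8 n41944
theorem D42822 : act 8 n41944 = n42822 := rfl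
theorem F197176 : act 2 n42822 = n41954 := d22_1 D42822 (iv F196936) F196933
theorem F197177 : act 3 n42822 = n41967 := d28_1 D42822 (iv F196756) F196753
theorem F197178 : act 9 n42822 = n41952 := d44_2 D41944 D42822 F193123 F188725 (iv F188692)
def n42823 : Q := act 6 n41945
theorem D42823 : act 6 n41945 = n42823 := rfl
theorem F197179 : act 3 n42823 = n41946 := d26_1 D42823 (iv D41946) D41945
theorem F197180 : act 4 n42823 = n41953 := d31_1 D42823 (iv D41953) (iv F193106)
theorem F197181 : act 8 n42823 = n41950 := d40_2 (iv F193107) D42823 (iv D41950)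
def n42824 : Q := act 9 n41945
theorem D42824 : act 9 n41945 = n42824 := rfl
theorem F197182 : act 3 n42824 = n41947 := d29_1 D42824 (iv D41947) D41945
theorem F197183 : act 4 n42824 = n41954 := d34_1 D42824 (iv D41954) (iv F193106)
def n42825 : Q := act 5 n41946
theorem D42825 : act 5 n41946 = n42825 := rfl
theorem F197184 : act 4 n42825 = n42219 := d30_1 D42825 (iv D42219) F189590 (iv F188697) (iv F193108)
theorem F197185 : act 8 n42825 = n42825 := d37_2 (iv F193109) D42825 (iv D42825) F193109 F188704
def n42826 : Q := act 7 n41946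
theorem D42826 : act 7 n41946 = n42826 := rfl
theorem F197186 : act 4 n42826 = n41948 := d32_1 D42826 (iv D41948) (iv F193108)
theorem F197187 : act 8 n42826 = n41951 := d42_2 (iv F193109) D42826 (iv D41951)
def n42827 : Q := act 9 n41946
theorem D42827 : act 9 n41946 = n42827 := rfl
theorem F197188 : act 4 n42827 = n41949 := d34_1 D42827 (iv D41949) (iv F193108)
theorem F197189 : act 6 n42827 = n41947 := d41_1 D42827 (iv D41947) D41946
def n42828 : Q := act 9 n41948
theorem D42828 : act 9 n41948 = n42828 := rfl
theorem F197190 : act 3 n42828 = n41958 := d29_1 D42828 (iv D41958) (iv F193111)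
theorem F197191 : act 5 n42828 = n42223 := d38_1 D42828 (iv D42223) (iv F193112)
theorem F197192 : act 7 n42828 = n41949 := d43_1 D42828 (iv D41949) D41948
def n42829 : Q := act 7 n41950
theorem D42829 : act 7 n41950 = n42829 := rfl
theorem F197193 : act 3 n42829 = n41951 := d27_1 D42829 (iv D41951) (iv F193117)
theorem F197194 : act 4 n42829 = n41961 := d32_1 D42829 (iv D41961) (iv F193118)
theorem F197195 : act 5 n42829 = n42829 := d36_1 D42829 (iv D42829) F193119
def n42830 : Q := act 6 n41952
theorem D42830 : act 6 n41952 = n42830 := rfl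
theorem F197196 : act 2 n42830 = n41953 := d20_1 D42830 (iv D41953) D41952
theorem F197197 : act 3 n42830 = n41966 := d26_1 D42830 (iv D41966) (iv F193122)
theorem F197198 : act 8 n42830 = n41960 := d40_2 (iv F193123) D42830 (iv D41960)
def n42831 : Q := act 7 n41953
theorem D42831 : act 7 n41953 = n42831 := rfl
theorem F197199 : act 3 n42831 = n41955 := d27_1 D42831 (iv D41955) (iv F193124)
theorem F197200 : act 8 n42831 = n41961 := d42_2 (iv F193125) D42831 (iv D41961)
def n42832 : Q := act 9 n41953
theorem D42832 : act 9 n41953 = n42832 := rfl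
theorem F197201 : act 3 n42832 = n41956 := d29_1 D42832 (iv D41956) (iv F193124)
theorem F197202 : act 6 n42832 = n41954 := d41_1 D42832 (iv D41954) D41953
def n42833 : Q := act 9 n41955
theorem D42833 : act 9 n41955 = n42833 := rfl
theorem F197203 : act 2 n42833 = n41971 := d23_1 D42833 (iv D41971) (iv F193127)
theorem F197204 : act 4 n42833 = n41958 := d34_1 D42833 (iv D41958) (iv F193128)
theorem F197205 : act 7 n42833 = n41956 := d43_1 D42833 (iv D41956) D41955
def n42834 : Q := act 8 n41956
theorem D42834 : act 8 n41956 = n42834 := rfl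
theorem F197206 : act 0 n42834 = n42142 := d7_1 D42834 (iv F194491) F194486
theorem F197207 : act 2 n42834 = n41972 := d22_1 D42834 (iv D41972) (iv F193130)
theorem F197208 : act 4 n42834 = n41959 := d33_1 D42834 (iv D41959) (iv F193131)
theorem F197209 : act 5 n42834 = n42213 := d37_1 D42834 (iv D42213) (iv F193915) (iv F196381) F196379
theorem F197210 : act 6 n42834 = n41957 := d40_1 D42834 (iv D41957) (iv F193132)
theorem F197211 : act 9 n42834 = n41963 := d44_2 D41956 D42834 (iv D41963) (iv D40926) (iv F188710)
def n42835 : Q := act 8 n41958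
theorem D42835 : act 8 n41958 = n42835 := rfl
theorem F197212 : act 0 n42835 = n42143 := d7_1 D42835 (iv F194497) F194492
theorem F197213 : act 2 n42835 = n41974 := d22_1 D42835 (iv D41974) (iv F193137)
theorem F197214 : act 7 n42835 = n41959 := d42_1 D42835 (iv D41959) (iv F193139)
theorem F197215 : act 9 n42835 = n41964 := d44_2 D41958 D42835 (iv D41964) (iv D40928) (iv F188715)
def n42836 : Q := act 7 n41960
theorem D42836 : act 7 n41960 = n42836 := rfl
theorem F197216 : act 2 n42836 = n41961 := d21_1 D42836 (iv D41961) (iv F193144)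
theorem F197217 : act 3 n42836 = n41975 := d27_1 D42836 (iv D41975) (iv F193145)
theorem F197218 : act 5 n42836 = n41978 := d36_1 D42836 (iv D41978) (iv F193146)
theorem F197219 : act 9 n42836 = n41985 := d43_2 (iv F193147) D42836 (iv D41985)
def n42837 : Q := act 8 n41962
theorem D42837 : act 8 n41962 = n42837 := rfl
theorem F197220 : act 0 n42837 = n42141 := d7_1 D42837 F193760 (iv F193150)
theorem F197221 : act 2 n42837 = n41977 := d22_1 D42837 (iv D41977) (iv F193151)
theorem F197222 : act 4 n42837 = n41964 := d33_1 D42837 (iv D41964) (iv F193152)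
theorem F197223 : act 5 n42837 = n42216 := d37_1 D42837 (iv D42216) F189583 (iv F188789) (iv F193153)
theorem F197224 : act 7 n42837 = n41963 := d42_1 D42837 (iv D41963) (iv F193154)
def n42838 : Q := act 9 n41965
theorem D42838 : act 9 n41965 = n42838 := rfl
theorem F197225 : act 1 n42838 = n41967 := d16_1 D42838 (iv D41967) D41965
theorem F197226 : act 8 n42838 = n42133 := d44_1 D42838 (iv D42133) F189350 (iv F188761) (iv F193163)
def n42839 : Q := act 7 n41966
theorem D42839 : act 7 n41966 = n42839 := rfl
theorem F197227 : act 2 n42839 = n41968 := d21_1 D42839 (iv D41968) (iv F193164)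
theorem F197228 : act 4 n42839 = n42184 := d32_1 D42839 (iv F195374) F195371
theorem F197229 : act 8 n42839 = n41975 := d42_2 (iv F193165) D42839 (iv D41975)
def n42840 : Q := act 9 n41966
theorem D42840 : act 9 n41966 = n42840 := rfl
theorem F197230 : act 2 n42840 = n41969 := d23_1 D42840 (iv D41969) (iv F193164)
theorem F197231 : act 6 n42840 = n41967 := d41_1 D42840 (iv D41967) D41966
def n42841 : Q := act 9 n41968
theorem D42841 : act 9 n41968 = n42841 := rfl
theorem F197232 : act 3 n42841 = n41971 := d29_1 D42841 (iv D41971) (iv F193167)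
theorem F197233 : act 7 n42841 = n41969 := d43_1 D42841 (iv D41969) D41968
def n42842 : Q := act 8 n41969
theorem D42842 : act 8 n41969 = n42842 := rfl
theorem F197234 : act 3 n42842 = n41972 := d28_1 D42842 (iv D41972) (iv F193169)
theorem F197235 : act 6 n42842 = n41970 := d40_1 D42842 (iv D41970) (iv F193170)
theorem F197236 : act 9 n42842 = n41976 := d44_2 D41969 D42842 (iv D41976) (iv D40941) (iv F188748)
def n42843 : Q := act 8 n41971
theorem D42843 : act 8 n41971 = n42843 := rfl
theorem F197237 : act 4 n42843 = n41974 := d33_1 D42843 (iv D41974) (iv F193173)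
theorem F197238 : act 7 n42843 = n41972 := d42_1 D42843 (iv D41972) (iv F193174)
theorem F197239 : act 9 n42843 = n41977 := d44_2 D41971 D42843 (iv D41977) (iv D40943) (iv F188751)
def n42844 : Q := act 5 n41980
theorem D42844 : act 5 n41980 = n42844 := rfl
theorem F197240 : act 1 n42844 = n42039 := d12_1 D42844 F193444 (iv F193200)
theorem F197241 : act 2 n42844 = n41981 := d19_1 D42844 (iv D41981) (iv F193201)
theorem F197242 : act 4 n42844 = n42166 := d30_1 D42844 (iv D42166) F189456 (iv F188807) (iv F193202)
theorem F197243 : act 7 n42844 = n41983 := d36_2 (iv F193204) D42844 (iv D41983)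
def n42845 : Q := act 6 n41981
theorem D42845 : act 6 n41981 = n42845 := rfl
theorem F197244 : act 1 n42845 = n41982 := d13_1 D42845 (iv D41982) (iv F193205)
theorem F197245 : act 3 n42845 = n42135 := d26_1 D42845 (iv D42135) (iv F193206)
theorem F197246 : act 4 n42845 = n42162 := d31_1 D42845 F193804 (iv F193207)
theorem F197247 : act 5 n42845 = n42845 := d35_1 D42845 (iv D42845) (iv D41981) F188813 D41981
theorem F197248 : act 9 n42845 = n42156 := d41_2 F194276 D42845 F194277
def n42846 : Q := act 7 n41982
theorem D42846 : act 7 n41982 = n42846 := rfl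
theorem F197249 : act 3 n42846 = n42202 := d27_1 D42846 (iv F195880) F195876
theorem F197250 : act 5 n42846 = n42846 := d36_1 D42846 (iv D42846) F193209
theorem F197251 : act 6 n42846 = n41985 := d39_1 D42846 (iv D41985) (iv D40960) (iv F188815) D41982
def n42847 : Q := act 7 n41984
theorem D42847 : act 7 n41984 = n42847 := rfl
theorem F197252 : act 3 n42847 = n42071 := d27_1 D42847 (iv F195432) F195428
theorem F197253 : act 4 n42847 = n41985 := d32_1 D42847 (iv D41985) (iv F193211)
theorem F197254 : act 5 n42847 = n42847 := d36_1 D42847 (iv D42847) F193212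
def n42848 : Q := act 9 n41990
theorem D42848 : act 9 n41990 = n42848 := rfl
theorem F197255 : act 1 n42848 = n42093 := d16_1 D42848 (iv D42093) (iv F193235)
theorem F197256 : act 2 n42848 = n42185 := d23_1 D42848 (iv D42185) (iv F193236)
theorem F197257 : act 3 n42848 = n42019 := d29_1 D42848 (iv D42019) (iv F193237)
theorem F197258 : act 4 n42848 = n41991 := d34_1 D42848 (iv D41991) (iv F193238)
theorem F197259 : act 5 n42848 = n42222 := d38_1 D42848 F193936 (iv F193239)
theorem F197260 : act 7 n42848 = n42091 := d43_1 D42848 (iv D42091) (iv F193240)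
theorem F197261 : act 8 n42848 = n42048 := d44_1 D42848 (iv D42048) (iv D41028) (iv F188865) D41990
def n42849 : Q := act 9 n41992
theorem D42849 : act 9 n41992 = n42849 := rfl
theorem F197262 : act 1 n42849 = n42091 := d16_1 D42849 (iv D42091) (iv F193247)
theorem F197263 : act 2 n42849 = n41995 := d23_1 D42849 (iv D41995) (iv F193248)
theorem F197264 : act 3 n42849 = n42205 := d29_1 D42849 F193904 (iv F193249)
theorem F197265 : act 4 n42849 = n41993 := d34_1 D42849 (iv D41993) D41992
theorem F197266 : act 5 n42849 = n42020 := d38_1 D42849 (iv D42020) (iv F193250)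
theorem F197267 : act 7 n42849 = n42093 := d43_1 D42849 (iv D42093) (iv F193251)
theorem F197268 : act 8 n42849 = n42114 := d44_1 D42849 (iv D42114) (iv D41101) (iv F188885) (iv F193252)
def n42850 : Q := act 7 n41994
theorem D42850 : act 7 n41994 = n42850 := rfl
theorem F197269 : act 1 n42850 = n42084 := d14_1 D42850 (iv D42084) (iv F193259)
theorem F197270 : act 3 n42850 = n42217 := d27_1 D42850 (iv D42217) (iv F193260)
theorem F197271 : act 4 n42850 = n41996 := d32_1 D42850 (iv D41996) (iv F193261)
theorem F197272 : act 5 n42850 = n42204 := d36_1 D42850 (iv F196468) F196466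
theorem F197273 : act 6 n42850 = n42098 := d39_1 D42850 (iv D42098) (iv D41084) (iv F188888) D41994
theorem F197274 : act 8 n42850 = n41999 := d42_2 (iv F193262) D42850 (iv D41999)
def n42851 : Q := act 9 n41994
theorem D42851 : act 9 n41994 = n42851 := rfl
theorem F197275 : act 1 n42851 = n42085 := d16_1 D42851 (iv D42085) (iv F193259)
theorem F197276 : act 3 n42851 = n42218 := d29_1 D42851 (iv D42218) (iv F193260)
theorem F197277 : act 4 n42851 = n41997 := d34_1 D42851 (iv D41997) (iv F193261)
theorem F197278 : act 6 n42851 = n41995 := d41_1 D42851 (iv D41995) D41994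
def n42852 : Q := act 8 n41995
theorem D42852 : act 8 n41995 = n42852 := rfl
theorem F197279 : act 1 n42852 = n42086 := d15_1 D42852 (iv D42086) (iv F193263)
theorem F197280 : act 2 n42852 = n42114 := d22_1 D42852 (iv F197268) F197263
theorem F197281 : act 3 n42852 = n42207 := d28_1 D42852 F193908 (iv F193264)
theorem F197282 : act 4 n42852 = n41998 := d33_1 D42852 (iv D41998) (iv F193265)
theorem F197283 : act 7 n42852 = n42100 := d42_1 D42852 (iv D42100) (iv F193267)
theorem F197284 : act 9 n42852 = n42000 := d44_2 D41995 D42852 (iv D42000) (iv D40978) (iv F188889)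
def n42853 : Q := act 9 n41996
theorem D42853 : act 9 n41996 = n42853 := rfl
theorem F197285 : act 1 n42853 = n42087 := d16_1 D42853 (iv D42087) (iv F193268)
theorem F197286 : act 3 n42853 = n42195 := d29_1 D42853 (iv D42195) (iv F193269)
theorem F197287 : act 5 n42853 = n42145 := d38_1 D42853 (iv D42145) (iv F193270)
theorem F197288 : act 6 n42853 = n42101 := d41_1 D42853 (iv D42101) (iv F193271)
theorem F197289 : act 7 n42853 = n41997 := d43_1 D42853 (iv D41997) D41996
def n42854 : Q := act 9 n42002
theorem D42854 : act 9 n42002 = n42854 := rfl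
theorem F197290 : act 1 n42854 = n42187 := d16_1 D42854 (iv D42187) (iv F193299)
theorem F197291 : act 2 n42854 = n42138 := d23_1 D42854 (iv D42138) (iv F193300)
theorem F197292 : act 3 n42854 = n42048 := d29_1 D42854 (iv D42048) (iv F193301)
theorem F197293 : act 4 n42854 = n42003 := d34_1 D42854 (iv D42003) (iv F193302)
theorem F197294 : act 5 n42854 = n42194 := d38_1 D42854 F193879 (iv F193303)
theorem F197295 : act 7 n42854 = n42079 := d43_1 D42854 (iv D42079) (iv F193304)
theorem F197296 : act 8 n42854 = n42019 := d44_1 D42854 (iv D42019) (iv D40999) (iv F188928) D42002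
def n42855 : Q := act 6 n42004
theorem D42855 : act 6 n42004 = n42855 := rfl
theorem F197297 : act 1 n42855 = n42146 := d13_1 D42855 F193774 (iv F193311)
theorem F197298 : act 2 n42855 = n42009 := d20_1 D42855 (iv D42009) (iv F193312)
theorem F197299 : act 3 n42855 = n42069 := d26_1 D42855 F193551 (iv F193313)
theorem F197300 : act 4 n42855 = n42005 := d31_1 D42855 (iv D42005) D42004
theorem F197301 : act 7 n42855 = n42148 := d39_2 (iv F193315) D42855 (iv D42148) (iv F190415) F190414
theorem F197302 : act 8 n42855 = n42007 := d40_2 (iv F193316) D42855 (iv D42007)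
def n42856 : Q := act 9 n42004
theorem D42856 : act 9 n42004 = n42856 := rfl
theorem F197303 : act 1 n42856 = n42185 := d16_1 D42856 (iv D42185) (iv F193311)
theorem F197304 : act 2 n42856 = n42010 := d23_1 D42856 (iv D42010) (iv F193312)
theorem F197305 : act 3 n42856 = n42066 := d29_1 D42856 F193543 (iv F193313)
theorem F197306 : act 4 n42856 = n42006 := d34_1 D42856 (iv D42006) D42004
theorem F197307 : act 5 n42856 = n42052 := d38_1 D42856 (iv D42052) (iv F193314)
theorem F197308 : act 7 n42856 = n42080 := d43_1 D42856 (iv D42080) (iv F193315)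
theorem F197309 : act 8 n42856 = n42062 := d44_1 D42856 (iv D42062) F189128 (iv F188948) (iv F193316)
def n42857 : Q := act 9 n42005
theorem D42857 : act 9 n42005 = n42857 := rfl
theorem F197310 : act 1 n42857 = n42147 := d16_1 D42857 (iv D42147) (iv F193317)
theorem F197311 : act 2 n42857 = n42012 := d23_1 D42857 (iv D42012) (iv F193318)
theorem F197312 : act 3 n42857 = n42145 := d29_1 D42857 (iv D42145) (iv F193319)
theorem F197313 : act 5 n42857 = n42195 := d38_1 D42857 (iv D42195) (iv F193320)
theorem F197314 : act 6 n42857 = n42006 := d41_1 D42857 (iv D42006) D42005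
theorem F197315 : act 7 n42857 = n42150 := d43_1 D42857 (iv D42150) (iv F193321)
theorem F197316 : act 8 n42857 = n42151 := d44_1 D42857 (iv D42151) (iv D41155) (iv F188954) (iv F193322)
def n42858 : Q := act 6 n42008
theorem D42858 : act 6 n42008 = n42858 := rfl
theorem F197317 : act 1 n42858 = n42095 := d13_1 D42858 (iv D42095) (iv F193336)
theorem F197318 : act 3 n42858 = n42009 := d26_1 D42858 (iv D42009) D42008
theorem F197319 : act 4 n42858 = n42139 := d31_1 D42858 (iv D42139) (iv F193337)
theorem F197320 : act 8 n42858 = n42013 := d40_2 (iv F193340) D42858 (iv D42013)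
def n42859 : Q := act 9 n42008
theorem D42859 : act 9 n42008 = n42859 := rfl
theorem F197321 : act 1 n42859 = n42096 := d16_1 D42859 (iv D42096) (iv F193336)
theorem F197322 : act 3 n42859 = n42010 := d29_1 D42859 (iv D42010) D42008
theorem F197323 : act 4 n42859 = n42140 := d34_1 D42859 (iv D42140) (iv F193337)
theorem F197324 : act 5 n42859 = n42062 := d38_1 D42859 (iv D42062) (iv F193338)
theorem F197325 : act 7 n42859 = n42083 := d43_1 D42859 (iv D42083) (iv F193339)
def n42860 : Q := act 5 n42009
theorem D42860 : act 5 n42009 = n42860 := rfl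
theorem F197326 : act 1 n42860 = n42097 := d12_1 D42860 (iv D42097) (iv F193341)
theorem F197327 : act 6 n42860 = n42063 := d35_2 D42009 D42860 (iv D42063) (iv D41041) (iv F188956)
theorem F197328 : act 8 n42860 = n42860 := d37_2 (iv F193343) D42860 (iv D42860) F193343 F188972
def n42861 : Q := act 7 n42009
theorem D42861 : act 7 n42009 = n42861 := rfl
theorem F197329 : act 1 n42861 = n42098 := d14_1 D42861 (iv D42098) (iv F193341)
theorem F197330 : act 2 n42861 = n42148 := d21_1 D42861 (iv F197301) F197298
theorem F197331 : act 4 n42861 = n42011 := d32_1 D42861 (iv D42011) (iv F193342)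
theorem F197332 : act 6 n42861 = n42084 := d39_1 D42861 (iv D42084) (iv D41065) (iv F188957) D42009
theorem F197333 : act 8 n42861 = n42014 := d42_2 (iv F193343) D42861 (iv D42014)
def n42862 : Q := act 9 n42009
theorem D42862 : act 9 n42009 = n42862 := rfl
theorem F197334 : act 1 n42862 = n42099 := d16_1 D42862 (iv D42099) (iv F193341)
theorem F197335 : act 4 n42862 = n42012 := d34_1 D42862 (iv D42012) (iv F193342)
theorem F197336 : act 6 n42862 = n42010 := d41_1 D42862 (iv D42010) D42009
def n42863 : Q := act 9 n42011
theorem D42863 : act 9 n42011 = n42863 := rfl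
theorem F197337 : act 1 n42863 = n42101 := d16_1 D42863 (iv D42101) (iv F193348)
theorem F197338 : act 2 n42863 = n42150 := d23_1 D42863 (iv D42150) (iv F193349)
theorem F197339 : act 3 n42863 = n42143 := d29_1 D42863 (iv D42143) (iv F193350)
theorem F197340 : act 5 n42863 = n42188 := d38_1 D42863 (iv D42188) (iv F193351)
theorem F197341 : act 6 n42863 = n42087 := d41_1 D42863 (iv D42087) (iv F193352)
theorem F197342 : act 7 n42863 = n42012 := d43_1 D42863 (iv D42012) D42011
def n42864 : Q := act 7 n42013
theorem D42864 : act 7 n42013 = n42864 := rfl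
theorem F197343 : act 1 n42864 = n42104 := d14_1 D42864 (iv D42104) (iv F193357)
theorem F197344 : act 3 n42864 = n42014 := d27_1 D42864 (iv D42014) (iv F193358)
theorem F197345 : act 4 n42864 = n42144 := d32_1 D42864 (iv D42144) (iv F193359)
theorem F197346 : act 5 n42864 = n42864 := d36_1 D42864 (iv D42864) F193360
theorem F197347 : act 6 n42864 = n42088 := d39_1 D42864 (iv D42088) (iv D41071) (iv F188969) D42013
def n42865 : Q := act 9 n42016
theorem D42865 : act 9 n42016 = n42865 := rfl
theorem F197348 : act 1 n42865 = n42019 := d16_1 D42865 (iv D42019) (iv F193368)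
theorem F197349 : act 2 n42865 = n42194 := d23_1 D42865 F193879 (iv F193369)
theorem F197350 : act 3 n42865 = n42093 := d29_1 D42865 (iv D42093) (iv F193370)
theorem F197351 : act 4 n42865 = n42017 := d34_1 D42865 (iv D42017) (iv F193371)
theorem F197352 : act 5 n42865 = n42138 := d38_1 D42865 (iv D42138) (iv F193372)
theorem F197353 : act 7 n42865 = n42205 := d43_1 D42865 F193904 (iv F193373)
theorem F197354 : act 8 n42865 = n42187 := d44_1 D42865 (iv D42187) F189497 (iv F188985) D42016
def n42866 : Q := act 8 n42021
theorem D42866 : act 8 n42021 = n42866 := rfl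
theorem F197355 : act 1 n42866 = n42024 := d15_1 D42866 (iv D42024) (iv F193390)
theorem F197356 : act 2 n42866 = n42108 := d22_1 D42866 (iv D42108) (iv F193391)
theorem F197357 : act 3 n42866 = n42186 := d28_1 D42866 F193858 (iv F193392)
theorem F197358 : act 4 n42866 = n42022 := d33_1 D42866 (iv D42022) D42021
theorem F197359 : act 6 n42866 = n42043 := d40_1 D42866 (iv D42043) (iv F193394)
def n42867 : Q := act 9 n42022
theorem D42867 : act 9 n42022 = n42867 := rfl
theorem F197360 : act 1 n42867 = n42026 := d16_1 D42867 (iv D42026) (iv F193396)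
theorem F197361 : act 2 n42867 = n42102 := d23_1 D42867 F193650 (iv F193397)
theorem F197362 : act 3 n42867 = n42023 := d29_1 D42867 (iv D42023) (iv F193398)
theorem F197363 : act 6 n42867 = n42044 := d41_1 D42867 (iv D42044) (iv F193399)
theorem F197364 : act 8 n42867 = n42094 := d44_1 D42867 (iv D42094) F189242 (iv F189020) D42022
def n42868 : Q := act 5 n42024
theorem D42868 : act 5 n42024 = n42868 := rfl
theorem F197365 : act 2 n42868 = n42152 := d19_1 D42868 (iv D42152) (iv F193402)
theorem F197366 : act 8 n42868 = n42868 := d37_2 D42024 D42868 (iv D42868) (iv D42024) F189024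
def n42869 : Q := act 9 n42024
theorem D42869 : act 9 n42024 = n42869 := rfl
theorem F197367 : act 2 n42869 = n42153 := d23_1 D42869 (iv D42153) (iv F193402)
theorem F197368 : act 4 n42869 = n42026 := d34_1 D42869 (iv D42026) (iv F193403)
theorem F197369 : act 6 n42869 = n42048 := d41_1 D42869 (iv D42048) (iv F193404)
def n42870 : Q := act 4 n42025
theorem D42870 : act 4 n42025 = n42870 := rfl
theorem F197370 : act 2 n42870 = n42154 := d18_1 D42870 (iv D42154) (iv F193405)
theorem F197371 : act 8 n42870 = n42027 := d33_2 (iv F193407) D42870 (iv D42027)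
def n42871 : Q := act 9 n42025
theorem D42871 : act 9 n42025 = n42871 := rfl
theorem F197372 : act 2 n42871 = n42155 := d23_1 D42871 (iv D42155) (iv F193405)
theorem F197373 : act 3 n42871 = n42030 := d29_1 D42871 (iv D42030) (iv F193406)
theorem F197374 : act 5 n42871 = n42026 := d38_1 D42871 (iv D42026) D42025
def n42872 : Q := act 3 n42027
theorem D42872 : act 3 n42027 = n42872 := rfl
theorem F197375 : act 4 n42872 = n42031 := d24_2 D42027 D42872 (iv D42031) (iv D41012) (iv F189030)
theorem F197376 : act 5 n42872 = n42872 := d25_2 F193412 D42872 (iv D42872)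
theorem F197377 : act 7 n42872 = n42225 := d27_2 F194245 D42872 (iv F194241)
def n42873 : Q := act 3 n42028
theorem D42873 : act 3 n42028 = n42873 := rfl
theorem F197378 : act 5 n42873 = n42209 := d25_2 (iv F193414) D42873 F193911
theorem F197379 : act 7 n42873 = n42208 := d27_2 (iv F193415) D42873 F193909
theorem F197380 : act 8 n42873 = n42031 := d28_2 (iv F193416) D42873 (iv D42031)
def n42874 : Q := act 6 n42028
theorem D42874 : act 6 n42028 = n42874 := rfl
theorem F197381 : act 2 n42874 = n42035 := d20_1 D42874 (iv D42035) (iv F193413)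
theorem F197382 : act 4 n42874 = n42029 := d31_1 D42874 (iv D42029) D42028
theorem F197383 : act 8 n42874 = n42032 := d40_2 (iv F193416) D42874 (iv D42032)
def n42875 : Q := act 9 n42028
theorem D42875 : act 9 n42028 = n42875 := rfl
theorem F197384 : act 2 n42875 = n42036 := d23_1 D42875 (iv D42036) (iv F193413)
theorem F197385 : act 4 n42875 = n42030 := d34_1 D42875 (iv D42030) D42028
theorem F197386 : act 5 n42875 = n42212 := d38_1 D42875 (iv D42212) (iv F193414)
theorem F197387 : act 7 n42875 = n42211 := d43_1 D42875 (iv D42211) (iv F193415)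
def n42876 : Q := act 9 n42029
theorem D42876 : act 9 n42029 = n42876 := rfl
theorem F197388 : act 2 n42876 = n42038 := d23_1 D42876 (iv D42038) (iv F193417)
theorem F197389 : act 5 n42876 = n42054 := d38_1 D42876 (iv D42054) (iv F193418)
theorem F197390 : act 6 n42876 = n42030 := d41_1 D42876 (iv D42030) D42029
def n42877 : Q := act 2 n42031
theorem D42877 : act 2 n42031 = n42877 := rfl
theorem F197391 : act 3 n42877 = n42039 := d17_2 D42031 D42877 (iv D42039) (iv D41018) (iv F189035)
theorem F197392 : act 5 n42877 = n42033 := d19_2 (iv F193422) D42877 (iv D42033)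
theorem F197393 : act 7 n42877 = n42224 := d21_2 (iv F193423) D42877 F193939
def n42878 : Q := act 6 n42031
theorem D42878 : act 6 n42031 = n42878 := rfl
theorem F197394 : act 3 n42878 = n42032 := d26_1 D42878 (iv D42032) D42031
theorem F197395 : act 5 n42878 = n42878 := d35_1 D42878 (iv D42878) F193422 F189041 (iv F193422)
def n42879 : Q := act 2 n42034
theorem D42879 : act 2 n42034 = n42879 := rfl
theorem F197396 : act 4 n42879 = n42167 := d18_2 (iv F193432) D42879 (iv D42167)
theorem F197397 : act 8 n42879 = n42039 := d22_2 (iv F193433) D42879 (iv D42039)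
def n42880 : Q := act 6 n42034
theorem D42880 : act 6 n42034 = n42880 := rfl
theorem F197398 : act 3 n42880 = n42035 := d26_1 D42880 (iv D42035) D42034
theorem F197399 : act 4 n42880 = n42168 := d31_1 D42880 (iv D42168) (iv F193432)
theorem F197400 : act 8 n42880 = n42040 := d40_2 (iv F193433) D42880 (iv D42040)
def n42881 : Q := act 9 n42034
theorem D42881 : act 9 n42034 = n42881 := rfl
theorem F197401 : act 3 n42881 = n42036 := d29_1 D42881 (iv D42036) D42034
theorem F197402 : act 4 n42881 = n42169 := d34_1 D42881 (iv D42169) (iv F193432)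
def n42882 : Q := act 5 n42035
theorem D42882 : act 5 n42035 = n42882 := rfl
theorem F197403 : act 4 n42882 = n42063 := d30_1 D42882 (iv D42063) F189129 (iv F189046) (iv F193434)
theorem F197404 : act 8 n42882 = n42882 := d37_2 (iv F193435) D42882 (iv D42882) F193435 F189053
def n42883 : Q := act 7 n42035
theorem D42883 : act 7 n42035 = n42883 := rfl
theorem F197405 : act 4 n42883 = n42037 := d32_1 D42883 (iv D42037) (iv F193434)
theorem F197406 : act 8 n42883 = n42041 := d42_2 (iv F193435) D42883 (iv D42041)
def n42884 : Q := act 9 n42035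
theorem D42884 : act 9 n42035 = n42884 := rfl
theorem F197407 : act 4 n42884 = n42038 := d34_1 D42884 (iv D42038) (iv F193434)
theorem F197408 : act 6 n42884 = n42036 := d41_1 D42884 (iv D42036) D42035
def n42885 : Q := act 9 n42037
theorem D42885 : act 9 n42037 = n42885 := rfl
theorem F197409 : act 3 n42885 = n42173 := d29_1 D42885 (iv D42173) (iv F193437)
theorem F197410 : act 5 n42885 = n42067 := d38_1 D42885 (iv D42067) (iv F193438)
theorem F197411 : act 7 n42885 = n42038 := d43_1 D42885 (iv D42038) D42037
def n42886 : Q := act 6 n42039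
theorem D42886 : act 6 n42039 = n42886 := rfl
theorem F197412 : act 2 n42886 = n42040 := d20_1 D42886 (iv D42040) D42039
theorem F197413 : act 4 n42886 = n42175 := d31_1 D42886 (iv D42175) (iv F193443)
theorem F197414 : act 5 n42886 = n42886 := d35_1 D42886 (iv D42886) F193444 F189057 (iv F193444)
def n42887 : Q := act 7 n42040
theorem D42887 : act 7 n42040 = n42887 := rfl
theorem F197415 : act 3 n42887 = n42041 := d27_1 D42887 (iv D42041) (iv F193445)
theorem F197416 : act 4 n42887 = n42177 := d32_1 D42887 (iv D42177) (iv F193446)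
theorem F197417 : act 5 n42887 = n42887 := d36_1 D42887 (iv D42887) F193447
def n42888 : Q := act 9 n42043
theorem D42888 : act 9 n42043 = n42888 := rfl
theorem F197418 : act 1 n42888 = n42048 := d16_1 D42888 (iv D42048) (iv F193452)
theorem F197419 : act 2 n42888 = n42100 := d23_1 D42888 F193645 (iv F193453)
theorem F197420 : act 3 n42888 = n42187 := d29_1 D42888 (iv D42187) (iv F193454)
theorem F197421 : act 4 n42888 = n42044 := d34_1 D42888 (iv D42044) (iv F193455)
theorem F197422 : act 7 n42888 = n42114 := d43_1 D42888 (iv D42114) (iv F193456)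
theorem F197423 : act 8 n42888 = n42093 := d44_1 D42888 (iv D42093) F189240 (iv F189065) D42043
def n42889 : Q := act 9 n42045
theorem D42889 : act 9 n42045 = n42889 := rfl
theorem F197424 : act 1 n42889 = n42052 := d16_1 D42889 (iv D42052) (iv F193463)
theorem F197425 : act 2 n42889 = n42222 := d23_1 D42889 F193936 (iv F193464)
theorem F197426 : act 4 n42889 = n42046 := d34_1 D42889 (iv D42046) D42045
theorem F197427 : act 5 n42889 = n42185 := d38_1 D42889 (iv D42185) (iv F193465)
theorem F197428 : act 7 n42889 = n42116 := d43_1 D42889 (iv D42116) (iv F193466)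
theorem F197429 : act 8 n42889 = n42121 := d44_1 D42889 (iv D42121) F189314 (iv F189082) (iv F193467)
def n42890 : Q := act 6 n42047
theorem D42890 : act 6 n42047 = n42890 := rfl
theorem F197430 : act 2 n42890 = n42095 := d20_1 D42890 (iv D42095) (iv F193474)
theorem F197431 : act 3 n42890 = n42199 := d26_1 D42890 F193893 (iv F193475)
theorem F197432 : act 4 n42890 = n42206 := d31_1 D42890 (iv D42206) (iv F193476)
theorem F197433 : act 8 n42890 = n42103 := d40_2 (iv F193478) D42890 (iv D42103)
def n42891 : Q := act 9 n42047
theorem D42891 : act 9 n42047 = n42891 := rfl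
theorem F197434 : act 2 n42891 = n42096 := d23_1 D42891 (iv D42096) (iv F193474)
theorem F197435 : act 3 n42891 = n42194 := d29_1 D42891 F193879 (iv F193475)
theorem F197436 : act 4 n42891 = n42207 := d34_1 D42891 (iv D42207) (iv F193476)
theorem F197437 : act 5 n42891 = n42048 := d38_1 D42891 (iv D42048) D42047
theorem F197438 : act 7 n42891 = n42119 := d43_1 D42891 (iv D42119) (iv F193477)
theorem F197439 : act 8 n42891 = n42190 := d44_1 D42891 (iv D42190) F189509 F189266 (iv F193478)
def n42892 : Q := act 6 n42050
theorem D42892 : act 6 n42050 = n42892 := rfl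
theorem F197440 : act 3 n42892 = n42051 := d26_1 D42892 (iv D42051) D42050
theorem F197441 : act 8 n42892 = n42056 := d40_2 (iv F193490) D42892 (iv D42056)
def n42893 : Q := act 9 n42050
theorem D42893 : act 9 n42050 = n42893 := rfl
theorem F197442 : act 3 n42893 = n42052 := d29_1 D42893 (iv D42052) D42050
theorem F197443 : act 5 n42893 = n42066 := d38_1 D42893 F193543 (iv F193488)
theorem F197444 : act 7 n42893 = n42126 := d43_1 D42893 (iv D42126) (iv F193489)
def n42894 : Q := act 5 n42051
theorem D42894 : act 5 n42051 = n42894 := rfl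
theorem F197445 : act 2 n42894 = n42063 := d19_1 D42894 (iv D42063) (iv F193491)
theorem F197446 : act 8 n42894 = n42894 := d37_2 (iv F193493) D42894 (iv D42894) F193493 F189106
def n42895 : Q := act 7 n42051
theorem D42895 : act 7 n42051 = n42895 := rfl
theorem F197447 : act 2 n42895 = n42064 := d21_1 D42895 (iv D42064) (iv F193491)
theorem F197448 : act 4 n42895 = n42053 := d32_1 D42895 (iv D42053) (iv F193492)
theorem F197449 : act 6 n42895 = n42127 := d39_1 D42895 (iv D42127) (iv D41115) (iv F189095) D42051
theorem F197450 : act 8 n42895 = n42057 := d42_2 (iv F193493) D42895 (iv D42057)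
def n42896 : Q := act 9 n42051
theorem D42896 : act 9 n42051 = n42896 := rfl
theorem F197451 : act 2 n42896 = n42065 := d23_1 D42896 (iv D42065) (iv F193491)
theorem F197452 : act 4 n42896 = n42054 := d34_1 D42896 (iv D42054) (iv F193492)
theorem F197453 : act 6 n42896 = n42052 := d41_1 D42896 (iv D42052) D42051
def n42897 : Q := act 8 n42052
theorem D42897 : act 8 n42052 = n42897 := rfl
theorem F197454 : act 1 n42897 = n42121 := d15_1 D42897 (iv F197429) F197424
theorem F197455 : act 2 n42897 = n42066 := d22_1 D42897 (iv D42066) (iv F193494)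
theorem F197456 : act 4 n42897 = n42055 := d33_1 D42897 (iv D42055) (iv F193495)
theorem F197457 : act 7 n42897 = n42129 := d42_1 D42897 (iv D42129) (iv F193496)
theorem F197458 : act 9 n42897 = n42059 := d44_2 D42052 D42897 (iv D42059) (iv D41036) (iv F189096)
def n42898 : Q := act 9 n42053
theorem D42898 : act 9 n42053 = n42898 := rfl
theorem F197459 : act 2 n42898 = n42067 := d23_1 D42898 (iv D42067) (iv F193497)
theorem F197460 : act 6 n42898 = n42130 := d41_1 D42898 (iv D42130) (iv F193498)
theorem F197461 : act 7 n42898 = n42054 := d43_1 D42898 (iv D42054) D42053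
def n42899 : Q := act 8 n42054
theorem D42899 : act 8 n42054 = n42899 := rfl
theorem F197462 : act 1 n42899 = n42123 := d15_1 D42899 (iv F196422) F196418
theorem F197463 : act 2 n42899 = n42068 := d22_1 D42899 (iv D42068) (iv F193500)
theorem F197464 : act 3 n42899 = n42117 := d28_1 D42899 (iv F195794) F195792
theorem F197465 : act 6 n42899 = n42055 := d40_1 D42899 (iv D42055) (iv F193501)
theorem F197466 : act 9 n42899 = n42060 := d44_2 D42054 D42899 (iv D42060) (iv D41038) (iv F189098)
def n42900 : Q := act 7 n42056
theorem D42900 : act 7 n42056 = n42900 := rfl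
theorem F197467 : act 3 n42900 = n42057 := d27_1 D42900 (iv D42057) (iv F193508)
theorem F197468 : act 5 n42900 = n42900 := d36_1 D42900 (iv D42900) F193509
theorem F197469 : act 6 n42900 = n42131 := d39_1 D42900 (iv D42131) (iv D41120) (iv F189103) D42056
def n42901 : Q := act 8 n42058
theorem D42901 : act 8 n42058 = n42901 := rfl
theorem F197470 : act 1 n42901 = n42120 := d15_1 D42901 F193707 (iv F193514)
theorem F197471 : act 2 n42901 = n42069 := d22_1 D42901 (iv D42069) (iv F193515)
theorem F197472 : act 4 n42901 = n42060 := d33_1 D42901 (iv D42060) (iv F193516)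
theorem F197473 : act 6 n42901 = n42059 := d40_1 D42901 (iv D42059) (iv F193518)
def n42902 : Q := act 5 n42061
theorem D42902 : act 5 n42061 = n42902 := rfl
theorem F197474 : act 1 n42902 = n42152 := d12_1 D42902 (iv D42152) (iv F193527)
theorem F197475 : act 3 n42902 = n42063 := d25_1 D42902 (iv D42063) (iv F193528)
theorem F197476 : act 8 n42902 = n42902 := d37_2 (iv F193530) D42902 (iv D42902) F193530 F189144
def n42903 : Q := act 9 n42061
theorem D42903 : act 9 n42061 = n42903 := rfl
theorem F197477 : act 1 n42903 = n42153 := d16_1 D42903 (iv D42153) (iv F193527)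
theorem F197478 : act 3 n42903 = n42065 := d29_1 D42903 (iv D42065) (iv F193528)
theorem F197479 : act 4 n42903 = n42151 := d34_1 D42903 (iv D42151) (iv F193529)
theorem F197480 : act 6 n42903 = n42062 := d41_1 D42903 (iv D42062) D42061
def n42904 : Q := act 7 n42063
theorem D42904 : act 7 n42063 = n42904 := rfl
theorem F197481 : act 5 n42904 = n42064 := d36_1 D42904 (iv D42064) D42063
theorem F197482 : act 8 n42904 = n42904 := d42_2 F193535 D42904 (iv D42904)
def n42905 : Q := act 9 n42063
theorem D42905 : act 9 n42063 = n42905 := rfl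
theorem F197483 : act 5 n42905 = n42065 := d38_1 D42905 (iv D42065) D42063
def n42906 : Q := act 9 n42064
theorem D42906 : act 9 n42064 = n42906 := rfl
theorem F197484 : act 4 n42906 = n42067 := d34_1 D42906 (iv D42067) (iv F193536)
theorem F197485 : act 6 n42906 = n42134 := d41_1 D42906 (iv D42134) (iv F193537)
theorem F197486 : act 7 n42906 = n42065 := d43_1 D42906 (iv D42065) D42064
def n42907 : Q := act 8 n42065
theorem D42907 : act 8 n42065 = n42907 := rfl
theorem F197487 : act 4 n42907 = n42068 := d33_1 D42907 (iv D42068) (iv F193539)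
theorem F197488 : act 6 n42907 = n42066 := d40_1 D42907 (iv D42066) (iv F193540)
theorem F197489 : act 9 n42907 = n42069 := d44_2 D42065 D42907 (iv D42069) (iv D41048) (iv F189130)
def n42908 : Q := act 5 n42068
theorem D42908 : act 5 n42068 = n42908 := rfl
theorem F197490 : act 3 n42908 = n42203 := d25_1 D42908 (iv D42203) (iv F193547)
theorem F197491 : act 9 n42908 = n42070 := d38_2 (iv F193549) D42908 (iv D42070)
def n42909 : Q := act 5 n42069
theorem D42909 : act 5 n42069 = n42909 := rfl
theorem F197492 : act 8 n42909 = n42909 := d37_2 D42069 D42909 (iv D42909) (iv D42069) F189149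
def n42910 : Q := act 4 n42070
theorem D42910 : act 4 n42070 = n42910 := rfl
theorem F197493 : act 8 n42910 = n42071 := d33_2 (iv F193553) D42910 (iv D42071)
def n42911 : Q := act 6 n42072
theorem D42911 : act 6 n42072 = n42911 := rfl
theorem F197494 : act 1 n42911 = n42189 := d13_1 D42911 (iv D42189) (iv F193555)
theorem F197495 : act 3 n42911 = n42073 := d26_1 D42911 (iv D42073) D42072
theorem F197496 : act 4 n42911 = n42082 := d31_1 D42911 (iv D42082) (iv F193556)
theorem F197497 : act 8 n42911 = n42077 := d40_2 (iv F193559) D42911 (iv D42077)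
def n42912 : Q := act 9 n42072
theorem D42912 : act 9 n42072 = n42912 := rfl
theorem F197498 : act 1 n42912 = n42190 := d16_1 D42912 (iv D42190) (iv F193555)
theorem F197499 : act 3 n42912 = n42074 := d29_1 D42912 (iv D42074) D42072
theorem F197500 : act 4 n42912 = n42083 := d34_1 D42912 (iv D42083) (iv F193556)
theorem F197501 : act 5 n42912 = n42137 := d38_1 D42912 (iv D42137) (iv F193557)
theorem F197502 : act 7 n42912 = n42140 := d43_1 D42912 (iv D42140) (iv F193558)
def n42913 : Q := act 7 n42073
theorem D42913 : act 7 n42073 = n42913 := rfl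
theorem F197503 : act 1 n42913 = n42192 := d14_1 D42913 (iv D42192) (iv F193560)
theorem F197504 : act 4 n42913 = n42075 := d32_1 D42913 (iv D42075) (iv F193561)
theorem F197505 : act 6 n42913 = n42141 := d39_1 D42913 (iv D42141) (iv D41140) (iv F189162) D42073
theorem F197506 : act 8 n42913 = n42078 := d42_2 (iv F193562) D42913 (iv D42078)
def n42914 : Q := act 9 n42073
theorem D42914 : act 9 n42073 = n42914 := rfl
theorem F197507 : act 1 n42914 = n42193 := d16_1 D42914 (iv D42193) (iv F193560)
theorem F197508 : act 4 n42914 = n42076 := d34_1 D42914 (iv D42076) (iv F193561)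
theorem F197509 : act 6 n42914 = n42074 := d41_1 D42914 (iv D42074) D42073
def n42915 : Q := act 9 n42075
theorem D42915 : act 9 n42075 = n42915 := rfl
theorem F197510 : act 1 n42915 = n42195 := d16_1 D42915 (iv D42195) (iv F193567)
theorem F197511 : act 3 n42915 = n42087 := d29_1 D42915 (iv D42087) (iv F193568)
theorem F197512 : act 5 n42915 = n42147 := d38_1 D42915 (iv D42147) (iv F193569)
theorem F197513 : act 6 n42915 = n42143 := d41_1 D42915 (iv D42143) (iv F193570)
theorem F197514 : act 7 n42915 = n42076 := d43_1 D42915 (iv D42076) D42075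
def n42916 : Q := act 7 n42077
theorem D42916 : act 7 n42077 = n42916 := rfl
theorem F197515 : act 1 n42916 = n42197 := d14_1 D42916 (iv D42197) (iv F193575)
theorem F197516 : act 3 n42916 = n42078 := d27_1 D42916 (iv D42078) (iv F193576)
theorem F197517 : act 4 n42916 = n42088 := d32_1 D42916 (iv D42088) (iv F193577)
theorem F197518 : act 5 n42916 = n42916 := d36_1 D42916 (iv D42916) F193578
theorem F197519 : act 6 n42916 = n42144 := d39_1 D42916 (iv D42144) (iv D41144) (iv F189174) D42077
def n42917 : Q := act 9 n42081
theorem D42917 : act 9 n42081 = n42917 := rfl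
theorem F197520 : act 2 n42917 = n42083 := d23_1 D42917 (iv D42083) D42081
theorem F197521 : act 3 n42917 = n42129 := d29_1 D42917 F193731 (iv F193593)
theorem F197522 : act 5 n42917 = n42086 := d38_1 D42917 F193609 (iv F193594)
theorem F197523 : act 8 n42917 = n42126 := d44_1 D42917 (iv D42126) F189328 F189218 (iv F193595)
def n42918 : Q := act 7 n42082
theorem D42918 : act 7 n42082 = n42918 := rfl
theorem F197524 : act 1 n42918 = n42217 := d14_1 D42918 (iv D42217) (iv F193596)
theorem F197525 : act 3 n42918 = n42084 := d27_1 D42918 (iv D42084) (iv F193597)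
theorem F197526 : act 8 n42918 = n42088 := d42_2 (iv F193598) D42918 (iv D42088)
def n42919 : Q := act 9 n42082
theorem D42919 : act 9 n42082 = n42919 := rfl
theorem F197527 : act 1 n42919 = n42218 := d16_1 D42919 (iv D42218) (iv F193596)
theorem F197528 : act 3 n42919 = n42085 := d29_1 D42919 (iv D42085) (iv F193597)
theorem F197529 : act 6 n42919 = n42083 := d41_1 D42919 (iv D42083) D42082
def n42920 : Q := act 8 n42083
theorem D42920 : act 8 n42083 = n42920 := rfl
theorem F197530 : act 1 n42920 = n42207 := d15_1 D42920 F193908 (iv F193599)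
theorem F197531 : act 2 n42920 = n42126 := d22_1 D42920 (iv F197523) F197520
theorem F197532 : act 3 n42920 = n42086 := d28_1 D42920 (iv D42086) (iv F193600)
theorem F197533 : act 5 n42920 = n42129 := d37_1 D42920 (iv D42129) (iv F193591) F193592 (iv F193601)
theorem F197534 : act 9 n42920 = n42089 := d44_2 D42083 D42920 (iv D42089) (iv D41072) (iv F189205)
def n42921 : Q := act 9 n42084
theorem D42921 : act 9 n42084 = n42921 := rfl
theorem F197535 : act 2 n42921 = n42149 := d23_1 D42921 (iv D42149) (iv F193602)
theorem F197536 : act 4 n42921 = n42087 := d34_1 D42921 (iv D42087) (iv F193603)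
theorem F197537 : act 7 n42921 = n42085 := d43_1 D42921 (iv D42085) D42084
def n42922 : Q := act 9 n42092
theorem D42922 : act 9 n42092 = n42922 := rfl
theorem F197538 : act 2 n42922 = n42099 := d23_1 D42922 (iv D42099) (iv F193625)
theorem F197539 : act 4 n42922 = n42094 := d34_1 D42922 (iv D42094) (iv F193626)
theorem F197540 : act 6 n42922 = n42093 := d41_1 D42922 (iv D42093) D42092
def n42923 : Q := act 5 n42095
theorem D42923 : act 5 n42095 = n42923 := rfl
theorem F197541 : act 3 n42923 = n42097 := d25_1 D42923 (iv D42097) (iv F193632)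
theorem F197542 : act 6 n42923 = n42152 := d35_2 D42095 D42923 (iv D42152) F189431 (iv F189249)
theorem F197543 : act 8 n42923 = n42923 := d37_2 (iv F193634) D42923 (iv D42923) F193634 F189269
def n42924 : Q := act 7 n42095
theorem D42924 : act 7 n42095 = n42924 := rfl
theorem F197544 : act 3 n42924 = n42098 := d27_1 D42924 (iv D42098) (iv F193632)
theorem F197545 : act 4 n42924 = n42209 := d32_1 D42924 (iv D42209) (iv F193633)
theorem F197546 : act 6 n42924 = n42217 := d39_1 D42924 (iv D42217) (iv D41233) (iv F189250) D42095
theorem F197547 : act 8 n42924 = n42104 := d42_2 (iv F193634) D42924 (iv D42104)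
def n42925 : Q := act 9 n42095
theorem D42925 : act 9 n42095 = n42925 := rfl
theorem F197548 : act 3 n42925 = n42099 := d29_1 D42925 (iv D42099) (iv F193632)
theorem F197549 : act 4 n42925 = n42210 := d34_1 D42925 (iv D42210) (iv F193633)
theorem F197550 : act 6 n42925 = n42096 := d41_1 D42925 (iv D42096) D42095
def n42926 : Q := act 8 n42096
theorem D42926 : act 8 n42096 = n42926 := rfl
theorem F197551 : act 2 n42926 = n42190 := d22_1 D42926 (iv F197439) F197434
theorem F197552 : act 3 n42926 = n42100 := d28_1 D42926 (iv D42100) (iv F193635)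
theorem F197553 : act 4 n42926 = n42119 := d33_1 D42926 F193704 (iv F193636)
theorem F197554 : act 5 n42926 = n42121 := d37_1 D42926 (iv F197429) F197427 F193855 (iv F193637)
theorem F197555 : act 7 n42926 = n42207 := d42_1 D42926 F193908 (iv F193638)
theorem F197556 : act 9 n42926 = n42106 := d44_2 D42096 D42926 (iv D42106) (iv D41091) (iv F189251)
def n42927 : Q := act 7 n42097
theorem D42927 : act 7 n42097 = n42927 := rfl
theorem F197557 : act 5 n42927 = n42098 := d36_1 D42927 (iv D42098) D42097
theorem F197558 : act 8 n42927 = n42927 := d42_2 F193639 D42927 (iv D42927)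
def n42928 : Q := act 9 n42097
theorem D42928 : act 9 n42097 = n42928 := rfl
theorem F197559 : act 5 n42928 = n42099 := d38_1 D42928 (iv D42099) D42097
def n42929 : Q := act 9 n42098
theorem D42929 : act 9 n42098 = n42929 := rfl
theorem F197560 : act 4 n42929 = n42101 := d34_1 D42929 (iv D42101) (iv F193640)
theorem F197561 : act 7 n42929 = n42099 := d43_1 D42929 (iv D42099) D42098
def n42930 : Q := act 8 n42099
theorem D42930 : act 8 n42099 = n42930 := rfl
theorem F197562 : act 4 n42930 = n42102 := d33_1 D42930 (iv D42102) (iv F193642)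
theorem F197563 : act 6 n42930 = n42100 := d40_1 D42930 (iv D42100) (iv F193643)
theorem F197564 : act 9 n42930 = n42108 := d44_2 D42099 D42930 (iv D42108) (iv D41093) (iv F189253)
def n42931 : Q := act 5 n42100
theorem D42931 : act 5 n42100 = n42931 := rfl
theorem F197565 : act 3 n42931 = n42121 := d25_1 D42931 (iv F197554) F197552
theorem F197566 : act 4 n42931 = n42126 := d30_1 D42931 F193722 F189355 (iv F189260) (iv F193644)
theorem F197567 : act 9 n42931 = n42109 := d38_2 (iv F193645) D42931 (iv D42109)
def n42932 : Q := act 8 n42101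
theorem D42932 : act 8 n42101 = n42932 := rfl
theorem F197568 : act 3 n42932 = n42214 := d28_1 D42932 (iv D42214) (iv F193646)
theorem F197569 : act 7 n42932 = n42102 := d42_1 D42932 (iv D42102) (iv F193647)
theorem F197570 : act 9 n42932 = n42110 := d44_2 D42101 D42932 (iv D42110) (iv D41095) (iv F189256)
def n42933 : Q := act 7 n42103
theorem D42933 : act 7 n42103 = n42933 := rfl
theorem F197571 : act 2 n42933 = n42104 := d21_1 D42933 (iv D42104) (iv F193651)
theorem F197572 : act 3 n42933 = n42198 := d27_1 D42933 F193891 (iv F193652)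
theorem F197573 : act 4 n42933 = n42215 := d32_1 D42933 (iv D42215) (iv F193653)
theorem F197574 : act 5 n42933 = n42933 := d36_1 D42933 (iv D42933) F193654
theorem F197575 : act 6 n42933 = n42136 := d39_1 D42933 (iv D42136) (iv D41132) (iv F189265) D42103
theorem F197576 : act 9 n42933 = n42197 := d43_2 (iv F193655) D42933 (iv D42197)
def n42934 : Q := act 9 n42104
theorem D42934 : act 9 n42104 = n42934 := rfl
theorem F197577 : act 2 n42934 = n42197 := d23_1 D42934 (iv F197576) F197571
theorem F197578 : act 3 n42934 = n42107 := d29_1 D42934 (iv D42107) (iv F193656)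
theorem F197579 : act 4 n42934 = n42136 := d34_1 D42934 F193747 (iv F193657)
theorem F197580 : act 5 n42934 = n42934 := d38_1 D42934 (iv D42934) F193658
theorem F197581 : act 6 n42934 = n42215 := d41_1 D42934 F193925 (iv F193659)
theorem F197582 : act 7 n42934 = n42105 := d43_1 D42934 (iv D42105) D42104
def n42935 : Q := act 8 n42105
theorem D42935 : act 8 n42105 = n42935 := rfl
theorem F197583 : act 2 n42935 = n42189 := d22_1 D42935 F193866 (iv F193660)
theorem F197584 : act 3 n42935 = n42108 := d28_1 D42935 (iv D42108) (iv F193661)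
theorem F197585 : act 4 n42935 = n42118 := d33_1 D42935 F193700 (iv F193662)
theorem F197586 : act 6 n42935 = n42106 := d40_1 D42935 (iv D42106) (iv F193664)
def n42936 : Q := act 8 n42107
theorem D42936 : act 8 n42107 = n42936 := rfl
theorem F197587 : act 4 n42936 = n42110 := d33_1 D42936 (iv D42110) (iv F193670)
theorem F197588 : act 7 n42936 = n42108 := d42_1 D42936 (iv D42108) (iv F193672)
def n42937 : Q := act 5 n42108
theorem D42937 : act 5 n42108 = n42937 := rfl
theorem F197589 : act 8 n42937 = n42937 := d37_2 D42108 D42937 (iv D42937) (iv D42108) F189278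
def n42938 : Q := act 6 n42109
theorem D42938 : act 6 n42109 = n42938 := rfl
theorem F197590 : act 3 n42938 = n42120 := d26_1 D42938 (iv D42120) (iv F193675)
theorem F197591 : act 4 n42938 = n42125 := d31_1 D42938 (iv D42125) (iv F193676)
theorem F197592 : act 8 n42938 = n42111 := d40_2 (iv F193677) D42938 (iv D42111)
def n42939 : Q := act 7 n42111
theorem D42939 : act 7 n42111 = n42939 := rfl
theorem F197593 : act 3 n42939 = n42124 := d27_1 D42939 (iv D42124) (iv F193680)
theorem F197594 : act 4 n42939 = n42131 := d32_1 D42939 (iv D42131) (iv F193681)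
theorem F197595 : act 5 n42939 = n42939 := d36_1 D42939 (iv D42939) F193682
def n42940 : Q := act 9 n42115
theorem D42940 : act 9 n42115 = n42940 := rfl
theorem F197596 : act 1 n42940 = n42128 := d16_1 D42940 (iv D42128) (iv F193690)
theorem F197597 : act 4 n42940 = n42117 := d34_1 D42940 (iv D42117) (iv F193691)
theorem F197598 : act 6 n42940 = n42116 := d41_1 D42940 (iv D42116) D42115
def n42941 : Q := act 7 n42118
theorem D42941 : act 7 n42118 = n42941 := rfl
theorem F197599 : act 2 n42941 = n42217 := d21_1 D42941 (iv D42217) (iv F193698)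
theorem F197600 : act 3 n42941 = n42216 := d27_1 D42941 F193927 (iv F193699)
theorem F197601 : act 8 n42941 = n42136 := d42_2 (iv F193700) D42941 (iv D42136)
def n42942 : Q := act 9 n42118
theorem D42942 : act 9 n42118 = n42942 := rfl
theorem F197602 : act 2 n42942 = n42218 := d23_1 D42942 (iv D42218) (iv F193698)
theorem F197603 : act 3 n42942 = n42213 := d29_1 D42942 F193920 (iv F193699)
theorem F197604 : act 6 n42942 = n42119 := d41_1 D42942 (iv D42119) D42118
theorem F197605 : act 8 n42942 = n42210 := d44_1 D42942 (iv D42210) F189565 (iv F189370) (iv F193700)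
def n42943 : Q := act 5 n42120
theorem D42943 : act 5 n42120 = n42943 := rfl
theorem F197606 : act 2 n42943 = n42219 := d19_1 D42943 (iv D42219) (iv F193705)
theorem F197607 : act 8 n42943 = n42943 := d37_2 (iv F193707) D42943 (iv D42943) F193707 F189323
def n42944 : Q := act 7 n42120
theorem D42944 : act 7 n42120 = n42944 := rfl
theorem F197608 : act 2 n42944 = n42220 := d21_1 D42944 (iv D42220) (iv F193705)
theorem F197609 : act 4 n42944 = n42122 := d32_1 D42944 (iv D42122) (iv F193706)
theorem F197610 : act 8 n42944 = n42124 := d42_2 (iv F193707) D42944 (iv D42124)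
def n42945 : Q := act 9 n42120
theorem D42945 : act 9 n42120 = n42945 := rfl
theorem F197611 : act 2 n42945 = n42221 := d23_1 D42945 (iv D42221) (iv F193705)
theorem F197612 : act 4 n42945 = n42123 := d34_1 D42945 (iv D42123) (iv F193706)
theorem F197613 : act 6 n42945 = n42121 := d41_1 D42945 (iv D42121) D42120
def n42946 : Q := act 9 n42122
theorem D42946 : act 9 n42122 = n42946 := rfl
theorem F197614 : act 2 n42946 = n42223 := d23_1 D42946 (iv D42223) (iv F193710)
theorem F197615 : act 3 n42946 = n42130 := d29_1 D42946 (iv D42130) (iv F193711)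
theorem F197616 : act 7 n42946 = n42123 := d43_1 D42946 (iv D42123) D42122
def n42947 : Q := act 7 n42125
theorem D42947 : act 7 n42125 = n42947 := rfl
theorem F197617 : act 3 n42947 = n42127 := d27_1 D42947 (iv D42127) (iv F193719)
theorem F197618 : act 8 n42947 = n42131 := d42_2 (iv F193720) D42947 (iv D42131)
def n42948 : Q := act 9 n42125
theorem D42948 : act 9 n42125 = n42948 := rfl
theorem F197619 : act 3 n42948 = n42128 := d29_1 D42948 (iv D42128) (iv F193719)
theorem F197620 : act 6 n42948 = n42126 := d41_1 D42948 (iv D42126) D42125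
def n42949 : Q := act 9 n42127
theorem D42949 : act 9 n42127 = n42949 := rfl
theorem F197621 : act 2 n42949 = n42134 := d23_1 D42949 (iv D42134) (iv F193723)
theorem F197622 : act 4 n42949 = n42130 := d34_1 D42949 (iv D42130) (iv F193724)
theorem F197623 : act 7 n42949 = n42128 := d43_1 D42949 (iv D42128) D42127
def n42950 : Q := act 6 n42132
theorem D42950 : act 6 n42132 = n42950 := rfl
theorem F197624 : act 4 n42950 = n42157 := d31_1 D42950 (iv F195290) F195289
theorem F197625 : act 8 n42950 = n42135 := d40_2 (iv F193737) D42950 (iv D42135)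
def n42951 : Q := act 9 n42132
theorem D42951 : act 9 n42132 = n42951 := rfl
theorem F197626 : act 5 n42951 = n42134 := d38_1 D42951 (iv D42134) (iv F193736)
theorem F197627 : act 7 n42951 = n42133 := d43_1 D42951 (iv D42133) D42132
def n42952 : Q := act 7 n42139
theorem D42952 : act 7 n42139 = n42952 := rfl
theorem F197628 : act 1 n42952 = n42209 := d14_1 D42952 (iv D42209) (iv F193753)
theorem F197629 : act 3 n42952 = n42141 := d27_1 D42952 (iv D42141) (iv F193754)
theorem F197630 : act 8 n42952 = n42144 := d42_2 (iv F193755) D42952 (iv D42144)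
def n42953 : Q := act 9 n42139
theorem D42953 : act 9 n42139 = n42953 := rfl
theorem F197631 : act 1 n42953 = n42210 := d16_1 D42953 (iv D42210) (iv F193753)
theorem F197632 : act 3 n42953 = n42142 := d29_1 D42953 (iv D42142) (iv F193754)
theorem F197633 : act 6 n42953 = n42140 := d41_1 D42953 (iv D42140) D42139
def n42954 : Q := act 9 n42141
theorem D42954 : act 9 n42141 = n42954 := rfl
theorem F197634 : act 1 n42954 = n42212 := d16_1 D42954 (iv D42212) (iv F193758)
theorem F197635 : act 4 n42954 = n42143 := d34_1 D42954 (iv D42143) (iv F193759)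
theorem F197636 : act 7 n42954 = n42142 := d43_1 D42954 (iv D42142) D42141
def n42955 : Q := act 5 n42146
theorem D42955 : act 5 n42146 = n42955 := rfl
theorem F197637 : act 8 n42955 = n42955 := d37_2 D42146 D42955 (iv D42955) (iv D42146) F189410
def n42956 : Q := act 9 n42146
theorem D42956 : act 9 n42146 = n42956 := rfl
theorem F197638 : act 4 n42956 = n42147 := d34_1 D42956 (iv D42147) (iv F193773)
theorem F197639 : act 6 n42956 = n42185 := d41_1 D42956 (iv D42185) (iv F193774)
theorem F197640 : act 8 n42956 = n42153 := d44_1 D42956 (iv D42153) (iv D41157) (iv F189412) D42146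
def n42957 : Q := act 5 n42148
theorem D42957 : act 5 n42148 = n42957 := rfl
theorem F197641 : act 4 n42957 = n42191 := d30_1 D42957 (iv D42191) F189510 (iv F189419) (iv F193778)
theorem F197642 : act 8 n42957 = n42957 := d37_2 (iv F193779) D42957 (iv D42957) F193779 F189423
def n42958 : Q := act 9 n42148
theorem D42958 : act 9 n42148 = n42958 := rfl
theorem F197643 : act 4 n42958 = n42150 := d34_1 D42958 (iv D42150) (iv F193778)
theorem F197644 : act 6 n42958 = n42149 := d41_1 D42958 (iv D42149) D42148
def n42959 : Q := act 4 n42152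
theorem D42959 : act 4 n42152 = n42959 := rfl
theorem F197645 : act 5 n42959 = n42154 := d30_2 D42152 D42959 (iv D42154) (iv D41158) (iv F189430)
theorem F197646 : act 8 n42959 = n42959 := d33_2 F193786 D42959 (iv D42959)
def n42960 : Q := act 9 n42152
theorem D42960 : act 9 n42152 = n42960 := rfl
theorem F197647 : act 5 n42960 = n42153 := d38_1 D42960 (iv D42153) D42152
def n42961 : Q := act 3 n42154
theorem D42961 : act 3 n42154 = n42961 := rfl
theorem F197648 : act 4 n42961 = n42158 := d24_2 D42154 D42961 (iv D42158) (iv D41162) (iv F189432)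
theorem F197649 : act 8 n42961 = n42156 := d28_2 (iv F193789) D42961 (iv D42156)
def n42962 : Q := act 9 n42154
theorem D42962 : act 9 n42154 = n42962 := rfl
theorem F197650 : act 4 n42962 = n42155 := d34_1 D42962 (iv D42155) D42154
def n42963 : Q := act 8 n42155
theorem D42963 : act 8 n42155 = n42963 := rfl
theorem F197651 : act 3 n42963 = n42160 := d28_1 D42963 (iv D42160) (iv F193790)
theorem F197652 : act 9 n42963 = n42157 := d44_2 D42155 D42963 (iv D42157) (iv D41161) (iv F189433)
def n42964 : Q := act 2 n42156
theorem D42964 : act 2 n42156 = n42964 := rfl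
theorem F197653 : act 4 n42964 = n42161 := d18_2 (iv F193792) D42964 (iv D42161)
theorem F197654 : act 5 n42964 = n42964 := d19_2 F193793 D42964 (iv D42964)
def n42965 : Q := act 2 n42158
theorem D42965 : act 2 n42158 = n42965 := rfl
theorem F197655 : act 3 n42965 = n42167 := d17_2 D42158 D42965 (iv D42167) (iv D41170) (iv F189439)
theorem F197656 : act 8 n42965 = n42161 := d22_2 (iv F193795) D42965 (iv D42161)
def n42966 : Q := act 9 n42158
theorem D42966 : act 9 n42158 = n42966 := rfl
theorem F197657 : act 3 n42966 = n42159 := d29_1 D42966 (iv D42159) D42158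
def n42967 : Q := act 8 n42159
theorem D42967 : act 8 n42159 = n42967 := rfl
theorem F197658 : act 2 n42967 = n42172 := d22_1 D42967 (iv D42172) (iv F193796)
theorem F197659 : act 4 n42967 = n42160 := d33_1 D42967 (iv D42160) (iv F193797)
theorem F197660 : act 9 n42967 = n42163 := d44_2 D42159 D42967 (iv D42163) (iv D41165) (iv F189440)
def n42968 : Q := act 1 n42161
theorem D42968 : act 1 n42161 = n42968 := rfl
theorem F197661 : act 2 n42968 = n42178 := d9_2 D42161 D42968 (iv F194937) F194938 F191534
theorem F197662 : act 3 n42968 = n42166 := d10_2 (iv F193800) D42968 F193819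
theorem F197663 : act 5 n42968 = n42164 := d12_2 (iv F193801) D42968 (iv D42164)
theorem F197664 : act 6 n42968 = n42176 := d13_2 F194952 D42968 (iv F194949)
theorem F197665 : act 9 n42175 = n42968 := d41_0 F197664 (iv D42176) D42175
def n42969 : Q := act 9 n42161
theorem D42969 : act 9 n42161 = n42969 := rfl
theorem F197666 : act 1 n42969 = n42175 := d16_1 D42969 F197665 (iv D42968)
theorem F197667 : act 2 n42969 = n42162 := d23_1 D42969 (iv D42162) D42161
theorem F197668 : act 3 n42969 = n42176 := d29_1 D42969 (iv D42176) (iv F193800)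
theorem F197669 : act 5 n42969 = n42165 := d38_1 D42969 (iv D42165) (iv F193801)
theorem F197670 : act 6 n42969 = n42166 := d41_1 D42969 (iv F194953) F194952
def n42970 : Q := act 8 n42162
theorem D42970 : act 8 n42162 = n42970 := rfl
theorem F197671 : act 3 n42970 = n42163 := d28_1 D42970 (iv D42163) (iv F193802)
theorem F197672 : act 6 n42970 = n42182 := d40_1 D42970 F193850 (iv F193804)
def n42971 : Q := act 5 n42163
theorem D42971 : act 5 n42163 = n42971 := rfl
theorem F197673 : act 1 n42971 = n42167 := d12_1 D42971 (iv F194957) F194955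
theorem F197674 : act 2 n42971 = n42182 := d19_1 D42971 (iv D42182) (iv F193805)
theorem F197675 : act 8 n42971 = n42166 := d37_2 D42163 D42971 (iv D42166) (iv D41169) (iv F189446)
def n42972 : Q := act 6 n42167
theorem D42972 : act 6 n42167 = n42972 := rfl
theorem F197676 : act 2 n42972 = n42168 := d20_1 D42972 (iv D42168) D42167
theorem F197677 : act 8 n42972 = n42175 := d40_2 (iv F193821) D42972 (iv D42175)
def n42973 : Q := act 9 n42167
theorem D42973 : act 9 n42167 = n42973 := rfl
theorem F197678 : act 2 n42973 = n42169 := d23_1 D42973 (iv D42169) D42167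
def n42974 : Q := act 7 n42168
theorem D42974 : act 7 n42168 = n42974 := rfl
theorem F197679 : act 3 n42974 = n42170 := d27_1 D42974 (iv D42170) (iv F193822)
theorem F197680 : act 8 n42974 = n42177 := d42_2 (iv F193823) D42974 (iv D42177)
def n42975 : Q := act 9 n42168
theorem D42975 : act 9 n42168 = n42975 := rfl
theorem F197681 : act 3 n42975 = n42171 := d29_1 D42975 (iv D42171) (iv F193822)
theorem F197682 : act 6 n42975 = n42169 := d41_1 D42975 (iv D42169) D42168
def n42976 : Q := act 8 n42169
theorem D42976 : act 8 n42169 = n42976 := rfl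
theorem F197683 : act 3 n42976 = n42172 := d28_1 D42976 (iv D42172) (iv F193824)
theorem F197684 : act 9 n42976 = n42179 := d44_2 D42169 D42976 (iv D42179) (iv D41178) (iv F189458)
def n42977 : Q := act 9 n42170
theorem D42977 : act 9 n42170 = n42977 := rfl
theorem F197685 : act 4 n42977 = n42173 := d34_1 D42977 (iv D42173) (iv F193825)
theorem F197686 : act 7 n42977 = n42171 := d43_1 D42977 (iv D42171) D42170
def n42978 : Q := act 8 n42171
theorem D42978 : act 8 n42171 = n42978 := rfl
theorem F197687 : act 4 n42978 = n42174 := d33_1 D42978 (iv D42174) (iv F193827)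
theorem F197688 : act 6 n42978 = n42172 := d40_1 D42978 (iv D42172) (iv F193828)
theorem F197689 : act 9 n42978 = n42181 := d44_2 D42171 D42978 (iv D42181) (iv D41180) (iv F189460)
def n42979 : Q := act 5 n42172
theorem D42979 : act 5 n42172 = n42979 := rfl
theorem F197690 : act 9 n42979 = n42182 := d38_2 (iv F193830) D42979 (iv D42182)
def n42980 : Q := act 8 n42173
theorem D42980 : act 8 n42173 = n42980 := rfl
theorem F197691 : act 7 n42980 = n42174 := d42_1 D42980 (iv D42174) (iv F193832)
theorem F197692 : act 9 n42980 = n42183 := d44_2 D42173 D42980 (iv D42183) (iv D41182) (iv F189463)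
def n42981 : Q := act 5 n42174
theorem D42981 : act 5 n42174 = n42981 := rfl
theorem F197693 : act 8 n42981 = n42203 := d37_2 D42174 D42981 (iv D42203) (iv D41212) (iv F189464)
theorem F197694 : act 9 n42981 = n42184 := d38_2 (iv F193834) D42981 (iv D42184)
def n42982 : Q := act 7 n42175
theorem D42982 : act 7 n42175 = n42982 := rfl
theorem F197695 : act 2 n42982 = n42177 := d21_1 D42982 (iv D42177) (iv F193835)
theorem F197696 : act 5 n42982 = n42226 := d36_1 D42982 (iv D42226) (iv F193836)
def n42983 : Q := act 8 n42176
theorem D42983 : act 8 n42176 = n42983 := rfl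
theorem F197697 : act 2 n42983 = n42179 := d22_1 D42983 (iv D42179) (iv F193837)
theorem F197698 : act 5 n42983 = n42181 := d37_1 D42983 (iv D42181) F189475 (iv F189485) (iv F193838)
def n42984 : Q := act 9 n42177
theorem D42984 : act 9 n42177 = n42984 := rfl
theorem F197699 : act 3 n42984 = n42180 := d29_1 D42984 (iv D42180) (iv F193839)
theorem F197700 : act 5 n42984 = n42227 := d38_1 D42984 (iv D42227) (iv F193840)
theorem F197701 : act 7 n42984 = n42178 := d43_1 D42984 (iv D42178) D42177
def n42985 : Q := act 8 n42178
theorem D42985 : act 8 n42178 = n42985 := rfl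
theorem F197702 : act 3 n42985 = n42181 := d28_1 D42985 (iv D42181) (iv F193841)
theorem F197703 : act 6 n42985 = n42179 := d40_1 D42985 (iv D42179) (iv F193843)
def n42986 : Q := act 8 n42180
theorem D42986 : act 8 n42180 = n42986 := rfl
theorem F197704 : act 4 n42986 = n42183 := d33_1 D42986 (iv D42183) (iv F193845)
theorem F197705 : act 7 n42986 = n42181 := d42_1 D42986 (iv D42181) (iv F193847)
def n42987 : Q := act 5 n42186
theorem D42987 : act 5 n42186 = n42987 := rfl
theorem F197706 : act 2 n42987 = n42191 := d19_1 D42987 (iv D42191) (iv F193856)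
theorem F197707 : act 8 n42987 = n42987 := d37_2 (iv F193858) D42987 (iv D42987) F193858 F189505
def n42988 : Q := act 9 n42186
theorem D42988 : act 9 n42186 = n42988 := rfl
theorem F197708 : act 2 n42988 = n42193 := d23_1 D42988 (iv D42193) (iv F193856)
theorem F197709 : act 4 n42988 = n42188 := d34_1 D42988 (iv D42188) (iv F193857)
theorem F197710 : act 6 n42988 = n42187 := d41_1 D42988 (iv D42187) D42186
def n42989 : Q := act 5 n42189
theorem D42989 : act 5 n42189 = n42989 := rfl
theorem F197711 : act 3 n42989 = n42191 := d25_1 D42989 (iv D42191) (iv F193864)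
theorem F197712 : act 6 n42989 = n42219 := d35_2 D42189 D42989 (iv D42219) (iv D41235) (iv F189507)
theorem F197713 : act 8 n42989 = n42989 := d37_2 (iv F193866) D42989 (iv D42989) F193866 F189522
def n42990 : Q := act 7 n42189
theorem D42990 : act 7 n42189 = n42990 := rfl
theorem F197714 : act 3 n42990 = n42192 := d27_1 D42990 (iv D42192) (iv F193864)
theorem F197715 : act 4 n42990 = n42217 := d32_1 D42990 (iv D42217) (iv F193865)
theorem F197716 : act 6 n42990 = n42209 := d39_1 D42990 (iv D42209) (iv D41220) (iv F189508) D42189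
theorem F197717 : act 8 n42990 = n42197 := d42_2 (iv F193866) D42990 (iv D42197)
def n42991 : Q := act 9 n42189
theorem D42991 : act 9 n42189 = n42991 := rfl
theorem F197718 : act 3 n42991 = n42193 := d29_1 D42991 (iv D42193) (iv F193864)
theorem F197719 : act 4 n42991 = n42218 := d34_1 D42991 (iv D42218) (iv F193865)
theorem F197720 : act 6 n42991 = n42190 := d41_1 D42991 (iv D42190) D42189
def n42992 : Q := act 7 n42191
theorem D42992 : act 7 n42191 = n42992 := rfl
theorem F197721 : act 5 n42992 = n42192 := d36_1 D42992 (iv D42192) D42191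
theorem F197722 : act 8 n42992 = n42992 := d42_2 F193871 D42992 (iv D42992)
def n42993 : Q := act 9 n42191
theorem D42993 : act 9 n42191 = n42993 := rfl
theorem F197723 : act 5 n42993 = n42193 := d38_1 D42993 (iv D42193) D42191
def n42994 : Q := act 9 n42192
theorem D42994 : act 9 n42192 = n42994 := rfl
theorem F197724 : act 4 n42994 = n42195 := d34_1 D42994 (iv D42195) (iv F193872)
theorem F197725 : act 6 n42994 = n42212 := d41_1 D42994 (iv D42212) (iv F193873)
theorem F197726 : act 7 n42994 = n42193 := d43_1 D42994 (iv D42193) D42192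
def n42995 : Q := act 8 n42193
theorem D42995 : act 8 n42193 = n42995 := rfl
theorem F197727 : act 4 n42995 = n42196 := d33_1 D42995 (iv D42196) (iv F193875)
theorem F197728 : act 6 n42995 = n42194 := d40_1 D42995 (iv D42194) (iv F193876)
theorem F197729 : act 9 n42995 = n42199 := d44_2 D42193 D42995 (iv D42199) (iv D41202) (iv F189511)
def n42996 : Q := act 8 n42195
theorem D42996 : act 8 n42195 = n42996 := rfl
theorem F197730 : act 6 n42996 = n42214 := d40_1 D42996 (iv D42214) (iv F193880)
theorem F197731 : act 7 n42996 = n42196 := d42_1 D42996 (iv D42196) (iv F193881)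
theorem F197732 : act 9 n42996 = n42200 := d44_2 D42195 D42996 (iv D42200) (iv D41204) (iv F189515)
def n42997 : Q := act 5 n42196
theorem D42997 : act 5 n42196 = n42997 := rfl
theorem F197733 : act 6 n42997 = n42203 := d35_2 (iv F193882) D42997 (iv D42203) F189550 (iv F189517)
theorem F197734 : act 9 n42997 = n42201 := d38_2 (iv F193883) D42997 (iv D42201)
def n42998 : Q := act 8 n42198
theorem D42998 : act 8 n42198 = n42998 := rfl
theorem F197735 : act 4 n42998 = n42200 := d33_1 D42998 (iv D42200) (iv F193888)
theorem F197736 : act 6 n42998 = n42216 := d40_1 D42998 (iv D42216) (iv F193890)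
theorem F197737 : act 7 n42998 = n42199 := d42_1 D42998 (iv D42199) (iv F193891)
def n42999 : Q := act 5 n42199
theorem D42999 : act 5 n42199 = n42999 := rfl
theorem F197738 : act 8 n42999 = n42999 := d37_2 D42199 D42999 (iv D42999) (iv D42199) F189527
def n43000 : Q := act 4 n42201
theorem D43000 : act 4 n42201 = n43000 := rfl
theorem F197739 : act 6 n43000 = n42204 := d31_2 (iv F193896) D43000 (iv D42204)
theorem F197740 : act 8 n43000 = n42202 := d33_2 (iv F193897) D43000 (iv D42202)
def n43001 : Q := act 4 n42203
theorem D43001 : act 4 n42203 = n43001 := rfl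
theorem F197741 : act 9 n43001 = n42204 := d34_2 (iv F193900) D43001 (iv D42204)
def n43002 : Q := act 5 n42206
theorem D43002 : act 5 n42206 = n43002 := rfl
theorem F197742 : act 2 n43002 = n42208 := d19_1 D43002 (iv D42208) (iv F193905)
theorem F197743 : act 8 n43002 = n42224 := d37_2 (iv F193906) D43002 (iv D42224) (iv D41245) (iv F189578)
def n43003 : Q := act 7 n42206
theorem D43003 : act 7 n42206 = n43003 := rfl
theorem F197744 : act 2 n43003 = n42209 := d21_1 D43003 (iv D42209) (iv F193905)
theorem F197745 : act 8 n43003 = n42215 := d42_2 (iv F193906) D43003 (iv D42215)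
def n43004 : Q := act 9 n42206
theorem D43004 : act 9 n42206 = n43004 := rfl
theorem F197746 : act 2 n43004 = n42210 := d23_1 D43004 (iv D42210) (iv F193905)
theorem F197747 : act 6 n43004 = n42207 := d41_1 D43004 (iv D42207) D42206
theorem F197748 : act 8 n43004 = n42218 := d44_1 D43004 (iv D42218) F189588 (iv F189579) (iv F193906)
def n43005 : Q := act 4 n42208
theorem D43005 : act 4 n42208 = n43005 := rfl
theorem F197749 : act 8 n43005 = n42225 := d33_2 (iv F193910) D43005 (iv D42225)
def n43006 : Q := act 9 n42208
theorem D43006 : act 9 n42208 = n43006 := rfl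
theorem F197750 : act 3 n43006 = n42211 := d29_1 D43006 (iv D42211) (iv F193909)
theorem F197751 : act 5 n43006 = n42210 := d38_1 D43006 (iv D42210) D42208
def n43007 : Q := act 9 n42209
theorem D43007 : act 9 n42209 = n43007 := rfl
theorem F197752 : act 3 n43007 = n42212 := d29_1 D43007 (iv D42212) (iv F193911)
theorem F197753 : act 7 n43007 = n42210 := d43_1 D43007 (iv D42210) D42209
def n43008 : Q := act 8 n42212
theorem D43008 : act 8 n42212 = n43008 := rfl
theorem F197754 : act 4 n43008 = n42214 := d33_1 D43008 (iv D42214) (iv F193916)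
theorem F197755 : act 7 n43008 = n42213 := d42_1 D43008 (iv D42213) (iv F193917)
theorem F197756 : act 9 n43008 = n42216 := d44_2 D42212 D43008 (iv D42216) (iv D41230) (iv F189569)
def n43009 : Q := act 9 n42217
theorem D43009 : act 9 n42217 = n43009 := rfl
theorem F197757 : act 7 n43009 = n42218 := d43_1 D43009 (iv D42218) D42217
def n43010 : Q := act 7 n42219
theorem D43010 : act 7 n42219 = n43010 := rfl
theorem F197758 : act 5 n43010 = n42220 := d36_1 D43010 (iv D42220) D42219
theorem F197759 : act 8 n43010 = n43010 := d42_2 F193930 D43010 (iv D43010)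
def n43011 : Q := act 9 n42219
theorem D43011 : act 9 n42219 = n43011 := rfl
theorem F197760 : act 5 n43011 = n42221 := d38_1 D43011 (iv D42221) D42219
def n43012 : Q := act 9 n42220
theorem D43012 : act 9 n42220 = n43012 := rfl
theorem F197761 : act 4 n43012 = n42223 := d34_1 D43012 (iv D42223) (iv F193931)
theorem F197762 : act 7 n43012 = n42221 := d43_1 D43012 (iv D42221) D42220
def n43013 : Q := act 4 n42224
theorem D43013 : act 4 n42224 = n43013 := rfl
theorem F197763 : act 2 n43013 = n42225 := d18_1 D43013 (iv D42225) (iv F193939)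
theorem F197764 : act 5 n43013 = n43013 := d30_2 D42224 D43013 (iv D43013) (iv D42224) F189610
def n43014 : Q := act 5 n42230
theorem D43014 : act 5 n42230 = n43014 := rfl
theorem F197765 : act 0 n43014 = n42725 := d4_1 D43014 F196846 (iv F193966)
theorem F197766 : act 1 n43014 = n42235 := d12_1 D43014 F194007 (iv F193967)
theorem F197767 : act 2 n43014 = n42853 := d19_1 D43014 F197287 (iv F193968)
theorem F197768 : act 3 n43014 = n42233 := d25_1 D43014 F193993 (iv F193969)
theorem F197769 : act 6 n43014 = n42577 := d35_2 (iv F193971) D43014 F196148 F192022 (iv F189678)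
theorem F197770 : act 7 n43014 = n42698 := d36_2 (iv F193972) D43014 F196723
theorem F197771 : act 8 n43014 = n42551 := d37_2 D42230 D43014 (iv D42551) (iv D41590) (iv F189671)
theorem F197772 : act 9 n43014 = n42231 := d38_2 (iv F193973) D43014 (iv D42231)
def n43015 : Q := act 4 n42231
theorem D43015 : act 4 n42231 = n43015 := rfl
theorem F197773 : act 0 n43015 = n42726 := d3_1 D43015 F196850 (iv F193974)
theorem F197774 : act 1 n43015 = n42234 := d11_1 D43015 F194000 (iv F193975)
theorem F197775 : act 2 n43015 = n42850 := d18_1 D43015 F197271 (iv F193976)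
theorem F197776 : act 3 n43015 = n42605 := d24_1 D43015 F196309 F192015 (iv F189706) (iv F193977)
theorem F197777 : act 5 n43015 = n42481 := d30_2 D42231 D43015 (iv D42481) (iv D41519) (iv F189685)
theorem F197778 : act 6 n43015 = n42576 := d31_2 (iv F193978) D43015 F196143
theorem F197779 : act 7 n43015 = n42697 := d32_2 (iv F193979) D43015 F196717
theorem F197780 : act 8 n43015 = n42232 := d33_2 (iv F193980) D43015 (iv D42232)
def n43016 : Q := act 9 n42234
theorem D43016 : act 9 n42234 = n43016 := rfl
theorem F197781 : act 0 n43016 = n42240 := d8_1 D43016 (iv D42240) (iv F193997)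
theorem F197782 : act 2 n43016 = n42474 := d23_1 D43016 (iv D42474) (iv F193998)
theorem F197783 : act 3 n43016 = n42704 := d29_1 D43016 F196749 (iv F193999)
theorem F197784 : act 4 n43016 = n42235 := d34_1 D43016 (iv D42235) (iv F194000)
theorem F197785 : act 5 n43016 = n42489 := d38_1 D43016 (iv D42489) (iv F194001)
theorem F197786 : act 6 n43016 = n42579 := d41_1 D43016 (iv D42579) (iv F194002)
theorem F197787 : act 7 n43016 = n42699 := d43_1 D43016 (iv D42699) (iv F194003)
theorem F197788 : act 8 n43016 = n42701 := d44_1 D43016 (iv D42701) F192507 (iv F189716) D42234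
def n43017 : Q := act 8 n42237
theorem D43017 : act 8 n42237 = n43017 := rfl
theorem F197789 : act 0 n43017 = n42244 := d7_1 D43017 (iv D42244) (iv F194020)
theorem F197790 : act 1 n43017 = n42747 := d15_1 D43017 (iv D42747) (iv F194021)
theorem F197791 : act 2 n43017 = n42243 := d22_1 D43017 F194074 (iv F194022)
theorem F197792 : act 3 n43017 = n42699 := d28_1 D43017 F196730 (iv F194023)
theorem F197793 : act 4 n43017 = n42238 := d33_1 D43017 (iv D42238) (iv F194024)
theorem F197794 : act 5 n43017 = n42708 := d37_1 D43017 (iv D42708) F192570 D41957 (iv F194025)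
theorem F197795 : act 6 n43017 = n42241 := d40_1 D43017 F194059 (iv F194026)
theorem F197796 : act 7 n43017 = n42704 := d42_1 D43017 (iv D42704) (iv F194027)
theorem F197797 : act 9 n43017 = n42239 := d44_2 D42237 D43017 (iv D42239) (iv D41269) (iv F189744)
def n43018 : Q := act 9 n42242
theorem D43018 : act 9 n42242 = n43018 := rfl
theorem F197798 : act 0 n43018 = n42854 := d8_1 D43018 (iv D42854) (iv F194060)
theorem F197799 : act 1 n43018 = n42321 := d16_1 D43018 (iv D42321) (iv F194061)
theorem F197800 : act 2 n43018 = n42704 := d23_1 D43018 F196749 (iv F194062)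
theorem F197801 : act 3 n43018 = n42445 := d29_1 D43018 (iv D42445) (iv F194063)
theorem F197802 : act 4 n43018 = n42245 := d34_1 D43018 (iv D42245) (iv F194064)
theorem F197803 : act 5 n43018 = n42682 := d38_1 D43018 F196648 (iv F194065)
theorem F197804 : act 6 n43018 = n42749 := d41_1 D43018 (iv D42749) (iv F194066)
theorem F197805 : act 7 n43018 = n42243 := d43_1 D43018 (iv D42243) D42242
theorem F197806 : act 8 n43018 = n42700 := d44_1 D43018 (iv D42700) F192499 (iv F189828) (iv F194067)
def n43019 : Q := act 5 n42246
theorem D43019 : act 5 n42246 = n43019 := rfl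
theorem F197807 : act 0 n43019 = n42759 := d4_1 D43019 (iv D42759) (iv F194091)
theorem F197808 : act 1 n43019 = n42909 := d12_1 D43019 (iv D42909) (iv F194092)
theorem F197809 : act 2 n43019 = n42608 := d19_1 D43019 (iv D42608) (iv F194093)
theorem F197810 : act 3 n43019 = n42955 := d25_1 D43019 (iv D42955) (iv F194094)
theorem F197811 : act 7 n43019 = n42644 := d36_2 (iv F194097) D43019 (iv D42644)
theorem F197812 : act 8 n43019 = n43019 := d37_2 D42246 D43019 (iv D43019) (iv D42246) F189840
def n43020 : Q := act 9 n42246
theorem D43020 : act 9 n42246 = n43020 := rfl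
theorem F197813 : act 0 n43020 = n42760 := d8_1 D43020 (iv D42760) (iv F194091)
theorem F197814 : act 1 n43020 = n42907 := d16_1 D43020 F197489 (iv F194092)
theorem F197815 : act 2 n43020 = n42609 := d23_1 D43020 (iv D42609) (iv F194093)
theorem F197816 : act 3 n43020 = n42956 := d29_1 D43020 (iv D42956) (iv F194094)
theorem F197817 : act 4 n43020 = n42248 := d34_1 D43020 (iv D42248) (iv F194095)
theorem F197818 : act 6 n43020 = n42277 := d41_1 D43020 (iv D42277) (iv F194096)
theorem F197819 : act 7 n43020 = n42645 := d43_1 D43020 (iv D42645) (iv F194097)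
theorem F197820 : act 8 n43020 = n42371 := d44_1 D43020 (iv D42371) (iv D41401) (iv F189843) D42246
def n43021 : Q := act 4 n42247
theorem D43021 : act 4 n42247 = n43021 := rfl
theorem F197821 : act 0 n43021 = n42761 := d3_1 D43021 (iv D42761) (iv F194098)
theorem F197822 : act 1 n43021 = n42910 := d11_1 D43021 (iv D42910) (iv F194099)
theorem F197823 : act 2 n43021 = n42610 := d18_1 D43021 (iv D42610) (iv F194100)
theorem F197824 : act 6 n43021 = n42772 := d31_2 (iv F194102) D43021 F197016
theorem F197825 : act 7 n43021 = n42646 := d32_2 (iv F194103) D43021 (iv D42646)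
theorem F197826 : act 8 n43021 = n42249 := d33_2 (iv F194104) D43021 (iv D42249)
def n43022 : Q := act 9 n42247
theorem D43022 : act 9 n42247 = n43022 := rfl
theorem F197827 : act 0 n43022 = n42762 := d8_1 D43022 (iv D42762) (iv F194098)
theorem F197828 : act 1 n43022 = n42908 := d16_1 D43022 F197491 (iv F194099)
theorem F197829 : act 2 n43022 = n42611 := d23_1 D43022 (iv D42611) (iv F194100)
theorem F197830 : act 3 n43022 = n42252 := d29_1 D43022 (iv D42252) (iv F194101)
theorem F197831 : act 5 n43022 = n42248 := d38_1 D43022 (iv D42248) D42247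
theorem F197832 : act 6 n43022 = n42768 := d41_1 D43022 F197006 (iv F194102)
theorem F197833 : act 7 n43022 = n42647 := d43_1 D43022 (iv D42647) (iv F194103)
theorem F197834 : act 8 n43022 = n42767 := d44_1 D43022 (iv D42767) F192932 (iv F189856) (iv F194104)
def n43023 : Q := act 3 n42249
theorem D43023 : act 3 n42249 = n43023 := rfl
theorem F197835 : act 0 n43023 = n42763 := d2_1 D43023 (iv D42763) (iv F194112)
theorem F197836 : act 1 n43023 = n42847 := d10_1 D43023 F197252 (iv F194113)
theorem F197837 : act 4 n43023 = n42253 := d24_2 D42249 D43023 (iv D42253) (iv D41287) (iv F189853)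
theorem F197838 : act 5 n43023 = n43023 := d25_2 F194115 D43023 (iv D43023)
theorem F197839 : act 6 n43023 = n42771 := d26_2 (iv F194116) D43023 F197012
theorem F197840 : act 7 n43023 = n42648 := d27_2 (iv F194117) D43023 (iv D42648)
theorem F197841 : act 9 n43023 = n42770 := d29_2 (iv F194118) D43023 F197010
def n43024 : Q := act 3 n42250
theorem D43024 : act 3 n42250 = n43024 := rfl
theorem F197842 : act 0 n43024 = n42764 := d2_1 D43024 (iv D42764) (iv F194119)
theorem F197843 : act 1 n43024 = n42820 := d10_1 D43024 F197171 (iv F194120)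
theorem F197844 : act 5 n43024 = n42918 := d25_2 (iv F194122) D43024 F197525
theorem F197845 : act 7 n43024 = n42649 := d27_2 (iv F194123) D43024 (iv D42649)
theorem F197846 : act 8 n43024 = n42253 := d28_2 (iv F194124) D43024 (iv D42253)
def n43025 : Q := act 6 n42250
theorem D43025 : act 6 n42250 = n43025 := rfl
theorem F197847 : act 0 n43025 = n42765 := d5_1 D43025 (iv D42765) (iv F194119)
theorem F197848 : act 1 n43025 = n43000 := d13_1 D43025 F197739 (iv F194120)
theorem F197849 : act 2 n43025 = n42261 := d20_1 D43025 (iv D42261) (iv F194121)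
theorem F197850 : act 4 n43025 = n42251 := d31_1 D43025 (iv D42251) D42250
theorem F197851 : act 7 n43025 = n42950 := d39_2 (iv F194123) D43025 (iv D42950) (iv D42132) (iv F192224)
theorem F197852 : act 8 n43025 = n42254 := d40_2 (iv F194124) D43025 (iv D42254)
def n43026 : Q := act 9 n42250
theorem D43026 : act 9 n42250 = n43026 := rfl
theorem F197853 : act 0 n43026 = n42766 := d8_1 D43026 (iv D42766) (iv F194119)
theorem F197854 : act 1 n43026 = n43001 := d16_1 D43026 F197741 (iv F194120)
theorem F197855 : act 2 n43026 = n42262 := d23_1 D43026 (iv D42262) (iv F194121)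
theorem F197856 : act 4 n43026 = n42252 := d34_1 D43026 (iv D42252) D42250
theorem F197857 : act 5 n43026 = n42921 := d38_1 D43026 (iv D42921) (iv F194122)
theorem F197858 : act 7 n43026 = n42650 := d43_1 D43026 (iv D42650) (iv F194123)
def n43027 : Q := act 9 n42251
theorem D43027 : act 9 n42251 = n43027 := rfl
theorem F197859 : act 0 n43027 = n42767 := d8_1 D43027 (iv D42767) (iv F194125)
theorem F197860 : act 1 n43027 = n42997 := d16_1 D43027 F197734 (iv F194126)
theorem F197861 : act 2 n43027 = n42264 := d23_1 D43027 (iv D42264) (iv F194127)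
theorem F197862 : act 3 n43027 = n42768 := d29_1 D43027 F197006 (iv F194128)
theorem F197863 : act 5 n43027 = n42282 := d38_1 D43027 (iv D42282) (iv F194129)
theorem F197864 : act 6 n43027 = n42252 := d41_1 D43027 (iv D42252) D42251
theorem F197865 : act 7 n43027 = n42963 := d43_1 D43027 F197652 (iv F194131)
theorem F197866 : act 8 n43027 = n42762 := d44_1 D43027 (iv D42762) F192921 F189880 (iv F194130)
def n43028 : Q := act 8 n42252
theorem D43028 : act 8 n42252 = n43028 := rfl
theorem F197867 : act 0 n43028 = n42768 := d7_1 D43028 (iv D42768) (iv F194132)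
theorem F197868 : act 1 n43028 = n42981 := d15_1 D43028 F197693 (iv F194133)
theorem F197869 : act 2 n43028 = n42265 := d22_1 D43028 (iv D42265) (iv F194134)
theorem F197870 : act 3 n43028 = n42767 := d28_1 D43028 (iv F197834) F197830
theorem F197871 : act 5 n43028 = n42377 := d37_1 D43028 (iv D42377) F190591 (iv F189868) (iv F194135)
theorem F197872 : act 6 n43028 = n42762 := d40_1 D43028 (iv F197866) F197864
theorem F197873 : act 7 n43028 = n42651 := d42_1 D43028 (iv D42651) (iv F194136)
theorem F197874 : act 9 n43028 = n42256 := d44_2 D42252 D43028 (iv D42256) (iv D41289) (iv F189861)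
def n43029 : Q := act 2 n42253
theorem D43029 : act 2 n42253 = n43029 := rfl
theorem F197875 : act 0 n43029 = n42769 := d1_1 D43029 (iv D42769) (iv F194137)
theorem F197876 : act 3 n43029 = n42266 := d17_2 D42253 D43029 (iv D42266) (iv D41296) (iv F189871)
theorem F197877 : act 5 n43029 = n42257 := d19_2 (iv F194139) D43029 (iv D42257)
theorem F197878 : act 7 n43029 = n42652 := d21_2 (iv F194140) D43029 (iv D42652)
def n43030 : Q := act 6 n42253
theorem D43030 : act 6 n42253 = n43030 := rfl
theorem F197879 : act 0 n43030 = n42770 := d5_1 D43030 (iv D42770) (iv F194137)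
theorem F197880 : act 1 n43030 = n42846 := d13_1 D43030 F197251 (iv F194138)
theorem F197881 : act 3 n43030 = n42254 := d26_1 D43030 (iv D42254) D42253
theorem F197882 : act 4 n43030 = n42771 := d31_1 D43030 (iv F197839) F197837
theorem F197883 : act 5 n43030 = n43030 := d35_1 D43030 (iv D43030) F194139 F189891 (iv F194139)
theorem F197884 : act 7 n43030 = n42845 := d39_2 (iv F194140) D43030 (iv D42845) F193208 (iv F192232)
theorem F197885 : act 9 n42763 = n43030 := d43_0 F197884 F197248 (iv F196991)
def n43031 : Q := act 9 n42253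
theorem D43031 : act 9 n42253 = n43031 := rfl
theorem F197886 : act 0 n43031 = n42771 := d8_1 D43031 (iv D42771) (iv F194137)
theorem F197887 : act 1 n43031 = n42836 := d16_1 D43031 F197219 (iv F194138)
theorem F197888 : act 3 n43031 = n42255 := d29_1 D43031 (iv D42255) D42253
theorem F197889 : act 4 n43031 = n42770 := d34_1 D43031 (iv F197841) F197837
theorem F197890 : act 5 n43031 = n42258 := d38_1 D43031 (iv D42258) (iv F194139)
theorem F197891 : act 6 n43031 = n42763 := d41_1 D43031 F197885 (iv D43030)
theorem F197892 : act 7 n43031 = n42653 := d43_1 D43031 (iv D42653) (iv F194140)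
def n43032 : Q := act 8 n42255
theorem D43032 : act 8 n42255 = n43032 := rfl
theorem F197893 : act 0 n43032 = n42772 := d7_1 D43032 (iv D42772) (iv F194148)
theorem F197894 : act 1 n43032 = n42839 := d15_1 D43032 F197229 (iv F194149)
theorem F197895 : act 2 n43032 = n42271 := d22_1 D43032 (iv D42271) (iv F194150)
theorem F197896 : act 4 n43032 = n42256 := d33_1 D43032 (iv D42256) (iv F194151)
theorem F197897 : act 6 n43032 = n42761 := d40_1 D43032 F196985 (iv F194153)
theorem F197898 : act 7 n43032 = n42654 := d42_1 D43032 (iv D42654) (iv F194154)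
def n43033 : Q := act 1 n42257
theorem D43033 : act 1 n42257 = n43033 := rfl
theorem F197899 : act 2 n43033 = n42330 := d9_2 D42257 D43033 F194616 F192850 (iv F189889)
theorem F197900 : act 3 n43033 = n42273 := d10_2 (iv F194163) D43033 (iv D42273)
theorem F197901 : act 4 n43033 = n43033 := d11_2 F194164 D43033 (iv D43033)
theorem F197902 : act 6 n43033 = n43033 := d13_2 F194165 D43033 (iv D43033)
theorem F197903 : act 7 n43033 = n42328 := d14_2 (iv F194166) D43033 F194603
theorem F197904 : act 8 n43033 = n42332 := d15_2 (iv F194167) D43033 F194630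
theorem F197905 : act 0 n42736 = n43033 := d7_3 F197904 F194629 (iv F196894)
theorem F197906 : act 9 n42399 = n43033 := d44_0 F197904 F194635 F190378 F192733 (iv F195069)
def n43034 : Q := act 9 n42257
theorem D43034 : act 9 n42257 = n43034 := rfl
theorem F197907 : act 0 n43034 = n42774 := d8_1 D43034 (iv D42774) (iv F194162)
theorem F197908 : act 1 n43034 = n42399 := d16_1 D43034 F197906 (iv D43033)
theorem F197909 : act 2 n43034 = n42258 := d23_1 D43034 (iv D42258) D42257
theorem F197910 : act 3 n43034 = n42274 := d29_1 D43034 (iv D42274) (iv F194163)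
theorem F197911 : act 4 n43034 = n43034 := d34_1 D43034 (iv D43034) F194164
theorem F197912 : act 6 n43034 = n43034 := d41_1 D43034 (iv D43034) F194165
theorem F197913 : act 7 n43034 = n42616 := d43_1 D43034 F196361 (iv F194166)
theorem F197914 : act 8 n43034 = n42553 := d44_1 D43034 F195980 F192771 (iv F192727) (iv F194167)
def n43035 : Q := act 8 n42258
theorem D43035 : act 8 n42258 = n43035 := rfl
theorem F197915 : act 0 n43035 = n42773 := d7_1 D43035 F197023 (iv F194168)
theorem F197916 : act 1 n43035 = n42736 := d15_1 D43035 F196894 (iv F194169)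
theorem F197917 : act 2 n43035 = n42553 := d22_1 D43035 (iv F197914) F197909
theorem F197918 : act 3 n43035 = n42259 := d28_1 D43035 (iv D42259) (iv F194170)
theorem F197919 : act 4 n43035 = n43035 := d33_1 D43035 (iv D43035) F194171
theorem F197920 : act 6 n43035 = n43035 := d40_1 D43035 (iv D43035) F194172
theorem F197921 : act 7 n43035 = n42655 := d42_1 D43035 (iv D42655) (iv F194173)
theorem F197922 : act 9 n43035 = n42735 := d44_2 D42258 D43035 F196889 F193199 (iv F189893)
def n43036 : Q := act 5 n42259
theorem D43036 : act 5 n42259 = n43036 := rfl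
theorem F197923 : act 0 n43036 = n42775 := d4_1 D43036 (iv D42775) (iv F194174)
theorem F197924 : act 1 n43036 = n42798 := d12_1 D43036 F197113 (iv F194175)
theorem F197925 : act 2 n43036 = n42275 := d19_1 D43036 (iv D42275) (iv F194176)
theorem F197926 : act 4 n43036 = n42381 := d30_1 D43036 (iv D42381) F190626 (iv F189904) (iv F194177)
theorem F197927 : act 7 n43036 = n42656 := d36_2 (iv F194179) D43036 (iv D42656)
theorem F197928 : act 9 n43036 = n42844 := d38_2 (iv F194180) D43036 (iv D42844)
theorem F197929 : act 6 n42964 = n43036 := d31_0 F197926 F194952 (iv F197653)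
def n43037 : Q := act 2 n42260
theorem D43037 : act 2 n42260 = n43037 := rfl
theorem F197930 : act 0 n43037 = n42776 := d1_1 D43037 (iv D42776) (iv F194181)
theorem F197931 : act 4 n43037 = n42617 := d18_2 (iv F194183) D43037 (iv D42617)
theorem F197932 : act 5 n43037 = n42688 := d19_2 (iv F194184) D43037 F196668
theorem F197933 : act 7 n43037 = n42657 := d21_2 (iv F194185) D43037 (iv D42657)
theorem F197934 : act 8 n43037 = n42266 := d22_2 (iv F194186) D43037 (iv D42266)
def n43038 : Q := act 6 n42260
theorem D43038 : act 6 n42260 = n43038 := rfl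
theorem F197935 : act 0 n43038 = n42777 := d5_1 D43038 (iv D42777) (iv F194181)
theorem F197936 : act 1 n43038 = n42498 := d13_1 D43038 (iv D42498) (iv F194182)
theorem F197937 : act 3 n43038 = n42261 := d26_1 D43038 (iv D42261) D42260
theorem F197938 : act 4 n43038 = n42618 := d31_1 D43038 (iv D42618) (iv F194183)
theorem F197939 : act 8 n43038 = n42267 := d40_2 (iv F194186) D43038 (iv D42267)
def n43039 : Q := act 9 n42260
theorem D43039 : act 9 n42260 = n43039 := rfl
theorem F197940 : act 0 n43039 = n42778 := d8_1 D43039 (iv D42778) (iv F194181)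
theorem F197941 : act 1 n43039 = n42499 := d16_1 D43039 (iv D42499) (iv F194182)
theorem F197942 : act 3 n43039 = n42262 := d29_1 D43039 (iv D42262) D42260
theorem F197943 : act 4 n43039 = n42619 := d34_1 D43039 (iv D42619) (iv F194183)
theorem F197944 : act 5 n43039 = n42690 := d38_1 D43039 (iv D42690) (iv F194184)
theorem F197945 : act 7 n43039 = n42659 := d43_1 D43039 (iv D42659) (iv F194185)
def n43040 : Q := act 5 n42261
theorem D43040 : act 5 n42261 = n43040 := rfl
theorem F197946 : act 0 n43040 = n42779 := d4_1 D43040 (iv D42779) (iv F194187)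
theorem F197947 : act 1 n43040 = n42500 := d12_1 D43040 (iv D42500) (iv F194188)
theorem F197948 : act 4 n43040 = n42285 := d30_1 D43040 (iv D42285) F190045 (iv F189916) (iv F194189)
theorem F197949 : act 6 n43040 = n42957 := d35_2 D42261 D43040 (iv D42957) (iv D42148) (iv F189910)
theorem F197950 : act 8 n43040 = n43040 := d37_2 (iv F194190) D43040 (iv D43040) F194190 F189931
def n43041 : Q := act 7 n42261
theorem D43041 : act 7 n42261 = n43041 := rfl
theorem F197951 : act 0 n43041 = n42780 := d6_1 D43041 (iv D42780) (iv F194187)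
theorem F197952 : act 1 n43041 = n42501 := d14_1 D43041 (iv D42501) (iv F194188)
theorem F197953 : act 2 n43041 = n42950 := d21_1 D43041 (iv F197851) F197849
theorem F197954 : act 4 n43041 = n42263 := d32_1 D43041 (iv D42263) (iv F194189)
theorem F197955 : act 6 n43041 = n42660 := d39_1 D43041 (iv D42660) (iv D41724) (iv F189911) D42261
theorem F197956 : act 8 n43041 = n42269 := d42_2 (iv F194190) D43041 (iv D42269)
def n43042 : Q := act 9 n42261
theorem D43042 : act 9 n42261 = n43042 := rfl
theorem F197957 : act 0 n43042 = n42781 := d8_1 D43042 (iv D42781) (iv F194187)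
theorem F197958 : act 1 n43042 = n42502 := d16_1 D43042 (iv D42502) (iv F194188)
theorem F197959 : act 4 n43042 = n42264 := d34_1 D43042 (iv D42264) (iv F194189)
theorem F197960 : act 6 n43042 = n42262 := d41_1 D43042 (iv D42262) D42261
def n43043 : Q := act 8 n42262
theorem D43043 : act 8 n42262 = n43043 := rfl
theorem F197961 : act 0 n43043 = n42782 := d7_1 D43043 (iv D42782) (iv F194191)
theorem F197962 : act 1 n43043 = n42503 := d15_1 D43043 (iv D42503) (iv F194192)
theorem F197963 : act 4 n43043 = n42265 := d33_1 D43043 (iv D42265) (iv F194193)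
theorem F197964 : act 7 n43043 = n42662 := d42_1 D43043 (iv D42662) (iv F194195)
theorem F197965 : act 9 n43043 = n42271 := d44_2 D42262 D43043 (iv D42271) (iv D41298) (iv F189912)
def n43044 : Q := act 9 n42263
theorem D43044 : act 9 n42263 = n43044 := rfl
theorem F197966 : act 0 n43044 = n42783 := d8_1 D43044 (iv D42783) (iv F194196)
theorem F197967 : act 1 n43044 = n42504 := d16_1 D43044 (iv D42504) (iv F194197)
theorem F197968 : act 2 n43044 = n42963 := d23_1 D43044 F197652 (iv F194198)
theorem F197969 : act 3 n43044 = n42622 := d29_1 D43044 (iv D42622) (iv F194199)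
theorem F197970 : act 5 n43044 = n42289 := d38_1 D43044 (iv D42289) (iv F194200)
theorem F197971 : act 6 n43044 = n42663 := d41_1 D43044 (iv D42663) (iv F194201)
theorem F197972 : act 7 n43044 = n42264 := d43_1 D43044 (iv D42264) D42263
theorem F197973 : act 8 n43044 = n42871 := d44_1 D43044 (iv D42871) F193407 F189943 (iv F194202)
def n43045 : Q := act 8 n42264
theorem D43045 : act 8 n42264 = n43045 := rfl
theorem F197974 : act 0 n43045 = n42611 := d7_1 D43045 F196333 (iv F194203)
theorem F197975 : act 1 n43045 = n42505 := d15_1 D43045 (iv D42505) (iv F194204)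
theorem F197976 : act 2 n43045 = n42762 := d22_1 D43045 (iv F197866) F197861
theorem F197977 : act 3 n43045 = n42571 := d28_1 D43045 F196113 (iv F194205)
theorem F197978 : act 5 n43045 = n42570 := d37_1 D43045 F196105 F194373 (iv D42290) (iv F194206)
theorem F197979 : act 6 n43045 = n42265 := d40_1 D43045 (iv D42265) (iv F194207)
theorem F197980 : act 7 n43045 = n42871 := d42_1 D43045 (iv F197973) F197972
theorem F197981 : act 9 n43045 = n42272 := d44_2 D42264 D43045 (iv D42272) (iv D41300) (iv F189917)
def n43046 : Q := act 1 n42266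
theorem D43046 : act 1 n42266 = n43046 := rfl
theorem F197982 : act 0 n43046 = n42798 := d0_1 D43046 (iv F197924) F197923 F197032 (iv F194214)
theorem F197983 : act 2 n43046 = n42334 := d9_2 D42266 D43046 F194642 (iv D41541) (iv F189924)
theorem F197984 : act 4 n43046 = n42623 := d11_2 (iv F194215) D43046 (iv D42623)
theorem F197985 : act 5 n43046 = n42273 := d12_2 (iv F194216) D43046 (iv D42273)
theorem F197986 : act 7 n43046 = n42333 := d14_2 (iv F194217) D43046 F194637
theorem F197987 : act 9 n42406 = n43046 := d43_0 F197986 F194640 (iv F195106)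
def n43047 : Q := act 6 n42266
theorem D43047 : act 6 n42266 = n43047 := rfl
theorem F197988 : act 0 n43047 = n42784 := d5_1 D43047 (iv D42784) (iv F194214)
theorem F197989 : act 2 n43047 = n42267 := d20_1 D43047 (iv D42267) D42266
theorem F197990 : act 4 n43047 = n42624 := d31_1 D43047 (iv D42624) (iv F194215)
theorem F197991 : act 5 n43047 = n43047 := d35_1 D43047 (iv D43047) F194216 F189958 (iv F194216)
theorem F197992 : act 9 n43013 = n43047 := d34_0 F197990 F196394 D43013
def n43048 : Q := act 9 n42266
theorem D43048 : act 9 n42266 = n43048 := rfl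
theorem F197993 : act 0 n43048 = n42785 := d8_1 D43048 (iv D42785) (iv F194214)
theorem F197994 : act 1 n43048 = n42406 := d16_1 D43048 F197987 (iv D43046)
theorem F197995 : act 2 n43048 = n42268 := d23_1 D43048 (iv D42268) D42266
theorem F197996 : act 4 n43048 = n42333 := d34_1 D43048 F194640 (iv F194215)
theorem F197997 : act 5 n43048 = n42274 := d38_1 D43048 (iv D42274) (iv F194216)
theorem F197998 : act 6 n43048 = n43013 := d41_1 D43048 F197992 (iv D43047)
theorem F197999 : act 7 n43048 = n42623 := d43_1 D43048 F196390 (iv F194217)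
def n43049 : Q := act 7 n42267
theorem D43049 : act 7 n42267 = n43049 := rfl
theorem F198000 : act 0 n43049 = n42786 := d6_1 D43049 (iv D42786) (iv F194218)
theorem F198001 : act 1 n43049 = n42507 := d14_1 D43049 (iv D42507) (iv F194219)
theorem F198002 : act 3 n43049 = n42269 := d27_1 D43049 (iv D42269) (iv F194220)
theorem F198003 : act 4 n43049 = n42625 := d32_1 D43049 (iv D42625) (iv F194221)
theorem F198004 : act 5 n43049 = n43049 := d36_1 D43049 (iv D43049) F194222
theorem F198005 : act 6 n43049 = n42666 := d39_1 D43049 (iv D42666) (iv D41730) (iv F189927) D42267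
theorem F198006 : act 9 n43049 = n42872 := d43_2 F194223 D43049 F197377
def n43050 : Q := act 8 n42268
theorem D43050 : act 8 n42268 = n43050 := rfl
theorem F198007 : act 0 n43050 = n42787 := d7_1 D43050 (iv D42787) (iv F194224)
theorem F198008 : act 1 n43050 = n42509 := d15_1 D43050 (iv D42509) (iv F194225)
theorem F198009 : act 3 n43050 = n42271 := d28_1 D43050 (iv D42271) (iv F194226)
theorem F198010 : act 4 n43050 = n42315 := d33_1 D43050 F194526 (iv F194227)
theorem F198011 : act 5 n43050 = n42522 := d37_1 D43050 F195805 F191432 (iv F189967) (iv F194228)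
theorem F198012 : act 6 n43050 = n43005 := d40_1 D43050 F197749 (iv F194229)
theorem F198013 : act 7 n43050 = n42668 := d42_1 D43050 (iv D42668) (iv F194230)
def n43051 : Q := act 8 n42270
theorem D43051 : act 8 n42270 = n43051 := rfl
theorem F198014 : act 0 n43051 = n42610 := d7_1 D43051 F196328 (iv F194238)
theorem F198015 : act 1 n43051 = n42511 := d15_1 D43051 (iv D42511) (iv F194239)
theorem F198016 : act 2 n43051 = n42761 := d22_1 D43051 F196985 (iv F194240)
theorem F198017 : act 3 n43051 = n43005 := d28_1 D43051 F197749 (iv F194241)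
theorem F198018 : act 4 n43051 = n42272 := d33_1 D43051 (iv D42272) (iv F194242)
theorem F198019 : act 6 n43051 = n42271 := d40_1 D43051 (iv D42271) (iv F194244)
theorem F198020 : act 7 n43051 = n42870 := d42_1 D43051 F197371 (iv F194245)
def n43052 : Q := act 5 n42271
theorem D43052 : act 5 n42271 = n43052 := rfl
theorem F198021 : act 0 n43052 = n42788 := d4_1 D43052 (iv D42788) (iv F194246)
theorem F198022 : act 1 n43052 = n42512 := d12_1 D43052 (iv D42512) (iv F194247)
theorem F198023 : act 3 n43052 = n42522 := d25_1 D43052 (iv F198011) F198009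
theorem F198024 : act 4 n43052 = n42388 := d30_1 D43052 (iv D42388) F190679 (iv F189954) (iv F194248)
theorem F198025 : act 7 n43052 = n42670 := d36_2 (iv F194249) D43052 (iv D42670)
theorem F198026 : act 8 n43052 = n42275 := d37_2 D42271 D43052 (iv D42275) (iv D41304) (iv F189935)
theorem F198027 : act 6 n42961 = n43052 := d40_3 F198026 (iv F194277) (iv F197649)
def n43053 : Q := act 6 n42276
theorem D43053 : act 6 n42276 = n43053 := rfl
theorem F198028 : act 0 n43053 = n42800 := d5_1 D43053 (iv D42800) (iv F194278)
theorem F198029 : act 1 n43053 = n42892 := d13_1 D43053 (iv D42892) (iv F194279)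
theorem F198030 : act 2 n43053 = n42911 := d20_1 D43053 (iv D42911) (iv F194280)
theorem F198031 : act 3 n43053 = n42628 := d26_1 D43053 F196410 (iv F194281)
theorem F198032 : act 4 n43053 = n42718 := d31_1 D43053 F196822 (iv F194282)
theorem F198033 : act 8 n43053 = n42336 := d40_2 (iv F194284) D43053 (iv D42336)
def n43054 : Q := act 9 n42276
theorem D43054 : act 9 n42276 = n43054 := rfl
theorem F198034 : act 0 n43054 = n42801 := d8_1 D43054 (iv D42801) (iv F194278)
theorem F198035 : act 1 n43054 = n42893 := d16_1 D43054 (iv D42893) (iv F194279)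
theorem F198036 : act 2 n43054 = n42912 := d23_1 D43054 (iv D42912) (iv F194280)
theorem F198037 : act 3 n43054 = n42889 := d29_1 D43054 (iv D42889) (iv F194281)
theorem F198038 : act 4 n43054 = n42917 := d34_1 D43054 (iv D42917) (iv F194282)
theorem F198039 : act 5 n43054 = n42277 := d38_1 D43054 (iv D42277) D42276
theorem F198040 : act 7 n43054 = n42296 := d43_1 D43054 (iv D42296) (iv F194283)
theorem F198041 : act 8 n43054 = n42931 := d44_1 D43054 F197567 F193677 (iv F190359) (iv F194284)
def n43055 : Q := act 6 n42278
theorem D43055 : act 6 n42278 = n43055 := rfl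
theorem F198042 : act 0 n43055 = n42802 := d5_1 D43055 (iv D42802) (iv F194292)
theorem F198043 : act 1 n43055 = n42890 := d13_1 D43055 (iv D42890) (iv F194293)
theorem F198044 : act 2 n43055 = n42938 := d20_1 D43055 (iv D42938) (iv F194294)
theorem F198045 : act 3 n43055 = n42279 := d26_1 D43055 (iv D42279) D42278
theorem F198046 : act 4 n43055 = n42812 := d31_1 D43055 F197152 (iv F194295)
theorem F198047 : act 8 n43055 = n42283 := d40_2 (iv F194298) D43055 (iv D42283)
def n43056 : Q := act 9 n42278
theorem D43056 : act 9 n42278 = n43056 := rfl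
theorem F198048 : act 0 n43056 = n42803 := d8_1 D43056 (iv D42803) (iv F194292)
theorem F198049 : act 1 n43056 = n42891 := d16_1 D43056 (iv D42891) (iv F194293)
theorem F198050 : act 2 n43056 = n42931 := d23_1 D43056 F197567 (iv F194294)
theorem F198051 : act 3 n43056 = n42280 := d29_1 D43056 (iv D42280) D42278
theorem F198052 : act 4 n43056 = n42920 := d34_1 D43056 F197534 (iv F194295)
theorem F198053 : act 5 n43056 = n42888 := d38_1 D43056 (iv D42888) (iv F194296)
theorem F198054 : act 7 n43056 = n42306 := d43_1 D43056 (iv D42306) (iv F194297)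
theorem F198055 : act 8 n43056 = n42912 := d44_1 D43056 (iv D42912) F193559 (iv F190028) (iv F194298)
def n43057 : Q := act 5 n42279
theorem D43057 : act 5 n42279 = n43057 := rfl
theorem F198056 : act 0 n43057 = n42804 := d4_1 D43057 (iv D42804) (iv F194299)
theorem F198057 : act 1 n43057 = n42999 := d12_1 D43057 (iv D42999) (iv F194300)
theorem F198058 : act 2 n43057 = n42285 := d19_1 D43057 (iv D42285) (iv F194301)
theorem F198059 : act 6 n43057 = n42987 := d35_2 D42279 D43057 (iv D42987) (iv D42186) (iv F190007)
theorem F198060 : act 8 n43057 = n43057 := d37_2 (iv F194303) D43057 (iv D43057) F194303 F190033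
def n43058 : Q := act 7 n42279
theorem D43058 : act 7 n42279 = n43058 := rfl
theorem F198061 : act 0 n43058 = n42805 := d6_1 D43058 (iv D42805) (iv F194299)
theorem F198062 : act 1 n43058 = n42998 := d14_1 D43058 F197737 (iv F194300)
theorem F198063 : act 2 n43058 = n42286 := d21_1 D43058 (iv D42286) (iv F194301)
theorem F198064 : act 4 n43058 = n42281 := d32_1 D43058 (iv D42281) (iv F194302)
theorem F198065 : act 6 n43058 = n42308 := d39_1 D43058 (iv D42308) (iv D41334) (iv F190008) D42279
theorem F198066 : act 8 n43058 = n42284 := d42_2 (iv F194303) D43058 (iv D42284)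
def n43059 : Q := act 9 n42279
theorem D43059 : act 9 n42279 = n43059 := rfl
theorem F198067 : act 0 n43059 = n42806 := d8_1 D43059 (iv D42806) (iv F194299)
theorem F198068 : act 1 n43059 = n42995 := d16_1 D43059 F197729 (iv F194300)
theorem F198069 : act 2 n43059 = n42287 := d23_1 D43059 (iv D42287) (iv F194301)
theorem F198070 : act 4 n43059 = n42282 := d34_1 D43059 (iv D42282) (iv F194302)
theorem F198071 : act 6 n43059 = n42280 := d41_1 D43059 (iv D42280) D42279
theorem F198072 : act 8 n43059 = n42914 := d44_1 D43059 (iv D42914) F193562 (iv F190034) (iv F194303)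
def n43060 : Q := act 9 n42281
theorem D43060 : act 9 n42281 = n43060 := rfl
theorem F198073 : act 0 n43060 = n42807 := d8_1 D43060 (iv D42807) (iv F194311)
theorem F198074 : act 1 n43060 = n42996 := d16_1 D43060 F197732 (iv F194312)

end Cfsg.Agent.Helper17.SP6TC
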