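import Cfsg.Agent.Helper17.SP6TC.Facts15

set_option autoImplicit false
set_option linter.all false

noncomputable section

namespace Cfsg.Agent.Helper17.SP6TC

theorem F198075 : act 2 n43060 = n42289 := d23_1 D43060 (iv D42289) (iv F194313)
theorem F198076 : act 3 n43060 = n42791 := d29_1 D43060 (iv D42791) (iv F194314)
theorem F198077 : act 5 n43060 = n42963 := d38_1 D43060 F197652 (iv F194315)
theorem F198078 : act 6 n43060 = n42310 := d41_1 D43060 (iv D42310) (iv F194316)
theorem F198079 : act 7 n43060 = n42282 := d43_1 D43060 (iv D42282) D42281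
theorem F198080 : act 8 n43060 = n42915 := d44_1 D43060 (iv D42915) F193571 (iv F190041) (iv F194317)
def n43061 : Q := act 7 n42283
theorem D43061 : act 7 n42283 = n43061 := rfl
theorem F198081 : act 0 n43061 = n42808 := d6_1 D43061 (iv D42808) (iv F194324)
theorem F198082 : act 1 n43061 = n42933 := d14_1 D43061 (iv D42933) (iv F194325)
theorem F198083 : act 2 n43061 = n42939 := d21_1 D43061 (iv D42939) (iv F194326)
theorem F198084 : act 3 n43061 = n42284 := d27_1 D43061 (iv D42284) (iv F194327)
theorem F198085 : act 4 n43061 = n42789 := d32_1 D43061 F197076 (iv F194328)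
theorem F198086 : act 5 n43061 = n43061 := d36_1 D43061 (iv D43061) F194329
theorem F198087 : act 6 n43061 = n42312 := d39_1 D43061 (iv D42312) (iv D41339) (iv F190027) D42283
theorem F198088 : act 9 n43061 = n42916 := d43_2 (iv F194330) D43061 (iv D42916)
def n43062 : Q := act 7 n42285
theorem D43062 : act 7 n42285 = n43062 := rfl
theorem F198089 : act 0 n43062 = n42809 := d6_1 D43062 (iv D42809) (iv F194338)
theorem F198090 : act 1 n43062 = n42748 := d14_1 D43062 F196948 (iv F194339)
theorem F198091 : act 3 n43062 = n43010 := d27_1 D43062 (iv D43010) (iv F194340)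
theorem F198092 : act 5 n43062 = n42286 := d36_1 D43062 (iv D42286) D42285
theorem F198093 : act 8 n43062 = n43062 := d42_2 F194342 D43062 (iv D43062)
def n43063 : Q := act 9 n42285
theorem D43063 : act 9 n42285 = n43063 := rfl
theorem F198094 : act 0 n43063 = n42810 := d8_1 D43063 (iv D42810) (iv F194338)
theorem F198095 : act 1 n43063 = n42754 := d16_1 D43063 (iv D42754) (iv F194339)
theorem F198096 : act 3 n43063 = n43011 := d29_1 D43063 (iv D43011) (iv F194340)
theorem F198097 : act 5 n43063 = n42287 := d38_1 D43063 (iv D42287) D42285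
theorem F198098 : act 6 n43063 = n42993 := d41_1 D43063 (iv D42993) (iv F194341)
def n43064 : Q := act 9 n42286
theorem D43064 : act 9 n42286 = n43064 := rfl
theorem F198099 : act 0 n43064 = n42811 := d8_1 D43064 (iv D42811) (iv F194343)
theorem F198100 : act 1 n43064 = n42749 := d16_1 D43064 (iv D42749) (iv F194344)
theorem F198101 : act 3 n43064 = n43012 := d29_1 D43064 (iv D43012) (iv F194345)
theorem F198102 : act 4 n43064 = n42289 := d34_1 D43064 (iv D42289) (iv F194346)
theorem F198103 : act 6 n43064 = n42321 := d41_1 D43064 (iv D42321) (iv F194347)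
theorem F198104 : act 7 n43064 = n42287 := d43_1 D43064 (iv D42287) D42286
def n43065 : Q := act 8 n42287
theorem D43065 : act 8 n42287 = n43065 := rfl
theorem F198105 : act 0 n43065 = n42639 := d7_1 D43065 F196452 (iv F194349)
theorem F198106 : act 1 n43065 = n42607 := d15_1 D43065 F196317 (iv F194350)
theorem F198107 : act 2 n43065 = n42914 := d22_1 D43065 (iv F198072) F198069
theorem F198108 : act 3 n43065 = n42633 := d28_1 D43065 F196435 (iv F194351)
theorem F198109 : act 4 n43065 = n42290 := d33_1 D43065 (iv D42290) (iv F194352)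
theorem F198110 : act 6 n43065 = n42288 := d40_1 D43065 (iv D42288) (iv F194353)
theorem F198111 : act 9 n43065 = n42292 := d44_2 D42287 D43065 (iv D42292) (iv D41321) (iv F190046)
def n43066 : Q := act 8 n42289
theorem D43066 : act 8 n42289 = n43066 := rfl
theorem F198112 : act 0 n43066 = n42592 := d7_1 D43066 F196220 (iv F194362)
theorem F198113 : act 1 n43066 = n42581 := d15_1 D43066 F196166 (iv F194363)
theorem F198114 : act 2 n43066 = n42915 := d22_1 D43066 (iv F198080) F198075
theorem F198115 : act 3 n43066 = n42558 := d28_1 D43066 F196017 (iv F194364)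
theorem F198116 : act 5 n43066 = n42557 := d37_1 D43066 F196009 (iv F197374) (iv F197973) F197970
theorem F198117 : act 6 n43066 = n42323 := d40_1 D43066 (iv D42323) (iv F194365)
theorem F198118 : act 7 n43066 = n42290 := d42_1 D43066 (iv D42290) (iv F194366)
theorem F198119 : act 9 n43066 = n42293 := d44_2 D42289 D43066 (iv D42293) (iv D41323) (iv F190057)
def n43067 : Q := act 8 n42291
theorem D43067 : act 8 n42291 = n43067 := rfl
theorem F198120 : act 0 n43067 = n42591 := d7_1 D43067 F196215 (iv F194374)
theorem F198121 : act 1 n43067 = n42580 := d15_1 D43067 (iv D42580) (iv F194375)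
theorem F198122 : act 2 n43067 = n42913 := d22_1 D43067 F197506 (iv F194376)
theorem F198123 : act 3 n43067 = n42585 := d28_1 D43067 (iv D42585) (iv F194377)
theorem F198124 : act 4 n43067 = n42293 := d33_1 D43067 (iv D42293) (iv F194378)
theorem F198125 : act 6 n43067 = n42327 := d40_1 D43067 (iv D42327) (iv F194380)
theorem F198126 : act 7 n43067 = n42292 := d42_1 D43067 (iv D42292) (iv F194381)
def n43068 : Q := act 5 n42292
theorem D43068 : act 5 n42292 = n43068 := rfl
theorem F198127 : act 0 n43068 = n42636 := d4_1 D43068 F196444 (iv F194382)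
theorem F198128 : act 1 n43068 = n42606 := d12_1 D43068 (iv D42606) (iv F194383)
theorem F198129 : act 2 n43068 = n42753 := d19_1 D43068 F196962 (iv F194384)
theorem F198130 : act 3 n43068 = n42632 := d25_1 D43068 (iv D42632) (iv F194385)
theorem F198131 : act 4 n43068 = n42578 := d30_1 D43068 (iv D42578) F191819 (iv F190100) (iv F194386)
theorem F198132 : act 6 n43068 = n42739 := d35_2 (iv F194387) D43068 (iv D42739) F192803 (iv F190087)
theorem F198133 : act 8 n43068 = n43068 := d37_2 D42292 D43068 (iv D43068) (iv D42292) F190080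
def n43069 : Q := act 6 n42294
theorem D43069 : act 6 n42294 = n43069 := rfl
theorem F198134 : act 0 n43069 = n42818 := d5_1 D43069 (iv D42818) (iv F194395)
theorem F198135 : act 1 n43069 = n42938 := d13_1 D43069 (iv D42938) (iv F194396)
theorem F198136 : act 2 n43069 = n42858 := d20_1 D43069 (iv D42858) (iv F194397)
theorem F198137 : act 3 n43069 = n42901 := d26_1 D43069 F197473 (iv F194398)
theorem F198138 : act 4 n43069 = n42295 := d31_1 D43069 (iv D42295) D42294
theorem F198139 : act 8 n43069 = n42337 := d40_2 (iv F194401) D43069 (iv D42337)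
def n43070 : Q := act 9 n42294
theorem D43070 : act 9 n42294 = n43070 := rfl
theorem F198140 : act 0 n43070 = n42819 := d8_1 D43070 (iv D42819) (iv F194395)
theorem F198141 : act 1 n43070 = n42931 := d16_1 D43070 F197567 (iv F194396)
theorem F198142 : act 2 n43070 = n42859 := d23_1 D43070 (iv D42859) (iv F194397)
theorem F198143 : act 3 n43070 = n42897 := d29_1 D43070 F197458 (iv F194398)
theorem F198144 : act 4 n43070 = n42296 := d34_1 D43070 (iv D42296) D42294
theorem F198145 : act 5 n43070 = n42299 := d38_1 D43070 (iv D42299) (iv F194399)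
theorem F198146 : act 7 n43070 = n42917 := d43_1 D43070 (iv D42917) (iv F194400)
theorem F198147 : act 8 n43070 = n42893 := d44_1 D43070 (iv D42893) F193490 (iv F190366) (iv F194401)
def n43071 : Q := act 7 n42295
theorem D43071 : act 7 n42295 = n43071 := rfl
theorem F198148 : act 0 n43071 = n42820 := d6_1 D43071 (iv D42820) (iv F194402)
theorem F198149 : act 1 n43071 = n42947 := d14_1 D43071 (iv D42947) (iv F194403)
theorem F198150 : act 2 n43071 = n42952 := d21_1 D43071 (iv D42952) (iv F194404)
theorem F198151 : act 3 n43071 = n42696 := d27_1 D43071 F196711 (iv F194405)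
theorem F198152 : act 5 n43071 = n42728 := d36_1 D43071 (iv D42728) (iv F194406)
theorem F198153 : act 8 n43071 = n42338 := d42_2 (iv F194407) D43071 (iv D42338)
def n43072 : Q := act 9 n42295
theorem D43072 : act 9 n42295 = n43072 := rfl
theorem F198154 : act 0 n43072 = n42821 := d8_1 D43072 (iv D42821) (iv F194402)
theorem F198155 : act 1 n43072 = n42948 := d16_1 D43072 (iv D42948) (iv F194403)
theorem F198156 : act 2 n43072 = n42953 := d23_1 D43072 (iv D42953) (iv F194404)
theorem F198157 : act 3 n43072 = n42940 := d29_1 D43072 (iv D42940) (iv F194405)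
theorem F198158 : act 5 n43072 = n42729 := d38_1 D43072 (iv D42729) (iv F194406)
theorem F198159 : act 6 n43072 = n42296 := d41_1 D43072 (iv D42296) D42295
def n43073 : Q := act 8 n42296
theorem D43073 : act 8 n42296 = n43073 := rfl
theorem F198160 : act 0 n43073 = n42822 := d7_1 D43073 (iv D42822) (iv F194408)
theorem F198161 : act 1 n43073 = n42917 := d15_1 D43073 F197523 (iv F194409)
theorem F198162 : act 2 n43073 = n42306 := d22_1 D43073 F194474 (iv F194410)
theorem F198163 : act 3 n43073 = n42314 := d28_1 D43073 F194521 (iv F194411)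
theorem F198164 : act 4 n43073 = n42893 := d33_1 D43073 (iv F198147) F198144
theorem F198165 : act 5 n43073 = n42852 := d37_1 D43073 (iv D42852) F193266 (iv F190112) (iv F194412)
theorem F198166 : act 7 n43073 = n42931 := d42_1 D43073 (iv F198041) F198040
theorem F198167 : act 9 n43073 = n42304 := d44_2 D42296 D43073 F194465 F190183 (iv F190106)
def n43074 : Q := act 6 n42297
theorem D43074 : act 6 n42297 = n43074 := rfl
theorem F198168 : act 0 n43074 = n42823 := d5_1 D43074 (iv D42823) (iv F194413)
theorem F198169 : act 1 n43074 = n42935 := d13_1 D43074 F197586 (iv F194414)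
theorem F198170 : act 2 n43074 = n42892 := d20_1 D43074 (iv D42892) (iv F194415)
theorem F198171 : act 3 n43074 = n42298 := d26_1 D43074 (iv D42298) D42297
theorem F198172 : act 4 n43074 = n42305 := d31_1 D43074 (iv D42305) (iv F194416)
theorem F198173 : act 8 n43074 = n42302 := d40_2 (iv F194419) D43074 (iv D42302)
def n43075 : Q := act 9 n42297
theorem D43075 : act 9 n42297 = n43075 := rfl
theorem F198174 : act 0 n43075 = n42824 := d8_1 D43075 (iv D42824) (iv F194413)
theorem F198175 : act 1 n43075 = n42926 := d16_1 D43075 F197556 (iv F194414)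
theorem F198176 : act 2 n43075 = n42893 := d23_1 D43075 (iv D42893) (iv F194415)
theorem F198177 : act 3 n43075 = n42299 := d29_1 D43075 (iv D42299) D42297
theorem F198178 : act 4 n43075 = n42306 := d34_1 D43075 (iv D42306) (iv F194416)
theorem F198179 : act 5 n43075 = n42897 := d38_1 D43075 F197458 (iv F194417)
theorem F198180 : act 7 n43075 = n42920 := d43_1 D43075 F197534 (iv F194418)
theorem F198181 : act 8 n43075 = n42859 := d44_1 D43075 (iv D42859) F193340 (iv F190137) (iv F194419)
def n43076 : Q := act 5 n42298
theorem D43076 : act 5 n42298 = n43076 := rfl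
theorem F198182 : act 0 n43076 = n42825 := d4_1 D43076 (iv D42825) (iv F194420)
theorem F198183 : act 1 n43076 = n42937 := d12_1 D43076 (iv D42937) (iv F194421)
theorem F198184 : act 2 n43076 = n42902 := d19_1 D43076 (iv D42902) (iv F194422)
theorem F198185 : act 4 n43076 = n42730 := d30_1 D43076 (iv D42730) F192696 (iv F190122) (iv F194423)
theorem F198186 : act 8 n43076 = n43076 := d37_2 (iv F194424) D43076 (iv D43076) F194424 F190142
def n43077 : Q := act 7 n42298
theorem D43077 : act 7 n42298 = n43077 := rfl
theorem F198187 : act 0 n43077 = n42826 := d6_1 D43077 (iv D42826) (iv F194420)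
theorem F198188 : act 1 n43077 = n42936 := d14_1 D43077 F197588 (iv F194421)
theorem F198189 : act 2 n43077 = n42757 := d21_1 D43077 F196973 (iv F194422)
theorem F198190 : act 4 n43077 = n42300 := d32_1 D43077 (iv D42300) (iv F194423)
theorem F198191 : act 6 n43077 = n42790 := d39_1 D43077 F197080 F193083 (iv F190116) D42298
theorem F198192 : act 8 n43077 = n42303 := d42_2 (iv F194424) D43077 (iv D42303)
def n43078 : Q := act 9 n42298
theorem D43078 : act 9 n42298 = n43078 := rfl
theorem F198193 : act 0 n43078 = n42827 := d8_1 D43078 (iv D42827) (iv F194420)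
theorem F198194 : act 1 n43078 = n42930 := d16_1 D43078 F197564 (iv F194421)
theorem F198195 : act 2 n43078 = n42903 := d23_1 D43078 (iv D42903) (iv F194422)
theorem F198196 : act 4 n43078 = n42301 := d34_1 D43078 (iv D42301) (iv F194423)
theorem F198197 : act 6 n43078 = n42299 := d41_1 D43078 (iv D42299) D42298
theorem F198198 : act 8 n43078 = n42862 := d44_1 D43078 (iv D42862) F193343 (iv F190143) (iv F194424)
def n43079 : Q := act 9 n42300
theorem D43079 : act 9 n42300 = n43079 := rfl
theorem F198199 : act 0 n43079 = n42828 := d8_1 D43079 (iv D42828) (iv F194431)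
theorem F198200 : act 1 n43079 = n42932 := d16_1 D43079 F197570 (iv F194432)
theorem F198201 : act 2 n43079 = n42758 := d23_1 D43079 (iv D42758) (iv F194433)
theorem F198202 : act 3 n43079 = n42310 := d29_1 D43079 (iv D42310) (iv F194434)
theorem F198203 : act 5 n43079 = n42734 := d38_1 D43079 (iv D42734) (iv F194435)
theorem F198204 : act 6 n43079 = n42791 := d41_1 D43079 (iv D42791) (iv F194436)
theorem F198205 : act 7 n43079 = n42301 := d43_1 D43079 (iv D42301) D42300
theorem F198206 : act 8 n43079 = n42863 := d44_1 D43079 (iv D42863) F193353 (iv F190150) (iv F194437)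
def n43080 : Q := act 7 n42302
theorem D43080 : act 7 n42302 = n43080 := rfl
theorem F198207 : act 0 n43080 = n42829 := d6_1 D43080 (iv D42829) (iv F194445)
theorem F198208 : act 1 n43080 = n42934 := d14_1 D43080 F197582 (iv F194446)
theorem F198209 : act 2 n43080 = n42900 := d21_1 D43080 (iv D42900) (iv F194447)
theorem F198210 : act 3 n43080 = n42303 := d27_1 D43080 (iv D42303) (iv F194448)
theorem F198211 : act 4 n43080 = n42312 := d32_1 D43080 (iv D42312) (iv F194449)
theorem F198212 : act 5 n43080 = n43080 := d36_1 D43080 (iv D43080) F194450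
theorem F198213 : act 6 n43080 = n42789 := d39_1 D43080 F197076 F193079 (iv F190136) D42302
theorem F198214 : act 9 n43080 = n42864 := d43_2 (iv F194451) D43080 (iv D42864)
def n43081 : Q := act 6 n42304
theorem D43081 : act 6 n42304 = n43081 := rfl
theorem F198215 : act 0 n43081 = n42830 := d5_1 D43081 (iv D42830) (iv F194459)
theorem F198216 : act 1 n43081 = n42718 := d13_1 D43081 F196822 (iv F194460)
theorem F198217 : act 2 n43081 = n42305 := d20_1 D43081 (iv D42305) D42304
theorem F198218 : act 3 n43081 = n42313 := d26_1 D43081 (iv D42313) (iv F194461)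
theorem F198219 : act 4 n43081 = n42892 := d31_1 D43081 (iv D42892) (iv F194462)
theorem F198220 : act 8 n43081 = n42311 := d40_2 (iv F194465) D43081 (iv D42311)
def n43082 : Q := act 5 n42305
theorem D43082 : act 5 n42305 = n43082 := rfl
theorem F198221 : act 0 n43082 = n42618 := d4_1 D43082 F196366 (iv F194466)
theorem F198222 : act 1 n43082 = n42744 := d12_1 D43082 F196930 (iv F194467)
theorem F198223 : act 3 n43082 = n42307 := d25_1 D43082 (iv D42307) (iv F194468)
theorem F198224 : act 6 n43082 = n42572 := d35_2 D42305 D43082 F196117 F192827 (iv F190153)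
theorem F198225 : act 8 n43082 = n42329 := d37_2 (iv F194469) D43082 (iv D42329) F190289 (iv F190187)
theorem F198226 : act 4 n42777 = n43082 := d45_2 F196994 (iv F197038) (iv D43082) (iv D42305) (iv F194297) F194298 F190024 F189286 (iv D40020) (iv D38864) F174017 F167202 (iv D34366) F150949 (iv D30770) (iv D25890) (iv D20407) (iv D15955) (iv F72719) F72720 (iv D12406) (iv D9685) (iv D7633) (iv D6062) F23556 F23557 (iv D3789) F13011 F9262 F6582 F4664 F4665 F3298 D899 (iv F6354) F6355 (iv F8931) D2542 D3633 D4766 (iv F28707) F28704 (iv F29033) (iv F36120) (iv F45117) D12314 F56895 D15835 (iv F91332) (iv F114927) (iv F141915) D32526 D34412 D36124 (iv F174123) F174121 (iv F179912) (iv F184838) (iv F189366) D42135 (iv F194146) (iv F197852) F197847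
def n43083 : Q := act 7 n42305
theorem D43083 : act 7 n42305 = n43083 := rfl
theorem F198227 : act 0 n43083 = n42831 := d6_1 D43083 (iv D42831) (iv F194466)
theorem F198228 : act 1 n43083 = n42941 := d14_1 D43083 (iv D42941) (iv F194467)
theorem F198229 : act 3 n43083 = n42308 := d27_1 D43083 (iv D42308) (iv F194468)
theorem F198230 : act 8 n43083 = n42312 := d42_2 (iv F194469) D43083 (iv D42312)
def n43084 : Q := act 9 n42305
theorem D43084 : act 9 n42305 = n43084 := rfl
theorem F198231 : act 0 n43084 = n42832 := d8_1 D43084 (iv D42832) (iv F194466)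
theorem F198232 : act 1 n43084 = n42942 := d16_1 D43084 (iv D42942) (iv F194467)
theorem F198233 : act 3 n43084 = n42309 := d29_1 D43084 (iv D42309) (iv F194468)
theorem F198234 : act 6 n43084 = n42306 := d41_1 D43084 (iv D42306) D42305
theorem F198235 : act 8 n43084 = n42953 := d44_1 D43084 (iv D42953) F193755 (iv F190188) (iv F194469)
def n43085 : Q := act 7 n42307
theorem D43085 : act 7 n42307 = n43085 := rfl
theorem F198236 : act 0 n43085 = n42620 := d6_1 D43085 (iv D42620) (iv F194475)
theorem F198237 : act 1 n43085 = n42837 := d14_1 D43085 F197224 (iv F194476)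
theorem F198238 : act 2 n43085 = n42319 := d21_1 D43085 (iv D42319) (iv F194477)
theorem F198239 : act 4 n43085 = n42398 := d32_1 D43085 F195063 (iv F194478)
theorem F198240 : act 5 n43085 = n42308 := d36_1 D43085 (iv D42308) D42307
theorem F198241 : act 6 n43085 = n42883 := d39_1 D43085 (iv D42883) (iv D42035) (iv F191778) (iv F194479)
theorem F198242 : act 8 n43085 = n42331 := d42_2 (iv F194480) D43085 (iv D42331)
def n43086 : Q := act 9 n42307
theorem D43086 : act 9 n42307 = n43086 := rfl
theorem F198243 : act 0 n43086 = n42621 := d8_1 D43086 (iv D42621) (iv F194475)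
theorem F198244 : act 1 n43086 = n42834 := d16_1 D43086 F197211 (iv F194476)
theorem F198245 : act 2 n43086 = n42320 := d23_1 D43086 (iv D42320) (iv F194477)
theorem F198246 : act 4 n43086 = n42574 := d34_1 D43086 (iv D42574) (iv F194478)
theorem F198247 : act 5 n43086 = n42309 := d38_1 D43086 (iv D42309) D42307
theorem F198248 : act 6 n43086 = n42573 := d41_1 D43086 (iv D42573) (iv F194479)
theorem F198249 : act 8 n43086 = n42614 := d44_1 D43086 (iv D42614) F192056 (iv F190296) (iv F194480)
def n43087 : Q := act 9 n42308
theorem D43087 : act 9 n42308 = n43087 := rfl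
theorem F198250 : act 0 n43087 = n42833 := d8_1 D43087 (iv D42833) (iv F194481)
theorem F198251 : act 1 n43087 = n43008 := d16_1 D43087 F197756 (iv F194482)
theorem F198252 : act 2 n43087 = n42321 := d23_1 D43087 (iv D42321) (iv F194483)
theorem F198253 : act 4 n43087 = n42310 := d34_1 D43087 (iv D42310) (iv F194484)
theorem F198254 : act 7 n43087 = n42309 := d43_1 D43087 (iv D42309) D42308
theorem F198255 : act 8 n43087 = n42954 := d44_1 D43087 (iv D42954) F193760 (iv F190194) (iv F194485)
def n43088 : Q := act 7 n42311
theorem D43088 : act 7 n42311 = n43088 := rfl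
theorem F198256 : act 0 n43088 = n42836 := d6_1 D43088 (iv D42836) (iv F194498)
theorem F198257 : act 1 n43088 = n42687 := d14_1 D43088 F196666 (iv F194499)
theorem F198258 : act 2 n43088 = n42312 := d21_1 D43088 (iv D42312) (iv F194500)
theorem F198259 : act 3 n43088 = n42324 := d27_1 D43088 (iv D42324) (iv F194501)
theorem F198260 : act 4 n43088 = n42900 := d32_1 D43088 (iv D42900) (iv F194502)
theorem F198261 : act 5 n43088 = n42332 := d36_1 D43088 (iv D42332) (iv F194503)
theorem F198262 : act 6 n43088 = n42939 := d39_1 D43088 (iv D42939) (iv D42111) (iv F190182) D42311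
theorem F198263 : act 9 n43088 = n42338 := d43_2 (iv F194504) D43088 (iv D42338)
def n43089 : Q := act 5 n42313
theorem D43089 : act 5 n42313 = n43089 := rfl
theorem F198264 : act 0 n43089 = n42816 := d4_1 D43089 F197162 (iv F194510)
theorem F198265 : act 1 n43089 = n42657 := d12_1 D43089 F196530 (iv F194511)
theorem F198266 : act 2 n43089 = n42315 := d19_1 D43089 (iv D42315) (iv F194512)
theorem F198267 : act 6 n43089 = n43002 := d35_2 D42313 D43089 (iv D43002) (iv D42206) (iv F190198)
theorem F198268 : act 8 n43089 = n42333 := d37_2 (iv F194514) D43089 (iv D42333) F190320 (iv F190237)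
def n43090 : Q := act 7 n42313
theorem D43090 : act 7 n42313 = n43090 := rfl
theorem F198269 : act 0 n43090 = n42839 := d6_1 D43090 (iv D42839) (iv F194510)
theorem F198270 : act 1 n43090 = n42688 := d14_1 D43090 F196670 (iv F194511)
theorem F198271 : act 2 n43090 = n42316 := d21_1 D43090 (iv D42316) (iv F194512)
theorem F198272 : act 4 n43090 = n42435 := d32_1 D43090 F195305 (iv F194513)
theorem F198273 : act 6 n43090 = n42944 := d39_1 D43090 (iv D42944) (iv D42120) (iv F190199) D42313
theorem F198274 : act 8 n43090 = n42324 := d42_2 (iv F194514) D43090 (iv D42324)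
def n43091 : Q := act 9 n42313
theorem D43091 : act 9 n42313 = n43091 := rfl
theorem F198275 : act 0 n43091 = n42840 := d8_1 D43091 (iv D42840) (iv F194510)
theorem F198276 : act 1 n43091 = n42719 := d16_1 D43091 (iv D42719) (iv F194511)
theorem F198277 : act 2 n43091 = n42317 := d23_1 D43091 (iv D42317) (iv F194512)
theorem F198278 : act 4 n43091 = n42520 := d34_1 D43091 (iv D42520) (iv F194513)
theorem F198279 : act 6 n43091 = n42314 := d41_1 D43091 (iv D42314) D42313
theorem F198280 : act 8 n43091 = n42940 := d44_1 D43091 (iv D42940) F193692 (iv F190238) (iv F194514)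
def n43092 : Q := act 7 n42315
theorem D43092 : act 7 n42315 = n43092 := rfl
theorem F198281 : act 0 n43092 = n42794 := d6_1 D43092 F197098 (iv F194522)
theorem F198282 : act 1 n43092 = n42444 := d14_1 D43092 F195361 (iv F194523)
theorem F198283 : act 3 n43092 = n42319 := d27_1 D43092 (iv D42319) (iv F194524)
theorem F198284 : act 4 n43092 = n42668 := d32_1 D43092 (iv F198013) F198010
theorem F198285 : act 5 n43092 = n42316 := d36_1 D43092 (iv D42316) D42315
theorem F198286 : act 8 n43092 = n42334 := d42_2 (iv F194526) D43092 (iv D42334)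
def n43093 : Q := act 9 n42315
theorem D43093 : act 9 n42315 = n43093 := rfl
theorem F198287 : act 0 n43093 = n42817 := d8_1 D43093 (iv D42817) (iv F194522)
theorem F198288 : act 1 n43093 = n42528 := d16_1 D43093 (iv D42528) (iv F194523)
theorem F198289 : act 3 n43093 = n42320 := d29_1 D43093 (iv D42320) (iv F194524)
theorem F198290 : act 5 n43093 = n42317 := d38_1 D43093 (iv D42317) D42315
theorem F198291 : act 6 n43093 = n43006 := d41_1 D43093 (iv D43006) (iv F194525)
theorem F198292 : act 8 n43093 = n42619 := d44_1 D43093 (iv D42619) F192072 (iv F190326) (iv F194526)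
def n43094 : Q := act 9 n42316
theorem D43094 : act 9 n42316 = n43094 := rfl
theorem F198293 : act 0 n43094 = n42841 := d8_1 D43094 (iv D42841) (iv F194527)
theorem F198294 : act 1 n43094 = n42445 := d16_1 D43094 (iv D42445) (iv F194528)
theorem F198295 : act 3 n43094 = n42321 := d29_1 D43094 (iv D42321) (iv F194529)
theorem F198296 : act 4 n43094 = n42437 := d34_1 D43094 (iv D42437) (iv F194530)
theorem F198297 : act 6 n43094 = n43012 := d41_1 D43094 (iv D43012) (iv F194531)
theorem F198298 : act 7 n43094 = n42317 := d43_1 D43094 (iv D42317) D42316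
def n43095 : Q := act 8 n42317
theorem D43095 : act 8 n42317 = n43095 := rfl
theorem F198299 : act 0 n43095 = n42842 := d7_1 D43095 (iv D42842) (iv F194533)
theorem F198300 : act 1 n43095 = n42485 := d15_1 D43095 F195595 (iv F194534)
theorem F198301 : act 2 n43095 = n42940 := d22_1 D43095 (iv F198280) F198277
theorem F198302 : act 3 n43095 = n42322 := d28_1 D43095 (iv D42322) (iv F194535)
theorem F198303 : act 4 n43095 = n42480 := d33_1 D43095 F195565 (iv F194536)
theorem F198304 : act 5 n43095 = n42756 := d37_1 D43095 (iv D42756) (iv F196370) (iv F198292) F198290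
theorem F198305 : act 6 n43095 = n42318 := d40_1 D43095 (iv D42318) (iv F194537)
theorem F198306 : act 9 n43095 = n42326 := d44_2 D42317 D43095 (iv D42326) (iv D41352) (iv F190205)
def n43096 : Q := act 6 n42319
theorem D43096 : act 6 n42319 = n43096 := rfl
theorem F198307 : act 0 n43096 = n42795 := d5_1 D43096 (iv D42795) (iv F194546)
theorem F198308 : act 1 n43096 = n42686 := d13_1 D43096 F196663 (iv F194547)
theorem F198309 : act 2 n43096 = n42883 := d20_1 D43096 (iv F198241) F198238
theorem F198310 : act 4 n43096 = n42409 := d31_1 D43096 F195124 (iv F194548)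
theorem F198311 : act 7 n43096 = n42874 := d39_2 D42319 D43096 (iv D42874) F193415 (iv F190214)
theorem F198312 : act 8 n43096 = n42335 := d40_2 (iv F194550) D43096 (iv D42335)
def n43097 : Q := act 9 n42319
theorem D43097 : act 9 n42319 = n43097 := rfl
theorem F198313 : act 0 n43097 = n42796 := d8_1 D43097 (iv D42796) (iv F194546)
theorem F198314 : act 1 n43097 = n42682 := d16_1 D43097 F196648 (iv F194547)
theorem F198315 : act 4 n43097 = n42405 := d34_1 D43097 F195102 (iv F194548)
theorem F198316 : act 5 n43097 = n42321 := d38_1 D43097 (iv D42321) (iv F194549)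
theorem F198317 : act 7 n43097 = n42320 := d43_1 D43097 (iv D42320) D42319
theorem F198318 : act 8 n43097 = n42402 := d44_1 D43097 (iv D42402) F190748 (iv F190338) (iv F194550)
def n43098 : Q := act 8 n42321
theorem D43098 : act 8 n42321 = n43098 := rfl
theorem F198319 : act 0 n43098 = n42843 := d7_1 D43098 (iv D42843) (iv F194557)
theorem F198320 : act 1 n43098 = n42700 := d15_1 D43098 (iv F197806) F197799
theorem F198321 : act 2 n43098 = n42954 := d22_1 D43098 (iv F198255) F198252
theorem F198322 : act 4 n43098 = n42323 := d33_1 D43098 (iv D42323) (iv F194558)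
theorem F198323 : act 5 n43098 = n42752 := d37_1 D43098 (iv D42752) (iv F195083) (iv F198318) F198316
theorem F198324 : act 7 n43098 = n42322 := d42_1 D43098 (iv D42322) (iv F194559)
theorem F198325 : act 9 n43098 = n42327 := d44_2 D42321 D43098 (iv D42327) (iv D41354) (iv F190218)
def n43099 : Q := act 8 n42325
theorem D43099 : act 8 n42325 = n43099 := rfl
theorem F198326 : act 0 n43099 = n42481 := d7_1 D43099 F195570 (iv F194581)
theorem F198327 : act 1 n43099 = n42419 := d15_1 D43099 (iv D42419) (iv F194582)
theorem F198328 : act 2 n43099 = n42696 := d22_1 D43099 F196712 (iv F194583)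
theorem F198329 : act 3 n43099 = n42327 := d28_1 D43099 (iv D42327) (iv F194584)
theorem F198330 : act 4 n43099 = n42416 := d33_1 D43099 (iv D42416) (iv F194585)
theorem F198331 : act 5 n43099 = n42726 := d37_1 D43099 (iv D42726) F192673 (iv F190352) (iv F194586)
theorem F198332 : act 6 n43099 = n42585 := d40_1 D43099 (iv D42585) (iv F194587)
theorem F198333 : act 7 n43099 = n42326 := d42_1 D43099 (iv D42326) (iv F194588)
def n43100 : Q := act 5 n42328
theorem D43100 : act 5 n42328 = n43100 := rfl
theorem F198334 : act 0 n43100 = n42624 := d4_1 D43100 F196393 (iv F194602)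
theorem F198335 : act 1 n43100 = n42652 := d12_1 D43100 F196506 (iv F194603)
theorem F198336 : act 2 n43100 = n42329 := d19_1 D43100 (iv D42329) (iv F194604)
theorem F198337 : act 3 n43100 = n42333 := d25_1 D43100 (iv D42333) (iv F194605)
theorem F198338 : act 6 n43100 = n42575 := d35_2 D42328 D43100 F196138 F191802 (iv F190281)
theorem F198339 : act 9 n43100 = n42615 := d38_2 (iv F194608) D43100 F196353
theorem F198340 : act 4 n42784 = n43100 := d31_3 F198338 F196137 D42784
def n43101 : Q := act 7 n42329
theorem D43101 : act 7 n42329 = n43101 := rfl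
theorem F198341 : act 0 n43101 = n42625 := d6_1 D43101 (iv D42625) (iv F194609)
theorem F198342 : act 1 n43101 = n42746 := d14_1 D43101 (iv D42746) (iv F194610)
theorem F198343 : act 3 n43101 = n42331 := d27_1 D43101 (iv D42331) (iv F194611)
theorem F198344 : act 4 n43101 = n42786 := d32_1 D43101 (iv D42786) F194614
theorem F198345 : act 5 n43101 = n42330 := d36_1 D43101 (iv D42330) D42329
theorem F198346 : act 6 n43101 = n42887 := d39_1 D43101 (iv D42887) (iv D42040) (iv F191796) (iv F194612)
theorem F198347 : act 9 n43101 = n42396 := d43_2 (iv F194613) D43101 F195049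
def n43102 : Q := act 6 n42334
theorem D43102 : act 6 n42334 = n43102 := rfl
theorem F198348 : act 0 n43102 = n42799 := d5_1 D43102 (iv D42799) (iv F194641)
theorem F198349 : act 1 n43102 = n42506 := d13_1 D43102 (iv D42506) (iv F194642)
theorem F198350 : act 3 n43102 = n42335 := d26_1 D43102 (iv D42335) (iv F194643)
theorem F198351 : act 4 n43102 = n42667 := d31_1 D43102 F196573 (iv F194644)
theorem F198352 : act 5 n43102 = n43102 := d35_1 D43102 (iv D43102) F194645 F190331 (iv F194645)
theorem F198353 : act 7 n43102 = n42878 := d39_2 D42334 D43102 (iv D42878) F193423 (iv F190325)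
theorem F198354 : act 9 n43102 = n42407 := d41_2 (iv F194646) D43102 (iv D42407)
def n43103 : Q := act 7 n42336
theorem D43103 : act 7 n42336 = n43103 := rfl
theorem F198355 : act 0 n43103 = n42846 := d6_1 D43103 (iv D42846) (iv F194654)
theorem F198356 : act 1 n43103 = n42900 := d14_1 D43103 (iv D42900) (iv F194655)
theorem F198357 : act 2 n43103 = n42916 := d21_1 D43103 (iv D42916) (iv F194656)
theorem F198358 : act 3 n43103 = n42583 := d27_1 D43103 F196179 (iv F194657)
theorem F198359 : act 4 n43103 = n42687 := d32_1 D43103 F196666 (iv F194658)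
theorem F198360 : act 5 n43103 = n43103 := d36_1 D43103 (iv D43103) F194659
theorem F198361 : act 6 n43103 = n42338 := d39_1 D43103 (iv D42338) (iv D41371) (iv F190358) D42336
theorem F198362 : act 9 n43103 = n42939 := d43_2 (iv F194660) D43103 (iv D42939)
def n43104 : Q := act 7 n42337
theorem D43104 : act 7 n42337 = n43104 := rfl
theorem F198363 : act 0 n43104 = n42847 := d6_1 D43104 (iv D42847) (iv F194661)
theorem F198364 : act 1 n43104 = n42939 := d14_1 D43104 (iv D42939) (iv F194662)
theorem F198365 : act 2 n43104 = n42864 := d21_1 D43104 (iv D42864) (iv F194663)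
theorem F198366 : act 3 n43104 = n42470 := d27_1 D43104 F195499 (iv F194664)
theorem F198367 : act 4 n43104 = n42338 := d32_1 D43104 (iv D42338) (iv F194665)
theorem F198368 : act 5 n43104 = n43104 := d36_1 D43104 (iv D43104) F194666
theorem F198369 : act 6 n43104 = n42687 := d39_1 D43104 F196666 F192638 (iv F190365) D42337
theorem F198370 : act 9 n43104 = n42900 := d43_2 (iv F194667) D43104 (iv D42900)
def n43105 : Q := act 5 n42340
theorem D43105 : act 5 n42340 = n43105 := rfl
theorem F198371 : act 0 n43105 = n42370 := d4_1 D43105 (iv D42370) (iv F194682)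
theorem F198372 : act 1 n43105 = n42957 := d12_1 D43105 (iv D42957) (iv F194683)
theorem F198373 : act 2 n43105 = n42578 := d19_1 D43105 (iv D42578) (iv F194684)
theorem F198374 : act 3 n43105 = n42644 := d25_1 D43105 (iv D42644) (iv F194685)
theorem F198375 : act 4 n43105 = n42753 := d30_1 D43105 F196962 F193561 (iv F190399) (iv F194686)
theorem F198376 : act 6 n43105 = n42500 := d35_2 (iv F194687) D43105 (iv D42500) (iv D41536) (iv F191189)
theorem F198377 : act 7 n43105 = n42955 := d36_2 (iv F194688) D43105 (iv D42955)
theorem F198378 : act 8 n43105 = n43105 := d37_2 D42340 D43105 (iv D43105) (iv D42340) F190391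
def n43106 : Q := act 9 n42340
theorem D43106 : act 9 n42340 = n43106 := rfl
theorem F198379 : act 0 n43106 = n42371 := d8_1 D43106 (iv D42371) (iv F194682)
theorem F198380 : act 1 n43106 = n42958 := d16_1 D43106 (iv D42958) (iv F194683)
theorem F198381 : act 2 n43106 = n42579 := d23_1 D43106 (iv D42579) (iv F194684)
theorem F198382 : act 3 n43106 = n42645 := d29_1 D43106 (iv D42645) (iv F194685)
theorem F198383 : act 4 n43106 = n42341 := d34_1 D43106 (iv D42341) (iv F194686)
theorem F198384 : act 6 n43106 = n42474 := d41_1 D43106 (iv D42474) (iv F194687)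
theorem F198385 : act 7 n43106 = n42956 := d43_1 D43106 (iv D42956) (iv F194688)
theorem F198386 : act 8 n43106 = n42760 := d44_1 D43106 (iv D42760) (iv D41883) (iv F190394) D42340
def n43107 : Q := act 5 n42343
theorem D43107 : act 5 n42343 = n43107 := rfl
theorem F198387 : act 0 n43107 = n42955 := d4_1 D43107 (iv D42955) (iv F194706)
theorem F198388 : act 1 n43107 = n42904 := d12_1 D43107 F197481 (iv F194707)
theorem F198389 : act 2 n43107 = n42589 := d19_1 D43107 (iv D42589) (iv F194708)
theorem F198390 : act 3 n43107 = n42759 := d25_1 D43107 (iv D42759) (iv F194709)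
theorem F198391 : act 7 n43107 = n42370 := d36_2 (iv F194712) D43107 (iv D42370)
theorem F198392 : act 8 n43107 = n43107 := d37_2 D42343 D43107 (iv D43107) (iv D42343) F190429
def n43108 : Q := act 9 n42343
theorem D43108 : act 9 n42343 = n43108 := rfl
theorem F198393 : act 0 n43108 = n42956 := d8_1 D43108 (iv D42956) (iv F194706)
theorem F198394 : act 1 n43108 = n42906 := d16_1 D43108 (iv D42906) (iv F194707)
theorem F198395 : act 2 n43108 = n42590 := d23_1 D43108 (iv D42590) (iv F194708)
theorem F198396 : act 3 n43108 = n42760 := d29_1 D43108 (iv D42760) (iv F194709)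
theorem F198397 : act 4 n43108 = n42345 := d34_1 D43108 (iv D42345) (iv F194710)
theorem F198398 : act 6 n43108 = n42671 := d41_1 D43108 (iv D42671) (iv F194711)
theorem F198399 : act 7 n43108 = n42371 := d43_1 D43108 (iv D42371) (iv F194712)
theorem F198400 : act 8 n43108 = n42645 := d44_1 D43108 (iv D42645) (iv D41711) (iv F190432) D42343
def n43109 : Q := act 4 n42344
theorem D43109 : act 4 n42344 = n43109 := rfl
theorem F198401 : act 0 n43109 = n42913 := d3_1 D43109 F197504 (iv F194713)
theorem F198402 : act 1 n43109 = n42883 := d11_1 D43109 F197405 (iv F194714)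
theorem F198403 : act 2 n43109 = n42591 := d18_1 D43109 (iv D42591) (iv F194715)
theorem F198404 : act 6 n43109 = n42837 := d31_2 F194719 D43109 F197222
theorem F198405 : act 7 n43109 = n42372 := d32_2 (iv F194717) D43109 (iv D42372)
theorem F198406 : act 8 n43109 = n42346 := d33_2 (iv F194718) D43109 (iv D42346)
def n43110 : Q := act 9 n42344
theorem D43110 : act 9 n42344 = n43110 := rfl
theorem F198407 : act 0 n43110 = n42915 := d8_1 D43110 (iv D42915) (iv F194713)
theorem F198408 : act 1 n43110 = n42885 := d16_1 D43110 (iv D42885) (iv F194714)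
theorem F198409 : act 2 n43110 = n42592 := d23_1 D43110 (iv D42592) (iv F194715)
theorem F198410 : act 3 n43110 = n42349 := d29_1 D43110 (iv D42349) (iv F194716)
theorem F198411 : act 5 n43110 = n42345 := d38_1 D43110 (iv D42345) D42344
theorem F198412 : act 6 n43110 = n42835 := d41_1 D43110 F197215 F194719
theorem F198413 : act 7 n43110 = n42373 := d43_1 D43110 (iv D42373) (iv F194717)
theorem F198414 : act 8 n43110 = n42807 := d44_1 D43110 (iv D42807) F193056 (iv F190445) (iv F194718)
def n43111 : Q := act 3 n42346
theorem D43111 : act 3 n42346 = n43111 := rfl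
theorem F198415 : act 0 n43111 = n42916 := d2_1 D43111 F197516 (iv F194727)
theorem F198416 : act 1 n43111 = n42887 := d10_1 D43111 F197415 (iv F194728)
theorem F198417 : act 2 n43111 = n42846 := d17_1 D43111 F197249 (iv F195583) F195584 (iv F194729)
theorem F198418 : act 4 n43111 = n42350 := d24_2 D42346 D43111 (iv D42350) (iv D41384) (iv F190442)
theorem F198419 : act 5 n43111 = n43111 := d25_2 F194730 D43111 (iv D43111)
theorem F198420 : act 6 n43111 = n42746 := d26_2 (iv F194731) D43111 F196939
theorem F198421 : act 7 n43111 = n42374 := d27_2 (iv F194732) D43111 (iv D42374)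
theorem F198422 : act 9 n43111 = n42808 := d29_2 (iv F194733) D43111 F197140
def n43112 : Q := act 3 n42347
theorem D43112 : act 3 n42347 = n43112 := rfl
theorem F198423 : act 0 n43112 = n42918 := d2_1 D43112 F197525 (iv F194734)
theorem F198424 : act 1 n43112 = n42974 := d10_1 D43112 F197679 (iv F194735)
theorem F198425 : act 5 n43112 = n42764 := d25_2 (iv F194737) D43112 (iv D42764)
theorem F198426 : act 7 n43112 = n42375 := d27_2 (iv F194738) D43112 (iv D42375)
theorem F198427 : act 8 n43112 = n42350 := d28_2 (iv F194739) D43112 (iv D42350)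
def n43113 : Q := act 6 n42347
theorem D43113 : act 6 n42347 = n43113 := rfl
theorem F198428 : act 0 n43113 = n42861 := d5_1 D43113 F197332 (iv F194734)
theorem F198429 : act 1 n43113 = n42780 := d13_1 D43113 F197045 (iv F194735)
theorem F198430 : act 2 n43113 = n42358 := d20_1 D43113 (iv D42358) (iv F194736)
theorem F198431 : act 4 n43113 = n42348 := d31_1 D43113 (iv D42348) D42347
theorem F198432 : act 7 n43113 = n42411 := d39_2 (iv F194738) D43113 (iv D42411) F190801 (iv F190586)
theorem F198433 : act 8 n43113 = n42351 := d40_2 (iv F194739) D43113 (iv D42351)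
def n43114 : Q := act 9 n42347
theorem D43114 : act 9 n42347 = n43114 := rfl
theorem F198434 : act 0 n43114 = n42921 := d8_1 D43114 (iv D42921) (iv F194734)
theorem F198435 : act 1 n43114 = n42977 := d16_1 D43114 (iv D42977) (iv F194735)
theorem F198436 : act 2 n43114 = n42359 := d23_1 D43114 (iv D42359) (iv F194736)
theorem F198437 : act 4 n43114 = n42349 := d34_1 D43114 (iv D42349) D42347
theorem F198438 : act 5 n43114 = n42766 := d38_1 D43114 (iv D42766) (iv F194737)
theorem F198439 : act 7 n43114 = n42376 := d43_1 D43114 (iv D42376) (iv F194738)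
def n43115 : Q := act 9 n42348
theorem D43115 : act 9 n42348 = n43115 := rfl
theorem F198440 : act 0 n43115 = n42863 := d8_1 D43115 (iv D42863) (iv F194740)
theorem F198441 : act 1 n43115 = n42783 := d16_1 D43115 (iv D42783) (iv F194741)
theorem F198442 : act 2 n43115 = n42361 := d23_1 D43115 (iv D42361) (iv F194742)
theorem F198443 : act 3 n43115 = n42835 := d29_1 D43115 F197215 (iv F194743)
theorem F198444 : act 5 n43115 = n42675 := d38_1 D43115 (iv D42675) (iv F194744)
theorem F198445 : act 6 n43115 = n42349 := d41_1 D43115 (iv D42349) D42348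
theorem F198446 : act 7 n43115 = n42413 := d43_1 D43115 (iv D42413) (iv F194745)
theorem F198447 : act 8 n43115 = n42828 := d44_1 D43115 (iv D42828) F193113 F190469 (iv F194746)
def n43116 : Q := act 8 n42349
theorem D43116 : act 8 n42349 = n43116 := rfl
theorem F198448 : act 0 n43116 = n42791 := d7_1 D43116 F197084 (iv F194747)
theorem F198449 : act 1 n43116 = n42980 := d15_1 D43116 (iv D42980) (iv F194748)
theorem F198450 : act 2 n43116 = n42362 := d22_1 D43116 (iv D42362) (iv F194749)
theorem F198451 : act 3 n43116 = n42807 := d28_1 D43116 (iv F198414) F198410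
theorem F198452 : act 5 n43116 = n42651 := d37_1 D43116 (iv D42651) F192228 (iv F190457) (iv F194750)
theorem F198453 : act 6 n43116 = n42828 := d40_1 D43116 (iv F198447) F198445
theorem F198454 : act 7 n43116 = n42377 := d42_1 D43116 (iv D42377) (iv F194751)
theorem F198455 : act 9 n43116 = n42353 := d44_2 D42349 D43116 (iv D42353) (iv D41386) (iv F190450)
def n43117 : Q := act 2 n42350
theorem D43117 : act 2 n42350 = n43117 := rfl
theorem F198456 : act 0 n43117 = n42687 := d1_1 D43117 F196664 (iv F194752)
theorem F198457 : act 3 n43117 = n42363 := d17_2 D42350 D43117 (iv D42363) (iv D41393) (iv F190460)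
theorem F198458 : act 4 n43117 = n42846 := d18_2 F198418 D43117 (iv F198417)
theorem F198459 : act 5 n43117 = n42354 := d19_2 (iv F194754) D43117 (iv D42354)
theorem F198460 : act 7 n43117 = n42378 := d21_2 (iv F194755) D43117 (iv D42378)
theorem F198461 : act 1 n42771 = n43117 := d14_3 F198460 (iv F194934) (iv F197014)
theorem F198462 : act 6 n42847 = n43117 := d39_5 F198460 F194933 F191217 D41984 D42847
theorem F198463 : act 9 n42545 = n43117 := d43_0 F198460 (iv F194935) D42545
def n43118 : Q := act 6 n42350
theorem D43118 : act 6 n42350 = n43118 := rfl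
theorem F198464 : act 0 n43118 = n42864 := d5_1 D43118 F197347 (iv F194752)
theorem F198465 : act 1 n43118 = n42786 := d13_1 D43118 F197064 (iv F194753)
theorem F198466 : act 2 n43118 = n42847 := d20_1 D43118 F198462 (iv D43117)
theorem F198467 : act 3 n43118 = n42351 := d26_1 D43118 (iv D42351) D42350
theorem F198468 : act 4 n43118 = n42746 := d31_1 D43118 (iv F198420) F198418
theorem F198469 : act 5 n43118 = n43118 := d35_1 D43118 (iv D43118) F194754 F190480 (iv F194754)
theorem F198470 : act 7 n43118 = n42414 := d39_2 (iv F194755) D43118 (iv D42414) F190818 (iv F190596)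
theorem F198471 : act 9 n42829 = n43118 := d43_0 F198470 F195155 D42829
def n43119 : Q := act 9 n42350
theorem D43119 : act 9 n42350 = n43119 := rfl
theorem F198472 : act 0 n43119 = n42789 := d8_1 D43119 F197077 (iv F194752)
theorem F198473 : act 1 n43119 = n42984 := d16_1 D43119 (iv D42984) (iv F194753)
theorem F198474 : act 2 n43119 = n42545 := d23_1 D43119 F198463 (iv D43117)
theorem F198475 : act 3 n43119 = n42352 := d29_1 D43119 (iv D42352) D42350
theorem F198476 : act 4 n43119 = n42808 := d34_1 D43119 (iv F198422) F198418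
theorem F198477 : act 5 n43119 = n42355 := d38_1 D43119 (iv D42355) (iv F194754)
theorem F198478 : act 6 n43119 = n42829 := d41_1 D43119 F198471 (iv D43118)
theorem F198479 : act 7 n43119 = n42379 := d43_1 D43119 (iv D42379) (iv F194755)
def n43120 : Q := act 8 n42352
theorem D43120 : act 8 n42352 = n43120 := rfl
theorem F198480 : act 0 n43120 = n42790 := d7_1 D43120 (iv D42790) (iv F194763)
theorem F198481 : act 1 n43120 = n42986 := d15_1 D43120 (iv D42986) (iv F194764)
theorem F198482 : act 2 n43120 = n42367 := d22_1 D43120 (iv D42367) (iv F194765)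
theorem F198483 : act 4 n43120 = n42353 := d33_1 D43120 (iv D42353) (iv F194766)
theorem F198484 : act 6 n43120 = n42826 := d40_1 D43120 F197187 (iv F194768)
theorem F198485 : act 7 n43120 = n42380 := d42_1 D43120 (iv D42380) (iv F194769)
def n43121 : Q := act 5 n42356
theorem D43121 : act 5 n42356 = n43121 := rfl
theorem F198486 : act 0 n43121 = n42844 := d4_1 D43121 (iv D42844) (iv F194793)
theorem F198487 : act 1 n43121 = n42785 := d12_1 D43121 F197060 (iv F194794)
theorem F198488 : act 2 n43121 = n42369 := d19_1 D43121 (iv D42369) (iv F194795)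
theorem F198489 : act 3 n43121 = n42982 := d25_1 D43121 F197696 (iv F194796)
theorem F198490 : act 4 n43121 = n42656 := d30_1 D43121 (iv D42656) F192254 (iv F190493) (iv F194797)
theorem F198491 : act 7 n43121 = n42381 := d36_2 (iv F194799) D43121 (iv D42381)
theorem F198492 : act 9 n43121 = n42775 := d38_2 (iv F194800) D43121 (iv D42775)
def n43122 : Q := act 2 n42357
theorem D43122 : act 2 n42357 = n43122 := rfl
theorem F198493 : act 0 n43122 = n42688 := d1_1 D43122 F196668 (iv F194801)
theorem F198494 : act 1 n43122 = n42772 := d9_1 D43122 F197015 F192989 F191094 (iv F194802)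
theorem F198495 : act 4 n43122 = n42546 := d18_2 (iv F194803) D43122 F195935
theorem F198496 : act 5 n43122 = n42776 := d19_2 (iv F194804) D43122 (iv D42776)
theorem F198497 : act 7 n43122 = n42382 := d21_2 (iv F194805) D43122 (iv D42382)
theorem F198498 : act 8 n43122 = n42363 := d22_2 (iv F194806) D43122 (iv D42363)
theorem F198499 : act 6 n42910 = n43122 := d40_3 F198498 (iv F194840) (iv F197493)
def n43123 : Q := act 6 n42357
theorem D43123 : act 6 n42357 = n43123 := rfl
theorem F198500 : act 0 n43123 = n42640 := d5_1 D43123 F196456 (iv F194801)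
theorem F198501 : act 1 n43123 = n42459 := d13_1 D43123 (iv D42459) (iv F194802)
theorem F198502 : act 2 n43123 = n42910 := d20_1 D43123 F198499 (iv D43122)
theorem F198503 : act 3 n43123 = n42358 := d26_1 D43123 (iv D42358) D42357
theorem F198504 : act 4 n43123 = n42468 := d31_1 D43123 F195485 (iv F194803)
theorem F198505 : act 7 n43123 = n42467 := d39_2 (iv F194805) D43123 F195479 F191127 F190634
theorem F198506 : act 8 n43123 = n42364 := d40_2 (iv F194806) D43123 (iv D42364)
def n43124 : Q := act 9 n42357
theorem D43124 : act 9 n42357 = n43124 := rfl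
theorem F198507 : act 0 n43124 = n42690 := d8_1 D43124 (iv D42690) (iv F194801)
theorem F198508 : act 1 n43124 = n42460 := d16_1 D43124 (iv D42460) (iv F194802)
theorem F198509 : act 3 n43124 = n42359 := d29_1 D43124 (iv D42359) D42357
theorem F198510 : act 4 n43124 = n42550 := d34_1 D43124 F195962 (iv F194803)
theorem F198511 : act 5 n43124 = n42778 := d38_1 D43124 (iv D42778) (iv F194804)
theorem F198512 : act 7 n43124 = n42383 := d43_1 D43124 (iv D42383) (iv F194805)
theorem F198513 : act 8 n43124 = n42549 := d44_1 D43124 (iv D42549) F191568 F190517 (iv F194806)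
def n43125 : Q := act 5 n42358
theorem D43125 : act 5 n42358 = n43125 := rfl
theorem F198514 : act 0 n43125 = n42957 := d4_1 D43125 (iv D42957) (iv F194807)
theorem F198515 : act 1 n43125 = n42461 := d12_1 D43125 (iv D42461) (iv F194808)
theorem F198516 : act 4 n43125 = n42679 := d30_1 D43125 (iv D42679) F192355 (iv F190505) (iv F194809)
theorem F198517 : act 6 n43125 = n42779 := d35_2 D42358 D43125 (iv D42779) (iv D41898) (iv F190499)
theorem F198518 : act 8 n43125 = n43125 := d37_2 (iv F194810) D43125 (iv D43125) F194810 F190521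
def n43126 : Q := act 7 n42358
theorem D43126 : act 7 n42358 = n43126 := rfl
theorem F198519 : act 0 n43126 = n42855 := d6_1 D43126 F197301 (iv F194807)
theorem F198520 : act 1 n43126 = n42462 := d14_1 D43126 (iv D42462) (iv F194808)
theorem F198521 : act 2 n43126 = n42411 := d21_1 D43126 (iv F198432) F198430
theorem F198522 : act 3 n43126 = n42467 := d27_1 D43126 (iv F198505) F198503
theorem F198523 : act 4 n43126 = n42360 := d32_1 D43126 (iv D42360) (iv F194809)
theorem F198524 : act 6 n43126 = n42384 := d39_1 D43126 (iv D42384) (iv D41414) (iv F190500) D42358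
theorem F198525 : act 8 n43126 = n42365 := d42_2 (iv F194810) D43126 (iv D42365)
def n43127 : Q := act 9 n42358
theorem D43127 : act 9 n42358 = n43127 := rfl
theorem F198526 : act 0 n43127 = n42958 := d8_1 D43127 (iv D42958) (iv F194807)
theorem F198527 : act 1 n43127 = n42463 := d16_1 D43127 (iv D42463) (iv F194808)
theorem F198528 : act 4 n43127 = n42361 := d34_1 D43127 (iv D42361) (iv F194809)
theorem F198529 : act 6 n43127 = n42359 := d41_1 D43127 (iv D42359) D42358
def n43128 : Q := act 8 n42359
theorem D43128 : act 8 n42359 = n43128 := rfl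
theorem F198530 : act 0 n43128 = n42793 := d7_1 D43128 F197094 (iv F194811)
theorem F198531 : act 1 n43128 = n42464 := d15_1 D43128 (iv D42464) (iv F194812)
theorem F198532 : act 3 n43128 = n42549 := d28_1 D43128 (iv F198513) F198509
theorem F198533 : act 4 n43128 = n42362 := d33_1 D43128 (iv D42362) (iv F194813)
theorem F198534 : act 7 n43128 = n42386 := d42_1 D43128 (iv D42386) (iv F194815)
theorem F198535 : act 9 n43128 = n42367 := d44_2 D42359 D43128 (iv D42367) (iv D41395) (iv F190501)
def n43129 : Q := act 9 n42360
theorem D43129 : act 9 n42360 = n43129 := rfl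
theorem F198536 : act 0 n43129 = n42857 := d8_1 D43129 (iv D42857) (iv F194816)
theorem F198537 : act 1 n43129 = n42465 := d16_1 D43129 (iv D42465) (iv F194817)
theorem F198538 : act 2 n43129 = n42413 := d23_1 D43129 (iv D42413) (iv F194818)
theorem F198539 : act 3 n43129 = n42596 := d29_1 D43129 (iv D42596) (iv F194819)
theorem F198540 : act 5 n43129 = n42683 := d38_1 D43129 (iv D42683) (iv F194820)
theorem F198541 : act 6 n43129 = n42387 := d41_1 D43129 (iv D42387) (iv F194821)
theorem F198542 : act 7 n43129 = n42361 := d43_1 D43129 (iv D42361) D42360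
theorem F198543 : act 8 n43129 = n42694 := d44_1 D43129 (iv D42694) F192445 F190534 (iv F194822)
def n43130 : Q := act 8 n42361
theorem D43130 : act 8 n42361 = n43130 := rfl
theorem F198544 : act 0 n43130 = n42758 := d7_1 D43130 F196978 (iv F194823)
theorem F198545 : act 1 n43130 = n42466 := d15_1 D43130 (iv D42466) (iv F194824)
theorem F198546 : act 2 n43130 = n42828 := d22_1 D43130 (iv F198447) F198442
theorem F198547 : act 3 n43130 = n42597 := d28_1 D43130 (iv D42597) (iv F194825)
theorem F198548 : act 6 n43130 = n42362 := d40_1 D43130 (iv D42362) (iv F194827)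
theorem F198549 : act 7 n43130 = n42694 := d42_1 D43130 (iv F198543) F198542
theorem F198550 : act 9 n43130 = n42368 := d44_2 D42361 D43130 (iv D42368) (iv D41397) (iv F190506)
theorem F198551 : act 5 n42946 = n43130 := d38_3 F198550 F194874 D42946
def n43131 : Q := act 8 n42366
theorem D43131 : act 8 n42366 = n43131 := rfl
theorem F198552 : act 0 n43131 = n42757 := d7_1 D43131 (iv D42757) (iv F194857)
theorem F198553 : act 1 n43131 = n42467 := d15_1 D43131 (iv D42467) (iv F194858)
theorem F198554 : act 2 n43131 = n42826 := d22_1 D43131 F197187 (iv F194859)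
theorem F198555 : act 3 n43131 = n42462 := d28_1 D43131 F195461 (iv F194860)
theorem F198556 : act 4 n43131 = n42368 := d33_1 D43131 (iv D42368) (iv F194861)
theorem F198557 : act 6 n43131 = n42367 := d40_1 D43131 (iv D42367) (iv F194863)
theorem F198558 : act 7 n43131 = n42459 := d42_1 D43131 F195450 (iv F194864)
def n43132 : Q := act 5 n42367
theorem D43132 : act 5 n42367 = n43132 := rfl
theorem F198559 : act 0 n43132 = n42792 := d4_1 D43132 (iv D42792) (iv F194865)
theorem F198560 : act 1 n43132 = n42448 := d12_1 D43132 F195385 (iv F194866)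
theorem F198561 : act 3 n43132 = n42438 := d25_1 D43132 F195321 (iv F194867)
theorem F198562 : act 4 n43132 = n42670 := d30_1 D43132 (iv D42670) F192297 (iv F190545) (iv F194868)
theorem F198563 : act 7 n43132 = n42388 := d36_2 (iv F194869) D43132 (iv D42388)
theorem F198564 : act 8 n43132 = n42369 := d37_2 D42367 D43132 (iv D42369) (iv D41400) (iv F190526)
def n43133 : Q := act 6 n42369
theorem D43133 : act 6 n42369 = n43133 := rfl
theorem F198565 : act 0 n43133 = n42845 := d5_1 D43133 (iv D42845) (iv F194877)
theorem F198566 : act 1 n43133 = n42454 := d13_1 D43133 (iv D42454) (iv F194878)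
theorem F198567 : act 3 n43133 = n42441 := d26_1 D43133 (iv D42441) (iv F194879)
theorem F198568 : act 4 n43133 = n42653 := d31_1 D43133 F196512 (iv F194880)
theorem F198569 : act 5 n43133 = n43133 := d35_1 D43133 (iv D43133) (iv D42369) F190558 D42369
theorem F198570 : act 7 n43133 = n42770 := d39_2 (iv F194881) D43133 (iv D42770) F192937 (iv F190684)
theorem F198571 : act 9 n43133 = n42648 := d41_2 (iv F194882) D43133 F196490
def n43134 : Q := act 4 n42370
theorem D43134 : act 4 n42370 = n43134 := rfl
theorem F198572 : act 0 n43134 = n42753 := d3_1 D43134 (iv F198375) F198371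
theorem F198573 : act 1 n43134 = n42882 := d11_1 D43134 F197403 (iv F194883)
theorem F198574 : act 2 n43134 = n42636 := d18_1 D43134 (iv D42636) (iv F194884)
theorem F198575 : act 5 n43134 = n42372 := d30_2 D42370 D43134 (iv D42372) (iv D41402) (iv F190564)
theorem F198576 : act 6 n43134 = n42702 := d31_2 (iv F194886) D43134 F196742
theorem F198577 : act 8 n43134 = n43134 := d33_2 F194887 D43134 (iv D43134)
def n43135 : Q := act 9 n42370
theorem D43135 : act 9 n42370 = n43135 := rfl
theorem F198578 : act 1 n43135 = n42905 := d16_1 D43135 (iv D42905) (iv F194883)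
theorem F198579 : act 2 n43135 = n42638 := d23_1 D43135 (iv D42638) (iv F194884)
theorem F198580 : act 3 n43135 = n42960 := d29_1 D43135 (iv D42960) (iv F194885)
theorem F198581 : act 5 n43135 = n42371 := d38_1 D43135 (iv D42371) D42370
theorem F198582 : act 6 n43135 = n42928 := d41_1 D43135 (iv D42928) (iv F194886)
def n43136 : Q := act 3 n42372
theorem D43136 : act 3 n42372 = n43136 := rfl
theorem F198583 : act 0 n43136 = n42911 := d2_1 D43136 F197495 (iv F194893)
theorem F198584 : act 1 n43136 = n42880 := d10_1 D43136 F197398 (iv F194894)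
theorem F198585 : act 4 n43136 = n42375 := d24_2 D42372 D43136 (iv D42375) (iv D41405) (iv F190569)
theorem F198586 : act 6 n43136 = n42472 := d26_2 (iv F194896) D43136 (iv D42472)
theorem F198587 : act 8 n43136 = n42374 := d28_2 (iv F194897) D43136 (iv D42374)
theorem F198588 : act 2 n42800 = n43136 := d45_0 (iv D43136) (iv D42372) (iv D41402) F186064 F184317 F179510 (iv F179504) F179505 (iv F179678) (iv D38810) (iv D37523) (iv D36025) (iv F161527) F161523 F159272 F150882 F141743 F114857 (iv F141839) (iv D30494) (iv F141819) F141820 (iv F136934) F136935 F106592 (iv D23744) F84992 (iv F132928) F59151 (iv F133556) (iv F91666) F91667 (iv F115423) (iv D25700) (iv F115404) (iv F136101) (iv F144892) (iv F153365) (iv F161222) F161223 (iv D33708) F147942 (iv F148446) (iv F157185) D35579 F165173 F157448 D35623 (iv F172463) (iv F178559) (iv F183630) F183631 (iv F183978) (iv F188272) (iv F190352) F190347 (iv F190375) F190376 (iv F194672) (iv F198361) (iv D43103) (iv F198033) F198028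
def n43137 : Q := act 9 n42372
theorem D43137 : act 9 n42372 = n43137 := rfl
theorem F198589 : act 0 n43137 = n42914 := d8_1 D43137 (iv D42914) (iv F194893)
theorem F198590 : act 1 n43137 = n42884 := d16_1 D43137 (iv D42884) (iv F194894)
theorem F198591 : act 2 n43137 = n42639 := d23_1 D43137 (iv D42639) (iv F194895)
theorem F198592 : act 4 n43137 = n42373 := d34_1 D43137 (iv D42373) D42372
theorem F198593 : act 6 n43137 = n42473 := d41_1 D43137 (iv D42473) (iv F194896)
theorem F198594 : act 8 n43137 = n42806 := d44_1 D43137 (iv D42806) F193050 (iv F190581) (iv F194897)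
def n43138 : Q := act 2 n42375
theorem D43138 : act 2 n42375 = n43138 := rfl
theorem F198595 : act 0 n43138 = n42718 := d1_1 D43138 F196820 (iv F194912)
theorem F198596 : act 3 n43138 = n42382 := d17_2 D42375 D43138 (iv D42382) (iv D41413) (iv F190584)
theorem F198597 : act 4 n43138 = n42800 := d18_2 F198585 D43138 F198588
theorem F198598 : act 5 n43138 = n42965 := d19_2 (iv F194914) D43138 (iv D42965)
theorem F198599 : act 6 n43138 = n42475 := d20_2 (iv F194915) D43138 (iv D42475)
theorem F198600 : act 8 n43138 = n42378 := d22_2 (iv F194916) D43138 (iv D42378)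
theorem F198601 : act 1 n42970 = n43138 := d15_3 F198600 (iv F194934) D42970
def n43139 : Q := act 9 n42375
theorem D43139 : act 9 n42375 = n43139 := rfl
theorem F198602 : act 0 n43139 = n42919 := d8_1 D43139 (iv D42919) (iv F194912)
theorem F198603 : act 1 n43139 = n42975 := d16_1 D43139 (iv D42975) (iv F194913)
theorem F198604 : act 3 n43139 = n42376 := d29_1 D43139 (iv D42376) D42375
theorem F198605 : act 5 n43139 = n42966 := d38_1 D43139 (iv D42966) (iv F194914)
theorem F198606 : act 6 n43139 = n42476 := d41_1 D43139 (iv D42476) (iv F194915)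
def n43140 : Q := act 8 n42376
theorem D43140 : act 8 n42376 = n43140 := rfl
theorem F198607 : act 0 n43140 = n42814 := d7_1 D43140 F197158 (iv F194917)
theorem F198608 : act 1 n43140 = n42978 := d15_1 D43140 (iv D42978) (iv F194918)
theorem F198609 : act 2 n43140 = n42386 := d22_1 D43140 (iv D42386) (iv F194919)
theorem F198610 : act 4 n43140 = n42377 := d33_1 D43140 (iv D42377) (iv F194920)
theorem F198611 : act 6 n43140 = n42477 := d40_1 D43140 (iv D42477) (iv F194922)
theorem F198612 : act 9 n43140 = n42380 := d44_2 D42376 D43140 (iv D42380) (iv D41408) (iv F190587)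
def n43141 : Q := act 8 n42379
theorem D43141 : act 8 n42379 = n43141 := rfl
theorem F198613 : act 0 n43141 = n42812 := d7_1 D43141 (iv D42812) (iv F194936)
theorem F198614 : act 1 n43141 = n42985 := d15_1 D43141 (iv D42985) (iv F194937)
theorem F198615 : act 2 n43141 = n42538 := d22_1 D43141 F195899 (iv F194938)
theorem F198616 : act 3 n43141 = n42380 := d28_1 D43141 (iv D42380) (iv F194939)
theorem F198617 : act 4 n43141 = n42802 := d33_1 D43141 F197125 (iv F194940)
theorem F198618 : act 5 n43141 = n42972 := d37_1 D43141 F197677 F193836 F190621 (iv F194941)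
theorem F198619 : act 6 n43141 = n42478 := d40_1 D43141 (iv D42478) (iv F194942)
def n43142 : Q := act 5 n42380
theorem D43142 : act 5 n42380 = n43142 := rfl
theorem F198620 : act 0 n43142 = n42813 := d4_1 D43142 (iv D42813) (iv F194943)
theorem F198621 : act 1 n43142 = n42983 := d12_1 D43142 F197698 (iv F194944)
theorem F198622 : act 2 n43142 = n42388 := d19_1 D43142 (iv D42388) (iv F194945)
theorem F198623 : act 3 n43142 = n42972 := d25_1 D43142 (iv F198618) F198616
theorem F198624 : act 6 n43142 = n42965 := d35_2 (iv F194947) D43142 (iv F198598) F198599 F195534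
theorem F198625 : act 8 n43142 = n42381 := d37_2 D42380 D43142 (iv D42381) (iv D41412) (iv F190601)
def n43143 : Q := act 9 n42382
theorem D43143 : act 9 n42382 = n43143 := rfl
theorem F198626 : act 0 n43143 = n42719 := d8_1 D43143 (iv D42719) (iv F194954)
theorem F198627 : act 1 n43143 = n42967 := d16_1 D43143 F197660 (iv F194955)
theorem F198628 : act 2 n43143 = n42383 := d23_1 D43143 (iv D42383) D42382
theorem F198629 : act 4 n43143 = n42544 := d34_1 D43143 F195928 (iv F194956)
theorem F198630 : act 5 n43143 = n42973 := d38_1 D43143 (iv D42973) (iv F194957)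
theorem F198631 : act 6 n43143 = n42542 := d41_1 D43143 F195918 (iv F194958)
theorem F198632 : act 8 n43143 = n42541 := d44_1 D43143 (iv D42541) F191516 (iv F190668) (iv F194959)
def n43144 : Q := act 9 n42384
theorem D43144 : act 9 n42384 = n43144 := rfl
theorem F198633 : act 0 n43144 = n42856 := d8_1 D43144 (iv D42856) (iv F194967)
theorem F198634 : act 1 n43144 = n42549 := d16_1 D43144 (iv D42549) (iv F194968)
theorem F198635 : act 2 n43144 = n42412 := d23_1 D43144 (iv D42412) (iv F194969)
theorem F198636 : act 3 n43144 = n42464 := d29_1 D43144 F195468 (iv F194970)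
theorem F198637 : act 4 n43144 = n42387 := d34_1 D43144 (iv D42387) (iv F194971)
theorem F198638 : act 5 n43144 = n42450 := d38_1 D43144 (iv D42450) (iv F194972)
theorem F198639 : act 7 n43144 = n42385 := d43_1 D43144 (iv D42385) D42384
theorem F198640 : act 8 n43144 = n42460 := d44_1 D43144 (iv D42460) F191093 (iv F190675) (iv F194973)
def n43145 : Q := act 5 n42386
theorem D43145 : act 5 n42386 = n43145 := rfl
theorem F198641 : act 0 n43145 = n42815 := d4_1 D43145 F197161 (iv F194982)
theorem F198642 : act 1 n43145 = n42539 := d12_1 D43145 F195902 (iv F194983)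
theorem F198643 : act 3 n43145 = n42524 := d25_1 D43145 F195814 (iv F194984)
theorem F198644 : act 6 n43145 = n42966 := d35_2 (iv F194986) D43145 (iv F198605) F198606 F195541
theorem F198645 : act 8 n43145 = n42979 := d37_2 D42386 D43145 (iv D42979) (iv D42172) (iv F190644)
theorem F198646 : act 9 n43145 = n42388 := d38_2 (iv F194987) D43145 (iv D42388)
def n43146 : Q := act 5 n42389
theorem D43146 : act 5 n42389 = n43146 := rfl
theorem F198647 : act 0 n43146 = n42868 := d4_1 D43146 (iv D42868) (iv F195000)
theorem F198648 : act 1 n43146 = n43010 := d12_1 D43146 F197758 (iv F195001)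
theorem F198649 : act 2 n43146 = n42644 := d19_1 D43146 (iv D42644) (iv F195002)
theorem F198650 : act 3 n43146 = n42748 := d25_1 D43146 (iv D42748) (iv F195003)
theorem F198651 : act 7 n43146 = n42608 := d36_2 (iv F195006) D43146 (iv D42608)
theorem F198652 : act 8 n43146 = n43146 := d37_2 D42389 D43146 (iv D43146) (iv D42389) F190690
def n43147 : Q := act 9 n42389
theorem D43147 : act 9 n42389 = n43147 := rfl
theorem F198653 : act 0 n43147 = n42869 := d8_1 D43147 (iv D42869) (iv F195000)
theorem F198654 : act 1 n43147 = n43012 := d16_1 D43147 (iv D43012) (iv F195001)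
theorem F198655 : act 2 n43147 = n42645 := d23_1 D43147 (iv D42645) (iv F195002)
theorem F198656 : act 3 n43147 = n42749 := d29_1 D43147 (iv D42749) (iv F195003)
theorem F198657 : act 4 n43147 = n42391 := d34_1 D43147 (iv D42391) (iv F195004)
theorem F198658 : act 6 n43147 = n42445 := d41_1 D43147 (iv D42445) (iv F195005)
theorem F198659 : act 7 n43147 = n42609 := d43_1 D43147 (iv D42609) (iv F195006)
theorem F198660 : act 8 n43147 = n42590 := d44_1 D43147 (iv D42590) (iv D41642) (iv F190693) D42389
def n43148 : Q := act 4 n42390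
theorem D43148 : act 4 n42390 = n43148 := rfl
theorem F198661 : act 0 n43148 = n42870 := d3_1 D43148 (iv D42870) (iv F195007)
theorem F198662 : act 1 n43148 = n42826 := d11_1 D43148 F197186 (iv F195008)
theorem F198663 : act 2 n43148 = n42646 := d18_1 D43148 (iv D42646) (iv F195009)
theorem F198664 : act 6 n43148 = n42986 := d31_2 F195013 D43148 F197704
theorem F198665 : act 7 n43148 = n42610 := d32_2 (iv F195011) D43148 (iv D42610)
theorem F198666 : act 8 n43148 = n42392 := d33_2 (iv F195012) D43148 (iv D42392)
def n43149 : Q := act 9 n42390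
theorem D43149 : act 9 n42390 = n43149 := rfl
theorem F198667 : act 0 n43149 = n42871 := d8_1 D43149 (iv D42871) (iv F195007)
theorem F198668 : act 1 n43149 = n42828 := d16_1 D43149 (iv D42828) (iv F195008)
theorem F198669 : act 2 n43149 = n42647 := d23_1 D43149 (iv D42647) (iv F195009)
theorem F198670 : act 3 n43149 = n42395 := d29_1 D43149 (iv D42395) (iv F195010)
theorem F198671 : act 5 n43149 = n42391 := d38_1 D43149 (iv D42391) D42390
theorem F198672 : act 6 n43149 = n42980 := d41_1 D43149 F197692 F195013
theorem F198673 : act 7 n43149 = n42611 := d43_1 D43149 (iv D42611) (iv F195011)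
theorem F198674 : act 8 n43149 = n42783 := d44_1 D43149 (iv D42783) F192969 (iv F190706) (iv F195012)
def n43150 : Q := act 3 n42392
theorem D43150 : act 3 n42392 = n43150 := rfl
theorem F198675 : act 0 n43150 = n42872 := d2_1 D43150 (iv D42872) (iv F195021)
theorem F198676 : act 1 n43150 = n42829 := d10_1 D43150 F197193 (iv F195022)
theorem F198677 : act 4 n43150 = n42396 := d24_2 D42392 D43150 (iv D42396) (iv D41428) (iv F190703)
theorem F198678 : act 5 n43150 = n43150 := d25_2 F195024 D43150 (iv D43150)
theorem F198679 : act 6 n43150 = n42984 := d26_2 (iv F195025) D43150 F197699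
theorem F198680 : act 7 n43150 = n42612 := d27_2 (iv F195026) D43150 (iv D42612)
theorem F198681 : act 9 n43150 = n42786 := d29_2 (iv F195027) D43150 F197062
def n43151 : Q := act 3 n42393
theorem D43151 : act 3 n42393 = n43151 := rfl
theorem F198682 : act 0 n43151 = n42873 := d2_1 D43151 (iv D42873) (iv F195028)
theorem F198683 : act 1 n43151 = n42831 := d10_1 D43151 F197199 (iv F195029)
theorem F198684 : act 5 n43151 = n42711 := d25_2 (iv F195031) D43151 F196787
theorem F198685 : act 7 n43151 = n42613 := d27_2 (iv F195032) D43151 (iv D42613)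
theorem F198686 : act 8 n43151 = n42396 := d28_2 (iv F195033) D43151 (iv D42396)
def n43152 : Q := act 6 n42393
theorem D43152 : act 6 n42393 = n43152 := rfl
theorem F198687 : act 0 n43152 = n42874 := d5_1 D43152 (iv D42874) (iv F195028)
theorem F198688 : act 1 n43152 = n42805 := d13_1 D43152 F197132 (iv F195029)
theorem F198689 : act 2 n43152 = n42401 := d20_1 D43152 (iv D42401) (iv F195030)
theorem F198690 : act 4 n43152 = n42394 := d31_1 D43152 (iv D42394) D42393
theorem F198691 : act 7 n43152 = n42795 := d39_2 (iv F195032) D43152 (iv D42795) F193018 (iv F192055)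
theorem F198692 : act 8 n43152 = n42397 := d40_2 (iv F195033) D43152 (iv D42397)
def n43153 : Q := act 9 n42393
theorem D43153 : act 9 n42393 = n43153 := rfl
theorem F198693 : act 0 n43153 = n42875 := d8_1 D43153 (iv D42875) (iv F195028)
theorem F198694 : act 1 n43153 = n42833 := d16_1 D43153 (iv D42833) (iv F195029)
theorem F198695 : act 2 n43153 = n42402 := d23_1 D43153 (iv D42402) (iv F195030)
theorem F198696 : act 4 n43153 = n42395 := d34_1 D43153 (iv D42395) D42393
theorem F198697 : act 5 n43153 = n42713 := d38_1 D43153 (iv D42713) (iv F195031)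
theorem F198698 : act 7 n43153 = n42614 := d43_1 D43153 (iv D42614) (iv F195032)
def n43154 : Q := act 9 n42394
theorem D43154 : act 9 n42394 = n43154 := rfl
theorem F198699 : act 0 n43154 = n42876 := d8_1 D43154 (iv D42876) (iv F195034)
theorem F198700 : act 1 n43154 = n42807 := d16_1 D43154 (iv D42807) (iv F195035)
theorem F198701 : act 2 n43154 = n42404 := d23_1 D43154 (iv D42404) (iv F195036)
theorem F198702 : act 3 n43154 = n42980 := d29_1 D43154 F197692 (iv F195037)
theorem F198703 : act 5 n43154 = n42452 := d38_1 D43154 (iv D42452) (iv F195038)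
theorem F198704 : act 6 n43154 = n42395 := d41_1 D43154 (iv D42395) D42394
theorem F198705 : act 7 n43154 = n42797 := d43_1 D43154 (iv D42797) (iv F195039)
theorem F198706 : act 8 n43154 = n42885 := d44_1 D43154 (iv D42885) F193439 F190730 (iv F195040)
def n43155 : Q := act 8 n42395
theorem D43155 : act 8 n42395 = n43155 := rfl
theorem F198707 : act 0 n43155 = n42622 := d7_1 D43155 F196386 (iv F195041)
theorem F198708 : act 1 n43155 = n42835 := d15_1 D43155 (iv D42835) (iv F195042)
theorem F198709 : act 2 n43155 = n42405 := d22_1 D43155 (iv D42405) (iv F195043)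
theorem F198710 : act 3 n43155 = n42783 := d28_1 D43155 (iv F198674) F198670
theorem F198711 : act 5 n43155 = n42594 := d37_1 D43155 (iv D42594) F191912 (iv F190718) (iv F195044)
theorem F198712 : act 6 n43155 = n42885 := d40_1 D43155 (iv F198706) F198704
theorem F198713 : act 7 n43155 = n42574 := d42_1 D43155 F196133 (iv F195045)
theorem F198714 : act 9 n43155 = n42398 := d44_2 D42395 D43155 (iv D42398) (iv D41430) (iv F190711)
def n43156 : Q := act 2 n42396
theorem D43156 : act 2 n42396 = n43156 := rfl
theorem F198715 : act 0 n43156 = n42877 := d1_1 D43156 (iv D42877) (iv F195046)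
theorem F198716 : act 3 n43156 = n42406 := d17_2 D42396 D43156 (iv D42406) (iv D41435) (iv F190721)
theorem F198717 : act 5 n43156 = n42399 := d19_2 (iv F195048) D43156 (iv D42399)
theorem F198718 : act 7 n43156 = n42615 := d21_2 (iv F195049) D43156 (iv D42615)
def n43157 : Q := act 6 n42396
theorem D43157 : act 6 n42396 = n43157 := rfl
theorem F198719 : act 0 n43157 = n42878 := d5_1 D43157 (iv D42878) (iv F195046)
theorem F198720 : act 1 n43157 = n42808 := d13_1 D43157 F197142 (iv F195047)
theorem F198721 : act 3 n43157 = n42397 := d26_1 D43157 (iv D42397) D42396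
theorem F198722 : act 4 n43157 = n42984 := d31_1 D43157 (iv F198679) F198677
theorem F198723 : act 5 n43157 = n43157 := d35_1 D43157 (iv D43157) F195048 F190741 (iv F195048)
theorem F198724 : act 7 n43157 = n42799 := d39_2 (iv F195049) D43157 (iv D42799) F193031 (iv F192064)
theorem F198725 : act 9 n43157 = n42887 := d41_2 F198347 D43157 (iv F198346)
def n43158 : Q := act 2 n42400
theorem D43158 : act 2 n42400 = n43158 := rfl
theorem F198726 : act 0 n43158 = n42879 := d1_1 D43158 (iv D42879) (iv F195070)
theorem F198727 : act 4 n43158 = n42657 := d18_2 (iv F195072) D43158 (iv D42657)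
theorem F198728 : act 5 n43158 = n42720 := d19_2 (iv F195073) D43158 F196827
theorem F198729 : act 7 n43158 = n42617 := d21_2 (iv F195074) D43158 (iv D42617)
theorem F198730 : act 8 n43158 = n42406 := d22_2 (iv F195075) D43158 (iv D42406)
def n43159 : Q := act 6 n42400
theorem D43159 : act 6 n42400 = n43159 := rfl
theorem F198731 : act 0 n43159 = n42880 := d5_1 D43159 (iv D42880) (iv F195070)
theorem F198732 : act 1 n43159 = n42677 := d13_1 D43159 (iv D42677) (iv F195071)
theorem F198733 : act 3 n43159 = n42401 := d26_1 D43159 (iv D42401) D42400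
theorem F198734 : act 4 n43159 = n42658 := d31_1 D43159 (iv D42658) (iv F195072)
theorem F198735 : act 8 n43159 = n42407 := d40_2 (iv F195075) D43159 (iv D42407)
def n43160 : Q := act 9 n42400
theorem D43160 : act 9 n42400 = n43160 := rfl
theorem F198736 : act 0 n43160 = n42881 := d8_1 D43160 (iv D42881) (iv F195070)
theorem F198737 : act 1 n43160 = n42678 := d16_1 D43160 (iv D42678) (iv F195071)
theorem F198738 : act 3 n43160 = n42402 := d29_1 D43160 (iv D42402) D42400
theorem F198739 : act 4 n43160 = n42659 := d34_1 D43160 (iv D42659) (iv F195072)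
theorem F198740 : act 5 n43160 = n42723 := d38_1 D43160 (iv D42723) (iv F195073)
theorem F198741 : act 7 n43160 = n42619 := d43_1 D43160 (iv D42619) (iv F195074)
def n43161 : Q := act 5 n42401
theorem D43161 : act 5 n42401 = n43161 := rfl
theorem F198742 : act 0 n43161 = n42882 := d4_1 D43161 (iv D42882) (iv F195076)
theorem F198743 : act 1 n43161 = n42679 := d12_1 D43161 (iv D42679) (iv F195077)
theorem F198744 : act 4 n43161 = n42461 := d30_1 D43161 (iv D42461) F191096 (iv F190752) (iv F195078)
theorem F198745 : act 6 n43161 = n42750 := d35_2 D42401 D43161 (iv D42750) (iv D41869) (iv F190746)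
theorem F198746 : act 8 n43161 = n43161 := d37_2 (iv F195079) D43161 (iv D43161) F195079 F190767
def n43162 : Q := act 7 n42401
theorem D43162 : act 7 n42401 = n43162 := rfl
theorem F198747 : act 0 n43162 = n42883 := d6_1 D43162 (iv D42883) (iv F195076)
theorem F198748 : act 1 n43162 = n42680 := d14_1 D43162 (iv D42680) (iv F195077)
theorem F198749 : act 2 n43162 = n42795 := d21_1 D43162 (iv F198691) F198689
theorem F198750 : act 4 n43162 = n42403 := d32_1 D43162 (iv D42403) (iv F195078)
theorem F198751 : act 6 n43162 = n42620 := d39_1 D43162 (iv D42620) (iv D41679) (iv F190747) D42401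
theorem F198752 : act 8 n43162 = n42408 := d42_2 (iv F195079) D43162 (iv D42408)
def n43163 : Q := act 9 n42401
theorem D43163 : act 9 n42401 = n43163 := rfl
theorem F198753 : act 0 n43163 = n42884 := d8_1 D43163 (iv D42884) (iv F195076)
theorem F198754 : act 1 n43163 = n42681 := d16_1 D43163 (iv D42681) (iv F195077)
theorem F198755 : act 4 n43163 = n42404 := d34_1 D43163 (iv D42404) (iv F195078)
theorem F198756 : act 6 n43163 = n42402 := d41_1 D43163 (iv D42402) D42401
def n43164 : Q := act 9 n42403
theorem D43164 : act 9 n42403 = n43164 := rfl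
theorem F198757 : act 0 n43164 = n42885 := d8_1 D43164 (iv D42885) (iv F195085)
theorem F198758 : act 1 n43164 = n42683 := d16_1 D43164 (iv D42683) (iv F195086)
theorem F198759 : act 2 n43164 = n42797 := d23_1 D43164 (iv D42797) (iv F195087)
theorem F198760 : act 3 n43164 = n42663 := d29_1 D43164 (iv D42663) (iv F195088)
theorem F198761 : act 5 n43164 = n42465 := d38_1 D43164 (iv D42465) (iv F195089)
theorem F198762 : act 6 n43164 = n42622 := d41_1 D43164 (iv D42622) (iv F195090)
theorem F198763 : act 7 n43164 = n42404 := d43_1 D43164 (iv D42404) D42403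
theorem F198764 : act 8 n43164 = n42876 := d44_1 D43164 (iv D42876) F193419 F190774 (iv F195091)
def n43165 : Q := act 8 n42404
theorem D43165 : act 8 n42404 = n43165 := rfl
theorem F198765 : act 0 n43165 = n42797 := d7_1 D43165 F197111 (iv F195092)
theorem F198766 : act 1 n43165 = n42684 := d15_1 D43165 (iv D42684) (iv F195093)
theorem F198767 : act 2 n43165 = n42885 := d22_1 D43165 (iv F198706) F198701
theorem F198768 : act 3 n43165 = n42664 := d28_1 D43165 (iv D42664) (iv F195094)
theorem F198769 : act 6 n43165 = n42405 := d40_1 D43165 (iv D42405) (iv F195096)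
theorem F198770 : act 7 n43165 = n42876 := d42_1 D43165 (iv F198764) F198763
theorem F198771 : act 9 n43165 = n42409 := d44_2 D42404 D43165 (iv D42409) (iv D41438) (iv F190753)
theorem F198772 : act 5 n42898 = n43165 := d38_3 F198771 F195123 D42898
def n43166 : Q := act 6 n42406
theorem D43166 : act 6 n42406 = n43166 := rfl
theorem F198773 : act 0 n43166 = n42886 := d5_1 D43166 (iv D42886) (iv F195103)
theorem F198774 : act 1 n43166 = n43013 := d13_1 D43166 (iv F197998) F197994
theorem F198775 : act 2 n43166 = n42407 := d20_1 D43166 (iv D42407) D42406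
theorem F198776 : act 4 n43166 = n42665 := d31_1 D43166 (iv D42665) (iv F195104)
theorem F198777 : act 5 n43166 = n43166 := d35_1 D43166 (iv D43166) F195105 F190789 (iv F195105)
def n43167 : Q := act 7 n42407
theorem D43167 : act 7 n42407 = n43167 := rfl
theorem F198778 : act 0 n43167 = n42887 := d6_1 D43167 (iv D42887) (iv F195107)
theorem F198779 : act 1 n43167 = n42685 := d14_1 D43167 (iv D42685) (iv F195108)
theorem F198780 : act 3 n43167 = n42408 := d27_1 D43167 (iv D42408) (iv F195109)
theorem F198781 : act 4 n43167 = n42666 := d32_1 D43167 (iv D42666) (iv F195110)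
theorem F198782 : act 5 n43167 = n43167 := d36_1 D43167 (iv D43167) F195111
theorem F198783 : act 6 n43167 = n42625 := d39_1 D43167 (iv D42625) (iv D41685) (iv F190763) D42407
theorem F198784 : act 9 n43167 = n42878 := d43_2 F198354 D43167 (iv F198353)
def n43168 : Q := act 6 n42410
theorem D43168 : act 6 n42410 = n43168 := rfl
theorem F198785 : act 0 n43168 = n42858 := d5_1 D43168 (iv D42858) (iv F195126)
theorem F198786 : act 1 n43168 = n42777 := d13_1 D43168 (iv D42777) (iv F195127)
theorem F198787 : act 2 n43168 = n42818 := d20_1 D43168 (iv D42818) F195132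
theorem F198788 : act 3 n43168 = n42411 := d26_1 D43168 (iv D42411) D42410
theorem F198789 : act 4 n43168 = n42744 := d31_1 D43168 (iv D42744) (iv F195128)
theorem F198790 : act 8 n43168 = n42414 := d40_2 (iv F195131) D43168 (iv D42414)
def n43169 : Q := act 9 n42410
theorem D43169 : act 9 n42410 = n43169 := rfl
theorem F198791 : act 0 n43169 = n42859 := d8_1 D43169 (iv D42859) (iv F195126)
theorem F198792 : act 1 n43169 = n42778 := d16_1 D43169 (iv D42778) (iv F195127)
theorem F198793 : act 2 n43169 = n42819 := d23_1 D43169 (iv D42819) F195132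
theorem F198794 : act 3 n43169 = n42412 := d29_1 D43169 (iv D42412) D42410
theorem F198795 : act 4 n43169 = n42745 := d34_1 D43169 (iv D42745) (iv F195128)
theorem F198796 : act 5 n43169 = n42460 := d38_1 D43169 (iv D42460) (iv F195129)
theorem F198797 : act 7 n43169 = n42476 := d43_1 D43169 (iv D42476) (iv F195130)
theorem F198798 : act 8 n43169 = n42824 := d44_1 D43169 (iv D42824) F193107 (iv F190819) (iv F195131)
def n43170 : Q := act 5 n42411
theorem D43170 : act 5 n42411 = n43170 := rfl
theorem F198799 : act 0 n43170 = n42860 := d4_1 D43170 (iv D42860) (iv F195133)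
theorem F198800 : act 1 n43170 = n42779 := d12_1 D43170 (iv D42779) (iv F195134)
theorem F198801 : act 4 n43170 = n42750 := d30_1 D43170 (iv D42750) F192878 (iv F190806) (iv F195135)
theorem F198802 : act 6 n43170 = n42461 := d35_2 D42411 D43170 (iv D42461) (iv D41491) (iv F190800)
theorem F198803 : act 8 n43170 = n43170 := d37_2 (iv F195136) D43170 (iv D43170) F195136 F190824
def n43171 : Q := act 9 n42411
theorem D43171 : act 9 n42411 = n43171 := rfl
theorem F198804 : act 0 n43171 = n42862 := d8_1 D43171 (iv D42862) (iv F195133)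
theorem F198805 : act 1 n43171 = n42781 := d16_1 D43171 (iv D42781) (iv F195134)
theorem F198806 : act 4 n43171 = n42413 := d34_1 D43171 (iv D42413) (iv F195135)
theorem F198807 : act 6 n43171 = n42412 := d41_1 D43171 (iv D42412) D42411
theorem F198808 : act 8 n43171 = n42827 := d44_1 D43171 (iv D42827) F193109 (iv F190825) (iv F195136)
def n43172 : Q := act 9 n42415
theorem D43172 : act 9 n42415 = n43172 := rfl
theorem F198809 : act 0 n43172 = n42418 := d8_1 D43172 (iv D42418) (iv F195156)
theorem F198810 : act 1 n43172 = n42486 := d16_1 D43172 (iv D42486) (iv F195157)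
theorem F198811 : act 2 n43172 = n42595 := d23_1 D43172 (iv D42595) (iv F195158)
theorem F198812 : act 3 n43172 = n42483 := d29_1 D43172 (iv D42483) (iv F195159)
theorem F198813 : act 4 n43172 = n42593 := d34_1 D43172 (iv D42593) (iv F195160)
theorem F198814 : act 5 n43172 = n42480 := d38_1 D43172 (iv D42480) (iv F195161)
theorem F198815 : act 6 n43172 = n42582 := d41_1 D43172 (iv D42582) (iv F195162)
theorem F198816 : act 7 n43172 = n42479 := d43_1 D43172 (iv D42479) (iv F195163)
theorem F198817 : act 8 n43172 = n42434 := d44_1 D43172 (iv D42434) (iv D41466) (iv F190833) D42415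
def n43173 : Q := act 9 n42416
theorem D43173 : act 9 n42416 = n43173 := rfl
theorem F198818 : act 0 n43173 = n42483 := d8_1 D43173 (iv D42483) (iv F195164)
theorem F198819 : act 1 n43173 = n42420 := d16_1 D43173 (iv D42420) (iv F195165)
theorem F198820 : act 2 n43173 = n42695 := d23_1 D43173 F196708 (iv F195166)
theorem F198821 : act 3 n43173 = n42418 := d29_1 D43173 (iv D42418) (iv F195167)
theorem F198822 : act 5 n43173 = n42479 := d38_1 D43173 (iv D42479) (iv F195168)
theorem F198823 : act 6 n43173 = n42587 := d41_1 D43173 (iv D42587) (iv F195169)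
theorem F198824 : act 7 n43173 = n42480 := d43_1 D43173 (iv D42480) (iv F195170)
theorem F198825 : act 8 n43173 = n42437 := d44_1 D43173 (iv D42437) (iv D41469) (iv F190840) D42416
def n43174 : Q := act 9 n42417
theorem D43174 : act 9 n42417 = n43174 := rfl
theorem F198826 : act 0 n43174 = n42480 := d8_1 D43174 (iv D42480) (iv F195171)
theorem F198827 : act 1 n43174 = n42423 := d16_1 D43174 (iv D42423) (iv F195172)
theorem F198828 : act 2 n43174 = n42643 := d23_1 D43174 (iv D42643) (iv F195173)
theorem F198829 : act 3 n43174 = n42479 := d29_1 D43174 (iv D42479) (iv F195174)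
theorem F198830 : act 4 n43174 = n42842 := d34_1 D43174 F197236 F195178
theorem F198831 : act 5 n43174 = n42418 := d38_1 D43174 (iv D42418) D42417
theorem F198832 : act 6 n43174 = n42693 := d41_1 D43174 F196699 (iv F195175)
theorem F198833 : act 7 n43174 = n42483 := d43_1 D43174 (iv D42483) (iv F195176)
theorem F198834 : act 8 n43174 = n42517 := d44_1 D43174 (iv D42517) (iv D41551) (iv F190853) (iv F195177)
def n43175 : Q := act 9 n42419
theorem D43175 : act 9 n42419 = n43175 := rfl
theorem F198835 : act 0 n43175 = n42848 := d8_1 D43175 (iv D42848) (iv F195185)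
theorem F198836 : act 2 n43175 = n42671 := d23_1 D43175 (iv D42671) (iv F195186)
theorem F198837 : act 3 n43175 = n42700 := d29_1 D43175 (iv D42700) (iv F195187)
theorem F198838 : act 4 n43175 = n42420 := d34_1 D43175 (iv D42420) (iv F195188)
theorem F198839 : act 5 n43175 = n42733 := d38_1 D43175 F196879 (iv F195189)
theorem F198840 : act 6 n43175 = n42590 := d41_1 D43175 (iv D42590) (iv F195190)
theorem F198841 : act 7 n43175 = n42485 := d43_1 D43175 (iv D42485) (iv F195191)
theorem F198842 : act 8 n43175 = n42445 := d44_1 D43175 (iv D42445) (iv D41477) (iv F190860) D42419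
def n43176 : Q := act 9 n42421
theorem D43176 : act 9 n42421 = n43176 := rfl
theorem F198843 : act 0 n43176 = n42849 := d8_1 D43176 (iv D42849) (iv F195199)
theorem F198844 : act 1 n43176 = n42842 := d16_1 D43176 F197236 (iv F195200)
theorem F198845 : act 2 n43176 = n42425 := d23_1 D43176 (iv D42425) (iv F195201)
theorem F198846 : act 3 n43176 = n42708 := d29_1 D43176 F196777 (iv F195202)
theorem F198847 : act 4 n43176 = n42423 := d34_1 D43176 (iv D42423) D42421
theorem F198848 : act 5 n43176 = n42699 := d38_1 D43176 (iv D42699) (iv F195203)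
theorem F198849 : act 6 n43176 = n42756 := d41_1 D43176 F196968 F195206
theorem F198850 : act 7 n43176 = n42489 := d43_1 D43176 (iv D42489) (iv F195204)
theorem F198851 : act 8 n43176 = n42707 := d44_1 D43176 (iv D42707) F192565 (iv F190884) (iv F195205)
def n43177 : Q := act 9 n42422
theorem D43177 : act 9 n42422 = n43177 := rfl
theorem F198852 : act 0 n43177 = n42698 := d8_1 D43177 (iv D42698) (iv F195207)
theorem F198853 : act 1 n43177 = n42693 := d16_1 D43177 F196699 (iv F195208)
theorem F198854 : act 2 n43177 = n42427 := d23_1 D43177 (iv D42427) (iv F195209)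
theorem F198855 : act 3 n43177 = n42692 := d29_1 D43177 F196692 (iv F195210)
theorem F198856 : act 4 n43177 = n42756 := d34_1 D43177 F196968 (iv F195211)
theorem F198857 : act 5 n43177 = n42593 := d38_1 D43177 (iv D42593) (iv F195212)
theorem F198858 : act 6 n43177 = n42423 := d41_1 D43177 (iv D42423) D42422
theorem F198859 : act 7 n43177 = n42725 := d43_1 D43177 F196847 (iv F195214)
theorem F198860 : act 8 n43177 = n42691 := d44_1 D43177 (iv D42691) F192403 (iv F190892) (iv F195213)
def n43178 : Q := act 7 n42424
theorem D43178 : act 7 n42424 = n43178 := rfl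
theorem F198861 : act 0 n43178 = n42850 := d6_1 D43178 (iv D42850) (iv F195221)
theorem F198862 : act 1 n43178 = n42660 := d14_1 D43178 (iv D42660) (iv F195222)
theorem F198863 : act 2 n43178 = n42726 := d21_1 D43178 F196851 (iv F195223)
theorem F198864 : act 3 n43178 = n42728 := d27_1 D43178 (iv D42728) (iv F195224)
theorem F198865 : act 4 n43178 = n42426 := d32_1 D43178 (iv D42426) (iv F195225)
theorem F198866 : act 5 n43178 = n42696 := d36_1 D43178 F196711 (iv F195226)
theorem F198867 : act 6 n43178 = n42501 := d39_1 D43178 (iv D42501) (iv D41536) (iv F190897) D42424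
theorem F198868 : act 8 n43178 = n42429 := d42_2 (iv F195227) D43178 (iv D42429)
def n43179 : Q := act 9 n42424
theorem D43179 : act 9 n42424 = n43179 := rfl
theorem F198869 : act 0 n43179 = n42851 := d8_1 D43179 (iv D42851) (iv F195221)
theorem F198870 : act 1 n43179 = n42661 := d16_1 D43179 (iv D42661) (iv F195222)
theorem F198871 : act 2 n43179 = n42756 := d23_1 D43179 F196968 (iv F195223)
theorem F198872 : act 3 n43179 = n42729 := d29_1 D43179 (iv D42729) (iv F195224)
theorem F198873 : act 4 n43179 = n42427 := d34_1 D43179 (iv D42427) (iv F195225)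
theorem F198874 : act 5 n43179 = n42940 := d38_1 D43179 (iv D42940) (iv F195226)
theorem F198875 : act 6 n43179 = n42425 := d41_1 D43179 (iv D42425) D42424
theorem F198876 : act 8 n43179 = n42755 := d44_1 D43179 (iv D42755) F192894 F190916 (iv F195227)
def n43180 : Q := act 8 n42425
theorem D43180 : act 8 n42425 = n43180 := rfl
theorem F198877 : act 0 n43180 = n42852 := d7_1 D43180 (iv D42852) (iv F195228)
theorem F198878 : act 1 n43180 = n42662 := d15_1 D43180 (iv D42662) (iv F195229)
theorem F198879 : act 2 n43180 = n42707 := d22_1 D43180 (iv F198851) F198845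
theorem F198880 : act 3 n43180 = n42710 := d28_1 D43180 F196785 (iv F195230)
theorem F198881 : act 4 n43180 = n42428 := d33_1 D43180 (iv D42428) (iv F195231)
theorem F198882 : act 5 n43180 = n42822 := d37_1 D43180 (iv D42822) F193105 (iv F192528) (iv F195232)
theorem F198883 : act 6 n43180 = n42755 := d40_1 D43180 (iv F198876) F198875
theorem F198884 : act 7 n43180 = n42503 := d42_1 D43180 (iv D42503) (iv F195233)
theorem F198885 : act 9 n43180 = n42430 := d44_2 D42425 D43180 (iv D42430) (iv D41461) (iv F190898)
def n43181 : Q := act 9 n42426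
theorem D43181 : act 9 n42426 = n43181 := rfl
theorem F198886 : act 0 n43181 = n42853 := d8_1 D43181 (iv D42853) (iv F195234)
theorem F198887 : act 1 n43181 = n42663 := d16_1 D43181 (iv D42663) (iv F195235)
theorem F198888 : act 2 n43181 = n42725 := d23_1 D43181 F196847 (iv F195236)
theorem F198889 : act 3 n43181 = n42683 := d29_1 D43181 (iv D42683) (iv F195237)
theorem F198890 : act 5 n43181 = n42596 := d38_1 D43181 (iv D42596) (iv F195238)
theorem F198891 : act 6 n43181 = n42504 := d41_1 D43181 (iv D42504) (iv F195239)
theorem F198892 : act 7 n43181 = n42427 := d43_1 D43181 (iv D42427) D42426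
theorem F198893 : act 8 n43181 = n42721 := d44_1 D43181 (iv D42721) F192644 F190931 (iv F195240)
def n43182 : Q := act 8 n42427
theorem D43182 : act 8 n42427 = n43182 := rfl
theorem F198894 : act 0 n43182 = n42742 := d7_1 D43182 F196921 (iv F195241)
theorem F198895 : act 1 n43182 = n42664 := d15_1 D43182 (iv D42664) (iv F195242)
theorem F198896 : act 2 n43182 = n42691 := d22_1 D43182 (iv F198860) F198854
theorem F198897 : act 3 n43182 = n42684 := d28_1 D43182 (iv D42684) (iv F195243)
theorem F198898 : act 4 n43182 = n42755 := d33_1 D43182 (iv F198876) F198873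
theorem F198899 : act 5 n43182 = n42689 := d37_1 D43182 F196673 F196256 (iv D42597) (iv F195244)
theorem F198900 : act 6 n43182 = n42428 := d40_1 D43182 (iv D42428) (iv F195245)
theorem F198901 : act 7 n43182 = n42721 := d42_1 D43182 (iv F198893) F198892
theorem F198902 : act 9 n43182 = n42431 := d44_2 D42427 D43182 (iv D42431) (iv D41463) (iv F190904)
def n43183 : Q := act 9 n42432
theorem D43183 : act 9 n42432 = n43183 := rfl
theorem F198903 : act 0 n43183 = n42437 := d8_1 D43183 (iv D42437) (iv F195277)
theorem F198904 : act 1 n43183 = n42492 := d16_1 D43183 F195635 (iv F195278)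
theorem F198905 : act 2 n43183 = n42981 := d23_1 D43183 F197694 (iv F195279)
theorem F198906 : act 3 n43183 = n42434 := d29_1 D43183 (iv D42434) (iv F195280)
theorem F198907 : act 4 n43183 = n42841 := d34_1 D43183 (iv D42841) (iv F195281)
theorem F198908 : act 5 n43183 = n42525 := d38_1 D43183 F195819 (iv F195282)
theorem F198909 : act 6 n43183 = n42734 := d41_1 D43183 (iv D42734) (iv F195283)
theorem F198910 : act 7 n43183 = n42517 := d43_1 D43183 (iv D42517) (iv F195284)
theorem F198911 : act 8 n43183 = n42483 := d44_1 D43183 (iv D42483) F191243 (iv F190953) D42432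
def n43184 : Q := act 9 n42433
theorem D43184 : act 9 n42433 = n43184 := rfl
theorem F198912 : act 0 n43184 = n42440 := d8_1 D43184 (iv D42440) (iv F195285)
theorem F198913 : act 1 n43184 = n42533 := d16_1 D43184 F195865 (iv F195286)
theorem F198914 : act 2 n43184 = n42663 := d23_1 D43184 (iv D42663) (iv F195287)
theorem F198915 : act 3 n43184 = n42525 := d29_1 D43184 F195819 (iv F195288)
theorem F198916 : act 4 n43184 = n42951 := d34_1 D43184 (iv D42951) (iv F195289)
theorem F198917 : act 5 n43184 = n42434 := d38_1 D43184 (iv D42434) D42433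
theorem F198918 : act 6 n43184 = n42963 := d41_1 D43184 F197652 (iv F195290)
theorem F198919 : act 7 n43184 = n42518 := d43_1 D43184 (iv D42518) (iv F195291)
theorem F198920 : act 8 n43184 = n42523 := d44_1 D43184 (iv D42523) F191427 (iv F190967) (iv F195292)
def n43185 : Q := act 9 n42435
theorem D43185 : act 9 n42435 = n43185 := rfl
theorem F198921 : act 0 n43185 = n42981 := d8_1 D43185 F197694 (iv F195299)
theorem F198922 : act 1 n43185 = n42689 := d16_1 D43185 (iv D42689) (iv F195300)
theorem F198923 : act 2 n43185 = n42437 := d23_1 D43185 (iv D42437) (iv F195301)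
theorem F198924 : act 3 n43185 = n42898 := d29_1 D43185 (iv D42898) (iv F195302)
theorem F198925 : act 5 n43185 = n42664 := d38_1 D43185 F196559 (iv F195303)
theorem F198926 : act 6 n43185 = n42946 := d41_1 D43185 (iv D42946) (iv F195304)
theorem F198927 : act 7 n43185 = n42520 := d43_1 D43185 (iv D42520) (iv F195305)
theorem F198928 : act 8 n43185 = n42695 := d44_1 D43185 F196708 F192465 (iv F190974) D42435
def n43186 : Q := act 9 n42436
theorem D43186 : act 9 n42436 = n43186 := rfl
theorem F198929 : act 0 n43186 = n42525 := d8_1 D43186 F195819 (iv F195306)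
theorem F198930 : act 1 n43186 = n42447 := d16_1 D43186 (iv D42447) (iv F195307)
theorem F198931 : act 2 n43186 = n42664 := d23_1 D43186 F196559 (iv F195308)
theorem F198932 : act 3 n43186 = n42440 := d29_1 D43186 (iv D42440) (iv F195309)
theorem F198933 : act 4 n43186 = n42838 := d34_1 D43186 (iv D42838) F195313
theorem F198934 : act 5 n43186 = n42437 := d38_1 D43186 (iv D42437) D42436
theorem F198935 : act 6 n43186 = n42651 := d41_1 D43186 F196503 (iv F195310)
theorem F198936 : act 7 n43186 = n42523 := d43_1 D43186 (iv D42523) (iv F195311)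
theorem F198937 : act 8 n43186 = n42518 := d44_1 D43186 (iv D42518) F191407 (iv F190986) (iv F195312)
def n43187 : Q := act 6 n42438
theorem D43187 : act 6 n42438 = n43187 := rfl
theorem F198938 : act 0 n43187 = n42950 := d5_1 D43187 (iv D42950) (iv F195318)
theorem F198939 : act 1 n43187 = n42449 := d13_1 D43187 (iv D42449) (iv F195319)
theorem F198940 : act 2 n43187 = n42780 := d20_1 D43187 F197045 (iv F195320)
theorem F198941 : act 4 n43187 = n42439 := d31_1 D43187 (iv D42439) D42438
theorem F198942 : act 7 n43187 = n42765 := d39_2 (iv F195322) D43187 (iv D42765) F192928 (iv F191440)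
theorem F198943 : act 8 n43187 = n42441 := d40_2 (iv F195323) D43187 (iv D42441)
def n43188 : Q := act 9 n42438
theorem D43188 : act 9 n42438 = n43188 := rfl
theorem F198944 : act 0 n43188 = n42951 := d8_1 D43188 (iv D42951) (iv F195318)
theorem F198945 : act 1 n43188 = n42450 := d16_1 D43188 (iv D42450) (iv F195319)
theorem F198946 : act 2 n43188 = n42977 := d23_1 D43188 (iv D42977) (iv F195320)
theorem F198947 : act 4 n43188 = n42440 := d34_1 D43188 (iv D42440) D42438
theorem F198948 : act 5 n43188 = n42549 := d38_1 D43188 (iv D42549) (iv F195321)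
theorem F198949 : act 7 n43188 = n42524 := d43_1 D43188 (iv D42524) (iv F195322)
def n43189 : Q := act 9 n42439
theorem D43189 : act 9 n42439 = n43189 := rfl
theorem F198950 : act 0 n43189 = n42963 := d8_1 D43189 F197652 (iv F195324)
theorem F198951 : act 1 n43189 = n42452 := d16_1 D43189 (iv D42452) (iv F195325)
theorem F198952 : act 2 n43189 = n42783 := d23_1 D43189 (iv D42783) (iv F195326)
theorem F198953 : act 3 n43189 = n42651 := d29_1 D43189 F196503 (iv F195327)
theorem F198954 : act 5 n43189 = n42807 := d38_1 D43189 (iv D42807) (iv F195328)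
theorem F198955 : act 6 n43189 = n42440 := d41_1 D43189 (iv D42440) D42439
theorem F198956 : act 7 n43189 = n42767 := d43_1 D43189 (iv D42767) (iv F195329)
theorem F198957 : act 8 n43189 = n42647 := d44_1 D43189 (iv D42647) F192215 F191006 (iv F195330)
def n43190 : Q := act 8 n42440
theorem D43190 : act 8 n42440 = n43190 := rfl
theorem F198958 : act 0 n43190 = n42523 := d7_1 D43190 (iv F198920) F198912
theorem F198959 : act 1 n43190 = n42453 := d15_1 D43190 (iv D42453) (iv F195331)
theorem F198960 : act 2 n43190 = n42980 := d22_1 D43190 (iv D42980) (iv F195332)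
theorem F198961 : act 3 n43190 = n42518 := d28_1 D43190 (iv F198937) F198932
theorem F198962 : act 5 n43190 = n42517 := d37_1 D43190 (iv F198834) F198831 F195184 (iv F195333)
theorem F198963 : act 6 n43190 = n42647 := d40_1 D43190 (iv F198957) F198955
theorem F198964 : act 7 n43190 = n42525 := d42_1 D43190 (iv D42525) (iv F195334)
theorem F198965 : act 9 n43190 = n42443 := d44_2 D42440 D43190 (iv D42443) (iv D41475) (iv F190990)
def n43191 : Q := act 8 n42442
theorem D43191 : act 8 n42442 = n43191 := rfl
theorem F198966 : act 0 n43191 = n42522 := d7_1 D43191 F195805 (iv F195342)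
theorem F198967 : act 1 n43191 = n42457 := d15_1 D43191 (iv D42457) (iv F195343)
theorem F198968 : act 2 n43191 = n42986 := d22_1 D43191 (iv D42986) (iv F195344)
theorem F198969 : act 3 n43191 = n42788 := d28_1 D43191 F197072 (iv F195345)
theorem F198970 : act 4 n43191 = n42443 := d33_1 D43191 (iv D42443) (iv F195346)
theorem F198971 : act 5 n43191 = n42787 := d37_1 D43191 (iv D42787) F192984 (iv F191021) (iv F195347)
theorem F198972 : act 6 n43191 = n42646 := d40_1 D43191 F196482 (iv F195348)
theorem F198973 : act 7 n43191 = n42526 := d42_1 D43191 (iv D42526) (iv F195349)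
def n43192 : Q := act 6 n42444
theorem D43192 : act 6 n42444 = n43192 := rfl
theorem F198974 : act 0 n43192 = n42890 := d5_1 D43192 (iv D42890) (iv F195357)
theorem F198975 : act 2 n43192 = n42498 := d20_1 D43192 (iv D42498) (iv F195358)
theorem F198976 : act 3 n43192 = n42686 := d26_1 D43192 F196663 (iv F195359)
theorem F198977 : act 4 n43192 = n42709 := d31_1 D43192 (iv D42709) (iv F195360)
theorem F198978 : act 8 n43192 = n42506 := d40_2 (iv F195362) D43192 (iv D42506)
def n43193 : Q := act 9 n42444
theorem D43193 : act 9 n42444 = n43193 := rfl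
theorem F198979 : act 0 n43193 = n42891 := d8_1 D43193 (iv D42891) (iv F195357)
theorem F198980 : act 2 n43193 = n42499 := d23_1 D43193 (iv D42499) (iv F195358)
theorem F198981 : act 3 n43193 = n42682 := d29_1 D43193 F196648 (iv F195359)
theorem F198982 : act 4 n43193 = n42710 := d34_1 D43193 (iv D42710) (iv F195360)
theorem F198983 : act 5 n43193 = n42445 := d38_1 D43193 (iv D42445) D42444
theorem F198984 : act 7 n43193 = n42528 := d43_1 D43193 (iv D42528) (iv F195361)
theorem F198985 : act 8 n43193 = n42678 := d44_1 D43193 (iv D42678) F192353 F191354 (iv F195362)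
def n43194 : Q := act 9 n42446
theorem D43194 : act 9 n42446 = n43194 := rfl
theorem F198986 : act 0 n43194 = n42520 := d8_1 D43194 (iv D42520) (iv F195367)
theorem F198987 : act 1 n43194 = n42651 := d16_1 D43194 F196503 (iv F195368)
theorem F198988 : act 2 n43194 = n42517 := d23_1 D43194 (iv D42517) (iv F195369)
theorem F198989 : act 3 n43194 = n42452 := d29_1 D43194 (iv D42452) (iv F195370)
theorem F198990 : act 4 n43194 = n42840 := d34_1 D43194 (iv D42840) (iv F195371)
theorem F198991 : act 5 n43194 = n42980 := d38_1 D43194 F197692 (iv F195372)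
theorem F198992 : act 6 n43194 = n42447 := d41_1 D43194 (iv D42447) D42446
theorem F198993 : act 7 n43194 = n42981 := d43_1 D43194 F197694 (iv F195374)
theorem F198994 : act 8 n43194 = n42643 := d44_1 D43194 (iv D42643) F192197 (iv F191042) (iv F195373)
def n43195 : Q := act 6 n42448
theorem D43195 : act 6 n42448 = n43195 := rfl
theorem F198995 : act 0 n43195 = n42892 := d5_1 D43195 (iv D42892) (iv F195382)
theorem F198996 : act 2 n43195 = n42823 := d20_1 D43195 (iv D42823) (iv F195383)
theorem F198997 : act 3 n43195 = n42449 := d26_1 D43195 (iv D42449) D42448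
theorem F198998 : act 4 n43195 = n42830 := d31_1 D43195 (iv D42830) (iv F195384)
theorem F198999 : act 8 n43195 = n42454 := d40_2 (iv F195387) D43195 (iv D42454)
def n43196 : Q := act 9 n42448
theorem D43196 : act 9 n42448 = n43196 := rfl
theorem F199000 : act 0 n43196 = n42893 := d8_1 D43196 (iv D42893) (iv F195382)
theorem F199001 : act 2 n43196 = n42824 := d23_1 D43196 (iv D42824) (iv F195383)
theorem F199002 : act 3 n43196 = n42450 := d29_1 D43196 (iv D42450) D42448
theorem F199003 : act 4 n43196 = n42822 := d34_1 D43196 F197178 (iv F195384)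
theorem F199004 : act 5 n43196 = n42464 := d38_1 D43196 F195468 (iv F195385)
theorem F199005 : act 7 n43196 = n42539 := d43_1 D43196 (iv D42539) (iv F195386)
theorem F199006 : act 8 n43196 = n42819 := d44_1 D43196 (iv D42819) F193102 F191060 (iv F195387)
def n43197 : Q := act 5 n42449
theorem D43197 : act 5 n42449 = n43197 := rfl
theorem F199007 : act 0 n43197 = n42894 := d4_1 D43197 (iv D42894) (iv F195388)
theorem F199008 : act 2 n43197 = n42461 := d19_1 D43197 (iv D42461) (iv F195389)
theorem F199009 : act 8 n43197 = n43197 := d37_2 (iv F195391) D43197 (iv D43197) F195391 F191064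
def n43198 : Q := act 7 n42449
theorem D43198 : act 7 n42449 = n43198 := rfl
theorem F199010 : act 0 n43198 = n42895 := d6_1 D43198 (iv D42895) (iv F195388)
theorem F199011 : act 1 n43198 = n42765 := d14_1 D43198 (iv F198942) F198939
theorem F199012 : act 2 n43198 = n42462 := d21_1 D43198 (iv D42462) (iv F195389)
theorem F199013 : act 4 n43198 = n42451 := d32_1 D43198 (iv D42451) (iv F195390)
theorem F199014 : act 6 n43198 = n42540 := d39_1 D43198 (iv D42540) (iv D41574) (iv F191046) D42449
theorem F199015 : act 8 n43198 = n42455 := d42_2 (iv F195391) D43198 (iv D42455)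
def n43199 : Q := act 9 n42449
theorem D43199 : act 9 n42449 = n43199 := rfl
theorem F199016 : act 0 n43199 = n42896 := d8_1 D43199 (iv D42896) (iv F195388)
theorem F199017 : act 2 n43199 = n42463 := d23_1 D43199 (iv D42463) (iv F195389)
theorem F199018 : act 4 n43199 = n42452 := d34_1 D43199 (iv D42452) (iv F195390)
theorem F199019 : act 6 n43199 = n42450 := d41_1 D43199 (iv D42450) D42449
def n43200 : Q := act 8 n42450
theorem D43200 : act 8 n42450 = n43200 := rfl
theorem F199020 : act 0 n43200 = n42897 := d7_1 D43200 (iv D42897) (iv F195392)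
theorem F199021 : act 2 n43200 = n42464 := d22_1 D43200 (iv D42464) (iv F195393)
theorem F199022 : act 3 n43200 = n42819 := d28_1 D43200 (iv F199006) F199002
theorem F199023 : act 4 n43200 = n42453 := d33_1 D43200 (iv D42453) (iv F195394)
theorem F199024 : act 5 n43200 = n42824 := d37_1 D43200 (iv F198798) F198796 (iv F198640) F198638
theorem F199025 : act 7 n43200 = n42542 := d42_1 D43200 (iv D42542) (iv F195395)
theorem F199026 : act 9 n43200 = n42457 := d44_2 D42450 D43200 (iv D42457) (iv D41486) (iv F191047)
def n43201 : Q := act 9 n42451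
theorem D43201 : act 9 n42451 = n43201 := rfl
theorem F199027 : act 0 n43201 = n42898 := d8_1 D43201 (iv D42898) (iv F195396)
theorem F199028 : act 1 n43201 = n42767 := d16_1 D43201 (iv D42767) (iv F195397)
theorem F199029 : act 2 n43201 = n42465 := d23_1 D43201 (iv D42465) (iv F195398)
theorem F199030 : act 3 n43201 = n42981 := d29_1 D43201 F197694 (iv F195399)
theorem F199031 : act 5 n43201 = n42797 := d38_1 D43201 (iv D42797) (iv F195400)
theorem F199032 : act 6 n43201 = n42543 := d41_1 D43201 (iv D42543) (iv F195401)
theorem F199033 : act 7 n43201 = n42452 := d43_1 D43201 (iv D42452) D42451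
theorem F199034 : act 8 n43201 = n42908 := d44_1 D43201 F197491 F193553 F191077 (iv F195402)
def n43202 : Q := act 8 n42452
theorem D43202 : act 8 n42452 = n43202 := rfl
theorem F199035 : act 0 n43202 = n42899 := d7_1 D43202 (iv D42899) (iv F195403)
theorem F199036 : act 1 n43202 = n42647 := d15_1 D43202 (iv F198957) F198951
theorem F199037 : act 2 n43202 = n42466 := d22_1 D43202 (iv D42466) (iv F195404)
theorem F199038 : act 3 n43202 = n42643 := d28_1 D43202 (iv F198994) F198989
theorem F199039 : act 5 n43202 = n42641 := d37_1 D43202 F196462 (iv F197410) (iv F198706) F198703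
theorem F199040 : act 6 n43202 = n42453 := d40_1 D43202 (iv D42453) (iv F195405)
theorem F199041 : act 7 n43202 = n42908 := d42_1 D43202 (iv F199034) F199033
theorem F199042 : act 9 n43202 = n42458 := d44_2 D42452 D43202 (iv D42458) (iv D41488) (iv F191050)
def n43203 : Q := act 7 n42454
theorem D43203 : act 7 n42454 = n43203 := rfl
theorem F199043 : act 0 n43203 = n42900 := d6_1 D43203 (iv D42900) (iv F195412)
theorem F199044 : act 1 n43203 = n42770 := d14_1 D43203 (iv F198570) F198566
theorem F199045 : act 2 n43203 = n42829 := d21_1 D43203 (iv D42829) (iv F195413)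
theorem F199046 : act 3 n43203 = n42455 := d27_1 D43203 (iv D42455) (iv F195414)
theorem F199047 : act 4 n43203 = n42836 := d32_1 D43203 (iv D42836) (iv F195415)
theorem F199048 : act 5 n43203 = n43203 := d36_1 D43203 (iv D43203) F195416
theorem F199049 : act 6 n43203 = n42545 := d39_1 D43203 (iv D42545) (iv D41579) (iv F191059) D42454
theorem F199050 : act 9 n43203 = n42847 := d43_2 (iv F195417) D43203 (iv D42847)
def n43204 : Q := act 8 n42456
theorem D43204 : act 8 n42456 = n43204 := rfl
theorem F199051 : act 0 n43204 = n42901 := d7_1 D43204 (iv D42901) (iv F195425)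
theorem F199052 : act 1 n43204 = n42646 := d15_1 D43204 F196482 (iv F195426)
theorem F199053 : act 2 n43204 = n42467 := d22_1 D43204 (iv D42467) (iv F195427)
theorem F199054 : act 3 n43204 = n42818 := d28_1 D43204 F197168 (iv F195428)
theorem F199055 : act 4 n43204 = n42458 := d33_1 D43204 (iv D42458) (iv F195429)
theorem F199056 : act 6 n43204 = n42457 := d40_1 D43204 (iv D42457) (iv F195431)
theorem F199057 : act 7 n43204 = n42910 := d42_1 D43204 F197493 (iv F195432)
def n43205 : Q := act 5 n42459
theorem D43205 : act 5 n42459 = n43205 := rfl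
theorem F199058 : act 0 n43205 = n42902 := d4_1 D43205 (iv D42902) (iv F195446)
theorem F199059 : act 2 n43205 = n42825 := d19_1 D43205 (iv D42825) (iv F195447)
theorem F199060 : act 3 n43205 = n42461 := d25_1 D43205 (iv D42461) (iv F195448)
theorem F199061 : act 4 n43205 = n42943 := d30_1 D43205 (iv D42943) F193706 (iv F192444) (iv F195449)
theorem F199062 : act 8 n43205 = n43205 := d37_2 (iv F195450) D43205 (iv D43205) F195450 F191116
def n43206 : Q := act 9 n42459
theorem D43206 : act 9 n42459 = n43206 := rfl
theorem F199063 : act 0 n43206 = n42903 := d8_1 D43206 (iv D42903) (iv F195446)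
theorem F199064 : act 2 n43206 = n42827 := d23_1 D43206 (iv D42827) (iv F195447)
theorem F199065 : act 3 n43206 = n42463 := d29_1 D43206 (iv D42463) (iv F195448)
theorem F199066 : act 4 n43206 = n42694 := d34_1 D43206 (iv D42694) (iv F195449)
theorem F199067 : act 6 n43206 = n42460 := d41_1 D43206 (iv D42460) D42459
def n43207 : Q := act 7 n42461
theorem D43207 : act 7 n42461 = n43207 := rfl
theorem F199068 : act 0 n43207 = n42904 := d6_1 D43207 (iv D42904) (iv F195456)
theorem F199069 : act 5 n43207 = n42462 := d36_1 D43207 (iv D42462) D42461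
theorem F199070 : act 8 n43207 = n43207 := d42_2 F195457 D43207 (iv D43207)
def n43208 : Q := act 9 n42461
theorem D43208 : act 9 n42461 = n43208 := rfl
theorem F199071 : act 0 n43208 = n42905 := d8_1 D43208 (iv D42905) (iv F195456)
theorem F199072 : act 5 n43208 = n42463 := d38_1 D43208 (iv D42463) D42461
def n43209 : Q := act 9 n42462
theorem D43209 : act 9 n42462 = n43209 := rfl
theorem F199073 : act 0 n43209 = n42906 := d8_1 D43209 (iv D42906) (iv F195458)
theorem F199074 : act 4 n43209 = n42465 := d34_1 D43209 (iv D42465) (iv F195459)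
theorem F199075 : act 6 n43209 = n42549 := d41_1 D43209 (iv D42549) (iv F195460)
theorem F199076 : act 7 n43209 = n42463 := d43_1 D43209 (iv D42463) D42462
def n43210 : Q := act 8 n42463
theorem D43210 : act 8 n42463 = n43210 := rfl
theorem F199077 : act 0 n43210 = n42907 := d7_1 D43210 (iv D42907) (iv F195462)
theorem F199078 : act 4 n43210 = n42466 := d33_1 D43210 (iv D42466) (iv F195463)
theorem F199079 : act 6 n43210 = n42464 := d40_1 D43210 (iv D42464) (iv F195464)
theorem F199080 : act 9 n43210 = n42467 := d44_2 D42463 D43210 (iv D42467) (iv D41498) (iv F191097)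
def n43211 : Q := act 8 n42465
theorem D43211 : act 8 n42465 = n43211 := rfl
theorem F199081 : act 0 n43211 = n42641 := d7_1 D43211 F196462 (iv F195469)
theorem F199082 : act 1 n43211 = n42694 := d15_1 D43211 (iv F198543) F198537
theorem F199083 : act 2 n43211 = n42908 := d22_1 D43211 (iv F199034) F199029
theorem F199084 : act 3 n43211 = n42595 := d28_1 D43211 F196241 (iv F195470)
theorem F199085 : act 5 n43211 = n42899 := d37_1 D43211 (iv D42899) (iv F197389) (iv F198764) F198761
theorem F199086 : act 6 n43211 = n42550 := d40_1 D43211 (iv D42550) (iv F195471)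
theorem F199087 : act 7 n43211 = n42466 := d42_1 D43211 (iv D42466) (iv F195472)
theorem F199088 : act 9 n43211 = n42468 := d44_2 D42465 D43211 (iv D42468) (iv D41500) (iv F191104)
def n43212 : Q := act 5 n42466
theorem D43212 : act 5 n42466 = n43212 := rfl
theorem F199089 : act 0 n43212 = n42908 := d4_1 D43212 (iv D42908) (iv F195473)
theorem F199090 : act 1 n43212 = n42946 := d12_1 D43212 F198551 F198545
theorem F199091 : act 2 n43212 = n42641 := d19_1 D43212 (iv F199039) F199037
theorem F199092 : act 3 n43212 = n42695 := d25_1 D43212 (iv D42695) (iv F195474)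
theorem F199093 : act 6 n43212 = n42689 := d35_2 (iv F195475) D43212 (iv F198899) F198900 F195250
theorem F199094 : act 7 n43212 = n42899 := d36_2 F199087 D43212 (iv F199085)
theorem F199095 : act 8 n43212 = n42898 := d37_2 D42466 D43212 F198772 (iv D43165) F195095
theorem F199096 : act 9 n43212 = n42469 := d38_2 (iv F195476) D43212 (iv D42469)
def n43213 : Q := act 5 n42467
theorem D43213 : act 5 n42467 = n43213 := rfl
theorem F199097 : act 0 n43213 = n42909 := d4_1 D43213 (iv D42909) (iv F195477)
theorem F199098 : act 8 n43213 = n43213 := d37_2 D42467 D43213 (iv D43213) (iv D42467) F191123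
def n43214 : Q := act 4 n42469
theorem D43214 : act 4 n42469 = n43214 := rfl
theorem F199099 : act 0 n43214 = n42910 := d3_1 D43214 (iv D42910) (iv F195487)
theorem F199100 : act 1 n43214 = n42944 := d11_1 D43214 F197609 (iv F195488)
theorem F199101 : act 2 n43214 = n42640 := d18_1 D43214 F196455 (iv F195489)
theorem F199102 : act 6 n43214 = n42688 := d31_2 (iv F195491) D43214 F196669
theorem F199103 : act 7 n43214 = n42901 := d32_2 (iv F195492) D43214 F197472
theorem F199104 : act 8 n43214 = n42470 := d33_2 (iv F195493) D43214 (iv D42470)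
def n43215 : Q := act 9 n42472
theorem D43215 : act 9 n42472 = n43215 := rfl
theorem F199105 : act 0 n43215 = n42912 := d8_1 D43215 (iv D42912) (iv F195510)
theorem F199106 : act 1 n43215 = n42881 := d16_1 D43215 (iv D42881) (iv F195511)
theorem F199107 : act 2 n43215 = n42801 := d23_1 D43215 (iv D42801) F195516
theorem F199108 : act 3 n43215 = n42473 := d29_1 D43215 (iv D42473) D42472
theorem F199109 : act 4 n43215 = n42476 := d34_1 D43215 (iv D42476) (iv F195512)
theorem F199110 : act 5 n43215 = n42701 := d38_1 D43215 (iv D42701) (iv F195513)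
theorem F199111 : act 7 n43215 = n42745 := d43_1 D43215 (iv D42745) (iv F195514)
theorem F199112 : act 8 n43215 = n42803 := d44_1 D43215 (iv D42803) F193047 (iv F191178) (iv F195515)
def n43216 : Q := act 9 n42475
theorem D43216 : act 9 n42475 = n43216 := rfl
theorem F199113 : act 0 n43216 = n42917 := d8_1 D43216 (iv D42917) (iv F195531)
theorem F199114 : act 1 n43216 = n42979 := d16_1 D43216 F197690 F195537
theorem F199115 : act 2 n43216 = n42476 := d23_1 D43216 (iv D42476) D42475
theorem F199116 : act 3 n43216 = n42542 := d29_1 D43216 F195918 (iv F195532)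
theorem F199117 : act 4 n43216 = n42801 := d34_1 D43216 (iv D42801) (iv F195533)
theorem F199118 : act 5 n43216 = n42477 := d38_1 D43216 F195547 (iv F195534)
theorem F199119 : act 7 n43216 = n42819 := d43_1 D43216 (iv D42819) (iv F195535)
theorem F199120 : act 8 n43216 = n42539 := d44_1 D43216 (iv D42539) F191510 F191218 (iv F195536)
def n43217 : Q := act 8 n42476
theorem D43217 : act 8 n42476 = n43217 := rfl
theorem F199121 : act 0 n43217 = n42920 := d7_1 D43217 (iv D42920) (iv F195538)
theorem F199122 : act 1 n43217 = n42976 := d15_1 D43217 (iv D42976) (iv F195539)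
theorem F199123 : act 2 n43217 = n42539 := d22_1 D43217 (iv F199120) F199115
theorem F199124 : act 3 n43217 = n42477 := d28_1 D43217 (iv D42477) (iv F195540)
theorem F199125 : act 4 n43217 = n42803 := d33_1 D43217 (iv F199112) F199109
theorem F199126 : act 5 n43217 = n42542 := d37_1 D43217 (iv D42542) (iv F194979) F194981 (iv F195541)
theorem F199127 : act 7 n43217 = n42824 := d42_1 D43217 (iv F198798) F198797
theorem F199128 : act 9 n43217 = n42478 := d44_2 D42476 D43217 (iv D42478) (iv D41515) (iv F191201)
def n43218 : Q := act 6 n42481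
theorem D43218 : act 6 n42481 = n43218 := rfl
theorem F199129 : act 0 n43218 = n42585 := d5_1 D43218 (iv F198332) F198326
theorem F199130 : act 1 n43218 = n42488 := d13_1 D43218 (iv D42488) (iv F195566)
theorem F199131 : act 2 n43218 = n43000 := d20_1 D43218 F197739 (iv F195567)
theorem F199132 : act 3 n43218 = n42591 := d26_1 D43218 F196213 (iv F195568)
theorem F199133 : act 4 n43218 = n42482 := d31_1 D43218 (iv D42482) D42481
theorem F199134 : act 7 n43218 = n42626 := d39_2 (iv F195569) D43218 F196402 F192719 (iv F193186)
theorem F199135 : act 8 n43218 = n42484 := d40_2 (iv F195570) D43218 (iv D42484)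
def n43219 : Q := act 9 n42481
theorem D43219 : act 9 n42481 = n43219 := rfl
theorem F199136 : act 1 n43219 = n42489 := d16_1 D43219 (iv D42489) (iv F195566)
theorem F199137 : act 2 n43219 = n43001 := d23_1 D43219 F197741 (iv F195567)
theorem F199138 : act 3 n43219 = n42843 := d29_1 D43219 F197239 (iv F195568)
theorem F199139 : act 4 n43219 = n42483 := d34_1 D43219 (iv D42483) D42481
theorem F199140 : act 7 n43219 = n42842 := d43_1 D43219 F197236 (iv F195569)
theorem F199141 : act 8 n43219 = n42841 := d44_1 D43219 (iv D42841) F193168 (iv F191253) (iv F195570)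
def n43220 : Q := act 9 n42482
theorem D43220 : act 9 n42482 = n43220 := rfl
theorem F199142 : act 0 n43220 = n42587 := d8_1 D43220 (iv D42587) (iv F195571)
theorem F199143 : act 1 n43220 = n42491 := d16_1 D43220 (iv D42491) (iv F195572)
theorem F199144 : act 2 n43220 = n42997 := d23_1 D43220 F197734 (iv F195573)
theorem F199145 : act 3 n43220 = n42582 := d29_1 D43220 (iv D42582) (iv F195574)
theorem F199146 : act 5 n43220 = n42738 := d38_1 D43220 (iv D42738) (iv F195575)
theorem F199147 : act 6 n43220 = n42483 := d41_1 D43220 (iv D42483) D42482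
theorem F199148 : act 7 n43220 = n42627 := d43_1 D43220 (iv D42627) (iv F195576)
theorem F199149 : act 8 n43220 = n42734 := d44_1 D43220 (iv D42734) F192704 (iv F191260) (iv F195577)
def n43221 : Q := act 6 n42487
theorem D43221 : act 6 n42487 = n43221 := rfl
theorem F199150 : act 0 n43221 = n42737 := d5_1 D43221 F196900 (iv F195604)
theorem F199151 : act 1 n43221 = n42591 := d13_1 D43221 F196213 (iv F195605)
theorem F199152 : act 2 n43221 = n42686 := d20_1 D43221 F196663 (iv F195606)
theorem F199153 : act 3 n43221 = n42488 := d26_1 D43221 (iv D42488) D42487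
theorem F199154 : act 4 n43221 = n42586 := d31_1 D43221 F196195 (iv F195607)
theorem F199155 : act 7 n43221 = n42634 := d39_2 (iv F195609) D43221 F196437 F192890 (iv F192582)
theorem F199156 : act 8 n43221 = n42493 := d40_2 (iv F195610) D43221 (iv D42493)
def n43222 : Q := act 9 n42487
theorem D43222 : act 9 n42487 = n43222 := rfl
theorem F199157 : act 0 n43222 = n42865 := d8_1 D43222 (iv D42865) (iv F195604)
theorem F199158 : act 1 n43222 = n42843 := d16_1 D43222 F197239 (iv F195605)
theorem F199159 : act 2 n43222 = n42682 := d23_1 D43222 F196648 (iv F195606)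
theorem F199160 : act 3 n43222 = n42489 := d29_1 D43222 (iv D42489) D42487
theorem F199161 : act 4 n43222 = n42676 := d34_1 D43222 F196624 (iv F195607)
theorem F199162 : act 5 n43222 = n42704 := d38_1 D43222 F196749 (iv F195608)
theorem F199163 : act 7 n43222 = n42708 := d43_1 D43222 F196777 (iv F195609)
theorem F199164 : act 8 n43222 = n42674 := d44_1 D43222 (iv D42674) F192326 F191296 (iv F195610)
def n43223 : Q := act 5 n42488
theorem D43223 : act 5 n42488 = n43223 := rfl
theorem F199165 : act 0 n43223 = n42637 := d4_1 D43223 F196447 (iv F195611)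
theorem F199166 : act 2 n43223 = n42500 := d19_1 D43223 (iv D42500) (iv F195612)
theorem F199167 : act 4 n43223 = n42739 := d30_1 D43223 (iv D42739) F192802 (iv F191285) (iv F195613)
theorem F199168 : act 6 n43223 = n42578 := d35_2 D42488 D43223 (iv D42578) (iv F194002) F194001
theorem F199169 : act 8 n43223 = n43223 := d37_2 (iv F195614) D43223 (iv D43223) F195614 F191300
def n43224 : Q := act 7 n42488
theorem D43224 : act 7 n42488 = n43224 := rfl
theorem F199170 : act 0 n43224 = n42576 := d6_1 D43224 F196144 (iv F195611)
theorem F199171 : act 1 n43224 = n42626 := d14_1 D43224 (iv F199134) F199130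
theorem F199172 : act 2 n43224 = n42501 := d21_1 D43224 (iv D42501) (iv F195612)
theorem F199173 : act 3 n43224 = n42634 := d27_1 D43224 (iv F199155) F199153
theorem F199174 : act 4 n43224 = n42490 := d32_1 D43224 (iv D42490) (iv F195613)
theorem F199175 : act 6 n43224 = n42726 := d39_1 D43224 F196851 F195206 F195204 D42488
theorem F199176 : act 8 n43224 = n42494 := d42_2 (iv F195614) D43224 (iv D42494)
def n43225 : Q := act 9 n42488
theorem D43225 : act 9 n42488 = n43225 := rfl
theorem F199177 : act 0 n43225 = n42922 := d8_1 D43225 (iv D42922) (iv F195611)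
theorem F199178 : act 2 n43225 = n42502 := d23_1 D43225 (iv D42502) (iv F195612)
theorem F199179 : act 4 n43225 = n42491 := d34_1 D43225 (iv D42491) (iv F195613)
theorem F199180 : act 6 n43225 = n42489 := d41_1 D43225 (iv D42489) D42488
def n43226 : Q := act 8 n42489
theorem D43226 : act 8 n42489 = n43226 := rfl
theorem F199181 : act 0 n43226 = n42888 := d7_1 D43226 F197423 (iv F195615)
theorem F199182 : act 1 n43226 = n42841 := d15_1 D43226 (iv F199141) F199136
theorem F199183 : act 2 n43226 = n42503 := d22_1 D43226 (iv D42503) (iv F195616)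
theorem F199184 : act 3 n43226 = n42674 := d28_1 D43226 (iv F199164) F199160
theorem F199185 : act 4 n43226 = n42492 := d33_1 D43226 (iv D42492) (iv F195617)
theorem F199186 : act 5 n43226 = n42803 := d37_1 D43226 (iv F199112) F199110 (iv F197788) F197785
theorem F199187 : act 7 n43226 = n42707 := d42_1 D43226 (iv F198851) F198850
theorem F199188 : act 9 n43226 = n42496 := d44_2 D42489 D43226 (iv D42496) (iv D41531) (iv F191281)
def n43227 : Q := act 9 n42490
theorem D43227 : act 9 n42490 = n43227 := rfl
theorem F199189 : act 0 n43227 = n42577 := d8_1 D43227 (iv D42577) (iv F195618)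
theorem F199190 : act 1 n43227 = n42627 := d16_1 D43227 (iv D42627) (iv F195619)
theorem F199191 : act 2 n43227 = n42504 := d23_1 D43227 (iv D42504) (iv F195620)
theorem F199192 : act 3 n43227 = n42564 := d29_1 D43227 (iv D42564) (iv F195621)
theorem F199193 : act 5 n43227 = n42563 := d38_1 D43227 (iv D42563) (iv F195622)
theorem F199194 : act 6 n43227 = n42725 := d41_1 D43227 F196847 (iv F195623)
theorem F199195 : act 7 n43227 = n42491 := d43_1 D43227 (iv D42491) D42490
theorem F199196 : act 8 n43227 = n42724 := d44_1 D43227 (iv D42724) F192662 F191314 (iv F195624)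
def n43228 : Q := act 8 n42491
theorem D43228 : act 8 n42491 = n43228 := rfl
theorem F199197 : act 0 n43228 = n42867 := d7_1 D43228 F197364 (iv F195625)
theorem F199198 : act 1 n43228 = n42734 := d15_1 D43228 (iv F199149) F199143
theorem F199199 : act 2 n43228 = n42505 := d22_1 D43228 (iv D42505) (iv F195626)
theorem F199200 : act 3 n43228 = n42727 := d28_1 D43228 F196858 (iv F195627)
theorem F199201 : act 5 n43228 = n42932 := d37_1 D43228 (iv D42932) (iv F196276) F196279 (iv F195628)
theorem F199202 : act 6 n43228 = n42492 := d40_1 D43228 (iv D42492) (iv F195629)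
theorem F199203 : act 7 n43228 = n42724 := d42_1 D43228 (iv F199196) F199195
theorem F199204 : act 9 n43228 = n42497 := d44_2 D42491 D43228 (iv D42497) (iv D41533) (iv F191286)
def n43229 : Q := act 8 n42495
theorem D43229 : act 8 n42495 = n43229 := rfl
theorem F199205 : act 0 n43229 = n42866 := d7_1 D43229 (iv D42866) (iv F195652)
theorem F199206 : act 1 n43229 = n42731 := d15_1 D43229 F196870 (iv F195653)
theorem F199207 : act 2 n43229 = n42511 := d22_1 D43229 (iv D42511) (iv F195654)
theorem F199208 : act 3 n43229 = n42673 := d28_1 D43229 F196606 (iv F195655)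
theorem F199209 : act 4 n43229 = n42497 := d33_1 D43229 (iv D42497) (iv F195656)
theorem F199210 : act 6 n43229 = n42496 := d40_1 D43229 (iv D42496) (iv F195658)
theorem F199211 : act 7 n43229 = n42722 := d42_1 D43229 F196835 (iv F195659)
def n43230 : Q := act 5 n42498
theorem D43230 : act 5 n42498 = n43230 := rfl
theorem F199212 : act 0 n43230 = n42923 := d4_1 D43230 (iv D42923) (iv F195674)
theorem F199213 : act 3 n43230 = n42500 := d25_1 D43230 (iv D42500) (iv F195675)
theorem F199214 : act 6 n43230 = n42644 := d35_2 D42498 D43230 (iv D42644) F192212 (iv F191329)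
theorem F199215 : act 8 n43230 = n43230 := d37_2 (iv F195677) D43230 (iv D43230) F195677 F191358
def n43231 : Q := act 7 n42498
theorem D43231 : act 7 n42498 = n43231 := rfl
theorem F199216 : act 0 n43231 = n42924 := d6_1 D43231 (iv D42924) (iv F195674)
theorem F199217 : act 3 n43231 = n42501 := d27_1 D43231 (iv D42501) (iv F195675)
theorem F199218 : act 4 n43231 = n42711 := d32_1 D43231 (iv D42711) (iv F195676)
theorem F199219 : act 6 n43231 = n42728 := d39_1 D43231 (iv D42728) (iv D41825) (iv F191330) D42498
theorem F199220 : act 8 n43231 = n42507 := d42_2 (iv F195677) D43231 (iv D42507)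
def n43232 : Q := act 9 n42498
theorem D43232 : act 9 n42498 = n43232 := rfl
theorem F199221 : act 0 n43232 = n42925 := d8_1 D43232 (iv D42925) (iv F195674)
theorem F199222 : act 3 n43232 = n42502 := d29_1 D43232 (iv D42502) (iv F195675)
theorem F199223 : act 4 n43232 = n42712 := d34_1 D43232 (iv D42712) (iv F195676)
theorem F199224 : act 6 n43232 = n42499 := d41_1 D43232 (iv D42499) D42498
def n43233 : Q := act 8 n42499
theorem D43233 : act 8 n42499 = n43233 := rfl
theorem F199225 : act 0 n43233 = n42926 := d7_1 D43233 (iv D42926) (iv F195678)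
theorem F199226 : act 2 n43233 = n42678 := d22_1 D43233 (iv F198985) F198980
theorem F199227 : act 3 n43233 = n42503 := d28_1 D43233 (iv D42503) (iv F195679)
theorem F199228 : act 4 n43233 = n42528 := d33_1 D43233 F195837 (iv F195680)
theorem F199229 : act 7 n43233 = n42710 := d42_1 D43233 F196785 (iv F195682)
theorem F199230 : act 9 n43233 = n42509 := d44_2 D42499 D43233 (iv D42509) (iv D41543) (iv F191331)
theorem F199231 : act 5 n42530 = n43233 := d38_3 F199230 F195725 D42530
def n43234 : Q := act 7 n42500
theorem D43234 : act 7 n42500 = n43234 := rfl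
theorem F199232 : act 0 n43234 = n42927 := d6_1 D43234 (iv D42927) (iv F195683)
theorem F199233 : act 4 n43234 = n42748 := d32_1 D43234 F196948 (iv F195684)
theorem F199234 : act 5 n43234 = n42501 := d36_1 D43234 (iv D42501) D42500
theorem F199235 : act 8 n43234 = n43234 := d42_2 F195685 D43234 (iv D43234)
def n43235 : Q := act 9 n42500
theorem D43235 : act 9 n42500 = n43235 := rfl
theorem F199236 : act 0 n43235 = n42928 := d8_1 D43235 (iv D42928) (iv F195683)
theorem F199237 : act 4 n43235 = n42754 := d34_1 D43235 (iv D42754) (iv F195684)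
theorem F199238 : act 5 n43235 = n42502 := d38_1 D43235 (iv D42502) D42500
def n43236 : Q := act 9 n42501
theorem D43236 : act 9 n42501 = n43236 := rfl
theorem F199239 : act 0 n43236 = n42929 := d8_1 D43236 (iv D42929) (iv F195686)
theorem F199240 : act 4 n43236 = n42504 := d34_1 D43236 (iv D42504) (iv F195687)
theorem F199241 : act 7 n43236 = n42502 := d43_1 D43236 (iv D42502) D42501
def n43237 : Q := act 8 n42502
theorem D43237 : act 8 n42502 = n43237 := rfl
theorem F199242 : act 0 n43237 = n42930 := d7_1 D43237 (iv D42930) (iv F195689)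
theorem F199243 : act 4 n43237 = n42505 := d33_1 D43237 (iv D42505) (iv F195690)
theorem F199244 : act 6 n43237 = n42503 := d40_1 D43237 (iv D42503) (iv F195691)
theorem F199245 : act 9 n43237 = n42511 := d44_2 D42502 D43237 (iv D42511) (iv D41545) (iv F191334)
def n43238 : Q := act 5 n42503
theorem D43238 : act 5 n42503 = n43238 := rfl
theorem F199246 : act 0 n43238 = n42931 := d4_1 D43238 (iv D42931) (iv F195692)
theorem F199247 : act 2 n43238 = n42803 := d19_1 D43238 (iv F199186) F199183
theorem F199248 : act 3 n43238 = n42530 := d25_1 D43238 F199231 F199227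
theorem F199249 : act 4 n43238 = n42539 := d30_1 D43238 F195902 F191573 (iv F191347) (iv F195693)
theorem F199250 : act 7 n43238 = n42822 := d36_2 F198884 D43238 (iv F198882)
theorem F199251 : act 8 n43238 = n42801 := d37_2 D42503 D43238 F197122 (iv F195530) F195528
theorem F199252 : act 9 n43238 = n42512 := d38_2 (iv F195694) D43238 (iv D42512)
def n43239 : Q := act 8 n42504
theorem D43239 : act 8 n42504 = n43239 := rfl
theorem F199253 : act 0 n43239 = n42932 := d7_1 D43239 (iv D42932) (iv F195695)
theorem F199254 : act 1 n43239 = n42871 := d15_1 D43239 (iv F197973) F197967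
theorem F199255 : act 2 n43239 = n42724 := d22_1 D43239 (iv F199196) F199191
theorem F199256 : act 3 n43239 = n42715 := d28_1 D43239 (iv D42715) (iv F195696)
theorem F199257 : act 5 n43239 = n42867 := d37_1 D43239 F197364 (iv F196163) F196166 (iv F195697)
theorem F199258 : act 6 n43239 = n42721 := d40_1 D43239 (iv F198893) F198891
theorem F199259 : act 7 n43239 = n42505 := d42_1 D43239 (iv D42505) (iv F195698)
theorem F199260 : act 9 n43239 = n42513 := d44_2 D42504 D43239 (iv D42513) (iv D41547) (iv F191340)
def n43240 : Q := act 5 n42505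
theorem D43240 : act 5 n42505 = n43240 := rfl
theorem F199261 : act 0 n43240 = n42724 := d4_1 D43240 F196842 (iv F195699)
theorem F199262 : act 1 n43240 = n42570 := d12_1 D43240 (iv F197978) F197975
theorem F199263 : act 2 n43240 = n42932 := d19_1 D43240 (iv F199201) F199199
theorem F199264 : act 3 n43240 = n42568 := d25_1 D43240 F196090 (iv F195700)
theorem F199265 : act 6 n43240 = n42551 := d35_2 (iv F195701) D43240 (iv D42551) F191581 (iv F191347)
theorem F199266 : act 7 n43240 = n42867 := d36_2 F199259 D43240 (iv F199257)
theorem F199267 : act 8 n43240 = n42577 := d37_2 D42505 D43240 F196148 F192023 (iv F191343)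
theorem F199268 : act 9 n43240 = n42514 := d38_2 (iv F195702) D43240 (iv D42514)
def n43241 : Q := act 7 n42506
theorem D43241 : act 7 n42506 = n43241 := rfl
theorem F199269 : act 0 n43241 = n42933 := d6_1 D43241 (iv D42933) (iv F195703)
theorem F199270 : act 1 n43241 = n42878 := d14_1 D43241 (iv F198353) F198349
theorem F199271 : act 2 n43241 = n42507 := d21_1 D43241 (iv D42507) (iv F195704)
theorem F199272 : act 3 n43241 = n42631 := d27_1 D43241 F196428 (iv F195705)
theorem F199273 : act 4 n43241 = n42716 := d32_1 D43241 (iv D42716) (iv F195706)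
theorem F199274 : act 5 n43241 = n43241 := d36_1 D43241 (iv D43241) F195707
theorem F199275 : act 6 n43241 = n42554 := d39_1 D43241 (iv D42554) (iv D41597) (iv F191353) D42506
theorem F199276 : act 9 n43241 = n42685 := d43_2 (iv F195708) D43241 (iv D42685)
def n43242 : Q := act 9 n42507
theorem D43242 : act 9 n42507 = n43242 := rfl
theorem F199277 : act 0 n43242 = n42934 := d8_1 D43242 (iv D42934) (iv F195709)
theorem F199278 : act 1 n43242 = n42872 := d16_1 D43242 (iv F198006) F198001
theorem F199279 : act 2 n43242 = n42685 := d23_1 D43242 (iv F199276) F199271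
theorem F199280 : act 3 n43242 = n42510 := d29_1 D43242 (iv D42510) (iv F195710)
theorem F199281 : act 4 n43242 = n42554 := d34_1 D43242 F195986 (iv F195711)
theorem F199282 : act 5 n43242 = n43242 := d38_1 D43242 (iv D43242) F195712
theorem F199283 : act 6 n43242 = n42716 := d41_1 D43242 F196813 (iv F195713)
theorem F199284 : act 7 n43242 = n42508 := d43_1 D43242 (iv D42508) D42507
def n43243 : Q := act 8 n42508
theorem D43243 : act 8 n42508 = n43243 := rfl
theorem F199285 : act 0 n43243 = n42935 := d7_1 D43243 (iv D42935) (iv F195714)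
theorem F199286 : act 1 n43243 = n43005 := d15_1 D43243 F197749 (iv F195715)
theorem F199287 : act 2 n43243 = n42677 := d22_1 D43243 F196628 (iv F195716)
theorem F199288 : act 3 n43243 = n42511 := d28_1 D43243 (iv D42511) (iv F195717)
theorem F199289 : act 4 n43243 = n42527 := d33_1 D43243 F195832 (iv F195718)
theorem F199290 : act 6 n43243 = n42509 := d40_1 D43243 (iv D42509) (iv F195720)
def n43244 : Q := act 8 n42510
theorem D43244 : act 8 n42510 = n43244 := rfl
theorem F199291 : act 0 n43244 = n42936 := d7_1 D43244 (iv D42936) (iv F195727)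
theorem F199292 : act 1 n43244 = n42870 := d15_1 D43244 F197371 (iv F195728)
theorem F199293 : act 2 n43244 = n42722 := d22_1 D43244 F196835 (iv F195729)
theorem F199294 : act 4 n43244 = n42513 := d33_1 D43244 (iv D42513) (iv F195730)
theorem F199295 : act 6 n43244 = n42720 := d40_1 D43244 F196829 (iv F195732)
theorem F199296 : act 7 n43244 = n42511 := d42_1 D43244 (iv D42511) (iv F195733)
def n43245 : Q := act 5 n42511
theorem D43245 : act 5 n42511 = n43245 := rfl
theorem F199297 : act 0 n43245 = n42937 := d4_1 D43245 (iv D42937) (iv F195734)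
theorem F199298 : act 8 n43245 = n43245 := d37_2 D42511 D43245 (iv D43245) (iv D42511) F191370
def n43246 : Q := act 6 n42512
theorem D43246 : act 6 n42512 = n43246 := rfl
theorem F199299 : act 0 n43246 = n42938 := d5_1 D43246 (iv D42938) (iv F195737)
theorem F199300 : act 1 n43246 = n42961 := d13_1 D43246 F198027 F198022
theorem F199301 : act 2 n43246 = n42802 := d20_1 D43246 (iv D42802) (iv F195738)
theorem F199302 : act 3 n43246 = n42529 := d26_1 D43246 (iv D42529) (iv F195739)
theorem F199303 : act 4 n43246 = n42538 := d31_1 D43246 (iv D42538) (iv F195740)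
theorem F199304 : act 8 n43246 = n42516 := d40_2 (iv F195742) D43246 (iv D42516)
def n43247 : Q := act 4 n42514
theorem D43247 : act 4 n42514 = n43247 := rfl
theorem F199305 : act 0 n43247 = n42722 := d3_1 D43247 F196834 (iv F195750)
theorem F199306 : act 1 n43247 = n42569 := d11_1 D43247 F196097 (iv F195751)
theorem F199307 : act 2 n43247 = n42936 := d18_1 D43247 F197587 (iv F195752)
theorem F199308 : act 3 n43247 = n42601 := d24_1 D43247 F196283 F191990 (iv F191745) (iv F195753)
theorem F199309 : act 6 n43247 = n42552 := d31_2 (iv F195754) D43247 (iv D42552)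
theorem F199310 : act 7 n43247 = n42866 := d32_2 (iv F195755) D43247 F197358
theorem F199311 : act 8 n43247 = n42515 := d33_2 (iv F195756) D43247 (iv D42515)
def n43248 : Q := act 7 n42516
theorem D43248 : act 7 n42516 = n43248 := rfl
theorem F199312 : act 0 n43248 = n42939 := d6_1 D43248 (iv D42939) (iv F195765)
theorem F199313 : act 1 n43248 = n42763 := d14_1 D43248 F196991 (iv F195766)
theorem F199314 : act 2 n43248 = n42808 := d21_1 D43248 (iv D42808) (iv F195767)
theorem F199315 : act 3 n43248 = n42534 := d27_1 D43248 (iv D42534) (iv F195768)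
theorem F199316 : act 4 n43248 = n42545 := d32_1 D43248 (iv D42545) (iv F195769)
theorem F199317 : act 5 n43248 = n43248 := d36_1 D43248 (iv D43248) F195770
theorem F199318 : act 6 n43248 = n42836 := d39_1 D43248 (iv D42836) (iv D41960) (iv F191395) D42516
theorem F199319 : act 9 n43248 = n42846 := d43_2 (iv F195771) D43248 (iv D42846)
def n43249 : Q := act 4 n42519
theorem D43249 : act 4 n42519 = n43249 := rfl
theorem F199320 : act 0 n43249 = n42986 := d3_1 D43249 F197704 (iv F195783)
theorem F199321 : act 1 n43249 = n42720 := d11_1 D43249 (iv D42720) (iv F195784)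
theorem F199322 : act 2 n43249 = n42522 := d18_1 D43249 (iv D42522) (iv F195785)
theorem F199323 : act 6 n43249 = n42870 := d31_2 (iv F195787) D43249 (iv D42870)
theorem F199324 : act 7 n43249 = n42669 := d32_2 (iv F195788) D43249 F196581
theorem F199325 : act 8 n43249 = n42521 := d33_2 (iv F195789) D43249 (iv D42521)
def n43250 : Q := act 9 n42519
theorem D43250 : act 9 n42519 = n43250 := rfl
theorem F199326 : act 0 n43250 = n42980 := d8_1 D43250 F197692 (iv F195783)
theorem F199327 : act 1 n43250 = n42721 := d16_1 D43250 (iv D42721) (iv F195784)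
theorem F199328 : act 2 n43250 = n42523 := d23_1 D43250 (iv D42523) (iv F195785)
theorem F199329 : act 3 n43250 = n42876 := d29_1 D43250 (iv D42876) (iv F195786)
theorem F199330 : act 5 n43250 = n42520 := d38_1 D43250 (iv D42520) D42519
theorem F199331 : act 6 n43250 = n42871 := d41_1 D43250 (iv D42871) (iv F195787)
theorem F199332 : act 7 n43250 = n42664 := d43_1 D43250 F196559 (iv F195788)
theorem F199333 : act 8 n43250 = n42663 := d44_1 D43250 (iv D42663) F192270 (iv F191423) (iv F195789)
def n43251 : Q := act 3 n42521
theorem D43251 : act 3 n42521 = n43251 := rfl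
theorem F199334 : act 0 n43251 = n42984 := d2_1 D43251 F197699 (iv F195795)
theorem F199335 : act 1 n43251 = n42716 := d10_1 D43251 F196811 (iv F195796)
theorem F199336 : act 4 n43251 = n42878 := d24_2 D42521 D43251 F197394 F193425 (iv F191420)
theorem F199337 : act 5 n43251 = n42553 := d25_2 (iv F195798) D43251 (iv D42553)
theorem F199338 : act 6 n43251 = n42872 := d26_2 (iv F195799) D43251 (iv D42872)
theorem F199339 : act 7 n43251 = n42667 := d27_2 (iv F195800) D43251 F196571
theorem F199340 : act 9 n43251 = n42666 := d29_2 (iv F195801) D43251 F196567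
def n43252 : Q := act 9 n42522
theorem D43252 : act 9 n42522 = n43252 := rfl
theorem F199341 : act 1 n43252 = n42530 := d16_1 D43252 (iv D42530) (iv F195802)
theorem F199342 : act 4 n43252 = n42523 := d34_1 D43252 (iv D42523) D42522
theorem F199343 : act 6 n43252 = n42962 := d41_1 D43252 (iv D42962) (iv F195803)
theorem F199344 : act 7 n43252 = n42838 := d43_1 D43252 (iv D42838) (iv F195804)
theorem F199345 : act 8 n43252 = n42951 := d44_1 D43252 (iv D42951) F193737 (iv F191435) (iv F195805)
def n43253 : Q := act 8 n42524
theorem D43253 : act 8 n42524 = n43253 := rfl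
theorem F199346 : act 0 n43253 = n42838 := d7_1 D43253 F197226 (iv F195810)
theorem F199347 : act 1 n43253 = n42542 := d15_1 D43253 (iv D42542) (iv F195811)
theorem F199348 : act 2 n43253 = n42978 := d22_1 D43253 (iv D42978) (iv F195812)
theorem F199349 : act 3 n43253 = n42979 := d28_1 D43253 (iv F198645) F198643
theorem F199350 : act 4 n43253 = n42525 := d33_1 D43253 (iv D42525) (iv F195813)
theorem F199351 : act 5 n43253 = n42976 := d37_1 D43253 (iv D42976) (iv F194964) F194966 (iv F195814)
theorem F199352 : act 6 n43253 = n42967 := d40_1 D43253 (iv D42967) (iv F195815)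
theorem F199353 : act 9 n43253 = n42526 := d44_2 D42524 D43253 (iv D42526) (iv D41561) (iv F191441)
def n43254 : Q := act 7 n42527
theorem D43254 : act 7 n42527 = n43254 := rfl
theorem F199354 : act 0 n43254 = n42941 := d6_1 D43254 (iv D42941) (iv F195827)
theorem F199355 : act 1 n43254 = n42873 := d14_1 D43254 F197379 (iv F195828)
theorem F199356 : act 2 n43254 = n42728 := d21_1 D43254 (iv D42728) (iv F195829)
theorem F199357 : act 3 n43254 = n42717 := d27_1 D43254 F196819 (iv F195830)
theorem F199358 : act 5 n43254 = n42952 := d36_1 D43254 (iv D42952) (iv F195831)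
theorem F199359 : act 8 n43254 = n42554 := d42_2 (iv F195832) D43254 (iv D42554)
def n43255 : Q := act 9 n42527
theorem D43255 : act 9 n42527 = n43255 := rfl
theorem F199360 : act 0 n43255 = n42942 := d8_1 D43255 (iv D42942) (iv F195827)
theorem F199361 : act 1 n43255 = n43006 := d16_1 D43255 (iv D43006) (iv F195828)
theorem F199362 : act 2 n43255 = n42729 := d23_1 D43255 (iv D42729) (iv F195829)
theorem F199363 : act 3 n43255 = n42714 := d29_1 D43255 F196801 (iv F195830)
theorem F199364 : act 5 n43255 = n42953 := d38_1 D43255 (iv D42953) (iv F195831)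
theorem F199365 : act 6 n43255 = n42528 := d41_1 D43255 (iv D42528) D42527
theorem F199366 : act 8 n43255 = n42712 := d44_1 D43255 (iv D42712) F192588 (iv F191623) (iv F195832)
def n43256 : Q := act 5 n42529
theorem D43256 : act 5 n42529 = n43256 := rfl
theorem F199367 : act 0 n43256 = n42943 := d4_1 D43256 (iv D42943) (iv F195838)
theorem F199368 : act 1 n43256 = n42959 := d12_1 D43256 F197645 (iv F195839)
theorem F199369 : act 2 n43256 = n42730 := d19_1 D43256 (iv D42730) (iv F195840)
theorem F199370 : act 4 n43256 = n42902 := d30_1 D43256 (iv D42902) F193529 (iv F191471) (iv F195841)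
theorem F199371 : act 8 n43256 = n43256 := d37_2 (iv F195842) D43256 (iv D43256) F195842 F191481
def n43257 : Q := act 7 n42529
theorem D43257 : act 7 n42529 = n43257 := rfl
theorem F199372 : act 0 n43257 = n42944 := d6_1 D43257 (iv D42944) (iv F195838)
theorem F199373 : act 1 n43257 = n42761 := d14_1 D43257 F196984 (iv F195839)
theorem F199374 : act 2 n43257 = n42731 := d21_1 D43257 (iv D42731) (iv F195840)
theorem F199375 : act 4 n43257 = n42531 := d32_1 D43257 (iv D42531) (iv F195841)
theorem F199376 : act 6 n43257 = n42839 := d39_1 D43257 (iv D42839) (iv D41966) (iv F191465) D42529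
theorem F199377 : act 8 n43257 = n42534 := d42_2 (iv F195842) D43257 (iv D42534)
def n43258 : Q := act 9 n42529
theorem D43258 : act 9 n42529 = n43258 := rfl
theorem F199378 : act 0 n43258 = n42945 := d8_1 D43258 (iv D42945) (iv F195838)
theorem F199379 : act 1 n43258 = n42962 := d16_1 D43258 (iv D42962) (iv F195839)
theorem F199380 : act 2 n43258 = n42732 := d23_1 D43258 (iv D42732) (iv F195840)
theorem F199381 : act 4 n43258 = n42532 := d34_1 D43258 (iv D42532) (iv F195841)
theorem F199382 : act 6 n43258 = n42530 := d41_1 D43258 (iv D42530) D42529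
def n43259 : Q := act 8 n42530
theorem D43259 : act 8 n42530 = n43259 := rfl
theorem F199383 : act 0 n43259 = n42889 := d7_1 D43259 F197429 (iv F195843)
theorem F199384 : act 1 n43259 = n42951 := d15_1 D43259 (iv F199345) F199341
theorem F199385 : act 2 n43259 = n42733 := d22_1 D43259 (iv D42733) (iv F195844)
theorem F199386 : act 3 n43259 = n42801 := d28_1 D43259 (iv F199251) F199248
theorem F199387 : act 4 n43259 = n42533 := d33_1 D43259 (iv D42533) (iv F195845)
theorem F199388 : act 5 n43259 = n42671 := d37_1 D43259 F196592 (iv F195681) D43233 (iv F199231)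
theorem F199389 : act 7 n43259 = n42705 := d42_1 D43259 F196756 (iv F195846)
theorem F199390 : act 9 n43259 = n42536 := d44_2 D42530 D43259 (iv D42536) (iv D41569) (iv F191466)
def n43260 : Q := act 9 n42531
theorem D43260 : act 9 n42531 = n43260 := rfl
theorem F199391 : act 0 n43260 = n42946 := d8_1 D43260 (iv D42946) (iv F195847)
theorem F199392 : act 1 n43260 = n42762 := d16_1 D43260 (iv D42762) (iv F195848)
theorem F199393 : act 2 n43260 = n42734 := d23_1 D43260 (iv D42734) (iv F195849)
theorem F199394 : act 3 n43260 = n42543 := d29_1 D43260 (iv D42543) (iv F195850)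
theorem F199395 : act 5 n43260 = n42758 := d38_1 D43260 (iv D42758) (iv F195851)
theorem F199396 : act 6 n43260 = n42981 := d41_1 D43260 F197694 (iv F195852)
theorem F199397 : act 7 n43260 = n42532 := d43_1 D43260 (iv D42532) D42531
theorem F199398 : act 8 n43260 = n42997 := d44_1 D43260 F197734 F193897 F191495 (iv F195853)
def n43261 : Q := act 8 n42532
theorem D43261 : act 8 n42532 = n43261 := rfl
theorem F199399 : act 0 n43261 = n42630 := d7_1 D43261 F196422 (iv F195854)
theorem F199400 : act 1 n43261 = n42963 := d15_1 D43261 (iv D42963) (iv F195855)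
theorem F199401 : act 2 n43261 = n42627 := d22_1 D43261 F196406 (iv F195856)
theorem F199402 : act 3 n43261 = n42544 := d28_1 D43261 (iv D42544) (iv F195857)
theorem F199403 : act 5 n43261 = n42996 := d37_1 D43261 (iv D42996) (iv F197313) F197316 (iv F195858)
theorem F199404 : act 6 n43261 = n42533 := d40_1 D43261 (iv D42533) (iv F195859)
theorem F199405 : act 7 n43261 = n42997 := d42_1 D43261 (iv F199398) F199397
theorem F199406 : act 9 n43261 = n42537 := d44_2 D42532 D43261 (iv D42537) (iv D41571) (iv F191472)
def n43262 : Q := act 8 n42535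
theorem D43262 : act 8 n42535 = n43262 := rfl
theorem F199407 : act 0 n43262 = n42628 := d7_1 D43262 (iv D42628) (iv F195873)
theorem F199408 : act 1 n43262 = n42950 := d15_1 D43262 F197625 (iv F195874)
theorem F199409 : act 2 n43262 = n42626 := d22_1 D43262 (iv D42626) (iv F195875)
theorem F199410 : act 3 n43262 = n42800 := d28_1 D43262 F197121 (iv F195876)
theorem F199411 : act 4 n43262 = n42537 := d33_1 D43262 (iv D42537) (iv F195877)
theorem F199412 : act 6 n43262 = n42536 := d40_1 D43262 (iv D42536) (iv F195879)
theorem F199413 : act 7 n43262 = n43000 := d42_1 D43262 F197740 (iv F195880)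
def n43263 : Q := act 7 n42538
theorem D43263 : act 7 n42538 = n43263 := rfl
theorem F199414 : act 0 n43263 = n42947 := d6_1 D43263 (iv D42947) (iv F195895)
theorem F199415 : act 1 n43263 = n42764 := d14_1 D43263 F196992 (iv F195896)
theorem F199416 : act 3 n43263 = n42540 := d27_1 D43263 (iv D42540) (iv F195897)
theorem F199417 : act 5 n43263 = n42974 := d36_1 D43263 (iv D42974) (iv F195898)
theorem F199418 : act 8 n43263 = n42545 := d42_2 (iv F195899) D43263 (iv D42545)
def n43264 : Q := act 9 n42538
theorem D43264 : act 9 n42538 = n43264 := rfl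
theorem F199419 : act 0 n43264 = n42948 := d8_1 D43264 (iv D42948) (iv F195895)
theorem F199420 : act 1 n43264 = n42966 := d16_1 D43264 (iv D42966) (iv F195896)
theorem F199421 : act 3 n43264 = n42541 := d29_1 D43264 (iv D42541) (iv F195897)
theorem F199422 : act 5 n43264 = n42975 := d38_1 D43264 (iv D42975) (iv F195898)
theorem F199423 : act 6 n43264 = n42539 := d41_1 D43264 (iv D42539) D42538
def n43265 : Q := act 9 n42540
theorem D43265 : act 9 n42540 = n43265 := rfl
theorem F199424 : act 0 n43265 = n42949 := d8_1 D43265 (iv D42949) (iv F195903)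
theorem F199425 : act 1 n43265 = n42766 := d16_1 D43265 (iv D42766) (iv F195904)
theorem F199426 : act 2 n43265 = n42549 := d23_1 D43265 (iv D42549) (iv F195905)
theorem F199427 : act 4 n43265 = n42543 := d34_1 D43265 (iv D42543) (iv F195906)
theorem F199428 : act 5 n43265 = n42977 := d38_1 D43265 (iv D42977) (iv F195907)
theorem F199429 : act 7 n43265 = n42541 := d43_1 D43265 (iv D42541) D42540
def n43266 : Q := act 8 n42543
theorem D43266 : act 8 n42543 = n43266 := rfl
theorem F199430 : act 0 n43266 = n42689 := d7_1 D43266 F196673 (iv F195919)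
theorem F199431 : act 1 n43266 = n42768 := d15_1 D43266 (iv D42768) (iv F195920)
theorem F199432 : act 2 n43266 = n42550 := d22_1 D43266 (iv D42550) (iv F195921)
theorem F199433 : act 3 n43266 = n42997 := d28_1 D43266 (iv F199398) F199394
theorem F199434 : act 5 n43266 = n42742 := d37_1 D43266 F196921 (iv F194678) F194681 (iv F195922)
theorem F199435 : act 6 n43266 = n42908 := d40_1 D43266 (iv F199034) F199032
theorem F199436 : act 7 n43266 = n42544 := d42_1 D43266 (iv D42544) (iv F195923)
theorem F199437 : act 9 n43266 = n42546 := d44_2 D42543 D43266 (iv D42546) (iv D41582) (iv F191524)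
def n43267 : Q := act 5 n42544
theorem D43267 : act 5 n42544 = n43267 := rfl
theorem F199438 : act 0 n43267 = n42721 := d4_1 D43267 F196831 (iv F195924)
theorem F199439 : act 1 n43267 = n42791 := d12_1 D43267 F197082 (iv F195925)
theorem F199440 : act 2 n43267 = n42551 := d19_1 D43267 (iv D42551) (iv F195926)
theorem F199441 : act 3 n43267 = n42996 := d25_1 D43267 (iv F199403) F199402
theorem F199442 : act 6 n43267 = n42932 := d35_2 (iv F195927) D43267 (iv F199201) F199202 F195633
theorem F199443 : act 7 n43267 = n42742 := d36_2 F199436 D43267 (iv F199434)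
theorem F199444 : act 8 n43267 = n42853 := d37_2 D42544 D43267 F197287 F193772 (iv F191528)
theorem F199445 : act 9 n43267 = n42547 := d38_2 (iv F195928) D43267 (iv D42547)
def n43268 : Q := act 4 n42547
theorem D43268 : act 4 n42547 = n43268 := rfl
theorem F199446 : act 0 n43268 = n42720 := d3_1 D43268 (iv D42720) (iv F195940)
theorem F199447 : act 1 n43268 = n42790 := d11_1 D43268 F197079 (iv F195941)
theorem F199448 : act 2 n43268 = n42552 := d18_1 D43268 (iv D42552) (iv F195942)
theorem F199449 : act 5 n43268 = n42879 := d30_2 D42547 D43268 F197396 (iv F194957) F194956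
theorem F199450 : act 6 n43268 = n42936 := d31_2 (iv F195944) D43268 F197587
theorem F199451 : act 7 n43268 = n42741 := d32_2 (iv F195945) D43268 F196915
theorem F199452 : act 8 n43268 = n42548 := d33_2 (iv F195946) D43268 (iv D42548)
theorem F199453 : act 3 n43003 = n43268 := d45_1 (iv F197744) (iv D43268) (iv D42547) F191555 (iv F191089) (iv D41489) F186556 F181811 (iv F183001) F183002 F177839 (iv D36972) (iv F168455) F168451 F164680 F156720 F147985 F138802 (iv F136028) F136029 (iv D23571) (iv D18651) (iv D14640) (iv D11436) F42027 F33645 (iv D7082) (iv F33418) F33419 F33420 F33421 F28111 F22704 D4653 (iv F28057) (iv F34914) F34915 D9273 D11842 D15202 (iv F86003) F86001 F86002 (iv F86046) (iv F108049) D29756 F138628 D29792 F138772 (iv F139234) (iv F148612) D33858 F157362 F157363 (iv F157289) (iv F164822) D37088 (iv F178288) (iv F183422) D40747 D41806 (iv F196788) F196786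
def n43269 : Q := act 4 n42551
theorem D43269 : act 4 n42551 = n43269 := rfl
theorem F199454 : act 0 n43269 = n42723 := d3_1 D43269 F196838 (iv F195964)
theorem F199455 : act 1 n43269 = n42701 := d11_1 D43269 F196739 (iv F195965)
theorem F199456 : act 3 n43269 = n42602 := d24_1 D43269 F196289 F191997 (iv F192026) (iv F195966)
theorem F199457 : act 5 n43269 = n42881 := d30_2 D42551 D43269 F197402 (iv F194964) F194963
theorem F199458 : act 7 n43269 = n42743 := d32_2 (iv F195967) D43269 F196925
theorem F199459 : act 9 n43269 = n42552 := d34_2 (iv F195968) D43269 (iv D42552)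
def n43270 : Q := act 5 n42556
theorem D43270 : act 5 n42556 = n43270 := rfl
theorem F199460 : act 0 n43270 = n42589 := d4_1 D43270 (iv D42589) (iv F195996)
theorem F199461 : act 1 n43270 = n42637 := d12_1 D43270 F196447 (iv F195997)
theorem F199462 : act 2 n43270 = n42955 := d19_1 D43270 (iv D42955) (iv F195998)
theorem F199463 : act 3 n43270 = n42739 := d25_1 D43270 (iv D42739) (iv F195999)
theorem F199464 : act 6 n43270 = n42632 := d35_2 (iv F196001) D43270 (iv D42632) F192140 (iv F193239)
theorem F199465 : act 7 n43270 = n42578 := d36_2 (iv F196002) D43270 (iv D42578)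
theorem F199466 : act 8 n43270 = n43270 := d37_2 D42556 D43270 (iv D43270) (iv D42556) F191644
def n43271 : Q := act 9 n42556
theorem D43271 : act 9 n42556 = n43271 := rfl
theorem F199467 : act 0 n43271 = n42590 := d8_1 D43271 (iv D42590) (iv F195996)
theorem F199468 : act 1 n43271 = n42922 := d16_1 D43271 (iv D42922) (iv F195997)
theorem F199469 : act 2 n43271 = n42956 := d23_1 D43271 (iv D42956) (iv F195998)
theorem F199470 : act 3 n43271 = n42740 := d29_1 D43271 (iv D42740) (iv F195999)
theorem F199471 : act 4 n43271 = n42557 := d34_1 D43271 (iv D42557) (iv F196000)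
theorem F199472 : act 6 n43271 = n42848 := d41_1 D43271 (iv D42848) (iv F196001)
theorem F199473 : act 7 n43271 = n42579 := d43_1 D43271 (iv D42579) (iv F196002)
theorem F199474 : act 8 n43271 = n42869 := d44_1 D43271 (iv D42869) (iv D42024) (iv F191647) D42556
def n43272 : Q := act 8 n42559
theorem D43272 : act 8 n42559 = n43272 := rfl
theorem F199475 : act 0 n43272 = n42634 := d7_1 D43272 F196438 (iv F196018)
theorem F199476 : act 1 n43272 = n42562 := d15_1 D43272 (iv D42562) (iv F196019)
theorem F199477 : act 2 n43272 = n42998 := d22_1 D43272 (iv D42998) (iv F196020)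
theorem F199478 : act 3 n43272 = n42576 := d28_1 D43272 (iv D42576) (iv F196021)
theorem F199479 : act 4 n43272 = n42560 := d33_1 D43272 (iv D42560) D42559
theorem F199480 : act 6 n43272 = n42605 := d40_1 D43272 (iv D42605) (iv F196023)
theorem F199481 : act 7 n43272 = n42737 := d42_1 D43272 (iv D42737) (iv F196024)
def n43273 : Q := act 9 n42560
theorem D43273 : act 9 n42560 = n43273 := rfl
theorem F199482 : act 0 n43273 = n42635 := d8_1 D43273 (iv D42635) (iv F196026)
theorem F199483 : act 1 n43273 = n42563 := d16_1 D43273 (iv D42563) (iv F196027)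
theorem F199484 : act 2 n43273 = n42996 := d23_1 D43273 F197732 (iv F196028)
theorem F199485 : act 3 n43273 = n42561 := d29_1 D43273 (iv D42561) (iv F196029)
theorem F199486 : act 5 n43273 = n42627 := d38_1 D43273 (iv D42627) (iv F196030)
theorem F199487 : act 6 n43273 = n42604 := d41_1 D43273 F196305 (iv F196031)
theorem F199488 : act 7 n43273 = n42738 := d43_1 D43273 (iv D42738) (iv F196032)
theorem F199489 : act 8 n43273 = n42603 := d44_1 D43273 (iv D42603) F191993 (iv F191680) D42560
def n43274 : Q := act 5 n42562
theorem D43274 : act 5 n42562 = n43274 := rfl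
theorem F199490 : act 0 n43274 = n42606 := d4_1 D43274 (iv D42606) (iv F196041)
theorem F199491 : act 2 n43274 = n42748 := d19_1 D43274 (iv D42748) (iv F196042)
theorem F199492 : act 3 n43274 = n42578 := d25_1 D43274 (iv D42578) (iv F196043)
theorem F199493 : act 7 n43274 = n42739 := d36_2 (iv F196046) D43274 (iv D42739)
theorem F199494 : act 8 n43274 = n43274 := d37_2 D42562 D43274 (iv D43274) (iv D42562) F191691
def n43275 : Q := act 9 n42562
theorem D43275 : act 9 n42562 = n43275 := rfl
theorem F199495 : act 0 n43275 = n42607 := d8_1 D43275 (iv D42607) (iv F196041)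
theorem F199496 : act 2 n43275 = n42749 := d23_1 D43275 (iv D42749) (iv F196042)
theorem F199497 : act 3 n43275 = n42579 := d29_1 D43275 (iv D42579) (iv F196043)
theorem F199498 : act 4 n43275 = n42563 := d34_1 D43275 (iv D42563) (iv F196044)
theorem F199499 : act 6 n43275 = n42704 := d41_1 D43275 F196749 (iv F196045)
theorem F199500 : act 7 n43275 = n42740 := d43_1 D43275 (iv D42740) (iv F196046)
theorem F199501 : act 8 n43275 = n42703 := d44_1 D43275 (iv D42703) F192511 (iv F191694) D42562
def n43276 : Q := act 9 n42565
theorem D43276 : act 9 n42565 = n43276 := rfl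
theorem F199502 : act 0 n43276 = n42598 := d8_1 D43276 (iv D42598) (iv F196061)
theorem F199503 : act 1 n43276 = n42594 := d16_1 D43276 F196234 (iv F196062)
theorem F199504 : act 2 n43276 = n42692 := d23_1 D43276 F196692 (iv F196063)
theorem F199505 : act 3 n43276 = n42675 := d29_1 D43276 (iv D42675) (iv F196064)
theorem F199506 : act 4 n43276 = n42727 := d34_1 D43276 (iv D42727) (iv F196065)
theorem F199507 : act 5 n43276 = n42835 := d38_1 D43276 F197215 (iv F196066)
theorem F199508 : act 6 n43276 = n42672 := d41_1 D43276 (iv D42672) (iv F196067)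
theorem F199509 : act 7 n43276 = n42566 := d43_1 D43276 (iv D42566) D42565
theorem F199510 : act 8 n43276 = n42588 := d44_1 D43276 (iv D42588) F191887 (iv F191733) (iv F196068)
def n43277 : Q := act 5 n42569
theorem D43277 : act 5 n42569 = n43277 := rfl
theorem F199511 : act 0 n43277 = n42608 := d4_1 D43277 (iv D42608) (iv F196094)
theorem F199512 : act 2 n43277 = n42759 := d19_1 D43277 (iv D42759) (iv F196095)
theorem F199513 : act 3 n43277 = n42702 := d25_1 D43277 (iv D42702) (iv F196096)
theorem F199514 : act 7 n43277 = n42868 := d36_2 (iv F196099) D43277 (iv D42868)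
theorem F199515 : act 8 n43277 = n43277 := d37_2 D42569 D43277 (iv D43277) (iv D42569) F191752
def n43278 : Q := act 9 n42569
theorem D43278 : act 9 n42569 = n43278 := rfl
theorem F199516 : act 0 n43278 = n42609 := d8_1 D43278 (iv D42609) (iv F196094)
theorem F199517 : act 2 n43278 = n42760 := d23_1 D43278 (iv D42760) (iv F196095)
theorem F199518 : act 3 n43278 = n42703 := d29_1 D43278 (iv D42703) (iv F196096)
theorem F199519 : act 4 n43278 = n42570 := d34_1 D43278 (iv D42570) (iv F196097)
theorem F199520 : act 6 n43278 = n42701 := d41_1 D43278 (iv D42701) (iv F196098)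
theorem F199521 : act 7 n43278 = n42869 := d43_1 D43278 (iv D42869) (iv F196099)
theorem F199522 : act 8 n43278 = n42579 := d44_1 D43278 (iv D42579) (iv D41628) (iv F191755) D42569
def n43279 : Q := act 2 n42572
theorem D43279 : act 2 n42572 = n43279 := rfl
theorem F199523 : act 0 n43279 = n42617 := d1_1 D43279 (iv D42617) (iv F196114)
theorem F199524 : act 1 n43279 = n42813 := d9_1 D43279 F197153 F193087 (iv F192832) (iv F196115)
theorem F199525 : act 3 n43279 = n43002 := d17_2 D42572 D43279 F197742 F193909 (iv F191776)
theorem F199526 : act 4 n43279 = n42776 := d18_2 (iv F196116) D43279 (iv D42776)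
theorem F199527 : act 5 n43279 = n42741 := d19_2 (iv F196117) D43279 F196913
theorem F199528 : act 7 n43279 = n42879 := d21_2 (iv F196118) D43279 (iv D42879)
theorem F199529 : act 8 n43279 = n42575 := d22_2 (iv F196119) D43279 (iv D42575)
def n43280 : Q := act 9 n42572
theorem D43280 : act 9 n42572 = n43280 := rfl
theorem F199530 : act 0 n43280 = n42619 := d8_1 D43280 (iv D42619) (iv F196114)
theorem F199531 : act 1 n43280 = n42745 := d16_1 D43280 (iv D42745) (iv F196115)
theorem F199532 : act 3 n43280 = n42573 := d29_1 D43280 (iv D42573) D42572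
theorem F199533 : act 4 n43280 = n42778 := d34_1 D43280 (iv D42778) (iv F196116)
theorem F199534 : act 5 n43280 = n42743 := d38_1 D43280 (iv D42743) (iv F196117)
theorem F199535 : act 7 n43280 = n42881 := d43_1 D43280 (iv D42881) (iv F196118)
theorem F199536 : act 8 n43280 = n42817 := d44_1 D43280 (iv D42817) F193096 (iv F191797) (iv F196119)
def n43281 : Q := act 5 n42576
theorem D43281 : act 5 n42576 = n43281 := rfl
theorem F199537 : act 1 n43281 = n42578 := d12_1 D43281 (iv D42578) (iv F196141)
theorem F199538 : act 2 n43281 = n42927 := d19_1 D43281 F197557 (iv F196142)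
theorem F199539 : act 4 n43281 = n42606 := d30_1 D43281 (iv D42606) F192019 (iv F191813) (iv F196143)
theorem F199540 : act 7 n43281 = n42637 := d36_2 (iv F196144) D43281 F196447
theorem F199541 : act 8 n43281 = n43281 := d37_2 D42576 D43281 (iv D43281) (iv D42576) F191808
def n43282 : Q := act 9 n42576
theorem D43282 : act 9 n42576 = n43282 := rfl
theorem F199542 : act 1 n43282 = n42579 := d16_1 D43282 (iv D42579) (iv F196141)
theorem F199543 : act 2 n43282 = n42929 := d23_1 D43282 (iv D42929) (iv F196142)
theorem F199544 : act 4 n43282 = n42577 := d34_1 D43282 (iv D42577) (iv F196143)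
theorem F199545 : act 7 n43282 = n42922 := d43_1 D43282 (iv D42922) (iv F196144)
def n43283 : Q := act 9 n42578
theorem D43283 : act 9 n42578 = n43283 := rfl
theorem F199546 : act 0 n43283 = n42638 := d8_1 D43283 (iv D42638) (iv F196150)
theorem F199547 : act 5 n43283 = n42579 := d38_1 D43283 (iv D42579) D42578
def n43284 : Q := act 5 n42580
theorem D43284 : act 5 n42580 = n43284 := rfl
theorem F199548 : act 0 n43284 = n42739 := d4_1 D43284 (iv D42739) (iv F196154)
theorem F199549 : act 2 n43284 = n42702 := d19_1 D43284 (iv D42702) (iv F196155)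
theorem F199550 : act 3 n43284 = n42589 := d25_1 D43284 (iv D42589) (iv F196156)
theorem F199551 : act 4 n43284 = n42637 := d30_1 D43284 F196447 F193626 (iv F191839) (iv F196157)
theorem F199552 : act 6 n43284 = n42636 := d35_2 (iv F196158) D43284 F196444 F192158 (iv F192497)
theorem F199553 : act 7 n43284 = n42606 := d36_2 (iv F196159) D43284 (iv D42606)
theorem F199554 : act 8 n43284 = n43284 := d37_2 D42580 D43284 (iv D43284) (iv D42580) F191832
def n43285 : Q := act 9 n42580
theorem D43285 : act 9 n42580 = n43285 := rfl
theorem F199555 : act 0 n43285 = n42740 := d8_1 D43285 (iv D42740) (iv F196154)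
theorem F199556 : act 2 n43285 = n42703 := d23_1 D43285 (iv D42703) (iv F196155)
theorem F199557 : act 3 n43285 = n42590 := d29_1 D43285 (iv D42590) (iv F196156)
theorem F199558 : act 4 n43285 = n42581 := d34_1 D43285 (iv D42581) (iv F196157)
theorem F199559 : act 6 n43285 = n42700 := d41_1 D43285 (iv D42700) (iv F196158)
theorem F199560 : act 7 n43285 = n42607 := d43_1 D43285 (iv D42607) (iv F196159)
theorem F199561 : act 8 n43285 = n42749 := d44_1 D43285 (iv D42749) (iv D41867) (iv F191835) D42580
def n43286 : Q := act 8 n42583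
theorem D43286 : act 8 n42583 = n43286 := rfl
theorem F199562 : act 0 n43286 = n43000 := d7_1 D43286 F197740 (iv F196174)
theorem F199563 : act 1 n43286 = n42895 := d15_1 D43286 F197450 (iv F196175)
theorem F199564 : act 2 n43286 = n42585 := d22_1 D43286 (iv D42585) (iv F196176)
theorem F199565 : act 4 n43286 = n42584 := d33_1 D43286 (iv D42584) D42583
theorem F199566 : act 6 n43286 = n42696 := d40_1 D43286 F196712 (iv F196178)
theorem F199567 : act 7 n43286 = n42628 := d42_1 D43286 (iv D42628) (iv F196179)
def n43287 : Q := act 9 n42584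
theorem D43287 : act 9 n42584 = n43287 := rfl
theorem F199568 : act 0 n43287 = n42997 := d8_1 D43287 F197734 (iv F196181)
theorem F199569 : act 1 n43287 = n42898 := d16_1 D43287 (iv D42898) (iv F196182)
theorem F199570 : act 2 n43287 = n42587 := d23_1 D43287 (iv D42587) (iv F196183)
theorem F199571 : act 3 n43287 = n42689 := d29_1 D43287 (iv D42689) (iv F196184)
theorem F199572 : act 5 n43287 = n42684 := d38_1 D43287 F196655 (iv F196185)
theorem F199573 : act 6 n43287 = n42695 := d41_1 D43287 F196708 (iv F196186)
theorem F199574 : act 7 n43287 = n42630 := d43_1 D43287 (iv D42630) (iv F196187)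
theorem F199575 : act 8 n43287 = n42946 := d44_1 D43287 (iv D42946) F193712 (iv F191867) D42584
def n43288 : Q := act 5 n42585
theorem D43288 : act 5 n42585 = n43288 := rfl
theorem F199576 : act 1 n43288 = n42589 := d12_1 D43288 (iv D42589) (iv F196188)
theorem F199577 : act 7 n43288 = n42632 := d36_2 (iv F196190) D43288 (iv D42632)
theorem F199578 : act 8 n43288 = n43288 := d37_2 D42585 D43288 (iv D43288) (iv D42585) F191869
def n43289 : Q := act 9 n42585
theorem D43289 : act 9 n42585 = n43289 := rfl
theorem F199579 : act 1 n43289 = n42590 := d16_1 D43289 (iv D42590) (iv F196188)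
theorem F199580 : act 4 n43289 = n42587 := d34_1 D43289 (iv D42587) (iv F196189)
theorem F199581 : act 7 n43289 = n42633 := d43_1 D43289 (iv D42633) (iv F196190)
theorem F199582 : act 8 n43289 = n43012 := d44_1 D43289 (iv D43012) F193932 (iv F191871) D42585
def n43290 : Q := act 9 n42586
theorem D43290 : act 9 n42586 = n43290 := rfl
theorem F199583 : act 0 n43290 = n42738 := d8_1 D43290 (iv D42738) (iv F196191)
theorem F199584 : act 1 n43290 = n42592 := d16_1 D43290 (iv D42592) (iv F196192)
theorem F199585 : act 2 n43290 = n42684 := d23_1 D43290 F196655 (iv F196193)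
theorem F199586 : act 3 n43290 = n42588 := d29_1 D43290 (iv D42588) (iv F196194)
theorem F199587 : act 5 n43290 = n42587 := d38_1 D43290 (iv D42587) D42586
theorem F199588 : act 6 n43290 = n42676 := d41_1 D43290 F196624 (iv F196195)
theorem F199589 : act 7 n43290 = n42635 := d43_1 D43290 (iv D42635) (iv F196196)
theorem F199590 : act 8 n43290 = n42675 := d44_1 D43290 (iv D42675) F192331 (iv F191881) (iv F196197)
def n43291 : Q := act 4 n42589
theorem D43291 : act 4 n42589 = n43291 := rfl
theorem F199591 : act 5 n43291 = n42591 := d30_2 D42589 D43291 (iv D42591) (iv D41643) (iv F191893)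
theorem F199592 : act 7 n43291 = n42636 := d32_2 (iv F196209) D43291 (iv D42636)
theorem F199593 : act 8 n43291 = n43291 := d33_2 F196210 D43291 (iv D43291)
def n43292 : Q := act 6 n42589
theorem D43292 : act 6 n42589 = n43292 := rfl
theorem F199594 : act 0 n43292 = n42632 := d5_1 D43292 (iv F199464) F199460
theorem F199595 : act 3 n43292 = n42636 := d26_1 D43292 (iv F199552) F199550
theorem F199596 : act 5 n43292 = n42626 := d35_1 D43292 F196402 (iv F195189) F195190 D42589
theorem F199597 : act 8 n43292 = n43292 := d40_2 F196210 D43292 (iv D43292)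
def n43293 : Q := act 9 n42589
theorem D43293 : act 9 n42589 = n43293 := rfl
theorem F199598 : act 5 n43293 = n42590 := d38_1 D43293 (iv D42590) D42589
theorem F199599 : act 7 n43293 = n42638 := d43_1 D43293 (iv D42638) (iv F196209)
def n43294 : Q := act 9 n42591
theorem D43294 : act 9 n42591 = n43294 := rfl
theorem F199600 : act 4 n43294 = n42592 := d34_1 D43294 (iv D42592) D42591
theorem F199601 : act 6 n43294 = n42843 := d41_1 D43294 F197239 (iv F196213)
theorem F199602 : act 7 n43294 = n42639 := d43_1 D43294 (iv D42639) (iv F196214)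
theorem F199603 : act 8 n43294 = n42811 := d44_1 D43294 (iv D42811) F193068 (iv F191904) (iv F196215)
def n43295 : Q := act 5 n42599
theorem D43295 : act 5 n42599 = n43295 := rfl
theorem F199604 : act 0 n43295 = n42748 := d4_1 D43295 (iv D42748) (iv F196265)
theorem F199605 : act 1 n43295 = n42987 := d12_1 D43295 (iv D42987) (iv F196266)
theorem F199606 : act 2 n43295 = n42606 := d19_1 D43295 (iv D42606) (iv F196267)
theorem F199607 : act 3 n43295 = n42868 := d25_1 D43295 (iv D42868) (iv F196268)
theorem F199608 : act 4 n43295 = n42927 := d30_1 D43295 F197557 F193640 (iv F191971) (iv F196269)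
theorem F199609 : act 6 n43295 = n42999 := d35_2 (iv F196270) D43295 (iv D42999) F193893 (iv F193303)
theorem F199610 : act 7 n43295 = n42702 := d36_2 (iv F196271) D43295 (iv D42702)
theorem F199611 : act 8 n43295 = n43295 := d37_2 D42599 D43295 (iv D43295) (iv D42599) F191963
def n43296 : Q := act 9 n42599
theorem D43296 : act 9 n42599 = n43296 := rfl
theorem F199612 : act 0 n43296 = n42749 := d8_1 D43296 (iv D42749) (iv F196265)
theorem F199613 : act 1 n43296 = n42988 := d16_1 D43296 (iv D42988) (iv F196266)
theorem F199614 : act 2 n43296 = n42607 := d23_1 D43296 (iv D42607) (iv F196267)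
theorem F199615 : act 3 n43296 = n42869 := d29_1 D43296 (iv D42869) (iv F196268)
theorem F199616 : act 4 n43296 = n42600 := d34_1 D43296 (iv D42600) (iv F196269)
theorem F199617 : act 6 n43296 = n42854 := d41_1 D43296 (iv D42854) (iv F196270)
theorem F199618 : act 7 n43296 = n42703 := d43_1 D43296 (iv D42703) (iv F196271)
theorem F199619 : act 8 n43296 = n42740 := d44_1 D43296 (iv D42740) (iv D41849) (iv F191966) D42599
def n43297 : Q := act 5 n42601
theorem D43297 : act 5 n42601 = n43297 := rfl
theorem F199620 : act 0 n43297 = n42750 := d4_1 D43297 (iv D42750) (iv F196280)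
theorem F199621 : act 1 n43297 = n42702 := d12_1 D43297 (iv D42702) (iv F196281)
theorem F199622 : act 2 n43297 = n42992 := d19_1 D43297 F197721 (iv F196282)
theorem F199623 : act 4 n43297 = n42860 := d30_1 D43297 (iv D42860) F193342 (iv F191991) (iv F196283)
theorem F199624 : act 6 n43297 = n42882 := d35_2 D42601 D43297 (iv D42882) (iv D42035) (iv F191984)
theorem F199625 : act 7 n43297 = n42987 := d36_2 (iv F196284) D43297 (iv D42987)
theorem F199626 : act 8 n43297 = n43297 := d37_2 (iv F196285) D43297 (iv D43297) F196285 F192004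
def n43298 : Q := act 9 n42601
theorem D43298 : act 9 n42601 = n43298 := rfl
theorem F199627 : act 0 n43298 = n42751 := d8_1 D43298 (iv D42751) (iv F196280)
theorem F199628 : act 1 n43298 = n42703 := d16_1 D43298 (iv D42703) (iv F196281)
theorem F199629 : act 2 n43298 = n42994 := d23_1 D43298 (iv D42994) (iv F196282)
theorem F199630 : act 4 n43298 = n42603 := d34_1 D43298 (iv D42603) (iv F196283)
theorem F199631 : act 6 n43298 = n42602 := d41_1 D43298 (iv D42602) D42601
theorem F199632 : act 7 n43298 = n42988 := d43_1 D43298 (iv D42988) (iv F196284)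
def n43299 : Q := act 8 n42602
theorem D43299 : act 8 n42602 = n43299 := rfl
theorem F199633 : act 0 n43299 = n42752 := d7_1 D43299 (iv D42752) (iv F196286)
theorem F199634 : act 1 n43299 = n42704 := d15_1 D43299 (iv D42704) (iv F196287)
theorem F199635 : act 2 n43299 = n43008 := d22_1 D43299 (iv D43008) (iv F196288)
theorem F199636 : act 4 n43299 = n42604 := d33_1 D43299 (iv D42604) (iv F196289)
theorem F199637 : act 5 n43299 = n42843 := d37_1 D43299 (iv D42843) (iv F197105) F197107 (iv F196290)
theorem F199638 : act 7 n43299 = n42747 := d42_1 D43299 (iv D42747) (iv F196291)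
theorem F199639 : act 9 n43299 = n42605 := d44_2 D42602 D43299 (iv D42605) (iv D41663) (iv F191986)
def n43300 : Q := act 6 n42606
theorem D43300 : act 6 n42606 = n43300 := rfl
theorem F199640 : act 1 n43300 = n42739 := d13_1 D43300 (iv F198132) F198128
theorem F199641 : act 2 n43300 = n42999 := d20_1 D43300 (iv F199609) F199606
theorem F199642 : act 3 n43300 = n42637 := d26_1 D43300 (iv D42637) (iv F196312)
theorem F199643 : act 5 n43300 = n42737 := d35_1 D43300 F196900 F193372 (iv F192020) D42606
theorem F199644 : act 8 n43300 = n43300 := d40_2 F196313 D43300 (iv D43300)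
def n43301 : Q := act 9 n42606
theorem D43301 : act 9 n42606 = n43301 := rfl
theorem F199645 : act 3 n43301 = n42638 := d29_1 D43301 (iv D42638) (iv F196312)
theorem F199646 : act 5 n43301 = n42607 := d38_1 D43301 (iv D42607) D42606
def n43302 : Q := act 4 n42608
theorem D43302 : act 4 n42608 = n43302 := rfl
theorem F199647 : act 1 n43302 = n42825 := d11_1 D43302 F197184 (iv F196318)
theorem F199648 : act 5 n43302 = n42610 := d30_2 D42608 D43302 (iv D42610) (iv D41671) (iv F192037)
theorem F199649 : act 8 n43302 = n43302 := d33_2 F196320 D43302 (iv D43302)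
def n43303 : Q := act 6 n42608
theorem D43303 : act 6 n42608 = n43303 := rfl
theorem F199650 : act 1 n43303 = n42989 := d13_1 D43303 F197712 (iv F196318)
theorem F199651 : act 3 n43303 = n42753 := d26_1 D43303 (iv D42753) (iv F196319)
theorem F199652 : act 5 n43303 = n42911 := d35_1 D43303 (iv D42911) F193557 (iv F192038) D42608
theorem F199653 : act 8 n43303 = n43303 := d40_2 F196320 D43303 (iv D43303)
def n43304 : Q := act 9 n42608
theorem D43304 : act 9 n42608 = n43304 := rfl
theorem F199654 : act 1 n43304 = n43011 := d16_1 D43304 (iv D43011) (iv F196318)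
theorem F199655 : act 3 n43304 = n42754 := d29_1 D43304 (iv D42754) (iv F196319)
theorem F199656 : act 5 n43304 = n42609 := d38_1 D43304 (iv D42609) D42608
def n43305 : Q := act 3 n42610
theorem D43305 : act 3 n42610 = n43305 := rfl
theorem F199657 : act 0 n43305 = n43005 := d2_1 D43305 (iv F198017) F198014
theorem F199658 : act 1 n43305 = n42823 := d10_1 D43305 F197179 (iv F196326)
theorem F199659 : act 4 n43305 = n42613 := d24_2 D42610 D43305 (iv D42613) (iv D41674) (iv F192040)
theorem F199660 : act 6 n43305 = n42787 := d26_2 (iv F196327) D43305 F197066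
theorem F199661 : act 8 n43305 = n42612 := d28_2 (iv F196328) D43305 (iv D42612)
def n43306 : Q := act 9 n42610
theorem D43306 : act 9 n42610 = n43306 := rfl
theorem F199662 : act 1 n43306 = n42827 := d16_1 D43306 (iv D42827) (iv F196326)
theorem F199663 : act 4 n43306 = n42611 := d34_1 D43306 (iv D42611) D42610
theorem F199664 : act 6 n43306 = n42782 := d41_1 D43306 F197052 (iv F196327)
theorem F199665 : act 8 n43306 = n42781 := d44_1 D43306 (iv D42781) F192964 (iv F192050) (iv F196328)
def n43307 : Q := act 2 n42612
theorem D43307 : act 2 n42612 = n43307 := rfl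
theorem F199666 : act 0 n43307 = n43013 := d1_1 D43307 F197763 (iv F196334)
theorem F199667 : act 4 n43307 = n42615 := d18_2 (iv F196336) D43307 (iv D42615)
theorem F199668 : act 5 n43307 = n43307 := d19_2 F196337 D43307 (iv D43307)
theorem F199669 : act 6 n43307 = n42785 := d20_2 (iv F196338) D43307 F197058
theorem F199670 : act 9 n43307 = n42784 := d23_2 (iv F196339) D43307 F197056
def n43308 : Q := act 2 n42613
theorem D43308 : act 2 n42613 = n43308 := rfl
theorem F199671 : act 0 n43308 = n43002 := d1_1 D43308 F197742 (iv F196340)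
theorem F199672 : act 3 n43308 = n42617 := d17_2 D42613 D43308 (iv D42617) (iv D41678) (iv F192053)
theorem F199673 : act 5 n43308 = n42709 := d19_2 (iv F196342) D43308 F196779
theorem F199674 : act 6 n43308 = n42816 := d20_2 (iv F196343) D43308 (iv D42816)
theorem F199675 : act 8 n43308 = n42615 := d22_2 (iv F196344) D43308 (iv D42615)
def n43309 : Q := act 9 n42613
theorem D43309 : act 9 n42613 = n43309 := rfl
theorem F199676 : act 0 n43309 = n43006 := d8_1 D43309 (iv D43006) (iv F196340)
theorem F199677 : act 1 n43309 = n42832 := d16_1 D43309 (iv D42832) (iv F196341)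
theorem F199678 : act 3 n43309 = n42614 := d29_1 D43309 (iv D42614) D42613
theorem F199679 : act 5 n43309 = n42712 := d38_1 D43309 (iv D42712) (iv F196342)
theorem F199680 : act 6 n43309 = n42817 := d41_1 D43309 (iv D42817) (iv F196343)
def n43310 : Q := act 1 n42615
theorem D43310 : act 1 n42615 = n43310 := rfl
theorem F199681 : act 0 n43310 = n42969 := d0_1 D43310 F197666 (iv F196560) F196561 (iv F196351)
theorem F199682 : act 2 n43310 = n42653 := d9_2 D42615 D43310 F196509 F193144 (iv F192062)
theorem F199683 : act 3 n43310 = n42623 := d10_2 (iv F196352) D43310 (iv D42623)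
theorem F199684 : act 5 n43310 = n42616 := d12_2 (iv F196353) D43310 (iv D42616)
theorem F199685 : act 6 n43310 = n42656 := d13_2 (iv F196354) D43310 F196526
theorem F199686 : act 9 n43310 = n42652 := d16_2 F198339 D43310 (iv F198335)
def n43311 : Q := act 1 n42617
theorem D43311 : act 1 n42617 = n43311 := rfl
theorem F199687 : act 0 n43311 = n42983 := d0_1 D43311 (iv F198621) F198620 (iv F199524) F199523
theorem F199688 : act 2 n43311 = n42668 := d9_2 D42617 D43311 F196575 (iv D41797) (iv F192070)
theorem F199689 : act 5 n43311 = n42669 := d12_2 (iv F196362) D43311 F196579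
theorem F199690 : act 8 n43311 = n42623 := d15_2 (iv F196363) D43311 (iv D42623)
def n43312 : Q := act 6 n42617
theorem D43312 : act 6 n42617 = n43312 := rfl
theorem F199691 : act 2 n43312 = n42618 := d20_1 D43312 (iv D42618) D42617
theorem F199692 : act 3 n43312 = n42816 := d26_1 D43312 (iv F199674) F199672
theorem F199693 : act 5 n43312 = n42830 := d35_1 D43312 (iv D42830) (iv F195266) F195267 (iv F196362)
theorem F199694 : act 8 n43312 = n42624 := d40_2 (iv F196363) D43312 (iv D42624)
def n43313 : Q := act 9 n42617
theorem D43313 : act 9 n42617 = n43313 := rfl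
theorem F199695 : act 2 n43313 = n42619 := d23_1 D43313 (iv D42619) D42617
theorem F199696 : act 5 n43313 = n42755 := d38_1 D43313 (iv D42755) (iv F196362)
def n43314 : Q := act 7 n42618
theorem D43314 : act 7 n42618 = n43314 := rfl
theorem F199697 : act 1 n43314 = n42711 := d14_1 D43314 (iv D42711) (iv F196364)
theorem F199698 : act 3 n43314 = n42620 := d27_1 D43314 (iv D42620) (iv F196365)
theorem F199699 : act 5 n43314 = n42831 := d36_1 D43314 (iv D42831) (iv F196366)
theorem F199700 : act 8 n43314 = n42625 := d42_2 (iv F196367) D43314 (iv D42625)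
def n43315 : Q := act 9 n42618
theorem D43315 : act 9 n42618 = n43315 := rfl
theorem F199701 : act 1 n43315 = n42712 := d16_1 D43315 (iv D42712) (iv F196364)
theorem F199702 : act 3 n43315 = n42621 := d29_1 D43315 (iv D42621) (iv F196365)
theorem F199703 : act 5 n43315 = n42832 := d38_1 D43315 (iv D42832) (iv F196366)
theorem F199704 : act 6 n43315 = n42619 := d41_1 D43315 (iv D42619) D42618
theorem F199705 : act 8 n43315 = n43006 := d44_1 D43315 (iv D43006) F193910 (iv F192097) (iv F196367)
def n43316 : Q := act 9 n42620
theorem D43316 : act 9 n42620 = n43316 := rfl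
theorem F199706 : act 1 n43316 = n42713 := d16_1 D43316 (iv D42713) (iv F196371)
theorem F199707 : act 2 n43316 = n42796 := d23_1 D43316 (iv D42796) (iv F196372)
theorem F199708 : act 4 n43316 = n42622 := d34_1 D43316 (iv D42622) (iv F196373)
theorem F199709 : act 5 n43316 = n42833 := d38_1 D43316 (iv D42833) (iv F196374)
theorem F199710 : act 7 n43316 = n42621 := d43_1 D43316 (iv D42621) D42620
theorem F199711 : act 8 n43316 = n42875 := d44_1 D43316 (iv D42875) F193416 (iv F192102) (iv F196375)
def n43317 : Q := act 6 n42623
theorem D43317 : act 6 n42623 = n43317 := rfl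
theorem F199712 : act 0 n43317 = n42968 := d5_1 D43317 F197664 (iv F196387)
theorem F199713 : act 1 n43317 = n42624 := d13_1 D43317 (iv D42624) D42623
theorem F199714 : act 2 n43317 = n42667 := d20_1 D43317 F196573 (iv F196388)
theorem F199715 : act 3 n43317 = n42656 := d26_1 D43317 (iv F199685) F199683
theorem F199716 : act 5 n43317 = n42655 := d35_1 D43317 F196523 F192763 (iv F192106) (iv F196389)
theorem F199717 : act 9 n43317 = n42665 := d41_2 (iv F196390) D43317 (iv D42665)
def n43318 : Q := act 7 n42624
theorem D43318 : act 7 n42624 = n43318 := rfl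
theorem F199718 : act 2 n43318 = n42625 := d21_1 D43318 (iv D42625) (iv F196391)
theorem F199719 : act 3 n43318 = n42798 := d27_1 D43318 F197114 (iv F196392)
theorem F199720 : act 5 n43318 = n42736 := d36_1 D43318 (iv D42736) (iv F196393)
theorem F199721 : act 9 n43318 = n42877 := d43_2 (iv F196394) D43318 F197393
def n43319 : Q := act 9 n42626
theorem D43319 : act 9 n42626 = n43319 := rfl
theorem F199722 : act 0 n43319 = n42633 := d8_1 D43319 (iv D42633) (iv F196399)
theorem F199723 : act 3 n43319 = n42639 := d29_1 D43319 (iv D42639) (iv F196400)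
theorem F199724 : act 4 n43319 = n42627 := d34_1 D43319 (iv D42627) (iv F196401)
theorem F199725 : act 6 n43319 = n42733 := d41_1 D43319 F196879 (iv F196402)
theorem F199726 : act 8 n43319 = n42732 := d44_1 D43319 (iv D42732) F192697 (iv F192113) D42626
def n43320 : Q := act 5 n42628
theorem D43320 : act 5 n42628 = n43320 := rfl
theorem F199727 : act 1 n43320 = n42894 := d12_1 D43320 (iv D42894) (iv F196407)
theorem F199728 : act 2 n43320 = n42632 := d19_1 D43320 (iv D42632) (iv F196408)
theorem F199729 : act 6 n43320 = n42955 := d35_2 (iv F196410) D43320 (iv D42955) F193774 (iv F193465)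
theorem F199730 : act 8 n43320 = n43320 := d37_2 D42628 D43320 (iv D43320) (iv D42628) F192124
def n43321 : Q := act 9 n42628
theorem D43321 : act 9 n42628 = n43321 := rfl
theorem F199731 : act 1 n43321 = n42896 := d16_1 D43321 (iv D42896) (iv F196407)
theorem F199732 : act 2 n43321 = n42633 := d23_1 D43321 (iv D42633) (iv F196408)
theorem F199733 : act 4 n43321 = n42630 := d34_1 D43321 (iv D42630) (iv F196409)
theorem F199734 : act 6 n43321 = n42889 := d41_1 D43321 (iv D42889) (iv F196410)
theorem F199735 : act 8 n43321 = n42945 := d44_1 D43321 (iv D42945) F193707 (iv F192126) D42628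
def n43322 : Q := act 4 n42629
theorem D43322 : act 4 n42629 = n43322 := rfl
theorem F199736 : act 0 n43322 = n42998 := d3_1 D43322 F197735 (iv F196411)
theorem F199737 : act 1 n43322 = n42874 := d11_1 D43322 F197382 (iv F196412)
theorem F199738 : act 2 n43322 = n42634 := d18_1 D43322 (iv D42634) (iv F196413)
theorem F199739 : act 6 n43322 = n42717 := d31_2 (iv F196415) D43322 F196817
theorem F199740 : act 7 n43322 = n42686 := d32_2 (iv F196416) D43322 F196662
theorem F199741 : act 8 n43322 = n42631 := d33_2 (iv F196417) D43322 (iv D42631)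
def n43323 : Q := act 9 n42629
theorem D43323 : act 9 n42629 = n43323 := rfl
theorem F199742 : act 0 n43323 = n42996 := d8_1 D43323 F197732 (iv F196411)
theorem F199743 : act 1 n43323 = n42876 := d16_1 D43323 (iv D42876) (iv F196412)
theorem F199744 : act 2 n43323 = n42635 := d23_1 D43323 (iv D42635) (iv F196413)
theorem F199745 : act 3 n43323 = n42721 := d29_1 D43323 (iv D42721) (iv F196414)
theorem F199746 : act 5 n43323 = n42630 := d38_1 D43323 (iv D42630) D42629
theorem F199747 : act 6 n43323 = n42715 := d41_1 D43323 F196808 (iv F196415)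
theorem F199748 : act 7 n43323 = n42684 := d43_1 D43323 F196655 (iv F196416)
theorem F199749 : act 8 n43323 = n42683 := d44_1 D43323 (iv D42683) F192364 (iv F192137) (iv F196417)
def n43324 : Q := act 4 n42632
theorem D43324 : act 4 n42632 = n43324 := rfl
theorem F199750 : act 1 n43324 = n42636 := d11_1 D43324 (iv D42636) (iv F196430)
theorem F199751 : act 5 n43324 = n42634 := d30_2 D42632 D43324 (iv D42634) (iv D41695) (iv F192139)
theorem F199752 : act 8 n43324 = n43324 := d33_2 F196431 D43324 (iv D43324)
def n43325 : Q := act 9 n42632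
theorem D43325 : act 9 n42632 = n43325 := rfl
theorem F199753 : act 1 n43325 = n42638 := d16_1 D43325 (iv D42638) (iv F196430)
theorem F199754 : act 5 n43325 = n42633 := d38_1 D43325 (iv D42633) D42632
def n43326 : Q := act 9 n42634
theorem D43326 : act 9 n42634 = n43326 := rfl
theorem F199755 : act 1 n43326 = n42639 := d16_1 D43326 (iv D42639) (iv F196436)
theorem F199756 : act 4 n43326 = n42635 := d34_1 D43326 (iv D42635) D42634
theorem F199757 : act 6 n43326 = n42752 := d41_1 D43326 F196960 (iv F196437)
theorem F199758 : act 8 n43326 = n42751 := d44_1 D43326 (iv D42751) F192879 (iv F192152) (iv F196438)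
def n43327 : Q := act 9 n42636
theorem D43327 : act 9 n42636 = n43327 := rfl
theorem F199759 : act 4 n43327 = n42638 := d34_1 D43327 (iv D42638) D42636
theorem F199760 : act 5 n43327 = n42639 := d38_1 D43327 (iv D42639) (iv F196444)
def n43328 : Q := act 9 n42637
theorem D43328 : act 9 n42637 = n43328 := rfl
theorem F199761 : act 2 n43328 = n42928 := d23_1 D43328 (iv D42928) (iv F196446)
theorem F199762 : act 5 n43328 = n42922 := d38_1 D43328 (iv D42922) (iv F196447)
theorem F199763 : act 6 n43328 = n42638 := d41_1 D43328 (iv D42638) D42637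
def n43329 : Q := act 8 n42638
theorem D43329 : act 8 n42638 = n43329 := rfl
theorem F199764 : act 9 n43329 = n43329 := d44_2 D42638 D43329 (iv D43329) (iv D42638) F192156
def n43330 : Q := act 5 n42640
theorem D43330 : act 5 n42640 = n43330 := rfl
theorem F199765 : act 1 n43330 = n42644 := d12_1 D43330 (iv D42644) (iv F196453)
theorem F199766 : act 3 n43330 = n42957 := d25_1 D43330 (iv D42957) (iv F196454)
theorem F199767 : act 7 n43330 = n42909 := d36_2 (iv F196457) D43330 (iv D42909)
theorem F199768 : act 8 n43330 = n43330 := d37_2 D42640 D43330 (iv D43330) (iv D42640) F192185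
def n43331 : Q := act 9 n42640
theorem D43331 : act 9 n42640 = n43331 := rfl
theorem F199769 : act 1 n43331 = n42645 := d16_1 D43331 (iv D42645) (iv F196453)
theorem F199770 : act 3 n43331 = n42958 := d29_1 D43331 (iv D42958) (iv F196454)
theorem F199771 : act 4 n43331 = n42641 := d34_1 D43331 (iv D42641) (iv F196455)
theorem F199772 : act 6 n43331 = n42690 := d41_1 D43331 (iv D42690) (iv F196456)
theorem F199773 : act 7 n43331 = n42907 := d43_1 D43331 F197489 (iv F196457)
theorem F199774 : act 8 n43331 = n42906 := d44_1 D43331 (iv D42906) F193538 (iv F192188) D42640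
def n43332 : Q := act 9 n42642
theorem D43332 : act 9 n42642 = n43332 := rfl
theorem F199775 : act 0 n43332 = n42940 := d8_1 D43332 (iv D42940) (iv F196463)
theorem F199776 : act 1 n43332 = n42650 := d16_1 D43332 (iv D42650) (iv F196464)
theorem F199777 : act 2 n43332 = n42842 := d23_1 D43332 F197236 (iv F196465)
theorem F199778 : act 3 n43332 = n42821 := d29_1 D43332 (iv D42821) F196470
theorem F199779 : act 4 n43332 = n42643 := d34_1 D43332 (iv D42643) D42642
theorem F199780 : act 5 n43332 = n42851 := d38_1 D43332 (iv D42851) (iv F196466)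
theorem F199781 : act 6 n43332 = n42705 := d41_1 D43332 (iv D42705) (iv F196467)
theorem F199782 : act 7 n43332 = n43001 := d43_1 D43332 F197741 (iv F196468)
theorem F199783 : act 8 n43332 = n42840 := d44_1 D43332 (iv D42840) F193165 (iv F192208) (iv F196469)
def n43333 : Q := act 4 n42644
theorem D43333 : act 4 n42644 = n43333 := rfl
theorem F199784 : act 0 n43333 = n42959 := d3_1 D43333 (iv D42959) (iv F196476)
theorem F199785 : act 5 n43333 = n42646 := d30_2 D42644 D43333 (iv D42646) (iv D41712) (iv F192211)
theorem F199786 : act 8 n43333 = n43333 := d33_2 F196477 D43333 (iv D43333)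
def n43334 : Q := act 9 n42644
theorem D43334 : act 9 n42644 = n43334 := rfl
theorem F199787 : act 0 n43334 = n42960 := d8_1 D43334 (iv D42960) (iv F196476)
theorem F199788 : act 5 n43334 = n42645 := d38_1 D43334 (iv D42645) D42644
def n43335 : Q := act 3 n42646
theorem D43335 : act 3 n42646 = n43335 := rfl
theorem F199789 : act 0 n43335 = n42961 := d2_1 D43335 (iv D42961) (iv F196481)
theorem F199790 : act 1 n43335 = n42818 := d10_1 D43335 (iv F199054) F199052
theorem F199791 : act 4 n43335 = n42649 := d24_2 D42646 D43335 (iv D42649) (iv D41715) (iv F192214)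
theorem F199792 : act 6 n43335 = n42788 := d26_2 F198972 D43335 (iv F198969)
theorem F199793 : act 8 n43335 = n42648 := d28_2 (iv F196482) D43335 (iv D42648)
def n43336 : Q := act 9 n42646
theorem D43336 : act 9 n42646 = n43336 := rfl
theorem F199794 : act 0 n43336 = n42962 := d8_1 D43336 (iv D42962) (iv F196481)
theorem F199795 : act 4 n43336 = n42647 := d34_1 D43336 (iv D42647) D42646
def n43337 : Q := act 2 n42648
theorem D43337 : act 2 n42648 = n43337 := rfl
theorem F199796 : act 0 n43337 = n42964 := d1_1 D43337 (iv D42964) (iv F196486)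
theorem F199797 : act 1 n43337 = n42784 := d9_1 D43337 F197056 (iv F195150) F195151 (iv F196487)
theorem F199798 : act 4 n43337 = n42652 := d18_2 (iv F196488) D43337 (iv D42652)
theorem F199799 : act 5 n43337 = n43337 := d19_2 F196489 D43337 (iv D43337)
theorem F199800 : act 6 n43337 = n42775 := d20_2 (iv F196490) D43337 F197033
def n43338 : Q := act 2 n42649
theorem D43338 : act 2 n42649 = n43338 := rfl
theorem F199801 : act 0 n43338 = n42965 := d1_1 D43338 (iv D42965) (iv F196491)
theorem F199802 : act 3 n43338 = n42657 := d17_2 D42649 D43338 (iv D42657) (iv D41723) (iv F192222)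
theorem F199803 : act 5 n43338 = n42718 := d19_2 (iv F196493) D43338 F196820
theorem F199804 : act 6 n43338 = n42813 := d20_2 (iv F196494) D43338 F197153
theorem F199805 : act 8 n43338 = n42652 := d22_2 (iv F196495) D43338 (iv D42652)
def n43339 : Q := act 9 n42649
theorem D43339 : act 9 n42649 = n43339 := rfl
theorem F199806 : act 0 n43339 = n42966 := d8_1 D43339 (iv D42966) (iv F196491)
theorem F199807 : act 1 n43339 = n42821 := d16_1 D43339 (iv D42821) (iv F196492)
theorem F199808 : act 3 n43339 = n42650 := d29_1 D43339 (iv D42650) D42649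
theorem F199809 : act 5 n43339 = n42919 := d38_1 D43339 (iv D42919) (iv F196493)
theorem F199810 : act 6 n43339 = n42815 := d41_1 D43339 (iv D42815) (iv F196494)
def n43340 : Q := act 8 n42650
theorem D43340 : act 8 n42650 = n43340 := rfl
theorem F199811 : act 0 n43340 = n42967 := d7_1 D43340 (iv D42967) (iv F196496)
theorem F199812 : act 1 n43340 = n42840 := d15_1 D43340 (iv F199783) F199776
theorem F199813 : act 2 n43340 = n42662 := d22_1 D43340 (iv D42662) (iv F196497)
theorem F199814 : act 4 n43340 = n42651 := d33_1 D43340 (iv D42651) (iv F196498)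
theorem F199815 : act 6 n43340 = n42838 := d40_1 D43340 F197226 (iv F196500)
theorem F199816 : act 9 n43340 = n42654 := d44_2 D42650 D43340 (iv D42654) (iv D41718) (iv F192225)
def n43341 : Q := act 8 n42653
theorem D43341 : act 8 n42653 = n43341 := rfl
theorem F199817 : act 0 n43341 = n42970 := d7_1 D43341 (iv D42970) (iv F196508)
theorem F199818 : act 1 n43341 = n42830 := d15_1 D43341 F197198 (iv F196509)
theorem F199819 : act 3 n43341 = n42654 := d28_1 D43341 (iv D42654) (iv F196510)
theorem F199820 : act 6 n43341 = n42670 := d40_1 D43341 F196586 (iv F196512)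
def n43342 : Q := act 5 n42654
theorem D43342 : act 5 n42654 = n43342 := rfl
theorem F199821 : act 0 n43342 = n42971 := d4_1 D43342 (iv D42971) (iv F196513)
theorem F199822 : act 1 n43342 = n42816 := d12_1 D43342 F197162 (iv F196514)
theorem F199823 : act 2 n43342 = n42670 := d19_1 D43342 (iv D42670) (iv F196515)
theorem F199824 : act 8 n43342 = n42656 := d37_2 D42654 D43342 (iv D42656) (iv D41722) (iv F192237)
def n43343 : Q := act 6 n42657
theorem D43343 : act 6 n42657 = n43343 := rfl
theorem F199825 : act 0 n43343 = n42972 := d5_1 D43343 (iv D42972) (iv F196529)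
theorem F199826 : act 1 n43343 = n43002 := d13_1 D43343 (iv F198267) F198265
theorem F199827 : act 2 n43343 = n42658 := d20_1 D43343 (iv D42658) D42657
theorem F199828 : act 3 n43343 = n42813 := d26_1 D43343 (iv F199804) F199802
theorem F199829 : act 5 n43343 = n42812 := d35_1 D43343 F197152 F193619 (iv F192642) (iv F196530)
theorem F199830 : act 8 n43343 = n42665 := d40_2 (iv F196531) D43343 (iv D42665)
def n43344 : Q := act 9 n42657
theorem D43344 : act 9 n42657 = n43344 := rfl
theorem F199831 : act 0 n43344 = n42973 := d8_1 D43344 (iv D42973) (iv F196529)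
theorem F199832 : act 2 n43344 = n42659 := d23_1 D43344 (iv D42659) D42657
theorem F199833 : act 5 n43344 = n42719 := d38_1 D43344 (iv D42719) (iv F196530)
def n43345 : Q := act 7 n42658
theorem D43345 : act 7 n42658 = n43345 := rfl
theorem F199834 : act 0 n43345 = n42974 := d6_1 D43345 (iv D42974) (iv F196532)
theorem F199835 : act 1 n43345 = n42728 := d14_1 D43345 (iv D42728) (iv F196533)
theorem F199836 : act 3 n43345 = n42660 := d27_1 D43345 (iv D42660) (iv F196534)
theorem F199837 : act 5 n43345 = n42947 := d36_1 D43345 (iv D42947) (iv F196535)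
theorem F199838 : act 8 n43345 = n42666 := d42_2 (iv F196536) D43345 (iv D42666)
def n43346 : Q := act 9 n42658
theorem D43346 : act 9 n42658 = n43346 := rfl
theorem F199839 : act 0 n43346 = n42975 := d8_1 D43346 (iv D42975) (iv F196532)
theorem F199840 : act 1 n43346 = n42729 := d16_1 D43346 (iv D42729) (iv F196533)
theorem F199841 : act 3 n43346 = n42661 := d29_1 D43346 (iv D42661) (iv F196534)
theorem F199842 : act 5 n43346 = n42948 := d38_1 D43346 (iv D42948) (iv F196535)
theorem F199843 : act 6 n43346 = n42659 := d41_1 D43346 (iv D42659) D42658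
def n43347 : Q := act 8 n42659
theorem D43347 : act 8 n42659 = n43347 := rfl
theorem F199844 : act 0 n43347 = n42976 := d7_1 D43347 (iv D42976) (iv F196537)
theorem F199845 : act 1 n43347 = n42710 := d15_1 D43347 F196785 (iv F196538)
theorem F199846 : act 3 n43347 = n42662 := d28_1 D43347 (iv D42662) (iv F196539)
theorem F199847 : act 5 n43347 = n42838 := d37_1 D43347 F197226 F193738 (iv F192654) (iv F196540)
theorem F199848 : act 9 n43347 = n42668 := d44_2 D42659 D43347 (iv D42668) (iv D41731) (iv F192260)
def n43348 : Q := act 9 n42660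
theorem D43348 : act 9 n42660 = n43348 := rfl
theorem F199849 : act 0 n43348 = n42977 := d8_1 D43348 (iv D42977) (iv F196541)
theorem F199850 : act 2 n43348 = n42951 := d23_1 D43348 (iv D42951) (iv F196542)
theorem F199851 : act 4 n43348 = n42663 := d34_1 D43348 (iv D42663) (iv F196543)
theorem F199852 : act 5 n43348 = n42949 := d38_1 D43348 (iv D42949) (iv F196544)
theorem F199853 : act 7 n43348 = n42661 := d43_1 D43348 (iv D42661) D42660
def n43349 : Q := act 8 n42661
theorem D43349 : act 8 n42661 = n43349 := rfl
theorem F199854 : act 0 n43349 = n42978 := d7_1 D43349 (iv D42978) (iv F196546)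
theorem F199855 : act 1 n43349 = n42755 := d15_1 D43349 (iv F198876) F198870
theorem F199856 : act 2 n43349 = n42838 := d22_1 D43349 F197226 (iv F196547)
theorem F199857 : act 4 n43349 = n42664 := d33_1 D43349 (iv D42664) (iv F196548)
theorem F199858 : act 6 n43349 = n42662 := d40_1 D43349 (iv D42662) (iv F196550)
theorem F199859 : act 9 n43349 = n42669 := d44_2 D42661 D43349 (iv D42669) (iv D41733) (iv F192265)
def n43350 : Q := act 5 n42662
theorem D43350 : act 5 n42662 = n43350 := rfl
theorem F199860 : act 0 n43350 = n42979 := d4_1 D43350 (iv D42979) (iv F196551)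
theorem F199861 : act 1 n43350 = n42822 := d12_1 D43350 (iv F198882) F198878
theorem F199862 : act 3 n43350 = n42838 := d25_1 D43350 (iv F199847) F199846
theorem F199863 : act 8 n43350 = n42815 := d37_2 D42662 D43350 F197161 (iv F194705) F194702
theorem F199864 : act 9 n43350 = n42670 := d38_2 (iv F196553) D43350 (iv D42670)
def n43351 : Q := act 7 n42665
theorem D43351 : act 7 n42665 = n43351 := rfl
theorem F199865 : act 0 n43351 = n42982 := d6_1 D43351 (iv D42982) (iv F196560)
theorem F199866 : act 1 n43351 = n42877 := d14_1 D43351 F197393 (iv F196561)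
theorem F199867 : act 2 n43351 = n42666 := d21_1 D43351 (iv D42666) (iv F196562)
theorem F199868 : act 3 n43351 = n42844 := d27_1 D43351 F197243 (iv F196563)
theorem F199869 : act 5 n43351 = n42735 := d36_1 D43351 (iv D42735) (iv F196564)
def n43352 : Q := act 8 n42667
theorem D43352 : act 8 n42667 = n43352 := rfl
theorem F199870 : act 0 n43352 = n42985 := d7_1 D43352 (iv D42985) (iv F196569)
theorem F199871 : act 1 n43352 = n42709 := d15_1 D43352 F196781 (iv F196570)
theorem F199872 : act 3 n43352 = n42669 := d28_1 D43352 (iv D42669) (iv F196571)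
theorem F199873 : act 6 n43352 = n42668 := d40_1 D43352 (iv D42668) (iv F196573)
def n43353 : Q := act 5 n42673
theorem D43353 : act 5 n42673 = n43353 := rfl
theorem F199874 : act 0 n43353 = n42987 := d4_1 D43353 (iv D42987) (iv F196601)
theorem F199875 : act 1 n43353 = n42809 := d12_1 D43353 F197143 (iv F196602)
theorem F199876 : act 2 n43353 = n42679 := d19_1 D43353 (iv D42679) (iv F196603)
theorem F199877 : act 6 n43353 = n42804 := d35_2 D42673 D43353 (iv D42804) (iv D41923) (iv F192324)
theorem F199878 : act 7 n43353 = n42750 := d36_2 (iv F196605) D43353 (iv D42750)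
theorem F199879 : act 8 n43353 = n43353 := d37_2 (iv F196606) D43353 (iv D43353) F196606 F192341
def n43354 : Q := act 9 n42673
theorem D43354 : act 9 n42673 = n43354 := rfl
theorem F199880 : act 0 n43354 = n42988 := d8_1 D43354 (iv D42988) (iv F196601)
theorem F199881 : act 1 n43354 = n42811 := d16_1 D43354 (iv D42811) (iv F196602)
theorem F199882 : act 2 n43354 = n42681 := d23_1 D43354 (iv D42681) (iv F196603)
theorem F199883 : act 4 n43354 = n42675 := d34_1 D43354 (iv D42675) (iv F196604)
theorem F199884 : act 6 n43354 = n42674 := d41_1 D43354 (iv D42674) D42673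
theorem F199885 : act 7 n43354 = n42751 := d43_1 D43354 (iv D42751) (iv F196605)
def n43355 : Q := act 5 n42677
theorem D43355 : act 5 n42677 = n43355 := rfl
theorem F199886 : act 0 n43355 = n42989 := d4_1 D43355 (iv D42989) (iv F196625)
theorem F199887 : act 3 n43355 = n42679 := d25_1 D43355 (iv D42679) (iv F196626)
theorem F199888 : act 6 n43355 = n42730 := d35_2 D42677 D43355 (iv D42730) (iv D41827) (iv F192351)
theorem F199889 : act 8 n43355 = n43355 := d37_2 (iv F196628) D43355 (iv D43355) F196628 F192374
def n43356 : Q := act 7 n42677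
theorem D43356 : act 7 n42677 = n43356 := rfl
theorem F199890 : act 0 n43356 = n42990 := d6_1 D43356 (iv D42990) (iv F196625)
theorem F199891 : act 3 n43356 = n42680 := d27_1 D43356 (iv D42680) (iv F196626)
theorem F199892 : act 4 n43356 = n42728 := d32_1 D43356 (iv D42728) (iv F196627)
theorem F199893 : act 6 n43356 = n42711 := d39_1 D43356 (iv D42711) (iv D41798) (iv F192352) D42677
theorem F199894 : act 8 n43356 = n42685 := d42_2 (iv F196628) D43356 (iv D42685)
def n43357 : Q := act 9 n42677
theorem D43357 : act 9 n42677 = n43357 := rfl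
theorem F199895 : act 0 n43357 = n42991 := d8_1 D43357 (iv D42991) (iv F196625)
theorem F199896 : act 3 n43357 = n42681 := d29_1 D43357 (iv D42681) (iv F196626)
theorem F199897 : act 4 n43357 = n42729 := d34_1 D43357 (iv D42729) (iv F196627)
theorem F199898 : act 6 n43357 = n42678 := d41_1 D43357 (iv D42678) D42677
def n43358 : Q := act 7 n42679
theorem D43358 : act 7 n42679 = n43358 := rfl
theorem F199899 : act 0 n43358 = n42992 := d6_1 D43358 (iv D42992) (iv F196634)
theorem F199900 : act 2 n43358 = n42750 := d21_1 D43358 (iv F199878) F199876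
theorem F199901 : act 5 n43358 = n42680 := d36_1 D43358 (iv D42680) D42679
theorem F199902 : act 8 n43358 = n43358 := d42_2 F196636 D43358 (iv D43358)
def n43359 : Q := act 9 n42679
theorem D43359 : act 9 n42679 = n43359 := rfl
theorem F199903 : act 0 n43359 = n42993 := d8_1 D43359 (iv D42993) (iv F196634)
theorem F199904 : act 5 n43359 = n42681 := d38_1 D43359 (iv D42681) D42679
theorem F199905 : act 6 n43359 = n42810 := d41_1 D43359 (iv D42810) (iv F196635)
def n43360 : Q := act 9 n42680
theorem D43360 : act 9 n42680 = n43360 := rfl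
theorem F199906 : act 0 n43360 = n42994 := d8_1 D43360 (iv D42994) (iv F196637)
theorem F199907 : act 2 n43360 = n42751 := d23_1 D43360 (iv D42751) (iv F196638)
theorem F199908 : act 4 n43360 = n42683 := d34_1 D43360 (iv D42683) (iv F196639)
theorem F199909 : act 6 n43360 = n42713 := d41_1 D43360 (iv D42713) (iv F196640)
theorem F199910 : act 7 n43360 = n42681 := d43_1 D43360 (iv D42681) D42680
def n43361 : Q := act 8 n42681
theorem D43361 : act 8 n42681 = n43361 := rfl
theorem F199911 : act 0 n43361 = n42995 := d7_1 D43361 (iv D42995) (iv F196642)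
theorem F199912 : act 4 n43361 = n42684 := d33_1 D43361 (iv D42684) (iv F196643)
theorem F199913 : act 6 n43361 = n42682 := d40_1 D43361 (iv D42682) (iv F196644)
theorem F199914 : act 9 n43361 = n42686 := d44_2 D42681 D43361 (iv D42686) (iv D41753) (iv F192356)
def n43362 : Q := act 5 n42686
theorem D43362 : act 5 n42686 = n43362 := rfl
theorem F199915 : act 0 n43362 = n42999 := d4_1 D43362 (iv D42999) (iv F196661)
theorem F199916 : act 6 n43362 = n42748 := d35_2 (iv F196663) D43362 (iv D42748) (iv F194066) F194065
theorem F199917 : act 8 n43362 = n43362 := d37_2 D42686 D43362 (iv D43362) (iv D42686) F192382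
def n43363 : Q := act 8 n42687
theorem D43363 : act 8 n42687 = n43363 := rfl
theorem F199918 : act 2 n43363 = n42918 := d22_1 D43363 F197526 (iv F196664)
theorem F199919 : act 3 n43363 = n42688 := d28_1 D43363 (iv D42688) D42687
theorem F199920 : act 7 n43363 = n42718 := d42_1 D43363 (iv D42718) (iv F196666)
def n43364 : Q := act 9 n42688
theorem D43364 : act 9 n42688 = n43364 := rfl
theorem F199921 : act 2 n43364 = n42690 := d23_1 D43364 (iv D42690) (iv F196668)
theorem F199922 : act 4 n43364 = n42689 := d34_1 D43364 (iv D42689) (iv F196669)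
theorem F199923 : act 7 n43364 = n42719 := d43_1 D43364 (iv D42719) (iv F196670)
theorem F199924 : act 8 n43364 = n42949 := d44_1 D43364 (iv D42949) F193725 (iv F192392) D42688
def n43365 : Q := act 4 n42695
theorem D43365 : act 4 n42695 = n43365 := rfl
theorem F199925 : act 0 n43365 = n43001 := d3_1 D43365 (iv D43001) (iv F196705)
theorem F199926 : act 1 n43365 = n42949 := d11_1 D43365 F197622 (iv F196706)
theorem F199927 : act 7 n43365 = n42940 := d32_2 (iv F196707) D43365 F197597
theorem F199928 : act 9 n43365 = n42696 := d34_2 (iv F196708) D43365 (iv D42696)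
def n43366 : Q := act 9 n42697
theorem D43366 : act 9 n42697 = n43366 := rfl
theorem F199929 : act 0 n43366 = n42756 := d8_1 D43366 F196968 (iv F196713)
theorem F199930 : act 1 n43366 = n42699 := d16_1 D43366 (iv D42699) (iv F196714)
theorem F199931 : act 2 n43366 = n42851 := d23_1 D43366 (iv D42851) (iv F196715)
theorem F199932 : act 3 n43366 = n42747 := d29_1 D43366 F196947 (iv F196716)
theorem F199933 : act 4 n43366 = n42698 := d34_1 D43366 (iv D42698) (iv F196717)
theorem F199934 : act 5 n43366 = n42842 := d38_1 D43366 F197236 (iv F196718)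
theorem F199935 : act 6 n43366 = n42849 := d41_1 D43366 (iv D42849) (iv F196719)
theorem F199936 : act 8 n43366 = n42743 := d44_1 D43366 (iv D42743) (iv D41855) (iv F192476) D42697
def n43367 : Q := act 9 n42702
theorem D43367 : act 9 n42702 = n43367 := rfl
theorem F199937 : act 0 n43367 = n42754 := d8_1 D43367 (iv D42754) (iv F196741)
theorem F199938 : act 4 n43367 = n42928 := d34_1 D43367 (iv D42928) (iv F196742)
theorem F199939 : act 5 n43367 = n42703 := d38_1 D43367 (iv D42703) D42702
def n43368 : Q := act 7 n42709
theorem D43368 : act 7 n42709 = n43368 := rfl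
theorem F199940 : act 0 n43368 = n43003 := d6_1 D43368 (iv D43003) (iv F196778)
theorem F199941 : act 2 n43368 = n42711 := d21_1 D43368 (iv D42711) (iv F196779)
theorem F199942 : act 3 n43368 = n42720 := d27_1 D43368 F196828 (iv F196780)
theorem F199943 : act 8 n43368 = n42716 := d42_2 (iv F196781) D43368 (iv D42716)
def n43369 : Q := act 9 n42709
theorem D43369 : act 9 n42709 = n43369 := rfl
theorem F199944 : act 0 n43369 = n43004 := d8_1 D43369 (iv D43004) (iv F196778)
theorem F199945 : act 2 n43369 = n42712 := d23_1 D43369 (iv D42712) (iv F196779)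
theorem F199946 : act 3 n43369 = n42755 := d29_1 D43369 (iv D42755) (iv F196780)
theorem F199947 : act 6 n43369 = n42710 := d41_1 D43369 (iv D42710) D42709
theorem F199948 : act 8 n43369 = n42729 := d44_1 D43369 (iv D42729) F192691 (iv F192615) (iv F196781)
def n43370 : Q := act 9 n42711
theorem D43370 : act 9 n42711 = n43370 := rfl
theorem F199949 : act 0 n43370 = n43007 := d8_1 D43370 (iv D43007) (iv F196786)
theorem F199950 : act 3 n43370 = n42713 := d29_1 D43370 (iv D42713) (iv F196787)
theorem F199951 : act 7 n43370 = n42712 := d43_1 D43370 (iv D42712) D42711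
def n43371 : Q := act 8 n42713
theorem D43371 : act 8 n42713 = n43371 := rfl
theorem F199952 : act 0 n43371 = n43008 := d7_1 D43371 (iv D43008) (iv F196792)
theorem F199953 : act 1 n43371 = n42875 := d15_1 D43371 (iv F199711) F199706
theorem F199954 : act 2 n43371 = n42752 := d22_1 D43371 (iv D42752) (iv F196793)
theorem F199955 : act 4 n43371 = n42715 := d33_1 D43371 (iv D42715) (iv F196794)
theorem F199956 : act 7 n43371 = n42714 := d42_1 D43371 (iv D42714) (iv F196795)
theorem F199957 : act 9 n43371 = n42717 := d44_2 D42713 D43371 (iv D42717) (iv D41807) (iv F192595)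
theorem F199958 : act 5 n42954 = n43371 := d38_3 F199957 F196818 D42954
def n43372 : Q := act 9 n42718
theorem D43372 : act 9 n42718 = n43372 := rfl
theorem F199959 : act 2 n43372 = n42919 := d23_1 D43372 (iv D42919) (iv F196820)
theorem F199960 : act 3 n43372 = n42719 := d29_1 D43372 (iv D42719) (iv F196821)
theorem F199961 : act 6 n43372 = n42917 := d41_1 D43372 (iv D42917) (iv F196822)
theorem F199962 : act 8 n43372 = n42948 := d44_1 D43372 (iv D42948) F193720 (iv F192639) D42718
def n43373 : Q := act 9 n42720
theorem D43373 : act 9 n42720 = n43373 := rfl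
theorem F199963 : act 2 n43373 = n42723 := d23_1 D43373 (iv D42723) (iv F196827)
theorem F199964 : act 4 n43373 = n42721 := d34_1 D43373 (iv D42721) D42720
theorem F199965 : act 7 n43373 = n42755 := d43_1 D43373 (iv D42755) (iv F196828)
def n43374 : Q := act 5 n42722
theorem D43374 : act 5 n42722 = n43374 := rfl
theorem F199966 : act 1 n43374 = n42730 := d12_1 D43374 (iv D42730) (iv F196832)
theorem F199967 : act 3 n43374 = n42750 := d25_1 D43374 (iv D42750) (iv F196833)
theorem F199968 : act 4 n43374 = n42937 := d30_1 D43374 (iv D42937) F193673 (iv F192661) (iv F196834)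
theorem F199969 : act 8 n43374 = n43374 := d37_2 (iv F196835) D43374 (iv D43374) F196835 F192669
def n43375 : Q := act 9 n42722
theorem D43375 : act 9 n42722 = n43375 := rfl
theorem F199970 : act 1 n43375 = n42732 := d16_1 D43375 (iv D42732) (iv F196832)
theorem F199971 : act 3 n43375 = n42751 := d29_1 D43375 (iv D42751) (iv F196833)
theorem F199972 : act 4 n43375 = n42724 := d34_1 D43375 (iv D42724) (iv F196834)
theorem F199973 : act 6 n43375 = n42723 := d41_1 D43375 (iv D42723) D42722
def n43376 : Q := act 8 n42723
theorem D43376 : act 8 n42723 = n43376 := rfl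
theorem F199974 : act 1 n43376 = n42733 := d15_1 D43376 (iv D42733) (iv F196836)
theorem F199975 : act 3 n43376 = n42752 := d28_1 D43376 (iv D42752) (iv F196837)
theorem F199976 : act 4 n43376 = n42725 := d33_1 D43376 (iv D42725) (iv F196838)
theorem F199977 : act 7 n43376 = n42756 := d42_1 D43376 (iv D42756) (iv F196839)
theorem F199978 : act 9 n43376 = n42726 := d44_2 D42723 D43376 (iv D42726) (iv D41820) (iv F192658)
def n43377 : Q := act 9 n42728
theorem D43377 : act 9 n42728 = n43377 := rfl
theorem F199979 : act 0 n43377 = n43009 := d8_1 D43377 (iv D43009) (iv F196859)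
theorem F199980 : act 7 n43377 = n42729 := d43_1 D43377 (iv D42729) D42728
def n43378 : Q := act 7 n42730
theorem D43378 : act 7 n42730 = n43378 := rfl
theorem F199981 : act 0 n43378 = n43010 := d6_1 D43378 (iv D43010) (iv F196863)
theorem F199982 : act 3 n43378 = n42809 := d27_1 D43378 (iv D42809) (iv F196864)
theorem F199983 : act 5 n43378 = n42731 := d36_1 D43378 (iv D42731) D42730
theorem F199984 : act 8 n43378 = n43378 := d42_2 F196865 D43378 (iv D43378)
def n43379 : Q := act 9 n42730
theorem D43379 : act 9 n42730 = n43379 := rfl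
theorem F199985 : act 0 n43379 = n43011 := d8_1 D43379 (iv D43011) (iv F196863)
theorem F199986 : act 3 n43379 = n42810 := d29_1 D43379 (iv D42810) (iv F196864)
theorem F199987 : act 5 n43379 = n42732 := d38_1 D43379 (iv D42732) D42730
def n43380 : Q := act 9 n42731
theorem D43380 : act 9 n42731 = n43380 := rfl
theorem F199988 : act 0 n43380 = n43012 := d8_1 D43380 (iv D43012) (iv F196866)
theorem F199989 : act 3 n43380 = n42811 := d29_1 D43380 (iv D42811) (iv F196867)
theorem F199990 : act 4 n43380 = n42734 := d34_1 D43380 (iv D42734) (iv F196868)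
theorem F199991 : act 6 n43380 = n42841 := d41_1 D43380 (iv D42841) (iv F196869)
theorem F199992 : act 7 n43380 = n42732 := d43_1 D43380 (iv D42732) D42731
def n43381 : Q := act 9 n42737
theorem D43381 : act 9 n42737 = n43381 := rfl
theorem F199993 : act 1 n43381 = n42740 := d16_1 D43381 (iv D42740) (iv F196896)
theorem F199994 : act 2 n43381 = n42995 := d23_1 D43381 F197729 (iv F196897)
theorem F199995 : act 3 n43381 = n42922 := d29_1 D43381 (iv D42922) (iv F196898)
theorem F199996 : act 4 n43381 = n42738 := d34_1 D43381 (iv D42738) (iv F196899)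
theorem F199997 : act 6 n43381 = n42865 := d41_1 D43381 (iv D42865) (iv F196900)
theorem F199998 : act 8 n43381 = n42988 := d44_1 D43381 (iv D42988) F193858 (iv F192793) D42737
def n43382 : Q := act 9 n42739
theorem D43382 : act 9 n42739 = n43382 := rfl
theorem F199999 : act 2 n43382 = n42754 := d23_1 D43382 (iv D42754) (iv F196906)
theorem F200000 : act 5 n43382 = n42740 := d38_1 D43382 (iv D42740) D42739
def n43383 : Q := act 9 n42741
theorem D43383 : act 9 n42741 = n43383 := rfl
theorem F200001 : act 0 n43383 = n42755 := d8_1 D43383 (iv D42755) (iv F196911)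
theorem F200002 : act 1 n43383 = n42814 := d16_1 D43383 (iv D42814) (iv F196912)
theorem F200003 : act 2 n43383 = n42743 := d23_1 D43383 (iv D42743) (iv F196913)
theorem F200004 : act 3 n43383 = n43004 := d29_1 D43383 (iv D43004) (iv F196914)
theorem F200005 : act 4 n43383 = n42742 := d34_1 D43383 (iv D42742) (iv F196915)
theorem F200006 : act 6 n43383 = n42852 := d41_1 D43383 F197284 (iv F196916)
theorem F200007 : act 8 n43383 = n42851 := d44_1 D43383 (iv D42851) F193262 (iv F192817) D42741
def n43384 : Q := act 7 n42744
theorem D43384 : act 7 n42744 = n43384 := rfl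
theorem F200008 : act 0 n43384 = n42952 := d6_1 D43384 (iv D42952) (iv F196927)
theorem F200009 : act 2 n43384 = n42820 := d21_1 D43384 (iv D42820) (iv F196928)
theorem F200010 : act 3 n43384 = n42837 := d27_1 D43384 F197224 (iv F196929)
theorem F200011 : act 5 n43384 = n42941 := d36_1 D43384 (iv D42941) (iv F196930)
theorem F200012 : act 8 n43384 = n42746 := d42_2 (iv F196931) D43384 (iv D42746)
def n43385 : Q := act 9 n42744
theorem D43385 : act 9 n42744 = n43385 := rfl
theorem F200013 : act 0 n43385 = n42953 := d8_1 D43385 (iv D42953) (iv F196927)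
theorem F200014 : act 2 n43385 = n42821 := d23_1 D43385 (iv D42821) (iv F196928)
theorem F200015 : act 3 n43385 = n42834 := d29_1 D43385 F197211 (iv F196929)
theorem F200016 : act 5 n43385 = n42942 := d38_1 D43385 (iv D42942) (iv F196930)
theorem F200017 : act 6 n43385 = n42745 := d41_1 D43385 (iv D42745) D42744
theorem F200018 : act 8 n43385 = n42832 := d44_1 D43385 (iv D42832) F193125 (iv F192848) (iv F196931)
def n43386 : Q := act 9 n42748
theorem D43386 : act 9 n42748 = n43386 := rfl
theorem F200019 : act 5 n43386 = n42749 := d38_1 D43386 (iv D42749) D42748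
theorem F200020 : act 7 n43386 = n42754 := d43_1 D43386 (iv D42754) (iv F196948)
def n43387 : Q := act 9 n42750
theorem D43387 : act 9 n42750 = n43387 := rfl
theorem F200021 : act 1 n43387 = n42810 := d16_1 D43387 (iv D42810) (iv F196952)
theorem F200022 : act 5 n43387 = n42751 := d38_1 D43387 (iv D42751) D42750
def n43388 : Q := act 7 n42753
theorem D43388 : act 7 n42753 = n43388 := rfl
theorem F200023 : act 1 n43388 = n42992 := d14_1 D43388 (iv D42992) (iv F196961)
theorem F200024 : act 4 n43388 = n42955 := d32_1 D43388 (iv F198377) F198375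
theorem F200025 : act 5 n43388 = n42913 := d36_1 D43388 (iv D42913) (iv F196962)
theorem F200026 : act 8 n43388 = n43388 := d42_2 F196963 D43388 (iv D43388)
def n43389 : Q := act 9 n42753
theorem D43389 : act 9 n42753 = n43389 := rfl
theorem F200027 : act 1 n43389 = n42993 := d16_1 D43389 (iv D42993) (iv F196961)
theorem F200028 : act 5 n43389 = n42914 := d38_1 D43389 (iv D42914) (iv F196962)
theorem F200029 : act 6 n43389 = n42754 := d41_1 D43389 (iv D42754) D42753
def n43390 : Q := act 8 n42754
theorem D43390 : act 8 n42754 = n43390 := rfl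
theorem F200030 : act 9 n43390 = n43390 := d44_2 D42754 D43390 (iv D43390) (iv D42754) F192891
def n43391 : Q := act 5 n42757
theorem D43391 : act 5 n42757 = n43391 := rfl
theorem F200031 : act 1 n43391 = n42759 := d12_1 D43391 (iv D42759) (iv F196969)
theorem F200032 : act 3 n43391 = n42904 := d25_1 D43391 F197481 (iv F196970)
theorem F200033 : act 7 n43391 = n42902 := d36_2 (iv F196973) D43391 (iv D42902)
theorem F200034 : act 8 n43391 = n43391 := d37_2 D42757 D43391 (iv D43391) (iv D42757) F192904
def n43392 : Q := act 9 n42757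
theorem D43392 : act 9 n42757 = n43392 := rfl
theorem F200035 : act 1 n43392 = n42760 := d16_1 D43392 (iv D42760) (iv F196969)
theorem F200036 : act 3 n43392 = n42906 := d29_1 D43392 (iv D42906) (iv F196970)
theorem F200037 : act 4 n43392 = n42758 := d34_1 D43392 (iv D42758) (iv F196971)
theorem F200038 : act 6 n43392 = n42793 := d41_1 D43392 (iv D42793) (iv F196972)
theorem F200039 : act 7 n43392 = n42903 := d43_1 D43392 (iv D42903) (iv F196973)
theorem F200040 : act 8 n43392 = n42958 := d44_1 D43392 (iv D42958) F193779 (iv F192907) D42757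
def n43393 : Q := act 4 n42759
theorem D43393 : act 4 n42759 = n43393 := rfl
theorem F200041 : act 5 n43393 = n42761 := d30_2 D42759 D43393 (iv D42761) (iv D41884) (iv F192916)
theorem F200042 : act 7 n43393 = n42959 := d32_2 (iv F196979) D43393 (iv D42959)
theorem F200043 : act 8 n43393 = n43393 := d33_2 F196980 D43393 (iv D43393)
def n43394 : Q := act 6 n42759
theorem D43394 : act 6 n42759 = n43394 := rfl
theorem F200044 : act 5 n43394 = n42800 := d35_1 D43394 (iv D42800) (iv D41920) (iv F192917) D42759
theorem F200045 : act 8 n43394 = n43394 := d40_2 F196980 D43394 (iv D43394)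
def n43395 : Q := act 9 n42759
theorem D43395 : act 9 n42759 = n43395 := rfl
theorem F200046 : act 5 n43395 = n42760 := d38_1 D43395 (iv D42760) D42759
theorem F200047 : act 7 n43395 = n42960 := d43_1 D43395 (iv D42960) (iv F196979)
def n43396 : Q := act 3 n42761
theorem D43396 : act 3 n42761 = n43396 := rfl
theorem F200048 : act 4 n43396 = n42764 := d24_2 D42761 D43396 (iv D42764) (iv D41887) (iv F192919)
theorem F200049 : act 7 n43396 = n42961 := d27_2 (iv F196984) D43396 (iv D42961)
theorem F200050 : act 8 n43396 = n42763 := d28_2 (iv F196985) D43396 (iv D42763)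
def n43397 : Q := act 9 n42761
theorem D43397 : act 9 n42761 = n43397 := rfl
theorem F200051 : act 4 n43397 = n42762 := d34_1 D43397 (iv D42762) D42761
theorem F200052 : act 7 n43397 = n42962 := d43_1 D43397 (iv D42962) (iv F196984)
def n43398 : Q := act 2 n42763
theorem D43398 : act 2 n42763 = n43398 := rfl
theorem F200053 : act 3 n43398 = n43013 := d17_2 D42763 D43398 F197763 (iv F194241) F194240
theorem F200054 : act 4 n43398 = n42769 := d18_2 (iv F196989) D43398 (iv D42769)
theorem F200055 : act 5 n43398 = n43398 := d19_2 F196990 D43398 (iv D43398)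
theorem F200056 : act 7 n43398 = n42964 := d21_2 (iv F196991) D43398 (iv D42964)
def n43399 : Q := act 2 n42764
theorem D43399 : act 2 n42764 = n43399 := rfl
theorem F200057 : act 3 n43399 = n42776 := d17_2 D42764 D43399 (iv D42776) (iv D41897) (iv F192927)
theorem F200058 : act 7 n43399 = n42965 := d21_2 (iv F196992) D43399 (iv D42965)
theorem F200059 : act 8 n43399 = n42769 := d22_2 (iv F196993) D43399 (iv D42769)
def n43400 : Q := act 6 n42764
theorem D43400 : act 6 n42764 = n43400 := rfl
theorem F200060 : act 3 n43400 = n42765 := d26_1 D43400 (iv D42765) D42764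
theorem F200061 : act 8 n43400 = n42770 := d40_2 (iv F196993) D43400 (iv D42770)
def n43401 : Q := act 9 n42764
theorem D43401 : act 9 n42764 = n43401 := rfl
theorem F200062 : act 3 n43401 = n42766 := d29_1 D43401 (iv D42766) D42764
theorem F200063 : act 7 n43401 = n42966 := d43_1 D43401 (iv D42966) (iv F196992)
def n43402 : Q := act 5 n42765
theorem D43402 : act 5 n42765 = n43402 := rfl
theorem F200064 : act 2 n43402 = n42779 := d19_1 D43402 (iv D42779) (iv F196994)
theorem F200065 : act 4 n43402 = n42804 := d30_1 D43402 (iv D42804) F193049 (iv F192931) (iv F196995)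
theorem F200066 : act 8 n43402 = n43402 := d37_2 (iv F196996) D43402 (iv D43402) F196996 F192940
def n43403 : Q := act 9 n42765
theorem D43403 : act 9 n42765 = n43403 := rfl
theorem F200067 : act 2 n43403 = n42781 := d23_1 D43403 (iv D42781) (iv F196994)
theorem F200068 : act 4 n43403 = n42767 := d34_1 D43403 (iv D42767) (iv F196995)
theorem F200069 : act 6 n43403 = n42766 := d41_1 D43403 (iv D42766) D42765
def n43404 : Q := act 8 n42766
theorem D43404 : act 8 n42766 = n43404 := rfl
theorem F200070 : act 2 n43404 = n42782 := d22_1 D43404 (iv D42782) (iv F196997)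
theorem F200071 : act 4 n43404 = n42768 := d33_1 D43404 (iv D42768) (iv F196998)
theorem F200072 : act 7 n43404 = n42967 := d42_1 D43404 (iv D42967) (iv F196999)
theorem F200073 : act 9 n43404 = n42772 := d44_2 D42766 D43404 (iv D42772) (iv D41892) (iv F192929)
def n43405 : Q := act 1 n42769
theorem D43405 : act 1 n42769 = n43405 := rfl
theorem F200074 : act 2 n43405 = n42984 := d9_2 D42769 D43405 (iv F198473) F198474 F195930
theorem F200075 : act 3 n43405 = n42775 := d10_2 (iv F197007) D43405 F197032
theorem F200076 : act 5 n43405 = n42773 := d12_2 (iv F197008) D43405 (iv D42773)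
theorem F200077 : act 7 n43405 = n42968 := d14_2 (iv F197009) D43405 (iv D42968)
theorem F200078 : act 9 n42982 = n43405 := d43_0 F200077 (iv F197665) D42982
def n43406 : Q := act 6 n42769
theorem D43406 : act 6 n42769 = n43406 := rfl
theorem F200079 : act 2 n43406 = n42770 := d20_1 D43406 (iv D42770) D42769
theorem F200080 : act 3 n43406 = n42784 := d26_1 D43406 (iv D42784) (iv F197007)
theorem F200081 : act 5 n43406 = n43406 := d35_1 D43406 (iv D43406) F197008 F192950 (iv F197008)
def n43407 : Q := act 9 n42769
theorem D43407 : act 9 n42769 = n43407 := rfl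
theorem F200082 : act 1 n43407 = n42982 := d16_1 D43407 F200078 (iv D43405)
theorem F200083 : act 2 n43407 = n42771 := d23_1 D43407 (iv D42771) D42769
theorem F200084 : act 3 n43407 = n42785 := d29_1 D43407 (iv D42785) (iv F197007)
theorem F200085 : act 5 n43407 = n42774 := d38_1 D43407 (iv D42774) (iv F197008)
theorem F200086 : act 7 n43407 = n42969 := d43_1 D43407 (iv D42969) (iv F197009)
def n43408 : Q := act 8 n42771
theorem D43408 : act 8 n42771 = n43408 := rfl
theorem F200087 : act 3 n43408 = n42772 := d28_1 D43408 (iv D42772) (iv F197012)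
theorem F200088 : act 7 n43408 = n42970 := d42_1 D43408 (iv D42970) (iv F197014)
def n43409 : Q := act 5 n42772
theorem D43409 : act 5 n42772 = n43409 := rfl
theorem F200089 : act 1 n43409 = n42776 := d12_1 D43409 (iv F198496) F198494
theorem F200090 : act 2 n43409 = n42788 := d19_1 D43409 (iv D42788) (iv F197015)
theorem F200091 : act 4 n43409 = n42813 := d30_1 D43409 (iv D42813) F193082 (iv F192946) (iv F197016)
theorem F200092 : act 7 n43409 = n42971 := d36_2 (iv F197017) D43409 (iv D42971)
theorem F200093 : act 8 n43409 = n42775 := d37_2 D42772 D43409 (iv D42775) (iv D41896) (iv F192943)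
def n43410 : Q := act 6 n42776
theorem D43410 : act 6 n42776 = n43410 := rfl
theorem F200094 : act 2 n43410 = n42777 := d20_1 D43410 (iv D42777) D42776
theorem F200095 : act 8 n43410 = n42784 := d40_2 (iv F197037) D43410 (iv D42784)
def n43411 : Q := act 9 n42776
theorem D43411 : act 9 n42776 = n43411 := rfl
theorem F200096 : act 2 n43411 = n42778 := d23_1 D43411 (iv D42778) D42776
theorem F200097 : act 7 n43411 = n42973 := d43_1 D43411 (iv D42973) (iv F197036)
def n43412 : Q := act 5 n42777
theorem D43412 : act 5 n42777 = n43412 := rfl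
theorem F200098 : act 3 n43412 = n42779 := d25_1 D43412 (iv D42779) (iv F197038)
theorem F200099 : act 8 n43412 = n43412 := d37_2 (iv F197039) D43412 (iv D43412) F197039 F192980
def n43413 : Q := act 7 n42777
theorem D43413 : act 7 n42777 = n43413 := rfl
theorem F200100 : act 3 n43413 = n42780 := d27_1 D43413 (iv D42780) (iv F197038)
theorem F200101 : act 6 n43413 = n42974 := d39_1 D43413 (iv D42974) (iv D42168) (iv F192961) D42777
theorem F200102 : act 8 n43413 = n42786 := d42_2 (iv F197039) D43413 (iv D42786)
def n43414 : Q := act 9 n42777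
theorem D43414 : act 9 n42777 = n43414 := rfl
theorem F200103 : act 3 n43414 = n42781 := d29_1 D43414 (iv D42781) (iv F197038)
theorem F200104 : act 6 n43414 = n42778 := d41_1 D43414 (iv D42778) D42777
def n43415 : Q := act 8 n42778
theorem D43415 : act 8 n42778 = n43415 := rfl
theorem F200105 : act 1 n43415 = n42824 := d15_1 D43415 (iv F198798) F198792
theorem F200106 : act 3 n43415 = n42782 := d28_1 D43415 (iv D42782) (iv F197040)
theorem F200107 : act 4 n43415 = n42817 := d33_1 D43415 (iv F199536) F199533
theorem F200108 : act 7 n43415 = n42976 := d42_1 D43415 (iv D42976) (iv F197041)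
theorem F200109 : act 9 n43415 = n42787 := d44_2 D42778 D43415 (iv D42787) (iv D41905) (iv F192962)
def n43416 : Q := act 7 n42779
theorem D43416 : act 7 n42779 = n43416 := rfl
theorem F200110 : act 4 n43416 = n42809 := d32_1 D43416 (iv D42809) (iv F197042)
theorem F200111 : act 5 n43416 = n42780 := d36_1 D43416 (iv D42780) D42779
theorem F200112 : act 8 n43416 = n43416 := d42_2 F197043 D43416 (iv D43416)
def n43417 : Q := act 9 n42779
theorem D43417 : act 9 n42779 = n43417 := rfl
theorem F200113 : act 4 n43417 = n42810 := d34_1 D43417 (iv D42810) (iv F197042)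
theorem F200114 : act 5 n43417 = n42781 := d38_1 D43417 (iv D42781) D42779
def n43418 : Q := act 9 n42780
theorem D43418 : act 9 n42780 = n43418 := rfl
theorem F200115 : act 4 n43418 = n42783 := d34_1 D43418 (iv D42783) (iv F197044)
theorem F200116 : act 6 n43418 = n42977 := d41_1 D43418 (iv D42977) (iv F197045)
theorem F200117 : act 7 n43418 = n42781 := d43_1 D43418 (iv D42781) D42780
def n43419 : Q := act 5 n42782
theorem D43419 : act 5 n42782 = n43419 := rfl
theorem F200118 : act 1 n43419 = n42819 := d12_1 D43419 F197170 (iv F197049)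
theorem F200119 : act 4 n43419 = n42815 := d30_1 D43419 F197161 F193092 (iv F192974) (iv F197050)
theorem F200120 : act 7 n43419 = n42979 := d36_2 (iv F197051) D43419 (iv D42979)
theorem F200121 : act 9 n43419 = n42788 := d38_2 (iv F197052) D43419 (iv D42788)
def n43420 : Q := act 7 n42784
theorem D43420 : act 7 n42784 = n43420 := rfl
theorem F200122 : act 2 n43420 = n42786 := d21_1 D43420 (iv D42786) (iv F197056)
theorem F200123 : act 5 n43420 = n43420 := d36_1 D43420 (iv D43420) F197057
theorem F200124 : act 6 n43420 = n42982 := d39_1 D43420 (iv D42982) (iv D42175) (iv F192978) D42784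
def n43421 : Q := act 8 n42785
theorem D43421 : act 8 n42785 = n43421 := rfl
theorem F200125 : act 2 n43421 = n42787 := d22_1 D43421 (iv D42787) (iv F197058)
theorem F200126 : act 4 n43421 = n42816 := d33_1 D43421 F197163 (iv F197059)
theorem F200127 : act 5 n43421 = n42986 := d37_1 D43421 (iv D42986) F193846 (iv F192996) (iv F197060)
theorem F200128 : act 7 n43421 = n42983 := d42_1 D43421 (iv D42983) (iv F197061)
def n43422 : Q := act 8 n42789
theorem D43422 : act 8 n42789 = n43422 := rfl
theorem F200129 : act 1 n43422 = n43003 := d15_1 D43422 F197745 (iv F197073)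
theorem F200130 : act 2 n43422 = n42947 := d22_1 D43422 F197618 (iv F197074)
theorem F200131 : act 3 n43422 = n42790 := d28_1 D43422 (iv D42790) D42789
theorem F200132 : act 7 n43422 = n42812 := d42_1 D43422 (iv D42812) (iv F197076)
def n43423 : Q := act 5 n42790
theorem D43423 : act 5 n42790 = n43423 := rfl
theorem F200133 : act 1 n43423 = n42879 := d12_1 D43423 (iv F199449) F199447
theorem F200134 : act 2 n43423 = n42792 := d19_1 D43423 (iv D42792) (iv F197078)
theorem F200135 : act 4 n43423 = n42971 := d30_1 D43423 (iv D42971) F193806 (iv F193005) (iv F197079)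
theorem F200136 : act 7 n43423 = n42813 := d36_2 (iv F197080) D43423 (iv D42813)
theorem F200137 : act 8 n43423 = n42844 := d37_2 D42790 D43423 (iv D42844) (iv D41980) (iv F193001)
def n43424 : Q := act 9 n42790
theorem D43424 : act 9 n42790 = n43424 := rfl
theorem F200138 : act 2 n43424 = n42793 := d23_1 D43424 (iv D42793) (iv F197078)
theorem F200139 : act 4 n43424 = n42791 := d34_1 D43424 (iv D42791) (iv F197079)
theorem F200140 : act 7 n43424 = n42814 := d43_1 D43424 (iv D42814) (iv F197080)
theorem F200141 : act 8 n43424 = n42921 := d44_1 D43424 (iv D42921) F193604 (iv F193003) D42790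
def n43425 : Q := act 6 n42792
theorem D43425 : act 6 n42792 = n43425 := rfl
theorem F200142 : act 1 n43425 = n42800 := d13_1 D43425 (iv D42800) (iv F197085)
theorem F200143 : act 3 n43425 = n42950 := d26_1 D43425 (iv D42950) (iv F197086)
theorem F200144 : act 4 n43425 = n42970 := d31_1 D43425 F197672 (iv F197087)
theorem F200145 : act 8 n43425 = n42845 := d40_2 (iv F197089) D43425 (iv D42845)
def n43426 : Q := act 9 n42792
theorem D43426 : act 9 n42792 = n43426 := rfl
theorem F200146 : act 1 n43426 = n42801 := d16_1 D43426 (iv D42801) (iv F197085)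
theorem F200147 : act 3 n43426 = n42951 := d29_1 D43426 (iv D42951) (iv F197086)
theorem F200148 : act 4 n43426 = n42979 := d34_1 D43426 F197690 (iv F197087)
theorem F200149 : act 5 n43426 = n42793 := d38_1 D43426 (iv D42793) D42792
theorem F200150 : act 7 n43426 = n42815 := d43_1 D43426 (iv D42815) (iv F197088)
def n43427 : Q := act 2 n42794
theorem D43427 : act 2 n42794 = n43427 := rfl
theorem F200151 : act 4 n43427 = n42983 := d18_2 (iv F197096) D43427 F197697
theorem F200152 : act 5 n43427 = n42839 := d19_2 (iv F197097) D43427 F197227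
theorem F200153 : act 7 n43427 = n42816 := d21_2 (iv F197098) D43427 (iv D42816)
theorem F200154 : act 8 n43427 = n42798 := d22_2 (iv F197099) D43427 (iv D42798)
def n43428 : Q := act 6 n42794
theorem D43428 : act 6 n42794 = n43428 := rfl
theorem F200155 : act 1 n43428 = n42802 := d13_1 D43428 (iv D42802) (iv F197095)
theorem F200156 : act 3 n43428 = n42795 := d26_1 D43428 (iv D42795) D42794
theorem F200157 : act 4 n43428 = n42985 := d31_1 D43428 F197703 (iv F197096)
theorem F200158 : act 8 n43428 = n42799 := d40_2 (iv F197099) D43428 (iv D42799)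
def n43429 : Q := act 9 n42794
theorem D43429 : act 9 n42794 = n43429 := rfl
theorem F200159 : act 1 n43429 = n42803 := d16_1 D43429 (iv D42803) (iv F197095)
theorem F200160 : act 3 n43429 = n42796 := d29_1 D43429 (iv D42796) D42794
theorem F200161 : act 4 n43429 = n42976 := d34_1 D43429 F197684 (iv F197096)
theorem F200162 : act 5 n43429 = n42841 := d38_1 D43429 (iv D42841) (iv F197097)
theorem F200163 : act 7 n43429 = n42817 := d43_1 D43429 (iv D42817) (iv F197098)
theorem F200164 : act 8 n43429 = n42881 := d44_1 D43429 (iv D42881) F193433 (iv F193032) (iv F197099)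
def n43430 : Q := act 5 n42795
theorem D43430 : act 5 n42795 = n43430 := rfl
theorem F200165 : act 1 n43430 = n42804 := d12_1 D43430 (iv D42804) (iv F197100)
theorem F200166 : act 6 n43430 = n42809 := d35_2 D42795 D43430 F197143 F193067 (iv F193017)
theorem F200167 : act 8 n43430 = n43430 := d37_2 (iv F197102) D43430 (iv D43430) F197102 F193035
def n43431 : Q := act 9 n42795
theorem D43431 : act 9 n42795 = n43431 := rfl
theorem F200168 : act 1 n43431 = n42806 := d16_1 D43431 (iv D42806) (iv F197100)
theorem F200169 : act 4 n43431 = n42797 := d34_1 D43431 (iv D42797) (iv F197101)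
theorem F200170 : act 6 n43431 = n42796 := d41_1 D43431 (iv D42796) D42795
theorem F200171 : act 8 n43431 = n42884 := d44_1 D43431 (iv D42884) F193435 (iv F193036) (iv F197102)
def n43432 : Q := act 6 n42798
theorem D43432 : act 6 n42798 = n43432 := rfl
theorem F200172 : act 1 n43432 = n42964 := d13_1 D43432 F197929 F197924
theorem F200173 : act 2 n43432 = n42799 := d20_1 D43432 (iv D42799) D42798
theorem F200174 : act 4 n43432 = n42968 := d31_1 D43432 F197664 (iv F197112)
theorem F200175 : act 5 n43432 = n43432 := d35_1 D43432 (iv D43432) F197113 F193038 (iv F197113)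
theorem F200176 : act 9 n43432 = n42886 := d41_2 (iv F197115) D43432 (iv D42886)
def n43433 : Q := act 7 n42800
theorem D43433 : act 7 n42800 = n43433 := rfl
theorem F200177 : act 3 n43433 = n43000 := d27_1 D43433 (iv F199413) F199410
theorem F200178 : act 6 n43433 = n42820 := d39_1 D43433 (iv D42820) (iv D41943) (iv F193042) D42800
theorem F200179 : act 8 n43433 = n42846 := d42_2 (iv F197121) D43433 (iv D42846)
def n43434 : Q := act 9 n42800
theorem D43434 : act 9 n42800 = n43434 := rfl
theorem F200180 : act 6 n43434 = n42801 := d41_1 D43434 (iv D42801) D42800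
def n43435 : Q := act 5 n42802
theorem D43435 : act 5 n42802 = n43435 := rfl
theorem F200181 : act 3 n43435 = n42804 := d25_1 D43435 (iv D42804) (iv F197124)
theorem F200182 : act 8 n43435 = n43435 := d37_2 (iv F197125) D43435 (iv D43435) F197125 F193060
def n43436 : Q := act 7 n42802
theorem D43436 : act 7 n42802 = n43436 := rfl
theorem F200183 : act 3 n43436 = n42805 := d27_1 D43436 (iv D42805) (iv F197124)
theorem F200184 : act 6 n43436 = n42831 := d39_1 D43436 (iv D42831) (iv D41953) (iv F193046) D42802
theorem F200185 : act 8 n43436 = n42808 := d42_2 (iv F197125) D43436 (iv D42808)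
def n43437 : Q := act 9 n42802
theorem D43437 : act 9 n42802 = n43437 := rfl
theorem F200186 : act 3 n43437 = n42806 := d29_1 D43437 (iv D42806) (iv F197124)
theorem F200187 : act 6 n43437 = n42803 := d41_1 D43437 (iv D42803) D42802
def n43438 : Q := act 7 n42804
theorem D43438 : act 7 n42804 = n43438 := rfl
theorem F200188 : act 2 n43438 = n42809 := d21_1 D43438 (iv D42809) (iv F197128)
theorem F200189 : act 5 n43438 = n42805 := d36_1 D43438 (iv D42805) D42804
theorem F200190 : act 8 n43438 = n43438 := d42_2 F197129 D43438 (iv D43438)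
def n43439 : Q := act 9 n42804
theorem D43439 : act 9 n42804 = n43439 := rfl
theorem F200191 : act 2 n43439 = n42810 := d23_1 D43439 (iv D42810) (iv F197128)
theorem F200192 : act 5 n43439 = n42806 := d38_1 D43439 (iv D42806) D42804
def n43440 : Q := act 9 n42805
theorem D43440 : act 9 n42805 = n43440 := rfl
theorem F200193 : act 2 n43440 = n42811 := d23_1 D43440 (iv D42811) (iv F197130)
theorem F200194 : act 4 n43440 = n42807 := d34_1 D43440 (iv D42807) (iv F197131)
theorem F200195 : act 6 n43440 = n42833 := d41_1 D43440 (iv D42833) (iv F197132)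
theorem F200196 : act 7 n43440 = n42806 := d43_1 D43440 (iv D42806) D42805
def n43441 : Q := act 9 n42809
theorem D43441 : act 9 n42809 = n43441 := rfl
theorem F200197 : act 5 n43441 = n42811 := d38_1 D43441 (iv D42811) (iv F197143)
theorem F200198 : act 7 n43441 = n42810 := d43_1 D43441 (iv D42810) D42809
def n43442 : Q := act 8 n42810
theorem D43442 : act 8 n42810 = n43442 := rfl
theorem F200199 : act 9 n43442 = n43442 := d44_2 D42810 D43442 (iv D43442) (iv D42810) F193065
def n43443 : Q := act 9 n42812
theorem D43443 : act 9 n42812 = n43443 := rfl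
theorem F200200 : act 1 n43443 = n43004 := d16_1 D43443 (iv D43004) (iv F197149)
theorem F200201 : act 2 n43443 = n42948 := d23_1 D43443 (iv D42948) (iv F197150)
theorem F200202 : act 3 n43443 = n42814 := d29_1 D43443 (iv D42814) (iv F197151)
theorem F200203 : act 6 n43443 = n42920 := d41_1 D43443 F197534 (iv F197152)
theorem F200204 : act 8 n43443 = n42919 := d44_1 D43443 (iv D42919) F193598 (iv F193080) D42812
def n43444 : Q := act 9 n42813
theorem D43444 : act 9 n42813 = n43444 := rfl
theorem F200205 : act 2 n43444 = n42815 := d23_1 D43444 (iv D42815) (iv F197153)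
theorem F200206 : act 5 n43444 = n42814 := d38_1 D43444 (iv D42814) D42813
def n43445 : Q := act 9 n42816
theorem D43445 : act 9 n42816 = n43445 := rfl
theorem F200207 : act 2 n43445 = n42817 := d23_1 D43445 (iv D42817) D42816
theorem F200208 : act 5 n43445 = n42840 := d38_1 D43445 (iv D42840) (iv F197162)
def n43446 : Q := act 5 n42818
theorem D43446 : act 5 n42818 = n43446 := rfl
theorem F200209 : act 4 n43446 = n42989 := d30_1 D43446 (iv D42989) F193865 (iv F193103) (iv F197167)
theorem F200210 : act 6 n43446 = n42825 := d35_2 D42818 D43446 (iv D42825) (iv D41946) (iv F193101)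
theorem F200211 : act 8 n43446 = n43446 := d37_2 (iv F197168) D43446 (iv D43446) F197168 F193212
def n43447 : Q := act 7 n42818
theorem D43447 : act 7 n42818 = n43447 := rfl
theorem F200212 : act 3 n43447 = n42910 := d27_1 D43447 (iv F199057) F199054
theorem F200213 : act 4 n43447 = n42820 := d32_1 D43447 (iv D42820) (iv F197167)
theorem F200214 : act 8 n43447 = n42847 := d42_2 (iv F197168) D43447 (iv D42847)
def n43448 : Q := act 9 n42818
theorem D43448 : act 9 n42818 = n43448 := rfl
theorem F200215 : act 4 n43448 = n42821 := d34_1 D43448 (iv D42821) (iv F197167)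
theorem F200216 : act 6 n43448 = n42819 := d41_1 D43448 (iv D42819) D42818
def n43449 : Q := act 9 n42820
theorem D43449 : act 9 n42820 = n43449 := rfl
theorem F200217 : act 3 n43449 = n43001 := d29_1 D43449 F197741 (iv F197171)
theorem F200218 : act 5 n43449 = n43009 := d38_1 D43449 (iv D43009) (iv F197172)
theorem F200219 : act 7 n43449 = n42821 := d43_1 D43449 (iv D42821) D42820
def n43450 : Q := act 8 n42821
theorem D43450 : act 8 n42821 = n43450 := rfl
theorem F200220 : act 2 n43450 = n42832 := d22_1 D43450 (iv F200018) F200014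
theorem F200221 : act 3 n43450 = n42840 := d28_1 D43450 (iv F199783) F199778
theorem F200222 : act 6 n43450 = n42822 := d40_1 D43450 (iv D42822) (iv F197175)
theorem F200223 : act 9 n43450 = n42830 := d44_2 D42821 D43450 F197198 F193147 (iv F193104)
def n43451 : Q := act 5 n42823
theorem D43451 : act 5 n42823 = n43451 := rfl
theorem F200224 : act 3 n43451 = n42825 := d25_1 D43451 (iv D42825) (iv F197179)
theorem F200225 : act 8 n43451 = n43451 := d37_2 (iv F197181) D43451 (iv D43451) F197181 F193119
def n43452 : Q := act 7 n42823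
theorem D43452 : act 7 n42823 = n43452 := rfl
theorem F200226 : act 3 n43452 = n42826 := d27_1 D43452 (iv D42826) (iv F197179)
theorem F200227 : act 4 n43452 = n42831 := d32_1 D43452 (iv D42831) (iv F197180)
theorem F200228 : act 8 n43452 = n42829 := d42_2 (iv F197181) D43452 (iv D42829)
def n43453 : Q := act 9 n42823
theorem D43453 : act 9 n42823 = n43453 := rfl
theorem F200229 : act 3 n43453 = n42827 := d29_1 D43453 (iv D42827) (iv F197179)
theorem F200230 : act 4 n43453 = n42832 := d34_1 D43453 (iv D42832) (iv F197180)
theorem F200231 : act 6 n43453 = n42824 := d41_1 D43453 (iv D42824) D42823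
def n43454 : Q := act 7 n42825
theorem D43454 : act 7 n42825 = n43454 := rfl
theorem F200232 : act 4 n43454 = n43010 := d32_1 D43454 (iv D43010) (iv F197184)
theorem F200233 : act 5 n43454 = n42826 := d36_1 D43454 (iv D42826) D42825
theorem F200234 : act 8 n43454 = n43454 := d42_2 F197185 D43454 (iv D43454)
def n43455 : Q := act 9 n42825
theorem D43455 : act 9 n42825 = n43455 := rfl
theorem F200235 : act 4 n43455 = n43011 := d34_1 D43455 (iv D43011) (iv F197184)
theorem F200236 : act 5 n43455 = n42827 := d38_1 D43455 (iv D42827) D42825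
def n43456 : Q := act 9 n42826
theorem D43456 : act 9 n42826 = n43456 := rfl
theorem F200237 : act 4 n43456 = n42828 := d34_1 D43456 (iv D42828) (iv F197186)
theorem F200238 : act 7 n43456 = n42827 := d43_1 D43456 (iv D42827) D42826
def n43457 : Q := act 7 n42830
theorem D43457 : act 7 n42830 = n43457 := rfl
theorem F200239 : act 2 n43457 = n42831 := d21_1 D43457 (iv D42831) (iv F197196)
theorem F200240 : act 3 n43457 = n42839 := d27_1 D43457 (iv D42839) (iv F197197)
theorem F200241 : act 8 n43457 = n42836 := d42_2 (iv F197198) D43457 (iv D42836)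
def n43458 : Q := act 9 n42831
theorem D43458 : act 9 n42831 = n43458 := rfl
theorem F200242 : act 3 n43458 = n42833 := d29_1 D43458 (iv D42833) (iv F197199)
theorem F200243 : act 7 n43458 = n42832 := d43_1 D43458 (iv D42832) D42831
def n43459 : Q := act 8 n42833
theorem D43459 : act 8 n42833 = n43459 := rfl
theorem F200244 : act 0 n43459 = n42954 := d7_1 D43459 (iv F198255) F198250
theorem F200245 : act 2 n43459 = n42843 := d22_1 D43459 (iv D42843) (iv F197203)
theorem F200246 : act 4 n43459 = n42835 := d33_1 D43459 (iv D42835) (iv F197204)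
theorem F200247 : act 5 n43459 = n43008 := d37_1 D43459 (iv D43008) (iv F197386) (iv F199711) F199709
theorem F200248 : act 7 n43459 = n42834 := d42_1 D43459 (iv D42834) (iv F197205)
theorem F200249 : act 9 n43459 = n42837 := d44_2 D42833 D43459 (iv D42837) (iv D41962) (iv F193129)
def n43460 : Q := act 9 n42839
theorem D43460 : act 9 n42839 = n43460 := rfl
theorem F200250 : act 2 n43460 = n42841 := d23_1 D43460 (iv D42841) (iv F197227)
theorem F200251 : act 4 n43460 = n42981 := d34_1 D43460 F197694 (iv F197228)
theorem F200252 : act 7 n43460 = n42840 := d43_1 D43460 (iv D42840) D42839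
theorem F200253 : act 8 n43460 = n43001 := d44_1 D43460 F197741 F193901 (iv F193184) (iv F197229)
def n43461 : Q := act 6 n42844
theorem D43461 : act 6 n42844 = n43461 := rfl
theorem F200254 : act 1 n43461 = n42886 := d13_1 D43461 (iv D42886) (iv F197240)
theorem F200255 : act 2 n43461 = n42845 := d20_1 D43461 (iv D42845) (iv F197241)
theorem F200256 : act 4 n43461 = n42969 := d31_1 D43461 F197670 (iv F197242)
theorem F200257 : act 5 n43461 = n43461 := d35_1 D43461 (iv D43461) (iv D42844) F193203 D42844
theorem F200258 : act 9 n43461 = n42964 := d41_2 F197928 D43461 F197929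
def n43462 : Q := act 9 n42850
theorem D43462 : act 9 n42850 = n43462 := rfl
theorem F200259 : act 1 n43462 = n42921 := d16_1 D43462 (iv D42921) (iv F197269)
theorem F200260 : act 3 n43462 = n43009 := d29_1 D43462 (iv D43009) (iv F197270)
theorem F200261 : act 4 n43462 = n42853 := d34_1 D43462 (iv D42853) (iv F197271)
theorem F200262 : act 5 n43462 = n43001 := d38_1 D43462 F197741 (iv F197272)
theorem F200263 : act 6 n43462 = n42929 := d41_1 D43462 (iv D42929) (iv F197273)
theorem F200264 : act 7 n43462 = n42851 := d43_1 D43462 (iv D42851) D42850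
def n43463 : Q := act 5 n42855
theorem D43463 : act 5 n42855 = n43463 := rfl
theorem F200265 : act 1 n43463 = n42955 := d12_1 D43463 (iv D42955) (iv F197297)
theorem F200266 : act 2 n43463 = n42860 := d19_1 D43463 (iv D42860) (iv F197298)
theorem F200267 : act 3 n43463 = n42909 := d25_1 D43463 (iv D42909) (iv F197299)
theorem F200268 : act 4 n43463 = n42992 := d30_1 D43463 F197721 F193872 (iv F193320) (iv F197300)
theorem F200269 : act 6 n43463 = n42894 := d35_2 D42855 D43463 (iv D42894) (iv D42051) (iv F193314)
theorem F200270 : act 7 n43463 = n42957 := d36_2 (iv F197301) D43463 (iv D42957)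
theorem F200271 : act 8 n43463 = n43463 := d37_2 (iv F197302) D43463 (iv D43463) F197302 F193333
def n43464 : Q := act 9 n42855
theorem D43464 : act 9 n42855 = n43464 := rfl
theorem F200272 : act 1 n43464 = n42956 := d16_1 D43464 (iv D42956) (iv F197297)
theorem F200273 : act 2 n43464 = n42862 := d23_1 D43464 (iv D42862) (iv F197298)
theorem F200274 : act 3 n43464 = n42907 := d29_1 D43464 F197489 (iv F197299)
theorem F200275 : act 4 n43464 = n42857 := d34_1 D43464 (iv D42857) (iv F197300)
theorem F200276 : act 6 n43464 = n42856 := d41_1 D43464 (iv D42856) D42855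
theorem F200277 : act 7 n43464 = n42958 := d43_1 D43464 (iv D42958) (iv F197301)
theorem F200278 : act 8 n43464 = n42903 := d44_1 D43464 (iv D42903) F193530 (iv F193335) (iv F197302)
def n43465 : Q := act 5 n42858
theorem D43465 : act 5 n42858 = n43465 := rfl
theorem F200279 : act 1 n43465 = n42923 := d12_1 D43465 (iv D42923) (iv F197317)
theorem F200280 : act 3 n43465 = n42860 := d25_1 D43465 (iv D42860) (iv F197318)
theorem F200281 : act 6 n43465 = n42902 := d35_2 D42858 D43465 (iv D42902) (iv D42061) (iv F193338)
theorem F200282 : act 8 n43465 = n43465 := d37_2 (iv F197320) D43465 (iv D43465) F197320 F193360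
def n43466 : Q := act 7 n42858
theorem D43466 : act 7 n42858 = n43466 := rfl
theorem F200283 : act 1 n43466 = n42924 := d14_1 D43466 (iv D42924) (iv F197317)
theorem F200284 : act 3 n43466 = n42861 := d27_1 D43466 (iv D42861) (iv F197318)
theorem F200285 : act 4 n43466 = n42952 := d32_1 D43466 (iv D42952) (iv F197319)
theorem F200286 : act 6 n43466 = n42918 := d39_1 D43466 (iv D42918) (iv D42082) (iv F193339) D42858
theorem F200287 : act 8 n43466 = n42864 := d42_2 (iv F197320) D43466 (iv D42864)
def n43467 : Q := act 9 n42858
theorem D43467 : act 9 n42858 = n43467 := rfl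
theorem F200288 : act 1 n43467 = n42925 := d16_1 D43467 (iv D42925) (iv F197317)
theorem F200289 : act 3 n43467 = n42862 := d29_1 D43467 (iv D42862) (iv F197318)
theorem F200290 : act 4 n43467 = n42953 := d34_1 D43467 (iv D42953) (iv F197319)
theorem F200291 : act 6 n43467 = n42859 := d41_1 D43467 (iv D42859) D42858
def n43468 : Q := act 7 n42860
theorem D43468 : act 7 n42860 = n43468 := rfl
theorem F200292 : act 1 n43468 = n42927 := d14_1 D43468 (iv D42927) (iv F197326)
theorem F200293 : act 2 n43468 = n42957 := d21_1 D43468 (iv F200270) F200266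
theorem F200294 : act 4 n43468 = n42987 := d32_1 D43468 (iv F199625) F199623
theorem F200295 : act 5 n43468 = n42861 := d36_1 D43468 (iv D42861) D42860
theorem F200296 : act 8 n43468 = n43468 := d42_2 F197328 D43468 (iv D43468)
def n43469 : Q := act 9 n42860
theorem D43469 : act 9 n42860 = n43469 := rfl
theorem F200297 : act 1 n43469 = n42928 := d16_1 D43469 (iv D42928) (iv F197326)
theorem F200298 : act 5 n43469 = n42862 := d38_1 D43469 (iv D42862) D42860
theorem F200299 : act 6 n43469 = n42905 := d41_1 D43469 (iv D42905) (iv F197327)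
def n43470 : Q := act 9 n42861
theorem D43470 : act 9 n42861 = n43470 := rfl
theorem F200300 : act 1 n43470 = n42929 := d16_1 D43470 (iv D42929) (iv F197329)
theorem F200301 : act 2 n43470 = n42958 := d23_1 D43470 (iv D42958) (iv F197330)
theorem F200302 : act 4 n43470 = n42863 := d34_1 D43470 (iv D42863) (iv F197331)
theorem F200303 : act 6 n43470 = n42921 := d41_1 D43470 (iv D42921) (iv F197332)
theorem F200304 : act 7 n43470 = n42862 := d43_1 D43470 (iv D42862) D42861
def n43471 : Q := act 5 n42866
theorem D43471 : act 5 n42866 = n43471 := rfl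
theorem F200305 : act 1 n43471 = n42868 := d12_1 D43471 (iv D42868) (iv F197355)
theorem F200306 : act 2 n43471 = n42937 := d19_1 D43471 (iv D42937) (iv F197356)
theorem F200307 : act 3 n43471 = n42987 := d25_1 D43471 (iv D42987) (iv F197357)
theorem F200308 : act 8 n43471 = n43471 := d37_2 D42866 D43471 (iv D43471) (iv D42866) F193393
def n43472 : Q := act 9 n42866
theorem D43472 : act 9 n42866 = n43472 := rfl
theorem F200309 : act 1 n43472 = n42869 := d16_1 D43472 (iv D42869) (iv F197355)
theorem F200310 : act 2 n43472 = n42930 := d23_1 D43472 F197564 (iv F197356)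
theorem F200311 : act 3 n43472 = n42988 := d29_1 D43472 (iv D42988) (iv F197357)
theorem F200312 : act 4 n43472 = n42867 := d34_1 D43472 (iv D42867) (iv F197358)
theorem F200313 : act 6 n43472 = n42888 := d41_1 D43472 (iv D42888) (iv F197359)
theorem F200314 : act 8 n43472 = n42922 := d44_1 D43472 (iv D42922) F193627 (iv F193395) D42866
def n43473 : Q := act 4 n42868
theorem D43473 : act 4 n42868 = n43473 := rfl
theorem F200315 : act 2 n43473 = n42959 := d18_1 D43473 (iv D42959) (iv F197365)
theorem F200316 : act 5 n43473 = n42870 := d30_2 D42868 D43473 (iv D42870) (iv D42025) (iv F193403)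
theorem F200317 : act 8 n43473 = n43473 := d33_2 F197366 D43473 (iv D43473)
def n43474 : Q := act 6 n42868
theorem D43474 : act 6 n42868 = n43474 := rfl
theorem F200318 : act 2 n43474 = n42923 := d20_1 D43474 F197542 (iv F197365)
theorem F200319 : act 3 n43474 = n42999 := d26_1 D43474 (iv F199609) F199607
theorem F200320 : act 5 n43474 = n42890 := d35_1 D43474 (iv D42890) (iv D42047) (iv F193404) D42868
theorem F200321 : act 8 n43474 = n43474 := d40_2 F197366 D43474 (iv D43474)
def n43475 : Q := act 9 n42868
theorem D43475 : act 9 n42868 = n43475 := rfl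
theorem F200322 : act 2 n43475 = n42960 := d23_1 D43475 (iv D42960) (iv F197365)
theorem F200323 : act 5 n43475 = n42869 := d38_1 D43475 (iv D42869) D42868
def n43476 : Q := act 3 n42870
theorem D43476 : act 3 n42870 = n43476 := rfl
theorem F200324 : act 4 n43476 = n42873 := d24_2 D42870 D43476 (iv D42873) (iv D42028) (iv F193406)
theorem F200325 : act 7 n43476 = n43005 := d27_2 F198020 D43476 (iv F198017)
theorem F200326 : act 8 n43476 = n42872 := d28_2 (iv F197371) D43476 (iv D42872)
def n43477 : Q := act 9 n42870
theorem D43477 : act 9 n42870 = n43477 := rfl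
theorem F200327 : act 2 n43477 = n42962 := d23_1 D43477 (iv D42962) (iv F197370)
theorem F200328 : act 4 n43477 = n42871 := d34_1 D43477 (iv D42871) D42870
def n43478 : Q := act 2 n42872
theorem D43478 : act 2 n42872 = n43478 := rfl
theorem F200329 : act 3 n43478 = n42964 := d17_2 D42872 D43478 (iv D42964) (iv D42156) (iv F193411)
theorem F200330 : act 4 n43478 = n42877 := d18_2 (iv F197375) D43478 (iv D42877)
theorem F200331 : act 5 n43478 = n43478 := d19_2 F197376 D43478 (iv D43478)
theorem F200332 : act 7 n43478 = n43013 := d21_2 (iv F197377) D43478 F197763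
def n43479 : Q := act 2 n42873
theorem D43479 : act 2 n42873 = n43479 := rfl
theorem F200333 : act 3 n43479 = n42879 := d17_2 D42873 D43479 (iv D42879) (iv D42034) (iv F193413)
theorem F200334 : act 5 n43479 = n43003 := d19_2 (iv F197378) D43479 F197744
theorem F200335 : act 7 n43479 = n43002 := d21_2 (iv F197379) D43479 F197742
theorem F200336 : act 8 n43479 = n42877 := d22_2 (iv F197380) D43479 (iv D42877)
def n43480 : Q := act 6 n42873
theorem D43480 : act 6 n42873 = n43480 := rfl
theorem F200337 : act 3 n43480 = n42874 := d26_1 D43480 (iv D42874) D42873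
theorem F200338 : act 8 n43480 = n42878 := d40_2 (iv F197380) D43480 (iv D42878)
def n43481 : Q := act 9 n42873
theorem D43481 : act 9 n42873 = n43481 := rfl
theorem F200339 : act 3 n43481 = n42875 := d29_1 D43481 (iv D42875) D42873
theorem F200340 : act 5 n43481 = n43007 := d38_1 D43481 (iv D43007) (iv F197378)
theorem F200341 : act 7 n43481 = n43006 := d43_1 D43481 (iv D43006) (iv F197379)
def n43482 : Q := act 5 n42874
theorem D43482 : act 5 n42874 = n43482 := rfl
theorem F200342 : act 2 n43482 = n42882 := d19_1 D43482 (iv D42882) (iv F197381)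
theorem F200343 : act 4 n43482 = n42894 := d30_1 D43482 (iv D42894) F193492 (iv F193418) (iv F197382)
theorem F200344 : act 6 n43482 = n42992 := d35_2 D42874 D43482 F197721 F193873 (iv F193414)
theorem F200345 : act 8 n43482 = n43482 := d37_2 (iv F197383) D43482 (iv D43482) F197383 F193426
def n43483 : Q := act 9 n42874
theorem D43483 : act 9 n42874 = n43483 := rfl
theorem F200346 : act 2 n43483 = n42884 := d23_1 D43483 (iv D42884) (iv F197381)
theorem F200347 : act 4 n43483 = n42876 := d34_1 D43483 (iv D42876) (iv F197382)
theorem F200348 : act 6 n43483 = n42875 := d41_1 D43483 (iv D42875) D42874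
def n43484 : Q := act 6 n42877
theorem D43484 : act 6 n42877 = n43484 := rfl
theorem F200349 : act 2 n43484 = n42878 := d20_1 D43484 (iv D42878) D42877
theorem F200350 : act 3 n43484 = n42886 := d26_1 D43484 (iv D42886) (iv F197391)
theorem F200351 : act 5 n43484 = n43484 := d35_1 D43484 (iv D43484) F197392 F193429 (iv F197392)
def n43485 : Q := act 6 n42879
theorem D43485 : act 6 n42879 = n43485 := rfl
theorem F200352 : act 2 n43485 = n42880 := d20_1 D43485 (iv D42880) D42879
theorem F200353 : act 4 n43485 = n42972 := d31_1 D43485 (iv D42972) (iv F197396)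
theorem F200354 : act 8 n43485 = n42886 := d40_2 (iv F197397) D43485 (iv D42886)
def n43486 : Q := act 9 n42879
theorem D43486 : act 9 n42879 = n43486 := rfl
theorem F200355 : act 2 n43486 = n42881 := d23_1 D43486 (iv D42881) D42879
theorem F200356 : act 4 n43486 = n42973 := d34_1 D43486 (iv D42973) (iv F197396)
def n43487 : Q := act 5 n42880
theorem D43487 : act 5 n42880 = n43487 := rfl
theorem F200357 : act 3 n43487 = n42882 := d25_1 D43487 (iv D42882) (iv F197398)
theorem F200358 : act 8 n43487 = n43487 := d37_2 (iv F197400) D43487 (iv D43487) F197400 F193447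
def n43488 : Q := act 7 n42880
theorem D43488 : act 7 n42880 = n43488 := rfl
theorem F200359 : act 3 n43488 = n42883 := d27_1 D43488 (iv D42883) (iv F197398)
theorem F200360 : act 4 n43488 = n42974 := d32_1 D43488 (iv D42974) (iv F197399)
theorem F200361 : act 8 n43488 = n42887 := d42_2 (iv F197400) D43488 (iv D42887)
def n43489 : Q := act 9 n42880
theorem D43489 : act 9 n42880 = n43489 := rfl
theorem F200362 : act 3 n43489 = n42884 := d29_1 D43489 (iv D42884) (iv F197398)
theorem F200363 : act 4 n43489 = n42975 := d34_1 D43489 (iv D42975) (iv F197399)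
theorem F200364 : act 6 n43489 = n42881 := d41_1 D43489 (iv D42881) D42880
def n43490 : Q := act 7 n42882
theorem D43490 : act 7 n42882 = n43490 := rfl
theorem F200365 : act 4 n43490 = n42904 := d32_1 D43490 (iv D42904) (iv F197403)
theorem F200366 : act 5 n43490 = n42883 := d36_1 D43490 (iv D42883) D42882
theorem F200367 : act 8 n43490 = n43490 := d42_2 F197404 D43490 (iv D43490)
def n43491 : Q := act 9 n42882
theorem D43491 : act 9 n42882 = n43491 := rfl
theorem F200368 : act 4 n43491 = n42905 := d34_1 D43491 (iv D42905) (iv F197403)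
theorem F200369 : act 5 n43491 = n42884 := d38_1 D43491 (iv D42884) D42882
def n43492 : Q := act 9 n42883
theorem D43492 : act 9 n42883 = n43492 := rfl
theorem F200370 : act 4 n43492 = n42885 := d34_1 D43492 (iv D42885) (iv F197405)
theorem F200371 : act 7 n43492 = n42884 := d43_1 D43492 (iv D42884) D42883
def n43493 : Q := act 7 n42886
theorem D43493 : act 7 n42886 = n43493 := rfl
theorem F200372 : act 2 n43493 = n42887 := d21_1 D43493 (iv D42887) (iv F197412)
theorem F200373 : act 4 n43493 = n42982 := d32_1 D43493 (iv D42982) (iv F197413)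
theorem F200374 : act 5 n43493 = n43493 := d36_1 D43493 (iv D43493) F197414
def n43494 : Q := act 7 n42890
theorem D43494 : act 7 n42890 = n43494 := rfl
theorem F200375 : act 2 n43494 = n42924 := d21_1 D43494 (iv D42924) (iv F197430)
theorem F200376 : act 3 n43494 = n42998 := d27_1 D43494 F197737 (iv F197431)
theorem F200377 : act 4 n43494 = n43003 := d32_1 D43494 (iv D43003) (iv F197432)
theorem F200378 : act 6 n43494 = n42941 := d39_1 D43494 (iv D42941) (iv D42118) (iv F193477) D42890
theorem F200379 : act 8 n43494 = n42933 := d42_2 (iv F197433) D43494 (iv D42933)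
def n43495 : Q := act 9 n42890
theorem D43495 : act 9 n42890 = n43495 := rfl
theorem F200380 : act 2 n43495 = n42925 := d23_1 D43495 (iv D42925) (iv F197430)
theorem F200381 : act 3 n43495 = n42995 := d29_1 D43495 F197729 (iv F197431)
theorem F200382 : act 4 n43495 = n43004 := d34_1 D43495 (iv D43004) (iv F197432)
theorem F200383 : act 6 n43495 = n42891 := d41_1 D43495 (iv D42891) D42890
theorem F200384 : act 8 n43495 = n42991 := d44_1 D43495 (iv D42991) F193866 (iv F193655) (iv F197433)
def n43496 : Q := act 5 n42892
theorem D43496 : act 5 n42892 = n43496 := rfl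
theorem F200385 : act 3 n43496 = n42894 := d25_1 D43496 (iv D42894) (iv F197440)
theorem F200386 : act 6 n43496 = n42909 := d35_2 D42892 D43496 (iv D42909) F193551 (iv F193488)
theorem F200387 : act 8 n43496 = n43496 := d37_2 (iv F197441) D43496 (iv D43496) F197441 F193509
def n43497 : Q := act 7 n42892
theorem D43497 : act 7 n42892 = n43497 := rfl
theorem F200388 : act 3 n43497 = n42895 := d27_1 D43497 (iv D42895) (iv F197440)
theorem F200389 : act 6 n43497 = n42947 := d39_1 D43497 (iv D42947) (iv D42125) (iv F193489) D42892
theorem F200390 : act 8 n43497 = n42900 := d42_2 (iv F197441) D43497 (iv D42900)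
def n43498 : Q := act 9 n42892
theorem D43498 : act 9 n42892 = n43498 := rfl
theorem F200391 : act 3 n43498 = n42896 := d29_1 D43498 (iv D42896) (iv F197440)
theorem F200392 : act 6 n43498 = n42893 := d41_1 D43498 (iv D42893) D42892
def n43499 : Q := act 7 n42894
theorem D43499 : act 7 n42894 = n43499 := rfl
theorem F200393 : act 2 n43499 = n42904 := d21_1 D43499 (iv D42904) (iv F197445)
theorem F200394 : act 5 n43499 = n42895 := d36_1 D43499 (iv D42895) D42894
theorem F200395 : act 8 n43499 = n43499 := d42_2 F197446 D43499 (iv D43499)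
def n43500 : Q := act 9 n42894
theorem D43500 : act 9 n42894 = n43500 := rfl
theorem F200396 : act 2 n43500 = n42905 := d23_1 D43500 (iv D42905) (iv F197445)
theorem F200397 : act 5 n43500 = n42896 := d38_1 D43500 (iv D42896) D42894
def n43501 : Q := act 9 n42895
theorem D43501 : act 9 n42895 = n43501 := rfl
theorem F200398 : act 2 n43501 = n42906 := d23_1 D43501 (iv D42906) (iv F197447)
theorem F200399 : act 4 n43501 = n42898 := d34_1 D43501 (iv D42898) (iv F197448)
theorem F200400 : act 6 n43501 = n42949 := d41_1 D43501 (iv D42949) (iv F197449)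
theorem F200401 : act 7 n43501 = n42896 := d43_1 D43501 (iv D42896) D42895
def n43502 : Q := act 8 n42896
theorem D43502 : act 8 n42896 = n43502 := rfl
theorem F200402 : act 1 n43502 = n42945 := d15_1 D43502 (iv F199735) F199731
theorem F200403 : act 2 n43502 = n42907 := d22_1 D43502 (iv D42907) (iv F197451)
theorem F200404 : act 4 n43502 = n42899 := d33_1 D43502 (iv D42899) (iv F197452)
theorem F200405 : act 6 n43502 = n42897 := d40_1 D43502 (iv D42897) (iv F197453)
theorem F200406 : act 9 n43502 = n42901 := d44_2 D42896 D43502 (iv D42901) (iv D42058) (iv F193493)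
def n43503 : Q := act 5 n42901
theorem D43503 : act 5 n42901 = n43503 := rfl
theorem F200407 : act 1 n43503 = n42943 := d12_1 D43503 (iv D42943) (iv F197470)
theorem F200408 : act 2 n43503 = n42909 := d19_1 D43503 (iv D42909) (iv F197471)
theorem F200409 : act 8 n43503 = n43503 := d37_2 D42901 D43503 (iv D43503) (iv D42901) F193517
def n43504 : Q := act 9 n42902
theorem D43504 : act 9 n42902 = n43504 := rfl
theorem F200410 : act 1 n43504 = n42960 := d16_1 D43504 (iv D42960) (iv F197474)
theorem F200411 : act 3 n43504 = n42905 := d29_1 D43504 (iv D42905) (iv F197475)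
theorem F200412 : act 5 n43504 = n42903 := d38_1 D43504 (iv D42903) D42902
def n43505 : Q := act 6 n42904
theorem D43505 : act 6 n42904 = n43505 := rfl
theorem F200413 : act 5 n43505 = n42950 := d35_1 D43505 (iv D42950) F193736 (iv F193537) (iv F197481)
theorem F200414 : act 8 n43505 = n43505 := d40_2 F197482 D43505 (iv D43505)
def n43506 : Q := act 9 n42904
theorem D43506 : act 9 n42904 = n43506 := rfl
theorem F200415 : act 5 n43506 = n42906 := d38_1 D43506 (iv D42906) (iv F197481)
theorem F200416 : act 7 n43506 = n42905 := d43_1 D43506 (iv D42905) D42904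
def n43507 : Q := act 8 n42905
theorem D43507 : act 8 n42905 = n43507 := rfl
theorem F200417 : act 9 n43507 = n43507 := d44_2 D42905 D43507 (iv D43507) (iv D42905) F193535
def n43508 : Q := act 5 n42907
theorem D43508 : act 5 n42907 = n43508 := rfl
theorem F200418 : act 9 n43508 = n42909 := d38_2 (iv F197489) D43508 (iv D42909)
def n43509 : Q := act 4 n42908
theorem D43509 : act 4 n42908 = n43509 := rfl
theorem F200419 : act 9 n43509 = n42910 := d34_2 (iv F197491) D43509 (iv D42910)
def n43510 : Q := act 4 n42909
theorem D43510 : act 4 n42909 = n43510 := rfl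
theorem F200420 : act 5 n43510 = n42910 := d30_2 D42909 D43510 (iv D42910) (iv D42070) (iv F193550)
theorem F200421 : act 8 n43510 = n43510 := d33_2 F197492 D43510 (iv D43510)
def n43511 : Q := act 7 n42911
theorem D43511 : act 7 n42911 = n43511 := rfl
theorem F200422 : act 1 n43511 = n42990 := d14_1 D43511 (iv D42990) (iv F197494)
theorem F200423 : act 3 n43511 = n42913 := d27_1 D43511 (iv D42913) (iv F197495)
theorem F200424 : act 4 n43511 = n42918 := d32_1 D43511 (iv D42918) (iv F197496)
theorem F200425 : act 6 n43511 = n42952 := d39_1 D43511 (iv D42952) (iv D42139) (iv F193558) D42911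
theorem F200426 : act 8 n43511 = n42916 := d42_2 (iv F197497) D43511 (iv D42916)
def n43512 : Q := act 9 n42911
theorem D43512 : act 9 n42911 = n43512 := rfl
theorem F200427 : act 1 n43512 = n42991 := d16_1 D43512 (iv D42991) (iv F197494)
theorem F200428 : act 3 n43512 = n42914 := d29_1 D43512 (iv D42914) (iv F197495)
theorem F200429 : act 4 n43512 = n42919 := d34_1 D43512 (iv D42919) (iv F197496)
theorem F200430 : act 6 n43512 = n42912 := d41_1 D43512 (iv D42912) D42911
def n43513 : Q := act 9 n42913
theorem D43513 : act 9 n42913 = n43513 := rfl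
theorem F200431 : act 1 n43513 = n42994 := d16_1 D43513 (iv D42994) (iv F197503)
theorem F200432 : act 4 n43513 = n42915 := d34_1 D43513 (iv D42915) (iv F197504)
theorem F200433 : act 6 n43513 = n42954 := d41_1 D43513 (iv D42954) (iv F197505)
theorem F200434 : act 7 n43513 = n42914 := d43_1 D43513 (iv D42914) D42913
def n43514 : Q := act 9 n42918
theorem D43514 : act 9 n42918 = n43514 := rfl
theorem F200435 : act 1 n43514 = n43009 := d16_1 D43514 (iv D43009) (iv F197524)
theorem F200436 : act 3 n43514 = n42921 := d29_1 D43514 (iv D42921) (iv F197525)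
theorem F200437 : act 7 n43514 = n42919 := d43_1 D43514 (iv D42919) D42918
def n43515 : Q := act 4 n42923
theorem D43515 : act 4 n42923 = n43515 := rfl
theorem F200438 : act 5 n43515 = n43005 := d30_2 D42923 D43515 (iv D43005) (iv D42208) (iv F193633)
theorem F200439 : act 6 n43515 = n42959 := d31_2 (iv F197542) D43515 (iv D42959)
theorem F200440 : act 8 n43515 = n43515 := d33_2 F197543 D43515 (iv D43515)
def n43516 : Q := act 7 n42923
theorem D43516 : act 7 n42923 = n43516 := rfl
theorem F200441 : act 3 n43516 = n42927 := d27_1 D43516 (iv D42927) (iv F197541)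
theorem F200442 : act 5 n43516 = n42924 := d36_1 D43516 (iv D42924) D42923
theorem F200443 : act 8 n43516 = n43516 := d42_2 F197543 D43516 (iv D43516)
def n43517 : Q := act 9 n42923
theorem D43517 : act 9 n42923 = n43517 := rfl
theorem F200444 : act 3 n43517 = n42928 := d29_1 D43517 (iv D42928) (iv F197541)
theorem F200445 : act 5 n43517 = n42925 := d38_1 D43517 (iv D42925) D42923
theorem F200446 : act 6 n43517 = n42960 := d41_1 D43517 (iv D42960) (iv F197542)
def n43518 : Q := act 9 n42924
theorem D43518 : act 9 n42924 = n43518 := rfl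
theorem F200447 : act 3 n43518 = n42929 := d29_1 D43518 (iv D42929) (iv F197544)
theorem F200448 : act 4 n43518 = n43007 := d34_1 D43518 (iv D43007) (iv F197545)
theorem F200449 : act 6 n43518 = n43009 := d41_1 D43518 (iv D43009) (iv F197546)
theorem F200450 : act 7 n43518 = n42925 := d43_1 D43518 (iv D42925) D42924
def n43519 : Q := act 8 n42925
theorem D43519 : act 8 n42925 = n43519 := rfl
theorem F200451 : act 2 n43519 = n42991 := d22_1 D43519 (iv F200384) F200380
theorem F200452 : act 3 n43519 = n42930 := d28_1 D43519 (iv D42930) (iv F197548)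
theorem F200453 : act 4 n43519 = n42942 := d33_1 D43519 F197605 (iv F197549)
theorem F200454 : act 6 n43519 = n42926 := d40_1 D43519 (iv D42926) (iv F197550)
theorem F200455 : act 9 n43519 = n42935 := d44_2 D42925 D43519 (iv D42935) (iv D42105) (iv F193634)
def n43520 : Q := act 6 n42927
theorem D43520 : act 6 n42927 = n43520 := rfl
theorem F200456 : act 4 n43520 = n42999 := d31_1 D43520 (iv F199609) F199608
theorem F200457 : act 5 n43520 = n43000 := d35_1 D43520 F197739 (iv F197272) F197273 (iv F197557)
theorem F200458 : act 8 n43520 = n43520 := d40_2 F197558 D43520 (iv D43520)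
def n43521 : Q := act 9 n42927
theorem D43521 : act 9 n42927 = n43521 := rfl
theorem F200459 : act 5 n43521 = n42929 := d38_1 D43521 (iv D42929) (iv F197557)
theorem F200460 : act 7 n43521 = n42928 := d43_1 D43521 (iv D42928) D42927
def n43522 : Q := act 8 n42928
theorem D43522 : act 8 n42928 = n43522 := rfl
theorem F200461 : act 9 n43522 = n43522 := d44_2 D42928 D43522 (iv D43522) (iv D42928) F193639
def n43523 : Q := act 8 n42929
theorem D43523 : act 8 n42929 = n43523 := rfl
theorem F200462 : act 4 n43523 = n42932 := d33_1 D43523 (iv D42932) (iv F197560)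
theorem F200463 : act 7 n43523 = n42930 := d42_1 D43523 (iv D42930) (iv F197561)
theorem F200464 : act 9 n43523 = n42936 := d44_2 D42929 D43523 (iv D42936) (iv D42107) (iv F193641)
def n43524 : Q := act 5 n42930
theorem D43524 : act 5 n42930 = n43524 := rfl
theorem F200465 : act 9 n43524 = n42937 := d38_2 (iv F197564) D43524 (iv D42937)
def n43525 : Q := act 6 n42931
theorem D43525 : act 6 n42931 = n43525 := rfl
theorem F200466 : act 3 n43525 = n42945 := d26_1 D43525 F197613 (iv F197565)
theorem F200467 : act 4 n43525 = n42948 := d31_1 D43525 F197620 (iv F197566)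
theorem F200468 : act 9 n43525 = n42938 := d41_2 (iv F197567) D43525 (iv D42938)
def n43526 : Q := act 8 n42934
theorem D43526 : act 8 n42934 = n43526 := rfl
theorem F200469 : act 2 n43526 = n42990 := d22_1 D43526 F197717 (iv F197577)
theorem F200470 : act 3 n43526 = n42936 := d28_1 D43526 (iv D42936) (iv F197578)
theorem F200471 : act 4 n43526 = n42941 := d33_1 D43526 F197601 (iv F197579)
theorem F200472 : act 6 n43526 = n43003 := d40_1 D43526 F197745 (iv F197581)
theorem F200473 : act 7 n43526 = n42935 := d42_1 D43526 (iv D42935) (iv F197582)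
def n43527 : Q := act 5 n42935
theorem D43527 : act 5 n42935 = n43527 := rfl
theorem F200474 : act 2 n43527 = n42989 := d19_1 D43527 (iv D42989) (iv F197583)
theorem F200475 : act 3 n43527 = n42937 := d25_1 D43527 (iv D42937) (iv F197584)
theorem F200476 : act 6 n43527 = n42943 := d35_2 (iv F197586) D43527 (iv D42943) (iv D42120) (iv F193668)
theorem F200477 : act 8 n43527 = n43527 := d37_2 D42935 D43527 (iv D43527) (iv D42935) F193663
def n43528 : Q := act 5 n42936
theorem D43528 : act 5 n42936 = n43528 := rfl
theorem F200478 : act 7 n43528 = n42937 := d36_2 (iv F197588) D43528 (iv D42937)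
theorem F200479 : act 8 n43528 = n43528 := d37_2 D42936 D43528 (iv D43528) (iv D42936) F193671
def n43529 : Q := act 6 n42937
theorem D43529 : act 6 n42937 = n43529 := rfl
theorem F200480 : act 3 n43529 = n42943 := d26_1 D43529 (iv F200476) F200475
theorem F200481 : act 5 n43529 = n42938 := d35_1 D43529 (iv D42938) (iv D42109) (iv F193674) D42937
theorem F200482 : act 8 n43529 = n43529 := d40_2 F197589 D43529 (iv D43529)
def n43530 : Q := act 7 n42938
theorem D43530 : act 7 n42938 = n43530 := rfl
theorem F200483 : act 3 n43530 = n42944 := d27_1 D43530 (iv D42944) (iv F197590)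
theorem F200484 : act 4 n43530 = n42947 := d32_1 D43530 (iv D42947) (iv F197591)
theorem F200485 : act 8 n43530 = n42939 := d42_2 (iv F197592) D43530 (iv D42939)
def n43531 : Q := act 9 n42941
theorem D43531 : act 9 n42941 = n43531 := rfl
theorem F200486 : act 2 n43531 = n43009 := d23_1 D43531 (iv D43009) (iv F197599)
theorem F200487 : act 3 n43531 = n43008 := d29_1 D43531 F197756 (iv F197600)
theorem F200488 : act 7 n43531 = n42942 := d43_1 D43531 (iv D42942) D42941
theorem F200489 : act 8 n43531 = n43007 := d44_1 D43531 (iv D43007) F193912 (iv F193747) (iv F197601)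
def n43532 : Q := act 7 n42943
theorem D43532 : act 7 n42943 = n43532 := rfl
theorem F200490 : act 2 n43532 = n43010 := d21_1 D43532 (iv D43010) (iv F197606)
theorem F200491 : act 5 n43532 = n42944 := d36_1 D43532 (iv D42944) D42943
theorem F200492 : act 8 n43532 = n43532 := d42_2 F197607 D43532 (iv D43532)
def n43533 : Q := act 9 n42943
theorem D43533 : act 9 n42943 = n43533 := rfl
theorem F200493 : act 2 n43533 = n43011 := d23_1 D43533 (iv D43011) (iv F197606)
theorem F200494 : act 5 n43533 = n42945 := d38_1 D43533 (iv D42945) D42943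
def n43534 : Q := act 9 n42944
theorem D43534 : act 9 n42944 = n43534 := rfl
theorem F200495 : act 2 n43534 = n43012 := d23_1 D43534 (iv D43012) (iv F197608)
theorem F200496 : act 4 n43534 = n42946 := d34_1 D43534 (iv D42946) (iv F197609)
theorem F200497 : act 7 n43534 = n42945 := d43_1 D43534 (iv D42945) D42944
def n43535 : Q := act 9 n42947
theorem D43535 : act 9 n42947 = n43535 := rfl
theorem F200498 : act 3 n43535 = n42949 := d29_1 D43535 (iv D42949) (iv F197617)
theorem F200499 : act 7 n43535 = n42948 := d43_1 D43535 (iv D42948) D42947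
def n43536 : Q := act 9 n42950
theorem D43536 : act 9 n42950 = n43536 := rfl
theorem F200500 : act 4 n43536 = n42963 := d34_1 D43536 F197652 (iv F197624)
theorem F200501 : act 6 n43536 = n42951 := d41_1 D43536 (iv D42951) D42950
theorem F200502 : act 8 n43536 = n42962 := d44_1 D43536 (iv D42962) F193789 (iv F193743) (iv F197625)
def n43537 : Q := act 9 n42952
theorem D43537 : act 9 n42952 = n43537 := rfl
theorem F200503 : act 1 n43537 = n43007 := d16_1 D43537 (iv D43007) (iv F197628)
theorem F200504 : act 3 n43537 = n42954 := d29_1 D43537 (iv D42954) (iv F197629)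
theorem F200505 : act 7 n43537 = n42953 := d43_1 D43537 (iv D42953) D42952
def n43538 : Q := act 9 n42955
theorem D43538 : act 9 n42955 = n43538 := rfl
theorem F200506 : act 5 n43538 = n42956 := d38_1 D43538 (iv D42956) D42955
def n43539 : Q := act 9 n42957
theorem D43539 : act 9 n42957 = n43539 := rfl
theorem F200507 : act 4 n43539 = n42993 := d34_1 D43539 (iv D42993) (iv F197641)
theorem F200508 : act 5 n43539 = n42958 := d38_1 D43539 (iv D42958) D42957
def n43540 : Q := act 3 n42959
theorem D43540 : act 3 n42959 = n43540 := rfl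
theorem F200509 : act 5 n43540 = n42961 := d25_2 (iv F197645) D43540 (iv D42961)
theorem F200510 : act 8 n43540 = n43540 := d28_2 F197646 D43540 (iv D43540)
def n43541 : Q := act 9 n42959
theorem D43541 : act 9 n42959 = n43541 := rfl
theorem F200511 : act 4 n43541 = n42960 := d34_1 D43541 (iv D42960) D42959
theorem F200512 : act 5 n43541 = n42962 := d38_1 D43541 (iv D42962) (iv F197645)
def n43542 : Q := act 8 n42960
theorem D43542 : act 8 n42960 = n43542 := rfl
theorem F200513 : act 9 n43542 = n43542 := d44_2 D42960 D43542 (iv D43542) (iv D42960) F193786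
def n43543 : Q := act 2 n42961
theorem D43543 : act 2 n42961 = n43543 := rfl
theorem F200514 : act 4 n43543 = n42965 := d18_2 (iv F197648) D43543 (iv D42965)
theorem F200515 : act 8 n43543 = n42964 := d22_2 (iv F197649) D43543 (iv D42964)
def n43544 : Q := act 9 n42961
theorem D43544 : act 9 n42961 = n43544 := rfl
theorem F200516 : act 3 n43544 = n42962 := d29_1 D43544 (iv D42962) D42961
theorem F200517 : act 4 n43544 = n42966 := d34_1 D43544 (iv D42966) (iv F197648)
def n43545 : Q := act 1 n42965
theorem D43545 : act 1 n42965 = n43545 := rfl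
theorem F200518 : act 2 n43545 = n42985 := d9_2 D42965 D43545 (iv F198614) F198615 F195896
theorem F200519 : act 3 n43545 = n42971 := d10_2 (iv F197655) D43545 F197673
theorem F200520 : act 5 n43545 = n42970 := d12_2 F198598 D43545 F198601
theorem F200521 : act 6 n43545 = n42983 := d13_2 F198624 D43545 (iv F198621)
theorem F200522 : act 8 n43545 = n42968 := d15_2 (iv F197656) D43545 (iv D42968)
def n43546 : Q := act 9 n42965
theorem D43546 : act 9 n42965 = n43546 := rfl
theorem F200523 : act 2 n43546 = n42966 := d23_1 D43546 (iv D42966) D42965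
theorem F200524 : act 3 n43546 = n42973 := d29_1 D43546 (iv D42973) (iv F197655)
def n43547 : Q := act 8 n42966
theorem D43547 : act 8 n42966 = n43547 := rfl
theorem F200525 : act 3 n43547 = n42967 := d28_1 D43547 (iv D42967) (iv F197657)
theorem F200526 : act 6 n43547 = n42979 := d40_1 D43547 (iv F198645) F198644
theorem F200527 : act 9 n43547 = n42970 := d44_2 D42966 D43547 (iv D42970) (iv D42162) (iv F193795)
def n43548 : Q := act 5 n42967
theorem D43548 : act 5 n42967 = n43548 := rfl
theorem F200528 : act 1 n43548 = n42973 := d12_1 D43548 (iv F198630) F198627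
theorem F200529 : act 2 n43548 = n42979 := d19_1 D43548 (iv D42979) (iv F197658)
theorem F200530 : act 9 n43548 = n42971 := d38_2 (iv F197660) D43548 (iv D42971)
def n43549 : Q := act 8 n42969
theorem D43549 : act 8 n42969 = n43549 := rfl
theorem F200531 : act 1 n43549 = n42972 := d15_1 D43549 F197677 (iv F197666)
theorem F200532 : act 2 n43549 = n42970 := d22_1 D43549 (iv D42970) (iv F197667)
theorem F200533 : act 3 n43549 = n42983 := d28_1 D43549 (iv D42983) (iv F197668)
theorem F200534 : act 5 n43549 = n42985 := d37_1 D43549 (iv D42985) F193842 (iv F193818) (iv F197669)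
theorem F200535 : act 6 n43549 = n42971 := d40_1 D43549 F197675 (iv F197670)
def n43550 : Q := act 7 n42972
theorem D43550 : act 7 n42972 = n43550 := rfl
theorem F200536 : act 2 n43550 = n42974 := d21_1 D43550 (iv D42974) (iv F197676)
theorem F200537 : act 8 n43550 = n42982 := d42_2 (iv F197677) D43550 (iv D42982)
def n43551 : Q := act 9 n42972
theorem D43551 : act 9 n42972 = n43551 := rfl
theorem F200538 : act 2 n43551 = n42975 := d23_1 D43551 (iv D42975) (iv F197676)
theorem F200539 : act 6 n43551 = n42973 := d41_1 D43551 (iv D42973) D42972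
def n43552 : Q := act 8 n42973
theorem D43552 : act 8 n42973 = n43552 := rfl
theorem F200540 : act 2 n43552 = n42976 := d22_1 D43552 (iv D42976) (iv F197678)
theorem F200541 : act 5 n43552 = n42978 := d37_1 D43552 (iv D42978) (iv F195913) (iv F198632) F198630
theorem F200542 : act 9 n43552 = n42983 := d44_2 D42973 D43552 (iv D42983) (iv D42176) (iv F193821)
def n43553 : Q := act 9 n42974
theorem D43553 : act 9 n42974 = n43553 := rfl
theorem F200543 : act 3 n43553 = n42977 := d29_1 D43553 (iv D42977) (iv F197679)
theorem F200544 : act 7 n43553 = n42975 := d43_1 D43553 (iv D42975) D42974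
def n43554 : Q := act 8 n42975
theorem D43554 : act 8 n42975 = n43554 := rfl
theorem F200545 : act 3 n43554 = n42978 := d28_1 D43554 (iv D42978) (iv F197681)
theorem F200546 : act 6 n43554 = n42976 := d40_1 D43554 (iv D42976) (iv F197682)
theorem F200547 : act 9 n43554 = n42985 := d44_2 D42975 D43554 (iv D42985) (iv D42178) (iv F193823)
def n43555 : Q := act 8 n42977
theorem D43555 : act 8 n42977 = n43555 := rfl
theorem F200548 : act 4 n43555 = n42980 := d33_1 D43555 (iv D42980) (iv F197685)
theorem F200549 : act 7 n43555 = n42978 := d42_1 D43555 (iv D42978) (iv F197686)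
theorem F200550 : act 9 n43555 = n42986 := d44_2 D42977 D43555 (iv D42986) (iv D42180) (iv F193826)
def n43556 : Q := act 8 n42984
theorem D43556 : act 8 n42984 = n43556 := rfl
theorem F200551 : act 3 n43556 = n42986 := d28_1 D43556 (iv D42986) (iv F197699)
theorem F200552 : act 7 n43556 = n42985 := d42_1 D43556 (iv D42985) (iv F197701)
def n43557 : Q := act 9 n42987
theorem D43557 : act 9 n42987 = n43557 := rfl
theorem F200553 : act 2 n43557 = n42993 := d23_1 D43557 (iv D42993) (iv F197706)
theorem F200554 : act 5 n43557 = n42988 := d38_1 D43557 (iv D42988) D42987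
def n43558 : Q := act 7 n42989
theorem D43558 : act 7 n42989 = n43558 := rfl
theorem F200555 : act 3 n43558 = n42992 := d27_1 D43558 (iv D42992) (iv F197711)
theorem F200556 : act 5 n43558 = n42990 := d36_1 D43558 (iv D42990) D42989
theorem F200557 : act 8 n43558 = n43558 := d42_2 F197713 D43558 (iv D43558)
def n43559 : Q := act 9 n42989
theorem D43559 : act 9 n42989 = n43559 := rfl
theorem F200558 : act 3 n43559 = n42993 := d29_1 D43559 (iv D42993) (iv F197711)
theorem F200559 : act 5 n43559 = n42991 := d38_1 D43559 (iv D42991) D42989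
theorem F200560 : act 6 n43559 = n43011 := d41_1 D43559 (iv D43011) (iv F197712)
def n43560 : Q := act 9 n42990
theorem D43560 : act 9 n42990 = n43560 := rfl
theorem F200561 : act 3 n43560 = n42994 := d29_1 D43560 (iv D42994) (iv F197714)
theorem F200562 : act 4 n43560 = n43009 := d34_1 D43560 (iv D43009) (iv F197715)
theorem F200563 : act 6 n43560 = n43007 := d41_1 D43560 (iv D43007) (iv F197716)
theorem F200564 : act 7 n43560 = n42991 := d43_1 D43560 (iv D42991) D42990
def n43561 : Q := act 9 n42992
theorem D43561 : act 9 n42992 = n43561 := rfl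
theorem F200565 : act 5 n43561 = n42994 := d38_1 D43561 (iv D42994) (iv F197721)
theorem F200566 : act 7 n43561 = n42993 := d43_1 D43561 (iv D42993) D42992
def n43562 : Q := act 8 n42993
theorem D43562 : act 8 n42993 = n43562 := rfl
theorem F200567 : act 9 n43562 = n43562 := d44_2 D42993 D43562 (iv D43562) (iv D42993) F193871
def n43563 : Q := act 8 n42994
theorem D43563 : act 8 n42994 = n43563 := rfl
theorem F200568 : act 4 n43563 = n42996 := d33_1 D43563 (iv D42996) (iv F197724)
theorem F200569 : act 6 n43563 = n43008 := d40_1 D43563 (iv D43008) (iv F197725)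
theorem F200570 : act 7 n43563 = n42995 := d42_1 D43563 (iv D42995) (iv F197726)
theorem F200571 : act 9 n43563 = n42998 := d44_2 D42994 D43563 (iv D42998) (iv D42198) (iv F193874)
def n43564 : Q := act 5 n42995
theorem D43564 : act 5 n42995 = n43564 := rfl
theorem F200572 : act 9 n43564 = n42999 := d38_2 (iv F197729) D43564 (iv D42999)
def n43565 : Q := act 4 n42997
theorem D43565 : act 4 n42997 = n43565 := rfl
theorem F200573 : act 6 n43565 = n43001 := d31_2 (iv F197733) D43565 (iv D43001)
theorem F200574 : act 9 n43565 = n43000 := d34_2 (iv F197734) D43565 (iv D43000)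
def n43566 : Q := act 5 n42998
theorem D43566 : act 5 n42998 = n43566 := rfl
theorem F200575 : act 7 n43566 = n42999 := d36_2 (iv F197737) D43566 (iv D42999)
theorem F200576 : act 8 n43566 = n43566 := d37_2 D42998 D43566 (iv D43566) (iv D42998) F193889
def n43567 : Q := act 4 n43002
theorem D43567 : act 4 n43002 = n43567 := rfl
theorem F200577 : act 2 n43567 = n43005 := d18_1 D43567 (iv D43005) (iv F197742)
theorem F200578 : act 8 n43567 = n43013 := d33_2 (iv F197743) D43567 (iv D43013)
def n43568 : Q := act 9 n43002
theorem D43568 : act 9 n43002 = n43568 := rfl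
theorem F200579 : act 2 n43568 = n43006 := d23_1 D43568 (iv D43006) (iv F197742)
theorem F200580 : act 5 n43568 = n43004 := d38_1 D43568 (iv D43004) D43002
def n43569 : Q := act 9 n43003
theorem D43569 : act 9 n43003 = n43569 := rfl
theorem F200581 : act 2 n43569 = n43007 := d23_1 D43569 (iv D43007) (iv F197744)
theorem F200582 : act 7 n43569 = n43004 := d43_1 D43569 (iv D43004) D43003
theorem F200583 : act 8 n43569 = n43009 := d44_1 D43569 (iv D43009) F193928 (iv F193925) (iv F197745)
def n43570 : Q := act 9 n43005
theorem D43570 : act 9 n43005 = n43570 := rfl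
theorem F200584 : act 4 n43570 = n43006 := d34_1 D43570 (iv D43006) D43005
def n43571 : Q := act 6 n43010
theorem D43571 : act 6 n43010 = n43571 := rfl
theorem F200585 : act 8 n43571 = n43571 := d40_2 F197759 D43571 (iv D43571)
def n43572 : Q := act 9 n43010
theorem D43572 : act 9 n43010 = n43572 := rfl
theorem F200586 : act 5 n43572 = n43012 := d38_1 D43572 (iv D43012) (iv F197758)
theorem F200587 : act 7 n43572 = n43011 := d43_1 D43572 (iv D43011) D43010
def n43573 : Q := act 8 n43011
theorem D43573 : act 8 n43011 = n43573 := rfl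
theorem F200588 : act 9 n43573 = n43573 := d44_2 D43011 D43573 (iv D43573) (iv D43011) F193930
def n43574 : Q := act 4 n43014
theorem D43574 : act 4 n43014 = n43574 := rfl
theorem F200589 : act 0 n43574 = n43376 := d3_1 D43574 F199976 (iv F197765)
theorem F200590 : act 1 n43574 = n43016 := d11_1 D43574 F197784 (iv F197766)
theorem F200591 : act 2 n43574 = n43462 := d18_1 D43574 F200261 (iv F197767)
theorem F200592 : act 3 n43574 = n43299 := d24_1 D43574 F199636 F196302 (iv F193992) (iv F197768)
theorem F200593 : act 5 n43574 = n43219 := d30_2 D43014 D43574 F199139 F195580 (iv F193970)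
theorem F200594 : act 6 n43574 = n43282 := d31_2 (iv F197769) D43574 F199544
theorem F200595 : act 7 n43574 = n43366 := d32_2 (iv F197770) D43574 F199933
theorem F200596 : act 8 n43574 = n43269 := d33_2 (iv F197771) D43574 (iv D43269)
theorem F200597 : act 9 n43574 = n43015 := d34_2 (iv F197772) D43574 (iv D43015)
def n43575 : Q := act 4 n43019
theorem D43575 : act 4 n43019 = n43575 := rfl
theorem F200598 : act 0 n43575 = n43393 := d3_1 D43575 (iv D43393) (iv F197807)
theorem F200599 : act 1 n43575 = n43510 := d11_1 D43575 (iv D43510) (iv F197808)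
theorem F200600 : act 2 n43575 = n43302 := d18_1 D43575 (iv D43302) (iv F197809)
theorem F200601 : act 5 n43575 = n43021 := d30_2 D43019 D43575 (iv D43021) (iv D42247) (iv F194095)
theorem F200602 : act 7 n43575 = n43333 := d32_2 (iv F197811) D43575 (iv D43333)
theorem F200603 : act 8 n43575 = n43575 := d33_2 F197812 D43575 (iv D43575)
def n43576 : Q := act 6 n43019
theorem D43576 : act 6 n43019 = n43576 := rfl
theorem F200604 : act 0 n43576 = n43394 := d5_1 D43576 (iv D43394) (iv F197807)
theorem F200605 : act 1 n43576 = n43496 := d13_1 D43576 F200386 (iv F197808)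
theorem F200606 : act 2 n43576 = n43303 := d20_1 D43576 (iv D43303) (iv F197809)
theorem F200607 : act 3 n43576 = n43320 := d26_1 D43576 F199729 (iv F197810)
theorem F200608 : act 5 n43576 = n43053 := d35_1 D43576 (iv D43053) (iv D42276) (iv F194096) D43019
theorem F200609 : act 8 n43576 = n43576 := d40_2 F197812 D43576 (iv D43576)
def n43577 : Q := act 9 n43019
theorem D43577 : act 9 n43019 = n43577 := rfl
theorem F200610 : act 0 n43577 = n43395 := d8_1 D43577 (iv D43395) (iv F197807)
theorem F200611 : act 1 n43577 = n43508 := d16_1 D43577 F200418 (iv F197808)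
theorem F200612 : act 2 n43577 = n43304 := d23_1 D43577 (iv D43304) (iv F197809)
theorem F200613 : act 3 n43577 = n43538 := d29_1 D43577 (iv D43538) (iv F197810)
theorem F200614 : act 5 n43577 = n43020 := d38_1 D43577 (iv D43020) D43019
theorem F200615 : act 7 n43577 = n43334 := d43_1 D43577 (iv D43334) (iv F197811)
def n43578 : Q := act 3 n43021
theorem D43578 : act 3 n43021 = n43578 := rfl
theorem F200616 : act 0 n43578 = n43396 := d2_1 D43578 (iv D43396) (iv F197821)
theorem F200617 : act 1 n43578 = n43447 := d10_1 D43578 F200212 (iv F197822)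
theorem F200618 : act 4 n43578 = n43024 := d24_2 D43021 D43578 (iv D43024) (iv D42250) (iv F194101)
theorem F200619 : act 6 n43578 = n43408 := d26_2 (iv F197824) D43578 F200087
theorem F200620 : act 7 n43578 = n43335 := d27_2 (iv F197825) D43578 (iv D43335)
theorem F200621 : act 8 n43578 = n43023 := d28_2 (iv F197826) D43578 (iv D43023)
def n43579 : Q := act 9 n43021
theorem D43579 : act 9 n43021 = n43579 := rfl
theorem F200622 : act 0 n43579 = n43397 := d8_1 D43579 (iv D43397) (iv F197821)
theorem F200623 : act 1 n43579 = n43509 := d16_1 D43579 F200419 (iv F197822)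
theorem F200624 : act 2 n43579 = n43306 := d23_1 D43579 (iv D43306) (iv F197823)
theorem F200625 : act 4 n43579 = n43022 := d34_1 D43579 (iv D43022) D43021
theorem F200626 : act 6 n43579 = n43404 := d41_1 D43579 F200073 (iv F197824)
theorem F200627 : act 7 n43579 = n43336 := d43_1 D43579 (iv D43336) (iv F197825)
theorem F200628 : act 8 n43579 = n43403 := d44_1 D43579 (iv D43403) F196996 (iv F194118) (iv F197826)
def n43580 : Q := act 2 n43023
theorem D43580 : act 2 n43023 = n43580 := rfl
theorem F200629 : act 0 n43580 = n43398 := d1_1 D43580 (iv D43398) (iv F197835)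
theorem F200630 : act 1 n43580 = n43420 := d9_1 D43580 F200122 (iv F198465) F198466 (iv F197836)
theorem F200631 : act 3 n43580 = n43307 := d17_2 D43023 D43580 (iv D43307) (iv D42612) (iv F194114)
theorem F200632 : act 4 n43580 = n43029 := d18_2 (iv F197837) D43580 (iv D43029)
theorem F200633 : act 5 n43580 = n43580 := d19_2 F197838 D43580 (iv D43580)
theorem F200634 : act 6 n43580 = n43407 := d20_2 (iv F197839) D43580 F200083
theorem F200635 : act 7 n43580 = n43337 := d21_2 (iv F197840) D43580 (iv D43337)
theorem F200636 : act 9 n43580 = n43406 := d23_2 (iv F197841) D43580 F200079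
def n43581 : Q := act 2 n43024
theorem D43581 : act 2 n43024 = n43581 := rfl
theorem F200637 : act 0 n43581 = n43399 := d1_1 D43581 (iv D43399) (iv F197842)
theorem F200638 : act 3 n43581 = n43037 := d17_2 D43024 D43581 (iv D43037) (iv D42260) (iv F194121)
theorem F200639 : act 5 n43581 = n43363 := d19_2 (iv F197844) D43581 F199918
theorem F200640 : act 7 n43581 = n43338 := d21_2 (iv F197845) D43581 (iv D43338)
theorem F200641 : act 8 n43581 = n43029 := d22_2 (iv F197846) D43581 (iv D43029)
def n43582 : Q := act 6 n43024
theorem D43582 : act 6 n43024 = n43582 := rfl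
theorem F200642 : act 0 n43582 = n43400 := d5_1 D43582 (iv D43400) (iv F197842)
theorem F200643 : act 1 n43582 = n43433 := d13_1 D43582 F200178 (iv F197843)
theorem F200644 : act 3 n43582 = n43025 := d26_1 D43582 (iv D43025) D43024
theorem F200645 : act 4 n43582 = n43408 := d31_1 D43582 (iv F200619) F200618
theorem F200646 : act 7 n43582 = n43425 := d39_2 (iv F197845) D43582 (iv D43425) F197088 (iv F196494)
theorem F200647 : act 8 n43582 = n43030 := d40_2 (iv F197846) D43582 (iv D43030)
def n43583 : Q := act 9 n43024
theorem D43583 : act 9 n43024 = n43583 := rfl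
theorem F200648 : act 0 n43583 = n43401 := d8_1 D43583 (iv D43401) (iv F197842)
theorem F200649 : act 1 n43583 = n43449 := d16_1 D43583 (iv D43449) (iv F197843)
theorem F200650 : act 3 n43583 = n43026 := d29_1 D43583 (iv D43026) D43024
theorem F200651 : act 5 n43583 = n43514 := d38_1 D43583 (iv D43514) (iv F197844)
theorem F200652 : act 7 n43583 = n43339 := d43_1 D43583 (iv D43339) (iv F197845)
def n43584 : Q := act 5 n43025
theorem D43584 : act 5 n43025 = n43584 := rfl
theorem F200653 : act 0 n43584 = n43402 := d4_1 D43584 (iv D43402) (iv F197847)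
theorem F200654 : act 1 n43584 = n43520 := d12_1 D43584 F200457 (iv F197848)
theorem F200655 : act 2 n43584 = n43040 := d19_1 D43584 (iv D43040) (iv F197849)
theorem F200656 : act 4 n43584 = n43057 := d30_1 D43584 (iv D43057) F194302 (iv F194129) (iv F197850)
theorem F200657 : act 6 n43584 = n43468 := d35_2 D43025 D43584 F200295 F197332 (iv F194122)
theorem F200658 : act 7 n43584 = n43505 := d36_2 (iv F197851) D43584 F200413
theorem F200659 : act 8 n43584 = n43584 := d37_2 (iv F197852) D43584 (iv D43584) F197852 F194145
def n43585 : Q := act 9 n43025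
theorem D43585 : act 9 n43025 = n43585 := rfl
theorem F200660 : act 0 n43585 = n43403 := d8_1 D43585 (iv D43403) (iv F197847)
theorem F200661 : act 1 n43585 = n43565 := d16_1 D43585 F200574 (iv F197848)
theorem F200662 : act 2 n43585 = n43042 := d23_1 D43585 (iv D43042) (iv F197849)
theorem F200663 : act 4 n43585 = n43027 := d34_1 D43585 (iv D43027) (iv F197850)
theorem F200664 : act 6 n43585 = n43026 := d41_1 D43585 (iv D43026) D43025
theorem F200665 : act 7 n43585 = n43536 := d43_1 D43585 (iv D43536) (iv F197851)
theorem F200666 : act 8 n43585 = n43397 := d44_1 D43585 (iv D43397) F196985 F194147 (iv F197852)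
def n43586 : Q := act 8 n43026
theorem D43586 : act 8 n43026 = n43586 := rfl
theorem F200667 : act 0 n43586 = n43404 := d7_1 D43586 (iv D43404) (iv F197853)
theorem F200668 : act 1 n43586 = n43460 := d15_1 D43586 F200253 (iv F197854)
theorem F200669 : act 2 n43586 = n43043 := d22_1 D43586 (iv D43043) (iv F197855)
theorem F200670 : act 4 n43586 = n43028 := d33_1 D43586 (iv D43028) (iv F197856)
theorem F200671 : act 6 n43586 = n43397 := d40_1 D43586 (iv F200666) F200664
theorem F200672 : act 7 n43586 = n43340 := d42_1 D43586 (iv D43340) (iv F197858)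
theorem F200673 : act 9 n43586 = n43032 := d44_2 D43026 D43586 (iv D43032) (iv D42255) (iv F194124)
def n43587 : Q := act 1 n43029
theorem D43587 : act 1 n43029 = n43587 := rfl
theorem F200674 : act 2 n43587 = n43101 := d9_2 D43029 D43587 F198342 F196938 (iv F194138)
theorem F200675 : act 3 n43587 = n43046 := d10_2 (iv F197876) D43587 (iv D43046)
theorem F200676 : act 4 n43587 = n43420 := d11_2 F200632 D43587 (iv F200630)
theorem F200677 : act 5 n43587 = n43033 := d12_2 (iv F197877) D43587 (iv D43033)
theorem F200678 : act 7 n43587 = n43100 := d14_2 (iv F197878) D43587 F198335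
theorem F200679 : act 0 n43318 = n43587 := d6_3 F200678 F198334 D43318
theorem F200680 : act 6 n43493 = n43587 := d39_5 F200678 F198338 F196139 D42886 D43493
theorem F200681 : act 9 n43156 = n43587 := d43_0 F200678 F198339 (iv F198718)
def n43588 : Q := act 6 n43029
theorem D43588 : act 6 n43029 = n43588 := rfl
theorem F200682 : act 0 n43588 = n43406 := d5_1 D43588 (iv D43406) (iv F197875)
theorem F200683 : act 1 n43588 = n43493 := d13_1 D43588 F200680 (iv D43587)
theorem F200684 : act 2 n43588 = n43030 := d20_1 D43588 (iv D43030) D43029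
theorem F200685 : act 3 n43588 = n43047 := d26_1 D43588 (iv D43047) (iv F197876)
theorem F200686 : act 4 n43588 = n43407 := d31_1 D43588 (iv F200634) F200632
theorem F200687 : act 5 n43588 = n43588 := d35_1 D43588 (iv D43588) F197877 F194165 (iv F197877)
theorem F200688 : act 7 n43588 = n43461 := d39_2 (iv F197878) D43588 (iv D43461) F197243 (iv F196507)
theorem F200689 : act 9 n43398 = n43588 := d43_0 F200688 F200258 (iv F200056)
def n43589 : Q := act 9 n43029
theorem D43589 : act 9 n43029 = n43589 := rfl
theorem F200690 : act 0 n43589 = n43407 := d8_1 D43589 (iv D43407) (iv F197875)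
theorem F200691 : act 1 n43589 = n43156 := d16_1 D43589 F200681 (iv D43587)
theorem F200692 : act 2 n43589 = n43031 := d23_1 D43589 (iv D43031) D43029
theorem F200693 : act 3 n43589 = n43048 := d29_1 D43589 (iv D43048) (iv F197876)
theorem F200694 : act 4 n43589 = n43406 := d34_1 D43589 (iv F200636) F200632
theorem F200695 : act 5 n43589 = n43034 := d38_1 D43589 (iv D43034) (iv F197877)
theorem F200696 : act 6 n43589 = n43398 := d41_1 D43589 F200689 (iv D43588)
theorem F200697 : act 7 n43589 = n43310 := d43_1 D43589 F199686 (iv F197878)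
def n43590 : Q := act 8 n43031
theorem D43590 : act 8 n43031 = n43590 := rfl
theorem F200698 : act 0 n43590 = n43408 := d7_1 D43590 (iv D43408) (iv F197886)
theorem F200699 : act 1 n43590 = n43457 := d15_1 D43590 F200241 (iv F197887)
theorem F200700 : act 3 n43590 = n43032 := d28_1 D43590 (iv D43032) (iv F197888)
theorem F200701 : act 4 n43590 = n43400 := d33_1 D43590 F200061 (iv F197889)
theorem F200702 : act 6 n43590 = n43396 := d40_1 D43590 F200050 (iv F197891)
theorem F200703 : act 7 n43590 = n43341 := d42_1 D43590 (iv D43341) (iv F197892)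
def n43591 : Q := act 5 n43032
theorem D43591 : act 5 n43032 = n43591 := rfl
theorem F200704 : act 0 n43591 = n43409 := d4_1 D43591 (iv D43409) (iv F197893)
theorem F200705 : act 1 n43591 = n43427 := d12_1 D43591 F200152 (iv F197894)
theorem F200706 : act 2 n43591 = n43052 := d19_1 D43591 (iv D43052) (iv F197895)
theorem F200707 : act 4 n43591 = n43142 := d30_1 D43591 (iv D43142) F194946 (iv F194159) (iv F197896)
theorem F200708 : act 7 n43591 = n43342 := d36_2 (iv F197898) D43591 (iv D43342)
theorem F200709 : act 8 n43591 = n43036 := d37_2 D43032 D43591 (iv D43036) (iv D42259) (iv F194152)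
theorem F200710 : act 6 n43543 = n43591 := d40_3 F200709 (iv F197929) (iv F200515)
def n43592 : Q := act 5 n43035
theorem D43592 : act 5 n43035 = n43592 := rfl
theorem F200711 : act 0 n43592 = n43405 := d4_1 D43592 F200076 (iv F197915)
theorem F200712 : act 1 n43592 = n43318 := d12_1 D43592 F199720 (iv F197916)
theorem F200713 : act 2 n43592 = n43251 := d19_1 D43592 F199337 (iv F197917)
theorem F200714 : act 3 n43592 = n43036 := d25_1 D43592 (iv D43036) (iv F197918)
theorem F200715 : act 7 n43592 = n43317 := d36_2 (iv F197921) D43592 F199716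
theorem F200716 : act 9 n43592 = n43351 := d38_2 (iv F197922) D43592 F199869
theorem F200717 : act 6 n43592 = n43478 := d45_4 (iv F194176) (iv F197918) F197919 D43592 F200332 (iv F200578) F200577 (iv F198017) F198018 F194254 F191759 F188036 (iv D39728) F178841 F173178 (iv F172005) (iv D37074) (iv D35489) (iv D33722) D33723 F156754 (iv F154854) F154855 F146288 (iv F154588) (iv F162424) (iv D35022) (iv F162393) F162394 (iv F163109) F163110 D36773 F170446 D36810 F170673 F163406 F157266 D33837 F157279 F149098 F149099 (iv F150294) (iv F158606) D35863 (iv F173246) D38684 D39850 (iv F188348) F188345 D40885 F188630 F184242 F180073 F174611 (iv F176882) F176878 F174584 (iv F180267) F180268 (iv F180067) (iv F184036) D40876 (iv F189968)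
theorem F200718 : act 4 n43484 = n43592 := d31_3 F200717 F200330 D43484
def n43593 : Q := act 1 n43037
theorem D43593 : act 1 n43037 = n43593 := rfl
theorem F200719 : act 0 n43593 = n43427 := d0_1 D43593 (iv F200705) F200704 F200089 (iv F197930)
theorem F200720 : act 2 n43593 = n43092 := d9_2 D43037 D43593 F198282 F195358 (iv F194182)
theorem F200721 : act 4 n43593 = n43311 := d11_2 (iv F197931) D43593 (iv D43311)
theorem F200722 : act 5 n43593 = n43090 := d12_2 (iv F197932) D43593 F198270
theorem F200723 : act 7 n43593 = n43089 := d14_2 (iv F197933) D43593 F198265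
theorem F200724 : act 8 n43593 = n43046 := d15_2 (iv F197934) D43593 (iv D43046)
def n43594 : Q := act 6 n43037
theorem D43594 : act 6 n43037 = n43594 := rfl
theorem F200725 : act 0 n43594 = n43410 := d5_1 D43594 (iv D43410) (iv F197930)
theorem F200726 : act 2 n43594 = n43038 := d20_1 D43594 (iv D43038) D43037
theorem F200727 : act 4 n43594 = n43312 := d31_1 D43594 (iv D43312) (iv F197931)
theorem F200728 : act 8 n43594 = n43047 := d40_2 (iv F197934) D43594 (iv D43047)
def n43595 : Q := act 9 n43037
theorem D43595 : act 9 n43037 = n43595 := rfl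
theorem F200729 : act 0 n43595 = n43411 := d8_1 D43595 (iv D43411) (iv F197930)
theorem F200730 : act 2 n43595 = n43039 := d23_1 D43595 (iv D43039) D43037
theorem F200731 : act 4 n43595 = n43313 := d34_1 D43595 (iv D43313) (iv F197931)
theorem F200732 : act 5 n43595 = n43364 := d38_1 D43595 (iv D43364) (iv F197932)
theorem F200733 : act 7 n43595 = n43344 := d43_1 D43595 (iv D43344) (iv F197933)
def n43596 : Q := act 5 n43038
theorem D43596 : act 5 n43038 = n43596 := rfl
theorem F200734 : act 0 n43596 = n43412 := d4_1 D43596 (iv D43412) (iv F197935)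
theorem F200735 : act 1 n43596 = n43230 := d12_1 D43596 (iv D43230) (iv F197936)
theorem F200736 : act 3 n43596 = n43040 := d25_1 D43596 (iv D43040) (iv F197937)
theorem F200737 : act 4 n43596 = n43451 := d30_1 D43596 (iv D43451) F197180 (iv F196366) (iv F197938)
theorem F200738 : act 6 n43596 = n43330 := d35_2 D43038 D43596 (iv D43330) F196456 (iv F194184)
theorem F200739 : act 8 n43596 = n43596 := d37_2 (iv F197939) D43596 (iv D43596) F197939 F194222
def n43597 : Q := act 7 n43038
theorem D43597 : act 7 n43038 = n43597 := rfl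
theorem F200740 : act 0 n43597 = n43413 := d6_1 D43597 (iv D43413) (iv F197935)
theorem F200741 : act 1 n43597 = n43231 := d14_1 D43597 (iv D43231) (iv F197936)
theorem F200742 : act 3 n43597 = n43041 := d27_1 D43597 (iv D43041) (iv F197937)
theorem F200743 : act 4 n43597 = n43314 := d32_1 D43597 (iv D43314) (iv F197938)
theorem F200744 : act 6 n43597 = n43345 := d39_1 D43597 (iv D43345) (iv D42658) (iv F194185) D43038
theorem F200745 : act 8 n43597 = n43049 := d42_2 (iv F197939) D43597 (iv D43049)
def n43598 : Q := act 9 n43038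
theorem D43598 : act 9 n43038 = n43598 := rfl
theorem F200746 : act 0 n43598 = n43414 := d8_1 D43598 (iv D43414) (iv F197935)
theorem F200747 : act 1 n43598 = n43232 := d16_1 D43598 (iv D43232) (iv F197936)
theorem F200748 : act 3 n43598 = n43042 := d29_1 D43598 (iv D43042) (iv F197937)
theorem F200749 : act 4 n43598 = n43315 := d34_1 D43598 (iv D43315) (iv F197938)
theorem F200750 : act 6 n43598 = n43039 := d41_1 D43598 (iv D43039) D43038
theorem F200751 : act 8 n43598 = n43570 := d44_1 D43598 (iv D43570) F197749 F194223 (iv F197939)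
def n43599 : Q := act 8 n43039
theorem D43599 : act 8 n43039 = n43599 := rfl
theorem F200752 : act 0 n43599 = n43415 := d7_1 D43599 (iv D43415) (iv F197940)
theorem F200753 : act 1 n43599 = n43233 := d15_1 D43599 (iv D43233) (iv F197941)
theorem F200754 : act 3 n43599 = n43043 := d28_1 D43599 (iv D43043) (iv F197942)
theorem F200755 : act 4 n43599 = n43093 := d33_1 D43599 F198292 (iv F197943)
theorem F200756 : act 5 n43599 = n43252 := d37_1 D43599 F199345 F197626 (iv F196678) (iv F197944)
theorem F200757 : act 6 n43599 = n43570 := d40_1 D43599 (iv F200751) F200750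
theorem F200758 : act 7 n43599 = n43347 := d42_1 D43599 (iv D43347) (iv F197945)
theorem F200759 : act 9 n43599 = n43050 := d44_2 D43039 D43599 (iv D43050) (iv D42268) (iv F194186)
def n43600 : Q := act 7 n43040
theorem D43600 : act 7 n43040 = n43600 := rfl
theorem F200760 : act 0 n43600 = n43416 := d6_1 D43600 (iv D43416) (iv F197946)
theorem F200761 : act 1 n43600 = n43234 := d14_1 D43600 (iv D43234) (iv F197947)
theorem F200762 : act 2 n43600 = n43505 := d21_1 D43600 (iv F200658) F200655
theorem F200763 : act 4 n43600 = n43062 := d32_1 D43600 (iv D43062) (iv F197948)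
theorem F200764 : act 5 n43600 = n43041 := d36_1 D43600 (iv D43041) D43040
theorem F200765 : act 6 n43600 = n43499 := d39_1 D43600 (iv D43499) (iv F200269) F200270 (iv F197949)
theorem F200766 : act 8 n43600 = n43600 := d42_2 F197950 D43600 (iv D43600)
def n43601 : Q := act 9 n43040
theorem D43601 : act 9 n43040 = n43601 := rfl
theorem F200767 : act 0 n43601 = n43417 := d8_1 D43601 (iv D43417) (iv F197946)
theorem F200768 : act 1 n43601 = n43235 := d16_1 D43601 (iv D43235) (iv F197947)
theorem F200769 : act 4 n43601 = n43063 := d34_1 D43601 (iv D43063) (iv F197948)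
theorem F200770 : act 5 n43601 = n43042 := d38_1 D43601 (iv D43042) D43040
theorem F200771 : act 6 n43601 = n43539 := d41_1 D43601 (iv D43539) (iv F197949)
def n43602 : Q := act 9 n43041
theorem D43602 : act 9 n43041 = n43602 := rfl
theorem F200772 : act 0 n43602 = n43418 := d8_1 D43602 (iv D43418) (iv F197951)
theorem F200773 : act 1 n43602 = n43236 := d16_1 D43602 (iv D43236) (iv F197952)
theorem F200774 : act 2 n43602 = n43536 := d23_1 D43602 (iv D43536) (iv F197953)
theorem F200775 : act 4 n43602 = n43044 := d34_1 D43602 (iv D43044) (iv F197954)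
theorem F200776 : act 6 n43602 = n43348 := d41_1 D43602 (iv D43348) (iv F197955)
theorem F200777 : act 7 n43602 = n43042 := d43_1 D43602 (iv D43042) D43041
theorem F200778 : act 8 n43602 = n43477 := d44_1 D43602 (iv D43477) F197371 F194237 (iv F197956)
def n43603 : Q := act 8 n43042
theorem D43603 : act 8 n43042 = n43603 := rfl
theorem F200779 : act 0 n43603 = n43306 := d7_1 D43603 F199665 (iv F197957)
theorem F200780 : act 1 n43603 = n43237 := d15_1 D43603 (iv D43237) (iv F197958)
theorem F200781 : act 2 n43603 = n43397 := d22_1 D43603 (iv F200666) F200662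
theorem F200782 : act 3 n43603 = n43570 := d28_1 D43603 (iv F200751) F200748
theorem F200783 : act 4 n43603 = n43045 := d33_1 D43603 (iv D43045) (iv F197959)
theorem F200784 : act 6 n43603 = n43043 := d40_1 D43603 (iv D43043) (iv F197960)
theorem F200785 : act 7 n43603 = n43477 := d42_1 D43603 (iv F200778) F200777
theorem F200786 : act 9 n43603 = n43051 := d44_2 D43042 D43603 (iv D43051) (iv D42270) (iv F194190)
def n43604 : Q := act 5 n43043
theorem D43604 : act 5 n43043 = n43604 := rfl
theorem F200787 : act 0 n43604 = n43419 := d4_1 D43604 (iv D43419) (iv F197961)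
theorem F200788 : act 1 n43604 = n43238 := d12_1 D43604 (iv D43238) (iv F197962)
theorem F200789 : act 3 n43604 = n43252 := d25_1 D43604 (iv F200756) F200754
theorem F200790 : act 4 n43604 = n43145 := d30_1 D43604 (iv D43145) F194985 (iv F194211) (iv F197963)
theorem F200791 : act 7 n43604 = n43350 := d36_2 (iv F197964) D43604 (iv D43350)
theorem F200792 : act 8 n43604 = n43426 := d37_2 D43043 D43604 F200149 F197094 (iv F194194)
theorem F200793 : act 9 n43604 = n43052 := d38_2 (iv F197965) D43604 (iv D43052)
theorem F200794 : act 6 n43544 = n43604 := d41_3 F200793 (iv F198027) D43544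
def n43605 : Q := act 6 n43046
theorem D43605 : act 6 n43046 = n43605 := rfl
theorem F200795 : act 0 n43605 = n43432 := d5_1 D43605 (iv D43432) (iv F197982)
theorem F200796 : act 1 n43605 = n43047 := d13_1 D43605 (iv D43047) D43046
theorem F200797 : act 2 n43605 = n43102 := d20_1 D43605 (iv D43102) (iv F197983)
theorem F200798 : act 3 n43605 = n43493 := d26_1 D43605 F200680 F200675
theorem F200799 : act 4 n43605 = n43317 := d31_1 D43605 (iv D43317) (iv F197984)
theorem F200800 : act 5 n43605 = n43605 := d35_1 D43605 (iv D43605) F197985 F194260 (iv F197985)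
theorem F200801 : act 7 n43605 = n43484 := d39_2 (iv F197986) D43605 (iv D43484) F197393 (iv F194639)
theorem F200802 : act 9 n43605 = n43166 := d41_2 F197987 D43605 (iv D43166)
def n43606 : Q := act 7 n43047
theorem D43606 : act 7 n43047 = n43606 := rfl
theorem F200803 : act 0 n43606 = n43420 := d6_1 D43606 (iv D43420) (iv F197988)
theorem F200804 : act 1 n43606 = n43484 := d14_1 D43606 (iv F200801) F200796
theorem F200805 : act 2 n43606 = n43049 := d21_1 D43606 (iv D43049) (iv F197989)
theorem F200806 : act 3 n43606 = n43461 := d27_1 D43606 (iv F200688) F200685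
theorem F200807 : act 4 n43606 = n43318 := d32_1 D43606 (iv D43318) (iv F197990)
theorem F200808 : act 5 n43606 = n43606 := d36_1 D43606 (iv D43606) F197991
theorem F200809 : act 6 n43606 = n43351 := d39_1 D43606 (iv D43351) (iv D42665) (iv F194217) D43047
theorem F200810 : act 9 n43606 = n43478 := d43_2 F197992 D43606 F200332
def n43607 : Q := act 8 n43048
theorem D43607 : act 8 n43048 = n43607 := rfl
theorem F200811 : act 0 n43607 = n43421 := d7_1 D43607 (iv D43421) (iv F197993)
theorem F200812 : act 1 n43607 = n43158 := d15_1 D43607 F198730 (iv F197994)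
theorem F200813 : act 2 n43607 = n43050 := d22_1 D43607 (iv D43050) (iv F197995)
theorem F200814 : act 4 n43607 = n43089 := d33_1 D43607 F198268 (iv F197996)
theorem F200815 : act 5 n43607 = n43249 := d37_1 D43607 F199325 F195798 (iv F194270) (iv F197997)
theorem F200816 : act 6 n43607 = n43567 := d40_1 D43607 F200578 (iv F197998)
theorem F200817 : act 7 n43607 = n43311 := d42_1 D43607 F199690 (iv F197999)
def n43608 : Q := act 5 n43051
theorem D43608 : act 5 n43051 = n43608 := rfl
theorem F200818 : act 0 n43608 = n43302 := d4_1 D43608 F199648 (iv F198014)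
theorem F200819 : act 1 n43608 = n43245 := d12_1 D43608 (iv D43245) (iv F198015)
theorem F200820 : act 2 n43608 = n43393 := d19_1 D43608 F200041 (iv F198016)
theorem F200821 : act 3 n43608 = n43515 := d25_1 D43608 F200438 (iv F198017)
theorem F200822 : act 4 n43608 = n43277 := d30_1 D43608 (iv D43277) F196097 (iv F194254) (iv F198018)
theorem F200823 : act 6 n43608 = n43540 := d35_2 (iv F198019) D43608 F200509 F198027 (iv D43052)
theorem F200824 : act 7 n43608 = n43473 := d36_2 (iv F198020) D43608 F200316
theorem F200825 : act 8 n43608 = n43608 := d37_2 D43051 D43608 (iv D43608) (iv D43051) F194243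
def n43609 : Q := act 7 n43053
theorem D43609 : act 7 n43053 = n43609 := rfl
theorem F200826 : act 0 n43609 = n43433 := d6_1 D43609 (iv D43433) (iv F198028)
theorem F200827 : act 1 n43609 = n43497 := d14_1 D43609 (iv D43497) (iv F198029)
theorem F200828 : act 2 n43609 = n43511 := d21_1 D43609 (iv D43511) (iv F198030)
theorem F200829 : act 3 n43609 = n43286 := d27_1 D43609 F199567 (iv F198031)
theorem F200830 : act 4 n43609 = n43363 := d32_1 D43609 F199920 (iv F198032)
theorem F200831 : act 6 n43609 = n43071 := d39_1 D43609 (iv D43071) (iv D42295) (iv F194283) D43053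
theorem F200832 : act 8 n43609 = n43103 := d42_2 (iv F198033) D43609 (iv D43103)
def n43610 : Q := act 9 n43053
theorem D43610 : act 9 n43053 = n43610 := rfl
theorem F200833 : act 0 n43610 = n43434 := d8_1 D43610 (iv D43434) (iv F198028)
theorem F200834 : act 1 n43610 = n43498 := d16_1 D43610 (iv D43498) (iv F198029)
theorem F200835 : act 2 n43610 = n43512 := d23_1 D43610 (iv D43512) (iv F198030)
theorem F200836 : act 3 n43610 = n43321 := d29_1 D43610 (iv D43321) (iv F198031)
theorem F200837 : act 4 n43610 = n43372 := d34_1 D43610 (iv D43372) (iv F198032)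
theorem F200838 : act 6 n43610 = n43054 := d41_1 D43610 (iv D43054) D43053
theorem F200839 : act 8 n43610 = n43525 := d44_1 D43610 F200468 F197592 (iv F194660) (iv F198033)
def n43611 : Q := act 5 n43055
theorem D43611 : act 5 n43055 = n43611 := rfl
theorem F200840 : act 0 n43611 = n43435 := d4_1 D43611 (iv D43435) (iv F198042)
theorem F200841 : act 1 n43611 = n43474 := d12_1 D43611 F200320 (iv F198043)
theorem F200842 : act 2 n43611 = n43529 := d19_1 D43611 F200481 (iv F198044)
theorem F200843 : act 3 n43611 = n43057 := d25_1 D43611 (iv D43057) (iv F198045)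
theorem F200844 : act 6 n43611 = n43471 := d35_2 D43055 D43611 (iv D43471) F197359 (iv F194296)
theorem F200845 : act 8 n43611 = n43611 := d37_2 (iv F198047) D43611 (iv D43611) F198047 F194329
def n43612 : Q := act 7 n43055
theorem D43612 : act 7 n43055 = n43612 := rfl
theorem F200846 : act 0 n43612 = n43436 := d6_1 D43612 (iv D43436) (iv F198042)
theorem F200847 : act 1 n43612 = n43494 := d14_1 D43612 (iv D43494) (iv F198043)
theorem F200848 : act 2 n43612 = n43530 := d21_1 D43612 (iv D43530) (iv F198044)
theorem F200849 : act 3 n43612 = n43058 := d27_1 D43612 (iv D43058) (iv F198045)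
theorem F200850 : act 4 n43612 = n43422 := d32_1 D43612 F200132 (iv F198046)
theorem F200851 : act 6 n43612 = n43083 := d39_1 D43612 (iv D43083) (iv D42305) (iv F194297) D43055
theorem F200852 : act 8 n43612 = n43061 := d42_2 (iv F198047) D43612 (iv D43061)
def n43613 : Q := act 9 n43055
theorem D43613 : act 9 n43055 = n43613 := rfl
theorem F200853 : act 0 n43613 = n43437 := d8_1 D43613 (iv D43437) (iv F198042)
theorem F200854 : act 1 n43613 = n43495 := d16_1 D43613 (iv D43495) (iv F198043)
theorem F200855 : act 2 n43613 = n43525 := d23_1 D43613 F200468 (iv F198044)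
theorem F200856 : act 3 n43613 = n43059 := d29_1 D43613 (iv D43059) (iv F198045)
theorem F200857 : act 4 n43613 = n43443 := d34_1 D43613 (iv D43443) (iv F198046)
theorem F200858 : act 6 n43613 = n43056 := d41_1 D43613 (iv D43056) D43055
theorem F200859 : act 8 n43613 = n43512 := d44_1 D43613 (iv D43512) F197497 (iv F194330) (iv F198047)
def n43614 : Q := act 7 n43057
theorem D43614 : act 7 n43057 = n43614 := rfl
theorem F200860 : act 0 n43614 = n43438 := d6_1 D43614 (iv D43438) (iv F198056)
theorem F200861 : act 1 n43614 = n43566 := d14_1 D43614 F200575 (iv F198057)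
theorem F200862 : act 2 n43614 = n43062 := d21_1 D43614 (iv D43062) (iv F198058)
theorem F200863 : act 4 n43614 = n43505 := d32_1 D43614 (iv F200658) F200656
theorem F200864 : act 5 n43614 = n43058 := d36_1 D43614 (iv D43058) D43057
theorem F200865 : act 6 n43614 = n43490 := d39_1 D43614 (iv D43490) (iv F199624) F199625 (iv F198059)
theorem F200866 : act 8 n43614 = n43614 := d42_2 F198060 D43614 (iv D43614)
def n43615 : Q := act 9 n43057
theorem D43615 : act 9 n43057 = n43615 := rfl
theorem F200867 : act 0 n43615 = n43439 := d8_1 D43615 (iv D43439) (iv F198056)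
theorem F200868 : act 1 n43615 = n43564 := d16_1 D43615 F200572 (iv F198057)
theorem F200869 : act 2 n43615 = n43063 := d23_1 D43615 (iv D43063) (iv F198058)
theorem F200870 : act 5 n43615 = n43059 := d38_1 D43615 (iv D43059) D43057
theorem F200871 : act 6 n43615 = n43557 := d41_1 D43615 (iv D43557) (iv F198059)
def n43616 : Q := act 9 n43058
theorem D43616 : act 9 n43058 = n43616 := rfl
theorem F200872 : act 0 n43616 = n43440 := d8_1 D43616 (iv D43440) (iv F198061)
theorem F200873 : act 1 n43616 = n43563 := d16_1 D43616 F200571 (iv F198062)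
theorem F200874 : act 2 n43616 = n43064 := d23_1 D43616 (iv D43064) (iv F198063)
theorem F200875 : act 4 n43616 = n43060 := d34_1 D43616 (iv D43060) (iv F198064)
theorem F200876 : act 6 n43616 = n43087 := d41_1 D43616 (iv D43087) (iv F198065)
theorem F200877 : act 7 n43616 = n43059 := d43_1 D43616 (iv D43059) D43058
theorem F200878 : act 8 n43616 = n43513 := d44_1 D43616 (iv D43513) F197506 (iv F194337) (iv F198066)
def n43617 : Q := act 6 n43062
theorem D43617 : act 6 n43062 = n43617 := rfl
theorem F200879 : act 0 n43617 = n43430 := d5_1 D43617 F200166 (iv F198089)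
theorem F200880 : act 1 n43617 = n43362 := d13_1 D43617 F199916 (iv F198090)
theorem F200881 : act 2 n43617 = n43490 := d20_1 D43617 (iv F200865) F200862
theorem F200882 : act 3 n43617 = n43571 := d26_1 D43617 (iv D43571) (iv F198091)
theorem F200883 : act 4 n43617 = n43499 := d31_1 D43617 (iv F200765) F200763
theorem F200884 : act 5 n43617 = n43096 := d35_1 D43617 (iv D43096) F194549 (iv F194347) (iv F198092)
theorem F200885 : act 7 n43617 = n43482 := d39_2 D43062 D43617 F200344 (iv D42992) (iv F194341)
theorem F200886 : act 8 n43617 = n43617 := d40_2 F198093 D43617 (iv D43617)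
def n43618 : Q := act 9 n43062
theorem D43618 : act 9 n43062 = n43618 := rfl
theorem F200887 : act 0 n43618 = n43441 := d8_1 D43618 (iv D43441) (iv F198089)
theorem F200888 : act 1 n43618 = n43386 := d16_1 D43618 (iv D43386) (iv F198090)
theorem F200889 : act 3 n43618 = n43572 := d29_1 D43618 (iv D43572) (iv F198091)
theorem F200890 : act 5 n43618 = n43064 := d38_1 D43618 (iv D43064) (iv F198092)
theorem F200891 : act 7 n43618 = n43063 := d43_1 D43618 (iv D43063) D43062
def n43619 : Q := act 8 n43063
theorem D43619 : act 8 n43063 = n43619 := rfl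
theorem F200892 : act 0 n43619 = n43442 := d7_1 D43619 (iv D43442) (iv F198094)
theorem F200893 : act 1 n43619 = n43390 := d15_1 D43619 (iv D43390) (iv F198095)
theorem F200894 : act 3 n43619 = n43573 := d28_1 D43619 (iv D43573) (iv F198096)
theorem F200895 : act 6 n43619 = n43562 := d40_1 D43619 (iv D43562) (iv F198098)
theorem F200896 : act 9 n43619 = n43619 := d44_2 D43063 D43619 (iv D43619) (iv D43063) F194342
def n43620 : Q := act 8 n43064
theorem D43620 : act 8 n43064 = n43620 := rfl
theorem F200897 : act 0 n43620 = n43294 := d7_1 D43620 F199603 (iv F198099)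
theorem F200898 : act 1 n43620 = n43285 := d15_1 D43620 F199561 (iv F198100)
theorem F200899 : act 2 n43620 = n43513 := d22_1 D43620 (iv F200878) F200874
theorem F200900 : act 3 n43620 = n43289 := d28_1 D43620 F199582 (iv F198101)
theorem F200901 : act 4 n43620 = n43066 := d33_1 D43620 (iv D43066) (iv F198102)
theorem F200902 : act 6 n43620 = n43098 := d40_1 D43620 (iv D43098) (iv F198103)
theorem F200903 : act 7 n43620 = n43065 := d42_1 D43620 (iv D43065) (iv F198104)
theorem F200904 : act 9 n43620 = n43067 := d44_2 D43064 D43620 (iv D43067) (iv D42291) (iv F194348)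
def n43621 : Q := act 5 n43065
theorem D43621 : act 5 n43065 = n43621 := rfl
theorem F200905 : act 0 n43621 = n43327 := d4_1 D43621 F199760 (iv F198105)
theorem F200906 : act 1 n43621 = n43301 := d12_1 D43621 F199646 (iv F198106)
theorem F200907 : act 2 n43621 = n43389 := d19_1 D43621 F200028 (iv F198107)
theorem F200908 : act 3 n43621 = n43325 := d25_1 D43621 F199754 (iv F198108)
theorem F200909 : act 4 n43621 = n43283 := d30_1 D43621 F199547 F196153 F194373 (iv F198109)
theorem F200910 : act 6 n43621 = n43382 := d35_2 (iv F198110) D43621 F200000 F196910 F194361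
theorem F200911 : act 9 n43621 = n43068 := d38_2 (iv F198111) D43621 (iv D43068)
def n43622 : Q := act 5 n43067
theorem D43622 : act 5 n43067 = n43622 := rfl
theorem F200912 : act 0 n43622 = n43291 := d4_1 D43622 F199591 (iv F198120)
theorem F200913 : act 1 n43622 = n43284 := d12_1 D43622 (iv D43284) (iv F198121)
theorem F200914 : act 2 n43622 = n43388 := d19_1 D43622 F200025 (iv F198122)
theorem F200915 : act 3 n43622 = n43288 := d25_1 D43622 (iv D43288) (iv F198123)
theorem F200916 : act 4 n43622 = n43270 := d30_1 D43622 (iv D43270) F196000 (iv F194392) (iv F198124)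
theorem F200917 : act 6 n43622 = n43324 := d35_2 (iv F198125) D43622 F199751 F196437 (iv F194600)
theorem F200918 : act 7 n43622 = n43068 := d36_2 (iv F198126) D43622 (iv D43068)
theorem F200919 : act 8 n43622 = n43622 := d37_2 D43067 D43622 (iv D43622) (iv D43067) F194379
def n43623 : Q := act 5 n43069
theorem D43623 : act 5 n43069 = n43623 := rfl
theorem F200920 : act 0 n43623 = n43446 := d4_1 D43623 (iv D43446) (iv F198134)
theorem F200921 : act 1 n43623 = n43529 := d12_1 D43623 F200481 (iv F198135)
theorem F200922 : act 2 n43623 = n43465 := d19_1 D43623 (iv D43465) (iv F198136)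
theorem F200923 : act 3 n43623 = n43503 := d25_1 D43623 (iv D43503) (iv F198137)
theorem F200924 : act 4 n43623 = n43355 := d30_1 D43623 (iv D43355) F196627 (iv F194406) (iv F198138)
theorem F200925 : act 6 n43623 = n43076 := d35_2 D43069 D43623 (iv D43076) (iv D42298) (iv F194399)
theorem F200926 : act 8 n43623 = n43623 := d37_2 (iv F198139) D43623 (iv D43623) F198139 F194666
def n43624 : Q := act 7 n43069
theorem D43624 : act 7 n43069 = n43624 := rfl
theorem F200927 : act 0 n43624 = n43447 := d6_1 D43624 (iv D43447) (iv F198134)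
theorem F200928 : act 1 n43624 = n43530 := d14_1 D43624 (iv D43530) (iv F198135)
theorem F200929 : act 2 n43624 = n43466 := d21_1 D43624 (iv D43466) (iv F198136)
theorem F200930 : act 3 n43624 = n43214 := d27_1 D43624 F199103 (iv F198137)
theorem F200931 : act 4 n43624 = n43071 := d32_1 D43624 (iv D43071) (iv F198138)
theorem F200932 : act 6 n43624 = n43363 := d39_1 D43624 F199920 F196822 (iv F194400) D43069
theorem F200933 : act 8 n43624 = n43104 := d42_2 (iv F198139) D43624 (iv D43104)
def n43625 : Q := act 9 n43069
theorem D43625 : act 9 n43069 = n43625 := rfl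
theorem F200934 : act 0 n43625 = n43448 := d8_1 D43625 (iv D43448) (iv F198134)
theorem F200935 : act 1 n43625 = n43525 := d16_1 D43625 F200468 (iv F198135)
theorem F200936 : act 2 n43625 = n43467 := d23_1 D43625 (iv D43467) (iv F198136)
theorem F200937 : act 3 n43625 = n43502 := d29_1 D43625 F200406 (iv F198137)
theorem F200938 : act 4 n43625 = n43072 := d34_1 D43625 (iv D43072) (iv F198138)
theorem F200939 : act 6 n43625 = n43070 := d41_1 D43625 (iv D43070) D43069
theorem F200940 : act 8 n43625 = n43498 := d44_1 D43625 (iv D43498) F197441 (iv F194667) (iv F198139)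
def n43626 : Q := act 9 n43071
theorem D43626 : act 9 n43071 = n43626 := rfl
theorem F200941 : act 0 n43626 = n43449 := d8_1 D43626 (iv D43449) (iv F198148)
theorem F200942 : act 1 n43626 = n43535 := d16_1 D43626 (iv D43535) (iv F198149)
theorem F200943 : act 2 n43626 = n43537 := d23_1 D43626 (iv D43537) (iv F198150)
theorem F200944 : act 3 n43626 = n43365 := d29_1 D43626 F199928 (iv F198151)
theorem F200945 : act 5 n43626 = n43377 := d38_1 D43626 (iv D43377) (iv F198152)
theorem F200946 : act 7 n43626 = n43072 := d43_1 D43626 (iv D43072) D43071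
def n43627 : Q := act 8 n43072
theorem D43627 : act 8 n43072 = n43627 := rfl
theorem F200947 : act 0 n43627 = n43450 := d7_1 D43627 (iv D43450) (iv F198154)
theorem F200948 : act 1 n43627 = n43372 := d15_1 D43627 F199962 (iv F198155)
theorem F200949 : act 2 n43627 = n43084 := d22_1 D43627 F198235 (iv F198156)
theorem F200950 : act 3 n43627 = n43091 := d28_1 D43627 F198280 (iv F198157)
theorem F200951 : act 4 n43627 = n43498 := d33_1 D43627 (iv F200940) F200938
theorem F200952 : act 6 n43627 = n43073 := d40_1 D43627 (iv D43073) (iv F198159)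
theorem F200953 : act 9 n43627 = n43081 := d44_2 D43072 D43627 F198220 F194504 (iv F194407)
def n43628 : Q := act 5 n43074
theorem D43628 : act 5 n43074 = n43628 := rfl
theorem F200954 : act 0 n43628 = n43451 := d4_1 D43628 (iv D43451) (iv F198168)
theorem F200955 : act 1 n43628 = n43527 := d12_1 D43628 (iv D43527) (iv F198169)
theorem F200956 : act 2 n43628 = n43496 := d19_1 D43628 (iv D43496) (iv F198170)
theorem F200957 : act 3 n43628 = n43076 := d25_1 D43628 (iv D43076) (iv F198171)
theorem F200958 : act 4 n43628 = n43412 := d30_1 D43628 (iv D43412) F198226 (iv D43082) (iv F198172)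
theorem F200959 : act 6 n43628 = n43503 := d35_2 D43074 D43628 (iv D43503) F197473 (iv F194417)
theorem F200960 : act 8 n43628 = n43628 := d37_2 (iv F198173) D43628 (iv D43628) F198173 F194450
def n43629 : Q := act 7 n43074
theorem D43629 : act 7 n43074 = n43629 := rfl
theorem F200961 : act 0 n43629 = n43452 := d6_1 D43629 (iv D43452) (iv F198168)
theorem F200962 : act 1 n43629 = n43526 := d14_1 D43629 F200473 (iv F198169)
theorem F200963 : act 2 n43629 = n43497 := d21_1 D43629 (iv D43497) (iv F198170)
theorem F200964 : act 3 n43629 = n43077 := d27_1 D43629 (iv D43077) (iv F198171)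
theorem F200965 : act 4 n43629 = n43083 := d32_1 D43629 (iv D43083) (iv F198172)
theorem F200966 : act 6 n43629 = n43422 := d39_1 D43629 F200132 F197152 (iv F194418) D43074
theorem F200967 : act 8 n43629 = n43080 := d42_2 (iv F198173) D43629 (iv D43080)
def n43630 : Q := act 9 n43074
theorem D43630 : act 9 n43074 = n43630 := rfl
theorem F200968 : act 0 n43630 = n43453 := d8_1 D43630 (iv D43453) (iv F198168)
theorem F200969 : act 1 n43630 = n43519 := d16_1 D43630 F200455 (iv F198169)
theorem F200970 : act 2 n43630 = n43498 := d23_1 D43630 (iv D43498) (iv F198170)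
theorem F200971 : act 3 n43630 = n43078 := d29_1 D43630 (iv D43078) (iv F198171)
theorem F200972 : act 4 n43630 = n43084 := d34_1 D43630 (iv D43084) (iv F198172)
theorem F200973 : act 6 n43630 = n43075 := d41_1 D43630 (iv D43075) D43074
theorem F200974 : act 8 n43630 = n43467 := d44_1 D43630 (iv D43467) F197320 (iv F194451) (iv F198173)
def n43631 : Q := act 7 n43076
theorem D43631 : act 7 n43076 = n43631 := rfl
theorem F200975 : act 0 n43631 = n43454 := d6_1 D43631 (iv D43454) (iv F198182)
theorem F200976 : act 1 n43631 = n43528 := d14_1 D43631 F200478 (iv F198183)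
theorem F200977 : act 2 n43631 = n43391 := d21_1 D43631 F200033 (iv F198184)
theorem F200978 : act 4 n43631 = n43378 := d32_1 D43631 (iv D43378) (iv F198185)
theorem F200979 : act 5 n43631 = n43077 := d36_1 D43631 (iv D43077) D43076
theorem F200980 : act 8 n43631 = n43631 := d42_2 F198186 D43631 (iv D43631)
def n43632 : Q := act 9 n43076
theorem D43632 : act 9 n43076 = n43632 := rfl
theorem F200981 : act 0 n43632 = n43455 := d8_1 D43632 (iv D43455) (iv F198182)
theorem F200982 : act 1 n43632 = n43524 := d16_1 D43632 F200465 (iv F198183)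
theorem F200983 : act 2 n43632 = n43504 := d23_1 D43632 (iv D43504) (iv F198184)
theorem F200984 : act 4 n43632 = n43379 := d34_1 D43632 (iv D43379) (iv F198185)
theorem F200985 : act 5 n43632 = n43078 := d38_1 D43632 (iv D43078) D43076
def n43633 : Q := act 9 n43077
theorem D43633 : act 9 n43077 = n43633 := rfl
theorem F200986 : act 0 n43633 = n43456 := d8_1 D43633 (iv D43456) (iv F198187)
theorem F200987 : act 1 n43633 = n43523 := d16_1 D43633 F200464 (iv F198188)
theorem F200988 : act 2 n43633 = n43392 := d23_1 D43633 (iv D43392) (iv F198189)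
theorem F200989 : act 4 n43633 = n43079 := d34_1 D43633 (iv D43079) (iv F198190)
theorem F200990 : act 6 n43633 = n43424 := d41_1 D43633 (iv D43424) (iv F198191)
theorem F200991 : act 7 n43633 = n43078 := d43_1 D43633 (iv D43078) D43077
theorem F200992 : act 8 n43633 = n43470 := d44_1 D43633 (iv D43470) F197333 (iv F194458) (iv F198192)
def n43634 : Q := act 5 n43081
theorem D43634 : act 5 n43081 = n43634 := rfl
theorem F200993 : act 0 n43634 = n43312 := d4_1 D43634 F199693 (iv F198215)
theorem F200994 : act 1 n43634 = n43338 := d12_1 D43634 F199803 (iv F198216)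
theorem F200995 : act 2 n43634 = n43082 := d19_1 D43634 (iv D43082) (iv F198217)
theorem F200996 : act 3 n43634 = n43089 := d25_1 D43634 (iv D43089) (iv F198218)
theorem F200997 : act 6 n43634 = n43279 := d35_2 D43081 D43634 F199527 F196916 (iv F194463)
theorem F200998 : act 8 n43634 = n43100 := d37_2 (iv F198220) D43634 (iv D43100) F194607 (iv F194503)
theorem F200999 : act 4 n43410 = n43634 := d33_3 F200998 (iv F198340) (iv F200095)
def n43635 : Q := act 7 n43081
theorem D43635 : act 7 n43081 = n43635 := rfl
theorem F201000 : act 0 n43635 = n43457 := d6_1 D43635 (iv D43457) (iv F198215)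
theorem F201001 : act 1 n43635 = n43363 := d14_1 D43635 F199920 (iv F198216)
theorem F201002 : act 2 n43635 = n43083 := d21_1 D43635 (iv D43083) (iv F198217)
theorem F201003 : act 3 n43635 = n43090 := d27_1 D43635 (iv D43090) (iv F198218)
theorem F201004 : act 4 n43635 = n43497 := d32_1 D43635 (iv D43497) (iv F198219)
theorem F201005 : act 6 n43635 = n43530 := d39_1 D43635 (iv D43530) (iv D42938) (iv F194464) D43081
theorem F201006 : act 8 n43635 = n43088 := d42_2 (iv F198220) D43635 (iv D43088)
def n43636 : Q := act 7 n43082
theorem D43636 : act 7 n43082 = n43636 := rfl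
theorem F201007 : act 0 n43636 = n43314 := d6_1 D43636 (iv D43314) (iv F198221)
theorem F201008 : act 1 n43636 = n43384 := d14_1 D43636 (iv D43384) (iv F198222)
theorem F201009 : act 3 n43636 = n43085 := d27_1 D43636 (iv D43085) (iv F198223)
theorem F201010 : act 4 n43636 = n43413 := d32_1 D43636 (iv D43413) F198226
theorem F201011 : act 5 n43636 = n43083 := d36_1 D43636 (iv D43083) D43082
theorem F201012 : act 6 n43636 = n43488 := d39_1 D43636 (iv D43488) (iv D42880) (iv F196118) (iv F198224)
theorem F201013 : act 8 n43636 = n43101 := d42_2 (iv F198225) D43636 (iv D43101)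
def n43637 : Q := act 9 n43082
theorem D43637 : act 9 n43082 = n43637 := rfl
theorem F201014 : act 0 n43637 = n43315 := d8_1 D43637 (iv D43315) (iv F198221)
theorem F201015 : act 1 n43637 = n43385 := d16_1 D43637 (iv D43385) (iv F198222)
theorem F201016 : act 3 n43637 = n43086 := d29_1 D43637 (iv D43086) (iv F198223)
theorem F201017 : act 4 n43637 = n43414 := d34_1 D43637 (iv D43414) F198226
theorem F201018 : act 5 n43637 = n43084 := d38_1 D43637 (iv D43084) D43082
theorem F201019 : act 6 n43637 = n43280 := d41_1 D43637 (iv D43280) (iv F198224)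
theorem F201020 : act 8 n43637 = n43309 := d44_1 D43637 (iv D43309) F196344 (iv F194613) (iv F198225)
def n43638 : Q := act 9 n43083
theorem D43638 : act 9 n43083 = n43638 := rfl
theorem F201021 : act 0 n43638 = n43458 := d8_1 D43638 (iv D43458) (iv F198227)
theorem F201022 : act 1 n43638 = n43531 := d16_1 D43638 (iv D43531) (iv F198228)
theorem F201023 : act 3 n43638 = n43087 := d29_1 D43638 (iv D43087) (iv F198229)
theorem F201024 : act 7 n43638 = n43084 := d43_1 D43638 (iv D43084) D43083
theorem F201025 : act 8 n43638 = n43537 := d44_1 D43638 (iv D43537) F197630 (iv F194509) (iv F198230)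
def n43639 : Q := act 9 n43085
theorem D43639 : act 9 n43085 = n43639 := rfl
theorem F201026 : act 0 n43639 = n43316 := d8_1 D43639 (iv D43316) (iv F198236)
theorem F201027 : act 1 n43639 = n43459 := d16_1 D43639 F200249 (iv F198237)
theorem F201028 : act 2 n43639 = n43097 := d23_1 D43639 (iv D43097) (iv F198238)
theorem F201029 : act 4 n43639 = n43155 := d34_1 D43639 F198714 (iv F198239)
theorem F201030 : act 5 n43639 = n43087 := d38_1 D43639 (iv D43087) (iv F198240)
theorem F201031 : act 6 n43639 = n43492 := d41_1 D43639 (iv D43492) (iv F198241)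
theorem F201032 : act 7 n43639 = n43086 := d43_1 D43639 (iv D43086) D43085
theorem F201033 : act 8 n43639 = n43153 := d44_1 D43639 (iv D43153) F195033 (iv F194628) (iv F198242)
def n43640 : Q := act 9 n43089
theorem D43640 : act 9 n43089 = n43640 := rfl
theorem F201034 : act 0 n43640 = n43445 := d8_1 D43640 (iv D43445) (iv F198264)
theorem F201035 : act 1 n43640 = n43344 := d16_1 D43640 (iv D43344) (iv F198265)
theorem F201036 : act 2 n43640 = n43093 := d23_1 D43640 (iv D43093) (iv F198266)
theorem F201037 : act 5 n43640 = n43091 := d38_1 D43640 (iv D43091) D43089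
theorem F201038 : act 6 n43640 = n43568 := d41_1 D43640 (iv D43568) (iv F198267)
theorem F201039 : act 8 n43640 = n43313 := d44_1 D43640 (iv D43313) F196363 (iv F194640) (iv F198268)
def n43641 : Q := act 9 n43090
theorem D43641 : act 9 n43090 = n43641 := rfl
theorem F201040 : act 0 n43641 = n43460 := d8_1 D43641 (iv D43460) (iv F198269)
theorem F201041 : act 1 n43641 = n43364 := d16_1 D43641 (iv D43364) (iv F198270)
theorem F201042 : act 2 n43641 = n43094 := d23_1 D43641 (iv D43094) (iv F198271)
theorem F201043 : act 4 n43641 = n43185 := d34_1 D43641 (iv D43185) (iv F198272)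
theorem F201044 : act 6 n43641 = n43534 := d41_1 D43641 (iv D43534) (iv F198273)
theorem F201045 : act 7 n43641 = n43091 := d43_1 D43641 (iv D43091) D43090
theorem F201046 : act 8 n43641 = n43365 := d44_1 D43641 F199928 F196712 (iv F194580) (iv F198274)
def n43642 : Q := act 6 n43092
theorem D43642 : act 6 n43092 = n43642 := rfl
theorem F201047 : act 0 n43642 = n43428 := d5_1 D43642 (iv D43428) (iv F198281)
theorem F201048 : act 1 n43642 = n43192 := d13_1 D43642 (iv D43192) (iv F198282)
theorem F201049 : act 3 n43642 = n43096 := d26_1 D43642 (iv D43096) (iv F198283)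
theorem F201050 : act 4 n43642 = n43352 := d31_1 D43642 F199873 (iv F198284)
theorem F201051 : act 5 n43642 = n43571 := d35_1 D43642 (iv D43571) F197758 (iv F194531) (iv F198285)
theorem F201052 : act 7 n43642 = n43480 := d39_2 D43092 D43642 (iv D43480) F197379 (iv F194525)
theorem F201053 : act 8 n43642 = n43102 := d40_2 (iv F198286) D43642 (iv D43102)
def n43643 : Q := act 9 n43092
theorem D43643 : act 9 n43092 = n43643 := rfl
theorem F201054 : act 0 n43643 = n43429 := d8_1 D43643 (iv D43429) (iv F198281)
theorem F201055 : act 1 n43643 = n43193 := d16_1 D43643 (iv D43193) (iv F198282)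
theorem F201056 : act 3 n43643 = n43097 := d29_1 D43643 (iv D43097) (iv F198283)
theorem F201057 : act 4 n43643 = n43347 := d34_1 D43643 F199848 (iv F198284)
theorem F201058 : act 5 n43643 = n43094 := d38_1 D43643 (iv D43094) (iv F198285)
theorem F201059 : act 7 n43643 = n43093 := d43_1 D43643 (iv D43093) D43092
theorem F201060 : act 8 n43643 = n43160 := d44_1 D43643 (iv D43160) F195075 (iv F194646) (iv F198286)
def n43644 : Q := act 8 n43094
theorem D43644 : act 8 n43094 = n43644 := rfl
theorem F201061 : act 0 n43644 = n43219 := d7_1 D43644 F199141 (iv F198293)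
theorem F201062 : act 1 n43644 = n43175 := d15_1 D43644 F198842 (iv F198294)
theorem F201063 : act 2 n43644 = n43365 := d22_1 D43644 (iv F201046) F201042
theorem F201064 : act 3 n43644 = n43098 := d28_1 D43644 (iv D43098) (iv F198295)
theorem F201065 : act 4 n43644 = n43173 := d33_1 D43644 F198825 (iv F198296)
theorem F201066 : act 5 n43644 = n43376 := d37_1 D43644 (iv D43376) (iv F198740) (iv F201060) F201058
theorem F201067 : act 6 n43644 = n43289 := d40_1 D43644 F199582 (iv F198297)
theorem F201068 : act 7 n43644 = n43095 := d42_1 D43644 (iv D43095) (iv F198298)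
theorem F201069 : act 9 n43644 = n43099 := d44_2 D43094 D43644 (iv D43099) (iv D42325) (iv F194532)
def n43645 : Q := act 9 n43096
theorem D43645 : act 9 n43096 = n43645 := rfl
theorem F201070 : act 0 n43645 = n43431 := d8_1 D43645 (iv D43431) (iv F198307)
theorem F201071 : act 1 n43645 = n43361 := d16_1 D43645 F199914 (iv F198308)
theorem F201072 : act 2 n43645 = n43492 := d23_1 D43645 (iv D43492) (iv F198309)
theorem F201073 : act 4 n43645 = n43165 := d34_1 D43645 F198771 (iv F198310)
theorem F201074 : act 6 n43645 = n43097 := d41_1 D43645 (iv D43097) D43096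
theorem F201075 : act 7 n43645 = n43483 := d43_1 D43645 (iv D43483) (iv F198311)
theorem F201076 : act 8 n43645 = n43163 := d44_1 D43645 (iv D43163) F195079 (iv F194653) (iv F198312)
def n43646 : Q := act 9 n43105
theorem D43646 : act 9 n43105 = n43646 := rfl
theorem F201077 : act 0 n43646 = n43135 := d8_1 D43646 (iv D43135) (iv F198371)
theorem F201078 : act 1 n43646 = n43539 := d16_1 D43646 (iv D43539) (iv F198372)
theorem F201079 : act 2 n43646 = n43283 := d23_1 D43646 (iv D43283) (iv F198373)
theorem F201080 : act 3 n43646 = n43334 := d29_1 D43646 (iv D43334) (iv F198374)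
theorem F201081 : act 4 n43646 = n43389 := d34_1 D43646 (iv D43389) (iv F198375)
theorem F201082 : act 5 n43646 = n43106 := d38_1 D43646 (iv D43106) D43105
theorem F201083 : act 6 n43646 = n43235 := d41_1 D43646 (iv D43235) (iv F198376)
theorem F201084 : act 7 n43646 = n43538 := d43_1 D43646 (iv D43538) (iv F198377)
def n43647 : Q := act 4 n43107
theorem D43647 : act 4 n43107 = n43647 := rfl
theorem F201085 : act 0 n43647 = n43388 := d3_1 D43647 F200024 (iv F198387)
theorem F201086 : act 1 n43647 = n43490 := d11_1 D43647 F200365 (iv F198388)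
theorem F201087 : act 2 n43647 = n43291 := d18_1 D43647 (iv D43291) (iv F198389)
theorem F201088 : act 5 n43647 = n43109 := d30_2 D43107 D43647 (iv D43109) (iv D42344) (iv F194710)
theorem F201089 : act 7 n43647 = n43134 := d32_2 (iv F198391) D43647 (iv D43134)
theorem F201090 : act 8 n43647 = n43647 := d33_2 F198392 D43647 (iv D43647)
theorem F201091 : act 6 n43566 = n43647 := d39_5 F201089 F198576 (iv F199610) F199609 (iv F200575)
def n43648 : Q := act 6 n43107
theorem D43648 : act 6 n43107 = n43648 := rfl
theorem F201092 : act 0 n43648 = n43320 := d5_1 D43648 F199729 (iv F198387)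
theorem F201093 : act 1 n43648 = n43505 := d13_1 D43648 (iv D43505) (iv F198388)
theorem F201094 : act 2 n43648 = n43292 := d20_1 D43648 (iv D43292) (iv F198389)
theorem F201095 : act 3 n43648 = n43394 := d26_1 D43648 (iv D43394) (iv F198390)
theorem F201096 : act 4 n43648 = n43566 := d31_1 D43648 F201091 (iv D43647)
theorem F201097 : act 5 n43648 = n43262 := d35_1 D43648 F199412 F195886 (iv F194711) D43107
theorem F201098 : act 7 n43648 = n43520 := d39_2 (iv F198391) D43648 (iv D43520) (iv D42927) (iv F194886)
theorem F201099 : act 8 n43648 = n43648 := d40_2 F198392 D43648 (iv D43648)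
def n43649 : Q := act 9 n43107
theorem D43649 : act 9 n43107 = n43649 := rfl
theorem F201100 : act 0 n43649 = n43538 := d8_1 D43649 (iv D43538) (iv F198387)
theorem F201101 : act 1 n43649 = n43506 := d16_1 D43649 (iv D43506) (iv F198388)
theorem F201102 : act 2 n43649 = n43293 := d23_1 D43649 (iv D43293) (iv F198389)
theorem F201103 : act 3 n43649 = n43395 := d29_1 D43649 (iv D43395) (iv F198390)
theorem F201104 : act 5 n43649 = n43108 := d38_1 D43649 (iv D43108) D43107
theorem F201105 : act 7 n43649 = n43135 := d43_1 D43649 (iv D43135) (iv F198391)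
def n43650 : Q := act 3 n43109
theorem D43650 : act 3 n43109 = n43650 := rfl
theorem F201106 : act 0 n43650 = n43511 := d2_1 D43650 F200423 (iv F198401)
theorem F201107 : act 1 n43650 = n43488 := d10_1 D43650 F200359 (iv F198402)
theorem F201108 : act 2 n43650 = n43433 := d17_1 D43650 F200177 (iv F199131) F199132 (iv F198403)
theorem F201109 : act 4 n43650 = n43112 := d24_2 D43109 D43650 (iv D43112) (iv D42347) (iv F194716)
theorem F201110 : act 6 n43650 = n43384 := d26_2 (iv F198404) D43650 F200010
theorem F201111 : act 7 n43650 = n43136 := d27_2 (iv F198405) D43650 (iv D43136)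
theorem F201112 : act 8 n43650 = n43111 := d28_2 (iv F198406) D43650 (iv D43111)
def n43651 : Q := act 9 n43109
theorem D43651 : act 9 n43109 = n43651 := rfl
theorem F201113 : act 0 n43651 = n43513 := d8_1 D43651 (iv D43513) (iv F198401)
theorem F201114 : act 1 n43651 = n43492 := d16_1 D43651 (iv D43492) (iv F198402)
theorem F201115 : act 2 n43651 = n43294 := d23_1 D43651 (iv D43294) (iv F198403)
theorem F201116 : act 4 n43651 = n43110 := d34_1 D43651 (iv D43110) D43109
theorem F201117 : act 6 n43651 = n43459 := d41_1 D43651 F200249 (iv F198404)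
theorem F201118 : act 7 n43651 = n43137 := d43_1 D43651 (iv D43137) (iv F198405)
theorem F201119 : act 8 n43651 = n43440 := d44_1 D43651 (iv D43440) F197133 (iv F194733) (iv F198406)
def n43652 : Q := act 2 n43112
theorem D43652 : act 2 n43112 = n43652 := rfl
theorem F201120 : act 0 n43652 = n43363 := d1_1 D43652 F199918 (iv F198423)
theorem F201121 : act 3 n43652 = n43122 := d17_2 D43112 D43652 (iv D43122) (iv D42357) (iv F194736)
theorem F201122 : act 4 n43652 = n43433 := d18_2 F201109 D43652 (iv F201108)
theorem F201123 : act 5 n43652 = n43399 := d19_2 (iv F198425) D43652 (iv D43399)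
theorem F201124 : act 7 n43652 = n43138 := d21_2 (iv F198426) D43652 (iv D43138)
theorem F201125 : act 8 n43652 = n43117 := d22_2 (iv F198427) D43652 (iv D43117)
theorem F201126 : act 1 n43408 = n43652 := d15_3 F201125 (iv F198461) D43408
theorem F201127 : act 6 n43447 = n43652 := d40_3 F201125 (iv F198462) (iv F200214)
def n43653 : Q := act 6 n43112
theorem D43653 : act 6 n43112 = n43653 := rfl
theorem F201128 : act 0 n43653 = n43466 := d5_1 D43653 F200286 (iv F198423)
theorem F201129 : act 1 n43653 = n43413 := d13_1 D43653 F200101 (iv F198424)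
theorem F201130 : act 2 n43653 = n43447 := d20_1 D43653 F201127 (iv D43652)
theorem F201131 : act 3 n43653 = n43113 := d26_1 D43653 (iv D43113) D43112
theorem F201132 : act 4 n43653 = n43384 := d31_1 D43653 (iv F201110) F201109
theorem F201133 : act 7 n43653 = n43168 := d39_2 (iv F198426) D43653 (iv D43168) F195130 (iv F194915)
theorem F201134 : act 8 n43653 = n43118 := d40_2 (iv F198427) D43653 (iv D43118)
def n43654 : Q := act 9 n43112
theorem D43654 : act 9 n43112 = n43654 := rfl
theorem F201135 : act 0 n43654 = n43514 := d8_1 D43654 (iv D43514) (iv F198423)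
theorem F201136 : act 1 n43654 = n43553 := d16_1 D43654 (iv D43553) (iv F198424)
theorem F201137 : act 3 n43654 = n43114 := d29_1 D43654 (iv D43114) D43112
theorem F201138 : act 5 n43654 = n43401 := d38_1 D43654 (iv D43401) (iv F198425)
theorem F201139 : act 7 n43654 = n43139 := d43_1 D43654 (iv D43139) (iv F198426)
def n43655 : Q := act 5 n43113
theorem D43655 : act 5 n43113 = n43655 := rfl
theorem F201140 : act 0 n43655 = n43468 := d4_1 D43655 F200295 (iv F198428)
theorem F201141 : act 1 n43655 = n43416 := d12_1 D43655 F200111 (iv F198429)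
theorem F201142 : act 2 n43655 = n43125 := d19_1 D43655 (iv D43125) (iv F198430)
theorem F201143 : act 4 n43655 = n43353 := d30_1 D43655 (iv D43353) F196604 (iv F194744) (iv F198431)
theorem F201144 : act 6 n43655 = n43402 := d35_2 D43113 D43655 (iv D43402) (iv D42765) (iv F194737)
theorem F201145 : act 7 n43655 = n43170 := d36_2 (iv F198432) D43655 (iv D43170)
theorem F201146 : act 8 n43655 = n43655 := d37_2 (iv F198433) D43655 (iv D43655) F198433 F194760
def n43656 : Q := act 9 n43113
theorem D43656 : act 9 n43113 = n43656 := rfl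
theorem F201147 : act 0 n43656 = n43470 := d8_1 D43656 (iv D43470) (iv F198428)
theorem F201148 : act 1 n43656 = n43418 := d16_1 D43656 (iv D43418) (iv F198429)
theorem F201149 : act 2 n43656 = n43127 := d23_1 D43656 (iv D43127) (iv F198430)
theorem F201150 : act 4 n43656 = n43115 := d34_1 D43656 (iv D43115) (iv F198431)
theorem F201151 : act 6 n43656 = n43114 := d41_1 D43656 (iv D43114) D43113
theorem F201152 : act 7 n43656 = n43171 := d43_1 D43656 (iv D43171) (iv F198432)
theorem F201153 : act 8 n43656 = n43456 := d44_1 D43656 (iv D43456) F197187 F194762 (iv F198433)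
def n43657 : Q := act 8 n43114
theorem D43657 : act 8 n43114 = n43657 := rfl
theorem F201154 : act 0 n43657 = n43424 := d7_1 D43657 F200141 (iv F198434)
theorem F201155 : act 1 n43657 = n43555 := d15_1 D43657 (iv D43555) (iv F198435)
theorem F201156 : act 2 n43657 = n43128 := d22_1 D43657 (iv D43128) (iv F198436)
theorem F201157 : act 4 n43657 = n43116 := d33_1 D43657 (iv D43116) (iv F198437)
theorem F201158 : act 6 n43657 = n43456 := d40_1 D43657 (iv F201153) F201151
theorem F201159 : act 7 n43657 = n43140 := d42_1 D43657 (iv D43140) (iv F198439)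
theorem F201160 : act 9 n43657 = n43120 := d44_2 D43114 D43657 (iv D43120) (iv D42352) (iv F194739)
def n43658 : Q := act 8 n43119
theorem D43658 : act 8 n43119 = n43658 := rfl
theorem F201161 : act 0 n43658 = n43422 := d7_1 D43658 (iv D43422) (iv F198472)
theorem F201162 : act 1 n43658 = n43556 := d15_1 D43658 (iv D43556) (iv F198473)
theorem F201163 : act 2 n43658 = n43263 := d22_1 D43658 F199418 (iv F198474)
theorem F201164 : act 3 n43658 = n43120 := d28_1 D43658 (iv D43120) (iv F198475)
theorem F201165 : act 4 n43658 = n43436 := d33_1 D43658 F200185 (iv F198476)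
theorem F201166 : act 5 n43658 = n43550 := d37_1 D43658 F200537 F197696 F194792 (iv F198477)
theorem F201167 : act 6 n43658 = n43452 := d40_1 D43658 F200228 (iv F198478)
theorem F201168 : act 7 n43658 = n43141 := d42_1 D43658 (iv D43141) (iv F198479)
def n43659 : Q := act 5 n43120
theorem D43659 : act 5 n43120 = n43659 := rfl
theorem F201169 : act 0 n43659 = n43423 := d4_1 D43659 (iv D43423) (iv F198480)
theorem F201170 : act 1 n43659 = n43421 := d12_1 D43659 F200127 (iv F198481)
theorem F201171 : act 2 n43659 = n43132 := d19_1 D43659 (iv D43132) (iv F198482)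
theorem F201172 : act 3 n43659 = n43550 := d25_1 D43659 (iv F201166) F201164
theorem F201173 : act 4 n43659 = n43342 := d30_1 D43659 (iv D43342) F196516 (iv F194774) (iv F198483)
theorem F201174 : act 7 n43659 = n43142 := d36_2 (iv F198485) D43659 (iv D43142)
theorem F201175 : act 8 n43659 = n43121 := d37_2 D43120 D43659 (iv D43121) (iv D42356) (iv F194767)
def n43660 : Q := act 6 n43121
theorem D43660 : act 6 n43121 = n43660 := rfl
theorem F201176 : act 0 n43660 = n43461 := d5_1 D43660 (iv D43461) (iv F198486)
theorem F201177 : act 1 n43660 = n43307 := d13_1 D43660 F199669 (iv F198487)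
theorem F201178 : act 2 n43660 = n43133 := d20_1 D43660 (iv D43133) (iv F198488)
theorem F201179 : act 3 n43660 = n43420 := d26_1 D43660 F200124 (iv F198489)
theorem F201180 : act 4 n43660 = n43310 := d31_1 D43660 F199685 (iv F198490)
theorem F201181 : act 5 n43660 = n43660 := d35_1 D43660 (iv D43660) (iv D43121) F194798 D43121
theorem F201182 : act 7 n43660 = n43406 := d39_2 (iv F198491) D43660 (iv D43406) F197009 (iv F194952)
theorem F201183 : act 9 n43660 = n43337 := d41_2 (iv F198492) D43660 F199800
def n43661 : Q := act 9 n43122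
theorem D43661 : act 9 n43122 = n43661 := rfl
theorem F201184 : act 0 n43661 = n43364 := d8_1 D43661 (iv D43364) (iv F198493)
theorem F201185 : act 1 n43661 = n43404 := d16_1 D43661 F200073 (iv F198494)
theorem F201186 : act 2 n43661 = n43124 := d23_1 D43661 (iv D43124) D43122
theorem F201187 : act 4 n43661 = n43266 := d34_1 D43661 F199437 (iv F198495)
theorem F201188 : act 5 n43661 = n43411 := d38_1 D43661 (iv D43411) (iv F198496)
theorem F201189 : act 6 n43661 = n43509 := d41_1 D43661 F200419 F198499
theorem F201190 : act 7 n43661 = n43143 := d43_1 D43661 (iv D43143) (iv F198497)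
theorem F201191 : act 8 n43661 = n43265 := d44_1 D43661 (iv D43265) F195908 (iv F194839) (iv F198498)
def n43662 : Q := act 5 n43123
theorem D43662 : act 5 n43123 = n43662 := rfl
theorem F201192 : act 0 n43662 = n43330 := d4_1 D43662 (iv D43330) (iv F198500)
theorem F201193 : act 1 n43662 = n43205 := d12_1 D43662 (iv D43205) (iv F198501)
theorem F201194 : act 2 n43662 = n43510 := d19_1 D43662 F200420 (iv F198502)
theorem F201195 : act 3 n43662 = n43125 := d25_1 D43662 (iv D43125) (iv F198503)
theorem F201196 : act 4 n43662 = n43503 := d30_1 D43662 (iv D43503) F197472 (iv F195484) (iv F198504)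
theorem F201197 : act 6 n43662 = n43412 := d35_2 D43123 D43662 (iv D43412) (iv D42777) (iv F194804)
theorem F201198 : act 7 n43662 = n43213 := d36_2 (iv F198505) D43662 (iv D43213)
theorem F201199 : act 8 n43662 = n43662 := d37_2 (iv F198506) D43662 (iv D43662) F198506 F194846
def n43663 : Q := act 9 n43123
theorem D43663 : act 9 n43123 = n43663 := rfl
theorem F201200 : act 0 n43663 = n43331 := d8_1 D43663 (iv D43331) (iv F198500)
theorem F201201 : act 1 n43663 = n43206 := d16_1 D43663 (iv D43206) (iv F198501)
theorem F201202 : act 2 n43663 = n43509 := d23_1 D43663 F200419 (iv F198502)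
theorem F201203 : act 3 n43663 = n43127 := d29_1 D43663 (iv D43127) (iv F198503)
theorem F201204 : act 4 n43663 = n43211 := d34_1 D43663 F199088 (iv F198504)
theorem F201205 : act 6 n43663 = n43124 := d41_1 D43663 (iv D43124) D43123
theorem F201206 : act 7 n43663 = n43210 := d43_1 D43663 F199080 (iv F198505)
theorem F201207 : act 8 n43663 = n43209 := d44_1 D43663 (iv D43209) F195461 (iv F194848) (iv F198506)
def n43664 : Q := act 7 n43125
theorem D43664 : act 7 n43125 = n43664 := rfl
theorem F201208 : act 0 n43664 = n43463 := d6_1 D43664 F200270 (iv F198514)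
theorem F201209 : act 1 n43664 = n43207 := d14_1 D43664 (iv D43207) (iv F198515)
theorem F201210 : act 2 n43664 = n43170 := d21_1 D43664 (iv F201145) F201142
theorem F201211 : act 3 n43664 = n43213 := d27_1 D43664 (iv F201198) F201195
theorem F201212 : act 4 n43664 = n43358 := d32_1 D43664 (iv D43358) (iv F198516)
theorem F201213 : act 5 n43664 = n43126 := d36_1 D43664 (iv D43126) D43125
theorem F201214 : act 8 n43664 = n43664 := d42_2 F198518 D43664 (iv D43664)
theorem F201215 : act 6 n43197 = n43664 := d35_0 F201213 F198524 F194972 D42449 D43197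
def n43665 : Q := act 9 n43125
theorem D43665 : act 9 n43125 = n43665 := rfl
theorem F201216 : act 0 n43665 = n43539 := d8_1 D43665 (iv D43539) (iv F198514)
theorem F201217 : act 1 n43665 = n43208 := d16_1 D43665 (iv D43208) (iv F198515)
theorem F201218 : act 4 n43665 = n43359 := d34_1 D43665 (iv D43359) (iv F198516)
theorem F201219 : act 5 n43665 = n43127 := d38_1 D43665 (iv D43127) D43125
theorem F201220 : act 6 n43665 = n43417 := d41_1 D43665 (iv D43417) (iv F198517)
def n43666 : Q := act 9 n43126
theorem D43666 : act 9 n43126 = n43666 := rfl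
theorem F201221 : act 0 n43666 = n43464 := d8_1 D43666 (iv D43464) (iv F198519)
theorem F201222 : act 1 n43666 = n43209 := d16_1 D43666 (iv D43209) (iv F198520)
theorem F201223 : act 2 n43666 = n43171 := d23_1 D43666 (iv D43171) (iv F198521)
theorem F201224 : act 3 n43666 = n43210 := d29_1 D43666 F199080 (iv F198522)
theorem F201225 : act 4 n43666 = n43129 := d34_1 D43666 (iv D43129) (iv F198523)
theorem F201226 : act 6 n43666 = n43144 := d41_1 D43666 (iv D43144) (iv F198524)
theorem F201227 : act 7 n43666 = n43127 := d43_1 D43666 (iv D43127) D43126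
theorem F201228 : act 8 n43666 = n43206 := d44_1 D43666 (iv D43206) F195450 F194856 (iv F198525)
def n43667 : Q := act 8 n43127
theorem D43667 : act 8 n43127 = n43667 := rfl
theorem F201229 : act 0 n43667 = n43392 := d7_1 D43667 F200040 (iv F198526)
theorem F201230 : act 1 n43667 = n43210 := d15_1 D43667 (iv D43210) (iv F198527)
theorem F201231 : act 2 n43667 = n43456 := d22_1 D43667 (iv F201153) F201149
theorem F201232 : act 3 n43667 = n43209 := d28_1 D43667 (iv F201207) F201203
theorem F201233 : act 4 n43667 = n43130 := d33_1 D43667 (iv D43130) (iv F198528)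
theorem F201234 : act 6 n43667 = n43128 := d40_1 D43667 (iv D43128) (iv F198529)
theorem F201235 : act 7 n43667 = n43206 := d42_1 D43667 (iv F201228) F201227
theorem F201236 : act 9 n43667 = n43131 := d44_2 D43127 D43667 (iv D43131) (iv D42366) (iv F194810)
def n43668 : Q := act 5 n43128
theorem D43668 : act 5 n43128 = n43668 := rfl
theorem F201237 : act 0 n43668 = n43426 := d4_1 D43668 F200149 (iv F198530)
theorem F201238 : act 1 n43668 = n43196 := d12_1 D43668 F199004 (iv F198531)
theorem F201239 : act 3 n43668 = n43188 := d25_1 D43668 F198948 (iv F198532)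
theorem F201240 : act 4 n43668 = n43350 := d30_1 D43668 (iv D43350) F196552 (iv F194831) (iv F198533)
theorem F201241 : act 7 n43668 = n43145 := d36_2 (iv F198534) D43668 (iv D43145)
theorem F201242 : act 8 n43668 = n43419 := d37_2 D43128 D43668 (iv D43419) (iv D42782) (iv F194814)
theorem F201243 : act 9 n43668 = n43132 := d38_2 (iv F198535) D43668 (iv D43132)
def n43669 : Q := act 5 n43131
theorem D43669 : act 5 n43131 = n43669 := rfl
theorem F201244 : act 0 n43669 = n43391 := d4_1 D43669 (iv D43391) (iv F198552)
theorem F201245 : act 1 n43669 = n43213 := d12_1 D43669 (iv D43213) (iv F198553)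
theorem F201246 : act 2 n43669 = n43454 := d19_1 D43669 F200233 (iv F198554)
theorem F201247 : act 3 n43669 = n43207 := d25_1 D43669 F199069 (iv F198555)
theorem F201248 : act 4 n43669 = n43532 := d30_1 D43669 F200491 F197609 (iv F194874) (iv F198556)
theorem F201249 : act 7 n43669 = n43205 := d36_2 (iv F198558) D43669 (iv D43205)
theorem F201250 : act 8 n43669 = n43669 := d37_2 D43131 D43669 (iv D43669) (iv D43131) F194862
def n43670 : Q := act 6 n43132
theorem D43670 : act 6 n43132 = n43670 := rfl
theorem F201251 : act 0 n43670 = n43425 := d5_1 D43670 (iv D43425) (iv F198559)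
theorem F201252 : act 1 n43670 = n43195 := d13_1 D43670 (iv D43195) (iv F198560)
theorem F201253 : act 3 n43670 = n43187 := d26_1 D43670 (iv D43187) (iv F198561)
theorem F201254 : act 4 n43670 = n43341 := d31_1 D43670 F199820 (iv F198562)
theorem F201255 : act 7 n43670 = n43400 := d39_2 (iv F198563) D43670 (iv D43400) F196992 (iv F194998)
theorem F201256 : act 8 n43670 = n43133 := d40_2 (iv F198564) D43670 (iv D43133)
def n43671 : Q := act 3 n43134
theorem D43671 : act 3 n43134 = n43671 := rfl
theorem F201257 : act 0 n43671 = n43303 := d2_1 D43671 F199651 (iv F198572)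
theorem F201258 : act 1 n43671 = n43487 := d10_1 D43671 F200357 (iv F198573)
theorem F201259 : act 2 n43671 = n43394 := d17_1 D43671 (iv F201095) F201094 F199595 (iv F198574)
theorem F201260 : act 4 n43671 = n43540 := d24_2 D43134 D43671 (iv D43540) (iv D42959) (iv F194885)
theorem F201261 : act 5 n43671 = n43136 := d25_2 (iv F198575) D43671 (iv D43136)
theorem F201262 : act 6 n43671 = n43277 := d26_2 (iv F198576) D43671 F199513
theorem F201263 : act 8 n43671 = n43671 := d28_2 F198577 D43671 (iv D43671)
def n43672 : Q := act 9 n43134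
theorem D43672 : act 9 n43134 = n43672 := rfl
theorem F201264 : act 0 n43672 = n43389 := d8_1 D43672 (iv D43389) (iv F198572)
theorem F201265 : act 1 n43672 = n43491 := d16_1 D43672 (iv D43491) (iv F198573)
theorem F201266 : act 2 n43672 = n43327 := d23_1 D43672 (iv D43327) (iv F198574)
theorem F201267 : act 4 n43672 = n43135 := d34_1 D43672 (iv D43135) D43134
theorem F201268 : act 5 n43672 = n43137 := d38_1 D43672 (iv D43137) (iv F198575)
theorem F201269 : act 6 n43672 = n43367 := d41_1 D43672 (iv D43367) (iv F198576)
def n43673 : Q := act 8 n43135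
theorem D43673 : act 8 n43135 = n43673 := rfl
theorem F201270 : act 1 n43673 = n43507 := d15_1 D43673 (iv D43507) (iv F198578)
theorem F201271 : act 2 n43673 = n43329 := d22_1 D43673 (iv D43329) (iv F198579)
theorem F201272 : act 3 n43673 = n43542 := d28_1 D43673 (iv D43542) (iv F198580)
theorem F201273 : act 6 n43673 = n43522 := d40_1 D43673 (iv D43522) (iv F198582)
theorem F201274 : act 9 n43673 = n43673 := d44_2 D43135 D43673 (iv D43673) (iv D43135) F194887
def n43674 : Q := act 9 n43136
theorem D43674 : act 9 n43136 = n43674 := rfl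
theorem F201275 : act 0 n43674 = n43512 := d8_1 D43674 (iv D43512) (iv F198583)
theorem F201276 : act 1 n43674 = n43489 := d16_1 D43674 (iv D43489) (iv F198584)
theorem F201277 : act 2 n43674 = n43434 := d23_1 D43674 (iv D43434) F198588
theorem F201278 : act 3 n43674 = n43137 := d29_1 D43674 (iv D43137) D43136
theorem F201279 : act 4 n43674 = n43139 := d34_1 D43674 (iv D43139) (iv F198585)
theorem F201280 : act 6 n43674 = n43215 := d41_1 D43674 (iv D43215) (iv F198586)
theorem F201281 : act 8 n43674 = n43437 := d44_1 D43674 (iv D43437) F197125 (iv F194910) (iv F198587)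
def n43675 : Q := act 9 n43138
theorem D43675 : act 9 n43138 = n43675 := rfl
theorem F201282 : act 0 n43675 = n43372 := d8_1 D43675 (iv D43372) (iv F198595)
theorem F201283 : act 1 n43675 = n43547 := d16_1 D43675 F200527 F198601
theorem F201284 : act 2 n43675 = n43139 := d23_1 D43675 (iv D43139) D43138
theorem F201285 : act 3 n43675 = n43143 := d29_1 D43675 (iv D43143) (iv F198596)
theorem F201286 : act 4 n43675 = n43434 := d34_1 D43675 (iv D43434) (iv F198597)
theorem F201287 : act 5 n43675 = n43546 := d38_1 D43675 (iv D43546) (iv F198598)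
theorem F201288 : act 6 n43675 = n43216 := d41_1 D43675 (iv D43216) (iv F198599)
theorem F201289 : act 8 n43675 = n43264 := d44_1 D43675 (iv D43264) F195899 F194935 (iv F198600)
def n43676 : Q := act 8 n43139
theorem D43676 : act 8 n43139 = n43676 := rfl
theorem F201290 : act 0 n43676 = n43443 := d7_1 D43676 F200204 (iv F198602)
theorem F201291 : act 1 n43676 = n43554 := d15_1 D43676 (iv D43554) (iv F198603)
theorem F201292 : act 2 n43676 = n43264 := d22_1 D43676 (iv F201289) F201284
theorem F201293 : act 3 n43676 = n43140 := d28_1 D43676 (iv D43140) (iv F198604)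
theorem F201294 : act 4 n43676 = n43437 := d33_1 D43676 (iv F201281) F201279
theorem F201295 : act 6 n43676 = n43217 := d40_1 D43676 (iv D43217) (iv F198606)
theorem F201296 : act 9 n43676 = n43141 := d44_2 D43139 D43676 (iv D43141) (iv D42379) (iv F194916)
theorem F201297 : act 5 n43551 = n43676 := d38_3 F201296 F198618 D43551
def n43677 : Q := act 5 n43140
theorem D43677 : act 5 n43140 = n43677 := rfl
theorem F201298 : act 0 n43677 = n43444 := d4_1 D43677 F200206 (iv F198607)
theorem F201299 : act 1 n43677 = n43552 := d12_1 D43677 F200541 (iv F198608)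
theorem F201300 : act 2 n43677 = n43145 := d19_1 D43677 (iv D43145) (iv F198609)
theorem F201301 : act 3 n43677 = n43551 := d25_1 D43677 F201297 F201293
theorem F201302 : act 6 n43677 = n43546 := d35_2 (iv F198611) D43677 (iv F201287) F201288 F199118
theorem F201303 : act 8 n43677 = n43548 := d37_2 D43140 D43677 (iv D43548) (iv D42967) (iv F194921)
theorem F201304 : act 9 n43677 = n43142 := d38_2 (iv F198612) D43677 (iv D43142)
def n43678 : Q := act 4 n43146
theorem D43678 : act 4 n43146 = n43678 := rfl
theorem F201305 : act 0 n43678 = n43473 := d3_1 D43678 (iv D43473) (iv F198647)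
theorem F201306 : act 1 n43678 = n43454 := d11_1 D43678 F200232 (iv F198648)
theorem F201307 : act 2 n43678 = n43333 := d18_1 D43678 (iv D43333) (iv F198649)
theorem F201308 : act 5 n43678 = n43148 := d30_2 D43146 D43678 (iv D43148) (iv D42390) (iv F195004)
theorem F201309 : act 7 n43678 = n43302 := d32_2 (iv F198651) D43678 (iv D43302)
theorem F201310 : act 8 n43678 = n43678 := d33_2 F198652 D43678 (iv D43678)
def n43679 : Q := act 6 n43146
theorem D43679 : act 6 n43146 = n43679 := rfl
theorem F201311 : act 0 n43679 = n43474 := d5_1 D43679 (iv D43474) (iv F198647)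
theorem F201312 : act 1 n43679 = n43571 := d13_1 D43679 (iv D43571) (iv F198648)
theorem F201313 : act 2 n43679 = n43230 := d20_1 D43679 F199214 (iv F198649)
theorem F201314 : act 3 n43679 = n43362 := d26_1 D43679 F199916 (iv F198650)
theorem F201315 : act 5 n43679 = n43192 := d35_1 D43679 (iv D43192) (iv D42444) (iv F195005) D43146
theorem F201316 : act 8 n43679 = n43679 := d40_2 F198652 D43679 (iv D43679)
def n43680 : Q := act 9 n43146
theorem D43680 : act 9 n43146 = n43680 := rfl
theorem F201317 : act 0 n43680 = n43475 := d8_1 D43680 (iv D43475) (iv F198647)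
theorem F201318 : act 1 n43680 = n43572 := d16_1 D43680 (iv D43572) (iv F198648)
theorem F201319 : act 2 n43680 = n43334 := d23_1 D43680 (iv D43334) (iv F198649)
theorem F201320 : act 3 n43680 = n43386 := d29_1 D43680 (iv D43386) (iv F198650)
theorem F201321 : act 5 n43680 = n43147 := d38_1 D43680 (iv D43147) D43146
theorem F201322 : act 7 n43680 = n43304 := d43_1 D43680 (iv D43304) (iv F198651)
def n43681 : Q := act 3 n43148
theorem D43681 : act 3 n43148 = n43681 := rfl
theorem F201323 : act 0 n43681 = n43476 := d2_1 D43681 (iv D43476) (iv F198661)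
theorem F201324 : act 1 n43681 = n43452 := d10_1 D43681 F200226 (iv F198662)
theorem F201325 : act 4 n43681 = n43151 := d24_2 D43148 D43681 (iv D43151) (iv D42393) (iv F195010)
theorem F201326 : act 6 n43681 = n43556 := d26_2 (iv F198664) D43681 F200551
theorem F201327 : act 7 n43681 = n43305 := d27_2 (iv F198665) D43681 (iv D43305)
theorem F201328 : act 8 n43681 = n43150 := d28_2 (iv F198666) D43681 (iv D43150)
def n43682 : Q := act 9 n43148
theorem D43682 : act 9 n43148 = n43682 := rfl
theorem F201329 : act 0 n43682 = n43477 := d8_1 D43682 (iv D43477) (iv F198661)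
theorem F201330 : act 1 n43682 = n43456 := d16_1 D43682 (iv D43456) (iv F198662)
theorem F201331 : act 2 n43682 = n43336 := d23_1 D43682 (iv D43336) (iv F198663)
theorem F201332 : act 4 n43682 = n43149 := d34_1 D43682 (iv D43149) D43148
theorem F201333 : act 6 n43682 = n43555 := d41_1 D43682 F200550 (iv F198664)
theorem F201334 : act 7 n43682 = n43306 := d43_1 D43682 (iv D43306) (iv F198665)
theorem F201335 : act 8 n43682 = n43418 := d44_1 D43682 (iv D43418) F197046 (iv F195027) (iv F198666)
def n43683 : Q := act 2 n43150
theorem D43683 : act 2 n43150 = n43683 := rfl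
theorem F201336 : act 0 n43683 = n43478 := d1_1 D43683 (iv D43478) (iv F198675)
theorem F201337 : act 1 n43683 = n43406 := d9_1 D43683 F200079 (iv F199044) F199045 (iv F198676)
theorem F201338 : act 3 n43683 = n43337 := d17_2 D43150 D43683 (iv D43337) (iv D42648) (iv F195023)
theorem F201339 : act 4 n43683 = n43156 := d18_2 (iv F198677) D43683 (iv D43156)
theorem F201340 : act 5 n43683 = n43683 := d19_2 F198678 D43683 (iv D43683)
theorem F201341 : act 6 n43683 = n43405 := d20_2 (iv F198679) D43683 F200074
theorem F201342 : act 7 n43683 = n43307 := d21_2 (iv F198680) D43683 (iv D43307)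
theorem F201343 : act 9 n43683 = n43420 := d23_2 (iv F198681) D43683 F200122
def n43684 : Q := act 2 n43151
theorem D43684 : act 2 n43151 = n43684 := rfl
theorem F201344 : act 0 n43684 = n43479 := d1_1 D43684 (iv D43479) (iv F198682)
theorem F201345 : act 3 n43684 = n43158 := d17_2 D43151 D43684 (iv D43158) (iv D42400) (iv F195030)
theorem F201346 : act 5 n43684 = n43368 := d19_2 (iv F198684) D43684 F199941
theorem F201347 : act 7 n43684 = n43308 := d21_2 (iv F198685) D43684 (iv D43308)
theorem F201348 : act 8 n43684 = n43156 := d22_2 (iv F198686) D43684 (iv D43156)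
def n43685 : Q := act 6 n43151
theorem D43685 : act 6 n43151 = n43685 := rfl
theorem F201349 : act 0 n43685 = n43480 := d5_1 D43685 (iv D43480) (iv F198682)
theorem F201350 : act 1 n43685 = n43436 := d13_1 D43685 F200184 (iv F198683)
theorem F201351 : act 3 n43685 = n43152 := d26_1 D43685 (iv D43152) D43151
theorem F201352 : act 4 n43685 = n43556 := d31_1 D43685 (iv F201326) F201325
theorem F201353 : act 7 n43685 = n43428 := d39_2 (iv F198685) D43685 (iv D43428) F197098 (iv F196343)
theorem F201354 : act 8 n43685 = n43157 := d40_2 (iv F198686) D43685 (iv D43157)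
def n43686 : Q := act 9 n43151
theorem D43686 : act 9 n43151 = n43686 := rfl
theorem F201355 : act 0 n43686 = n43481 := d8_1 D43686 (iv D43481) (iv F198682)
theorem F201356 : act 1 n43686 = n43458 := d16_1 D43686 (iv D43458) (iv F198683)
theorem F201357 : act 3 n43686 = n43153 := d29_1 D43686 (iv D43153) D43151
theorem F201358 : act 5 n43686 = n43370 := d38_1 D43686 (iv D43370) (iv F198684)
theorem F201359 : act 7 n43686 = n43309 := d43_1 D43686 (iv D43309) (iv F198685)
def n43687 : Q := act 5 n43152
theorem D43687 : act 5 n43152 = n43687 := rfl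
theorem F201360 : act 0 n43687 = n43482 := d4_1 D43687 (iv D43482) (iv F198687)
theorem F201361 : act 1 n43687 = n43438 := d12_1 D43687 F200189 (iv F198688)
theorem F201362 : act 2 n43687 = n43161 := d19_1 D43687 (iv D43161) (iv F198689)
theorem F201363 : act 4 n43687 = n43197 := d30_1 D43687 (iv D43197) F195390 (iv F195038) (iv F198690)
theorem F201364 : act 6 n43687 = n43358 := d35_2 D43152 D43687 F199901 F196640 (iv F195031)
theorem F201365 : act 7 n43687 = n43430 := d36_2 (iv F198691) D43687 (iv D43430)
theorem F201366 : act 8 n43687 = n43687 := d37_2 (iv F198692) D43687 (iv D43687) F198692 F195054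
def n43688 : Q := act 9 n43152
theorem D43688 : act 9 n43152 = n43688 := rfl
theorem F201367 : act 0 n43688 = n43483 := d8_1 D43688 (iv D43483) (iv F198687)
theorem F201368 : act 1 n43688 = n43440 := d16_1 D43688 (iv D43440) (iv F198688)
theorem F201369 : act 2 n43688 = n43163 := d23_1 D43688 (iv D43163) (iv F198689)
theorem F201370 : act 4 n43688 = n43154 := d34_1 D43688 (iv D43154) (iv F198690)
theorem F201371 : act 6 n43688 = n43153 := d41_1 D43688 (iv D43153) D43152
theorem F201372 : act 7 n43688 = n43431 := d43_1 D43688 (iv D43431) (iv F198691)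
theorem F201373 : act 8 n43688 = n43492 := d44_1 D43688 (iv D43492) F197406 (iv F195056) (iv F198692)
def n43689 : Q := act 6 n43156
theorem D43689 : act 6 n43156 = n43689 := rfl
theorem F201374 : act 0 n43689 = n43484 := d5_1 D43689 (iv D43484) (iv F198715)
theorem F201375 : act 1 n43689 = n43398 := d13_1 D43689 (iv F200696) F200691
theorem F201376 : act 2 n43689 = n43157 := d20_1 D43689 (iv D43157) D43156
theorem F201377 : act 3 n43689 = n43166 := d26_1 D43689 (iv D43166) (iv F198716)
theorem F201378 : act 4 n43689 = n43405 := d31_1 D43689 (iv F201341) F201339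
theorem F201379 : act 5 n43689 = n43689 := d35_1 D43689 (iv D43689) F198717 F195067 (iv F198717)
theorem F201380 : act 7 n43689 = n43432 := d39_2 (iv F198718) D43689 (iv D43432) F197114 (iv F196354)
theorem F201381 : act 9 n43689 = n43493 := d41_2 (iv F200681) D43689 F200680
def n43690 : Q := act 6 n43158
theorem D43690 : act 6 n43158 = n43690 := rfl
theorem F201382 : act 0 n43690 = n43485 := d5_1 D43690 (iv D43485) (iv F198726)
theorem F201383 : act 1 n43690 = n43567 := d13_1 D43690 (iv F200816) F200812
theorem F201384 : act 2 n43690 = n43159 := d20_1 D43690 (iv D43159) D43158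
theorem F201385 : act 4 n43690 = n43343 := d31_1 D43690 (iv D43343) (iv F198727)
theorem F201386 : act 8 n43690 = n43166 := d40_2 (iv F198730) D43690 (iv D43166)
def n43691 : Q := act 9 n43158
theorem D43691 : act 9 n43158 = n43691 := rfl
theorem F201387 : act 0 n43691 = n43486 := d8_1 D43691 (iv D43486) (iv F198726)
theorem F201388 : act 2 n43691 = n43160 := d23_1 D43691 (iv D43160) D43158
theorem F201389 : act 4 n43691 = n43344 := d34_1 D43691 (iv D43344) (iv F198727)
theorem F201390 : act 5 n43691 = n43373 := d38_1 D43691 (iv D43373) (iv F198728)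
theorem F201391 : act 7 n43691 = n43313 := d43_1 D43691 (iv D43313) (iv F198729)
def n43692 : Q := act 5 n43159
theorem D43692 : act 5 n43159 = n43692 := rfl
theorem F201392 : act 0 n43692 = n43487 := d4_1 D43692 (iv D43487) (iv F198731)
theorem F201393 : act 1 n43692 = n43355 := d12_1 D43692 (iv D43355) (iv F198732)
theorem F201394 : act 3 n43692 = n43161 := d25_1 D43692 (iv D43161) (iv F198733)
theorem F201395 : act 4 n43692 = n43529 := d30_1 D43692 F200481 F197591 (iv F196535) (iv F198734)
theorem F201396 : act 6 n43692 = n43374 := d35_2 D43159 D43692 (iv D43374) (iv D42722) (iv F195073)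
theorem F201397 : act 8 n43692 = n43692 := d37_2 (iv F198735) D43692 (iv D43692) F198735 F195111
def n43693 : Q := act 7 n43159
theorem D43693 : act 7 n43159 = n43693 := rfl
theorem F201398 : act 0 n43693 = n43488 := d6_1 D43693 (iv D43488) (iv F198731)
theorem F201399 : act 1 n43693 = n43356 := d14_1 D43693 (iv D43356) (iv F198732)
theorem F201400 : act 3 n43693 = n43162 := d27_1 D43693 (iv D43162) (iv F198733)
theorem F201401 : act 4 n43693 = n43345 := d32_1 D43693 (iv D43345) (iv F198734)
theorem F201402 : act 6 n43693 = n43314 := d39_1 D43693 (iv D43314) (iv D42618) (iv F195074) D43159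
theorem F201403 : act 8 n43693 = n43167 := d42_2 (iv F198735) D43693 (iv D43167)
def n43694 : Q := act 9 n43159
theorem D43694 : act 9 n43159 = n43694 := rfl
theorem F201404 : act 0 n43694 = n43489 := d8_1 D43694 (iv D43489) (iv F198731)
theorem F201405 : act 1 n43694 = n43357 := d16_1 D43694 (iv D43357) (iv F198732)
theorem F201406 : act 3 n43694 = n43163 := d29_1 D43694 (iv D43163) (iv F198733)
theorem F201407 : act 4 n43694 = n43346 := d34_1 D43694 (iv D43346) (iv F198734)
theorem F201408 : act 6 n43694 = n43160 := d41_1 D43694 (iv D43160) D43159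
def n43695 : Q := act 7 n43161
theorem D43695 : act 7 n43161 = n43695 := rfl
theorem F201409 : act 0 n43695 = n43490 := d6_1 D43695 (iv D43490) (iv F198742)
theorem F201410 : act 1 n43695 = n43358 := d14_1 D43695 (iv D43358) (iv F198743)
theorem F201411 : act 2 n43695 = n43430 := d21_1 D43695 (iv F201365) F201362
theorem F201412 : act 4 n43695 = n43207 := d32_1 D43695 (iv D43207) (iv F198744)
theorem F201413 : act 5 n43695 = n43162 := d36_1 D43695 (iv D43162) D43161
theorem F201414 : act 6 n43695 = n43438 := d39_1 D43695 (iv D43438) (iv F199877) F199878 (iv F198745)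
theorem F201415 : act 8 n43695 = n43695 := d42_2 F198746 D43695 (iv D43695)
def n43696 : Q := act 9 n43161
theorem D43696 : act 9 n43161 = n43696 := rfl
theorem F201416 : act 0 n43696 = n43491 := d8_1 D43696 (iv D43491) (iv F198742)
theorem F201417 : act 1 n43696 = n43359 := d16_1 D43696 (iv D43359) (iv F198743)
theorem F201418 : act 4 n43696 = n43208 := d34_1 D43696 (iv D43208) (iv F198744)
theorem F201419 : act 5 n43696 = n43163 := d38_1 D43696 (iv D43163) D43161
theorem F201420 : act 6 n43696 = n43387 := d41_1 D43696 (iv D43387) (iv F198745)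
def n43697 : Q := act 9 n43162
theorem D43697 : act 9 n43162 = n43697 := rfl
theorem F201421 : act 0 n43697 = n43492 := d8_1 D43697 (iv D43492) (iv F198747)
theorem F201422 : act 1 n43697 = n43360 := d16_1 D43697 (iv D43360) (iv F198748)
theorem F201423 : act 2 n43697 = n43431 := d23_1 D43697 (iv D43431) (iv F198749)
theorem F201424 : act 4 n43697 = n43164 := d34_1 D43697 (iv D43164) (iv F198750)
theorem F201425 : act 6 n43697 = n43316 := d41_1 D43697 (iv D43316) (iv F198751)
theorem F201426 : act 7 n43697 = n43163 := d43_1 D43697 (iv D43163) D43162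
theorem F201427 : act 8 n43697 = n43483 := d44_1 D43697 (iv D43483) F197383 (iv F195118) (iv F198752)
def n43698 : Q := act 7 n43166
theorem D43698 : act 7 n43166 = n43698 := rfl
theorem F201428 : act 0 n43698 = n43493 := d6_1 D43698 (iv D43493) (iv F198773)
theorem F201429 : act 1 n43698 = n43478 := d14_1 D43698 F200332 (iv F198774)
theorem F201430 : act 2 n43698 = n43167 := d21_1 D43698 (iv D43167) (iv F198775)
theorem F201431 : act 3 n43698 = n43432 := d27_1 D43698 (iv F201380) F201377
theorem F201432 : act 4 n43698 = n43351 := d32_1 D43698 (iv D43351) (iv F198776)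
theorem F201433 : act 5 n43698 = n43698 := d36_1 D43698 (iv D43698) F198777
theorem F201434 : act 6 n43698 = n43318 := d39_1 D43698 (iv D43318) (iv D42624) (iv F195106) D43166
theorem F201435 : act 9 n43698 = n43484 := d43_2 F200802 D43698 (iv F200801)
def n43699 : Q := act 5 n43168
theorem D43699 : act 5 n43168 = n43699 := rfl
theorem F201436 : act 0 n43699 = n43465 := d4_1 D43699 (iv D43465) (iv F198785)
theorem F201437 : act 1 n43699 = n43412 := d12_1 D43699 (iv D43412) (iv F198786)
theorem F201438 : act 2 n43699 = n43446 := d19_1 D43699 (iv D43446) (iv F198787)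
theorem F201439 : act 3 n43699 = n43170 := d25_1 D43699 (iv D43170) (iv F198788)
theorem F201440 : act 4 n43699 = n43527 := d30_1 D43699 (iv D43527) F197585 (iv F196930) (iv F198789)
theorem F201441 : act 6 n43699 = n43205 := d35_2 D43168 D43699 (iv D43205) (iv D42459) (iv F195129)
theorem F201442 : act 8 n43699 = n43699 := d37_2 (iv F198790) D43699 (iv D43699) F198790 F195154
def n43700 : Q := act 9 n43168
theorem D43700 : act 9 n43168 = n43700 := rfl
theorem F201443 : act 0 n43700 = n43467 := d8_1 D43700 (iv D43467) (iv F198785)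
theorem F201444 : act 1 n43700 = n43414 := d16_1 D43700 (iv D43414) (iv F198786)
theorem F201445 : act 2 n43700 = n43448 := d23_1 D43700 (iv D43448) (iv F198787)
theorem F201446 : act 3 n43700 = n43171 := d29_1 D43700 (iv D43171) (iv F198788)
theorem F201447 : act 4 n43700 = n43385 := d34_1 D43700 (iv D43385) (iv F198789)
theorem F201448 : act 6 n43700 = n43169 := d41_1 D43700 (iv D43169) D43168
theorem F201449 : act 8 n43700 = n43453 := d44_1 D43700 (iv D43453) F197181 (iv F195155) (iv F198790)
def n43701 : Q := act 9 n43170
theorem D43701 : act 9 n43170 = n43701 := rfl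
theorem F201450 : act 0 n43701 = n43469 := d8_1 D43701 (iv D43469) (iv F198799)
theorem F201451 : act 1 n43701 = n43417 := d16_1 D43701 (iv D43417) (iv F198800)
theorem F201452 : act 4 n43701 = n43387 := d34_1 D43701 (iv D43387) (iv F198801)
theorem F201453 : act 5 n43701 = n43171 := d38_1 D43701 (iv D43171) D43170
theorem F201454 : act 6 n43701 = n43208 := d41_1 D43701 (iv D43208) (iv F198802)
def n43702 : Q := act 9 n43178
theorem D43702 : act 9 n43178 = n43702 := rfl
theorem F201455 : act 0 n43702 = n43462 := d8_1 D43702 (iv D43462) (iv F198861)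
theorem F201456 : act 1 n43702 = n43348 := d16_1 D43702 (iv D43348) (iv F198862)
theorem F201457 : act 2 n43702 = n43376 := d23_1 D43702 F199978 (iv F198863)
theorem F201458 : act 3 n43702 = n43377 := d29_1 D43702 (iv D43377) (iv F198864)
theorem F201459 : act 4 n43702 = n43181 := d34_1 D43702 (iv D43181) (iv F198865)
theorem F201460 : act 5 n43702 = n43365 := d38_1 D43702 F199928 (iv F198866)
theorem F201461 : act 6 n43702 = n43236 := d41_1 D43702 (iv D43236) (iv F198867)
theorem F201462 : act 7 n43702 = n43179 := d43_1 D43702 (iv D43179) D43178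
theorem F201463 : act 8 n43702 = n43373 := d44_1 D43702 (iv D43373) F196829 (iv F195260) (iv F198868)
def n43703 : Q := act 5 n43187
theorem D43703 : act 5 n43187 = n43703 := rfl
theorem F201464 : act 0 n43703 = n43505 := d4_1 D43703 F200413 (iv F198938)
theorem F201465 : act 1 n43703 = n43197 := d12_1 D43703 (iv D43197) (iv F198939)
theorem F201466 : act 2 n43703 = n43416 := d19_1 D43703 F200111 (iv F198940)
theorem F201467 : act 4 n43703 = n43438 := d30_1 D43703 F200189 F197131 (iv F195328) (iv F198941)
theorem F201468 : act 6 n43703 = n43207 := d35_2 D43187 D43703 F199069 F195460 (iv F195321)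
theorem F201469 : act 7 n43703 = n43402 := d36_2 (iv F198942) D43703 (iv D43402)
theorem F201470 : act 8 n43703 = n43703 := d37_2 (iv F198943) D43703 (iv D43703) F198943 F195339
def n43704 : Q := act 9 n43187
theorem D43704 : act 9 n43187 = n43704 := rfl
theorem F201471 : act 0 n43704 = n43536 := d8_1 D43704 (iv D43536) (iv F198938)
theorem F201472 : act 1 n43704 = n43199 := d16_1 D43704 (iv D43199) (iv F198939)
theorem F201473 : act 2 n43704 = n43418 := d23_1 D43704 (iv D43418) (iv F198940)
theorem F201474 : act 4 n43704 = n43189 := d34_1 D43704 (iv D43189) (iv F198941)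
theorem F201475 : act 6 n43704 = n43188 := d41_1 D43704 (iv D43188) D43187
theorem F201476 : act 7 n43704 = n43403 := d43_1 D43704 (iv D43403) (iv F198942)
theorem F201477 : act 8 n43704 = n43336 := d44_1 D43704 (iv D43336) F196482 F195341 (iv F198943)
def n43705 : Q := act 8 n43188
theorem D43705 : act 8 n43188 = n43705 := rfl
theorem F201478 : act 0 n43705 = n43252 := d7_1 D43705 F199345 (iv F198944)
theorem F201479 : act 1 n43705 = n43200 := d15_1 D43705 (iv D43200) (iv F198945)
theorem F201480 : act 2 n43705 = n43555 := d22_1 D43705 (iv D43555) (iv F198946)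
theorem F201481 : act 3 n43705 = n43419 := d28_1 D43705 (iv F201242) F201239
theorem F201482 : act 4 n43705 = n43190 := d33_1 D43705 (iv D43190) (iv F198947)
theorem F201483 : act 5 n43705 = n43415 := d37_1 D43705 (iv D43415) (iv F198511) F198513 (iv F198948)
theorem F201484 : act 6 n43705 = n43336 := d40_1 D43705 (iv F201477) F201475
theorem F201485 : act 7 n43705 = n43253 := d42_1 D43705 (iv D43253) (iv F198949)
theorem F201486 : act 9 n43705 = n43191 := d44_2 D43188 D43705 (iv D43191) (iv D42442) (iv F195323)
def n43706 : Q := act 7 n43192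
theorem D43706 : act 7 n43192 = n43706 := rfl
theorem F201487 : act 0 n43706 = n43494 := d6_1 D43706 (iv D43494) (iv F198974)
theorem F201488 : act 1 n43706 = n43480 := d14_1 D43706 (iv F201052) F201048
theorem F201489 : act 2 n43706 = n43231 := d21_1 D43706 (iv D43231) (iv F198975)
theorem F201490 : act 3 n43706 = n43322 := d27_1 D43706 F199740 (iv F198976)
theorem F201491 : act 4 n43706 = n43368 := d32_1 D43706 (iv D43368) (iv F198977)
theorem F201492 : act 6 n43706 = n43254 := d39_1 D43706 (iv D43254) (iv D42527) (iv F195361) D43192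
theorem F201493 : act 8 n43706 = n43241 := d42_2 (iv F198978) D43706 (iv D43241)
def n43707 : Q := act 9 n43192
theorem D43707 : act 9 n43192 = n43707 := rfl
theorem F201494 : act 0 n43707 = n43495 := d8_1 D43707 (iv D43495) (iv F198974)
theorem F201495 : act 2 n43707 = n43232 := d23_1 D43707 (iv D43232) (iv F198975)
theorem F201496 : act 3 n43707 = n43361 := d29_1 D43707 F199914 (iv F198976)
theorem F201497 : act 4 n43707 = n43369 := d34_1 D43707 (iv D43369) (iv F198977)
theorem F201498 : act 6 n43707 = n43193 := d41_1 D43707 (iv D43193) D43192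
theorem F201499 : act 8 n43707 = n43357 := d44_1 D43707 (iv D43357) F196628 (iv F195708) (iv F198978)
def n43708 : Q := act 5 n43195
theorem D43708 : act 5 n43195 = n43708 := rfl
theorem F201500 : act 0 n43708 = n43496 := d4_1 D43708 (iv D43496) (iv F198995)
theorem F201501 : act 2 n43708 = n43451 := d19_1 D43708 (iv D43451) (iv F198996)
theorem F201502 : act 3 n43708 = n43197 := d25_1 D43708 (iv D43197) (iv F198997)
theorem F201503 : act 6 n43708 = n43213 := d35_2 D43195 D43708 (iv D43213) F195479 (iv F195385)
theorem F201504 : act 8 n43708 = n43708 := d37_2 (iv F198999) D43708 (iv D43708) F198999 F195416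
def n43709 : Q := act 7 n43195
theorem D43709 : act 7 n43195 = n43709 := rfl
theorem F201505 : act 0 n43709 = n43497 := d6_1 D43709 (iv D43497) (iv F198995)
theorem F201506 : act 1 n43709 = n43400 := d14_1 D43709 (iv F201255) F201252
theorem F201507 : act 2 n43709 = n43452 := d21_1 D43709 (iv D43452) (iv F198996)
theorem F201508 : act 3 n43709 = n43198 := d27_1 D43709 (iv D43198) (iv F198997)
theorem F201509 : act 4 n43709 = n43457 := d32_1 D43709 (iv D43457) (iv F198998)
theorem F201510 : act 6 n43709 = n43263 := d39_1 D43709 (iv D43263) (iv D42538) (iv F195386) D43195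
theorem F201511 : act 8 n43709 = n43203 := d42_2 (iv F198999) D43709 (iv D43203)
def n43710 : Q := act 9 n43195
theorem D43710 : act 9 n43195 = n43710 := rfl
theorem F201512 : act 0 n43710 = n43498 := d8_1 D43710 (iv D43498) (iv F198995)
theorem F201513 : act 2 n43710 = n43453 := d23_1 D43710 (iv D43453) (iv F198996)
theorem F201514 : act 3 n43710 = n43199 := d29_1 D43710 (iv D43199) (iv F198997)
theorem F201515 : act 4 n43710 = n43450 := d34_1 D43710 F200223 (iv F198998)
theorem F201516 : act 6 n43710 = n43196 := d41_1 D43710 (iv D43196) D43195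
theorem F201517 : act 8 n43710 = n43448 := d44_1 D43710 (iv D43448) F197168 (iv F195417) (iv F198999)
def n43711 : Q := act 7 n43197
theorem D43711 : act 7 n43197 = n43711 := rfl
theorem F201518 : act 0 n43711 = n43499 := d6_1 D43711 (iv D43499) (iv F199007)
theorem F201519 : act 1 n43711 = n43402 := d14_1 D43711 (iv F201469) F201465
theorem F201520 : act 2 n43711 = n43207 := d21_1 D43711 (iv D43207) (iv F199008)
theorem F201521 : act 4 n43711 = n43430 := d32_1 D43711 (iv F201365) F201363
theorem F201522 : act 5 n43711 = n43198 := d36_1 D43711 (iv D43198) D43197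
theorem F201523 : act 6 n43711 = n43416 := d39_1 D43711 (iv D43416) (iv F198517) D43664 (iv F201215)
theorem F201524 : act 8 n43711 = n43711 := d42_2 F199009 D43711 (iv D43711)
def n43712 : Q := act 9 n43197
theorem D43712 : act 9 n43197 = n43712 := rfl
theorem F201525 : act 0 n43712 = n43500 := d8_1 D43712 (iv D43500) (iv F199007)
theorem F201526 : act 2 n43712 = n43208 := d23_1 D43712 (iv D43208) (iv F199008)
theorem F201527 : act 5 n43712 = n43199 := d38_1 D43712 (iv D43199) D43197
def n43713 : Q := act 9 n43198
theorem D43713 : act 9 n43198 = n43713 := rfl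
theorem F201528 : act 0 n43713 = n43501 := d8_1 D43713 (iv D43501) (iv F199010)
theorem F201529 : act 1 n43713 = n43403 := d16_1 D43713 (iv D43403) (iv F199011)
theorem F201530 : act 2 n43713 = n43209 := d23_1 D43713 (iv D43209) (iv F199012)
theorem F201531 : act 4 n43713 = n43201 := d34_1 D43713 (iv D43201) (iv F199013)
theorem F201532 : act 6 n43713 = n43265 := d41_1 D43713 (iv D43265) (iv F199014)
theorem F201533 : act 7 n43713 = n43199 := d43_1 D43713 (iv D43199) D43198
theorem F201534 : act 8 n43713 = n43509 := d44_1 D43713 F200419 F197493 F195424 (iv F199015)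
def n43714 : Q := act 8 n43199
theorem D43714 : act 8 n43199 = n43714 := rfl
theorem F201535 : act 0 n43714 = n43502 := d7_1 D43714 (iv D43502) (iv F199016)
theorem F201536 : act 1 n43714 = n43336 := d15_1 D43714 (iv F201477) F201472
theorem F201537 : act 2 n43714 = n43210 := d22_1 D43714 (iv D43210) (iv F199017)
theorem F201538 : act 3 n43714 = n43448 := d28_1 D43714 (iv F201517) F201514
theorem F201539 : act 4 n43714 = n43202 := d33_1 D43714 (iv D43202) (iv F199018)
theorem F201540 : act 6 n43714 = n43200 := d40_1 D43714 (iv D43200) (iv F199019)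
theorem F201541 : act 7 n43714 = n43509 := d42_1 D43714 (iv F201534) F201533
theorem F201542 : act 9 n43714 = n43204 := d44_2 D43199 D43714 (iv D43204) (iv D42456) (iv F195391)
def n43715 : Q := act 5 n43204
theorem D43715 : act 5 n43204 = n43715 := rfl
theorem F201543 : act 0 n43715 = n43503 := d4_1 D43715 (iv D43503) (iv F199051)
theorem F201544 : act 1 n43715 = n43333 := d12_1 D43715 F199785 (iv F199052)
theorem F201545 : act 2 n43715 = n43213 := d19_1 D43715 (iv D43213) (iv F199053)
theorem F201546 : act 3 n43715 = n43446 := d25_1 D43715 (iv D43446) (iv F199054)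
theorem F201547 : act 4 n43715 = n43330 := d30_1 D43715 (iv D43330) F196455 (iv F195443) (iv F199055)
theorem F201548 : act 6 n43715 = n43451 := d35_2 (iv F199056) D43715 (iv D43451) (iv D42823) (iv F195437)
theorem F201549 : act 7 n43715 = n43510 := d36_2 (iv F199057) D43715 F200420
theorem F201550 : act 8 n43715 = n43715 := d37_2 D43204 D43715 (iv D43715) (iv D43204) F195430
def n43716 : Q := act 9 n43205
theorem D43716 : act 9 n43205 = n43716 := rfl
theorem F201551 : act 0 n43716 = n43504 := d8_1 D43716 (iv D43504) (iv F199058)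
theorem F201552 : act 2 n43716 = n43455 := d23_1 D43716 (iv D43455) (iv F199059)
theorem F201553 : act 3 n43716 = n43208 := d29_1 D43716 (iv D43208) (iv F199060)
theorem F201554 : act 4 n43716 = n43533 := d34_1 D43716 (iv D43533) (iv F199061)
theorem F201555 : act 5 n43716 = n43206 := d38_1 D43716 (iv D43206) D43205
def n43717 : Q := act 9 n43207
theorem D43717 : act 9 n43207 = n43717 := rfl
theorem F201556 : act 0 n43717 = n43506 := d8_1 D43717 (iv D43506) (iv F199068)
theorem F201557 : act 5 n43717 = n43209 := d38_1 D43717 (iv D43209) (iv F199069)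
theorem F201558 : act 7 n43717 = n43208 := d43_1 D43717 (iv D43208) D43207
def n43718 : Q := act 8 n43208
theorem D43718 : act 8 n43208 = n43718 := rfl
theorem F201559 : act 0 n43718 = n43507 := d7_1 D43718 (iv D43507) (iv F199071)
theorem F201560 : act 9 n43718 = n43718 := d44_2 D43208 D43718 (iv D43718) (iv D43208) F195457
def n43719 : Q := act 5 n43210
theorem D43719 : act 5 n43210 = n43719 := rfl
theorem F201561 : act 0 n43719 = n43508 := d4_1 D43719 (iv D43508) (iv F199077)
theorem F201562 : act 9 n43719 = n43213 := d38_2 (iv F199080) D43719 (iv D43213)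
def n43720 : Q := act 4 n43212
theorem D43720 : act 4 n43212 = n43720 := rfl
theorem F201563 : act 0 n43720 = n43509 := d3_1 D43720 (iv D43509) (iv F199089)
theorem F201564 : act 1 n43720 = n43534 := d11_1 D43720 F200496 (iv F199090)
theorem F201565 : act 2 n43720 = n43331 := d18_1 D43720 F199771 (iv F199091)
theorem F201566 : act 6 n43720 = n43364 := d31_2 (iv F199093) D43720 F199922
theorem F201567 : act 7 n43720 = n43502 := d32_2 (iv F199094) D43720 F200404
theorem F201568 : act 8 n43720 = n43501 := d33_2 (iv F199095) D43720 F200399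
theorem F201569 : act 9 n43720 = n43214 := d34_2 (iv F199096) D43720 (iv D43214)
def n43721 : Q := act 4 n43213
theorem D43721 : act 4 n43213 = n43721 := rfl
theorem F201570 : act 0 n43721 = n43510 := d3_1 D43721 (iv D43510) (iv F199097)
theorem F201571 : act 1 n43721 = n43532 := d11_1 D43721 (iv F201248) F201245
theorem F201572 : act 2 n43721 = n43330 := d18_1 D43721 (iv F201547) F201545
theorem F201573 : act 5 n43721 = n43214 := d30_2 D43213 D43721 (iv D43214) (iv D42469) (iv F195478)
theorem F201574 : act 7 n43721 = n43503 := d32_2 F201198 D43721 (iv F201196)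
theorem F201575 : act 8 n43721 = n43721 := d33_2 F199098 D43721 (iv D43721)
def n43722 : Q := act 5 n43218
theorem D43722 : act 5 n43218 = n43722 := rfl
theorem F201576 : act 0 n43722 = n43288 := d4_1 D43722 (iv D43288) (iv F199129)
theorem F201577 : act 1 n43722 = n43223 := d12_1 D43722 (iv D43223) (iv F199130)
theorem F201578 : act 2 n43722 = n43520 := d19_1 D43722 F200457 (iv F199131)
theorem F201579 : act 3 n43722 = n43291 := d25_1 D43722 F199591 (iv F199132)
theorem F201580 : act 4 n43722 = n43300 := d30_1 D43722 F199643 F196899 (iv F195575) (iv F199133)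
theorem F201581 : act 6 n43722 = n43281 := d35_2 D43218 D43722 (iv D43281) (iv F197778) F197777
theorem F201582 : act 7 n43722 = n43292 := d36_2 (iv F199134) D43722 F199596
theorem F201583 : act 8 n43722 = n43722 := d37_2 (iv F199135) D43722 (iv D43722) F199135 F195586
def n43723 : Q := act 9 n43218
theorem D43723 : act 9 n43218 = n43723 := rfl
theorem F201584 : act 0 n43723 = n43289 := d8_1 D43723 (iv D43289) (iv F199129)
theorem F201585 : act 1 n43723 = n43225 := d16_1 D43723 (iv D43225) (iv F199130)
theorem F201586 : act 2 n43723 = n43565 := d23_1 D43723 F200574 (iv F199131)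
theorem F201587 : act 3 n43723 = n43294 := d29_1 D43723 (iv D43294) (iv F199132)
theorem F201588 : act 4 n43723 = n43220 := d34_1 D43723 (iv D43220) (iv F199133)
theorem F201589 : act 6 n43723 = n43219 := d41_1 D43723 (iv D43219) D43218
theorem F201590 : act 7 n43723 = n43319 := d43_1 D43723 (iv D43319) (iv F199134)
theorem F201591 : act 8 n43723 = n43380 := d44_1 D43723 (iv D43380) F196870 (iv F195588) (iv F199135)
def n43724 : Q := act 5 n43221
theorem D43724 : act 5 n43221 = n43724 := rfl
theorem F201592 : act 0 n43724 = n43300 := d4_1 D43724 F199643 (iv F199150)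
theorem F201593 : act 1 n43724 = n43291 := d12_1 D43724 F199591 (iv F199151)
theorem F201594 : act 2 n43724 = n43362 := d19_1 D43724 (iv D43362) (iv F199152)
theorem F201595 : act 3 n43724 = n43223 := d25_1 D43724 (iv D43223) (iv F199153)
theorem F201596 : act 4 n43724 = n43288 := d30_1 D43724 (iv D43288) F196189 D42586 (iv F199154)
theorem F201597 : act 6 n43724 = n43274 := d35_2 D43221 D43724 (iv D43274) F196045 (iv F195608)
theorem F201598 : act 7 n43724 = n43324 := d36_2 (iv F199155) D43724 F199751
theorem F201599 : act 8 n43724 = n43724 := d37_2 (iv F199156) D43724 (iv D43724) F199156 F195641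
def n43725 : Q := act 9 n43221
theorem D43725 : act 9 n43221 = n43725 := rfl
theorem F201600 : act 0 n43725 = n43381 := d8_1 D43725 (iv D43381) (iv F199150)
theorem F201601 : act 1 n43725 = n43294 := d16_1 D43725 (iv D43294) (iv F199151)
theorem F201602 : act 2 n43725 = n43361 := d23_1 D43725 F199914 (iv F199152)
theorem F201603 : act 3 n43725 = n43225 := d29_1 D43725 (iv D43225) (iv F199153)
theorem F201604 : act 4 n43725 = n43290 := d34_1 D43725 (iv D43290) (iv F199154)
theorem F201605 : act 6 n43725 = n43222 := d41_1 D43725 (iv D43222) D43221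
theorem F201606 : act 7 n43725 = n43326 := d43_1 D43725 (iv D43326) (iv F199155)
theorem F201607 : act 8 n43725 = n43354 := d44_1 D43725 (iv D43354) F196606 (iv F195643) (iv F199156)
def n43726 : Q := act 7 n43223
theorem D43726 : act 7 n43223 = n43726 := rfl
theorem F201608 : act 0 n43726 = n43281 := d6_1 D43726 F199540 (iv F199165)
theorem F201609 : act 1 n43726 = n43292 := d14_1 D43726 (iv F201582) F201577
theorem F201610 : act 2 n43726 = n43234 := d21_1 D43726 (iv D43234) (iv F199166)
theorem F201611 : act 3 n43726 = n43324 := d27_1 D43726 (iv F201598) F201595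
theorem F201612 : act 4 n43726 = n43274 := d32_1 D43726 F199493 (iv F199167)
theorem F201613 : act 5 n43726 = n43224 := d36_1 D43726 (iv D43224) D43223
theorem F201614 : act 6 n43726 = n43288 := d39_1 D43726 F199577 (iv F199464) F199465 (iv F199168)
theorem F201615 : act 8 n43726 = n43726 := d42_2 F199169 D43726 (iv D43726)
def n43727 : Q := act 9 n43223
theorem D43727 : act 9 n43223 = n43727 := rfl
theorem F201616 : act 0 n43727 = n43328 := d8_1 D43727 (iv D43328) (iv F199165)
theorem F201617 : act 2 n43727 = n43235 := d23_1 D43727 (iv D43235) (iv F199166)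
theorem F201618 : act 4 n43727 = n43382 := d34_1 D43727 (iv D43382) (iv F199167)
theorem F201619 : act 5 n43727 = n43225 := d38_1 D43727 (iv D43225) D43223
theorem F201620 : act 6 n43727 = n43283 := d41_1 D43727 (iv D43283) (iv F199168)
def n43728 : Q := act 9 n43224
theorem D43728 : act 9 n43224 = n43728 := rfl
theorem F201621 : act 0 n43728 = n43282 := d8_1 D43728 (iv D43282) (iv F199170)
theorem F201622 : act 1 n43728 = n43319 := d16_1 D43728 (iv D43319) (iv F199171)
theorem F201623 : act 2 n43728 = n43236 := d23_1 D43728 (iv D43236) (iv F199172)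
theorem F201624 : act 3 n43728 = n43326 := d29_1 D43728 (iv D43326) (iv F199173)
theorem F201625 : act 4 n43728 = n43227 := d34_1 D43728 (iv D43227) (iv F199174)
theorem F201626 : act 6 n43728 = n43376 := d41_1 D43728 F199978 (iv F199175)
theorem F201627 : act 7 n43728 = n43225 := d43_1 D43728 (iv D43225) D43224
theorem F201628 : act 8 n43728 = n43375 := d44_1 D43728 (iv D43375) F196835 F195651 (iv F199176)
def n43729 : Q := act 8 n43225
theorem D43729 : act 8 n43225 = n43729 := rfl
theorem F201629 : act 0 n43729 = n43472 := d7_1 D43729 F200314 (iv F199177)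
theorem F201630 : act 1 n43729 = n43380 := d15_1 D43729 (iv F201591) F201585
theorem F201631 : act 2 n43729 = n43237 := d22_1 D43729 (iv D43237) (iv F199178)
theorem F201632 : act 3 n43729 = n43354 := d28_1 D43729 (iv F201607) F201603
theorem F201633 : act 4 n43729 = n43228 := d33_1 D43729 (iv D43228) (iv F199179)
theorem F201634 : act 6 n43729 = n43226 := d40_1 D43729 (iv D43226) (iv F199180)
theorem F201635 : act 7 n43729 = n43375 := d42_1 D43729 (iv F201628) F201627
theorem F201636 : act 9 n43729 = n43229 := d44_2 D43225 D43729 (iv D43229) (iv D42495) (iv F195614)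
def n43730 : Q := act 5 n43229
theorem D43730 : act 5 n43229 = n43730 := rfl
theorem F201637 : act 0 n43730 = n43471 := d4_1 D43730 (iv D43471) (iv F199205)
theorem F201638 : act 1 n43730 = n43378 := d12_1 D43730 F199983 (iv F199206)
theorem F201639 : act 2 n43730 = n43245 := d19_1 D43730 (iv D43245) (iv F199207)
theorem F201640 : act 3 n43730 = n43353 := d25_1 D43730 (iv D43353) (iv F199208)
theorem F201641 : act 4 n43730 = n43528 := d30_1 D43730 (iv D43528) F197587 (iv F195671) (iv F199209)
theorem F201642 : act 6 n43730 = n43435 := d35_2 (iv F199210) D43730 (iv D43435) (iv D42802) (iv F195665)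
theorem F201643 : act 7 n43730 = n43374 := d36_2 (iv F199211) D43730 (iv D43374)
theorem F201644 : act 8 n43730 = n43730 := d37_2 D43229 D43730 (iv D43730) (iv D43229) F195657
def n43731 : Q := act 4 n43230
theorem D43731 : act 4 n43230 = n43731 := rfl
theorem F201645 : act 0 n43731 = n43515 := d3_1 D43731 (iv D43515) (iv F199212)
theorem F201646 : act 1 n43731 = n43451 := d11_1 D43731 (iv F200737) F200735
theorem F201647 : act 3 n43731 = n43302 := d24_1 D43731 (iv D43302) F196319 (iv F195684) (iv F199213)
theorem F201648 : act 5 n43731 = n43305 := d30_2 D43230 D43731 F199659 F196342 (iv F195676)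
theorem F201649 : act 6 n43731 = n43333 := d31_2 (iv F199214) D43731 (iv D43333)
theorem F201650 : act 8 n43731 = n43731 := d33_2 F199215 D43731 (iv D43731)
def n43732 : Q := act 7 n43230
theorem D43732 : act 7 n43230 = n43732 := rfl
theorem F201651 : act 0 n43732 = n43516 := d6_1 D43732 (iv D43516) (iv F199212)
theorem F201652 : act 3 n43732 = n43234 := d27_1 D43732 (iv D43234) (iv F199213)
theorem F201653 : act 5 n43732 = n43231 := d36_1 D43732 (iv D43231) D43230
theorem F201654 : act 8 n43732 = n43732 := d42_2 F199215 D43732 (iv D43732)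
def n43733 : Q := act 9 n43230
theorem D43733 : act 9 n43230 = n43733 := rfl
theorem F201655 : act 0 n43733 = n43517 := d8_1 D43733 (iv D43517) (iv F199212)
theorem F201656 : act 3 n43733 = n43235 := d29_1 D43733 (iv D43235) (iv F199213)
theorem F201657 : act 5 n43733 = n43232 := d38_1 D43733 (iv D43232) D43230
theorem F201658 : act 6 n43733 = n43334 := d41_1 D43733 (iv D43334) (iv F199214)
def n43734 : Q := act 9 n43231
theorem D43734 : act 9 n43231 = n43734 := rfl
theorem F201659 : act 0 n43734 = n43518 := d8_1 D43734 (iv D43518) (iv F199216)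
theorem F201660 : act 3 n43734 = n43236 := d29_1 D43734 (iv D43236) (iv F199217)
theorem F201661 : act 4 n43734 = n43370 := d34_1 D43734 (iv D43370) (iv F199218)
theorem F201662 : act 6 n43734 = n43377 := d41_1 D43734 (iv D43377) (iv F199219)
theorem F201663 : act 7 n43734 = n43232 := d43_1 D43734 (iv D43232) D43231
def n43735 : Q := act 8 n43232
theorem D43735 : act 8 n43232 = n43735 := rfl
theorem F201664 : act 0 n43735 = n43519 := d7_1 D43735 (iv D43519) (iv F199221)
theorem F201665 : act 1 n43735 = n43570 := d15_1 D43735 (iv F200751) F200747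
theorem F201666 : act 2 n43735 = n43357 := d22_1 D43735 (iv F201499) F201495
theorem F201667 : act 3 n43735 = n43237 := d28_1 D43735 (iv D43237) (iv F199222)
theorem F201668 : act 4 n43735 = n43255 := d33_1 D43735 F199366 (iv F199223)
theorem F201669 : act 6 n43735 = n43233 := d40_1 D43735 (iv D43233) (iv F199224)
theorem F201670 : act 9 n43735 = n43243 := d44_2 D43232 D43735 (iv D43243) (iv D42508) (iv F195677)
def n43736 : Q := act 6 n43234
theorem D43736 : act 6 n43234 = n43736 := rfl
theorem F201671 : act 0 n43736 = n43520 := d5_1 D43736 (iv D43520) (iv F199232)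
theorem F201672 : act 1 n43736 = n43499 := d13_1 D43736 (iv F200765) F200761
theorem F201673 : act 2 n43736 = n43288 := d20_1 D43736 (iv F201614) F201610
theorem F201674 : act 4 n43736 = n43362 := d31_1 D43736 F199916 (iv F199233)
theorem F201675 : act 5 n43736 = n43286 := d35_1 D43736 F199566 (iv F198866) F198867 (iv F199234)
theorem F201676 : act 7 n43736 = n43320 := d39_2 D43234 D43736 F199729 (iv F198377) F198376
theorem F201677 : act 8 n43736 = n43736 := d40_2 F199235 D43736 (iv D43736)
def n43737 : Q := act 9 n43234
theorem D43737 : act 9 n43234 = n43737 := rfl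
theorem F201678 : act 0 n43737 = n43521 := d8_1 D43737 (iv D43521) (iv F199232)
theorem F201679 : act 4 n43737 = n43386 := d34_1 D43737 (iv D43386) (iv F199233)
theorem F201680 : act 5 n43737 = n43236 := d38_1 D43737 (iv D43236) (iv F199234)
theorem F201681 : act 7 n43737 = n43235 := d43_1 D43737 (iv D43235) D43234
def n43738 : Q := act 8 n43235
theorem D43738 : act 8 n43235 = n43738 := rfl
theorem F201682 : act 0 n43738 = n43522 := d7_1 D43738 (iv D43522) (iv F199236)
theorem F201683 : act 4 n43738 = n43390 := d33_1 D43738 (iv D43390) (iv F199237)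
theorem F201684 : act 9 n43738 = n43738 := d44_2 D43235 D43738 (iv D43738) (iv D43235) F195685
def n43739 : Q := act 8 n43236
theorem D43739 : act 8 n43236 = n43739 := rfl
theorem F201685 : act 0 n43739 = n43523 := d7_1 D43739 (iv D43523) (iv F199239)
theorem F201686 : act 1 n43739 = n43477 := d15_1 D43739 (iv F200778) F200773
theorem F201687 : act 2 n43739 = n43375 := d22_1 D43739 (iv F201628) F201623
theorem F201688 : act 4 n43739 = n43239 := d33_1 D43739 (iv D43239) (iv F199240)
theorem F201689 : act 6 n43739 = n43373 := d40_1 D43739 (iv F201463) F201461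
theorem F201690 : act 7 n43739 = n43237 := d42_1 D43739 (iv D43237) (iv F199241)
theorem F201691 : act 9 n43739 = n43244 := d44_2 D43236 D43739 (iv D43244) (iv D42510) (iv F195688)
def n43740 : Q := act 5 n43237
theorem D43740 : act 5 n43237 = n43740 := rfl
theorem F201692 : act 0 n43740 = n43524 := d4_1 D43740 (iv D43524) (iv F199242)
theorem F201693 : act 9 n43740 = n43245 := d38_2 (iv F199245) D43740 (iv D43245)
def n43741 : Q := act 6 n43238
theorem D43741 : act 6 n43238 = n43741 := rfl
theorem F201694 : act 0 n43741 = n43525 := d5_1 D43741 (iv D43525) (iv F199246)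
theorem F201695 : act 1 n43741 = n43544 := d13_1 D43741 F200794 F200788
theorem F201696 : act 2 n43741 = n43437 := d20_1 D43741 F200187 (iv F199247)
theorem F201697 : act 3 n43741 = n43258 := d26_1 D43741 F199382 (iv F199248)
theorem F201698 : act 4 n43741 = n43264 := d31_1 D43741 F199423 (iv F199249)
theorem F201699 : act 8 n43741 = n43434 := d40_2 (iv F199251) D43741 F200180
theorem F201700 : act 9 n43741 = n43246 := d41_2 (iv F199252) D43741 (iv D43246)
def n43742 : Q := act 4 n43240
theorem D43742 : act 4 n43240 = n43742 := rfl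
theorem F201701 : act 0 n43742 = n43375 := d3_1 D43742 F199972 (iv F199261)
theorem F201702 : act 1 n43742 = n43278 := d11_1 D43742 F199519 (iv F199262)
theorem F201703 : act 2 n43742 = n43523 := d18_1 D43742 F200462 (iv F199263)
theorem F201704 : act 3 n43742 = n43298 := d24_1 D43742 F199630 F196295 (iv F196089) (iv F199264)
theorem F201705 : act 6 n43742 = n43269 := d31_2 (iv F199265) D43742 (iv D43269)
theorem F201706 : act 7 n43742 = n43472 := d32_2 (iv F199266) D43742 F200312
theorem F201707 : act 8 n43742 = n43282 := d33_2 (iv F199267) D43742 F199544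
theorem F201708 : act 9 n43742 = n43247 := d34_2 (iv F199268) D43742 (iv D43247)
def n43743 : Q := act 8 n43242
theorem D43743 : act 8 n43242 = n43743 := rfl
theorem F201709 : act 0 n43743 = n43526 := d7_1 D43743 (iv D43526) (iv F199277)
theorem F201710 : act 1 n43743 = n43476 := d15_1 D43743 F200326 (iv F199278)
theorem F201711 : act 2 n43743 = n43356 := d22_1 D43743 F199894 (iv F199279)
theorem F201712 : act 3 n43743 = n43244 := d28_1 D43743 (iv D43244) (iv F199280)
theorem F201713 : act 4 n43743 = n43254 := d33_1 D43743 F199359 (iv F199281)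
theorem F201714 : act 6 n43743 = n43368 := d40_1 D43743 F199943 (iv F199283)
theorem F201715 : act 7 n43743 = n43243 := d42_1 D43743 (iv D43243) (iv F199284)
def n43744 : Q := act 5 n43243
theorem D43744 : act 5 n43243 = n43744 := rfl
theorem F201716 : act 0 n43744 = n43527 := d4_1 D43744 (iv D43527) (iv F199285)
theorem F201717 : act 1 n43744 = n43515 := d12_1 D43744 F200438 (iv F199286)
theorem F201718 : act 2 n43744 = n43355 := d19_1 D43744 (iv D43355) (iv F199287)
theorem F201719 : act 3 n43744 = n43245 := d25_1 D43744 (iv D43245) (iv F199288)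
theorem F201720 : act 4 n43744 = n43465 := d30_1 D43744 (iv D43465) F197319 (iv F195831) (iv F199289)
theorem F201721 : act 6 n43744 = n43256 := d35_2 (iv F199290) D43744 (iv D43256) (iv D42529) (iv F195725)
theorem F201722 : act 8 n43744 = n43744 := d37_2 D43243 D43744 (iv D43744) (iv D43243) F195719
def n43745 : Q := act 5 n43244
theorem D43745 : act 5 n43244 = n43745 := rfl
theorem F201723 : act 0 n43745 = n43528 := d4_1 D43745 (iv D43528) (iv F199291)
theorem F201724 : act 1 n43745 = n43473 := d12_1 D43745 F200316 (iv F199292)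
theorem F201725 : act 2 n43745 = n43374 := d19_1 D43745 (iv D43374) (iv F199293)
theorem F201726 : act 4 n43745 = n43471 := d30_1 D43745 (iv D43471) F197358 (iv F195747) (iv F199294)
theorem F201727 : act 7 n43745 = n43245 := d36_2 (iv F199296) D43745 (iv D43245)
theorem F201728 : act 8 n43745 = n43745 := d37_2 D43244 D43745 (iv D43745) (iv D43244) F195731
def n43746 : Q := act 4 n43245
theorem D43746 : act 4 n43245 = n43746 := rfl
theorem F201729 : act 0 n43746 = n43374 := d3_1 D43746 F199968 (iv F199297)
theorem F201730 : act 1 n43746 = n43277 := d11_1 D43746 (iv F200822) F200819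
theorem F201731 : act 2 n43746 = n43528 := d18_1 D43746 (iv F201641) F201639
theorem F201732 : act 3 n43746 = n43297 := d24_1 D43746 F199623 (iv F200280) (iv F201720) F201719
theorem F201733 : act 5 n43746 = n43247 := d30_2 D43245 D43746 (iv D43247) (iv D42514) (iv F195735)
theorem F201734 : act 7 n43746 = n43471 := d32_2 F201727 D43746 (iv F201726)
theorem F201735 : act 8 n43746 = n43746 := d33_2 F199298 D43746 (iv D43746)
theorem F201736 : act 6 n43487 = n43746 := d45_4 F191438 (iv F193822) (iv F197399) D43487 F201734 F200308 F200306 (iv F200475) (iv F201440) (iv D43699) (iv D43168) F195130 F191201 D41514 F191214 F187033 F182261 F176763 F170165 (iv F170009) F170005 F162746 F156786 F148027 F139731 (iv F149020) F149021 (iv F149041) F149042 F139888 F114303 (iv F141293) F141294 (iv F149994) (iv F157677) F157678 F157679 (iv F157692) (iv F165269) (iv F170693) F170694 (iv F171946) (iv F178175) (iv F183322) (iv F188020) (iv F191692) F191693 D41849 F192801 (iv F192036) F192037 D41671 F192041 F188583 (iv D40096) (iv F184937) (iv F189437) (iv F193741) F193742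 (iv D42135) (iv D41131) (iv F189350) (iv F191436)
def n43747 : Q := act 6 n43245
theorem D43747 : act 6 n43245 = n43747 := rfl
theorem F201737 : act 0 n43747 = n43529 := d5_1 D43747 (iv D43529) (iv F199297)
theorem F201738 : act 1 n43747 = n43540 := d13_1 D43747 (iv F200823) F200819
theorem F201739 : act 2 n43747 = n43435 := d20_1 D43747 (iv F201642) F201639
theorem F201740 : act 3 n43747 = n43256 := d26_1 D43747 (iv F201721) F201719
theorem F201741 : act 4 n43747 = n43487 := d31_1 D43747 F201736 (iv D43746)
theorem F201742 : act 5 n43747 = n43246 := d35_1 D43747 (iv D43246) (iv D42512) (iv F195736) D43245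
theorem F201743 : act 8 n43747 = n43747 := d40_2 F199298 D43747 (iv D43747)
def n43748 : Q := act 7 n43246
theorem D43748 : act 7 n43246 = n43748 := rfl
theorem F201744 : act 0 n43748 = n43530 := d6_1 D43748 (iv D43530) (iv F199299)
theorem F201745 : act 1 n43748 = n43396 := d14_1 D43748 F200049 (iv F199300)
theorem F201746 : act 2 n43748 = n43436 := d21_1 D43748 (iv D43436) (iv F199301)
theorem F201747 : act 3 n43748 = n43257 := d27_1 D43748 (iv D43257) (iv F199302)
theorem F201748 : act 4 n43748 = n43263 := d32_1 D43748 (iv D43263) (iv F199303)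
theorem F201749 : act 6 n43748 = n43457 := d39_1 D43748 (iv D43457) (iv D42830) (iv F195741) D43246
theorem F201750 : act 8 n43748 = n43248 := d42_2 (iv F199304) D43748 (iv D43248)
def n43749 : Q := act 3 n43249
theorem D43749 : act 3 n43249 = n43749 := rfl
theorem F201751 : act 0 n43749 = n43556 := d2_1 D43749 F200551 (iv F199320)
theorem F201752 : act 1 n43749 = n43368 := d10_1 D43749 F199942 (iv F199321)
theorem F201753 : act 4 n43749 = n43480 := d24_2 D43249 D43749 F200337 F197382 (iv F195786)
theorem F201754 : act 6 n43749 = n43476 := d26_2 (iv F199323) D43749 (iv D43476)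
theorem F201755 : act 7 n43749 = n43352 := d27_2 (iv F199324) D43749 F199872
theorem F201756 : act 8 n43749 = n43251 := d28_2 (iv F199325) D43749 (iv D43251)
def n43750 : Q := act 9 n43249
theorem D43750 : act 9 n43249 = n43750 := rfl
theorem F201757 : act 0 n43750 = n43555 := d8_1 D43750 F200550 (iv F199320)
theorem F201758 : act 1 n43750 = n43373 := d16_1 D43750 (iv D43373) (iv F199321)
theorem F201759 : act 2 n43750 = n43252 := d23_1 D43750 (iv D43252) (iv F199322)
theorem F201760 : act 4 n43750 = n43250 := d34_1 D43750 (iv D43250) D43249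
theorem F201761 : act 6 n43750 = n43477 := d41_1 D43750 (iv D43477) (iv F199323)
theorem F201762 : act 7 n43750 = n43349 := d43_1 D43750 F199859 (iv F199324)
theorem F201763 : act 8 n43750 = n43348 := d44_1 D43750 (iv D43348) F196545 (iv F195801) (iv F199325)
def n43751 : Q := act 9 n43254
theorem D43751 : act 9 n43254 = n43751 := rfl
theorem F201764 : act 0 n43751 = n43531 := d8_1 D43751 (iv D43531) (iv F199354)
theorem F201765 : act 1 n43751 = n43481 := d16_1 D43751 (iv D43481) (iv F199355)
theorem F201766 : act 2 n43751 = n43377 := d23_1 D43751 (iv D43377) (iv F199356)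
theorem F201767 : act 3 n43751 = n43371 := d29_1 D43751 F199957 (iv F199357)
theorem F201768 : act 5 n43751 = n43537 := d38_1 D43751 (iv D43537) (iv F199358)
theorem F201769 : act 7 n43751 = n43255 := d43_1 D43751 (iv D43255) D43254
theorem F201770 : act 8 n43751 = n43370 := d44_1 D43751 (iv D43370) F196788 (iv F195986) (iv F199359)
def n43752 : Q := act 7 n43256
theorem D43752 : act 7 n43256 = n43752 := rfl
theorem F201771 : act 0 n43752 = n43532 := d6_1 D43752 (iv D43532) (iv F199367)
theorem F201772 : act 1 n43752 = n43393 := d14_1 D43752 F200042 (iv F199368)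
theorem F201773 : act 2 n43752 = n43378 := d21_1 D43752 (iv D43378) (iv F199369)
theorem F201774 : act 4 n43752 = n43391 := d32_1 D43752 F200033 (iv F199370)
theorem F201775 : act 5 n43752 = n43257 := d36_1 D43752 (iv D43257) D43256
theorem F201776 : act 8 n43752 = n43752 := d42_2 F199371 D43752 (iv D43752)
def n43753 : Q := act 9 n43256
theorem D43753 : act 9 n43256 = n43753 := rfl
theorem F201777 : act 0 n43753 = n43533 := d8_1 D43753 (iv D43533) (iv F199367)
theorem F201778 : act 1 n43753 = n43541 := d16_1 D43753 (iv D43541) (iv F199368)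
theorem F201779 : act 2 n43753 = n43379 := d23_1 D43753 (iv D43379) (iv F199369)
theorem F201780 : act 4 n43753 = n43504 := d34_1 D43753 (iv D43504) (iv F199370)
theorem F201781 : act 5 n43753 = n43258 := d38_1 D43753 (iv D43258) D43256
def n43754 : Q := act 9 n43257
theorem D43754 : act 9 n43257 = n43754 := rfl
theorem F201782 : act 0 n43754 = n43534 := d8_1 D43754 (iv D43534) (iv F199372)
theorem F201783 : act 1 n43754 = n43397 := d16_1 D43754 (iv D43397) (iv F199373)
theorem F201784 : act 2 n43754 = n43380 := d23_1 D43754 (iv D43380) (iv F199374)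
theorem F201785 : act 4 n43754 = n43260 := d34_1 D43754 (iv D43260) (iv F199375)
theorem F201786 : act 6 n43754 = n43460 := d41_1 D43754 (iv D43460) (iv F199376)
theorem F201787 : act 7 n43754 = n43258 := d43_1 D43754 (iv D43258) D43257
theorem F201788 : act 8 n43754 = n43565 := d44_1 D43754 F200574 F197740 F195872 (iv F199377)
def n43755 : Q := act 8 n43258
theorem D43755 : act 8 n43258 = n43755 := rfl
theorem F201789 : act 0 n43755 = n43321 := d7_1 D43755 F199735 (iv F199378)
theorem F201790 : act 1 n43755 = n43536 := d15_1 D43755 F200502 (iv F199379)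
theorem F201791 : act 2 n43755 = n43319 := d22_1 D43755 F199726 (iv F199380)
theorem F201792 : act 3 n43755 = n43434 := d28_1 D43755 (iv F201699) F201697
theorem F201793 : act 4 n43755 = n43261 := d33_1 D43755 (iv D43261) (iv F199381)
theorem F201794 : act 6 n43755 = n43259 := d40_1 D43755 (iv D43259) (iv F199382)
theorem F201795 : act 7 n43755 = n43565 := d42_1 D43755 (iv F201788) F201787
theorem F201796 : act 9 n43755 = n43262 := d44_2 D43258 D43755 (iv D43262) (iv D42535) (iv F195842)
def n43756 : Q := act 9 n43263
theorem D43756 : act 9 n43263 = n43756 := rfl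
theorem F201797 : act 0 n43756 = n43535 := d8_1 D43756 (iv D43535) (iv F199414)
theorem F201798 : act 1 n43756 = n43401 := d16_1 D43756 (iv D43401) (iv F199415)
theorem F201799 : act 3 n43756 = n43265 := d29_1 D43756 (iv D43265) (iv F199416)
theorem F201800 : act 5 n43756 = n43553 := d38_1 D43756 (iv D43553) (iv F199417)
theorem F201801 : act 7 n43756 = n43264 := d43_1 D43756 (iv D43264) D43263
def n43757 : Q := act 4 n43267
theorem D43757 : act 4 n43267 = n43757 := rfl
theorem F201802 : act 0 n43757 = n43373 := d3_1 D43757 F199964 (iv F199438)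
theorem F201803 : act 1 n43757 = n43424 := d11_1 D43757 F200139 (iv F199439)
theorem F201804 : act 2 n43757 = n43269 := d18_1 D43757 (iv D43269) (iv F199440)
theorem F201805 : act 5 n43757 = n43486 := d30_2 D43267 D43757 F200356 (iv F198630) F198629
theorem F201806 : act 6 n43757 = n43523 := d31_2 (iv F199442) D43757 F200462
theorem F201807 : act 7 n43757 = n43383 := d32_2 (iv F199443) D43757 F200005
theorem F201808 : act 8 n43757 = n43462 := d33_2 (iv F199444) D43757 F200261
theorem F201809 : act 9 n43757 = n43268 := d34_2 (iv F199445) D43757 (iv D43268)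
theorem F201810 : act 3 n43569 = n43757 := d29_3 F201809 (iv F199453) D43569
def n43758 : Q := act 9 n43270
theorem D43758 : act 9 n43270 = n43758 := rfl
theorem F201811 : act 0 n43758 = n43293 := d8_1 D43758 (iv D43293) (iv F199460)
theorem F201812 : act 1 n43758 = n43328 := d16_1 D43758 (iv D43328) (iv F199461)
theorem F201813 : act 2 n43758 = n43538 := d23_1 D43758 (iv D43538) (iv F199462)
theorem F201814 : act 3 n43758 = n43382 := d29_1 D43758 (iv D43382) (iv F199463)
theorem F201815 : act 5 n43758 = n43271 := d38_1 D43758 (iv D43271) D43270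
theorem F201816 : act 6 n43758 = n43325 := d41_1 D43758 (iv D43325) (iv F199464)
theorem F201817 : act 7 n43758 = n43283 := d43_1 D43758 (iv D43283) (iv F199465)
def n43759 : Q := act 5 n43272
theorem D43759 : act 5 n43272 = n43759 := rfl
theorem F201818 : act 0 n43759 = n43324 := d4_1 D43759 F199751 (iv F199475)
theorem F201819 : act 1 n43759 = n43274 := d12_1 D43759 (iv D43274) (iv F199476)
theorem F201820 : act 2 n43759 = n43566 := d19_1 D43759 (iv D43566) (iv F199477)
theorem F201821 : act 3 n43759 = n43281 := d25_1 D43759 (iv D43281) (iv F199478)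
theorem F201822 : act 4 n43759 = n43292 := d30_1 D43759 F199596 F196401 (iv F196030) (iv F199479)
theorem F201823 : act 6 n43759 = n43291 := d35_2 (iv F199480) D43759 F199591 F196213 (iv F196310)
theorem F201824 : act 7 n43759 = n43300 := d36_2 (iv F199481) D43759 F199643
theorem F201825 : act 8 n43759 = n43759 := d37_2 D43272 D43759 (iv D43759) (iv D43272) F196022
def n43760 : Q := act 9 n43272
theorem D43760 : act 9 n43272 = n43760 := rfl
theorem F201826 : act 0 n43760 = n43326 := d8_1 D43760 (iv D43326) (iv F199475)
theorem F201827 : act 1 n43760 = n43275 := d16_1 D43760 (iv D43275) (iv F199476)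
theorem F201828 : act 2 n43760 = n43563 := d23_1 D43760 F200571 (iv F199477)
theorem F201829 : act 3 n43760 = n43282 := d29_1 D43760 (iv D43282) (iv F199478)
theorem F201830 : act 4 n43760 = n43273 := d34_1 D43760 (iv D43273) (iv F199479)
theorem F201831 : act 6 n43760 = n43299 := d41_1 D43760 F199639 (iv F199480)
theorem F201832 : act 7 n43760 = n43381 := d43_1 D43760 (iv D43381) (iv F199481)
theorem F201833 : act 8 n43760 = n43298 := d44_1 D43760 (iv D43298) F196285 (iv F196025) D43272
def n43761 : Q := act 9 n43274
theorem D43761 : act 9 n43274 = n43761 := rfl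
theorem F201834 : act 0 n43761 = n43301 := d8_1 D43761 (iv D43301) (iv F199490)
theorem F201835 : act 2 n43761 = n43386 := d23_1 D43761 (iv D43386) (iv F199491)
theorem F201836 : act 3 n43761 = n43283 := d29_1 D43761 (iv D43283) (iv F199492)
theorem F201837 : act 5 n43761 = n43275 := d38_1 D43761 (iv D43275) D43274
theorem F201838 : act 7 n43761 = n43382 := d43_1 D43761 (iv D43382) (iv F199493)
def n43762 : Q := act 9 n43277
theorem D43762 : act 9 n43277 = n43762 := rfl
theorem F201839 : act 0 n43762 = n43304 := d8_1 D43762 (iv D43304) (iv F199511)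
theorem F201840 : act 2 n43762 = n43395 := d23_1 D43762 (iv D43395) (iv F199512)
theorem F201841 : act 3 n43762 = n43367 := d29_1 D43762 (iv D43367) (iv F199513)
theorem F201842 : act 5 n43762 = n43278 := d38_1 D43762 (iv D43278) D43277
theorem F201843 : act 7 n43762 = n43475 := d43_1 D43762 (iv D43475) (iv F199514)
def n43763 : Q := act 9 n43279
theorem D43763 : act 9 n43279 = n43763 := rfl
theorem F201844 : act 0 n43763 = n43313 := d8_1 D43763 (iv D43313) (iv F199523)
theorem F201845 : act 1 n43763 = n43444 := d16_1 D43763 (iv D43444) (iv F199524)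
theorem F201846 : act 2 n43763 = n43280 := d23_1 D43763 (iv D43280) D43279
theorem F201847 : act 3 n43763 = n43568 := d29_1 D43763 (iv D43568) (iv F199525)
theorem F201848 : act 4 n43763 = n43411 := d34_1 D43763 (iv D43411) (iv F199526)
theorem F201849 : act 5 n43763 = n43383 := d38_1 D43763 (iv D43383) (iv F199527)
theorem F201850 : act 7 n43763 = n43486 := d43_1 D43763 (iv D43486) (iv F199528)
theorem F201851 : act 8 n43763 = n43445 := d44_1 D43763 (iv D43445) F197163 (iv F196140) (iv F199529)
def n43764 : Q := act 9 n43281
theorem D43764 : act 9 n43281 = n43764 := rfl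
theorem F201852 : act 1 n43764 = n43283 := d16_1 D43764 (iv D43283) (iv F199537)
theorem F201853 : act 2 n43764 = n43521 := d23_1 D43764 (iv D43521) (iv F199538)
theorem F201854 : act 4 n43764 = n43301 := d34_1 D43764 (iv D43301) (iv F199539)
theorem F201855 : act 5 n43764 = n43282 := d38_1 D43764 (iv D43282) D43281
theorem F201856 : act 7 n43764 = n43328 := d43_1 D43764 (iv D43328) (iv F199540)
def n43765 : Q := act 8 n43283
theorem D43765 : act 8 n43283 = n43765 := rfl
theorem F201857 : act 0 n43765 = n43329 := d7_1 D43765 (iv D43329) (iv F199546)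
theorem F201858 : act 9 n43765 = n43765 := d44_2 D43283 D43765 (iv D43765) (iv D43283) F196151
def n43766 : Q := act 9 n43284
theorem D43766 : act 9 n43284 = n43766 := rfl
theorem F201859 : act 0 n43766 = n43382 := d8_1 D43766 (iv D43382) (iv F199548)
theorem F201860 : act 2 n43766 = n43367 := d23_1 D43766 (iv D43367) (iv F199549)
theorem F201861 : act 3 n43766 = n43293 := d29_1 D43766 (iv D43293) (iv F199550)
theorem F201862 : act 4 n43766 = n43328 := d34_1 D43766 (iv D43328) (iv F199551)
theorem F201863 : act 5 n43766 = n43285 := d38_1 D43766 (iv D43285) D43284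
theorem F201864 : act 6 n43766 = n43327 := d41_1 D43766 (iv D43327) (iv F199552)
theorem F201865 : act 7 n43766 = n43301 := d43_1 D43766 (iv D43301) (iv F199553)
def n43767 : Q := act 9 n43286
theorem D43767 : act 9 n43286 = n43767 := rfl
theorem F201866 : act 0 n43767 = n43565 := d8_1 D43767 F200574 (iv F199562)
theorem F201867 : act 1 n43767 = n43501 := d16_1 D43767 (iv D43501) (iv F199563)
theorem F201868 : act 2 n43767 = n43289 := d23_1 D43767 (iv D43289) (iv F199564)
theorem F201869 : act 4 n43767 = n43287 := d34_1 D43767 (iv D43287) (iv F199565)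
theorem F201870 : act 6 n43767 = n43365 := d41_1 D43767 F199928 (iv F199566)
theorem F201871 : act 7 n43767 = n43321 := d43_1 D43767 (iv D43321) (iv F199567)
theorem F201872 : act 8 n43767 = n43534 := d44_1 D43767 (iv D43534) F197610 (iv F196180) D43286
def n43768 : Q := act 9 n43288
theorem D43768 : act 9 n43288 = n43768 := rfl
theorem F201873 : act 1 n43768 = n43293 := d16_1 D43768 (iv D43293) (iv F199576)
theorem F201874 : act 5 n43768 = n43289 := d38_1 D43768 (iv D43289) D43288
theorem F201875 : act 7 n43768 = n43325 := d43_1 D43768 (iv D43325) (iv F199577)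
def n43769 : Q := act 9 n43291
theorem D43769 : act 9 n43291 = n43769 := rfl
theorem F201876 : act 4 n43769 = n43293 := d34_1 D43769 (iv D43293) D43291
theorem F201877 : act 5 n43769 = n43294 := d38_1 D43769 (iv D43294) (iv F199591)
theorem F201878 : act 7 n43769 = n43327 := d43_1 D43769 (iv D43327) (iv F199592)
def n43770 : Q := act 9 n43292
theorem D43770 : act 9 n43292 = n43770 := rfl
theorem F201879 : act 0 n43770 = n43325 := d8_1 D43770 (iv D43325) (iv F199594)
theorem F201880 : act 3 n43770 = n43327 := d29_1 D43770 (iv D43327) (iv F199595)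
theorem F201881 : act 5 n43770 = n43319 := d38_1 D43770 (iv D43319) (iv F199596)
theorem F201882 : act 6 n43770 = n43293 := d41_1 D43770 (iv D43293) D43292
def n43771 : Q := act 8 n43293
theorem D43771 : act 8 n43293 = n43771 := rfl
theorem F201883 : act 7 n43771 = n43329 := d42_1 D43771 (iv D43329) (iv F199599)
theorem F201884 : act 9 n43771 = n43771 := d44_2 D43293 D43771 (iv D43771) (iv D43293) F196210
def n43772 : Q := act 9 n43295
theorem D43772 : act 9 n43295 = n43772 := rfl
theorem F201885 : act 0 n43772 = n43386 := d8_1 D43772 (iv D43386) (iv F199604)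
theorem F201886 : act 1 n43772 = n43557 := d16_1 D43772 (iv D43557) (iv F199605)
theorem F201887 : act 2 n43772 = n43301 := d23_1 D43772 (iv D43301) (iv F199606)
theorem F201888 : act 3 n43772 = n43475 := d29_1 D43772 (iv D43475) (iv F199607)
theorem F201889 : act 4 n43772 = n43521 := d34_1 D43772 (iv D43521) (iv F199608)
theorem F201890 : act 5 n43772 = n43296 := d38_1 D43772 (iv D43296) D43295
theorem F201891 : act 6 n43772 = n43564 := d41_1 D43772 F200572 (iv F199609)
theorem F201892 : act 7 n43772 = n43367 := d43_1 D43772 (iv D43367) (iv F199610)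
def n43773 : Q := act 9 n43297
theorem D43773 : act 9 n43297 = n43773 := rfl
theorem F201893 : act 0 n43773 = n43387 := d8_1 D43773 (iv D43387) (iv F199620)
theorem F201894 : act 1 n43773 = n43367 := d16_1 D43773 (iv D43367) (iv F199621)
theorem F201895 : act 2 n43773 = n43561 := d23_1 D43773 (iv D43561) (iv F199622)
theorem F201896 : act 4 n43773 = n43469 := d34_1 D43773 (iv D43469) (iv F199623)
theorem F201897 : act 5 n43773 = n43298 := d38_1 D43773 (iv D43298) D43297
theorem F201898 : act 6 n43773 = n43491 := d41_1 D43773 (iv D43491) (iv F199624)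
theorem F201899 : act 7 n43773 = n43557 := d43_1 D43773 (iv D43557) (iv F199625)
def n43774 : Q := act 9 n43300
theorem D43774 : act 9 n43300 = n43774 := rfl
theorem F201900 : act 1 n43774 = n43382 := d16_1 D43774 (iv D43382) (iv F199640)
theorem F201901 : act 2 n43774 = n43564 := d23_1 D43774 F200572 (iv F199641)
theorem F201902 : act 3 n43774 = n43328 := d29_1 D43774 (iv D43328) (iv F199642)
theorem F201903 : act 5 n43774 = n43381 := d38_1 D43774 (iv D43381) (iv F199643)
theorem F201904 : act 6 n43774 = n43301 := d41_1 D43774 (iv D43301) D43300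
def n43775 : Q := act 8 n43301
theorem D43775 : act 8 n43301 = n43775 := rfl
theorem F201905 : act 3 n43775 = n43329 := d28_1 D43775 (iv D43329) (iv F199645)
theorem F201906 : act 5 n43775 = n43390 := d37_1 D43775 (iv D43390) F196964 (iv F196317) (iv F199646)
theorem F201907 : act 9 n43775 = n43775 := d44_2 D43301 D43775 (iv D43775) (iv D43301) F196313
def n43776 : Q := act 6 n43302
theorem D43776 : act 6 n43302 = n43776 := rfl
theorem F201908 : act 0 n43776 = n43540 := d5_1 D43776 (iv F200823) F200818
theorem F201909 : act 1 n43776 = n43446 := d13_1 D43776 F200210 (iv F199647)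
theorem F201910 : act 3 n43776 = n43333 := d26_1 D43776 (iv F201649) F201647
theorem F201911 : act 4 n43776 = n43303 := d31_1 D43776 (iv D43303) D43302
theorem F201912 : act 5 n43776 = n43335 := d35_1 D43776 F199792 (iv D42788) (iv F196327) (iv F199648)
theorem F201913 : act 8 n43776 = n43776 := d40_2 F199649 D43776 (iv D43776)
def n43777 : Q := act 9 n43302
theorem D43777 : act 9 n43302 = n43777 := rfl
theorem F201914 : act 1 n43777 = n43455 := d16_1 D43777 (iv D43455) (iv F199647)
theorem F201915 : act 4 n43777 = n43304 := d34_1 D43777 (iv D43304) D43302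
theorem F201916 : act 5 n43777 = n43306 := d38_1 D43777 (iv D43306) (iv F199648)
def n43778 : Q := act 7 n43303
theorem D43778 : act 7 n43303 = n43778 := rfl
theorem F201917 : act 1 n43778 = n43558 := d14_1 D43778 (iv D43558) (iv F199650)
theorem F201918 : act 3 n43778 = n43388 := d27_1 D43778 (iv D43388) (iv F199651)
theorem F201919 : act 5 n43778 = n43511 := d36_1 D43778 (iv D43511) (iv F199652)
theorem F201920 : act 8 n43778 = n43778 := d42_2 F199653 D43778 (iv D43778)
def n43779 : Q := act 9 n43303
theorem D43779 : act 9 n43303 = n43779 := rfl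
theorem F201921 : act 1 n43779 = n43559 := d16_1 D43779 (iv D43559) (iv F199650)
theorem F201922 : act 3 n43779 = n43389 := d29_1 D43779 (iv D43389) (iv F199651)
theorem F201923 : act 5 n43779 = n43512 := d38_1 D43779 (iv D43512) (iv F199652)
theorem F201924 : act 6 n43779 = n43304 := d41_1 D43779 (iv D43304) D43303
def n43780 : Q := act 8 n43304
theorem D43780 : act 8 n43304 = n43780 := rfl
theorem F201925 : act 1 n43780 = n43573 := d15_1 D43780 (iv D43573) (iv F199654)
theorem F201926 : act 3 n43780 = n43390 := d28_1 D43780 (iv D43390) (iv F199655)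
theorem F201927 : act 5 n43780 = n43329 := d37_1 D43780 (iv D43329) F196449 (iv F196325) (iv F199656)
theorem F201928 : act 9 n43780 = n43780 := d44_2 D43304 D43780 (iv D43780) (iv D43304) F196320
def n43781 : Q := act 2 n43305
theorem D43781 : act 2 n43305 = n43781 := rfl
theorem F201929 : act 0 n43781 = n43567 := d1_1 D43781 F200577 (iv F199657)
theorem F201930 : act 4 n43781 = n43308 := d18_2 (iv F199659) D43781 (iv D43308)
theorem F201931 : act 6 n43781 = n43421 := d20_2 (iv F199660) D43781 F200125
theorem F201932 : act 8 n43781 = n43307 := d22_2 (iv F199661) D43781 (iv D43307)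
def n43782 : Q := act 9 n43305
theorem D43782 : act 9 n43305 = n43782 := rfl
theorem F201933 : act 0 n43782 = n43570 := d8_1 D43782 (iv D43570) (iv F199657)
theorem F201934 : act 1 n43782 = n43453 := d16_1 D43782 (iv D43453) (iv F199658)
theorem F201935 : act 3 n43782 = n43306 := d29_1 D43782 (iv D43306) D43305
theorem F201936 : act 4 n43782 = n43309 := d34_1 D43782 (iv D43309) (iv F199659)
theorem F201937 : act 6 n43782 = n43415 := d41_1 D43782 F200109 (iv F199660)
theorem F201938 : act 8 n43782 = n43414 := d44_1 D43782 (iv D43414) F197039 (iv F196339) (iv F199661)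
def n43783 : Q := act 1 n43308
theorem D43783 : act 1 n43308 = n43783 := rfl
theorem F201939 : act 0 n43783 = n43549 := d0_1 D43783 F200531 (iv F199825) F199826 (iv F199671)
theorem F201940 : act 2 n43783 = n43341 := d9_2 D43308 D43783 F199818 F197196 (iv F196341)
theorem F201941 : act 3 n43783 = n43311 := d10_2 (iv F199672) D43783 (iv D43311)
theorem F201942 : act 5 n43783 = n43352 := d12_2 (iv F199673) D43783 F199871
theorem F201943 : act 6 n43783 = n43342 := d13_2 (iv F199674) D43783 F199822
theorem F201944 : act 8 n43783 = n43310 := d15_2 (iv F199675) D43783 (iv D43310)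
def n43784 : Q := act 9 n43308
theorem D43784 : act 9 n43308 = n43784 := rfl
theorem F201945 : act 0 n43784 = n43568 := d8_1 D43784 (iv D43568) (iv F199671)
theorem F201946 : act 2 n43784 = n43309 := d23_1 D43784 (iv D43309) D43308
theorem F201947 : act 3 n43784 = n43313 := d29_1 D43784 (iv D43313) (iv F199672)
theorem F201948 : act 5 n43784 = n43369 := d38_1 D43784 (iv D43369) (iv F199673)
theorem F201949 : act 6 n43784 = n43445 := d41_1 D43784 (iv D43445) (iv F199674)
def n43785 : Q := act 6 n43311
theorem D43785 : act 6 n43311 = n43785 := rfl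
theorem F201950 : act 0 n43785 = n43545 := d5_1 D43785 F200521 (iv F199687)
theorem F201951 : act 1 n43785 = n43312 := d13_1 D43785 (iv D43312) D43311
theorem F201952 : act 2 n43785 = n43352 := d20_1 D43785 F199873 (iv F199688)
theorem F201953 : act 3 n43785 = n43342 := d26_1 D43785 (iv F201943) F201941
theorem F201954 : act 5 n43785 = n43341 := d35_1 D43785 F199820 (iv D42670) (iv F196582) (iv F199689)
theorem F201955 : act 8 n43785 = n43317 := d40_2 (iv F199690) D43785 (iv D43317)
def n43786 : Q := act 9 n43311
theorem D43786 : act 9 n43311 = n43786 := rfl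
theorem F201956 : act 0 n43786 = n43552 := d8_1 D43786 F200542 (iv F199687)
theorem F201957 : act 1 n43786 = n43313 := d16_1 D43786 (iv D43313) D43311
theorem F201958 : act 2 n43786 = n43347 := d23_1 D43786 F199848 (iv F199688)
theorem F201959 : act 5 n43786 = n43349 := d38_1 D43786 F199859 (iv F199689)
theorem F201960 : act 8 n43786 = n43344 := d44_1 D43786 (iv D43344) F196531 (iv F196390) (iv F199690)
def n43787 : Q := act 7 n43312
theorem D43787 : act 7 n43312 = n43787 := rfl
theorem F201961 : act 2 n43787 = n43314 := d21_1 D43787 (iv D43314) (iv F199691)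
theorem F201962 : act 3 n43787 = n43427 := d27_1 D43787 F200153 (iv F199692)
theorem F201963 : act 5 n43787 = n43457 := d36_1 D43787 (iv D43457) (iv F199693)
theorem F201964 : act 8 n43787 = n43318 := d42_2 (iv F199694) D43787 (iv D43318)
def n43788 : Q := act 9 n43312
theorem D43788 : act 9 n43312 = n43788 := rfl
theorem F201965 : act 2 n43788 = n43315 := d23_1 D43788 (iv D43315) (iv F199691)
theorem F201966 : act 3 n43788 = n43445 := d29_1 D43788 (iv D43445) (iv F199692)
theorem F201967 : act 5 n43788 = n43450 := d38_1 D43788 F200223 (iv F199693)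
theorem F201968 : act 6 n43788 = n43313 := d41_1 D43788 (iv D43313) D43312
theorem F201969 : act 8 n43788 = n43568 := d44_1 D43788 (iv D43568) F197743 (iv F196394) (iv F199694)
def n43789 : Q := act 9 n43314
theorem D43789 : act 9 n43314 = n43789 := rfl
theorem F201970 : act 1 n43789 = n43370 := d16_1 D43789 (iv D43370) (iv F199697)
theorem F201971 : act 3 n43789 = n43316 := d29_1 D43789 (iv D43316) (iv F199698)
theorem F201972 : act 5 n43789 = n43458 := d38_1 D43789 (iv D43458) (iv F199699)
theorem F201973 : act 7 n43789 = n43315 := d43_1 D43789 (iv D43315) D43314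
theorem F201974 : act 8 n43789 = n43481 := d44_1 D43789 (iv D43481) F197380 (iv F196398) (iv F199700)
def n43790 : Q := act 4 n43320
theorem D43790 : act 4 n43320 = n43790 := rfl
theorem F201975 : act 0 n43790 = n43566 := d3_1 D43790 (iv F201096) F201092
theorem F201976 : act 1 n43790 = n43482 := d11_1 D43790 F200343 (iv F199727)
theorem F201977 : act 2 n43790 = n43324 := d18_1 D43790 (iv D43324) (iv F199728)
theorem F201978 : act 5 n43790 = n43322 := d30_2 D43320 D43790 (iv D43322) (iv D42629) (iv F196409)
theorem F201979 : act 6 n43790 = n43388 := d31_2 (iv F199729) D43790 F200024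
theorem F201980 : act 7 n43790 = n43362 := d32_2 F201676 D43790 (iv F201674)
theorem F201981 : act 8 n43790 = n43790 := d33_2 F199730 D43790 (iv D43790)
def n43791 : Q := act 9 n43320
theorem D43791 : act 9 n43320 = n43791 := rfl
theorem F201982 : act 1 n43791 = n43500 := d16_1 D43791 (iv D43500) (iv F199727)
theorem F201983 : act 2 n43791 = n43325 := d23_1 D43791 (iv D43325) (iv F199728)
theorem F201984 : act 5 n43791 = n43321 := d38_1 D43791 (iv D43321) D43320
theorem F201985 : act 6 n43791 = n43538 := d41_1 D43791 (iv D43538) (iv F199729)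
def n43792 : Q := act 9 n43322
theorem D43792 : act 9 n43322 = n43792 := rfl
theorem F201986 : act 0 n43792 = n43563 := d8_1 D43792 F200571 (iv F199736)
theorem F201987 : act 1 n43792 = n43483 := d16_1 D43792 (iv D43483) (iv F199737)
theorem F201988 : act 2 n43792 = n43326 := d23_1 D43792 (iv D43326) (iv F199738)
theorem F201989 : act 4 n43792 = n43323 := d34_1 D43792 (iv D43323) D43322
theorem F201990 : act 6 n43792 = n43371 := d41_1 D43792 F199957 (iv F199739)
theorem F201991 : act 7 n43792 = n43361 := d43_1 D43792 F199914 (iv F199740)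
theorem F201992 : act 8 n43792 = n43360 := d44_1 D43792 (iv D43360) F196641 (iv F196429) (iv F199741)
def n43793 : Q := act 9 n43324
theorem D43793 : act 9 n43324 = n43793 := rfl
theorem F201993 : act 1 n43793 = n43327 := d16_1 D43793 (iv D43327) (iv F199750)
theorem F201994 : act 4 n43793 = n43325 := d34_1 D43793 (iv D43325) D43324
theorem F201995 : act 5 n43793 = n43326 := d38_1 D43793 (iv D43326) (iv F199751)
def n43794 : Q := act 8 n43325
theorem D43794 : act 8 n43325 = n43794 := rfl
theorem F201996 : act 1 n43794 = n43329 := d15_1 D43794 (iv D43329) (iv F199753)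
theorem F201997 : act 5 n43794 = n43573 := d37_1 D43794 (iv D43573) F197760 (iv F196435) (iv F199754)
theorem F201998 : act 9 n43794 = n43794 := d44_2 D43325 D43794 (iv D43794) (iv D43325) F196431
def n43795 : Q := act 8 n43327
theorem D43795 : act 8 n43327 = n43795 := rfl
theorem F201999 : act 4 n43795 = n43329 := d33_1 D43795 (iv D43329) (iv F199759)
theorem F202000 : act 5 n43795 = n43442 := d37_1 D43795 (iv D43442) F197145 (iv F196452) (iv F199760)
theorem F202001 : act 9 n43795 = n43795 := d44_2 D43327 D43795 (iv D43795) (iv D43327) F196445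
def n43796 : Q := act 8 n43328
theorem D43796 : act 8 n43328 = n43796 := rfl
theorem F202002 : act 2 n43796 = n43522 := d22_1 D43796 (iv D43522) (iv F199761)
theorem F202003 : act 6 n43796 = n43329 := d40_1 D43796 (iv D43329) (iv F199763)
theorem F202004 : act 9 n43796 = n43796 := d44_2 D43328 D43796 (iv D43796) (iv D43328) F196448
def n43797 : Q := act 9 n43330
theorem D43797 : act 9 n43330 = n43797 := rfl
theorem F202005 : act 1 n43797 = n43334 := d16_1 D43797 (iv D43334) (iv F199765)
theorem F202006 : act 3 n43797 = n43539 := d29_1 D43797 (iv D43539) (iv F199766)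
theorem F202007 : act 5 n43797 = n43331 := d38_1 D43797 (iv D43331) D43330
theorem F202008 : act 7 n43797 = n43508 := d43_1 D43797 F200418 (iv F199767)
def n43798 : Q := act 9 n43333
theorem D43798 : act 9 n43333 = n43798 := rfl
theorem F202009 : act 0 n43798 = n43541 := d8_1 D43798 (iv D43541) (iv F199784)
theorem F202010 : act 4 n43798 = n43334 := d34_1 D43798 (iv D43334) D43333
theorem F202011 : act 5 n43798 = n43336 := d38_1 D43798 (iv D43336) (iv F199785)
def n43799 : Q := act 8 n43334
theorem D43799 : act 8 n43334 = n43799 := rfl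
theorem F202012 : act 0 n43799 = n43542 := d7_1 D43799 (iv D43542) (iv F199787)
theorem F202013 : act 9 n43799 = n43799 := d44_2 D43334 D43799 (iv D43799) (iv D43334) F196477
def n43800 : Q := act 2 n43335
theorem D43800 : act 2 n43335 = n43800 := rfl
theorem F202014 : act 0 n43800 = n43543 := d1_1 D43800 (iv D43543) (iv F199789)
theorem F202015 : act 1 n43800 = n43410 := d9_1 D43800 F200094 (iv F198786) F198787 (iv F199790)
theorem F202016 : act 4 n43800 = n43338 := d18_2 (iv F199791) D43800 (iv D43338)
theorem F202017 : act 6 n43800 = n43409 := d20_2 (iv F199792) D43800 F200090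
theorem F202018 : act 8 n43800 = n43337 := d22_2 (iv F199793) D43800 (iv D43337)
def n43801 : Q := act 9 n43335
theorem D43801 : act 9 n43335 = n43801 := rfl
theorem F202019 : act 0 n43801 = n43544 := d8_1 D43801 (iv D43544) (iv F199789)
theorem F202020 : act 1 n43801 = n43448 := d16_1 D43801 (iv D43448) (iv F199790)
theorem F202021 : act 3 n43801 = n43336 := d29_1 D43801 (iv D43336) D43335
theorem F202022 : act 4 n43801 = n43339 := d34_1 D43801 (iv D43339) (iv F199791)
theorem F202023 : act 6 n43801 = n43419 := d41_1 D43801 F200121 (iv F199792)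
def n43802 : Q := act 9 n43338
theorem D43802 : act 9 n43338 = n43802 := rfl
theorem F202024 : act 0 n43802 = n43546 := d8_1 D43802 (iv D43546) (iv F199801)
theorem F202025 : act 2 n43802 = n43339 := d23_1 D43802 (iv D43339) D43338
theorem F202026 : act 3 n43802 = n43344 := d29_1 D43802 (iv D43344) (iv F199802)
theorem F202027 : act 5 n43802 = n43372 := d38_1 D43802 (iv D43372) (iv F199803)
theorem F202028 : act 6 n43802 = n43444 := d41_1 D43802 (iv D43444) (iv F199804)
def n43803 : Q := act 8 n43339
theorem D43803 : act 8 n43339 = n43803 := rfl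
theorem F202029 : act 0 n43803 = n43547 := d7_1 D43803 (iv D43547) (iv F199806)
theorem F202030 : act 1 n43803 = n43450 := d15_1 D43803 (iv D43450) (iv F199807)
theorem F202031 : act 3 n43803 = n43340 := d28_1 D43803 (iv D43340) (iv F199808)
theorem F202032 : act 6 n43803 = n43350 := d40_1 D43803 F199863 (iv F199810)
theorem F202033 : act 9 n43803 = n43341 := d44_2 D43339 D43803 (iv D43341) (iv D42653) (iv F196495)
def n43804 : Q := act 5 n43340
theorem D43804 : act 5 n43340 = n43804 := rfl
theorem F202034 : act 0 n43804 = n43548 := d4_1 D43804 (iv D43548) (iv F199811)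
theorem F202035 : act 1 n43804 = n43445 := d12_1 D43804 F200208 (iv F199812)
theorem F202036 : act 2 n43804 = n43350 := d19_1 D43804 (iv D43350) (iv F199813)
theorem F202037 : act 8 n43804 = n43444 := d37_2 D43340 D43804 F200206 F197158 (iv F196499)
theorem F202038 : act 9 n43804 = n43342 := d38_2 (iv F199816) D43804 (iv D43342)
def n43805 : Q := act 7 n43343
theorem D43805 : act 7 n43343 = n43805 := rfl
theorem F202039 : act 0 n43805 = n43550 := d6_1 D43805 (iv D43550) (iv F199825)
theorem F202040 : act 1 n43805 = n43479 := d14_1 D43805 F200335 (iv F199826)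
theorem F202041 : act 2 n43805 = n43345 := d21_1 D43805 (iv D43345) (iv F199827)
theorem F202042 : act 3 n43805 = n43423 := d27_1 D43805 F200136 (iv F199828)
theorem F202043 : act 5 n43805 = n43422 := d36_1 D43805 F200132 (iv F199829)
theorem F202044 : act 8 n43805 = n43351 := d42_2 (iv F199830) D43805 (iv D43351)
def n43806 : Q := act 9 n43343
theorem D43806 : act 9 n43343 = n43806 := rfl
theorem F202045 : act 0 n43806 = n43551 := d8_1 D43806 (iv D43551) (iv F199825)
theorem F202046 : act 1 n43806 = n43568 := d16_1 D43806 (iv D43568) (iv F199826)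
theorem F202047 : act 2 n43806 = n43346 := d23_1 D43806 (iv D43346) (iv F199827)
theorem F202048 : act 3 n43806 = n43444 := d29_1 D43806 (iv D43444) (iv F199828)
theorem F202049 : act 5 n43806 = n43443 := d38_1 D43806 (iv D43443) (iv F199829)
theorem F202050 : act 6 n43806 = n43344 := d41_1 D43806 (iv D43344) D43343
def n43807 : Q := act 9 n43345
theorem D43807 : act 9 n43345 = n43807 := rfl
theorem F202051 : act 0 n43807 = n43553 := d8_1 D43807 (iv D43553) (iv F199834)
theorem F202052 : act 1 n43807 = n43377 := d16_1 D43807 (iv D43377) (iv F199835)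
theorem F202053 : act 3 n43807 = n43348 := d29_1 D43807 (iv D43348) (iv F199836)
theorem F202054 : act 5 n43807 = n43535 := d38_1 D43807 (iv D43535) (iv F199837)
theorem F202055 : act 7 n43807 = n43346 := d43_1 D43807 (iv D43346) D43345
def n43808 : Q := act 8 n43346
theorem D43808 : act 8 n43346 = n43808 := rfl
theorem F202056 : act 0 n43808 = n43554 := d7_1 D43808 (iv D43554) (iv F199839)
theorem F202057 : act 1 n43808 = n43369 := d15_1 D43808 F199948 (iv F199840)
theorem F202058 : act 3 n43808 = n43349 := d28_1 D43808 (iv D43349) (iv F199841)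
theorem F202059 : act 6 n43808 = n43347 := d40_1 D43808 (iv D43347) (iv F199843)
theorem F202060 : act 9 n43808 = n43352 := d44_2 D43346 D43808 (iv D43352) (iv D42667) (iv F196536)
def n43809 : Q := act 9 n43353
theorem D43809 : act 9 n43353 = n43809 := rfl
theorem F202061 : act 0 n43809 = n43557 := d8_1 D43809 (iv D43557) (iv F199874)
theorem F202062 : act 1 n43809 = n43441 := d16_1 D43809 (iv D43441) (iv F199875)
theorem F202063 : act 2 n43809 = n43359 := d23_1 D43809 (iv D43359) (iv F199876)
theorem F202064 : act 5 n43809 = n43354 := d38_1 D43809 (iv D43354) D43353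
theorem F202065 : act 6 n43809 = n43439 := d41_1 D43809 (iv D43439) (iv F199877)
theorem F202066 : act 7 n43809 = n43387 := d43_1 D43809 (iv D43387) (iv F199878)
def n43810 : Q := act 7 n43355
theorem D43810 : act 7 n43355 = n43810 := rfl
theorem F202067 : act 0 n43810 = n43558 := d6_1 D43810 (iv D43558) (iv F199886)
theorem F202068 : act 3 n43810 = n43358 := d27_1 D43810 (iv D43358) (iv F199887)
theorem F202069 : act 5 n43810 = n43356 := d36_1 D43810 (iv D43356) D43355
theorem F202070 : act 8 n43810 = n43810 := d42_2 F199889 D43810 (iv D43810)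
def n43811 : Q := act 9 n43355
theorem D43811 : act 9 n43355 = n43811 := rfl
theorem F202071 : act 0 n43811 = n43559 := d8_1 D43811 (iv D43559) (iv F199886)
theorem F202072 : act 3 n43811 = n43359 := d29_1 D43811 (iv D43359) (iv F199887)
theorem F202073 : act 5 n43811 = n43357 := d38_1 D43811 (iv D43357) D43355
theorem F202074 : act 6 n43811 = n43379 := d41_1 D43811 (iv D43379) (iv F199888)
def n43812 : Q := act 9 n43356
theorem D43812 : act 9 n43356 = n43812 := rfl
theorem F202075 : act 0 n43812 = n43560 := d8_1 D43812 (iv D43560) (iv F199890)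
theorem F202076 : act 3 n43812 = n43360 := d29_1 D43812 (iv D43360) (iv F199891)
theorem F202077 : act 4 n43812 = n43377 := d34_1 D43812 (iv D43377) (iv F199892)
theorem F202078 : act 6 n43812 = n43370 := d41_1 D43812 (iv D43370) (iv F199893)
theorem F202079 : act 7 n43812 = n43357 := d43_1 D43812 (iv D43357) D43356
def n43813 : Q := act 9 n43358
theorem D43813 : act 9 n43358 = n43813 := rfl
theorem F202080 : act 0 n43813 = n43561 := d8_1 D43813 (iv D43561) (iv F199899)
theorem F202081 : act 2 n43813 = n43387 := d23_1 D43813 (iv D43387) (iv F199900)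
theorem F202082 : act 5 n43813 = n43360 := d38_1 D43813 (iv D43360) (iv F199901)
theorem F202083 : act 7 n43813 = n43359 := d43_1 D43813 (iv D43359) D43358
def n43814 : Q := act 8 n43359
theorem D43814 : act 8 n43359 = n43814 := rfl
theorem F202084 : act 0 n43814 = n43562 := d7_1 D43814 (iv D43562) (iv F199903)
theorem F202085 : act 6 n43814 = n43442 := d40_1 D43814 (iv D43442) (iv F199905)
theorem F202086 : act 9 n43814 = n43814 := d44_2 D43359 D43814 (iv D43814) (iv D43359) F196636
def n43815 : Q := act 5 n43361
theorem D43815 : act 5 n43361 = n43815 := rfl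
theorem F202087 : act 0 n43815 = n43564 := d4_1 D43815 (iv D43564) (iv F199911)
theorem F202088 : act 6 n43815 = n43386 := d35_2 (iv F199913) D43815 F200019 (iv F197804) F197803
theorem F202089 : act 9 n43815 = n43362 := d38_2 (iv F199914) D43815 (iv D43362)
def n43816 : Q := act 9 n43363
theorem D43816 : act 9 n43363 = n43816 := rfl
theorem F202090 : act 2 n43816 = n43514 := d23_1 D43816 (iv D43514) (iv F199918)
theorem F202091 : act 3 n43816 = n43364 := d29_1 D43816 (iv D43364) (iv F199919)
theorem F202092 : act 7 n43816 = n43372 := d43_1 D43816 (iv D43372) (iv F199920)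
theorem F202093 : act 8 n43816 = n43535 := d44_1 D43816 (iv D43535) F197618 (iv F196667) D43363
def n43817 : Q := act 8 n43367
theorem D43817 : act 8 n43367 = n43817 := rfl
theorem F202094 : act 0 n43817 = n43390 := d7_1 D43817 (iv D43390) (iv F199937)
theorem F202095 : act 4 n43817 = n43522 := d33_1 D43817 (iv D43522) (iv F199938)
theorem F202096 : act 9 n43817 = n43817 := d44_2 D43367 D43817 (iv D43817) (iv D43367) F196743
def n43818 : Q := act 9 n43368
theorem D43818 : act 9 n43368 = n43818 := rfl
theorem F202097 : act 0 n43818 = n43569 := d8_1 D43818 (iv D43569) (iv F199940)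
theorem F202098 : act 2 n43818 = n43370 := d23_1 D43818 (iv D43370) (iv F199941)
theorem F202099 : act 3 n43818 = n43373 := d29_1 D43818 (iv D43373) (iv F199942)
theorem F202100 : act 7 n43818 = n43369 := d43_1 D43818 (iv D43369) D43368
theorem F202101 : act 8 n43818 = n43377 := d44_1 D43818 (iv D43377) F196860 (iv F196813) (iv F199943)
def n43819 : Q := act 9 n43374
theorem D43819 : act 9 n43374 = n43819 := rfl
theorem F202102 : act 1 n43819 = n43379 := d16_1 D43819 (iv D43379) (iv F199966)
theorem F202103 : act 3 n43819 = n43387 := d29_1 D43819 (iv D43387) (iv F199967)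
theorem F202104 : act 4 n43819 = n43524 := d34_1 D43819 F200465 (iv F199968)
theorem F202105 : act 5 n43819 = n43375 := d38_1 D43819 (iv D43375) D43374
def n43820 : Q := act 6 n43378
theorem D43820 : act 6 n43378 = n43820 := rfl
theorem F202106 : act 0 n43820 = n43571 := d5_1 D43820 (iv D43571) (iv F199981)
theorem F202107 : act 1 n43820 = n43435 := d13_1 D43820 (iv F201642) F201638
theorem F202108 : act 3 n43820 = n43430 := d26_1 D43820 F200166 (iv F199982)
theorem F202109 : act 5 n43820 = n43428 := d35_1 D43820 (iv D43428) F197097 (iv F196869) (iv F199983)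
theorem F202110 : act 8 n43820 = n43820 := d40_2 F199984 D43820 (iv D43820)
def n43821 : Q := act 9 n43378
theorem D43821 : act 9 n43378 = n43821 := rfl
theorem F202111 : act 0 n43821 = n43572 := d8_1 D43821 (iv D43572) (iv F199981)
theorem F202112 : act 3 n43821 = n43441 := d29_1 D43821 (iv D43441) (iv F199982)
theorem F202113 : act 5 n43821 = n43380 := d38_1 D43821 (iv D43380) (iv F199983)
theorem F202114 : act 7 n43821 = n43379 := d43_1 D43821 (iv D43379) D43378
def n43822 : Q := act 8 n43379
theorem D43822 : act 8 n43379 = n43822 := rfl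
theorem F202115 : act 0 n43822 = n43573 := d7_1 D43822 (iv D43573) (iv F199985)
theorem F202116 : act 3 n43822 = n43442 := d28_1 D43822 (iv D43442) (iv F199986)
theorem F202117 : act 9 n43822 = n43822 := d44_2 D43379 D43822 (iv D43822) (iv D43379) F196865
def n43823 : Q := act 8 n43382
theorem D43823 : act 8 n43382 = n43823 := rfl
theorem F202118 : act 2 n43823 = n43390 := d22_1 D43823 (iv D43390) (iv F199999)
theorem F202119 : act 9 n43823 = n43823 := d44_2 D43382 D43823 (iv D43823) (iv D43382) F196907
def n43824 : Q := act 9 n43384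
theorem D43824 : act 9 n43384 = n43824 := rfl
theorem F202120 : act 0 n43824 = n43537 := d8_1 D43824 (iv D43537) (iv F200008)
theorem F202121 : act 2 n43824 = n43449 := d23_1 D43824 (iv D43449) (iv F200009)
theorem F202122 : act 3 n43824 = n43459 := d29_1 D43824 F200249 (iv F200010)
theorem F202123 : act 5 n43824 = n43531 := d38_1 D43824 (iv D43531) (iv F200011)
theorem F202124 : act 7 n43824 = n43385 := d43_1 D43824 (iv D43385) D43384
theorem F202125 : act 8 n43824 = n43458 := d44_1 D43824 (iv D43458) F197200 (iv F196941) (iv F200012)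
def n43825 : Q := act 8 n43386
theorem D43825 : act 8 n43386 = n43825 := rfl
theorem F202126 : act 7 n43825 = n43390 := d42_1 D43825 (iv D43390) (iv F200020)
theorem F202127 : act 9 n43825 = n43825 := d44_2 D43386 D43825 (iv D43825) (iv D43386) F196949
def n43826 : Q := act 8 n43387
theorem D43826 : act 8 n43387 = n43826 := rfl
theorem F202128 : act 1 n43826 = n43442 := d15_1 D43826 (iv D43442) (iv F200021)
theorem F202129 : act 9 n43826 = n43826 := d44_2 D43387 D43826 (iv D43826) (iv D43387) F196953
def n43827 : Q := act 9 n43388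
theorem D43827 : act 9 n43388 = n43827 := rfl
theorem F202130 : act 1 n43827 = n43561 := d16_1 D43827 (iv D43561) (iv F200023)
theorem F202131 : act 4 n43827 = n43538 := d34_1 D43827 (iv D43538) (iv F200024)
theorem F202132 : act 5 n43827 = n43513 := d38_1 D43827 (iv D43513) (iv F200025)
theorem F202133 : act 7 n43827 = n43389 := d43_1 D43827 (iv D43389) D43388
def n43828 : Q := act 8 n43389
theorem D43828 : act 8 n43389 = n43828 := rfl
theorem F202134 : act 1 n43828 = n43562 := d15_1 D43828 (iv D43562) (iv F200027)
theorem F202135 : act 6 n43828 = n43390 := d40_1 D43828 (iv D43390) (iv F200029)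
theorem F202136 : act 9 n43828 = n43828 := d44_2 D43389 D43828 (iv D43828) (iv D43389) F196963
def n43829 : Q := act 6 n43391
theorem D43829 : act 6 n43391 = n43829 := rfl
theorem F202137 : act 1 n43829 = n43394 := d13_1 D43829 (iv D43394) (iv F200031)
theorem F202138 : act 3 n43829 = n43505 := d26_1 D43829 (iv D43505) (iv F200032)
theorem F202139 : act 5 n43829 = n43425 := d35_1 D43829 (iv D43425) (iv D42792) (iv F196972) D43391
theorem F202140 : act 8 n43829 = n43829 := d40_2 F200034 D43829 (iv D43829)
def n43830 : Q := act 9 n43391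
theorem D43830 : act 9 n43391 = n43830 := rfl
theorem F202141 : act 1 n43830 = n43395 := d16_1 D43830 (iv D43395) (iv F200031)
theorem F202142 : act 3 n43830 = n43506 := d29_1 D43830 (iv D43506) (iv F200032)
theorem F202143 : act 5 n43830 = n43392 := d38_1 D43830 (iv D43392) D43391
theorem F202144 : act 7 n43830 = n43504 := d43_1 D43830 (iv D43504) (iv F200033)
def n43831 : Q := act 3 n43393
theorem D43831 : act 3 n43393 = n43831 := rfl
theorem F202145 : act 5 n43831 = n43396 := d25_2 (iv F200041) D43831 (iv D43396)
theorem F202146 : act 7 n43831 = n43540 := d27_2 (iv F200042) D43831 (iv D43540)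
theorem F202147 : act 8 n43831 = n43831 := d28_2 F200043 D43831 (iv D43831)
def n43832 : Q := act 6 n43393
theorem D43832 : act 6 n43393 = n43832 := rfl
theorem F202148 : act 2 n43832 = n43540 := d20_1 D43832 (iv F200823) F200820
theorem F202149 : act 4 n43832 = n43394 := d31_1 D43832 (iv D43394) D43393
theorem F202150 : act 5 n43832 = n43543 := d35_1 D43832 F200710 (iv D43591) F197897 (iv F200041)
theorem F202151 : act 8 n43832 = n43832 := d40_2 F200043 D43832 (iv D43832)
def n43833 : Q := act 9 n43393
theorem D43833 : act 9 n43393 = n43833 := rfl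
theorem F202152 : act 4 n43833 = n43395 := d34_1 D43833 (iv D43395) D43393
theorem F202153 : act 5 n43833 = n43397 := d38_1 D43833 (iv D43397) (iv F200041)
theorem F202154 : act 7 n43833 = n43541 := d43_1 D43833 (iv D43541) (iv F200042)
def n43834 : Q := act 7 n43394
theorem D43834 : act 7 n43394 = n43834 := rfl
theorem F202155 : act 3 n43834 = n43520 := d27_1 D43834 (iv F201098) F201095
theorem F202156 : act 5 n43834 = n43433 := d36_1 D43834 (iv D43433) (iv F200044)
theorem F202157 : act 6 n43834 = n43516 := d39_1 D43834 (iv D43516) F197542 (iv F196979) D43394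
theorem F202158 : act 8 n43834 = n43834 := d42_2 F200045 D43834 (iv D43834)
def n43835 : Q := act 9 n43394
theorem D43835 : act 9 n43394 = n43835 := rfl
theorem F202159 : act 5 n43835 = n43434 := d38_1 D43835 (iv D43434) (iv F200044)
theorem F202160 : act 6 n43835 = n43395 := d41_1 D43835 (iv D43395) D43394
def n43836 : Q := act 8 n43395
theorem D43836 : act 8 n43395 = n43836 := rfl
theorem F202161 : act 7 n43836 = n43542 := d42_1 D43836 (iv D43542) (iv F200047)
theorem F202162 : act 9 n43836 = n43836 := d44_2 D43395 D43836 (iv D43836) (iv D43395) F196980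
def n43837 : Q := act 2 n43396
theorem D43837 : act 2 n43396 = n43837 := rfl
theorem F202163 : act 3 n43837 = n43567 := d17_2 D43396 D43837 F200577 (iv F198017) F198016
theorem F202164 : act 4 n43837 = n43399 := d18_2 (iv F200048) D43837 (iv D43399)
theorem F202165 : act 7 n43837 = n43543 := d21_2 (iv F200049) D43837 (iv D43543)
theorem F202166 : act 8 n43837 = n43398 := d22_2 (iv F200050) D43837 (iv D43398)
def n43838 : Q := act 9 n43396
theorem D43838 : act 9 n43396 = n43838 := rfl
theorem F202167 : act 3 n43838 = n43397 := d29_1 D43838 (iv D43397) D43396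
theorem F202168 : act 4 n43838 = n43401 := d34_1 D43838 (iv D43401) (iv F200048)
theorem F202169 : act 7 n43838 = n43544 := d43_1 D43838 (iv D43544) (iv F200049)
def n43839 : Q := act 1 n43399
theorem D43839 : act 1 n43399 = n43839 := rfl
theorem F202170 : act 2 n43839 = n43556 := d9_2 D43399 D43839 (iv F201162) F201163 F199415
theorem F202171 : act 3 n43839 = n43409 := d10_2 (iv F200057) D43839 F200089
theorem F202172 : act 5 n43839 = n43408 := d12_2 F201123 D43839 F201126
theorem F202173 : act 7 n43839 = n43545 := d14_2 (iv F200058) D43839 (iv D43545)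
theorem F202174 : act 8 n43839 = n43405 := d15_2 (iv F200059) D43839 (iv D43405)
def n43840 : Q := act 6 n43399
theorem D43840 : act 6 n43399 = n43840 := rfl
theorem F202175 : act 2 n43840 = n43400 := d20_1 D43840 (iv D43400) D43399
theorem F202176 : act 3 n43840 = n43410 := d26_1 D43840 (iv D43410) (iv F200057)
theorem F202177 : act 8 n43840 = n43406 := d40_2 (iv F200059) D43840 (iv D43406)
def n43841 : Q := act 9 n43399
theorem D43841 : act 9 n43399 = n43841 := rfl
theorem F202178 : act 2 n43841 = n43401 := d23_1 D43841 (iv D43401) D43399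
theorem F202179 : act 3 n43841 = n43411 := d29_1 D43841 (iv D43411) (iv F200057)
theorem F202180 : act 7 n43841 = n43546 := d43_1 D43841 (iv D43546) (iv F200058)
def n43842 : Q := act 5 n43400
theorem D43842 : act 5 n43400 = n43842 := rfl
theorem F202181 : act 3 n43842 = n43402 := d25_1 D43842 (iv D43402) (iv F200060)
theorem F202182 : act 8 n43842 = n43842 := d37_2 (iv F200061) D43842 (iv D43842) F200061 F197011
def n43843 : Q := act 9 n43400
theorem D43843 : act 9 n43400 = n43843 := rfl
theorem F202183 : act 3 n43843 = n43403 := d29_1 D43843 (iv D43403) (iv F200060)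
theorem F202184 : act 6 n43843 = n43401 := d41_1 D43843 (iv D43401) D43400
def n43844 : Q := act 8 n43401
theorem D43844 : act 8 n43401 = n43844 := rfl
theorem F202185 : act 3 n43844 = n43404 := d28_1 D43844 (iv D43404) (iv F200062)
theorem F202186 : act 7 n43844 = n43547 := d42_1 D43844 (iv D43547) (iv F200063)
theorem F202187 : act 9 n43844 = n43408 := d44_2 D43401 D43844 (iv D43408) (iv D42771) (iv F196993)
def n43845 : Q := act 9 n43402
theorem D43845 : act 9 n43402 = n43845 := rfl
theorem F202188 : act 2 n43845 = n43417 := d23_1 D43845 (iv D43417) (iv F200064)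
theorem F202189 : act 4 n43845 = n43439 := d34_1 D43845 (iv D43439) (iv F200065)
theorem F202190 : act 5 n43845 = n43403 := d38_1 D43845 (iv D43403) D43402
def n43846 : Q := act 5 n43404
theorem D43846 : act 5 n43404 = n43846 := rfl
theorem F202191 : act 1 n43846 = n43411 := d12_1 D43846 (iv F201188) F201185
theorem F202192 : act 2 n43846 = n43419 := d19_1 D43846 (iv D43419) (iv F200070)
theorem F202193 : act 4 n43846 = n43444 := d30_1 D43846 F200206 F197156 (iv F197004) (iv F200071)
theorem F202194 : act 7 n43846 = n43548 := d36_2 (iv F200072) D43846 (iv D43548)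
theorem F202195 : act 9 n43846 = n43409 := d38_2 (iv F200073) D43846 (iv D43409)
def n43847 : Q := act 8 n43407
theorem D43847 : act 8 n43407 = n43847 := rfl
theorem F202196 : act 1 n43847 = n43550 := d15_1 D43847 F200537 (iv F200082)
theorem F202197 : act 2 n43847 = n43408 := d22_1 D43847 (iv D43408) (iv F200083)
theorem F202198 : act 3 n43847 = n43421 := d28_1 D43847 (iv D43421) (iv F200084)
theorem F202199 : act 5 n43847 = n43556 := d37_1 D43847 (iv D43556) F197700 (iv F197031) (iv F200085)
theorem F202200 : act 7 n43847 = n43549 := d42_1 D43847 (iv D43549) (iv F200086)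
def n43848 : Q := act 5 n43410
theorem D43848 : act 5 n43410 = n43848 := rfl
theorem F202201 : act 2 n43848 = n43412 := d19_1 D43848 (iv D43412) (iv F200094)
theorem F202202 : act 4 n43848 = n43496 := d30_1 D43848 (iv D43496) (iv F198219) D43634 (iv F200999)
theorem F202203 : act 6 n43848 = n43510 := d35_2 D43410 D43848 F200420 F198499 F198496
theorem F202204 : act 8 n43848 = n43848 := d37_2 (iv F200095) D43848 (iv D43848) F200095 F197057
def n43849 : Q := act 7 n43410
theorem D43849 : act 7 n43410 = n43849 := rfl
theorem F202205 : act 2 n43849 = n43413 := d21_1 D43849 (iv D43413) (iv F200094)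
theorem F202206 : act 6 n43849 = n43550 := d39_1 D43849 (iv D43550) (iv D42972) (iv F197036) D43410
theorem F202207 : act 8 n43849 = n43420 := d42_2 (iv F200095) D43849 (iv D43420)
def n43850 : Q := act 9 n43410
theorem D43850 : act 9 n43410 = n43850 := rfl
theorem F202208 : act 2 n43850 = n43414 := d23_1 D43850 (iv D43414) (iv F200094)
theorem F202209 : act 6 n43850 = n43411 := d41_1 D43850 (iv D43411) D43410
def n43851 : Q := act 8 n43411
theorem D43851 : act 8 n43411 = n43851 := rfl
theorem F202210 : act 2 n43851 = n43415 := d22_1 D43851 (iv D43415) (iv F200096)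
theorem F202211 : act 4 n43851 = n43445 := d33_1 D43851 (iv F201851) F201848
theorem F202212 : act 5 n43851 = n43555 := d37_1 D43851 (iv D43555) (iv F199428) (iv F201191) F201188
theorem F202213 : act 7 n43851 = n43552 := d42_1 D43851 (iv D43552) (iv F200097)
theorem F202214 : act 9 n43851 = n43421 := d44_2 D43411 D43851 (iv D43421) (iv D42785) (iv F197037)
def n43852 : Q := act 7 n43412
theorem D43852 : act 7 n43412 = n43852 := rfl
theorem F202215 : act 3 n43852 = n43416 := d27_1 D43852 (iv D43416) (iv F200098)
theorem F202216 : act 5 n43852 = n43413 := d36_1 D43852 (iv D43413) D43412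
theorem F202217 : act 8 n43852 = n43852 := d42_2 F200099 D43852 (iv D43852)
def n43853 : Q := act 9 n43412
theorem D43853 : act 9 n43412 = n43853 := rfl
theorem F202218 : act 3 n43853 = n43417 := d29_1 D43853 (iv D43417) (iv F200098)
theorem F202219 : act 5 n43853 = n43414 := d38_1 D43853 (iv D43414) D43412
def n43854 : Q := act 9 n43413
theorem D43854 : act 9 n43413 = n43854 := rfl
theorem F202220 : act 3 n43854 = n43418 := d29_1 D43854 (iv D43418) (iv F200100)
theorem F202221 : act 6 n43854 = n43553 := d41_1 D43854 (iv D43553) (iv F200101)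
theorem F202222 : act 7 n43854 = n43414 := d43_1 D43854 (iv D43414) D43413
def n43855 : Q := act 9 n43416
theorem D43855 : act 9 n43416 = n43855 := rfl
theorem F202223 : act 4 n43855 = n43441 := d34_1 D43855 (iv D43441) (iv F200110)
theorem F202224 : act 5 n43855 = n43418 := d38_1 D43855 (iv D43418) (iv F200111)
theorem F202225 : act 7 n43855 = n43417 := d43_1 D43855 (iv D43417) D43416
def n43856 : Q := act 8 n43417
theorem D43856 : act 8 n43417 = n43856 := rfl
theorem F202226 : act 4 n43856 = n43442 := d33_1 D43856 (iv D43442) (iv F200113)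
theorem F202227 : act 9 n43856 = n43856 := d44_2 D43417 D43856 (iv D43856) (iv D43417) F197043
def n43857 : Q := act 9 n43422
theorem D43857 : act 9 n43422 = n43857 := rfl
theorem F202228 : act 1 n43857 = n43569 := d16_1 D43857 (iv D43569) (iv F200129)
theorem F202229 : act 2 n43857 = n43535 := d23_1 D43857 (iv D43535) (iv F200130)
theorem F202230 : act 3 n43857 = n43424 := d29_1 D43857 (iv D43424) (iv F200131)
theorem F202231 : act 7 n43857 = n43443 := d43_1 D43857 (iv D43443) (iv F200132)
theorem F202232 : act 8 n43857 = n43514 := d44_1 D43857 (iv D43514) F197526 (iv F197077) D43422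
def n43858 : Q := act 6 n43423
theorem D43858 : act 6 n43423 = n43858 := rfl
theorem F202233 : act 1 n43858 = n43485 := d13_1 D43858 (iv D43485) (iv F200133)
theorem F202234 : act 2 n43858 = n43425 := d20_1 D43858 (iv D43425) (iv F200134)
theorem F202235 : act 4 n43858 = n43549 := d31_1 D43858 F200535 (iv F200135)
theorem F202236 : act 8 n43858 = n43461 := d40_2 (iv F200137) D43858 (iv D43461)
def n43859 : Q := act 9 n43423
theorem D43859 : act 9 n43423 = n43859 := rfl
theorem F202237 : act 1 n43859 = n43486 := d16_1 D43859 (iv D43486) (iv F200133)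
theorem F202238 : act 2 n43859 = n43426 := d23_1 D43859 (iv D43426) (iv F200134)
theorem F202239 : act 4 n43859 = n43548 := d34_1 D43859 F200530 (iv F200135)
theorem F202240 : act 5 n43859 = n43424 := d38_1 D43859 (iv D43424) D43423
theorem F202241 : act 7 n43859 = n43444 := d43_1 D43859 (iv D43444) (iv F200136)
def n43860 : Q := act 9 n43425
theorem D43860 : act 9 n43425 = n43860 := rfl
theorem F202242 : act 1 n43860 = n43434 := d16_1 D43860 (iv D43434) (iv F200142)
theorem F202243 : act 3 n43860 = n43536 := d29_1 D43860 (iv D43536) (iv F200143)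
theorem F202244 : act 4 n43860 = n43547 := d34_1 D43860 F200527 (iv F200144)
theorem F202245 : act 6 n43860 = n43426 := d41_1 D43860 (iv D43426) D43425
theorem F202246 : act 8 n43860 = n43544 := d44_1 D43860 (iv D43544) F197649 (iv F197248) (iv F200145)
def n43861 : Q := act 6 n43427
theorem D43861 : act 6 n43427 = n43861 := rfl
theorem F202247 : act 1 n43861 = n43543 := d13_1 D43861 F200710 F200705
theorem F202248 : act 2 n43861 = n43428 := d20_1 D43861 (iv D43428) D43427
theorem F202249 : act 4 n43861 = n43545 := d31_1 D43861 F200521 (iv F200151)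
theorem F202250 : act 8 n43861 = n43432 := d40_2 (iv F200154) D43861 (iv D43432)
def n43862 : Q := act 9 n43427
theorem D43862 : act 9 n43427 = n43862 := rfl
theorem F202251 : act 2 n43862 = n43429 := d23_1 D43862 (iv D43429) D43427
theorem F202252 : act 4 n43862 = n43552 := d34_1 D43862 F200542 (iv F200151)
theorem F202253 : act 5 n43862 = n43460 := d38_1 D43862 (iv D43460) (iv F200152)
theorem F202254 : act 7 n43862 = n43445 := d43_1 D43862 (iv D43445) (iv F200153)
theorem F202255 : act 8 n43862 = n43486 := d44_1 D43862 (iv D43486) F197397 (iv F197115) (iv F200154)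
def n43863 : Q := act 9 n43428
theorem D43863 : act 9 n43428 = n43863 := rfl
theorem F202256 : act 1 n43863 = n43437 := d16_1 D43863 (iv D43437) (iv F200155)
theorem F202257 : act 3 n43863 = n43431 := d29_1 D43863 (iv D43431) (iv F200156)
theorem F202258 : act 4 n43863 = n43554 := d34_1 D43863 F200547 (iv F200157)
theorem F202259 : act 6 n43863 = n43429 := d41_1 D43863 (iv D43429) D43428
theorem F202260 : act 8 n43863 = n43489 := d44_1 D43863 (iv D43489) F197400 (iv F197120) (iv F200158)
def n43864 : Q := act 9 n43430
theorem D43864 : act 9 n43430 = n43864 := rfl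
theorem F202261 : act 1 n43864 = n43439 := d16_1 D43864 (iv D43439) (iv F200165)
theorem F202262 : act 5 n43864 = n43431 := d38_1 D43864 (iv D43431) D43430
theorem F202263 : act 6 n43864 = n43441 := d41_1 D43864 (iv D43441) (iv F200166)
def n43865 : Q := act 9 n43433
theorem D43865 : act 9 n43433 = n43865 := rfl
theorem F202264 : act 3 n43865 = n43565 := d29_1 D43865 F200574 (iv F200177)
theorem F202265 : act 6 n43865 = n43449 := d41_1 D43865 (iv D43449) (iv F200178)
theorem F202266 : act 7 n43865 = n43434 := d43_1 D43865 (iv D43434) D43433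
def n43866 : Q := act 4 n43435
theorem D43866 : act 4 n43435 = n43866 := rfl
theorem F202267 : act 2 n43866 = n43487 := d18_1 D43866 (iv F201741) F201739
theorem F202268 : act 5 n43866 = n43485 := d30_2 D43435 D43866 F200353 (iv F198618) F198617
theorem F202269 : act 6 n43866 = n43528 := d31_2 F201642 D43866 (iv F201641)
theorem F202270 : act 8 n43866 = n43866 := d33_2 F200182 D43866 (iv D43866)
def n43867 : Q := act 7 n43435
theorem D43867 : act 7 n43435 = n43867 := rfl
theorem F202271 : act 3 n43867 = n43438 := d27_1 D43867 (iv D43438) (iv F200181)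
theorem F202272 : act 5 n43867 = n43436 := d36_1 D43867 (iv D43436) D43435
theorem F202273 : act 8 n43867 = n43867 := d42_2 F200182 D43867 (iv D43867)
def n43868 : Q := act 9 n43435
theorem D43868 : act 9 n43435 = n43868 := rfl
theorem F202274 : act 3 n43868 = n43439 := d29_1 D43868 (iv D43439) (iv F200181)
theorem F202275 : act 5 n43868 = n43437 := d38_1 D43868 (iv D43437) D43435
def n43869 : Q := act 9 n43436
theorem D43869 : act 9 n43436 = n43869 := rfl
theorem F202276 : act 3 n43869 = n43440 := d29_1 D43869 (iv D43440) (iv F200183)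
theorem F202277 : act 6 n43869 = n43458 := d41_1 D43869 (iv D43458) (iv F200184)
theorem F202278 : act 7 n43869 = n43437 := d43_1 D43869 (iv D43437) D43436
def n43870 : Q := act 9 n43438
theorem D43870 : act 9 n43438 = n43870 := rfl
theorem F202279 : act 2 n43870 = n43441 := d23_1 D43870 (iv D43441) (iv F200188)
theorem F202280 : act 5 n43870 = n43440 := d38_1 D43870 (iv D43440) (iv F200189)
theorem F202281 : act 7 n43870 = n43439 := d43_1 D43870 (iv D43439) D43438
def n43871 : Q := act 8 n43439
theorem D43871 : act 8 n43439 = n43871 := rfl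
theorem F202282 : act 2 n43871 = n43442 := d22_1 D43871 (iv D43442) (iv F200191)
theorem F202283 : act 9 n43871 = n43871 := d44_2 D43439 D43871 (iv D43871) (iv D43439) F197129
def n43872 : Q := act 8 n43441
theorem D43872 : act 8 n43441 = n43872 := rfl
theorem F202284 : act 7 n43872 = n43442 := d42_1 D43872 (iv D43442) (iv F200198)
theorem F202285 : act 9 n43872 = n43872 := d44_2 D43441 D43872 (iv D43872) (iv D43441) F197144
def n43873 : Q := act 7 n43446
theorem D43873 : act 7 n43446 = n43873 := rfl
theorem F202286 : act 3 n43873 = n43510 := d27_1 D43873 (iv F201549) F201546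
theorem F202287 : act 4 n43873 = n43558 := d32_1 D43873 (iv D43558) (iv F200209)
theorem F202288 : act 5 n43873 = n43447 := d36_1 D43873 (iv D43447) D43446
theorem F202289 : act 8 n43873 = n43873 := d42_2 F200211 D43873 (iv D43873)
def n43874 : Q := act 9 n43446
theorem D43874 : act 9 n43446 = n43874 := rfl
theorem F202290 : act 4 n43874 = n43559 := d34_1 D43874 (iv D43559) (iv F200209)
theorem F202291 : act 5 n43874 = n43448 := d38_1 D43874 (iv D43448) D43446
theorem F202292 : act 6 n43874 = n43455 := d41_1 D43874 (iv D43455) (iv F200210)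
def n43875 : Q := act 9 n43447
theorem D43875 : act 9 n43447 = n43875 := rfl
theorem F202293 : act 3 n43875 = n43509 := d29_1 D43875 F200419 (iv F200212)
theorem F202294 : act 4 n43875 = n43449 := d34_1 D43875 (iv D43449) (iv F200213)
theorem F202295 : act 7 n43875 = n43448 := d43_1 D43875 (iv D43448) D43447
def n43876 : Q := act 8 n43449
theorem D43876 : act 8 n43449 = n43876 := rfl
theorem F202296 : act 2 n43876 = n43458 := d22_1 D43876 (iv F202125) F202121
theorem F202297 : act 3 n43876 = n43460 := d28_1 D43876 F200253 (iv F200217)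
theorem F202298 : act 7 n43876 = n43450 := d42_1 D43876 (iv D43450) (iv F200219)
theorem F202299 : act 9 n43876 = n43457 := d44_2 D43449 D43876 F200241 F197219 (iv F197173)
def n43877 : Q := act 7 n43451
theorem D43877 : act 7 n43451 = n43877 := rfl
theorem F202300 : act 3 n43877 = n43454 := d27_1 D43877 (iv D43454) (iv F200224)
theorem F202301 : act 5 n43877 = n43452 := d36_1 D43877 (iv D43452) D43451
theorem F202302 : act 8 n43877 = n43877 := d42_2 F200225 D43877 (iv D43877)
def n43878 : Q := act 9 n43451
theorem D43878 : act 9 n43451 = n43878 := rfl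
theorem F202303 : act 3 n43878 = n43455 := d29_1 D43878 (iv D43455) (iv F200224)
theorem F202304 : act 5 n43878 = n43453 := d38_1 D43878 (iv D43453) D43451
def n43879 : Q := act 9 n43452
theorem D43879 : act 9 n43452 = n43879 := rfl
theorem F202305 : act 3 n43879 = n43456 := d29_1 D43879 (iv D43456) (iv F200226)
theorem F202306 : act 4 n43879 = n43458 := d34_1 D43879 (iv D43458) (iv F200227)
theorem F202307 : act 7 n43879 = n43453 := d43_1 D43879 (iv D43453) D43452
def n43880 : Q := act 6 n43454
theorem D43880 : act 6 n43454 = n43880 := rfl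
theorem F202308 : act 4 n43880 = n43571 := d31_1 D43880 (iv D43571) (iv F200232)
theorem F202309 : act 8 n43880 = n43880 := d40_2 F200234 D43880 (iv D43880)
def n43881 : Q := act 9 n43454
theorem D43881 : act 9 n43454 = n43881 := rfl
theorem F202310 : act 4 n43881 = n43572 := d34_1 D43881 (iv D43572) (iv F200232)
theorem F202311 : act 5 n43881 = n43456 := d38_1 D43881 (iv D43456) (iv F200233)
theorem F202312 : act 7 n43881 = n43455 := d43_1 D43881 (iv D43455) D43454
def n43882 : Q := act 8 n43455
theorem D43882 : act 8 n43455 = n43882 := rfl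
theorem F202313 : act 4 n43882 = n43573 := d33_1 D43882 (iv D43573) (iv F200235)
theorem F202314 : act 9 n43882 = n43882 := d44_2 D43455 D43882 (iv D43882) (iv D43455) F197185
def n43883 : Q := act 9 n43463
theorem D43883 : act 9 n43463 = n43883 := rfl
theorem F202315 : act 1 n43883 = n43538 := d16_1 D43883 (iv D43538) (iv F200265)
theorem F202316 : act 2 n43883 = n43469 := d23_1 D43883 (iv D43469) (iv F200266)
theorem F202317 : act 3 n43883 = n43508 := d29_1 D43883 F200418 (iv F200267)
theorem F202318 : act 4 n43883 = n43561 := d34_1 D43883 (iv D43561) (iv F200268)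
theorem F202319 : act 5 n43883 = n43464 := d38_1 D43883 (iv D43464) D43463
theorem F202320 : act 6 n43883 = n43500 := d41_1 D43883 (iv D43500) (iv F200269)
theorem F202321 : act 7 n43883 = n43539 := d43_1 D43883 (iv D43539) (iv F200270)
def n43884 : Q := act 7 n43465
theorem D43884 : act 7 n43465 = n43884 := rfl
theorem F202322 : act 1 n43884 = n43516 := d14_1 D43884 (iv D43516) (iv F200279)
theorem F202323 : act 3 n43884 = n43468 := d27_1 D43884 (iv D43468) (iv F200280)
theorem F202324 : act 5 n43884 = n43466 := d36_1 D43884 (iv D43466) D43465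
theorem F202325 : act 8 n43884 = n43884 := d42_2 F200282 D43884 (iv D43884)
def n43885 : Q := act 9 n43465
theorem D43885 : act 9 n43465 = n43885 := rfl
theorem F202326 : act 1 n43885 = n43517 := d16_1 D43885 (iv D43517) (iv F200279)
theorem F202327 : act 3 n43885 = n43469 := d29_1 D43885 (iv D43469) (iv F200280)
theorem F202328 : act 5 n43885 = n43467 := d38_1 D43885 (iv D43467) D43465
theorem F202329 : act 6 n43885 = n43504 := d41_1 D43885 (iv D43504) (iv F200281)
def n43886 : Q := act 9 n43466
theorem D43886 : act 9 n43466 = n43886 := rfl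
theorem F202330 : act 1 n43886 = n43518 := d16_1 D43886 (iv D43518) (iv F200283)
theorem F202331 : act 3 n43886 = n43470 := d29_1 D43886 (iv D43470) (iv F200284)
theorem F202332 : act 4 n43886 = n43537 := d34_1 D43886 (iv D43537) (iv F200285)
theorem F202333 : act 6 n43886 = n43514 := d41_1 D43886 (iv D43514) (iv F200286)
theorem F202334 : act 7 n43886 = n43467 := d43_1 D43886 (iv D43467) D43466
def n43887 : Q := act 9 n43468
theorem D43887 : act 9 n43468 = n43887 := rfl
theorem F202335 : act 1 n43887 = n43521 := d16_1 D43887 (iv D43521) (iv F200292)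
theorem F202336 : act 2 n43887 = n43539 := d23_1 D43887 (iv D43539) (iv F200293)
theorem F202337 : act 4 n43887 = n43557 := d34_1 D43887 (iv D43557) (iv F200294)
theorem F202338 : act 5 n43887 = n43470 := d38_1 D43887 (iv D43470) (iv F200295)
theorem F202339 : act 7 n43887 = n43469 := d43_1 D43887 (iv D43469) D43468
def n43888 : Q := act 8 n43469
theorem D43888 : act 8 n43469 = n43888 := rfl
theorem F202340 : act 1 n43888 = n43522 := d15_1 D43888 (iv D43522) (iv F200297)
theorem F202341 : act 6 n43888 = n43507 := d40_1 D43888 (iv D43507) (iv F200299)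
theorem F202342 : act 9 n43888 = n43888 := d44_2 D43469 D43888 (iv D43888) (iv D43469) F197328
def n43889 : Q := act 9 n43471
theorem D43889 : act 9 n43471 = n43889 := rfl
theorem F202343 : act 1 n43889 = n43475 := d16_1 D43889 (iv D43475) (iv F200305)
theorem F202344 : act 2 n43889 = n43524 := d23_1 D43889 F200465 (iv F200306)
theorem F202345 : act 3 n43889 = n43557 := d29_1 D43889 (iv D43557) (iv F200307)
theorem F202346 : act 5 n43889 = n43472 := d38_1 D43889 (iv D43472) D43471
def n43890 : Q := act 3 n43473
theorem D43890 : act 3 n43473 = n43890 := rfl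
theorem F202347 : act 4 n43890 = n43516 := d24_2 D43473 D43890 F200441 (iv F199608) F199607
theorem F202348 : act 5 n43890 = n43476 := d25_2 (iv F200316) D43890 (iv D43476)
theorem F202349 : act 7 n43890 = n43515 := d27_2 F200824 D43890 (iv F200821)
theorem F202350 : act 8 n43890 = n43890 := d28_2 F200317 D43890 (iv D43890)
def n43891 : Q := act 6 n43473
theorem D43891 : act 6 n43473 = n43891 := rfl
theorem F202351 : act 2 n43891 = n43515 := d20_1 D43891 F200439 (iv F200315)
theorem F202352 : act 4 n43891 = n43474 := d31_1 D43891 (iv D43474) D43473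
theorem F202353 : act 5 n43891 = n43567 := d35_1 D43891 (iv F200816) F200815 F199323 (iv F200316)
theorem F202354 : act 8 n43891 = n43891 := d40_2 F200317 D43891 (iv D43891)
def n43892 : Q := act 9 n43473
theorem D43892 : act 9 n43473 = n43892 := rfl
theorem F202355 : act 2 n43892 = n43541 := d23_1 D43892 (iv D43541) (iv F200315)
theorem F202356 : act 4 n43892 = n43475 := d34_1 D43892 (iv D43475) D43473
theorem F202357 : act 5 n43892 = n43477 := d38_1 D43892 (iv D43477) (iv F200316)
def n43893 : Q := act 7 n43474
theorem D43893 : act 7 n43474 = n43893 := rfl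
theorem F202358 : act 2 n43893 = n43516 := d21_1 D43893 (iv D43516) (iv F200318)
theorem F202359 : act 3 n43893 = n43566 := d27_1 D43893 F200575 (iv F200319)
theorem F202360 : act 5 n43893 = n43494 := d36_1 D43893 (iv D43494) (iv F200320)
theorem F202361 : act 8 n43893 = n43893 := d42_2 F200321 D43893 (iv D43893)
def n43894 : Q := act 9 n43474
theorem D43894 : act 9 n43474 = n43894 := rfl
theorem F202362 : act 2 n43894 = n43517 := d23_1 D43894 (iv D43517) (iv F200318)
theorem F202363 : act 3 n43894 = n43564 := d29_1 D43894 F200572 (iv F200319)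
theorem F202364 : act 5 n43894 = n43495 := d38_1 D43894 (iv D43495) (iv F200320)
theorem F202365 : act 6 n43894 = n43475 := d41_1 D43894 (iv D43475) D43474
def n43895 : Q := act 8 n43475
theorem D43895 : act 8 n43475 = n43895 := rfl
theorem F202366 : act 2 n43895 = n43542 := d22_1 D43895 (iv D43542) (iv F200322)
theorem F202367 : act 9 n43895 = n43895 := d44_2 D43475 D43895 (iv D43895) (iv D43475) F197366
def n43896 : Q := act 2 n43476
theorem D43896 : act 2 n43476 = n43896 := rfl
theorem F202368 : act 3 n43896 = n43543 := d17_2 D43476 D43896 (iv D43543) (iv D42961) (iv F197370)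
theorem F202369 : act 4 n43896 = n43479 := d18_2 (iv F200324) D43896 (iv D43479)
theorem F202370 : act 7 n43896 = n43567 := d21_2 (iv F200325) D43896 F200577
theorem F202371 : act 8 n43896 = n43478 := d22_2 (iv F200326) D43896 (iv D43478)
def n43897 : Q := act 9 n43476
theorem D43897 : act 9 n43476 = n43897 := rfl
theorem F202372 : act 3 n43897 = n43477 := d29_1 D43897 (iv D43477) D43476
theorem F202373 : act 4 n43897 = n43481 := d34_1 D43897 (iv D43481) (iv F200324)
theorem F202374 : act 7 n43897 = n43570 := d43_1 D43897 (iv D43570) (iv F200325)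
def n43898 : Q := act 6 n43479
theorem D43898 : act 6 n43479 = n43898 := rfl
theorem F202375 : act 2 n43898 = n43480 := d20_1 D43898 (iv D43480) D43479
theorem F202376 : act 3 n43898 = n43485 := d26_1 D43898 (iv D43485) (iv F200333)
theorem F202377 : act 8 n43898 = n43484 := d40_2 (iv F200336) D43898 (iv D43484)
def n43899 : Q := act 9 n43479
theorem D43899 : act 9 n43479 = n43899 := rfl
theorem F202378 : act 2 n43899 = n43481 := d23_1 D43899 (iv D43481) D43479
theorem F202379 : act 3 n43899 = n43486 := d29_1 D43899 (iv D43486) (iv F200333)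
theorem F202380 : act 5 n43899 = n43569 := d38_1 D43899 (iv D43569) (iv F200334)
theorem F202381 : act 7 n43899 = n43568 := d43_1 D43899 (iv D43568) (iv F200335)
def n43900 : Q := act 5 n43480
theorem D43900 : act 5 n43480 = n43900 := rfl
theorem F202382 : act 3 n43900 = n43482 := d25_1 D43900 (iv D43482) (iv F200337)
theorem F202383 : act 6 n43900 = n43558 := d35_2 D43480 D43900 F200556 F197716 (iv F197378)
theorem F202384 : act 7 n43900 = n43571 := d36_2 F201052 D43900 (iv F201051)
theorem F202385 : act 8 n43900 = n43900 := d37_2 (iv F200338) D43900 (iv D43900) F200338 F197395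
def n43901 : Q := act 9 n43480
theorem D43901 : act 9 n43480 = n43901 := rfl
theorem F202386 : act 3 n43901 = n43483 := d29_1 D43901 (iv D43483) (iv F200337)
theorem F202387 : act 6 n43901 = n43481 := d41_1 D43901 (iv D43481) D43480
def n43902 : Q := act 9 n43482
theorem D43902 : act 9 n43482 = n43902 := rfl
theorem F202388 : act 2 n43902 = n43491 := d23_1 D43902 (iv D43491) (iv F200342)
theorem F202389 : act 4 n43902 = n43500 := d34_1 D43902 (iv D43500) (iv F200343)
theorem F202390 : act 5 n43902 = n43483 := d38_1 D43902 (iv D43483) D43482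
theorem F202391 : act 6 n43902 = n43561 := d41_1 D43902 (iv D43561) (iv F200344)
def n43903 : Q := act 7 n43485
theorem D43903 : act 7 n43485 = n43903 := rfl
theorem F202392 : act 2 n43903 = n43488 := d21_1 D43903 (iv D43488) (iv F200352)
theorem F202393 : act 4 n43903 = n43550 := d32_1 D43903 (iv D43550) (iv F200353)
theorem F202394 : act 8 n43903 = n43493 := d42_2 (iv F200354) D43903 (iv D43493)
def n43904 : Q := act 9 n43485
theorem D43904 : act 9 n43485 = n43904 := rfl
theorem F202395 : act 2 n43904 = n43489 := d23_1 D43904 (iv D43489) (iv F200352)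
theorem F202396 : act 4 n43904 = n43551 := d34_1 D43904 (iv D43551) (iv F200353)
theorem F202397 : act 6 n43904 = n43486 := d41_1 D43904 (iv D43486) D43485
def n43905 : Q := act 7 n43487
theorem D43905 : act 7 n43487 = n43905 := rfl
theorem F202398 : act 3 n43905 = n43490 := d27_1 D43905 (iv D43490) (iv F200357)
theorem F202399 : act 5 n43905 = n43488 := d36_1 D43905 (iv D43488) D43487
theorem F202400 : act 8 n43905 = n43905 := d42_2 F200358 D43905 (iv D43905)
def n43906 : Q := act 9 n43487
theorem D43906 : act 9 n43487 = n43906 := rfl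
theorem F202401 : act 3 n43906 = n43491 := d29_1 D43906 (iv D43491) (iv F200357)
theorem F202402 : act 5 n43906 = n43489 := d38_1 D43906 (iv D43489) D43487
def n43907 : Q := act 9 n43488
theorem D43907 : act 9 n43488 = n43907 := rfl
theorem F202403 : act 3 n43907 = n43492 := d29_1 D43907 (iv D43492) (iv F200359)
theorem F202404 : act 4 n43907 = n43553 := d34_1 D43907 (iv D43553) (iv F200360)
theorem F202405 : act 7 n43907 = n43489 := d43_1 D43907 (iv D43489) D43488
def n43908 : Q := act 9 n43490
theorem D43908 : act 9 n43490 = n43908 := rfl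
theorem F202406 : act 4 n43908 = n43506 := d34_1 D43908 (iv D43506) (iv F200365)
theorem F202407 : act 5 n43908 = n43492 := d38_1 D43908 (iv D43492) (iv F200366)
theorem F202408 : act 7 n43908 = n43491 := d43_1 D43908 (iv D43491) D43490
def n43909 : Q := act 8 n43491
theorem D43909 : act 8 n43491 = n43909 := rfl
theorem F202409 : act 4 n43909 = n43507 := d33_1 D43909 (iv D43507) (iv F200368)
theorem F202410 : act 9 n43909 = n43909 := d44_2 D43491 D43909 (iv D43909) (iv D43491) F197404
def n43910 : Q := act 9 n43494
theorem D43910 : act 9 n43494 = n43910 := rfl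
theorem F202411 : act 2 n43910 = n43518 := d23_1 D43910 (iv D43518) (iv F200375)
theorem F202412 : act 3 n43910 = n43563 := d29_1 D43910 F200571 (iv F200376)
theorem F202413 : act 4 n43910 = n43569 := d34_1 D43910 (iv D43569) (iv F200377)
theorem F202414 : act 6 n43910 = n43531 := d41_1 D43910 (iv D43531) (iv F200378)
theorem F202415 : act 7 n43910 = n43495 := d43_1 D43910 (iv D43495) D43494
theorem F202416 : act 8 n43910 = n43560 := d44_1 D43910 (iv D43560) F197717 (iv F197576) (iv F200379)
def n43911 : Q := act 7 n43496
theorem D43911 : act 7 n43496 = n43911 := rfl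
theorem F202417 : act 3 n43911 = n43499 := d27_1 D43911 (iv D43499) (iv F200385)
theorem F202418 : act 5 n43911 = n43497 := d36_1 D43911 (iv D43497) D43496
theorem F202419 : act 8 n43911 = n43911 := d42_2 F200387 D43911 (iv D43911)
def n43912 : Q := act 9 n43496
theorem D43912 : act 9 n43496 = n43912 := rfl
theorem F202420 : act 3 n43912 = n43500 := d29_1 D43912 (iv D43500) (iv F200385)
theorem F202421 : act 5 n43912 = n43498 := d38_1 D43912 (iv D43498) D43496
theorem F202422 : act 6 n43912 = n43508 := d41_1 D43912 F200418 (iv F200386)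
def n43913 : Q := act 9 n43497
theorem D43913 : act 9 n43497 = n43913 := rfl
theorem F202423 : act 3 n43913 = n43501 := d29_1 D43913 (iv D43501) (iv F200388)
theorem F202424 : act 6 n43913 = n43535 := d41_1 D43913 (iv D43535) (iv F200389)
theorem F202425 : act 7 n43913 = n43498 := d43_1 D43913 (iv D43498) D43497
def n43914 : Q := act 9 n43499
theorem D43914 : act 9 n43499 = n43914 := rfl
theorem F202426 : act 2 n43914 = n43506 := d23_1 D43914 (iv D43506) (iv F200393)
theorem F202427 : act 5 n43914 = n43501 := d38_1 D43914 (iv D43501) (iv F200394)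
theorem F202428 : act 7 n43914 = n43500 := d43_1 D43914 (iv D43500) D43499
def n43915 : Q := act 8 n43500
theorem D43915 : act 8 n43500 = n43915 := rfl
theorem F202429 : act 2 n43915 = n43507 := d22_1 D43915 (iv D43507) (iv F200396)
theorem F202430 : act 9 n43915 = n43915 := d44_2 D43500 D43915 (iv D43915) (iv D43500) F197446
def n43916 : Q := act 5 n43502
theorem D43916 : act 5 n43502 = n43916 := rfl
theorem F202431 : act 1 n43916 = n43533 := d12_1 D43916 F200494 (iv F200402)
theorem F202432 : act 2 n43916 = n43508 := d19_1 D43916 (iv D43508) (iv F200403)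
theorem F202433 : act 9 n43916 = n43503 := d38_2 (iv F200406) D43916 (iv D43503)
def n43917 : Q := act 8 n43504
theorem D43917 : act 8 n43504 = n43917 := rfl
theorem F202434 : act 1 n43917 = n43542 := d15_1 D43917 (iv D43542) (iv F200410)
theorem F202435 : act 3 n43917 = n43507 := d28_1 D43917 (iv D43507) (iv F200411)
theorem F202436 : act 9 n43917 = n43917 := d44_2 D43504 D43917 (iv D43917) (iv D43504) F197476
def n43918 : Q := act 9 n43505
theorem D43918 : act 9 n43505 = n43918 := rfl
theorem F202437 : act 5 n43918 = n43536 := d38_1 D43918 (iv D43536) (iv F200413)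
theorem F202438 : act 6 n43918 = n43506 := d41_1 D43918 (iv D43506) D43505
def n43919 : Q := act 8 n43506
theorem D43919 : act 8 n43506 = n43919 := rfl
theorem F202439 : act 7 n43919 = n43507 := d42_1 D43919 (iv D43507) (iv F200416)
theorem F202440 : act 9 n43919 = n43919 := d44_2 D43506 D43919 (iv D43919) (iv D43506) F197482
def n43920 : Q := act 5 n43507
theorem D43920 : act 5 n43507 = n43920 := rfl
theorem F202441 : act 8 n43920 = n43508 := d37_2 D43507 D43920 (iv D43508) (iv D42907) (iv F197483)
theorem F202442 : act 9 n43920 = n43920 := d38_2 F200417 D43920 (iv D43920)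
def n43921 : Q := act 4 n43508
theorem D43921 : act 4 n43508 = n43921 := rfl
theorem F202443 : act 5 n43921 = n43509 := d30_2 D43508 D43921 (iv D43509) (iv D42908) (iv F197487)
theorem F202444 : act 9 n43921 = n43510 := d34_2 (iv F200418) D43921 (iv D43510)
def n43922 : Q := act 9 n43511
theorem D43922 : act 9 n43511 = n43922 := rfl
theorem F202445 : act 1 n43922 = n43560 := d16_1 D43922 (iv D43560) (iv F200422)
theorem F202446 : act 3 n43922 = n43513 := d29_1 D43922 (iv D43513) (iv F200423)
theorem F202447 : act 4 n43922 = n43514 := d34_1 D43922 (iv D43514) (iv F200424)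
theorem F202448 : act 6 n43922 = n43537 := d41_1 D43922 (iv D43537) (iv F200425)
theorem F202449 : act 7 n43922 = n43512 := d43_1 D43922 (iv D43512) D43511
def n43923 : Q := act 9 n43515
theorem D43923 : act 9 n43515 = n43923 := rfl
theorem F202450 : act 4 n43923 = n43517 := d34_1 D43923 (iv D43517) D43515
theorem F202451 : act 5 n43923 = n43570 := d38_1 D43923 (iv D43570) (iv F200438)
theorem F202452 : act 6 n43923 = n43541 := d41_1 D43923 (iv D43541) (iv F200439)
def n43924 : Q := act 9 n43516
theorem D43924 : act 9 n43516 = n43924 := rfl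
theorem F202453 : act 3 n43924 = n43521 := d29_1 D43924 (iv D43521) (iv F200441)
theorem F202454 : act 5 n43924 = n43518 := d38_1 D43924 (iv D43518) (iv F200442)
theorem F202455 : act 7 n43924 = n43517 := d43_1 D43924 (iv D43517) D43516
def n43925 : Q := act 8 n43517
theorem D43925 : act 8 n43517 = n43925 := rfl
theorem F202456 : act 3 n43925 = n43522 := d28_1 D43925 (iv D43522) (iv F200444)
theorem F202457 : act 6 n43925 = n43542 := d40_1 D43925 (iv D43542) (iv F200446)
theorem F202458 : act 9 n43925 = n43925 := d44_2 D43517 D43925 (iv D43925) (iv D43517) F197543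
def n43926 : Q := act 8 n43518
theorem D43926 : act 8 n43518 = n43926 := rfl
theorem F202459 : act 2 n43926 = n43560 := d22_1 D43926 (iv F202416) F202411
theorem F202460 : act 3 n43926 = n43523 := d28_1 D43926 (iv D43523) (iv F200447)
theorem F202461 : act 4 n43926 = n43531 := d33_1 D43926 F200489 (iv F200448)
theorem F202462 : act 6 n43926 = n43569 := d40_1 D43926 F200583 (iv F200449)
theorem F202463 : act 7 n43926 = n43519 := d42_1 D43926 (iv D43519) (iv F200450)
theorem F202464 : act 9 n43926 = n43526 := d44_2 D43518 D43926 (iv D43526) (iv D42934) (iv F197547)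
def n43927 : Q := act 5 n43519
theorem D43927 : act 5 n43519 = n43927 := rfl
theorem F202465 : act 2 n43927 = n43559 := d19_1 D43927 F200559 (iv F200451)
theorem F202466 : act 3 n43927 = n43524 := d25_1 D43927 (iv D43524) (iv F200452)
theorem F202467 : act 6 n43927 = n43533 := d35_2 (iv F200454) D43927 F200494 F197613 (iv F197554)
theorem F202468 : act 9 n43927 = n43527 := d38_2 (iv F200455) D43927 (iv D43527)
def n43928 : Q := act 9 n43520
theorem D43928 : act 9 n43520 = n43928 := rfl
theorem F202469 : act 4 n43928 = n43564 := d34_1 D43928 F200572 (iv F200456)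
theorem F202470 : act 5 n43928 = n43565 := d38_1 D43928 F200574 (iv F200457)
theorem F202471 : act 6 n43928 = n43521 := d41_1 D43928 (iv D43521) D43520
def n43929 : Q := act 8 n43521
theorem D43929 : act 8 n43521 = n43929 := rfl
theorem F202472 : act 7 n43929 = n43522 := d42_1 D43929 (iv D43522) (iv F200460)
theorem F202473 : act 9 n43929 = n43929 := d44_2 D43521 D43929 (iv D43929) (iv D43521) F197558
def n43930 : Q := act 5 n43522
theorem D43930 : act 5 n43522 = n43930 := rfl
theorem F202474 : act 8 n43930 = n43524 := d37_2 D43522 D43930 (iv D43524) (iv D42930) (iv F197559)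
theorem F202475 : act 9 n43930 = n43930 := d38_2 F200461 D43930 (iv D43930)
def n43931 : Q := act 5 n43523
theorem D43931 : act 5 n43523 = n43931 := rfl
theorem F202476 : act 7 n43931 = n43524 := d36_2 (iv F200463) D43931 (iv D43524)
theorem F202477 : act 9 n43931 = n43528 := d38_2 (iv F200464) D43931 (iv D43528)
def n43932 : Q := act 6 n43524
theorem D43932 : act 6 n43524 = n43932 := rfl
theorem F202478 : act 3 n43932 = n43533 := d26_1 D43932 (iv F202467) F202466
theorem F202479 : act 5 n43932 = n43525 := d35_1 D43932 (iv D43525) (iv D42931) (iv F197563) D43524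
theorem F202480 : act 9 n43932 = n43529 := d41_2 (iv F200465) D43932 (iv D43529)
def n43933 : Q := act 7 n43525
theorem D43933 : act 7 n43525 = n43933 := rfl
theorem F202481 : act 3 n43933 = n43534 := d27_1 D43933 F200497 (iv F200466)
theorem F202482 : act 4 n43933 = n43535 := d32_1 D43933 F200499 (iv F200467)
theorem F202483 : act 9 n43933 = n43530 := d43_2 (iv F200468) D43933 (iv D43530)
def n43934 : Q := act 5 n43526
theorem D43934 : act 5 n43526 = n43934 := rfl
theorem F202484 : act 2 n43934 = n43558 := d19_1 D43934 F200556 (iv F200469)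
theorem F202485 : act 3 n43934 = n43528 := d25_1 D43934 (iv D43528) (iv F200470)
theorem F202486 : act 7 n43934 = n43527 := d36_2 (iv F200473) D43934 (iv D43527)
theorem F202487 : act 8 n43934 = n43934 := d37_2 D43526 D43934 (iv D43934) (iv D43526) F197580
def n43935 : Q := act 7 n43529
theorem D43935 : act 7 n43529 = n43935 := rfl
theorem F202488 : act 3 n43935 = n43532 := d27_1 D43935 (iv D43532) (iv F200480)
theorem F202489 : act 5 n43935 = n43530 := d36_1 D43935 (iv D43530) (iv F200481)
theorem F202490 : act 8 n43935 = n43935 := d42_2 F200482 D43935 (iv D43935)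
def n43936 : Q := act 6 n43532
theorem D43936 : act 6 n43532 = n43936 := rfl
theorem F202491 : act 2 n43936 = n43571 := d20_1 D43936 (iv D43571) (iv F200490)
theorem F202492 : act 8 n43936 = n43936 := d40_2 F200492 D43936 (iv D43936)
def n43937 : Q := act 9 n43532
theorem D43937 : act 9 n43532 = n43937 := rfl
theorem F202493 : act 2 n43937 = n43572 := d23_1 D43937 (iv D43572) (iv F200490)
theorem F202494 : act 5 n43937 = n43534 := d38_1 D43937 (iv D43534) (iv F200491)
theorem F202495 : act 7 n43937 = n43533 := d43_1 D43937 (iv D43533) D43532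
def n43938 : Q := act 8 n43533
theorem D43938 : act 8 n43533 = n43938 := rfl
theorem F202496 : act 2 n43938 = n43573 := d22_1 D43938 (iv D43573) (iv F200493)
theorem F202497 : act 9 n43938 = n43938 := d44_2 D43533 D43938 (iv D43938) (iv D43533) F197607
def n43939 : Q := act 8 n43538
theorem D43939 : act 8 n43538 = n43939 := rfl
theorem F202498 : act 5 n43939 = n43542 := d37_1 D43939 (iv D43542) F197647 (iv F197640) (iv F200506)
theorem F202499 : act 9 n43939 = n43939 := d44_2 D43538 D43939 (iv D43939) (iv D43538) F197637
def n43940 : Q := act 8 n43539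
theorem D43940 : act 8 n43539 = n43940 := rfl
theorem F202500 : act 4 n43940 = n43562 := d33_1 D43940 (iv D43562) (iv F200507)
theorem F202501 : act 9 n43940 = n43940 := d44_2 D43539 D43940 (iv D43940) (iv D43539) F197642
def n43941 : Q := act 9 n43540
theorem D43941 : act 9 n43540 = n43941 := rfl
theorem F202502 : act 3 n43941 = n43541 := d29_1 D43941 (iv D43541) D43540
theorem F202503 : act 5 n43941 = n43544 := d38_1 D43941 (iv D43544) (iv F200509)
def n43942 : Q := act 8 n43541
theorem D43942 : act 8 n43541 = n43942 := rfl
theorem F202504 : act 4 n43942 = n43542 := d33_1 D43942 (iv D43542) (iv F200511)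
theorem F202505 : act 9 n43942 = n43942 := d44_2 D43541 D43942 (iv D43942) (iv D43541) F197646
def n43943 : Q := act 9 n43543
theorem D43943 : act 9 n43543 = n43943 := rfl
theorem F202506 : act 2 n43943 = n43544 := d23_1 D43943 (iv D43544) D43543
theorem F202507 : act 4 n43943 = n43546 := d34_1 D43943 (iv D43546) (iv F200514)
def n43944 : Q := act 9 n43545
theorem D43944 : act 9 n43545 = n43944 := rfl
theorem F202508 : act 1 n43944 = n43546 := d16_1 D43944 (iv D43546) D43545
theorem F202509 : act 2 n43944 = n43554 := d23_1 D43944 F200547 (iv F200518)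
theorem F202510 : act 3 n43944 = n43548 := d29_1 D43944 F200530 (iv F200519)
theorem F202511 : act 5 n43944 = n43547 := d38_1 D43944 F200527 (iv F200520)
theorem F202512 : act 6 n43944 = n43552 := d41_1 D43944 F200542 (iv F200521)
theorem F202513 : act 8 n43944 = n43551 := d44_1 D43944 (iv D43551) F197677 F197665 (iv F200522)
def n43945 : Q := act 8 n43546
theorem D43945 : act 8 n43546 = n43945 := rfl
theorem F202514 : act 1 n43945 = n43551 := d15_1 D43945 (iv F202513) F202508
theorem F202515 : act 2 n43945 = n43547 := d22_1 D43945 (iv D43547) (iv F200523)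
theorem F202516 : act 3 n43945 = n43552 := d28_1 D43945 (iv D43552) (iv F200524)
theorem F202517 : act 5 n43945 = n43554 := d37_1 D43945 (iv D43554) (iv F199422) (iv F201289) F201287
theorem F202518 : act 6 n43945 = n43548 := d40_1 D43945 (iv F201303) F201302
theorem F202519 : act 9 n43945 = n43549 := d44_2 D43546 D43945 (iv D43549) (iv D42969) (iv F197656)
def n43946 : Q := act 9 n43550
theorem D43946 : act 9 n43550 = n43946 := rfl
theorem F202520 : act 2 n43946 = n43553 := d23_1 D43946 (iv D43553) (iv F200536)
theorem F202521 : act 7 n43946 = n43551 := d43_1 D43946 (iv D43551) D43550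
def n43947 : Q := act 8 n43553
theorem D43947 : act 8 n43553 = n43947 := rfl
theorem F202522 : act 3 n43947 = n43555 := d28_1 D43947 (iv D43555) (iv F200543)
theorem F202523 : act 7 n43947 = n43554 := d42_1 D43947 (iv D43554) (iv F200544)
theorem F202524 : act 9 n43947 = n43556 := d44_2 D43553 D43947 (iv D43556) (iv D42984) (iv F197680)
def n43948 : Q := act 8 n43557
theorem D43948 : act 8 n43557 = n43948 := rfl
theorem F202525 : act 2 n43948 = n43562 := d22_1 D43948 (iv D43562) (iv F200553)
theorem F202526 : act 9 n43948 = n43948 := d44_2 D43557 D43948 (iv D43948) (iv D43557) F197707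
def n43949 : Q := act 9 n43558
theorem D43949 : act 9 n43558 = n43949 := rfl
theorem F202527 : act 3 n43949 = n43561 := d29_1 D43949 (iv D43561) (iv F200555)
theorem F202528 : act 5 n43949 = n43560 := d38_1 D43949 (iv D43560) (iv F200556)
theorem F202529 : act 7 n43949 = n43559 := d43_1 D43949 (iv D43559) D43558
def n43950 : Q := act 8 n43559
theorem D43950 : act 8 n43559 = n43950 := rfl
theorem F202530 : act 3 n43950 = n43562 := d28_1 D43950 (iv D43562) (iv F200558)
theorem F202531 : act 6 n43950 = n43573 := d40_1 D43950 (iv D43573) (iv F200560)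
theorem F202532 : act 9 n43950 = n43950 := d44_2 D43559 D43950 (iv D43950) (iv D43559) F197713
def n43951 : Q := act 8 n43561
theorem D43951 : act 8 n43561 = n43951 := rfl
theorem F202533 : act 7 n43951 = n43562 := d42_1 D43951 (iv D43562) (iv F200566)
theorem F202534 : act 9 n43951 = n43951 := d44_2 D43561 D43951 (iv D43951) (iv D43561) F197722
def n43952 : Q := act 5 n43562
theorem D43952 : act 5 n43562 = n43952 := rfl
theorem F202535 : act 8 n43952 = n43564 := d37_2 D43562 D43952 (iv D43564) (iv D42995) (iv F197723)
theorem F202536 : act 9 n43952 = n43952 := d38_2 F200567 D43952 (iv D43952)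
def n43953 : Q := act 5 n43563
theorem D43953 : act 5 n43563 = n43953 := rfl
theorem F202537 : act 7 n43953 = n43564 := d36_2 (iv F200570) D43953 (iv D43564)
theorem F202538 : act 9 n43953 = n43566 := d38_2 (iv F200571) D43953 (iv D43566)
def n43954 : Q := act 9 n43567
theorem D43954 : act 9 n43567 = n43954 := rfl
theorem F202539 : act 2 n43954 = n43570 := d23_1 D43954 (iv D43570) (iv F200577)
theorem F202540 : act 4 n43954 = n43568 := d34_1 D43954 (iv D43568) D43567
def n43955 : Q := act 9 n43571
theorem D43955 : act 9 n43571 = n43955 := rfl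
theorem F202541 : act 6 n43955 = n43572 := d41_1 D43955 (iv D43572) D43571
def n43956 : Q := act 8 n43572
theorem D43956 : act 8 n43572 = n43956 := rfl
theorem F202542 : act 7 n43956 = n43573 := d42_1 D43956 (iv D43573) (iv F200587)
theorem F202543 : act 9 n43956 = n43956 := d44_2 D43572 D43956 (iv D43956) (iv D43572) F197759
def n43957 : Q := act 3 n43575
theorem D43957 : act 3 n43575 = n43957 := rfl
theorem F202544 : act 0 n43957 = n43831 := d2_1 D43957 (iv D43831) (iv F200598)
theorem F202545 : act 1 n43957 = n43873 := d10_1 D43957 F202286 (iv F200599)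
theorem F202546 : act 4 n43957 = n43778 := d24_2 D43575 D43957 F201918 F200024 (iv F197810)
theorem F202547 : act 5 n43957 = n43578 := d25_2 (iv F200601) D43957 (iv D43578)
theorem F202548 : act 7 n43957 = n43776 := d27_2 (iv F200602) D43957 F201910
theorem F202549 : act 8 n43957 = n43957 := d28_2 F200603 D43957 (iv D43957)
def n43958 : Q := act 6 n43575
theorem D43958 : act 6 n43575 = n43958 := rfl
theorem F202550 : act 0 n43958 = n43832 := d5_1 D43958 (iv D43832) (iv F200598)
theorem F202551 : act 1 n43958 = n43848 := d13_1 D43958 F202203 (iv F200599)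
theorem F202552 : act 2 n43958 = n43776 := d20_1 D43958 (iv D43776) (iv F200600)
theorem F202553 : act 4 n43958 = n43576 := d31_1 D43958 (iv D43576) D43575
theorem F202554 : act 5 n43958 = n43800 := d35_1 D43958 F202017 (iv D43409) (iv F197824) (iv F200601)
theorem F202555 : act 8 n43958 = n43958 := d40_2 F200603 D43958 (iv D43958)
def n43959 : Q := act 9 n43575
theorem D43959 : act 9 n43575 = n43959 := rfl
theorem F202556 : act 0 n43959 = n43833 := d8_1 D43959 (iv D43833) (iv F200598)
theorem F202557 : act 1 n43959 = n43921 := d16_1 D43959 F202444 (iv F200599)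
theorem F202558 : act 2 n43959 = n43777 := d23_1 D43959 (iv D43777) (iv F200600)
theorem F202559 : act 4 n43959 = n43577 := d34_1 D43959 (iv D43577) D43575
theorem F202560 : act 5 n43959 = n43579 := d38_1 D43959 (iv D43579) (iv F200601)
theorem F202561 : act 7 n43959 = n43798 := d43_1 D43959 (iv D43798) (iv F200602)
def n43960 : Q := act 7 n43576
theorem D43960 : act 7 n43576 = n43960 := rfl
theorem F202562 : act 0 n43960 = n43834 := d6_1 D43960 (iv D43834) (iv F200604)
theorem F202563 : act 1 n43960 = n43911 := d14_1 D43960 (iv D43911) (iv F200605)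
theorem F202564 : act 2 n43960 = n43778 := d21_1 D43960 (iv D43778) (iv F200606)
theorem F202565 : act 3 n43960 = n43736 := d27_1 D43960 F201676 (iv F200607)
theorem F202566 : act 5 n43960 = n43609 := d36_1 D43960 (iv D43609) (iv F200608)
theorem F202567 : act 6 n43960 = n43732 := d39_1 D43960 (iv D43732) F199214 (iv F197811) D43576
theorem F202568 : act 8 n43960 = n43960 := d42_2 F200609 D43960 (iv D43960)
def n43961 : Q := act 9 n43576
theorem D43961 : act 9 n43576 = n43961 := rfl
theorem F202569 : act 0 n43961 = n43835 := d8_1 D43961 (iv D43835) (iv F200604)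
theorem F202570 : act 1 n43961 = n43912 := d16_1 D43961 (iv D43912) (iv F200605)
theorem F202571 : act 2 n43961 = n43779 := d23_1 D43961 (iv D43779) (iv F200606)
theorem F202572 : act 3 n43961 = n43791 := d29_1 D43961 (iv D43791) (iv F200607)
theorem F202573 : act 5 n43961 = n43610 := d38_1 D43961 (iv D43610) (iv F200608)
theorem F202574 : act 6 n43961 = n43577 := d41_1 D43961 (iv D43577) D43576
def n43962 : Q := act 8 n43577
theorem D43962 : act 8 n43577 = n43962 := rfl
theorem F202575 : act 0 n43962 = n43836 := d7_1 D43962 (iv D43836) (iv F200610)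
theorem F202576 : act 1 n43962 = n43920 := d15_1 D43962 F202441 (iv F200611)
theorem F202577 : act 2 n43962 = n43780 := d22_1 D43962 (iv D43780) (iv F200612)
theorem F202578 : act 3 n43962 = n43939 := d28_1 D43962 (iv D43939) (iv F200613)
theorem F202579 : act 5 n43962 = n43673 := d37_1 D43962 (iv D43673) F198581 (iv F197820) (iv F200614)
theorem F202580 : act 7 n43962 = n43799 := d42_1 D43962 (iv D43799) (iv F200615)
theorem F202581 : act 9 n43962 = n43962 := d44_2 D43577 D43962 (iv D43962) (iv D43577) F197812
def n43963 : Q := act 2 n43578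
theorem D43963 : act 2 n43578 = n43963 := rfl
theorem F202582 : act 0 n43963 = n43837 := d1_1 D43963 (iv D43837) (iv F200616)
theorem F202583 : act 1 n43963 = n43849 := d9_1 D43963 F202205 (iv F201129) F201130 (iv F200617)
theorem F202584 : act 3 n43963 = n43781 := d17_2 D43578 D43963 (iv D43781) (iv D43305) (iv F197823)
theorem F202585 : act 4 n43963 = n43581 := d18_2 (iv F200618) D43963 (iv D43581)
theorem F202586 : act 6 n43963 = n43847 := d20_2 (iv F200619) D43963 F202197
theorem F202587 : act 7 n43963 = n43800 := d21_2 (iv F200620) D43963 (iv D43800)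
theorem F202588 : act 8 n43963 = n43580 := d22_2 (iv F200621) D43963 (iv D43580)
def n43964 : Q := act 9 n43578
theorem D43964 : act 9 n43578 = n43964 := rfl
theorem F202589 : act 0 n43964 = n43838 := d8_1 D43964 (iv D43838) (iv F200616)
theorem F202590 : act 1 n43964 = n43875 := d16_1 D43964 (iv D43875) (iv F200617)
theorem F202591 : act 3 n43964 = n43579 := d29_1 D43964 (iv D43579) D43578
theorem F202592 : act 4 n43964 = n43583 := d34_1 D43964 (iv D43583) (iv F200618)
theorem F202593 : act 6 n43964 = n43844 := d41_1 D43964 F202187 (iv F200619)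
theorem F202594 : act 7 n43964 = n43801 := d43_1 D43964 (iv D43801) (iv F200620)
theorem F202595 : act 8 n43964 = n43843 := d44_1 D43964 (iv D43843) F200061 (iv F197841) (iv F200621)
def n43965 : Q := act 1 n43581
theorem D43965 : act 1 n43581 = n43965 := rfl
theorem F202596 : act 2 n43965 = n43636 := d9_2 D43581 D43965 F201008 F200009 (iv F197843)
theorem F202597 : act 3 n43965 = n43593 := d10_2 (iv F200638) D43965 (iv D43593)
theorem F202598 : act 4 n43965 = n43849 := d11_2 F202585 D43965 (iv F202583)
theorem F202599 : act 5 n43965 = n43635 := d12_2 (iv F200639) D43965 F201001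
theorem F202600 : act 7 n43965 = n43634 := d14_2 (iv F200640) D43965 F200994
theorem F202601 : act 8 n43965 = n43587 := d15_2 (iv F200641) D43965 (iv D43587)
theorem F202602 : act 0 n43787 = n43965 := d7_3 F202601 (iv F200679) (iv F201964)
theorem F202603 : act 6 n43903 = n43965 := d40_3 F202601 (iv F200680) (iv F202394)
def n43966 : Q := act 6 n43581
theorem D43966 : act 6 n43581 = n43966 := rfl
theorem F202604 : act 0 n43966 = n43840 := d5_1 D43966 (iv D43840) (iv F200637)
theorem F202605 : act 1 n43966 = n43903 := d13_1 D43966 F202603 (iv D43965)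
theorem F202606 : act 2 n43966 = n43582 := d20_1 D43966 (iv D43582) D43581
theorem F202607 : act 3 n43966 = n43594 := d26_1 D43966 (iv D43594) (iv F200638)
theorem F202608 : act 4 n43966 = n43847 := d31_1 D43966 (iv F202586) F202585
theorem F202609 : act 7 n43966 = n43858 := d39_2 (iv F200640) D43966 (iv D43858) F200136 (iv F199804)
theorem F202610 : act 8 n43966 = n43588 := d40_2 (iv F200641) D43966 (iv D43588)
def n43967 : Q := act 9 n43581
theorem D43967 : act 9 n43581 = n43967 := rfl
theorem F202611 : act 0 n43967 = n43841 := d8_1 D43967 (iv D43841) (iv F200637)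
theorem F202612 : act 2 n43967 = n43583 := d23_1 D43967 (iv D43583) D43581
theorem F202613 : act 3 n43967 = n43595 := d29_1 D43967 (iv D43595) (iv F200638)
theorem F202614 : act 5 n43967 = n43816 := d38_1 D43967 (iv D43816) (iv F200639)
theorem F202615 : act 7 n43967 = n43802 := d43_1 D43967 (iv D43802) (iv F200640)
def n43968 : Q := act 5 n43582
theorem D43968 : act 5 n43582 = n43968 := rfl
theorem F202616 : act 0 n43968 = n43842 := d4_1 D43968 (iv D43842) (iv F200642)
theorem F202617 : act 1 n43968 = n43834 := d12_1 D43968 F202156 (iv F200643)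
theorem F202618 : act 3 n43968 = n43584 := d25_1 D43968 (iv D43584) (iv F200644)
theorem F202619 : act 6 n43968 = n43884 := d35_2 D43582 D43968 F202324 F200286 (iv F197844)
theorem F202620 : act 7 n43968 = n43829 := d36_2 (iv F200646) D43968 F202139
theorem F202621 : act 8 n43968 = n43968 := d37_2 (iv F200647) D43968 (iv D43968) F200647 F197883
def n43969 : Q := act 9 n43582
theorem D43969 : act 9 n43582 = n43969 := rfl
theorem F202622 : act 0 n43969 = n43843 := d8_1 D43969 (iv D43843) (iv F200642)
theorem F202623 : act 1 n43969 = n43865 := d16_1 D43969 (iv D43865) (iv F200643)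
theorem F202624 : act 3 n43969 = n43585 := d29_1 D43969 (iv D43585) (iv F200644)
theorem F202625 : act 4 n43969 = n43844 := d34_1 D43969 F202187 (iv F200645)
theorem F202626 : act 6 n43969 = n43583 := d41_1 D43969 (iv D43583) D43582
theorem F202627 : act 7 n43969 = n43860 := d43_1 D43969 (iv D43860) (iv F200646)
theorem F202628 : act 8 n43969 = n43838 := d44_1 D43969 (iv D43838) F200050 F197885 (iv F200647)
def n43970 : Q := act 8 n43583
theorem D43970 : act 8 n43583 = n43970 := rfl
theorem F202629 : act 0 n43970 = n43844 := d7_1 D43970 (iv D43844) (iv F200648)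
theorem F202630 : act 1 n43970 = n43876 := d15_1 D43970 (iv D43876) (iv F200649)
theorem F202631 : act 3 n43970 = n43586 := d28_1 D43970 (iv D43586) (iv F200650)
theorem F202632 : act 4 n43970 = n43843 := d33_1 D43970 (iv F202595) F202592
theorem F202633 : act 6 n43970 = n43838 := d40_1 D43970 (iv F202628) F202626
theorem F202634 : act 7 n43970 = n43803 := d42_1 D43970 (iv D43803) (iv F200652)
theorem F202635 : act 9 n43970 = n43590 := d44_2 D43583 D43970 (iv D43590) (iv D43031) (iv F197846)
def n43971 : Q := act 9 n43584
theorem D43971 : act 9 n43584 = n43971 := rfl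
theorem F202636 : act 0 n43971 = n43845 := d8_1 D43971 (iv D43845) (iv F200653)
theorem F202637 : act 1 n43971 = n43928 := d16_1 D43971 (iv D43928) (iv F200654)
theorem F202638 : act 2 n43971 = n43601 := d23_1 D43971 (iv D43601) (iv F200655)
theorem F202639 : act 4 n43971 = n43615 := d34_1 D43971 (iv D43615) (iv F200656)
theorem F202640 : act 5 n43971 = n43585 := d38_1 D43971 (iv D43585) D43584
theorem F202641 : act 6 n43971 = n43887 := d41_1 D43971 (iv D43887) (iv F200657)
theorem F202642 : act 7 n43971 = n43918 := d43_1 D43971 (iv D43918) (iv F200658)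
def n43972 : Q := act 5 n43586
theorem D43972 : act 5 n43586 = n43972 := rfl
theorem F202643 : act 0 n43972 = n43846 := d4_1 D43972 (iv D43846) (iv F200667)
theorem F202644 : act 1 n43972 = n43862 := d12_1 D43972 F202253 (iv F200668)
theorem F202645 : act 2 n43972 = n43604 := d19_1 D43972 (iv D43604) (iv F200669)
theorem F202646 : act 4 n43972 = n43677 := d30_1 D43972 (iv D43677) F198610 (iv F197871) (iv F200670)
theorem F202647 : act 7 n43972 = n43804 := d36_2 (iv F200672) D43972 (iv D43804)
theorem F202648 : act 8 n43972 = n43859 := d37_2 D43586 D43972 F202240 F200141 (iv F197857)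
theorem F202649 : act 9 n43972 = n43591 := d38_2 (iv F200673) D43972 (iv D43591)
theorem F202650 : act 6 n43943 = n43972 := d41_3 F202649 (iv F200710) D43943
def n43973 : Q := act 8 n43589
theorem D43973 : act 8 n43589 = n43973 := rfl
theorem F202651 : act 0 n43973 = n43847 := d7_1 D43973 (iv D43847) (iv F200690)
theorem F202652 : act 1 n43973 = n43684 := d15_1 D43973 F201348 (iv F200691)
theorem F202653 : act 2 n43973 = n43590 := d22_1 D43973 (iv D43590) (iv F200692)
theorem F202654 : act 3 n43973 = n43607 := d28_1 D43973 (iv D43607) (iv F200693)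
theorem F202655 : act 4 n43973 = n43840 := d33_1 D43973 F202177 (iv F200694)
theorem F202656 : act 5 n43973 = n43749 := d37_1 D43973 F201756 F199337 (iv F197914) (iv F200695)
theorem F202657 : act 6 n43973 = n43837 := d40_1 D43973 F202166 (iv F200696)
theorem F202658 : act 7 n43973 = n43783 := d42_1 D43973 F201944 (iv F200697)
def n43974 : Q := act 5 n43590
theorem D43974 : act 5 n43590 = n43974 := rfl
theorem F202659 : act 0 n43974 = n43839 := d4_1 D43974 F202172 (iv F200698)
theorem F202660 : act 1 n43974 = n43787 := d12_1 D43974 F201963 (iv F200699)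
theorem F202661 : act 2 n43974 = n43749 := d19_1 D43974 (iv F202656) F202653
theorem F202662 : act 3 n43974 = n43591 := d25_1 D43974 (iv D43591) (iv F200700)
theorem F202663 : act 7 n43974 = n43785 := d36_2 (iv F200703) D43974 F201954
theorem F202664 : act 8 n43974 = n43592 := d37_2 D43590 D43974 (iv D43592) (iv D43035) (iv F197890)
theorem F202665 : act 6 n43974 = n43896 := d45_4 (iv F196994) (iv F200060) (iv F200701) D43974 F202370 F200578 F197763 (iv F194241) F194242 F189948 F185468 F180614 F175027 F171011 (iv D35796) (iv D34087) (iv D32224) (iv D30242) (iv F136955) F136956 (iv D29426) (iv D23747) (iv D18784) (iv D14739) F53240 (iv F53674) (iv D11593) F42664 F42665 (iv F42387) F42388 F42389 F35654 D7470 F35655 F28663 F23176 D5940 D7485 D9489 F44622 F35741 (iv F36111) (iv F45113) (iv F56887) D15832 F72300 D20246 (iv F114905) (iv F141897) (iv F151065) D34403 D36118 D37616 (iv F179914) (iv F183792) F183793 (iv F188375) (iv F192289) (iv F194236) (iv D42269) (iv F194190) F194187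
theorem F202666 : act 4 n43898 = n43974 := d45_2 (iv F200352) (iv F202376) (iv D43974) F200702 F200049 F197649 D42964 (iv F200329) F200330 F197392 F193429 F193430 (iv D41245) F185108 F180243 F174561 F168044 (iv D34713) F152375 (iv F148107) F148105 F140767 (iv F138273) (iv D29677) (iv D23975) F85842 F67955 F54764 D15170 (iv F87814) F87815 D24523 D30038 (iv F146080) (iv F154567) F154568 F146572 (iv F155182) D35161 F163116 D35210 F163389 F155466 F146859 D31924 F148553 F139871 F139872 (iv F141044) (iv F150157) D34150 (iv F166395) D37382 D38693 (iv F184073) (iv F188345) (iv F192783) F192784 (iv F196397) (iv F198783) (iv D43167) (iv F198735) F198731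
def n43975 : Q := act 6 n43593
theorem D43975 : act 6 n43593 = n43975 := rfl
theorem F202667 : act 0 n43975 = n43861 := d5_1 D43975 (iv D43861) (iv F200719)
theorem F202668 : act 1 n43975 = n43594 := d13_1 D43975 (iv D43594) D43593
theorem F202669 : act 2 n43975 = n43642 := d20_1 D43975 (iv D43642) (iv F200720)
theorem F202670 : act 3 n43975 = n43903 := d26_1 D43975 F202603 F202597
theorem F202671 : act 4 n43975 = n43785 := d31_1 D43975 (iv D43785) (iv F200721)
theorem F202672 : act 5 n43975 = n43936 := d35_1 D43975 (iv D43936) F200491 (iv F198273) (iv F200722)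
theorem F202673 : act 7 n43975 = n43898 := d39_2 (iv F200723) D43975 (iv D43898) F200335 (iv F198267)
theorem F202674 : act 8 n43975 = n43605 := d40_2 (iv F200724) D43975 (iv D43605)
def n43976 : Q := act 9 n43593
theorem D43976 : act 9 n43593 = n43976 := rfl
theorem F202675 : act 0 n43976 = n43862 := d8_1 D43976 (iv D43862) (iv F200719)
theorem F202676 : act 1 n43976 = n43595 := d16_1 D43976 (iv D43595) D43593
theorem F202677 : act 2 n43976 = n43643 := d23_1 D43976 (iv D43643) (iv F200720)
theorem F202678 : act 4 n43976 = n43786 := d34_1 D43976 (iv D43786) (iv F200721)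
theorem F202679 : act 5 n43976 = n43641 := d38_1 D43976 (iv D43641) (iv F200722)
theorem F202680 : act 7 n43976 = n43640 := d43_1 D43976 (iv D43640) (iv F200723)
theorem F202681 : act 8 n43976 = n43691 := d44_1 D43976 (iv D43691) F198730 F197987 (iv F200724)
def n43977 : Q := act 5 n43594
theorem D43977 : act 5 n43594 = n43977 := rfl
theorem F202682 : act 0 n43977 = n43848 := d4_1 D43977 (iv D43848) (iv F200725)
theorem F202683 : act 1 n43977 = n43936 := d12_1 D43977 (iv F202672) F202668
theorem F202684 : act 2 n43977 = n43596 := d19_1 D43977 (iv D43596) (iv F200726)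
theorem F202685 : act 4 n43977 = n43708 := d30_1 D43977 (iv D43708) F198998 (iv F199693) (iv F200727)
theorem F202686 : act 6 n43977 = n43721 := d35_2 D43594 D43977 F201573 F199102 (iv F197932)
theorem F202687 : act 8 n43977 = n43977 := d37_2 (iv F200728) D43977 (iv D43977) F200728 F197991
def n43978 : Q := act 7 n43594
theorem D43978 : act 7 n43594 = n43978 := rfl
theorem F202688 : act 0 n43978 = n43849 := d6_1 D43978 (iv D43849) (iv F200725)
theorem F202689 : act 1 n43978 = n43898 := d14_1 D43978 (iv F202673) F202668
theorem F202690 : act 2 n43978 = n43597 := d21_1 D43978 (iv D43597) (iv F200726)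
theorem F202691 : act 3 n43978 = n43858 := d27_1 D43978 (iv F202609) F202607
theorem F202692 : act 4 n43978 = n43787 := d32_1 D43978 (iv D43787) (iv F200727)
theorem F202693 : act 6 n43978 = n43805 := d39_1 D43978 (iv D43805) (iv D43343) (iv F197933) D43594
theorem F202694 : act 8 n43978 = n43606 := d42_2 (iv F200728) D43978 (iv D43606)
def n43979 : Q := act 9 n43594
theorem D43979 : act 9 n43594 = n43979 := rfl
theorem F202695 : act 0 n43979 = n43850 := d8_1 D43979 (iv D43850) (iv F200725)
theorem F202696 : act 2 n43979 = n43598 := d23_1 D43979 (iv D43598) (iv F200726)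
theorem F202697 : act 4 n43979 = n43788 := d34_1 D43979 (iv D43788) (iv F200727)
theorem F202698 : act 6 n43979 = n43595 := d41_1 D43979 (iv D43595) D43594
theorem F202699 : act 8 n43979 = n43954 := d44_1 D43979 (iv D43954) F200578 F197992 (iv F200728)
def n43980 : Q := act 8 n43595
theorem D43980 : act 8 n43595 = n43980 := rfl
theorem F202700 : act 0 n43980 = n43851 := d7_1 D43980 (iv D43851) (iv F200729)
theorem F202701 : act 1 n43980 = n43691 := d15_1 D43980 (iv F202681) F202676
theorem F202702 : act 2 n43980 = n43599 := d22_1 D43980 (iv D43599) (iv F200730)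
theorem F202703 : act 4 n43980 = n43640 := d33_1 D43980 F201039 (iv F200731)
theorem F202704 : act 5 n43980 = n43750 := d37_1 D43980 F201763 F199852 (iv F199924) (iv F200732)
theorem F202705 : act 6 n43980 = n43954 := d40_1 D43980 (iv F202699) F202698
theorem F202706 : act 7 n43980 = n43786 := d42_1 D43980 F201960 (iv F200733)
theorem F202707 : act 9 n43980 = n43607 := d44_2 D43595 D43980 (iv D43607) (iv D43048) (iv F197934)
def n43981 : Q := act 7 n43596
theorem D43981 : act 7 n43596 = n43981 := rfl
theorem F202708 : act 0 n43981 = n43852 := d6_1 D43981 (iv D43852) (iv F200734)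
theorem F202709 : act 1 n43981 = n43732 := d14_1 D43981 (iv D43732) (iv F200735)
theorem F202710 : act 3 n43981 = n43600 := d27_1 D43981 (iv D43600) (iv F200736)
theorem F202711 : act 4 n43981 = n43877 := d32_1 D43981 (iv D43877) (iv F200737)
theorem F202712 : act 5 n43981 = n43597 := d36_1 D43981 (iv D43597) D43596
theorem F202713 : act 6 n43981 = n43911 := d39_1 D43981 (iv D43911) F200386 (iv F199767) (iv F200738)
theorem F202714 : act 8 n43981 = n43981 := d42_2 F200739 D43981 (iv D43981)
def n43982 : Q := act 9 n43596
theorem D43982 : act 9 n43596 = n43982 := rfl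
theorem F202715 : act 0 n43982 = n43853 := d8_1 D43982 (iv D43853) (iv F200734)
theorem F202716 : act 1 n43982 = n43733 := d16_1 D43982 (iv D43733) (iv F200735)
theorem F202717 : act 3 n43982 = n43601 := d29_1 D43982 (iv D43601) (iv F200736)
theorem F202718 : act 4 n43982 = n43878 := d34_1 D43982 (iv D43878) (iv F200737)
theorem F202719 : act 5 n43982 = n43598 := d38_1 D43982 (iv D43598) D43596
theorem F202720 : act 6 n43982 = n43797 := d41_1 D43982 (iv D43797) (iv F200738)
def n43983 : Q := act 9 n43597
theorem D43983 : act 9 n43597 = n43983 := rfl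
theorem F202721 : act 0 n43983 = n43854 := d8_1 D43983 (iv D43854) (iv F200740)
theorem F202722 : act 1 n43983 = n43734 := d16_1 D43983 (iv D43734) (iv F200741)
theorem F202723 : act 3 n43983 = n43602 := d29_1 D43983 (iv D43602) (iv F200742)
theorem F202724 : act 4 n43983 = n43789 := d34_1 D43983 (iv D43789) (iv F200743)
theorem F202725 : act 6 n43983 = n43807 := d41_1 D43983 (iv D43807) (iv F200744)
theorem F202726 : act 7 n43983 = n43598 := d43_1 D43983 (iv D43598) D43597
theorem F202727 : act 8 n43983 = n43897 := d44_1 D43983 (iv D43897) F200326 (iv F198006) (iv F200745)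
def n43984 : Q := act 9 n43600
theorem D43984 : act 9 n43600 = n43984 := rfl
theorem F202728 : act 0 n43984 = n43855 := d8_1 D43984 (iv D43855) (iv F200760)
theorem F202729 : act 1 n43984 = n43737 := d16_1 D43984 (iv D43737) (iv F200761)
theorem F202730 : act 2 n43984 = n43918 := d23_1 D43984 (iv D43918) (iv F200762)
theorem F202731 : act 4 n43984 = n43618 := d34_1 D43984 (iv D43618) (iv F200763)
theorem F202732 : act 5 n43984 = n43602 := d38_1 D43984 (iv D43602) (iv F200764)
theorem F202733 : act 6 n43984 = n43914 := d41_1 D43984 (iv D43914) (iv F200765)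
theorem F202734 : act 7 n43984 = n43601 := d43_1 D43984 (iv D43601) D43600
def n43985 : Q := act 8 n43601
theorem D43985 : act 8 n43601 = n43985 := rfl
theorem F202735 : act 0 n43985 = n43856 := d7_1 D43985 (iv D43856) (iv F200767)
theorem F202736 : act 1 n43985 = n43738 := d15_1 D43985 (iv D43738) (iv F200768)
theorem F202737 : act 4 n43985 = n43619 := d33_1 D43985 (iv D43619) (iv F200769)
theorem F202738 : act 6 n43985 = n43940 := d40_1 D43985 (iv D43940) (iv F200771)
theorem F202739 : act 9 n43985 = n43985 := d44_2 D43601 D43985 (iv D43985) (iv D43601) F197950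
def n43986 : Q := act 5 n43603
theorem D43986 : act 5 n43603 = n43986 := rfl
theorem F202740 : act 0 n43986 = n43777 := d4_1 D43986 F201916 (iv F200779)
theorem F202741 : act 1 n43986 = n43740 := d12_1 D43986 (iv D43740) (iv F200780)
theorem F202742 : act 2 n43986 = n43833 := d19_1 D43986 F202153 (iv F200781)
theorem F202743 : act 3 n43986 = n43923 := d25_1 D43986 F202451 (iv F200782)
theorem F202744 : act 4 n43986 = n43762 := d30_1 D43986 F201842 F199519 (iv F197978) (iv F200783)
theorem F202745 : act 6 n43986 = n43941 := d35_2 (iv F200784) D43986 F202503 F200794 (iv D43604)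
theorem F202746 : act 7 n43986 = n43892 := d36_2 (iv F200785) D43986 F202357
theorem F202747 : act 9 n43986 = n43608 := d38_2 (iv F200786) D43986 (iv D43608)
def n43987 : Q := act 9 n43609
theorem D43987 : act 9 n43609 = n43987 := rfl
theorem F202748 : act 0 n43987 = n43865 := d8_1 D43987 (iv D43865) (iv F200826)
theorem F202749 : act 1 n43987 = n43913 := d16_1 D43987 (iv D43913) (iv F200827)
theorem F202750 : act 2 n43987 = n43922 := d23_1 D43987 (iv D43922) (iv F200828)
theorem F202751 : act 3 n43987 = n43767 := d29_1 D43987 (iv D43767) (iv F200829)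
theorem F202752 : act 4 n43987 = n43816 := d34_1 D43987 (iv D43816) (iv F200830)
theorem F202753 : act 6 n43987 = n43626 := d41_1 D43987 (iv D43626) (iv F200831)
theorem F202754 : act 7 n43987 = n43610 := d43_1 D43987 (iv D43610) D43609
theorem F202755 : act 8 n43987 = n43933 := d44_1 D43987 F202483 F200485 (iv F198362) (iv F200832)
def n43988 : Q := act 4 n43611
theorem D43988 : act 4 n43611 = n43988 := rfl
theorem F202756 : act 0 n43988 = n43866 := d3_1 D43988 (iv D43866) (iv F200840)
theorem F202757 : act 1 n43988 = n43891 := d11_1 D43988 F202352 (iv F200841)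
theorem F202758 : act 2 n43988 = n43692 := d18_1 D43988 F201395 (iv F200842)
theorem F202759 : act 5 n43988 = n43690 := d30_2 D43611 D43988 F201385 F199829 (iv F198046)
theorem F202760 : act 6 n43988 = n43745 := d31_2 (iv F200844) D43988 F201726
theorem F202761 : act 8 n43988 = n43988 := d33_2 F200845 D43988 (iv D43988)
def n43989 : Q := act 7 n43611
theorem D43989 : act 7 n43611 = n43989 := rfl
theorem F202762 : act 0 n43989 = n43867 := d6_1 D43989 (iv D43867) (iv F200840)
theorem F202763 : act 1 n43989 = n43893 := d14_1 D43989 (iv D43893) (iv F200841)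
theorem F202764 : act 2 n43989 = n43935 := d21_1 D43989 (iv D43935) (iv F200842)
theorem F202765 : act 3 n43989 = n43614 := d27_1 D43989 (iv D43614) (iv F200843)
theorem F202766 : act 5 n43989 = n43612 := d36_1 D43989 (iv D43612) D43611
theorem F202767 : act 6 n43989 = n43905 := d39_1 D43989 (iv D43905) F201736 F201734 (iv F200844)
theorem F202768 : act 8 n43989 = n43989 := d42_2 F200845 D43989 (iv D43989)
def n43990 : Q := act 9 n43611
theorem D43990 : act 9 n43611 = n43990 := rfl
theorem F202769 : act 0 n43990 = n43868 := d8_1 D43990 (iv D43868) (iv F200840)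
theorem F202770 : act 1 n43990 = n43894 := d16_1 D43990 (iv D43894) (iv F200841)
theorem F202771 : act 2 n43990 = n43932 := d23_1 D43990 F202480 (iv F200842)
theorem F202772 : act 3 n43990 = n43615 := d29_1 D43990 (iv D43615) (iv F200843)
theorem F202773 : act 5 n43990 = n43613 := d38_1 D43990 (iv D43613) D43611
theorem F202774 : act 6 n43990 = n43889 := d41_1 D43990 (iv D43889) (iv F200844)
def n43991 : Q := act 9 n43612
theorem D43991 : act 9 n43612 = n43991 := rfl
theorem F202775 : act 0 n43991 = n43869 := d8_1 D43991 (iv D43869) (iv F200846)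
theorem F202776 : act 1 n43991 = n43910 := d16_1 D43991 (iv D43910) (iv F200847)
theorem F202777 : act 2 n43991 = n43933 := d23_1 D43991 F202483 (iv F200848)
theorem F202778 : act 3 n43991 = n43616 := d29_1 D43991 (iv D43616) (iv F200849)
theorem F202779 : act 4 n43991 = n43857 := d34_1 D43991 (iv D43857) (iv F200850)
theorem F202780 : act 6 n43991 = n43638 := d41_1 D43991 (iv D43638) (iv F200851)
theorem F202781 : act 7 n43991 = n43613 := d43_1 D43991 (iv D43613) D43612
theorem F202782 : act 8 n43991 = n43922 := d44_1 D43991 (iv D43922) F200426 (iv F198088) (iv F200852)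
def n43992 : Q := act 9 n43614
theorem D43992 : act 9 n43614 = n43992 := rfl
theorem F202783 : act 0 n43992 = n43870 := d8_1 D43992 (iv D43870) (iv F200860)
theorem F202784 : act 1 n43992 = n43953 := d16_1 D43992 F202538 (iv F200861)
theorem F202785 : act 2 n43992 = n43618 := d23_1 D43992 (iv D43618) (iv F200862)
theorem F202786 : act 4 n43992 = n43918 := d34_1 D43992 (iv D43918) (iv F200863)
theorem F202787 : act 5 n43992 = n43616 := d38_1 D43992 (iv D43616) (iv F200864)
theorem F202788 : act 6 n43992 = n43908 := d41_1 D43992 (iv D43908) (iv F200865)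
theorem F202789 : act 7 n43992 = n43615 := d43_1 D43992 (iv D43615) D43614
def n43993 : Q := act 8 n43615
theorem D43993 : act 8 n43615 = n43993 := rfl
theorem F202790 : act 0 n43993 = n43871 := d7_1 D43993 (iv D43871) (iv F200867)
theorem F202791 : act 1 n43993 = n43952 := d15_1 D43993 F202535 (iv F200868)
theorem F202792 : act 2 n43993 = n43619 := d22_1 D43993 (iv D43619) (iv F200869)
theorem F202793 : act 5 n43993 = n43828 := d37_1 D43993 (iv D43828) F200028 (iv F198072) (iv F200870)
theorem F202794 : act 6 n43993 = n43948 := d40_1 D43993 (iv D43948) (iv F200871)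
theorem F202795 : act 9 n43993 = n43993 := d44_2 D43615 D43993 (iv D43993) (iv D43615) F198060
def n43994 : Q := act 9 n43617
theorem D43994 : act 9 n43617 = n43994 := rfl
theorem F202796 : act 0 n43994 = n43864 := d8_1 D43994 (iv D43864) (iv F200879)
theorem F202797 : act 1 n43994 = n43815 := d16_1 D43994 F202089 (iv F200880)
theorem F202798 : act 2 n43994 = n43908 := d23_1 D43994 (iv D43908) (iv F200881)
theorem F202799 : act 3 n43994 = n43955 := d29_1 D43994 (iv D43955) (iv F200882)
theorem F202800 : act 4 n43994 = n43914 := d34_1 D43994 (iv D43914) (iv F200883)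
theorem F202801 : act 5 n43994 = n43645 := d38_1 D43994 (iv D43645) (iv F200884)
theorem F202802 : act 6 n43994 = n43618 := d41_1 D43994 (iv D43618) D43617
theorem F202803 : act 7 n43994 = n43902 := d43_1 D43994 (iv D43902) (iv F200885)
def n43995 : Q := act 8 n43618
theorem D43995 : act 8 n43618 = n43995 := rfl
theorem F202804 : act 0 n43995 = n43872 := d7_1 D43995 (iv D43872) (iv F200887)
theorem F202805 : act 1 n43995 = n43825 := d15_1 D43995 (iv D43825) (iv F200888)
theorem F202806 : act 3 n43995 = n43956 := d28_1 D43995 (iv D43956) (iv F200889)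
theorem F202807 : act 7 n43995 = n43619 := d42_1 D43995 (iv D43619) (iv F200891)
theorem F202808 : act 9 n43995 = n43995 := d44_2 D43618 D43995 (iv D43995) (iv D43618) F198093
def n43996 : Q := act 5 n43619
theorem D43996 : act 5 n43619 = n43996 := rfl
theorem F202809 : act 0 n43996 = n43795 := d4_1 D43996 F202000 (iv F200892)
theorem F202810 : act 1 n43996 = n43775 := d12_1 D43996 F201906 (iv F200893)
theorem F202811 : act 2 n43996 = n43828 := d19_1 D43996 (iv F202793) F202792
theorem F202812 : act 3 n43996 = n43794 := d25_1 D43996 F201997 (iv F200894)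
theorem F202813 : act 8 n43996 = n43621 := d37_2 D43619 D43996 (iv D43621) (iv D43065) (iv F198097)
theorem F202814 : act 9 n43996 = n43996 := d38_2 F200896 D43996 (iv D43996)
theorem F202815 : act 4 n43765 = n43996 := d33_3 F202813 F200909 D43765
theorem F202816 : act 6 n43823 = n43996 := d40_3 F202813 F200910 D43823
def n43997 : Q := act 5 n43620
theorem D43997 : act 5 n43620 = n43997 := rfl
theorem F202817 : act 0 n43997 = n43769 := d4_1 D43997 F201877 (iv F200897)
theorem F202818 : act 1 n43997 = n43766 := d12_1 D43997 F201863 (iv F200898)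
theorem F202819 : act 2 n43997 = n43827 := d19_1 D43997 F202132 (iv F200899)
theorem F202820 : act 3 n43997 = n43768 := d25_1 D43997 F201874 (iv F200900)
theorem F202821 : act 4 n43997 = n43758 := d30_1 D43997 F201815 F199471 (iv F198116) (iv F200901)
theorem F202822 : act 6 n43997 = n43793 := d35_2 (iv F200902) D43997 F201995 F199757 (iv F198323)
theorem F202823 : act 7 n43997 = n43621 := d36_2 (iv F200903) D43997 (iv D43621)
theorem F202824 : act 9 n43997 = n43622 := d38_2 (iv F200904) D43997 (iv D43622)
def n43998 : Q := act 7 n43623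
theorem D43998 : act 7 n43623 = n43998 := rfl
theorem F202825 : act 0 n43998 = n43873 := d6_1 D43998 (iv D43873) (iv F200920)
theorem F202826 : act 1 n43998 = n43935 := d14_1 D43998 (iv D43935) (iv F200921)
theorem F202827 : act 2 n43998 = n43884 := d21_1 D43998 (iv D43884) (iv F200922)
theorem F202828 : act 3 n43998 = n43721 := d27_1 D43998 F201574 (iv F200923)
theorem F202829 : act 4 n43998 = n43810 := d32_1 D43998 (iv D43810) (iv F200924)
theorem F202830 : act 5 n43998 = n43624 := d36_1 D43998 (iv D43624) D43623
theorem F202831 : act 8 n43998 = n43998 := d42_2 F200926 D43998 (iv D43998)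
def n43999 : Q := act 9 n43623
theorem D43999 : act 9 n43623 = n43999 := rfl
theorem F202832 : act 0 n43999 = n43874 := d8_1 D43999 (iv D43874) (iv F200920)
theorem F202833 : act 1 n43999 = n43932 := d16_1 D43999 F202480 (iv F200921)
theorem F202834 : act 2 n43999 = n43885 := d23_1 D43999 (iv D43885) (iv F200922)
theorem F202835 : act 3 n43999 = n43916 := d29_1 D43999 F202433 (iv F200923)
theorem F202836 : act 4 n43999 = n43811 := d34_1 D43999 (iv D43811) (iv F200924)
theorem F202837 : act 5 n43999 = n43625 := d38_1 D43999 (iv D43625) D43623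
theorem F202838 : act 6 n43999 = n43632 := d41_1 D43999 (iv D43632) (iv F200925)
def n44000 : Q := act 9 n43624
theorem D44000 : act 9 n43624 = n44000 := rfl
theorem F202839 : act 0 n44000 = n43875 := d8_1 D44000 (iv D43875) (iv F200927)
theorem F202840 : act 1 n44000 = n43933 := d16_1 D44000 F202483 (iv F200928)
theorem F202841 : act 2 n44000 = n43886 := d23_1 D44000 (iv D43886) (iv F200929)
theorem F202842 : act 3 n44000 = n43720 := d29_1 D44000 F201569 (iv F200930)
theorem F202843 : act 4 n44000 = n43626 := d34_1 D44000 (iv D43626) (iv F200931)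
theorem F202844 : act 6 n44000 = n43816 := d41_1 D44000 (iv D43816) (iv F200932)
theorem F202845 : act 7 n44000 = n43625 := d43_1 D44000 (iv D43625) D43624
theorem F202846 : act 8 n44000 = n43913 := d44_1 D44000 (iv D43913) F200390 (iv F198370) (iv F200933)
def n44001 : Q := act 8 n43626
theorem D44001 : act 8 n43626 = n44001 := rfl
theorem F202847 : act 0 n44001 = n43876 := d7_1 D44001 (iv D43876) (iv F200941)
theorem F202848 : act 1 n44001 = n43816 := d15_1 D44001 F202093 (iv F200942)
theorem F202849 : act 2 n44001 = n43638 := d22_1 D44001 F201025 (iv F200943)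
theorem F202850 : act 3 n44001 = n43641 := d28_1 D44001 F201046 (iv F200944)
theorem F202851 : act 4 n44001 = n43913 := d33_1 D44001 (iv F202846) F202843
theorem F202852 : act 6 n44001 = n43933 := d40_1 D44001 (iv F202755) F202753
theorem F202853 : act 7 n44001 = n43627 := d42_1 D44001 (iv D43627) (iv F200946)
theorem F202854 : act 9 n44001 = n43635 := d44_2 D43626 D44001 F201006 F198263 (iv F198153)
def n44002 : Q := act 5 n43627
theorem D44002 : act 5 n43627 = n44002 := rfl
theorem F202855 : act 0 n44002 = n43788 := d4_1 D44002 F201967 (iv F200947)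
theorem F202856 : act 1 n44002 = n43802 := d12_1 D44002 F202027 (iv F200948)
theorem F202857 : act 2 n44002 = n43637 := d19_1 D44002 F201018 (iv F200949)
theorem F202858 : act 3 n44002 = n43640 := d25_1 D44002 F201037 (iv F200950)
theorem F202859 : act 6 n44002 = n43763 := d35_2 (iv F200952) D44002 F201849 F200006 (iv F198165)
theorem F202860 : act 8 n44002 = n43784 := d37_2 D43627 D44002 F201948 F199948 (iv F198158)
theorem F202861 : act 9 n44002 = n43634 := d38_2 (iv F200953) D44002 (iv D43634)
theorem F202862 : act 4 n43850 = n44002 := d34_3 F202861 (iv F200999) D43850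
def n44003 : Q := act 7 n43628
theorem D44003 : act 7 n43628 = n44003 := rfl
theorem F202863 : act 0 n44003 = n43877 := d6_1 D44003 (iv D43877) (iv F200954)
theorem F202864 : act 1 n44003 = n43934 := d14_1 D44003 F202486 (iv F200955)
theorem F202865 : act 2 n44003 = n43911 := d21_1 D44003 (iv D43911) (iv F200956)
theorem F202866 : act 3 n44003 = n43631 := d27_1 D44003 (iv D43631) (iv F200957)
theorem F202867 : act 4 n44003 = n43852 := d32_1 D44003 (iv D43852) (iv F200958)
theorem F202868 : act 5 n44003 = n43629 := d36_1 D44003 (iv D43629) D43628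
theorem F202869 : act 8 n44003 = n44003 := d42_2 F200960 D44003 (iv D44003)
def n44004 : Q := act 9 n43628
theorem D44004 : act 9 n43628 = n44004 := rfl
theorem F202870 : act 0 n44004 = n43878 := d8_1 D44004 (iv D43878) (iv F200954)
theorem F202871 : act 1 n44004 = n43927 := d16_1 D44004 F202468 (iv F200955)
theorem F202872 : act 2 n44004 = n43912 := d23_1 D44004 (iv D43912) (iv F200956)
theorem F202873 : act 3 n44004 = n43632 := d29_1 D44004 (iv D43632) (iv F200957)
theorem F202874 : act 4 n44004 = n43853 := d34_1 D44004 (iv D43853) (iv F200958)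
theorem F202875 : act 5 n44004 = n43630 := d38_1 D44004 (iv D43630) D43628
theorem F202876 : act 6 n44004 = n43916 := d41_1 D44004 F202433 (iv F200959)
def n44005 : Q := act 9 n43629
theorem D44005 : act 9 n43629 = n44005 := rfl
theorem F202877 : act 0 n44005 = n43879 := d8_1 D44005 (iv D43879) (iv F200961)
theorem F202878 : act 1 n44005 = n43926 := d16_1 D44005 F202464 (iv F200962)
theorem F202879 : act 2 n44005 = n43913 := d23_1 D44005 (iv D43913) (iv F200963)
theorem F202880 : act 3 n44005 = n43633 := d29_1 D44005 (iv D43633) (iv F200964)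
theorem F202881 : act 4 n44005 = n43638 := d34_1 D44005 (iv D43638) (iv F200965)
theorem F202882 : act 6 n44005 = n43857 := d41_1 D44005 (iv D43857) (iv F200966)
theorem F202883 : act 7 n44005 = n43630 := d43_1 D44005 (iv D43630) D43629
theorem F202884 : act 8 n44005 = n43886 := d44_1 D44005 (iv D43886) F200287 (iv F198214) (iv F200967)
def n44006 : Q := act 6 n43631
theorem D44006 : act 6 n43631 = n44006 := rfl
theorem F202885 : act 0 n44006 = n43880 := d5_1 D44006 (iv D43880) (iv F200975)
theorem F202886 : act 1 n44006 = n43866 := d13_1 D44006 F202269 (iv F200976)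
theorem F202887 : act 2 n44006 = n43829 := d20_1 D44006 (iv D43829) (iv F200977)
theorem F202888 : act 4 n44006 = n43820 := d31_1 D44006 (iv D43820) (iv F200978)
theorem F202889 : act 5 n44006 = n43858 := d35_1 D44006 (iv D43858) (iv D43423) (iv F198191) (iv F200979)
theorem F202890 : act 8 n44006 = n44006 := d40_2 F200980 D44006 (iv D44006)
def n44007 : Q := act 9 n43631
theorem D44007 : act 9 n43631 = n44007 := rfl
theorem F202891 : act 0 n44007 = n43881 := d8_1 D44007 (iv D43881) (iv F200975)
theorem F202892 : act 1 n44007 = n43931 := d16_1 D44007 F202477 (iv F200976)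
theorem F202893 : act 2 n44007 = n43830 := d23_1 D44007 (iv D43830) (iv F200977)
theorem F202894 : act 4 n44007 = n43821 := d34_1 D44007 (iv D43821) (iv F200978)
theorem F202895 : act 5 n44007 = n43633 := d38_1 D44007 (iv D43633) (iv F200979)
theorem F202896 : act 7 n44007 = n43632 := d43_1 D44007 (iv D43632) D43631
def n44008 : Q := act 8 n43632
theorem D44008 : act 8 n43632 = n44008 := rfl
theorem F202897 : act 0 n44008 = n43882 := d7_1 D44008 (iv D43882) (iv F200981)
theorem F202898 : act 1 n44008 = n43930 := d15_1 D44008 F202474 (iv F200982)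
theorem F202899 : act 2 n44008 = n43917 := d22_1 D44008 (iv D43917) (iv F200983)
theorem F202900 : act 4 n44008 = n43822 := d33_1 D44008 (iv D43822) (iv F200984)
theorem F202901 : act 5 n44008 = n43888 := d37_1 D44008 (iv D43888) F200298 (iv F198198) (iv F200985)
theorem F202902 : act 9 n44008 = n44008 := d44_2 D43632 D44008 (iv D44008) (iv D43632) F198186
def n44009 : Q := act 9 n43636
theorem D44009 : act 9 n43636 = n44009 := rfl
theorem F202903 : act 0 n44009 = n43789 := d8_1 D44009 (iv D43789) (iv F201007)
theorem F202904 : act 1 n44009 = n43824 := d16_1 D44009 (iv D43824) (iv F201008)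
theorem F202905 : act 3 n44009 = n43639 := d29_1 D44009 (iv D43639) (iv F201009)
theorem F202906 : act 4 n44009 = n43854 := d34_1 D44009 (iv D43854) (iv F201010)
theorem F202907 : act 5 n44009 = n43638 := d38_1 D44009 (iv D43638) (iv F201011)
theorem F202908 : act 6 n44009 = n43907 := d41_1 D44009 (iv D43907) (iv F201012)
theorem F202909 : act 7 n44009 = n43637 := d43_1 D44009 (iv D43637) D43636
theorem F202910 : act 8 n44009 = n43686 := d44_1 D44009 (iv D43686) F198686 (iv F198347) (iv F201013)
def n44010 : Q := act 9 n43642
theorem D44010 : act 9 n43642 = n44010 := rfl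
theorem F202911 : act 0 n44010 = n43863 := d8_1 D44010 (iv D43863) (iv F201047)
theorem F202912 : act 1 n44010 = n43707 := d16_1 D44010 (iv D43707) (iv F201048)
theorem F202913 : act 3 n44010 = n43645 := d29_1 D44010 (iv D43645) (iv F201049)
theorem F202914 : act 4 n44010 = n43808 := d34_1 D44010 F202060 (iv F201050)
theorem F202915 : act 5 n44010 = n43955 := d38_1 D44010 (iv D43955) (iv F201051)
theorem F202916 : act 6 n44010 = n43643 := d41_1 D44010 (iv D43643) D43642
theorem F202917 : act 7 n44010 = n43901 := d43_1 D44010 (iv D43901) (iv F201052)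
theorem F202918 : act 8 n44010 = n43694 := d44_1 D44010 (iv D43694) F198735 (iv F198354) (iv F201053)
def n44011 : Q := act 8 n43646
theorem D44011 : act 8 n43646 = n44011 := rfl
theorem F202919 : act 0 n44011 = n43673 := d7_1 D44011 (iv D43673) (iv F201077)
theorem F202920 : act 1 n44011 = n43940 := d15_1 D44011 (iv D43940) (iv F201078)
theorem F202921 : act 2 n44011 = n43765 := d22_1 D44011 (iv D43765) (iv F201079)
theorem F202922 : act 3 n44011 = n43799 := d28_1 D44011 (iv D43799) (iv F201080)
theorem F202923 : act 4 n44011 = n43828 := d33_1 D44011 (iv D43828) (iv F201081)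
theorem F202924 : act 5 n44011 = n43836 := d37_1 D44011 (iv D43836) F200046 (iv F198386) (iv F201082)
theorem F202925 : act 6 n44011 = n43738 := d40_1 D44011 (iv D43738) (iv F201083)
theorem F202926 : act 7 n44011 = n43939 := d42_1 D44011 (iv D43939) (iv F201084)
theorem F202927 : act 9 n44011 = n44011 := d44_2 D43646 D44011 (iv D44011) (iv D43646) F198378
def n44012 : Q := act 3 n43647
theorem D44012 : act 3 n43647 = n44012 := rfl
theorem F202928 : act 0 n44012 = n43778 := d2_1 D44012 F201918 (iv F201085)
theorem F202929 : act 1 n44012 = n43905 := d10_1 D44012 F202398 (iv F201086)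
theorem F202930 : act 2 n44012 = n43834 := d17_1 D44012 F202155 (iv F201578) F201579 (iv F201087)
theorem F202931 : act 4 n44012 = n43831 := d24_2 D43647 D44012 (iv D43831) (iv D43393) (iv F198390)
theorem F202932 : act 5 n44012 = n43650 := d25_2 (iv F201088) D44012 (iv D43650)
theorem F202933 : act 6 n44012 = n43893 := d26_2 F201091 D44012 F202359
theorem F202934 : act 7 n44012 = n43671 := d27_2 (iv F201089) D44012 (iv D43671)
theorem F202935 : act 8 n44012 = n44012 := d28_2 F201090 D44012 (iv D44012)
def n44013 : Q := act 9 n43647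
theorem D44013 : act 9 n43647 = n44013 := rfl
theorem F202936 : act 0 n44013 = n43827 := d8_1 D44013 (iv D43827) (iv F201085)
theorem F202937 : act 1 n44013 = n43908 := d16_1 D44013 (iv D43908) (iv F201086)
theorem F202938 : act 2 n44013 = n43769 := d23_1 D44013 (iv D43769) (iv F201087)
theorem F202939 : act 4 n44013 = n43649 := d34_1 D44013 (iv D43649) D43647
theorem F202940 : act 5 n44013 = n43651 := d38_1 D44013 (iv D43651) (iv F201088)
theorem F202941 : act 6 n44013 = n43953 := d41_1 D44013 F202538 F201091
theorem F202942 : act 7 n44013 = n43672 := d43_1 D44013 (iv D43672) (iv F201089)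
def n44014 : Q := act 9 n43648
theorem D44014 : act 9 n43648 = n44014 := rfl
theorem F202943 : act 0 n44014 = n43791 := d8_1 D44014 (iv D43791) (iv F201092)
theorem F202944 : act 1 n44014 = n43918 := d16_1 D44014 (iv D43918) (iv F201093)
theorem F202945 : act 2 n44014 = n43770 := d23_1 D44014 (iv D43770) (iv F201094)
theorem F202946 : act 3 n44014 = n43835 := d29_1 D44014 (iv D43835) (iv F201095)
theorem F202947 : act 4 n44014 = n43953 := d34_1 D44014 F202538 (iv F201096)
theorem F202948 : act 5 n44014 = n43755 := d38_1 D44014 F201796 (iv F201097)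
theorem F202949 : act 6 n44014 = n43649 := d41_1 D44014 (iv D43649) D43648
theorem F202950 : act 7 n44014 = n43928 := d43_1 D44014 (iv D43928) (iv F201098)
def n44015 : Q := act 8 n43649
theorem D44015 : act 8 n43649 = n44015 := rfl
theorem F202951 : act 0 n44015 = n43939 := d7_1 D44015 (iv D43939) (iv F201100)
theorem F202952 : act 1 n44015 = n43919 := d15_1 D44015 (iv D43919) (iv F201101)
theorem F202953 : act 2 n44015 = n43771 := d22_1 D44015 (iv D43771) (iv F201102)
theorem F202954 : act 3 n44015 = n43836 := d28_1 D44015 (iv D43836) (iv F201103)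
theorem F202955 : act 5 n44015 = n43799 := d37_1 D44015 (iv D43799) F199788 (iv F198400) (iv F201104)
theorem F202956 : act 7 n44015 = n43673 := d42_1 D44015 (iv D43673) (iv F201105)
theorem F202957 : act 9 n44015 = n44015 := d44_2 D43649 D44015 (iv D44015) (iv D43649) F198392
def n44016 : Q := act 9 n43650
theorem D44016 : act 9 n43650 = n44016 := rfl
theorem F202958 : act 0 n44016 = n43922 := d8_1 D44016 (iv D43922) (iv F201106)
theorem F202959 : act 1 n44016 = n43907 := d16_1 D44016 (iv D43907) (iv F201107)
theorem F202960 : act 2 n44016 = n43865 := d23_1 D44016 (iv D43865) (iv F201108)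
theorem F202961 : act 3 n44016 = n43651 := d29_1 D44016 (iv D43651) D43650
theorem F202962 : act 4 n44016 = n43654 := d34_1 D44016 (iv D43654) (iv F201109)
theorem F202963 : act 6 n44016 = n43824 := d41_1 D44016 (iv D43824) (iv F201110)
theorem F202964 : act 7 n44016 = n43674 := d43_1 D44016 (iv D43674) (iv F201111)
theorem F202965 : act 8 n44016 = n43869 := d44_1 D44016 (iv D43869) F200185 (iv F198422) (iv F201112)
def n44017 : Q := act 9 n43652
theorem D44017 : act 9 n43652 = n44017 := rfl
theorem F202966 : act 0 n44017 = n43816 := d8_1 D44017 (iv D43816) (iv F201120)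
theorem F202967 : act 1 n44017 = n43844 := d16_1 D44017 F202187 F201126
theorem F202968 : act 2 n44017 = n43654 := d23_1 D44017 (iv D43654) D43652
theorem F202969 : act 3 n44017 = n43661 := d29_1 D44017 (iv D43661) (iv F201121)
theorem F202970 : act 4 n44017 = n43865 := d34_1 D44017 (iv D43865) (iv F201122)
theorem F202971 : act 5 n44017 = n43841 := d38_1 D44017 (iv D43841) (iv F201123)
theorem F202972 : act 6 n44017 = n43875 := d41_1 D44017 (iv D43875) F201127
theorem F202973 : act 7 n44017 = n43675 := d43_1 D44017 (iv D43675) (iv F201124)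
theorem F202974 : act 8 n44017 = n43756 := d44_1 D44017 (iv D43756) F199418 F198463 (iv F201125)
def n44018 : Q := act 5 n43653
theorem D44018 : act 5 n43653 = n44018 := rfl
theorem F202975 : act 0 n44018 = n43884 := d4_1 D44018 F202324 (iv F201128)
theorem F202976 : act 1 n44018 = n43852 := d12_1 D44018 F202216 (iv F201129)
theorem F202977 : act 2 n44018 = n43873 := d19_1 D44018 F202288 (iv F201130)
theorem F202978 : act 3 n44018 = n43655 := d25_1 D44018 (iv D43655) (iv F201131)
theorem F202979 : act 4 n44018 = n43934 := d30_1 D44018 (iv D43934) F200471 (iv F200011) (iv F201132)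
theorem F202980 : act 6 n44018 = n43842 := d35_2 D43653 D44018 (iv D43842) (iv D43400) (iv F198425)
theorem F202981 : act 7 n44018 = n43699 := d36_2 (iv F201133) D44018 (iv D43699)
theorem F202982 : act 8 n44018 = n44018 := d37_2 (iv F201134) D44018 (iv D44018) F201134 F198469
def n44019 : Q := act 9 n43653
theorem D44019 : act 9 n43653 = n44019 := rfl
theorem F202983 : act 0 n44019 = n43886 := d8_1 D44019 (iv D43886) (iv F201128)
theorem F202984 : act 1 n44019 = n43854 := d16_1 D44019 (iv D43854) (iv F201129)
theorem F202985 : act 2 n44019 = n43875 := d23_1 D44019 (iv D43875) (iv F201130)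
theorem F202986 : act 3 n44019 = n43656 := d29_1 D44019 (iv D43656) (iv F201131)
theorem F202987 : act 4 n44019 = n43824 := d34_1 D44019 (iv D43824) (iv F201132)
theorem F202988 : act 6 n44019 = n43654 := d41_1 D44019 (iv D43654) D43653
theorem F202989 : act 7 n44019 = n43700 := d43_1 D44019 (iv D43700) (iv F201133)
theorem F202990 : act 8 n44019 = n43879 := d44_1 D44019 (iv D43879) F200228 F198471 (iv F201134)
def n44020 : Q := act 8 n43654
theorem D44020 : act 8 n43654 = n44020 := rfl
theorem F202991 : act 0 n44020 = n43857 := d7_1 D44020 F202232 (iv F201135)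
theorem F202992 : act 1 n44020 = n43947 := d15_1 D44020 (iv D43947) (iv F201136)
theorem F202993 : act 2 n44020 = n43756 := d22_1 D44020 (iv F202974) F202968
theorem F202994 : act 3 n44020 = n43657 := d28_1 D44020 (iv D43657) (iv F201137)
theorem F202995 : act 4 n44020 = n43869 := d33_1 D44020 (iv F202965) F202962
theorem F202996 : act 6 n44020 = n43879 := d40_1 D44020 (iv F202990) F202988
theorem F202997 : act 7 n44020 = n43676 := d42_1 D44020 (iv D43676) (iv F201139)
theorem F202998 : act 9 n44020 = n43658 := d44_2 D43654 D44020 (iv D43658) (iv D43119) (iv F198427)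
theorem F202999 : act 5 n43946 = n44020 := d38_3 F202998 F201166 D43946
def n44021 : Q := act 9 n43655
theorem D44021 : act 9 n43655 = n44021 := rfl
theorem F203000 : act 0 n44021 = n43887 := d8_1 D44021 (iv D43887) (iv F201140)
theorem F203001 : act 1 n44021 = n43855 := d16_1 D44021 (iv D43855) (iv F201141)
theorem F203002 : act 2 n44021 = n43665 := d23_1 D44021 (iv D43665) (iv F201142)
theorem F203003 : act 4 n44021 = n43809 := d34_1 D44021 (iv D43809) (iv F201143)
theorem F203004 : act 5 n44021 = n43656 := d38_1 D44021 (iv D43656) D43655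
theorem F203005 : act 6 n44021 = n43845 := d41_1 D44021 (iv D43845) (iv F201144)
theorem F203006 : act 7 n44021 = n43701 := d43_1 D44021 (iv D43701) (iv F201145)
def n44022 : Q := act 5 n43657
theorem D44022 : act 5 n43657 = n44022 := rfl
theorem F203007 : act 0 n44022 = n43859 := d4_1 D44022 F202240 (iv F201154)
theorem F203008 : act 1 n44022 = n43851 := d12_1 D44022 F202212 (iv F201155)
theorem F203009 : act 2 n44022 = n43668 := d19_1 D44022 (iv D43668) (iv F201156)
theorem F203010 : act 3 n44022 = n43946 := d25_1 D44022 F202999 F202994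
theorem F203011 : act 4 n44022 = n43804 := d30_1 D44022 (iv D43804) F199814 (iv F198452) (iv F201157)
theorem F203012 : act 7 n44022 = n43677 := d36_2 (iv F201159) D44022 (iv D43677)
theorem F203013 : act 8 n44022 = n43846 := d37_2 D43657 D44022 (iv D43846) (iv D43404) (iv F198438)
theorem F203014 : act 9 n44022 = n43659 := d38_2 (iv F201160) D44022 (iv D43659)
def n44023 : Q := act 6 n43659
theorem D44023 : act 6 n43659 = n44023 := rfl
theorem F203015 : act 0 n44023 = n43858 := d5_1 D44023 (iv D43858) (iv F201169)
theorem F203016 : act 1 n44023 = n43781 := d13_1 D44023 F201931 (iv F201170)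
theorem F203017 : act 2 n44023 = n43670 := d20_1 D44023 (iv D43670) (iv F201171)
theorem F203018 : act 3 n44023 = n43849 := d26_1 D44023 F202206 (iv F201172)
theorem F203019 : act 4 n44023 = n43783 := d31_1 D44023 F201943 (iv F201173)
theorem F203020 : act 5 n44023 = n43880 := d35_1 D44023 (iv D43880) F200233 (iv F198484) D43659
theorem F203021 : act 7 n44023 = n43840 := d39_2 (iv F201174) D44023 (iv D43840) F200058 (iv F198624)
theorem F203022 : act 8 n44023 = n43660 := d40_2 (iv F201175) D44023 (iv D43660)
def n44024 : Q := act 9 n43662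
theorem D44024 : act 9 n43662 = n44024 := rfl
theorem F203023 : act 0 n44024 = n43797 := d8_1 D44024 (iv D43797) (iv F201192)
theorem F203024 : act 1 n44024 = n43716 := d16_1 D44024 (iv D43716) (iv F201193)
theorem F203025 : act 2 n44024 = n43921 := d23_1 D44024 F202444 (iv F201194)
theorem F203026 : act 3 n44024 = n43665 := d29_1 D44024 (iv D43665) (iv F201195)
theorem F203027 : act 4 n44024 = n43916 := d34_1 D44024 F202433 (iv F201196)
theorem F203028 : act 5 n44024 = n43663 := d38_1 D44024 (iv D43663) D43662
theorem F203029 : act 6 n44024 = n43853 := d41_1 D44024 (iv D43853) (iv F201197)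
theorem F203030 : act 7 n44024 = n43719 := d43_1 D44024 F201562 (iv F201198)
def n44025 : Q := act 9 n43664
theorem D44025 : act 9 n43664 = n44025 := rfl
theorem F203031 : act 0 n44025 = n43883 := d8_1 D44025 (iv D43883) (iv F201208)
theorem F203032 : act 1 n44025 = n43717 := d16_1 D44025 (iv D43717) (iv F201209)
theorem F203033 : act 2 n44025 = n43701 := d23_1 D44025 (iv D43701) (iv F201210)
theorem F203034 : act 3 n44025 = n43719 := d29_1 D44025 F201562 (iv F201211)
theorem F203035 : act 4 n44025 = n43813 := d34_1 D44025 (iv D43813) (iv F201212)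
theorem F203036 : act 5 n44025 = n43666 := d38_1 D44025 (iv D43666) (iv F201213)
theorem F203037 : act 6 n44025 = n43712 := d41_1 D44025 (iv D43712) F201215
theorem F203038 : act 7 n44025 = n43665 := d43_1 D44025 (iv D43665) D43664
def n44026 : Q := act 8 n43665
theorem D44026 : act 8 n43665 = n44026 := rfl
theorem F203039 : act 0 n44026 = n43940 := d7_1 D44026 (iv D43940) (iv F201216)
theorem F203040 : act 1 n44026 = n43718 := d15_1 D44026 (iv D43718) (iv F201217)
theorem F203041 : act 4 n44026 = n43814 := d33_1 D44026 (iv D43814) (iv F201218)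
theorem F203042 : act 6 n44026 = n43856 := d40_1 D44026 (iv D43856) (iv F201220)
theorem F203043 : act 9 n44026 = n44026 := d44_2 D43665 D44026 (iv D44026) (iv D43665) F198518
def n44027 : Q := act 5 n43667
theorem D44027 : act 5 n43667 = n44027 := rfl
theorem F203044 : act 0 n44027 = n43830 := d4_1 D44027 F202143 (iv F201229)
theorem F203045 : act 1 n44027 = n43719 := d12_1 D44027 (iv D43719) (iv F201230)
theorem F203046 : act 2 n44027 = n43881 := d19_1 D44027 F202311 (iv F201231)
theorem F203047 : act 3 n44027 = n43717 := d25_1 D44027 F201557 (iv F201232)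
theorem F203048 : act 4 n44027 = n43937 := d30_1 D44027 F202494 F200496 F198551 (iv F201233)
theorem F203049 : act 7 n44027 = n43716 := d36_2 (iv F201235) D44027 F201555
theorem F203050 : act 9 n44027 = n43669 := d38_2 (iv F201236) D44027 (iv D43669)
def n44028 : Q := act 6 n43668
theorem D44028 : act 6 n43668 = n44028 := rfl
theorem F203051 : act 0 n44028 = n43860 := d5_1 D44028 F202245 (iv F201237)
theorem F203052 : act 1 n44028 = n43710 := d13_1 D44028 F201516 (iv F201238)
theorem F203053 : act 3 n44028 = n43704 := d26_1 D44028 F201475 (iv F201239)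
theorem F203054 : act 4 n44028 = n43803 := d31_1 D44028 F202032 (iv F201240)
theorem F203055 : act 7 n44028 = n43843 := d39_2 (iv F201241) D44028 F202184 F200063 (iv F198644)
theorem F203056 : act 8 n44028 = n43801 := d40_2 (iv F201242) D44028 F202023
theorem F203057 : act 9 n44028 = n43670 := d41_2 (iv F201243) D44028 (iv D43670)
def n44029 : Q := act 6 n43669
theorem D44029 : act 6 n43669 = n44029 := rfl
theorem F203058 : act 0 n44029 = n43829 := d5_1 D44029 (iv D43829) (iv F201244)
theorem F203059 : act 1 n44029 = n43708 := d13_1 D44029 F201503 (iv F201245)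
theorem F203060 : act 2 n44029 = n43880 := d20_1 D44029 (iv D43880) (iv F201246)
theorem F203061 : act 3 n44029 = n43703 := d26_1 D44029 F201468 (iv F201247)
theorem F203062 : act 4 n44029 = n43936 := d31_1 D44029 (iv D43936) (iv F201248)
theorem F203063 : act 5 n44029 = n43670 := d35_1 D44029 (iv D43670) (iv D43132) (iv F198557) D43669
theorem F203064 : act 7 n44029 = n43842 := d39_2 (iv F201249) D44029 (iv F202980) F202981 F201441
theorem F203065 : act 8 n44029 = n44029 := d40_2 F201250 D44029 (iv D44029)
def n44030 : Q := act 9 n43671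
theorem D44030 : act 9 n43671 = n44030 := rfl
theorem F203066 : act 0 n44030 = n43779 := d8_1 D44030 (iv D43779) (iv F201257)
theorem F203067 : act 1 n44030 = n43906 := d16_1 D44030 (iv D43906) (iv F201258)
theorem F203068 : act 2 n44030 = n43835 := d23_1 D44030 (iv D43835) (iv F201259)
theorem F203069 : act 3 n44030 = n43672 := d29_1 D44030 (iv D43672) D43671
theorem F203070 : act 4 n44030 = n43941 := d34_1 D44030 (iv D43941) (iv F201260)
theorem F203071 : act 5 n44030 = n43674 := d38_1 D44030 (iv D43674) (iv F201261)
theorem F203072 : act 6 n44030 = n43762 := d41_1 D44030 (iv D43762) (iv F201262)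
def n44031 : Q := act 8 n43672
theorem D44031 : act 8 n43672 = n44031 := rfl
theorem F203073 : act 0 n44031 = n43828 := d7_1 D44031 (iv D43828) (iv F201264)
theorem F203074 : act 1 n44031 = n43909 := d15_1 D44031 (iv D43909) (iv F201265)
theorem F203075 : act 2 n44031 = n43795 := d22_1 D44031 (iv D43795) (iv F201266)
theorem F203076 : act 4 n44031 = n43673 := d33_1 D44031 (iv D43673) (iv F201267)
theorem F203077 : act 5 n44031 = n43871 := d37_1 D44031 (iv D43871) F200192 (iv F198594) (iv F201268)
theorem F203078 : act 6 n44031 = n43817 := d40_1 D44031 (iv D43817) (iv F201269)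
theorem F203079 : act 9 n44031 = n44031 := d44_2 D43672 D44031 (iv D44031) (iv D43672) F198577
def n44032 : Q := act 3 n43678
theorem D44032 : act 3 n43678 = n44032 := rfl
theorem F203080 : act 0 n44032 = n43890 := d2_1 D44032 (iv D43890) (iv F201305)
theorem F203081 : act 1 n44032 = n43877 := d10_1 D44032 F202300 (iv F201306)
theorem F203082 : act 4 n44032 = n43732 := d24_2 D43678 D44032 F201652 F199233 (iv F198650)
theorem F203083 : act 5 n44032 = n43681 := d25_2 (iv F201308) D44032 (iv D43681)
theorem F203084 : act 7 n44032 = n43731 := d27_2 (iv F201309) D44032 F201647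
theorem F203085 : act 8 n44032 = n44032 := d28_2 F201310 D44032 (iv D44032)
def n44033 : Q := act 6 n43678
theorem D44033 : act 6 n43678 = n44033 := rfl
theorem F203086 : act 0 n44033 = n43891 := d5_1 D44033 (iv D43891) (iv F201305)
theorem F203087 : act 1 n44033 = n43880 := d13_1 D44033 (iv D43880) (iv F201306)
theorem F203088 : act 2 n44033 = n43731 := d20_1 D44033 F201649 (iv F201307)
theorem F203089 : act 4 n44033 = n43679 := d31_1 D44033 (iv D43679) D43678
theorem F203090 : act 5 n44033 = n43781 := d35_1 D44033 F201931 F200127 (iv F198664) (iv F201308)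
theorem F203091 : act 8 n44033 = n44033 := d40_2 F201310 D44033 (iv D44033)
def n44034 : Q := act 9 n43678
theorem D44034 : act 9 n43678 = n44034 := rfl
theorem F203092 : act 0 n44034 = n43892 := d8_1 D44034 (iv D43892) (iv F201305)
theorem F203093 : act 1 n44034 = n43881 := d16_1 D44034 (iv D43881) (iv F201306)
theorem F203094 : act 2 n44034 = n43798 := d23_1 D44034 (iv D43798) (iv F201307)
theorem F203095 : act 4 n44034 = n43680 := d34_1 D44034 (iv D43680) D43678
theorem F203096 : act 5 n44034 = n43682 := d38_1 D44034 (iv D43682) (iv F201308)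
theorem F203097 : act 7 n44034 = n43777 := d43_1 D44034 (iv D43777) (iv F201309)
def n44035 : Q := act 7 n43679
theorem D44035 : act 7 n43679 = n44035 := rfl
theorem F203098 : act 0 n44035 = n43893 := d6_1 D44035 (iv D43893) (iv F201311)
theorem F203099 : act 1 n44035 = n43900 := d14_1 D44035 F202384 (iv F201312)
theorem F203100 : act 2 n44035 = n43732 := d21_1 D44035 (iv D43732) (iv F201313)
theorem F203101 : act 3 n44035 = n43790 := d27_1 D44035 F201980 (iv F201314)
theorem F203102 : act 5 n44035 = n43706 := d36_1 D44035 (iv D43706) (iv F201315)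
theorem F203103 : act 6 n44035 = n43778 := d39_1 D44035 (iv D43778) (iv D43303) (iv F198651) D43679
theorem F203104 : act 8 n44035 = n44035 := d42_2 F201316 D44035 (iv D44035)
def n44036 : Q := act 9 n43679
theorem D44036 : act 9 n43679 = n44036 := rfl
theorem F203105 : act 0 n44036 = n43894 := d8_1 D44036 (iv D43894) (iv F201311)
theorem F203106 : act 1 n44036 = n43955 := d16_1 D44036 (iv D43955) (iv F201312)
theorem F203107 : act 2 n44036 = n43733 := d23_1 D44036 (iv D43733) (iv F201313)
theorem F203108 : act 3 n44036 = n43815 := d29_1 D44036 F202089 (iv F201314)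
theorem F203109 : act 5 n44036 = n43707 := d38_1 D44036 (iv D43707) (iv F201315)
theorem F203110 : act 6 n44036 = n43680 := d41_1 D44036 (iv D43680) D43679
def n44037 : Q := act 8 n43680
theorem D44037 : act 8 n43680 = n44037 := rfl
theorem F203111 : act 0 n44037 = n43895 := d7_1 D44037 (iv D43895) (iv F201317)
theorem F203112 : act 1 n44037 = n43956 := d15_1 D44037 (iv D43956) (iv F201318)
theorem F203113 : act 2 n44037 = n43799 := d22_1 D44037 (iv D43799) (iv F201319)
theorem F203114 : act 3 n44037 = n43825 := d28_1 D44037 (iv D43825) (iv F201320)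
theorem F203115 : act 5 n44037 = n43771 := d37_1 D44037 (iv D43771) F199598 (iv F198660) (iv F201321)
theorem F203116 : act 7 n44037 = n43780 := d42_1 D44037 (iv D43780) (iv F201322)
theorem F203117 : act 9 n44037 = n44037 := d44_2 D43680 D44037 (iv D44037) (iv D43680) F198652
def n44038 : Q := act 2 n43681
theorem D44038 : act 2 n43681 = n44038 := rfl
theorem F203118 : act 0 n44038 = n43896 := d1_1 D44038 (iv D43896) (iv F201323)
theorem F203119 : act 1 n44038 = n43840 := d9_1 D44038 F202175 (iv F201506) F201507 (iv F201324)
theorem F203120 : act 3 n44038 = n43800 := d17_2 D43681 D44038 (iv D43800) (iv D43335) (iv F198663)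
theorem F203121 : act 4 n44038 = n43684 := d18_2 (iv F201325) D44038 (iv D43684)
theorem F203122 : act 6 n44038 = n43839 := d20_2 (iv F201326) D44038 F202170
theorem F203123 : act 7 n44038 = n43781 := d21_2 (iv F201327) D44038 (iv D43781)
theorem F203124 : act 8 n44038 = n43683 := d22_2 (iv F201328) D44038 (iv D43683)
def n44039 : Q := act 9 n43681
theorem D44039 : act 9 n43681 = n44039 := rfl
theorem F203125 : act 0 n44039 = n43897 := d8_1 D44039 (iv D43897) (iv F201323)
theorem F203126 : act 1 n44039 = n43879 := d16_1 D44039 (iv D43879) (iv F201324)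
theorem F203127 : act 3 n44039 = n43682 := d29_1 D44039 (iv D43682) D43681
theorem F203128 : act 4 n44039 = n43686 := d34_1 D44039 (iv D43686) (iv F201325)
theorem F203129 : act 6 n44039 = n43947 := d41_1 D44039 F202524 (iv F201326)
theorem F203130 : act 7 n44039 = n43782 := d43_1 D44039 (iv D43782) (iv F201327)
theorem F203131 : act 8 n44039 = n43854 := d44_1 D44039 (iv D43854) F200102 (iv F198681) (iv F201328)
def n44040 : Q := act 6 n43684
theorem D44040 : act 6 n43684 = n44040 := rfl
theorem F203132 : act 0 n44040 = n43898 := d5_1 D44040 (iv D43898) (iv F201344)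
theorem F203133 : act 1 n44040 = n43837 := d13_1 D44040 (iv F202657) F202652
theorem F203134 : act 2 n44040 = n43685 := d20_1 D44040 (iv D43685) D43684
theorem F203135 : act 3 n44040 = n43690 := d26_1 D44040 (iv D43690) (iv F201345)
theorem F203136 : act 4 n44040 = n43839 := d31_1 D44040 (iv F203122) F203121
theorem F203137 : act 7 n44040 = n43861 := d39_2 (iv F201347) D44040 (iv D43861) F200153 (iv F199674)
theorem F203138 : act 8 n44040 = n43689 := d40_2 (iv F201348) D44040 (iv D43689)
def n44041 : Q := act 9 n43684
theorem D44041 : act 9 n43684 = n44041 := rfl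
theorem F203139 : act 0 n44041 = n43899 := d8_1 D44041 (iv D43899) (iv F201344)
theorem F203140 : act 2 n44041 = n43686 := d23_1 D44041 (iv D43686) D43684
theorem F203141 : act 3 n44041 = n43691 := d29_1 D44041 (iv D43691) (iv F201345)
theorem F203142 : act 5 n44041 = n43818 := d38_1 D44041 (iv D43818) (iv F201346)
theorem F203143 : act 7 n44041 = n43784 := d43_1 D44041 (iv D43784) (iv F201347)
def n44042 : Q := act 5 n43685
theorem D44042 : act 5 n43685 = n44042 := rfl
theorem F203144 : act 0 n44042 = n43900 := d4_1 D44042 (iv D43900) (iv F201349)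
theorem F203145 : act 1 n44042 = n43867 := d12_1 D44042 F202272 (iv F201350)
theorem F203146 : act 3 n44042 = n43687 := d25_1 D44042 (iv D43687) (iv F201351)
theorem F203147 : act 6 n44042 = n43810 := d35_2 D43685 D44042 F202069 F199893 (iv F198684)
theorem F203148 : act 7 n44042 = n43820 := d36_2 (iv F201353) D44042 F202109
theorem F203149 : act 8 n44042 = n44042 := d37_2 (iv F201354) D44042 (iv D44042) F201354 F198723
def n44043 : Q := act 9 n43685
theorem D44043 : act 9 n43685 = n44043 := rfl
theorem F203150 : act 0 n44043 = n43901 := d8_1 D44043 (iv D43901) (iv F201349)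
theorem F203151 : act 1 n44043 = n43869 := d16_1 D44043 (iv D43869) (iv F201350)
theorem F203152 : act 3 n44043 = n43688 := d29_1 D44043 (iv D43688) (iv F201351)
theorem F203153 : act 4 n44043 = n43947 := d34_1 D44043 F202524 (iv F201352)
theorem F203154 : act 6 n44043 = n43686 := d41_1 D44043 (iv D43686) D43685
theorem F203155 : act 7 n44043 = n43863 := d43_1 D44043 (iv D43863) (iv F201353)
theorem F203156 : act 8 n44043 = n43907 := d44_1 D44043 (iv D43907) F200361 (iv F198725) (iv F201354)
def n44044 : Q := act 9 n43687
theorem D44044 : act 9 n43687 = n44044 := rfl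
theorem F203157 : act 0 n44044 = n43902 := d8_1 D44044 (iv D43902) (iv F201360)
theorem F203158 : act 1 n44044 = n43870 := d16_1 D44044 (iv D43870) (iv F201361)
theorem F203159 : act 2 n44044 = n43696 := d23_1 D44044 (iv D43696) (iv F201362)
theorem F203160 : act 4 n44044 = n43712 := d34_1 D44044 (iv D43712) (iv F201363)
theorem F203161 : act 5 n44044 = n43688 := d38_1 D44044 (iv D43688) D43687
theorem F203162 : act 6 n44044 = n43813 := d41_1 D44044 (iv D43813) (iv F201364)
theorem F203163 : act 7 n44044 = n43864 := d43_1 D44044 (iv D43864) (iv F201365)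
def n44045 : Q := act 7 n43690
theorem D44045 : act 7 n43690 = n44045 := rfl
theorem F203164 : act 0 n44045 = n43903 := d6_1 D44045 (iv D43903) (iv F201382)
theorem F203165 : act 1 n44045 = n43896 := d14_1 D44045 F202370 (iv F201383)
theorem F203166 : act 2 n44045 = n43693 := d21_1 D44045 (iv D43693) (iv F201384)
theorem F203167 : act 3 n44045 = n43861 := d27_1 D44045 (iv F203137) F203135
theorem F203168 : act 4 n44045 = n43805 := d32_1 D44045 (iv D43805) (iv F201385)
theorem F203169 : act 6 n44045 = n43787 := d39_1 D44045 (iv D43787) (iv D43312) (iv F198729) D43690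
theorem F203170 : act 8 n44045 = n43698 := d42_2 (iv F201386) D44045 (iv D43698)
def n44046 : Q := act 9 n43690
theorem D44046 : act 9 n43690 = n44046 := rfl
theorem F203171 : act 0 n44046 = n43904 := d8_1 D44046 (iv D43904) (iv F201382)
theorem F203172 : act 1 n44046 = n43954 := d16_1 D44046 (iv D43954) (iv F201383)
theorem F203173 : act 2 n44046 = n43694 := d23_1 D44046 (iv D43694) (iv F201384)
theorem F203174 : act 4 n44046 = n43806 := d34_1 D44046 (iv D43806) (iv F201385)
theorem F203175 : act 6 n44046 = n43691 := d41_1 D44046 (iv D43691) D43690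
def n44047 : Q := act 7 n43692
theorem D44047 : act 7 n43692 = n44047 := rfl
theorem F203176 : act 0 n44047 = n43905 := d6_1 D44047 (iv D43905) (iv F201392)
theorem F203177 : act 1 n44047 = n43810 := d14_1 D44047 (iv D43810) (iv F201393)
theorem F203178 : act 3 n44047 = n43695 := d27_1 D44047 (iv D43695) (iv F201394)
theorem F203179 : act 4 n44047 = n43935 := d32_1 D44047 (iv D43935) (iv F201395)
theorem F203180 : act 5 n44047 = n43693 := d36_1 D44047 (iv D43693) D43692
theorem F203181 : act 6 n44047 = n43867 := d39_1 D44047 (iv D43867) (iv F201642) F201643 (iv F201396)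
theorem F203182 : act 8 n44047 = n44047 := d42_2 F201397 D44047 (iv D44047)
def n44048 : Q := act 9 n43692
theorem D44048 : act 9 n43692 = n44048 := rfl
theorem F203183 : act 0 n44048 = n43906 := d8_1 D44048 (iv D43906) (iv F201392)
theorem F203184 : act 1 n44048 = n43811 := d16_1 D44048 (iv D43811) (iv F201393)
theorem F203185 : act 3 n44048 = n43696 := d29_1 D44048 (iv D43696) (iv F201394)
theorem F203186 : act 4 n44048 = n43932 := d34_1 D44048 F202480 (iv F201395)
theorem F203187 : act 5 n44048 = n43694 := d38_1 D44048 (iv D43694) D43692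
theorem F203188 : act 6 n44048 = n43819 := d41_1 D44048 (iv D43819) (iv F201396)
def n44049 : Q := act 9 n43693
theorem D44049 : act 9 n43693 = n44049 := rfl
theorem F203189 : act 0 n44049 = n43907 := d8_1 D44049 (iv D43907) (iv F201398)
theorem F203190 : act 1 n44049 = n43812 := d16_1 D44049 (iv D43812) (iv F201399)
theorem F203191 : act 3 n44049 = n43697 := d29_1 D44049 (iv D43697) (iv F201400)
theorem F203192 : act 4 n44049 = n43807 := d34_1 D44049 (iv D43807) (iv F201401)
theorem F203193 : act 6 n44049 = n43789 := d41_1 D44049 (iv D43789) (iv F201402)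
theorem F203194 : act 7 n44049 = n43694 := d43_1 D44049 (iv D43694) D43693
theorem F203195 : act 8 n44049 = n43901 := d44_1 D44049 (iv D43901) F200338 (iv F198784) (iv F201403)
def n44050 : Q := act 9 n43695
theorem D44050 : act 9 n43695 = n44050 := rfl
theorem F203196 : act 0 n44050 = n43908 := d8_1 D44050 (iv D43908) (iv F201409)
theorem F203197 : act 1 n44050 = n43813 := d16_1 D44050 (iv D43813) (iv F201410)
theorem F203198 : act 2 n44050 = n43864 := d23_1 D44050 (iv D43864) (iv F201411)
theorem F203199 : act 4 n44050 = n43717 := d34_1 D44050 (iv D43717) (iv F201412)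
theorem F203200 : act 5 n44050 = n43697 := d38_1 D44050 (iv D43697) (iv F201413)
theorem F203201 : act 6 n44050 = n43870 := d41_1 D44050 (iv D43870) (iv F201414)
theorem F203202 : act 7 n44050 = n43696 := d43_1 D44050 (iv D43696) D43695
def n44051 : Q := act 8 n43696
theorem D44051 : act 8 n43696 = n44051 := rfl
theorem F203203 : act 0 n44051 = n43909 := d7_1 D44051 (iv D43909) (iv F201416)
theorem F203204 : act 1 n44051 = n43814 := d15_1 D44051 (iv D43814) (iv F201417)
theorem F203205 : act 4 n44051 = n43718 := d33_1 D44051 (iv D43718) (iv F201418)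
theorem F203206 : act 6 n44051 = n43826 := d40_1 D44051 (iv D43826) (iv F201420)
theorem F203207 : act 9 n44051 = n44051 := d44_2 D43696 D44051 (iv D44051) (iv D43696) F198746
def n44052 : Q := act 9 n43699
theorem D44052 : act 9 n43699 = n44052 := rfl
theorem F203208 : act 0 n44052 = n43885 := d8_1 D44052 (iv D43885) (iv F201436)
theorem F203209 : act 1 n44052 = n43853 := d16_1 D44052 (iv D43853) (iv F201437)
theorem F203210 : act 2 n44052 = n43874 := d23_1 D44052 (iv D43874) (iv F201438)
theorem F203211 : act 3 n44052 = n43701 := d29_1 D44052 (iv D43701) (iv F201439)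
theorem F203212 : act 4 n44052 = n43927 := d34_1 D44052 F202468 (iv F201440)
theorem F203213 : act 5 n44052 = n43700 := d38_1 D44052 (iv D43700) D43699
theorem F203214 : act 6 n44052 = n43716 := d41_1 D44052 (iv D43716) (iv F201441)
def n44053 : Q := act 8 n43701
theorem D44053 : act 8 n43701 = n44053 := rfl
theorem F203215 : act 0 n44053 = n43888 := d7_1 D44053 (iv D43888) (iv F201450)
theorem F203216 : act 1 n44053 = n43856 := d15_1 D44053 (iv D43856) (iv F201451)
theorem F203217 : act 4 n44053 = n43826 := d33_1 D44053 (iv D43826) (iv F201452)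
theorem F203218 : act 5 n44053 = n43882 := d37_1 D44053 (iv D43882) F200236 (iv F198808) (iv F201453)
theorem F203219 : act 6 n44053 = n43718 := d40_1 D44053 (iv D43718) (iv F201454)
theorem F203220 : act 9 n44053 = n44053 := d44_2 D43701 D44053 (iv D44053) (iv D43701) F198803
def n44054 : Q := act 9 n43703
theorem D44054 : act 9 n43703 = n44054 := rfl
theorem F203221 : act 0 n44054 = n43918 := d8_1 D44054 (iv D43918) (iv F201464)
theorem F203222 : act 1 n44054 = n43712 := d16_1 D44054 (iv D43712) (iv F201465)
theorem F203223 : act 2 n44054 = n43855 := d23_1 D44054 (iv D43855) (iv F201466)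
theorem F203224 : act 4 n44054 = n43870 := d34_1 D44054 (iv D43870) (iv F201467)
theorem F203225 : act 5 n44054 = n43704 := d38_1 D44054 (iv D43704) D43703
theorem F203226 : act 6 n44054 = n43717 := d41_1 D44054 (iv D43717) (iv F201468)
theorem F203227 : act 7 n44054 = n43845 := d43_1 D44054 (iv D43845) (iv F201469)
def n44055 : Q := act 9 n43706
theorem D44055 : act 9 n43706 = n44055 := rfl
theorem F203228 : act 0 n44055 = n43910 := d8_1 D44055 (iv D43910) (iv F201487)
theorem F203229 : act 1 n44055 = n43901 := d16_1 D44055 (iv D43901) (iv F201488)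
theorem F203230 : act 2 n44055 = n43734 := d23_1 D44055 (iv D43734) (iv F201489)
theorem F203231 : act 3 n44055 = n43792 := d29_1 D44055 (iv D43792) (iv F201490)
theorem F203232 : act 4 n44055 = n43818 := d34_1 D44055 (iv D43818) (iv F201491)
theorem F203233 : act 6 n44055 = n43751 := d41_1 D44055 (iv D43751) (iv F201492)
theorem F203234 : act 7 n44055 = n43707 := d43_1 D44055 (iv D43707) D43706
theorem F203235 : act 8 n44055 = n43812 := d44_1 D44055 (iv D43812) F199894 (iv F199276) (iv F201493)
def n44056 : Q := act 7 n43708
theorem D44056 : act 7 n43708 = n44056 := rfl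
theorem F203236 : act 0 n44056 = n43911 := d6_1 D44056 (iv D43911) (iv F201500)
theorem F203237 : act 1 n44056 = n43842 := d14_1 D44056 (iv F203064) F203059
theorem F203238 : act 2 n44056 = n43877 := d21_1 D44056 (iv D43877) (iv F201501)
theorem F203239 : act 3 n44056 = n43711 := d27_1 D44056 (iv D43711) (iv F201502)
theorem F203240 : act 5 n44056 = n43709 := d36_1 D44056 (iv D43709) D43708
theorem F203241 : act 6 n44056 = n43852 := d39_1 D44056 (iv D43852) (iv F201197) F201198 (iv F201503)
theorem F203242 : act 8 n44056 = n44056 := d42_2 F201504 D44056 (iv D44056)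
def n44057 : Q := act 9 n43708
theorem D44057 : act 9 n43708 = n44057 := rfl
theorem F203243 : act 0 n44057 = n43912 := d8_1 D44057 (iv D43912) (iv F201500)
theorem F203244 : act 2 n44057 = n43878 := d23_1 D44057 (iv D43878) (iv F201501)
theorem F203245 : act 3 n44057 = n43712 := d29_1 D44057 (iv D43712) (iv F201502)
theorem F203246 : act 5 n44057 = n43710 := d38_1 D44057 (iv D43710) D43708
theorem F203247 : act 6 n44057 = n43719 := d41_1 D44057 F201562 (iv F201503)
def n44058 : Q := act 9 n43709
theorem D44058 : act 9 n43709 = n44058 := rfl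
theorem F203248 : act 0 n44058 = n43913 := d8_1 D44058 (iv D43913) (iv F201505)
theorem F203249 : act 1 n44058 = n43843 := d16_1 D44058 (iv D43843) (iv F201506)
theorem F203250 : act 2 n44058 = n43879 := d23_1 D44058 (iv D43879) (iv F201507)
theorem F203251 : act 3 n44058 = n43713 := d29_1 D44058 (iv D43713) (iv F201508)
theorem F203252 : act 4 n44058 = n43876 := d34_1 D44058 F202299 (iv F201509)
theorem F203253 : act 6 n44058 = n43756 := d41_1 D44058 (iv D43756) (iv F201510)
theorem F203254 : act 7 n44058 = n43710 := d43_1 D44058 (iv D43710) D43709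
theorem F203255 : act 8 n44058 = n43875 := d44_1 D44058 (iv D43875) F200214 (iv F199050) (iv F201511)
def n44059 : Q := act 9 n43711
theorem D44059 : act 9 n43711 = n44059 := rfl
theorem F203256 : act 0 n44059 = n43914 := d8_1 D44059 (iv D43914) (iv F201518)
theorem F203257 : act 1 n44059 = n43845 := d16_1 D44059 (iv D43845) (iv F201519)
theorem F203258 : act 2 n44059 = n43717 := d23_1 D44059 (iv D43717) (iv F201520)
theorem F203259 : act 4 n44059 = n43864 := d34_1 D44059 (iv D43864) (iv F201521)
theorem F203260 : act 5 n44059 = n43713 := d38_1 D44059 (iv D43713) (iv F201522)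
theorem F203261 : act 6 n44059 = n43855 := d41_1 D44059 (iv D43855) (iv F201523)
theorem F203262 : act 7 n44059 = n43712 := d43_1 D44059 (iv D43712) D43711
def n44060 : Q := act 8 n43712
theorem D44060 : act 8 n43712 = n44060 := rfl
theorem F203263 : act 0 n44060 = n43915 := d7_1 D44060 (iv D43915) (iv F201525)
theorem F203264 : act 2 n44060 = n43718 := d22_1 D44060 (iv D43718) (iv F201526)
theorem F203265 : act 9 n44060 = n44060 := d44_2 D43712 D44060 (iv D44060) (iv D43712) F199009
def n44061 : Q := act 5 n43714
theorem D44061 : act 5 n43714 = n44061 := rfl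
theorem F203266 : act 0 n44061 = n43916 := d4_1 D44061 (iv D43916) (iv F201535)
theorem F203267 : act 1 n44061 = n43798 := d12_1 D44061 F202011 (iv F201536)
theorem F203268 : act 2 n44061 = n43719 := d19_1 D44061 (iv D43719) (iv F201537)
theorem F203269 : act 3 n44061 = n43874 := d25_1 D44061 F202291 (iv F201538)
theorem F203270 : act 4 n44061 = n43797 := d30_1 D44061 F202007 F199771 (iv F199039) (iv F201539)
theorem F203271 : act 6 n44061 = n43878 := d35_2 (iv F201540) D44061 F202304 F200231 (iv F199024)
theorem F203272 : act 7 n44061 = n43921 := d36_2 (iv F201541) D44061 F202443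
theorem F203273 : act 9 n44061 = n43715 := d38_2 (iv F201542) D44061 (iv D43715)
def n44062 : Q := act 8 n43716
theorem D44062 : act 8 n43716 = n44062 := rfl
theorem F203274 : act 0 n44062 = n43917 := d7_1 D44062 (iv D43917) (iv F201551)
theorem F203275 : act 2 n44062 = n43882 := d22_1 D44062 (iv D43882) (iv F201552)
theorem F203276 : act 3 n44062 = n43718 := d28_1 D44062 (iv D43718) (iv F201553)
theorem F203277 : act 4 n44062 = n43938 := d33_1 D44062 (iv D43938) (iv F201554)
theorem F203278 : act 9 n44062 = n44062 := d44_2 D43716 D44062 (iv D44062) (iv D43716) F199062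
def n44063 : Q := act 8 n43717
theorem D44063 : act 8 n43717 = n44063 := rfl
theorem F203279 : act 0 n44063 = n43919 := d7_1 D44063 (iv D43919) (iv F201556)
theorem F203280 : act 7 n44063 = n43718 := d42_1 D44063 (iv D43718) (iv F201558)
theorem F203281 : act 9 n44063 = n44063 := d44_2 D43717 D44063 (iv D44063) (iv D43717) F199070
def n44064 : Q := act 5 n43718
theorem D44064 : act 5 n43718 = n44064 := rfl
theorem F203282 : act 0 n44064 = n43920 := d4_1 D44064 (iv D43920) (iv F201559)
theorem F203283 : act 8 n44064 = n43719 := d37_2 D43718 D44064 (iv D43719) (iv D43210) (iv F199072)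
theorem F203284 : act 9 n44064 = n44064 := d38_2 F201560 D44064 (iv D44064)
def n44065 : Q := act 4 n43719
theorem D44065 : act 4 n43719 = n44065 := rfl
theorem F203285 : act 0 n44065 = n43921 := d3_1 D44065 (iv D43921) (iv F201561)
theorem F203286 : act 1 n44065 = n43937 := d11_1 D44065 (iv F203048) F203045
theorem F203287 : act 2 n44065 = n43797 := d18_1 D44065 (iv F203270) F203268
theorem F203288 : act 5 n44065 = n43720 := d30_2 D43719 D44065 (iv D43720) (iv D43212) (iv F199078)
theorem F203289 : act 7 n44065 = n43916 := d32_2 F203030 D44065 (iv F203027)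
theorem F203290 : act 9 n44065 = n43721 := d34_2 (iv F201562) D44065 (iv D43721)
def n44066 : Q := act 9 n43722
theorem D44066 : act 9 n43722 = n44066 := rfl
theorem F203291 : act 0 n44066 = n43768 := d8_1 D44066 (iv D43768) (iv F201576)
theorem F203292 : act 1 n44066 = n43727 := d16_1 D44066 (iv D43727) (iv F201577)
theorem F203293 : act 2 n44066 = n43928 := d23_1 D44066 (iv D43928) (iv F201578)
theorem F203294 : act 3 n44066 = n43769 := d29_1 D44066 (iv D43769) (iv F201579)
theorem F203295 : act 4 n44066 = n43774 := d34_1 D44066 (iv D43774) (iv F201580)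
theorem F203296 : act 5 n44066 = n43723 := d38_1 D44066 (iv D43723) D43722
theorem F203297 : act 6 n44066 = n43764 := d41_1 D44066 (iv D43764) (iv F201581)
theorem F203298 : act 7 n44066 = n43770 := d43_1 D44066 (iv D43770) (iv F201582)
def n44067 : Q := act 9 n43724
theorem D44067 : act 9 n43724 = n44067 := rfl
theorem F203299 : act 0 n44067 = n43774 := d8_1 D44067 (iv D43774) (iv F201592)
theorem F203300 : act 1 n44067 = n43769 := d16_1 D44067 (iv D43769) (iv F201593)
theorem F203301 : act 2 n44067 = n43815 := d23_1 D44067 F202089 (iv F201594)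
theorem F203302 : act 3 n44067 = n43727 := d29_1 D44067 (iv D43727) (iv F201595)
theorem F203303 : act 4 n44067 = n43768 := d34_1 D44067 (iv D43768) (iv F201596)
theorem F203304 : act 5 n44067 = n43725 := d38_1 D44067 (iv D43725) D43724
theorem F203305 : act 6 n44067 = n43761 := d41_1 D44067 (iv D43761) (iv F201597)
theorem F203306 : act 7 n44067 = n43793 := d43_1 D44067 (iv D43793) (iv F201598)
def n44068 : Q := act 9 n43726
theorem D44068 : act 9 n43726 = n44068 := rfl
theorem F203307 : act 0 n44068 = n43764 := d8_1 D44068 (iv D43764) (iv F201608)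
theorem F203308 : act 1 n44068 = n43770 := d16_1 D44068 (iv D43770) (iv F201609)
theorem F203309 : act 2 n44068 = n43737 := d23_1 D44068 (iv D43737) (iv F201610)
theorem F203310 : act 3 n44068 = n43793 := d29_1 D44068 (iv D43793) (iv F201611)
theorem F203311 : act 4 n44068 = n43761 := d34_1 D44068 (iv D43761) (iv F201612)
theorem F203312 : act 5 n44068 = n43728 := d38_1 D44068 (iv D43728) (iv F201613)
theorem F203313 : act 6 n44068 = n43768 := d41_1 D44068 (iv D43768) (iv F201614)
theorem F203314 : act 7 n44068 = n43727 := d43_1 D44068 (iv D43727) D43726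
def n44069 : Q := act 8 n43727
theorem D44069 : act 8 n43727 = n44069 := rfl
theorem F203315 : act 0 n44069 = n43796 := d7_1 D44069 (iv D43796) (iv F201616)
theorem F203316 : act 2 n44069 = n43738 := d22_1 D44069 (iv D43738) (iv F201617)
theorem F203317 : act 4 n44069 = n43823 := d33_1 D44069 (iv D43823) (iv F201618)
theorem F203318 : act 6 n44069 = n43765 := d40_1 D44069 (iv D43765) (iv F201620)
theorem F203319 : act 9 n44069 = n44069 := d44_2 D43727 D44069 (iv D44069) (iv D43727) F199169
def n44070 : Q := act 5 n43729
theorem D44070 : act 5 n43729 = n44070 := rfl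
theorem F203320 : act 0 n44070 = n43889 := d4_1 D44070 F202346 (iv F201629)
theorem F203321 : act 1 n44070 = n43821 := d12_1 D44070 F202113 (iv F201630)
theorem F203322 : act 2 n44070 = n43740 := d19_1 D44070 (iv D43740) (iv F201631)
theorem F203323 : act 3 n44070 = n43809 := d25_1 D44070 F202064 (iv F201632)
theorem F203324 : act 4 n44070 = n43931 := d30_1 D44070 (iv D43931) F200462 (iv F199201) (iv F201633)
theorem F203325 : act 6 n44070 = n43868 := d35_2 (iv F201634) D44070 F202275 F200187 (iv F199186)
theorem F203326 : act 7 n44070 = n43819 := d36_2 (iv F201635) D44070 F202105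
theorem F203327 : act 9 n44070 = n43730 := d38_2 (iv F201636) D44070 (iv D43730)
def n44071 : Q := act 9 n43731
theorem D44071 : act 9 n43731 = n44071 := rfl
theorem F203328 : act 0 n44071 = n43923 := d8_1 D44071 (iv D43923) (iv F201645)
theorem F203329 : act 1 n44071 = n43878 := d16_1 D44071 (iv D43878) (iv F201646)
theorem F203330 : act 3 n44071 = n43777 := d29_1 D44071 (iv D43777) (iv F201647)
theorem F203331 : act 4 n44071 = n43733 := d34_1 D44071 (iv D43733) D43731
theorem F203332 : act 5 n44071 = n43782 := d38_1 D44071 (iv D43782) (iv F201648)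
theorem F203333 : act 6 n44071 = n43798 := d41_1 D44071 (iv D43798) (iv F201649)
def n44072 : Q := act 9 n43732
theorem D44072 : act 9 n43732 = n44072 := rfl
theorem F203334 : act 0 n44072 = n43924 := d8_1 D44072 (iv D43924) (iv F201651)
theorem F203335 : act 3 n44072 = n43737 := d29_1 D44072 (iv D43737) (iv F201652)
theorem F203336 : act 5 n44072 = n43734 := d38_1 D44072 (iv D43734) (iv F201653)
theorem F203337 : act 7 n44072 = n43733 := d43_1 D44072 (iv D43733) D43732
def n44073 : Q := act 8 n43733
theorem D44073 : act 8 n43733 = n44073 := rfl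
theorem F203338 : act 0 n44073 = n43925 := d7_1 D44073 (iv D43925) (iv F201655)
theorem F203339 : act 3 n44073 = n43738 := d28_1 D44073 (iv D43738) (iv F201656)
theorem F203340 : act 6 n44073 = n43799 := d40_1 D44073 (iv D43799) (iv F201658)
theorem F203341 : act 9 n44073 = n44073 := d44_2 D43733 D44073 (iv D44073) (iv D43733) F199215
def n44074 : Q := act 8 n43734
theorem D44074 : act 8 n43734 = n44074 := rfl
theorem F203342 : act 0 n44074 = n43926 := d7_1 D44074 (iv D43926) (iv F201659)
theorem F203343 : act 1 n44074 = n43897 := d15_1 D44074 (iv F202727) F202722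
theorem F203344 : act 2 n44074 = n43812 := d22_1 D44074 (iv F203235) F203230
theorem F203345 : act 3 n44074 = n43739 := d28_1 D44074 (iv D43739) (iv F201660)
theorem F203346 : act 4 n44074 = n43751 := d33_1 D44074 F201770 (iv F201661)
theorem F203347 : act 6 n44074 = n43818 := d40_1 D44074 F202101 (iv F201662)
theorem F203348 : act 7 n44074 = n43735 := d42_1 D44074 (iv D43735) (iv F201663)
theorem F203349 : act 9 n44074 = n43743 := d44_2 D43734 D44074 (iv D43743) (iv D43242) (iv F199220)
def n44075 : Q := act 5 n43735
theorem D44075 : act 5 n43735 = n44075 := rfl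
theorem F203350 : act 0 n44075 = n43927 := d4_1 D44075 (iv D43927) (iv F201664)
theorem F203351 : act 1 n44075 = n43923 := d12_1 D44075 F202451 (iv F201665)
theorem F203352 : act 2 n44075 = n43811 := d19_1 D44075 F202073 (iv F201666)
theorem F203353 : act 3 n44075 = n43740 := d25_1 D44075 (iv D43740) (iv F201667)
theorem F203354 : act 4 n44075 = n43885 := d30_1 D44075 F202328 F200290 (iv F199364) (iv F201668)
theorem F203355 : act 6 n44075 = n43753 := d35_2 (iv F201669) D44075 F201781 F199382 F199231
theorem F203356 : act 9 n44075 = n43744 := d38_2 (iv F201670) D44075 (iv D43744)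
def n44076 : Q := act 9 n43736
theorem D44076 : act 9 n43736 = n44076 := rfl
theorem F203357 : act 0 n44076 = n43928 := d8_1 D44076 (iv D43928) (iv F201671)
theorem F203358 : act 1 n44076 = n43914 := d16_1 D44076 (iv D43914) (iv F201672)
theorem F203359 : act 2 n44076 = n43768 := d23_1 D44076 (iv D43768) (iv F201673)
theorem F203360 : act 4 n44076 = n43815 := d34_1 D44076 F202089 (iv F201674)
theorem F203361 : act 5 n44076 = n43767 := d38_1 D44076 (iv D43767) (iv F201675)
theorem F203362 : act 6 n44076 = n43737 := d41_1 D44076 (iv D43737) D43736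
theorem F203363 : act 7 n44076 = n43791 := d43_1 D44076 (iv D43791) (iv F201676)
def n44077 : Q := act 8 n43737
theorem D44077 : act 8 n43737 = n44077 := rfl
theorem F203364 : act 0 n44077 = n43929 := d7_1 D44077 (iv D43929) (iv F201678)
theorem F203365 : act 4 n44077 = n43825 := d33_1 D44077 (iv D43825) (iv F201679)
theorem F203366 : act 7 n44077 = n43738 := d42_1 D44077 (iv D43738) (iv F201681)
theorem F203367 : act 9 n44077 = n44077 := d44_2 D43737 D44077 (iv D44077) (iv D43737) F199235
def n44078 : Q := act 5 n43738
theorem D44078 : act 5 n43738 = n44078 := rfl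
theorem F203368 : act 0 n44078 = n43930 := d4_1 D44078 (iv D43930) (iv F201682)
theorem F203369 : act 8 n44078 = n43740 := d37_2 D43738 D44078 (iv D43740) (iv D43237) (iv F199238)
theorem F203370 : act 9 n44078 = n44078 := d38_2 F201684 D44078 (iv D44078)
def n44079 : Q := act 5 n43739
theorem D44079 : act 5 n43739 = n44079 := rfl
theorem F203371 : act 0 n44079 = n43931 := d4_1 D44079 (iv D43931) (iv F201685)
theorem F203372 : act 1 n44079 = n43892 := d12_1 D44079 F202357 (iv F201686)
theorem F203373 : act 2 n44079 = n43819 := d19_1 D44079 F202105 (iv F201687)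
theorem F203374 : act 4 n44079 = n43889 := d30_1 D44079 F202346 F200312 (iv F199257) (iv F201688)
theorem F203375 : act 7 n44079 = n43740 := d36_2 (iv F201690) D44079 (iv D43740)
theorem F203376 : act 9 n44079 = n43745 := d38_2 (iv F201691) D44079 (iv D43745)
def n44080 : Q := act 4 n43740
theorem D44080 : act 4 n43740 = n44080 := rfl
theorem F203377 : act 0 n44080 = n43819 := d3_1 D44080 F202104 (iv F201692)
theorem F203378 : act 1 n44080 = n43762 := d11_1 D44080 (iv F202744) F202741
theorem F203379 : act 2 n44080 = n43931 := d18_1 D44080 (iv F203324) F203322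
theorem F203380 : act 3 n44080 = n43773 := d24_1 D44080 F201896 (iv F202327) (iv F203354) F203353
theorem F203381 : act 5 n44080 = n43742 := d30_2 D43740 D44080 (iv D43742) (iv D43240) (iv F199243)
theorem F203382 : act 7 n44080 = n43889 := d32_2 F203375 D44080 (iv F203374)
theorem F203383 : act 9 n44080 = n43746 := d34_2 (iv F201693) D44080 (iv D43746)
theorem F203384 : act 6 n43906 = n44080 := d41_3 F203383 (iv F201736) D43906
def n44081 : Q := act 6 n43740
theorem D44081 : act 6 n43740 = n44081 := rfl
theorem F203385 : act 0 n44081 = n43932 := d5_1 D44081 (iv D43932) (iv F201692)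
theorem F203386 : act 1 n44081 = n43941 := d13_1 D44081 (iv F202745) F202741
theorem F203387 : act 2 n44081 = n43868 := d20_1 D44081 (iv F203325) F203322
theorem F203388 : act 3 n44081 = n43753 := d26_1 D44081 (iv F203355) F203353
theorem F203389 : act 4 n44081 = n43906 := d31_1 D44081 F203384 (iv D44080)
theorem F203390 : act 5 n44081 = n43741 := d35_1 D44081 (iv D43741) (iv D43238) (iv F199244) D43740
theorem F203391 : act 9 n44081 = n43747 := d41_2 (iv F201693) D44081 (iv D43747)
def n44082 : Q := act 7 n43741
theorem D44082 : act 7 n43741 = n44082 := rfl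
theorem F203392 : act 0 n44082 = n43933 := d6_1 D44082 (iv D43933) (iv F201694)
theorem F203393 : act 1 n44082 = n43838 := d14_1 D44082 F202169 (iv F201695)
theorem F203394 : act 2 n44082 = n43869 := d21_1 D44082 F202278 (iv F201696)
theorem F203395 : act 3 n44082 = n43754 := d27_1 D44082 F201787 (iv F201697)
theorem F203396 : act 4 n44082 = n43756 := d32_1 D44082 F201801 (iv F201698)
theorem F203397 : act 6 n44082 = n43876 := d39_1 D44082 F202298 F200222 (iv F199250) D43741
theorem F203398 : act 8 n44082 = n43865 := d42_2 (iv F201699) D44082 F202266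
theorem F203399 : act 9 n44082 = n43748 := d43_2 (iv F201700) D44082 (iv D43748)
def n44083 : Q := act 5 n43743
theorem D44083 : act 5 n43743 = n44083 := rfl
theorem F203400 : act 0 n44083 = n43934 := d4_1 D44083 (iv D43934) (iv F201709)
theorem F203401 : act 1 n44083 = n43890 := d12_1 D44083 F202348 (iv F201710)
theorem F203402 : act 2 n44083 = n43810 := d19_1 D44083 F202069 (iv F201711)
theorem F203403 : act 3 n44083 = n43745 := d25_1 D44083 (iv D43745) (iv F201712)
theorem F203404 : act 4 n44083 = n43884 := d30_1 D44083 F202324 F200285 (iv F199358) (iv F201713)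
theorem F203405 : act 7 n44083 = n43744 := d36_2 (iv F201715) D44083 (iv D43744)
theorem F203406 : act 8 n44083 = n44083 := d37_2 D43743 D44083 (iv D44083) (iv D43743) F199282
def n44084 : Q := act 7 n43747
theorem D44084 : act 7 n43747 = n44084 := rfl
theorem F203407 : act 0 n44084 = n43935 := d6_1 D44084 (iv D43935) (iv F201737)
theorem F203408 : act 1 n44084 = n43831 := d14_1 D44084 F202146 (iv F201738)
theorem F203409 : act 2 n44084 = n43867 := d21_1 D44084 (iv D43867) (iv F201739)
theorem F203410 : act 3 n44084 = n43752 := d27_1 D44084 (iv D43752) (iv F201740)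
theorem F203411 : act 4 n44084 = n43905 := d32_1 D44084 (iv D43905) (iv F201741)
theorem F203412 : act 5 n44084 = n43748 := d36_1 D44084 (iv D43748) (iv F201742)
theorem F203413 : act 8 n44084 = n44084 := d42_2 F201743 D44084 (iv D44084)
def n44085 : Q := act 9 n43749
theorem D44085 : act 9 n43749 = n44085 := rfl
theorem F203414 : act 0 n44085 = n43947 := d8_1 D44085 F202524 (iv F201751)
theorem F203415 : act 1 n44085 = n43818 := d16_1 D44085 (iv D43818) (iv F201752)
theorem F203416 : act 3 n44085 = n43750 := d29_1 D44085 (iv D43750) D43749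
theorem F203417 : act 4 n44085 = n43901 := d34_1 D44085 (iv D43901) (iv F201753)
theorem F203418 : act 6 n44085 = n43897 := d41_1 D44085 (iv D43897) (iv F201754)
theorem F203419 : act 7 n44085 = n43808 := d43_1 D44085 F202060 (iv F201755)
theorem F203420 : act 8 n44085 = n43807 := d44_1 D44085 (iv D43807) F199838 (iv F199340) (iv F201756)
def n44086 : Q := act 6 n43752
theorem D44086 : act 6 n43752 = n44086 := rfl
theorem F203421 : act 0 n44086 = n43936 := d5_1 D44086 (iv D43936) (iv F201771)
theorem F203422 : act 1 n44086 = n43832 := d13_1 D44086 (iv D43832) (iv F201772)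
theorem F203423 : act 2 n44086 = n43820 := d20_1 D44086 (iv D43820) (iv F201773)
theorem F203424 : act 4 n44086 = n43829 := d31_1 D44086 (iv D43829) (iv F201774)
theorem F203425 : act 5 n44086 = n43861 := d35_1 D44086 (iv D43861) F200152 (iv F199376) (iv F201775)
theorem F203426 : act 8 n44086 = n44086 := d40_2 F201776 D44086 (iv D44086)
def n44087 : Q := act 9 n43752
theorem D44087 : act 9 n43752 = n44087 := rfl
theorem F203427 : act 0 n44087 = n43937 := d8_1 D44087 (iv D43937) (iv F201771)
theorem F203428 : act 1 n44087 = n43833 := d16_1 D44087 (iv D43833) (iv F201772)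
theorem F203429 : act 2 n44087 = n43821 := d23_1 D44087 (iv D43821) (iv F201773)
theorem F203430 : act 4 n44087 = n43830 := d34_1 D44087 (iv D43830) (iv F201774)
theorem F203431 : act 5 n44087 = n43754 := d38_1 D44087 (iv D43754) (iv F201775)
theorem F203432 : act 7 n44087 = n43753 := d43_1 D44087 (iv D43753) D43752
def n44088 : Q := act 8 n43753
theorem D44088 : act 8 n43753 = n44088 := rfl
theorem F203433 : act 0 n44088 = n43938 := d7_1 D44088 (iv D43938) (iv F201777)
theorem F203434 : act 1 n44088 = n43942 := d15_1 D44088 (iv D43942) (iv F201778)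
theorem F203435 : act 2 n44088 = n43822 := d22_1 D44088 (iv D43822) (iv F201779)
theorem F203436 : act 4 n44088 = n43917 := d33_1 D44088 (iv D43917) (iv F201780)
theorem F203437 : act 9 n44088 = n44088 := d44_2 D43753 D44088 (iv D44088) (iv D43753) F199371
def n44089 : Q := act 8 n43758
theorem D44089 : act 8 n43758 = n44089 := rfl
theorem F203438 : act 0 n44089 = n43771 := d7_1 D44089 (iv D43771) (iv F201811)
theorem F203439 : act 1 n44089 = n43796 := d15_1 D44089 (iv D43796) (iv F201812)
theorem F203440 : act 2 n44089 = n43939 := d22_1 D44089 (iv D43939) (iv F201813)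
theorem F203441 : act 3 n44089 = n43823 := d28_1 D44089 (iv D43823) (iv F201814)
theorem F203442 : act 5 n44089 = n43895 := d37_1 D44089 (iv D43895) F200323 (iv F199474) (iv F201815)
theorem F203443 : act 6 n44089 = n43794 := d40_1 D44089 (iv D43794) (iv F201816)
theorem F203444 : act 7 n44089 = n43765 := d42_1 D44089 (iv D43765) (iv F201817)
theorem F203445 : act 9 n44089 = n44089 := d44_2 D43758 D44089 (iv D44089) (iv D43758) F199466
def n44090 : Q := act 9 n43759
theorem D44090 : act 9 n43759 = n44090 := rfl
theorem F203446 : act 0 n44090 = n43793 := d8_1 D44090 (iv D43793) (iv F201818)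
theorem F203447 : act 1 n44090 = n43761 := d16_1 D44090 (iv D43761) (iv F201819)
theorem F203448 : act 2 n44090 = n43953 := d23_1 D44090 F202538 (iv F201820)
theorem F203449 : act 3 n44090 = n43764 := d29_1 D44090 (iv D43764) (iv F201821)
theorem F203450 : act 4 n44090 = n43770 := d34_1 D44090 (iv D43770) (iv F201822)
theorem F203451 : act 5 n44090 = n43760 := d38_1 D44090 (iv D43760) D43759
theorem F203452 : act 6 n44090 = n43769 := d41_1 D44090 (iv D43769) (iv F201823)
theorem F203453 : act 7 n44090 = n43774 := d43_1 D44090 (iv D43774) (iv F201824)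
def n44091 : Q := act 8 n43761
theorem D44091 : act 8 n43761 = n44091 := rfl
theorem F203454 : act 0 n44091 = n43775 := d7_1 D44091 (iv D43775) (iv F201834)
theorem F203455 : act 2 n44091 = n43825 := d22_1 D44091 (iv D43825) (iv F201835)
theorem F203456 : act 3 n44091 = n43765 := d28_1 D44091 (iv D43765) (iv F201836)
theorem F203457 : act 5 n44091 = n43817 := d37_1 D44091 (iv D43817) F199939 (iv F199501) (iv F201837)
theorem F203458 : act 7 n44091 = n43823 := d42_1 D44091 (iv D43823) (iv F201838)
theorem F203459 : act 9 n44091 = n44091 := d44_2 D43761 D44091 (iv D44091) (iv D43761) F199494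
def n44092 : Q := act 8 n43762
theorem D44092 : act 8 n43762 = n44092 := rfl
theorem F203460 : act 0 n44092 = n43780 := d7_1 D44092 (iv D43780) (iv F201839)
theorem F203461 : act 2 n44092 = n43836 := d22_1 D44092 (iv D43836) (iv F201840)
theorem F203462 : act 3 n44092 = n43817 := d28_1 D44092 (iv D43817) (iv F201841)
theorem F203463 : act 5 n44092 = n43765 := d37_1 D44092 (iv D43765) F199547 (iv F199522) (iv F201842)
theorem F203464 : act 7 n44092 = n43895 := d42_1 D44092 (iv D43895) (iv F201843)
theorem F203465 : act 9 n44092 = n44092 := d44_2 D43762 D44092 (iv D44092) (iv D43762) F199515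
def n44093 : Q := act 8 n43764
theorem D44093 : act 8 n43764 = n44093 := rfl
theorem F203466 : act 1 n44093 = n43765 := d15_1 D44093 (iv D43765) (iv F201852)
theorem F203467 : act 2 n44093 = n43929 := d22_1 D44093 (iv D43929) (iv F201853)
theorem F203468 : act 4 n44093 = n43775 := d33_1 D44093 (iv D43775) (iv F201854)
theorem F203469 : act 7 n44093 = n43796 := d42_1 D44093 (iv D43796) (iv F201856)
theorem F203470 : act 9 n44093 = n44093 := d44_2 D43764 D44093 (iv D44093) (iv D43764) F199541
def n44094 : Q := act 8 n43766
theorem D44094 : act 8 n43766 = n44094 := rfl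
theorem F203471 : act 0 n44094 = n43823 := d7_1 D44094 (iv D43823) (iv F201859)
theorem F203472 : act 2 n44094 = n43817 := d22_1 D44094 (iv D43817) (iv F201860)
theorem F203473 : act 3 n44094 = n43771 := d28_1 D44094 (iv D43771) (iv F201861)
theorem F203474 : act 4 n44094 = n43796 := d33_1 D44094 (iv D43796) (iv F201862)
theorem F203475 : act 5 n44094 = n43825 := d37_1 D44094 (iv D43825) F200019 (iv F199561) (iv F201863)
theorem F203476 : act 6 n44094 = n43795 := d40_1 D44094 (iv D43795) (iv F201864)
theorem F203477 : act 7 n44094 = n43775 := d42_1 D44094 (iv D43775) (iv F201865)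
theorem F203478 : act 9 n44094 = n44094 := d44_2 D43766 D44094 (iv D44094) (iv D43766) F199554
def n44095 : Q := act 8 n43768
theorem D44095 : act 8 n43768 = n44095 := rfl
theorem F203479 : act 1 n44095 = n43771 := d15_1 D44095 (iv D43771) (iv F201873)
theorem F203480 : act 5 n44095 = n43956 := d37_1 D44095 (iv D43956) F200586 (iv F199582) (iv F201874)
theorem F203481 : act 7 n44095 = n43794 := d42_1 D44095 (iv D43794) (iv F201875)
theorem F203482 : act 9 n44095 = n44095 := d44_2 D43768 D44095 (iv D44095) (iv D43768) F199578
def n44096 : Q := act 8 n43769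
theorem D44096 : act 8 n43769 = n44096 := rfl
theorem F203483 : act 4 n44096 = n43771 := d33_1 D44096 (iv D43771) (iv F201876)
theorem F203484 : act 5 n44096 = n43872 := d37_1 D44096 (iv D43872) F200197 (iv F199603) (iv F201877)
theorem F203485 : act 7 n44096 = n43795 := d42_1 D44096 (iv D43795) (iv F201878)
theorem F203486 : act 9 n44096 = n44096 := d44_2 D43769 D44096 (iv D44096) (iv D43769) F199593
def n44097 : Q := act 8 n43770
theorem D44097 : act 8 n43770 = n44097 := rfl
theorem F203487 : act 0 n44097 = n43794 := d7_1 D44097 (iv D43794) (iv F201879)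
theorem F203488 : act 3 n44097 = n43795 := d28_1 D44097 (iv D43795) (iv F201880)
theorem F203489 : act 5 n44097 = n43822 := d37_1 D44097 (iv D43822) F199987 (iv F199726) (iv F201881)
theorem F203490 : act 6 n44097 = n43771 := d40_1 D44097 (iv D43771) (iv F201882)
theorem F203491 : act 9 n44097 = n44097 := d44_2 D43770 D44097 (iv D44097) (iv D43770) F199597
def n44098 : Q := act 8 n43772
theorem D44098 : act 8 n43772 = n44098 := rfl
theorem F203492 : act 0 n44098 = n43825 := d7_1 D44098 (iv D43825) (iv F201885)
theorem F203493 : act 1 n44098 = n43948 := d15_1 D44098 (iv D43948) (iv F201886)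
theorem F203494 : act 2 n44098 = n43775 := d22_1 D44098 (iv D43775) (iv F201887)
theorem F203495 : act 3 n44098 = n43895 := d28_1 D44098 (iv D43895) (iv F201888)
theorem F203496 : act 4 n44098 = n43929 := d33_1 D44098 (iv D43929) (iv F201889)
theorem F203497 : act 5 n44098 = n43823 := d37_1 D44098 (iv D43823) F200000 (iv F199619) (iv F201890)
theorem F203498 : act 6 n44098 = n43952 := d40_1 D44098 F202535 (iv F201891)
theorem F203499 : act 7 n44098 = n43817 := d42_1 D44098 (iv D43817) (iv F201892)
theorem F203500 : act 9 n44098 = n44098 := d44_2 D43772 D44098 (iv D44098) (iv D43772) F199611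
def n44099 : Q := act 8 n43773
theorem D44099 : act 8 n43773 = n44099 := rfl
theorem F203501 : act 0 n44099 = n43826 := d7_1 D44099 (iv D43826) (iv F201893)
theorem F203502 : act 1 n44099 = n43817 := d15_1 D44099 (iv D43817) (iv F201894)
theorem F203503 : act 2 n44099 = n43951 := d22_1 D44099 (iv D43951) (iv F201895)
theorem F203504 : act 4 n44099 = n43888 := d33_1 D44099 (iv D43888) (iv F201896)
theorem F203505 : act 6 n44099 = n43909 := d40_1 D44099 (iv D43909) (iv F201898)
theorem F203506 : act 7 n44099 = n43948 := d42_1 D44099 (iv D43948) (iv F201899)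
theorem F203507 : act 9 n44099 = n44099 := d44_2 D43773 D44099 (iv D44099) (iv D43773) F199626
def n44100 : Q := act 8 n43774
theorem D44100 : act 8 n43774 = n44100 := rfl
theorem F203508 : act 1 n44100 = n43823 := d15_1 D44100 (iv D43823) (iv F201900)
theorem F203509 : act 2 n44100 = n43952 := d22_1 D44100 F202535 (iv F201901)
theorem F203510 : act 3 n44100 = n43796 := d28_1 D44100 (iv D43796) (iv F201902)
theorem F203511 : act 5 n44100 = n43948 := d37_1 D44100 (iv D43948) F200554 (iv F199998) (iv F201903)
theorem F203512 : act 6 n44100 = n43775 := d40_1 D44100 (iv D43775) (iv F201904)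
theorem F203513 : act 9 n44100 = n44100 := d44_2 D43774 D44100 (iv D44100) (iv D43774) F199644
def n44101 : Q := act 9 n43776
theorem D44101 : act 9 n43776 = n44101 := rfl
theorem F203514 : act 0 n44101 = n43941 := d8_1 D44101 (iv D43941) (iv F201908)
theorem F203515 : act 1 n44101 = n43874 := d16_1 D44101 (iv D43874) (iv F201909)
theorem F203516 : act 3 n44101 = n43798 := d29_1 D44101 (iv D43798) (iv F201910)
theorem F203517 : act 4 n44101 = n43779 := d34_1 D44101 (iv D43779) (iv F201911)
theorem F203518 : act 5 n44101 = n43801 := d38_1 D44101 (iv D43801) (iv F201912)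
theorem F203519 : act 6 n44101 = n43777 := d41_1 D44101 (iv D43777) D43776
def n44102 : Q := act 8 n43777
theorem D44102 : act 8 n43777 = n44102 := rfl
theorem F203520 : act 1 n44102 = n43882 := d15_1 D44102 (iv D43882) (iv F201914)
theorem F203521 : act 4 n44102 = n43780 := d33_1 D44102 (iv D43780) (iv F201915)
theorem F203522 : act 5 n44102 = n43856 := d37_1 D44102 (iv D43856) F200114 (iv F199665) (iv F201916)
theorem F203523 : act 9 n44102 = n44102 := d44_2 D43777 D44102 (iv D44102) (iv D43777) F199649
def n44103 : Q := act 9 n43778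
theorem D44103 : act 9 n43778 = n44103 := rfl
theorem F203524 : act 1 n44103 = n43949 := d16_1 D44103 (iv D43949) (iv F201917)
theorem F203525 : act 3 n44103 = n43827 := d29_1 D44103 (iv D43827) (iv F201918)
theorem F203526 : act 5 n44103 = n43922 := d38_1 D44103 (iv D43922) (iv F201919)
theorem F203527 : act 7 n44103 = n43779 := d43_1 D44103 (iv D43779) D43778
def n44104 : Q := act 8 n43779
theorem D44104 : act 8 n43779 = n44104 := rfl
theorem F203528 : act 1 n44104 = n43950 := d15_1 D44104 (iv D43950) (iv F201921)
theorem F203529 : act 3 n44104 = n43828 := d28_1 D44104 (iv D43828) (iv F201922)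
theorem F203530 : act 6 n44104 = n43780 := d40_1 D44104 (iv D43780) (iv F201924)
theorem F203531 : act 9 n44104 = n44104 := d44_2 D43779 D44104 (iv D44104) (iv D43779) F199653
def n44105 : Q := act 9 n43781
theorem D44105 : act 9 n43781 = n44105 := rfl
theorem F203532 : act 0 n44105 = n43954 := d8_1 D44105 (iv D43954) (iv F201929)
theorem F203533 : act 2 n44105 = n43782 := d23_1 D44105 (iv D43782) D43781
theorem F203534 : act 4 n44105 = n43784 := d34_1 D44105 (iv D43784) (iv F201930)
theorem F203535 : act 6 n44105 = n43851 := d41_1 D44105 F202214 (iv F201931)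
theorem F203536 : act 8 n44105 = n43850 := d44_1 D44105 (iv D43850) F200095 (iv F199670) (iv F201932)
def n44106 : Q := act 9 n43783
theorem D44106 : act 9 n43783 = n44106 := rfl
theorem F203537 : act 0 n44106 = n43945 := d8_1 D44106 F202519 (iv F201939)
theorem F203538 : act 1 n44106 = n43784 := d16_1 D44106 (iv D43784) D43783
theorem F203539 : act 2 n44106 = n43803 := d23_1 D44106 F202033 (iv F201940)
theorem F203540 : act 3 n44106 = n43786 := d29_1 D44106 (iv D43786) (iv F201941)
theorem F203541 : act 5 n44106 = n43808 := d38_1 D44106 F202060 (iv F201942)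
theorem F203542 : act 6 n44106 = n43804 := d41_1 D44106 F202038 (iv F201943)
theorem F203543 : act 8 n44106 = n43802 := d44_1 D44106 (iv D43802) F199805 (iv F199686) (iv F201944)
def n44107 : Q := act 9 n43785
theorem D44107 : act 9 n43785 = n44107 := rfl
theorem F203544 : act 0 n44107 = n43944 := d8_1 D44107 (iv D43944) (iv F201950)
theorem F203545 : act 1 n44107 = n43788 := d16_1 D44107 (iv D43788) (iv F201951)
theorem F203546 : act 2 n44107 = n43808 := d23_1 D44107 F202060 (iv F201952)
theorem F203547 : act 3 n44107 = n43804 := d29_1 D44107 F202038 (iv F201953)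
theorem F203548 : act 5 n44107 = n43803 := d38_1 D44107 F202033 (iv F201954)
theorem F203549 : act 6 n44107 = n43786 := d41_1 D44107 (iv D43786) D43785
theorem F203550 : act 8 n44107 = n43806 := d44_1 D44107 (iv D43806) F199830 (iv F199717) (iv F201955)
def n44108 : Q := act 9 n43787
theorem D44108 : act 9 n43787 = n44108 := rfl
theorem F203551 : act 2 n44108 = n43789 := d23_1 D44108 (iv D43789) (iv F201961)
theorem F203552 : act 3 n44108 = n43862 := d29_1 D44108 (iv D43862) (iv F201962)
theorem F203553 : act 5 n44108 = n43876 := d38_1 D44108 F202299 (iv F201963)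
theorem F203554 : act 7 n44108 = n43788 := d43_1 D44108 (iv D43788) D43787
theorem F203555 : act 8 n44108 = n43899 := d44_1 D44108 (iv D43899) F200336 (iv F199721) (iv F201964)
def n44109 : Q := act 9 n43790
theorem D44109 : act 9 n43790 = n44109 := rfl
theorem F203556 : act 0 n44109 = n43953 := d8_1 D44109 F202538 (iv F201975)
theorem F203557 : act 1 n44109 = n43902 := d16_1 D44109 (iv D43902) (iv F201976)
theorem F203558 : act 2 n44109 = n43793 := d23_1 D44109 (iv D43793) (iv F201977)
theorem F203559 : act 4 n44109 = n43791 := d34_1 D44109 (iv D43791) D43790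
theorem F203560 : act 5 n44109 = n43792 := d38_1 D44109 (iv D43792) (iv F201978)
theorem F203561 : act 6 n44109 = n43827 := d41_1 D44109 (iv D43827) (iv F201979)
theorem F203562 : act 7 n44109 = n43815 := d43_1 D44109 F202089 (iv F201980)
def n44110 : Q := act 8 n43791
theorem D44110 : act 8 n43791 = n44110 := rfl
theorem F203563 : act 1 n44110 = n43915 := d15_1 D44110 (iv D43915) (iv F201982)
theorem F203564 : act 2 n44110 = n43794 := d22_1 D44110 (iv D43794) (iv F201983)
theorem F203565 : act 5 n44110 = n43938 := d37_1 D44110 (iv D43938) F200494 (iv F199735) (iv F201984)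
theorem F203566 : act 6 n44110 = n43939 := d40_1 D44110 (iv D43939) (iv F201985)
theorem F203567 : act 9 n44110 = n44110 := d44_2 D43791 D44110 (iv D44110) (iv D43791) F199730
def n44111 : Q := act 8 n43793
theorem D44111 : act 8 n43793 = n44111 := rfl
theorem F203568 : act 1 n44111 = n43795 := d15_1 D44111 (iv D43795) (iv F201993)
theorem F203569 : act 4 n44111 = n43794 := d33_1 D44111 (iv D43794) (iv F201994)
theorem F203570 : act 5 n44111 = n43826 := d37_1 D44111 (iv D43826) F200022 (iv F199758) (iv F201995)
theorem F203571 : act 9 n44111 = n44111 := d44_2 D43793 D44111 (iv D44111) (iv D43793) F199752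
def n44112 : Q := act 5 n43796
theorem D44112 : act 5 n43796 = n44112 := rfl
theorem F203572 : act 1 n44112 = n43895 := d12_1 D44112 (iv F203442) F203439
theorem F203573 : act 2 n44112 = n43930 := d19_1 D44112 (iv D43930) (iv F202002)
theorem F203574 : act 3 n44112 = n43948 := d25_1 D44112 (iv F203511) F203510
theorem F203575 : act 8 n44112 = n43889 := d37_2 D43796 D44112 F202346 F200314 (iv F199762)
theorem F203576 : act 9 n44112 = n44112 := d38_2 F202004 D44112 (iv D44112)
def n44113 : Q := act 8 n43797
theorem D44113 : act 8 n43797 = n44113 := rfl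
theorem F203577 : act 1 n44113 = n43799 := d15_1 D44113 (iv D43799) (iv F202005)
theorem F203578 : act 3 n44113 = n43940 := d28_1 D44113 (iv D43940) (iv F202006)
theorem F203579 : act 5 n44113 = n43919 := d37_1 D44113 (iv D43919) F200415 (iv F199774) (iv F202007)
theorem F203580 : act 7 n44113 = n43920 := d42_1 D44113 F202441 (iv F202008)
theorem F203581 : act 9 n44113 = n44113 := d44_2 D43797 D44113 (iv D44113) (iv D43797) F199768
def n44114 : Q := act 8 n43798
theorem D44114 : act 8 n43798 = n44114 := rfl
theorem F203582 : act 0 n44114 = n43942 := d7_1 D44114 (iv D43942) (iv F202009)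
theorem F203583 : act 4 n44114 = n43799 := d33_1 D44114 (iv D43799) (iv F202010)
theorem F203584 : act 9 n44114 = n44114 := d44_2 D43798 D44114 (iv D44114) (iv D43798) F199786
def n44115 : Q := act 9 n43800
theorem D44115 : act 9 n43800 = n44115 := rfl
theorem F203585 : act 0 n44115 = n43943 := d8_1 D44115 (iv D43943) (iv F202014)
theorem F203586 : act 1 n44115 = n43850 := d16_1 D44115 (iv D43850) (iv F202015)
theorem F203587 : act 2 n44115 = n43801 := d23_1 D44115 (iv D43801) D43800
theorem F203588 : act 4 n44115 = n43802 := d34_1 D44115 (iv D43802) (iv F202016)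
theorem F203589 : act 6 n44115 = n43846 := d41_1 D44115 F202195 (iv F202017)
def n44116 : Q := act 9 n43805
theorem D44116 : act 9 n43805 = n44116 := rfl
theorem F203590 : act 0 n44116 = n43946 := d8_1 D44116 (iv D43946) (iv F202039)
theorem F203591 : act 1 n44116 = n43899 := d16_1 D44116 (iv D43899) (iv F202040)
theorem F203592 : act 2 n44116 = n43807 := d23_1 D44116 (iv D43807) (iv F202041)
theorem F203593 : act 3 n44116 = n43859 := d29_1 D44116 (iv D43859) (iv F202042)
theorem F203594 : act 5 n44116 = n43857 := d38_1 D44116 (iv D43857) (iv F202043)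
theorem F203595 : act 7 n44116 = n43806 := d43_1 D44116 (iv D43806) D43805
def n44117 : Q := act 8 n43809
theorem D44117 : act 8 n43809 = n44117 := rfl
theorem F203596 : act 0 n44117 = n43948 := d7_1 D44117 (iv D43948) (iv F202061)
theorem F203597 : act 1 n44117 = n43872 := d15_1 D44117 (iv D43872) (iv F202062)
theorem F203598 : act 2 n44117 = n43814 := d22_1 D44117 (iv D43814) (iv F202063)
theorem F203599 : act 6 n44117 = n43871 := d40_1 D44117 (iv D43871) (iv F202065)
theorem F203600 : act 7 n44117 = n43826 := d42_1 D44117 (iv D43826) (iv F202066)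
theorem F203601 : act 9 n44117 = n44117 := d44_2 D43809 D44117 (iv D44117) (iv D43809) F199879
def n44118 : Q := act 9 n43810
theorem D44118 : act 9 n43810 = n44118 := rfl
theorem F203602 : act 0 n44118 = n43949 := d8_1 D44118 (iv D43949) (iv F202067)
theorem F203603 : act 3 n44118 = n43813 := d29_1 D44118 (iv D43813) (iv F202068)
theorem F203604 : act 5 n44118 = n43812 := d38_1 D44118 (iv D43812) (iv F202069)
theorem F203605 : act 7 n44118 = n43811 := d43_1 D44118 (iv D43811) D43810
def n44119 : Q := act 8 n43811
theorem D44119 : act 8 n43811 = n44119 := rfl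
theorem F203606 : act 0 n44119 = n43950 := d7_1 D44119 (iv D43950) (iv F202071)
theorem F203607 : act 3 n44119 = n43814 := d28_1 D44119 (iv D43814) (iv F202072)
theorem F203608 : act 6 n44119 = n43822 := d40_1 D44119 (iv D43822) (iv F202074)
theorem F203609 : act 9 n44119 = n44119 := d44_2 D43811 D44119 (iv D44119) (iv D43811) F199889
def n44120 : Q := act 8 n43813
theorem D44120 : act 8 n43813 = n44120 := rfl
theorem F203610 : act 0 n44120 = n43951 := d7_1 D44120 (iv D43951) (iv F202080)
theorem F203611 : act 2 n44120 = n43826 := d22_1 D44120 (iv D43826) (iv F202081)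
theorem F203612 : act 7 n44120 = n43814 := d42_1 D44120 (iv D43814) (iv F202083)
theorem F203613 : act 9 n44120 = n44120 := d44_2 D43813 D44120 (iv D44120) (iv D43813) F199902
def n44121 : Q := act 5 n43814
theorem D44121 : act 5 n43814 = n44121 := rfl
theorem F203614 : act 0 n44121 = n43952 := d4_1 D44121 (iv D43952) (iv F202084)
theorem F203615 : act 6 n44121 = n43825 := d35_2 (iv F202085) D44121 (iv F203475) F203476 F202000
theorem F203616 : act 8 n44121 = n43815 := d37_2 D43814 D44121 (iv D43815) (iv D43361) (iv F199904)
theorem F203617 : act 9 n44121 = n44121 := d38_2 F202086 D44121 (iv D44121)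
def n44122 : Q := act 8 n43819
theorem D44122 : act 8 n43819 = n44122 := rfl
theorem F203618 : act 1 n44122 = n43822 := d15_1 D44122 (iv D43822) (iv F202102)
theorem F203619 : act 3 n44122 = n43826 := d28_1 D44122 (iv D43826) (iv F202103)
theorem F203620 : act 4 n44122 = n43930 := d33_1 D44122 F202474 (iv F202104)
theorem F203621 : act 9 n44122 = n44122 := d44_2 D43819 D44122 (iv D44122) (iv D43819) F199969
def n44123 : Q := act 9 n43820
theorem D44123 : act 9 n43820 = n44123 := rfl
theorem F203622 : act 0 n44123 = n43955 := d8_1 D44123 (iv D43955) (iv F202106)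
theorem F203623 : act 1 n44123 = n43868 := d16_1 D44123 (iv D43868) (iv F202107)
theorem F203624 : act 3 n44123 = n43864 := d29_1 D44123 (iv D43864) (iv F202108)
theorem F203625 : act 5 n44123 = n43863 := d38_1 D44123 (iv D43863) (iv F202109)
theorem F203626 : act 6 n44123 = n43821 := d41_1 D44123 (iv D43821) D43820
def n44124 : Q := act 8 n43821
theorem D44124 : act 8 n43821 = n44124 := rfl
theorem F203627 : act 0 n44124 = n43956 := d7_1 D44124 (iv D43956) (iv F202111)
theorem F203628 : act 3 n44124 = n43872 := d28_1 D44124 (iv D43872) (iv F202112)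
theorem F203629 : act 7 n44124 = n43822 := d42_1 D44124 (iv D43822) (iv F202114)
theorem F203630 : act 9 n44124 = n44124 := d44_2 D43821 D44124 (iv D44124) (iv D43821) F199984
def n44125 : Q := act 8 n43827
theorem D44125 : act 8 n43827 = n44125 := rfl
theorem F203631 : act 1 n44125 = n43951 := d15_1 D44125 (iv D43951) (iv F202130)
theorem F203632 : act 4 n44125 = n43939 := d33_1 D44125 (iv D43939) (iv F202131)
theorem F203633 : act 7 n44125 = n43828 := d42_1 D44125 (iv D43828) (iv F202133)
theorem F203634 : act 9 n44125 = n44125 := d44_2 D43827 D44125 (iv D44125) (iv D43827) F200026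
def n44126 : Q := act 9 n43829
theorem D44126 : act 9 n43829 = n44126 := rfl
theorem F203635 : act 1 n44126 = n43835 := d16_1 D44126 (iv D43835) (iv F202137)
theorem F203636 : act 3 n44126 = n43918 := d29_1 D44126 (iv D43918) (iv F202138)
theorem F203637 : act 5 n44126 = n43860 := d38_1 D44126 (iv D43860) (iv F202139)
theorem F203638 : act 6 n44126 = n43830 := d41_1 D44126 (iv D43830) D43829
def n44127 : Q := act 8 n43830
theorem D44127 : act 8 n43830 = n44127 := rfl
theorem F203639 : act 1 n44127 = n43836 := d15_1 D44127 (iv D43836) (iv F202141)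
theorem F203640 : act 3 n44127 = n43919 := d28_1 D44127 (iv D43919) (iv F202142)
theorem F203641 : act 5 n44127 = n43940 := d37_1 D44127 (iv D43940) F200508 (iv F200040) (iv F202143)
theorem F203642 : act 7 n44127 = n43917 := d42_1 D44127 (iv D43917) (iv F202144)
theorem F203643 : act 9 n44127 = n44127 := d44_2 D43830 D44127 (iv D44127) (iv D43830) F200034
def n44128 : Q := act 2 n43831
theorem D44128 : act 2 n43831 = n44128 := rfl
theorem F203644 : act 3 n44128 = n43891 := d17_2 D43831 D44128 F202351 (iv F200821) F200820
theorem F203645 : act 4 n44128 = n43834 := d18_2 F202931 D44128 (iv F202930)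
theorem F203646 : act 5 n44128 = n43837 := d19_2 (iv F202145) D44128 (iv D43837)
theorem F203647 : act 7 n44128 = n43832 := d21_2 (iv F202146) D44128 F202148
theorem F203648 : act 8 n44128 = n44128 := d22_2 F202147 D44128 (iv D44128)
theorem F203649 : act 6 n43890 = n44128 := d39_5 F203647 (iv D43832) F200042 (iv F200439) (iv F202349)
def n44129 : Q := act 6 n43831
theorem D44129 : act 6 n43831 = n44129 := rfl
theorem F203650 : act 2 n44129 = n43890 := d20_1 D44129 F203649 (iv D44128)
theorem F203651 : act 3 n44129 = n43832 := d26_1 D44129 (iv D43832) D43831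
theorem F203652 : act 4 n44129 = n43893 := d31_1 D44129 (iv F202933) F202931
theorem F203653 : act 5 n44129 = n43896 := d35_1 D44129 (iv F202665) (iv D43974) F200702 (iv F202145)
theorem F203654 : act 7 n44129 = n43891 := d39_2 (iv F202146) D44129 (iv D43891) (iv F200824) F200823
theorem F203655 : act 8 n44129 = n44129 := d40_2 F202147 D44129 (iv D44129)
def n44130 : Q := act 9 n43831
theorem D44130 : act 9 n43831 = n44130 := rfl
theorem F203656 : act 3 n44130 = n43833 := d29_1 D44130 (iv D43833) D43831
theorem F203657 : act 5 n44130 = n43838 := d38_1 D44130 (iv D43838) (iv F202145)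
theorem F203658 : act 7 n44130 = n43941 := d43_1 D44130 (iv D43941) (iv F202146)
def n44131 : Q := act 9 n43832
theorem D44131 : act 9 n43832 = n44131 := rfl
theorem F203659 : act 2 n44131 = n43941 := d23_1 D44131 (iv D43941) (iv F202148)
theorem F203660 : act 4 n44131 = n43835 := d34_1 D44131 (iv D43835) (iv F202149)
theorem F203661 : act 5 n44131 = n43943 := d38_1 D44131 (iv D43943) (iv F202150)
theorem F203662 : act 6 n44131 = n43833 := d41_1 D44131 (iv D43833) D43832
def n44132 : Q := act 8 n43833
theorem D44132 : act 8 n43833 = n44132 := rfl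
theorem F203663 : act 4 n44132 = n43836 := d33_1 D44132 (iv D43836) (iv F202152)
theorem F203664 : act 7 n44132 = n43942 := d42_1 D44132 (iv D43942) (iv F202154)
theorem F203665 : act 9 n44132 = n44132 := d44_2 D43833 D44132 (iv D44132) (iv D43833) F200043
def n44133 : Q := act 9 n43834
theorem D44133 : act 9 n43834 = n44133 := rfl
theorem F203666 : act 3 n44133 = n43928 := d29_1 D44133 (iv D43928) (iv F202155)
theorem F203667 : act 5 n44133 = n43865 := d38_1 D44133 (iv D43865) (iv F202156)
theorem F203668 : act 6 n44133 = n43924 := d41_1 D44133 (iv D43924) (iv F202157)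
theorem F203669 : act 7 n44133 = n43835 := d43_1 D44133 (iv D43835) D43834
def n44134 : Q := act 8 n43835
theorem D44134 : act 8 n43835 = n44134 := rfl
theorem F203670 : act 6 n44134 = n43836 := d40_1 D44134 (iv D43836) (iv F202160)
theorem F203671 : act 9 n44134 = n44134 := d44_2 D43835 D44134 (iv D44134) (iv D43835) F200045
def n44135 : Q := act 9 n43837
theorem D44135 : act 9 n43837 = n44135 := rfl
theorem F203672 : act 2 n44135 = n43838 := d23_1 D44135 (iv D43838) D43837
theorem F203673 : act 3 n44135 = n43954 := d29_1 D44135 (iv D43954) (iv F202163)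
theorem F203674 : act 4 n44135 = n43841 := d34_1 D44135 (iv D43841) (iv F202164)
theorem F203675 : act 7 n44135 = n43943 := d43_1 D44135 (iv D43943) (iv F202165)
def n44136 : Q := act 9 n43839
theorem D44136 : act 9 n43839 = n44136 := rfl
theorem F203676 : act 1 n44136 = n43841 := d16_1 D44136 (iv D43841) D43839
theorem F203677 : act 2 n44136 = n43947 := d23_1 D44136 F202524 (iv F202170)
theorem F203678 : act 3 n44136 = n43846 := d29_1 D44136 F202195 (iv F202171)
theorem F203679 : act 5 n44136 = n43844 := d38_1 D44136 F202187 (iv F202172)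
theorem F203680 : act 7 n44136 = n43944 := d43_1 D44136 (iv D43944) (iv F202173)
theorem F203681 : act 8 n44136 = n43946 := d44_1 D44136 (iv D43946) F200537 F200078 (iv F202174)
def n44137 : Q := act 5 n43840
theorem D44137 : act 5 n43840 = n44137 := rfl
theorem F203682 : act 2 n44137 = n43842 := d19_1 D44137 (iv D43842) (iv F202175)
theorem F203683 : act 3 n44137 = n43848 := d25_1 D44137 (iv D43848) (iv F202176)
theorem F203684 : act 4 n44137 = n43900 := d30_1 D44137 (iv D43900) (iv F201753) (iv F202656) F202655
theorem F203685 : act 6 n44137 = n43873 := d35_2 D43840 D44137 F202288 F201127 F201123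
theorem F203686 : act 7 n44137 = n43880 := d36_2 F203021 D44137 (iv F203020)
theorem F203687 : act 8 n44137 = n44137 := d37_2 (iv F202177) D44137 (iv D44137) F202177 F200081
def n44138 : Q := act 9 n43840
theorem D44138 : act 9 n43840 = n44138 := rfl
theorem F203688 : act 2 n44138 = n43843 := d23_1 D44138 (iv D43843) (iv F202175)
theorem F203689 : act 3 n44138 = n43850 := d29_1 D44138 (iv D43850) (iv F202176)
theorem F203690 : act 6 n44138 = n43841 := d41_1 D44138 (iv D43841) D43840
def n44139 : Q := act 8 n43841
theorem D44139 : act 8 n43841 = n44139 := rfl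
theorem F203691 : act 1 n44139 = n43946 := d15_1 D44139 (iv F203681) F203676
theorem F203692 : act 2 n44139 = n43844 := d22_1 D44139 (iv D43844) (iv F202178)
theorem F203693 : act 3 n44139 = n43851 := d28_1 D44139 (iv D43851) (iv F202179)
theorem F203694 : act 5 n44139 = n43947 := d37_1 D44139 (iv D43947) (iv F201800) (iv F202974) F202971
theorem F203695 : act 7 n44139 = n43945 := d42_1 D44139 (iv D43945) (iv F202180)
theorem F203696 : act 9 n44139 = n43847 := d44_2 D43841 D44139 (iv D43847) (iv D43407) (iv F200059)
def n44140 : Q := act 4 n43842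
theorem D44140 : act 4 n43842 = n44140 := rfl
theorem F203697 : act 2 n44140 = n43900 := d18_1 D44140 (iv F203684) F203682
theorem F203698 : act 3 n44140 = n43866 := d24_1 D44140 (iv D43866) F200181 (iv F200065) (iv F202181)
theorem F203699 : act 5 n44140 = n43898 := d30_2 D43842 D44140 F202666 (iv D43974) F200701
theorem F203700 : act 6 n44140 = n43934 := d31_2 F202980 D44140 (iv F202979)
theorem F203701 : act 7 n44140 = n43936 := d32_2 F203064 D44140 (iv F203062)
theorem F203702 : act 8 n44140 = n44140 := d33_2 F202182 D44140 (iv D44140)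
def n44141 : Q := act 9 n43842
theorem D44141 : act 9 n43842 = n44141 := rfl
theorem F203703 : act 3 n44141 = n43845 := d29_1 D44141 (iv D43845) (iv F202181)
theorem F203704 : act 5 n44141 = n43843 := d38_1 D44141 (iv D43843) D43842
def n44142 : Q := act 8 n43845
theorem D44142 : act 8 n43845 = n44142 := rfl
theorem F203705 : act 2 n44142 = n43856 := d22_1 D44142 (iv D43856) (iv F202188)
theorem F203706 : act 4 n44142 = n43871 := d33_1 D44142 (iv D43871) (iv F202189)
theorem F203707 : act 9 n44142 = n44142 := d44_2 D43845 D44142 (iv D44142) (iv D43845) F200066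
def n44143 : Q := act 7 n43848
theorem D44143 : act 7 n43848 = n44143 := rfl
theorem F203708 : act 2 n44143 = n43852 := d21_1 D44143 (iv D43852) (iv F202201)
theorem F203709 : act 3 n44143 = n43880 := d27_1 D44143 (iv F203686) F203683
theorem F203710 : act 4 n44143 = n43911 := d32_1 D44143 (iv D43911) (iv F202202)
theorem F203711 : act 5 n44143 = n43849 := d36_1 D44143 (iv D43849) D43848
theorem F203712 : act 6 n44143 = n43877 := d39_1 D44143 (iv D43877) (iv F201548) F201549 (iv F202203)
theorem F203713 : act 8 n44143 = n44143 := d42_2 F202204 D44143 (iv D44143)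
def n44144 : Q := act 9 n43848
theorem D44144 : act 9 n43848 = n44144 := rfl
theorem F203714 : act 2 n44144 = n43853 := d23_1 D44144 (iv D43853) (iv F202201)
theorem F203715 : act 4 n44144 = n43912 := d34_1 D44144 (iv D43912) (iv F202202)
theorem F203716 : act 5 n44144 = n43850 := d38_1 D44144 (iv D43850) D43848
theorem F203717 : act 6 n44144 = n43921 := d41_1 D44144 F202444 (iv F202203)
def n44145 : Q := act 9 n43849
theorem D44145 : act 9 n43849 = n44145 := rfl
theorem F203718 : act 2 n44145 = n43854 := d23_1 D44145 (iv D43854) (iv F202205)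
theorem F203719 : act 6 n44145 = n43946 := d41_1 D44145 (iv D43946) (iv F202206)
theorem F203720 : act 7 n44145 = n43850 := d43_1 D44145 (iv D43850) D43849
def n44146 : Q := act 9 n43852
theorem D44146 : act 9 n43852 = n44146 := rfl
theorem F203721 : act 3 n44146 = n43855 := d29_1 D44146 (iv D43855) (iv F202215)
theorem F203722 : act 5 n44146 = n43854 := d38_1 D44146 (iv D43854) (iv F202216)
theorem F203723 : act 7 n44146 = n43853 := d43_1 D44146 (iv D43853) D43852
def n44147 : Q := act 8 n43853
theorem D44147 : act 8 n43853 = n44147 := rfl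
theorem F203724 : act 3 n44147 = n43856 := d28_1 D44147 (iv D43856) (iv F202218)
theorem F203725 : act 9 n44147 = n44147 := d44_2 D43853 D44147 (iv D44147) (iv D43853) F200099
def n44148 : Q := act 8 n43855
theorem D44148 : act 8 n43855 = n44148 := rfl
theorem F203726 : act 4 n44148 = n43872 := d33_1 D44148 (iv D43872) (iv F202223)
theorem F203727 : act 7 n44148 = n43856 := d42_1 D44148 (iv D43856) (iv F202225)
theorem F203728 : act 9 n44148 = n44148 := d44_2 D43855 D44148 (iv D44148) (iv D43855) F200112
def n44149 : Q := act 9 n43858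
theorem D44149 : act 9 n43858 = n44149 := rfl
theorem F203729 : act 1 n44149 = n43904 := d16_1 D44149 (iv D43904) (iv F202233)
theorem F203730 : act 2 n44149 = n43860 := d23_1 D44149 (iv D43860) (iv F202234)
theorem F203731 : act 4 n44149 = n43945 := d34_1 D44149 F202519 (iv F202235)
theorem F203732 : act 6 n44149 = n43859 := d41_1 D44149 (iv D43859) D43858
theorem F203733 : act 8 n44149 = n43943 := d44_1 D44149 (iv D43943) F200515 (iv F200258) (iv F202236)
def n44150 : Q := act 9 n43861
theorem D44150 : act 9 n43861 = n44150 := rfl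
theorem F203734 : act 1 n44150 = n43943 := d16_1 D44150 (iv D43943) (iv F202247)
theorem F203735 : act 2 n44150 = n43863 := d23_1 D44150 (iv D43863) (iv F202248)
theorem F203736 : act 4 n44150 = n43944 := d34_1 D44150 (iv D43944) (iv F202249)
theorem F203737 : act 6 n44150 = n43862 := d41_1 D44150 (iv D43862) D43861
theorem F203738 : act 8 n44150 = n43904 := d44_1 D44150 (iv D43904) F200354 (iv F200176) (iv F202250)
def n44151 : Q := act 8 n43864
theorem D44151 : act 8 n43864 = n44151 := rfl
theorem F203739 : act 1 n44151 = n43871 := d15_1 D44151 (iv D43871) (iv F202261)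
theorem F203740 : act 5 n44151 = n43909 := d37_1 D44151 (iv D43909) F200369 (iv F200171) (iv F202262)
theorem F203741 : act 6 n44151 = n43872 := d40_1 D44151 (iv D43872) (iv F202263)
theorem F203742 : act 9 n44151 = n44151 := d44_2 D43864 D44151 (iv D44151) (iv D43864) F200167
def n44152 : Q := act 7 n43866
theorem D44152 : act 7 n43866 = n44152 := rfl
theorem F203743 : act 2 n44152 = n43905 := d21_1 D44152 (iv D43905) (iv F202267)
theorem F203744 : act 3 n44152 = n43936 := d27_1 D44152 (iv F203701) F203698
theorem F203745 : act 4 n44152 = n43867 := d32_1 D44152 (iv D43867) D43866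
theorem F203746 : act 5 n44152 = n43903 := d36_1 D44152 (iv D43903) (iv F202268)
theorem F203747 : act 6 n44152 = n43935 := d39_1 D44152 (iv D43935) (iv D43529) (iv F200478) (iv F202269)
theorem F203748 : act 8 n44152 = n44152 := d42_2 F202270 D44152 (iv D44152)
def n44153 : Q := act 9 n43866
theorem D44153 : act 9 n43866 = n44153 := rfl
theorem F203749 : act 2 n44153 = n43906 := d23_1 D44153 (iv D43906) (iv F202267)
theorem F203750 : act 4 n44153 = n43868 := d34_1 D44153 (iv D43868) D43866
theorem F203751 : act 5 n44153 = n43904 := d38_1 D44153 (iv D43904) (iv F202268)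
theorem F203752 : act 6 n44153 = n43931 := d41_1 D44153 F202477 (iv F202269)
def n44154 : Q := act 9 n43867
theorem D44154 : act 9 n43867 = n44154 := rfl
theorem F203753 : act 3 n44154 = n43870 := d29_1 D44154 (iv D43870) (iv F202271)
theorem F203754 : act 5 n44154 = n43869 := d38_1 D44154 (iv D43869) (iv F202272)
theorem F203755 : act 7 n44154 = n43868 := d43_1 D44154 (iv D43868) D43867
def n44155 : Q := act 8 n43868
theorem D44155 : act 8 n43868 = n44155 := rfl
theorem F203756 : act 3 n44155 = n43871 := d28_1 D44155 (iv D43871) (iv F202274)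
theorem F203757 : act 9 n44155 = n44155 := d44_2 D43868 D44155 (iv D44155) (iv D43868) F200182
def n44156 : Q := act 8 n43870
theorem D44156 : act 8 n43870 = n44156 := rfl
theorem F203758 : act 2 n44156 = n43872 := d22_1 D44156 (iv D43872) (iv F202279)
theorem F203759 : act 7 n44156 = n43871 := d42_1 D44156 (iv D43871) (iv F202281)
theorem F203760 : act 9 n44156 = n44156 := d44_2 D43870 D44156 (iv D44156) (iv D43870) F200190
def n44157 : Q := act 9 n43873
theorem D44157 : act 9 n43873 = n44157 := rfl
theorem F203761 : act 3 n44157 = n43921 := d29_1 D44157 F202444 (iv F202286)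
theorem F203762 : act 4 n44157 = n43949 := d34_1 D44157 (iv D43949) (iv F202287)
theorem F203763 : act 5 n44157 = n43875 := d38_1 D44157 (iv D43875) (iv F202288)
theorem F203764 : act 7 n44157 = n43874 := d43_1 D44157 (iv D43874) D43873
def n44158 : Q := act 8 n43874
theorem D44158 : act 8 n43874 = n44158 := rfl
theorem F203765 : act 4 n44158 = n43950 := d33_1 D44158 (iv D43950) (iv F202290)
theorem F203766 : act 6 n44158 = n43882 := d40_1 D44158 (iv D43882) (iv F202292)
theorem F203767 : act 9 n44158 = n44158 := d44_2 D43874 D44158 (iv D44158) (iv D43874) F200211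
def n44159 : Q := act 9 n43877
theorem D44159 : act 9 n43877 = n44159 := rfl
theorem F203768 : act 3 n44159 = n43881 := d29_1 D44159 (iv D43881) (iv F202300)
theorem F203769 : act 5 n44159 = n43879 := d38_1 D44159 (iv D43879) (iv F202301)
theorem F203770 : act 7 n44159 = n43878 := d43_1 D44159 (iv D43878) D43877
def n44160 : Q := act 8 n43878
theorem D44160 : act 8 n43878 = n44160 := rfl
theorem F203771 : act 3 n44160 = n43882 := d28_1 D44160 (iv D43882) (iv F202303)
theorem F203772 : act 9 n44160 = n44160 := d44_2 D43878 D44160 (iv D44160) (iv D43878) F200225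
def n44161 : Q := act 9 n43880
theorem D44161 : act 9 n43880 = n44161 := rfl
theorem F203773 : act 4 n44161 = n43955 := d34_1 D44161 (iv D43955) (iv F202308)
theorem F203774 : act 6 n44161 = n43881 := d41_1 D44161 (iv D43881) D43880
def n44162 : Q := act 8 n43881
theorem D44162 : act 8 n43881 = n44162 := rfl
theorem F203775 : act 4 n44162 = n43956 := d33_1 D44162 (iv D43956) (iv F202310)
theorem F203776 : act 7 n44162 = n43882 := d42_1 D44162 (iv D43882) (iv F202312)
theorem F203777 : act 9 n44162 = n44162 := d44_2 D43881 D44162 (iv D44162) (iv D43881) F200234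
def n44163 : Q := act 8 n43883
theorem D44163 : act 8 n43883 = n44163 := rfl
theorem F203778 : act 1 n44163 = n43939 := d15_1 D44163 (iv D43939) (iv F202315)
theorem F203779 : act 2 n44163 = n43888 := d22_1 D44163 (iv D43888) (iv F202316)
theorem F203780 : act 3 n44163 = n43920 := d28_1 D44163 F202441 (iv F202317)
theorem F203781 : act 4 n44163 = n43951 := d33_1 D44163 (iv D43951) (iv F202318)
theorem F203782 : act 5 n44163 = n43917 := d37_1 D44163 (iv D43917) F200412 (iv F200278) (iv F202319)
theorem F203783 : act 6 n44163 = n43915 := d40_1 D44163 (iv D43915) (iv F202320)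
theorem F203784 : act 7 n44163 = n43940 := d42_1 D44163 (iv D43940) (iv F202321)
theorem F203785 : act 9 n44163 = n44163 := d44_2 D43883 D44163 (iv D44163) (iv D43883) F200271
def n44164 : Q := act 9 n43884
theorem D44164 : act 9 n43884 = n44164 := rfl
theorem F203786 : act 1 n44164 = n43924 := d16_1 D44164 (iv D43924) (iv F202322)
theorem F203787 : act 3 n44164 = n43887 := d29_1 D44164 (iv D43887) (iv F202323)
theorem F203788 : act 5 n44164 = n43886 := d38_1 D44164 (iv D43886) (iv F202324)
theorem F203789 : act 7 n44164 = n43885 := d43_1 D44164 (iv D43885) D43884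
def n44165 : Q := act 8 n43885
theorem D44165 : act 8 n43885 = n44165 := rfl
theorem F203790 : act 1 n44165 = n43925 := d15_1 D44165 (iv D43925) (iv F202326)
theorem F203791 : act 3 n44165 = n43888 := d28_1 D44165 (iv D43888) (iv F202327)
theorem F203792 : act 6 n44165 = n43917 := d40_1 D44165 (iv D43917) (iv F202329)
theorem F203793 : act 9 n44165 = n44165 := d44_2 D43885 D44165 (iv D44165) (iv D43885) F200282
def n44166 : Q := act 8 n43887
theorem D44166 : act 8 n43887 = n44166 := rfl
theorem F203794 : act 1 n44166 = n43929 := d15_1 D44166 (iv D43929) (iv F202335)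
theorem F203795 : act 2 n44166 = n43940 := d22_1 D44166 (iv D43940) (iv F202336)
theorem F203796 : act 4 n44166 = n43948 := d33_1 D44166 (iv D43948) (iv F202337)
theorem F203797 : act 7 n44166 = n43888 := d42_1 D44166 (iv D43888) (iv F202339)
theorem F203798 : act 9 n44166 = n44166 := d44_2 D43887 D44166 (iv D44166) (iv D43887) F200296
def n44167 : Q := act 9 n43890
theorem D44167 : act 9 n43890 = n44167 := rfl
theorem F203799 : act 3 n44167 = n43892 := d29_1 D44167 (iv D43892) D43890
theorem F203800 : act 4 n44167 = n43924 := d34_1 D44167 (iv D43924) (iv F202347)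
theorem F203801 : act 5 n44167 = n43897 := d38_1 D44167 (iv D43897) (iv F202348)
theorem F203802 : act 7 n44167 = n43923 := d43_1 D44167 (iv D43923) (iv F202349)
def n44168 : Q := act 9 n43891
theorem D44168 : act 9 n43891 = n44168 := rfl
theorem F203803 : act 2 n44168 = n43923 := d23_1 D44168 (iv D43923) (iv F202351)
theorem F203804 : act 4 n44168 = n43894 := d34_1 D44168 (iv D43894) (iv F202352)
theorem F203805 : act 5 n44168 = n43954 := d38_1 D44168 (iv D43954) (iv F202353)
theorem F203806 : act 6 n44168 = n43892 := d41_1 D44168 (iv D43892) D43891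
def n44169 : Q := act 8 n43892
theorem D44169 : act 8 n43892 = n44169 := rfl
theorem F203807 : act 2 n44169 = n43942 := d22_1 D44169 (iv D43942) (iv F202355)
theorem F203808 : act 4 n44169 = n43895 := d33_1 D44169 (iv D43895) (iv F202356)
theorem F203809 : act 9 n44169 = n44169 := d44_2 D43892 D44169 (iv D44169) (iv D43892) F200317
def n44170 : Q := act 9 n43893
theorem D44170 : act 9 n43893 = n44170 := rfl
theorem F203810 : act 2 n44170 = n43924 := d23_1 D44170 (iv D43924) (iv F202358)
theorem F203811 : act 3 n44170 = n43953 := d29_1 D44170 F202538 (iv F202359)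
theorem F203812 : act 5 n44170 = n43910 := d38_1 D44170 (iv D43910) (iv F202360)
theorem F203813 : act 7 n44170 = n43894 := d43_1 D44170 (iv D43894) D43893
def n44171 : Q := act 8 n43894
theorem D44171 : act 8 n43894 = n44171 := rfl
theorem F203814 : act 2 n44171 = n43925 := d22_1 D44171 (iv D43925) (iv F202362)
theorem F203815 : act 3 n44171 = n43952 := d28_1 D44171 F202535 (iv F202363)
theorem F203816 : act 5 n44171 = n43950 := d37_1 D44171 (iv D43950) F200559 (iv F200384) (iv F202364)
theorem F203817 : act 6 n44171 = n43895 := d40_1 D44171 (iv D43895) (iv F202365)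
theorem F203818 : act 9 n44171 = n44171 := d44_2 D43894 D44171 (iv D44171) (iv D43894) F200321
def n44172 : Q := act 9 n43896
theorem D44172 : act 9 n43896 = n44172 := rfl
theorem F203819 : act 2 n44172 = n43897 := d23_1 D44172 (iv D43897) D43896
theorem F203820 : act 3 n44172 = n43943 := d29_1 D44172 (iv D43943) (iv F202368)
theorem F203821 : act 4 n44172 = n43899 := d34_1 D44172 (iv D43899) (iv F202369)
theorem F203822 : act 7 n44172 = n43954 := d43_1 D44172 (iv D43954) (iv F202370)
def n44173 : Q := act 9 n43898
theorem D44173 : act 9 n43898 = n44173 := rfl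
theorem F203823 : act 2 n44173 = n43901 := d23_1 D44173 (iv D43901) (iv F202375)
theorem F203824 : act 3 n44173 = n43904 := d29_1 D44173 (iv D43904) (iv F202376)
theorem F203825 : act 6 n44173 = n43899 := d41_1 D44173 (iv D43899) D43898
def n44174 : Q := act 9 n43900
theorem D44174 : act 9 n43900 = n44174 := rfl
theorem F203826 : act 3 n44174 = n43902 := d29_1 D44174 (iv D43902) (iv F202382)
theorem F203827 : act 5 n44174 = n43901 := d38_1 D44174 (iv D43901) D43900
theorem F203828 : act 6 n44174 = n43949 := d41_1 D44174 (iv D43949) (iv F202383)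
theorem F203829 : act 7 n44174 = n43955 := d43_1 D44174 (iv D43955) (iv F202384)
def n44175 : Q := act 8 n43902
theorem D44175 : act 8 n43902 = n44175 := rfl
theorem F203830 : act 2 n44175 = n43909 := d22_1 D44175 (iv D43909) (iv F202388)
theorem F203831 : act 4 n44175 = n43915 := d33_1 D44175 (iv D43915) (iv F202389)
theorem F203832 : act 6 n44175 = n43951 := d40_1 D44175 (iv D43951) (iv F202391)
theorem F203833 : act 9 n44175 = n44175 := d44_2 D43902 D44175 (iv D44175) (iv D43902) F200345
def n44176 : Q := act 9 n43903
theorem D44176 : act 9 n43903 = n44176 := rfl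
theorem F203834 : act 2 n44176 = n43907 := d23_1 D44176 (iv D43907) (iv F202392)
theorem F203835 : act 4 n44176 = n43946 := d34_1 D44176 (iv D43946) (iv F202393)
theorem F203836 : act 7 n44176 = n43904 := d43_1 D44176 (iv D43904) D43903
def n44177 : Q := act 9 n43905
theorem D44177 : act 9 n43905 = n44177 := rfl
theorem F203837 : act 3 n44177 = n43908 := d29_1 D44177 (iv D43908) (iv F202398)
theorem F203838 : act 5 n44177 = n43907 := d38_1 D44177 (iv D43907) (iv F202399)
theorem F203839 : act 7 n44177 = n43906 := d43_1 D44177 (iv D43906) D43905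
def n44178 : Q := act 8 n43906
theorem D44178 : act 8 n43906 = n44178 := rfl
theorem F203840 : act 3 n44178 = n43909 := d28_1 D44178 (iv D43909) (iv F202401)
theorem F203841 : act 9 n44178 = n44178 := d44_2 D43906 D44178 (iv D44178) (iv D43906) F200358
def n44179 : Q := act 8 n43908
theorem D44179 : act 8 n43908 = n44179 := rfl
theorem F203842 : act 4 n44179 = n43919 := d33_1 D44179 (iv D43919) (iv F202406)
theorem F203843 : act 7 n44179 = n43909 := d42_1 D44179 (iv D43909) (iv F202408)
theorem F203844 : act 9 n44179 = n44179 := d44_2 D43908 D44179 (iv D44179) (iv D43908) F200367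
def n44180 : Q := act 9 n43911
theorem D44180 : act 9 n43911 = n44180 := rfl
theorem F203845 : act 3 n44180 = n43914 := d29_1 D44180 (iv D43914) (iv F202417)
theorem F203846 : act 5 n44180 = n43913 := d38_1 D44180 (iv D43913) (iv F202418)
theorem F203847 : act 7 n44180 = n43912 := d43_1 D44180 (iv D43912) D43911
def n44181 : Q := act 8 n43912
theorem D44181 : act 8 n43912 = n44181 := rfl
theorem F203848 : act 3 n44181 = n43915 := d28_1 D44181 (iv D43915) (iv F202420)
theorem F203849 : act 6 n44181 = n43920 := d40_1 D44181 F202441 (iv F202422)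
theorem F203850 : act 9 n44181 = n44181 := d44_2 D43912 D44181 (iv D44181) (iv D43912) F200387
def n44182 : Q := act 8 n43914
theorem D44182 : act 8 n43914 = n44182 := rfl
theorem F203851 : act 2 n44182 = n43919 := d22_1 D44182 (iv D43919) (iv F202426)
theorem F203852 : act 7 n44182 = n43915 := d42_1 D44182 (iv D43915) (iv F202428)
theorem F203853 : act 9 n44182 = n44182 := d44_2 D43914 D44182 (iv D44182) (iv D43914) F200395
def n44183 : Q := act 5 n43915
theorem D44183 : act 5 n43915 = n44183 := rfl
theorem F203854 : act 1 n44183 = n43938 := d12_1 D44183 (iv F203565) F203563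
theorem F203855 : act 2 n44183 = n43920 := d19_1 D44183 (iv D43920) (iv F202429)
theorem F203856 : act 8 n44183 = n43916 := d37_2 D43915 D44183 (iv D43916) (iv D43502) (iv F200397)
theorem F203857 : act 9 n44183 = n44183 := d38_2 F202430 D44183 (iv D44183)
def n44184 : Q := act 8 n43918
theorem D44184 : act 8 n43918 = n44184 := rfl
theorem F203858 : act 5 n44184 = n43942 := d37_1 D44184 (iv D43942) F200512 (iv F200502) (iv F202437)
theorem F203859 : act 6 n44184 = n43919 := d40_1 D44184 (iv D43919) (iv F202438)
theorem F203860 : act 9 n44184 = n44184 := d44_2 D43918 D44184 (iv D44184) (iv D43918) F200414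
def n44185 : Q := act 4 n43920
theorem D44185 : act 4 n43920 = n44185 := rfl
theorem F203861 : act 8 n44185 = n43921 := d33_2 (iv F202441) D44185 (iv D43921)
theorem F203862 : act 9 n44185 = n44185 := d34_2 F202442 D44185 (iv D44185)
def n44186 : Q := act 8 n43923
theorem D44186 : act 8 n43923 = n44186 := rfl
theorem F203863 : act 4 n44186 = n43925 := d33_1 D44186 (iv D43925) (iv F202450)
theorem F203864 : act 6 n44186 = n43942 := d40_1 D44186 (iv D43942) (iv F202452)
theorem F203865 : act 9 n44186 = n44186 := d44_2 D43923 D44186 (iv D44186) (iv D43923) F200440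
def n44187 : Q := act 8 n43924
theorem D44187 : act 8 n43924 = n44187 := rfl
theorem F203866 : act 3 n44187 = n43929 := d28_1 D44187 (iv D43929) (iv F202453)
theorem F203867 : act 7 n44187 = n43925 := d42_1 D44187 (iv D43925) (iv F202455)
theorem F203868 : act 9 n44187 = n44187 := d44_2 D43924 D44187 (iv D44187) (iv D43924) F200443
def n44188 : Q := act 5 n43925
theorem D44188 : act 5 n43925 = n44188 := rfl
theorem F203869 : act 2 n44188 = n43950 := d19_1 D44188 (iv F203816) F203814
theorem F203870 : act 3 n44188 = n43930 := d25_1 D44188 (iv D43930) (iv F202456)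
theorem F203871 : act 6 n44188 = n43938 := d35_2 (iv F202457) D44188 (iv F203565) F203566 F202498
theorem F203872 : act 8 n44188 = n43927 := d37_2 D43925 D44188 (iv D43927) (iv D43519) (iv F200445)
theorem F203873 : act 9 n44188 = n44188 := d38_2 F202458 D44188 (iv D44188)
def n44189 : Q := act 5 n43926
theorem D44189 : act 5 n43926 = n44189 := rfl
theorem F203874 : act 2 n44189 = n43949 := d19_1 D44189 F202528 (iv F202459)
theorem F203875 : act 3 n44189 = n43931 := d25_1 D44189 (iv D43931) (iv F202460)
theorem F203876 : act 7 n44189 = n43927 := d36_2 (iv F202463) D44189 (iv D43927)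
theorem F203877 : act 9 n44189 = n43934 := d38_2 (iv F202464) D44189 (iv D43934)
def n44190 : Q := act 8 n43928
theorem D44190 : act 8 n43928 = n44190 := rfl
theorem F203878 : act 4 n44190 = n43952 := d33_1 D44190 F202535 (iv F202469)
theorem F203879 : act 6 n44190 = n43929 := d40_1 D44190 (iv D43929) (iv F202471)
theorem F203880 : act 9 n44190 = n44190 := d44_2 D43928 D44190 (iv D44190) (iv D43928) F200458
def n44191 : Q := act 5 n43929
theorem D44191 : act 5 n43929 = n44191 := rfl
theorem F203881 : act 7 n44191 = n43930 := d36_2 (iv F202472) D44191 (iv D43930)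
theorem F203882 : act 8 n44191 = n43931 := d37_2 D43929 D44191 (iv D43931) (iv D43523) (iv F200459)
theorem F203883 : act 9 n44191 = n44191 := d38_2 F202473 D44191 (iv D44191)
def n44192 : Q := act 6 n43930
theorem D44192 : act 6 n43930 = n44192 := rfl
theorem F203884 : act 3 n44192 = n43938 := d26_1 D44192 (iv F203871) F203870
theorem F203885 : act 8 n44192 = n43932 := d40_2 (iv F202474) D44192 (iv D43932)
theorem F203886 : act 9 n44192 = n44192 := d41_2 F202475 D44192 (iv D44192)
def n44193 : Q := act 7 n43932
theorem D44193 : act 7 n43932 = n44193 := rfl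
theorem F203887 : act 3 n44193 = n43937 := d27_1 D44193 F202495 (iv F202478)
theorem F203888 : act 5 n44193 = n43933 := d36_1 D44193 (iv D43933) (iv F202479)
theorem F203889 : act 9 n44193 = n43935 := d43_2 (iv F202480) D44193 (iv D43935)
def n44194 : Q := act 9 n43936
theorem D44194 : act 9 n43936 = n44194 := rfl
theorem F203890 : act 2 n44194 = n43955 := d23_1 D44194 (iv D43955) (iv F202491)
theorem F203891 : act 6 n44194 = n43937 := d41_1 D44194 (iv D43937) D43936
def n44195 : Q := act 8 n43937
theorem D44195 : act 8 n43937 = n44195 := rfl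
theorem F203892 : act 2 n44195 = n43956 := d22_1 D44195 (iv D43956) (iv F202493)
theorem F203893 : act 7 n44195 = n43938 := d42_1 D44195 (iv D43938) (iv F202495)
theorem F203894 : act 9 n44195 = n44195 := d44_2 D43937 D44195 (iv D44195) (iv D43937) F200492
def n44196 : Q := act 8 n43941
theorem D44196 : act 8 n43941 = n44196 := rfl
theorem F203895 : act 3 n44196 = n43942 := d28_1 D44196 (iv D43942) (iv F202502)
theorem F203896 : act 9 n44196 = n44196 := d44_2 D43941 D44196 (iv D44196) (iv D43941) F200510
def n44197 : Q := act 8 n43949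
theorem D44197 : act 8 n43949 = n44197 := rfl
theorem F203897 : act 3 n44197 = n43951 := d28_1 D44197 (iv D43951) (iv F202527)
theorem F203898 : act 7 n44197 = n43950 := d42_1 D44197 (iv D43950) (iv F202529)
theorem F203899 : act 9 n44197 = n44197 := d44_2 D43949 D44197 (iv D44197) (iv D43949) F200557
def n44198 : Q := act 5 n43951
theorem D44198 : act 5 n43951 = n44198 := rfl
theorem F203900 : act 7 n44198 = n43952 := d36_2 (iv F202533) D44198 (iv D43952)
theorem F203901 : act 8 n44198 = n43953 := d37_2 D43951 D44198 (iv D43953) (iv D43563) (iv F200565)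
theorem F203902 : act 9 n44198 = n44198 := d38_2 F202534 D44198 (iv D44198)
def n44199 : Q := act 8 n43955
theorem D44199 : act 8 n43955 = n44199 := rfl
theorem F203903 : act 6 n44199 = n43956 := d40_1 D44199 (iv D43956) (iv F202541)
theorem F203904 : act 9 n44199 = n44199 := d44_2 D43955 D44199 (iv D44199) (iv D43955) F200585
def n44200 : Q := act 2 n43957
theorem D44200 : act 2 n43957 = n44200 := rfl
theorem F203905 : act 0 n44200 = n44128 := d1_1 D44200 (iv D44128) (iv F202544)
theorem F203906 : act 1 n44200 = n44143 := d9_1 D44200 F203708 (iv F202976) F202977 (iv F202545)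
theorem F203907 : act 3 n44200 = n44033 := d17_2 D43957 D44200 F203088 F201647 (iv F200600)
theorem F203908 : act 4 n44200 = n43960 := d18_2 (iv F202546) D44200 F202564
theorem F203909 : act 5 n44200 = n43963 := d19_2 (iv F202547) D44200 (iv D43963)
theorem F203910 : act 7 n44200 = n43958 := d21_2 (iv F202548) D44200 F202552
theorem F203911 : act 8 n44200 = n44200 := d22_2 F202549 D44200 (iv D44200)
theorem F203912 : act 6 n44032 = n44200 := d39_5 F203910 (iv D43958) F200602 (iv F201649) (iv F203084)
def n44201 : Q := act 6 n43957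
theorem D44201 : act 6 n43957 = n44201 := rfl
theorem F203913 : act 0 n44201 = n44129 := d5_1 D44201 (iv D44129) (iv F202544)
theorem F203914 : act 1 n44201 = n44137 := d13_1 D44201 F203685 (iv F202545)
theorem F203915 : act 2 n44201 = n44032 := d20_1 D44201 F203912 (iv D44200)
theorem F203916 : act 3 n44201 = n43958 := d26_1 D44201 (iv D43958) D43957
theorem F203917 : act 4 n44201 = n44035 := d31_1 D44201 F203103 (iv F202546)
theorem F203918 : act 5 n44201 = n44038 := d35_1 D44201 F203122 F202172 (iv F200619) (iv F202547)
theorem F203919 : act 7 n44201 = n44033 := d39_2 (iv F202548) D44201 (iv D44033) F201309 D43776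
theorem F203920 : act 8 n44201 = n44201 := d40_2 F202549 D44201 (iv D44201)
def n44202 : Q := act 9 n43957
theorem D44202 : act 9 n43957 = n44202 := rfl
theorem F203921 : act 0 n44202 = n44130 := d8_1 D44202 (iv D44130) (iv F202544)
theorem F203922 : act 1 n44202 = n44157 := d16_1 D44202 (iv D44157) (iv F202545)
theorem F203923 : act 3 n44202 = n43959 := d29_1 D44202 (iv D43959) D43957
theorem F203924 : act 4 n44202 = n44103 := d34_1 D44202 (iv D44103) (iv F202546)
theorem F203925 : act 5 n44202 = n43964 := d38_1 D44202 (iv D43964) (iv F202547)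
theorem F203926 : act 7 n44202 = n44101 := d43_1 D44202 (iv D44101) (iv F202548)
def n44203 : Q := act 9 n43958
theorem D44203 : act 9 n43958 = n44203 := rfl
theorem F203927 : act 0 n44203 = n44131 := d8_1 D44203 (iv D44131) (iv F202550)
theorem F203928 : act 1 n44203 = n44144 := d16_1 D44203 (iv D44144) (iv F202551)
theorem F203929 : act 2 n44203 = n44101 := d23_1 D44203 (iv D44101) (iv F202552)
theorem F203930 : act 4 n44203 = n43961 := d34_1 D44203 (iv D43961) (iv F202553)
theorem F203931 : act 5 n44203 = n44115 := d38_1 D44203 (iv D44115) (iv F202554)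
theorem F203932 : act 6 n44203 = n43959 := d41_1 D44203 (iv D43959) D43958
def n44204 : Q := act 8 n43959
theorem D44204 : act 8 n43959 = n44204 := rfl
theorem F203933 : act 0 n44204 = n44132 := d7_1 D44204 (iv D44132) (iv F202556)
theorem F203934 : act 1 n44204 = n44185 := d15_1 D44204 F203861 (iv F202557)
theorem F203935 : act 2 n44204 = n44102 := d22_1 D44204 (iv D44102) (iv F202558)
theorem F203936 : act 4 n44204 = n43962 := d33_1 D44204 (iv D43962) (iv F202559)
theorem F203937 : act 5 n44204 = n44142 := d37_1 D44204 (iv D44142) F202190 (iv F200628) (iv F202560)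
theorem F203938 : act 7 n44204 = n44114 := d42_1 D44204 (iv D44114) (iv F202561)
theorem F203939 : act 9 n44204 = n44204 := d44_2 D43959 D44204 (iv D44204) (iv D43959) F200603
def n44205 : Q := act 9 n43960
theorem D44205 : act 9 n43960 = n44205 := rfl
theorem F203940 : act 0 n44205 = n44133 := d8_1 D44205 (iv D44133) (iv F202562)
theorem F203941 : act 1 n44205 = n44180 := d16_1 D44205 (iv D44180) (iv F202563)
theorem F203942 : act 2 n44205 = n44103 := d23_1 D44205 (iv D44103) (iv F202564)
theorem F203943 : act 3 n44205 = n44076 := d29_1 D44205 (iv D44076) (iv F202565)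
theorem F203944 : act 5 n44205 = n43987 := d38_1 D44205 (iv D43987) (iv F202566)
theorem F203945 : act 6 n44205 = n44072 := d41_1 D44205 (iv D44072) (iv F202567)
theorem F203946 : act 7 n44205 = n43961 := d43_1 D44205 (iv D43961) D43960
def n44206 : Q := act 8 n43961
theorem D44206 : act 8 n43961 = n44206 := rfl
theorem F203947 : act 0 n44206 = n44134 := d7_1 D44206 (iv D44134) (iv F202569)
theorem F203948 : act 1 n44206 = n44181 := d15_1 D44206 (iv D44181) (iv F202570)
theorem F203949 : act 2 n44206 = n44104 := d22_1 D44206 (iv D44104) (iv F202571)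
theorem F203950 : act 3 n44206 = n44110 := d28_1 D44206 (iv D44110) (iv F202572)
theorem F203951 : act 5 n44206 = n44192 := d37_1 D44206 F203885 F202479 (iv F200839) (iv F202573)
theorem F203952 : act 6 n44206 = n43962 := d40_1 D44206 (iv D43962) (iv F202574)
theorem F203953 : act 9 n44206 = n44206 := d44_2 D43961 D44206 (iv D44206) (iv D43961) F200609
def n44207 : Q := act 9 n43963
theorem D44207 : act 9 n43963 = n44207 := rfl
theorem F203954 : act 0 n44207 = n44135 := d8_1 D44207 (iv D44135) (iv F202582)
theorem F203955 : act 1 n44207 = n44145 := d16_1 D44207 (iv D44145) (iv F202583)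
theorem F203956 : act 2 n44207 = n43964 := d23_1 D44207 (iv D43964) D43963
theorem F203957 : act 3 n44207 = n44105 := d29_1 D44207 (iv D44105) (iv F202584)
theorem F203958 : act 4 n44207 = n43967 := d34_1 D44207 (iv D43967) (iv F202585)
theorem F203959 : act 6 n44207 = n44139 := d41_1 D44207 F203696 (iv F202586)
theorem F203960 : act 7 n44207 = n44115 := d43_1 D44207 (iv D44115) (iv F202587)
theorem F203961 : act 8 n44207 = n44138 := d44_1 D44207 (iv D44138) F202177 (iv F200636) (iv F202588)
def n44208 : Q := act 9 n43965
theorem D44208 : act 9 n43965 = n44208 := rfl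
theorem F203962 : act 0 n44208 = n44108 := d8_1 D44208 (iv D44108) F202602
theorem F203963 : act 1 n44208 = n43967 := d16_1 D44208 (iv D43967) D43965
theorem F203964 : act 2 n44208 = n44009 := d23_1 D44208 (iv D44009) (iv F202596)
theorem F203965 : act 3 n44208 = n43976 := d29_1 D44208 (iv D43976) (iv F202597)
theorem F203966 : act 4 n44208 = n44145 := d34_1 D44208 (iv D44145) (iv F202598)
theorem F203967 : act 5 n44208 = n44001 := d38_1 D44208 F202854 (iv F202599)
theorem F203968 : act 6 n44208 = n44176 := d41_1 D44208 (iv D44176) F202603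
theorem F203969 : act 7 n44208 = n44002 := d43_1 D44208 F202861 (iv F202600)
theorem F203970 : act 8 n44208 = n44041 := d44_1 D44208 (iv D44041) F201348 F200681 (iv F202601)
def n44209 : Q := act 5 n43966
theorem D44209 : act 5 n43966 = n44209 := rfl
theorem F203971 : act 0 n44209 = n44137 := d4_1 D44209 (iv D44137) (iv F202604)
theorem F203972 : act 1 n44209 = n44152 := d12_1 D44209 F203746 (iv F202605)
theorem F203973 : act 2 n44209 = n43968 := d19_1 D44209 (iv D43968) (iv F202606)
theorem F203974 : act 3 n44209 = n43977 := d25_1 D44209 (iv D43977) (iv F202607)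
theorem F203975 : act 4 n44209 = n44042 := d30_1 D44209 (iv D44042) F201352 (iv F202199) (iv F202608)
theorem F203976 : act 6 n44209 = n43998 := d35_2 D43966 D44209 F202830 F200932 (iv F200639)
theorem F203977 : act 7 n44209 = n44006 := d36_2 (iv F202609) D44209 F202889
theorem F203978 : act 8 n44209 = n44209 := d37_2 (iv F202610) D44209 (iv D44209) F202610 F200687
def n44210 : Q := act 9 n43966
theorem D44210 : act 9 n43966 = n44210 := rfl
theorem F203979 : act 0 n44210 = n44138 := d8_1 D44210 (iv D44138) (iv F202604)
theorem F203980 : act 1 n44210 = n44176 := d16_1 D44210 (iv D44176) (iv F202605)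
theorem F203981 : act 2 n44210 = n43969 := d23_1 D44210 (iv D43969) (iv F202606)
theorem F203982 : act 3 n44210 = n43979 := d29_1 D44210 (iv D43979) (iv F202607)
theorem F203983 : act 4 n44210 = n44139 := d34_1 D44210 F203696 (iv F202608)
theorem F203984 : act 6 n44210 = n43967 := d41_1 D44210 (iv D43967) D43966
theorem F203985 : act 7 n44210 = n44149 := d43_1 D44210 (iv D44149) (iv F202609)
theorem F203986 : act 8 n44210 = n44135 := d44_1 D44210 (iv D44135) F202166 F200689 (iv F202610)
def n44211 : Q := act 8 n43967
theorem D44211 : act 8 n43967 = n44211 := rfl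
theorem F203987 : act 0 n44211 = n44139 := d7_1 D44211 (iv D44139) (iv F202611)
theorem F203988 : act 1 n44211 = n44041 := d15_1 D44211 (iv F203970) F203963
theorem F203989 : act 2 n44211 = n43970 := d22_1 D44211 (iv D43970) (iv F202612)
theorem F203990 : act 3 n44211 = n43980 := d28_1 D44211 (iv D43980) (iv F202613)
theorem F203991 : act 4 n44211 = n44138 := d33_1 D44211 (iv F203961) F203958
theorem F203992 : act 5 n44211 = n44085 := d37_1 D44211 F203420 F202054 (iv F202093) (iv F202614)
theorem F203993 : act 6 n44211 = n44135 := d40_1 D44211 (iv F203986) F203984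
theorem F203994 : act 7 n44211 = n44106 := d42_1 D44211 F203543 (iv F202615)
theorem F203995 : act 9 n44211 = n43973 := d44_2 D43967 D44211 (iv D43973) (iv D43589) (iv F200641)
def n44212 : Q := act 4 n43968
theorem D44212 : act 4 n43968 = n44212 := rfl
theorem F203996 : act 0 n44212 = n44140 := d3_1 D44212 (iv D44140) (iv F202616)
theorem F203997 : act 1 n44212 = n44128 := d11_1 D44212 F203645 (iv F202617)
theorem F203998 : act 2 n44212 = n44042 := d18_1 D44212 (iv F203975) F203973
theorem F203999 : act 3 n44212 = n43988 := d24_1 D44212 (iv D43988) F200843 (iv F200656) (iv F202618)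
theorem F204000 : act 5 n44212 = n44040 := d30_2 D43968 D44212 F203136 F202172 (iv F200645)
theorem F204001 : act 6 n44212 = n44083 := d31_2 (iv F202619) D44212 F203404
theorem F204002 : act 7 n44212 = n44086 := d32_2 (iv F202620) D44212 F203424
theorem F204003 : act 8 n44212 = n44212 := d33_2 F202621 D44212 (iv D44212)
def n44213 : Q := act 9 n43968
theorem D44213 : act 9 n43968 = n44213 := rfl
theorem F204004 : act 0 n44213 = n44141 := d8_1 D44213 (iv D44141) (iv F202616)
theorem F204005 : act 1 n44213 = n44133 := d16_1 D44213 (iv D44133) (iv F202617)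
theorem F204006 : act 3 n44213 = n43971 := d29_1 D44213 (iv D43971) (iv F202618)
theorem F204007 : act 5 n44213 = n43969 := d38_1 D44213 (iv D43969) D43968
theorem F204008 : act 6 n44213 = n44164 := d41_1 D44213 (iv D44164) (iv F202619)
theorem F204009 : act 7 n44213 = n44126 := d43_1 D44213 (iv D44126) (iv F202620)
def n44214 : Q := act 5 n43970
theorem D44214 : act 5 n43970 = n44214 := rfl
theorem F204010 : act 0 n44214 = n44136 := d4_1 D44214 F203679 (iv F202629)
theorem F204011 : act 1 n44214 = n44108 := d12_1 D44214 F203553 (iv F202630)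
theorem F204012 : act 2 n44214 = n44085 := d19_1 D44214 (iv F203992) F203989
theorem F204013 : act 3 n44214 = n43972 := d25_1 D44214 (iv D43972) (iv F202631)
theorem F204014 : act 7 n44214 = n44107 := d36_2 (iv F202634) D44214 F203548
theorem F204015 : act 8 n44214 = n44116 := d37_2 D43970 D44214 F203594 F202232 (iv F200651)
theorem F204016 : act 9 n44214 = n43974 := d38_2 (iv F202635) D44214 (iv D43974)
theorem F204017 : act 4 n44173 = n44214 := d34_3 F204016 (iv F202666) D44173
theorem F204018 : act 6 n44172 = n44214 := d41_3 F204016 F202665 D44172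
def n44215 : Q := act 8 n43971
theorem D44215 : act 8 n43971 = n44215 := rfl
theorem F204019 : act 0 n44215 = n44142 := d7_1 D44215 (iv D44142) (iv F202636)
theorem F204020 : act 1 n44215 = n44190 := d15_1 D44215 (iv D44190) (iv F202637)
theorem F204021 : act 2 n44215 = n43985 := d22_1 D44215 (iv D43985) (iv F202638)
theorem F204022 : act 4 n44215 = n43993 := d33_1 D44215 (iv D43993) (iv F202639)
theorem F204023 : act 5 n44215 = n44132 := d37_1 D44215 (iv D44132) F202153 (iv F200666) (iv F202640)
theorem F204024 : act 6 n44215 = n44166 := d40_1 D44215 (iv D44166) (iv F202641)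
theorem F204025 : act 7 n44215 = n44184 := d42_1 D44215 (iv D44184) (iv F202642)
theorem F204026 : act 9 n44215 = n44215 := d44_2 D43971 D44215 (iv D44215) (iv D43971) F200659
def n44216 : Q := act 9 n43975
theorem D44216 : act 9 n43975 = n44216 := rfl
theorem F204027 : act 0 n44216 = n44150 := d8_1 D44216 (iv D44150) (iv F202667)
theorem F204028 : act 1 n44216 = n43979 := d16_1 D44216 (iv D43979) (iv F202668)
theorem F204029 : act 2 n44216 = n44010 := d23_1 D44216 (iv D44010) (iv F202669)
theorem F204030 : act 3 n44216 = n44176 := d29_1 D44216 (iv D44176) (iv F202670)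
theorem F204031 : act 4 n44216 = n44107 := d34_1 D44216 (iv D44107) (iv F202671)
theorem F204032 : act 5 n44216 = n44194 := d38_1 D44216 (iv D44194) (iv F202672)
theorem F204033 : act 6 n44216 = n43976 := d41_1 D44216 (iv D43976) D43975
theorem F204034 : act 7 n44216 = n44173 := d43_1 D44216 (iv D44173) (iv F202673)
theorem F204035 : act 8 n44216 = n44046 := d44_1 D44216 (iv D44046) F201386 (iv F200802) (iv F202674)
def n44217 : Q := act 7 n43977
theorem D44217 : act 7 n43977 = n44217 := rfl
theorem F204036 : act 0 n44217 = n44143 := d6_1 D44217 (iv D44143) (iv F202682)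
theorem F204037 : act 1 n44217 = n44140 := d14_1 D44217 F203701 (iv F202683)
theorem F204038 : act 2 n44217 = n43981 := d21_1 D44217 (iv D43981) (iv F202684)
theorem F204039 : act 3 n44217 = n44006 := d27_1 D44217 (iv F203977) F203974
theorem F204040 : act 4 n44217 = n44056 := d32_1 D44217 (iv D44056) (iv F202685)
theorem F204041 : act 5 n44217 = n43978 := d36_1 D44217 (iv D43978) D43977
theorem F204042 : act 6 n44217 = n44003 := d39_1 D44217 (iv D44003) F200959 (iv F201574) (iv F202686)
theorem F204043 : act 8 n44217 = n44217 := d42_2 F202687 D44217 (iv D44217)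
def n44218 : Q := act 9 n43977
theorem D44218 : act 9 n43977 = n44218 := rfl
theorem F204044 : act 0 n44218 = n44144 := d8_1 D44218 (iv D44144) (iv F202682)
theorem F204045 : act 1 n44218 = n44194 := d16_1 D44218 (iv D44194) (iv F202683)
theorem F204046 : act 2 n44218 = n43982 := d23_1 D44218 (iv D43982) (iv F202684)
theorem F204047 : act 4 n44218 = n44057 := d34_1 D44218 (iv D44057) (iv F202685)
theorem F204048 : act 5 n44218 = n43979 := d38_1 D44218 (iv D43979) D43977
theorem F204049 : act 6 n44218 = n44065 := d41_1 D44218 F203290 (iv F202686)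
def n44219 : Q := act 9 n43978
theorem D44219 : act 9 n43978 = n44219 := rfl
theorem F204050 : act 0 n44219 = n44145 := d8_1 D44219 (iv D44145) (iv F202688)
theorem F204051 : act 1 n44219 = n44173 := d16_1 D44219 (iv D44173) (iv F202689)
theorem F204052 : act 2 n44219 = n43983 := d23_1 D44219 (iv D43983) (iv F202690)
theorem F204053 : act 3 n44219 = n44149 := d29_1 D44219 (iv D44149) (iv F202691)
theorem F204054 : act 4 n44219 = n44108 := d34_1 D44219 (iv D44108) (iv F202692)
theorem F204055 : act 6 n44219 = n44116 := d41_1 D44219 (iv D44116) (iv F202693)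
theorem F204056 : act 7 n44219 = n43979 := d43_1 D44219 (iv D43979) D43978
theorem F204057 : act 8 n44219 = n44172 := d44_1 D44219 (iv D44172) F202371 (iv F200810) (iv F202694)
def n44220 : Q := act 9 n43981
theorem D44220 : act 9 n43981 = n44220 := rfl
theorem F204058 : act 0 n44220 = n44146 := d8_1 D44220 (iv D44146) (iv F202708)
theorem F204059 : act 1 n44220 = n44072 := d16_1 D44220 (iv D44072) (iv F202709)
theorem F204060 : act 3 n44220 = n43984 := d29_1 D44220 (iv D43984) (iv F202710)
theorem F204061 : act 4 n44220 = n44159 := d34_1 D44220 (iv D44159) (iv F202711)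
theorem F204062 : act 5 n44220 = n43983 := d38_1 D44220 (iv D43983) (iv F202712)
theorem F204063 : act 6 n44220 = n44180 := d41_1 D44220 (iv D44180) (iv F202713)
theorem F204064 : act 7 n44220 = n43982 := d43_1 D44220 (iv D43982) D43981
def n44221 : Q := act 8 n43982
theorem D44221 : act 8 n43982 = n44221 := rfl
theorem F204065 : act 0 n44221 = n44147 := d7_1 D44221 (iv D44147) (iv F202715)
theorem F204066 : act 1 n44221 = n44073 := d15_1 D44221 (iv D44073) (iv F202716)
theorem F204067 : act 3 n44221 = n43985 := d28_1 D44221 (iv D43985) (iv F202717)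
theorem F204068 : act 4 n44221 = n44160 := d33_1 D44221 (iv D44160) (iv F202718)
theorem F204069 : act 5 n44221 = n44186 := d37_1 D44221 (iv D44186) F202451 (iv F200751) (iv F202719)
theorem F204070 : act 6 n44221 = n44113 := d40_1 D44221 (iv D44113) (iv F202720)
theorem F204071 : act 9 n44221 = n44221 := d44_2 D43982 D44221 (iv D44221) (iv D43982) F200739
def n44222 : Q := act 8 n43984
theorem D44222 : act 8 n43984 = n44222 := rfl
theorem F204072 : act 0 n44222 = n44148 := d7_1 D44222 (iv D44148) (iv F202728)
theorem F204073 : act 1 n44222 = n44077 := d15_1 D44222 (iv D44077) (iv F202729)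
theorem F204074 : act 2 n44222 = n44184 := d22_1 D44222 (iv D44184) (iv F202730)
theorem F204075 : act 4 n44222 = n43995 := d33_1 D44222 (iv D43995) (iv F202731)
theorem F204076 : act 5 n44222 = n44169 := d37_1 D44222 (iv D44169) F202357 (iv F200778) (iv F202732)
theorem F204077 : act 6 n44222 = n44182 := d40_1 D44222 (iv D44182) (iv F202733)
theorem F204078 : act 7 n44222 = n43985 := d42_1 D44222 (iv D43985) (iv F202734)
theorem F204079 : act 9 n44222 = n44222 := d44_2 D43984 D44222 (iv D44222) (iv D43984) F200766
def n44223 : Q := act 5 n43985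
theorem D44223 : act 5 n43985 = n44223 := rfl
theorem F204080 : act 0 n44223 = n44102 := d4_1 D44223 F203522 (iv F202735)
theorem F204081 : act 1 n44223 = n44078 := d12_1 D44223 (iv D44078) (iv F202736)
theorem F204082 : act 2 n44223 = n44132 := d19_1 D44223 (iv F204023) F204021
theorem F204083 : act 3 n44223 = n44186 := d25_1 D44223 (iv F204069) F204067
theorem F204084 : act 4 n44223 = n44092 := d30_1 D44223 F203463 F202815 (iv D43996) (iv F202737)
theorem F204085 : act 7 n44223 = n44169 := d36_2 F204078 D44223 (iv F204076)
theorem F204086 : act 8 n44223 = n43986 := d37_2 D43985 D44223 (iv D43986) (iv D43603) (iv F200770)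
theorem F204087 : act 9 n44223 = n44223 := d38_2 F202739 D44223 (iv D44223)
theorem F204088 : act 6 n44196 = n44223 := d40_3 F204086 F202745 D44196
def n44224 : Q := act 7 n43988
theorem D44224 : act 7 n43988 = n44224 := rfl
theorem F204089 : act 0 n44224 = n44152 := d6_1 D44224 (iv D44152) (iv F202756)
theorem F204090 : act 1 n44224 = n44129 := d14_1 D44224 F203654 (iv F202757)
theorem F204091 : act 2 n44224 = n44047 := d21_1 D44224 (iv D44047) (iv F202758)
theorem F204092 : act 3 n44224 = n44086 := d27_1 D44224 (iv F204002) F203999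
theorem F204093 : act 4 n44224 = n43989 := d32_1 D44224 (iv D43989) D43988
theorem F204094 : act 5 n44224 = n44045 := d36_1 D44224 (iv D44045) (iv F202759)
theorem F204095 : act 6 n44224 = n44084 := d39_1 D44224 (iv D44084) (iv D43747) (iv F201727) (iv F202760)
theorem F204096 : act 8 n44224 = n44224 := d42_2 F202761 D44224 (iv D44224)
def n44225 : Q := act 9 n43988
theorem D44225 : act 9 n43988 = n44225 := rfl
theorem F204097 : act 0 n44225 = n44153 := d8_1 D44225 (iv D44153) (iv F202756)
theorem F204098 : act 1 n44225 = n44168 := d16_1 D44225 (iv D44168) (iv F202757)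
theorem F204099 : act 2 n44225 = n44048 := d23_1 D44225 (iv D44048) (iv F202758)
theorem F204100 : act 4 n44225 = n43990 := d34_1 D44225 (iv D43990) D43988
theorem F204101 : act 5 n44225 = n44046 := d38_1 D44225 (iv D44046) (iv F202759)
theorem F204102 : act 6 n44225 = n44079 := d41_1 D44225 F203376 (iv F202760)
def n44226 : Q := act 9 n43989
theorem D44226 : act 9 n43989 = n44226 := rfl
theorem F204103 : act 0 n44226 = n44154 := d8_1 D44226 (iv D44154) (iv F202762)
theorem F204104 : act 1 n44226 = n44170 := d16_1 D44226 (iv D44170) (iv F202763)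
theorem F204105 : act 2 n44226 = n44193 := d23_1 D44226 F203889 (iv F202764)
theorem F204106 : act 3 n44226 = n43992 := d29_1 D44226 (iv D43992) (iv F202765)
theorem F204107 : act 5 n44226 = n43991 := d38_1 D44226 (iv D43991) (iv F202766)
theorem F204108 : act 6 n44226 = n44177 := d41_1 D44226 (iv D44177) (iv F202767)
theorem F204109 : act 7 n44226 = n43990 := d43_1 D44226 (iv D43990) D43989
def n44227 : Q := act 8 n43990
theorem D44227 : act 8 n43990 = n44227 := rfl
theorem F204110 : act 0 n44227 = n44155 := d7_1 D44227 (iv D44155) (iv F202769)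
theorem F204111 : act 1 n44227 = n44171 := d15_1 D44227 (iv D44171) (iv F202770)
theorem F204112 : act 2 n44227 = n44192 := d22_1 D44227 F203885 (iv F202771)
theorem F204113 : act 3 n44227 = n43993 := d28_1 D44227 (iv D43993) (iv F202772)
theorem F204114 : act 5 n44227 = n44104 := d37_1 D44227 (iv D44104) F201923 (iv F200859) (iv F202773)
theorem F204115 : act 6 n44227 = n44112 := d40_1 D44227 F203575 (iv F202774)
theorem F204116 : act 9 n44227 = n44227 := d44_2 D43990 D44227 (iv D44227) (iv D43990) F200845
def n44228 : Q := act 8 n43992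
theorem D44228 : act 8 n43992 = n44228 := rfl
theorem F204117 : act 0 n44228 = n44156 := d7_1 D44228 (iv D44156) (iv F202783)
theorem F204118 : act 1 n44228 = n44198 := d15_1 D44228 F203901 (iv F202784)
theorem F204119 : act 2 n44228 = n43995 := d22_1 D44228 (iv D43995) (iv F202785)
theorem F204120 : act 4 n44228 = n44184 := d33_1 D44228 (iv D44184) (iv F202786)
theorem F204121 : act 5 n44228 = n44125 := d37_1 D44228 (iv D44125) F202132 (iv F200878) (iv F202787)
theorem F204122 : act 6 n44228 = n44179 := d40_1 D44228 (iv D44179) (iv F202788)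
theorem F204123 : act 7 n44228 = n43993 := d42_1 D44228 (iv D43993) (iv F202789)
theorem F204124 : act 9 n44228 = n44228 := d44_2 D43992 D44228 (iv D44228) (iv D43992) F200866
def n44229 : Q := act 8 n43994
theorem D44229 : act 8 n43994 = n44229 := rfl
theorem F204125 : act 0 n44229 = n44151 := d7_1 D44229 (iv D44151) (iv F202796)
theorem F204126 : act 1 n44229 = n44121 := d15_1 D44229 F203616 (iv F202797)
theorem F204127 : act 2 n44229 = n44179 := d22_1 D44229 (iv D44179) (iv F202798)
theorem F204128 : act 3 n44229 = n44199 := d28_1 D44229 (iv D44199) (iv F202799)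
theorem F204129 : act 4 n44229 = n44182 := d33_1 D44229 (iv D44182) (iv F202800)
theorem F204130 : act 5 n44229 = n44051 := d37_1 D44229 (iv D44051) F201419 (iv F201076) (iv F202801)
theorem F204131 : act 6 n44229 = n43995 := d40_1 D44229 (iv D43995) (iv F202802)
theorem F204132 : act 7 n44229 = n44175 := d42_1 D44229 (iv D44175) (iv F202803)
theorem F204133 : act 9 n44229 = n44229 := d44_2 D43994 D44229 (iv D44229) (iv D43994) F200886
def n44230 : Q := act 5 n43995
theorem D44230 : act 5 n43995 = n44230 := rfl
theorem F204134 : act 0 n44230 = n44096 := d4_1 D44230 F203484 (iv F202804)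
theorem F204135 : act 1 n44230 = n44094 := d12_1 D44230 F203475 (iv F202805)
theorem F204136 : act 2 n44230 = n44125 := d19_1 D44230 (iv F204121) F204119
theorem F204137 : act 3 n44230 = n44095 := d25_1 D44230 F203480 (iv F202806)
theorem F204138 : act 4 n44230 = n44089 := d30_1 D44230 F203442 (iv F203808) (iv F204076) F204075
theorem F204139 : act 6 n44230 = n44111 := d35_2 F204131 D44230 F203570 (iv F203206) (iv F204130)
theorem F204140 : act 7 n44230 = n43996 := d36_2 (iv F202807) D44230 (iv D43996)
theorem F204141 : act 8 n44230 = n43997 := d37_2 D43995 D44230 (iv D43997) (iv D43620) (iv F200890)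
theorem F204142 : act 9 n44230 = n44230 := d38_2 F202808 D44230 (iv D44230)
def n44231 : Q := act 9 n43998
theorem D44231 : act 9 n43998 = n44231 := rfl
theorem F204143 : act 0 n44231 = n44157 := d8_1 D44231 (iv D44157) (iv F202825)
theorem F204144 : act 1 n44231 = n44193 := d16_1 D44231 F203889 (iv F202826)
theorem F204145 : act 2 n44231 = n44164 := d23_1 D44231 (iv D44164) (iv F202827)
theorem F204146 : act 3 n44231 = n44065 := d29_1 D44231 F203290 (iv F202828)
theorem F204147 : act 4 n44231 = n44118 := d34_1 D44231 (iv D44118) (iv F202829)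
theorem F204148 : act 5 n44231 = n44000 := d38_1 D44231 (iv D44000) (iv F202830)
theorem F204149 : act 7 n44231 = n43999 := d43_1 D44231 (iv D43999) D43998
def n44232 : Q := act 8 n43999
theorem D44232 : act 8 n43999 = n44232 := rfl
theorem F204150 : act 0 n44232 = n44158 := d7_1 D44232 (iv D44158) (iv F202832)
theorem F204151 : act 1 n44232 = n44192 := d15_1 D44232 F203885 (iv F202833)
theorem F204152 : act 2 n44232 = n44165 := d22_1 D44232 (iv D44165) (iv F202834)
theorem F204153 : act 3 n44232 = n44183 := d28_1 D44232 F203856 (iv F202835)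
theorem F204154 : act 4 n44232 = n44119 := d33_1 D44232 (iv D44119) (iv F202836)
theorem F204155 : act 5 n44232 = n44181 := d37_1 D44232 (iv D44181) F202421 (iv F200940) (iv F202837)
theorem F204156 : act 6 n44232 = n44008 := d40_1 D44232 (iv D44008) (iv F202838)
theorem F204157 : act 9 n44232 = n44232 := d44_2 D43999 D44232 (iv D44232) (iv D43999) F200926
def n44233 : Q := act 9 n44003
theorem D44233 : act 9 n44003 = n44233 := rfl
theorem F204158 : act 0 n44233 = n44159 := d8_1 D44233 (iv D44159) (iv F202863)
theorem F204159 : act 1 n44233 = n44189 := d16_1 D44233 F203877 (iv F202864)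
theorem F204160 : act 2 n44233 = n44180 := d23_1 D44233 (iv D44180) (iv F202865)
theorem F204161 : act 3 n44233 = n44007 := d29_1 D44233 (iv D44007) (iv F202866)
theorem F204162 : act 4 n44233 = n44146 := d34_1 D44233 (iv D44146) (iv F202867)
theorem F204163 : act 5 n44233 = n44005 := d38_1 D44233 (iv D44005) (iv F202868)
theorem F204164 : act 7 n44233 = n44004 := d43_1 D44233 (iv D44004) D44003
def n44234 : Q := act 8 n44004
theorem D44234 : act 8 n44004 = n44234 := rfl
theorem F204165 : act 0 n44234 = n44160 := d7_1 D44234 (iv D44160) (iv F202870)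
theorem F204166 : act 1 n44234 = n44188 := d15_1 D44234 F203872 (iv F202871)
theorem F204167 : act 2 n44234 = n44181 := d22_1 D44234 (iv D44181) (iv F202872)
theorem F204168 : act 3 n44234 = n44008 := d28_1 D44234 (iv D44008) (iv F202873)
theorem F204169 : act 4 n44234 = n44147 := d33_1 D44234 (iv D44147) (iv F202874)
theorem F204170 : act 5 n44234 = n44165 := d37_1 D44234 (iv D44165) F202328 (iv F200974) (iv F202875)
theorem F204171 : act 6 n44234 = n44183 := d40_1 D44234 F203856 (iv F202876)
theorem F204172 : act 9 n44234 = n44234 := d44_2 D44004 D44234 (iv D44234) (iv D44004) F200960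
def n44235 : Q := act 9 n44006
theorem D44235 : act 9 n44006 = n44235 := rfl
theorem F204173 : act 0 n44235 = n44161 := d8_1 D44235 (iv D44161) (iv F202885)
theorem F204174 : act 1 n44235 = n44153 := d16_1 D44235 (iv D44153) (iv F202886)
theorem F204175 : act 2 n44235 = n44126 := d23_1 D44235 (iv D44126) (iv F202887)
theorem F204176 : act 4 n44235 = n44123 := d34_1 D44235 (iv D44123) (iv F202888)
theorem F204177 : act 5 n44235 = n44149 := d38_1 D44235 (iv D44149) (iv F202889)
theorem F204178 : act 6 n44235 = n44007 := d41_1 D44235 (iv D44007) D44006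
def n44236 : Q := act 8 n44007
theorem D44236 : act 8 n44007 = n44236 := rfl
theorem F204179 : act 0 n44236 = n44162 := d7_1 D44236 (iv D44162) (iv F202891)
theorem F204180 : act 1 n44236 = n44191 := d15_1 D44236 F203882 (iv F202892)
theorem F204181 : act 2 n44236 = n44127 := d22_1 D44236 (iv D44127) (iv F202893)
theorem F204182 : act 4 n44236 = n44124 := d33_1 D44236 (iv D44124) (iv F202894)
theorem F204183 : act 5 n44236 = n44166 := d37_1 D44236 (iv D44166) F202338 (iv F200992) (iv F202895)
theorem F204184 : act 7 n44236 = n44008 := d42_1 D44236 (iv D44008) (iv F202896)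
theorem F204185 : act 9 n44236 = n44236 := d44_2 D44007 D44236 (iv D44236) (iv D44007) F200980
def n44237 : Q := act 9 n44012
theorem D44237 : act 9 n44012 = n44237 := rfl
theorem F204186 : act 0 n44237 = n44103 := d8_1 D44237 (iv D44103) (iv F202928)
theorem F204187 : act 1 n44237 = n44177 := d16_1 D44237 (iv D44177) (iv F202929)
theorem F204188 : act 2 n44237 = n44133 := d23_1 D44237 (iv D44133) (iv F202930)
theorem F204189 : act 3 n44237 = n44013 := d29_1 D44237 (iv D44013) D44012
theorem F204190 : act 4 n44237 = n44130 := d34_1 D44237 (iv D44130) (iv F202931)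
theorem F204191 : act 5 n44237 = n44016 := d38_1 D44237 (iv D44016) (iv F202932)
theorem F204192 : act 6 n44237 = n44170 := d41_1 D44237 (iv D44170) (iv F202933)
theorem F204193 : act 7 n44237 = n44030 := d43_1 D44237 (iv D44030) (iv F202934)
def n44238 : Q := act 8 n44013
theorem D44238 : act 8 n44013 = n44238 := rfl
theorem F204194 : act 0 n44238 = n44125 := d7_1 D44238 (iv D44125) (iv F202936)
theorem F204195 : act 1 n44238 = n44179 := d15_1 D44238 (iv D44179) (iv F202937)
theorem F204196 : act 2 n44238 = n44096 := d22_1 D44238 (iv D44096) (iv F202938)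
theorem F204197 : act 4 n44238 = n44015 := d33_1 D44238 (iv D44015) (iv F202939)
theorem F204198 : act 5 n44238 = n44156 := d37_1 D44238 (iv D44156) F202280 (iv F201119) (iv F202940)
theorem F204199 : act 6 n44238 = n44198 := d40_1 D44238 F203901 (iv F202941)
theorem F204200 : act 7 n44238 = n44031 := d42_1 D44238 (iv D44031) (iv F202942)
theorem F204201 : act 9 n44238 = n44238 := d44_2 D44013 D44238 (iv D44238) (iv D44013) F201090
def n44239 : Q := act 8 n44014
theorem D44239 : act 8 n44014 = n44239 := rfl
theorem F204202 : act 0 n44239 = n44110 := d7_1 D44239 (iv D44110) (iv F202943)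
theorem F204203 : act 1 n44239 = n44184 := d15_1 D44239 (iv D44184) (iv F202944)
theorem F204204 : act 2 n44239 = n44097 := d22_1 D44239 (iv D44097) (iv F202945)
theorem F204205 : act 3 n44239 = n44134 := d28_1 D44239 (iv D44134) (iv F202946)
theorem F204206 : act 4 n44239 = n44198 := d33_1 D44239 F203901 (iv F202947)
theorem F204207 : act 5 n44239 = n44088 := d37_1 D44239 (iv D44088) F201781 D43755 (iv F202948)
theorem F204208 : act 6 n44239 = n44015 := d40_1 D44239 (iv D44015) (iv F202949)
theorem F204209 : act 7 n44239 = n44190 := d42_1 D44239 (iv D44190) (iv F202950)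
theorem F204210 : act 9 n44239 = n44239 := d44_2 D44014 D44239 (iv D44239) (iv D44014) F201099
def n44240 : Q := act 9 n44018
theorem D44240 : act 9 n44018 = n44240 := rfl
theorem F204211 : act 0 n44240 = n44164 := d8_1 D44240 (iv D44164) (iv F202975)
theorem F204212 : act 1 n44240 = n44146 := d16_1 D44240 (iv D44146) (iv F202976)
theorem F204213 : act 2 n44240 = n44157 := d23_1 D44240 (iv D44157) (iv F202977)
theorem F204214 : act 3 n44240 = n44021 := d29_1 D44240 (iv D44021) (iv F202978)
theorem F204215 : act 4 n44240 = n44189 := d34_1 D44240 F203877 (iv F202979)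
theorem F204216 : act 5 n44240 = n44019 := d38_1 D44240 (iv D44019) D44018
theorem F204217 : act 6 n44240 = n44141 := d41_1 D44240 (iv D44141) (iv F202980)
theorem F204218 : act 7 n44240 = n44052 := d43_1 D44240 (iv D44052) (iv F202981)
def n44241 : Q := act 8 n44021
theorem D44241 : act 8 n44021 = n44241 := rfl
theorem F204219 : act 0 n44241 = n44166 := d7_1 D44241 (iv D44166) (iv F203000)
theorem F204220 : act 1 n44241 = n44148 := d15_1 D44241 (iv D44148) (iv F203001)
theorem F204221 : act 2 n44241 = n44026 := d22_1 D44241 (iv D44026) (iv F203002)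
theorem F204222 : act 4 n44241 = n44117 := d33_1 D44241 (iv D44117) (iv F203003)
theorem F204223 : act 5 n44241 = n44162 := d37_1 D44241 (iv D44162) F202311 (iv F201153) (iv F203004)
theorem F204224 : act 6 n44241 = n44142 := d40_1 D44241 (iv D44142) (iv F203005)
theorem F204225 : act 7 n44241 = n44053 := d42_1 D44241 (iv D44053) (iv F203006)
theorem F204226 : act 9 n44241 = n44241 := d44_2 D44021 D44241 (iv D44241) (iv D44021) F201146
def n44242 : Q := act 6 n44022
theorem D44242 : act 6 n44022 = n44242 := rfl
theorem F204227 : act 0 n44242 = n44149 := d5_1 D44242 F203732 (iv F203007)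
theorem F204228 : act 1 n44242 = n44105 := d13_1 D44242 F203535 (iv F203008)
theorem F204229 : act 2 n44242 = n44028 := d20_1 D44242 (iv D44028) (iv F203009)
theorem F204230 : act 3 n44242 = n44145 := d26_1 D44242 F203719 (iv F203010)
theorem F204231 : act 4 n44242 = n44106 := d31_1 D44242 F203542 (iv F203011)
theorem F204232 : act 5 n44242 = n44161 := d35_1 D44242 F203774 F202311 (iv F201158) D44022
theorem F204233 : act 7 n44242 = n44138 := d39_2 (iv F203012) D44242 F203690 F202180 (iv F201302)
theorem F204234 : act 8 n44242 = n44115 := d40_2 (iv F203013) D44242 F203589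
theorem F204235 : act 9 n44242 = n44023 := d41_2 (iv F203014) D44242 (iv D44023)
def n44243 : Q := act 8 n44024
theorem D44243 : act 8 n44024 = n44243 := rfl
theorem F204236 : act 0 n44243 = n44113 := d7_1 D44243 (iv D44113) (iv F203023)
theorem F204237 : act 1 n44243 = n44062 := d15_1 D44243 (iv D44062) (iv F203024)
theorem F204238 : act 2 n44243 = n44185 := d22_1 D44243 F203861 (iv F203025)
theorem F204239 : act 3 n44243 = n44026 := d28_1 D44243 (iv D44026) (iv F203026)
theorem F204240 : act 4 n44243 = n44183 := d33_1 D44243 F203856 (iv F203027)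
theorem F204241 : act 5 n44243 = n44063 := d37_1 D44243 (iv D44063) F201557 (iv F201207) (iv F203028)
theorem F204242 : act 6 n44243 = n44147 := d40_1 D44243 (iv D44147) (iv F203029)
theorem F204243 : act 7 n44243 = n44064 := d42_1 D44243 F203283 (iv F203030)
theorem F204244 : act 9 n44243 = n44243 := d44_2 D44024 D44243 (iv D44243) (iv D44024) F201199
def n44244 : Q := act 8 n44025
theorem D44244 : act 8 n44025 = n44244 := rfl
theorem F204245 : act 0 n44244 = n44163 := d7_1 D44244 (iv D44163) (iv F203031)
theorem F204246 : act 1 n44244 = n44063 := d15_1 D44244 (iv D44063) (iv F203032)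
theorem F204247 : act 2 n44244 = n44053 := d22_1 D44244 (iv D44053) (iv F203033)
theorem F204248 : act 3 n44244 = n44064 := d28_1 D44244 F203283 (iv F203034)
theorem F204249 : act 4 n44244 = n44120 := d33_1 D44244 (iv D44120) (iv F203035)
theorem F204250 : act 5 n44244 = n44062 := d37_1 D44244 (iv D44062) F201555 (iv F201228) (iv F203036)
theorem F204251 : act 6 n44244 = n44060 := d40_1 D44244 (iv D44060) (iv F203037)
theorem F204252 : act 7 n44244 = n44026 := d42_1 D44244 (iv D44026) (iv F203038)
theorem F204253 : act 9 n44244 = n44244 := d44_2 D44025 D44244 (iv D44244) (iv D44025) F201214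
def n44245 : Q := act 5 n44026
theorem D44245 : act 5 n44026 = n44245 := rfl
theorem F204254 : act 0 n44245 = n44127 := d4_1 D44245 F203641 (iv F203039)
theorem F204255 : act 1 n44245 = n44064 := d12_1 D44245 (iv D44064) (iv F203040)
theorem F204256 : act 2 n44245 = n44162 := d19_1 D44245 (iv F204223) F204221
theorem F204257 : act 3 n44245 = n44063 := d25_1 D44245 (iv F204241) F204239
theorem F204258 : act 7 n44245 = n44062 := d36_2 F204252 D44245 (iv F204250)
theorem F204259 : act 8 n44245 = n44027 := d37_2 D44026 D44245 (iv D44027) (iv D43667) (iv F201219)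
theorem F204260 : act 9 n44245 = n44245 := d38_2 F203043 D44245 (iv D44245)
theorem F204261 : act 4 n44195 = n44245 := d33_3 F204259 F203048 D44195
def n44246 : Q := act 6 n44027
theorem D44246 : act 6 n44027 = n44246 := rfl
theorem F204262 : act 0 n44246 = n44126 := d5_1 D44246 F203638 (iv F203044)
theorem F204263 : act 1 n44246 = n44057 := d13_1 D44246 F203247 (iv F203045)
theorem F204264 : act 2 n44246 = n44161 := d20_1 D44246 F203774 (iv F203046)
theorem F204265 : act 3 n44246 = n44054 := d26_1 D44246 F203226 (iv F203047)
theorem F204266 : act 4 n44246 = n44194 := d31_1 D44246 F203891 (iv F203048)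
theorem F204267 : act 5 n44246 = n44028 := d35_1 D44246 (iv D44028) (iv D43668) (iv F201234) D44027
theorem F204268 : act 7 n44246 = n44141 := d39_2 (iv F203049) D44246 (iv F204217) F204218 F203214
theorem F204269 : act 9 n44246 = n44029 := d41_2 (iv F203050) D44246 (iv D44029)
def n44247 : Q := act 8 n44030
theorem D44247 : act 8 n44030 = n44247 := rfl
theorem F204270 : act 0 n44247 = n44104 := d7_1 D44247 (iv D44104) (iv F203066)
theorem F204271 : act 1 n44247 = n44178 := d15_1 D44247 (iv D44178) (iv F203067)
theorem F204272 : act 2 n44247 = n44134 := d22_1 D44247 (iv D44134) (iv F203068)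
theorem F204273 : act 3 n44247 = n44031 := d28_1 D44247 (iv D44031) (iv F203069)
theorem F204274 : act 4 n44247 = n44196 := d33_1 D44247 (iv D44196) (iv F203070)
theorem F204275 : act 5 n44247 = n44155 := d37_1 D44247 (iv D44155) F202275 (iv F201281) (iv F203071)
theorem F204276 : act 6 n44247 = n44092 := d40_1 D44247 (iv D44092) (iv F203072)
theorem F204277 : act 9 n44247 = n44247 := d44_2 D44030 D44247 (iv D44247) (iv D44030) F201263
def n44248 : Q := act 9 n44032
theorem D44248 : act 9 n44032 = n44248 := rfl
theorem F204278 : act 0 n44248 = n44167 := d8_1 D44248 (iv D44167) (iv F203080)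
theorem F204279 : act 1 n44248 = n44159 := d16_1 D44248 (iv D44159) (iv F203081)
theorem F204280 : act 3 n44248 = n44034 := d29_1 D44248 (iv D44034) D44032
theorem F204281 : act 4 n44248 = n44072 := d34_1 D44248 (iv D44072) (iv F203082)
theorem F204282 : act 5 n44248 = n44039 := d38_1 D44248 (iv D44039) (iv F203083)
theorem F204283 : act 7 n44248 = n44071 := d43_1 D44248 (iv D44071) (iv F203084)
def n44249 : Q := act 9 n44033
theorem D44249 : act 9 n44033 = n44249 := rfl
theorem F204284 : act 0 n44249 = n44168 := d8_1 D44249 (iv D44168) (iv F203086)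
theorem F204285 : act 1 n44249 = n44161 := d16_1 D44249 (iv D44161) (iv F203087)
theorem F204286 : act 2 n44249 = n44071 := d23_1 D44249 (iv D44071) (iv F203088)
theorem F204287 : act 4 n44249 = n44036 := d34_1 D44249 (iv D44036) (iv F203089)
theorem F204288 : act 5 n44249 = n44105 := d38_1 D44249 (iv D44105) (iv F203090)
theorem F204289 : act 6 n44249 = n44034 := d41_1 D44249 (iv D44034) D44033
def n44250 : Q := act 8 n44034
theorem D44250 : act 8 n44034 = n44250 := rfl
theorem F204290 : act 0 n44250 = n44169 := d7_1 D44250 (iv D44169) (iv F203092)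
theorem F204291 : act 1 n44250 = n44162 := d15_1 D44250 (iv D44162) (iv F203093)
theorem F204292 : act 2 n44250 = n44114 := d22_1 D44250 (iv D44114) (iv F203094)
theorem F204293 : act 4 n44250 = n44037 := d33_1 D44250 (iv D44037) (iv F203095)
theorem F204294 : act 5 n44250 = n44148 := d37_1 D44250 (iv D44148) F202224 (iv F201335) (iv F203096)
theorem F204295 : act 7 n44250 = n44102 := d42_1 D44250 (iv D44102) (iv F203097)
theorem F204296 : act 9 n44250 = n44250 := d44_2 D44034 D44250 (iv D44250) (iv D44034) F201310
def n44251 : Q := act 9 n44035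
theorem D44251 : act 9 n44035 = n44251 := rfl
theorem F204297 : act 0 n44251 = n44170 := d8_1 D44251 (iv D44170) (iv F203098)
theorem F204298 : act 1 n44251 = n44174 := d16_1 D44251 (iv D44174) (iv F203099)
theorem F204299 : act 2 n44251 = n44072 := d23_1 D44251 (iv D44072) (iv F203100)
theorem F204300 : act 3 n44251 = n44109 := d29_1 D44251 (iv D44109) (iv F203101)
theorem F204301 : act 5 n44251 = n44055 := d38_1 D44251 (iv D44055) (iv F203102)
theorem F204302 : act 6 n44251 = n44103 := d41_1 D44251 (iv D44103) (iv F203103)
theorem F204303 : act 7 n44251 = n44036 := d43_1 D44251 (iv D44036) D44035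
def n44252 : Q := act 8 n44036
theorem D44252 : act 8 n44036 = n44252 := rfl
theorem F204304 : act 0 n44252 = n44171 := d7_1 D44252 (iv D44171) (iv F203105)
theorem F204305 : act 1 n44252 = n44199 := d15_1 D44252 (iv D44199) (iv F203106)
theorem F204306 : act 2 n44252 = n44073 := d22_1 D44252 (iv D44073) (iv F203107)
theorem F204307 : act 3 n44252 = n44121 := d28_1 D44252 F203616 (iv F203108)
theorem F204308 : act 5 n44252 = n44119 := d37_1 D44252 (iv D44119) F202073 (iv F201499) (iv F203109)
theorem F204309 : act 6 n44252 = n44037 := d40_1 D44252 (iv D44037) (iv F203110)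
theorem F204310 : act 9 n44252 = n44252 := d44_2 D44036 D44252 (iv D44252) (iv D44036) F201316
def n44253 : Q := act 9 n44038
theorem D44253 : act 9 n44038 = n44253 := rfl
theorem F204311 : act 0 n44253 = n44172 := d8_1 D44253 (iv D44172) (iv F203118)
theorem F204312 : act 1 n44253 = n44138 := d16_1 D44253 (iv D44138) (iv F203119)
theorem F204313 : act 2 n44253 = n44039 := d23_1 D44253 (iv D44039) D44038
theorem F204314 : act 3 n44253 = n44115 := d29_1 D44253 (iv D44115) (iv F203120)
theorem F204315 : act 4 n44253 = n44041 := d34_1 D44253 (iv D44041) (iv F203121)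
theorem F204316 : act 6 n44253 = n44136 := d41_1 D44253 (iv D44136) (iv F203122)
theorem F204317 : act 7 n44253 = n44105 := d43_1 D44253 (iv D44105) (iv F203123)
theorem F204318 : act 8 n44253 = n44145 := d44_1 D44253 (iv D44145) F202207 (iv F201343) (iv F203124)
def n44254 : Q := act 9 n44040
theorem D44254 : act 9 n44040 = n44254 := rfl
theorem F204319 : act 0 n44254 = n44173 := d8_1 D44254 (iv D44173) (iv F203132)
theorem F204320 : act 1 n44254 = n44135 := d16_1 D44254 (iv D44135) (iv F203133)
theorem F204321 : act 2 n44254 = n44043 := d23_1 D44254 (iv D44043) (iv F203134)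
theorem F204322 : act 3 n44254 = n44046 := d29_1 D44254 (iv D44046) (iv F203135)
theorem F204323 : act 4 n44254 = n44136 := d34_1 D44254 (iv D44136) (iv F203136)
theorem F204324 : act 6 n44254 = n44041 := d41_1 D44254 (iv D44041) D44040
theorem F204325 : act 7 n44254 = n44150 := d43_1 D44254 (iv D44150) (iv F203137)
theorem F204326 : act 8 n44254 = n44176 := d44_1 D44254 (iv D44176) F202394 (iv F201381) (iv F203138)
def n44255 : Q := act 9 n44042
theorem D44255 : act 9 n44042 = n44255 := rfl
theorem F204327 : act 0 n44255 = n44174 := d8_1 D44255 (iv D44174) (iv F203144)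
theorem F204328 : act 1 n44255 = n44154 := d16_1 D44255 (iv D44154) (iv F203145)
theorem F204329 : act 3 n44255 = n44044 := d29_1 D44255 (iv D44044) (iv F203146)
theorem F204330 : act 5 n44255 = n44043 := d38_1 D44255 (iv D44043) D44042
theorem F204331 : act 6 n44255 = n44118 := d41_1 D44255 (iv D44118) (iv F203147)
theorem F204332 : act 7 n44255 = n44123 := d43_1 D44255 (iv D44123) (iv F203148)
def n44256 : Q := act 8 n44044
theorem D44256 : act 8 n44044 = n44256 := rfl
theorem F204333 : act 0 n44256 = n44175 := d7_1 D44256 (iv D44175) (iv F203157)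
theorem F204334 : act 1 n44256 = n44156 := d15_1 D44256 (iv D44156) (iv F203158)
theorem F204335 : act 2 n44256 = n44051 := d22_1 D44256 (iv D44051) (iv F203159)
theorem F204336 : act 4 n44256 = n44060 := d33_1 D44256 (iv D44060) (iv F203160)
theorem F204337 : act 5 n44256 = n44179 := d37_1 D44256 (iv D44179) F202407 (iv F201373) (iv F203161)
theorem F204338 : act 6 n44256 = n44120 := d40_1 D44256 (iv D44120) (iv F203162)
theorem F204339 : act 7 n44256 = n44151 := d42_1 D44256 (iv D44151) (iv F203163)
theorem F204340 : act 9 n44256 = n44256 := d44_2 D44044 D44256 (iv D44256) (iv D44044) F201366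
def n44257 : Q := act 9 n44045
theorem D44257 : act 9 n44045 = n44257 := rfl
theorem F204341 : act 0 n44257 = n44176 := d8_1 D44257 (iv D44176) (iv F203164)
theorem F204342 : act 1 n44257 = n44172 := d16_1 D44257 (iv D44172) (iv F203165)
theorem F204343 : act 2 n44257 = n44049 := d23_1 D44257 (iv D44049) (iv F203166)
theorem F204344 : act 3 n44257 = n44150 := d29_1 D44257 (iv D44150) (iv F203167)
theorem F204345 : act 4 n44257 = n44116 := d34_1 D44257 (iv D44116) (iv F203168)
theorem F204346 : act 6 n44257 = n44108 := d41_1 D44257 (iv D44108) (iv F203169)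
theorem F204347 : act 7 n44257 = n44046 := d43_1 D44257 (iv D44046) D44045
theorem F204348 : act 8 n44257 = n44173 := d44_1 D44257 (iv D44173) F202377 (iv F201435) (iv F203170)
def n44258 : Q := act 9 n44047
theorem D44258 : act 9 n44047 = n44258 := rfl
theorem F204349 : act 0 n44258 = n44177 := d8_1 D44258 (iv D44177) (iv F203176)
theorem F204350 : act 1 n44258 = n44118 := d16_1 D44258 (iv D44118) (iv F203177)
theorem F204351 : act 3 n44258 = n44050 := d29_1 D44258 (iv D44050) (iv F203178)
theorem F204352 : act 4 n44258 = n44193 := d34_1 D44258 F203889 (iv F203179)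
theorem F204353 : act 5 n44258 = n44049 := d38_1 D44258 (iv D44049) (iv F203180)
theorem F204354 : act 6 n44258 = n44154 := d41_1 D44258 (iv D44154) (iv F203181)
theorem F204355 : act 7 n44258 = n44048 := d43_1 D44258 (iv D44048) D44047
def n44259 : Q := act 8 n44048
theorem D44259 : act 8 n44048 = n44259 := rfl
theorem F204356 : act 0 n44259 = n44178 := d7_1 D44259 (iv D44178) (iv F203183)
theorem F204357 : act 1 n44259 = n44119 := d15_1 D44259 (iv D44119) (iv F203184)
theorem F204358 : act 3 n44259 = n44051 := d28_1 D44259 (iv D44051) (iv F203185)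
theorem F204359 : act 4 n44259 = n44192 := d33_1 D44259 F203885 (iv F203186)
theorem F204360 : act 5 n44259 = n44199 := d37_1 D44259 (iv D44199) (iv F202915) F202918 (iv F203187)
theorem F204361 : act 6 n44259 = n44122 := d40_1 D44259 (iv D44122) (iv F203188)
theorem F204362 : act 9 n44259 = n44259 := d44_2 D44048 D44259 (iv D44259) (iv D44048) F201397
def n44260 : Q := act 8 n44050
theorem D44260 : act 8 n44050 = n44260 := rfl
theorem F204363 : act 0 n44260 = n44179 := d7_1 D44260 (iv D44179) (iv F203196)
theorem F204364 : act 1 n44260 = n44120 := d15_1 D44260 (iv D44120) (iv F203197)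
theorem F204365 : act 2 n44260 = n44151 := d22_1 D44260 (iv D44151) (iv F203198)
theorem F204366 : act 4 n44260 = n44063 := d33_1 D44260 (iv D44063) (iv F203199)
theorem F204367 : act 5 n44260 = n44175 := d37_1 D44260 (iv D44175) F202390 (iv F201427) (iv F203200)
theorem F204368 : act 6 n44260 = n44156 := d40_1 D44260 (iv D44156) (iv F203201)
theorem F204369 : act 7 n44260 = n44051 := d42_1 D44260 (iv D44051) (iv F203202)
theorem F204370 : act 9 n44260 = n44260 := d44_2 D44050 D44260 (iv D44260) (iv D44050) F201415
def n44261 : Q := act 8 n44052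
theorem D44261 : act 8 n44052 = n44261 := rfl
theorem F204371 : act 0 n44261 = n44165 := d7_1 D44261 (iv D44165) (iv F203208)
theorem F204372 : act 1 n44261 = n44147 := d15_1 D44261 (iv D44147) (iv F203209)
theorem F204373 : act 2 n44261 = n44158 := d22_1 D44261 (iv D44158) (iv F203210)
theorem F204374 : act 3 n44261 = n44053 := d28_1 D44261 (iv D44053) (iv F203211)
theorem F204375 : act 4 n44261 = n44188 := d33_1 D44261 F203872 (iv F203212)
theorem F204376 : act 5 n44261 = n44160 := d37_1 D44261 (iv D44160) F202304 (iv F201449) (iv F203213)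
theorem F204377 : act 6 n44261 = n44062 := d40_1 D44261 (iv D44062) (iv F203214)
theorem F204378 : act 9 n44261 = n44261 := d44_2 D44052 D44261 (iv D44261) (iv D44052) F201442
def n44262 : Q := act 8 n44054
theorem D44262 : act 8 n44054 = n44262 := rfl
theorem F204379 : act 0 n44262 = n44184 := d7_1 D44262 (iv D44184) (iv F203221)
theorem F204380 : act 1 n44262 = n44060 := d15_1 D44262 (iv D44060) (iv F203222)
theorem F204381 : act 2 n44262 = n44148 := d22_1 D44262 (iv D44148) (iv F203223)
theorem F204382 : act 4 n44262 = n44156 := d33_1 D44262 (iv D44156) (iv F203224)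
theorem F204383 : act 5 n44262 = n44114 := d37_1 D44262 (iv D44114) F202011 (iv F201477) (iv F203225)
theorem F204384 : act 6 n44262 = n44063 := d40_1 D44262 (iv D44063) (iv F203226)
theorem F204385 : act 7 n44262 = n44142 := d42_1 D44262 (iv D44142) (iv F203227)
theorem F204386 : act 9 n44262 = n44262 := d44_2 D44054 D44262 (iv D44262) (iv D44054) F201470
def n44263 : Q := act 9 n44056
theorem D44263 : act 9 n44056 = n44263 := rfl
theorem F204387 : act 0 n44263 = n44180 := d8_1 D44263 (iv D44180) (iv F203236)
theorem F204388 : act 1 n44263 = n44141 := d16_1 D44263 (iv D44141) (iv F203237)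
theorem F204389 : act 2 n44263 = n44159 := d23_1 D44263 (iv D44159) (iv F203238)
theorem F204390 : act 3 n44263 = n44059 := d29_1 D44263 (iv D44059) (iv F203239)
theorem F204391 : act 5 n44263 = n44058 := d38_1 D44263 (iv D44058) (iv F203240)
theorem F204392 : act 6 n44263 = n44146 := d41_1 D44263 (iv D44146) (iv F203241)
theorem F204393 : act 7 n44263 = n44057 := d43_1 D44263 (iv D44057) D44056
def n44264 : Q := act 8 n44057
theorem D44264 : act 8 n44057 = n44264 := rfl
theorem F204394 : act 0 n44264 = n44181 := d7_1 D44264 (iv D44181) (iv F203243)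
theorem F204395 : act 2 n44264 = n44160 := d22_1 D44264 (iv D44160) (iv F203244)
theorem F204396 : act 3 n44264 = n44060 := d28_1 D44264 (iv D44060) (iv F203245)
theorem F204397 : act 5 n44264 = n44158 := d37_1 D44264 (iv D44158) F202291 (iv F201517) (iv F203246)
theorem F204398 : act 6 n44264 = n44064 := d40_1 D44264 F203283 (iv F203247)
theorem F204399 : act 9 n44264 = n44264 := d44_2 D44057 D44264 (iv D44264) (iv D44057) F201504
def n44265 : Q := act 8 n44059
theorem D44265 : act 8 n44059 = n44265 := rfl
theorem F204400 : act 0 n44265 = n44182 := d7_1 D44265 (iv D44182) (iv F203256)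
theorem F204401 : act 1 n44265 = n44142 := d15_1 D44265 (iv D44142) (iv F203257)
theorem F204402 : act 2 n44265 = n44063 := d22_1 D44265 (iv D44063) (iv F203258)
theorem F204403 : act 4 n44265 = n44151 := d33_1 D44265 (iv D44151) (iv F203259)
theorem F204404 : act 5 n44265 = n44185 := d37_1 D44265 F203861 F202443 (iv F201534) (iv F203260)
theorem F204405 : act 6 n44265 = n44148 := d40_1 D44265 (iv D44148) (iv F203261)
theorem F204406 : act 7 n44265 = n44060 := d42_1 D44265 (iv D44060) (iv F203262)
theorem F204407 : act 9 n44265 = n44265 := d44_2 D44059 D44265 (iv D44265) (iv D44059) F201524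
def n44266 : Q := act 5 n44060
theorem D44266 : act 5 n44060 = n44266 := rfl
theorem F204408 : act 0 n44266 = n44183 := d4_1 D44266 (iv D44183) (iv F203263)
theorem F204409 : act 1 n44266 = n44114 := d12_1 D44266 (iv F204383) F204380
theorem F204410 : act 2 n44266 = n44064 := d19_1 D44266 (iv D44064) (iv F203264)
theorem F204411 : act 3 n44266 = n44158 := d25_1 D44266 (iv F204397) F204396
theorem F204412 : act 4 n44266 = n44113 := d30_1 D44266 F203579 (iv F203842) (iv F204337) F204336
theorem F204413 : act 6 n44266 = n44160 := d35_2 F204251 D44266 (iv F204376) F204377 (iv F204250)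
theorem F204414 : act 7 n44266 = n44185 := d36_2 F204406 D44266 (iv F204404)
theorem F204415 : act 8 n44266 = n44061 := d37_2 D44060 D44266 (iv D44061) (iv D43714) (iv F201527)
theorem F204416 : act 9 n44266 = n44266 := d38_2 F203265 D44266 (iv D44266)
def n44267 : Q := act 4 n44064
theorem D44267 : act 4 n44064 = n44267 := rfl
theorem F204417 : act 0 n44267 = n44185 := d3_1 D44267 (iv D44185) (iv F203282)
theorem F204418 : act 1 n44267 = n44195 := d11_1 D44267 F204261 F204255
theorem F204419 : act 2 n44267 = n44113 := d18_1 D44267 (iv F204412) F204410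
theorem F204420 : act 5 n44267 = n44182 := d30_2 D44064 D44267 (iv F204129) F204130 F203205
theorem F204421 : act 7 n44267 = n44183 := d32_2 F204243 D44267 (iv F204240)
theorem F204422 : act 8 n44267 = n44065 := d33_2 (iv F203283) D44267 (iv D44065)
theorem F204423 : act 9 n44267 = n44267 := d34_2 F203284 D44267 (iv D44267)
def n44268 : Q := act 8 n44066
theorem D44268 : act 8 n44066 = n44268 := rfl
theorem F204424 : act 0 n44268 = n44095 := d7_1 D44268 (iv D44095) (iv F203291)
theorem F204425 : act 1 n44268 = n44069 := d15_1 D44268 (iv D44069) (iv F203292)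
theorem F204426 : act 2 n44268 = n44190 := d22_1 D44268 (iv D44190) (iv F203293)
theorem F204427 : act 3 n44268 = n44096 := d28_1 D44268 (iv D44096) (iv F203294)
theorem F204428 : act 4 n44268 = n44100 := d33_1 D44268 (iv D44100) (iv F203295)
theorem F204429 : act 5 n44268 = n44124 := d37_1 D44268 (iv D44124) F202113 (iv F201591) (iv F203296)
theorem F204430 : act 6 n44268 = n44093 := d40_1 D44268 (iv D44093) (iv F203297)
theorem F204431 : act 7 n44268 = n44097 := d42_1 D44268 (iv D44097) (iv F203298)
theorem F204432 : act 9 n44268 = n44268 := d44_2 D44066 D44268 (iv D44268) (iv D44066) F201583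
def n44269 : Q := act 8 n44067
theorem D44269 : act 8 n44067 = n44269 := rfl
theorem F204433 : act 0 n44269 = n44100 := d7_1 D44269 (iv D44100) (iv F203299)
theorem F204434 : act 1 n44269 = n44096 := d15_1 D44269 (iv D44096) (iv F203300)
theorem F204435 : act 2 n44269 = n44121 := d22_1 D44269 F203616 (iv F203301)
theorem F204436 : act 3 n44269 = n44069 := d28_1 D44269 (iv D44069) (iv F203302)
theorem F204437 : act 4 n44269 = n44095 := d33_1 D44269 (iv D44095) (iv F203303)
theorem F204438 : act 5 n44269 = n44117 := d37_1 D44269 (iv D44117) F202064 (iv F201607) (iv F203304)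
theorem F204439 : act 6 n44269 = n44091 := d40_1 D44269 (iv D44091) (iv F203305)
theorem F204440 : act 7 n44269 = n44111 := d42_1 D44269 (iv D44111) (iv F203306)
theorem F204441 : act 9 n44269 = n44269 := d44_2 D44067 D44269 (iv D44269) (iv D44067) F201599
def n44270 : Q := act 8 n44068
theorem D44270 : act 8 n44068 = n44270 := rfl
theorem F204442 : act 0 n44270 = n44093 := d7_1 D44270 (iv D44093) (iv F203307)
theorem F204443 : act 1 n44270 = n44097 := d15_1 D44270 (iv D44097) (iv F203308)
theorem F204444 : act 2 n44270 = n44077 := d22_1 D44270 (iv D44077) (iv F203309)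
theorem F204445 : act 3 n44270 = n44111 := d28_1 D44270 (iv D44111) (iv F203310)
theorem F204446 : act 4 n44270 = n44091 := d33_1 D44270 (iv D44091) (iv F203311)
theorem F204447 : act 5 n44270 = n44122 := d37_1 D44270 (iv D44122) F202105 (iv F201628) (iv F203312)
theorem F204448 : act 6 n44270 = n44095 := d40_1 D44270 (iv D44095) (iv F203313)
theorem F204449 : act 7 n44270 = n44069 := d42_1 D44270 (iv D44069) (iv F203314)
theorem F204450 : act 9 n44270 = n44270 := d44_2 D44068 D44270 (iv D44270) (iv D44068) F201615
def n44271 : Q := act 5 n44069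
theorem D44271 : act 5 n44069 = n44271 := rfl
theorem F204451 : act 0 n44271 = n44112 := d4_1 D44271 (iv D44112) (iv F203315)
theorem F204452 : act 1 n44271 = n44124 := d12_1 D44271 (iv F204429) F204425
theorem F204453 : act 2 n44271 = n44078 := d19_1 D44271 (iv D44078) (iv F203316)
theorem F204454 : act 3 n44271 = n44117 := d25_1 D44271 (iv F204438) F204436
theorem F204455 : act 4 n44271 = n44191 := d30_1 D44271 (iv D44191) (iv F203496) F203497 (iv F203317)
theorem F204456 : act 6 n44271 = n44155 := d35_2 (iv F203318) D44271 (iv F204275) F204276 F203463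
theorem F204457 : act 7 n44271 = n44122 := d36_2 F204449 D44271 (iv F204447)
theorem F204458 : act 8 n44271 = n44070 := d37_2 D44069 D44271 (iv D44070) (iv D43729) (iv F201619)
theorem F204459 : act 9 n44271 = n44271 := d38_2 F203319 D44271 (iv D44271)
def n44272 : Q := act 8 n44071
theorem D44272 : act 8 n44071 = n44272 := rfl
theorem F204460 : act 0 n44272 = n44186 := d7_1 D44272 (iv D44186) (iv F203328)
theorem F204461 : act 1 n44272 = n44160 := d15_1 D44272 (iv D44160) (iv F203329)
theorem F204462 : act 3 n44272 = n44102 := d28_1 D44272 (iv D44102) (iv F203330)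
theorem F204463 : act 4 n44272 = n44073 := d33_1 D44272 (iv D44073) (iv F203331)
theorem F204464 : act 5 n44272 = n44147 := d37_1 D44272 (iv D44147) F202219 (iv F201938) (iv F203332)
theorem F204465 : act 6 n44272 = n44114 := d40_1 D44272 (iv D44114) (iv F203333)
theorem F204466 : act 9 n44272 = n44272 := d44_2 D44071 D44272 (iv D44272) (iv D44071) F201650
def n44273 : Q := act 8 n44072
theorem D44273 : act 8 n44072 = n44273 := rfl
theorem F204467 : act 0 n44273 = n44187 := d7_1 D44273 (iv D44187) (iv F203334)
theorem F204468 : act 3 n44273 = n44077 := d28_1 D44273 (iv D44077) (iv F203335)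
theorem F204469 : act 7 n44273 = n44073 := d42_1 D44273 (iv D44073) (iv F203337)
theorem F204470 : act 9 n44273 = n44273 := d44_2 D44072 D44273 (iv D44273) (iv D44072) F201654
def n44274 : Q := act 5 n44073
theorem D44274 : act 5 n44073 = n44274 := rfl
theorem F204471 : act 0 n44274 = n44188 := d4_1 D44274 (iv D44188) (iv F203338)
theorem F204472 : act 1 n44274 = n44186 := d12_1 D44274 (iv F204069) F204066
theorem F204473 : act 2 n44274 = n44119 := d19_1 D44274 (iv F204308) F204306
theorem F204474 : act 3 n44274 = n44078 := d25_1 D44274 (iv D44078) (iv F203339)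
theorem F204475 : act 4 n44274 = n44165 := d30_1 D44274 (iv F204170) F204169 (iv F204464) F204463
theorem F204476 : act 6 n44274 = n44088 := d35_2 (iv F203340) D44274 (iv F204207) F204208 F202955
theorem F204477 : act 8 n44274 = n44075 := d37_2 D44073 D44274 (iv D44075) (iv D43735) (iv F201657)
theorem F204478 : act 9 n44274 = n44274 := d38_2 F203341 D44274 (iv D44274)
def n44275 : Q := act 5 n44074
theorem D44275 : act 5 n44074 = n44275 := rfl
theorem F204479 : act 0 n44275 = n44189 := d4_1 D44275 (iv D44189) (iv F203342)
theorem F204480 : act 1 n44275 = n44167 := d12_1 D44275 F203801 (iv F203343)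
theorem F204481 : act 2 n44275 = n44118 := d19_1 D44275 F203604 (iv F203344)
theorem F204482 : act 3 n44275 = n44079 := d25_1 D44275 (iv D44079) (iv F203345)
theorem F204483 : act 4 n44275 = n44164 := d30_1 D44275 F203788 F202332 (iv F201768) (iv F203346)
theorem F204484 : act 7 n44275 = n44075 := d36_2 (iv F203348) D44275 (iv D44075)
theorem F204485 : act 9 n44275 = n44083 := d38_2 (iv F203349) D44275 (iv D44083)
def n44276 : Q := act 8 n44076
theorem D44276 : act 8 n44076 = n44276 := rfl
theorem F204486 : act 0 n44276 = n44190 := d7_1 D44276 (iv D44190) (iv F203357)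
theorem F204487 : act 1 n44276 = n44182 := d15_1 D44276 (iv D44182) (iv F203358)
theorem F204488 : act 2 n44276 = n44095 := d22_1 D44276 (iv D44095) (iv F203359)
theorem F204489 : act 4 n44276 = n44121 := d33_1 D44276 F203616 (iv F203360)
theorem F204490 : act 5 n44276 = n44195 := d37_1 D44276 (iv D44195) F202494 (iv F201872) (iv F203361)
theorem F204491 : act 6 n44276 = n44077 := d40_1 D44276 (iv D44077) (iv F203362)
theorem F204492 : act 7 n44276 = n44110 := d42_1 D44276 (iv D44110) (iv F203363)
theorem F204493 : act 9 n44276 = n44276 := d44_2 D44076 D44276 (iv D44276) (iv D44076) F201677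
def n44277 : Q := act 5 n44077
theorem D44277 : act 5 n44077 = n44277 := rfl
theorem F204494 : act 0 n44277 = n44191 := d4_1 D44277 (iv D44191) (iv F203364)
theorem F204495 : act 1 n44277 = n44169 := d12_1 D44277 (iv F204076) F204073
theorem F204496 : act 2 n44277 = n44122 := d19_1 D44277 (iv F204447) F204444
theorem F204497 : act 4 n44277 = n44112 := d30_1 D44277 (iv D44112) (iv F203474) F203475 (iv F203365)
theorem F204498 : act 7 n44277 = n44078 := d36_2 (iv F203366) D44277 (iv D44078)
theorem F204499 : act 8 n44277 = n44079 := d37_2 D44077 D44277 (iv D44079) (iv D43739) (iv F201680)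
theorem F204500 : act 9 n44277 = n44277 := d38_2 F203367 D44277 (iv D44277)
def n44278 : Q := act 4 n44078
theorem D44278 : act 4 n44078 = n44278 := rfl
theorem F204501 : act 0 n44278 = n44122 := d3_1 D44278 F203620 (iv F203368)
theorem F204502 : act 1 n44278 = n44092 := d11_1 D44278 (iv F204084) F204081
theorem F204503 : act 2 n44278 = n44191 := d18_1 D44278 (iv F204455) F204453
theorem F204504 : act 3 n44278 = n44099 := d24_1 D44278 F203504 (iv F203791) (iv F204475) F204474
theorem F204505 : act 5 n44278 = n44093 := d30_2 D44078 D44278 F203468 F201906 (iv F201683)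
theorem F204506 : act 7 n44278 = n44112 := d32_2 F204498 D44278 (iv F204497)
theorem F204507 : act 8 n44278 = n44080 := d33_2 (iv F203369) D44278 (iv D44080)
theorem F204508 : act 9 n44278 = n44278 := d34_2 F203370 D44278 (iv D44278)
theorem F204509 : act 6 n44178 = n44278 := d40_3 F204507 (iv F203384) D44178
def n44279 : Q := act 6 n44078
theorem D44279 : act 6 n44078 = n44279 := rfl
theorem F204510 : act 0 n44279 = n44192 := d5_1 D44279 (iv D44192) (iv F203368)
theorem F204511 : act 1 n44279 = n44196 := d13_1 D44279 F204088 F204081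
theorem F204512 : act 2 n44279 = n44155 := d20_1 D44279 (iv F204456) F204453
theorem F204513 : act 3 n44279 = n44088 := d26_1 D44279 (iv F204476) F204474
theorem F204514 : act 4 n44279 = n44178 := d31_1 D44279 F204509 (iv D44278)
theorem F204515 : act 5 n44279 = n44134 := d35_1 D44279 F203670 (iv F202924) F202925 D44078
theorem F204516 : act 8 n44279 = n44081 := d40_2 (iv F203369) D44279 (iv D44081)
theorem F204517 : act 9 n44279 = n44279 := d41_2 F203370 D44279 (iv D44279)
def n44280 : Q := act 7 n44081
theorem D44280 : act 7 n44081 = n44280 := rfl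
theorem F204518 : act 0 n44280 = n44193 := d6_1 D44280 (iv D44193) (iv F203385)
theorem F204519 : act 1 n44280 = n44130 := d14_1 D44280 F203658 (iv F203386)
theorem F204520 : act 2 n44280 = n44154 := d21_1 D44280 F203755 (iv F203387)
theorem F204521 : act 3 n44280 = n44087 := d27_1 D44280 F203432 (iv F203388)
theorem F204522 : act 4 n44280 = n44177 := d32_1 D44280 F203839 (iv F203389)
theorem F204523 : act 5 n44280 = n44082 := d36_1 D44280 (iv D44082) (iv F203390)
theorem F204524 : act 9 n44280 = n44084 := d43_2 (iv F203391) D44280 (iv D44084)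
def n44281 : Q := act 9 n44086
theorem D44281 : act 9 n44086 = n44281 := rfl
theorem F204525 : act 0 n44281 = n44194 := d8_1 D44281 (iv D44194) (iv F203421)
theorem F204526 : act 1 n44281 = n44131 := d16_1 D44281 (iv D44131) (iv F203422)
theorem F204527 : act 2 n44281 = n44123 := d23_1 D44281 (iv D44123) (iv F203423)
theorem F204528 : act 4 n44281 = n44126 := d34_1 D44281 (iv D44126) (iv F203424)
theorem F204529 : act 5 n44281 = n44150 := d38_1 D44281 (iv D44150) (iv F203425)
theorem F204530 : act 6 n44281 = n44087 := d41_1 D44281 (iv D44087) D44086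
def n44282 : Q := act 8 n44087
theorem D44282 : act 8 n44087 = n44282 := rfl
theorem F204531 : act 0 n44282 = n44195 := d7_1 D44282 (iv D44195) (iv F203427)
theorem F204532 : act 1 n44282 = n44132 := d15_1 D44282 (iv D44132) (iv F203428)
theorem F204533 : act 2 n44282 = n44124 := d22_1 D44282 (iv D44124) (iv F203429)
theorem F204534 : act 4 n44282 = n44127 := d33_1 D44282 (iv D44127) (iv F203430)
theorem F204535 : act 5 n44282 = n44190 := d37_1 D44282 (iv D44190) F202470 (iv F201788) (iv F203431)
theorem F204536 : act 7 n44282 = n44088 := d42_1 D44282 (iv D44088) (iv F203432)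
theorem F204537 : act 9 n44282 = n44282 := d44_2 D44087 D44282 (iv D44282) (iv D44087) F201776
def n44283 : Q := act 8 n44090
theorem D44283 : act 8 n44090 = n44283 := rfl
theorem F204538 : act 0 n44283 = n44111 := d7_1 D44283 (iv D44111) (iv F203446)
theorem F204539 : act 1 n44283 = n44091 := d15_1 D44283 (iv D44091) (iv F203447)
theorem F204540 : act 2 n44283 = n44198 := d22_1 D44283 F203901 (iv F203448)
theorem F204541 : act 3 n44283 = n44093 := d28_1 D44283 (iv D44093) (iv F203449)
theorem F204542 : act 4 n44283 = n44097 := d33_1 D44283 (iv D44097) (iv F203450)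
theorem F204543 : act 5 n44283 = n44099 := d37_1 D44283 (iv D44099) F201897 (iv F201833) (iv F203451)
theorem F204544 : act 6 n44283 = n44096 := d40_1 D44283 (iv D44096) (iv F203452)
theorem F204545 : act 7 n44283 = n44100 := d42_1 D44283 (iv D44100) (iv F203453)
theorem F204546 : act 9 n44283 = n44283 := d44_2 D44090 D44283 (iv D44283) (iv D44090) F201825
def n44284 : Q := act 8 n44101
theorem D44284 : act 8 n44101 = n44284 := rfl
theorem F204547 : act 0 n44284 = n44196 := d7_1 D44284 (iv D44196) (iv F203514)
theorem F204548 : act 1 n44284 = n44158 := d15_1 D44284 (iv D44158) (iv F203515)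
theorem F204549 : act 3 n44284 = n44114 := d28_1 D44284 (iv D44114) (iv F203516)
theorem F204550 : act 4 n44284 = n44104 := d33_1 D44284 (iv D44104) (iv F203517)
theorem F204551 : act 6 n44284 = n44102 := d40_1 D44284 (iv D44102) (iv F203519)
theorem F204552 : act 9 n44284 = n44284 := d44_2 D44101 D44284 (iv D44284) (iv D44101) F201913
def n44285 : Q := act 8 n44103
theorem D44285 : act 8 n44103 = n44285 := rfl
theorem F204553 : act 1 n44285 = n44197 := d15_1 D44285 (iv D44197) (iv F203524)
theorem F204554 : act 3 n44285 = n44125 := d28_1 D44285 (iv D44125) (iv F203525)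
theorem F204555 : act 7 n44285 = n44104 := d42_1 D44285 (iv D44104) (iv F203527)
theorem F204556 : act 9 n44285 = n44285 := d44_2 D44103 D44285 (iv D44285) (iv D44103) F201920
def n44286 : Q := act 8 n44109
theorem D44286 : act 8 n44109 = n44286 := rfl
theorem F204557 : act 0 n44286 = n44198 := d7_1 D44286 F203901 (iv F203556)
theorem F204558 : act 1 n44286 = n44175 := d15_1 D44286 (iv D44175) (iv F203557)
theorem F204559 : act 2 n44286 = n44111 := d22_1 D44286 (iv D44111) (iv F203558)
theorem F204560 : act 4 n44286 = n44110 := d33_1 D44286 (iv D44110) (iv F203559)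
theorem F204561 : act 5 n44286 = n44120 := d37_1 D44286 (iv D44120) F202082 (iv F201992) (iv F203560)
theorem F204562 : act 6 n44286 = n44125 := d40_1 D44286 (iv D44125) (iv F203561)
theorem F204563 : act 7 n44286 = n44121 := d42_1 D44286 F203616 (iv F203562)
theorem F204564 : act 9 n44286 = n44286 := d44_2 D44109 D44286 (iv D44286) (iv D44109) F201981
def n44287 : Q := act 8 n44118
theorem D44287 : act 8 n44118 = n44287 := rfl
theorem F204565 : act 0 n44287 = n44197 := d7_1 D44287 (iv D44197) (iv F203602)
theorem F204566 : act 3 n44287 = n44120 := d28_1 D44287 (iv D44120) (iv F203603)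
theorem F204567 : act 7 n44287 = n44119 := d42_1 D44287 (iv D44119) (iv F203605)
theorem F204568 : act 9 n44287 = n44287 := d44_2 D44118 D44287 (iv D44287) (iv D44118) F202070
def n44288 : Q := act 8 n44123
theorem D44288 : act 8 n44123 = n44288 := rfl
theorem F204569 : act 0 n44288 = n44199 := d7_1 D44288 (iv D44199) (iv F203622)
theorem F204570 : act 1 n44288 = n44155 := d15_1 D44288 (iv D44155) (iv F203623)
theorem F204571 : act 3 n44288 = n44151 := d28_1 D44288 (iv D44151) (iv F203624)
theorem F204572 : act 5 n44288 = n44178 := d37_1 D44288 (iv D44178) F202402 (iv F202260) (iv F203625)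
theorem F204573 : act 6 n44288 = n44124 := d40_1 D44288 (iv D44124) (iv F203626)
theorem F204574 : act 9 n44288 = n44288 := d44_2 D44123 D44288 (iv D44288) (iv D44123) F202110
def n44289 : Q := act 8 n44126
theorem D44289 : act 8 n44126 = n44289 := rfl
theorem F204575 : act 1 n44289 = n44134 := d15_1 D44289 (iv D44134) (iv F203635)
theorem F204576 : act 3 n44289 = n44184 := d28_1 D44289 (iv D44184) (iv F203636)
theorem F204577 : act 5 n44289 = n44196 := d37_1 D44289 (iv D44196) F202503 (iv F202246) (iv F203637)
theorem F204578 : act 6 n44289 = n44127 := d40_1 D44289 (iv D44127) (iv F203638)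
theorem F204579 : act 9 n44289 = n44289 := d44_2 D44126 D44289 (iv D44289) (iv D44126) F202140
def n44290 : Q := act 9 n44128
theorem D44290 : act 9 n44128 = n44290 := rfl
theorem F204580 : act 2 n44290 = n44130 := d23_1 D44290 (iv D44130) D44128
theorem F204581 : act 3 n44290 = n44168 := d29_1 D44290 (iv D44168) (iv F203644)
theorem F204582 : act 4 n44290 = n44133 := d34_1 D44290 (iv D44133) (iv F203645)
theorem F204583 : act 5 n44290 = n44135 := d38_1 D44290 (iv D44135) (iv F203646)
theorem F204584 : act 6 n44290 = n44167 := d41_1 D44290 (iv D44167) F203649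
theorem F204585 : act 7 n44290 = n44131 := d43_1 D44290 (iv D44131) (iv F203647)
def n44291 : Q := act 9 n44129
theorem D44291 : act 9 n44129 = n44291 := rfl
theorem F204586 : act 2 n44291 = n44167 := d23_1 D44291 (iv D44167) (iv F203650)
theorem F204587 : act 3 n44291 = n44131 := d29_1 D44291 (iv D44131) (iv F203651)
theorem F204588 : act 4 n44291 = n44170 := d34_1 D44291 (iv D44170) (iv F203652)
theorem F204589 : act 5 n44291 = n44172 := d38_1 D44291 (iv D44172) (iv F203653)
theorem F204590 : act 6 n44291 = n44130 := d41_1 D44291 (iv D44130) D44129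
theorem F204591 : act 7 n44291 = n44168 := d43_1 D44291 (iv D44168) (iv F203654)
def n44292 : Q := act 8 n44130
theorem D44292 : act 8 n44130 = n44292 := rfl
theorem F204592 : act 3 n44292 = n44132 := d28_1 D44292 (iv D44132) (iv F203656)
theorem F204593 : act 7 n44292 = n44196 := d42_1 D44292 (iv D44196) (iv F203658)
theorem F204594 : act 9 n44292 = n44292 := d44_2 D44130 D44292 (iv D44292) (iv D44130) F202147
def n44293 : Q := act 8 n44131
theorem D44293 : act 8 n44131 = n44293 := rfl
theorem F204595 : act 2 n44293 = n44196 := d22_1 D44293 (iv D44196) (iv F203659)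
theorem F204596 : act 4 n44293 = n44134 := d33_1 D44293 (iv D44134) (iv F203660)
theorem F204597 : act 6 n44293 = n44132 := d40_1 D44293 (iv D44132) (iv F203662)
theorem F204598 : act 9 n44293 = n44293 := d44_2 D44131 D44293 (iv D44293) (iv D44131) F202151
def n44294 : Q := act 8 n44133
theorem D44294 : act 8 n44133 = n44294 := rfl
theorem F204599 : act 3 n44294 = n44190 := d28_1 D44294 (iv D44190) (iv F203666)
theorem F204600 : act 6 n44294 = n44187 := d40_1 D44294 (iv D44187) (iv F203668)
theorem F204601 : act 7 n44294 = n44134 := d42_1 D44294 (iv D44134) (iv F203669)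
theorem F204602 : act 9 n44294 = n44294 := d44_2 D44133 D44294 (iv D44294) (iv D44133) F202158
def n44295 : Q := act 9 n44137
theorem D44295 : act 9 n44137 = n44295 := rfl
theorem F204603 : act 2 n44295 = n44141 := d23_1 D44295 (iv D44141) (iv F203682)
theorem F204604 : act 3 n44295 = n44144 := d29_1 D44295 (iv D44144) (iv F203683)
theorem F204605 : act 4 n44295 = n44174 := d34_1 D44295 (iv D44174) (iv F203684)
theorem F204606 : act 5 n44295 = n44138 := d38_1 D44295 (iv D44138) D44137
theorem F204607 : act 6 n44295 = n44157 := d41_1 D44295 (iv D44157) (iv F203685)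
theorem F204608 : act 7 n44295 = n44161 := d43_1 D44295 (iv D44161) (iv F203686)
def n44296 : Q := act 9 n44140
theorem D44296 : act 9 n44140 = n44296 := rfl
theorem F204609 : act 2 n44296 = n44174 := d23_1 D44296 (iv D44174) (iv F203697)
theorem F204610 : act 3 n44296 = n44153 := d29_1 D44296 (iv D44153) (iv F203698)
theorem F204611 : act 4 n44296 = n44141 := d34_1 D44296 (iv D44141) D44140
theorem F204612 : act 5 n44296 = n44173 := d38_1 D44296 (iv D44173) (iv F203699)
theorem F204613 : act 6 n44296 = n44189 := d41_1 D44296 F203877 (iv F203700)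
theorem F204614 : act 7 n44296 = n44194 := d43_1 D44296 (iv D44194) (iv F203701)
def n44297 : Q := act 8 n44141
theorem D44297 : act 8 n44141 = n44297 := rfl
theorem F204615 : act 3 n44297 = n44142 := d28_1 D44297 (iv D44142) (iv F203703)
theorem F204616 : act 9 n44297 = n44297 := d44_2 D44141 D44297 (iv D44297) (iv D44141) F202182
def n44298 : Q := act 9 n44143
theorem D44298 : act 9 n44143 = n44298 := rfl
theorem F204617 : act 2 n44298 = n44146 := d23_1 D44298 (iv D44146) (iv F203708)
theorem F204618 : act 3 n44298 = n44161 := d29_1 D44298 (iv D44161) (iv F203709)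
theorem F204619 : act 4 n44298 = n44180 := d34_1 D44298 (iv D44180) (iv F203710)
theorem F204620 : act 5 n44298 = n44145 := d38_1 D44298 (iv D44145) (iv F203711)
theorem F204621 : act 6 n44298 = n44159 := d41_1 D44298 (iv D44159) (iv F203712)
theorem F204622 : act 7 n44298 = n44144 := d43_1 D44298 (iv D44144) D44143
def n44299 : Q := act 8 n44144
theorem D44299 : act 8 n44144 = n44299 := rfl
theorem F204623 : act 2 n44299 = n44147 := d22_1 D44299 (iv D44147) (iv F203714)
theorem F204624 : act 4 n44299 = n44181 := d33_1 D44299 (iv D44181) (iv F203715)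
theorem F204625 : act 6 n44299 = n44185 := d40_1 D44299 F203861 (iv F203717)
theorem F204626 : act 9 n44299 = n44299 := d44_2 D44144 D44299 (iv D44299) (iv D44144) F202204
def n44300 : Q := act 8 n44146
theorem D44300 : act 8 n44146 = n44300 := rfl
theorem F204627 : act 3 n44300 = n44148 := d28_1 D44300 (iv D44148) (iv F203721)
theorem F204628 : act 7 n44300 = n44147 := d42_1 D44300 (iv D44147) (iv F203723)
theorem F204629 : act 9 n44300 = n44300 := d44_2 D44146 D44300 (iv D44300) (iv D44146) F202217
def n44301 : Q := act 9 n44152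
theorem D44301 : act 9 n44152 = n44301 := rfl
theorem F204630 : act 2 n44301 = n44177 := d23_1 D44301 (iv D44177) (iv F203743)
theorem F204631 : act 3 n44301 = n44194 := d29_1 D44301 (iv D44194) (iv F203744)
theorem F204632 : act 4 n44301 = n44154 := d34_1 D44301 (iv D44154) (iv F203745)
theorem F204633 : act 5 n44301 = n44176 := d38_1 D44301 (iv D44176) (iv F203746)
theorem F204634 : act 6 n44301 = n44193 := d41_1 D44301 F203889 (iv F203747)
theorem F204635 : act 7 n44301 = n44153 := d43_1 D44301 (iv D44153) D44152
def n44302 : Q := act 8 n44153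
theorem D44302 : act 8 n44153 = n44302 := rfl
theorem F204636 : act 2 n44302 = n44178 := d22_1 D44302 (iv D44178) (iv F203749)
theorem F204637 : act 4 n44302 = n44155 := d33_1 D44302 (iv D44155) (iv F203750)
theorem F204638 : act 6 n44302 = n44191 := d40_1 D44302 F203882 (iv F203752)
theorem F204639 : act 9 n44302 = n44302 := d44_2 D44153 D44302 (iv D44302) (iv D44153) F202270
def n44303 : Q := act 8 n44154
theorem D44303 : act 8 n44154 = n44303 := rfl
theorem F204640 : act 3 n44303 = n44156 := d28_1 D44303 (iv D44156) (iv F203753)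
theorem F204641 : act 7 n44303 = n44155 := d42_1 D44303 (iv D44155) (iv F203755)
theorem F204642 : act 9 n44303 = n44303 := d44_2 D44154 D44303 (iv D44303) (iv D44154) F202273
def n44304 : Q := act 8 n44157
theorem D44304 : act 8 n44157 = n44304 := rfl
theorem F204643 : act 3 n44304 = n44185 := d28_1 D44304 F203861 (iv F203761)
theorem F204644 : act 4 n44304 = n44197 := d33_1 D44304 (iv D44197) (iv F203762)
theorem F204645 : act 7 n44304 = n44158 := d42_1 D44304 (iv D44158) (iv F203764)
theorem F204646 : act 9 n44304 = n44304 := d44_2 D44157 D44304 (iv D44304) (iv D44157) F202289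
def n44305 : Q := act 8 n44159
theorem D44305 : act 8 n44159 = n44305 := rfl
theorem F204647 : act 3 n44305 = n44162 := d28_1 D44305 (iv D44162) (iv F203768)
theorem F204648 : act 7 n44305 = n44160 := d42_1 D44305 (iv D44160) (iv F203770)
theorem F204649 : act 9 n44305 = n44305 := d44_2 D44159 D44305 (iv D44305) (iv D44159) F202302
def n44306 : Q := act 8 n44161
theorem D44306 : act 8 n44161 = n44306 := rfl
theorem F204650 : act 4 n44306 = n44199 := d33_1 D44306 (iv D44199) (iv F203773)
theorem F204651 : act 6 n44306 = n44162 := d40_1 D44306 (iv D44162) (iv F203774)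
theorem F204652 : act 9 n44306 = n44306 := d44_2 D44161 D44306 (iv D44306) (iv D44161) F202309
def n44307 : Q := act 8 n44164
theorem D44307 : act 8 n44164 = n44307 := rfl
theorem F204653 : act 1 n44307 = n44187 := d15_1 D44307 (iv D44187) (iv F203786)
theorem F204654 : act 3 n44307 = n44166 := d28_1 D44307 (iv D44166) (iv F203787)
theorem F204655 : act 7 n44307 = n44165 := d42_1 D44307 (iv D44165) (iv F203789)
theorem F204656 : act 9 n44307 = n44307 := d44_2 D44164 D44307 (iv D44307) (iv D44164) F202325
def n44308 : Q := act 8 n44167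
theorem D44308 : act 8 n44167 = n44308 := rfl
theorem F204657 : act 3 n44308 = n44169 := d28_1 D44308 (iv D44169) (iv F203799)
theorem F204658 : act 4 n44308 = n44187 := d33_1 D44308 (iv D44187) (iv F203800)
theorem F204659 : act 7 n44308 = n44186 := d42_1 D44308 (iv D44186) (iv F203802)
theorem F204660 : act 9 n44308 = n44308 := d44_2 D44167 D44308 (iv D44308) (iv D44167) F202350
def n44309 : Q := act 8 n44168
theorem D44309 : act 8 n44168 = n44309 := rfl
theorem F204661 : act 2 n44309 = n44186 := d22_1 D44309 (iv D44186) (iv F203803)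
theorem F204662 : act 4 n44309 = n44171 := d33_1 D44309 (iv D44171) (iv F203804)
theorem F204663 : act 6 n44309 = n44169 := d40_1 D44309 (iv D44169) (iv F203806)
theorem F204664 : act 9 n44309 = n44309 := d44_2 D44168 D44309 (iv D44309) (iv D44168) F202354
def n44310 : Q := act 8 n44170
theorem D44310 : act 8 n44170 = n44310 := rfl
theorem F204665 : act 2 n44310 = n44187 := d22_1 D44310 (iv D44187) (iv F203810)
theorem F204666 : act 3 n44310 = n44198 := d28_1 D44310 F203901 (iv F203811)
theorem F204667 : act 5 n44310 = n44197 := d37_1 D44310 (iv D44197) F202528 (iv F202416) (iv F203812)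
theorem F204668 : act 7 n44310 = n44171 := d42_1 D44310 (iv D44171) (iv F203813)
theorem F204669 : act 9 n44310 = n44310 := d44_2 D44170 D44310 (iv D44310) (iv D44170) F202361
def n44311 : Q := act 8 n44174
theorem D44311 : act 8 n44174 = n44311 := rfl
theorem F204670 : act 3 n44311 = n44175 := d28_1 D44311 (iv D44175) (iv F203826)
theorem F204671 : act 6 n44311 = n44197 := d40_1 D44311 (iv D44197) (iv F203828)
theorem F204672 : act 7 n44311 = n44199 := d42_1 D44311 (iv D44199) (iv F203829)
theorem F204673 : act 9 n44311 = n44311 := d44_2 D44174 D44311 (iv D44311) (iv D44174) F202385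
def n44312 : Q := act 8 n44177
theorem D44312 : act 8 n44177 = n44312 := rfl
theorem F204674 : act 3 n44312 = n44179 := d28_1 D44312 (iv D44179) (iv F203837)
theorem F204675 : act 7 n44312 = n44178 := d42_1 D44312 (iv D44178) (iv F203839)
theorem F204676 : act 9 n44312 = n44312 := d44_2 D44177 D44312 (iv D44312) (iv D44177) F202400
def n44313 : Q := act 8 n44180
theorem D44313 : act 8 n44180 = n44313 := rfl
theorem F204677 : act 3 n44313 = n44182 := d28_1 D44313 (iv D44182) (iv F203845)
theorem F204678 : act 7 n44313 = n44181 := d42_1 D44313 (iv D44181) (iv F203847)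
theorem F204679 : act 9 n44313 = n44313 := d44_2 D44180 D44313 (iv D44313) (iv D44180) F202419
def n44314 : Q := act 5 n44187
theorem D44314 : act 5 n44187 = n44314 := rfl
theorem F204680 : act 2 n44314 = n44197 := d19_1 D44314 (iv F204667) F204665
theorem F204681 : act 3 n44314 = n44191 := d25_1 D44314 (iv D44191) (iv F203866)
theorem F204682 : act 7 n44314 = n44188 := d36_2 (iv F203867) D44314 (iv D44188)
theorem F204683 : act 8 n44314 = n44189 := d37_2 D44187 D44314 (iv D44189) (iv D43926) (iv F202454)
theorem F204684 : act 9 n44314 = n44314 := d38_2 F203868 D44314 (iv D44314)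
def n44315 : Q := act 7 n44192
theorem D44315 : act 7 n44192 = n44315 := rfl
theorem F204685 : act 3 n44315 = n44195 := d27_1 D44315 F203893 (iv F203884)
theorem F204686 : act 8 n44315 = n44193 := d42_2 (iv F203885) D44315 (iv D44193)
theorem F204687 : act 9 n44315 = n44315 := d43_2 F203886 D44315 (iv D44315)
def n44316 : Q := act 8 n44194
theorem D44316 : act 8 n44194 = n44316 := rfl
theorem F204688 : act 2 n44316 = n44199 := d22_1 D44316 (iv D44199) (iv F203890)
theorem F204689 : act 6 n44316 = n44195 := d40_1 D44316 (iv D44195) (iv F203891)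
theorem F204690 : act 9 n44316 = n44316 := d44_2 D44194 D44316 (iv D44316) (iv D44194) F202492
def n44317 : Q := act 9 n44200
theorem D44317 : act 9 n44200 = n44317 := rfl
theorem F204691 : act 0 n44317 = n44290 := d8_1 D44317 (iv D44290) (iv F203905)
theorem F204692 : act 1 n44317 = n44298 := d16_1 D44317 (iv D44298) (iv F203906)
theorem F204693 : act 2 n44317 = n44202 := d23_1 D44317 (iv D44202) D44200
theorem F204694 : act 3 n44317 = n44249 := d29_1 D44317 (iv D44249) (iv F203907)
theorem F204695 : act 4 n44317 = n44205 := d34_1 D44317 (iv D44205) (iv F203908)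
theorem F204696 : act 5 n44317 = n44207 := d38_1 D44317 (iv D44207) (iv F203909)
theorem F204697 : act 6 n44317 = n44248 := d41_1 D44317 (iv D44248) F203912
theorem F204698 : act 7 n44317 = n44203 := d43_1 D44317 (iv D44203) (iv F203910)
def n44318 : Q := act 9 n44201
theorem D44318 : act 9 n44201 = n44318 := rfl
theorem F204699 : act 0 n44318 = n44291 := d8_1 D44318 (iv D44291) (iv F203913)
theorem F204700 : act 1 n44318 = n44295 := d16_1 D44318 (iv D44295) (iv F203914)
theorem F204701 : act 2 n44318 = n44248 := d23_1 D44318 (iv D44248) (iv F203915)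
theorem F204702 : act 3 n44318 = n44203 := d29_1 D44318 (iv D44203) (iv F203916)
theorem F204703 : act 4 n44318 = n44251 := d34_1 D44318 (iv D44251) (iv F203917)
theorem F204704 : act 5 n44318 = n44253 := d38_1 D44318 (iv D44253) (iv F203918)
theorem F204705 : act 6 n44318 = n44202 := d41_1 D44318 (iv D44202) D44201
theorem F204706 : act 7 n44318 = n44249 := d43_1 D44318 (iv D44249) (iv F203919)
def n44319 : Q := act 8 n44202
theorem D44319 : act 8 n44202 = n44319 := rfl
theorem F204707 : act 0 n44319 = n44292 := d7_1 D44319 (iv D44292) (iv F203921)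
theorem F204708 : act 1 n44319 = n44304 := d15_1 D44319 (iv D44304) (iv F203922)
theorem F204709 : act 3 n44319 = n44204 := d28_1 D44319 (iv D44204) (iv F203923)
theorem F204710 : act 4 n44319 = n44285 := d33_1 D44319 (iv D44285) (iv F203924)
theorem F204711 : act 5 n44319 = n44297 := d37_1 D44319 (iv D44297) F203704 (iv F202595) (iv F203925)
theorem F204712 : act 7 n44319 = n44284 := d42_1 D44319 (iv D44284) (iv F203926)
theorem F204713 : act 9 n44319 = n44319 := d44_2 D44202 D44319 (iv D44319) (iv D44202) F202549
def n44320 : Q := act 8 n44203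
theorem D44320 : act 8 n44203 = n44320 := rfl
theorem F204714 : act 0 n44320 = n44293 := d7_1 D44320 (iv D44293) (iv F203927)
theorem F204715 : act 1 n44320 = n44299 := d15_1 D44320 (iv D44299) (iv F203928)
theorem F204716 : act 2 n44320 = n44284 := d22_1 D44320 (iv D44284) (iv F203929)
theorem F204717 : act 4 n44320 = n44206 := d33_1 D44320 (iv D44206) (iv F203930)
theorem F204718 : act 5 n44320 = n44306 := d37_1 D44320 (iv D44306) (iv F204232) F204234 (iv F203931)
theorem F204719 : act 6 n44320 = n44204 := d40_1 D44320 (iv D44204) (iv F203932)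
theorem F204720 : act 9 n44320 = n44320 := d44_2 D44203 D44320 (iv D44320) (iv D44203) F202555
def n44321 : Q := act 8 n44205
theorem D44321 : act 8 n44205 = n44321 := rfl
theorem F204721 : act 0 n44321 = n44294 := d7_1 D44321 (iv D44294) (iv F203940)
theorem F204722 : act 1 n44321 = n44313 := d15_1 D44321 (iv D44313) (iv F203941)
theorem F204723 : act 2 n44321 = n44285 := d22_1 D44321 (iv D44285) (iv F203942)
theorem F204724 : act 3 n44321 = n44276 := d28_1 D44321 (iv D44276) (iv F203943)
theorem F204725 : act 5 n44321 = n44315 := d37_1 D44321 F204686 F203888 (iv F202755) (iv F203944)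
theorem F204726 : act 6 n44321 = n44273 := d40_1 D44321 (iv D44273) (iv F203945)
theorem F204727 : act 7 n44321 = n44206 := d42_1 D44321 (iv D44206) (iv F203946)
theorem F204728 : act 9 n44321 = n44321 := d44_2 D44205 D44321 (iv D44321) (iv D44205) F202568
def n44322 : Q := act 9 n44209
theorem D44322 : act 9 n44209 = n44322 := rfl
theorem F204729 : act 0 n44322 = n44295 := d8_1 D44322 (iv D44295) (iv F203971)
theorem F204730 : act 1 n44322 = n44301 := d16_1 D44322 (iv D44301) (iv F203972)
theorem F204731 : act 2 n44322 = n44213 := d23_1 D44322 (iv D44213) (iv F203973)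
theorem F204732 : act 3 n44322 = n44218 := d29_1 D44322 (iv D44218) (iv F203974)
theorem F204733 : act 4 n44322 = n44255 := d34_1 D44322 (iv D44255) (iv F203975)
theorem F204734 : act 5 n44322 = n44210 := d38_1 D44322 (iv D44210) D44209
theorem F204735 : act 6 n44322 = n44231 := d41_1 D44322 (iv D44231) (iv F203976)
theorem F204736 : act 7 n44322 = n44235 := d43_1 D44322 (iv D44235) (iv F203977)
def n44323 : Q := act 9 n44212
theorem D44323 : act 9 n44212 = n44323 := rfl
theorem F204737 : act 0 n44323 = n44296 := d8_1 D44323 (iv D44296) (iv F203996)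
theorem F204738 : act 1 n44323 = n44290 := d16_1 D44323 (iv D44290) (iv F203997)
theorem F204739 : act 2 n44323 = n44255 := d23_1 D44323 (iv D44255) (iv F203998)
theorem F204740 : act 3 n44323 = n44225 := d29_1 D44323 (iv D44225) (iv F203999)
theorem F204741 : act 4 n44323 = n44213 := d34_1 D44323 (iv D44213) D44212
theorem F204742 : act 5 n44323 = n44254 := d38_1 D44323 (iv D44254) (iv F204000)
theorem F204743 : act 6 n44323 = n44275 := d41_1 D44323 F204485 (iv F204001)
theorem F204744 : act 7 n44323 = n44281 := d43_1 D44323 (iv D44281) (iv F204002)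
def n44324 : Q := act 8 n44213
theorem D44324 : act 8 n44213 = n44324 := rfl
theorem F204745 : act 0 n44324 = n44297 := d7_1 D44324 (iv D44297) (iv F204004)
theorem F204746 : act 1 n44324 = n44294 := d15_1 D44324 (iv D44294) (iv F204005)
theorem F204747 : act 3 n44324 = n44215 := d28_1 D44324 (iv D44215) (iv F204006)
theorem F204748 : act 5 n44324 = n44292 := d37_1 D44324 (iv D44292) F203657 (iv F202628) (iv F204007)
theorem F204749 : act 6 n44324 = n44307 := d40_1 D44324 (iv D44307) (iv F204008)
theorem F204750 : act 7 n44324 = n44289 := d42_1 D44324 (iv D44289) (iv F204009)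
theorem F204751 : act 9 n44324 = n44324 := d44_2 D44213 D44324 (iv D44324) (iv D44213) F202621
def n44325 : Q := act 9 n44217
theorem D44325 : act 9 n44217 = n44325 := rfl
theorem F204752 : act 0 n44325 = n44298 := d8_1 D44325 (iv D44298) (iv F204036)
theorem F204753 : act 1 n44325 = n44296 := d16_1 D44325 (iv D44296) (iv F204037)
theorem F204754 : act 2 n44325 = n44220 := d23_1 D44325 (iv D44220) (iv F204038)
theorem F204755 : act 3 n44325 = n44235 := d29_1 D44325 (iv D44235) (iv F204039)
theorem F204756 : act 4 n44325 = n44263 := d34_1 D44325 (iv D44263) (iv F204040)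
theorem F204757 : act 5 n44325 = n44219 := d38_1 D44325 (iv D44219) (iv F204041)
theorem F204758 : act 6 n44325 = n44233 := d41_1 D44325 (iv D44233) (iv F204042)
theorem F204759 : act 7 n44325 = n44218 := d43_1 D44325 (iv D44218) D44217
def n44326 : Q := act 8 n44218
theorem D44326 : act 8 n44218 = n44326 := rfl
theorem F204760 : act 0 n44326 = n44299 := d7_1 D44326 (iv D44299) (iv F204044)
theorem F204761 : act 1 n44326 = n44316 := d15_1 D44326 (iv D44316) (iv F204045)
theorem F204762 : act 2 n44326 = n44221 := d22_1 D44326 (iv D44221) (iv F204046)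
theorem F204763 : act 4 n44326 = n44264 := d33_1 D44326 (iv D44264) (iv F204047)
theorem F204764 : act 5 n44326 = n44309 := d37_1 D44326 (iv D44309) F203805 (iv F202699) (iv F204048)
theorem F204765 : act 6 n44326 = n44267 := d40_1 D44326 F204422 (iv F204049)
theorem F204766 : act 9 n44326 = n44326 := d44_2 D44218 D44326 (iv D44326) (iv D44218) F202687
def n44327 : Q := act 8 n44220
theorem D44327 : act 8 n44220 = n44327 := rfl
theorem F204767 : act 0 n44327 = n44300 := d7_1 D44327 (iv D44300) (iv F204058)
theorem F204768 : act 1 n44327 = n44273 := d15_1 D44327 (iv D44273) (iv F204059)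
theorem F204769 : act 3 n44327 = n44222 := d28_1 D44327 (iv D44222) (iv F204060)
theorem F204770 : act 4 n44327 = n44305 := d33_1 D44327 (iv D44305) (iv F204061)
theorem F204771 : act 5 n44327 = n44308 := d37_1 D44327 (iv D44308) F203801 (iv F202727) (iv F204062)
theorem F204772 : act 6 n44327 = n44313 := d40_1 D44327 (iv D44313) (iv F204063)
theorem F204773 : act 7 n44327 = n44221 := d42_1 D44327 (iv D44221) (iv F204064)
theorem F204774 : act 9 n44327 = n44327 := d44_2 D44220 D44327 (iv D44327) (iv D44220) F202714
def n44328 : Q := act 9 n44224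
theorem D44328 : act 9 n44224 = n44328 := rfl
theorem F204775 : act 0 n44328 = n44301 := d8_1 D44328 (iv D44301) (iv F204089)
theorem F204776 : act 1 n44328 = n44291 := d16_1 D44328 (iv D44291) (iv F204090)
theorem F204777 : act 2 n44328 = n44258 := d23_1 D44328 (iv D44258) (iv F204091)
theorem F204778 : act 3 n44328 = n44281 := d29_1 D44328 (iv D44281) (iv F204092)
theorem F204779 : act 4 n44328 = n44226 := d34_1 D44328 (iv D44226) (iv F204093)
theorem F204780 : act 5 n44328 = n44257 := d38_1 D44328 (iv D44257) (iv F204094)
theorem F204781 : act 6 n44328 = n44280 := d41_1 D44328 F204524 (iv F204095)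
theorem F204782 : act 7 n44328 = n44225 := d43_1 D44328 (iv D44225) D44224
def n44329 : Q := act 8 n44225
theorem D44329 : act 8 n44225 = n44329 := rfl
theorem F204783 : act 0 n44329 = n44302 := d7_1 D44329 (iv D44302) (iv F204097)
theorem F204784 : act 1 n44329 = n44309 := d15_1 D44329 (iv D44309) (iv F204098)
theorem F204785 : act 2 n44329 = n44259 := d22_1 D44329 (iv D44259) (iv F204099)
theorem F204786 : act 4 n44329 = n44227 := d33_1 D44329 (iv D44227) (iv F204100)
theorem F204787 : act 5 n44329 = n44316 := d37_1 D44329 (iv D44316) (iv F204032) F204035 (iv F204101)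
theorem F204788 : act 6 n44329 = n44277 := d40_1 D44329 F204499 (iv F204102)
theorem F204789 : act 9 n44329 = n44329 := d44_2 D44225 D44329 (iv D44329) (iv D44225) F202761
def n44330 : Q := act 8 n44226
theorem D44330 : act 8 n44226 = n44330 := rfl
theorem F204790 : act 0 n44330 = n44303 := d7_1 D44330 (iv D44303) (iv F204103)
theorem F204791 : act 1 n44330 = n44310 := d15_1 D44330 (iv D44310) (iv F204104)
theorem F204792 : act 2 n44330 = n44315 := d22_1 D44330 F204686 (iv F204105)
theorem F204793 : act 3 n44330 = n44228 := d28_1 D44330 (iv D44228) (iv F204106)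
theorem F204794 : act 5 n44330 = n44285 := d37_1 D44330 (iv D44285) F203526 (iv F202782) (iv F204107)
theorem F204795 : act 6 n44330 = n44312 := d40_1 D44330 (iv D44312) (iv F204108)
theorem F204796 : act 7 n44330 = n44227 := d42_1 D44330 (iv D44227) (iv F204109)
theorem F204797 : act 9 n44330 = n44330 := d44_2 D44226 D44330 (iv D44330) (iv D44226) F202768
def n44331 : Q := act 8 n44231
theorem D44331 : act 8 n44231 = n44331 := rfl
theorem F204798 : act 0 n44331 = n44304 := d7_1 D44331 (iv D44304) (iv F204143)
theorem F204799 : act 1 n44331 = n44315 := d15_1 D44331 F204686 (iv F204144)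
theorem F204800 : act 2 n44331 = n44307 := d22_1 D44331 (iv D44307) (iv F204145)
theorem F204801 : act 3 n44331 = n44267 := d28_1 D44331 F204422 (iv F204146)
theorem F204802 : act 4 n44331 = n44287 := d33_1 D44331 (iv D44287) (iv F204147)
theorem F204803 : act 5 n44331 = n44313 := d37_1 D44331 (iv D44313) F203846 (iv F202846) (iv F204148)
theorem F204804 : act 7 n44331 = n44232 := d42_1 D44331 (iv D44232) (iv F204149)
theorem F204805 : act 9 n44331 = n44331 := d44_2 D44231 D44331 (iv D44331) (iv D44231) F202831
def n44332 : Q := act 8 n44233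
theorem D44332 : act 8 n44233 = n44332 := rfl
theorem F204806 : act 0 n44332 = n44305 := d7_1 D44332 (iv D44305) (iv F204158)
theorem F204807 : act 1 n44332 = n44314 := d15_1 D44332 F204683 (iv F204159)
theorem F204808 : act 2 n44332 = n44313 := d22_1 D44332 (iv D44313) (iv F204160)
theorem F204809 : act 3 n44332 = n44236 := d28_1 D44332 (iv D44236) (iv F204161)
theorem F204810 : act 4 n44332 = n44300 := d33_1 D44332 (iv D44300) (iv F204162)
theorem F204811 : act 5 n44332 = n44307 := d37_1 D44332 (iv D44307) F203788 (iv F202884) (iv F204163)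
theorem F204812 : act 7 n44332 = n44234 := d42_1 D44332 (iv D44234) (iv F204164)
theorem F204813 : act 9 n44332 = n44332 := d44_2 D44233 D44332 (iv D44332) (iv D44233) F202869
def n44333 : Q := act 8 n44235
theorem D44333 : act 8 n44235 = n44333 := rfl
theorem F204814 : act 0 n44333 = n44306 := d7_1 D44333 (iv D44306) (iv F204173)
theorem F204815 : act 1 n44333 = n44302 := d15_1 D44333 (iv D44302) (iv F204174)
theorem F204816 : act 2 n44333 = n44289 := d22_1 D44333 (iv D44289) (iv F204175)
theorem F204817 : act 4 n44333 = n44288 := d33_1 D44333 (iv D44288) (iv F204176)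
theorem F204818 : act 5 n44333 = n44293 := d37_1 D44333 (iv D44293) F203661 (iv F203733) (iv F204177)
theorem F204819 : act 6 n44333 = n44236 := d40_1 D44333 (iv D44236) (iv F204178)
theorem F204820 : act 9 n44333 = n44333 := d44_2 D44235 D44333 (iv D44333) (iv D44235) F202890
def n44334 : Q := act 8 n44237
theorem D44334 : act 8 n44237 = n44334 := rfl
theorem F204821 : act 0 n44334 = n44285 := d7_1 D44334 (iv D44285) (iv F204186)
theorem F204822 : act 1 n44334 = n44312 := d15_1 D44334 (iv D44312) (iv F204187)
theorem F204823 : act 2 n44334 = n44294 := d22_1 D44334 (iv D44294) (iv F204188)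
theorem F204824 : act 3 n44334 = n44238 := d28_1 D44334 (iv D44238) (iv F204189)
theorem F204825 : act 4 n44334 = n44292 := d33_1 D44334 (iv D44292) (iv F204190)
theorem F204826 : act 5 n44334 = n44303 := d37_1 D44334 (iv D44303) F203754 (iv F202965) (iv F204191)
theorem F204827 : act 6 n44334 = n44310 := d40_1 D44334 (iv D44310) (iv F204192)
theorem F204828 : act 7 n44334 = n44247 := d42_1 D44334 (iv D44247) (iv F204193)
theorem F204829 : act 9 n44334 = n44334 := d44_2 D44237 D44334 (iv D44334) (iv D44237) F202935
def n44335 : Q := act 8 n44240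
theorem D44335 : act 8 n44240 = n44335 := rfl
theorem F204830 : act 0 n44335 = n44307 := d7_1 D44335 (iv D44307) (iv F204211)
theorem F204831 : act 1 n44335 = n44300 := d15_1 D44335 (iv D44300) (iv F204212)
theorem F204832 : act 2 n44335 = n44304 := d22_1 D44335 (iv D44304) (iv F204213)
theorem F204833 : act 3 n44335 = n44241 := d28_1 D44335 (iv D44241) (iv F204214)
theorem F204834 : act 4 n44335 = n44314 := d33_1 D44335 F204683 (iv F204215)
theorem F204835 : act 5 n44335 = n44305 := d37_1 D44335 (iv D44305) F203769 (iv F202990) (iv F204216)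
theorem F204836 : act 6 n44335 = n44297 := d40_1 D44335 (iv D44297) (iv F204217)
theorem F204837 : act 7 n44335 = n44261 := d42_1 D44335 (iv D44261) (iv F204218)
theorem F204838 : act 9 n44335 = n44335 := d44_2 D44240 D44335 (iv D44335) (iv D44240) F202982
def n44336 : Q := act 6 n44245
theorem D44336 : act 6 n44245 = n44336 := rfl
theorem F204839 : act 0 n44336 = n44289 := d5_1 D44336 F204578 (iv F204254)
theorem F204840 : act 1 n44336 = n44264 := d13_1 D44336 F204398 (iv F204255)
theorem F204841 : act 2 n44336 = n44306 := d20_1 D44336 F204651 (iv F204256)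
theorem F204842 : act 3 n44336 = n44262 := d26_1 D44336 F204384 (iv F204257)
theorem F204843 : act 4 n44336 = n44316 := d31_1 D44336 F204689 F204261
theorem F204844 : act 5 n44336 = n44284 := d35_1 D44336 F204551 F203522 (iv F203042) D44245
theorem F204845 : act 7 n44336 = n44297 := d39_2 (iv F204258) D44336 (iv F204836) F204837 F204377
theorem F204846 : act 8 n44336 = n44246 := d40_2 (iv F204259) D44336 (iv D44246)
theorem F204847 : act 9 n44336 = n44336 := d41_2 F204260 D44336 (iv D44336)
def n44337 : Q := act 8 n44248
theorem D44337 : act 8 n44248 = n44337 := rfl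
theorem F204848 : act 0 n44337 = n44308 := d7_1 D44337 (iv D44308) (iv F204278)
theorem F204849 : act 1 n44337 = n44305 := d15_1 D44337 (iv D44305) (iv F204279)
theorem F204850 : act 3 n44337 = n44250 := d28_1 D44337 (iv D44250) (iv F204280)
theorem F204851 : act 4 n44337 = n44273 := d33_1 D44337 (iv D44273) (iv F204281)
theorem F204852 : act 5 n44337 = n44300 := d37_1 D44337 (iv D44300) F203722 (iv F203131) (iv F204282)
theorem F204853 : act 7 n44337 = n44272 := d42_1 D44337 (iv D44272) (iv F204283)
theorem F204854 : act 9 n44337 = n44337 := d44_2 D44248 D44337 (iv D44337) (iv D44248) F203085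
def n44338 : Q := act 8 n44249
theorem D44338 : act 8 n44249 = n44338 := rfl
theorem F204855 : act 0 n44338 = n44309 := d7_1 D44338 (iv D44309) (iv F204284)
theorem F204856 : act 1 n44338 = n44306 := d15_1 D44338 (iv D44306) (iv F204285)
theorem F204857 : act 2 n44338 = n44272 := d22_1 D44338 (iv D44272) (iv F204286)
theorem F204858 : act 4 n44338 = n44252 := d33_1 D44338 (iv D44252) (iv F204287)
theorem F204859 : act 5 n44338 = n44299 := d37_1 D44338 (iv D44299) F203716 (iv F203536) (iv F204288)
theorem F204860 : act 6 n44338 = n44250 := d40_1 D44338 (iv D44250) (iv F204289)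
theorem F204861 : act 9 n44338 = n44338 := d44_2 D44249 D44338 (iv D44338) (iv D44249) F203091
def n44339 : Q := act 8 n44251
theorem D44339 : act 8 n44251 = n44339 := rfl
theorem F204862 : act 0 n44339 = n44310 := d7_1 D44339 (iv D44310) (iv F204297)
theorem F204863 : act 1 n44339 = n44311 := d15_1 D44339 (iv D44311) (iv F204298)
theorem F204864 : act 2 n44339 = n44273 := d22_1 D44339 (iv D44273) (iv F204299)
theorem F204865 : act 3 n44339 = n44286 := d28_1 D44339 (iv D44286) (iv F204300)
theorem F204866 : act 5 n44339 = n44287 := d37_1 D44339 (iv D44287) F203604 (iv F203235) (iv F204301)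
theorem F204867 : act 6 n44339 = n44285 := d40_1 D44339 (iv D44285) (iv F204302)
theorem F204868 : act 7 n44339 = n44252 := d42_1 D44339 (iv D44252) (iv F204303)
theorem F204869 : act 9 n44339 = n44339 := d44_2 D44251 D44339 (iv D44339) (iv D44251) F203104
def n44340 : Q := act 8 n44255
theorem D44340 : act 8 n44255 = n44340 := rfl
theorem F204870 : act 0 n44340 = n44311 := d7_1 D44340 (iv D44311) (iv F204327)
theorem F204871 : act 1 n44340 = n44303 := d15_1 D44340 (iv D44303) (iv F204328)
theorem F204872 : act 3 n44340 = n44256 := d28_1 D44340 (iv D44256) (iv F204329)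
theorem F204873 : act 5 n44340 = n44312 := d37_1 D44340 (iv D44312) F203838 (iv F203156) (iv F204330)
theorem F204874 : act 6 n44340 = n44287 := d40_1 D44340 (iv D44287) (iv F204331)
theorem F204875 : act 7 n44340 = n44288 := d42_1 D44340 (iv D44288) (iv F204332)
theorem F204876 : act 9 n44340 = n44340 := d44_2 D44255 D44340 (iv D44340) (iv D44255) F203149
def n44341 : Q := act 8 n44258
theorem D44341 : act 8 n44258 = n44341 := rfl
theorem F204877 : act 0 n44341 = n44312 := d7_1 D44341 (iv D44312) (iv F204349)
theorem F204878 : act 1 n44341 = n44287 := d15_1 D44341 (iv D44287) (iv F204350)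
theorem F204879 : act 3 n44341 = n44260 := d28_1 D44341 (iv D44260) (iv F204351)
theorem F204880 : act 4 n44341 = n44315 := d33_1 D44341 F204686 (iv F204352)
theorem F204881 : act 5 n44341 = n44311 := d37_1 D44341 (iv D44311) F203827 (iv F203195) (iv F204353)
theorem F204882 : act 6 n44341 = n44303 := d40_1 D44341 (iv D44303) (iv F204354)
theorem F204883 : act 7 n44341 = n44259 := d42_1 D44341 (iv D44259) (iv F204355)
theorem F204884 : act 9 n44341 = n44341 := d44_2 D44258 D44341 (iv D44341) (iv D44258) F203182
def n44342 : Q := act 8 n44263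
theorem D44342 : act 8 n44263 = n44342 := rfl
theorem F204885 : act 0 n44342 = n44313 := d7_1 D44342 (iv D44313) (iv F204387)
theorem F204886 : act 1 n44342 = n44297 := d15_1 D44342 (iv D44297) (iv F204388)
theorem F204887 : act 2 n44342 = n44305 := d22_1 D44342 (iv D44305) (iv F204389)
theorem F204888 : act 3 n44342 = n44265 := d28_1 D44342 (iv D44265) (iv F204390)
theorem F204889 : act 5 n44342 = n44304 := d37_1 D44342 (iv D44304) F203763 (iv F203255) (iv F204391)
theorem F204890 : act 6 n44342 = n44300 := d40_1 D44342 (iv D44300) (iv F204392)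
theorem F204891 : act 7 n44342 = n44264 := d42_1 D44342 (iv D44264) (iv F204393)
theorem F204892 : act 9 n44342 = n44342 := d44_2 D44263 D44342 (iv D44342) (iv D44263) F203242
def n44343 : Q := act 5 n44273
theorem D44343 : act 5 n44273 = n44343 := rfl
theorem F204893 : act 0 n44343 = n44314 := d4_1 D44343 (iv D44314) (iv F204467)
theorem F204894 : act 1 n44343 = n44308 := d12_1 D44343 (iv F204771) F204768
theorem F204895 : act 2 n44343 = n44287 := d19_1 D44343 (iv F204866) F204864
theorem F204896 : act 3 n44343 = n44277 := d25_1 D44343 (iv D44277) (iv F204468)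
theorem F204897 : act 4 n44343 = n44307 := d30_1 D44343 (iv F204811) F204810 (iv F204852) F204851
theorem F204898 : act 7 n44343 = n44274 := d36_2 (iv F204469) D44343 (iv D44274)
theorem F204899 : act 8 n44343 = n44275 := d37_2 D44273 D44343 (iv D44275) (iv D44074) (iv F203336)
theorem F204900 : act 9 n44343 = n44343 := d38_2 F204470 D44343 (iv D44343)
def n44344 : Q := act 7 n44279
theorem D44344 : act 7 n44279 = n44344 := rfl
theorem F204901 : act 0 n44344 = n44315 := d6_1 D44344 (iv D44315) (iv F204510)
theorem F204902 : act 1 n44344 = n44292 := d14_1 D44344 F204593 (iv F204511)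
theorem F204903 : act 2 n44344 = n44303 := d21_1 D44344 F204641 (iv F204512)
theorem F204904 : act 3 n44344 = n44282 := d27_1 D44344 F204536 (iv F204513)
theorem F204905 : act 4 n44344 = n44312 := d32_1 D44344 F204675 (iv F204514)
theorem F204906 : act 5 n44344 = n44294 := d36_1 D44344 F204601 (iv F204515)
theorem F204907 : act 8 n44344 = n44280 := d42_2 (iv F204516) D44344 (iv D44280)
theorem F204908 : act 9 n44344 = n44344 := d43_2 F204517 D44344 (iv D44344)
def n44345 : Q := act 8 n44281
theorem D44345 : act 8 n44281 = n44345 := rfl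
theorem F204909 : act 0 n44345 = n44316 := d7_1 D44345 (iv D44316) (iv F204525)
theorem F204910 : act 1 n44345 = n44293 := d15_1 D44345 (iv D44293) (iv F204526)
theorem F204911 : act 2 n44345 = n44288 := d22_1 D44345 (iv D44288) (iv F204527)
theorem F204912 : act 4 n44345 = n44289 := d33_1 D44345 (iv D44289) (iv F204528)
theorem F204913 : act 5 n44345 = n44302 := d37_1 D44345 (iv D44302) F203751 (iv F203738) (iv F204529)
theorem F204914 : act 6 n44345 = n44282 := d40_1 D44345 (iv D44282) (iv F204530)
theorem F204915 : act 9 n44345 = n44345 := d44_2 D44281 D44345 (iv D44345) (iv D44281) F203426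
def n44346 : Q := act 8 n44290
theorem D44346 : act 8 n44290 = n44346 := rfl
theorem F204916 : act 2 n44346 = n44292 := d22_1 D44346 (iv D44292) (iv F204580)
theorem F204917 : act 3 n44346 = n44309 := d28_1 D44346 (iv D44309) (iv F204581)
theorem F204918 : act 4 n44346 = n44294 := d33_1 D44346 (iv D44294) (iv F204582)
theorem F204919 : act 6 n44346 = n44308 := d40_1 D44346 (iv D44308) (iv F204584)
theorem F204920 : act 7 n44346 = n44293 := d42_1 D44346 (iv D44293) (iv F204585)
theorem F204921 : act 9 n44346 = n44346 := d44_2 D44290 D44346 (iv D44346) (iv D44290) F203648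
def n44347 : Q := act 8 n44291
theorem D44347 : act 8 n44291 = n44347 := rfl
theorem F204922 : act 2 n44347 = n44308 := d22_1 D44347 (iv D44308) (iv F204586)
theorem F204923 : act 3 n44347 = n44293 := d28_1 D44347 (iv D44293) (iv F204587)
theorem F204924 : act 4 n44347 = n44310 := d33_1 D44347 (iv D44310) (iv F204588)
theorem F204925 : act 6 n44347 = n44292 := d40_1 D44347 (iv D44292) (iv F204590)
theorem F204926 : act 7 n44347 = n44309 := d42_1 D44347 (iv D44309) (iv F204591)
theorem F204927 : act 9 n44347 = n44347 := d44_2 D44291 D44347 (iv D44347) (iv D44291) F203655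
def n44348 : Q := act 8 n44295
theorem D44348 : act 8 n44295 = n44348 := rfl
theorem F204928 : act 2 n44348 = n44297 := d22_1 D44348 (iv D44297) (iv F204603)
theorem F204929 : act 3 n44348 = n44299 := d28_1 D44348 (iv D44299) (iv F204604)
theorem F204930 : act 4 n44348 = n44311 := d33_1 D44348 (iv D44311) (iv F204605)
theorem F204931 : act 6 n44348 = n44304 := d40_1 D44348 (iv D44304) (iv F204607)
theorem F204932 : act 7 n44348 = n44306 := d42_1 D44348 (iv D44306) (iv F204608)
theorem F204933 : act 9 n44348 = n44348 := d44_2 D44295 D44348 (iv D44348) (iv D44295) F203687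
def n44349 : Q := act 8 n44296
theorem D44349 : act 8 n44296 = n44349 := rfl
theorem F204934 : act 2 n44349 = n44311 := d22_1 D44349 (iv D44311) (iv F204609)
theorem F204935 : act 3 n44349 = n44302 := d28_1 D44349 (iv D44302) (iv F204610)
theorem F204936 : act 4 n44349 = n44297 := d33_1 D44349 (iv D44297) (iv F204611)
theorem F204937 : act 6 n44349 = n44314 := d40_1 D44349 F204683 (iv F204613)
theorem F204938 : act 7 n44349 = n44316 := d42_1 D44349 (iv D44316) (iv F204614)
theorem F204939 : act 9 n44349 = n44349 := d44_2 D44296 D44349 (iv D44349) (iv D44296) F203702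
def n44350 : Q := act 8 n44298
theorem D44350 : act 8 n44298 = n44350 := rfl
theorem F204940 : act 2 n44350 = n44300 := d22_1 D44350 (iv D44300) (iv F204617)
theorem F204941 : act 3 n44350 = n44306 := d28_1 D44350 (iv D44306) (iv F204618)
theorem F204942 : act 4 n44350 = n44313 := d33_1 D44350 (iv D44313) (iv F204619)
theorem F204943 : act 6 n44350 = n44305 := d40_1 D44350 (iv D44305) (iv F204621)
theorem F204944 : act 7 n44350 = n44299 := d42_1 D44350 (iv D44299) (iv F204622)
theorem F204945 : act 9 n44350 = n44350 := d44_2 D44298 D44350 (iv D44350) (iv D44298) F203713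
def n44351 : Q := act 8 n44301
theorem D44351 : act 8 n44301 = n44351 := rfl
theorem F204946 : act 2 n44351 = n44312 := d22_1 D44351 (iv D44312) (iv F204630)
theorem F204947 : act 3 n44351 = n44316 := d28_1 D44351 (iv D44316) (iv F204631)
theorem F204948 : act 4 n44351 = n44303 := d33_1 D44351 (iv D44303) (iv F204632)
theorem F204949 : act 6 n44351 = n44315 := d40_1 D44351 F204686 (iv F204634)
theorem F204950 : act 7 n44351 = n44302 := d42_1 D44351 (iv D44302) (iv F204635)
theorem F204951 : act 9 n44351 = n44351 := d44_2 D44301 D44351 (iv D44351) (iv D44301) F203748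
def n44352 : Q := act 8 n44317
theorem D44352 : act 8 n44317 = n44352 := rfl
theorem F204952 : act 0 n44352 = n44346 := d7_1 D44352 (iv D44346) (iv F204691)
theorem F204953 : act 1 n44352 = n44350 := d15_1 D44352 (iv D44350) (iv F204692)
theorem F204954 : act 2 n44352 = n44319 := d22_1 D44352 (iv D44319) (iv F204693)
theorem F204955 : act 3 n44352 = n44338 := d28_1 D44352 (iv D44338) (iv F204694)
theorem F204956 : act 4 n44352 = n44321 := d33_1 D44352 (iv D44321) (iv F204695)
theorem F204957 : act 5 n44352 = n44348 := d37_1 D44352 (iv D44348) F204606 (iv F203961) (iv F204696)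
theorem F204958 : act 6 n44352 = n44337 := d40_1 D44352 (iv D44337) (iv F204697)
theorem F204959 : act 7 n44352 = n44320 := d42_1 D44352 (iv D44320) (iv F204698)
theorem F204960 : act 9 n44352 = n44352 := d44_2 D44317 D44352 (iv D44352) (iv D44317) F203911
def n44353 : Q := act 8 n44318
theorem D44353 : act 8 n44318 = n44353 := rfl
theorem F204961 : act 0 n44353 = n44347 := d7_1 D44353 (iv D44347) (iv F204699)
theorem F204962 : act 1 n44353 = n44348 := d15_1 D44353 (iv D44348) (iv F204700)
theorem F204963 : act 2 n44353 = n44337 := d22_1 D44353 (iv D44337) (iv F204701)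
theorem F204964 : act 3 n44353 = n44320 := d28_1 D44353 (iv D44320) (iv F204702)
theorem F204965 : act 4 n44353 = n44339 := d33_1 D44353 (iv D44339) (iv F204703)
theorem F204966 : act 5 n44353 = n44350 := d37_1 D44353 (iv D44350) F204620 (iv F204318) (iv F204704)
theorem F204967 : act 6 n44353 = n44319 := d40_1 D44353 (iv D44319) (iv F204705)
theorem F204968 : act 7 n44353 = n44338 := d42_1 D44353 (iv D44338) (iv F204706)
theorem F204969 : act 9 n44353 = n44353 := d44_2 D44318 D44353 (iv D44353) (iv D44318) F203920
def n44354 : Q := act 8 n44322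
theorem D44354 : act 8 n44322 = n44354 := rfl
theorem F204970 : act 0 n44354 = n44348 := d7_1 D44354 (iv D44348) (iv F204729)
theorem F204971 : act 1 n44354 = n44351 := d15_1 D44354 (iv D44351) (iv F204730)
theorem F204972 : act 2 n44354 = n44324 := d22_1 D44354 (iv D44324) (iv F204731)
theorem F204973 : act 3 n44354 = n44326 := d28_1 D44354 (iv D44326) (iv F204732)
theorem F204974 : act 4 n44354 = n44340 := d33_1 D44354 (iv D44340) (iv F204733)
theorem F204975 : act 5 n44354 = n44346 := d37_1 D44354 (iv D44346) F204583 (iv F203986) (iv F204734)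
theorem F204976 : act 6 n44354 = n44331 := d40_1 D44354 (iv D44331) (iv F204735)
theorem F204977 : act 7 n44354 = n44333 := d42_1 D44354 (iv D44333) (iv F204736)
theorem F204978 : act 9 n44354 = n44354 := d44_2 D44322 D44354 (iv D44354) (iv D44322) F203978
def n44355 : Q := act 8 n44323
theorem D44355 : act 8 n44323 = n44355 := rfl
theorem F204979 : act 0 n44355 = n44349 := d7_1 D44355 (iv D44349) (iv F204737)
theorem F204980 : act 1 n44355 = n44346 := d15_1 D44355 (iv D44346) (iv F204738)
theorem F204981 : act 2 n44355 = n44340 := d22_1 D44355 (iv D44340) (iv F204739)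
theorem F204982 : act 3 n44355 = n44329 := d28_1 D44355 (iv D44329) (iv F204740)
theorem F204983 : act 4 n44355 = n44324 := d33_1 D44355 (iv D44324) (iv F204741)
theorem F204984 : act 5 n44355 = n44351 := d37_1 D44355 (iv D44351) F204633 (iv F204326) (iv F204742)
theorem F204985 : act 6 n44355 = n44343 := d40_1 D44355 F204899 (iv F204743)
theorem F204986 : act 7 n44355 = n44345 := d42_1 D44355 (iv D44345) (iv F204744)
theorem F204987 : act 9 n44355 = n44355 := d44_2 D44323 D44355 (iv D44355) (iv D44323) F204003
def n44356 : Q := act 8 n44325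
theorem D44356 : act 8 n44325 = n44356 := rfl
theorem F204988 : act 0 n44356 = n44350 := d7_1 D44356 (iv D44350) (iv F204752)
theorem F204989 : act 1 n44356 = n44349 := d15_1 D44356 (iv D44349) (iv F204753)
theorem F204990 : act 2 n44356 = n44327 := d22_1 D44356 (iv D44327) (iv F204754)
theorem F204991 : act 3 n44356 = n44333 := d28_1 D44356 (iv D44333) (iv F204755)
theorem F204992 : act 4 n44356 = n44342 := d33_1 D44356 (iv D44342) (iv F204756)
theorem F204993 : act 5 n44356 = n44347 := d37_1 D44356 (iv D44347) F204589 (iv F204057) (iv F204757)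
theorem F204994 : act 6 n44356 = n44332 := d40_1 D44356 (iv D44332) (iv F204758)
theorem F204995 : act 7 n44356 = n44326 := d42_1 D44356 (iv D44326) (iv F204759)
theorem F204996 : act 9 n44356 = n44356 := d44_2 D44325 D44356 (iv D44356) (iv D44325) F204043
def n44357 : Q := act 8 n44328
theorem D44357 : act 8 n44328 = n44357 := rfl
theorem F204997 : act 0 n44357 = n44351 := d7_1 D44357 (iv D44351) (iv F204775)
theorem F204998 : act 1 n44357 = n44347 := d15_1 D44357 (iv D44347) (iv F204776)
theorem F204999 : act 2 n44357 = n44341 := d22_1 D44357 (iv D44341) (iv F204777)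
theorem F205000 : act 3 n44357 = n44345 := d28_1 D44357 (iv D44345) (iv F204778)
theorem F205001 : act 4 n44357 = n44330 := d33_1 D44357 (iv D44330) (iv F204779)
theorem F205002 : act 5 n44357 = n44349 := d37_1 D44357 (iv D44349) F204612 (iv F204348) (iv F204780)
theorem F205003 : act 6 n44357 = n44344 := d40_1 D44357 F204907 (iv F204781)
theorem F205004 : act 7 n44357 = n44329 := d42_1 D44357 (iv D44329) (iv F204782)
theorem F205005 : act 9 n44357 = n44357 := d44_2 D44328 D44357 (iv D44357) (iv D44328) F204096

end Cfsg.Agent.Helper17.SP6TC
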