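import Cfsg.Agent.Helper17.SP6TC.Facts1

set_option autoImplicit false
set_option linter.all false

noncomputable section

namespace Cfsg.Agent.Helper17.SP6TC

theorem F13151 : act 3 n2684 = n1879 := d25_1 D2684 (iv D1879) (iv F9344)
def n2685 : Q := act 4 n1872
theorem D2685 : act 4 n1872 = n2685 := rfl
theorem F13152 : act 1 n2685 = n2023 := d11_1 D2685 (iv D2023) (iv F9347)
theorem F13153 : act 3 n2685 = n2685 := d24_1 D2685 (iv D2685) F9348 F6641 (iv F9348)
theorem F13154 : act 5 n2685 = n1943 := d30_2 D1872 D2685 (iv D1943) (iv D1355) (iv F6621)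
theorem F13155 : act 7 n2685 = n2685 := d32_2 F9349 D2685 (iv D2685)
theorem F13156 : act 8 n2685 = n2685 := d33_2 F9350 D2685 (iv D2685)
def n2686 : Q := act 6 n1872
theorem D2686 : act 6 n1872 = n2686 := rfl
theorem F13157 : act 1 n2686 = n2024 := d13_1 D2686 (iv D2024) (iv F9347)
theorem F13158 : act 3 n2686 = n1880 := d26_1 D2686 (iv D1880) (iv F9348)
theorem F13159 : act 8 n2686 = n2686 := d40_2 F9350 D2686 (iv D2686)
def n2687 : Q := act 8 n1873
theorem D2687 : act 8 n1873 = n2687 := rfl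
theorem F13161 : act 4 n2687 = n1883 := d33_1 D2687 (iv D1883) (iv F9352)
theorem F13162 : act 6 n2687 = n1874 := d40_1 D2687 (iv D1874) D1873
def n2689 : Q := act 9 n1874
theorem D2689 : act 9 n1874 = n2689 := rfl
theorem F13169 : act 1 n2689 = n2027 := d16_1 D2689 (iv D2027) (iv F9355)
theorem F13171 : act 7 n2689 = n1876 := d43_1 D2689 (iv D1876) (iv F9357)
def n2690 : Q := act 8 n1875
theorem D2690 : act 8 n1875 = n2690 := rfl
theorem F13172 : act 1 n2690 = n2028 := d15_1 D2690 (iv D2028) (iv F9358)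
theorem F13174 : act 7 n2690 = n1877 := d42_1 D2690 (iv D1877) (iv F9361)
def n2691 : Q := act 8 n1876
theorem D2691 : act 8 n1876 = n2691 := rfl
theorem F13175 : act 1 n2691 = n2029 := d15_1 D2691 (iv D2029) (iv F9362)
theorem F13176 : act 4 n2691 = n1887 := d33_1 D2691 (iv D1887) (iv F9363)
theorem F13177 : act 6 n2691 = n2691 := d40_1 D2691 (iv D2691) F9364
theorem F13178 : act 9 n2691 = n1877 := d44_2 D1876 D2691 (iv D1877) (iv D1304) D1303
def n2692 : Q := act 5 n1877
theorem D2692 : act 5 n1877 = n2692 := rfl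
theorem F13179 : act 1 n2692 = n2030 := d12_1 D2692 (iv D2030) (iv F9365)
theorem F13180 : act 8 n2692 = n1879 := d37_2 D1877 D2692 (iv D1879) (iv D1306) (iv F6631)
def n2693 : Q := act 5 n1878
theorem D2693 : act 5 n1878 = n2693 := rfl
theorem F13181 : act 1 n2693 = n2031 := d12_1 D2693 (iv D2031) (iv F9368)
theorem F13182 : act 7 n2693 = n1879 := d36_2 (iv F9371) D2693 (iv D1879)
def n2694 : Q := act 4 n1879
theorem D2694 : act 4 n1879 = n2694 := rfl
theorem F13183 : act 1 n2694 = n2032 := d11_1 D2694 (iv D2032) (iv F9372)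
theorem F13184 : act 5 n2694 = n1882 := d30_2 D1879 D2694 (iv D1882) (iv D1309) (iv F6638)
def n2695 : Q := act 6 n1879
theorem D2695 : act 6 n1879 = n2695 := rfl
theorem F13185 : act 1 n2695 = n2033 := d13_1 D2695 (iv D2033) (iv F9372)
theorem F13186 : act 5 n2695 = n1880 := d35_1 D2695 (iv D1880) (iv D1307) (iv F6639) D1879
def n2696 : Q := act 7 n1880
theorem D2696 : act 7 n1880 = n2696 := rfl
theorem F13187 : act 1 n2696 = n2034 := d14_1 D2696 (iv D2034) (iv F9373)
theorem F13188 : act 4 n2696 = n2696 := d32_1 D2696 (iv D2696) F9374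
theorem F13189 : act 6 n2696 = n2696 := d39_1 D2696 (iv D2696) (iv D1880) F6642 D1880
theorem F13190 : act 8 n2696 = n2696 := d42_2 F9375 D2696 (iv D2696)
def n2697 : Q := act 4 n1881
theorem D2697 : act 4 n1881 = n2697 := rfl
theorem F13191 : act 1 n2697 = n2035 := d11_1 D2697 (iv D2035) (iv F9376)
theorem F13192 : act 7 n2697 = n1882 := d32_2 (iv F9378) D2697 (iv D1882)
theorem F13193 : act 8 n2697 = n1893 := d33_2 (iv F9379) D2697 (iv D1893)
def n2698 : Q := act 6 n1881
theorem D2698 : act 6 n1881 = n2698 := rfl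
theorem F13194 : act 1 n2698 = n2036 := d13_1 D2698 (iv D2036) (iv F9376)
theorem F13195 : act 3 n2698 = n1950 := d26_1 D2698 (iv D1950) (iv F9377)
theorem F13196 : act 5 n2698 = n2698 := d35_1 D2698 (iv D2698) (iv D1881) F6646 D1881
theorem F13197 : act 7 n2698 = n2698 := d39_2 (iv F9378) D2698 (iv D2698) F9378 F6650
theorem F13198 : act 8 n2698 = n1894 := d40_2 (iv F9379) D2698 (iv D1894)
def n2699 : Q := act 3 n1882
theorem D2699 : act 3 n1882 = n2699 := rfl
theorem F13199 : act 1 n2699 = n2037 := d10_1 D2699 (iv D2037) (iv F9380)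
theorem F13200 : act 4 n2699 = n1951 := d24_2 D1882 D2699 (iv D1951) (iv D1360) (iv F6649)
theorem F13201 : act 6 n2699 = n2699 := d26_2 F9381 D2699 (iv D2699)
theorem F13202 : act 8 n2699 = n1895 := d28_2 (iv F9382) D2699 (iv D1895)
def n2700 : Q := act 5 n1883
theorem D2700 : act 5 n1883 = n2700 := rfl
theorem F13207 : act 8 n2700 = n1896 := d37_2 D1883 D2700 (iv D1896) (iv D1320) (iv F6654)
def n2703 : Q := act 8 n1885
theorem D2703 : act 8 n1885 = n2703 := rfl
theorem F13216 : act 1 n2703 = n2041 := d15_1 D2703 (iv D2041) (iv F9392)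
theorem F13218 : act 7 n2703 = n1887 := d42_1 D2703 (iv D1887) (iv F9395)
def n2704 : Q := act 5 n1886
theorem D2704 : act 5 n1886 = n2704 := rfl
theorem F13220 : act 1 n2704 = n2042 := d12_1 D2704 (iv D2042) (iv F9396)
theorem F13222 : act 7 n2704 = n1888 := d36_2 (iv F9398) D2704 (iv D1888)
def n2705 : Q := act 5 n1887
theorem D2705 : act 5 n1887 = n2705 := rfl
theorem F13224 : act 1 n2705 = n2043 := d12_1 D2705 (iv D2043) (iv F9399)
theorem F13225 : act 3 n2705 = n2705 := d25_1 D2705 (iv D2705) F9400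
theorem F13226 : act 8 n2705 = n2705 := d37_2 D1887 D2705 (iv D2705) (iv D1887) F6666
theorem F13227 : act 9 n2705 = n1888 := d38_2 (iv F9402) D2705 (iv D1888)
def n2706 : Q := act 4 n1888
theorem D2706 : act 4 n1888 = n2706 := rfl
theorem F13228 : act 1 n2706 = n2044 := d11_1 D2706 (iv D2044) (iv F9403)
theorem F13229 : act 8 n2706 = n1890 := d33_2 (iv F9405) D2706 (iv D1890)
def n2707 : Q := act 6 n1888
theorem D2707 : act 6 n1888 = n2707 := rfl
theorem F13230 : act 1 n2707 = n2045 := d13_1 D2707 (iv D2045) (iv F9403)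
theorem F13231 : act 3 n2707 = n2707 := d26_1 D2707 (iv D2707) F9404
theorem F13232 : act 5 n2707 = n2707 := d35_1 D2707 (iv D2707) (iv D1888) F6670 D1888
theorem F13233 : act 8 n2707 = n1891 := d40_2 (iv F9405) D2707 (iv D1891)
def n2708 : Q := act 4 n1889
theorem D2708 : act 4 n1889 = n2708 := rfl
theorem F13234 : act 1 n2708 = n2046 := d11_1 D2708 (iv D2046) (iv F9406)
theorem F13235 : act 5 n2708 = n1893 := d30_2 D1889 D2708 (iv D1893) (iv D1318) (iv F6673)
theorem F13236 : act 7 n2708 = n1890 := d32_2 (iv F9408) D2708 (iv D1890)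
def n2710 : Q := act 3 n1890
theorem D2710 : act 3 n1890 = n2710 := rfl
theorem F13242 : act 1 n2710 = n2048 := d10_1 D2710 (iv D2048) (iv F9410)
theorem F13243 : act 4 n2710 = n2710 := d24_2 D1890 D2710 (iv D2710) (iv D1890) F6678
theorem F13244 : act 5 n2710 = n1895 := d25_2 (iv F9411) D2710 (iv D1895)
theorem F13245 : act 9 n2710 = n2710 := d29_2 F9412 D2710 (iv D2710)
def n2711 : Q := act 6 n1890
theorem D2711 : act 6 n1890 = n2711 := rfl
theorem F13246 : act 1 n2711 = n2049 := d13_1 D2711 (iv D2049) (iv F9410)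
theorem F13247 : act 4 n2711 = n1891 := d31_1 D2711 (iv D1891) D1890
theorem F13248 : act 5 n2711 = n2711 := d35_1 D2711 (iv D2711) F9411 F6690 (iv F9411)
theorem F13249 : act 9 n2711 = n2711 := d41_2 F9412 D2711 (iv D2711)
def n2712 : Q := act 7 n1891
theorem D2712 : act 7 n1891 = n2712 := rfl
def n2713 : Q := act 3 n1893
theorem D2713 : act 3 n1893 = n2713 := rfl
theorem F13254 : act 1 n2713 = n2051 := d10_1 D2713 (iv D2051) (iv F9423)
theorem F13255 : act 4 n2713 = n1952 := d24_2 D1893 D2713 (iv D1952) (iv D1361) (iv F6686)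
theorem F13256 : act 7 n2713 = n1895 := d27_2 (iv F9424) D2713 (iv D1895)
theorem F13257 : act 9 n2713 = n2713 := d29_2 F9425 D2713 (iv D2713)
def n2714 : Q := act 6 n1893
theorem D2714 : act 6 n1893 = n2714 := rfl
theorem F13258 : act 1 n2714 = n2052 := d13_1 D2714 (iv D2052) (iv F9423)
theorem F13259 : act 4 n2714 = n1894 := d31_1 D2714 (iv D1894) D1893
theorem F13260 : act 7 n2714 = n2714 := d39_2 (iv F9424) D2714 (iv D2714) F9424 F6690
theorem F13261 : act 9 n2714 = n2714 := d41_2 F9425 D2714 (iv D2714)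
def n2715 : Q := act 2 n1895
theorem D2715 : act 2 n1895 = n2715 := rfl
theorem F13262 : act 4 n2715 = n1954 := d18_2 (iv F9432) D2715 (iv D1954)
theorem F13263 : act 6 n2715 = n2715 := d20_2 F9433 D2715 (iv D2715)
theorem F13264 : act 9 n2715 = n2715 := d23_2 F9434 D2715 (iv D2715)
def n2716 : Q := act 4 n1896
theorem D2716 : act 4 n1896 = n2716 := rfl
theorem F13265 : act 1 n2716 = n2054 := d11_1 D2716 (iv D2054) (iv F9435)
def n2736 : Q := act 5 n1910
theorem D2736 : act 5 n1910 = n2736 := rfl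
def n2738 : Q := act 6 n1912
theorem D2738 : act 6 n1912 = n2738 := rfl
theorem F13357 : act 0 n2738 = n1913 := d5_1 D2738 (iv D1913) D1912
theorem F13358 : act 2 n2738 = n2076 := d20_1 D2738 (iv D2076) (iv F9502)
theorem F13359 : act 3 n2738 = n2738 := d26_1 D2738 (iv D2738) F9503
theorem F13360 : act 8 n2738 = n1933 := d40_2 (iv F9506) D2738 (iv D1933)
def n2739 : Q := act 9 n1912
theorem D2739 : act 9 n1912 = n2739 := rfl
theorem F13361 : act 0 n2739 = n1914 := d8_1 D2739 (iv D1914) D1912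
theorem F13362 : act 2 n2739 = n2077 := d23_1 D2739 (iv D2077) (iv F9502)
theorem F13363 : act 3 n2739 = n2739 := d29_1 D2739 (iv D2739) F9503
theorem F13364 : act 5 n2739 = n2739 := d38_1 D2739 (iv D2739) F9504
theorem F13365 : act 7 n2739 = n2739 := d43_1 D2739 (iv D2739) F9505
def n2740 : Q := act 5 n1913
theorem D2740 : act 5 n1913 = n2740 := rfl
theorem F13366 : act 1 n2740 = n1915 := d12_1 D2740 (iv D1915) (iv F9507)
theorem F13367 : act 2 n2740 = n2078 := d19_1 D2740 (iv D2078) (iv F9508)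
theorem F13368 : act 3 n2740 = n2740 := d25_1 D2740 (iv D2740) F9509
theorem F13369 : act 6 n2740 = n2740 := d35_2 D1913 D2740 (iv D2740) (iv D1913) F6751
theorem F13370 : act 8 n2740 = n2740 := d37_2 (iv F9510) D2740 (iv D2740) F9510 F6819
def n2741 : Q := act 7 n1913
theorem D2741 : act 7 n1913 = n2741 := rfl
theorem F13371 : act 1 n2741 = n1916 := d14_1 D2741 (iv D1916) (iv F9507)
theorem F13372 : act 2 n2741 = n2079 := d21_1 D2741 (iv D2079) (iv F9508)
theorem F13373 : act 3 n2741 = n2741 := d27_1 D2741 (iv D2741) F9509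
theorem F13374 : act 6 n2741 = n2741 := d39_1 D2741 (iv D2741) (iv D1913) F6752 D1913
theorem F13375 : act 8 n2741 = n1935 := d42_2 (iv F9510) D2741 (iv D1935)
def n2742 : Q := act 9 n1913
theorem D2742 : act 9 n1913 = n2742 := rfl
theorem F13376 : act 1 n2742 = n1917 := d16_1 D2742 (iv D1917) (iv F9507)
theorem F13377 : act 2 n2742 = n2080 := d23_1 D2742 (iv D2080) (iv F9508)
theorem F13378 : act 3 n2742 = n2742 := d29_1 D2742 (iv D2742) F9509
theorem F13379 : act 6 n2742 = n1914 := d41_1 D2742 (iv D1914) D1913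
def n2743 : Q := act 8 n1914
theorem D2743 : act 8 n1914 = n2743 := rfl
theorem F13380 : act 1 n2743 = n1918 := d15_1 D2743 (iv D1918) (iv F9511)
theorem F13381 : act 2 n2743 = n2081 := d22_1 D2743 (iv D2081) (iv F9512)
theorem F13382 : act 3 n2743 = n2743 := d28_1 D2743 (iv D2743) F9513
theorem F13383 : act 7 n2743 = n2743 := d42_1 D2743 (iv D2743) F9515
theorem F13384 : act 9 n2743 = n1937 := d44_2 D1914 D2743 (iv D1937) (iv D1349) (iv F6753)
def n2744 : Q := act 4 n1915
theorem D2744 : act 4 n1915 = n2744 := rfl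
theorem F13385 : act 2 n2744 = n1919 := d18_1 D2744 (iv D1919) (iv F9516)
theorem F13386 : act 6 n2744 = n2744 := d31_2 F9518 D2744 (iv D2744)
theorem F13387 : act 8 n2744 = n2744 := d33_2 F9519 D2744 (iv D2744)
def n2745 : Q := act 7 n1915
theorem D2745 : act 7 n1915 = n2745 := rfl
theorem F13388 : act 2 n2745 = n1920 := d21_1 D2745 (iv D1920) (iv F9516)
theorem F13389 : act 3 n2745 = n2745 := d27_1 D2745 (iv D2745) F9517
theorem F13390 : act 5 n2745 = n1916 := d36_1 D2745 (iv D1916) D1915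
theorem F13391 : act 8 n2745 = n2745 := d42_2 F9519 D2745 (iv D2745)
def n2746 : Q := act 9 n1915
theorem D2746 : act 9 n1915 = n2746 := rfl
theorem F13392 : act 2 n2746 = n1921 := d23_1 D2746 (iv D1921) (iv F9516)
theorem F13393 : act 3 n2746 = n2746 := d29_1 D2746 (iv D2746) F9517
theorem F13394 : act 5 n2746 = n1917 := d38_1 D2746 (iv D1917) D1915
theorem F13395 : act 6 n2746 = n2746 := d41_1 D2746 (iv D2746) F9518
def n2747 : Q := act 9 n1916
theorem D2747 : act 9 n1916 = n2747 := rfl
theorem F13396 : act 2 n2747 = n1922 := d23_1 D2747 (iv D1922) (iv F9520)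
theorem F13397 : act 3 n2747 = n2747 := d29_1 D2747 (iv D2747) F9521
theorem F13398 : act 6 n2747 = n2747 := d41_1 D2747 (iv D2747) F9522
theorem F13399 : act 7 n2747 = n1917 := d43_1 D2747 (iv D1917) D1916
def n2748 : Q := act 8 n1917
theorem D2748 : act 8 n1917 = n2748 := rfl
theorem F13400 : act 2 n2748 = n1923 := d22_1 D2748 (iv D1923) (iv F9524)
theorem F13401 : act 3 n2748 = n2748 := d28_1 D2748 (iv D2748) F9525
theorem F13402 : act 6 n2748 = n1918 := d40_1 D2748 (iv D1918) (iv F9526)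
theorem F13403 : act 9 n2748 = n1939 := d44_2 D1917 D2748 (iv D1939) (iv D1351) (iv F6756)
def n2749 : Q := act 5 n1918
theorem D2749 : act 5 n1918 = n2749 := rfl
theorem F13404 : act 2 n2749 = n1924 := d19_1 D2749 (iv D1924) (iv F9527)
theorem F13405 : act 3 n2749 = n2749 := d25_1 D2749 (iv D2749) F9528
theorem F13406 : act 7 n2749 = n2749 := d36_2 F9529 D2749 (iv D2749)
theorem F13407 : act 8 n2749 = n2749 := d37_2 D1918 D2749 (iv D2749) (iv D1918) F6759
theorem F13408 : act 9 n2749 = n1940 := d38_2 (iv F9530) D2749 (iv D1940)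
def n2750 : Q := act 7 n1919
theorem D2750 : act 7 n1919 = n2750 := rfl
theorem F13409 : act 1 n2750 = n2088 := d14_1 D2750 (iv D2088) (iv F9531)
theorem F13410 : act 3 n2750 = n2750 := d27_1 D2750 (iv D2750) F9532
theorem F13411 : act 4 n2750 = n1920 := d32_1 D2750 (iv D1920) D1919
theorem F13412 : act 8 n2750 = n2750 := d42_2 F9534 D2750 (iv D2750)
def n2751 : Q := act 9 n1919
theorem D2751 : act 9 n1919 = n2751 := rfl
theorem F13413 : act 1 n2751 = n2089 := d16_1 D2751 (iv D2089) (iv F9531)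
theorem F13414 : act 3 n2751 = n2751 := d29_1 D2751 (iv D2751) F9532
theorem F13415 : act 4 n2751 = n1921 := d34_1 D2751 (iv D1921) D1919
theorem F13416 : act 6 n2751 = n2751 := d41_1 D2751 (iv D2751) F9533
def n2752 : Q := act 6 n1920
theorem D2752 : act 6 n1920 = n2752 := rfl
theorem F13417 : act 1 n2752 = n2090 := d13_1 D2752 (iv D2090) (iv F9535)
theorem F13418 : act 3 n2752 = n1925 := d26_1 D2752 (iv D1925) (iv F9536)
theorem F13419 : act 5 n2752 = n2752 := d35_1 D2752 (iv D2752) F9537 F6767 (iv F9537)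
theorem F13420 : act 7 n2752 = n2752 := d39_2 D1920 D2752 (iv D2752) (iv D1920) F6763
theorem F13421 : act 8 n2752 = n2752 := d40_2 F9538 D2752 (iv D2752)
def n2753 : Q := act 9 n1920
theorem D2753 : act 9 n1920 = n2753 := rfl
theorem F13422 : act 1 n2753 = n2091 := d16_1 D2753 (iv D2091) (iv F9535)
theorem F13423 : act 3 n2753 = n1926 := d29_1 D2753 (iv D1926) (iv F9536)
theorem F13424 : act 5 n2753 = n1922 := d38_1 D2753 (iv D1922) (iv F9537)
theorem F13425 : act 7 n2753 = n1921 := d43_1 D2753 (iv D1921) D1920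
def n2754 : Q := act 8 n1921
theorem D2754 : act 8 n1921 = n2754 := rfl
theorem F13426 : act 1 n2754 = n2092 := d15_1 D2754 (iv D2092) (iv F9539)
theorem F13427 : act 3 n2754 = n1927 := d28_1 D2754 (iv D1927) (iv F9540)
theorem F13428 : act 6 n2754 = n2754 := d40_1 D2754 (iv D2754) F9542
theorem F13429 : act 9 n2754 = n2754 := d44_2 D1921 D2754 (iv D2754) (iv D1921) F6764
def n2755 : Q := act 8 n1922
theorem D2755 : act 8 n1922 = n2755 := rfl
theorem F13430 : act 1 n2755 = n2093 := d15_1 D2755 (iv D2093) (iv F9543)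
theorem F13431 : act 3 n2755 = n1928 := d28_1 D2755 (iv D1928) (iv F9544)
theorem F13432 : act 6 n2755 = n2755 := d40_1 D2755 (iv D2755) F9545
theorem F13433 : act 7 n2755 = n1923 := d42_1 D2755 (iv D1923) (iv F9546)
theorem F13434 : act 9 n2755 = n1941 := d44_2 D1922 D2755 (iv D1941) (iv D1353) (iv F6768)
def n2756 : Q := act 5 n1923
theorem D2756 : act 5 n1923 = n2756 := rfl
theorem F13435 : act 1 n2756 = n2094 := d12_1 D2756 (iv D2094) (iv F9547)
theorem F13436 : act 3 n2756 = n1929 := d25_1 D2756 (iv D1929) (iv F9548)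
theorem F13437 : act 9 n2756 = n1942 := d38_2 (iv F9550) D2756 (iv D1942)
def n2757 : Q := act 4 n1924
theorem D2757 : act 4 n1924 = n2757 := rfl
theorem F13438 : act 1 n2757 = n2095 := d11_1 D2757 (iv D2095) (iv F9551)
theorem F13439 : act 3 n2757 = n2757 := d24_1 D2757 (iv D2757) F9552 F6798 (iv F9552)
theorem F13440 : act 7 n2757 = n2757 := d32_2 F9553 D2757 (iv D2757)
theorem F13441 : act 8 n2757 = n2757 := d33_2 F9554 D2757 (iv D2757)
theorem F13442 : act 9 n2757 = n1943 := d34_2 (iv F9555) D2757 (iv D1943)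
def n2758 : Q := act 6 n1924
theorem D2758 : act 6 n1924 = n2758 := rfl
theorem F13443 : act 1 n2758 = n2096 := d13_1 D2758 (iv D2096) (iv F9551)
theorem F13444 : act 3 n2758 = n1930 := d26_1 D2758 (iv D1930) (iv F9552)
theorem F13445 : act 8 n2758 = n2758 := d40_2 F9554 D2758 (iv D2758)
theorem F13446 : act 9 n2758 = n1944 := d41_2 (iv F9555) D2758 (iv D1944)
def n2759 : Q := act 9 n1925
theorem D2759 : act 9 n1925 = n2759 := rfl
theorem F13447 : act 1 n2759 = n2097 := d16_1 D2759 (iv D2097) (iv F9556)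
theorem F13448 : act 2 n2759 = n2759 := d23_1 D2759 (iv D2759) F9557
theorem F13449 : act 4 n2759 = n2759 := d34_1 D2759 (iv D2759) F9558
theorem F13450 : act 5 n2759 = n2759 := d38_1 D2759 (iv D2759) F9559
theorem F13451 : act 6 n2759 = n1926 := d41_1 D2759 (iv D1926) D1925
theorem F13452 : act 7 n2759 = n2759 := d43_1 D2759 (iv D2759) F9560
def n2760 : Q := act 8 n1926
theorem D2760 : act 8 n1926 = n2760 := rfl
theorem F13453 : act 1 n2760 = n2098 := d15_1 D2760 (iv D2098) (iv F9562)
theorem F13454 : act 2 n2760 = n2760 := d22_1 D2760 (iv D2760) F9563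
theorem F13455 : act 4 n2760 = n2760 := d33_1 D2760 (iv D2760) F9564
theorem F13456 : act 7 n2760 = n1927 := d42_1 D2760 (iv D1927) (iv F9566)
theorem F13457 : act 9 n2760 = n2760 := d44_2 D1926 D2760 (iv D2760) (iv D1926) F6780
def n2761 : Q := act 5 n1927
theorem D2761 : act 5 n1927 = n2761 := rfl
theorem F13458 : act 1 n2761 = n2099 := d12_1 D2761 (iv D2099) (iv F9567)
theorem F13459 : act 2 n2761 = n2761 := d19_1 D2761 (iv D2761) F9568
theorem F13460 : act 8 n2761 = n1929 := d37_2 D1927 D2761 (iv D1929) (iv D1343) (iv F6784)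
theorem F13461 : act 9 n2761 = n2761 := d38_2 F9571 D2761 (iv D2761)
def n2762 : Q := act 5 n1928
theorem D2762 : act 5 n1928 = n2762 := rfl
theorem F13462 : act 1 n2762 = n2100 := d12_1 D2762 (iv D2100) (iv F9572)
theorem F13463 : act 2 n2762 = n2762 := d19_1 D2762 (iv D2762) F9573
theorem F13464 : act 7 n2762 = n1929 := d36_2 (iv F9576) D2762 (iv D1929)
theorem F13465 : act 9 n2762 = n1945 := d38_2 (iv F9577) D2762 (iv D1945)
def n2763 : Q := act 4 n1929
theorem D2763 : act 4 n1929 = n2763 := rfl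
theorem F13466 : act 1 n2763 = n2101 := d11_1 D2763 (iv D2101) (iv F9578)
theorem F13467 : act 2 n2763 = n2763 := d18_1 D2763 (iv D2763) F9579
theorem F13468 : act 5 n2763 = n1932 := d30_2 D1929 D2763 (iv D1932) (iv D1346) (iv F6793)
theorem F13469 : act 9 n2763 = n1946 := d34_2 (iv F9580) D2763 (iv D1946)
def n2764 : Q := act 6 n1929
theorem D2764 : act 6 n1929 = n2764 := rfl
theorem F13470 : act 1 n2764 = n2102 := d13_1 D2764 (iv D2102) (iv F9578)
theorem F13471 : act 2 n2764 = n2764 := d20_1 D2764 (iv D2764) F9579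
theorem F13472 : act 5 n2764 = n1930 := d35_1 D2764 (iv D1930) (iv D1344) (iv F6794) D1929
theorem F13473 : act 9 n2764 = n1947 := d41_2 (iv F9580) D2764 (iv D1947)
def n2765 : Q := act 7 n1930
theorem D2765 : act 7 n1930 = n2765 := rfl
theorem F13474 : act 1 n2765 = n2103 := d14_1 D2765 (iv D2103) (iv F9581)
theorem F13475 : act 2 n2765 = n2765 := d21_1 D2765 (iv D2765) F9582
theorem F13476 : act 4 n2765 = n2765 := d32_1 D2765 (iv D2765) F9583
theorem F13477 : act 6 n2765 = n2765 := d39_1 D2765 (iv D2765) (iv D1930) F6799 D1930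
theorem F13478 : act 8 n2765 = n2765 := d42_2 F9584 D2765 (iv D2765)
theorem F13479 : act 9 n2765 = n1948 := d43_2 (iv F9585) D2765 (iv D1948)
def n2766 : Q := act 4 n1931
theorem D2766 : act 4 n1931 = n2766 := rfl
theorem F13480 : act 1 n2766 = n2104 := d11_1 D2766 (iv D2104) (iv F9586)
theorem F13481 : act 2 n2766 = n2766 := d18_1 D2766 (iv D2766) F9587
theorem F13482 : act 7 n2766 = n1932 := d32_2 (iv F9588) D2766 (iv D1932)
theorem F13483 : act 8 n2766 = n2766 := d33_2 F9589 D2766 (iv D2766)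
theorem F13484 : act 9 n2766 = n1949 := d34_2 (iv F9590) D2766 (iv D1949)
def n2767 : Q := act 6 n1931
theorem D2767 : act 6 n1931 = n2767 := rfl
theorem F13485 : act 1 n2767 = n2105 := d13_1 D2767 (iv D2105) (iv F9586)
theorem F13486 : act 2 n2767 = n2767 := d20_1 D2767 (iv D2767) F9587
theorem F13487 : act 5 n2767 = n2767 := d35_1 D2767 (iv D2767) (iv D1931) F6804 D1931
theorem F13488 : act 7 n2767 = n2767 := d39_2 (iv F9588) D2767 (iv D2767) F9588 F6809
theorem F13489 : act 8 n2767 = n2767 := d40_2 F9589 D2767 (iv D2767)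
theorem F13490 : act 9 n2767 = n1950 := d41_2 (iv F9590) D2767 (iv D1950)
def n2768 : Q := act 3 n1932
theorem D2768 : act 3 n1932 = n2768 := rfl
theorem F13491 : act 1 n2768 = n2106 := d10_1 D2768 (iv D2106) (iv F9591)
theorem F13492 : act 6 n2768 = n2768 := d26_2 F9593 D2768 (iv D2768)
theorem F13493 : act 8 n2768 = n2768 := d28_2 F9594 D2768 (iv D2768)
theorem F13494 : act 9 n2768 = n1951 := d29_2 (iv F9595) D2768 (iv D1951)
def n2769 : Q := act 7 n1933
theorem D2769 : act 7 n1933 = n2769 := rfl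
theorem F13495 : act 0 n2769 = n1935 := d6_1 D2769 (iv D1935) (iv F9596)
theorem F13496 : act 2 n2769 = n2107 := d21_1 D2769 (iv D2107) (iv F9597)
theorem F13497 : act 3 n2769 = n2769 := d27_1 D2769 (iv D2769) F9598
theorem F13498 : act 5 n2769 = n2769 := d36_1 D2769 (iv D2769) F9599
theorem F13499 : act 6 n2769 = n2769 := d39_1 D2769 (iv D2769) (iv D1933) F6815 D1933
def n2770 : Q := act 9 n1933
theorem D2770 : act 9 n1933 = n2770 := rfl
theorem F13500 : act 0 n2770 = n1936 := d8_1 D2770 (iv D1936) (iv F9596)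
theorem F13501 : act 2 n2770 = n2108 := d23_1 D2770 (iv D2108) (iv F9597)
theorem F13502 : act 3 n2770 = n2770 := d29_1 D2770 (iv D2770) F9598
theorem F13503 : act 5 n2770 = n2770 := d38_1 D2770 (iv D2770) F9599
theorem F13504 : act 6 n2770 = n1934 := d41_1 D2770 (iv D1934) D1933
def n2771 : Q := act 8 n1934
theorem D2771 : act 8 n1934 = n2771 := rfl
theorem F13505 : act 0 n2771 = n1937 := d7_1 D2771 (iv D1937) (iv F9600)
theorem F13506 : act 2 n2771 = n2109 := d22_1 D2771 (iv D2109) (iv F9601)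
theorem F13507 : act 3 n2771 = n2771 := d28_1 D2771 (iv D2771) F9602
theorem F13508 : act 7 n2771 = n2771 := d42_1 D2771 (iv D2771) F9604
def n2772 : Q := act 9 n1935
theorem D2772 : act 9 n1935 = n2772 := rfl
theorem F13509 : act 1 n2772 = n1938 := d16_1 D2772 (iv D1938) (iv F9605)
theorem F13510 : act 2 n2772 = n2110 := d23_1 D2772 (iv D2110) (iv F9606)
theorem F13511 : act 3 n2772 = n2772 := d29_1 D2772 (iv D2772) F9607
theorem F13512 : act 5 n2772 = n2772 := d38_1 D2772 (iv D2772) F9608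
theorem F13513 : act 6 n2772 = n2772 := d41_1 D2772 (iv D2772) F9609
theorem F13514 : act 7 n2772 = n1936 := d43_1 D2772 (iv D1936) D1935
def n2773 : Q := act 8 n1936
theorem D2773 : act 8 n1936 = n2773 := rfl
theorem F13515 : act 1 n2773 = n1939 := d15_1 D2773 (iv D1939) (iv F9610)
theorem F13516 : act 2 n2773 = n2111 := d22_1 D2773 (iv D2111) (iv F9611)
theorem F13517 : act 3 n2773 = n2773 := d28_1 D2773 (iv D2773) F9612
theorem F13518 : act 6 n2773 = n1937 := d40_1 D2773 (iv D1937) (iv F9614)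
def n2774 : Q := act 5 n1937
theorem D2774 : act 5 n1937 = n2774 := rfl
theorem F13519 : act 1 n2774 = n1940 := d12_1 D2774 (iv D1940) (iv F9615)
theorem F13520 : act 2 n2774 = n2112 := d19_1 D2774 (iv D2112) (iv F9616)
theorem F13521 : act 3 n2774 = n2774 := d25_1 D2774 (iv D2774) F9617
theorem F13522 : act 7 n2774 = n2774 := d36_2 F9618 D2774 (iv D2774)
theorem F13523 : act 8 n2774 = n1960 := d37_2 D1937 D2774 (iv D1960) (iv D1368) (iv F6823)
def n2775 : Q := act 8 n1938
theorem D2775 : act 8 n1938 = n2775 := rfl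
theorem F13524 : act 2 n2775 = n1941 := d22_1 D2775 (iv D1941) (iv F9619)
theorem F13525 : act 3 n2775 = n2775 := d28_1 D2775 (iv D2775) F9620
theorem F13526 : act 6 n2775 = n2775 := d40_1 D2775 (iv D2775) F9622
theorem F13527 : act 7 n2775 = n1939 := d42_1 D2775 (iv D1939) (iv F9623)
def n2776 : Q := act 5 n1939
theorem D2776 : act 5 n1939 = n2776 := rfl
theorem F13528 : act 2 n2776 = n1942 := d19_1 D2776 (iv D1942) (iv F9624)
theorem F13529 : act 3 n2776 = n2776 := d25_1 D2776 (iv D2776) F9625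
theorem F13530 : act 8 n2776 = n2776 := d37_2 D1939 D2776 (iv D2776) (iv D1939) F6831
def n2777 : Q := act 4 n1940
theorem D2777 : act 4 n1940 = n2777 := rfl
theorem F13531 : act 2 n2777 = n1943 := d18_1 D2777 (iv D1943) (iv F9627)
theorem F13532 : act 7 n2777 = n2777 := d32_2 F9629 D2777 (iv D2777)
theorem F13533 : act 8 n2777 = n1961 := d33_2 (iv F9630) D2777 (iv D1961)
def n2778 : Q := act 6 n1940
theorem D2778 : act 6 n1940 = n2778 := rfl
theorem F13534 : act 2 n2778 = n1944 := d20_1 D2778 (iv D1944) (iv F9627)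
theorem F13535 : act 3 n2778 = n2778 := d26_1 D2778 (iv D2778) F9628
theorem F13536 : act 8 n2778 = n1962 := d40_2 (iv F9630) D2778 (iv D1962)
def n2779 : Q := act 5 n1941
theorem D2779 : act 5 n1941 = n2779 := rfl
theorem F13537 : act 1 n2779 = n2117 := d12_1 D2779 (iv D2117) (iv F9631)
theorem F13538 : act 3 n2779 = n1945 := d25_1 D2779 (iv D1945) (iv F9632)
theorem F13539 : act 7 n2779 = n1942 := d36_2 (iv F9634) D2779 (iv D1942)
theorem F13540 : act 8 n2779 = n2779 := d37_2 D1941 D2779 (iv D2779) (iv D1941) F6838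
def n2780 : Q := act 4 n1942
theorem D2780 : act 4 n1942 = n2780 := rfl
theorem F13541 : act 1 n2780 = n2118 := d11_1 D2780 (iv D2118) (iv F9635)
theorem F13542 : act 8 n2780 = n2780 := d33_2 F9637 D2780 (iv D2780)
def n2781 : Q := act 6 n1942
theorem D2781 : act 6 n1942 = n2781 := rfl
theorem F13543 : act 1 n2781 = n2119 := d13_1 D2781 (iv D2119) (iv F9635)
theorem F13544 : act 3 n2781 = n1947 := d26_1 D2781 (iv D1947) (iv F9636)
theorem F13545 : act 5 n2781 = n1944 := d35_1 D2781 (iv D1944) (iv D1355) (iv F6843) D1942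
theorem F13546 : act 8 n2781 = n2781 := d40_2 F9637 D2781 (iv D2781)
def n2782 : Q := act 6 n1943
theorem D2782 : act 6 n1943 = n2782 := rfl
theorem F13547 : act 1 n2782 = n2120 := d13_1 D2782 (iv D2120) (iv F9638)
theorem F13548 : act 3 n2782 = n2782 := d26_1 D2782 (iv D2782) F9639
theorem F13549 : act 4 n2782 = n1944 := d31_1 D2782 (iv D1944) D1943
theorem F13550 : act 8 n2782 = n1963 := d40_2 (iv F9641) D2782 (iv D1963)
def n2783 : Q := act 7 n1944
theorem D2783 : act 7 n1944 = n2783 := rfl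
theorem F13551 : act 1 n2783 = n2121 := d14_1 D2783 (iv D2121) (iv F9642)
theorem F13552 : act 3 n2783 = n1948 := d27_1 D2783 (iv D1948) (iv F9643)
theorem F13553 : act 6 n2783 = n2783 := d39_1 D2783 (iv D2783) (iv D1944) F6846 D1944
theorem F13554 : act 8 n2783 = n1964 := d42_2 (iv F9644) D2783 (iv D1964)
def n2784 : Q := act 4 n1945
theorem D2784 : act 4 n1945 = n2784 := rfl
theorem F13555 : act 1 n2784 = n2122 := d11_1 D2784 (iv D2122) (iv F9645)
theorem F13556 : act 2 n2784 = n2784 := d18_1 D2784 (iv D2784) F9646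
theorem F13557 : act 5 n2784 = n1949 := d30_2 D1945 D2784 (iv D1949) (iv D1359) (iv F6850)
theorem F13558 : act 7 n2784 = n1946 := d32_2 (iv F9647) D2784 (iv D1946)
theorem F13559 : act 8 n2784 = n2784 := d33_2 F9648 D2784 (iv D2784)
def n2785 : Q := act 6 n1945
theorem D2785 : act 6 n1945 = n2785 := rfl
theorem F13560 : act 1 n2785 = n2123 := d13_1 D2785 (iv D2123) (iv F9645)
theorem F13561 : act 2 n2785 = n2785 := d20_1 D2785 (iv D2785) F9646
theorem F13562 : act 5 n2785 = n2785 := d35_1 D2785 (iv D2785) (iv D1945) F6851 D1945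
theorem F13563 : act 8 n2785 = n2785 := d40_2 F9648 D2785 (iv D2785)
def n2786 : Q := act 3 n1946
theorem D2786 : act 3 n1946 = n2786 := rfl
theorem F13564 : act 1 n2786 = n2124 := d10_1 D2786 (iv D2124) (iv F9649)
theorem F13565 : act 5 n2786 = n1951 := d25_2 (iv F9651) D2786 (iv D1951)
theorem F13566 : act 8 n2786 = n2786 := d28_2 F9652 D2786 (iv D2786)
def n2787 : Q := act 6 n1946
theorem D2787 : act 6 n1946 = n2787 := rfl
theorem F13567 : act 1 n2787 = n2125 := d13_1 D2787 (iv D2125) (iv F9649)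
theorem F13568 : act 2 n2787 = n2787 := d20_1 D2787 (iv D2787) F9650
theorem F13569 : act 4 n2787 = n1947 := d31_1 D2787 (iv D1947) D1946
theorem F13570 : act 5 n2787 = n2787 := d35_1 D2787 (iv D2787) F9651 F6866 (iv F9651)
theorem F13571 : act 8 n2787 = n2787 := d40_2 F9652 D2787 (iv D2787)
def n2788 : Q := act 7 n1947
theorem D2788 : act 7 n1947 = n2788 := rfl
theorem F13572 : act 1 n2788 = n2126 := d14_1 D2788 (iv D2126) (iv F9653)
theorem F13573 : act 2 n2788 = n2788 := d21_1 D2788 (iv D2788) F9654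
theorem F13574 : act 5 n2788 = n1948 := d36_1 D2788 (iv D1948) (iv F9655)
theorem F13575 : act 8 n2788 = n2788 := d42_2 F9656 D2788 (iv D2788)
def n2789 : Q := act 3 n1949
theorem D2789 : act 3 n1949 = n2789 := rfl
theorem F13576 : act 1 n2789 = n2127 := d10_1 D2789 (iv D2127) (iv F9662)
theorem F13577 : act 7 n2789 = n1951 := d27_2 (iv F9664) D2789 (iv D1951)
theorem F13578 : act 8 n2789 = n1952 := d28_2 (iv F9665) D2789 (iv D1952)
def n2790 : Q := act 6 n1949
theorem D2790 : act 6 n1949 = n2790 := rfl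
theorem F13579 : act 1 n2790 = n2128 := d13_1 D2790 (iv D2128) (iv F9662)
def n2791 : Q := act 2 n1951
theorem D2791 : act 2 n1951 = n2791 := rfl
theorem F13584 : act 3 n2791 = n2791 := d17_2 D1951 D2791 (iv D2791) (iv D1951) F6865
theorem F13585 : act 6 n2791 = n2791 := d20_2 F9672 D2791 (iv D2791)
theorem F13586 : act 8 n2791 = n1954 := d22_2 (iv F9673) D2791 (iv D1954)
def n2792 : Q := act 2 n1952
theorem D2792 : act 2 n1952 = n2792 := rfl
theorem F13587 : act 3 n2792 = n2792 := d17_2 D1952 D2792 (iv D2792) (iv D1952) F6869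
theorem F13588 : act 5 n2792 = n2792 := d19_2 F9675 D2792 (iv D2792)
theorem F13589 : act 7 n2792 = n1954 := d21_2 (iv F9676) D2792 (iv D1954)
theorem F13590 : act 9 n2792 = n2792 := d23_2 F9677 D2792 (iv D2792)
def n2793 : Q := act 6 n1952
theorem D2793 : act 6 n1952 = n2793 := rfl
theorem F13591 : act 1 n2793 = n2131 := d13_1 D2793 (iv D2131) (iv F9674)
def n2794 : Q := act 5 n1953
theorem D2794 : act 5 n1953 = n2794 := rfl
theorem F13595 : act 1 n2794 = n2132 := d12_1 D2794 (iv D2132) (iv F9678)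
theorem F13597 : act 4 n2794 = n1957 := d30_1 D2794 (iv D1957) F6889 (iv F6875) (iv F9680)
def n2795 : Q := act 1 n1954
theorem D2795 : act 1 n1954 = n2795 := rfl
theorem F13601 : act 2 n2795 = n2133 := d9_2 D1954 D2795 (iv D2133) (iv D1491) (iv F6878)
theorem F13602 : act 3 n2795 = n2795 := d10_2 F9683 D2795 (iv D2795)
theorem F13603 : act 5 n2795 = n2795 := d12_2 F9684 D2795 (iv D2795)
theorem F13604 : act 6 n2795 = n2795 := d13_2 F9685 D2795 (iv D2795)
theorem F13605 : act 9 n2795 = n2795 := d16_2 F9686 D2795 (iv D2795)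
def n2801 : Q := act 5 n1959
theorem D2801 : act 5 n1959 = n2801 := rfl
theorem F13633 : act 0 n2801 = n1960 := d4_1 D2801 (iv D1960) (iv F9708)
theorem F13634 : act 2 n2801 = n2139 := d19_1 D2801 (iv D2139) (iv F9709)
theorem F13635 : act 3 n2801 = n2801 := d25_1 D2801 (iv D2801) F9710
theorem F13636 : act 7 n2801 = n2801 := d36_2 F9713 D2801 (iv D2801)
theorem F13637 : act 9 n2801 = n2801 := d38_2 F9714 D2801 (iv D2801)
def n2802 : Q := act 4 n1960
theorem D2802 : act 4 n1960 = n2802 := rfl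
theorem F13638 : act 1 n2802 = n1961 := d11_1 D2802 (iv D1961) (iv F9715)
theorem F13639 : act 2 n2802 = n2140 := d18_1 D2802 (iv D2140) (iv F9716)
theorem F13640 : act 5 n2802 = n2802 := d30_2 D1960 D2802 (iv D2802) (iv D1960) F6907
theorem F13641 : act 7 n2802 = n2802 := d32_2 F9718 D2802 (iv D2802)
theorem F13642 : act 9 n2802 = n2802 := d34_2 F9719 D2802 (iv D2802)
def n2803 : Q := act 6 n1960
theorem D2803 : act 6 n1960 = n2803 := rfl
theorem F13643 : act 1 n2803 = n1962 := d13_1 D2803 (iv D1962) (iv F9715)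
theorem F13644 : act 2 n2803 = n2141 := d20_1 D2803 (iv D2141) (iv F9716)
def n2804 : Q := act 3 n1961
theorem D2804 : act 3 n1961 = n2804 := rfl
theorem F13648 : act 2 n2804 = n2804 := d17_1 D2804 (iv D2804) F9720 F6916 (iv F9720)
theorem F13649 : act 4 n2804 = n2804 := d24_2 D1961 D2804 (iv D2804) (iv D1961) F6912
theorem F13650 : act 5 n2804 = n2804 := d25_2 F9721 D2804 (iv D2804)
theorem F13651 : act 7 n2804 = n2804 := d27_2 F9722 D2804 (iv D2804)
theorem F13652 : act 9 n2804 = n2804 := d29_2 F9723 D2804 (iv D2804)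
def n2805 : Q := act 6 n1961
theorem D2805 : act 6 n1961 = n2805 := rfl
theorem F13653 : act 2 n2805 = n1963 := d20_1 D2805 (iv D1963) (iv F9720)
theorem F13654 : act 4 n2805 = n1962 := d31_1 D2805 (iv D1962) D1961
theorem F13655 : act 9 n2805 = n2805 := d41_2 F9723 D2805 (iv D2805)
def n2806 : Q := act 7 n1962
theorem D2806 : act 7 n1962 = n2806 := rfl
def n2807 : Q := act 5 n1963
theorem D2807 : act 5 n1963 = n2807 := rfl
theorem F13661 : act 1 n2807 = n2145 := d12_1 D2807 (iv D2145) (iv F9728)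
theorem F13662 : act 3 n2807 = n2807 := d25_1 D2807 (iv D2807) F9729
theorem F13663 : act 4 n2807 = n2807 := d30_1 D2807 (iv D2807) F9730 F6922 (iv F9730)
theorem F13664 : act 6 n2807 = n2807 := d35_2 D1963 D2807 (iv D2807) (iv D1963) F6917
theorem F13665 : act 9 n2807 = n2807 := d38_2 F9731 D2807 (iv D2807)
def n2808 : Q := act 7 n1963
theorem D2808 : act 7 n1963 = n2808 := rfl
theorem F13666 : act 1 n2808 = n2146 := d14_1 D2808 (iv D2146) (iv F9728)
theorem F13667 : act 3 n2808 = n2808 := d27_1 D2808 (iv D2808) F9729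
theorem F13668 : act 4 n2808 = n1964 := d32_1 D2808 (iv D1964) (iv F9730)
theorem F13669 : act 6 n2808 = n2808 := d39_1 D2808 (iv D2808) (iv D1963) F6918 D1963
theorem F13670 : act 9 n2808 = n2808 := d43_2 F9731 D2808 (iv D2808)
def n2809 : Q := act 0 n1965
theorem D2809 : act 0 n1965 = n2809 := rfl
theorem F13671 : act 1 n2809 = n2809 := d0_2 D1965 D2809 (iv D2809) (iv D1965) F6930
theorem F13672 : act 3 n2809 = n2809 := d2_2 F9737 D2809 (iv D2809)
theorem F13673 : act 4 n2809 = n2809 := d3_2 F9738 D2809 (iv D2809)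
theorem F13674 : act 5 n2809 = n1980 := d4_2 (iv F9739) D2809 (iv D1980)
theorem F13675 : act 7 n2809 = n2809 := d6_2 F9740 D2809 (iv D2809)
theorem F13676 : act 8 n2809 = n2809 := d7_2 F9741 D2809 (iv D2809)
def n2810 : Q := act 6 n1965
theorem D2810 : act 6 n1965 = n2810 := rfl
theorem F13677 : act 1 n2810 = n1966 := d13_1 D2810 (iv D1966) D1965
theorem F13678 : act 3 n2810 = n2810 := d26_1 D2810 (iv D2810) F9737
theorem F13679 : act 4 n2810 = n2810 := d31_1 D2810 (iv D2810) F9738
theorem F13680 : act 8 n2810 = n2810 := d40_2 F9741 D2810 (iv D2810)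
def n2811 : Q := act 9 n1965
theorem D2811 : act 9 n1965 = n2811 := rfl
theorem F13681 : act 1 n2811 = n1967 := d16_1 D2811 (iv D1967) D1965
theorem F13682 : act 3 n2811 = n2811 := d29_1 D2811 (iv D2811) F9737
theorem F13683 : act 4 n2811 = n2811 := d34_1 D2811 (iv D2811) F9738
theorem F13684 : act 5 n2811 = n1982 := d38_1 D2811 (iv D1982) (iv F9739)
theorem F13685 : act 7 n2811 = n2811 := d43_1 D2811 (iv D2811) F9740
def n2812 : Q := act 5 n1966
theorem D2812 : act 5 n1966 = n2812 := rfl
theorem F13686 : act 0 n2812 = n2812 := d4_1 D2812 (iv D2812) F9742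
theorem F13687 : act 2 n2812 = n1968 := d19_1 D2812 (iv D1968) (iv F9743)
theorem F13688 : act 3 n2812 = n2812 := d25_1 D2812 (iv D2812) F9744
theorem F13689 : act 6 n2812 = n1983 := d35_2 D1966 D2812 (iv D1983) (iv D1383) (iv F6933)
def n2813 : Q := act 7 n1966
theorem D2813 : act 7 n1966 = n2813 := rfl
theorem F13690 : act 0 n2813 = n2813 := d6_1 D2813 (iv D2813) F9742
theorem F13691 : act 2 n2813 = n1969 := d21_1 D2813 (iv D1969) (iv F9743)
theorem F13692 : act 3 n2813 = n2813 := d27_1 D2813 (iv D2813) F9744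
theorem F13693 : act 4 n2813 = n2813 := d32_1 D2813 (iv D2813) F9745
theorem F13694 : act 6 n2813 = n2813 := d39_1 D2813 (iv D2813) (iv D1966) F6934 D1966
theorem F13695 : act 8 n2813 = n2813 := d42_2 F9746 D2813 (iv D2813)
def n2814 : Q := act 9 n1966
theorem D2814 : act 9 n1966 = n2814 := rfl
theorem F13696 : act 0 n2814 = n2814 := d8_1 D2814 (iv D2814) F9742
theorem F13697 : act 2 n2814 = n1970 := d23_1 D2814 (iv D1970) (iv F9743)
theorem F13698 : act 3 n2814 = n2814 := d29_1 D2814 (iv D2814) F9744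
theorem F13699 : act 4 n2814 = n2814 := d34_1 D2814 (iv D2814) F9745
theorem F13700 : act 6 n2814 = n1967 := d41_1 D2814 (iv D1967) D1966
def n2815 : Q := act 8 n1967
theorem D2815 : act 8 n1967 = n2815 := rfl
theorem F13701 : act 0 n2815 = n2815 := d7_1 D2815 (iv D2815) F9747
theorem F13702 : act 2 n2815 = n1971 := d22_1 D2815 (iv D1971) (iv F9748)
theorem F13703 : act 3 n2815 = n2815 := d28_1 D2815 (iv D2815) F9749
theorem F13704 : act 4 n2815 = n2815 := d33_1 D2815 (iv D2815) F9750
theorem F13705 : act 7 n2815 = n2815 := d42_1 D2815 (iv D2815) F9752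
theorem F13706 : act 9 n2815 = n2815 := d44_2 D1967 D2815 (iv D2815) (iv D1967) F6935
def n2816 : Q := act 4 n1968
theorem D2816 : act 4 n1968 = n2816 := rfl
theorem F13707 : act 0 n2816 = n2816 := d3_1 D2816 (iv D2816) F9753
theorem F13708 : act 3 n2816 = n2816 := d24_1 D2816 (iv D2816) F9754 F6947 (iv F9754)
theorem F13709 : act 5 n2816 = n2816 := d30_2 D1968 D2816 (iv D2816) (iv D1968) F6938
theorem F13710 : act 6 n2816 = n1987 := d31_2 (iv F9755) D2816 (iv D1987)
def n2817 : Q := act 7 n1968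
theorem D2817 : act 7 n1968 = n2817 := rfl
theorem F13711 : act 0 n2817 = n2817 := d6_1 D2817 (iv D2817) F9753
theorem F13712 : act 3 n2817 = n1972 := d27_1 D2817 (iv D1972) (iv F9754)
theorem F13713 : act 5 n2817 = n1969 := d36_1 D2817 (iv D1969) D1968
def n2818 : Q := act 8 n1968
theorem D2818 : act 8 n1968 = n2818 := rfl
theorem F13714 : act 0 n2818 = n2818 := d7_1 D2818 (iv D2818) F9753
theorem F13715 : act 3 n2818 = n1973 := d28_1 D2818 (iv D1973) (iv F9754)
theorem F13716 : act 5 n2818 = n2818 := d37_1 D2818 (iv D2818) (iv D1968) F6939 D1968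
theorem F13717 : act 6 n2818 = n1989 := d40_1 D2818 (iv D1989) (iv F9755)
def n2819 : Q := act 9 n1968
theorem D2819 : act 9 n1968 = n2819 := rfl
theorem F13718 : act 0 n2819 = n2819 := d8_1 D2819 (iv D2819) F9753
theorem F13719 : act 3 n2819 = n1974 := d29_1 D2819 (iv D1974) (iv F9754)
theorem F13720 : act 5 n2819 = n1970 := d38_1 D2819 (iv D1970) D1968
theorem F13721 : act 6 n2819 = n1990 := d41_1 D2819 (iv D1990) (iv F9755)
def n2820 : Q := act 9 n1969
theorem D2820 : act 9 n1969 = n2820 := rfl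
theorem F13722 : act 0 n2820 = n2820 := d8_1 D2820 (iv D2820) F9756
theorem F13723 : act 3 n2820 = n1975 := d29_1 D2820 (iv D1975) (iv F9757)
theorem F13724 : act 4 n2820 = n2820 := d34_1 D2820 (iv D2820) F9758
theorem F13725 : act 6 n2820 = n2820 := d41_1 D2820 (iv D2820) F9759
theorem F13726 : act 7 n2820 = n1970 := d43_1 D2820 (iv D1970) D1969
def n2821 : Q := act 8 n1970
theorem D2821 : act 8 n1970 = n2821 := rfl
theorem F13727 : act 0 n2821 = n2821 := d7_1 D2821 (iv D2821) F9761
theorem F13728 : act 3 n2821 = n1976 := d28_1 D2821 (iv D1976) (iv F9762)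
theorem F13729 : act 4 n2821 = n2821 := d33_1 D2821 (iv D2821) F9763
theorem F13730 : act 6 n2821 = n1971 := d40_1 D2821 (iv D1971) (iv F9764)
theorem F13731 : act 9 n2821 = n2821 := d44_2 D1970 D2821 (iv D2821) (iv D1970) F6939
def n2822 : Q := act 5 n1971
theorem D2822 : act 5 n1971 = n2822 := rfl
theorem F13732 : act 0 n2822 = n2822 := d4_1 D2822 (iv D2822) F9765
theorem F13733 : act 3 n2822 = n1977 := d25_1 D2822 (iv D1977) (iv F9766)
theorem F13734 : act 7 n2822 = n2822 := d36_2 F9768 D2822 (iv D2822)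
theorem F13735 : act 8 n2822 = n1993 := d37_2 D1971 D2822 (iv D1993) (iv D1388) (iv F6943)
theorem F13736 : act 9 n2822 = n2822 := d38_2 F9769 D2822 (iv D2822)
def n2823 : Q := act 6 n1972
theorem D2823 : act 6 n1972 = n2823 := rfl
theorem F13737 : act 0 n2823 = n2823 := d5_1 D2823 (iv D2823) F9770
theorem F13738 : act 2 n2823 = n2823 := d20_1 D2823 (iv D2823) F9771
theorem F13739 : act 4 n2823 = n2823 := d31_1 D2823 (iv D2823) F9772
theorem F13740 : act 5 n2823 = n2823 := d35_1 D2823 (iv D2823) F9773 F6952 (iv F9773)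
theorem F13741 : act 7 n2823 = n1994 := d39_2 D1972 D2823 (iv D1994) (iv D1389) (iv F6948)
def n2824 : Q := act 8 n1972
theorem D2824 : act 8 n1972 = n2824 := rfl
theorem F13742 : act 0 n2824 = n2824 := d7_1 D2824 (iv D2824) F9770
theorem F13743 : act 2 n2824 = n2824 := d22_1 D2824 (iv D2824) F9771
theorem F13744 : act 4 n2824 = n2824 := d33_1 D2824 (iv D2824) F9772
theorem F13745 : act 5 n2824 = n2824 := d37_1 D2824 (iv D2824) F9773 F6953 (iv F9773)
theorem F13746 : act 7 n2824 = n1973 := d42_1 D2824 (iv D1973) D1972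
def n2825 : Q := act 9 n1972
theorem D2825 : act 9 n1972 = n2825 := rfl
theorem F13747 : act 0 n2825 = n2825 := d8_1 D2825 (iv D2825) F9770
theorem F13748 : act 2 n2825 = n2825 := d23_1 D2825 (iv D2825) F9771
theorem F13749 : act 4 n2825 = n2825 := d34_1 D2825 (iv D2825) F9772
theorem F13750 : act 5 n2825 = n1975 := d38_1 D2825 (iv D1975) (iv F9773)
theorem F13751 : act 7 n2825 = n1974 := d43_1 D2825 (iv D1974) D1972
def n2826 : Q := act 9 n1973
theorem D2826 : act 9 n1973 = n2826 := rfl
theorem F13752 : act 0 n2826 = n2826 := d8_1 D2826 (iv D2826) F9774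
theorem F13753 : act 2 n2826 = n2826 := d23_1 D2826 (iv D2826) F9775
theorem F13754 : act 4 n2826 = n2826 := d34_1 D2826 (iv D2826) F9776
theorem F13755 : act 5 n2826 = n2826 := d38_1 D2826 (iv D2826) F9777
theorem F13756 : act 6 n2826 = n1997 := d41_1 D2826 (iv D1997) (iv F9778)
def n2827 : Q := act 8 n1974
theorem D2827 : act 8 n1974 = n2827 := rfl
theorem F13757 : act 0 n2827 = n2827 := d7_1 D2827 (iv D2827) F9779
theorem F13758 : act 2 n2827 = n2827 := d22_1 D2827 (iv D2827) F9780
theorem F13759 : act 4 n2827 = n2827 := d33_1 D2827 (iv D2827) F9781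
theorem F13760 : act 6 n2827 = n1998 := d40_1 D2827 (iv D1998) (iv F9783)
def n2828 : Q := act 8 n1975
theorem D2828 : act 8 n1975 = n2828 := rfl
theorem F13761 : act 0 n2828 = n2828 := d7_1 D2828 (iv D2828) F9784
theorem F13762 : act 2 n2828 = n2828 := d22_1 D2828 (iv D2828) F9785
theorem F13763 : act 4 n2828 = n1978 := d33_1 D2828 (iv D1978) (iv F9786)
theorem F13764 : act 6 n2828 = n2828 := d40_1 D2828 (iv D2828) F9787
theorem F13765 : act 7 n2828 = n1976 := d42_1 D2828 (iv D1976) (iv F9788)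
theorem F13766 : act 9 n2828 = n2828 := d44_2 D1975 D2828 (iv D2828) (iv D1975) F6953
def n2829 : Q := act 5 n1976
theorem D2829 : act 5 n1976 = n2829 := rfl
theorem F13767 : act 0 n2829 = n2829 := d4_1 D2829 (iv D2829) F9789
theorem F13768 : act 2 n2829 = n2829 := d19_1 D2829 (iv D2829) F9790
theorem F13769 : act 9 n2829 = n2829 := d38_2 F9793 D2829 (iv D2829)
def n2830 : Q := act 6 n1977
theorem D2830 : act 6 n1977 = n2830 := rfl
theorem F13770 : act 0 n2830 = n2830 := d5_1 D2830 (iv D2830) F9794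
theorem F13771 : act 2 n2830 = n2830 := d20_1 D2830 (iv D2830) F9795
theorem F13772 : act 4 n2830 = n2830 := d31_1 D2830 (iv D2830) F9796
theorem F13773 : act 8 n2830 = n2001 := d40_2 (iv F9798) D2830 (iv D2001)
theorem F13774 : act 9 n2830 = n2830 := d41_2 F9799 D2830 (iv D2830)
def n2831 : Q := act 5 n1978
theorem D2831 : act 5 n1978 = n2831 := rfl
theorem F13775 : act 0 n2831 = n2831 := d4_1 D2831 (iv D2831) F9800
theorem F13776 : act 2 n2831 = n2831 := d19_1 D2831 (iv D2831) F9801
theorem F13777 : act 3 n2831 = n2831 := d25_1 D2831 (iv D2831) F9802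
theorem F13778 : act 7 n2831 = n1979 := d36_2 (iv F9804) D2831 (iv D1979)
theorem F13779 : act 8 n2831 = n2831 := d37_2 D1978 D2831 (iv D2831) (iv D1978) F6966
theorem F13780 : act 9 n2831 = n2831 := d38_2 F9805 D2831 (iv D2831)
def n2832 : Q := act 4 n1979
theorem D2832 : act 4 n1979 = n2832 := rfl
theorem F13781 : act 0 n2832 = n2832 := d3_1 D2832 (iv D2832) F9806
theorem F13782 : act 2 n2832 = n2832 := d18_1 D2832 (iv D2832) F9807
theorem F13783 : act 6 n2832 = n2832 := d31_2 F9809 D2832 (iv D2832)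
theorem F13784 : act 8 n2832 = n2832 := d33_2 F9810 D2832 (iv D2832)
theorem F13785 : act 9 n2832 = n2832 := d34_2 F9811 D2832 (iv D2832)
def n2833 : Q := act 6 n1980
theorem D2833 : act 6 n1980 = n2833 := rfl
theorem F13786 : act 0 n2833 = n1981 := d5_1 D2833 (iv D1981) D1980
theorem F13787 : act 1 n2833 = n2833 := d13_1 D2833 (iv D2833) F9812
theorem F13788 : act 3 n2833 = n2833 := d26_1 D2833 (iv D2833) F9813
theorem F13789 : act 4 n2833 = n2076 := d31_1 D2833 (iv D2076) (iv F9814)
theorem F13790 : act 8 n2833 = n2004 := d40_2 (iv F9816) D2833 (iv D2004)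
def n2834 : Q := act 9 n1980
theorem D2834 : act 9 n1980 = n2834 := rfl
theorem F13791 : act 0 n2834 = n1982 := d8_1 D2834 (iv D1982) D1980
theorem F13792 : act 1 n2834 = n2834 := d16_1 D2834 (iv D2834) F9812
theorem F13793 : act 3 n2834 = n2834 := d29_1 D2834 (iv D2834) F9813
theorem F13794 : act 4 n2834 = n2077 := d34_1 D2834 (iv D2077) (iv F9814)
theorem F13795 : act 7 n2834 = n2834 := d43_1 D2834 (iv D2834) F9815
def n2835 : Q := act 5 n1981
theorem D2835 : act 5 n1981 = n2835 := rfl
theorem F13796 : act 1 n2835 = n1983 := d12_1 D2835 (iv D1983) (iv F9817)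
theorem F13797 : act 3 n2835 = n2835 := d25_1 D2835 (iv D2835) F9818
def n2836 : Q := act 7 n1981
theorem D2836 : act 7 n1981 = n2836 := rfl
theorem F13798 : act 1 n2836 = n1984 := d14_1 D2836 (iv D1984) (iv F9817)
theorem F13799 : act 3 n2836 = n2836 := d27_1 D2836 (iv D2836) F9818
theorem F13800 : act 4 n2836 = n2079 := d32_1 D2836 (iv D2079) (iv F9819)
theorem F13801 : act 6 n2836 = n2836 := d39_1 D2836 (iv D2836) (iv D1981) F6976 D1981
theorem F13802 : act 8 n2836 = n2007 := d42_2 (iv F9820) D2836 (iv D2007)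
def n2837 : Q := act 9 n1981
theorem D2837 : act 9 n1981 = n2837 := rfl
theorem F13803 : act 1 n2837 = n1985 := d16_1 D2837 (iv D1985) (iv F9817)
theorem F13804 : act 3 n2837 = n2837 := d29_1 D2837 (iv D2837) F9818
theorem F13805 : act 4 n2837 = n2080 := d34_1 D2837 (iv D2080) (iv F9819)
theorem F13806 : act 6 n2837 = n1982 := d41_1 D2837 (iv D1982) D1981
def n2838 : Q := act 8 n1982
theorem D2838 : act 8 n1982 = n2838 := rfl
theorem F13807 : act 1 n2838 = n1986 := d15_1 D2838 (iv D1986) (iv F9821)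
theorem F13808 : act 3 n2838 = n2838 := d28_1 D2838 (iv D2838) F9822
theorem F13809 : act 4 n2838 = n2081 := d33_1 D2838 (iv D2081) (iv F9823)
theorem F13810 : act 7 n2838 = n2838 := d42_1 D2838 (iv D2838) F9824
theorem F13811 : act 9 n2838 = n2009 := d44_2 D1982 D2838 (iv D2009) (iv D1399) (iv F6977)
def n2839 : Q := act 4 n1983
theorem D2839 : act 4 n1983 = n2839 := rfl
theorem F13812 : act 0 n2839 = n2839 := d3_1 D2839 (iv D2839) F9825
theorem F13813 : act 2 n2839 = n1987 := d18_1 D2839 (iv D1987) (iv F9826)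
theorem F13814 : act 5 n2839 = n2082 := d30_2 D1983 D2839 (iv D2082) (iv D1452) (iv F6981)
def n2840 : Q := act 7 n1983
theorem D2840 : act 7 n1983 = n2840 := rfl
theorem F13815 : act 0 n2840 = n2840 := d6_1 D2840 (iv D2840) F9825
theorem F13816 : act 2 n2840 = n1988 := d21_1 D2840 (iv D1988) (iv F9826)
theorem F13817 : act 3 n2840 = n2840 := d27_1 D2840 (iv D2840) F9827
theorem F13818 : act 5 n2840 = n1984 := d36_1 D2840 (iv D1984) D1983
def n2841 : Q := act 8 n1983
theorem D2841 : act 8 n1983 = n2841 := rfl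
theorem F13819 : act 0 n2841 = n2841 := d7_1 D2841 (iv D2841) F9825
theorem F13820 : act 2 n2841 = n1989 := d22_1 D2841 (iv D1989) (iv F9826)
theorem F13821 : act 3 n2841 = n2841 := d28_1 D2841 (iv D2841) F9827
theorem F13822 : act 5 n2841 = n2011 := d37_1 D2841 (iv D2011) (iv D1400) (iv F6982) D1983
def n2842 : Q := act 9 n1983
theorem D2842 : act 9 n1983 = n2842 := rfl
theorem F13823 : act 0 n2842 = n2842 := d8_1 D2842 (iv D2842) F9825
theorem F13824 : act 2 n2842 = n1990 := d23_1 D2842 (iv D1990) (iv F9826)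
theorem F13825 : act 3 n2842 = n2842 := d29_1 D2842 (iv D2842) F9827
theorem F13826 : act 5 n2842 = n1985 := d38_1 D2842 (iv D1985) D1983
def n2843 : Q := act 9 n1984
theorem D2843 : act 9 n1984 = n2843 := rfl
theorem F13827 : act 0 n2843 = n2843 := d8_1 D2843 (iv D2843) F9828
theorem F13828 : act 2 n2843 = n1991 := d23_1 D2843 (iv D1991) (iv F9829)
theorem F13829 : act 3 n2843 = n2843 := d29_1 D2843 (iv D2843) F9830
theorem F13830 : act 4 n2843 = n2085 := d34_1 D2843 (iv D2085) (iv F9831)
theorem F13831 : act 6 n2843 = n2843 := d41_1 D2843 (iv D2843) F9832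
theorem F13832 : act 7 n2843 = n1985 := d43_1 D2843 (iv D1985) D1984
def n2844 : Q := act 8 n1985
theorem D2844 : act 8 n1985 = n2844 := rfl
theorem F13833 : act 0 n2844 = n2844 := d7_1 D2844 (iv D2844) F9834
theorem F13834 : act 2 n2844 = n1992 := d22_1 D2844 (iv D1992) (iv F9835)
theorem F13835 : act 3 n2844 = n2844 := d28_1 D2844 (iv D2844) F9836
theorem F13836 : act 4 n2844 = n2086 := d33_1 D2844 (iv D2086) (iv F9837)
theorem F13837 : act 6 n2844 = n1986 := d40_1 D2844 (iv D1986) (iv F9838)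
theorem F13838 : act 9 n2844 = n2014 := d44_2 D1985 D2844 (iv D2014) (iv D1402) (iv F6982)
def n2845 : Q := act 5 n1986
theorem D2845 : act 5 n1986 = n2845 := rfl
theorem F13839 : act 0 n2845 = n2845 := d4_1 D2845 (iv D2845) F9839
theorem F13840 : act 2 n2845 = n1993 := d19_1 D2845 (iv D1993) (iv F9840)
theorem F13841 : act 3 n2845 = n2845 := d25_1 D2845 (iv D2845) F9841
theorem F13842 : act 7 n2845 = n2845 := d36_2 F9843 D2845 (iv D2845)
theorem F13843 : act 9 n2845 = n2015 := d38_2 (iv F9844) D2845 (iv D2015)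
def n2846 : Q := act 7 n1987
theorem D2846 : act 7 n1987 = n2846 := rfl
theorem F13844 : act 0 n2846 = n2846 := d6_1 D2846 (iv D2846) F9845
theorem F13845 : act 3 n2846 = n2846 := d27_1 D2846 (iv D2846) F9846
theorem F13846 : act 4 n2846 = n1988 := d32_1 D2846 (iv D1988) D1987
theorem F13847 : act 5 n2846 = n2088 := d36_1 D2846 (iv D2088) (iv F9847)
def n2847 : Q := act 8 n1987
theorem D2847 : act 8 n1987 = n2847 := rfl
theorem F13848 : act 0 n2847 = n2847 := d7_1 D2847 (iv D2847) F9845
theorem F13849 : act 3 n2847 = n2847 := d28_1 D2847 (iv D2847) F9846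
theorem F13850 : act 4 n2847 = n1989 := d33_1 D2847 (iv D1989) D1987
theorem F13851 : act 5 n2847 = n2847 := d37_1 D2847 (iv D2847) F9847 F7324 (iv F9847)
def n2848 : Q := act 9 n1987
theorem D2848 : act 9 n1987 = n2848 := rfl
theorem F13852 : act 0 n2848 = n2848 := d8_1 D2848 (iv D2848) F9845
theorem F13853 : act 3 n2848 = n2848 := d29_1 D2848 (iv D2848) F9846
theorem F13854 : act 4 n2848 = n1990 := d34_1 D2848 (iv D1990) D1987
theorem F13855 : act 5 n2848 = n2089 := d38_1 D2848 (iv D2089) (iv F9847)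
def n2849 : Q := act 6 n1988
theorem D2849 : act 6 n1988 = n2849 := rfl
theorem F13856 : act 0 n2849 = n2849 := d5_1 D2849 (iv D2849) F9848
theorem F13857 : act 3 n2849 = n1994 := d26_1 D2849 (iv D1994) (iv F9849)
theorem F13858 : act 5 n2849 = n2849 := d35_1 D2849 (iv D2849) F9850 F6993 (iv F9850)
def n2850 : Q := act 8 n1988
theorem D2850 : act 8 n1988 = n2850 := rfl
theorem F13859 : act 0 n2850 = n2850 := d7_1 D2850 (iv D2850) F9848
theorem F13860 : act 3 n2850 = n1995 := d28_1 D2850 (iv D1995) (iv F9849)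
theorem F13861 : act 5 n2850 = n2017 := d37_1 D2850 (iv D2017) F7079 (iv F6994) (iv F9850)
theorem F13862 : act 7 n2850 = n1989 := d42_1 D2850 (iv D1989) D1988
def n2851 : Q := act 9 n1988
theorem D2851 : act 9 n1988 = n2851 := rfl
theorem F13863 : act 0 n2851 = n2851 := d8_1 D2851 (iv D2851) F9848
theorem F13864 : act 3 n2851 = n1996 := d29_1 D2851 (iv D1996) (iv F9849)
theorem F13865 : act 5 n2851 = n1991 := d38_1 D2851 (iv D1991) (iv F9850)
theorem F13866 : act 7 n2851 = n1990 := d43_1 D2851 (iv D1990) D1988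
def n2852 : Q := act 9 n1989
theorem D2852 : act 9 n1989 = n2852 := rfl
theorem F13867 : act 0 n2852 = n2852 := d8_1 D2852 (iv D2852) F9851
theorem F13868 : act 3 n2852 = n1997 := d29_1 D2852 (iv D1997) (iv F9852)
theorem F13869 : act 5 n2852 = n2019 := d38_1 D2852 (iv D2019) (iv F9853)
def n2853 : Q := act 8 n1990
theorem D2853 : act 8 n1990 = n2853 := rfl
theorem F13870 : act 0 n2853 = n2853 := d7_1 D2853 (iv D2853) F9854
theorem F13871 : act 3 n2853 = n1998 := d28_1 D2853 (iv D1998) (iv F9855)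
def n2854 : Q := act 8 n1991
theorem D2854 : act 8 n1991 = n2854 := rfl
theorem F13872 : act 0 n2854 = n2854 := d7_1 D2854 (iv D2854) F9857
theorem F13873 : act 3 n2854 = n1999 := d28_1 D2854 (iv D1999) (iv F9858)
theorem F13874 : act 4 n2854 = n2093 := d33_1 D2854 (iv D2093) (iv F9859)
theorem F13875 : act 6 n2854 = n2854 := d40_1 D2854 (iv D2854) F9860
theorem F13876 : act 7 n2854 = n1992 := d42_1 D2854 (iv D1992) (iv F9861)
theorem F13877 : act 9 n2854 = n2021 := d44_2 D1991 D2854 (iv D2021) (iv D1407) (iv F6994)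
def n2855 : Q := act 5 n1992
theorem D2855 : act 5 n1992 = n2855 := rfl
theorem F13878 : act 0 n2855 = n2855 := d4_1 D2855 (iv D2855) F9862
theorem F13879 : act 3 n2855 = n2000 := d25_1 D2855 (iv D2000) (iv F9863)
theorem F13880 : act 9 n2855 = n2022 := d38_2 (iv F9866) D2855 (iv D2022)
def n2856 : Q := act 4 n1993
theorem D2856 : act 4 n1993 = n2856 := rfl
theorem F13881 : act 0 n2856 = n2856 := d3_1 D2856 (iv D2856) F9867
theorem F13882 : act 3 n2856 = n2856 := d24_1 D2856 (iv D2856) F9868 F7028 (iv F9868)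
theorem F13883 : act 5 n2856 = n2095 := d30_2 D1993 D2856 (iv D2095) (iv D1461) (iv F7001)
theorem F13884 : act 7 n2856 = n2856 := d32_2 F9869 D2856 (iv D2856)
theorem F13885 : act 9 n2856 = n2023 := d34_2 (iv F9870) D2856 (iv D2023)
def n2857 : Q := act 6 n1993
theorem D2857 : act 6 n1993 = n2857 := rfl
theorem F13886 : act 0 n2857 = n2857 := d5_1 D2857 (iv D2857) F9867
theorem F13887 : act 3 n2857 = n2001 := d26_1 D2857 (iv D2001) (iv F9868)
theorem F13888 : act 9 n2857 = n2024 := d41_2 (iv F9870) D2857 (iv D2024)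
def n2858 : Q := act 8 n1994
theorem D2858 : act 8 n1994 = n2858 := rfl
theorem F13889 : act 0 n2858 = n2858 := d7_1 D2858 (iv D2858) F9871
theorem F13890 : act 2 n2858 = n2858 := d22_1 D2858 (iv D2858) F9872
theorem F13891 : act 4 n2858 = n2858 := d33_1 D2858 (iv D2858) F9873
theorem F13892 : act 6 n2858 = n1995 := d40_1 D2858 (iv D1995) D1994
def n2859 : Q := act 9 n1994
theorem D2859 : act 9 n1994 = n2859 := rfl
theorem F13893 : act 0 n2859 = n2859 := d8_1 D2859 (iv D2859) F9871
theorem F13894 : act 2 n2859 = n2859 := d23_1 D2859 (iv D2859) F9872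
theorem F13895 : act 4 n2859 = n2859 := d34_1 D2859 (iv D2859) F9873
theorem F13896 : act 5 n2859 = n2859 := d38_1 D2859 (iv D2859) F9874
theorem F13897 : act 6 n2859 = n1996 := d41_1 D2859 (iv D1996) D1994
def n2860 : Q := act 9 n1995
theorem D2860 : act 9 n1995 = n2860 := rfl
theorem F13898 : act 0 n2860 = n2860 := d8_1 D2860 (iv D2860) F9875
theorem F13899 : act 2 n2860 = n2860 := d23_1 D2860 (iv D2860) F9876
theorem F13900 : act 4 n2860 = n2860 := d34_1 D2860 (iv D2860) F9877
theorem F13901 : act 5 n2860 = n2027 := d38_1 D2860 (iv D2027) (iv F9878)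
theorem F13902 : act 7 n2860 = n1997 := d43_1 D2860 (iv D1997) (iv F9879)
def n2861 : Q := act 8 n1996
theorem D2861 : act 8 n1996 = n2861 := rfl
theorem F13903 : act 0 n2861 = n2861 := d7_1 D2861 (iv D2861) F9880
theorem F13904 : act 2 n2861 = n2861 := d22_1 D2861 (iv D2861) F9881
theorem F13905 : act 4 n2861 = n2861 := d33_1 D2861 (iv D2861) F9882
theorem F13906 : act 7 n2861 = n1998 := d42_1 D2861 (iv D1998) (iv F9884)
def n2862 : Q := act 8 n1997
theorem D2862 : act 8 n1997 = n2862 := rfl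
theorem F13907 : act 0 n2862 = n2862 := d7_1 D2862 (iv D2862) F9885
theorem F13908 : act 2 n2862 = n2862 := d22_1 D2862 (iv D2862) F9886
theorem F13909 : act 4 n2862 = n2862 := d33_1 D2862 (iv D2862) F9887
theorem F13910 : act 9 n2862 = n1998 := d44_2 D1997 D2862 (iv D1998) (iv D1391) D1390
def n2863 : Q := act 5 n1998
theorem D2863 : act 5 n1998 = n2863 := rfl
theorem F13911 : act 0 n2863 = n2863 := d4_1 D2863 (iv D2863) F9889
theorem F13912 : act 2 n2863 = n2863 := d19_1 D2863 (iv D2863) F9890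
theorem F13913 : act 8 n2863 = n2000 := d37_2 D1998 D2863 (iv D2000) (iv D1393) (iv F7015)
def n2864 : Q := act 5 n1999
theorem D2864 : act 5 n1999 = n2864 := rfl
theorem F13914 : act 0 n2864 = n2864 := d4_1 D2864 (iv D2864) F9892
theorem F13915 : act 2 n2864 = n2864 := d19_1 D2864 (iv D2864) F9893
theorem F13916 : act 7 n2864 = n2000 := d36_2 (iv F9896) D2864 (iv D2000)
theorem F13917 : act 9 n2864 = n2031 := d38_2 (iv F9897) D2864 (iv D2031)
def n2865 : Q := act 4 n2000
theorem D2865 : act 4 n2000 = n2865 := rfl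
theorem F13918 : act 0 n2865 = n2865 := d3_1 D2865 (iv D2865) F9898
theorem F13919 : act 2 n2865 = n2865 := d18_1 D2865 (iv D2865) F9899
theorem F13920 : act 5 n2865 = n2003 := d30_2 D2000 D2865 (iv D2003) (iv D1396) (iv F7023)
theorem F13921 : act 9 n2865 = n2032 := d34_2 (iv F9900) D2865 (iv D2032)
def n2866 : Q := act 6 n2000
theorem D2866 : act 6 n2000 = n2866 := rfl
theorem F13922 : act 0 n2866 = n2866 := d5_1 D2866 (iv D2866) F9898
theorem F13923 : act 2 n2866 = n2866 := d20_1 D2866 (iv D2866) F9899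
theorem F13924 : act 5 n2866 = n2001 := d35_1 D2866 (iv D2001) (iv D1394) (iv F7024) D2000
theorem F13925 : act 9 n2866 = n2033 := d41_2 (iv F9900) D2866 (iv D2033)
def n2867 : Q := act 7 n2001
theorem D2867 : act 7 n2001 = n2867 := rfl
theorem F13926 : act 0 n2867 = n2867 := d6_1 D2867 (iv D2867) F9901
theorem F13927 : act 2 n2867 = n2867 := d21_1 D2867 (iv D2867) F9902
theorem F13928 : act 4 n2867 = n2867 := d32_1 D2867 (iv D2867) F9903
theorem F13929 : act 6 n2867 = n2867 := d39_1 D2867 (iv D2867) (iv D2001) F7029 D2001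
theorem F13930 : act 9 n2867 = n2034 := d43_2 (iv F9904) D2867 (iv D2034)
def n2868 : Q := act 4 n2002
theorem D2868 : act 4 n2002 = n2868 := rfl
theorem F13931 : act 0 n2868 = n2868 := d3_1 D2868 (iv D2868) F9905
theorem F13932 : act 2 n2868 = n2868 := d18_1 D2868 (iv D2868) F9906
theorem F13933 : act 7 n2868 = n2003 := d32_2 (iv F9908) D2868 (iv D2003)
theorem F13934 : act 8 n2868 = n2868 := d33_2 F9909 D2868 (iv D2868)
theorem F13935 : act 9 n2868 = n2035 := d34_2 (iv F9910) D2868 (iv D2035)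
def n2869 : Q := act 6 n2002
theorem D2869 : act 6 n2002 = n2869 := rfl
theorem F13936 : act 0 n2869 = n2869 := d5_1 D2869 (iv D2869) F9905
theorem F13937 : act 2 n2869 = n2869 := d20_1 D2869 (iv D2869) F9906
theorem F13938 : act 3 n2869 = n2105 := d26_1 D2869 (iv D2105) (iv F9907)
theorem F13939 : act 5 n2869 = n2869 := d35_1 D2869 (iv D2869) (iv D2002) F7034 D2002
theorem F13940 : act 7 n2869 = n2869 := d39_2 (iv F9908) D2869 (iv D2869) F9908 F7040
theorem F13941 : act 8 n2869 = n2869 := d40_2 F9909 D2869 (iv D2869)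
theorem F13942 : act 9 n2869 = n2036 := d41_2 (iv F9910) D2869 (iv D2036)
def n2870 : Q := act 3 n2003
theorem D2870 : act 3 n2003 = n2870 := rfl
theorem F13943 : act 0 n2870 = n2870 := d2_1 D2870 (iv D2870) F9911
theorem F13944 : act 4 n2870 = n2106 := d24_2 D2003 D2870 (iv D2106) (iv D1469) (iv F7039)
theorem F13945 : act 6 n2870 = n2870 := d26_2 F9913 D2870 (iv D2870)
theorem F13946 : act 8 n2870 = n2870 := d28_2 F9914 D2870 (iv D2870)
theorem F13947 : act 9 n2870 = n2037 := d29_2 (iv F9915) D2870 (iv D2037)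
def n2871 : Q := act 5 n2004
theorem D2871 : act 5 n2004 = n2871 := rfl
theorem F13948 : act 0 n2871 = n2006 := d4_1 D2871 (iv D2006) (iv F9916)
theorem F13949 : act 1 n2871 = n2871 := d12_1 D2871 (iv D2871) F9917
theorem F13950 : act 3 n2871 = n2871 := d25_1 D2871 (iv D2871) F9918
theorem F13951 : act 4 n2871 = n2871 := d30_1 D2871 (iv D2871) F9919 F7389 (iv F9919)
theorem F13952 : act 6 n2871 = n2871 := d35_2 D2004 D2871 (iv D2871) (iv D2004) F7046
def n2872 : Q := act 7 n2004
theorem D2872 : act 7 n2004 = n2872 := rfl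
theorem F13953 : act 0 n2872 = n2007 := d6_1 D2872 (iv D2007) (iv F9916)
theorem F13954 : act 1 n2872 = n2872 := d14_1 D2872 (iv D2872) F9917
theorem F13955 : act 3 n2872 = n2872 := d27_1 D2872 (iv D2872) F9918
theorem F13956 : act 4 n2872 = n2107 := d32_1 D2872 (iv D2107) (iv F9919)
theorem F13957 : act 6 n2872 = n2872 := d39_1 D2872 (iv D2872) (iv D2004) F7047 D2004
def n2873 : Q := act 9 n2004
theorem D2873 : act 9 n2004 = n2873 := rfl
theorem F13958 : act 0 n2873 = n2008 := d8_1 D2873 (iv D2008) (iv F9916)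
theorem F13959 : act 1 n2873 = n2873 := d16_1 D2873 (iv D2873) F9917
theorem F13960 : act 3 n2873 = n2873 := d29_1 D2873 (iv D2873) F9918
theorem F13961 : act 4 n2873 = n2108 := d34_1 D2873 (iv D2108) (iv F9919)
theorem F13962 : act 6 n2873 = n2005 := d41_1 D2873 (iv D2005) D2004
def n2874 : Q := act 8 n2005
theorem D2874 : act 8 n2005 = n2874 := rfl
theorem F13963 : act 0 n2874 = n2009 := d7_1 D2874 (iv D2009) (iv F9920)
theorem F13964 : act 1 n2874 = n2874 := d15_1 D2874 (iv D2874) F9921
theorem F13965 : act 3 n2874 = n2874 := d28_1 D2874 (iv D2874) F9922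
theorem F13966 : act 4 n2874 = n2109 := d33_1 D2874 (iv D2109) (iv F9923)
theorem F13967 : act 7 n2874 = n2874 := d42_1 D2874 (iv D2874) F9925
def n2875 : Q := act 7 n2006
theorem D2875 : act 7 n2006 = n2875 := rfl
theorem F13968 : act 1 n2875 = n2010 := d14_1 D2875 (iv D2010) (iv F9926)
theorem F13969 : act 3 n2875 = n2875 := d27_1 D2875 (iv D2875) F9927
theorem F13970 : act 4 n2875 = n2875 := d32_1 D2875 (iv D2875) F9928
theorem F13971 : act 5 n2875 = n2007 := d36_1 D2875 (iv D2007) D2006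
def n2876 : Q := act 8 n2006
theorem D2876 : act 8 n2006 = n2876 := rfl
theorem F13972 : act 1 n2876 = n2011 := d15_1 D2876 (iv D2011) (iv F9926)
theorem F13973 : act 3 n2876 = n2876 := d28_1 D2876 (iv D2876) F9927
theorem F13974 : act 4 n2876 = n2876 := d33_1 D2876 (iv D2876) F9928
theorem F13975 : act 6 n2876 = n2876 := d40_1 D2876 (iv D2876) F9929
def n2877 : Q := act 9 n2006
theorem D2877 : act 9 n2006 = n2877 := rfl
theorem F13976 : act 1 n2877 = n2012 := d16_1 D2877 (iv D2012) (iv F9926)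
theorem F13977 : act 3 n2877 = n2877 := d29_1 D2877 (iv D2877) F9927
theorem F13978 : act 4 n2877 = n2877 := d34_1 D2877 (iv D2877) F9928
theorem F13979 : act 5 n2877 = n2008 := d38_1 D2877 (iv D2008) D2006
theorem F13980 : act 6 n2877 = n2877 := d41_1 D2877 (iv D2877) F9929
def n2878 : Q := act 9 n2007
theorem D2878 : act 9 n2007 = n2878 := rfl
theorem F13981 : act 1 n2878 = n2013 := d16_1 D2878 (iv D2013) (iv F9930)
theorem F13982 : act 3 n2878 = n2878 := d29_1 D2878 (iv D2878) F9931
theorem F13983 : act 4 n2878 = n2110 := d34_1 D2878 (iv D2110) (iv F9932)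
theorem F13984 : act 6 n2878 = n2878 := d41_1 D2878 (iv D2878) F9933
theorem F13985 : act 7 n2878 = n2008 := d43_1 D2878 (iv D2008) D2007
def n2879 : Q := act 8 n2008
theorem D2879 : act 8 n2008 = n2879 := rfl
theorem F13986 : act 1 n2879 = n2014 := d15_1 D2879 (iv D2014) (iv F9934)
theorem F13987 : act 3 n2879 = n2879 := d28_1 D2879 (iv D2879) F9935
theorem F13988 : act 4 n2879 = n2111 := d33_1 D2879 (iv D2111) (iv F9936)
theorem F13989 : act 6 n2879 = n2009 := d40_1 D2879 (iv D2009) (iv F9937)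
def n2880 : Q := act 5 n2009
theorem D2880 : act 5 n2009 = n2880 := rfl
theorem F13990 : act 1 n2880 = n2015 := d12_1 D2880 (iv D2015) (iv F9938)
theorem F13991 : act 3 n2880 = n2880 := d25_1 D2880 (iv D2880) F9939
theorem F13992 : act 7 n2880 = n2880 := d36_2 F9941 D2880 (iv D2880)
theorem F13993 : act 8 n2880 = n2880 := d37_2 D2009 D2880 (iv D2880) (iv D2009) F7054
def n2881 : Q := act 6 n2010
theorem D2881 : act 6 n2010 = n2881 := rfl
theorem F13995 : act 2 n2881 = n2016 := d20_1 D2881 (iv D2016) (iv F9943)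
def n2882 : Q := act 8 n2010
theorem D2882 : act 8 n2010 = n2882 := rfl
theorem F14000 : act 0 n2882 = n2882 := d7_1 D2882 (iv D2882) F9942
theorem F14001 : act 2 n2882 = n2017 := d22_1 D2882 (iv D2017) (iv F9943)
theorem F14002 : act 3 n2882 = n2882 := d28_1 D2882 (iv D2882) F9944
theorem F14003 : act 4 n2882 = n2882 := d33_1 D2882 (iv D2882) F9945
theorem F14004 : act 7 n2882 = n2011 := d42_1 D2882 (iv D2011) D2010
def n2883 : Q := act 9 n2010
theorem D2883 : act 9 n2010 = n2883 := rfl
theorem F14005 : act 0 n2883 = n2883 := d8_1 D2883 (iv D2883) F9942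
theorem F14006 : act 2 n2883 = n2018 := d23_1 D2883 (iv D2018) (iv F9943)
theorem F14007 : act 3 n2883 = n2883 := d29_1 D2883 (iv D2883) F9944
theorem F14008 : act 4 n2883 = n2883 := d34_1 D2883 (iv D2883) F9945
theorem F14009 : act 5 n2883 = n2013 := d38_1 D2883 (iv D2013) (iv F9946)
theorem F14010 : act 7 n2883 = n2012 := d43_1 D2883 (iv D2012) D2010
def n2884 : Q := act 9 n2011
theorem D2884 : act 9 n2011 = n2884 := rfl
theorem F14011 : act 0 n2884 = n2884 := d8_1 D2884 (iv D2884) F9947
theorem F14012 : act 2 n2884 = n2019 := d23_1 D2884 (iv D2019) (iv F9948)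
theorem F14013 : act 3 n2884 = n2884 := d29_1 D2884 (iv D2884) F9949
theorem F14014 : act 4 n2884 = n2884 := d34_1 D2884 (iv D2884) F9950
theorem F14015 : act 6 n2884 = n2884 := d41_1 D2884 (iv D2884) F9951
def n2885 : Q := act 8 n2012
theorem D2885 : act 8 n2012 = n2885 := rfl
theorem F14016 : act 0 n2885 = n2885 := d7_1 D2885 (iv D2885) F9952
theorem F14017 : act 2 n2885 = n2020 := d22_1 D2885 (iv D2020) (iv F9953)
theorem F14018 : act 3 n2885 = n2885 := d28_1 D2885 (iv D2885) F9954
theorem F14019 : act 4 n2885 = n2885 := d33_1 D2885 (iv D2885) F9955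
theorem F14020 : act 6 n2885 = n2885 := d40_1 D2885 (iv D2885) F9957
def n2886 : Q := act 8 n2013
theorem D2886 : act 8 n2013 = n2886 := rfl
theorem F14021 : act 0 n2886 = n2886 := d7_1 D2886 (iv D2886) F9958
theorem F14022 : act 2 n2886 = n2021 := d22_1 D2886 (iv D2021) (iv F9959)
theorem F14023 : act 3 n2886 = n2886 := d28_1 D2886 (iv D2886) F9960
theorem F14024 : act 4 n2886 = n2113 := d33_1 D2886 (iv D2113) (iv F9961)
theorem F14025 : act 6 n2886 = n2886 := d40_1 D2886 (iv D2886) F9962
theorem F14026 : act 7 n2886 = n2014 := d42_1 D2886 (iv D2014) (iv F9963)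
def n2887 : Q := act 5 n2014
theorem D2887 : act 5 n2014 = n2887 := rfl
theorem F14027 : act 0 n2887 = n2887 := d4_1 D2887 (iv D2887) F9964
theorem F14028 : act 2 n2887 = n2022 := d19_1 D2887 (iv D2022) (iv F9965)
theorem F14029 : act 3 n2887 = n2887 := d25_1 D2887 (iv D2887) F9966
def n2888 : Q := act 4 n2015
theorem D2888 : act 4 n2015 = n2888 := rfl
theorem F14030 : act 0 n2888 = n2888 := d3_1 D2888 (iv D2888) F9969
theorem F14031 : act 2 n2888 = n2023 := d18_1 D2888 (iv D2023) (iv F9970)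
theorem F14032 : act 5 n2888 = n2115 := d30_2 D2015 D2888 (iv D2115) (iv D1477) (iv F7074)
theorem F14033 : act 7 n2888 = n2888 := d32_2 F9972 D2888 (iv D2888)
theorem F14034 : act 8 n2888 = n2888 := d33_2 F9973 D2888 (iv D2888)
def n2889 : Q := act 6 n2015
theorem D2889 : act 6 n2015 = n2889 := rfl
theorem F14035 : act 0 n2889 = n2889 := d5_1 D2889 (iv D2889) F9969
theorem F14036 : act 2 n2889 = n2024 := d20_1 D2889 (iv D2024) (iv F9970)
theorem F14037 : act 3 n2889 = n2889 := d26_1 D2889 (iv D2889) F9971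
theorem F14038 : act 8 n2889 = n2889 := d40_2 F9973 D2889 (iv D2889)
def n2890 : Q := act 8 n2016
theorem D2890 : act 8 n2016 = n2890 := rfl
theorem F14040 : act 3 n2890 = n2025 := d28_1 D2890 (iv D2025) (iv F9975)
theorem F14042 : act 6 n2890 = n2017 := d40_1 D2890 (iv D2017) D2016
def n2891 : Q := act 9 n2016
theorem D2891 : act 9 n2016 = n2891 := rfl
theorem F14048 : act 6 n2891 = n2018 := d41_1 D2891 (iv D2018) D2016
def n2892 : Q := act 9 n2017
theorem D2892 : act 9 n2017 = n2892 := rfl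
theorem F14050 : act 0 n2892 = n2892 := d8_1 D2892 (iv D2892) F9979
theorem F14051 : act 3 n2892 = n2027 := d29_1 D2892 (iv D2027) (iv F9980)
theorem F14052 : act 4 n2892 = n2892 := d34_1 D2892 (iv D2892) F9981
theorem F14053 : act 7 n2892 = n2019 := d43_1 D2892 (iv D2019) (iv F9982)
def n2893 : Q := act 8 n2018
theorem D2893 : act 8 n2018 = n2893 := rfl
theorem F14054 : act 0 n2893 = n2893 := d7_1 D2893 (iv D2893) F9983
theorem F14055 : act 3 n2893 = n2028 := d28_1 D2893 (iv D2028) (iv F9984)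
theorem F14056 : act 4 n2893 = n2893 := d33_1 D2893 (iv D2893) F9985
theorem F14057 : act 7 n2893 = n2020 := d42_1 D2893 (iv D2020) (iv F9987)
def n2894 : Q := act 8 n2019
theorem D2894 : act 8 n2019 = n2894 := rfl
theorem F14058 : act 0 n2894 = n2894 := d7_1 D2894 (iv D2894) F9988
theorem F14059 : act 3 n2894 = n2029 := d28_1 D2894 (iv D2029) (iv F9989)
theorem F14060 : act 4 n2894 = n2894 := d33_1 D2894 (iv D2894) F9990
theorem F14061 : act 6 n2894 = n2894 := d40_1 D2894 (iv D2894) F9991
theorem F14062 : act 9 n2894 = n2020 := d44_2 D2019 D2894 (iv D2020) (iv D1406) D1405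
def n2895 : Q := act 5 n2020
theorem D2895 : act 5 n2020 = n2895 := rfl
theorem F14063 : act 0 n2895 = n2895 := d4_1 D2895 (iv D2895) F9992
theorem F14064 : act 3 n2895 = n2030 := d25_1 D2895 (iv D2030) (iv F9993)
theorem F14065 : act 8 n2895 = n2022 := d37_2 D2020 D2895 (iv D2022) (iv D1408) (iv F7087)
def n2896 : Q := act 5 n2021
theorem D2896 : act 5 n2021 = n2896 := rfl
theorem F14066 : act 0 n2896 = n2896 := d4_1 D2896 (iv D2896) F9996
theorem F14067 : act 3 n2896 = n2031 := d25_1 D2896 (iv D2031) (iv F9997)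
theorem F14068 : act 7 n2896 = n2022 := d36_2 (iv F10000) D2896 (iv D2022)
def n2897 : Q := act 4 n2022
theorem D2897 : act 4 n2022 = n2897 := rfl
theorem F14069 : act 0 n2897 = n2897 := d3_1 D2897 (iv D2897) F10001
theorem F14070 : act 5 n2897 = n2118 := d30_2 D2022 D2897 (iv D2118) (iv D1479) (iv F7096)
def n2898 : Q := act 6 n2022
theorem D2898 : act 6 n2022 = n2898 := rfl
theorem F14071 : act 0 n2898 = n2898 := d5_1 D2898 (iv D2898) F10001
theorem F14072 : act 3 n2898 = n2033 := d26_1 D2898 (iv D2033) (iv F10002)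
theorem F14073 : act 5 n2898 = n2024 := d35_1 D2898 (iv D2024) (iv D1409) (iv F7097) D2022
def n2899 : Q := act 6 n2023
theorem D2899 : act 6 n2023 = n2899 := rfl
theorem F14074 : act 0 n2899 = n2899 := d5_1 D2899 (iv D2899) F10003
theorem F14075 : act 3 n2899 = n2899 := d26_1 D2899 (iv D2899) F10004
theorem F14076 : act 4 n2899 = n2024 := d31_1 D2899 (iv D2024) D2023
theorem F14077 : act 8 n2899 = n2899 := d40_2 F10007 D2899 (iv D2899)
def n2900 : Q := act 7 n2024
theorem D2900 : act 7 n2024 = n2900 := rfl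
theorem F14078 : act 0 n2900 = n2900 := d6_1 D2900 (iv D2900) F10008
theorem F14079 : act 3 n2900 = n2034 := d27_1 D2900 (iv D2034) (iv F10009)
theorem F14080 : act 6 n2900 = n2900 := d39_1 D2900 (iv D2900) (iv D2024) F7100 D2024
theorem F14081 : act 8 n2900 = n2900 := d42_2 F10010 D2900 (iv D2900)
def n2901 : Q := act 5 n2025
theorem D2901 : act 5 n2025 = n2901 := rfl
def n2902 : Q := act 9 n2025
theorem D2902 : act 9 n2025 = n2902 := rfl
theorem F14089 : act 6 n2902 = n2027 := d41_1 D2902 (iv D2027) (iv F10014)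
def n2904 : Q := act 8 n2027
theorem D2904 : act 8 n2027 = n2904 := rfl
theorem F14096 : act 0 n2904 = n2904 := d7_1 D2904 (iv D2904) F10022
theorem F14097 : act 2 n2904 = n2904 := d22_1 D2904 (iv D2904) F10023
theorem F14098 : act 4 n2904 = n2041 := d33_1 D2904 (iv D2041) (iv F10024)
theorem F14099 : act 7 n2904 = n2029 := d42_1 D2904 (iv D2029) (iv F10025)
theorem F14100 : act 9 n2904 = n2028 := d44_2 D2027 D2904 (iv D2028) (iv D1412) D1411
def n2905 : Q := act 5 n2028
theorem D2905 : act 5 n2028 = n2905 := rfl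
theorem F14101 : act 0 n2905 = n2905 := d4_1 D2905 (iv D2905) F10026
theorem F14102 : act 2 n2905 = n2905 := d19_1 D2905 (iv D2905) F10027
theorem F14103 : act 7 n2905 = n2030 := d36_2 (iv F10029) D2905 (iv D2030)
theorem F14104 : act 8 n2905 = n2031 := d37_2 D2028 D2905 (iv D2031) (iv D1415) (iv F7114)
def n2906 : Q := act 5 n2029
theorem D2906 : act 5 n2029 = n2906 := rfl
theorem F14105 : act 0 n2906 = n2906 := d4_1 D2906 (iv D2906) F10030
theorem F14106 : act 2 n2906 = n2906 := d19_1 D2906 (iv D2906) F10031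
theorem F14107 : act 9 n2906 = n2030 := d38_2 (iv F10034) D2906 (iv D2030)
def n2907 : Q := act 4 n2030
theorem D2907 : act 4 n2030 = n2907 := rfl
theorem F14108 : act 0 n2907 = n2907 := d3_1 D2907 (iv D2907) F10035
theorem F14109 : act 2 n2907 = n2907 := d18_1 D2907 (iv D2907) F10036
theorem F14110 : act 5 n2907 = n2044 := d30_2 D2030 D2907 (iv D2044) (iv D1425) (iv F7122)
theorem F14111 : act 8 n2907 = n2032 := d33_2 (iv F10037) D2907 (iv D2032)
def n2908 : Q := act 6 n2030
theorem D2908 : act 6 n2030 = n2908 := rfl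
theorem F14112 : act 0 n2908 = n2908 := d5_1 D2908 (iv D2908) F10035
theorem F14113 : act 2 n2908 = n2908 := d20_1 D2908 (iv D2908) F10036
theorem F14114 : act 5 n2908 = n2908 := d35_1 D2908 (iv D2908) (iv D2030) F7123 D2030
theorem F14115 : act 8 n2908 = n2033 := d40_2 (iv F10037) D2908 (iv D2033)
def n2909 : Q := act 4 n2031
theorem D2909 : act 4 n2031 = n2909 := rfl
theorem F14116 : act 0 n2909 = n2909 := d3_1 D2909 (iv D2909) F10038
theorem F14117 : act 2 n2909 = n2909 := d18_1 D2909 (iv D2909) F10039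
theorem F14118 : act 5 n2909 = n2035 := d30_2 D2031 D2909 (iv D2035) (iv D1418) (iv F7126)
theorem F14119 : act 7 n2909 = n2032 := d32_2 (iv F10040) D2909 (iv D2032)
def n2910 : Q := act 6 n2031
theorem D2910 : act 6 n2031 = n2910 := rfl
theorem F14120 : act 0 n2910 = n2910 := d5_1 D2910 (iv D2910) F10038
theorem F14121 : act 2 n2910 = n2910 := d20_1 D2910 (iv D2910) F10039
theorem F14122 : act 5 n2910 = n2910 := d35_1 D2910 (iv D2910) (iv D2031) F7127 D2031
def n2911 : Q := act 3 n2032
theorem D2911 : act 3 n2032 = n2911 := rfl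
theorem F14123 : act 0 n2911 = n2911 := d2_1 D2911 (iv D2911) F10041
theorem F14124 : act 5 n2911 = n2037 := d25_2 (iv F10043) D2911 (iv D2037)
def n2912 : Q := act 6 n2032
theorem D2912 : act 6 n2032 = n2912 := rfl
theorem F14125 : act 0 n2912 = n2912 := d5_1 D2912 (iv D2912) F10041
theorem F14126 : act 2 n2912 = n2912 := d20_1 D2912 (iv D2912) F10042
theorem F14127 : act 4 n2912 = n2033 := d31_1 D2912 (iv D2033) D2032
theorem F14128 : act 5 n2912 = n2912 := d35_1 D2912 (iv D2912) F10043 F7142 (iv F10043)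
def n2913 : Q := act 7 n2033
theorem D2913 : act 7 n2033 = n2913 := rfl
theorem F14129 : act 0 n2913 = n2913 := d6_1 D2913 (iv D2913) F10044
theorem F14130 : act 2 n2913 = n2913 := d21_1 D2913 (iv D2913) F10045
theorem F14131 : act 5 n2913 = n2034 := d36_1 D2913 (iv D2034) (iv F10046)
def n2914 : Q := act 3 n2035
theorem D2914 : act 3 n2035 = n2914 := rfl
theorem F14132 : act 0 n2914 = n2914 := d2_1 D2914 (iv D2914) F10052
theorem F14133 : act 4 n2914 = n2127 := d24_2 D2035 D2914 (iv D2127) (iv D1486) (iv F7137)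
theorem F14134 : act 7 n2914 = n2037 := d27_2 (iv F10054) D2914 (iv D2037)
theorem F14135 : act 8 n2914 = n2051 := d28_2 (iv F10055) D2914 (iv D2051)
def n2915 : Q := act 6 n2035
theorem D2915 : act 6 n2035 = n2915 := rfl
theorem F14136 : act 0 n2915 = n2915 := d5_1 D2915 (iv D2915) F10052
theorem F14137 : act 2 n2915 = n2915 := d20_1 D2915 (iv D2915) F10053
theorem F14138 : act 4 n2915 = n2036 := d31_1 D2915 (iv D2036) D2035
theorem F14139 : act 7 n2915 = n2915 := d39_2 (iv F10054) D2915 (iv D2915) F10054 F7142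
theorem F14140 : act 8 n2915 = n2052 := d40_2 (iv F10055) D2915 (iv D2052)
def n2916 : Q := act 2 n2037
theorem D2916 : act 2 n2037 = n2916 := rfl
theorem F14141 : act 0 n2916 = n2916 := d1_1 D2916 (iv D2916) F10062
theorem F14142 : act 3 n2916 = n2916 := d17_2 D2037 D2916 (iv D2916) (iv D2037) F7141
theorem F14144 : act 6 n2916 = n2916 := d20_2 F10064 D2916 (iv D2916)
theorem F14145 : act 8 n2916 = n2053 := d22_2 (iv F10065) D2916 (iv D2053)
def n2917 : Q := act 4 n2038
theorem D2917 : act 4 n2038 = n2917 := rfl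
theorem F14148 : act 6 n2917 = n2917 := d31_2 F10069 D2917 (iv D2917)
theorem F14149 : act 7 n2917 = n2917 := d32_2 F10070 D2917 (iv D2917)
theorem F14150 : act 8 n2917 = n2054 := d33_2 (iv F10071) D2917 (iv D2054)
def n2921 : Q := act 5 n2041
theorem D2921 : act 5 n2041 = n2921 := rfl
theorem F14168 : act 0 n2921 = n2921 := d4_1 D2921 (iv D2921) F10082
theorem F14169 : act 2 n2921 = n2921 := d19_1 D2921 (iv D2921) F10083
theorem F14170 : act 3 n2921 = n2921 := d25_1 D2921 (iv D2921) F10084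
theorem F14171 : act 7 n2921 = n2043 := d36_2 (iv F10085) D2921 (iv D2043)
theorem F14172 : act 8 n2921 = n2921 := d37_2 D2041 D2921 (iv D2921) (iv D2041) F7158
theorem F14173 : act 9 n2921 = n2042 := d38_2 (iv F10086) D2921 (iv D2042)
def n2922 : Q := act 4 n2042
theorem D2922 : act 4 n2042 = n2922 := rfl
theorem F14174 : act 0 n2922 = n2922 := d3_1 D2922 (iv D2922) F10087
theorem F14175 : act 2 n2922 = n2922 := d18_1 D2922 (iv D2922) F10088
theorem F14176 : act 7 n2922 = n2044 := d32_2 (iv F10090) D2922 (iv D2044)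
theorem F14177 : act 8 n2922 = n2046 := d33_2 (iv F10091) D2922 (iv D2046)
def n2923 : Q := act 6 n2042
theorem D2923 : act 6 n2042 = n2923 := rfl
def n2924 : Q := act 4 n2043
theorem D2924 : act 4 n2043 = n2924 := rfl
theorem F14182 : act 0 n2924 = n2924 := d3_1 D2924 (iv D2924) F10092
theorem F14183 : act 2 n2924 = n2924 := d18_1 D2924 (iv D2924) F10093
theorem F14184 : act 8 n2924 = n2924 := d33_2 F10095 D2924 (iv D2924)
theorem F14185 : act 9 n2924 = n2044 := d34_2 (iv F10096) D2924 (iv D2044)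
def n2925 : Q := act 6 n2043
theorem D2925 : act 6 n2043 = n2925 := rfl
theorem F14186 : act 0 n2925 = n2925 := d5_1 D2925 (iv D2925) F10092
theorem F14187 : act 2 n2925 = n2925 := d20_1 D2925 (iv D2925) F10093
theorem F14188 : act 3 n2925 = n2925 := d26_1 D2925 (iv D2925) F10094
theorem F14189 : act 5 n2925 = n2925 := d35_1 D2925 (iv D2925) (iv D2043) F7167 D2043
theorem F14190 : act 8 n2925 = n2925 := d40_2 F10095 D2925 (iv D2925)
theorem F14191 : act 9 n2925 = n2045 := d41_2 (iv F10096) D2925 (iv D2045)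
def n2926 : Q := act 3 n2044
theorem D2926 : act 3 n2044 = n2926 := rfl
theorem F14192 : act 0 n2926 = n2926 := d2_1 D2926 (iv D2926) F10097
theorem F14193 : act 4 n2926 = n2926 := d24_2 D2044 D2926 (iv D2926) (iv D2044) F7171
theorem F14194 : act 8 n2926 = n2048 := d28_2 (iv F10099) D2926 (iv D2048)
def n2927 : Q := act 6 n2044
theorem D2927 : act 6 n2044 = n2927 := rfl
theorem F14195 : act 0 n2927 = n2927 := d5_1 D2927 (iv D2927) F10097
theorem F14196 : act 2 n2927 = n2927 := d20_1 D2927 (iv D2927) F10098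
theorem F14197 : act 4 n2927 = n2045 := d31_1 D2927 (iv D2045) D2044
theorem F14198 : act 8 n2927 = n2049 := d40_2 (iv F10099) D2927 (iv D2049)
def n2928 : Q := act 7 n2045
theorem D2928 : act 7 n2045 = n2928 := rfl
def n2929 : Q := act 3 n2046
theorem D2929 : act 3 n2046 = n2929 := rfl
theorem F14204 : act 0 n2929 = n2929 := d2_1 D2929 (iv D2929) F10105
theorem F14205 : act 4 n2929 = n2929 := d24_2 D2046 D2929 (iv D2929) (iv D2046) F7175
theorem F14206 : act 5 n2929 = n2051 := d25_2 (iv F10107) D2929 (iv D2051)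
theorem F14207 : act 7 n2929 = n2048 := d27_2 (iv F10108) D2929 (iv D2048)
theorem F14208 : act 9 n2929 = n2929 := d29_2 F10109 D2929 (iv D2929)
def n2930 : Q := act 6 n2046
theorem D2930 : act 6 n2046 = n2930 := rfl
def n2932 : Q := act 2 n2048
theorem D2932 : act 2 n2048 = n2932 := rfl
theorem F14219 : act 0 n2932 = n2932 := d1_1 D2932 (iv D2932) F10115
theorem F14220 : act 3 n2932 = n2932 := d17_2 D2048 D2932 (iv D2932) (iv D2048) F7179
theorem F14221 : act 4 n2932 = n2932 := d18_2 F10116 D2932 (iv D2932)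
theorem F14222 : act 5 n2932 = n2053 := d19_2 (iv F10117) D2932 (iv D2053)
theorem F14223 : act 9 n2932 = n2932 := d23_2 F10118 D2932 (iv D2932)
def n2933 : Q := act 6 n2048
theorem D2933 : act 6 n2048 = n2933 := rfl
theorem F14224 : act 0 n2933 = n2933 := d5_1 D2933 (iv D2933) F10115
theorem F14225 : act 3 n2933 = n2049 := d26_1 D2933 (iv D2049) D2048
theorem F14226 : act 4 n2933 = n2933 := d31_1 D2933 (iv D2933) F10116
theorem F14227 : act 5 n2933 = n2933 := d35_1 D2933 (iv D2933) F10117 F7206 (iv F10117)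
theorem F14228 : act 9 n2933 = n2933 := d41_2 F10118 D2933 (iv D2933)
def n2934 : Q := act 7 n2049
theorem D2934 : act 7 n2049 = n2934 := rfl
theorem F14231 : act 4 n2934 = n2050 := d32_1 D2934 (iv D2050) (iv F10121)
def n2935 : Q := act 2 n2051
theorem D2935 : act 2 n2051 = n2935 := rfl
theorem F14236 : act 4 n2935 = n2130 := d18_2 (iv F10130) D2935 (iv D2130)
theorem F14237 : act 7 n2935 = n2053 := d21_2 (iv F10131) D2935 (iv D2053)
def n2936 : Q := act 6 n2051
theorem D2936 : act 6 n2051 = n2936 := rfl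
theorem F14240 : act 3 n2936 = n2052 := d26_1 D2936 (iv D2052) D2051
theorem F14241 : act 4 n2936 = n2131 := d31_1 D2936 (iv D2131) (iv F10130)
def n2937 : Q := act 5 n2052
theorem D2937 : act 5 n2052 = n2937 := rfl
theorem F14246 : act 4 n2937 = n2074 := d30_1 D2937 (iv D2074) F7280 (iv F7201) (iv F10135)
def n2938 : Q := act 1 n2053
theorem D2938 : act 1 n2053 = n2938 := rfl
def n2939 : Q := act 3 n2054
theorem D2939 : act 3 n2054 = n2939 := rfl
theorem F14254 : act 4 n2939 = n2939 := d24_2 D2054 D2939 (iv D2939) (iv D2054) F7210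
theorem F14255 : act 5 n2939 = n2939 := d25_2 F10145 D2939 (iv D2939)
theorem F14256 : act 6 n2939 = n2939 := d26_2 F10146 D2939 (iv D2939)
theorem F14257 : act 7 n2939 = n2939 := d27_2 F10147 D2939 (iv D2939)
def n2969 : Q := act 5 n2076
theorem D2969 : act 5 n2076 = n2969 := rfl
theorem F14401 : act 0 n2969 = n2078 := d4_1 D2969 (iv D2078) (iv F10254)
theorem F14402 : act 1 n2969 = n2969 := d12_1 D2969 (iv D2969) F10255
theorem F14403 : act 3 n2969 = n2147 := d25_1 D2969 (iv D2147) (iv F10256)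
theorem F14404 : act 6 n2969 = n2969 := d35_2 D2076 D2969 (iv D2969) (iv D2076) F7292
theorem F14405 : act 8 n2969 = n2969 := d37_2 (iv F10257) D2969 (iv D2969) F10257 F7389
def n2970 : Q := act 7 n2076
theorem D2970 : act 7 n2076 = n2970 := rfl
theorem F14406 : act 0 n2970 = n2079 := d6_1 D2970 (iv D2079) (iv F10254)
theorem F14407 : act 1 n2970 = n2970 := d14_1 D2970 (iv D2970) F10255
theorem F14408 : act 3 n2970 = n2148 := d27_1 D2970 (iv D2148) (iv F10256)
theorem F14409 : act 6 n2970 = n2970 := d39_1 D2970 (iv D2970) (iv D2076) F7293 D2076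
theorem F14410 : act 8 n2970 = n2107 := d42_2 (iv F10257) D2970 (iv D2107)
def n2971 : Q := act 9 n2076
theorem D2971 : act 9 n2076 = n2971 := rfl
theorem F14411 : act 0 n2971 = n2080 := d8_1 D2971 (iv D2080) (iv F10254)
theorem F14412 : act 1 n2971 = n2971 := d16_1 D2971 (iv D2971) F10255
theorem F14413 : act 3 n2971 = n2149 := d29_1 D2971 (iv D2149) (iv F10256)
theorem F14414 : act 6 n2971 = n2077 := d41_1 D2971 (iv D2077) D2076
def n2972 : Q := act 8 n2077
theorem D2972 : act 8 n2077 = n2972 := rfl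
theorem F14415 : act 0 n2972 = n2081 := d7_1 D2972 (iv D2081) (iv F10258)
theorem F14416 : act 1 n2972 = n2972 := d15_1 D2972 (iv D2972) F10259
theorem F14417 : act 3 n2972 = n2150 := d28_1 D2972 (iv D2150) (iv F10260)
theorem F14418 : act 7 n2972 = n2972 := d42_1 D2972 (iv D2972) F10262
theorem F14419 : act 9 n2972 = n2109 := d44_2 D2077 D2972 (iv D2109) (iv D1471) (iv F7294)
def n2973 : Q := act 4 n2078
theorem D2973 : act 4 n2078 = n2973 := rfl
theorem F14420 : act 1 n2973 = n2082 := d11_1 D2973 (iv D2082) (iv F10263)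
theorem F14421 : act 6 n2973 = n2973 := d31_2 F10265 D2973 (iv D2973)
theorem F14422 : act 8 n2973 = n2973 := d33_2 F10266 D2973 (iv D2973)
def n2974 : Q := act 7 n2078
theorem D2974 : act 7 n2078 = n2974 := rfl
theorem F14423 : act 1 n2974 = n2083 := d14_1 D2974 (iv D2083) (iv F10263)
theorem F14424 : act 3 n2974 = n2152 := d27_1 D2974 (iv D2152) (iv F10264)
theorem F14425 : act 5 n2974 = n2079 := d36_1 D2974 (iv D2079) D2078
theorem F14426 : act 8 n2974 = n2974 := d42_2 F10266 D2974 (iv D2974)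
def n2975 : Q := act 9 n2078
theorem D2975 : act 9 n2078 = n2975 := rfl
theorem F14427 : act 1 n2975 = n2084 := d16_1 D2975 (iv D2084) (iv F10263)
theorem F14428 : act 3 n2975 = n2153 := d29_1 D2975 (iv D2153) (iv F10264)
theorem F14429 : act 5 n2975 = n2080 := d38_1 D2975 (iv D2080) D2078
theorem F14430 : act 6 n2975 = n2975 := d41_1 D2975 (iv D2975) F10265
def n2976 : Q := act 9 n2079
theorem D2976 : act 9 n2079 = n2976 := rfl
theorem F14431 : act 1 n2976 = n2085 := d16_1 D2976 (iv D2085) (iv F10267)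
theorem F14432 : act 3 n2976 = n2154 := d29_1 D2976 (iv D2154) (iv F10268)
theorem F14433 : act 6 n2976 = n2976 := d41_1 D2976 (iv D2976) F10269
theorem F14434 : act 7 n2976 = n2080 := d43_1 D2976 (iv D2080) D2079
def n2977 : Q := act 8 n2080
theorem D2977 : act 8 n2080 = n2977 := rfl
theorem F14435 : act 1 n2977 = n2086 := d15_1 D2977 (iv D2086) (iv F10271)
theorem F14436 : act 3 n2977 = n2155 := d28_1 D2977 (iv D2155) (iv F10272)
theorem F14437 : act 6 n2977 = n2081 := d40_1 D2977 (iv D2081) (iv F10273)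
theorem F14438 : act 9 n2977 = n2111 := d44_2 D2080 D2977 (iv D2111) (iv D1473) (iv F7297)
def n2978 : Q := act 5 n2081
theorem D2978 : act 5 n2081 = n2978 := rfl
theorem F14439 : act 1 n2978 = n2087 := d12_1 D2978 (iv D2087) (iv F10274)
theorem F14440 : act 3 n2978 = n2156 := d25_1 D2978 (iv D2156) (iv F10275)
theorem F14441 : act 7 n2978 = n2978 := d36_2 F10276 D2978 (iv D2978)
theorem F14442 : act 8 n2978 = n2978 := d37_2 D2081 D2978 (iv D2978) (iv D2081) F7300
theorem F14443 : act 9 n2978 = n2112 := d38_2 (iv F10277) D2978 (iv D2112)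
def n2979 : Q := act 3 n2082
theorem D2979 : act 3 n2082 = n2979 := rfl
theorem F14444 : act 0 n2979 = n2979 := d2_1 D2979 (iv D2979) F10278
theorem F14445 : act 2 n2979 = n2979 := d17_1 D2979 (iv D2979) F10279 F7322 (iv F10279)
theorem F14446 : act 4 n2979 = n2157 := d24_2 D2082 D2979 (iv D2157) (iv D1508) (iv F7304)
theorem F14447 : act 6 n2979 = n2979 := d26_2 F10280 D2979 (iv D2979)
theorem F14448 : act 8 n2979 = n2979 := d28_2 F10281 D2979 (iv D2979)
def n2980 : Q := act 7 n2082
theorem D2980 : act 7 n2082 = n2980 := rfl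
theorem F14449 : act 0 n2980 = n2980 := d6_1 D2980 (iv D2980) F10278
theorem F14450 : act 2 n2980 = n2088 := d21_1 D2980 (iv D2088) (iv F10279)
theorem F14451 : act 4 n2980 = n2083 := d32_1 D2980 (iv D2083) D2082
theorem F14452 : act 8 n2980 = n2980 := d42_2 F10281 D2980 (iv D2980)
def n2981 : Q := act 9 n2082
theorem D2981 : act 9 n2082 = n2981 := rfl
theorem F14453 : act 0 n2981 = n2981 := d8_1 D2981 (iv D2981) F10278
theorem F14454 : act 2 n2981 = n2089 := d23_1 D2981 (iv D2089) (iv F10279)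
theorem F14455 : act 4 n2981 = n2084 := d34_1 D2981 (iv D2084) D2082
theorem F14456 : act 6 n2981 = n2981 := d41_1 D2981 (iv D2981) F10280
def n2982 : Q := act 6 n2083
theorem D2982 : act 6 n2083 = n2982 := rfl
theorem F14457 : act 0 n2982 = n2982 := d5_1 D2982 (iv D2982) F10282
theorem F14458 : act 2 n2982 = n2090 := d20_1 D2982 (iv D2090) (iv F10283)
theorem F14459 : act 3 n2982 = n2160 := d26_1 D2982 (iv D2160) (iv F10284)
theorem F14460 : act 5 n2982 = n2982 := d35_1 D2982 (iv D2982) F10285 F7310 (iv F10285)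
theorem F14461 : act 7 n2982 = n2982 := d39_2 D2083 D2982 (iv D2982) (iv D2083) F7305
theorem F14462 : act 8 n2982 = n2982 := d40_2 F10286 D2982 (iv D2982)
def n2983 : Q := act 9 n2083
theorem D2983 : act 9 n2083 = n2983 := rfl
theorem F14463 : act 0 n2983 = n2983 := d8_1 D2983 (iv D2983) F10282
theorem F14464 : act 2 n2983 = n2091 := d23_1 D2983 (iv D2091) (iv F10283)
theorem F14465 : act 3 n2983 = n2161 := d29_1 D2983 (iv D2161) (iv F10284)
theorem F14466 : act 5 n2983 = n2085 := d38_1 D2983 (iv D2085) (iv F10285)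
theorem F14467 : act 7 n2983 = n2084 := d43_1 D2983 (iv D2084) D2083
def n2984 : Q := act 8 n2084
theorem D2984 : act 8 n2084 = n2984 := rfl
theorem F14468 : act 0 n2984 = n2984 := d7_1 D2984 (iv D2984) F10287
theorem F14469 : act 2 n2984 = n2092 := d22_1 D2984 (iv D2092) (iv F10288)
theorem F14470 : act 3 n2984 = n2162 := d28_1 D2984 (iv D2162) (iv F10289)
theorem F14471 : act 6 n2984 = n2984 := d40_1 D2984 (iv D2984) F10291
theorem F14472 : act 9 n2984 = n2984 := d44_2 D2084 D2984 (iv D2984) (iv D2084) F7306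
def n2985 : Q := act 8 n2085
theorem D2985 : act 8 n2085 = n2985 := rfl
theorem F14473 : act 0 n2985 = n2985 := d7_1 D2985 (iv D2985) F10292
theorem F14474 : act 2 n2985 = n2093 := d22_1 D2985 (iv D2093) (iv F10293)
theorem F14475 : act 3 n2985 = n2163 := d28_1 D2985 (iv D2163) (iv F10294)
theorem F14476 : act 6 n2985 = n2985 := d40_1 D2985 (iv D2985) F10295
theorem F14477 : act 7 n2985 = n2086 := d42_1 D2985 (iv D2086) (iv F10296)
theorem F14478 : act 9 n2985 = n2113 := d44_2 D2085 D2985 (iv D2113) (iv D1475) (iv F7311)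
def n2986 : Q := act 5 n2086
theorem D2986 : act 5 n2086 = n2986 := rfl
theorem F14479 : act 0 n2986 = n2986 := d4_1 D2986 (iv D2986) F10297
theorem F14480 : act 2 n2986 = n2094 := d19_1 D2986 (iv D2094) (iv F10298)
theorem F14481 : act 3 n2986 = n2164 := d25_1 D2986 (iv D2164) (iv F10299)
theorem F14482 : act 9 n2986 = n2114 := d38_2 (iv F10301) D2986 (iv D2114)
def n2987 : Q := act 4 n2087
theorem D2987 : act 4 n2087 = n2987 := rfl
theorem F14483 : act 0 n2987 = n2987 := d3_1 D2987 (iv D2987) F10302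
theorem F14484 : act 2 n2987 = n2095 := d18_1 D2987 (iv D2095) (iv F10303)
theorem F14485 : act 7 n2987 = n2987 := d32_2 F10305 D2987 (iv D2987)
theorem F14486 : act 8 n2987 = n2987 := d33_2 F10306 D2987 (iv D2987)
theorem F14487 : act 9 n2987 = n2115 := d34_2 (iv F10307) D2987 (iv D2115)
def n2988 : Q := act 6 n2087
theorem D2988 : act 6 n2087 = n2988 := rfl
theorem F14488 : act 0 n2988 = n2988 := d5_1 D2988 (iv D2988) F10302
theorem F14489 : act 2 n2988 = n2096 := d20_1 D2988 (iv D2096) (iv F10303)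
theorem F14490 : act 3 n2988 = n2166 := d26_1 D2988 (iv D2166) (iv F10304)
theorem F14491 : act 8 n2988 = n2988 := d40_2 F10306 D2988 (iv D2988)
theorem F14492 : act 9 n2988 = n2116 := d41_2 (iv F10307) D2988 (iv D2116)
def n2989 : Q := act 6 n2088
theorem D2989 : act 6 n2088 = n2989 := rfl
theorem F14493 : act 0 n2989 = n2989 := d5_1 D2989 (iv D2989) F10308
theorem F14494 : act 3 n2989 = n2989 := d26_1 D2989 (iv D2989) F10309
theorem F14495 : act 4 n2989 = n2090 := d31_1 D2989 (iv D2090) (iv F10310)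
theorem F14496 : act 7 n2989 = n2989 := d39_2 D2088 D2989 (iv D2989) (iv D2088) F7323
theorem F14497 : act 8 n2989 = n2989 := d40_2 F10311 D2989 (iv D2989)
def n2990 : Q := act 9 n2088
theorem D2990 : act 9 n2088 = n2990 := rfl
theorem F14498 : act 0 n2990 = n2990 := d8_1 D2990 (iv D2990) F10308
theorem F14499 : act 3 n2990 = n2990 := d29_1 D2990 (iv D2990) F10309
theorem F14500 : act 4 n2990 = n2091 := d34_1 D2990 (iv D2091) (iv F10310)
theorem F14501 : act 7 n2990 = n2089 := d43_1 D2990 (iv D2089) D2088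
def n2991 : Q := act 8 n2089
theorem D2991 : act 8 n2089 = n2991 := rfl
theorem F14502 : act 0 n2991 = n2991 := d7_1 D2991 (iv D2991) F10312
theorem F14503 : act 3 n2991 = n2991 := d28_1 D2991 (iv D2991) F10313
theorem F14504 : act 4 n2991 = n2092 := d33_1 D2991 (iv D2092) (iv F10314)
theorem F14505 : act 6 n2991 = n2991 := d40_1 D2991 (iv D2991) F10315
theorem F14506 : act 9 n2991 = n2991 := d44_2 D2089 D2991 (iv D2991) (iv D2089) F7324
def n2992 : Q := act 9 n2090
theorem D2992 : act 9 n2090 = n2992 := rfl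
theorem F14507 : act 0 n2992 = n2992 := d8_1 D2992 (iv D2992) F10316
theorem F14508 : act 3 n2992 = n2097 := d29_1 D2992 (iv D2097) (iv F10317)
theorem F14509 : act 5 n2992 = n2992 := d38_1 D2992 (iv D2992) F10318
theorem F14510 : act 6 n2992 = n2091 := d41_1 D2992 (iv D2091) D2090
theorem F14511 : act 7 n2992 = n2992 := d43_1 D2992 (iv D2992) F10319
def n2993 : Q := act 8 n2091
theorem D2993 : act 8 n2091 = n2993 := rfl
theorem F14512 : act 0 n2993 = n2993 := d7_1 D2993 (iv D2993) F10321
theorem F14513 : act 3 n2993 = n2098 := d28_1 D2993 (iv D2098) (iv F10322)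
theorem F14514 : act 7 n2993 = n2092 := d42_1 D2993 (iv D2092) (iv F10324)
theorem F14515 : act 9 n2993 = n2993 := d44_2 D2091 D2993 (iv D2993) (iv D2091) F7328
def n2994 : Q := act 5 n2092
theorem D2994 : act 5 n2092 = n2994 := rfl
theorem F14516 : act 0 n2994 = n2994 := d4_1 D2994 (iv D2994) F10325
theorem F14517 : act 3 n2994 = n2099 := d25_1 D2994 (iv D2099) (iv F10326)
theorem F14518 : act 8 n2994 = n2094 := d37_2 D2092 D2994 (iv D2094) (iv D1460) (iv F7331)
theorem F14519 : act 9 n2994 = n2994 := d38_2 F10328 D2994 (iv D2994)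
def n2995 : Q := act 5 n2093
theorem D2995 : act 5 n2093 = n2995 := rfl
theorem F14520 : act 0 n2995 = n2995 := d4_1 D2995 (iv D2995) F10329
theorem F14521 : act 3 n2995 = n2100 := d25_1 D2995 (iv D2100) (iv F10330)
theorem F14522 : act 7 n2995 = n2094 := d36_2 (iv F10332) D2995 (iv D2094)
theorem F14523 : act 9 n2995 = n2117 := d38_2 (iv F10333) D2995 (iv D2117)
def n2996 : Q := act 4 n2094
theorem D2996 : act 4 n2094 = n2996 := rfl
theorem F14524 : act 0 n2996 = n2996 := d3_1 D2996 (iv D2996) F10334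
theorem F14525 : act 9 n2996 = n2118 := d34_2 (iv F10336) D2996 (iv D2118)
def n2997 : Q := act 6 n2094
theorem D2997 : act 6 n2094 = n2997 := rfl
theorem F14526 : act 0 n2997 = n2997 := d5_1 D2997 (iv D2997) F10334
theorem F14527 : act 3 n2997 = n2102 := d26_1 D2997 (iv D2102) (iv F10335)
theorem F14528 : act 5 n2997 = n2096 := d35_1 D2997 (iv D2096) (iv D1461) (iv F7339) D2094
theorem F14529 : act 9 n2997 = n2119 := d41_2 (iv F10336) D2997 (iv D2119)
def n2998 : Q := act 6 n2095
theorem D2998 : act 6 n2095 = n2998 := rfl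
theorem F14530 : act 0 n2998 = n2998 := d5_1 D2998 (iv D2998) F10337
theorem F14531 : act 3 n2998 = n2998 := d26_1 D2998 (iv D2998) F10338
theorem F14532 : act 4 n2998 = n2096 := d31_1 D2998 (iv D2096) D2095
theorem F14533 : act 8 n2998 = n2998 := d40_2 F10340 D2998 (iv D2998)
theorem F14534 : act 9 n2998 = n2120 := d41_2 (iv F10341) D2998 (iv D2120)
def n2999 : Q := act 7 n2096
theorem D2999 : act 7 n2096 = n2999 := rfl
theorem F14535 : act 0 n2999 = n2999 := d6_1 D2999 (iv D2999) F10342
theorem F14536 : act 3 n2999 = n2103 := d27_1 D2999 (iv D2103) (iv F10343)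
theorem F14537 : act 6 n2999 = n2999 := d39_1 D2999 (iv D2999) (iv D2096) F7343 D2096
theorem F14538 : act 8 n2999 = n2999 := d42_2 F10344 D2999 (iv D2999)
theorem F14539 : act 9 n2999 = n2121 := d43_2 (iv F10345) D2999 (iv D2121)
def n3000 : Q := act 8 n2097
theorem D3000 : act 8 n2097 = n3000 := rfl
theorem F14540 : act 0 n3000 = n3000 := d7_1 D3000 (iv D3000) F10346
theorem F14541 : act 2 n3000 = n2178 := d22_1 D3000 (iv D2178) (iv F10347)
theorem F14542 : act 4 n3000 = n3000 := d33_1 D3000 (iv D3000) F10348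
theorem F14543 : act 6 n3000 = n2098 := d40_1 D3000 (iv D2098) (iv F10350)
theorem F14544 : act 7 n3000 = n3000 := d42_1 D3000 (iv D3000) F10351
theorem F14545 : act 9 n3000 = n3000 := d44_2 D2097 D3000 (iv D3000) (iv D2097) F7351
def n3001 : Q := act 5 n2098
theorem D3001 : act 5 n2098 = n3001 := rfl
theorem F14546 : act 0 n3001 = n3001 := d4_1 D3001 (iv D3001) F10352
theorem F14547 : act 2 n3001 = n2179 := d19_1 D3001 (iv D2179) (iv F10353)
theorem F14548 : act 7 n3001 = n2099 := d36_2 (iv F10355) D3001 (iv D2099)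
theorem F14549 : act 8 n3001 = n2100 := d37_2 D2098 D3001 (iv D2100) (iv D1465) (iv F7355)
theorem F14550 : act 9 n3001 = n3001 := d38_2 F10356 D3001 (iv D3001)
def n3002 : Q := act 4 n2099
theorem D3002 : act 4 n2099 = n3002 := rfl
theorem F14551 : act 0 n3002 = n3002 := d3_1 D3002 (iv D3002) F10357
theorem F14552 : act 2 n3002 = n2180 := d18_1 D3002 (iv D2180) (iv F10358)
theorem F14553 : act 5 n3002 = n3002 := d30_2 D2099 D3002 (iv D3002) (iv D2099) F7359
theorem F14554 : act 8 n3002 = n2101 := d33_2 (iv F10359) D3002 (iv D2101)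
theorem F14555 : act 9 n3002 = n3002 := d34_2 F10360 D3002 (iv D3002)
def n3003 : Q := act 6 n2099
theorem D3003 : act 6 n2099 = n3003 := rfl
theorem F14556 : act 0 n3003 = n3003 := d5_1 D3003 (iv D3003) F10357
theorem F14557 : act 2 n3003 = n2181 := d20_1 D3003 (iv D2181) (iv F10358)
theorem F14558 : act 5 n3003 = n3003 := d35_1 D3003 (iv D3003) (iv D2099) F7360 D2099
theorem F14559 : act 8 n3003 = n2102 := d40_2 (iv F10359) D3003 (iv D2102)
theorem F14560 : act 9 n3003 = n3003 := d41_2 F10360 D3003 (iv D3003)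
def n3004 : Q := act 4 n2100
theorem D3004 : act 4 n2100 = n3004 := rfl
theorem F14561 : act 0 n3004 = n3004 := d3_1 D3004 (iv D3004) F10361
theorem F14562 : act 2 n3004 = n2182 := d18_1 D3004 (iv D2182) (iv F10362)
theorem F14563 : act 5 n3004 = n2104 := d30_2 D2100 D3004 (iv D2104) (iv D1468) (iv F7364)
theorem F14564 : act 7 n3004 = n2101 := d32_2 (iv F10363) D3004 (iv D2101)
theorem F14565 : act 9 n3004 = n2122 := d34_2 (iv F10364) D3004 (iv D2122)
def n3005 : Q := act 6 n2100
theorem D3005 : act 6 n2100 = n3005 := rfl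
theorem F14566 : act 0 n3005 = n3005 := d5_1 D3005 (iv D3005) F10361
theorem F14567 : act 2 n3005 = n2183 := d20_1 D3005 (iv D2183) (iv F10362)
theorem F14568 : act 5 n3005 = n3005 := d35_1 D3005 (iv D3005) (iv D2100) F7365 D2100
theorem F14569 : act 9 n3005 = n2123 := d41_2 (iv F10364) D3005 (iv D2123)
def n3006 : Q := act 3 n2101
theorem D3006 : act 3 n2101 = n3006 := rfl
theorem F14570 : act 0 n3006 = n3006 := d2_1 D3006 (iv D3006) F10365
theorem F14571 : act 5 n3006 = n2106 := d25_2 (iv F10367) D3006 (iv D2106)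
theorem F14572 : act 9 n3006 = n2124 := d29_2 (iv F10368) D3006 (iv D2124)
def n3007 : Q := act 6 n2101
theorem D3007 : act 6 n2101 = n3007 := rfl
theorem F14573 : act 0 n3007 = n3007 := d5_1 D3007 (iv D3007) F10365
theorem F14574 : act 2 n3007 = n2185 := d20_1 D3007 (iv D2185) (iv F10366)
theorem F14575 : act 4 n3007 = n2102 := d31_1 D3007 (iv D2102) D2101
theorem F14576 : act 5 n3007 = n3007 := d35_1 D3007 (iv D3007) F10367 F7383 (iv F10367)
theorem F14577 : act 9 n3007 = n2125 := d41_2 (iv F10368) D3007 (iv D2125)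
def n3008 : Q := act 7 n2102
theorem D3008 : act 7 n2102 = n3008 := rfl
theorem F14578 : act 0 n3008 = n3008 := d6_1 D3008 (iv D3008) F10369
theorem F14579 : act 2 n3008 = n2186 := d21_1 D3008 (iv D2186) (iv F10370)
theorem F14580 : act 5 n3008 = n2103 := d36_1 D3008 (iv D2103) (iv F10371)
theorem F14581 : act 9 n3008 = n2126 := d43_2 (iv F10372) D3008 (iv D2126)
def n3009 : Q := act 3 n2104
theorem D3009 : act 3 n2104 = n3009 := rfl
theorem F14583 : act 7 n3009 = n2106 := d27_2 (iv F10381) D3009 (iv D2106)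
def n3010 : Q := act 6 n2104
theorem D3010 : act 6 n2104 = n3010 := rfl
theorem F14587 : act 2 n3010 = n2188 := d20_1 D3010 (iv D2188) (iv F10380)
def n3011 : Q := act 2 n2106
theorem D3011 : act 2 n2106 = n3011 := rfl
def n3012 : Q := act 9 n2107
theorem D3012 : act 9 n2107 = n3012 := rfl
theorem F14597 : act 0 n3012 = n2110 := d8_1 D3012 (iv D2110) (iv F10394)
theorem F14598 : act 1 n3012 = n3012 := d16_1 D3012 (iv D3012) F10395
theorem F14599 : act 3 n3012 = n2190 := d29_1 D3012 (iv D2190) (iv F10396)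
theorem F14600 : act 5 n3012 = n3012 := d38_1 D3012 (iv D3012) F10397
theorem F14601 : act 6 n3012 = n3012 := d41_1 D3012 (iv D3012) F10398
theorem F14602 : act 7 n3012 = n2108 := d43_1 D3012 (iv D2108) D2107
def n3013 : Q := act 8 n2108
theorem D3013 : act 8 n2108 = n3013 := rfl
theorem F14603 : act 0 n3013 = n2111 := d7_1 D3013 (iv D2111) (iv F10399)
theorem F14604 : act 1 n3013 = n3013 := d15_1 D3013 (iv D3013) F10400
theorem F14605 : act 3 n3013 = n2191 := d28_1 D3013 (iv D2191) (iv F10401)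
theorem F14606 : act 6 n3013 = n2109 := d40_1 D3013 (iv D2109) (iv F10403)
def n3014 : Q := act 5 n2109
theorem D3014 : act 5 n2109 = n3014 := rfl
theorem F14607 : act 0 n3014 = n2112 := d4_1 D3014 (iv D2112) (iv F10404)
theorem F14608 : act 1 n3014 = n3014 := d12_1 D3014 (iv D3014) F10405
theorem F14609 : act 3 n3014 = n2192 := d25_1 D3014 (iv D2192) (iv F10406)
theorem F14610 : act 7 n3014 = n3014 := d36_2 F10407 D3014 (iv D3014)
theorem F14611 : act 8 n3014 = n2139 := d37_2 D2109 D3014 (iv D2139) (iv D1496) (iv F7393)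
def n3015 : Q := act 8 n2110
theorem D3015 : act 8 n2110 = n3015 := rfl
theorem F14612 : act 1 n3015 = n2113 := d15_1 D3015 (iv D2113) (iv F10408)
theorem F14613 : act 3 n3015 = n2193 := d28_1 D3015 (iv D2193) (iv F10409)
theorem F14614 : act 6 n3015 = n3015 := d40_1 D3015 (iv D3015) F10411
theorem F14615 : act 7 n3015 = n2111 := d42_1 D3015 (iv D2111) (iv F10412)
def n3016 : Q := act 5 n2111
theorem D3016 : act 5 n2111 = n3016 := rfl
theorem F14616 : act 1 n3016 = n2114 := d12_1 D3016 (iv D2114) (iv F10413)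
theorem F14617 : act 3 n3016 = n2194 := d25_1 D3016 (iv D2194) (iv F10414)
theorem F14618 : act 8 n3016 = n3016 := d37_2 D2111 D3016 (iv D3016) (iv D2111) F7401
def n3017 : Q := act 4 n2112
theorem D3017 : act 4 n2112 = n3017 := rfl
theorem F14619 : act 1 n3017 = n2115 := d11_1 D3017 (iv D2115) (iv F10416)
theorem F14620 : act 7 n3017 = n3017 := d32_2 F10418 D3017 (iv D3017)
theorem F14621 : act 8 n3017 = n2140 := d33_2 (iv F10419) D3017 (iv D2140)
def n3018 : Q := act 6 n2112
theorem D3018 : act 6 n2112 = n3018 := rfl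
theorem F14622 : act 1 n3018 = n2116 := d13_1 D3018 (iv D2116) (iv F10416)
theorem F14623 : act 3 n3018 = n2196 := d26_1 D3018 (iv D2196) (iv F10417)
def n3019 : Q := act 5 n2113
theorem D3019 : act 5 n2113 = n3019 := rfl
theorem F14625 : act 0 n3019 = n3019 := d4_1 D3019 (iv D3019) F10420
theorem F14626 : act 2 n3019 = n2117 := d19_1 D3019 (iv D2117) (iv F10421)
theorem F14627 : act 3 n3019 = n2197 := d25_1 D3019 (iv D2197) (iv F10422)
theorem F14628 : act 7 n3019 = n2114 := d36_2 (iv F10424) D3019 (iv D2114)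
theorem F14629 : act 8 n3019 = n3019 := d37_2 D2113 D3019 (iv D3019) (iv D2113) F7409
def n3020 : Q := act 4 n2114
theorem D3020 : act 4 n2114 = n3020 := rfl
theorem F14630 : act 0 n3020 = n3020 := d3_1 D3020 (iv D3020) F10425
theorem F14631 : act 2 n3020 = n2118 := d18_1 D3020 (iv D2118) (iv F10426)
theorem F14632 : act 8 n3020 = n3020 := d33_2 F10428 D3020 (iv D3020)
def n3021 : Q := act 6 n2114
theorem D3021 : act 6 n2114 = n3021 := rfl
theorem F14633 : act 0 n3021 = n3021 := d5_1 D3021 (iv D3021) F10425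
theorem F14634 : act 2 n3021 = n2119 := d20_1 D3021 (iv D2119) (iv F10426)
theorem F14635 : act 3 n3021 = n2199 := d26_1 D3021 (iv D2199) (iv F10427)
theorem F14636 : act 5 n3021 = n2116 := d35_1 D3021 (iv D2116) (iv D1477) (iv F7415) D2114
theorem F14637 : act 8 n3021 = n3021 := d40_2 F10428 D3021 (iv D3021)
def n3022 : Q := act 3 n2115
theorem D3022 : act 3 n2115 = n3022 := rfl
theorem F14640 : act 4 n3022 = n2200 := d24_2 D2115 D3022 (iv D2200) (iv D1541) (iv F7418)
def n3023 : Q := act 6 n2115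
theorem D3023 : act 6 n2115 = n3023 := rfl
theorem F14644 : act 2 n3023 = n2120 := d20_1 D3023 (iv D2120) (iv F10430)
theorem F14645 : act 4 n3023 = n2116 := d31_1 D3023 (iv D2116) D2115
def n3024 : Q := act 7 n2116
theorem D3024 : act 7 n2116 = n3024 := rfl
theorem F14648 : act 2 n3024 = n2121 := d21_1 D3024 (iv D2121) (iv F10434)
theorem F14649 : act 3 n3024 = n2202 := d27_1 D3024 (iv D2202) (iv F10435)
def n3025 : Q := act 4 n2117
theorem D3025 : act 4 n2117 = n3025 := rfl
theorem F14652 : act 0 n3025 = n3025 := d3_1 D3025 (iv D3025) F10437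
theorem F14653 : act 7 n3025 = n2118 := d32_2 (iv F10439) D3025 (iv D2118)
theorem F14654 : act 8 n3025 = n3025 := d33_2 F10440 D3025 (iv D3025)
def n3026 : Q := act 6 n2117
theorem D3026 : act 6 n2117 = n3026 := rfl
theorem F14655 : act 0 n3026 = n3026 := d5_1 D3026 (iv D3026) F10437
theorem F14656 : act 3 n3026 = n2123 := d26_1 D3026 (iv D2123) (iv F10438)
theorem F14657 : act 5 n3026 = n3026 := d35_1 D3026 (iv D3026) (iv D2117) F7423 D2117
theorem F14658 : act 8 n3026 = n3026 := d40_2 F10440 D3026 (iv D3026)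
def n3027 : Q := act 3 n2118
theorem D3027 : act 3 n2118 = n3027 := rfl
theorem F14659 : act 0 n3027 = n3027 := d2_1 D3027 (iv D3027) F10441
theorem F14660 : act 4 n3027 = n2124 := d24_2 D2118 D3027 (iv D2124) (iv D1483) (iv F7426)
theorem F14661 : act 8 n3027 = n3027 := d28_2 F10442 D3027 (iv D3027)
def n3028 : Q := act 6 n2118
theorem D3028 : act 6 n2118 = n3028 := rfl
theorem F14662 : act 0 n3028 = n3028 := d5_1 D3028 (iv D3028) F10441
theorem F14663 : act 4 n3028 = n2119 := d31_1 D3028 (iv D2119) D2118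
theorem F14664 : act 8 n3028 = n3028 := d40_2 F10442 D3028 (iv D3028)
def n3029 : Q := act 7 n2119
theorem D3029 : act 7 n2119 = n3029 := rfl
theorem F14665 : act 0 n3029 = n3029 := d6_1 D3029 (iv D3029) F10443
theorem F14666 : act 3 n3029 = n2126 := d27_1 D3029 (iv D2126) (iv F10444)
theorem F14667 : act 5 n3029 = n2121 := d36_1 D3029 (iv D2121) (iv F10445)
theorem F14668 : act 8 n3029 = n3029 := d42_2 F10446 D3029 (iv D3029)
def n3030 : Q := act 5 n2120
theorem D3030 : act 5 n2120 = n3030 := rfl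
theorem F14669 : act 0 n3030 = n3030 := d4_1 D3030 (iv D3030) F10447
theorem F14670 : act 3 n3030 = n3030 := d25_1 D3030 (iv D3030) F10448
def n3031 : Q := act 7 n2120
theorem D3031 : act 7 n2120 = n3031 := rfl
theorem F14673 : act 4 n3031 = n2121 := d32_1 D3031 (iv D2121) (iv F10449)
def n3032 : Q := act 3 n2122
theorem D3032 : act 3 n2122 = n3032 := rfl
theorem F14677 : act 5 n3032 = n2127 := d25_2 (iv F10457) D3032 (iv D2127)
theorem F14678 : act 7 n3032 = n2124 := d27_2 (iv F10458) D3032 (iv D2124)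
def n3033 : Q := act 6 n2122
theorem D3033 : act 6 n2122 = n3033 := rfl
theorem F14681 : act 2 n3033 = n2211 := d20_1 D3033 (iv D2211) (iv F10456)
theorem F14682 : act 4 n3033 = n2123 := d31_1 D3033 (iv D2123) D2122
def n3034 : Q := act 7 n2123
theorem D3034 : act 7 n2123 = n3034 := rfl
theorem F14684 : act 0 n3034 = n3034 := d6_1 D3034 (iv D3034) F10460
theorem F14686 : act 5 n3034 = n3034 := d36_1 D3034 (iv D3034) F10462
theorem F14687 : act 6 n3034 = n2126 := d39_1 D3034 (iv D2126) (iv D1484) (iv F7437) D2123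
theorem F14688 : act 8 n3034 = n3034 := d42_2 F10463 D3034 (iv D3034)
def n3035 : Q := act 2 n2124
theorem D3035 : act 2 n2124 = n3035 := rfl
def n3036 : Q := act 6 n2124
theorem D3036 : act 6 n2124 = n3036 := rfl
theorem F14693 : act 0 n3036 = n3036 := d5_1 D3036 (iv D3036) F10464
theorem F14694 : act 3 n3036 = n2125 := d26_1 D3036 (iv D2125) D2124
theorem F14695 : act 5 n3036 = n3036 := d35_1 D3036 (iv D3036) F10465 F7462 (iv F10465)
theorem F14696 : act 8 n3036 = n3036 := d40_2 F10466 D3036 (iv D3036)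
def n3037 : Q := act 7 n2125
theorem D3037 : act 7 n2125 = n3037 := rfl
theorem F14697 : act 0 n3037 = n3037 := d6_1 D3037 (iv D3037) F10467
theorem F14699 : act 4 n3037 = n2126 := d32_1 D3037 (iv D2126) (iv F10469)
theorem F14700 : act 5 n3037 = n3037 := d36_1 D3037 (iv D3037) F10470
theorem F14701 : act 8 n3037 = n3037 := d42_2 F10471 D3037 (iv D3037)
def n3038 : Q := act 2 n2127
theorem D3038 : act 2 n2127 = n3038 := rfl
theorem F14703 : act 3 n3038 = n2216 := d17_2 D2127 D3038 (iv D2216) (iv D1553) (iv F7453)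
theorem F14704 : act 7 n3038 = n2129 := d21_2 (iv F10477) D3038 (iv D2129)
def n3039 : Q := act 6 n2127
theorem D3039 : act 6 n2127 = n3039 := rfl
theorem F14707 : act 3 n3039 = n2128 := d26_1 D3039 (iv D2128) D2127
def n3040 : Q := act 5 n2128
theorem D3040 : act 5 n2128 = n3040 := rfl
theorem F14711 : act 2 n3040 = n2218 := d19_1 D3040 (iv D2218) (iv F10480)
theorem F14713 : act 7 n3040 = n3040 := d36_2 F10482 D3040 (iv D3040)
def n3042 : Q := act 1 n2130
theorem D3042 : act 1 n2130 = n3042 := rfl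
theorem F14717 : act 3 n3042 = n2220 := d10_2 (iv F10489) D3042 (iv D2220)
def n3043 : Q := act 6 n2130
theorem D3043 : act 6 n2130 = n3043 := rfl
theorem F14722 : act 2 n3043 = n2131 := d20_1 D3043 (iv D2131) D2130
theorem F14723 : act 3 n3043 = n2221 := d26_1 D3043 (iv D2221) (iv F10489)
def n3044 : Q := act 5 n2131
theorem D3044 : act 5 n2131 = n3044 := rfl
def n3045 : Q := act 8 n2132
theorem D3045 : act 8 n2132 = n3045 := rfl
theorem F14732 : act 2 n3045 = n2223 := d22_1 D3045 (iv D2223) (iv F10498)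
def n3053 : Q := act 4 n2139
theorem D3053 : act 4 n2139 = n3053 := rfl
theorem F14773 : act 0 n3053 = n2140 := d3_1 D3053 (iv D2140) (iv F10534)
theorem F14774 : act 1 n3053 = n3053 := d11_1 D3053 (iv D3053) F10535
theorem F14775 : act 5 n3053 = n3053 := d30_2 D2139 D3053 (iv D3053) (iv D2139) F7502
theorem F14776 : act 7 n3053 = n3053 := d32_2 F10537 D3053 (iv D3053)
theorem F14777 : act 9 n3053 = n3053 := d34_2 F10538 D3053 (iv D3053)
def n3054 : Q := act 6 n2139
theorem D3054 : act 6 n2139 = n3054 := rfl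
theorem F14778 : act 0 n3054 = n2141 := d5_1 D3054 (iv D2141) (iv F10534)
theorem F14780 : act 3 n3054 = n2232 := d26_1 D3054 (iv D2232) (iv F10536)
def n3055 : Q := act 3 n2140
theorem D3055 : act 3 n2140 = n3055 := rfl
theorem F14784 : act 4 n3055 = n2233 := d24_2 D2140 D3055 (iv D2233) (iv D1566) (iv F7507)
def n3056 : Q := act 6 n2140
theorem D3056 : act 6 n2140 = n3056 := rfl
theorem F14788 : act 1 n3056 = n2143 := d13_1 D3056 (iv D2143) (iv F10539)
theorem F14789 : act 4 n3056 = n2141 := d31_1 D3056 (iv D2141) D2140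
def n3057 : Q := act 7 n2141
theorem D3057 : act 7 n2141 = n3057 := rfl
theorem F14792 : act 3 n3057 = n2235 := d27_1 D3057 (iv D2235) (iv F10544)
def n3058 : Q := act 6 n2142
theorem D3058 : act 6 n2142 = n3058 := rfl
theorem F14798 : act 3 n3058 = n2143 := d26_1 D3058 (iv D2143) D2142
theorem F14799 : act 4 n3058 = n2236 := d31_1 D3058 (iv D2236) (iv F10549)
def n3059 : Q := act 5 n2143
theorem D3059 : act 5 n2143 = n3059 := rfl
theorem F14802 : act 2 n3059 = n2145 := d19_1 D3059 (iv D2145) (iv F10554)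
def n3060 : Q := act 7 n2143
theorem D3060 : act 7 n2143 = n3060 := rfl
theorem F14807 : act 2 n3060 = n2146 := d21_1 D3060 (iv D2146) (iv F10554)
def n3061 : Q := act 7 n2145
theorem D3061 : act 7 n2145 = n3061 := rfl
def n3062 : Q := act 8 n2145
theorem D3062 : act 8 n2145 = n3062 := rfl
theorem F14816 : act 0 n3062 = n3062 := d7_1 D3062 (iv D3062) F10563
theorem F14817 : act 3 n3062 = n3062 := d28_1 D3062 (iv D3062) F10564
theorem F14818 : act 4 n3062 = n3062 := d33_1 D3062 (iv D3062) F10565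
theorem F14819 : act 6 n3062 = n3062 := d40_1 D3062 (iv D3062) F10566
def n3063 : Q := act 4 n2147
theorem D3063 : act 4 n2147 = n3063 := rfl
theorem F14820 : act 0 n3063 = n2151 := d3_1 D3063 (iv D2151) (iv F10573)
def n3064 : Q := act 7 n2147
theorem D3064 : act 7 n2147 = n3064 := rfl
theorem F14826 : act 0 n3064 = n2152 := d6_1 D3064 (iv D2152) (iv F10573)
theorem F14829 : act 5 n3064 = n2148 := d36_1 D3064 (iv D2148) D2147
def n3065 : Q := act 9 n2147
theorem D3065 : act 9 n2147 = n3065 := rfl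
theorem F14831 : act 0 n3065 = n2153 := d8_1 D3065 (iv D2153) (iv F10573)
theorem F14832 : act 1 n3065 = n3065 := d16_1 D3065 (iv D3065) F10574
theorem F14833 : act 2 n3065 = n3065 := d23_1 D3065 (iv D3065) F10575
theorem F14834 : act 5 n3065 = n2149 := d38_1 D3065 (iv D2149) D2147
theorem F14835 : act 6 n3065 = n3065 := d41_1 D3065 (iv D3065) F10576
def n3066 : Q := act 9 n2148
theorem D3066 : act 9 n2148 = n3066 := rfl
theorem F14836 : act 0 n3066 = n2154 := d8_1 D3066 (iv D2154) (iv F10578)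
theorem F14837 : act 1 n3066 = n3066 := d16_1 D3066 (iv D3066) F10579
theorem F14838 : act 2 n3066 = n3066 := d23_1 D3066 (iv D3066) F10580
theorem F14839 : act 4 n3066 = n3066 := d34_1 D3066 (iv D3066) F10581
theorem F14840 : act 6 n3066 = n3066 := d41_1 D3066 (iv D3066) F10582
theorem F14841 : act 7 n3066 = n2149 := d43_1 D3066 (iv D2149) D2148
def n3067 : Q := act 8 n2149
theorem D3067 : act 8 n2149 = n3067 := rfl
theorem F14842 : act 0 n3067 = n2155 := d7_1 D3067 (iv D2155) (iv F10584)
theorem F14843 : act 1 n3067 = n3067 := d15_1 D3067 (iv D3067) F10585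
theorem F14844 : act 2 n3067 = n3067 := d22_1 D3067 (iv D3067) F10586
theorem F14845 : act 4 n3067 = n3067 := d33_1 D3067 (iv D3067) F10587
theorem F14846 : act 6 n3067 = n2150 := d40_1 D3067 (iv D2150) (iv F10588)
theorem F14847 : act 9 n3067 = n2191 := d44_2 D2149 D3067 (iv D2191) (iv D1534) (iv F7533)
def n3068 : Q := act 5 n2150
theorem D3068 : act 5 n2150 = n3068 := rfl
theorem F14848 : act 0 n3068 = n2156 := d4_1 D3068 (iv D2156) (iv F10589)
theorem F14849 : act 1 n3068 = n3068 := d12_1 D3068 (iv D3068) F10590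
theorem F14850 : act 2 n3068 = n3068 := d19_1 D3068 (iv D3068) F10591
theorem F14851 : act 7 n3068 = n3068 := d36_2 F10593 D3068 (iv D3068)
theorem F14852 : act 8 n3068 = n3068 := d37_2 D2150 D3068 (iv D3068) (iv D2150) F7538
theorem F14853 : act 9 n3068 = n2192 := d38_2 (iv F10594) D3068 (iv D2192)
def n3069 : Q := act 3 n2151
theorem D3069 : act 3 n2151 = n3069 := rfl
theorem F14854 : act 1 n3069 = n2157 := d10_1 D3069 (iv D2157) (iv F10595)
def n3070 : Q := act 7 n2151
theorem D3070 : act 7 n2151 = n3070 := rfl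
theorem F14858 : act 1 n3070 = n2158 := d14_1 D3070 (iv D2158) (iv F10595)
def n3071 : Q := act 9 n2151
theorem D3071 : act 9 n2151 = n3071 := rfl
theorem F14863 : act 1 n3071 = n2159 := d16_1 D3071 (iv D2159) (iv F10595)
theorem F14864 : act 2 n3071 = n3071 := d23_1 D3071 (iv D3071) F10596
theorem F14865 : act 4 n3071 = n2153 := d34_1 D3071 (iv D2153) D2151
theorem F14866 : act 5 n3071 = n3071 := d38_1 D3071 (iv D3071) F10597
theorem F14867 : act 6 n3071 = n3071 := d41_1 D3071 (iv D3071) F10598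
def n3072 : Q := act 6 n2152
theorem D3072 : act 6 n2152 = n3072 := rfl
theorem F14868 : act 1 n3072 = n2160 := d13_1 D3072 (iv D2160) (iv F10600)
def n3073 : Q := act 9 n2152
theorem D3073 : act 9 n2152 = n3073 := rfl
theorem F14873 : act 1 n3073 = n2161 := d16_1 D3073 (iv D2161) (iv F10600)
theorem F14874 : act 2 n3073 = n3073 := d23_1 D3073 (iv D3073) F10601
theorem F14875 : act 5 n3073 = n2154 := d38_1 D3073 (iv D2154) (iv F10602)
theorem F14876 : act 7 n3073 = n2153 := d43_1 D3073 (iv D2153) D2152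
def n3074 : Q := act 8 n2153
theorem D3074 : act 8 n2153 = n3074 := rfl
theorem F14877 : act 1 n3074 = n2162 := d15_1 D3074 (iv D2162) (iv F10604)
theorem F14878 : act 2 n3074 = n3074 := d22_1 D3074 (iv D3074) F10605
theorem F14879 : act 6 n3074 = n3074 := d40_1 D3074 (iv D3074) F10607
theorem F14880 : act 9 n3074 = n3074 := d44_2 D2153 D3074 (iv D3074) (iv D2153) F7543
def n3075 : Q := act 8 n2154
theorem D3075 : act 8 n2154 = n3075 := rfl
theorem F14881 : act 1 n3075 = n2163 := d15_1 D3075 (iv D2163) (iv F10608)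
theorem F14882 : act 2 n3075 = n3075 := d22_1 D3075 (iv D3075) F10609
theorem F14883 : act 4 n3075 = n3075 := d33_1 D3075 (iv D3075) F10610
theorem F14884 : act 6 n3075 = n3075 := d40_1 D3075 (iv D3075) F10611
theorem F14885 : act 7 n3075 = n2155 := d42_1 D3075 (iv D2155) (iv F10612)
theorem F14886 : act 9 n3075 = n2193 := d44_2 D2154 D3075 (iv D2193) (iv D1536) (iv F7548)
def n3076 : Q := act 5 n2155
theorem D3076 : act 5 n2155 = n3076 := rfl
theorem F14887 : act 1 n3076 = n2164 := d12_1 D3076 (iv D2164) (iv F10613)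
theorem F14888 : act 2 n3076 = n3076 := d19_1 D3076 (iv D3076) F10614
theorem F14889 : act 9 n3076 = n2194 := d38_2 (iv F10617) D3076 (iv D2194)
def n3077 : Q := act 4 n2156
theorem D3077 : act 4 n2156 = n3077 := rfl
theorem F14890 : act 1 n3077 = n2165 := d11_1 D3077 (iv D2165) (iv F10618)
theorem F14895 : act 9 n3077 = n2195 := d34_2 (iv F10622) D3077 (iv D2195)
def n3078 : Q := act 6 n2156
theorem D3078 : act 6 n2156 = n3078 := rfl
theorem F14896 : act 1 n3078 = n2166 := d13_1 D3078 (iv D2166) (iv F10618)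
def n3079 : Q := act 7 n2157
theorem D3079 : act 7 n2157 = n3079 := rfl
def n3080 : Q := act 9 n2157
theorem D3080 : act 9 n2157 = n3080 := rfl
theorem F14905 : act 0 n3080 = n3080 := d8_1 D3080 (iv D3080) F10623
theorem F14906 : act 2 n3080 = n3080 := d23_1 D3080 (iv D3080) F10624
theorem F14907 : act 3 n3080 = n2159 := d29_1 D3080 (iv D2159) D2157
theorem F14908 : act 5 n3080 = n3080 := d38_1 D3080 (iv D3080) F10625
theorem F14909 : act 6 n3080 = n3080 := d41_1 D3080 (iv D3080) F10626
def n3081 : Q := act 6 n2158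
theorem D3081 : act 6 n2158 = n3081 := rfl
theorem F14912 : act 4 n3081 = n2160 := d31_1 D3081 (iv D2160) (iv F10630)
def n3082 : Q := act 9 n2158
theorem D3082 : act 9 n2158 = n3082 := rfl
theorem F14915 : act 0 n3082 = n3082 := d8_1 D3082 (iv D3082) F10628
theorem F14916 : act 2 n3082 = n2168 := d23_1 D3082 (iv D2168) (iv F10629)
theorem F14917 : act 4 n3082 = n2161 := d34_1 D3082 (iv D2161) (iv F10630)
theorem F14918 : act 5 n3082 = n3082 := d38_1 D3082 (iv D3082) F10631
theorem F14919 : act 7 n3082 = n2159 := d43_1 D3082 (iv D2159) D2158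
def n3083 : Q := act 8 n2159
theorem D3083 : act 8 n2159 = n3083 := rfl
theorem F14920 : act 0 n3083 = n3083 := d7_1 D3083 (iv D3083) F10633
theorem F14921 : act 2 n3083 = n2169 := d22_1 D3083 (iv D2169) (iv F10634)
theorem F14922 : act 4 n3083 = n2162 := d33_1 D3083 (iv D2162) (iv F10635)
theorem F14923 : act 6 n3083 = n3083 := d40_1 D3083 (iv D3083) F10637
theorem F14924 : act 9 n3083 = n3083 := d44_2 D2159 D3083 (iv D3083) (iv D2159) F7562
def n3084 : Q := act 9 n2160
theorem D3084 : act 9 n2160 = n3084 := rfl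
theorem F14925 : act 0 n3084 = n3084 := d8_1 D3084 (iv D3084) F10638
theorem F14926 : act 2 n3084 = n2170 := d23_1 D3084 (iv D2170) (iv F10639)
theorem F14927 : act 5 n3084 = n3084 := d38_1 D3084 (iv D3084) F10640
theorem F14928 : act 6 n3084 = n2161 := d41_1 D3084 (iv D2161) D2160
theorem F14929 : act 7 n3084 = n3084 := d43_1 D3084 (iv D3084) F10641
def n3085 : Q := act 8 n2161
theorem D3085 : act 8 n2161 = n3085 := rfl
theorem F14930 : act 0 n3085 = n3085 := d7_1 D3085 (iv D3085) F10643
theorem F14931 : act 2 n3085 = n2171 := d22_1 D3085 (iv D2171) (iv F10644)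
theorem F14932 : act 7 n3085 = n2162 := d42_1 D3085 (iv D2162) (iv F10646)
theorem F14933 : act 9 n3085 = n3085 := d44_2 D2161 D3085 (iv D3085) (iv D2161) F7566
def n3086 : Q := act 5 n2162
theorem D3086 : act 5 n2162 = n3086 := rfl
theorem F14934 : act 0 n3086 = n3086 := d4_1 D3086 (iv D3086) F10647
theorem F14935 : act 2 n3086 = n2172 := d19_1 D3086 (iv D2172) (iv F10648)
theorem F14936 : act 8 n3086 = n2164 := d37_2 D2162 D3086 (iv D2164) (iv D1512) (iv F7569)
theorem F14937 : act 9 n3086 = n3086 := d38_2 F10650 D3086 (iv D3086)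
def n3087 : Q := act 5 n2163
theorem D3087 : act 5 n2163 = n3087 := rfl
theorem F14938 : act 0 n3087 = n3087 := d4_1 D3087 (iv D3087) F10651
theorem F14939 : act 2 n3087 = n2173 := d19_1 D3087 (iv D2173) (iv F10652)
theorem F14940 : act 7 n3087 = n2164 := d36_2 (iv F10655) D3087 (iv D2164)
theorem F14941 : act 9 n3087 = n2197 := d38_2 (iv F10656) D3087 (iv D2197)
def n3088 : Q := act 4 n2164
theorem D3088 : act 4 n2164 = n3088 := rfl
theorem F14943 : act 2 n3088 = n2174 := d18_1 D3088 (iv D2174) (iv F10658)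
theorem F14945 : act 9 n3088 = n2198 := d34_2 (iv F10659) D3088 (iv D2198)
def n3089 : Q := act 6 n2164
theorem D3089 : act 6 n2164 = n3089 := rfl
theorem F14947 : act 2 n3089 = n2175 := d20_1 D3089 (iv D2175) (iv F10658)
theorem F14948 : act 5 n3089 = n2166 := d35_1 D3089 (iv D2166) (iv D1513) (iv F7579) D2164
def n3090 : Q := act 3 n2165
theorem D3090 : act 3 n2165 = n3090 := rfl
theorem F14955 : act 9 n3090 = n2200 := d29_2 (iv F10665) D3090 (iv D2200)
def n3091 : Q := act 6 n2165
theorem D3091 : act 6 n2165 = n3091 := rfl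
theorem F14958 : act 4 n3091 = n2166 := d31_1 D3091 (iv D2166) D2165
theorem F14960 : act 9 n3091 = n2201 := d41_2 (iv F10665) D3091 (iv D2201)
def n3092 : Q := act 7 n2166
theorem D3092 : act 7 n2166 = n3092 := rfl
def n3093 : Q := act 5 n2167
theorem D3093 : act 5 n2167 = n3093 := rfl
theorem F14967 : act 1 n3093 = n3093 := d12_1 D3093 (iv D3093) F10671
theorem F14968 : act 3 n3093 = n3093 := d25_1 D3093 (iv D3093) F10672
theorem F14969 : act 4 n3093 = n3093 := d30_1 D3093 (iv D3093) F10673 F7601 (iv F10673)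
def n3094 : Q := act 9 n2167
theorem D3094 : act 9 n2167 = n3094 := rfl
theorem F14972 : act 0 n3094 = n3094 := d8_1 D3094 (iv D3094) F10670
theorem F14973 : act 1 n3094 = n3094 := d16_1 D3094 (iv D3094) F10671
theorem F14974 : act 3 n3094 = n3094 := d29_1 D3094 (iv D3094) F10672
theorem F14975 : act 4 n3094 = n2170 := d34_1 D3094 (iv D2170) (iv F10673)
theorem F14976 : act 6 n3094 = n2168 := d41_1 D3094 (iv D2168) D2167
theorem F14977 : act 7 n3094 = n3094 := d43_1 D3094 (iv D3094) F10674
def n3095 : Q := act 8 n2168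
theorem D3095 : act 8 n2168 = n3095 := rfl
theorem F14978 : act 0 n3095 = n3095 := d7_1 D3095 (iv D3095) F10676
theorem F14979 : act 1 n3095 = n3095 := d15_1 D3095 (iv D3095) F10677
theorem F14980 : act 3 n3095 = n3095 := d28_1 D3095 (iv D3095) F10678
theorem F14981 : act 4 n3095 = n2171 := d33_1 D3095 (iv D2171) (iv F10679)
theorem F14982 : act 7 n3095 = n2169 := d42_1 D3095 (iv D2169) (iv F10681)
theorem F14983 : act 9 n3095 = n3095 := d44_2 D2168 D3095 (iv D3095) (iv D2168) F7591
def n3096 : Q := act 5 n2169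
theorem D3096 : act 5 n2169 = n3096 := rfl
theorem F14984 : act 0 n3096 = n3096 := d4_1 D3096 (iv D3096) F10682
theorem F14985 : act 1 n3096 = n3096 := d12_1 D3096 (iv D3096) F10683
theorem F14986 : act 3 n3096 = n3096 := d25_1 D3096 (iv D3096) F10684
theorem F14987 : act 8 n3096 = n3096 := d37_2 D2169 D3096 (iv D3096) (iv D2169) F7596
theorem F14988 : act 9 n3096 = n3096 := d38_2 F10687 D3096 (iv D3096)
def n3097 : Q := act 8 n2170
theorem D3097 : act 8 n2170 = n3097 := rfl
theorem F14989 : act 0 n3097 = n3097 := d7_1 D3097 (iv D3097) F10688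
theorem F14990 : act 1 n3097 = n3097 := d15_1 D3097 (iv D3097) F10689
theorem F14991 : act 3 n3097 = n2178 := d28_1 D3097 (iv D2178) (iv F10690)
theorem F14992 : act 6 n3097 = n2171 := d40_1 D3097 (iv D2171) (iv F10692)
theorem F14993 : act 7 n3097 = n3097 := d42_1 D3097 (iv D3097) F10693
theorem F14994 : act 9 n3097 = n3097 := d44_2 D2170 D3097 (iv D3097) (iv D2170) F7603
def n3098 : Q := act 5 n2171
theorem D3098 : act 5 n2171 = n3098 := rfl
theorem F14995 : act 0 n3098 = n3098 := d4_1 D3098 (iv D3098) F10694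
theorem F14996 : act 1 n3098 = n3098 := d12_1 D3098 (iv D3098) F10695
theorem F14997 : act 3 n3098 = n2179 := d25_1 D3098 (iv D2179) (iv F10696)
theorem F14998 : act 7 n3098 = n2172 := d36_2 (iv F10697) D3098 (iv D2172)
theorem F14999 : act 8 n3098 = n2173 := d37_2 D2171 D3098 (iv D2173) (iv D1519) (iv F7607)
theorem F15000 : act 9 n3098 = n3098 := d38_2 F10698 D3098 (iv D3098)
def n3099 : Q := act 4 n2172
theorem D3099 : act 4 n2172 = n3099 := rfl
theorem F15001 : act 0 n3099 = n3099 := d3_1 D3099 (iv D3099) F10699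
theorem F15002 : act 1 n3099 = n3099 := d11_1 D3099 (iv D3099) F10700
theorem F15003 : act 8 n3099 = n2174 := d33_2 (iv F10702) D3099 (iv D2174)
theorem F15004 : act 9 n3099 = n3099 := d34_2 F10703 D3099 (iv D3099)
def n3100 : Q := act 6 n2172
theorem D3100 : act 6 n2172 = n3100 := rfl
theorem F15005 : act 0 n3100 = n3100 := d5_1 D3100 (iv D3100) F10699
theorem F15006 : act 1 n3100 = n3100 := d13_1 D3100 (iv D3100) F10700
theorem F15007 : act 3 n3100 = n2181 := d26_1 D3100 (iv D2181) (iv F10701)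
theorem F15008 : act 5 n3100 = n3100 := d35_1 D3100 (iv D3100) (iv D2172) F7612 D2172
theorem F15009 : act 8 n3100 = n2175 := d40_2 (iv F10702) D3100 (iv D2175)
theorem F15010 : act 9 n3100 = n3100 := d41_2 F10703 D3100 (iv D3100)
def n3101 : Q := act 4 n2173
theorem D3101 : act 4 n2173 = n3101 := rfl
theorem F15011 : act 0 n3101 = n3101 := d3_1 D3101 (iv D3101) F10704
theorem F15012 : act 1 n3101 = n3101 := d11_1 D3101 (iv D3101) F10705
theorem F15013 : act 5 n3101 = n3101 := d30_2 D2173 D3101 (iv D3101) (iv D2173) F7617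
theorem F15014 : act 7 n3101 = n2174 := d32_2 (iv F10707) D3101 (iv D2174)
theorem F15015 : act 9 n3101 = n2203 := d34_2 (iv F10708) D3101 (iv D2203)
def n3102 : Q := act 6 n2173
theorem D3102 : act 6 n2173 = n3102 := rfl
theorem F15016 : act 0 n3102 = n3102 := d5_1 D3102 (iv D3102) F10704
theorem F15017 : act 1 n3102 = n3102 := d13_1 D3102 (iv D3102) F10705
theorem F15018 : act 3 n3102 = n2183 := d26_1 D3102 (iv D2183) (iv F10706)
theorem F15019 : act 5 n3102 = n3102 := d35_1 D3102 (iv D3102) (iv D2173) F7618 D2173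
theorem F15020 : act 9 n3102 = n2204 := d41_2 (iv F10708) D3102 (iv D2204)
def n3103 : Q := act 3 n2174
theorem D3103 : act 3 n2174 = n3103 := rfl
theorem F15023 : act 4 n3103 = n2184 := d24_2 D2174 D3103 (iv D2184) (iv D1527) (iv F7623)
theorem F15025 : act 9 n3103 = n2205 := d29_2 (iv F10712) D3103 (iv D2205)
def n3104 : Q := act 6 n2174
theorem D3104 : act 6 n2174 = n3104 := rfl
theorem F15028 : act 4 n3104 = n2175 := d31_1 D3104 (iv D2175) D2174
def n3105 : Q := act 7 n2175
theorem D3105 : act 7 n2175 = n3105 := rfl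
theorem F15032 : act 3 n3105 = n2186 := d27_1 D3105 (iv D2186) (iv F10715)
def n3106 : Q := act 5 n2176
theorem D3106 : act 5 n2176 = n3106 := rfl
theorem F15039 : act 9 n3106 = n2208 := d38_2 (iv F10723) D3106 (iv D2208)
def n3108 : Q := act 5 n2178
theorem D3108 : act 5 n2178 = n3108 := rfl
theorem F15047 : act 0 n3108 = n3108 := d4_1 D3108 (iv D3108) F10730
theorem F15048 : act 1 n3108 = n3108 := d12_1 D3108 (iv D3108) F10731
theorem F15049 : act 7 n3108 = n3108 := d36_2 F10734 D3108 (iv D3108)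
theorem F15050 : act 8 n3108 = n3108 := d37_2 D2178 D3108 (iv D3108) (iv D2178) F7640
theorem F15051 : act 9 n3108 = n3108 := d38_2 F10735 D3108 (iv D3108)
def n3109 : Q := act 4 n2179
theorem D3109 : act 4 n2179 = n3109 := rfl
theorem F15055 : act 7 n3109 = n2180 := d32_2 (iv F10738) D3109 (iv D2180)
theorem F15056 : act 8 n3109 = n2182 := d33_2 (iv F10739) D3109 (iv D2182)
def n3110 : Q := act 6 n2179
theorem D3110 : act 6 n2179 = n3110 := rfl
def n3111 : Q := act 3 n2180
theorem D3111 : act 3 n2180 = n3111 := rfl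
theorem F15062 : act 0 n3111 = n3111 := d2_1 D3111 (iv D3111) F10741
theorem F15063 : act 1 n3111 = n3111 := d10_1 D3111 (iv D3111) F10742
theorem F15064 : act 5 n3111 = n3111 := d25_2 F10743 D3111 (iv D3111)
theorem F15065 : act 8 n3111 = n2184 := d28_2 (iv F10744) D3111 (iv D2184)
theorem F15066 : act 9 n3111 = n3111 := d29_2 F10745 D3111 (iv D3111)
def n3112 : Q := act 6 n2180
theorem D3112 : act 6 n2180 = n3112 := rfl
theorem F15067 : act 0 n3112 = n3112 := d5_1 D3112 (iv D3112) F10741
theorem F15068 : act 1 n3112 = n3112 := d13_1 D3112 (iv D3112) F10742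
theorem F15069 : act 4 n3112 = n2181 := d31_1 D3112 (iv D2181) D2180
theorem F15070 : act 8 n3112 = n2185 := d40_2 (iv F10744) D3112 (iv D2185)
theorem F15071 : act 9 n3112 = n3112 := d41_2 F10745 D3112 (iv D3112)
def n3113 : Q := act 7 n2181
theorem D3113 : act 7 n2181 = n3113 := rfl
def n3114 : Q := act 3 n2182
theorem D3114 : act 3 n2182 = n3114 := rfl
theorem F15079 : act 5 n3114 = n2187 := d25_2 (iv F10753) D3114 (iv D2187)
theorem F15080 : act 7 n3114 = n2184 := d27_2 (iv F10754) D3114 (iv D2184)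
theorem F15081 : act 9 n3114 = n2210 := d29_2 (iv F10755) D3114 (iv D2210)
def n3115 : Q := act 6 n2182
theorem D3115 : act 6 n2182 = n3115 := rfl
theorem F15084 : act 4 n3115 = n2183 := d31_1 D3115 (iv D2183) D2182
def n3116 : Q := act 7 n2183
theorem D3116 : act 7 n2183 = n3116 := rfl
def n3117 : Q := act 2 n2184
theorem D3117 : act 2 n2184 = n3117 := rfl
theorem F15093 : act 9 n3117 = n2213 := d23_2 (iv F10763) D3117 (iv D2213)
def n3118 : Q := act 6 n2184
theorem D3118 : act 6 n2184 = n3118 := rfl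
theorem F15096 : act 3 n3118 = n2185 := d26_1 D3118 (iv D2185) D2184
def n3119 : Q := act 7 n2185
theorem D3119 : act 7 n2185 = n3119 := rfl
def n3120 : Q := act 2 n2187
theorem D3120 : act 2 n2187 = n3120 := rfl
theorem F15108 : act 9 n3120 = n2216 := d23_2 (iv F10778) D3120 (iv D2216)
def n3121 : Q := act 6 n2187
theorem D3121 : act 6 n2187 = n3121 := rfl
theorem F15111 : act 3 n3121 = n2188 := d26_1 D3121 (iv D2188) D2187
theorem F15115 : act 9 n3121 = n2217 := d41_2 (iv F10778) D3121 (iv D2217)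
def n3122 : Q := act 5 n2188
theorem D3122 : act 5 n2188 = n3122 := rfl
def n3124 : Q := act 8 n2190
theorem D3124 : act 8 n2190 = n3124 := rfl
theorem F15126 : act 0 n3124 = n2193 := d7_1 D3124 (iv D2193) (iv F10790)
theorem F15127 : act 1 n3124 = n3124 := d15_1 D3124 (iv D3124) F10791
theorem F15128 : act 2 n3124 = n3124 := d22_1 D3124 (iv D3124) F10792
theorem F15129 : act 4 n3124 = n3124 := d33_1 D3124 (iv D3124) F10793
theorem F15130 : act 6 n3124 = n3124 := d40_1 D3124 (iv D3124) F10795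
theorem F15131 : act 7 n3124 = n2191 := d42_1 D3124 (iv D2191) (iv F10796)
def n3125 : Q := act 5 n2191
theorem D3125 : act 5 n2191 = n3125 := rfl
theorem F15132 : act 0 n3125 = n2194 := d4_1 D3125 (iv D2194) (iv F10797)
theorem F15133 : act 1 n3125 = n3125 := d12_1 D3125 (iv D3125) F10798
theorem F15134 : act 2 n3125 = n3125 := d19_1 D3125 (iv D3125) F10799
theorem F15135 : act 8 n3125 = n3125 := d37_2 D2191 D3125 (iv D3125) (iv D2191) F7698
def n3126 : Q := act 4 n2192
theorem D3126 : act 4 n2192 = n3126 := rfl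
theorem F15136 : act 0 n3126 = n2195 := d3_1 D3126 (iv D2195) (iv F10802)
theorem F15141 : act 8 n3126 = n2231 := d33_2 (iv F10806) D3126 (iv D2231)
def n3127 : Q := act 6 n2192
theorem D3127 : act 6 n2192 = n3127 := rfl
theorem F15142 : act 0 n3127 = n2196 := d5_1 D3127 (iv D2196) (iv F10802)
def n3128 : Q := act 5 n2193
theorem D3128 : act 5 n2193 = n3128 := rfl
theorem F15146 : act 1 n3128 = n2197 := d12_1 D3128 (iv D2197) (iv F10807)
theorem F15147 : act 2 n3128 = n3128 := d19_1 D3128 (iv D3128) F10808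
theorem F15148 : act 7 n3128 = n2194 := d36_2 (iv F10811) D3128 (iv D2194)
theorem F15149 : act 8 n3128 = n3128 := d37_2 D2193 D3128 (iv D3128) (iv D2193) F7708
def n3129 : Q := act 4 n2194
theorem D3129 : act 4 n2194 = n3129 := rfl
def n3130 : Q := act 6 n2194
theorem D3130 : act 6 n2194 = n3130 := rfl
theorem F15156 : act 5 n3130 = n2196 := d35_1 D3130 (iv D2196) (iv D1538) (iv F7714) D2194
def n3131 : Q := act 3 n2195
theorem D3131 : act 3 n2195 = n3131 := rfl
theorem F15159 : act 5 n3131 = n3131 := d25_2 F10817 D3131 (iv D3131)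
theorem F15161 : act 8 n3131 = n2233 := d28_2 (iv F10819) D3131 (iv D2233)
def n3132 : Q := act 6 n2195
theorem D3132 : act 6 n2195 = n3132 := rfl
theorem F15164 : act 4 n3132 = n2196 := d31_1 D3132 (iv D2196) D2195
theorem F15165 : act 8 n3132 = n2234 := d40_2 (iv F10819) D3132 (iv D2234)
def n3133 : Q := act 7 n2196
theorem D3133 : act 7 n2196 = n3133 := rfl
def n3134 : Q := act 4 n2197
theorem D3134 : act 4 n2197 = n3134 := rfl
theorem F15171 : act 2 n3134 = n2203 := d18_1 D3134 (iv D2203) (iv F10824)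
theorem F15173 : act 7 n3134 = n2198 := d32_2 (iv F10825) D3134 (iv D2198)
def n3135 : Q := act 6 n2197
theorem D3135 : act 6 n2197 = n3135 := rfl
theorem F15176 : act 2 n3135 = n2204 := d20_1 D3135 (iv D2204) (iv F10824)
def n3136 : Q := act 3 n2198
theorem D3136 : act 3 n2198 = n3136 := rfl
def n3137 : Q := act 6 n2198
theorem D3137 : act 6 n2198 = n3137 := rfl
theorem F15184 : act 4 n3137 = n2199 := d31_1 D3137 (iv D2199) D2198
def n3138 : Q := act 7 n2199
theorem D3138 : act 7 n2199 = n3138 := rfl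
def n3139 : Q := act 6 n2200
theorem D3139 : act 6 n2200 = n3139 := rfl
theorem F15192 : act 3 n3139 = n2201 := d26_1 D3139 (iv D2201) D2200
theorem F15193 : act 8 n3139 = n2236 := d40_2 (iv F10839) D3139 (iv D2236)
def n3140 : Q := act 5 n2201
theorem D3140 : act 5 n2201 = n3140 := rfl
def n3141 : Q := act 7 n2201
theorem D3141 : act 7 n2201 = n3141 := rfl
theorem F15199 : act 4 n3141 = n2202 := d32_1 D3141 (iv D2202) (iv F10842)
theorem F15201 : act 8 n3141 = n2238 := d42_2 (iv F10843) D3141 (iv D2238)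
def n3142 : Q := act 3 n2203
theorem D3142 : act 3 n2203 = n3142 := rfl
theorem F15204 : act 4 n3142 = n2210 := d24_2 D2203 D3142 (iv D2210) (iv D1548) (iv F7737)
theorem F15206 : act 7 n3142 = n2205 := d27_2 (iv F10851) D3142 (iv D2205)
def n3143 : Q := act 6 n2203
theorem D3143 : act 6 n2203 = n3143 := rfl
def n3144 : Q := act 7 n2204
theorem D3144 : act 7 n2204 = n3144 := rfl
theorem F15216 : act 6 n3144 = n2207 := d39_1 D3144 (iv D2207) (iv D1545) (iv F7738) D2204
def n3145 : Q := act 2 n2205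
theorem D3145 : act 2 n2205 = n3145 := rfl
theorem F15219 : act 4 n3145 = n2213 := d18_2 (iv F10860) D3145 (iv D2213)
def n3146 : Q := act 6 n2205
theorem D3146 : act 6 n2205 = n3146 := rfl
theorem F15224 : act 3 n3146 = n2206 := d26_1 D3146 (iv D2206) D2205
theorem F15225 : act 4 n3146 = n2214 := d31_1 D3146 (iv D2214) (iv F10860)
def n3147 : Q := act 5 n2206
theorem D3147 : act 5 n2206 = n3147 := rfl
theorem F15229 : act 4 n3147 = n2208 := d30_1 D3147 (iv D2208) F7752 (iv F7747) (iv F10865)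
def n3148 : Q := act 7 n2206
theorem D3148 : act 7 n2206 = n3148 := rfl
theorem F15233 : act 4 n3148 = n2207 := d32_1 D3148 (iv D2207) (iv F10865)
def n3149 : Q := act 7 n2208
theorem D3149 : act 7 n2208 = n3149 := rfl
theorem F15238 : act 5 n3149 = n2209 := d36_1 D3149 (iv D2209) D2208
def n3150 : Q := act 8 n2208
theorem D3150 : act 8 n2208 = n3150 := rfl
def n3151 : Q := act 2 n2210
theorem D3151 : act 2 n2210 = n3151 := rfl
theorem F15245 : act 5 n3151 = n2216 := d19_2 (iv F10884) D3151 (iv D2216)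
theorem F15246 : act 7 n3151 = n2213 := d21_2 (iv F10885) D3151 (iv D2213)
def n3152 : Q := act 6 n2210
theorem D3152 : act 6 n2210 = n3152 := rfl
theorem F15250 : act 3 n3152 = n2211 := d26_1 D3152 (iv D2211) D2210
def n3153 : Q := act 5 n2211
theorem D3153 : act 5 n2211 = n3153 := rfl
theorem F15254 : act 4 n3153 = n3153 := d30_1 D3153 (iv D3153) F10889 F7766 (iv F10889)
theorem F15255 : act 6 n3153 = n2218 := d35_2 D2211 D3153 (iv D2218) (iv D1554) (iv F7761)
def n3154 : Q := act 7 n2211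
theorem D3154 : act 7 n2211 = n3154 := rfl
theorem F15258 : act 4 n3154 = n2212 := d32_1 D3154 (iv D2212) (iv F10889)
theorem F15259 : act 6 n3154 = n2215 := d39_1 D3154 (iv D2215) (iv D1551) (iv F7762) D2211
def n3156 : Q := act 6 n2213
theorem D3156 : act 6 n2213 = n3156 := rfl
def n3157 : Q := act 7 n2214
theorem D3157 : act 7 n2214 = n3157 := rfl
def n3158 : Q := act 1 n2216
theorem D3158 : act 1 n2216 = n3158 := rfl
theorem F15276 : act 8 n3158 = n2220 := d15_2 (iv F10912) D3158 (iv D2220)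
def n3159 : Q := act 6 n2216
theorem D3159 : act 6 n2216 = n3159 := rfl
theorem F15280 : act 7 n3159 = n3159 := d39_2 (iv F10911) D3159 (iv D3159) F10911 F7793
theorem F15281 : act 8 n3159 = n2221 := d40_2 (iv F10912) D3159 (iv D2221)
def n3160 : Q := act 5 n2217
theorem D3160 : act 5 n2217 = n3160 := rfl
theorem F15284 : act 3 n3160 = n2218 := d25_1 D3160 (iv D2218) (iv F10915)
def n3161 : Q := act 8 n2218
theorem D3161 : act 8 n2218 = n3161 := rfl
def n3163 : Q := act 0 n2220
theorem D3163 : act 0 n2220 = n3163 := rfl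
theorem F15297 : act 2 n3163 = n3163 := d1_2 F10927 D3163 (iv D3163)
theorem F15301 : act 9 n3163 = n3163 := d8_2 F10931 D3163 (iv D3163)
def n3164 : Q := act 6 n2220
theorem D3164 : act 6 n2220 = n3164 := rfl
theorem F15302 : act 1 n3164 = n2221 := d13_1 D3164 (iv D2221) D2220
theorem F15306 : act 9 n3164 = n3164 := d41_2 F10931 D3164 (iv D3164)
def n3165 : Q := act 5 n2221
theorem D3165 : act 5 n2221 = n3165 := rfl
theorem F15308 : act 2 n3165 = n2222 := d19_1 D3165 (iv D2222) (iv F10933)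
def n3166 : Q := act 4 n2222
theorem D3166 : act 4 n2222 = n3166 := rfl
theorem F15314 : act 3 n3166 = n2228 := d24_1 D3166 (iv D2228) F7831 (iv F7808) (iv F10939)
def n3167 : Q := act 8 n2222
theorem D3167 : act 8 n2222 = n3167 := rfl
theorem F15321 : act 3 n3167 = n2223 := d28_1 D3167 (iv D2223) (iv F10939)
def n3168 : Q := act 9 n2223
theorem D3168 : act 9 n2223 = n3168 := rfl
def n3173 : Q := act 8 n2228
theorem D3173 : act 8 n2228 = n3173 := rfl
theorem F15355 : act 4 n3173 = n2229 := d33_1 D3173 (iv D2229) D2228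
def n3174 : Q := act 9 n2229
theorem D3174 : act 9 n2229 = n3174 := rfl
theorem F15360 : act 3 n3174 = n2230 := d29_1 D3174 (iv D2230) (iv F10980)
def n3175 : Q := act 3 n2231
theorem D3175 : act 3 n2231 = n3175 := rfl
theorem F15365 : act 0 n3175 = n2233 := d2_1 D3175 (iv D2233) (iv F10990)
theorem F15366 : act 1 n3175 = n3175 := d10_1 D3175 (iv D3175) F10991
theorem F15367 : act 5 n3175 = n2241 := d25_2 (iv F10993) D3175 (iv D2241)
def n3176 : Q := act 6 n2231
theorem D3176 : act 6 n2231 = n3176 := rfl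
theorem F15370 : act 0 n3176 = n2234 := d5_1 D3176 (iv D2234) (iv F10990)
theorem F15372 : act 2 n3176 = n3176 := d20_1 D3176 (iv D3176) F10992
theorem F15373 : act 4 n3176 = n2232 := d31_1 D3176 (iv D2232) D2231
def n3177 : Q := act 7 n2232
theorem D3177 : act 7 n2232 = n3177 := rfl
def n3178 : Q := act 2 n2233
theorem D3178 : act 2 n2233 = n3178 := rfl
theorem F15381 : act 1 n3178 = n3178 := d9_1 D3178 (iv D3178) F11001 F7862 (iv F11001)
theorem F15383 : act 5 n3178 = n2244 := d19_2 (iv F11002) D3178 (iv D2244)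
theorem F15385 : act 9 n3178 = n3178 := d23_2 F11004 D3178 (iv D3178)
def n3179 : Q := act 6 n2233
theorem D3179 : act 6 n2233 = n3179 := rfl
theorem F15386 : act 1 n3179 = n2236 := d13_1 D3179 (iv D2236) (iv F11001)
theorem F15387 : act 3 n3179 = n2234 := d26_1 D3179 (iv D2234) D2233
def n3180 : Q := act 5 n2234
theorem D3180 : act 5 n2234 = n3180 := rfl
theorem F15389 : act 1 n3180 = n2237 := d12_1 D3180 (iv D2237) (iv F11005)
theorem F15391 : act 4 n3180 = n3180 := d30_1 D3180 (iv D3180) F11007 F7859 (iv F11007)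
theorem F15392 : act 6 n3180 = n2246 := d35_2 D2234 D3180 (iv D2246) (iv D1576) (iv F7854)
def n3181 : Q := act 7 n2234
theorem D3181 : act 7 n2234 = n3181 := rfl
theorem F15396 : act 4 n3181 = n2235 := d32_1 D3181 (iv D2235) (iv F11007)
def n3182 : Q := act 5 n2236
theorem D3182 : act 5 n2236 = n3182 := rfl
theorem F15401 : act 3 n3182 = n2237 := d25_1 D3182 (iv D2237) (iv F11016)
theorem F15402 : act 6 n3182 = n2248 := d35_2 D2236 D3182 (iv D2248) (iv D1578) (iv F7863)
def n3183 : Q := act 7 n2236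
theorem D3183 : act 7 n2236 = n3183 := rfl
def n3184 : Q := act 7 n2237
theorem D3184 : act 7 n2237 = n3184 := rfl
theorem F15410 : act 2 n3184 = n2239 := d21_1 D3184 (iv D2239) (iv F11019)
theorem F15412 : act 5 n3184 = n2238 := d36_1 D3184 (iv D2238) D2237
def n3185 : Q := act 8 n2237
theorem D3185 : act 8 n2237 = n3185 := rfl
def n3186 : Q := act 6 n2239
theorem D3186 : act 6 n2239 = n3186 := rfl
theorem F15423 : act 7 n3186 = n2252 := d39_2 D2239 D3186 (iv D2252) (iv D1581) (iv F7879)
def n3187 : Q := act 8 n2239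
theorem D3187 : act 8 n2239 = n3187 := rfl
theorem F15429 : act 7 n3187 = n2240 := d42_1 D3187 (iv D2240) D2239
def n3188 : Q := act 9 n2240
theorem D3188 : act 9 n2240 = n3188 := rfl
def n3189 : Q := act 2 n2241
theorem D3189 : act 2 n2241 = n3189 := rfl
theorem F15437 : act 3 n3189 = n3189 := d17_2 D2241 D3189 (iv D3189) (iv D2241) F7889
theorem F15438 : act 4 n3189 = n3189 := d18_2 F11041 D3189 (iv D3189)
theorem F15439 : act 7 n3189 = n3189 := d21_2 F11042 D3189 (iv D3189)
theorem F15440 : act 8 n3189 = n3189 := d22_2 F11043 D3189 (iv D3189)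
def n3190 : Q := act 6 n2241
theorem D3190 : act 6 n2241 = n3190 := rfl
theorem F15442 : act 0 n3190 = n2245 := d5_1 D3190 (iv D2245) (iv F11039)
theorem F15444 : act 3 n3190 = n2242 := d26_1 D3190 (iv D2242) D2241
def n3191 : Q := act 5 n2242
theorem D3191 : act 5 n2242 = n3191 := rfl
theorem F15450 : act 2 n3191 = n3191 := d19_1 D3191 (iv D3191) F11047
theorem F15452 : act 9 n3191 = n3191 := d38_2 F11050 D3191 (iv D3191)
def n3192 : Q := act 7 n2242
theorem D3192 : act 7 n2242 = n3192 := rfl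
theorem F15456 : act 4 n3192 = n2243 := d32_1 D3192 (iv D2243) (iv F11048)
def n3193 : Q := act 6 n2244
theorem D3193 : act 6 n2244 = n3193 := rfl
theorem F15461 : act 2 n3193 = n2245 := d20_1 D3193 (iv D2245) D2244
theorem F15462 : act 3 n3193 = n3193 := d26_1 D3193 (iv D3193) F11060
theorem F15463 : act 4 n3193 = n3193 := d31_1 D3193 (iv D3193) F11061
def n3194 : Q := act 5 n2245
theorem D3194 : act 5 n2245 = n3194 := rfl
theorem F15466 : act 1 n3194 = n2248 := d12_1 D3194 (iv D2248) (iv F11065)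
theorem F15467 : act 3 n3194 = n2246 := d25_1 D3194 (iv D2246) (iv F11066)
def n3196 : Q := act 7 n2246
theorem D3196 : act 7 n2246 = n3196 := rfl
theorem F15476 : act 2 n3196 = n3196 := d21_1 D3196 (iv D3196) F11071
def n3197 : Q := act 8 n2246
theorem D3197 : act 8 n2246 = n3197 := rfl
theorem F15481 : act 2 n3197 = n3197 := d22_1 D3197 (iv D3197) F11071
def n3198 : Q := act 4 n2248
theorem D3198 : act 4 n2248 = n3198 := rfl
theorem F15485 : act 2 n3198 = n3198 := d18_1 D3198 (iv D3198) F11081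
theorem F15486 : act 3 n3198 = n3198 := d24_1 D3198 (iv D3198) F11082 F7925 (iv F11082)
def n3199 : Q := act 7 n2248
theorem D3199 : act 7 n2248 = n3199 := rfl
theorem F15491 : act 3 n3199 = n2250 := d27_1 D3199 (iv D2250) (iv F11082)
def n3201 : Q := act 6 n2250
theorem D3201 : act 6 n2250 = n3201 := rfl
theorem F15499 : act 2 n3201 = n2252 := d20_1 D3201 (iv D2252) (iv F11092)
def n3204 : Q := act 8 n2252
theorem D3204 : act 8 n2252 = n3204 := rfl
theorem F15513 : act 0 n3204 = n3204 := d7_1 D3204 (iv D3204) F11100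
theorem F15517 : act 6 n3204 = n2253 := d40_1 D3204 (iv D2253) D2252
def n3205 : Q := act 9 n2253
theorem D3205 : act 9 n2253 = n3205 := rfl
theorem F15523 : act 7 n3205 = n2254 := d43_1 D3205 (iv D2254) (iv F11111)
def n3206 : Q := act 5 n2255
theorem D3206 : act 5 n2255 = n3206 := rfl
theorem F15527 : act 2 n3206 = n2256 := d19_1 D3206 (iv D2256) (iv F11120)
def n3207 : Q := act 9 n2255
theorem D3207 : act 9 n2255 = n3207 := rfl
theorem F15531 : act 0 n3207 = n3207 := d8_1 D3207 (iv D3207) F11118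
theorem F15532 : act 1 n3207 = n3207 := d16_1 D3207 (iv D3207) F11119
theorem F15533 : act 2 n3207 = n2257 := d23_1 D3207 (iv D2257) (iv F11120)
theorem F15534 : act 3 n3207 = n3207 := d29_1 D3207 (iv D3207) F11121
theorem F15535 : act 4 n3207 = n3207 := d34_1 D3207 (iv D3207) F11122
theorem F15536 : act 6 n3207 = n3207 := d41_1 D3207 (iv D3207) F11123
theorem F15537 : act 7 n3207 = n3207 := d43_1 D3207 (iv D3207) F11124
theorem F15538 : act 8 n3207 = n3207 := d44_1 D3207 (iv D3207) (iv D2255) F7951 D2255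
def n3208 : Q := act 4 n2256
theorem D3208 : act 4 n2256 = n3208 := rfl
theorem F15540 : act 1 n3208 = n2311 := d11_1 D3208 (iv D2311) (iv F11126)
def n3209 : Q := act 6 n2256
theorem D3209 : act 6 n2256 = n3209 := rfl
theorem F15545 : act 1 n3209 = n2312 := d13_1 D3209 (iv D2312) (iv F11126)
theorem F15546 : act 3 n3209 = n2259 := d26_1 D3209 (iv D2259) (iv F11127)
def n3210 : Q := act 9 n2256
theorem D3210 : act 9 n2256 = n3210 := rfl
theorem F15549 : act 0 n3210 = n3210 := d8_1 D3210 (iv D3210) F11125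
theorem F15550 : act 1 n3210 = n2313 := d16_1 D3210 (iv D2313) (iv F11126)
theorem F15551 : act 3 n3210 = n2260 := d29_1 D3210 (iv D2260) (iv F11127)
theorem F15552 : act 5 n3210 = n2257 := d38_1 D3210 (iv D2257) D2256
theorem F15553 : act 7 n3210 = n3210 := d43_1 D3210 (iv D3210) F11128
def n3211 : Q := act 3 n2258
theorem D3211 : act 3 n2258 = n3211 := rfl
theorem F15554 : act 0 n3211 = n3211 := d2_1 D3211 (iv D3211) F11137
theorem F15555 : act 1 n3211 = n2314 := d10_1 D3211 (iv D2314) (iv F11138)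
theorem F15556 : act 5 n3211 = n2261 := d25_2 (iv F11140) D3211 (iv D2261)
theorem F15557 : act 7 n3211 = n3211 := d27_2 F11141 D3211 (iv D3211)
theorem F15558 : act 8 n3211 = n3211 := d28_2 F11142 D3211 (iv D3211)
def n3212 : Q := act 6 n2258
theorem D3212 : act 6 n2258 = n3212 := rfl
theorem F15559 : act 0 n3212 = n3212 := d5_1 D3212 (iv D3212) F11137
theorem F15560 : act 1 n3212 = n2315 := d13_1 D3212 (iv D2315) (iv F11138)
theorem F15561 : act 2 n3212 = n3212 := d20_1 D3212 (iv D3212) F11139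
theorem F15562 : act 4 n3212 = n2259 := d31_1 D3212 (iv D2259) D2258
theorem F15563 : act 8 n3212 = n3212 := d40_2 F11142 D3212 (iv D3212)
def n3213 : Q := act 9 n2258
theorem D3213 : act 9 n2258 = n3213 := rfl
theorem F15564 : act 0 n3213 = n3213 := d8_1 D3213 (iv D3213) F11137
theorem F15565 : act 1 n3213 = n2316 := d16_1 D3213 (iv D2316) (iv F11138)
theorem F15566 : act 2 n3213 = n3213 := d23_1 D3213 (iv D3213) F11139
theorem F15567 : act 4 n3213 = n2260 := d34_1 D3213 (iv D2260) D2258
theorem F15568 : act 5 n3213 = n2263 := d38_1 D3213 (iv D2263) (iv F11140)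
theorem F15569 : act 7 n3213 = n3213 := d43_1 D3213 (iv D3213) F11141
def n3214 : Q := act 7 n2259
theorem D3214 : act 7 n2259 = n3214 := rfl
theorem F15571 : act 1 n3214 = n2317 := d14_1 D3214 (iv D2317) (iv F11144)
def n3215 : Q := act 9 n2259
theorem D3215 : act 9 n2259 = n3215 := rfl
theorem F15576 : act 0 n3215 = n3215 := d8_1 D3215 (iv D3215) F11143
theorem F15577 : act 1 n3215 = n2318 := d16_1 D3215 (iv D2318) (iv F11144)
theorem F15578 : act 2 n3215 = n3215 := d23_1 D3215 (iv D3215) F11145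
theorem F15579 : act 5 n3215 = n3215 := d38_1 D3215 (iv D3215) F11146
theorem F15580 : act 6 n3215 = n2260 := d41_1 D3215 (iv D2260) D2259
def n3216 : Q := act 8 n2260
theorem D3216 : act 8 n2260 = n3216 := rfl
theorem F15581 : act 0 n3216 = n3216 := d7_1 D3216 (iv D3216) F11148
theorem F15582 : act 1 n3216 = n2319 := d15_1 D3216 (iv D2319) (iv F11149)
theorem F15583 : act 2 n3216 = n3216 := d22_1 D3216 (iv D3216) F11150
theorem F15584 : act 5 n3216 = n3216 := d37_1 D3216 (iv D3216) F11151 F7969 (iv F11151)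
theorem F15585 : act 7 n3216 = n3216 := d42_1 D3216 (iv D3216) F11152
theorem F15586 : act 9 n3216 = n3216 := d44_2 D2260 D3216 (iv D3216) (iv D2260) F7962
def n3217 : Q := act 2 n2261
theorem D3217 : act 2 n2261 = n3217 := rfl
theorem F15587 : act 0 n3217 = n3217 := d1_1 D3217 (iv D3217) F11153
theorem F15588 : act 3 n3217 = n3217 := d17_2 D2261 D3217 (iv D3217) (iv D2261) F7972
theorem F15589 : act 4 n3217 = n3217 := d18_2 F11155 D3217 (iv D3217)
theorem F15590 : act 7 n3217 = n3217 := d21_2 F11156 D3217 (iv D3217)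
theorem F15591 : act 8 n3217 = n2267 := d22_2 (iv F11157) D3217 (iv D2267)
def n3218 : Q := act 6 n2261
theorem D3218 : act 6 n2261 = n3218 := rfl
theorem F15593 : act 1 n3218 = n2321 := d13_1 D3218 (iv D2321) (iv F11154)
def n3219 : Q := act 9 n2261
theorem D3219 : act 9 n2261 = n3219 := rfl
theorem F15597 : act 0 n3219 = n3219 := d8_1 D3219 (iv D3219) F11153
theorem F15598 : act 1 n3219 = n2322 := d16_1 D3219 (iv D2322) (iv F11154)
theorem F15599 : act 3 n3219 = n2263 := d29_1 D3219 (iv D2263) D2261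
theorem F15600 : act 4 n3219 = n3219 := d34_1 D3219 (iv D3219) F11155
theorem F15601 : act 7 n3219 = n3219 := d43_1 D3219 (iv D3219) F11156
def n3220 : Q := act 5 n2262
theorem D3220 : act 5 n2262 = n3220 := rfl
theorem F15603 : act 1 n3220 = n2323 := d12_1 D3220 (iv D2323) (iv F11159)
def n3222 : Q := act 9 n2262
theorem D3222 : act 9 n2262 = n3222 := rfl
theorem F15613 : act 1 n3222 = n2325 := d16_1 D3222 (iv D2325) (iv F11159)
theorem F15616 : act 6 n3222 = n2263 := d41_1 D3222 (iv D2263) D2262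
def n3223 : Q := act 8 n2263
theorem D3223 : act 8 n2263 = n3223 := rfl
theorem F15617 : act 0 n3223 = n3223 := d7_1 D3223 (iv D3223) F11163
theorem F15618 : act 1 n3223 = n2326 := d15_1 D3223 (iv D2326) (iv F11164)
theorem F15619 : act 2 n3223 = n3223 := d22_1 D3223 (iv D3223) F11165
theorem F15620 : act 4 n3223 = n2266 := d33_1 D3223 (iv D2266) (iv F11166)
theorem F15621 : act 7 n3223 = n3223 := d42_1 D3223 (iv D3223) F11167
theorem F15622 : act 9 n3223 = n2273 := d44_2 D2263 D3223 (iv D2273) (iv D1592) (iv F7974)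
def n3225 : Q := act 8 n2265
theorem D3225 : act 8 n2265 = n3225 := rfl
theorem F15631 : act 1 n3225 = n2328 := d15_1 D3225 (iv D2328) (iv F11176)
theorem F15634 : act 6 n3225 = n2266 := d40_1 D3225 (iv D2266) (iv F11180)
def n3226 : Q := act 1 n2267
theorem D3226 : act 1 n2267 = n3226 := rfl
theorem F15636 : act 2 n3226 = n2329 := d9_2 D2267 D3226 (iv D2329) (iv D1630) (iv F7988)
theorem F15637 : act 3 n3226 = n3226 := d10_2 F11189 D3226 (iv D3226)
theorem F15638 : act 4 n3226 = n3226 := d11_2 F11190 D3226 (iv D3226)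
theorem F15639 : act 5 n3226 = n3226 := d12_2 F11191 D3226 (iv D3226)
theorem F15640 : act 7 n3226 = n3226 := d14_2 F11192 D3226 (iv D3226)
def n3227 : Q := act 6 n2267
theorem D3227 : act 6 n2267 = n3227 := rfl
def n3228 : Q := act 9 n2267
theorem D3228 : act 9 n2267 = n3228 := rfl
theorem F15645 : act 0 n3228 = n3228 := d8_1 D3228 (iv D3228) F11188
theorem F15646 : act 2 n3228 = n2269 := d23_1 D3228 (iv D2269) D2267
theorem F15647 : act 3 n3228 = n3228 := d29_1 D3228 (iv D3228) F11189
theorem F15648 : act 4 n3228 = n3228 := d34_1 D3228 (iv D3228) F11190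
theorem F15649 : act 5 n3228 = n3228 := d38_1 D3228 (iv D3228) F11191
theorem F15650 : act 7 n3228 = n3228 := d43_1 D3228 (iv D3228) F11192
def n3231 : Q := act 9 n2268
theorem D3231 : act 9 n2268 = n3231 := rfl
theorem F15661 : act 1 n3231 = n2334 := d16_1 D3231 (iv D2334) (iv F11194)
theorem F15664 : act 6 n3231 = n2269 := d41_1 D3231 (iv D2269) D2268
def n3232 : Q := act 8 n2269
theorem D3232 : act 8 n2269 = n3232 := rfl
theorem F15665 : act 0 n3232 = n3232 := d7_1 D3232 (iv D3232) F11197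
theorem F15666 : act 1 n3232 = n2335 := d15_1 D3232 (iv D2335) (iv F11198)
theorem F15667 : act 3 n3232 = n2273 := d28_1 D3232 (iv D2273) (iv F11199)
theorem F15668 : act 4 n3232 = n3232 := d33_1 D3232 (iv D3232) F11200
theorem F15669 : act 7 n3232 = n3232 := d42_1 D3232 (iv D3232) F11202
def n3237 : Q := act 8 n2272
theorem D3237 : act 8 n2272 = n3237 := rfl
theorem F15693 : act 1 n3237 = n2340 := d15_1 D3237 (iv D2340) (iv F11214)
theorem F15696 : act 6 n3237 = n2273 := d40_1 D3237 (iv D2273) (iv F11217)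
def n3238 : Q := act 5 n2273
theorem D3238 : act 5 n2273 = n3238 := rfl
theorem F15697 : act 0 n3238 = n3238 := d4_1 D3238 (iv D3238) F11218
theorem F15698 : act 1 n3238 = n2341 := d12_1 D3238 (iv D2341) (iv F11219)
theorem F15699 : act 2 n3238 = n3238 := d19_1 D3238 (iv D3238) F11220
theorem F15700 : act 4 n3238 = n3238 := d30_1 D3238 (iv D3238) F11221 F8018 (iv F11221)
theorem F15701 : act 7 n3238 = n3238 := d36_2 F11222 D3238 (iv D3238)
theorem F15702 : act 8 n3238 = n3238 := d37_2 D2273 D3238 (iv D3238) (iv D2273) F8000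
def n3240 : Q := act 5 n2275
theorem D3240 : act 5 n2275 = n3240 := rfl
theorem F15710 : act 1 n3240 = n2343 := d12_1 D3240 (iv D2343) (iv F11231)
theorem F15713 : act 6 n3240 = n3240 := d35_2 (iv F11234) D3240 (iv D3240) F11234 F8018
def n3261 : Q := act 4 n2289
theorem D3261 : act 4 n2289 = n3261 := rfl
theorem F15824 : act 1 n3261 = n2360 := d11_1 D3261 (iv D2360) (iv F11310)
theorem F15826 : act 6 n3261 = n3261 := d31_2 F11313 D3261 (iv D3261)
def n3273 : Q := act 8 n2295
theorem D3273 : act 8 n2295 = n3273 := rfl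
theorem F15890 : act 1 n3273 = n2365 := d15_1 D3273 (iv D2365) (iv F11344)
theorem F15893 : act 7 n3273 = n2296 := d42_1 D3273 (iv D2296) D2295
def n3279 : Q := act 4 n2300
theorem D3279 : act 4 n2300 = n3279 := rfl
theorem F15920 : act 3 n3279 = n3279 := d24_1 D3279 (iv D3279) F11370 F8133 (iv F11370)
def n3281 : Q := act 8 n2301
theorem D3281 : act 8 n2301 = n3281 := rfl
theorem F15930 : act 1 n3281 = n2373 := d15_1 D3281 (iv D2373) (iv F11374)
theorem F15933 : act 6 n3281 = n2302 := d40_1 D3281 (iv D2302) D2301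
def n3292 : Q := act 6 n2309
theorem D3292 : act 6 n2309 = n3292 := rfl
theorem F15993 : act 7 n3292 = n3292 := d39_2 (iv F11421) D3292 (iv D3292) F11421 F8146
def n3294 : Q := act 3 n2311
theorem D3294 : act 3 n2311 = n3294 := rfl
theorem F16002 : act 0 n3294 = n2515 := d2_1 D3294 (iv D2515) (iv F11430)
theorem F16003 : act 4 n3294 = n2314 := d24_2 D2311 D3294 (iv D2314) (iv D1621) (iv F8151)
theorem F16004 : act 5 n3294 = n3294 := d25_2 F11432 D3294 (iv D3294)
theorem F16005 : act 7 n3294 = n3294 := d27_2 F11433 D3294 (iv D3294)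
theorem F16006 : act 8 n3294 = n3294 := d28_2 F11434 D3294 (iv D3294)
def n3295 : Q := act 6 n2311
theorem D3295 : act 6 n2311 = n3295 := rfl
theorem F16007 : act 0 n3295 = n2516 := d5_1 D3295 (iv D2516) (iv F11430)
theorem F16009 : act 4 n3295 = n2312 := d31_1 D3295 (iv D2312) D2311
def n3296 : Q := act 9 n2311
theorem D3296 : act 9 n2311 = n3296 := rfl
theorem F16011 : act 0 n3296 = n2517 := d8_1 D3296 (iv D2517) (iv F11430)
theorem F16012 : act 2 n3296 = n3296 := d23_1 D3296 (iv D3296) F11431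
theorem F16013 : act 4 n3296 = n2313 := d34_1 D3296 (iv D2313) D2311
theorem F16014 : act 5 n3296 = n3296 := d38_1 D3296 (iv D3296) F11432
theorem F16015 : act 7 n3296 = n3296 := d43_1 D3296 (iv D3296) F11433
def n3297 : Q := act 7 n2312
theorem D3297 : act 7 n2312 = n3297 := rfl
theorem F16016 : act 0 n3297 = n2518 := d6_1 D3297 (iv D2518) (iv F11435)
theorem F16018 : act 3 n3297 = n2317 := d27_1 D3297 (iv D2317) (iv F11437)
def n3298 : Q := act 9 n2312
theorem D3298 : act 9 n2312 = n3298 := rfl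
theorem F16022 : act 0 n3298 = n2519 := d8_1 D3298 (iv D2519) (iv F11435)
theorem F16023 : act 2 n3298 = n3298 := d23_1 D3298 (iv D3298) F11436
theorem F16024 : act 3 n3298 = n2318 := d29_1 D3298 (iv D2318) (iv F11437)
theorem F16025 : act 5 n3298 = n3298 := d38_1 D3298 (iv D3298) F11438
theorem F16026 : act 6 n3298 = n2313 := d41_1 D3298 (iv D2313) D2312
def n3299 : Q := act 8 n2313
theorem D3299 : act 8 n2313 = n3299 := rfl
theorem F16027 : act 0 n3299 = n2520 := d7_1 D3299 (iv D2520) (iv F11440)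
theorem F16028 : act 2 n3299 = n3299 := d22_1 D3299 (iv D3299) F11441
theorem F16029 : act 3 n3299 = n2319 := d28_1 D3299 (iv D2319) (iv F11442)
theorem F16030 : act 5 n3299 = n3299 := d37_1 D3299 (iv D3299) F11443 F8160 (iv F11443)
theorem F16031 : act 7 n3299 = n3299 := d42_1 D3299 (iv D3299) F11444
theorem F16032 : act 9 n3299 = n3299 := d44_2 D2313 D3299 (iv D3299) (iv D2313) F8153
def n3300 : Q := act 2 n2314
theorem D3300 : act 2 n2314 = n3300 := rfl
theorem F16033 : act 0 n3300 = n2521 := d1_1 D3300 (iv D2521) (iv F11445)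
theorem F16034 : act 3 n3300 = n2386 := d17_2 D2314 D3300 (iv D2386) (iv D1668) (iv F8162)
theorem F16035 : act 5 n3300 = n2320 := d19_2 (iv F11446) D3300 (iv D2320)
theorem F16036 : act 7 n3300 = n3300 := d21_2 F11447 D3300 (iv D3300)
theorem F16037 : act 8 n3300 = n3300 := d22_2 F11448 D3300 (iv D3300)
def n3301 : Q := act 6 n2314
theorem D3301 : act 6 n2314 = n3301 := rfl
theorem F16038 : act 0 n3301 = n2522 := d5_1 D3301 (iv D2522) (iv F11445)
theorem F16039 : act 3 n3301 = n2315 := d26_1 D3301 (iv D2315) D2314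
theorem F16040 : act 8 n3301 = n3301 := d40_2 F11448 D3301 (iv D3301)
def n3302 : Q := act 9 n2314
theorem D3302 : act 9 n2314 = n3302 := rfl
theorem F16041 : act 0 n3302 = n2523 := d8_1 D3302 (iv D2523) (iv F11445)
theorem F16042 : act 3 n3302 = n2316 := d29_1 D3302 (iv D2316) D2314
theorem F16043 : act 5 n3302 = n2322 := d38_1 D3302 (iv D2322) (iv F11446)
theorem F16044 : act 7 n3302 = n3302 := d43_1 D3302 (iv D3302) F11447
def n3303 : Q := act 5 n2315
theorem D3303 : act 5 n2315 = n3303 := rfl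
theorem F16045 : act 0 n3303 = n2524 := d4_1 D3303 (iv D2524) (iv F11449)
theorem F16046 : act 2 n3303 = n2389 := d19_1 D3303 (iv D2389) (iv F11450)
theorem F16047 : act 4 n3303 = n3303 := d30_1 D3303 (iv D3303) F11451 F8168 (iv F11451)
theorem F16048 : act 6 n3303 = n2323 := d35_2 D2315 D3303 (iv D2323) (iv D1625) (iv F8163)
def n3304 : Q := act 7 n2315
theorem D3304 : act 7 n2315 = n3304 := rfl
theorem F16049 : act 0 n3304 = n2525 := d6_1 D3304 (iv D2525) (iv F11449)
theorem F16050 : act 2 n3304 = n2390 := d21_1 D3304 (iv D2390) (iv F11450)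
theorem F16051 : act 4 n3304 = n2317 := d32_1 D3304 (iv D2317) (iv F11451)
theorem F16052 : act 6 n3304 = n3304 := d39_1 D3304 (iv D3304) (iv D2315) F8164 D2315
theorem F16053 : act 8 n3304 = n3304 := d42_2 F11452 D3304 (iv D3304)
def n3305 : Q := act 9 n2315
theorem D3305 : act 9 n2315 = n3305 := rfl
theorem F16054 : act 0 n3305 = n2526 := d8_1 D3305 (iv D2526) (iv F11449)
theorem F16055 : act 2 n3305 = n2391 := d23_1 D3305 (iv D2391) (iv F11450)
theorem F16056 : act 4 n3305 = n2318 := d34_1 D3305 (iv D2318) (iv F11451)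
theorem F16057 : act 6 n3305 = n2316 := d41_1 D3305 (iv D2316) D2315
def n3306 : Q := act 8 n2316
theorem D3306 : act 8 n2316 = n3306 := rfl
theorem F16058 : act 0 n3306 = n2527 := d7_1 D3306 (iv D2527) (iv F11453)
theorem F16059 : act 2 n3306 = n2392 := d22_1 D3306 (iv D2392) (iv F11454)
theorem F16060 : act 4 n3306 = n2319 := d33_1 D3306 (iv D2319) (iv F11455)
theorem F16061 : act 7 n3306 = n3306 := d42_1 D3306 (iv D3306) F11457
theorem F16062 : act 9 n3306 = n3306 := d44_2 D2316 D3306 (iv D3306) (iv D2316) F8165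
def n3307 : Q := act 9 n2317
theorem D3307 : act 9 n2317 = n3307 := rfl
theorem F16063 : act 0 n3307 = n2528 := d8_1 D3307 (iv D2528) (iv F11458)
theorem F16064 : act 2 n3307 = n2393 := d23_1 D3307 (iv D2393) (iv F11459)
theorem F16065 : act 5 n3307 = n3307 := d38_1 D3307 (iv D3307) F11460
theorem F16066 : act 6 n3307 = n3307 := d41_1 D3307 (iv D3307) F11461
theorem F16067 : act 7 n3307 = n2318 := d43_1 D3307 (iv D2318) D2317
def n3308 : Q := act 8 n2318
theorem D3308 : act 8 n2318 = n3308 := rfl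
theorem F16068 : act 0 n3308 = n2529 := d7_1 D3308 (iv D2529) (iv F11463)
theorem F16069 : act 2 n3308 = n2394 := d22_1 D3308 (iv D2394) (iv F11464)
theorem F16070 : act 6 n3308 = n2319 := d40_1 D3308 (iv D2319) (iv F11466)
theorem F16071 : act 9 n3308 = n3308 := d44_2 D2318 D3308 (iv D3308) (iv D2318) F8169
def n3309 : Q := act 1 n2320
theorem D3309 : act 1 n2320 = n3309 := rfl
theorem F16072 : act 3 n3309 = n2395 := d10_2 (iv F11473) D3309 (iv D2395)
theorem F16073 : act 4 n3309 = n3309 := d11_2 F11474 D3309 (iv D3309)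
theorem F16074 : act 7 n3309 = n3309 := d14_2 F11475 D3309 (iv D3309)
theorem F16075 : act 8 n3309 = n2329 := d15_2 (iv F11476) D3309 (iv D2329)
def n3310 : Q := act 6 n2320
theorem D3310 : act 6 n2320 = n3310 := rfl
theorem F16076 : act 0 n3310 = n2531 := d5_1 D3310 (iv D2531) (iv F11472)
theorem F16077 : act 2 n3310 = n2321 := d20_1 D3310 (iv D2321) D2320
theorem F16078 : act 3 n3310 = n2396 := d26_1 D3310 (iv D2396) (iv F11473)
theorem F16079 : act 4 n3310 = n3310 := d31_1 D3310 (iv D3310) F11474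
theorem F16080 : act 8 n3310 = n2330 := d40_2 (iv F11476) D3310 (iv D2330)
def n3311 : Q := act 9 n2320
theorem D3311 : act 9 n2320 = n3311 := rfl
theorem F16081 : act 0 n3311 = n2532 := d8_1 D3311 (iv D2532) (iv F11472)
theorem F16082 : act 2 n3311 = n2322 := d23_1 D3311 (iv D2322) D2320
theorem F16083 : act 3 n3311 = n2397 := d29_1 D3311 (iv D2397) (iv F11473)
theorem F16084 : act 4 n3311 = n3311 := d34_1 D3311 (iv D3311) F11474
theorem F16085 : act 7 n3311 = n3311 := d43_1 D3311 (iv D3311) F11475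
def n3312 : Q := act 5 n2321
theorem D3312 : act 5 n2321 = n3312 := rfl
theorem F16086 : act 0 n3312 = n2533 := d4_1 D3312 (iv D2533) (iv F11477)
theorem F16087 : act 3 n3312 = n2323 := d25_1 D3312 (iv D2323) (iv F11478)
def n3313 : Q := act 7 n2321
theorem D3313 : act 7 n2321 = n3313 := rfl
theorem F16092 : act 8 n3313 = n2333 := d42_2 (iv F11480) D3313 (iv D2333)
def n3314 : Q := act 9 n2321
theorem D3314 : act 9 n2321 = n3314 := rfl
theorem F16093 : act 0 n3314 = n2535 := d8_1 D3314 (iv D2535) (iv F11477)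
theorem F16094 : act 3 n3314 = n2325 := d29_1 D3314 (iv D2325) (iv F11478)
theorem F16095 : act 4 n3314 = n3314 := d34_1 D3314 (iv D3314) F11479
theorem F16096 : act 6 n3314 = n2322 := d41_1 D3314 (iv D2322) D2321
def n3315 : Q := act 8 n2322
theorem D3315 : act 8 n2322 = n3315 := rfl
theorem F16097 : act 0 n3315 = n2536 := d7_1 D3315 (iv D2536) (iv F11481)
theorem F16098 : act 3 n3315 = n2326 := d28_1 D3315 (iv D2326) (iv F11482)
theorem F16099 : act 4 n3315 = n3315 := d33_1 D3315 (iv D3315) F11483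
theorem F16100 : act 7 n3315 = n3315 := d42_1 D3315 (iv D3315) F11484
theorem F16101 : act 9 n3315 = n2335 := d44_2 D2322 D3315 (iv D2335) (iv D1632) (iv F8177)
def n3316 : Q := act 7 n2323
theorem D3316 : act 7 n2323 = n3316 := rfl
theorem F16103 : act 2 n3316 = n2402 := d21_1 D3316 (iv D2402) (iv F11486)
theorem F16105 : act 5 n3316 = n2324 := d36_1 D3316 (iv D2324) D2323
def n3317 : Q := act 8 n2323
theorem D3317 : act 8 n2323 = n3317 := rfl
theorem F16107 : act 2 n3317 = n2403 := d22_1 D3317 (iv D2403) (iv F11486)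
theorem F16109 : act 5 n3317 = n2337 := d37_1 D3317 (iv D2337) (iv D1633) (iv F8181) D2323
def n3318 : Q := act 9 n2323
theorem D3318 : act 9 n2323 = n3318 := rfl
theorem F16110 : act 0 n3318 = n2539 := d8_1 D3318 (iv D2539) (iv F11485)
theorem F16111 : act 2 n3318 = n2404 := d23_1 D3318 (iv D2404) (iv F11486)
theorem F16112 : act 4 n3318 = n3318 := d34_1 D3318 (iv D3318) F11487
theorem F16113 : act 5 n3318 = n2325 := d38_1 D3318 (iv D2325) D2323
def n3319 : Q := act 9 n2324
theorem D3319 : act 9 n2324 = n3319 := rfl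
theorem F16115 : act 2 n3319 = n2405 := d23_1 D3319 (iv D2405) (iv F11489)
theorem F16118 : act 7 n3319 = n2325 := d43_1 D3319 (iv D2325) D2324
def n3320 : Q := act 8 n2325
theorem D3320 : act 8 n2325 = n3320 := rfl
theorem F16119 : act 0 n3320 = n2541 := d7_1 D3320 (iv D2541) (iv F11493)
theorem F16120 : act 2 n3320 = n2406 := d22_1 D3320 (iv D2406) (iv F11494)
theorem F16121 : act 4 n3320 = n2328 := d33_1 D3320 (iv D2328) (iv F11495)
theorem F16122 : act 6 n3320 = n2326 := d40_1 D3320 (iv D2326) (iv F11496)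
theorem F16123 : act 9 n3320 = n2340 := d44_2 D2325 D3320 (iv D2340) (iv D1635) (iv F8181)
def n3321 : Q := act 5 n2326
theorem D3321 : act 5 n2326 = n3321 := rfl
theorem F16124 : act 0 n3321 = n2542 := d4_1 D3321 (iv D2542) (iv F11497)
theorem F16125 : act 2 n3321 = n2407 := d19_1 D3321 (iv D2407) (iv F11498)
theorem F16126 : act 4 n3321 = n3321 := d30_1 D3321 (iv D3321) F11499 F8200 (iv F11499)
theorem F16127 : act 7 n3321 = n3321 := d36_2 F11500 D3321 (iv D3321)
theorem F16128 : act 9 n3321 = n2341 := d38_2 (iv F11501) D3321 (iv D2341)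
def n3322 : Q := act 8 n2327
theorem D3322 : act 8 n2327 = n3322 := rfl
theorem F16130 : act 2 n3322 = n2408 := d22_1 D3322 (iv D2408) (iv F11503)
theorem F16133 : act 7 n3322 = n2328 := d42_1 D3322 (iv D2328) (iv F11507)
def n3323 : Q := act 5 n2328
theorem D3323 : act 5 n2328 = n3323 := rfl
theorem F16135 : act 0 n3323 = n2544 := d4_1 D3323 (iv D2544) (iv F11508)
theorem F16136 : act 2 n3323 = n2409 := d19_1 D3323 (iv D2409) (iv F11509)
theorem F16137 : act 3 n3323 = n3323 := d25_1 D3323 (iv D3323) F11510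
theorem F16138 : act 6 n3323 = n3323 := d35_2 (iv F11511) D3323 (iv D3323) F11511 F8200
theorem F16139 : act 8 n3323 = n3323 := d37_2 D2328 D3323 (iv D3323) (iv D2328) F8195
theorem F16140 : act 9 n3323 = n2343 := d38_2 (iv F11512) D3323 (iv D2343)
def n3324 : Q := act 0 n2329
theorem D3324 : act 0 n2329 = n3324 := rfl
theorem F16141 : act 1 n3324 = n2545 := d0_2 D2329 D3324 (iv D2545) (iv D1779) (iv F8203)
theorem F16142 : act 3 n3324 = n2410 := d2_2 (iv F11513) D3324 (iv D2410)
theorem F16143 : act 4 n3324 = n3324 := d3_2 F11514 D3324 (iv D3324)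
theorem F16144 : act 5 n3324 = n3324 := d4_2 F11515 D3324 (iv D3324)
theorem F16145 : act 7 n3324 = n3324 := d6_2 F11516 D3324 (iv D3324)
def n3325 : Q := act 6 n2329
theorem D3325 : act 6 n2329 = n3325 := rfl
theorem F16146 : act 1 n3325 = n2330 := d13_1 D3325 (iv D2330) D2329
theorem F16147 : act 3 n3325 = n2411 := d26_1 D3325 (iv D2411) (iv F11513)
theorem F16148 : act 4 n3325 = n3325 := d31_1 D3325 (iv D3325) F11514
def n3326 : Q := act 9 n2329
theorem D3326 : act 9 n2329 = n3326 := rfl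
theorem F16149 : act 1 n3326 = n2331 := d16_1 D3326 (iv D2331) D2329
theorem F16150 : act 3 n3326 = n2412 := d29_1 D3326 (iv D2412) (iv F11513)
theorem F16151 : act 4 n3326 = n3326 := d34_1 D3326 (iv D3326) F11514
theorem F16152 : act 5 n3326 = n3326 := d38_1 D3326 (iv D3326) F11515
theorem F16153 : act 7 n3326 = n3326 := d43_1 D3326 (iv D3326) F11516
def n3327 : Q := act 5 n2330
theorem D3327 : act 5 n2330 = n3327 := rfl
theorem F16155 : act 2 n3327 = n2332 := d19_1 D3327 (iv D2332) (iv F11518)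
theorem F16156 : act 3 n3327 = n2413 := d25_1 D3327 (iv D2413) (iv F11519)
def n3328 : Q := act 7 n2330
theorem D3328 : act 7 n2330 = n3328 := rfl
theorem F16159 : act 2 n3328 = n2333 := d21_1 D3328 (iv D2333) (iv F11518)
theorem F16160 : act 3 n3328 = n2414 := d27_1 D3328 (iv D2414) (iv F11519)
def n3329 : Q := act 9 n2330
theorem D3329 : act 9 n2330 = n3329 := rfl
theorem F16163 : act 0 n3329 = n2550 := d8_1 D3329 (iv D2550) (iv F11517)
theorem F16164 : act 2 n3329 = n2334 := d23_1 D3329 (iv D2334) (iv F11518)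
theorem F16165 : act 3 n3329 = n2415 := d29_1 D3329 (iv D2415) (iv F11519)
theorem F16166 : act 4 n3329 = n3329 := d34_1 D3329 (iv D3329) F11520
theorem F16167 : act 6 n3329 = n2331 := d41_1 D3329 (iv D2331) D2330
def n3330 : Q := act 8 n2331
theorem D3330 : act 8 n2331 = n3330 := rfl
theorem F16168 : act 0 n3330 = n2551 := d7_1 D3330 (iv D2551) (iv F11521)
theorem F16169 : act 2 n3330 = n2335 := d22_1 D3330 (iv D2335) (iv F11522)
theorem F16170 : act 3 n3330 = n2416 := d28_1 D3330 (iv D2416) (iv F11523)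
theorem F16171 : act 4 n3330 = n3330 := d33_1 D3330 (iv D3330) F11524
theorem F16172 : act 7 n3330 = n3330 := d42_1 D3330 (iv D3330) F11526
def n3332 : Q := act 7 n2332
theorem D3332 : act 7 n2332 = n3332 := rfl
theorem F16178 : act 3 n3332 = n2336 := d27_1 D3332 (iv D2336) (iv F11528)
theorem F16179 : act 5 n3332 = n2333 := d36_1 D3332 (iv D2333) D2332
def n3334 : Q := act 9 n2332
theorem D3334 : act 9 n2332 = n3334 := rfl
theorem F16185 : act 5 n3334 = n2334 := d38_1 D3334 (iv D2334) D2332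
def n3335 : Q := act 9 n2333
theorem D3335 : act 9 n2333 = n3335 := rfl
theorem F16191 : act 7 n3335 = n2334 := d43_1 D3335 (iv D2334) D2333
def n3336 : Q := act 8 n2334
theorem D3336 : act 8 n2334 = n3336 := rfl
theorem F16192 : act 0 n3336 = n2557 := d7_1 D3336 (iv D2557) (iv F11534)
theorem F16193 : act 3 n3336 = n2340 := d28_1 D3336 (iv D2340) (iv F11535)
theorem F16194 : act 4 n3336 = n3336 := d33_1 D3336 (iv D3336) F11536
theorem F16195 : act 6 n3336 = n2335 := d40_1 D3336 (iv D2335) (iv F11537)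
def n3337 : Q := act 5 n2335
theorem D3337 : act 5 n2335 = n3337 := rfl
theorem F16196 : act 0 n3337 = n2558 := d4_1 D3337 (iv D2558) (iv F11538)
theorem F16197 : act 3 n3337 = n2341 := d25_1 D3337 (iv D2341) (iv F11539)
theorem F16198 : act 7 n3337 = n3337 := d36_2 F11541 D3337 (iv D3337)
theorem F16199 : act 8 n3337 = n3337 := d37_2 D2335 D3337 (iv D3337) (iv D2335) F8214
def n3338 : Q := act 6 n2336
theorem D3338 : act 6 n2336 = n3338 := rfl
theorem F16202 : act 4 n3338 = n2351 := d31_1 D3338 (iv D2351) (iv F11544)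
def n3341 : Q := act 9 n2337
theorem D3341 : act 9 n2337 = n3341 := rfl
theorem F16215 : act 2 n3341 = n2426 := d23_1 D3341 (iv D2426) (iv F11547)
def n3342 : Q := act 8 n2338
theorem D3342 : act 8 n2338 = n3342 := rfl
theorem F16219 : act 2 n3342 = n2427 := d22_1 D3342 (iv D2427) (iv F11551)
def n3343 : Q := act 8 n2339
theorem D3343 : act 8 n2339 = n3343 := rfl
theorem F16223 : act 2 n3343 = n2428 := d22_1 D3343 (iv D2428) (iv F11556)
theorem F16226 : act 7 n3343 = n2340 := d42_1 D3343 (iv D2340) (iv F11559)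
def n3344 : Q := act 5 n2340
theorem D3344 : act 5 n2340 = n3344 := rfl
theorem F16227 : act 0 n3344 = n2565 := d4_1 D3344 (iv D2565) (iv F11560)
theorem F16228 : act 2 n3344 = n2429 := d19_1 D3344 (iv D2429) (iv F11561)
def n3345 : Q := act 6 n2341
theorem D3345 : act 6 n2341 = n3345 := rfl
theorem F16229 : act 0 n3345 = n2566 := d5_1 D3345 (iv D2566) (iv F11564)
theorem F16230 : act 2 n3345 = n2430 := d20_1 D3345 (iv D2430) (iv F11565)
theorem F16231 : act 4 n3345 = n3345 := d31_1 D3345 (iv D3345) F11566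
theorem F16232 : act 8 n3345 = n3345 := d40_2 F11568 D3345 (iv D3345)
def n3346 : Q := act 5 n2342
theorem D3346 : act 5 n2342 = n3346 := rfl
theorem F16234 : act 2 n3346 = n2431 := d19_1 D3346 (iv D2431) (iv F11570)
theorem F16236 : act 7 n3346 = n2343 := d36_2 (iv F11573) D3346 (iv D2343)
def n3347 : Q := act 4 n2343
theorem D3347 : act 4 n2343 = n3347 := rfl
theorem F16238 : act 0 n3347 = n2568 := d3_1 D3347 (iv D2568) (iv F11574)
theorem F16239 : act 2 n3347 = n2432 := d18_1 D3347 (iv D2432) (iv F11575)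
theorem F16240 : act 6 n3347 = n3347 := d31_2 F11577 D3347 (iv D3347)
theorem F16241 : act 8 n3347 = n2360 := d33_2 (iv F11578) D3347 (iv D2360)
def n3358 : Q := act 4 n2350
theorem D3358 : act 4 n2350 = n3358 := rfl
theorem F16292 : act 3 n3358 = n3358 := d24_1 D3358 (iv D3358) F11611 F8286 (iv F11611)
def n3367 : Q := act 4 n2357
theorem D3367 : act 4 n2357 = n3367 := rfl
theorem F16330 : act 2 n3367 = n2440 := d18_1 D3367 (iv D2440) (iv F11641)
theorem F16331 : act 5 n3367 = n2360 := d30_2 D2357 D3367 (iv D2360) (iv D1650) (iv F8281)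
def n3368 : Q := act 6 n2357
theorem D3368 : act 6 n2357 = n3368 := rfl
theorem F16334 : act 2 n3368 = n2441 := d20_1 D3368 (iv D2441) (iv F11641)
def n3370 : Q := act 4 n2359
theorem D3370 : act 4 n2359 = n3370 := rfl
theorem F16344 : act 2 n3370 = n2443 := d18_1 D3370 (iv D2443) (iv F11649)
theorem F16345 : act 7 n3370 = n2360 := d32_2 (iv F11651) D3370 (iv D2360)
def n3371 : Q := act 6 n2359
theorem D3371 : act 6 n2359 = n3371 := rfl
theorem F16348 : act 2 n3371 = n2444 := d20_1 D3371 (iv D2444) (iv F11649)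
theorem F16351 : act 7 n3371 = n3371 := d39_2 (iv F11651) D3371 (iv D3371) F11651 F8299
def n3372 : Q := act 3 n2360
theorem D3372 : act 3 n2360 = n3372 := rfl
theorem F16353 : act 0 n3372 = n2593 := d2_1 D3372 (iv D2593) (iv F11653)
theorem F16354 : act 4 n3372 = n3372 := d24_2 D2360 D3372 (iv D3372) (iv D2360) F8298
theorem F16355 : act 6 n3372 = n3372 := d26_2 F11655 D3372 (iv D3372)
theorem F16356 : act 9 n3372 = n3372 := d29_2 F11656 D3372 (iv D3372)
def n3379 : Q := act 8 n2364
theorem D3379 : act 8 n2364 = n3379 := rfl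
theorem F16388 : act 0 n3379 = n2600 := d7_1 D3379 (iv D2600) (iv F11673)
theorem F16390 : act 3 n3379 = n2373 := d28_1 D3379 (iv D2373) (iv F11675)
theorem F16391 : act 6 n3379 = n2365 := d40_1 D3379 (iv D2365) D2364
def n3406 : Q := act 1 n2386
theorem D3406 : act 1 n2386 = n3406 := rfl
theorem F16513 : act 2 n3406 = n3406 := d9_2 D2386 D3406 (iv D3406) (iv D2386) F8384
theorem F16514 : act 4 n3406 = n3406 := d11_2 F11778 D3406 (iv D3406)
theorem F16515 : act 5 n3406 = n2395 := d12_2 (iv F11779) D3406 (iv D2395)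
theorem F16516 : act 7 n3406 = n3406 := d14_2 F11780 D3406 (iv D3406)
theorem F16517 : act 8 n3406 = n3406 := d15_2 F11781 D3406 (iv D3406)
def n3407 : Q := act 6 n2386
theorem D3407 : act 6 n2386 = n3407 := rfl
theorem F16518 : act 0 n3407 = n2628 := d5_1 D3407 (iv D2628) (iv F11777)
theorem F16519 : act 2 n3407 = n2387 := d20_1 D3407 (iv D2387) D2386
theorem F16520 : act 4 n3407 = n3407 := d31_1 D3407 (iv D3407) F11778
theorem F16521 : act 8 n3407 = n3407 := d40_2 F11781 D3407 (iv D3407)
def n3408 : Q := act 9 n2386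
theorem D3408 : act 9 n2386 = n3408 := rfl
theorem F16522 : act 0 n3408 = n2629 := d8_1 D3408 (iv D2629) (iv F11777)
theorem F16523 : act 2 n3408 = n2388 := d23_1 D3408 (iv D2388) D2386
theorem F16524 : act 4 n3408 = n3408 := d34_1 D3408 (iv D3408) F11778
theorem F16525 : act 5 n3408 = n2397 := d38_1 D3408 (iv D2397) (iv F11779)
theorem F16526 : act 7 n3408 = n3408 := d43_1 D3408 (iv D3408) F11780
def n3409 : Q := act 5 n2387
theorem D3409 : act 5 n2387 = n3409 := rfl
theorem F16527 : act 0 n3409 = n2630 := d4_1 D3409 (iv D2630) (iv F11782)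
theorem F16528 : act 1 n3409 = n3409 := d12_1 D3409 (iv D3409) F11783
theorem F16529 : act 3 n3409 = n2389 := d25_1 D3409 (iv D2389) (iv F11784)
theorem F16530 : act 6 n3409 = n2398 := d35_2 D2387 D3409 (iv D2398) (iv D1675) (iv F8386)
def n3410 : Q := act 7 n2387
theorem D3410 : act 7 n2387 = n3410 := rfl
theorem F16531 : act 0 n3410 = n2631 := d6_1 D3410 (iv D2631) (iv F11782)
theorem F16532 : act 1 n3410 = n3410 := d14_1 D3410 (iv D3410) F11783
theorem F16533 : act 3 n3410 = n2390 := d27_1 D3410 (iv D2390) (iv F11784)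
theorem F16534 : act 4 n3410 = n3410 := d32_1 D3410 (iv D3410) F11785
theorem F16535 : act 6 n3410 = n3410 := d39_1 D3410 (iv D3410) (iv D2387) F8387 D2387
theorem F16536 : act 8 n3410 = n3410 := d42_2 F11786 D3410 (iv D3410)
def n3411 : Q := act 9 n2387
theorem D3411 : act 9 n2387 = n3411 := rfl
theorem F16537 : act 0 n3411 = n2632 := d8_1 D3411 (iv D2632) (iv F11782)
theorem F16538 : act 1 n3411 = n3411 := d16_1 D3411 (iv D3411) F11783
theorem F16539 : act 3 n3411 = n2391 := d29_1 D3411 (iv D2391) (iv F11784)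
theorem F16540 : act 4 n3411 = n3411 := d34_1 D3411 (iv D3411) F11785
theorem F16541 : act 6 n3411 = n2388 := d41_1 D3411 (iv D2388) D2387
def n3412 : Q := act 8 n2388
theorem D3412 : act 8 n2388 = n3412 := rfl
theorem F16542 : act 0 n3412 = n2633 := d7_1 D3412 (iv D2633) (iv F11787)
theorem F16543 : act 1 n3412 = n3412 := d15_1 D3412 (iv D3412) F11788
theorem F16544 : act 3 n3412 = n2392 := d28_1 D3412 (iv D2392) (iv F11789)
theorem F16545 : act 4 n3412 = n3412 := d33_1 D3412 (iv D3412) F11790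
theorem F16546 : act 7 n3412 = n3412 := d42_1 D3412 (iv D3412) F11792
theorem F16547 : act 9 n3412 = n3412 := d44_2 D2388 D3412 (iv D3412) (iv D2388) F8388
def n3413 : Q := act 7 n2389
theorem D3413 : act 7 n2389 = n3413 := rfl
theorem F16548 : act 0 n3413 = n2634 := d6_1 D3413 (iv D2634) (iv F11793)
theorem F16549 : act 1 n3413 = n3413 := d14_1 D3413 (iv D3413) F11794
theorem F16550 : act 4 n3413 = n3413 := d32_1 D3413 (iv D3413) F11795
theorem F16551 : act 5 n3413 = n2390 := d36_1 D3413 (iv D2390) D2389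
def n3414 : Q := act 8 n2389
theorem D3414 : act 8 n2389 = n3414 := rfl
theorem F16552 : act 0 n3414 = n2635 := d7_1 D3414 (iv D2635) (iv F11793)
theorem F16553 : act 1 n3414 = n3414 := d15_1 D3414 (iv D3414) F11794
theorem F16554 : act 4 n3414 = n3414 := d33_1 D3414 (iv D3414) F11795
theorem F16555 : act 5 n3414 = n3414 := d37_1 D3414 (iv D3414) (iv D2389) F8392 D2389
theorem F16556 : act 6 n3414 = n2403 := d40_1 D3414 (iv D2403) (iv F11796)
def n3415 : Q := act 9 n2389
theorem D3415 : act 9 n2389 = n3415 := rfl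
theorem F16557 : act 0 n3415 = n2636 := d8_1 D3415 (iv D2636) (iv F11793)
theorem F16558 : act 1 n3415 = n3415 := d16_1 D3415 (iv D3415) F11794
theorem F16559 : act 4 n3415 = n3415 := d34_1 D3415 (iv D3415) F11795
theorem F16560 : act 5 n3415 = n2391 := d38_1 D3415 (iv D2391) D2389
theorem F16561 : act 6 n3415 = n2404 := d41_1 D3415 (iv D2404) (iv F11796)
def n3416 : Q := act 9 n2390
theorem D3416 : act 9 n2390 = n3416 := rfl
theorem F16562 : act 0 n3416 = n2637 := d8_1 D3416 (iv D2637) (iv F11797)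
theorem F16563 : act 1 n3416 = n3416 := d16_1 D3416 (iv D3416) F11798
theorem F16564 : act 4 n3416 = n2393 := d34_1 D3416 (iv D2393) (iv F11799)
theorem F16565 : act 6 n3416 = n3416 := d41_1 D3416 (iv D3416) F11800
theorem F16566 : act 7 n3416 = n2391 := d43_1 D3416 (iv D2391) D2390
def n3417 : Q := act 8 n2391
theorem D3417 : act 8 n2391 = n3417 := rfl
theorem F16567 : act 0 n3417 = n2638 := d7_1 D3417 (iv D2638) (iv F11802)
theorem F16568 : act 1 n3417 = n3417 := d15_1 D3417 (iv D3417) F11803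
theorem F16569 : act 4 n3417 = n2394 := d33_1 D3417 (iv D2394) (iv F11804)
theorem F16570 : act 6 n3417 = n2392 := d40_1 D3417 (iv D2392) (iv F11805)
theorem F16571 : act 9 n3417 = n3417 := d44_2 D2391 D3417 (iv D3417) (iv D2391) F8392
def n3418 : Q := act 5 n2392
theorem D3418 : act 5 n2392 = n3418 := rfl
theorem F16572 : act 0 n3418 = n2639 := d4_1 D3418 (iv D2639) (iv F11806)
theorem F16573 : act 1 n3418 = n3418 := d12_1 D3418 (iv D3418) F11807
theorem F16574 : act 4 n3418 = n3418 := d30_1 D3418 (iv D3418) F11808 F8412 (iv F11808)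
theorem F16575 : act 7 n3418 = n3418 := d36_2 F11809 D3418 (iv D3418)
theorem F16576 : act 8 n3418 = n2407 := d37_2 D2392 D3418 (iv D2407) (iv D1680) (iv F8396)
theorem F16577 : act 9 n3418 = n3418 := d38_2 F11810 D3418 (iv D3418)
def n3419 : Q := act 8 n2393
theorem D3419 : act 8 n2393 = n3419 := rfl
theorem F16578 : act 0 n3419 = n2640 := d7_1 D3419 (iv D2640) (iv F11811)
theorem F16579 : act 1 n3419 = n3419 := d15_1 D3419 (iv D3419) F11812
theorem F16580 : act 3 n3419 = n3419 := d28_1 D3419 (iv D3419) F11813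
theorem F16581 : act 6 n3419 = n3419 := d40_1 D3419 (iv D3419) F11815
theorem F16582 : act 7 n3419 = n2394 := d42_1 D3419 (iv D2394) (iv F11816)
theorem F16583 : act 9 n3419 = n3419 := d44_2 D2393 D3419 (iv D3419) (iv D2393) F8403
def n3420 : Q := act 5 n2394
theorem D3420 : act 5 n2394 = n3420 := rfl
theorem F16584 : act 0 n3420 = n2641 := d4_1 D3420 (iv D2641) (iv F11817)
theorem F16585 : act 1 n3420 = n3420 := d12_1 D3420 (iv D3420) F11818
theorem F16586 : act 3 n3420 = n3420 := d25_1 D3420 (iv D3420) F11819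
theorem F16587 : act 6 n3420 = n3420 := d35_2 (iv F11820) D3420 (iv D3420) F11820 F8412
theorem F16588 : act 8 n3420 = n3420 := d37_2 D2394 D3420 (iv D3420) (iv D2394) F8407
theorem F16589 : act 9 n3420 = n3420 := d38_2 F11821 D3420 (iv D3420)
def n3421 : Q := act 0 n2395
theorem D3421 : act 0 n2395 = n3421 := rfl
theorem F16590 : act 1 n3421 = n2642 := d0_2 D2395 D3421 (iv D2642) (iv D1845) (iv F8415)
theorem F16591 : act 2 n3421 = n3421 := d1_2 F11822 D3421 (iv D3421)
theorem F16592 : act 4 n3421 = n2462 := d3_2 (iv F11823) D3421 (iv D2462)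
theorem F16593 : act 7 n3421 = n3421 := d6_2 F11824 D3421 (iv D3421)
theorem F16594 : act 8 n3421 = n2410 := d7_2 (iv F11825) D3421 (iv D2410)
def n3422 : Q := act 6 n2395
theorem D3422 : act 6 n2395 = n3422 := rfl
theorem F16595 : act 1 n3422 = n2396 := d13_1 D3422 (iv D2396) D2395
theorem F16596 : act 2 n3422 = n3422 := d20_1 D3422 (iv D3422) F11822
theorem F16597 : act 4 n3422 = n2463 := d31_1 D3422 (iv D2463) (iv F11823)
theorem F16598 : act 8 n3422 = n2411 := d40_2 (iv F11825) D3422 (iv D2411)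
def n3423 : Q := act 9 n2395
theorem D3423 : act 9 n2395 = n3423 := rfl
theorem F16599 : act 1 n3423 = n2397 := d16_1 D3423 (iv D2397) D2395
theorem F16600 : act 2 n3423 = n3423 := d23_1 D3423 (iv D3423) F11822
theorem F16601 : act 4 n3423 = n2464 := d34_1 D3423 (iv D2464) (iv F11823)
theorem F16602 : act 7 n3423 = n3423 := d43_1 D3423 (iv D3423) F11824
def n3424 : Q := act 5 n2396
theorem D3424 : act 5 n2396 = n3424 := rfl
theorem F16603 : act 0 n3424 = n2645 := d4_1 D3424 (iv D2645) (iv F11826)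
theorem F16604 : act 2 n3424 = n2398 := d19_1 D3424 (iv D2398) (iv F11827)
def n3425 : Q := act 7 n2396
theorem D3425 : act 7 n2396 = n3425 := rfl
theorem F16605 : act 0 n3425 = n2646 := d6_1 D3425 (iv D2646) (iv F11826)
theorem F16606 : act 2 n3425 = n2399 := d21_1 D3425 (iv D2399) (iv F11827)
theorem F16607 : act 4 n3425 = n2466 := d32_1 D3425 (iv D2466) (iv F11828)
theorem F16608 : act 6 n3425 = n3425 := d39_1 D3425 (iv D3425) (iv D2396) F8417 D2396
theorem F16609 : act 8 n3425 = n2414 := d42_2 (iv F11829) D3425 (iv D2414)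
def n3426 : Q := act 9 n2396
theorem D3426 : act 9 n2396 = n3426 := rfl
theorem F16610 : act 0 n3426 = n2647 := d8_1 D3426 (iv D2647) (iv F11826)
theorem F16611 : act 2 n3426 = n2400 := d23_1 D3426 (iv D2400) (iv F11827)
theorem F16612 : act 4 n3426 = n2467 := d34_1 D3426 (iv D2467) (iv F11828)
theorem F16613 : act 6 n3426 = n2397 := d41_1 D3426 (iv D2397) D2396
def n3427 : Q := act 8 n2397
theorem D3427 : act 8 n2397 = n3427 := rfl
theorem F16614 : act 0 n3427 = n2648 := d7_1 D3427 (iv D2648) (iv F11830)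
theorem F16615 : act 2 n3427 = n2401 := d22_1 D3427 (iv D2401) (iv F11831)
theorem F16616 : act 4 n3427 = n2468 := d33_1 D3427 (iv D2468) (iv F11832)
theorem F16617 : act 7 n3427 = n3427 := d42_1 D3427 (iv D3427) F11833
theorem F16618 : act 9 n3427 = n2416 := d44_2 D2397 D3427 (iv D2416) (iv D1685) (iv F8418)
def n3428 : Q := act 4 n2398
theorem D3428 : act 4 n2398 = n3428 := rfl
theorem F16619 : act 0 n3428 = n2649 := d3_1 D3428 (iv D2649) (iv F11834)
theorem F16620 : act 1 n3428 = n3428 := d11_1 D3428 (iv D3428) F11835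
theorem F16621 : act 3 n3428 = n3428 := d24_1 D3428 (iv D3428) F11836 F8431 (iv F11836)
theorem F16622 : act 5 n3428 = n2469 := d30_2 D2398 D3428 (iv D2469) (iv D1724) (iv F8422)
def n3429 : Q := act 7 n2398
theorem D3429 : act 7 n2398 = n3429 := rfl
theorem F16623 : act 0 n3429 = n2650 := d6_1 D3429 (iv D2650) (iv F11834)
theorem F16624 : act 1 n3429 = n3429 := d14_1 D3429 (iv D3429) F11835
theorem F16625 : act 3 n3429 = n2402 := d27_1 D3429 (iv D2402) (iv F11836)
theorem F16626 : act 5 n3429 = n2399 := d36_1 D3429 (iv D2399) D2398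
def n3430 : Q := act 8 n2398
theorem D3430 : act 8 n2398 = n3430 := rfl
theorem F16627 : act 0 n3430 = n2651 := d7_1 D3430 (iv D2651) (iv F11834)
theorem F16628 : act 1 n3430 = n3430 := d15_1 D3430 (iv D3430) F11835
theorem F16629 : act 3 n3430 = n2403 := d28_1 D3430 (iv D2403) (iv F11836)
theorem F16630 : act 5 n3430 = n2418 := d37_1 D3430 (iv D2418) (iv D1686) (iv F8423) D2398
def n3431 : Q := act 9 n2398
theorem D3431 : act 9 n2398 = n3431 := rfl
theorem F16631 : act 0 n3431 = n2652 := d8_1 D3431 (iv D2652) (iv F11834)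
theorem F16632 : act 1 n3431 = n3431 := d16_1 D3431 (iv D3431) F11835
theorem F16633 : act 3 n3431 = n2404 := d29_1 D3431 (iv D2404) (iv F11836)
theorem F16634 : act 5 n3431 = n2400 := d38_1 D3431 (iv D2400) D2398
def n3432 : Q := act 9 n2399
theorem D3432 : act 9 n2399 = n3432 := rfl
theorem F16635 : act 0 n3432 = n2653 := d8_1 D3432 (iv D2653) (iv F11837)
theorem F16636 : act 1 n3432 = n3432 := d16_1 D3432 (iv D3432) F11838
theorem F16637 : act 3 n3432 = n2405 := d29_1 D3432 (iv D2405) (iv F11839)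
theorem F16638 : act 4 n3432 = n2472 := d34_1 D3432 (iv D2472) (iv F11840)
theorem F16639 : act 6 n3432 = n3432 := d41_1 D3432 (iv D3432) F11841
theorem F16640 : act 7 n3432 = n2400 := d43_1 D3432 (iv D2400) D2399
def n3433 : Q := act 8 n2400
theorem D3433 : act 8 n2400 = n3433 := rfl
theorem F16641 : act 0 n3433 = n2654 := d7_1 D3433 (iv D2654) (iv F11843)
theorem F16642 : act 1 n3433 = n3433 := d15_1 D3433 (iv D3433) F11844
theorem F16643 : act 3 n3433 = n2406 := d28_1 D3433 (iv D2406) (iv F11845)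
theorem F16644 : act 4 n3433 = n2473 := d33_1 D3433 (iv D2473) (iv F11846)
theorem F16645 : act 6 n3433 = n2401 := d40_1 D3433 (iv D2401) (iv F11847)
theorem F16646 : act 9 n3433 = n2421 := d44_2 D2400 D3433 (iv D2421) (iv D1688) (iv F8423)
def n3434 : Q := act 5 n2401
theorem D3434 : act 5 n2401 = n3434 := rfl
theorem F16647 : act 0 n3434 = n2655 := d4_1 D3434 (iv D2655) (iv F11848)
theorem F16648 : act 1 n3434 = n3434 := d12_1 D3434 (iv D3434) F11849
theorem F16649 : act 3 n3434 = n2407 := d25_1 D3434 (iv D2407) (iv F11850)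
theorem F16650 : act 7 n3434 = n3434 := d36_2 F11852 D3434 (iv D3434)
theorem F16651 : act 9 n3434 = n2422 := d38_2 (iv F11853) D3434 (iv D2422)
def n3435 : Q := act 6 n2402
theorem D3435 : act 6 n2402 = n3435 := rfl
theorem F16652 : act 0 n3435 = n2656 := d5_1 D3435 (iv D2656) (iv F11854)
theorem F16653 : act 1 n3435 = n3435 := d13_1 D3435 (iv D3435) F11855
theorem F16654 : act 4 n3435 = n3435 := d31_1 D3435 (iv D3435) F11856
theorem F16655 : act 5 n3435 = n3435 := d35_1 D3435 (iv D3435) F11857 F8435 (iv F11857)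
def n3436 : Q := act 8 n2402
theorem D3436 : act 8 n2402 = n3436 := rfl
theorem F16659 : act 5 n3436 = n2424 := d37_1 D3436 (iv D2424) F8492 (iv F8436) (iv F11857)
theorem F16660 : act 7 n3436 = n2403 := d42_1 D3436 (iv D2403) D2402
def n3437 : Q := act 9 n2402
theorem D3437 : act 9 n2402 = n3437 := rfl
theorem F16661 : act 0 n3437 = n2658 := d8_1 D3437 (iv D2658) (iv F11854)
theorem F16662 : act 1 n3437 = n3437 := d16_1 D3437 (iv D3437) F11855
theorem F16663 : act 4 n3437 = n3437 := d34_1 D3437 (iv D3437) F11856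
theorem F16664 : act 5 n3437 = n2405 := d38_1 D3437 (iv D2405) (iv F11857)
theorem F16665 : act 7 n3437 = n2404 := d43_1 D3437 (iv D2404) D2402
def n3438 : Q := act 9 n2403
theorem D3438 : act 9 n2403 = n3438 := rfl
theorem F16666 : act 0 n3438 = n2659 := d8_1 D3438 (iv D2659) (iv F11858)
theorem F16667 : act 1 n3438 = n3438 := d16_1 D3438 (iv D3438) F11859
theorem F16668 : act 4 n3438 = n3438 := d34_1 D3438 (iv D3438) F11860
theorem F16669 : act 5 n3438 = n2426 := d38_1 D3438 (iv D2426) (iv F11861)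
def n3439 : Q := act 8 n2404
theorem D3439 : act 8 n2404 = n3439 := rfl
theorem F16670 : act 0 n3439 = n2660 := d7_1 D3439 (iv D2660) (iv F11862)
theorem F16671 : act 1 n3439 = n3439 := d15_1 D3439 (iv D3439) F11863
theorem F16672 : act 4 n3439 = n3439 := d33_1 D3439 (iv D3439) F11864
def n3440 : Q := act 8 n2405
theorem D3440 : act 8 n2405 = n3440 := rfl
theorem F16673 : act 0 n3440 = n2661 := d7_1 D3440 (iv D2661) (iv F11866)
theorem F16674 : act 1 n3440 = n3440 := d15_1 D3440 (iv D3440) F11867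
theorem F16675 : act 4 n3440 = n2408 := d33_1 D3440 (iv D2408) (iv F11868)
theorem F16676 : act 6 n3440 = n3440 := d40_1 D3440 (iv D3440) F11869
theorem F16677 : act 7 n3440 = n2406 := d42_1 D3440 (iv D2406) (iv F11870)
theorem F16678 : act 9 n3440 = n2428 := d44_2 D2405 D3440 (iv D2428) (iv D1693) (iv F8436)
def n3441 : Q := act 5 n2406
theorem D3441 : act 5 n2406 = n3441 := rfl
theorem F16679 : act 0 n3441 = n2662 := d4_1 D3441 (iv D2662) (iv F11871)
theorem F16680 : act 1 n3441 = n3441 := d12_1 D3441 (iv D3441) F11872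
theorem F16681 : act 9 n3441 = n2429 := d38_2 (iv F11875) D3441 (iv D2429)
def n3442 : Q := act 6 n2407
theorem D3442 : act 6 n2407 = n3442 := rfl
theorem F16682 : act 0 n3442 = n2663 := d5_1 D3442 (iv D2663) (iv F11876)
theorem F16683 : act 1 n3442 = n3442 := d13_1 D3442 (iv D3442) F11877
theorem F16684 : act 4 n3442 = n3442 := d31_1 D3442 (iv D3442) F11878
theorem F16685 : act 9 n3442 = n2430 := d41_2 (iv F11880) D3442 (iv D2430)
def n3443 : Q := act 5 n2408
theorem D3443 : act 5 n2408 = n3443 := rfl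
theorem F16686 : act 0 n3443 = n2664 := d4_1 D3443 (iv D2664) (iv F11881)
theorem F16687 : act 1 n3443 = n3443 := d12_1 D3443 (iv D3443) F11882
theorem F16688 : act 3 n3443 = n2481 := d25_1 D3443 (iv D2481) (iv F11883)
theorem F16689 : act 7 n3443 = n2409 := d36_2 (iv F11885) D3443 (iv D2409)
theorem F16690 : act 8 n3443 = n3443 := d37_2 D2408 D3443 (iv D3443) (iv D2408) F8449
theorem F16691 : act 9 n3443 = n2431 := d38_2 (iv F11886) D3443 (iv D2431)
def n3444 : Q := act 4 n2409
theorem D3444 : act 4 n2409 = n3444 := rfl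
theorem F16692 : act 0 n3444 = n2665 := d3_1 D3444 (iv D2665) (iv F11887)
theorem F16693 : act 1 n3444 = n3444 := d11_1 D3444 (iv D3444) F11888
theorem F16694 : act 6 n3444 = n3444 := d31_2 F11890 D3444 (iv D3444)
theorem F16695 : act 8 n3444 = n3444 := d33_2 F11891 D3444 (iv D3444)
theorem F16696 : act 9 n3444 = n2432 := d34_2 (iv F11892) D3444 (iv D2432)
def n3445 : Q := act 6 n2410
theorem D3445 : act 6 n2410 = n3445 := rfl
theorem F16697 : act 0 n3445 = n2411 := d5_1 D3445 (iv D2411) D2410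
theorem F16698 : act 1 n3445 = n2666 := d13_1 D3445 (iv D2666) (iv F11893)
theorem F16699 : act 2 n3445 = n3445 := d20_1 D3445 (iv D3445) F11894
theorem F16700 : act 4 n3445 = n2483 := d31_1 D3445 (iv D2483) (iv F11895)
def n3446 : Q := act 9 n2410
theorem D3446 : act 9 n2410 = n3446 := rfl
theorem F16701 : act 0 n3446 = n2412 := d8_1 D3446 (iv D2412) D2410
theorem F16702 : act 1 n3446 = n2667 := d16_1 D3446 (iv D2667) (iv F11893)
theorem F16703 : act 2 n3446 = n3446 := d23_1 D3446 (iv D3446) F11894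
theorem F16704 : act 4 n3446 = n2484 := d34_1 D3446 (iv D2484) (iv F11895)
theorem F16705 : act 5 n3446 = n3446 := d38_1 D3446 (iv D3446) F11896
theorem F16706 : act 7 n3446 = n3446 := d43_1 D3446 (iv D3446) F11897
def n3447 : Q := act 5 n2411
theorem D3447 : act 5 n2411 = n3447 := rfl
theorem F16707 : act 1 n3447 = n2413 := d12_1 D3447 (iv D2413) (iv F11898)
theorem F16708 : act 2 n3447 = n3447 := d19_1 D3447 (iv D3447) F11899
theorem F16709 : act 4 n3447 = n3447 := d30_1 D3447 (iv D3447) F11900 F8730 (iv F11900)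
theorem F16710 : act 6 n3447 = n3447 := d35_2 D2411 D3447 (iv D3447) (iv D2411) F8459
def n3448 : Q := act 7 n2411
theorem D3448 : act 7 n2411 = n3448 := rfl
theorem F16711 : act 1 n3448 = n2414 := d14_1 D3448 (iv D2414) (iv F11898)
theorem F16712 : act 2 n3448 = n3448 := d21_1 D3448 (iv D3448) F11899
theorem F16713 : act 4 n3448 = n2485 := d32_1 D3448 (iv D2485) (iv F11900)
theorem F16714 : act 6 n3448 = n3448 := d39_1 D3448 (iv D3448) (iv D2411) F8460 D2411
def n3449 : Q := act 9 n2411
theorem D3449 : act 9 n2411 = n3449 := rfl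
theorem F16715 : act 1 n3449 = n2415 := d16_1 D3449 (iv D2415) (iv F11898)
theorem F16716 : act 2 n3449 = n3449 := d23_1 D3449 (iv D3449) F11899
theorem F16717 : act 4 n3449 = n2486 := d34_1 D3449 (iv D2486) (iv F11900)
theorem F16718 : act 6 n3449 = n2412 := d41_1 D3449 (iv D2412) D2411
def n3450 : Q := act 8 n2412
theorem D3450 : act 8 n2412 = n3450 := rfl
theorem F16719 : act 1 n3450 = n2416 := d15_1 D3450 (iv D2416) (iv F11901)
theorem F16720 : act 2 n3450 = n3450 := d22_1 D3450 (iv D3450) F11902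
theorem F16721 : act 4 n3450 = n2487 := d33_1 D3450 (iv D2487) (iv F11903)
theorem F16722 : act 7 n3450 = n3450 := d42_1 D3450 (iv D3450) F11905
def n3451 : Q := act 7 n2413
theorem D3451 : act 7 n2413 = n3451 := rfl
theorem F16724 : act 2 n3451 = n2417 := d21_1 D3451 (iv D2417) (iv F11907)
theorem F16726 : act 5 n3451 = n2414 := d36_1 D3451 (iv D2414) D2413
def n3452 : Q := act 8 n2413
theorem D3452 : act 8 n2413 = n3452 := rfl
theorem F16727 : act 0 n3452 = n2673 := d7_1 D3452 (iv D2673) (iv F11906)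
theorem F16728 : act 2 n3452 = n2418 := d22_1 D3452 (iv D2418) (iv F11907)
theorem F16729 : act 4 n3452 = n3452 := d33_1 D3452 (iv D3452) F11908
theorem F16730 : act 6 n3452 = n3452 := d40_1 D3452 (iv D3452) F11909
def n3453 : Q := act 9 n2413
theorem D3453 : act 9 n2413 = n3453 := rfl
theorem F16731 : act 0 n3453 = n2674 := d8_1 D3453 (iv D2674) (iv F11906)
theorem F16732 : act 2 n3453 = n2419 := d23_1 D3453 (iv D2419) (iv F11907)
theorem F16733 : act 4 n3453 = n3453 := d34_1 D3453 (iv D3453) F11908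
theorem F16734 : act 5 n3453 = n2415 := d38_1 D3453 (iv D2415) D2413
theorem F16735 : act 6 n3453 = n3453 := d41_1 D3453 (iv D3453) F11909
def n3454 : Q := act 9 n2414
theorem D3454 : act 9 n2414 = n3454 := rfl
theorem F16736 : act 0 n3454 = n2675 := d8_1 D3454 (iv D2675) (iv F11910)
theorem F16737 : act 2 n3454 = n2420 := d23_1 D3454 (iv D2420) (iv F11911)
theorem F16738 : act 4 n3454 = n2488 := d34_1 D3454 (iv D2488) (iv F11912)
theorem F16739 : act 6 n3454 = n3454 := d41_1 D3454 (iv D3454) F11913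
theorem F16740 : act 7 n3454 = n2415 := d43_1 D3454 (iv D2415) D2414
def n3455 : Q := act 8 n2415
theorem D3455 : act 8 n2415 = n3455 := rfl
theorem F16741 : act 0 n3455 = n2676 := d7_1 D3455 (iv D2676) (iv F11914)
theorem F16742 : act 2 n3455 = n2421 := d22_1 D3455 (iv D2421) (iv F11915)
theorem F16743 : act 4 n3455 = n2489 := d33_1 D3455 (iv D2489) (iv F11916)
theorem F16744 : act 6 n3455 = n2416 := d40_1 D3455 (iv D2416) (iv F11917)
def n3456 : Q := act 5 n2416
theorem D3456 : act 5 n2416 = n3456 := rfl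
theorem F16745 : act 0 n3456 = n2677 := d4_1 D3456 (iv D2677) (iv F11918)
theorem F16746 : act 2 n3456 = n2422 := d19_1 D3456 (iv D2422) (iv F11919)
theorem F16747 : act 7 n3456 = n3456 := d36_2 F11921 D3456 (iv D3456)
theorem F16748 : act 8 n3456 = n3456 := d37_2 D2416 D3456 (iv D3456) (iv D2416) F8467
def n3457 : Q := act 6 n2417
theorem D3457 : act 6 n2417 = n3457 := rfl
theorem F16751 : act 3 n3457 = n2423 := d26_1 D3457 (iv D2423) (iv F11924)
def n3458 : Q := act 8 n2417
theorem D3458 : act 8 n2417 = n3458 := rfl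
theorem F16757 : act 3 n3458 = n2424 := d28_1 D3458 (iv D2424) (iv F11924)
theorem F16759 : act 7 n3458 = n2418 := d42_1 D3458 (iv D2418) D2417
def n3459 : Q := act 9 n2417
theorem D3459 : act 9 n2417 = n3459 := rfl
theorem F16764 : act 5 n3459 = n2420 := d38_1 D3459 (iv D2420) (iv F11926)
theorem F16765 : act 7 n3459 = n2419 := d43_1 D3459 (iv D2419) D2417
def n3460 : Q := act 9 n2418
theorem D3460 : act 9 n2418 = n3460 := rfl
theorem F16766 : act 0 n3460 = n2681 := d8_1 D3460 (iv D2681) (iv F11927)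
theorem F16767 : act 1 n3460 = n3460 := d16_1 D3460 (iv D3460) F11928
theorem F16768 : act 3 n3460 = n2426 := d29_1 D3460 (iv D2426) (iv F11929)
theorem F16769 : act 4 n3460 = n3460 := d34_1 D3460 (iv D3460) F11930
theorem F16770 : act 6 n3460 = n3460 := d41_1 D3460 (iv D3460) F11931
def n3461 : Q := act 8 n2419
theorem D3461 : act 8 n2419 = n3461 := rfl
theorem F16771 : act 0 n3461 = n2682 := d7_1 D3461 (iv D2682) (iv F11932)
theorem F16772 : act 1 n3461 = n3461 := d15_1 D3461 (iv D3461) F11933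
theorem F16773 : act 3 n3461 = n2427 := d28_1 D3461 (iv D2427) (iv F11934)
theorem F16774 : act 4 n3461 = n3461 := d33_1 D3461 (iv D3461) F11935
theorem F16775 : act 6 n3461 = n3461 := d40_1 D3461 (iv D3461) F11937
def n3462 : Q := act 8 n2420
theorem D3462 : act 8 n2420 = n3462 := rfl
theorem F16776 : act 0 n3462 = n2683 := d7_1 D3462 (iv D2683) (iv F11938)
theorem F16777 : act 1 n3462 = n3462 := d15_1 D3462 (iv D3462) F11939
theorem F16778 : act 3 n3462 = n2428 := d28_1 D3462 (iv D2428) (iv F11940)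
theorem F16779 : act 4 n3462 = n2491 := d33_1 D3462 (iv D2491) (iv F11941)
theorem F16780 : act 6 n3462 = n3462 := d40_1 D3462 (iv D3462) F11942
theorem F16781 : act 7 n3462 = n2421 := d42_1 D3462 (iv D2421) (iv F11943)
def n3463 : Q := act 5 n2421
theorem D3463 : act 5 n2421 = n3463 := rfl
theorem F16782 : act 0 n3463 = n2684 := d4_1 D3463 (iv D2684) (iv F11944)
theorem F16783 : act 1 n3463 = n3463 := d12_1 D3463 (iv D3463) F11945
theorem F16784 : act 3 n3463 = n2429 := d25_1 D3463 (iv D2429) (iv F11946)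
def n3464 : Q := act 4 n2422
theorem D3464 : act 4 n2422 = n3464 := rfl
theorem F16785 : act 0 n3464 = n2685 := d3_1 D3464 (iv D2685) (iv F11949)
theorem F16786 : act 1 n3464 = n3464 := d11_1 D3464 (iv D3464) F11950
theorem F16787 : act 3 n3464 = n3464 := d24_1 D3464 (iv D3464) F11951 F8513 (iv F11951)
theorem F16788 : act 5 n3464 = n2493 := d30_2 D2422 D3464 (iv D2493) (iv D1743) (iv F8487)
theorem F16789 : act 7 n3464 = n3464 := d32_2 F11952 D3464 (iv D3464)
theorem F16790 : act 8 n3464 = n3464 := d33_2 F11953 D3464 (iv D3464)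
def n3465 : Q := act 6 n2422
theorem D3465 : act 6 n2422 = n3465 := rfl
theorem F16791 : act 0 n3465 = n2686 := d5_1 D3465 (iv D2686) (iv F11949)
theorem F16792 : act 1 n3465 = n3465 := d13_1 D3465 (iv D3465) F11950
theorem F16793 : act 3 n3465 = n2430 := d26_1 D3465 (iv D2430) (iv F11951)
theorem F16794 : act 8 n3465 = n3465 := d40_2 F11953 D3465 (iv D3465)
def n3466 : Q := act 8 n2423
theorem D3466 : act 8 n2423 = n3466 := rfl
theorem F16797 : act 4 n3466 = n2433 := d33_1 D3466 (iv D2433) (iv F11956)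
theorem F16798 : act 6 n3466 = n2424 := d40_1 D3466 (iv D2424) D2423
def n3468 : Q := act 9 n2424
theorem D3468 : act 9 n2424 = n3468 := rfl
theorem F16809 : act 7 n3468 = n2426 := d43_1 D3468 (iv D2426) (iv F11962)
def n3469 : Q := act 8 n2425
theorem D3469 : act 8 n2425 = n3469 := rfl
theorem F16813 : act 7 n3469 = n2427 := d42_1 D3469 (iv D2427) (iv F11967)
def n3470 : Q := act 8 n2426
theorem D3470 : act 8 n2426 = n3470 := rfl
theorem F16814 : act 0 n3470 = n2691 := d7_1 D3470 (iv D2691) (iv F11968)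
theorem F16815 : act 1 n3470 = n3470 := d15_1 D3470 (iv D3470) F11969
theorem F16816 : act 4 n3470 = n2437 := d33_1 D3470 (iv D2437) (iv F11970)
theorem F16817 : act 6 n3470 = n3470 := d40_1 D3470 (iv D3470) F11971
theorem F16818 : act 9 n3470 = n2427 := d44_2 D2426 D3470 (iv D2427) (iv D1692) D1691
def n3471 : Q := act 5 n2427
theorem D3471 : act 5 n2427 = n3471 := rfl
theorem F16819 : act 0 n3471 = n2692 := d4_1 D3471 (iv D2692) (iv F11972)
theorem F16820 : act 1 n3471 = n3471 := d12_1 D3471 (iv D3471) F11973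
theorem F16821 : act 8 n3471 = n2429 := d37_2 D2427 D3471 (iv D2429) (iv D1694) (iv F8500)
def n3472 : Q := act 5 n2428
theorem D3472 : act 5 n2428 = n3472 := rfl
theorem F16822 : act 0 n3472 = n2693 := d4_1 D3472 (iv D2693) (iv F11976)
theorem F16823 : act 1 n3472 = n3472 := d12_1 D3472 (iv D3472) F11977
theorem F16824 : act 7 n3472 = n2429 := d36_2 (iv F11980) D3472 (iv D2429)
def n3473 : Q := act 4 n2429
theorem D3473 : act 4 n2429 = n3473 := rfl
theorem F16825 : act 0 n3473 = n2694 := d3_1 D3473 (iv D2694) (iv F11981)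
theorem F16826 : act 1 n3473 = n3473 := d11_1 D3473 (iv D3473) F11982
theorem F16827 : act 5 n3473 = n2432 := d30_2 D2429 D3473 (iv D2432) (iv D1697) (iv F8509)
def n3474 : Q := act 6 n2429
theorem D3474 : act 6 n2429 = n3474 := rfl
theorem F16828 : act 0 n3474 = n2695 := d5_1 D3474 (iv D2695) (iv F11981)
theorem F16829 : act 1 n3474 = n3474 := d13_1 D3474 (iv D3474) F11982
theorem F16830 : act 5 n3474 = n2430 := d35_1 D3474 (iv D2430) (iv D1695) (iv F8510) D2429
def n3475 : Q := act 7 n2430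
theorem D3475 : act 7 n2430 = n3475 := rfl
theorem F16831 : act 0 n3475 = n2696 := d6_1 D3475 (iv D2696) (iv F11983)
theorem F16832 : act 1 n3475 = n3475 := d14_1 D3475 (iv D3475) F11984
theorem F16833 : act 4 n3475 = n3475 := d32_1 D3475 (iv D3475) F11985
theorem F16834 : act 6 n3475 = n3475 := d39_1 D3475 (iv D3475) (iv D2430) F8514 D2430
theorem F16835 : act 8 n3475 = n3475 := d42_2 F11986 D3475 (iv D3475)
def n3476 : Q := act 4 n2431
theorem D3476 : act 4 n2431 = n3476 := rfl
theorem F16836 : act 0 n3476 = n2697 := d3_1 D3476 (iv D2697) (iv F11987)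
theorem F16837 : act 1 n3476 = n3476 := d11_1 D3476 (iv D3476) F11988
theorem F16838 : act 7 n3476 = n2432 := d32_2 (iv F11990) D3476 (iv D2432)
theorem F16839 : act 8 n3476 = n2443 := d33_2 (iv F11991) D3476 (iv D2443)
def n3477 : Q := act 6 n2431
theorem D3477 : act 6 n2431 = n3477 := rfl
theorem F16840 : act 0 n3477 = n2698 := d5_1 D3477 (iv D2698) (iv F11987)
theorem F16841 : act 1 n3477 = n3477 := d13_1 D3477 (iv D3477) F11988
theorem F16842 : act 3 n3477 = n2500 := d26_1 D3477 (iv D2500) (iv F11989)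
theorem F16843 : act 5 n3477 = n3477 := d35_1 D3477 (iv D3477) (iv D2431) F8519 D2431
theorem F16844 : act 7 n3477 = n3477 := d39_2 (iv F11990) D3477 (iv D3477) F11990 F8524
theorem F16845 : act 8 n3477 = n2444 := d40_2 (iv F11991) D3477 (iv D2444)
def n3478 : Q := act 3 n2432
theorem D3478 : act 3 n2432 = n3478 := rfl
theorem F16846 : act 0 n3478 = n2699 := d2_1 D3478 (iv D2699) (iv F11992)
theorem F16847 : act 1 n3478 = n3478 := d10_1 D3478 (iv D3478) F11993
theorem F16848 : act 4 n3478 = n2501 := d24_2 D2432 D3478 (iv D2501) (iv D1748) (iv F8523)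
theorem F16849 : act 6 n3478 = n3478 := d26_2 F11994 D3478 (iv D3478)
theorem F16850 : act 8 n3478 = n2445 := d28_2 (iv F11995) D3478 (iv D2445)
def n3479 : Q := act 5 n2433
theorem D3479 : act 5 n2433 = n3479 := rfl
theorem F16856 : act 8 n3479 = n2446 := d37_2 D2433 D3479 (iv D2446) (iv D1708) (iv F8529)
def n3484 : Q := act 5 n2437
theorem D3484 : act 5 n2437 = n3484 := rfl
theorem F16877 : act 0 n3484 = n2705 := d4_1 D3484 (iv D2705) (iv F12016)
theorem F16878 : act 1 n3484 = n3484 := d12_1 D3484 (iv D3484) F12017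
theorem F16879 : act 3 n3484 = n3484 := d25_1 D3484 (iv D3484) F12018
theorem F16880 : act 8 n3484 = n3484 := d37_2 D2437 D3484 (iv D3484) (iv D2437) F8544
theorem F16881 : act 9 n3484 = n2438 := d38_2 (iv F12020) D3484 (iv D2438)
def n3485 : Q := act 4 n2438
theorem D3485 : act 4 n2438 = n3485 := rfl
theorem F16882 : act 0 n3485 = n2706 := d3_1 D3485 (iv D2706) (iv F12021)
theorem F16883 : act 1 n3485 = n3485 := d11_1 D3485 (iv D3485) F12022
theorem F16884 : act 8 n3485 = n2440 := d33_2 (iv F12024) D3485 (iv D2440)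
def n3486 : Q := act 6 n2438
theorem D3486 : act 6 n2438 = n3486 := rfl
theorem F16885 : act 0 n3486 = n2707 := d5_1 D3486 (iv D2707) (iv F12021)
theorem F16886 : act 1 n3486 = n3486 := d13_1 D3486 (iv D3486) F12022
theorem F16887 : act 3 n3486 = n3486 := d26_1 D3486 (iv D3486) F12023
theorem F16888 : act 5 n3486 = n3486 := d35_1 D3486 (iv D3486) (iv D2438) F8549 D2438
theorem F16889 : act 8 n3486 = n2441 := d40_2 (iv F12024) D3486 (iv D2441)
def n3487 : Q := act 4 n2439
theorem D3487 : act 4 n2439 = n3487 := rfl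
theorem F16892 : act 5 n3487 = n2443 := d30_2 D2439 D3487 (iv D2443) (iv D1706) (iv F8553)
theorem F16893 : act 7 n3487 = n2440 := d32_2 (iv F12028) D3487 (iv D2440)
def n3489 : Q := act 3 n2440
theorem D3489 : act 3 n2440 = n3489 := rfl
theorem F16900 : act 0 n3489 = n2710 := d2_1 D3489 (iv D2710) (iv F12030)
theorem F16901 : act 1 n3489 = n3489 := d10_1 D3489 (iv D3489) F12031
theorem F16902 : act 4 n3489 = n3489 := d24_2 D2440 D3489 (iv D3489) (iv D2440) F8559
theorem F16903 : act 5 n3489 = n2445 := d25_2 (iv F12032) D3489 (iv D2445)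
theorem F16904 : act 9 n3489 = n3489 := d29_2 F12033 D3489 (iv D3489)
def n3490 : Q := act 6 n2440
theorem D3490 : act 6 n2440 = n3490 := rfl
theorem F16905 : act 0 n3490 = n2711 := d5_1 D3490 (iv D2711) (iv F12030)
theorem F16906 : act 1 n3490 = n3490 := d13_1 D3490 (iv D3490) F12031
theorem F16907 : act 4 n3490 = n2441 := d31_1 D3490 (iv D2441) D2440
theorem F16908 : act 5 n3490 = n3490 := d35_1 D3490 (iv D3490) F12032 F8574 (iv F12032)
theorem F16909 : act 9 n3490 = n3490 := d41_2 F12033 D3490 (iv D3490)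
def n3491 : Q := act 7 n2441
theorem D3491 : act 7 n2441 = n3491 := rfl
def n3492 : Q := act 3 n2443
theorem D3492 : act 3 n2443 = n3492 := rfl
theorem F16915 : act 0 n3492 = n2713 := d2_1 D3492 (iv D2713) (iv F12046)
theorem F16916 : act 1 n3492 = n3492 := d10_1 D3492 (iv D3492) F12047
theorem F16917 : act 4 n3492 = n2502 := d24_2 D2443 D3492 (iv D2502) (iv D1749) (iv F8569)
theorem F16918 : act 7 n3492 = n2445 := d27_2 (iv F12048) D3492 (iv D2445)
theorem F16919 : act 9 n3492 = n3492 := d29_2 F12049 D3492 (iv D3492)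
def n3493 : Q := act 6 n2443
theorem D3493 : act 6 n2443 = n3493 := rfl
theorem F16920 : act 0 n3493 = n2714 := d5_1 D3493 (iv D2714) (iv F12046)
theorem F16921 : act 1 n3493 = n3493 := d13_1 D3493 (iv D3493) F12047
theorem F16922 : act 4 n3493 = n2444 := d31_1 D3493 (iv D2444) D2443
theorem F16923 : act 7 n3493 = n3493 := d39_2 (iv F12048) D3493 (iv D3493) F12048 F8574
theorem F16924 : act 9 n3493 = n3493 := d41_2 F12049 D3493 (iv D3493)
def n3494 : Q := act 2 n2445
theorem D3494 : act 2 n2445 = n3494 := rfl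
theorem F16925 : act 0 n3494 = n2715 := d1_1 D3494 (iv D2715) (iv F12056)
theorem F16926 : act 4 n3494 = n2504 := d18_2 (iv F12058) D3494 (iv D2504)
theorem F16927 : act 6 n3494 = n3494 := d20_2 F12059 D3494 (iv D3494)
theorem F16928 : act 9 n3494 = n3494 := d23_2 F12060 D3494 (iv D3494)
def n3517 : Q := act 6 n2462
theorem D3517 : act 6 n2462 = n3517 := rfl
theorem F17042 : act 0 n3517 = n2463 := d5_1 D3517 (iv D2463) D2462
theorem F17043 : act 1 n3517 = n2738 := d13_1 D3517 (iv D2738) (iv F12144)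
theorem F17044 : act 2 n3517 = n3517 := d20_1 D3517 (iv D3517) F12145
theorem F17045 : act 3 n3517 = n3517 := d26_1 D3517 (iv D3517) F12146
theorem F17046 : act 8 n3517 = n2483 := d40_2 (iv F12149) D3517 (iv D2483)
def n3518 : Q := act 9 n2462
theorem D3518 : act 9 n2462 = n3518 := rfl
theorem F17047 : act 0 n3518 = n2464 := d8_1 D3518 (iv D2464) D2462
theorem F17048 : act 1 n3518 = n2739 := d16_1 D3518 (iv D2739) (iv F12144)
theorem F17049 : act 2 n3518 = n3518 := d23_1 D3518 (iv D3518) F12145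
theorem F17050 : act 3 n3518 = n3518 := d29_1 D3518 (iv D3518) F12146
theorem F17051 : act 5 n3518 = n3518 := d38_1 D3518 (iv D3518) F12147
theorem F17052 : act 7 n3518 = n3518 := d43_1 D3518 (iv D3518) F12148
def n3519 : Q := act 5 n2463
theorem D3519 : act 5 n2463 = n3519 := rfl
theorem F17053 : act 1 n3519 = n2465 := d12_1 D3519 (iv D2465) (iv F12150)
theorem F17054 : act 2 n3519 = n3519 := d19_1 D3519 (iv D3519) F12151
theorem F17055 : act 3 n3519 = n3519 := d25_1 D3519 (iv D3519) F12152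
theorem F17056 : act 6 n3519 = n3519 := d35_2 D2463 D3519 (iv D3519) (iv D2463) F8648
theorem F17057 : act 8 n3519 = n3519 := d37_2 (iv F12153) D3519 (iv D3519) F12153 F8730
def n3520 : Q := act 7 n2463
theorem D3520 : act 7 n2463 = n3520 := rfl
theorem F17058 : act 1 n3520 = n2466 := d14_1 D3520 (iv D2466) (iv F12150)
theorem F17059 : act 2 n3520 = n3520 := d21_1 D3520 (iv D3520) F12151
theorem F17060 : act 3 n3520 = n3520 := d27_1 D3520 (iv D3520) F12152
theorem F17061 : act 6 n3520 = n3520 := d39_1 D3520 (iv D3520) (iv D2463) F8649 D2463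
theorem F17062 : act 8 n3520 = n2485 := d42_2 (iv F12153) D3520 (iv D2485)
def n3521 : Q := act 9 n2463
theorem D3521 : act 9 n2463 = n3521 := rfl
theorem F17063 : act 1 n3521 = n2467 := d16_1 D3521 (iv D2467) (iv F12150)
theorem F17064 : act 2 n3521 = n3521 := d23_1 D3521 (iv D3521) F12151
theorem F17065 : act 3 n3521 = n3521 := d29_1 D3521 (iv D3521) F12152
theorem F17066 : act 6 n3521 = n2464 := d41_1 D3521 (iv D2464) D2463
def n3522 : Q := act 8 n2464
theorem D3522 : act 8 n2464 = n3522 := rfl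
theorem F17067 : act 1 n3522 = n2468 := d15_1 D3522 (iv D2468) (iv F12154)
theorem F17068 : act 2 n3522 = n3522 := d22_1 D3522 (iv D3522) F12155
theorem F17069 : act 3 n3522 = n3522 := d28_1 D3522 (iv D3522) F12156
theorem F17070 : act 7 n3522 = n3522 := d42_1 D3522 (iv D3522) F12158
theorem F17071 : act 9 n3522 = n2487 := d44_2 D2464 D3522 (iv D2487) (iv D1737) (iv F8650)
def n3523 : Q := act 4 n2465
theorem D3523 : act 4 n2465 = n3523 := rfl
theorem F17072 : act 0 n3523 = n2744 := d3_1 D3523 (iv D2744) (iv F12159)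
theorem F17073 : act 2 n3523 = n2469 := d18_1 D3523 (iv D2469) (iv F12160)
theorem F17074 : act 6 n3523 = n3523 := d31_2 F12162 D3523 (iv D3523)
theorem F17075 : act 8 n3523 = n3523 := d33_2 F12163 D3523 (iv D3523)
def n3524 : Q := act 7 n2465
theorem D3524 : act 7 n2465 = n3524 := rfl
theorem F17076 : act 0 n3524 = n2745 := d6_1 D3524 (iv D2745) (iv F12159)
theorem F17077 : act 2 n3524 = n2470 := d21_1 D3524 (iv D2470) (iv F12160)
theorem F17078 : act 3 n3524 = n3524 := d27_1 D3524 (iv D3524) F12161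
theorem F17079 : act 5 n3524 = n2466 := d36_1 D3524 (iv D2466) D2465
theorem F17080 : act 8 n3524 = n3524 := d42_2 F12163 D3524 (iv D3524)
def n3525 : Q := act 9 n2465
theorem D3525 : act 9 n2465 = n3525 := rfl
theorem F17081 : act 0 n3525 = n2746 := d8_1 D3525 (iv D2746) (iv F12159)
theorem F17082 : act 2 n3525 = n2471 := d23_1 D3525 (iv D2471) (iv F12160)
theorem F17083 : act 3 n3525 = n3525 := d29_1 D3525 (iv D3525) F12161
theorem F17084 : act 5 n3525 = n2467 := d38_1 D3525 (iv D2467) D2465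
theorem F17085 : act 6 n3525 = n3525 := d41_1 D3525 (iv D3525) F12162
def n3526 : Q := act 9 n2466
theorem D3526 : act 9 n2466 = n3526 := rfl
theorem F17086 : act 0 n3526 = n2747 := d8_1 D3526 (iv D2747) (iv F12164)
theorem F17087 : act 2 n3526 = n2472 := d23_1 D3526 (iv D2472) (iv F12165)
theorem F17088 : act 3 n3526 = n3526 := d29_1 D3526 (iv D3526) F12166
theorem F17089 : act 6 n3526 = n3526 := d41_1 D3526 (iv D3526) F12167
theorem F17090 : act 7 n3526 = n2467 := d43_1 D3526 (iv D2467) D2466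
def n3527 : Q := act 8 n2467
theorem D3527 : act 8 n2467 = n3527 := rfl
theorem F17091 : act 0 n3527 = n2748 := d7_1 D3527 (iv D2748) (iv F12169)
theorem F17092 : act 2 n3527 = n2473 := d22_1 D3527 (iv D2473) (iv F12170)
theorem F17093 : act 3 n3527 = n3527 := d28_1 D3527 (iv D3527) F12171
theorem F17094 : act 6 n3527 = n2468 := d40_1 D3527 (iv D2468) (iv F12172)
theorem F17095 : act 9 n3527 = n2489 := d44_2 D2467 D3527 (iv D2489) (iv D1739) (iv F8654)
def n3528 : Q := act 5 n2468
theorem D3528 : act 5 n2468 = n3528 := rfl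
theorem F17096 : act 0 n3528 = n2749 := d4_1 D3528 (iv D2749) (iv F12173)
theorem F17097 : act 2 n3528 = n2474 := d19_1 D3528 (iv D2474) (iv F12174)
theorem F17098 : act 3 n3528 = n3528 := d25_1 D3528 (iv D3528) F12175
theorem F17099 : act 7 n3528 = n3528 := d36_2 F12176 D3528 (iv D3528)
theorem F17100 : act 8 n3528 = n3528 := d37_2 D2468 D3528 (iv D3528) (iv D2468) F8658
theorem F17101 : act 9 n3528 = n2490 := d38_2 (iv F12177) D3528 (iv D2490)
def n3529 : Q := act 7 n2469
theorem D3529 : act 7 n2469 = n3529 := rfl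
theorem F17102 : act 0 n3529 = n2750 := d6_1 D3529 (iv D2750) (iv F12178)
theorem F17103 : act 1 n3529 = n3529 := d14_1 D3529 (iv D3529) F12179
theorem F17104 : act 3 n3529 = n3529 := d27_1 D3529 (iv D3529) F12180
theorem F17105 : act 4 n3529 = n2470 := d32_1 D3529 (iv D2470) D2469
theorem F17106 : act 8 n3529 = n3529 := d42_2 F12182 D3529 (iv D3529)
def n3530 : Q := act 9 n2469
theorem D3530 : act 9 n2469 = n3530 := rfl
theorem F17107 : act 0 n3530 = n2751 := d8_1 D3530 (iv D2751) (iv F12178)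
theorem F17108 : act 1 n3530 = n3530 := d16_1 D3530 (iv D3530) F12179
theorem F17109 : act 3 n3530 = n3530 := d29_1 D3530 (iv D3530) F12180
theorem F17110 : act 4 n3530 = n2471 := d34_1 D3530 (iv D2471) D2469
theorem F17111 : act 6 n3530 = n3530 := d41_1 D3530 (iv D3530) F12181
def n3531 : Q := act 6 n2470
theorem D3531 : act 6 n2470 = n3531 := rfl
theorem F17112 : act 0 n3531 = n2752 := d5_1 D3531 (iv D2752) (iv F12183)
theorem F17113 : act 1 n3531 = n3531 := d13_1 D3531 (iv D3531) F12184
theorem F17114 : act 3 n3531 = n2475 := d26_1 D3531 (iv D2475) (iv F12185)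
theorem F17115 : act 5 n3531 = n3531 := d35_1 D3531 (iv D3531) F12186 F8668 (iv F12186)
theorem F17116 : act 7 n3531 = n3531 := d39_2 D2470 D3531 (iv D3531) (iv D2470) F8663
theorem F17117 : act 8 n3531 = n3531 := d40_2 F12187 D3531 (iv D3531)
def n3532 : Q := act 9 n2470
theorem D3532 : act 9 n2470 = n3532 := rfl
theorem F17118 : act 0 n3532 = n2753 := d8_1 D3532 (iv D2753) (iv F12183)
theorem F17119 : act 1 n3532 = n3532 := d16_1 D3532 (iv D3532) F12184
theorem F17120 : act 3 n3532 = n2476 := d29_1 D3532 (iv D2476) (iv F12185)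
theorem F17121 : act 5 n3532 = n2472 := d38_1 D3532 (iv D2472) (iv F12186)
theorem F17122 : act 7 n3532 = n2471 := d43_1 D3532 (iv D2471) D2470
def n3533 : Q := act 8 n2471
theorem D3533 : act 8 n2471 = n3533 := rfl
theorem F17123 : act 0 n3533 = n2754 := d7_1 D3533 (iv D2754) (iv F12188)
theorem F17124 : act 1 n3533 = n3533 := d15_1 D3533 (iv D3533) F12189
theorem F17125 : act 3 n3533 = n2477 := d28_1 D3533 (iv D2477) (iv F12190)
theorem F17126 : act 6 n3533 = n3533 := d40_1 D3533 (iv D3533) F12192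
theorem F17127 : act 9 n3533 = n3533 := d44_2 D2471 D3533 (iv D3533) (iv D2471) F8664
def n3534 : Q := act 8 n2472
theorem D3534 : act 8 n2472 = n3534 := rfl
theorem F17128 : act 0 n3534 = n2755 := d7_1 D3534 (iv D2755) (iv F12193)
theorem F17129 : act 1 n3534 = n3534 := d15_1 D3534 (iv D3534) F12194
theorem F17130 : act 3 n3534 = n2478 := d28_1 D3534 (iv D2478) (iv F12195)
theorem F17131 : act 6 n3534 = n3534 := d40_1 D3534 (iv D3534) F12196
theorem F17132 : act 7 n3534 = n2473 := d42_1 D3534 (iv D2473) (iv F12197)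
theorem F17133 : act 9 n3534 = n2491 := d44_2 D2472 D3534 (iv D2491) (iv D1741) (iv F8669)
def n3535 : Q := act 5 n2473
theorem D3535 : act 5 n2473 = n3535 := rfl
theorem F17134 : act 0 n3535 = n2756 := d4_1 D3535 (iv D2756) (iv F12198)
theorem F17135 : act 1 n3535 = n3535 := d12_1 D3535 (iv D3535) F12199
theorem F17136 : act 3 n3535 = n2479 := d25_1 D3535 (iv D2479) (iv F12200)
theorem F17137 : act 9 n3535 = n2492 := d38_2 (iv F12202) D3535 (iv D2492)
def n3536 : Q := act 4 n2474
theorem D3536 : act 4 n2474 = n3536 := rfl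
theorem F17138 : act 0 n3536 = n2757 := d3_1 D3536 (iv D2757) (iv F12203)
theorem F17139 : act 1 n3536 = n3536 := d11_1 D3536 (iv D3536) F12204
theorem F17140 : act 3 n3536 = n3536 := d24_1 D3536 (iv D3536) F12205 F8706 (iv F12205)
theorem F17141 : act 7 n3536 = n3536 := d32_2 F12206 D3536 (iv D3536)
theorem F17142 : act 8 n3536 = n3536 := d33_2 F12207 D3536 (iv D3536)
theorem F17143 : act 9 n3536 = n2493 := d34_2 (iv F12208) D3536 (iv D2493)
def n3537 : Q := act 6 n2474
theorem D3537 : act 6 n2474 = n3537 := rfl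
theorem F17144 : act 0 n3537 = n2758 := d5_1 D3537 (iv D2758) (iv F12203)
theorem F17145 : act 1 n3537 = n3537 := d13_1 D3537 (iv D3537) F12204
theorem F17146 : act 3 n3537 = n2480 := d26_1 D3537 (iv D2480) (iv F12205)
theorem F17147 : act 8 n3537 = n3537 := d40_2 F12207 D3537 (iv D3537)
theorem F17148 : act 9 n3537 = n2494 := d41_2 (iv F12208) D3537 (iv D2494)
def n3538 : Q := act 9 n2475
theorem D3538 : act 9 n2475 = n3538 := rfl
theorem F17149 : act 0 n3538 = n2759 := d8_1 D3538 (iv D2759) (iv F12209)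
theorem F17150 : act 1 n3538 = n3538 := d16_1 D3538 (iv D3538) F12210
theorem F17151 : act 2 n3538 = n3538 := d23_1 D3538 (iv D3538) F12211
theorem F17152 : act 4 n3538 = n3538 := d34_1 D3538 (iv D3538) F12212
theorem F17153 : act 5 n3538 = n3538 := d38_1 D3538 (iv D3538) F12213
theorem F17154 : act 6 n3538 = n2476 := d41_1 D3538 (iv D2476) D2475
theorem F17155 : act 7 n3538 = n3538 := d43_1 D3538 (iv D3538) F12214
def n3539 : Q := act 8 n2476
theorem D3539 : act 8 n2476 = n3539 := rfl
theorem F17156 : act 0 n3539 = n2760 := d7_1 D3539 (iv D2760) (iv F12216)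
theorem F17157 : act 1 n3539 = n3539 := d15_1 D3539 (iv D3539) F12217
theorem F17158 : act 2 n3539 = n3539 := d22_1 D3539 (iv D3539) F12218
theorem F17159 : act 4 n3539 = n3539 := d33_1 D3539 (iv D3539) F12219
theorem F17160 : act 7 n3539 = n2477 := d42_1 D3539 (iv D2477) (iv F12221)
theorem F17161 : act 9 n3539 = n3539 := d44_2 D2476 D3539 (iv D3539) (iv D2476) F8684
def n3540 : Q := act 5 n2477
theorem D3540 : act 5 n2477 = n3540 := rfl
theorem F17162 : act 0 n3540 = n2761 := d4_1 D3540 (iv D2761) (iv F12222)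
theorem F17163 : act 1 n3540 = n3540 := d12_1 D3540 (iv D3540) F12223
theorem F17164 : act 2 n3540 = n3540 := d19_1 D3540 (iv D3540) F12224
theorem F17165 : act 8 n3540 = n2479 := d37_2 D2477 D3540 (iv D2479) (iv D1731) (iv F8689)
theorem F17166 : act 9 n3540 = n3540 := d38_2 F12227 D3540 (iv D3540)
def n3541 : Q := act 5 n2478
theorem D3541 : act 5 n2478 = n3541 := rfl
theorem F17167 : act 0 n3541 = n2762 := d4_1 D3541 (iv D2762) (iv F12228)
theorem F17168 : act 1 n3541 = n3541 := d12_1 D3541 (iv D3541) F12229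
theorem F17169 : act 2 n3541 = n3541 := d19_1 D3541 (iv D3541) F12230
theorem F17170 : act 7 n3541 = n2479 := d36_2 (iv F12233) D3541 (iv D2479)
theorem F17171 : act 9 n3541 = n2495 := d38_2 (iv F12234) D3541 (iv D2495)
def n3542 : Q := act 4 n2479
theorem D3542 : act 4 n2479 = n3542 := rfl
theorem F17172 : act 0 n3542 = n2763 := d3_1 D3542 (iv D2763) (iv F12235)
theorem F17173 : act 1 n3542 = n3542 := d11_1 D3542 (iv D3542) F12236
theorem F17174 : act 2 n3542 = n3542 := d18_1 D3542 (iv D3542) F12237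
theorem F17175 : act 5 n3542 = n2482 := d30_2 D2479 D3542 (iv D2482) (iv D1734) (iv F8700)
theorem F17176 : act 9 n3542 = n2496 := d34_2 (iv F12238) D3542 (iv D2496)
def n3543 : Q := act 6 n2479
theorem D3543 : act 6 n2479 = n3543 := rfl
theorem F17177 : act 0 n3543 = n2764 := d5_1 D3543 (iv D2764) (iv F12235)
theorem F17178 : act 1 n3543 = n3543 := d13_1 D3543 (iv D3543) F12236
theorem F17179 : act 2 n3543 = n3543 := d20_1 D3543 (iv D3543) F12237
theorem F17180 : act 5 n3543 = n2480 := d35_1 D3543 (iv D2480) (iv D1732) (iv F8701) D2479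
theorem F17181 : act 9 n3543 = n2497 := d41_2 (iv F12238) D3543 (iv D2497)
def n3544 : Q := act 7 n2480
theorem D3544 : act 7 n2480 = n3544 := rfl
theorem F17182 : act 0 n3544 = n2765 := d6_1 D3544 (iv D2765) (iv F12239)
theorem F17183 : act 1 n3544 = n3544 := d14_1 D3544 (iv D3544) F12240
theorem F17184 : act 2 n3544 = n3544 := d21_1 D3544 (iv D3544) F12241
theorem F17185 : act 4 n3544 = n3544 := d32_1 D3544 (iv D3544) F12242
theorem F17186 : act 6 n3544 = n3544 := d39_1 D3544 (iv D3544) (iv D2480) F8707 D2480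
theorem F17187 : act 8 n3544 = n3544 := d42_2 F12243 D3544 (iv D3544)
theorem F17188 : act 9 n3544 = n2498 := d43_2 (iv F12244) D3544 (iv D2498)
def n3545 : Q := act 4 n2481
theorem D3545 : act 4 n2481 = n3545 := rfl
theorem F17189 : act 0 n3545 = n2766 := d3_1 D3545 (iv D2766) (iv F12245)
theorem F17190 : act 1 n3545 = n3545 := d11_1 D3545 (iv D3545) F12246
theorem F17191 : act 2 n3545 = n3545 := d18_1 D3545 (iv D3545) F12247
theorem F17192 : act 7 n3545 = n2482 := d32_2 (iv F12248) D3545 (iv D2482)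
theorem F17193 : act 8 n3545 = n3545 := d33_2 F12249 D3545 (iv D3545)
theorem F17194 : act 9 n3545 = n2499 := d34_2 (iv F12250) D3545 (iv D2499)
def n3546 : Q := act 6 n2481
theorem D3546 : act 6 n2481 = n3546 := rfl
theorem F17195 : act 0 n3546 = n2767 := d5_1 D3546 (iv D2767) (iv F12245)
theorem F17196 : act 1 n3546 = n3546 := d13_1 D3546 (iv D3546) F12246
theorem F17197 : act 2 n3546 = n3546 := d20_1 D3546 (iv D3546) F12247
theorem F17198 : act 5 n3546 = n3546 := d35_1 D3546 (iv D3546) (iv D2481) F8713 D2481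
theorem F17199 : act 7 n3546 = n3546 := d39_2 (iv F12248) D3546 (iv D3546) F12248 F8719
theorem F17200 : act 8 n3546 = n3546 := d40_2 F12249 D3546 (iv D3546)
theorem F17201 : act 9 n3546 = n2500 := d41_2 (iv F12250) D3546 (iv D2500)
def n3547 : Q := act 3 n2482
theorem D3547 : act 3 n2482 = n3547 := rfl
theorem F17202 : act 0 n3547 = n2768 := d2_1 D3547 (iv D2768) (iv F12251)
theorem F17203 : act 1 n3547 = n3547 := d10_1 D3547 (iv D3547) F12252
theorem F17204 : act 6 n3547 = n3547 := d26_2 F12254 D3547 (iv D3547)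
theorem F17205 : act 8 n3547 = n3547 := d28_2 F12255 D3547 (iv D3547)
theorem F17206 : act 9 n3547 = n2501 := d29_2 (iv F12256) D3547 (iv D2501)
def n3548 : Q := act 7 n2483
theorem D3548 : act 7 n2483 = n3548 := rfl
theorem F17207 : act 0 n3548 = n2485 := d6_1 D3548 (iv D2485) (iv F12257)
theorem F17208 : act 1 n3548 = n2769 := d14_1 D3548 (iv D2769) (iv F12258)
theorem F17209 : act 2 n3548 = n3548 := d21_1 D3548 (iv D3548) F12259
theorem F17210 : act 3 n3548 = n3548 := d27_1 D3548 (iv D3548) F12260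
theorem F17211 : act 5 n3548 = n3548 := d36_1 D3548 (iv D3548) F12261
theorem F17212 : act 6 n3548 = n3548 := d39_1 D3548 (iv D3548) (iv D2483) F8726 D2483
def n3549 : Q := act 9 n2483
theorem D3549 : act 9 n2483 = n3549 := rfl
theorem F17213 : act 0 n3549 = n2486 := d8_1 D3549 (iv D2486) (iv F12257)
theorem F17214 : act 1 n3549 = n2770 := d16_1 D3549 (iv D2770) (iv F12258)
theorem F17215 : act 2 n3549 = n3549 := d23_1 D3549 (iv D3549) F12259
theorem F17216 : act 3 n3549 = n3549 := d29_1 D3549 (iv D3549) F12260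
theorem F17217 : act 5 n3549 = n3549 := d38_1 D3549 (iv D3549) F12261
theorem F17218 : act 6 n3549 = n2484 := d41_1 D3549 (iv D2484) D2483
def n3550 : Q := act 8 n2484
theorem D3550 : act 8 n2484 = n3550 := rfl
theorem F17219 : act 0 n3550 = n2487 := d7_1 D3550 (iv D2487) (iv F12262)
theorem F17220 : act 1 n3550 = n2771 := d15_1 D3550 (iv D2771) (iv F12263)
theorem F17221 : act 2 n3550 = n3550 := d22_1 D3550 (iv D3550) F12264
theorem F17222 : act 3 n3550 = n3550 := d28_1 D3550 (iv D3550) F12265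
theorem F17223 : act 7 n3550 = n3550 := d42_1 D3550 (iv D3550) F12267
def n3551 : Q := act 9 n2485
theorem D3551 : act 9 n2485 = n3551 := rfl
theorem F17224 : act 1 n3551 = n2488 := d16_1 D3551 (iv D2488) (iv F12268)
theorem F17225 : act 2 n3551 = n3551 := d23_1 D3551 (iv D3551) F12269
theorem F17226 : act 3 n3551 = n3551 := d29_1 D3551 (iv D3551) F12270
theorem F17227 : act 5 n3551 = n3551 := d38_1 D3551 (iv D3551) F12271
theorem F17228 : act 6 n3551 = n3551 := d41_1 D3551 (iv D3551) F12272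
theorem F17229 : act 7 n3551 = n2486 := d43_1 D3551 (iv D2486) D2485
def n3552 : Q := act 8 n2486
theorem D3552 : act 8 n2486 = n3552 := rfl
theorem F17230 : act 1 n3552 = n2489 := d15_1 D3552 (iv D2489) (iv F12273)
theorem F17231 : act 2 n3552 = n3552 := d22_1 D3552 (iv D3552) F12274
theorem F17232 : act 3 n3552 = n3552 := d28_1 D3552 (iv D3552) F12275
theorem F17233 : act 6 n3552 = n2487 := d40_1 D3552 (iv D2487) (iv F12277)
def n3553 : Q := act 5 n2487
theorem D3553 : act 5 n2487 = n3553 := rfl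
theorem F17234 : act 1 n3553 = n2490 := d12_1 D3553 (iv D2490) (iv F12278)
theorem F17235 : act 2 n3553 = n3553 := d19_1 D3553 (iv D3553) F12279
theorem F17236 : act 3 n3553 = n3553 := d25_1 D3553 (iv D3553) F12280
theorem F17237 : act 7 n3553 = n3553 := d36_2 F12281 D3553 (iv D3553)
theorem F17238 : act 8 n3553 = n2510 := d37_2 D2487 D3553 (iv D2510) (iv D1756) (iv F8734)
def n3554 : Q := act 8 n2488
theorem D3554 : act 8 n2488 = n3554 := rfl
theorem F17239 : act 0 n3554 = n2775 := d7_1 D3554 (iv D2775) (iv F12282)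
theorem F17240 : act 2 n3554 = n2491 := d22_1 D3554 (iv D2491) (iv F12283)
theorem F17241 : act 3 n3554 = n3554 := d28_1 D3554 (iv D3554) F12284
theorem F17242 : act 6 n3554 = n3554 := d40_1 D3554 (iv D3554) F12286
theorem F17243 : act 7 n3554 = n2489 := d42_1 D3554 (iv D2489) (iv F12287)
def n3555 : Q := act 5 n2489
theorem D3555 : act 5 n2489 = n3555 := rfl
theorem F17244 : act 0 n3555 = n2776 := d4_1 D3555 (iv D2776) (iv F12288)
theorem F17245 : act 2 n3555 = n2492 := d19_1 D3555 (iv D2492) (iv F12289)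
theorem F17246 : act 3 n3555 = n3555 := d25_1 D3555 (iv D3555) F12290
theorem F17247 : act 8 n3555 = n3555 := d37_2 D2489 D3555 (iv D3555) (iv D2489) F8744
def n3556 : Q := act 4 n2490
theorem D3556 : act 4 n2490 = n3556 := rfl
theorem F17248 : act 0 n3556 = n2777 := d3_1 D3556 (iv D2777) (iv F12292)
theorem F17249 : act 2 n3556 = n2493 := d18_1 D3556 (iv D2493) (iv F12293)
theorem F17250 : act 7 n3556 = n3556 := d32_2 F12295 D3556 (iv D3556)
theorem F17251 : act 8 n3556 = n2511 := d33_2 (iv F12296) D3556 (iv D2511)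
def n3557 : Q := act 6 n2490
theorem D3557 : act 6 n2490 = n3557 := rfl
theorem F17252 : act 0 n3557 = n2778 := d5_1 D3557 (iv D2778) (iv F12292)
theorem F17253 : act 2 n3557 = n2494 := d20_1 D3557 (iv D2494) (iv F12293)
theorem F17254 : act 3 n3557 = n3557 := d26_1 D3557 (iv D3557) F12294
theorem F17255 : act 8 n3557 = n2512 := d40_2 (iv F12296) D3557 (iv D2512)
def n3558 : Q := act 5 n2491
theorem D3558 : act 5 n2491 = n3558 := rfl
theorem F17256 : act 0 n3558 = n2779 := d4_1 D3558 (iv D2779) (iv F12297)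
theorem F17257 : act 1 n3558 = n3558 := d12_1 D3558 (iv D3558) F12298
theorem F17258 : act 3 n3558 = n2495 := d25_1 D3558 (iv D2495) (iv F12299)
theorem F17259 : act 7 n3558 = n2492 := d36_2 (iv F12301) D3558 (iv D2492)
theorem F17260 : act 8 n3558 = n3558 := d37_2 D2491 D3558 (iv D3558) (iv D2491) F8753
def n3559 : Q := act 4 n2492
theorem D3559 : act 4 n2492 = n3559 := rfl
theorem F17261 : act 0 n3559 = n2780 := d3_1 D3559 (iv D2780) (iv F12302)
theorem F17262 : act 1 n3559 = n3559 := d11_1 D3559 (iv D3559) F12303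
theorem F17263 : act 8 n3559 = n3559 := d33_2 F12305 D3559 (iv D3559)
def n3560 : Q := act 6 n2492
theorem D3560 : act 6 n2492 = n3560 := rfl
theorem F17264 : act 0 n3560 = n2781 := d5_1 D3560 (iv D2781) (iv F12302)
theorem F17265 : act 1 n3560 = n3560 := d13_1 D3560 (iv D3560) F12303
theorem F17266 : act 3 n3560 = n2497 := d26_1 D3560 (iv D2497) (iv F12304)
theorem F17267 : act 5 n3560 = n2494 := d35_1 D3560 (iv D2494) (iv D1743) (iv F8759) D2492
theorem F17268 : act 8 n3560 = n3560 := d40_2 F12305 D3560 (iv D3560)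
def n3561 : Q := act 6 n2493
theorem D3561 : act 6 n2493 = n3561 := rfl
theorem F17269 : act 0 n3561 = n2782 := d5_1 D3561 (iv D2782) (iv F12306)
theorem F17270 : act 1 n3561 = n3561 := d13_1 D3561 (iv D3561) F12307
theorem F17271 : act 3 n3561 = n3561 := d26_1 D3561 (iv D3561) F12308
theorem F17272 : act 4 n3561 = n2494 := d31_1 D3561 (iv D2494) D2493
theorem F17273 : act 8 n3561 = n2513 := d40_2 (iv F12310) D3561 (iv D2513)
def n3562 : Q := act 7 n2494
theorem D3562 : act 7 n2494 = n3562 := rfl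
theorem F17274 : act 0 n3562 = n2783 := d6_1 D3562 (iv D2783) (iv F12311)
theorem F17275 : act 1 n3562 = n3562 := d14_1 D3562 (iv D3562) F12312
theorem F17276 : act 3 n3562 = n2498 := d27_1 D3562 (iv D2498) (iv F12313)
theorem F17277 : act 6 n3562 = n3562 := d39_1 D3562 (iv D3562) (iv D2494) F8763 D2494
theorem F17278 : act 8 n3562 = n2514 := d42_2 (iv F12314) D3562 (iv D2514)
def n3563 : Q := act 4 n2495
theorem D3563 : act 4 n2495 = n3563 := rfl
theorem F17279 : act 0 n3563 = n2784 := d3_1 D3563 (iv D2784) (iv F12315)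
theorem F17280 : act 1 n3563 = n3563 := d11_1 D3563 (iv D3563) F12316
theorem F17281 : act 2 n3563 = n3563 := d18_1 D3563 (iv D3563) F12317
theorem F17282 : act 5 n3563 = n2499 := d30_2 D2495 D3563 (iv D2499) (iv D1747) (iv F8768)
theorem F17283 : act 7 n3563 = n2496 := d32_2 (iv F12318) D3563 (iv D2496)
theorem F17284 : act 8 n3563 = n3563 := d33_2 F12319 D3563 (iv D3563)
def n3564 : Q := act 6 n2495
theorem D3564 : act 6 n2495 = n3564 := rfl
theorem F17285 : act 0 n3564 = n2785 := d5_1 D3564 (iv D2785) (iv F12315)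
theorem F17286 : act 1 n3564 = n3564 := d13_1 D3564 (iv D3564) F12316
theorem F17287 : act 2 n3564 = n3564 := d20_1 D3564 (iv D3564) F12317
theorem F17288 : act 5 n3564 = n3564 := d35_1 D3564 (iv D3564) (iv D2495) F8769 D2495
theorem F17289 : act 8 n3564 = n3564 := d40_2 F12319 D3564 (iv D3564)
def n3565 : Q := act 3 n2496
theorem D3565 : act 3 n2496 = n3565 := rfl
theorem F17290 : act 0 n3565 = n2786 := d2_1 D3565 (iv D2786) (iv F12320)
theorem F17291 : act 1 n3565 = n3565 := d10_1 D3565 (iv D3565) F12321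
theorem F17292 : act 5 n3565 = n2501 := d25_2 (iv F12323) D3565 (iv D2501)
theorem F17293 : act 8 n3565 = n3565 := d28_2 F12324 D3565 (iv D3565)
def n3566 : Q := act 6 n2496
theorem D3566 : act 6 n2496 = n3566 := rfl
theorem F17294 : act 0 n3566 = n2787 := d5_1 D3566 (iv D2787) (iv F12320)
theorem F17295 : act 1 n3566 = n3566 := d13_1 D3566 (iv D3566) F12321
theorem F17296 : act 2 n3566 = n3566 := d20_1 D3566 (iv D3566) F12322
theorem F17297 : act 4 n3566 = n2497 := d31_1 D3566 (iv D2497) D2496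
theorem F17298 : act 5 n3566 = n3566 := d35_1 D3566 (iv D3566) F12323 F8788 (iv F12323)
theorem F17299 : act 8 n3566 = n3566 := d40_2 F12324 D3566 (iv D3566)
def n3567 : Q := act 7 n2497
theorem D3567 : act 7 n2497 = n3567 := rfl
theorem F17300 : act 0 n3567 = n2788 := d6_1 D3567 (iv D2788) (iv F12325)
theorem F17301 : act 1 n3567 = n3567 := d14_1 D3567 (iv D3567) F12326
theorem F17302 : act 2 n3567 = n3567 := d21_1 D3567 (iv D3567) F12327
theorem F17303 : act 5 n3567 = n2498 := d36_1 D3567 (iv D2498) (iv F12328)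
theorem F17304 : act 8 n3567 = n3567 := d42_2 F12329 D3567 (iv D3567)
def n3568 : Q := act 3 n2499
theorem D3568 : act 3 n2499 = n3568 := rfl
theorem F17305 : act 0 n3568 = n2789 := d2_1 D3568 (iv D2789) (iv F12336)
theorem F17306 : act 1 n3568 = n3568 := d10_1 D3568 (iv D3568) F12337
theorem F17307 : act 7 n3568 = n2501 := d27_2 (iv F12339) D3568 (iv D2501)
theorem F17308 : act 8 n3568 = n2502 := d28_2 (iv F12340) D3568 (iv D2502)
def n3569 : Q := act 6 n2499
theorem D3569 : act 6 n2499 = n3569 := rfl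
theorem F17309 : act 0 n3569 = n2790 := d5_1 D3569 (iv D2790) (iv F12336)
theorem F17312 : act 4 n3569 = n2500 := d31_1 D3569 (iv D2500) D2499
def n3570 : Q := act 2 n2501
theorem D3570 : act 2 n2501 = n3570 := rfl
theorem F17315 : act 0 n3570 = n2791 := d1_1 D3570 (iv D2791) (iv F12347)
theorem F17316 : act 3 n3570 = n3570 := d17_2 D2501 D3570 (iv D3570) (iv D2501) F8787
theorem F17317 : act 6 n3570 = n3570 := d20_2 F12349 D3570 (iv D3570)
theorem F17318 : act 8 n3570 = n2504 := d22_2 (iv F12350) D3570 (iv D2504)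
def n3571 : Q := act 2 n2502
theorem D3571 : act 2 n2502 = n3571 := rfl
theorem F17319 : act 0 n3571 = n2792 := d1_1 D3571 (iv D2792) (iv F12351)
theorem F17320 : act 3 n3571 = n3571 := d17_2 D2502 D3571 (iv D3571) (iv D2502) F8792
theorem F17321 : act 5 n3571 = n3571 := d19_2 F12353 D3571 (iv D3571)
theorem F17322 : act 7 n3571 = n2504 := d21_2 (iv F12354) D3571 (iv D2504)
theorem F17323 : act 9 n3571 = n3571 := d23_2 F12355 D3571 (iv D3571)
def n3573 : Q := act 5 n2503
theorem D3573 : act 5 n2503 = n3573 := rfl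
theorem F17329 : act 0 n3573 = n2794 := d4_1 D3573 (iv D2794) (iv F12356)
theorem F17332 : act 4 n3573 = n2507 := d30_1 D3573 (iv D2507) F8816 (iv F8799) (iv F12359)
def n3574 : Q := act 1 n2504
theorem D3574 : act 1 n2504 = n3574 := rfl
theorem F17336 : act 2 n3574 = n3574 := d9_2 D2504 D3574 (iv D3574) (iv D2504) F8803
theorem F17337 : act 3 n3574 = n3574 := d10_2 F12363 D3574 (iv D3574)
theorem F17338 : act 5 n3574 = n3574 := d12_2 F12364 D3574 (iv D3574)
theorem F17339 : act 6 n3574 = n3574 := d13_2 F12365 D3574 (iv D3574)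
theorem F17340 : act 9 n3574 = n3574 := d16_2 F12366 D3574 (iv D3574)
def n3580 : Q := act 5 n2509
theorem D3580 : act 5 n2509 = n3580 := rfl
theorem F17372 : act 0 n3580 = n2510 := d4_1 D3580 (iv D2510) (iv F12391)
theorem F17373 : act 1 n3580 = n2801 := d12_1 D3580 (iv D2801) (iv F12392)
theorem F17374 : act 2 n3580 = n3580 := d19_1 D3580 (iv D3580) F12393
theorem F17375 : act 3 n3580 = n3580 := d25_1 D3580 (iv D3580) F12394
theorem F17376 : act 7 n3580 = n3580 := d36_2 F12397 D3580 (iv D3580)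
theorem F17377 : act 9 n3580 = n3580 := d38_2 F12398 D3580 (iv D3580)
def n3581 : Q := act 4 n2510
theorem D3581 : act 4 n2510 = n3581 := rfl
theorem F17378 : act 1 n3581 = n2511 := d11_1 D3581 (iv D2511) (iv F12399)
theorem F17379 : act 2 n3581 = n3581 := d18_1 D3581 (iv D3581) F12400
theorem F17380 : act 5 n3581 = n3581 := d30_2 D2510 D3581 (iv D3581) (iv D2510) F8836
theorem F17381 : act 7 n3581 = n3581 := d32_2 F12402 D3581 (iv D3581)
theorem F17382 : act 9 n3581 = n3581 := d34_2 F12403 D3581 (iv D3581)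
def n3582 : Q := act 6 n2510
theorem D3582 : act 6 n2510 = n3582 := rfl
theorem F17383 : act 1 n3582 = n2512 := d13_1 D3582 (iv D2512) (iv F12399)
theorem F17384 : act 2 n3582 = n3582 := d20_1 D3582 (iv D3582) F12400
theorem F17385 : act 3 n3582 = n3582 := d26_1 D3582 (iv D3582) F12401
theorem F17386 : act 5 n3582 = n3582 := d35_1 D3582 (iv D3582) (iv D2510) F8837 D2510
theorem F17387 : act 9 n3582 = n3582 := d41_2 F12403 D3582 (iv D3582)
def n3583 : Q := act 3 n2511
theorem D3583 : act 3 n2511 = n3583 := rfl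
theorem F17388 : act 0 n3583 = n2804 := d2_1 D3583 (iv D2804) (iv F12404)
theorem F17389 : act 2 n3583 = n3583 := d17_1 D3583 (iv D3583) F12405 F8847 (iv F12405)
theorem F17390 : act 4 n3583 = n3583 := d24_2 D2511 D3583 (iv D3583) (iv D2511) F8842
theorem F17391 : act 5 n3583 = n3583 := d25_2 F12406 D3583 (iv D3583)
theorem F17392 : act 7 n3583 = n3583 := d27_2 F12407 D3583 (iv D3583)
theorem F17393 : act 9 n3583 = n3583 := d29_2 F12408 D3583 (iv D3583)
def n3584 : Q := act 6 n2511
theorem D3584 : act 6 n2511 = n3584 := rfl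
theorem F17394 : act 0 n3584 = n2805 := d5_1 D3584 (iv D2805) (iv F12404)
theorem F17395 : act 2 n3584 = n2513 := d20_1 D3584 (iv D2513) (iv F12405)
theorem F17396 : act 4 n3584 = n2512 := d31_1 D3584 (iv D2512) D2511
theorem F17397 : act 9 n3584 = n3584 := d41_2 F12408 D3584 (iv D3584)
def n3585 : Q := act 7 n2512
theorem D3585 : act 7 n2512 = n3585 := rfl
theorem F17398 : act 0 n3585 = n2806 := d6_1 D3585 (iv D2806) (iv F12409)
theorem F17399 : act 2 n3585 = n2514 := d21_1 D3585 (iv D2514) (iv F12410)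
theorem F17400 : act 3 n3585 = n3585 := d27_1 D3585 (iv D3585) F12411
theorem F17401 : act 5 n3585 = n3585 := d36_1 D3585 (iv D3585) F12412
theorem F17402 : act 6 n3585 = n3585 := d39_1 D3585 (iv D3585) (iv D2512) F8843 D2512
theorem F17403 : act 9 n3585 = n3585 := d43_2 F12413 D3585 (iv D3585)
def n3586 : Q := act 5 n2513
theorem D3586 : act 5 n2513 = n3586 := rfl
theorem F17404 : act 0 n3586 = n2807 := d4_1 D3586 (iv D2807) (iv F12414)
theorem F17405 : act 1 n3586 = n3586 := d12_1 D3586 (iv D3586) F12415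
theorem F17406 : act 3 n3586 = n3586 := d25_1 D3586 (iv D3586) F12416
theorem F17407 : act 4 n3586 = n3586 := d30_1 D3586 (iv D3586) F12417 F8854 (iv F12417)
theorem F17408 : act 6 n3586 = n3586 := d35_2 D2513 D3586 (iv D3586) (iv D2513) F8848
theorem F17409 : act 9 n3586 = n3586 := d38_2 F12418 D3586 (iv D3586)
def n3587 : Q := act 7 n2513
theorem D3587 : act 7 n2513 = n3587 := rfl
theorem F17410 : act 0 n3587 = n2808 := d6_1 D3587 (iv D2808) (iv F12414)
theorem F17411 : act 1 n3587 = n3587 := d14_1 D3587 (iv D3587) F12415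
theorem F17412 : act 3 n3587 = n3587 := d27_1 D3587 (iv D3587) F12416
theorem F17413 : act 4 n3587 = n2514 := d32_1 D3587 (iv D2514) (iv F12417)
theorem F17414 : act 6 n3587 = n3587 := d39_1 D3587 (iv D3587) (iv D2513) F8849 D2513
theorem F17415 : act 9 n3587 = n3587 := d43_2 F12418 D3587 (iv D3587)
def n3588 : Q := act 2 n2515
theorem D3588 : act 2 n2515 = n3588 := rfl
theorem F17416 : act 3 n3588 = n3588 := d17_2 D2515 D3588 (iv D3588) (iv D2515) F8864
theorem F17417 : act 4 n3588 = n2521 := d18_2 (iv F12426) D3588 (iv D2521)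
theorem F17418 : act 5 n3588 = n3588 := d19_2 F12427 D3588 (iv D3588)
theorem F17419 : act 7 n3588 = n3588 := d21_2 F12428 D3588 (iv D3588)
theorem F17420 : act 8 n3588 = n3588 := d22_2 F12429 D3588 (iv D3588)
def n3589 : Q := act 6 n2515
theorem D3589 : act 6 n2515 = n3589 := rfl
theorem F17421 : act 1 n3589 = n3589 := d13_1 D3589 (iv D3589) F12425
theorem F17422 : act 3 n3589 = n2516 := d26_1 D3589 (iv D2516) D2515
theorem F17423 : act 4 n3589 = n2522 := d31_1 D3589 (iv D2522) (iv F12426)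
theorem F17424 : act 8 n3589 = n3589 := d40_2 F12429 D3589 (iv D3589)
def n3590 : Q := act 9 n2515
theorem D3590 : act 9 n2515 = n3590 := rfl
theorem F17425 : act 1 n3590 = n3590 := d16_1 D3590 (iv D3590) F12425
theorem F17426 : act 3 n3590 = n2517 := d29_1 D3590 (iv D2517) D2515
theorem F17427 : act 4 n3590 = n2523 := d34_1 D3590 (iv D2523) (iv F12426)
theorem F17428 : act 5 n3590 = n3590 := d38_1 D3590 (iv D3590) F12427
theorem F17429 : act 7 n3590 = n3590 := d43_1 D3590 (iv D3590) F12428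
def n3591 : Q := act 5 n2516
theorem D3591 : act 5 n2516 = n3591 := rfl
def n3592 : Q := act 7 n2516
theorem D3592 : act 7 n2516 = n3592 := rfl
theorem F17436 : act 4 n3592 = n2518 := d32_1 D3592 (iv D2518) (iv F12432)
def n3593 : Q := act 9 n2516
theorem D3593 : act 9 n2516 = n3593 := rfl
theorem F17439 : act 1 n3593 = n3593 := d16_1 D3593 (iv D3593) F12430
theorem F17440 : act 2 n3593 = n3593 := d23_1 D3593 (iv D3593) F12431
theorem F17441 : act 4 n3593 = n2519 := d34_1 D3593 (iv D2519) (iv F12432)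
theorem F17442 : act 6 n3593 = n2517 := d41_1 D3593 (iv D2517) D2516
def n3594 : Q := act 8 n2517
theorem D3594 : act 8 n2517 = n3594 := rfl
theorem F17443 : act 1 n3594 = n3594 := d15_1 D3594 (iv D3594) F12434
theorem F17444 : act 2 n3594 = n3594 := d22_1 D3594 (iv D3594) F12435
theorem F17445 : act 4 n3594 = n2520 := d33_1 D3594 (iv D2520) (iv F12436)
theorem F17446 : act 7 n3594 = n3594 := d42_1 D3594 (iv D3594) F12438
theorem F17447 : act 9 n3594 = n3594 := d44_2 D2517 D3594 (iv D3594) (iv D2517) F8867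
def n3595 : Q := act 9 n2518
theorem D3595 : act 9 n2518 = n3595 := rfl
theorem F17448 : act 1 n3595 = n3595 := d16_1 D3595 (iv D3595) F12439
theorem F17449 : act 2 n3595 = n3595 := d23_1 D3595 (iv D3595) F12440
theorem F17450 : act 3 n3595 = n2528 := d29_1 D3595 (iv D2528) (iv F12441)
theorem F17451 : act 5 n3595 = n3595 := d38_1 D3595 (iv D3595) F12442
theorem F17452 : act 6 n3595 = n3595 := d41_1 D3595 (iv D3595) F12443
theorem F17453 : act 7 n3595 = n2519 := d43_1 D3595 (iv D2519) D2518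
def n3596 : Q := act 8 n2519
theorem D3596 : act 8 n2519 = n3596 := rfl
theorem F17454 : act 1 n3596 = n3596 := d15_1 D3596 (iv D3596) F12445
theorem F17455 : act 2 n3596 = n3596 := d22_1 D3596 (iv D3596) F12446
theorem F17456 : act 3 n3596 = n2529 := d28_1 D3596 (iv D2529) (iv F12447)
theorem F17457 : act 6 n3596 = n2520 := d40_1 D3596 (iv D2520) (iv F12449)
theorem F17458 : act 9 n3596 = n3596 := d44_2 D2519 D3596 (iv D3596) (iv D2519) F8872
def n3597 : Q := act 1 n2521
theorem D3597 : act 1 n2521 = n3597 := rfl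
theorem F17459 : act 2 n3597 = n3597 := d9_2 D2521 D3597 (iv D3597) (iv D2521) F8878
theorem F17460 : act 3 n3597 = n2627 := d10_2 (iv F12456) D3597 (iv D2627)
theorem F17461 : act 5 n3597 = n2530 := d12_2 (iv F12457) D3597 (iv D2530)
theorem F17462 : act 7 n3597 = n3597 := d14_2 F12458 D3597 (iv D3597)
theorem F17463 : act 8 n3597 = n3597 := d15_2 F12459 D3597 (iv D3597)
def n3598 : Q := act 6 n2521
theorem D3598 : act 6 n2521 = n3598 := rfl
theorem F17464 : act 2 n3598 = n2522 := d20_1 D3598 (iv D2522) D2521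
theorem F17465 : act 3 n3598 = n2628 := d26_1 D3598 (iv D2628) (iv F12456)
theorem F17466 : act 8 n3598 = n3598 := d40_2 F12459 D3598 (iv D3598)
def n3599 : Q := act 9 n2521
theorem D3599 : act 9 n2521 = n3599 := rfl
theorem F17467 : act 2 n3599 = n2523 := d23_1 D3599 (iv D2523) D2521
theorem F17468 : act 3 n3599 = n2629 := d29_1 D3599 (iv D2629) (iv F12456)
theorem F17469 : act 5 n3599 = n2532 := d38_1 D3599 (iv D2532) (iv F12457)
theorem F17470 : act 7 n3599 = n3599 := d43_1 D3599 (iv D3599) F12458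
def n3600 : Q := act 5 n2522
theorem D3600 : act 5 n2522 = n3600 := rfl
theorem F17471 : act 1 n3600 = n3600 := d12_1 D3600 (iv D3600) F12460
theorem F17472 : act 3 n3600 = n2524 := d25_1 D3600 (iv D2524) (iv F12461)
theorem F17473 : act 6 n3600 = n2533 := d35_2 D2522 D3600 (iv D2533) (iv D1771) (iv F8879)
def n3601 : Q := act 7 n2522
theorem D3601 : act 7 n2522 = n3601 := rfl
theorem F17474 : act 1 n3601 = n3601 := d14_1 D3601 (iv D3601) F12460
theorem F17475 : act 3 n3601 = n2525 := d27_1 D3601 (iv D2525) (iv F12461)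
theorem F17476 : act 6 n3601 = n3601 := d39_1 D3601 (iv D3601) (iv D2522) F8880 D2522
theorem F17477 : act 8 n3601 = n3601 := d42_2 F12462 D3601 (iv D3601)
def n3602 : Q := act 9 n2522
theorem D3602 : act 9 n2522 = n3602 := rfl
theorem F17478 : act 1 n3602 = n3602 := d16_1 D3602 (iv D3602) F12460
theorem F17479 : act 3 n3602 = n2526 := d29_1 D3602 (iv D2526) (iv F12461)
theorem F17480 : act 6 n3602 = n2523 := d41_1 D3602 (iv D2523) D2522
def n3603 : Q := act 8 n2523
theorem D3603 : act 8 n2523 = n3603 := rfl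
theorem F17481 : act 1 n3603 = n3603 := d15_1 D3603 (iv D3603) F12463
theorem F17482 : act 3 n3603 = n2527 := d28_1 D3603 (iv D2527) (iv F12464)
theorem F17483 : act 7 n3603 = n3603 := d42_1 D3603 (iv D3603) F12466
theorem F17484 : act 9 n3603 = n3603 := d44_2 D2523 D3603 (iv D3603) (iv D2523) F8881
def n3604 : Q := act 7 n2524
theorem D3604 : act 7 n2524 = n3604 := rfl
theorem F17485 : act 1 n3604 = n3604 := d14_1 D3604 (iv D3604) F12467
theorem F17486 : act 2 n3604 = n2634 := d21_1 D3604 (iv D2634) (iv F12468)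
theorem F17487 : act 4 n3604 = n3604 := d32_1 D3604 (iv D3604) F12469
theorem F17488 : act 5 n3604 = n2525 := d36_1 D3604 (iv D2525) D2524
def n3605 : Q := act 8 n2524
theorem D3605 : act 8 n2524 = n3605 := rfl
theorem F17490 : act 2 n3605 = n2635 := d22_1 D3605 (iv D2635) (iv F12468)
theorem F17493 : act 6 n3605 = n2538 := d40_1 D3605 (iv D2538) (iv F12470)
def n3606 : Q := act 9 n2524
theorem D3606 : act 9 n2524 = n3606 := rfl
theorem F17494 : act 1 n3606 = n3606 := d16_1 D3606 (iv D3606) F12467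
theorem F17495 : act 2 n3606 = n2636 := d23_1 D3606 (iv D2636) (iv F12468)
theorem F17496 : act 4 n3606 = n3606 := d34_1 D3606 (iv D3606) F12469
theorem F17497 : act 5 n3606 = n2526 := d38_1 D3606 (iv D2526) D2524
theorem F17498 : act 6 n3606 = n2539 := d41_1 D3606 (iv D2539) (iv F12470)
def n3607 : Q := act 9 n2525
theorem D3607 : act 9 n2525 = n3607 := rfl
theorem F17499 : act 1 n3607 = n3607 := d16_1 D3607 (iv D3607) F12471
theorem F17500 : act 2 n3607 = n2637 := d23_1 D3607 (iv D2637) (iv F12472)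
theorem F17501 : act 4 n3607 = n2528 := d34_1 D3607 (iv D2528) (iv F12473)
theorem F17502 : act 6 n3607 = n3607 := d41_1 D3607 (iv D3607) F12474
theorem F17503 : act 7 n3607 = n2526 := d43_1 D3607 (iv D2526) D2525
def n3608 : Q := act 8 n2526
theorem D3608 : act 8 n2526 = n3608 := rfl
theorem F17504 : act 1 n3608 = n3608 := d15_1 D3608 (iv D3608) F12476
theorem F17505 : act 2 n3608 = n2638 := d22_1 D3608 (iv D2638) (iv F12477)
theorem F17506 : act 4 n3608 = n2529 := d33_1 D3608 (iv D2529) (iv F12478)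
theorem F17507 : act 6 n3608 = n2527 := d40_1 D3608 (iv D2527) (iv F12479)
theorem F17508 : act 9 n3608 = n3608 := d44_2 D2526 D3608 (iv D3608) (iv D2526) F8885
def n3609 : Q := act 5 n2527
theorem D3609 : act 5 n2527 = n3609 := rfl
theorem F17509 : act 1 n3609 = n3609 := d12_1 D3609 (iv D3609) F12480
theorem F17510 : act 2 n3609 = n2639 := d19_1 D3609 (iv D2639) (iv F12481)
theorem F17511 : act 4 n3609 = n3609 := d30_1 D3609 (iv D3609) F12482 F8902 (iv F12482)
theorem F17512 : act 7 n3609 = n3609 := d36_2 F12483 D3609 (iv D3609)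
theorem F17513 : act 8 n3609 = n2542 := d37_2 D2527 D3609 (iv D2542) (iv D1776) (iv F8889)
theorem F17514 : act 9 n3609 = n3609 := d38_2 F12484 D3609 (iv D3609)
def n3610 : Q := act 8 n2528
theorem D3610 : act 8 n2528 = n3610 := rfl
theorem F17515 : act 1 n3610 = n3610 := d15_1 D3610 (iv D3610) F12485
theorem F17516 : act 2 n3610 = n2640 := d22_1 D3610 (iv D2640) (iv F12486)
theorem F17517 : act 6 n3610 = n3610 := d40_1 D3610 (iv D3610) F12488
theorem F17518 : act 7 n3610 = n2529 := d42_1 D3610 (iv D2529) (iv F12489)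
theorem F17519 : act 9 n3610 = n3610 := d44_2 D2528 D3610 (iv D3610) (iv D2528) F8895
def n3611 : Q := act 5 n2529
theorem D3611 : act 5 n2529 = n3611 := rfl
theorem F17520 : act 1 n3611 = n3611 := d12_1 D3611 (iv D3611) F12490
theorem F17521 : act 2 n3611 = n2641 := d19_1 D3611 (iv D2641) (iv F12491)
theorem F17522 : act 6 n3611 = n3611 := d35_2 (iv F12492) D3611 (iv D3611) F12492 F8902
theorem F17523 : act 8 n3611 = n3611 := d37_2 D2529 D3611 (iv D3611) (iv D2529) F8898
theorem F17524 : act 9 n3611 = n3611 := d38_2 F12493 D3611 (iv D3611)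
def n3612 : Q := act 0 n2530
theorem D3612 : act 0 n2530 = n3612 := rfl
theorem F17525 : act 2 n3612 = n3612 := d1_2 F12494 D3612 (iv D3612)
theorem F17526 : act 3 n3612 = n2642 := d2_2 (iv F12495) D3612 (iv D2642)
theorem F17527 : act 4 n3612 = n3612 := d3_2 F12496 D3612 (iv D3612)
theorem F17528 : act 7 n3612 = n3612 := d6_2 F12497 D3612 (iv D3612)
theorem F17529 : act 8 n3612 = n2545 := d7_2 (iv F12498) D3612 (iv D2545)
def n3613 : Q := act 6 n2530
theorem D3613 : act 6 n2530 = n3613 := rfl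
theorem F17530 : act 1 n3613 = n2531 := d13_1 D3613 (iv D2531) D2530
theorem F17531 : act 2 n3613 = n3613 := d20_1 D3613 (iv D3613) F12494
theorem F17532 : act 3 n3613 = n2643 := d26_1 D3613 (iv D2643) (iv F12495)
theorem F17533 : act 4 n3613 = n3613 := d31_1 D3613 (iv D3613) F12496
theorem F17534 : act 8 n3613 = n2546 := d40_2 (iv F12498) D3613 (iv D2546)
def n3614 : Q := act 9 n2530
theorem D3614 : act 9 n2530 = n3614 := rfl
theorem F17535 : act 1 n3614 = n2532 := d16_1 D3614 (iv D2532) D2530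
theorem F17536 : act 2 n3614 = n3614 := d23_1 D3614 (iv D3614) F12494
theorem F17537 : act 3 n3614 = n2644 := d29_1 D3614 (iv D2644) (iv F12495)
theorem F17538 : act 4 n3614 = n3614 := d34_1 D3614 (iv D3614) F12496
theorem F17539 : act 7 n3614 = n3614 := d43_1 D3614 (iv D3614) F12497
def n3615 : Q := act 5 n2531
theorem D3615 : act 5 n2531 = n3615 := rfl
theorem F17540 : act 2 n3615 = n2533 := d19_1 D3615 (iv D2533) (iv F12499)
theorem F17541 : act 3 n3615 = n2645 := d25_1 D3615 (iv D2645) (iv F12500)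
def n3616 : Q := act 7 n2531
theorem D3616 : act 7 n2531 = n3616 := rfl
theorem F17543 : act 3 n3616 = n2646 := d27_1 D3616 (iv D2646) (iv F12500)
theorem F17546 : act 8 n3616 = n2549 := d42_2 (iv F12502) D3616 (iv D2549)
def n3617 : Q := act 9 n2531
theorem D3617 : act 9 n2531 = n3617 := rfl
theorem F17547 : act 2 n3617 = n2535 := d23_1 D3617 (iv D2535) (iv F12499)
theorem F17548 : act 3 n3617 = n2647 := d29_1 D3617 (iv D2647) (iv F12500)
theorem F17549 : act 4 n3617 = n3617 := d34_1 D3617 (iv D3617) F12501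
theorem F17550 : act 6 n3617 = n2532 := d41_1 D3617 (iv D2532) D2531
def n3618 : Q := act 8 n2532
theorem D3618 : act 8 n2532 = n3618 := rfl
theorem F17551 : act 2 n3618 = n2536 := d22_1 D3618 (iv D2536) (iv F12503)
theorem F17552 : act 3 n3618 = n2648 := d28_1 D3618 (iv D2648) (iv F12504)
theorem F17553 : act 4 n3618 = n3618 := d33_1 D3618 (iv D3618) F12505
theorem F17554 : act 7 n3618 = n3618 := d42_1 D3618 (iv D3618) F12506
theorem F17555 : act 9 n3618 = n2551 := d44_2 D2532 D3618 (iv D2551) (iv D1781) (iv F8908)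
def n3619 : Q := act 4 n2533
theorem D3619 : act 4 n2533 = n3619 := rfl
theorem F17556 : act 1 n3619 = n3619 := d11_1 D3619 (iv D3619) F12507
theorem F17557 : act 3 n3619 = n3619 := d24_1 D3619 (iv D3619) F12508 F8919 (iv F12508)
theorem F17558 : act 5 n3619 = n3619 := d30_2 D2533 D3619 (iv D3619) (iv D2533) F8911
def n3620 : Q := act 7 n2533
theorem D3620 : act 7 n2533 = n3620 := rfl
theorem F17560 : act 3 n3620 = n2537 := d27_1 D3620 (iv D2537) (iv F12508)
def n3621 : Q := act 8 n2533
theorem D3621 : act 8 n2533 = n3621 := rfl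
theorem F17564 : act 5 n3621 = n2554 := d37_1 D3621 (iv D2554) (iv D1782) (iv F8912) D2533
def n3622 : Q := act 9 n2533
theorem D3622 : act 9 n2533 = n3622 := rfl
theorem F17565 : act 1 n3622 = n3622 := d16_1 D3622 (iv D3622) F12507
theorem F17566 : act 3 n3622 = n2539 := d29_1 D3622 (iv D2539) (iv F12508)
theorem F17567 : act 5 n3622 = n2535 := d38_1 D3622 (iv D2535) D2533
def n3623 : Q := act 9 n2534
theorem D3623 : act 9 n2534 = n3623 := rfl
theorem F17572 : act 7 n3623 = n2535 := d43_1 D3623 (iv D2535) D2534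
def n3624 : Q := act 8 n2535
theorem D3624 : act 8 n2535 = n3624 := rfl
theorem F17573 : act 1 n3624 = n3624 := d15_1 D3624 (iv D3624) F12514
theorem F17574 : act 3 n3624 = n2541 := d28_1 D3624 (iv D2541) (iv F12515)
theorem F17575 : act 4 n3624 = n3624 := d33_1 D3624 (iv D3624) F12516
theorem F17576 : act 6 n3624 = n2536 := d40_1 D3624 (iv D2536) (iv F12517)
theorem F17577 : act 9 n3624 = n2557 := d44_2 D2535 D3624 (iv D2557) (iv D1784) (iv F8912)
def n3625 : Q := act 5 n2536
theorem D3625 : act 5 n2536 = n3625 := rfl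
theorem F17578 : act 1 n3625 = n3625 := d12_1 D3625 (iv D3625) F12518
theorem F17579 : act 3 n3625 = n2542 := d25_1 D3625 (iv D2542) (iv F12519)
theorem F17580 : act 7 n3625 = n3625 := d36_2 F12521 D3625 (iv D3625)
theorem F17581 : act 9 n3625 = n2558 := d38_2 (iv F12522) D3625 (iv D2558)
def n3626 : Q := act 6 n2537
theorem D3626 : act 6 n2537 = n3626 := rfl
theorem F17583 : act 2 n3626 = n2656 := d20_1 D3626 (iv D2656) (iv F12524)
def n3627 : Q := act 8 n2537
theorem D3627 : act 8 n2537 = n3627 := rfl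
theorem F17589 : act 5 n3627 = n2560 := d37_1 D3627 (iv D2560) F8976 (iv F8924) (iv F12526)
theorem F17590 : act 7 n3627 = n2538 := d42_1 D3627 (iv D2538) D2537
def n3628 : Q := act 9 n2537
theorem D3628 : act 9 n2537 = n3628 := rfl
theorem F17592 : act 2 n3628 = n2658 := d23_1 D3628 (iv D2658) (iv F12524)
theorem F17595 : act 7 n3628 = n2539 := d43_1 D3628 (iv D2539) D2537
def n3629 : Q := act 9 n2538
theorem D3629 : act 9 n2538 = n3629 := rfl
theorem F17597 : act 2 n3629 = n2659 := d23_1 D3629 (iv D2659) (iv F12528)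
def n3630 : Q := act 8 n2539
theorem D3630 : act 8 n2539 = n3630 := rfl
theorem F17600 : act 1 n3630 = n3630 := d15_1 D3630 (iv D3630) F12531
theorem F17601 : act 2 n3630 = n2660 := d22_1 D3630 (iv D2660) (iv F12532)
theorem F17602 : act 4 n3630 = n3630 := d33_1 D3630 (iv D3630) F12533
def n3631 : Q := act 8 n2540
theorem D3631 : act 8 n2540 = n3631 := rfl
theorem F17604 : act 2 n3631 = n2661 := d22_1 D3631 (iv D2661) (iv F12536)
theorem F17607 : act 7 n3631 = n2541 := d42_1 D3631 (iv D2541) (iv F12539)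
def n3632 : Q := act 5 n2541
theorem D3632 : act 5 n2541 = n3632 := rfl
theorem F17609 : act 1 n3632 = n3632 := d12_1 D3632 (iv D3632) F12540
theorem F17610 : act 2 n3632 = n2662 := d19_1 D3632 (iv D2662) (iv F12541)
theorem F17611 : act 9 n3632 = n2565 := d38_2 (iv F12544) D3632 (iv D2565)
def n3633 : Q := act 6 n2542
theorem D3633 : act 6 n2542 = n3633 := rfl
theorem F17612 : act 1 n3633 = n3633 := d13_1 D3633 (iv D3633) F12545
theorem F17613 : act 2 n3633 = n2663 := d20_1 D3633 (iv D2663) (iv F12546)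
theorem F17614 : act 4 n3633 = n3633 := d31_1 D3633 (iv D3633) F12547
theorem F17615 : act 9 n3633 = n2566 := d41_2 (iv F12549) D3633 (iv D2566)
def n3634 : Q := act 5 n2543
theorem D3634 : act 5 n2543 = n3634 := rfl
theorem F17617 : act 2 n3634 = n2664 := d19_1 D3634 (iv D2664) (iv F12551)
theorem F17619 : act 7 n3634 = n2544 := d36_2 (iv F12554) D3634 (iv D2544)
def n3635 : Q := act 4 n2544
theorem D3635 : act 4 n2544 = n3635 := rfl
theorem F17622 : act 1 n3635 = n3635 := d11_1 D3635 (iv D3635) F12556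
theorem F17623 : act 2 n3635 = n2665 := d18_1 D3635 (iv D2665) (iv F12557)
theorem F17624 : act 6 n3635 = n3635 := d31_2 F12559 D3635 (iv D3635)
theorem F17625 : act 8 n3635 = n3635 := d33_2 F12560 D3635 (iv D3635)
theorem F17626 : act 9 n3635 = n2568 := d34_2 (iv F12561) D3635 (iv D2568)
def n3636 : Q := act 6 n2545
theorem D3636 : act 6 n2545 = n3636 := rfl
theorem F17627 : act 0 n3636 = n2546 := d5_1 D3636 (iv D2546) D2545
theorem F17628 : act 2 n3636 = n3636 := d20_1 D3636 (iv D3636) F12562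
theorem F17629 : act 3 n3636 = n2666 := d26_1 D3636 (iv D2666) (iv F12563)
theorem F17630 : act 4 n3636 = n3636 := d31_1 D3636 (iv D3636) F12564
def n3637 : Q := act 9 n2545
theorem D3637 : act 9 n2545 = n3637 := rfl
theorem F17631 : act 0 n3637 = n2547 := d8_1 D3637 (iv D2547) D2545
theorem F17632 : act 2 n3637 = n3637 := d23_1 D3637 (iv D3637) F12562
theorem F17633 : act 3 n3637 = n2667 := d29_1 D3637 (iv D2667) (iv F12563)
theorem F17634 : act 4 n3637 = n3637 := d34_1 D3637 (iv D3637) F12564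
theorem F17635 : act 5 n3637 = n3637 := d38_1 D3637 (iv D3637) F12565
theorem F17636 : act 7 n3637 = n3637 := d43_1 D3637 (iv D3637) F12566
def n3638 : Q := act 5 n2546
theorem D3638 : act 5 n2546 = n3638 := rfl
theorem F17637 : act 1 n3638 = n2548 := d12_1 D3638 (iv D2548) (iv F12567)
theorem F17639 : act 3 n3638 = n2668 := d25_1 D3638 (iv D2668) (iv F12569)
def n3639 : Q := act 7 n2546
theorem D3639 : act 7 n2546 = n3639 := rfl
theorem F17641 : act 1 n3639 = n2549 := d14_1 D3639 (iv D2549) (iv F12567)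
theorem F17643 : act 3 n3639 = n2669 := d27_1 D3639 (iv D2669) (iv F12569)
def n3640 : Q := act 9 n2546
theorem D3640 : act 9 n2546 = n3640 := rfl
theorem F17646 : act 1 n3640 = n2550 := d16_1 D3640 (iv D2550) (iv F12567)
theorem F17647 : act 2 n3640 = n3640 := d23_1 D3640 (iv D3640) F12568
theorem F17648 : act 3 n3640 = n2670 := d29_1 D3640 (iv D2670) (iv F12569)
theorem F17649 : act 4 n3640 = n3640 := d34_1 D3640 (iv D3640) F12570
theorem F17650 : act 6 n3640 = n2547 := d41_1 D3640 (iv D2547) D2546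
def n3641 : Q := act 8 n2547
theorem D3641 : act 8 n2547 = n3641 := rfl
theorem F17651 : act 1 n3641 = n2551 := d15_1 D3641 (iv D2551) (iv F12571)
theorem F17652 : act 2 n3641 = n3641 := d22_1 D3641 (iv D3641) F12572
theorem F17653 : act 3 n3641 = n2671 := d28_1 D3641 (iv D2671) (iv F12573)
theorem F17654 : act 4 n3641 = n3641 := d33_1 D3641 (iv D3641) F12574
theorem F17655 : act 7 n3641 = n3641 := d42_1 D3641 (iv D3641) F12576
def n3643 : Q := act 7 n2548
theorem D3643 : act 7 n2548 = n3643 := rfl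
theorem F17660 : act 2 n3643 = n2553 := d21_1 D3643 (iv D2553) (iv F12577)
theorem F17662 : act 5 n3643 = n2549 := d36_1 D3643 (iv D2549) D2548
def n3644 : Q := act 8 n2548
theorem D3644 : act 8 n2548 = n3644 := rfl
theorem F17663 : act 2 n3644 = n2554 := d22_1 D3644 (iv D2554) (iv F12577)
theorem F17664 : act 3 n3644 = n2673 := d28_1 D3644 (iv D2673) (iv F12578)
def n3645 : Q := act 9 n2548
theorem D3645 : act 9 n2548 = n3645 := rfl
theorem F17667 : act 3 n3645 = n2674 := d29_1 D3645 (iv D2674) (iv F12578)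
theorem F17668 : act 5 n3645 = n2550 := d38_1 D3645 (iv D2550) D2548
def n3646 : Q := act 9 n2549
theorem D3646 : act 9 n2549 = n3646 := rfl
theorem F17671 : act 3 n3646 = n2675 := d29_1 D3646 (iv D2675) (iv F12581)
theorem F17674 : act 7 n3646 = n2550 := d43_1 D3646 (iv D2550) D2549
def n3647 : Q := act 8 n2550
theorem D3647 : act 8 n2550 = n3647 := rfl
theorem F17675 : act 2 n3647 = n2557 := d22_1 D3647 (iv D2557) (iv F12584)
theorem F17676 : act 3 n3647 = n2676 := d28_1 D3647 (iv D2676) (iv F12585)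
theorem F17677 : act 4 n3647 = n3647 := d33_1 D3647 (iv D3647) F12586
theorem F17678 : act 6 n3647 = n2551 := d40_1 D3647 (iv D2551) (iv F12587)
def n3648 : Q := act 5 n2551
theorem D3648 : act 5 n2551 = n3648 := rfl
theorem F17679 : act 2 n3648 = n2558 := d19_1 D3648 (iv D2558) (iv F12588)
theorem F17680 : act 3 n3648 = n2677 := d25_1 D3648 (iv D2677) (iv F12589)
theorem F17681 : act 7 n3648 = n3648 := d36_2 F12591 D3648 (iv D3648)
theorem F17682 : act 8 n3648 = n3648 := d37_2 D2551 D3648 (iv D3648) (iv D2551) F8956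
def n3652 : Q := act 6 n2553
theorem D3652 : act 6 n2553 = n3652 := rfl
theorem F17697 : act 3 n3652 = n2559 := d26_1 D3652 (iv D2559) (iv F12597)
def n3653 : Q := act 8 n2553
theorem D3653 : act 8 n2553 = n3653 := rfl
theorem F17701 : act 3 n3653 = n2560 := d28_1 D3653 (iv D2560) (iv F12597)
theorem F17702 : act 7 n3653 = n2554 := d42_1 D3653 (iv D2554) D2553
def n3657 : Q := act 8 n2556
theorem D3657 : act 8 n2556 = n3657 := rfl
theorem F17717 : act 7 n3657 = n2557 := d42_1 D3657 (iv D2557) (iv F12610)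
def n3658 : Q := act 5 n2557
theorem D3658 : act 5 n2557 = n3658 := rfl
theorem F17718 : act 1 n3658 = n3658 := d12_1 D3658 (iv D3658) F12611
theorem F17719 : act 3 n3658 = n2565 := d25_1 D3658 (iv D2565) (iv F12612)
def n3659 : Q := act 4 n2558
theorem D3659 : act 4 n2558 = n3659 := rfl
theorem F17720 : act 1 n3659 = n3659 := d11_1 D3659 (iv D3659) F12615
theorem F17721 : act 3 n3659 = n3659 := d24_1 D3659 (iv D3659) F12616 F8997 (iv F12616)
theorem F17722 : act 5 n3659 = n3659 := d30_2 D2558 D3659 (iv D3659) (iv D2558) F8971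
theorem F17723 : act 7 n3659 = n3659 := d32_2 F12617 D3659 (iv D3659)
theorem F17724 : act 8 n3659 = n3659 := d33_2 F12618 D3659 (iv D3659)
def n3660 : Q := act 6 n2558
theorem D3660 : act 6 n2558 = n3660 := rfl
theorem F17725 : act 1 n3660 = n3660 := d13_1 D3660 (iv D3660) F12615
theorem F17726 : act 3 n3660 = n2566 := d26_1 D3660 (iv D2566) (iv F12616)
theorem F17727 : act 8 n3660 = n3660 := d40_2 F12618 D3660 (iv D3660)
def n3661 : Q := act 8 n2559
theorem D3661 : act 8 n2559 = n3661 := rfl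
theorem F17730 : act 4 n3661 = n2581 := d33_1 D3661 (iv D2581) (iv F12621)
theorem F17731 : act 6 n3661 = n2560 := d40_1 D3661 (iv D2560) D2559
def n3665 : Q := act 8 n2562
theorem D3665 : act 8 n2562 = n3665 := rfl
theorem F17748 : act 2 n3665 = n2691 := d22_1 D3665 (iv D2691) (iv F12634)
def n3666 : Q := act 5 n2563
theorem D3666 : act 5 n2563 = n3666 := rfl
theorem F17753 : act 2 n3666 = n2692 := d19_1 D3666 (iv D2692) (iv F12638)
theorem F17754 : act 8 n3666 = n2565 := d37_2 D2563 D3666 (iv D2565) (iv D1790) (iv F8984)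
def n3667 : Q := act 5 n2564
theorem D3667 : act 5 n2564 = n3667 := rfl
theorem F17756 : act 2 n3667 = n2693 := d19_1 D3667 (iv D2693) (iv F12642)
theorem F17757 : act 7 n3667 = n2565 := d36_2 (iv F12645) D3667 (iv D2565)
def n3668 : Q := act 4 n2565
theorem D3668 : act 4 n2565 = n3668 := rfl
theorem F17758 : act 1 n3668 = n3668 := d11_1 D3668 (iv D3668) F12646
theorem F17759 : act 2 n3668 = n2694 := d18_1 D3668 (iv D2694) (iv F12647)
theorem F17760 : act 5 n3668 = n2568 := d30_2 D2565 D3668 (iv D2568) (iv D1793) (iv F8993)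
def n3669 : Q := act 6 n2565
theorem D3669 : act 6 n2565 = n3669 := rfl
theorem F17761 : act 1 n3669 = n3669 := d13_1 D3669 (iv D3669) F12646
theorem F17762 : act 2 n3669 = n2695 := d20_1 D3669 (iv D2695) (iv F12647)
theorem F17763 : act 5 n3669 = n2566 := d35_1 D3669 (iv D2566) (iv D1791) (iv F8994) D2565
def n3670 : Q := act 7 n2566
theorem D3670 : act 7 n2566 = n3670 := rfl
theorem F17764 : act 1 n3670 = n3670 := d14_1 D3670 (iv D3670) F12648
theorem F17765 : act 2 n3670 = n2696 := d21_1 D3670 (iv D2696) (iv F12649)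
theorem F17766 : act 4 n3670 = n3670 := d32_1 D3670 (iv D3670) F12650
theorem F17767 : act 6 n3670 = n3670 := d39_1 D3670 (iv D3670) (iv D2566) F8998 D2566
theorem F17768 : act 8 n3670 = n3670 := d42_2 F12651 D3670 (iv D3670)
def n3671 : Q := act 4 n2567
theorem D3671 : act 4 n2567 = n3671 := rfl
theorem F17770 : act 2 n3671 = n2697 := d18_1 D3671 (iv D2697) (iv F12653)
theorem F17771 : act 7 n3671 = n2568 := d32_2 (iv F12655) D3671 (iv D2568)
def n3672 : Q := act 6 n2567
theorem D3672 : act 6 n2567 = n3672 := rfl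
theorem F17774 : act 2 n3672 = n2698 := d20_1 D3672 (iv D2698) (iv F12653)
theorem F17777 : act 7 n3672 = n3672 := d39_2 (iv F12655) D3672 (iv D3672) F12655 F9008
def n3673 : Q := act 3 n2568
theorem D3673 : act 3 n2568 = n3673 := rfl
theorem F17779 : act 1 n3673 = n3673 := d10_1 D3673 (iv D3673) F12657
theorem F17780 : act 4 n3673 = n3673 := d24_2 D2568 D3673 (iv D3673) (iv D2568) F9007
theorem F17781 : act 6 n3673 = n3673 := d26_2 F12659 D3673 (iv D3673)
theorem F17782 : act 8 n3673 = n2593 := d28_2 (iv F12660) D3673 (iv D2593)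
def n3691 : Q := act 5 n2581
theorem D3691 : act 5 n2581 = n3691 := rfl
theorem F17867 : act 8 n3691 = n2611 := d37_2 D2581 D3691 (iv D2611) (iv D1823) (iv F9048)
def n3696 : Q := act 5 n2585
theorem D3696 : act 5 n2585 = n3696 := rfl
theorem F17885 : act 2 n3696 = n2705 := d19_1 D3696 (iv D2705) (iv F12738)
def n3697 : Q := act 4 n2586
theorem D3697 : act 4 n2586 = n3697 := rfl
theorem F17889 : act 2 n3697 = n2706 := d18_1 D3697 (iv D2706) (iv F12742)
def n3698 : Q := act 6 n2586
theorem D3698 : act 6 n2586 = n3698 := rfl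
theorem F17892 : act 2 n3698 = n2707 := d20_1 D3698 (iv D2707) (iv F12742)
def n3701 : Q := act 3 n2588
theorem D3701 : act 3 n2588 = n3701 := rfl
theorem F17905 : act 5 n3701 = n2593 := d25_2 (iv F12750) D3701 (iv D2593)
def n3702 : Q := act 6 n2588
theorem D3702 : act 6 n2588 = n3702 := rfl
theorem F17908 : act 2 n3702 = n2711 := d20_1 D3702 (iv D2711) (iv F12749)
theorem F17910 : act 5 n3702 = n3702 := d35_1 D3702 (iv D3702) F12750 F9086 (iv F12750)
def n3704 : Q := act 3 n2591
theorem D3704 : act 3 n2591 = n3704 := rfl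
theorem F17918 : act 7 n3704 = n2593 := d27_2 (iv F12764) D3704 (iv D2593)
def n3705 : Q := act 6 n2591
theorem D3705 : act 6 n2591 = n3705 := rfl
theorem F17921 : act 2 n3705 = n2714 := d20_1 D3705 (iv D2714) (iv F12763)
theorem F17923 : act 7 n3705 = n3705 := d39_2 (iv F12764) D3705 (iv D3705) F12764 F9086
def n3706 : Q := act 2 n2593
theorem D3706 : act 2 n2593 = n3706 := rfl
theorem F17925 : act 3 n3706 = n2715 := d17_2 D2593 D3706 (iv D2715) (iv D1895) (iv F9085)
theorem F17926 : act 4 n3706 = n3706 := d18_2 F12773 D3706 (iv D3706)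
theorem F17927 : act 6 n3706 = n3706 := d20_2 F12774 D3706 (iv D3706)
theorem F17928 : act 9 n3706 = n3706 := d23_2 F12775 D3706 (iv D3706)
def n3708 : Q := act 8 n2594
theorem D3708 : act 8 n2594 = n3708 := rfl
theorem F17937 : act 4 n3708 = n2600 := d33_1 D3708 (iv D2600) (iv F12779)
theorem F17938 : act 6 n3708 = n2595 := d40_1 D3708 (iv D2595) D2594
def n3717 : Q := act 5 n2600
theorem D3717 : act 5 n2600 = n3717 := rfl
theorem F17985 : act 3 n3717 = n2611 := d25_1 D3717 (iv D2611) (iv F12809)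
def n3732 : Q := act 4 n2611
theorem D3732 : act 4 n2611 = n3732 := rfl
theorem F18055 : act 2 n3732 = n2716 := d18_1 D3732 (iv D2716) (iv F12861)
def n3754 : Q := act 0 n2627
theorem D3754 : act 0 n2627 = n3754 := rfl
theorem F18152 : act 2 n3754 = n2809 := d1_2 (iv F12931) D3754 (iv D2809)
theorem F18153 : act 4 n3754 = n3754 := d3_2 F12932 D3754 (iv D3754)
theorem F18154 : act 5 n3754 = n2642 := d4_2 (iv F12933) D3754 (iv D2642)
theorem F18155 : act 7 n3754 = n3754 := d6_2 F12934 D3754 (iv D3754)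
theorem F18156 : act 8 n3754 = n3754 := d7_2 F12935 D3754 (iv D3754)
def n3755 : Q := act 6 n2627
theorem D3755 : act 6 n2627 = n3755 := rfl
theorem F18157 : act 1 n3755 = n2628 := d13_1 D3755 (iv D2628) D2627
theorem F18158 : act 2 n3755 = n2810 := d20_1 D3755 (iv D2810) (iv F12931)
theorem F18159 : act 4 n3755 = n3755 := d31_1 D3755 (iv D3755) F12932
theorem F18160 : act 8 n3755 = n3755 := d40_2 F12935 D3755 (iv D3755)
def n3756 : Q := act 9 n2627
theorem D3756 : act 9 n2627 = n3756 := rfl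
theorem F18161 : act 1 n3756 = n2629 := d16_1 D3756 (iv D2629) D2627
theorem F18162 : act 2 n3756 = n2811 := d23_1 D3756 (iv D2811) (iv F12931)
theorem F18163 : act 4 n3756 = n3756 := d34_1 D3756 (iv D3756) F12932
theorem F18164 : act 5 n3756 = n2644 := d38_1 D3756 (iv D2644) (iv F12933)
theorem F18165 : act 7 n3756 = n3756 := d43_1 D3756 (iv D3756) F12934
def n3757 : Q := act 5 n2628
theorem D3757 : act 5 n2628 = n3757 := rfl
theorem F18166 : act 2 n3757 = n2630 := d19_1 D3757 (iv D2630) (iv F12936)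
theorem F18167 : act 6 n3757 = n2645 := d35_2 D2628 D3757 (iv D2645) (iv D1846) (iv F9209)
def n3758 : Q := act 7 n2628
theorem D3758 : act 7 n2628 = n3758 := rfl
theorem F18168 : act 2 n3758 = n2631 := d21_1 D3758 (iv D2631) (iv F12936)
theorem F18169 : act 4 n3758 = n3758 := d32_1 D3758 (iv D3758) F12937
theorem F18170 : act 6 n3758 = n3758 := d39_1 D3758 (iv D3758) (iv D2628) F9210 D2628
theorem F18171 : act 8 n3758 = n3758 := d42_2 F12938 D3758 (iv D3758)
def n3759 : Q := act 9 n2628
theorem D3759 : act 9 n2628 = n3759 := rfl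
theorem F18172 : act 2 n3759 = n2632 := d23_1 D3759 (iv D2632) (iv F12936)
theorem F18173 : act 4 n3759 = n3759 := d34_1 D3759 (iv D3759) F12937
theorem F18174 : act 6 n3759 = n2629 := d41_1 D3759 (iv D2629) D2628
def n3760 : Q := act 8 n2629
theorem D3760 : act 8 n2629 = n3760 := rfl
theorem F18175 : act 2 n3760 = n2633 := d22_1 D3760 (iv D2633) (iv F12939)
theorem F18176 : act 4 n3760 = n3760 := d33_1 D3760 (iv D3760) F12940
theorem F18177 : act 7 n3760 = n3760 := d42_1 D3760 (iv D3760) F12942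
theorem F18178 : act 9 n3760 = n3760 := d44_2 D2629 D3760 (iv D3760) (iv D2629) F9211
def n3761 : Q := act 4 n2630
theorem D3761 : act 4 n2630 = n3761 := rfl
theorem F18179 : act 1 n3761 = n2816 := d11_1 D3761 (iv D2816) (iv F12943)
theorem F18180 : act 3 n3761 = n3761 := d24_1 D3761 (iv D3761) F12944 F9222 (iv F12944)
theorem F18181 : act 5 n3761 = n3761 := d30_2 D2630 D3761 (iv D3761) (iv D2630) F9214
theorem F18182 : act 6 n3761 = n2649 := d31_2 (iv F12945) D3761 (iv D2649)
def n3762 : Q := act 7 n2630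
theorem D3762 : act 7 n2630 = n3762 := rfl
theorem F18183 : act 1 n3762 = n2817 := d14_1 D3762 (iv D2817) (iv F12943)
theorem F18184 : act 3 n3762 = n2634 := d27_1 D3762 (iv D2634) (iv F12944)
theorem F18185 : act 5 n3762 = n2631 := d36_1 D3762 (iv D2631) D2630
def n3763 : Q := act 8 n2630
theorem D3763 : act 8 n2630 = n3763 := rfl
theorem F18186 : act 1 n3763 = n2818 := d15_1 D3763 (iv D2818) (iv F12943)
theorem F18187 : act 3 n3763 = n2635 := d28_1 D3763 (iv D2635) (iv F12944)
theorem F18188 : act 5 n3763 = n3763 := d37_1 D3763 (iv D3763) (iv D2630) F9215 D2630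
theorem F18189 : act 6 n3763 = n2651 := d40_1 D3763 (iv D2651) (iv F12945)
def n3764 : Q := act 9 n2630
theorem D3764 : act 9 n2630 = n3764 := rfl
theorem F18190 : act 1 n3764 = n2819 := d16_1 D3764 (iv D2819) (iv F12943)
theorem F18191 : act 3 n3764 = n2636 := d29_1 D3764 (iv D2636) (iv F12944)
theorem F18192 : act 5 n3764 = n2632 := d38_1 D3764 (iv D2632) D2630
theorem F18193 : act 6 n3764 = n2652 := d41_1 D3764 (iv D2652) (iv F12945)
def n3765 : Q := act 9 n2631
theorem D3765 : act 9 n2631 = n3765 := rfl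
theorem F18194 : act 1 n3765 = n2820 := d16_1 D3765 (iv D2820) (iv F12946)
theorem F18195 : act 3 n3765 = n2637 := d29_1 D3765 (iv D2637) (iv F12947)
theorem F18196 : act 4 n3765 = n3765 := d34_1 D3765 (iv D3765) F12948
theorem F18197 : act 6 n3765 = n3765 := d41_1 D3765 (iv D3765) F12949
theorem F18198 : act 7 n3765 = n2632 := d43_1 D3765 (iv D2632) D2631
def n3766 : Q := act 8 n2632
theorem D3766 : act 8 n2632 = n3766 := rfl
theorem F18199 : act 1 n3766 = n2821 := d15_1 D3766 (iv D2821) (iv F12951)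
theorem F18200 : act 3 n3766 = n2638 := d28_1 D3766 (iv D2638) (iv F12952)
theorem F18201 : act 4 n3766 = n3766 := d33_1 D3766 (iv D3766) F12953
theorem F18202 : act 6 n3766 = n2633 := d40_1 D3766 (iv D2633) (iv F12954)
theorem F18203 : act 9 n3766 = n3766 := d44_2 D2632 D3766 (iv D3766) (iv D2632) F9215
def n3767 : Q := act 5 n2633
theorem D3767 : act 5 n2633 = n3767 := rfl
theorem F18204 : act 1 n3767 = n2822 := d12_1 D3767 (iv D2822) (iv F12955)
theorem F18205 : act 3 n3767 = n2639 := d25_1 D3767 (iv D2639) (iv F12956)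
theorem F18206 : act 7 n3767 = n3767 := d36_2 F12958 D3767 (iv D3767)
theorem F18207 : act 8 n3767 = n2655 := d37_2 D2633 D3767 (iv D2655) (iv D1851) (iv F9219)
theorem F18208 : act 9 n3767 = n3767 := d38_2 F12959 D3767 (iv D3767)
def n3768 : Q := act 6 n2634
theorem D3768 : act 6 n2634 = n3768 := rfl
theorem F18209 : act 1 n3768 = n2823 := d13_1 D3768 (iv D2823) (iv F12960)
theorem F18210 : act 4 n3768 = n3768 := d31_1 D3768 (iv D3768) F12961
theorem F18211 : act 5 n3768 = n3768 := d35_1 D3768 (iv D3768) F12962 F9226 (iv F12962)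
theorem F18212 : act 7 n3768 = n2656 := d39_2 D2634 D3768 (iv D2656) (iv D1852) (iv F9223)
def n3769 : Q := act 8 n2634
theorem D3769 : act 8 n2634 = n3769 := rfl
theorem F18213 : act 1 n3769 = n2824 := d15_1 D3769 (iv D2824) (iv F12960)
theorem F18214 : act 4 n3769 = n3769 := d33_1 D3769 (iv D3769) F12961
theorem F18215 : act 5 n3769 = n3769 := d37_1 D3769 (iv D3769) F12962 F9227 (iv F12962)
theorem F18216 : act 7 n3769 = n2635 := d42_1 D3769 (iv D2635) D2634
def n3770 : Q := act 9 n2634
theorem D3770 : act 9 n2634 = n3770 := rfl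
theorem F18217 : act 1 n3770 = n2825 := d16_1 D3770 (iv D2825) (iv F12960)
theorem F18218 : act 4 n3770 = n3770 := d34_1 D3770 (iv D3770) F12961
theorem F18219 : act 5 n3770 = n2637 := d38_1 D3770 (iv D2637) (iv F12962)
theorem F18220 : act 7 n3770 = n2636 := d43_1 D3770 (iv D2636) D2634
def n3771 : Q := act 9 n2635
theorem D3771 : act 9 n2635 = n3771 := rfl
theorem F18221 : act 1 n3771 = n2826 := d16_1 D3771 (iv D2826) (iv F12963)
theorem F18222 : act 4 n3771 = n3771 := d34_1 D3771 (iv D3771) F12964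
theorem F18223 : act 5 n3771 = n3771 := d38_1 D3771 (iv D3771) F12965
theorem F18224 : act 6 n3771 = n2659 := d41_1 D3771 (iv D2659) (iv F12966)
def n3772 : Q := act 8 n2636
theorem D3772 : act 8 n2636 = n3772 := rfl
theorem F18225 : act 1 n3772 = n2827 := d15_1 D3772 (iv D2827) (iv F12967)
theorem F18226 : act 4 n3772 = n3772 := d33_1 D3772 (iv D3772) F12968
theorem F18227 : act 6 n3772 = n2660 := d40_1 D3772 (iv D2660) (iv F12970)
def n3773 : Q := act 8 n2637
theorem D3773 : act 8 n2637 = n3773 := rfl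
theorem F18228 : act 1 n3773 = n2828 := d15_1 D3773 (iv D2828) (iv F12971)
theorem F18229 : act 4 n3773 = n2640 := d33_1 D3773 (iv D2640) (iv F12972)
theorem F18230 : act 6 n3773 = n3773 := d40_1 D3773 (iv D3773) F12973
theorem F18231 : act 7 n3773 = n2638 := d42_1 D3773 (iv D2638) (iv F12974)
theorem F18232 : act 9 n3773 = n3773 := d44_2 D2637 D3773 (iv D3773) (iv D2637) F9227
def n3774 : Q := act 5 n2638
theorem D3774 : act 5 n2638 = n3774 := rfl
theorem F18233 : act 1 n3774 = n2829 := d12_1 D3774 (iv D2829) (iv F12975)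
theorem F18234 : act 9 n3774 = n3774 := d38_2 F12978 D3774 (iv D3774)
def n3775 : Q := act 6 n2639
theorem D3775 : act 6 n2639 = n3775 := rfl
theorem F18235 : act 1 n3775 = n2830 := d13_1 D3775 (iv D2830) (iv F12979)
theorem F18236 : act 4 n3775 = n3775 := d31_1 D3775 (iv D3775) F12980
theorem F18237 : act 8 n3775 = n2663 := d40_2 (iv F12982) D3775 (iv D2663)
theorem F18238 : act 9 n3775 = n3775 := d41_2 F12983 D3775 (iv D3775)
def n3776 : Q := act 5 n2640
theorem D3776 : act 5 n2640 = n3776 := rfl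
theorem F18239 : act 1 n3776 = n2831 := d12_1 D3776 (iv D2831) (iv F12984)
theorem F18240 : act 3 n3776 = n3776 := d25_1 D3776 (iv D3776) F12985
theorem F18241 : act 7 n3776 = n2641 := d36_2 (iv F12987) D3776 (iv D2641)
theorem F18242 : act 8 n3776 = n3776 := d37_2 D2640 D3776 (iv D3776) (iv D2640) F9237
theorem F18243 : act 9 n3776 = n3776 := d38_2 F12988 D3776 (iv D3776)
def n3777 : Q := act 4 n2641
theorem D3777 : act 4 n2641 = n3777 := rfl
theorem F18244 : act 1 n3777 = n2832 := d11_1 D3777 (iv D2832) (iv F12989)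
theorem F18245 : act 6 n3777 = n3777 := d31_2 F12991 D3777 (iv D3777)
theorem F18246 : act 8 n3777 = n3777 := d33_2 F12992 D3777 (iv D3777)
theorem F18247 : act 9 n3777 = n3777 := d34_2 F12993 D3777 (iv D3777)
def n3778 : Q := act 6 n2642
theorem D3778 : act 6 n2642 = n3778 := rfl
theorem F18248 : act 0 n3778 = n2643 := d5_1 D3778 (iv D2643) D2642
theorem F18249 : act 2 n3778 = n2833 := d20_1 D3778 (iv D2833) (iv F12994)
theorem F18250 : act 4 n3778 = n2738 := d31_1 D3778 (iv D2738) (iv F12995)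
theorem F18251 : act 8 n3778 = n2666 := d40_2 (iv F12997) D3778 (iv D2666)
def n3779 : Q := act 9 n2642
theorem D3779 : act 9 n2642 = n3779 := rfl
theorem F18252 : act 0 n3779 = n2644 := d8_1 D3779 (iv D2644) D2642
theorem F18253 : act 2 n3779 = n2834 := d23_1 D3779 (iv D2834) (iv F12994)
theorem F18254 : act 4 n3779 = n2739 := d34_1 D3779 (iv D2739) (iv F12995)
theorem F18255 : act 7 n3779 = n3779 := d43_1 D3779 (iv D3779) F12996
def n3780 : Q := act 5 n2643
theorem D3780 : act 5 n2643 = n3780 := rfl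
theorem F18256 : act 1 n3780 = n2645 := d12_1 D3780 (iv D2645) (iv F12998)
theorem F18257 : act 2 n3780 = n2835 := d19_1 D3780 (iv D2835) (iv F12999)
def n3781 : Q := act 7 n2643
theorem D3781 : act 7 n2643 = n3781 := rfl
theorem F18258 : act 1 n3781 = n2646 := d14_1 D3781 (iv D2646) (iv F12998)
theorem F18259 : act 2 n3781 = n2836 := d21_1 D3781 (iv D2836) (iv F12999)
theorem F18260 : act 4 n3781 = n2741 := d32_1 D3781 (iv D2741) (iv F13000)
theorem F18261 : act 6 n3781 = n3781 := d39_1 D3781 (iv D3781) (iv D2643) F9246 D2643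
theorem F18262 : act 8 n3781 = n2669 := d42_2 (iv F13001) D3781 (iv D2669)
def n3782 : Q := act 9 n2643
theorem D3782 : act 9 n2643 = n3782 := rfl
theorem F18263 : act 1 n3782 = n2647 := d16_1 D3782 (iv D2647) (iv F12998)
theorem F18264 : act 2 n3782 = n2837 := d23_1 D3782 (iv D2837) (iv F12999)
theorem F18265 : act 4 n3782 = n2742 := d34_1 D3782 (iv D2742) (iv F13000)
theorem F18266 : act 6 n3782 = n2644 := d41_1 D3782 (iv D2644) D2643
def n3783 : Q := act 8 n2644
theorem D3783 : act 8 n2644 = n3783 := rfl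
theorem F18267 : act 1 n3783 = n2648 := d15_1 D3783 (iv D2648) (iv F13002)
theorem F18268 : act 2 n3783 = n2838 := d22_1 D3783 (iv D2838) (iv F13003)
theorem F18269 : act 4 n3783 = n2743 := d33_1 D3783 (iv D2743) (iv F13004)
theorem F18270 : act 7 n3783 = n3783 := d42_1 D3783 (iv D3783) F13005
theorem F18271 : act 9 n3783 = n2671 := d44_2 D2644 D3783 (iv D2671) (iv D1862) (iv F9247)
def n3784 : Q := act 4 n2645
theorem D3784 : act 4 n2645 = n3784 := rfl
theorem F18272 : act 2 n3784 = n2649 := d18_1 D3784 (iv D2649) (iv F13006)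
theorem F18273 : act 5 n3784 = n2744 := d30_2 D2645 D3784 (iv D2744) (iv D1915) (iv F9249)
def n3785 : Q := act 7 n2645
theorem D3785 : act 7 n2645 = n3785 := rfl
theorem F18274 : act 2 n3785 = n2650 := d21_1 D3785 (iv D2650) (iv F13006)
theorem F18275 : act 5 n3785 = n2646 := d36_1 D3785 (iv D2646) D2645
def n3786 : Q := act 8 n2645
theorem D3786 : act 8 n2645 = n3786 := rfl
theorem F18276 : act 2 n3786 = n2651 := d22_1 D3786 (iv D2651) (iv F13006)
theorem F18277 : act 5 n3786 = n2673 := d37_1 D3786 (iv D2673) (iv D1863) (iv F9250) D2645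
def n3787 : Q := act 9 n2645
theorem D3787 : act 9 n2645 = n3787 := rfl
theorem F18278 : act 2 n3787 = n2652 := d23_1 D3787 (iv D2652) (iv F13006)
theorem F18279 : act 5 n3787 = n2647 := d38_1 D3787 (iv D2647) D2645
def n3788 : Q := act 9 n2646
theorem D3788 : act 9 n2646 = n3788 := rfl
theorem F18280 : act 2 n3788 = n2653 := d23_1 D3788 (iv D2653) (iv F13007)
theorem F18281 : act 4 n3788 = n2747 := d34_1 D3788 (iv D2747) (iv F13008)
theorem F18282 : act 6 n3788 = n3788 := d41_1 D3788 (iv D3788) F13009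
theorem F18283 : act 7 n3788 = n2647 := d43_1 D3788 (iv D2647) D2646
def n3789 : Q := act 8 n2647
theorem D3789 : act 8 n2647 = n3789 := rfl
theorem F18284 : act 2 n3789 = n2654 := d22_1 D3789 (iv D2654) (iv F13011)
theorem F18285 : act 4 n3789 = n2748 := d33_1 D3789 (iv D2748) (iv F13012)
theorem F18286 : act 6 n3789 = n2648 := d40_1 D3789 (iv D2648) (iv F13013)
theorem F18287 : act 9 n3789 = n2676 := d44_2 D2647 D3789 (iv D2676) (iv D1865) (iv F9250)
def n3790 : Q := act 5 n2648
theorem D3790 : act 5 n2648 = n3790 := rfl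
theorem F18288 : act 2 n3790 = n2655 := d19_1 D3790 (iv D2655) (iv F13014)
theorem F18289 : act 7 n3790 = n3790 := d36_2 F13016 D3790 (iv D3790)
theorem F18290 : act 9 n3790 = n2677 := d38_2 (iv F13017) D3790 (iv D2677)
def n3791 : Q := act 7 n2649
theorem D3791 : act 7 n2649 = n3791 := rfl
theorem F18291 : act 1 n3791 = n2846 := d14_1 D3791 (iv D2846) (iv F13018)
theorem F18292 : act 3 n3791 = n3791 := d27_1 D3791 (iv D3791) F13019
theorem F18293 : act 4 n3791 = n2650 := d32_1 D3791 (iv D2650) D2649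
theorem F18294 : act 5 n3791 = n2750 := d36_1 D3791 (iv D2750) (iv F13020)
def n3792 : Q := act 8 n2649
theorem D3792 : act 8 n2649 = n3792 := rfl
theorem F18295 : act 1 n3792 = n2847 := d15_1 D3792 (iv D2847) (iv F13018)
theorem F18296 : act 3 n3792 = n3792 := d28_1 D3792 (iv D3792) F13019
theorem F18297 : act 4 n3792 = n2651 := d33_1 D3792 (iv D2651) D2649
theorem F18298 : act 5 n3792 = n3792 := d37_1 D3792 (iv D3792) F13020 F9534 (iv F13020)
def n3793 : Q := act 9 n2649
theorem D3793 : act 9 n2649 = n3793 := rfl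
theorem F18299 : act 1 n3793 = n2848 := d16_1 D3793 (iv D2848) (iv F13018)
theorem F18300 : act 3 n3793 = n3793 := d29_1 D3793 (iv D3793) F13019
theorem F18301 : act 4 n3793 = n2652 := d34_1 D3793 (iv D2652) D2649
theorem F18302 : act 5 n3793 = n2751 := d38_1 D3793 (iv D2751) (iv F13020)
def n3794 : Q := act 6 n2650
theorem D3794 : act 6 n2650 = n3794 := rfl
theorem F18303 : act 1 n3794 = n2849 := d13_1 D3794 (iv D2849) (iv F13021)
theorem F18304 : act 3 n3794 = n2656 := d26_1 D3794 (iv D2656) (iv F13022)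
theorem F18305 : act 5 n3794 = n3794 := d35_1 D3794 (iv D3794) F13023 F9259 (iv F13023)
def n3795 : Q := act 8 n2650
theorem D3795 : act 8 n2650 = n3795 := rfl
theorem F18306 : act 1 n3795 = n2850 := d15_1 D3795 (iv D2850) (iv F13021)
theorem F18308 : act 5 n3795 = n2679 := d37_1 D3795 (iv D2679) F9328 (iv F9260) (iv F13023)
theorem F18309 : act 7 n3795 = n2651 := d42_1 D3795 (iv D2651) D2650
def n3796 : Q := act 9 n2650
theorem D3796 : act 9 n2650 = n3796 := rfl
theorem F18310 : act 1 n3796 = n2851 := d16_1 D3796 (iv D2851) (iv F13021)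
theorem F18311 : act 3 n3796 = n2658 := d29_1 D3796 (iv D2658) (iv F13022)
theorem F18312 : act 5 n3796 = n2653 := d38_1 D3796 (iv D2653) (iv F13023)
theorem F18313 : act 7 n3796 = n2652 := d43_1 D3796 (iv D2652) D2650
def n3797 : Q := act 9 n2651
theorem D3797 : act 9 n2651 = n3797 := rfl
theorem F18314 : act 1 n3797 = n2852 := d16_1 D3797 (iv D2852) (iv F13024)
theorem F18315 : act 3 n3797 = n2659 := d29_1 D3797 (iv D2659) (iv F13025)
theorem F18316 : act 5 n3797 = n2681 := d38_1 D3797 (iv D2681) (iv F13026)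
def n3798 : Q := act 8 n2652
theorem D3798 : act 8 n2652 = n3798 := rfl
theorem F18317 : act 1 n3798 = n2853 := d15_1 D3798 (iv D2853) (iv F13027)
theorem F18318 : act 3 n3798 = n2660 := d28_1 D3798 (iv D2660) (iv F13028)
def n3799 : Q := act 8 n2653
theorem D3799 : act 8 n2653 = n3799 := rfl
theorem F18319 : act 1 n3799 = n2854 := d15_1 D3799 (iv D2854) (iv F13030)
theorem F18320 : act 3 n3799 = n2661 := d28_1 D3799 (iv D2661) (iv F13031)
theorem F18321 : act 4 n3799 = n2755 := d33_1 D3799 (iv D2755) (iv F13032)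
theorem F18322 : act 6 n3799 = n3799 := d40_1 D3799 (iv D3799) F13033
theorem F18323 : act 7 n3799 = n2654 := d42_1 D3799 (iv D2654) (iv F13034)
theorem F18324 : act 9 n3799 = n2683 := d44_2 D2653 D3799 (iv D2683) (iv D1870) (iv F9260)
def n3800 : Q := act 5 n2654
theorem D3800 : act 5 n2654 = n3800 := rfl
theorem F18325 : act 1 n3800 = n2855 := d12_1 D3800 (iv D2855) (iv F13035)
theorem F18326 : act 3 n3800 = n2662 := d25_1 D3800 (iv D2662) (iv F13036)
theorem F18327 : act 9 n3800 = n2684 := d38_2 (iv F13039) D3800 (iv D2684)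
def n3801 : Q := act 4 n2655
theorem D3801 : act 4 n2655 = n3801 := rfl
theorem F18328 : act 1 n3801 = n2856 := d11_1 D3801 (iv D2856) (iv F13040)
theorem F18329 : act 3 n3801 = n3801 := d24_1 D3801 (iv D3801) F13041 F9288 (iv F13041)
theorem F18330 : act 5 n3801 = n2757 := d30_2 D2655 D3801 (iv D2757) (iv D1924) (iv F9267)
theorem F18331 : act 7 n3801 = n3801 := d32_2 F13042 D3801 (iv D3801)
theorem F18332 : act 9 n3801 = n2685 := d34_2 (iv F13043) D3801 (iv D2685)
def n3802 : Q := act 6 n2655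
theorem D3802 : act 6 n2655 = n3802 := rfl
theorem F18333 : act 1 n3802 = n2857 := d13_1 D3802 (iv D2857) (iv F13040)
theorem F18334 : act 3 n3802 = n2663 := d26_1 D3802 (iv D2663) (iv F13041)
theorem F18335 : act 9 n3802 = n2686 := d41_2 (iv F13043) D3802 (iv D2686)
def n3803 : Q := act 8 n2656
theorem D3803 : act 8 n2656 = n3803 := rfl
theorem F18336 : act 1 n3803 = n2858 := d15_1 D3803 (iv D2858) (iv F13044)
theorem F18338 : act 6 n3803 = n2657 := d40_1 D3803 (iv D2657) D2656
def n3804 : Q := act 9 n2656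
theorem D3804 : act 9 n2656 = n3804 := rfl
theorem F18339 : act 1 n3804 = n2859 := d16_1 D3804 (iv D2859) (iv F13044)
theorem F18340 : act 4 n3804 = n3804 := d34_1 D3804 (iv D3804) F13045
theorem F18341 : act 5 n3804 = n3804 := d38_1 D3804 (iv D3804) F13046
theorem F18342 : act 6 n3804 = n2658 := d41_1 D3804 (iv D2658) D2656
def n3805 : Q := act 9 n2657
theorem D3805 : act 9 n2657 = n3805 := rfl
theorem F18343 : act 1 n3805 = n2860 := d16_1 D3805 (iv D2860) (iv F13047)
theorem F18346 : act 7 n3805 = n2659 := d43_1 D3805 (iv D2659) (iv F13050)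
def n3806 : Q := act 8 n2658
theorem D3806 : act 8 n2658 = n3806 := rfl
theorem F18347 : act 1 n3806 = n2861 := d15_1 D3806 (iv D2861) (iv F13051)
theorem F18348 : act 4 n3806 = n3806 := d33_1 D3806 (iv D3806) F13052
theorem F18349 : act 7 n3806 = n2660 := d42_1 D3806 (iv D2660) (iv F13054)
def n3807 : Q := act 8 n2659
theorem D3807 : act 8 n2659 = n3807 := rfl
theorem F18350 : act 1 n3807 = n2862 := d15_1 D3807 (iv D2862) (iv F13055)
theorem F18351 : act 4 n3807 = n3807 := d33_1 D3807 (iv D3807) F13056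
theorem F18352 : act 9 n3807 = n2660 := d44_2 D2659 D3807 (iv D2660) (iv D1854) D1853
def n3808 : Q := act 5 n2660
theorem D3808 : act 5 n2660 = n3808 := rfl
theorem F18353 : act 1 n3808 = n2863 := d12_1 D3808 (iv D2863) (iv F13058)
theorem F18354 : act 8 n3808 = n2662 := d37_2 D2660 D3808 (iv D2662) (iv D1856) (iv F9278)
def n3809 : Q := act 5 n2661
theorem D3809 : act 5 n2661 = n3809 := rfl
theorem F18355 : act 1 n3809 = n2864 := d12_1 D3809 (iv D2864) (iv F13060)
theorem F18356 : act 7 n3809 = n2662 := d36_2 (iv F13063) D3809 (iv D2662)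
theorem F18357 : act 9 n3809 = n2693 := d38_2 (iv F13064) D3809 (iv D2693)
def n3810 : Q := act 4 n2662
theorem D3810 : act 4 n2662 = n3810 := rfl
theorem F18358 : act 1 n3810 = n2865 := d11_1 D3810 (iv D2865) (iv F13065)
theorem F18359 : act 5 n3810 = n2665 := d30_2 D2662 D3810 (iv D2665) (iv D1859) (iv F9284)
theorem F18360 : act 9 n3810 = n2694 := d34_2 (iv F13066) D3810 (iv D2694)
def n3811 : Q := act 6 n2662
theorem D3811 : act 6 n2662 = n3811 := rfl
theorem F18361 : act 1 n3811 = n2866 := d13_1 D3811 (iv D2866) (iv F13065)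
theorem F18362 : act 5 n3811 = n2663 := d35_1 D3811 (iv D2663) (iv D1857) (iv F9285) D2662
theorem F18363 : act 9 n3811 = n2695 := d41_2 (iv F13066) D3811 (iv D2695)
def n3812 : Q := act 7 n2663
theorem D3812 : act 7 n2663 = n3812 := rfl
theorem F18364 : act 1 n3812 = n2867 := d14_1 D3812 (iv D2867) (iv F13067)
theorem F18365 : act 4 n3812 = n3812 := d32_1 D3812 (iv D3812) F13068
theorem F18366 : act 6 n3812 = n3812 := d39_1 D3812 (iv D3812) (iv D2663) F9289 D2663
theorem F18367 : act 9 n3812 = n2696 := d43_2 (iv F13069) D3812 (iv D2696)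
def n3813 : Q := act 4 n2664
theorem D3813 : act 4 n2664 = n3813 := rfl
theorem F18368 : act 1 n3813 = n2868 := d11_1 D3813 (iv D2868) (iv F13070)
theorem F18369 : act 7 n3813 = n2665 := d32_2 (iv F13072) D3813 (iv D2665)
theorem F18370 : act 8 n3813 = n3813 := d33_2 F13073 D3813 (iv D3813)
theorem F18371 : act 9 n3813 = n2697 := d34_2 (iv F13074) D3813 (iv D2697)
def n3814 : Q := act 6 n2664
theorem D3814 : act 6 n2664 = n3814 := rfl
theorem F18372 : act 1 n3814 = n2869 := d13_1 D3814 (iv D2869) (iv F13070)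
theorem F18373 : act 3 n3814 = n2767 := d26_1 D3814 (iv D2767) (iv F13071)
theorem F18374 : act 5 n3814 = n3814 := d35_1 D3814 (iv D3814) (iv D2664) F9293 D2664
theorem F18375 : act 7 n3814 = n3814 := d39_2 (iv F13072) D3814 (iv D3814) F13072 F9298
theorem F18376 : act 8 n3814 = n3814 := d40_2 F13073 D3814 (iv D3814)
theorem F18377 : act 9 n3814 = n2698 := d41_2 (iv F13074) D3814 (iv D2698)
def n3815 : Q := act 3 n2665
theorem D3815 : act 3 n2665 = n3815 := rfl
theorem F18378 : act 1 n3815 = n2870 := d10_1 D3815 (iv D2870) (iv F13075)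
theorem F18379 : act 4 n3815 = n2768 := d24_2 D2665 D3815 (iv D2768) (iv D1932) (iv F9297)
theorem F18380 : act 6 n3815 = n3815 := d26_2 F13076 D3815 (iv D3815)
theorem F18381 : act 8 n3815 = n3815 := d28_2 F13077 D3815 (iv D3815)
theorem F18382 : act 9 n3815 = n2699 := d29_2 (iv F13078) D3815 (iv D2699)
def n3816 : Q := act 5 n2666
theorem D3816 : act 5 n2666 = n3816 := rfl
theorem F18383 : act 0 n3816 = n2668 := d4_1 D3816 (iv D2668) (iv F13079)
theorem F18384 : act 2 n3816 = n2871 := d19_1 D3816 (iv D2871) (iv F13080)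
theorem F18385 : act 4 n3816 = n3816 := d30_1 D3816 (iv D3816) F13081 F9599 (iv F13081)
theorem F18386 : act 6 n3816 = n3816 := d35_2 D2666 D3816 (iv D3816) (iv D2666) F9303
def n3817 : Q := act 7 n2666
theorem D3817 : act 7 n2666 = n3817 := rfl
theorem F18387 : act 0 n3817 = n2669 := d6_1 D3817 (iv D2669) (iv F13079)
theorem F18388 : act 2 n3817 = n2872 := d21_1 D3817 (iv D2872) (iv F13080)
theorem F18389 : act 4 n3817 = n2769 := d32_1 D3817 (iv D2769) (iv F13081)
theorem F18390 : act 6 n3817 = n3817 := d39_1 D3817 (iv D3817) (iv D2666) F9304 D2666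
def n3818 : Q := act 9 n2666
theorem D3818 : act 9 n2666 = n3818 := rfl
theorem F18391 : act 0 n3818 = n2670 := d8_1 D3818 (iv D2670) (iv F13079)
theorem F18392 : act 2 n3818 = n2873 := d23_1 D3818 (iv D2873) (iv F13080)
theorem F18393 : act 4 n3818 = n2770 := d34_1 D3818 (iv D2770) (iv F13081)
theorem F18394 : act 6 n3818 = n2667 := d41_1 D3818 (iv D2667) D2666
def n3819 : Q := act 8 n2667
theorem D3819 : act 8 n2667 = n3819 := rfl
theorem F18395 : act 0 n3819 = n2671 := d7_1 D3819 (iv D2671) (iv F13082)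
theorem F18396 : act 2 n3819 = n2874 := d22_1 D3819 (iv D2874) (iv F13083)
theorem F18397 : act 4 n3819 = n2771 := d33_1 D3819 (iv D2771) (iv F13084)
theorem F18398 : act 7 n3819 = n3819 := d42_1 D3819 (iv D3819) F13086
def n3820 : Q := act 7 n2668
theorem D3820 : act 7 n2668 = n3820 := rfl
theorem F18399 : act 1 n3820 = n2672 := d14_1 D3820 (iv D2672) (iv F13087)
theorem F18400 : act 2 n3820 = n2875 := d21_1 D3820 (iv D2875) (iv F13088)
theorem F18402 : act 5 n3820 = n2669 := d36_1 D3820 (iv D2669) D2668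
def n3821 : Q := act 8 n2668
theorem D3821 : act 8 n2668 = n3821 := rfl
theorem F18403 : act 1 n3821 = n2673 := d15_1 D3821 (iv D2673) (iv F13087)
theorem F18404 : act 2 n3821 = n2876 := d22_1 D3821 (iv D2876) (iv F13088)
theorem F18405 : act 4 n3821 = n3821 := d33_1 D3821 (iv D3821) F13089
theorem F18406 : act 6 n3821 = n3821 := d40_1 D3821 (iv D3821) F13090
def n3822 : Q := act 9 n2668
theorem D3822 : act 9 n2668 = n3822 := rfl
theorem F18407 : act 1 n3822 = n2674 := d16_1 D3822 (iv D2674) (iv F13087)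
theorem F18408 : act 2 n3822 = n2877 := d23_1 D3822 (iv D2877) (iv F13088)
theorem F18409 : act 4 n3822 = n3822 := d34_1 D3822 (iv D3822) F13089
theorem F18410 : act 5 n3822 = n2670 := d38_1 D3822 (iv D2670) D2668
theorem F18411 : act 6 n3822 = n3822 := d41_1 D3822 (iv D3822) F13090
def n3823 : Q := act 9 n2669
theorem D3823 : act 9 n2669 = n3823 := rfl
theorem F18412 : act 1 n3823 = n2675 := d16_1 D3823 (iv D2675) (iv F13091)
theorem F18413 : act 2 n3823 = n2878 := d23_1 D3823 (iv D2878) (iv F13092)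
theorem F18414 : act 4 n3823 = n2772 := d34_1 D3823 (iv D2772) (iv F13093)
theorem F18415 : act 6 n3823 = n3823 := d41_1 D3823 (iv D3823) F13094
theorem F18416 : act 7 n3823 = n2670 := d43_1 D3823 (iv D2670) D2669
def n3824 : Q := act 8 n2670
theorem D3824 : act 8 n2670 = n3824 := rfl
theorem F18417 : act 1 n3824 = n2676 := d15_1 D3824 (iv D2676) (iv F13095)
theorem F18418 : act 2 n3824 = n2879 := d22_1 D3824 (iv D2879) (iv F13096)
theorem F18419 : act 4 n3824 = n2773 := d33_1 D3824 (iv D2773) (iv F13097)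
theorem F18420 : act 6 n3824 = n2671 := d40_1 D3824 (iv D2671) (iv F13098)
def n3825 : Q := act 5 n2671
theorem D3825 : act 5 n2671 = n3825 := rfl
theorem F18421 : act 1 n3825 = n2677 := d12_1 D3825 (iv D2677) (iv F13099)
theorem F18422 : act 2 n3825 = n2880 := d19_1 D3825 (iv D2880) (iv F13100)
theorem F18423 : act 7 n3825 = n3825 := d36_2 F13102 D3825 (iv D3825)
theorem F18424 : act 8 n3825 = n3825 := d37_2 D2671 D3825 (iv D3825) (iv D2671) F9311
def n3826 : Q := act 6 n2672
theorem D3826 : act 6 n2672 = n3826 := rfl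
theorem F18425 : act 2 n3826 = n2678 := d20_1 D3826 (iv D2678) (iv F13103)
def n3827 : Q := act 8 n2672
theorem D3827 : act 8 n2672 = n3827 := rfl
theorem F18429 : act 2 n3827 = n2679 := d22_1 D3827 (iv D2679) (iv F13103)
theorem F18431 : act 7 n3827 = n2673 := d42_1 D3827 (iv D2673) D2672
def n3828 : Q := act 9 n2672
theorem D3828 : act 9 n2672 = n3828 := rfl
theorem F18434 : act 5 n3828 = n2675 := d38_1 D3828 (iv D2675) (iv F13105)
theorem F18435 : act 7 n3828 = n2674 := d43_1 D3828 (iv D2674) D2672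
def n3829 : Q := act 9 n2673
theorem D3829 : act 9 n2673 = n3829 := rfl
theorem F18436 : act 2 n3829 = n2681 := d23_1 D3829 (iv D2681) (iv F13106)
theorem F18437 : act 4 n3829 = n3829 := d34_1 D3829 (iv D3829) F13107
theorem F18438 : act 6 n3829 = n3829 := d41_1 D3829 (iv D3829) F13108
def n3830 : Q := act 8 n2674
theorem D3830 : act 8 n2674 = n3830 := rfl
theorem F18439 : act 2 n3830 = n2682 := d22_1 D3830 (iv D2682) (iv F13109)
theorem F18440 : act 4 n3830 = n3830 := d33_1 D3830 (iv D3830) F13110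
theorem F18441 : act 6 n3830 = n3830 := d40_1 D3830 (iv D3830) F13112
def n3831 : Q := act 8 n2675
theorem D3831 : act 8 n2675 = n3831 := rfl
theorem F18442 : act 2 n3831 = n2683 := d22_1 D3831 (iv D2683) (iv F13113)
theorem F18443 : act 4 n3831 = n2775 := d33_1 D3831 (iv D2775) (iv F13114)
theorem F18444 : act 6 n3831 = n3831 := d40_1 D3831 (iv D3831) F13115
theorem F18445 : act 7 n3831 = n2676 := d42_1 D3831 (iv D2676) (iv F13116)
def n3832 : Q := act 5 n2676
theorem D3832 : act 5 n2676 = n3832 := rfl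
theorem F18446 : act 2 n3832 = n2684 := d19_1 D3832 (iv D2684) (iv F13117)
def n3833 : Q := act 4 n2677
theorem D3833 : act 4 n2677 = n3833 := rfl
theorem F18447 : act 2 n3833 = n2685 := d18_1 D3833 (iv D2685) (iv F13120)
theorem F18448 : act 5 n3833 = n2777 := d30_2 D2677 D3833 (iv D2777) (iv D1940) (iv F9323)
theorem F18449 : act 7 n3833 = n3833 := d32_2 F13121 D3833 (iv D3833)
theorem F18450 : act 8 n3833 = n3833 := d33_2 F13122 D3833 (iv D3833)
def n3834 : Q := act 6 n2677
theorem D3834 : act 6 n2677 = n3834 := rfl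
theorem F18451 : act 2 n3834 = n2686 := d20_1 D3834 (iv D2686) (iv F13120)
theorem F18452 : act 8 n3834 = n3834 := d40_2 F13122 D3834 (iv D3834)
def n3835 : Q := act 8 n2678
theorem D3835 : act 8 n2678 = n3835 := rfl
theorem F18454 : act 3 n3835 = n2687 := d28_1 D3835 (iv D2687) (iv F13124)
theorem F18456 : act 6 n3835 = n2679 := d40_1 D3835 (iv D2679) D2678
def n3837 : Q := act 9 n2679
theorem D3837 : act 9 n2679 = n3837 := rfl
theorem F18464 : act 1 n3837 = n2892 := d16_1 D3837 (iv D2892) (iv F13128)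
theorem F18467 : act 7 n3837 = n2681 := d43_1 D3837 (iv D2681) (iv F13131)
def n3838 : Q := act 8 n2680
theorem D3838 : act 8 n2680 = n3838 := rfl
theorem F18468 : act 1 n3838 = n2893 := d15_1 D3838 (iv D2893) (iv F13132)
theorem F18471 : act 7 n3838 = n2682 := d42_1 D3838 (iv D2682) (iv F13136)
def n3839 : Q := act 8 n2681
theorem D3839 : act 8 n2681 = n3839 := rfl
theorem F18472 : act 1 n3839 = n2894 := d15_1 D3839 (iv D2894) (iv F13137)
theorem F18473 : act 3 n3839 = n2691 := d28_1 D3839 (iv D2691) (iv F13138)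
theorem F18474 : act 4 n3839 = n3839 := d33_1 D3839 (iv D3839) F13139
theorem F18475 : act 6 n3839 = n3839 := d40_1 D3839 (iv D3839) F13140
theorem F18476 : act 9 n3839 = n2682 := d44_2 D2681 D3839 (iv D2682) (iv D1869) D1868
def n3840 : Q := act 5 n2682
theorem D3840 : act 5 n2682 = n3840 := rfl
theorem F18477 : act 1 n3840 = n2895 := d12_1 D3840 (iv D2895) (iv F13141)
theorem F18478 : act 3 n3840 = n2692 := d25_1 D3840 (iv D2692) (iv F13142)
theorem F18479 : act 8 n3840 = n2684 := d37_2 D2682 D3840 (iv D2684) (iv D1871) (iv F9336)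
def n3841 : Q := act 5 n2683
theorem D3841 : act 5 n2683 = n3841 := rfl
theorem F18480 : act 1 n3841 = n2896 := d12_1 D3841 (iv D2896) (iv F13145)
theorem F18481 : act 3 n3841 = n2693 := d25_1 D3841 (iv D2693) (iv F13146)
theorem F18482 : act 7 n3841 = n2684 := d36_2 (iv F13149) D3841 (iv D2684)
def n3842 : Q := act 4 n2684
theorem D3842 : act 4 n2684 = n3842 := rfl
theorem F18483 : act 1 n3842 = n2897 := d11_1 D3842 (iv D2897) (iv F13150)
theorem F18484 : act 5 n3842 = n2780 := d30_2 D2684 D3842 (iv D2780) (iv D1942) (iv F9345)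
def n3843 : Q := act 6 n2684
theorem D3843 : act 6 n2684 = n3843 := rfl
theorem F18485 : act 1 n3843 = n2898 := d13_1 D3843 (iv D2898) (iv F13150)
theorem F18486 : act 3 n3843 = n2695 := d26_1 D3843 (iv D2695) (iv F13151)
theorem F18487 : act 5 n3843 = n2686 := d35_1 D3843 (iv D2686) (iv D1872) (iv F9346) D2684
def n3844 : Q := act 6 n2685
theorem D3844 : act 6 n2685 = n3844 := rfl
theorem F18488 : act 1 n3844 = n2899 := d13_1 D3844 (iv D2899) (iv F13152)
theorem F18489 : act 3 n3844 = n3844 := d26_1 D3844 (iv D3844) F13153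
theorem F18490 : act 4 n3844 = n2686 := d31_1 D3844 (iv D2686) D2685
theorem F18491 : act 8 n3844 = n3844 := d40_2 F13156 D3844 (iv D3844)
def n3845 : Q := act 7 n2686
theorem D3845 : act 7 n2686 = n3845 := rfl
theorem F18492 : act 1 n3845 = n2900 := d14_1 D3845 (iv D2900) (iv F13157)
theorem F18493 : act 3 n3845 = n2696 := d27_1 D3845 (iv D2696) (iv F13158)
theorem F18494 : act 6 n3845 = n3845 := d39_1 D3845 (iv D3845) (iv D2686) F9349 D2686
theorem F18495 : act 8 n3845 = n3845 := d42_2 F13159 D3845 (iv D3845)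
def n3849 : Q := act 8 n2689
theorem D3849 : act 8 n2689 = n3849 := rfl
theorem F18507 : act 1 n3849 = n2904 := d15_1 D3849 (iv D2904) (iv F13169)
theorem F18509 : act 7 n3849 = n2691 := d42_1 D3849 (iv D2691) (iv F13171)
def n3850 : Q := act 5 n2690
theorem D3850 : act 5 n2690 = n3850 := rfl
theorem F18511 : act 1 n3850 = n2905 := d12_1 D3850 (iv D2905) (iv F13172)
theorem F18512 : act 7 n3850 = n2692 := d36_2 (iv F13174) D3850 (iv D2692)
theorem F18513 : act 8 n3850 = n2693 := d37_2 D2690 D3850 (iv D2693) (iv D1878) (iv F9360)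
def n3851 : Q := act 5 n2691
theorem D3851 : act 5 n2691 = n3851 := rfl
theorem F18514 : act 1 n3851 = n2906 := d12_1 D3851 (iv D2906) (iv F13175)
theorem F18515 : act 9 n3851 = n2692 := d38_2 (iv F13178) D3851 (iv D2692)
def n3852 : Q := act 4 n2692
theorem D3852 : act 4 n2692 = n3852 := rfl
theorem F18516 : act 1 n3852 = n2907 := d11_1 D3852 (iv D2907) (iv F13179)
theorem F18517 : act 5 n3852 = n2706 := d30_2 D2692 D3852 (iv D2706) (iv D1888) (iv F9366)
theorem F18518 : act 8 n3852 = n2694 := d33_2 (iv F13180) D3852 (iv D2694)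
def n3853 : Q := act 6 n2692
theorem D3853 : act 6 n2692 = n3853 := rfl
theorem F18519 : act 1 n3853 = n2908 := d13_1 D3853 (iv D2908) (iv F13179)
theorem F18520 : act 5 n3853 = n3853 := d35_1 D3853 (iv D3853) (iv D2692) F9367 D2692
theorem F18521 : act 8 n3853 = n2695 := d40_2 (iv F13180) D3853 (iv D2695)
def n3854 : Q := act 4 n2693
theorem D3854 : act 4 n2693 = n3854 := rfl
theorem F18522 : act 1 n3854 = n2909 := d11_1 D3854 (iv D2909) (iv F13181)
theorem F18523 : act 5 n3854 = n2697 := d30_2 D2693 D3854 (iv D2697) (iv D1881) (iv F9369)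
theorem F18524 : act 7 n3854 = n2694 := d32_2 (iv F13182) D3854 (iv D2694)
def n3855 : Q := act 6 n2693
theorem D3855 : act 6 n2693 = n3855 := rfl
theorem F18525 : act 1 n3855 = n2910 := d13_1 D3855 (iv D2910) (iv F13181)
theorem F18526 : act 5 n3855 = n3855 := d35_1 D3855 (iv D3855) (iv D2693) F9370 D2693
def n3856 : Q := act 3 n2694
theorem D3856 : act 3 n2694 = n3856 := rfl
theorem F18527 : act 1 n3856 = n2911 := d10_1 D3856 (iv D2911) (iv F13183)
theorem F18528 : act 5 n3856 = n2699 := d25_2 (iv F13184) D3856 (iv D2699)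
def n3857 : Q := act 6 n2694
theorem D3857 : act 6 n2694 = n3857 := rfl
theorem F18529 : act 1 n3857 = n2912 := d13_1 D3857 (iv D2912) (iv F13183)
theorem F18530 : act 4 n3857 = n2695 := d31_1 D3857 (iv D2695) D2694
theorem F18531 : act 5 n3857 = n3857 := d35_1 D3857 (iv D3857) F13184 F9381 (iv F13184)
def n3858 : Q := act 7 n2695
theorem D3858 : act 7 n2695 = n3858 := rfl
theorem F18532 : act 1 n3858 = n2913 := d14_1 D3858 (iv D2913) (iv F13185)
theorem F18533 : act 5 n3858 = n2696 := d36_1 D3858 (iv D2696) (iv F13186)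
def n3859 : Q := act 3 n2697
theorem D3859 : act 3 n2697 = n3859 := rfl
theorem F18534 : act 1 n3859 = n2914 := d10_1 D3859 (iv D2914) (iv F13191)
theorem F18535 : act 4 n3859 = n2789 := d24_2 D2697 D3859 (iv D2789) (iv D1949) (iv F9377)
theorem F18536 : act 7 n3859 = n2699 := d27_2 (iv F13192) D3859 (iv D2699)
theorem F18537 : act 8 n3859 = n2713 := d28_2 (iv F13193) D3859 (iv D2713)
def n3860 : Q := act 6 n2697
theorem D3860 : act 6 n2697 = n3860 := rfl
theorem F18538 : act 1 n3860 = n2915 := d13_1 D3860 (iv D2915) (iv F13191)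
theorem F18539 : act 4 n3860 = n2698 := d31_1 D3860 (iv D2698) D2697
theorem F18540 : act 7 n3860 = n3860 := d39_2 (iv F13192) D3860 (iv D3860) F13192 F9381
theorem F18541 : act 8 n3860 = n2714 := d40_2 (iv F13193) D3860 (iv D2714)
def n3861 : Q := act 2 n2699
theorem D3861 : act 2 n2699 = n3861 := rfl
theorem F18542 : act 4 n3861 = n2791 := d18_2 (iv F13200) D3861 (iv D2791)
theorem F18543 : act 6 n3861 = n3861 := d20_2 F13201 D3861 (iv D3861)
theorem F18544 : act 8 n3861 = n2715 := d22_2 (iv F13202) D3861 (iv D2715)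
def n3866 : Q := act 5 n2703
theorem D3866 : act 5 n2703 = n3866 := rfl
theorem F18563 : act 1 n3866 = n2921 := d12_1 D3866 (iv D2921) (iv F13216)
theorem F18565 : act 7 n3866 = n2705 := d36_2 (iv F13218) D3866 (iv D2705)
def n3867 : Q := act 4 n2704
theorem D3867 : act 4 n2704 = n3867 := rfl
theorem F18568 : act 1 n3867 = n2922 := d11_1 D3867 (iv D2922) (iv F13220)
theorem F18569 : act 7 n3867 = n2706 := d32_2 (iv F13222) D3867 (iv D2706)
def n3869 : Q := act 4 n2705
theorem D3869 : act 4 n2705 = n3869 := rfl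
theorem F18574 : act 1 n3869 = n2924 := d11_1 D3869 (iv D2924) (iv F13224)
theorem F18575 : act 8 n3869 = n3869 := d33_2 F13226 D3869 (iv D3869)
theorem F18576 : act 9 n3869 = n2706 := d34_2 (iv F13227) D3869 (iv D2706)
def n3870 : Q := act 6 n2705
theorem D3870 : act 6 n2705 = n3870 := rfl
theorem F18577 : act 1 n3870 = n2925 := d13_1 D3870 (iv D2925) (iv F13224)
theorem F18578 : act 3 n3870 = n3870 := d26_1 D3870 (iv D3870) F13225
theorem F18579 : act 5 n3870 = n3870 := d35_1 D3870 (iv D3870) (iv D2705) F9401 D2705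
theorem F18580 : act 8 n3870 = n3870 := d40_2 F13226 D3870 (iv D3870)
theorem F18581 : act 9 n3870 = n2707 := d41_2 (iv F13227) D3870 (iv D2707)
def n3871 : Q := act 3 n2706
theorem D3871 : act 3 n2706 = n3871 := rfl
theorem F18582 : act 1 n3871 = n2926 := d10_1 D3871 (iv D2926) (iv F13228)
theorem F18583 : act 4 n3871 = n3871 := d24_2 D2706 D3871 (iv D3871) (iv D2706) F9404
theorem F18584 : act 8 n3871 = n2710 := d28_2 (iv F13229) D3871 (iv D2710)
def n3872 : Q := act 6 n2706
theorem D3872 : act 6 n2706 = n3872 := rfl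
theorem F18585 : act 1 n3872 = n2927 := d13_1 D3872 (iv D2927) (iv F13228)
theorem F18586 : act 4 n3872 = n2707 := d31_1 D3872 (iv D2707) D2706
theorem F18587 : act 8 n3872 = n2711 := d40_2 (iv F13229) D3872 (iv D2711)
def n3873 : Q := act 7 n2707
theorem D3873 : act 7 n2707 = n3873 := rfl
theorem F18591 : act 8 n3873 = n2712 := d42_2 (iv F13233) D3873 (iv D2712)
def n3874 : Q := act 3 n2708
theorem D3874 : act 3 n2708 = n3874 := rfl
theorem F18592 : act 1 n3874 = n2929 := d10_1 D3874 (iv D2929) (iv F13234)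
theorem F18594 : act 5 n3874 = n2713 := d25_2 (iv F13235) D3874 (iv D2713)
theorem F18595 : act 7 n3874 = n2710 := d27_2 (iv F13236) D3874 (iv D2710)
def n3877 : Q := act 2 n2710
theorem D3877 : act 2 n2710 = n3877 := rfl
theorem F18605 : act 4 n3877 = n3877 := d18_2 F13243 D3877 (iv D3877)
theorem F18606 : act 5 n3877 = n2715 := d19_2 (iv F13244) D3877 (iv D2715)
theorem F18607 : act 9 n3877 = n3877 := d23_2 F13245 D3877 (iv D3877)
def n3878 : Q := act 6 n2710
theorem D3878 : act 6 n2710 = n3878 := rfl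
theorem F18608 : act 1 n3878 = n2933 := d13_1 D3878 (iv D2933) (iv F13242)
theorem F18609 : act 3 n3878 = n2711 := d26_1 D3878 (iv D2711) D2710
theorem F18610 : act 4 n3878 = n3878 := d31_1 D3878 (iv D3878) F13243
theorem F18611 : act 5 n3878 = n3878 := d35_1 D3878 (iv D3878) F13244 F9433 (iv F13244)
theorem F18612 : act 9 n3878 = n3878 := d41_2 F13245 D3878 (iv D3878)
def n3879 : Q := act 7 n2711
theorem D3879 : act 7 n2711 = n3879 := rfl
theorem F18614 : act 4 n3879 = n2712 := d32_1 D3879 (iv D2712) (iv F13247)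
def n3880 : Q := act 2 n2713
theorem D3880 : act 2 n2713 = n3880 := rfl
theorem F18617 : act 4 n3880 = n2792 := d18_2 (iv F13255) D3880 (iv D2792)
theorem F18618 : act 7 n3880 = n2715 := d21_2 (iv F13256) D3880 (iv D2715)
theorem F18619 : act 9 n3880 = n3880 := d23_2 F13257 D3880 (iv D3880)
def n3881 : Q := act 6 n2713
theorem D3881 : act 6 n2713 = n3881 := rfl
theorem F18620 : act 1 n3881 = n2936 := d13_1 D3881 (iv D2936) (iv F13254)
theorem F18621 : act 3 n3881 = n2714 := d26_1 D3881 (iv D2714) D2713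
def n3882 : Q := act 5 n2714
theorem D3882 : act 5 n2714 = n3882 := rfl
theorem F18626 : act 4 n3882 = n2736 := d30_1 D3882 (iv D2736) F9494 (iv F9428) (iv F13259)
def n3883 : Q := act 1 n2715
theorem D3883 : act 1 n2715 = n3883 := rfl
theorem F18629 : act 2 n3883 = n2938 := d9_2 D2715 D3883 (iv D2938) (iv D2053) (iv F9431)
theorem F18630 : act 4 n3883 = n2795 := d11_2 (iv F13262) D3883 (iv D2795)
theorem F18631 : act 6 n3883 = n3883 := d13_2 F13263 D3883 (iv D3883)
theorem F18632 : act 9 n3883 = n3883 := d16_2 F13264 D3883 (iv D3883)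
def n3884 : Q := act 3 n2716
theorem D3884 : act 3 n2716 = n3884 := rfl
theorem F18633 : act 1 n3884 = n2939 := d10_1 D3884 (iv D2939) (iv F13265)
def n3914 : Q := act 5 n2738
theorem D3914 : act 5 n2738 = n3914 := rfl
theorem F18756 : act 0 n3914 = n2740 := d4_1 D3914 (iv D2740) (iv F13357)
theorem F18757 : act 2 n3914 = n2969 := d19_1 D3914 (iv D2969) (iv F13358)
theorem F18758 : act 3 n3914 = n3914 := d25_1 D3914 (iv D3914) F13359
theorem F18759 : act 6 n3914 = n3914 := d35_2 D2738 D3914 (iv D3914) (iv D2738) F9504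
theorem F18760 : act 8 n3914 = n3914 := d37_2 (iv F13360) D3914 (iv D3914) F13360 F9599
def n3915 : Q := act 7 n2738
theorem D3915 : act 7 n2738 = n3915 := rfl
theorem F18761 : act 0 n3915 = n2741 := d6_1 D3915 (iv D2741) (iv F13357)
theorem F18762 : act 2 n3915 = n2970 := d21_1 D3915 (iv D2970) (iv F13358)
theorem F18763 : act 3 n3915 = n3915 := d27_1 D3915 (iv D3915) F13359
theorem F18764 : act 6 n3915 = n3915 := d39_1 D3915 (iv D3915) (iv D2738) F9505 D2738
theorem F18765 : act 8 n3915 = n2769 := d42_2 (iv F13360) D3915 (iv D2769)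
def n3916 : Q := act 9 n2738
theorem D3916 : act 9 n2738 = n3916 := rfl
theorem F18766 : act 0 n3916 = n2742 := d8_1 D3916 (iv D2742) (iv F13357)
theorem F18767 : act 2 n3916 = n2971 := d23_1 D3916 (iv D2971) (iv F13358)
theorem F18768 : act 3 n3916 = n3916 := d29_1 D3916 (iv D3916) F13359
theorem F18769 : act 6 n3916 = n2739 := d41_1 D3916 (iv D2739) D2738
def n3917 : Q := act 8 n2739
theorem D3917 : act 8 n2739 = n3917 := rfl
theorem F18770 : act 0 n3917 = n2743 := d7_1 D3917 (iv D2743) (iv F13361)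
theorem F18771 : act 2 n3917 = n2972 := d22_1 D3917 (iv D2972) (iv F13362)
theorem F18772 : act 3 n3917 = n3917 := d28_1 D3917 (iv D3917) F13363
theorem F18773 : act 7 n3917 = n3917 := d42_1 D3917 (iv D3917) F13365
theorem F18774 : act 9 n3917 = n2771 := d44_2 D2739 D3917 (iv D2771) (iv D1934) (iv F9506)
def n3918 : Q := act 4 n2740
theorem D3918 : act 4 n2740 = n3918 := rfl
theorem F18775 : act 1 n3918 = n2744 := d11_1 D3918 (iv D2744) (iv F13366)
theorem F18776 : act 2 n3918 = n2973 := d18_1 D3918 (iv D2973) (iv F13367)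
theorem F18777 : act 6 n3918 = n3918 := d31_2 F13369 D3918 (iv D3918)
theorem F18778 : act 8 n3918 = n3918 := d33_2 F13370 D3918 (iv D3918)
def n3919 : Q := act 7 n2740
theorem D3919 : act 7 n2740 = n3919 := rfl
theorem F18779 : act 1 n3919 = n2745 := d14_1 D3919 (iv D2745) (iv F13366)
theorem F18780 : act 2 n3919 = n2974 := d21_1 D3919 (iv D2974) (iv F13367)
theorem F18781 : act 3 n3919 = n3919 := d27_1 D3919 (iv D3919) F13368
theorem F18782 : act 5 n3919 = n2741 := d36_1 D3919 (iv D2741) D2740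
theorem F18783 : act 8 n3919 = n3919 := d42_2 F13370 D3919 (iv D3919)
def n3920 : Q := act 9 n2740
theorem D3920 : act 9 n2740 = n3920 := rfl
theorem F18784 : act 1 n3920 = n2746 := d16_1 D3920 (iv D2746) (iv F13366)
theorem F18785 : act 2 n3920 = n2975 := d23_1 D3920 (iv D2975) (iv F13367)
theorem F18786 : act 3 n3920 = n3920 := d29_1 D3920 (iv D3920) F13368
theorem F18787 : act 5 n3920 = n2742 := d38_1 D3920 (iv D2742) D2740
theorem F18788 : act 6 n3920 = n3920 := d41_1 D3920 (iv D3920) F13369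
def n3921 : Q := act 9 n2741
theorem D3921 : act 9 n2741 = n3921 := rfl
theorem F18789 : act 1 n3921 = n2747 := d16_1 D3921 (iv D2747) (iv F13371)
theorem F18790 : act 2 n3921 = n2976 := d23_1 D3921 (iv D2976) (iv F13372)
theorem F18791 : act 3 n3921 = n3921 := d29_1 D3921 (iv D3921) F13373
theorem F18792 : act 6 n3921 = n3921 := d41_1 D3921 (iv D3921) F13374
theorem F18793 : act 7 n3921 = n2742 := d43_1 D3921 (iv D2742) D2741
def n3922 : Q := act 8 n2742
theorem D3922 : act 8 n2742 = n3922 := rfl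
theorem F18794 : act 1 n3922 = n2748 := d15_1 D3922 (iv D2748) (iv F13376)
theorem F18795 : act 2 n3922 = n2977 := d22_1 D3922 (iv D2977) (iv F13377)
theorem F18796 : act 3 n3922 = n3922 := d28_1 D3922 (iv D3922) F13378
theorem F18797 : act 6 n3922 = n2743 := d40_1 D3922 (iv D2743) (iv F13379)
theorem F18798 : act 9 n3922 = n2773 := d44_2 D2742 D3922 (iv D2773) (iv D1936) (iv F9510)
def n3923 : Q := act 5 n2743
theorem D3923 : act 5 n2743 = n3923 := rfl
theorem F18799 : act 1 n3923 = n2749 := d12_1 D3923 (iv D2749) (iv F13380)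
theorem F18800 : act 2 n3923 = n2978 := d19_1 D3923 (iv D2978) (iv F13381)
theorem F18801 : act 3 n3923 = n3923 := d25_1 D3923 (iv D3923) F13382
theorem F18802 : act 7 n3923 = n3923 := d36_2 F13383 D3923 (iv D3923)
theorem F18803 : act 8 n3923 = n3923 := d37_2 D2743 D3923 (iv D3923) (iv D2743) F9514
theorem F18804 : act 9 n3923 = n2774 := d38_2 (iv F13384) D3923 (iv D2774)
def n3924 : Q := act 3 n2744
theorem D3924 : act 3 n2744 = n3924 := rfl
theorem F18805 : act 2 n3924 = n3924 := d17_1 D3924 (iv D3924) F13385 F9532 (iv F13385)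
theorem F18806 : act 4 n3924 = n3924 := d24_2 D2744 D3924 (iv D3924) (iv D2744) F9517
theorem F18807 : act 6 n3924 = n3924 := d26_2 F13386 D3924 (iv D3924)
theorem F18808 : act 8 n3924 = n3924 := d28_2 F13387 D3924 (iv D3924)
def n3925 : Q := act 7 n2744
theorem D3925 : act 7 n2744 = n3925 := rfl
theorem F18809 : act 2 n3925 = n2750 := d21_1 D3925 (iv D2750) (iv F13385)
theorem F18810 : act 4 n3925 = n2745 := d32_1 D3925 (iv D2745) D2744
theorem F18811 : act 8 n3925 = n3925 := d42_2 F13387 D3925 (iv D3925)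
def n3926 : Q := act 9 n2744
theorem D3926 : act 9 n2744 = n3926 := rfl
theorem F18812 : act 2 n3926 = n2751 := d23_1 D3926 (iv D2751) (iv F13385)
theorem F18813 : act 4 n3926 = n2746 := d34_1 D3926 (iv D2746) D2744
theorem F18814 : act 6 n3926 = n3926 := d41_1 D3926 (iv D3926) F13386
def n3927 : Q := act 6 n2745
theorem D3927 : act 6 n2745 = n3927 := rfl
theorem F18815 : act 2 n3927 = n2752 := d20_1 D3927 (iv D2752) (iv F13388)
theorem F18816 : act 3 n3927 = n3927 := d26_1 D3927 (iv D3927) F13389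
theorem F18817 : act 5 n3927 = n3927 := d35_1 D3927 (iv D3927) F13390 F9522 (iv F13390)
theorem F18818 : act 7 n3927 = n3927 := d39_2 D2745 D3927 (iv D3927) (iv D2745) F9518
theorem F18819 : act 8 n3927 = n3927 := d40_2 F13391 D3927 (iv D3927)
def n3928 : Q := act 9 n2745
theorem D3928 : act 9 n2745 = n3928 := rfl
theorem F18820 : act 2 n3928 = n2753 := d23_1 D3928 (iv D2753) (iv F13388)
theorem F18821 : act 3 n3928 = n3928 := d29_1 D3928 (iv D3928) F13389
theorem F18822 : act 5 n3928 = n2747 := d38_1 D3928 (iv D2747) (iv F13390)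
theorem F18823 : act 7 n3928 = n2746 := d43_1 D3928 (iv D2746) D2745
def n3929 : Q := act 8 n2746
theorem D3929 : act 8 n2746 = n3929 := rfl
theorem F18824 : act 2 n3929 = n2754 := d22_1 D3929 (iv D2754) (iv F13392)
theorem F18825 : act 3 n3929 = n3929 := d28_1 D3929 (iv D3929) F13393
theorem F18826 : act 6 n3929 = n3929 := d40_1 D3929 (iv D3929) F13395
theorem F18827 : act 9 n3929 = n3929 := d44_2 D2746 D3929 (iv D3929) (iv D2746) F9519
def n3930 : Q := act 8 n2747
theorem D3930 : act 8 n2747 = n3930 := rfl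
theorem F18828 : act 2 n3930 = n2755 := d22_1 D3930 (iv D2755) (iv F13396)
theorem F18829 : act 3 n3930 = n3930 := d28_1 D3930 (iv D3930) F13397
theorem F18830 : act 6 n3930 = n3930 := d40_1 D3930 (iv D3930) F13398
theorem F18831 : act 7 n3930 = n2748 := d42_1 D3930 (iv D2748) (iv F13399)
theorem F18832 : act 9 n3930 = n2775 := d44_2 D2747 D3930 (iv D2775) (iv D1938) (iv F9523)
def n3931 : Q := act 5 n2748
theorem D3931 : act 5 n2748 = n3931 := rfl
theorem F18833 : act 2 n3931 = n2756 := d19_1 D3931 (iv D2756) (iv F13400)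
theorem F18834 : act 3 n3931 = n3931 := d25_1 D3931 (iv D3931) F13401
theorem F18835 : act 9 n3931 = n2776 := d38_2 (iv F13403) D3931 (iv D2776)
def n3932 : Q := act 4 n2749
theorem D3932 : act 4 n2749 = n3932 := rfl
theorem F18836 : act 2 n3932 = n2757 := d18_1 D3932 (iv D2757) (iv F13404)
theorem F18837 : act 7 n3932 = n3932 := d32_2 F13406 D3932 (iv D3932)
theorem F18838 : act 8 n3932 = n3932 := d33_2 F13407 D3932 (iv D3932)
theorem F18839 : act 9 n3932 = n2777 := d34_2 (iv F13408) D3932 (iv D2777)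
def n3933 : Q := act 6 n2749
theorem D3933 : act 6 n2749 = n3933 := rfl
theorem F18840 : act 2 n3933 = n2758 := d20_1 D3933 (iv D2758) (iv F13404)
theorem F18841 : act 3 n3933 = n3933 := d26_1 D3933 (iv D3933) F13405
theorem F18842 : act 8 n3933 = n3933 := d40_2 F13407 D3933 (iv D3933)
theorem F18843 : act 9 n3933 = n2778 := d41_2 (iv F13408) D3933 (iv D2778)
def n3934 : Q := act 6 n2750
theorem D3934 : act 6 n2750 = n3934 := rfl
theorem F18844 : act 1 n3934 = n2989 := d13_1 D3934 (iv D2989) (iv F13409)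
theorem F18845 : act 3 n3934 = n3934 := d26_1 D3934 (iv D3934) F13410
theorem F18846 : act 4 n3934 = n2752 := d31_1 D3934 (iv D2752) (iv F13411)
theorem F18847 : act 7 n3934 = n3934 := d39_2 D2750 D3934 (iv D3934) (iv D2750) F9533
theorem F18848 : act 8 n3934 = n3934 := d40_2 F13412 D3934 (iv D3934)
def n3935 : Q := act 9 n2750
theorem D3935 : act 9 n2750 = n3935 := rfl
theorem F18849 : act 1 n3935 = n2990 := d16_1 D3935 (iv D2990) (iv F13409)
theorem F18850 : act 3 n3935 = n3935 := d29_1 D3935 (iv D3935) F13410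
theorem F18851 : act 4 n3935 = n2753 := d34_1 D3935 (iv D2753) (iv F13411)
theorem F18852 : act 7 n3935 = n2751 := d43_1 D3935 (iv D2751) D2750
def n3936 : Q := act 8 n2751
theorem D3936 : act 8 n2751 = n3936 := rfl
theorem F18853 : act 1 n3936 = n2991 := d15_1 D3936 (iv D2991) (iv F13413)
theorem F18854 : act 3 n3936 = n3936 := d28_1 D3936 (iv D3936) F13414
theorem F18855 : act 4 n3936 = n2754 := d33_1 D3936 (iv D2754) (iv F13415)
theorem F18856 : act 6 n3936 = n3936 := d40_1 D3936 (iv D3936) F13416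
theorem F18857 : act 9 n3936 = n3936 := d44_2 D2751 D3936 (iv D3936) (iv D2751) F9534
def n3937 : Q := act 9 n2752
theorem D3937 : act 9 n2752 = n3937 := rfl
theorem F18858 : act 1 n3937 = n2992 := d16_1 D3937 (iv D2992) (iv F13417)
theorem F18859 : act 3 n3937 = n2759 := d29_1 D3937 (iv D2759) (iv F13418)
theorem F18860 : act 5 n3937 = n3937 := d38_1 D3937 (iv D3937) F13419
theorem F18861 : act 6 n3937 = n2753 := d41_1 D3937 (iv D2753) D2752
theorem F18862 : act 7 n3937 = n3937 := d43_1 D3937 (iv D3937) F13420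
def n3938 : Q := act 8 n2753
theorem D3938 : act 8 n2753 = n3938 := rfl
theorem F18863 : act 1 n3938 = n2993 := d15_1 D3938 (iv D2993) (iv F13422)
theorem F18864 : act 3 n3938 = n2760 := d28_1 D3938 (iv D2760) (iv F13423)
theorem F18865 : act 7 n3938 = n2754 := d42_1 D3938 (iv D2754) (iv F13425)
theorem F18866 : act 9 n3938 = n3938 := d44_2 D2753 D3938 (iv D3938) (iv D2753) F9538
def n3939 : Q := act 5 n2754
theorem D3939 : act 5 n2754 = n3939 := rfl
theorem F18867 : act 1 n3939 = n2994 := d12_1 D3939 (iv D2994) (iv F13426)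
theorem F18868 : act 3 n3939 = n2761 := d25_1 D3939 (iv D2761) (iv F13427)
theorem F18869 : act 8 n3939 = n2756 := d37_2 D2754 D3939 (iv D2756) (iv D1923) (iv F9541)
theorem F18870 : act 9 n3939 = n3939 := d38_2 F13429 D3939 (iv D3939)
def n3940 : Q := act 5 n2755
theorem D3940 : act 5 n2755 = n3940 := rfl
theorem F18871 : act 1 n3940 = n2995 := d12_1 D3940 (iv D2995) (iv F13430)
theorem F18872 : act 3 n3940 = n2762 := d25_1 D3940 (iv D2762) (iv F13431)
theorem F18873 : act 7 n3940 = n2756 := d36_2 (iv F13433) D3940 (iv D2756)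
theorem F18874 : act 9 n3940 = n2779 := d38_2 (iv F13434) D3940 (iv D2779)
def n3941 : Q := act 4 n2756
theorem D3941 : act 4 n2756 = n3941 := rfl
theorem F18875 : act 1 n3941 = n2996 := d11_1 D3941 (iv D2996) (iv F13435)
theorem F18876 : act 9 n3941 = n2780 := d34_2 (iv F13437) D3941 (iv D2780)
def n3942 : Q := act 6 n2756
theorem D3942 : act 6 n2756 = n3942 := rfl
theorem F18877 : act 1 n3942 = n2997 := d13_1 D3942 (iv D2997) (iv F13435)
theorem F18878 : act 3 n3942 = n2764 := d26_1 D3942 (iv D2764) (iv F13436)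
theorem F18879 : act 5 n3942 = n2758 := d35_1 D3942 (iv D2758) (iv D1924) (iv F9549) D2756
theorem F18880 : act 9 n3942 = n2781 := d41_2 (iv F13437) D3942 (iv D2781)
def n3943 : Q := act 6 n2757
theorem D3943 : act 6 n2757 = n3943 := rfl
theorem F18881 : act 1 n3943 = n2998 := d13_1 D3943 (iv D2998) (iv F13438)
theorem F18882 : act 3 n3943 = n3943 := d26_1 D3943 (iv D3943) F13439
theorem F18883 : act 4 n3943 = n2758 := d31_1 D3943 (iv D2758) D2757
theorem F18884 : act 8 n3943 = n3943 := d40_2 F13441 D3943 (iv D3943)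
theorem F18885 : act 9 n3943 = n2782 := d41_2 (iv F13442) D3943 (iv D2782)
def n3944 : Q := act 7 n2758
theorem D3944 : act 7 n2758 = n3944 := rfl
theorem F18886 : act 1 n3944 = n2999 := d14_1 D3944 (iv D2999) (iv F13443)
theorem F18887 : act 3 n3944 = n2765 := d27_1 D3944 (iv D2765) (iv F13444)
theorem F18888 : act 6 n3944 = n3944 := d39_1 D3944 (iv D3944) (iv D2758) F9553 D2758
theorem F18889 : act 8 n3944 = n3944 := d42_2 F13445 D3944 (iv D3944)
theorem F18890 : act 9 n3944 = n2783 := d43_2 (iv F13446) D3944 (iv D2783)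
def n3945 : Q := act 8 n2759
theorem D3945 : act 8 n2759 = n3945 := rfl
theorem F18891 : act 1 n3945 = n3000 := d15_1 D3945 (iv D3000) (iv F13447)
theorem F18892 : act 2 n3945 = n3945 := d22_1 D3945 (iv D3945) F13448
theorem F18893 : act 4 n3945 = n3945 := d33_1 D3945 (iv D3945) F13449
theorem F18894 : act 6 n3945 = n2760 := d40_1 D3945 (iv D2760) (iv F13451)
theorem F18895 : act 7 n3945 = n3945 := d42_1 D3945 (iv D3945) F13452
theorem F18896 : act 9 n3945 = n3945 := d44_2 D2759 D3945 (iv D3945) (iv D2759) F9561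
def n3946 : Q := act 5 n2760
theorem D3946 : act 5 n2760 = n3946 := rfl
theorem F18897 : act 1 n3946 = n3001 := d12_1 D3946 (iv D3001) (iv F13453)
theorem F18898 : act 2 n3946 = n3946 := d19_1 D3946 (iv D3946) F13454
theorem F18899 : act 7 n3946 = n2761 := d36_2 (iv F13456) D3946 (iv D2761)
theorem F18900 : act 8 n3946 = n2762 := d37_2 D2760 D3946 (iv D2762) (iv D1928) (iv F9565)
theorem F18901 : act 9 n3946 = n3946 := d38_2 F13457 D3946 (iv D3946)
def n3947 : Q := act 4 n2761
theorem D3947 : act 4 n2761 = n3947 := rfl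
theorem F18902 : act 1 n3947 = n3002 := d11_1 D3947 (iv D3002) (iv F13458)
theorem F18903 : act 2 n3947 = n3947 := d18_1 D3947 (iv D3947) F13459
theorem F18904 : act 5 n3947 = n3947 := d30_2 D2761 D3947 (iv D3947) (iv D2761) F9569
theorem F18905 : act 8 n3947 = n2763 := d33_2 (iv F13460) D3947 (iv D2763)
theorem F18906 : act 9 n3947 = n3947 := d34_2 F13461 D3947 (iv D3947)
def n3948 : Q := act 6 n2761
theorem D3948 : act 6 n2761 = n3948 := rfl
theorem F18907 : act 1 n3948 = n3003 := d13_1 D3948 (iv D3003) (iv F13458)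
theorem F18908 : act 2 n3948 = n3948 := d20_1 D3948 (iv D3948) F13459
theorem F18909 : act 5 n3948 = n3948 := d35_1 D3948 (iv D3948) (iv D2761) F9570 D2761
theorem F18910 : act 8 n3948 = n2764 := d40_2 (iv F13460) D3948 (iv D2764)
theorem F18911 : act 9 n3948 = n3948 := d41_2 F13461 D3948 (iv D3948)
def n3949 : Q := act 4 n2762
theorem D3949 : act 4 n2762 = n3949 := rfl
theorem F18912 : act 1 n3949 = n3004 := d11_1 D3949 (iv D3004) (iv F13462)
theorem F18913 : act 2 n3949 = n3949 := d18_1 D3949 (iv D3949) F13463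
theorem F18914 : act 5 n3949 = n2766 := d30_2 D2762 D3949 (iv D2766) (iv D1931) (iv F9574)
theorem F18915 : act 7 n3949 = n2763 := d32_2 (iv F13464) D3949 (iv D2763)
theorem F18916 : act 9 n3949 = n2784 := d34_2 (iv F13465) D3949 (iv D2784)
def n3950 : Q := act 6 n2762
theorem D3950 : act 6 n2762 = n3950 := rfl
theorem F18917 : act 1 n3950 = n3005 := d13_1 D3950 (iv D3005) (iv F13462)
theorem F18918 : act 2 n3950 = n3950 := d20_1 D3950 (iv D3950) F13463
theorem F18919 : act 5 n3950 = n3950 := d35_1 D3950 (iv D3950) (iv D2762) F9575 D2762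
theorem F18920 : act 9 n3950 = n2785 := d41_2 (iv F13465) D3950 (iv D2785)
def n3951 : Q := act 3 n2763
theorem D3951 : act 3 n2763 = n3951 := rfl
theorem F18921 : act 1 n3951 = n3006 := d10_1 D3951 (iv D3006) (iv F13466)
theorem F18922 : act 5 n3951 = n2768 := d25_2 (iv F13468) D3951 (iv D2768)
theorem F18923 : act 9 n3951 = n2786 := d29_2 (iv F13469) D3951 (iv D2786)
def n3952 : Q := act 6 n2763
theorem D3952 : act 6 n2763 = n3952 := rfl
theorem F18924 : act 1 n3952 = n3007 := d13_1 D3952 (iv D3007) (iv F13466)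
theorem F18925 : act 2 n3952 = n3952 := d20_1 D3952 (iv D3952) F13467
theorem F18926 : act 4 n3952 = n2764 := d31_1 D3952 (iv D2764) D2763
theorem F18927 : act 5 n3952 = n3952 := d35_1 D3952 (iv D3952) F13468 F9593 (iv F13468)
theorem F18928 : act 9 n3952 = n2787 := d41_2 (iv F13469) D3952 (iv D2787)
def n3953 : Q := act 7 n2764
theorem D3953 : act 7 n2764 = n3953 := rfl
theorem F18929 : act 1 n3953 = n3008 := d14_1 D3953 (iv D3008) (iv F13470)
theorem F18930 : act 2 n3953 = n3953 := d21_1 D3953 (iv D3953) F13471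
theorem F18931 : act 5 n3953 = n2765 := d36_1 D3953 (iv D2765) (iv F13472)
theorem F18932 : act 9 n3953 = n2788 := d43_2 (iv F13473) D3953 (iv D2788)
def n3954 : Q := act 3 n2766
theorem D3954 : act 3 n2766 = n3954 := rfl
theorem F18933 : act 1 n3954 = n3009 := d10_1 D3954 (iv D3009) (iv F13480)
theorem F18934 : act 7 n3954 = n2768 := d27_2 (iv F13482) D3954 (iv D2768)
theorem F18935 : act 8 n3954 = n3954 := d28_2 F13483 D3954 (iv D3954)
theorem F18936 : act 9 n3954 = n2789 := d29_2 (iv F13484) D3954 (iv D2789)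
def n3955 : Q := act 6 n2766
theorem D3955 : act 6 n2766 = n3955 := rfl
theorem F18937 : act 1 n3955 = n3010 := d13_1 D3955 (iv D3010) (iv F13480)
def n3956 : Q := act 2 n2768
theorem D3956 : act 2 n2768 = n3956 := rfl
theorem F18943 : act 3 n3956 = n3956 := d17_2 D2768 D3956 (iv D3956) (iv D2768) F9592
theorem F18944 : act 6 n3956 = n3956 := d20_2 F13492 D3956 (iv D3956)
theorem F18945 : act 8 n3956 = n3956 := d22_2 F13493 D3956 (iv D3956)
theorem F18946 : act 9 n3956 = n2791 := d23_2 (iv F13494) D3956 (iv D2791)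
def n3957 : Q := act 9 n2769
theorem D3957 : act 9 n2769 = n3957 := rfl
theorem F18947 : act 0 n3957 = n2772 := d8_1 D3957 (iv D2772) (iv F13495)
theorem F18948 : act 2 n3957 = n3012 := d23_1 D3957 (iv D3012) (iv F13496)
theorem F18949 : act 3 n3957 = n3957 := d29_1 D3957 (iv D3957) F13497
theorem F18950 : act 5 n3957 = n3957 := d38_1 D3957 (iv D3957) F13498
theorem F18951 : act 6 n3957 = n3957 := d41_1 D3957 (iv D3957) F13499
theorem F18952 : act 7 n3957 = n2770 := d43_1 D3957 (iv D2770) D2769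
def n3958 : Q := act 8 n2770
theorem D3958 : act 8 n2770 = n3958 := rfl
theorem F18953 : act 0 n3958 = n2773 := d7_1 D3958 (iv D2773) (iv F13500)
theorem F18954 : act 2 n3958 = n3013 := d22_1 D3958 (iv D3013) (iv F13501)
theorem F18955 : act 3 n3958 = n3958 := d28_1 D3958 (iv D3958) F13502
theorem F18956 : act 6 n3958 = n2771 := d40_1 D3958 (iv D2771) (iv F13504)
def n3959 : Q := act 5 n2771
theorem D3959 : act 5 n2771 = n3959 := rfl
theorem F18957 : act 0 n3959 = n2774 := d4_1 D3959 (iv D2774) (iv F13505)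
theorem F18958 : act 2 n3959 = n3014 := d19_1 D3959 (iv D3014) (iv F13506)
theorem F18959 : act 3 n3959 = n3959 := d25_1 D3959 (iv D3959) F13507
theorem F18960 : act 7 n3959 = n3959 := d36_2 F13508 D3959 (iv D3959)
theorem F18961 : act 8 n3959 = n2801 := d37_2 D2771 D3959 (iv D2801) (iv D1959) (iv F9603)
def n3960 : Q := act 8 n2772
theorem D3960 : act 8 n2772 = n3960 := rfl
theorem F18962 : act 1 n3960 = n2775 := d15_1 D3960 (iv D2775) (iv F13509)
theorem F18963 : act 2 n3960 = n3015 := d22_1 D3960 (iv D3015) (iv F13510)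
theorem F18964 : act 3 n3960 = n3960 := d28_1 D3960 (iv D3960) F13511
theorem F18965 : act 6 n3960 = n3960 := d40_1 D3960 (iv D3960) F13513
theorem F18966 : act 7 n3960 = n2773 := d42_1 D3960 (iv D2773) (iv F13514)
def n3961 : Q := act 5 n2773
theorem D3961 : act 5 n2773 = n3961 := rfl
theorem F18967 : act 1 n3961 = n2776 := d12_1 D3961 (iv D2776) (iv F13515)
theorem F18968 : act 2 n3961 = n3016 := d19_1 D3961 (iv D3016) (iv F13516)
theorem F18969 : act 3 n3961 = n3961 := d25_1 D3961 (iv D3961) F13517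
theorem F18970 : act 8 n3961 = n3961 := d37_2 D2773 D3961 (iv D3961) (iv D2773) F9613
def n3962 : Q := act 4 n2774
theorem D3962 : act 4 n2774 = n3962 := rfl
theorem F18971 : act 1 n3962 = n2777 := d11_1 D3962 (iv D2777) (iv F13519)
theorem F18972 : act 2 n3962 = n3017 := d18_1 D3962 (iv D3017) (iv F13520)
theorem F18973 : act 7 n3962 = n3962 := d32_2 F13522 D3962 (iv D3962)
theorem F18974 : act 8 n3962 = n2802 := d33_2 (iv F13523) D3962 (iv D2802)
def n3963 : Q := act 6 n2774
theorem D3963 : act 6 n2774 = n3963 := rfl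
theorem F18975 : act 1 n3963 = n2778 := d13_1 D3963 (iv D2778) (iv F13519)
theorem F18976 : act 2 n3963 = n3018 := d20_1 D3963 (iv D3018) (iv F13520)
theorem F18977 : act 3 n3963 = n3963 := d26_1 D3963 (iv D3963) F13521
theorem F18978 : act 8 n3963 = n2803 := d40_2 (iv F13523) D3963 (iv D2803)
def n3964 : Q := act 5 n2775
theorem D3964 : act 5 n2775 = n3964 := rfl
theorem F18979 : act 2 n3964 = n2779 := d19_1 D3964 (iv D2779) (iv F13524)
theorem F18980 : act 3 n3964 = n3964 := d25_1 D3964 (iv D3964) F13525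
theorem F18981 : act 7 n3964 = n2776 := d36_2 (iv F13527) D3964 (iv D2776)
theorem F18982 : act 8 n3964 = n3964 := d37_2 D2775 D3964 (iv D3964) (iv D2775) F9621
def n3965 : Q := act 4 n2776
theorem D3965 : act 4 n2776 = n3965 := rfl
theorem F18983 : act 2 n3965 = n2780 := d18_1 D3965 (iv D2780) (iv F13528)
theorem F18984 : act 8 n3965 = n3965 := d33_2 F13530 D3965 (iv D3965)
def n3966 : Q := act 6 n2776
theorem D3966 : act 6 n2776 = n3966 := rfl
theorem F18985 : act 2 n3966 = n2781 := d20_1 D3966 (iv D2781) (iv F13528)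
theorem F18986 : act 3 n3966 = n3966 := d26_1 D3966 (iv D3966) F13529
theorem F18987 : act 5 n3966 = n2778 := d35_1 D3966 (iv D2778) (iv D1940) (iv F9626) D2776
theorem F18988 : act 8 n3966 = n3966 := d40_2 F13530 D3966 (iv D3966)
def n3967 : Q := act 3 n2777
theorem D3967 : act 3 n2777 = n3967 := rfl
theorem F18989 : act 2 n3967 = n3967 := d17_1 D3967 (iv D3967) F13531 F9639 (iv F13531)
theorem F18990 : act 4 n3967 = n3967 := d24_2 D2777 D3967 (iv D3967) (iv D2777) F9628
theorem F18991 : act 7 n3967 = n3967 := d27_2 F13532 D3967 (iv D3967)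
theorem F18992 : act 8 n3967 = n2804 := d28_2 (iv F13533) D3967 (iv D2804)
def n3968 : Q := act 6 n2777
theorem D3968 : act 6 n2777 = n3968 := rfl
theorem F18993 : act 2 n3968 = n2782 := d20_1 D3968 (iv D2782) (iv F13531)
theorem F18994 : act 4 n3968 = n2778 := d31_1 D3968 (iv D2778) D2777
theorem F18995 : act 8 n3968 = n2805 := d40_2 (iv F13533) D3968 (iv D2805)
def n3969 : Q := act 7 n2778
theorem D3969 : act 7 n2778 = n3969 := rfl
theorem F18996 : act 2 n3969 = n2783 := d21_1 D3969 (iv D2783) (iv F13534)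
theorem F18997 : act 3 n3969 = n3969 := d27_1 D3969 (iv D3969) F13535
theorem F18998 : act 6 n3969 = n3969 := d39_1 D3969 (iv D3969) (iv D2778) F9629 D2778
def n3970 : Q := act 4 n2779
theorem D3970 : act 4 n2779 = n3970 := rfl
theorem F19000 : act 1 n3970 = n3025 := d11_1 D3970 (iv D3025) (iv F13537)
theorem F19001 : act 7 n3970 = n2780 := d32_2 (iv F13539) D3970 (iv D2780)
theorem F19002 : act 8 n3970 = n3970 := d33_2 F13540 D3970 (iv D3970)
def n3971 : Q := act 6 n2779
theorem D3971 : act 6 n2779 = n3971 := rfl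
theorem F19003 : act 1 n3971 = n3026 := d13_1 D3971 (iv D3026) (iv F13537)
theorem F19004 : act 3 n3971 = n2785 := d26_1 D3971 (iv D2785) (iv F13538)
theorem F19005 : act 5 n3971 = n3971 := d35_1 D3971 (iv D3971) (iv D2779) F9633 D2779
theorem F19006 : act 8 n3971 = n3971 := d40_2 F13540 D3971 (iv D3971)
def n3972 : Q := act 3 n2780
theorem D3972 : act 3 n2780 = n3972 := rfl
theorem F19007 : act 1 n3972 = n3027 := d10_1 D3972 (iv D3027) (iv F13541)
theorem F19008 : act 4 n3972 = n2786 := d24_2 D2780 D3972 (iv D2786) (iv D1946) (iv F9636)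
theorem F19009 : act 8 n3972 = n3972 := d28_2 F13542 D3972 (iv D3972)
def n3973 : Q := act 6 n2780
theorem D3973 : act 6 n2780 = n3973 := rfl
theorem F19010 : act 1 n3973 = n3028 := d13_1 D3973 (iv D3028) (iv F13541)
theorem F19011 : act 4 n3973 = n2781 := d31_1 D3973 (iv D2781) D2780
theorem F19012 : act 8 n3973 = n3973 := d40_2 F13542 D3973 (iv D3973)
def n3974 : Q := act 7 n2781
theorem D3974 : act 7 n2781 = n3974 := rfl
theorem F19013 : act 1 n3974 = n3029 := d14_1 D3974 (iv D3029) (iv F13543)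
theorem F19014 : act 3 n3974 = n2788 := d27_1 D3974 (iv D2788) (iv F13544)
theorem F19015 : act 5 n3974 = n2783 := d36_1 D3974 (iv D2783) (iv F13545)
theorem F19016 : act 8 n3974 = n3974 := d42_2 F13546 D3974 (iv D3974)
def n3975 : Q := act 5 n2782
theorem D3975 : act 5 n2782 = n3975 := rfl
theorem F19017 : act 1 n3975 = n3030 := d12_1 D3975 (iv D3030) (iv F13547)
theorem F19018 : act 3 n3975 = n3975 := d25_1 D3975 (iv D3975) F13548
def n3976 : Q := act 7 n2782
theorem D3976 : act 7 n2782 = n3976 := rfl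
theorem F19019 : act 1 n3976 = n3031 := d14_1 D3976 (iv D3031) (iv F13547)
theorem F19020 : act 3 n3976 = n3976 := d27_1 D3976 (iv D3976) F13548
theorem F19021 : act 4 n3976 = n2783 := d32_1 D3976 (iv D2783) (iv F13549)
theorem F19022 : act 6 n3976 = n3976 := d39_1 D3976 (iv D3976) (iv D2782) F9640 D2782
theorem F19023 : act 8 n3976 = n2808 := d42_2 (iv F13550) D3976 (iv D2808)
def n3977 : Q := act 3 n2784
theorem D3977 : act 3 n2784 = n3977 := rfl
theorem F19024 : act 1 n3977 = n3032 := d10_1 D3977 (iv D3032) (iv F13555)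
theorem F19025 : act 5 n3977 = n2789 := d25_2 (iv F13557) D3977 (iv D2789)
theorem F19026 : act 7 n3977 = n2786 := d27_2 (iv F13558) D3977 (iv D2786)
theorem F19027 : act 8 n3977 = n3977 := d28_2 F13559 D3977 (iv D3977)
def n3978 : Q := act 6 n2784
theorem D3978 : act 6 n2784 = n3978 := rfl
theorem F19030 : act 4 n3978 = n2785 := d31_1 D3978 (iv D2785) D2784
def n3979 : Q := act 7 n2785
theorem D3979 : act 7 n2785 = n3979 := rfl
theorem F19032 : act 1 n3979 = n3034 := d14_1 D3979 (iv D3034) (iv F13560)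
theorem F19033 : act 2 n3979 = n3979 := d21_1 D3979 (iv D3979) F13561
theorem F19034 : act 5 n3979 = n3979 := d36_1 D3979 (iv D3979) F13562
theorem F19035 : act 6 n3979 = n2788 := d39_1 D3979 (iv D2788) (iv D1947) (iv F9647) D2785
theorem F19036 : act 8 n3979 = n3979 := d42_2 F13563 D3979 (iv D3979)
def n3980 : Q := act 2 n2786
theorem D3980 : act 2 n2786 = n3980 := rfl
theorem F19037 : act 3 n3980 = n3980 := d17_2 D2786 D3980 (iv D3980) (iv D2786) F9650
theorem F19038 : act 5 n3980 = n2791 := d19_2 (iv F13565) D3980 (iv D2791)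
theorem F19039 : act 8 n3980 = n3980 := d22_2 F13566 D3980 (iv D3980)
def n3981 : Q := act 6 n2786
theorem D3981 : act 6 n2786 = n3981 := rfl
theorem F19040 : act 1 n3981 = n3036 := d13_1 D3981 (iv D3036) (iv F13564)
theorem F19041 : act 3 n3981 = n2787 := d26_1 D3981 (iv D2787) D2786
theorem F19042 : act 5 n3981 = n3981 := d35_1 D3981 (iv D3981) F13565 F9672 (iv F13565)
theorem F19043 : act 8 n3981 = n3981 := d40_2 F13566 D3981 (iv D3981)
def n3982 : Q := act 7 n2787
theorem D3982 : act 7 n2787 = n3982 := rfl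
theorem F19044 : act 1 n3982 = n3037 := d14_1 D3982 (iv D3037) (iv F13567)
theorem F19045 : act 2 n3982 = n3982 := d21_1 D3982 (iv D3982) F13568
theorem F19046 : act 4 n3982 = n2788 := d32_1 D3982 (iv D2788) (iv F13569)
theorem F19047 : act 5 n3982 = n3982 := d36_1 D3982 (iv D3982) F13570
theorem F19048 : act 8 n3982 = n3982 := d42_2 F13571 D3982 (iv D3982)
def n3983 : Q := act 2 n2789
theorem D3983 : act 2 n2789 = n3983 := rfl
theorem F19050 : act 7 n3983 = n2791 := d21_2 (iv F13577) D3983 (iv D2791)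
theorem F19051 : act 8 n3983 = n2792 := d22_2 (iv F13578) D3983 (iv D2792)
def n3984 : Q := act 6 n2789
theorem D3984 : act 6 n2789 = n3984 := rfl
theorem F19052 : act 1 n3984 = n3039 := d13_1 D3984 (iv D3039) (iv F13576)
def n3985 : Q := act 5 n2790
theorem D3985 : act 5 n2790 = n3985 := rfl
theorem F19056 : act 1 n3985 = n3040 := d12_1 D3985 (iv D3040) (iv F13579)
def n3986 : Q := act 1 n2791
theorem D3986 : act 1 n2791 = n3986 := rfl
theorem F19063 : act 8 n3986 = n2795 := d15_2 (iv F13586) D3986 (iv D2795)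
def n3987 : Q := act 1 n2792
theorem D3987 : act 1 n2792 = n3987 := rfl
theorem F19064 : act 2 n3987 = n3042 := d9_2 D2792 D3987 (iv D3042) (iv D2130) (iv F9674)
theorem F19067 : act 7 n3987 = n2795 := d14_2 (iv F13589) D3987 (iv D2795)
def n3988 : Q := act 6 n2792
theorem D3988 : act 6 n2792 = n3988 := rfl
theorem F19069 : act 2 n3988 = n2793 := d20_1 D3988 (iv D2793) D2792
def n3989 : Q := act 5 n2793
theorem D3989 : act 5 n2793 = n3989 := rfl
theorem F19073 : act 1 n3989 = n3044 := d12_1 D3989 (iv D3044) (iv F13591)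
def n3990 : Q := act 8 n2794
theorem D3990 : act 8 n2794 = n3990 := rfl
theorem F19078 : act 1 n3990 = n3045 := d15_1 D3990 (iv D3045) (iv F13595)
def n3991 : Q := act 0 n2795
theorem D3991 : act 0 n2795 = n3991 := rfl
def n3998 : Q := act 4 n2801
theorem D3998 : act 4 n2801 = n3998 := rfl
theorem F19120 : act 0 n3998 = n2802 := d3_1 D3998 (iv D2802) (iv F13633)
theorem F19121 : act 2 n3998 = n3053 := d18_1 D3998 (iv D3053) (iv F13634)
theorem F19122 : act 5 n3998 = n3998 := d30_2 D2801 D3998 (iv D3998) (iv D2801) F9711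
theorem F19123 : act 7 n3998 = n3998 := d32_2 F13636 D3998 (iv D3998)
theorem F19124 : act 9 n3998 = n3998 := d34_2 F13637 D3998 (iv D3998)
def n3999 : Q := act 6 n2801
theorem D3999 : act 6 n2801 = n3999 := rfl
theorem F19125 : act 0 n3999 = n2803 := d5_1 D3999 (iv D2803) (iv F13633)
theorem F19126 : act 2 n3999 = n3054 := d20_1 D3999 (iv D3054) (iv F13634)
def n4000 : Q := act 3 n2802
theorem D4000 : act 3 n2802 = n4000 := rfl
theorem F19130 : act 1 n4000 = n2804 := d10_1 D4000 (iv D2804) (iv F13638)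
theorem F19131 : act 4 n4000 = n4000 := d24_2 D2802 D4000 (iv D4000) (iv D2802) F9717
theorem F19132 : act 5 n4000 = n4000 := d25_2 F13640 D4000 (iv D4000)
theorem F19133 : act 7 n4000 = n4000 := d27_2 F13641 D4000 (iv D4000)
theorem F19134 : act 9 n4000 = n4000 := d29_2 F13642 D4000 (iv D4000)
def n4001 : Q := act 6 n2802
theorem D4001 : act 6 n2802 = n4001 := rfl
theorem F19135 : act 1 n4001 = n2805 := d13_1 D4001 (iv D2805) (iv F13638)
theorem F19136 : act 2 n4001 = n3056 := d20_1 D4001 (iv D3056) (iv F13639)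
def n4002 : Q := act 7 n2803
theorem D4002 : act 7 n2803 = n4002 := rfl
theorem F19139 : act 1 n4002 = n2806 := d14_1 D4002 (iv D2806) (iv F13643)
theorem F19140 : act 2 n4002 = n3057 := d21_1 D4002 (iv D3057) (iv F13644)
def n4003 : Q := act 6 n2804
theorem D4003 : act 6 n2804 = n4003 := rfl
theorem F19145 : act 2 n4003 = n4003 := d20_1 D4003 (iv D4003) F13648
theorem F19146 : act 3 n4003 = n2805 := d26_1 D4003 (iv D2805) D2804
theorem F19147 : act 4 n4003 = n4003 := d31_1 D4003 (iv D4003) F13649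
theorem F19148 : act 9 n4003 = n4003 := d41_2 F13652 D4003 (iv D4003)
def n4004 : Q := act 5 n2805
theorem D4004 : act 5 n2805 = n4004 := rfl
theorem F19149 : act 2 n4004 = n2807 := d19_1 D4004 (iv D2807) (iv F13653)
theorem F19150 : act 4 n4004 = n4004 := d30_1 D4004 (iv D4004) F13654 F9726 (iv F13654)
theorem F19151 : act 6 n4004 = n4004 := d35_2 D2805 D4004 (iv D4004) (iv D2805) F9721
theorem F19152 : act 9 n4004 = n4004 := d38_2 F13655 D4004 (iv D4004)
def n4005 : Q := act 7 n2805
theorem D4005 : act 7 n2805 = n4005 := rfl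
def n4006 : Q := act 7 n2807
theorem D4006 : act 7 n2807 = n4006 := rfl
theorem F19157 : act 1 n4006 = n3061 := d14_1 D4006 (iv D3061) (iv F13661)
theorem F19158 : act 3 n4006 = n4006 := d27_1 D4006 (iv D4006) F13662
theorem F19159 : act 4 n4006 = n4006 := d32_1 D4006 (iv D4006) F13663
theorem F19160 : act 5 n4006 = n2808 := d36_1 D4006 (iv D2808) D2807
theorem F19161 : act 9 n4006 = n4006 := d43_2 F13665 D4006 (iv D4006)
def n4007 : Q := act 8 n2807
theorem D4007 : act 8 n2807 = n4007 := rfl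
theorem F19162 : act 1 n4007 = n3062 := d15_1 D4007 (iv D3062) (iv F13661)
theorem F19163 : act 3 n4007 = n4007 := d28_1 D4007 (iv D4007) F13662
theorem F19164 : act 4 n4007 = n4007 := d33_1 D4007 (iv D4007) F13663
theorem F19165 : act 6 n4007 = n4007 := d40_1 D4007 (iv D4007) F13664
def n4008 : Q := act 6 n2809
theorem D4008 : act 6 n2809 = n4008 := rfl
theorem F19166 : act 0 n4008 = n2810 := d5_1 D4008 (iv D2810) D2809
theorem F19167 : act 1 n4008 = n4008 := d13_1 D4008 (iv D4008) F13671
theorem F19168 : act 3 n4008 = n4008 := d26_1 D4008 (iv D4008) F13672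
theorem F19169 : act 4 n4008 = n4008 := d31_1 D4008 (iv D4008) F13673
theorem F19170 : act 8 n4008 = n4008 := d40_2 F13676 D4008 (iv D4008)
def n4009 : Q := act 9 n2809
theorem D4009 : act 9 n2809 = n4009 := rfl
theorem F19171 : act 0 n4009 = n2811 := d8_1 D4009 (iv D2811) D2809
theorem F19172 : act 1 n4009 = n4009 := d16_1 D4009 (iv D4009) F13671
theorem F19173 : act 3 n4009 = n4009 := d29_1 D4009 (iv D4009) F13672
theorem F19174 : act 4 n4009 = n4009 := d34_1 D4009 (iv D4009) F13673
theorem F19175 : act 5 n4009 = n2834 := d38_1 D4009 (iv D2834) (iv F13674)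
theorem F19176 : act 7 n4009 = n4009 := d43_1 D4009 (iv D4009) F13675
def n4010 : Q := act 5 n2810
theorem D4010 : act 5 n2810 = n4010 := rfl
theorem F19177 : act 1 n4010 = n2812 := d12_1 D4010 (iv D2812) (iv F13677)
theorem F19178 : act 3 n4010 = n4010 := d25_1 D4010 (iv D4010) F13678
theorem F19179 : act 6 n4010 = n2835 := d35_2 D2810 D4010 (iv D2835) (iv D1981) (iv F9739)
def n4011 : Q := act 7 n2810
theorem D4011 : act 7 n2810 = n4011 := rfl
theorem F19180 : act 1 n4011 = n2813 := d14_1 D4011 (iv D2813) (iv F13677)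
theorem F19181 : act 3 n4011 = n4011 := d27_1 D4011 (iv D4011) F13678
theorem F19182 : act 4 n4011 = n4011 := d32_1 D4011 (iv D4011) F13679
theorem F19183 : act 6 n4011 = n4011 := d39_1 D4011 (iv D4011) (iv D2810) F9740 D2810
theorem F19184 : act 8 n4011 = n4011 := d42_2 F13680 D4011 (iv D4011)
def n4012 : Q := act 9 n2810
theorem D4012 : act 9 n2810 = n4012 := rfl
theorem F19185 : act 1 n4012 = n2814 := d16_1 D4012 (iv D2814) (iv F13677)
theorem F19186 : act 3 n4012 = n4012 := d29_1 D4012 (iv D4012) F13678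
theorem F19187 : act 4 n4012 = n4012 := d34_1 D4012 (iv D4012) F13679
theorem F19188 : act 6 n4012 = n2811 := d41_1 D4012 (iv D2811) D2810
def n4013 : Q := act 8 n2811
theorem D4013 : act 8 n2811 = n4013 := rfl
theorem F19189 : act 1 n4013 = n2815 := d15_1 D4013 (iv D2815) (iv F13681)
theorem F19190 : act 3 n4013 = n4013 := d28_1 D4013 (iv D4013) F13682
theorem F19191 : act 4 n4013 = n4013 := d33_1 D4013 (iv D4013) F13683
theorem F19192 : act 7 n4013 = n4013 := d42_1 D4013 (iv D4013) F13685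
theorem F19193 : act 9 n4013 = n4013 := d44_2 D2811 D4013 (iv D4013) (iv D2811) F9741
def n4014 : Q := act 4 n2812
theorem D4014 : act 4 n2812 = n4014 := rfl
theorem F19194 : act 0 n4014 = n4014 := d3_1 D4014 (iv D4014) F13686
theorem F19195 : act 2 n4014 = n2816 := d18_1 D4014 (iv D2816) (iv F13687)
theorem F19196 : act 5 n4014 = n4014 := d30_2 D2812 D4014 (iv D4014) (iv D2812) F9745
theorem F19197 : act 6 n4014 = n2839 := d31_2 (iv F13689) D4014 (iv D2839)
theorem F19198 : act 3 n2824 = n4014 := d45_1 F13743 (iv D4014) (iv D2812) (iv D1966) F6934 F6935 (iv D1373) (iv D957) (iv D666) (iv D462) F1755 F1756 (iv D320) F1236 F1237 (iv D220) (iv D151) (iv D103) (iv D70) D71 F431 F432 F310 F225 F226 (iv F322) (iv D51) F218 F165 F122 F123 F91 (iv D12) F58 F56 (iv F77) F78 D15 F110 D24 D38 (iv F319) F320 (iv F442) D109 D161 D237 F1323 F1320 F981 F982 (iv F1393) F1394 (iv D251) (iv F1370) (iv F1843) (iv F2484) (iv F3506) D966 (iv F6948) D1972 D2824 F13742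
theorem F19199 : act 7 n4014 = n2818 := d27_2 (iv F13746) F19198 F13715
theorem F19200 : act 8 n4014 = n2817 := d28_2 D2824 F19198 F13712
def n4015 : Q := act 7 n2812
theorem D4015 : act 7 n2812 = n4015 := rfl
theorem F19201 : act 0 n4015 = n4015 := d6_1 D4015 (iv D4015) F13686
theorem F19202 : act 2 n4015 = n2817 := d21_1 D4015 (iv D2817) (iv F13687)
theorem F19203 : act 3 n4015 = n4015 := d27_1 D4015 (iv D4015) F13688
theorem F19204 : act 4 n4015 = n2818 := d32_1 D4015 (iv F19199) (iv D4014)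
theorem F19205 : act 5 n4015 = n2813 := d36_1 D4015 (iv D2813) D2812
theorem F19206 : act 6 n2847 = n4015 := d31_0 F19204 F13717 (iv F13850)
theorem F19207 : act 8 n2816 = n4015 := d33_0 F19204 (iv D2818) D2816
def n4016 : Q := act 8 n2812
theorem D4016 : act 8 n2812 = n4016 := rfl
theorem F19208 : act 0 n4016 = n4016 := d7_1 D4016 (iv D4016) F13686
theorem F19209 : act 2 n4016 = n2818 := d22_1 D4016 (iv D2818) (iv F13687)
theorem F19210 : act 3 n4016 = n4016 := d28_1 D4016 (iv D4016) F13688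
theorem F19211 : act 4 n4016 = n2817 := d33_1 D4016 (iv F19200) (iv D4014)
theorem F19212 : act 5 n4016 = n4016 := d37_1 D4016 (iv D4016) (iv D2812) F9746 D2812
theorem F19213 : act 6 n4016 = n2841 := d40_1 D4016 (iv D2841) (iv F13689)
theorem F19214 : act 7 n4016 = n2816 := d42_1 D4016 F19207 (iv D4015)
def n4017 : Q := act 9 n2812
theorem D4017 : act 9 n2812 = n4017 := rfl
theorem F19215 : act 0 n4017 = n4017 := d8_1 D4017 (iv D4017) F13686
theorem F19216 : act 2 n4017 = n2819 := d23_1 D4017 (iv D2819) (iv F13687)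
theorem F19217 : act 3 n4017 = n4017 := d29_1 D4017 (iv D4017) F13688
theorem F19218 : act 5 n4017 = n2814 := d38_1 D4017 (iv D2814) D2812
theorem F19219 : act 6 n4017 = n2842 := d41_1 D4017 (iv D2842) (iv F13689)
def n4018 : Q := act 9 n2813
theorem D4018 : act 9 n2813 = n4018 := rfl
theorem F19220 : act 0 n4018 = n4018 := d8_1 D4018 (iv D4018) F13690
theorem F19221 : act 2 n4018 = n2820 := d23_1 D4018 (iv D2820) (iv F13691)
theorem F19222 : act 3 n4018 = n4018 := d29_1 D4018 (iv D4018) F13692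
theorem F19223 : act 4 n4018 = n4018 := d34_1 D4018 (iv D4018) F13693
theorem F19224 : act 6 n4018 = n4018 := d41_1 D4018 (iv D4018) F13694
theorem F19225 : act 7 n4018 = n2814 := d43_1 D4018 (iv D2814) D2813
def n4019 : Q := act 8 n2814
theorem D4019 : act 8 n2814 = n4019 := rfl
theorem F19226 : act 0 n4019 = n4019 := d7_1 D4019 (iv D4019) F13696
theorem F19227 : act 2 n4019 = n2821 := d22_1 D4019 (iv D2821) (iv F13697)
theorem F19228 : act 3 n4019 = n4019 := d28_1 D4019 (iv D4019) F13698
theorem F19229 : act 4 n4019 = n4019 := d33_1 D4019 (iv D4019) F13699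
theorem F19230 : act 6 n4019 = n2815 := d40_1 D4019 (iv D2815) (iv F13700)
theorem F19231 : act 9 n4019 = n4019 := d44_2 D2814 D4019 (iv D4019) (iv D2814) F9746
def n4020 : Q := act 5 n2815
theorem D4020 : act 5 n2815 = n4020 := rfl
theorem F19232 : act 0 n4020 = n4020 := d4_1 D4020 (iv D4020) F13701
theorem F19233 : act 2 n4020 = n2822 := d19_1 D4020 (iv D2822) (iv F13702)
theorem F19234 : act 3 n4020 = n4020 := d25_1 D4020 (iv D4020) F13703
theorem F19235 : act 7 n4020 = n4020 := d36_2 F13705 D4020 (iv D4020)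
theorem F19236 : act 8 n4020 = n2845 := d37_2 D2815 D4020 (iv D2845) (iv D1986) (iv F9751)
theorem F19237 : act 9 n4020 = n4020 := d38_2 F13706 D4020 (iv D4020)
def n4021 : Q := act 9 n2816
theorem D4021 : act 9 n2816 = n4021 := rfl
theorem F19238 : act 0 n4021 = n4021 := d8_1 D4021 (iv D4021) F13707
theorem F19239 : act 3 n4021 = n4021 := d29_1 D4021 (iv D4021) F13708
theorem F19240 : act 4 n4021 = n2819 := d34_1 D4021 (iv D2819) D2816
theorem F19241 : act 5 n4021 = n4021 := d38_1 D4021 (iv D4021) F13709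
theorem F19242 : act 6 n4021 = n2848 := d41_1 D4021 (iv D2848) (iv F13710)
def n4022 : Q := act 6 n2817
theorem D4022 : act 6 n2817 = n4022 := rfl
theorem F19243 : act 0 n4022 = n4022 := d5_1 D4022 (iv D4022) F13711
theorem F19244 : act 2 n4022 = n2847 := d20_1 D4022 F19206 F19202
theorem F19245 : act 3 n4022 = n2823 := d26_1 D4022 (iv D2823) (iv F13712)
theorem F19246 : act 4 n4022 = n2841 := d31_1 D4022 (iv F19213) F19211
theorem F19247 : act 5 n4022 = n4022 := d35_1 D4022 (iv D4022) F13713 F9759 (iv F13713)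
theorem F19248 : act 7 n4022 = n2849 := d39_2 D2817 D4022 (iv D2849) (iv D1988) (iv F9755)
theorem F19249 : act 8 n4022 = n2839 := d40_2 F19200 D4022 (iv F19197)
def n4023 : Q := act 9 n2817
theorem D4023 : act 9 n2817 = n4023 := rfl
theorem F19250 : act 0 n4023 = n4023 := d8_1 D4023 (iv D4023) F13711
theorem F19251 : act 3 n4023 = n2825 := d29_1 D4023 (iv D2825) (iv F13712)
theorem F19252 : act 5 n4023 = n2820 := d38_1 D4023 (iv D2820) (iv F13713)
theorem F19253 : act 7 n4023 = n2819 := d43_1 D4023 (iv D2819) D2817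
def n4024 : Q := act 9 n2818
theorem D4024 : act 9 n2818 = n4024 := rfl
theorem F19254 : act 0 n4024 = n4024 := d8_1 D4024 (iv D4024) F13714
theorem F19255 : act 3 n4024 = n2826 := d29_1 D4024 (iv D2826) (iv F13715)
theorem F19256 : act 5 n4024 = n4024 := d38_1 D4024 (iv D4024) F13716
theorem F19257 : act 6 n4024 = n2852 := d41_1 D4024 (iv D2852) (iv F13717)
def n4025 : Q := act 8 n2819
theorem D4025 : act 8 n2819 = n4025 := rfl
theorem F19258 : act 0 n4025 = n4025 := d7_1 D4025 (iv D4025) F13718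
theorem F19259 : act 3 n4025 = n2827 := d28_1 D4025 (iv D2827) (iv F13719)
theorem F19260 : act 6 n4025 = n2853 := d40_1 D4025 (iv D2853) (iv F13721)
def n4026 : Q := act 8 n2820
theorem D4026 : act 8 n2820 = n4026 := rfl
theorem F19261 : act 0 n4026 = n4026 := d7_1 D4026 (iv D4026) F13722
theorem F19262 : act 3 n4026 = n2828 := d28_1 D4026 (iv D2828) (iv F13723)
theorem F19263 : act 4 n4026 = n4026 := d33_1 D4026 (iv D4026) F13724
theorem F19264 : act 6 n4026 = n4026 := d40_1 D4026 (iv D4026) F13725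
theorem F19265 : act 7 n4026 = n2821 := d42_1 D4026 (iv D2821) (iv F13726)
theorem F19266 : act 9 n4026 = n4026 := d44_2 D2820 D4026 (iv D4026) (iv D2820) F9760
def n4027 : Q := act 5 n2821
theorem D4027 : act 5 n2821 = n4027 := rfl
theorem F19267 : act 0 n4027 = n4027 := d4_1 D4027 (iv D4027) F13727
theorem F19268 : act 3 n4027 = n2829 := d25_1 D4027 (iv D2829) (iv F13728)
theorem F19269 : act 9 n4027 = n4027 := d38_2 F13731 D4027 (iv D4027)
def n4028 : Q := act 4 n2822
theorem D4028 : act 4 n2822 = n4028 := rfl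
theorem F19270 : act 0 n4028 = n4028 := d3_1 D4028 (iv D4028) F13732
theorem F19271 : act 3 n4028 = n4028 := d24_1 D4028 (iv D4028) F13733 F9796 (iv F13733)
theorem F19272 : act 5 n4028 = n4028 := d30_2 D2822 D4028 (iv D4028) (iv D2822) F9767
theorem F19273 : act 7 n4028 = n4028 := d32_2 F13734 D4028 (iv D4028)
theorem F19274 : act 8 n4028 = n2856 := d33_2 (iv F13735) D4028 (iv D2856)
theorem F19275 : act 9 n4028 = n4028 := d34_2 F13736 D4028 (iv D4028)
def n4029 : Q := act 6 n2822
theorem D4029 : act 6 n2822 = n4029 := rfl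
theorem F19276 : act 0 n4029 = n4029 := d5_1 D4029 (iv D4029) F13732
theorem F19277 : act 3 n4029 = n2830 := d26_1 D4029 (iv D2830) (iv F13733)
theorem F19278 : act 8 n4029 = n2857 := d40_2 (iv F13735) D4029 (iv D2857)
theorem F19279 : act 9 n4029 = n4029 := d41_2 F13736 D4029 (iv D4029)
def n4030 : Q := act 8 n2823
theorem D4030 : act 8 n2823 = n4030 := rfl
theorem F19280 : act 0 n4030 = n4030 := d7_1 D4030 (iv D4030) F13737
theorem F19281 : act 2 n4030 = n4030 := d22_1 D4030 (iv D4030) F13738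
theorem F19282 : act 3 n4030 = n2839 := d28_1 D4030 (iv F19249) F19245
theorem F19283 : act 4 n4030 = n4030 := d33_1 D4030 (iv D4030) F13739
theorem F19284 : act 6 n4030 = n2824 := d40_1 D4030 (iv D2824) D2823
theorem F19285 : act 7 n4030 = n2858 := d42_1 D4030 (iv D2858) (iv F13741)
theorem F19286 : act 5 n2979 = n4030 := d25_0 F19282 F13814 D2979
def n4031 : Q := act 9 n2823
theorem D4031 : act 9 n2823 = n4031 := rfl
theorem F19287 : act 0 n4031 = n4031 := d8_1 D4031 (iv D4031) F13737
theorem F19288 : act 2 n4031 = n4031 := d23_1 D4031 (iv D4031) F13738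
theorem F19289 : act 4 n4031 = n4031 := d34_1 D4031 (iv D4031) F13739
theorem F19290 : act 5 n4031 = n4031 := d38_1 D4031 (iv D4031) F13740
theorem F19291 : act 6 n4031 = n2825 := d41_1 D4031 (iv D2825) D2823
theorem F19292 : act 7 n4031 = n2859 := d43_1 D4031 (iv D2859) (iv F13741)
def n4032 : Q := act 9 n2824
theorem D4032 : act 9 n2824 = n4032 := rfl
theorem F19293 : act 0 n4032 = n4032 := d8_1 D4032 (iv D4032) F13742
theorem F19294 : act 2 n4032 = n4032 := d23_1 D4032 (iv D4032) F13743
theorem F19295 : act 4 n4032 = n4032 := d34_1 D4032 (iv D4032) F13744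
theorem F19296 : act 5 n4032 = n4032 := d38_1 D4032 (iv D4032) F13745
theorem F19297 : act 7 n4032 = n2826 := d43_1 D4032 (iv D2826) (iv F13746)
def n4033 : Q := act 8 n2825
theorem D4033 : act 8 n2825 = n4033 := rfl
theorem F19298 : act 0 n4033 = n4033 := d7_1 D4033 (iv D4033) F13747
theorem F19299 : act 2 n4033 = n4033 := d22_1 D4033 (iv D4033) F13748
theorem F19300 : act 4 n4033 = n4033 := d33_1 D4033 (iv D4033) F13749
theorem F19301 : act 7 n4033 = n2827 := d42_1 D4033 (iv D2827) (iv F13751)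
def n4034 : Q := act 8 n2826
theorem D4034 : act 8 n2826 = n4034 := rfl
theorem F19302 : act 0 n4034 = n4034 := d7_1 D4034 (iv D4034) F13752
theorem F19303 : act 2 n4034 = n4034 := d22_1 D4034 (iv D4034) F13753
theorem F19304 : act 4 n4034 = n4034 := d33_1 D4034 (iv D4034) F13754
theorem F19305 : act 6 n4034 = n2862 := d40_1 D4034 (iv D2862) (iv F13756)
theorem F19306 : act 9 n4034 = n2827 := d44_2 D2826 D4034 (iv D2827) (iv D1974) D1973
def n4035 : Q := act 5 n2827
theorem D4035 : act 5 n2827 = n4035 := rfl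
theorem F19307 : act 0 n4035 = n4035 := d4_1 D4035 (iv D4035) F13757
theorem F19308 : act 2 n4035 = n4035 := d19_1 D4035 (iv D4035) F13758
theorem F19309 : act 8 n4035 = n2829 := d37_2 D2827 D4035 (iv D2829) (iv D1976) (iv F9782)
def n4036 : Q := act 5 n2828
theorem D4036 : act 5 n2828 = n4036 := rfl
theorem F19310 : act 0 n4036 = n4036 := d4_1 D4036 (iv D4036) F13761
theorem F19311 : act 2 n4036 = n4036 := d19_1 D4036 (iv D4036) F13762
theorem F19312 : act 7 n4036 = n2829 := d36_2 (iv F13765) D4036 (iv D2829)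
theorem F19313 : act 9 n4036 = n4036 := d38_2 F13766 D4036 (iv D4036)
def n4037 : Q := act 4 n2829
theorem D4037 : act 4 n2829 = n4037 := rfl
theorem F19314 : act 0 n4037 = n4037 := d3_1 D4037 (iv D4037) F13767
theorem F19315 : act 2 n4037 = n4037 := d18_1 D4037 (iv D4037) F13768
theorem F19316 : act 5 n4037 = n2832 := d30_2 D2829 D4037 (iv D2832) (iv D1979) (iv F9791)
theorem F19317 : act 9 n4037 = n4037 := d34_2 F13769 D4037 (iv D4037)
def n4038 : Q := act 6 n2829
theorem D4038 : act 6 n2829 = n4038 := rfl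
theorem F19318 : act 0 n4038 = n4038 := d5_1 D4038 (iv D4038) F13767
theorem F19319 : act 2 n4038 = n4038 := d20_1 D4038 (iv D4038) F13768
theorem F19320 : act 5 n4038 = n2830 := d35_1 D4038 (iv D2830) (iv D1977) (iv F9792) D2829
theorem F19321 : act 9 n4038 = n4038 := d41_2 F13769 D4038 (iv D4038)
def n4039 : Q := act 7 n2830
theorem D4039 : act 7 n2830 = n4039 := rfl
theorem F19322 : act 0 n4039 = n4039 := d6_1 D4039 (iv D4039) F13770
theorem F19323 : act 2 n4039 = n4039 := d21_1 D4039 (iv D4039) F13771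
theorem F19324 : act 4 n4039 = n4039 := d32_1 D4039 (iv D4039) F13772
theorem F19325 : act 6 n4039 = n4039 := d39_1 D4039 (iv D4039) (iv D2830) F9797 D2830
theorem F19326 : act 8 n4039 = n2867 := d42_2 (iv F13773) D4039 (iv D2867)
theorem F19327 : act 9 n4039 = n4039 := d43_2 F13774 D4039 (iv D4039)
def n4040 : Q := act 4 n2831
theorem D4040 : act 4 n2831 = n4040 := rfl
theorem F19328 : act 0 n4040 = n4040 := d3_1 D4040 (iv D4040) F13775
theorem F19329 : act 2 n4040 = n4040 := d18_1 D4040 (iv D4040) F13776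
theorem F19330 : act 7 n4040 = n2832 := d32_2 (iv F13778) D4040 (iv D2832)
theorem F19331 : act 8 n4040 = n4040 := d33_2 F13779 D4040 (iv D4040)
theorem F19332 : act 9 n4040 = n4040 := d34_2 F13780 D4040 (iv D4040)
def n4041 : Q := act 6 n2831
theorem D4041 : act 6 n2831 = n4041 := rfl
theorem F19333 : act 0 n4041 = n4041 := d5_1 D4041 (iv D4041) F13775
theorem F19334 : act 2 n4041 = n4041 := d20_1 D4041 (iv D4041) F13776
theorem F19335 : act 3 n4041 = n4041 := d26_1 D4041 (iv D4041) F13777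
theorem F19336 : act 5 n4041 = n4041 := d35_1 D4041 (iv D4041) (iv D2831) F9803 D2831
theorem F19337 : act 7 n4041 = n4041 := d39_2 (iv F13778) D4041 (iv D4041) F13778 F9809
theorem F19338 : act 8 n4041 = n4041 := d40_2 F13779 D4041 (iv D4041)
theorem F19339 : act 9 n4041 = n4041 := d41_2 F13780 D4041 (iv D4041)
def n4042 : Q := act 3 n2832
theorem D4042 : act 3 n2832 = n4042 := rfl
theorem F19340 : act 0 n4042 = n4042 := d2_1 D4042 (iv D4042) F13781
theorem F19341 : act 4 n4042 = n4042 := d24_2 D2832 D4042 (iv D4042) (iv D2832) F9808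
theorem F19342 : act 6 n4042 = n4042 := d26_2 F13783 D4042 (iv D4042)
theorem F19343 : act 8 n4042 = n4042 := d28_2 F13784 D4042 (iv D4042)
theorem F19344 : act 9 n4042 = n4042 := d29_2 F13785 D4042 (iv D4042)
def n4043 : Q := act 5 n2833
theorem D4043 : act 5 n2833 = n4043 := rfl
theorem F19345 : act 0 n4043 = n2835 := d4_1 D4043 (iv D2835) (iv F13786)
theorem F19346 : act 1 n4043 = n4043 := d12_1 D4043 (iv D4043) F13787
theorem F19347 : act 3 n4043 = n4043 := d25_1 D4043 (iv D4043) F13788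
def n4044 : Q := act 7 n2833
theorem D4044 : act 7 n2833 = n4044 := rfl
theorem F19348 : act 0 n4044 = n2836 := d6_1 D4044 (iv D2836) (iv F13786)
theorem F19349 : act 1 n4044 = n4044 := d14_1 D4044 (iv D4044) F13787
theorem F19350 : act 3 n4044 = n4044 := d27_1 D4044 (iv D4044) F13788
theorem F19351 : act 4 n4044 = n2970 := d32_1 D4044 (iv D2970) (iv F13789)
theorem F19352 : act 6 n4044 = n4044 := d39_1 D4044 (iv D4044) (iv D2833) F9815 D2833
theorem F19353 : act 8 n4044 = n2872 := d42_2 (iv F13790) D4044 (iv D2872)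
def n4045 : Q := act 9 n2833
theorem D4045 : act 9 n2833 = n4045 := rfl
theorem F19354 : act 0 n4045 = n2837 := d8_1 D4045 (iv D2837) (iv F13786)
theorem F19355 : act 1 n4045 = n4045 := d16_1 D4045 (iv D4045) F13787
theorem F19356 : act 3 n4045 = n4045 := d29_1 D4045 (iv D4045) F13788
theorem F19357 : act 4 n4045 = n2971 := d34_1 D4045 (iv D2971) (iv F13789)
theorem F19358 : act 6 n4045 = n2834 := d41_1 D4045 (iv D2834) D2833
def n4046 : Q := act 8 n2834
theorem D4046 : act 8 n2834 = n4046 := rfl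
theorem F19359 : act 0 n4046 = n2838 := d7_1 D4046 (iv D2838) (iv F13791)
theorem F19360 : act 1 n4046 = n4046 := d15_1 D4046 (iv D4046) F13792
theorem F19361 : act 3 n4046 = n4046 := d28_1 D4046 (iv D4046) F13793
theorem F19362 : act 4 n4046 = n2972 := d33_1 D4046 (iv D2972) (iv F13794)
theorem F19363 : act 7 n4046 = n4046 := d42_1 D4046 (iv D4046) F13795
theorem F19364 : act 9 n4046 = n2874 := d44_2 D2834 D4046 (iv D2874) (iv D2005) (iv F9816)
def n4047 : Q := act 4 n2835
theorem D4047 : act 4 n2835 = n4047 := rfl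
theorem F19365 : act 1 n4047 = n2839 := d11_1 D4047 (iv D2839) (iv F13796)
theorem F19366 : act 5 n4047 = n2973 := d30_2 D2835 D4047 (iv D2973) (iv D2078) (iv F9819)
def n4048 : Q := act 7 n2835
theorem D4048 : act 7 n2835 = n4048 := rfl
theorem F19367 : act 1 n4048 = n2840 := d14_1 D4048 (iv D2840) (iv F13796)
theorem F19368 : act 3 n4048 = n4048 := d27_1 D4048 (iv D4048) F13797
theorem F19369 : act 5 n4048 = n2836 := d36_1 D4048 (iv D2836) D2835
def n4049 : Q := act 8 n2835
theorem D4049 : act 8 n2835 = n4049 := rfl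
theorem F19370 : act 1 n4049 = n2841 := d15_1 D4049 (iv D2841) (iv F13796)
theorem F19371 : act 3 n4049 = n4049 := d28_1 D4049 (iv D4049) F13797
theorem F19372 : act 5 n4049 = n2876 := d37_1 D4049 (iv D2876) (iv D2006) (iv F9820) D2835
def n4050 : Q := act 9 n2835
theorem D4050 : act 9 n2835 = n4050 := rfl
theorem F19373 : act 1 n4050 = n2842 := d16_1 D4050 (iv D2842) (iv F13796)
theorem F19374 : act 3 n4050 = n4050 := d29_1 D4050 (iv D4050) F13797
theorem F19375 : act 5 n4050 = n2837 := d38_1 D4050 (iv D2837) D2835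
def n4051 : Q := act 9 n2836
theorem D4051 : act 9 n2836 = n4051 := rfl
theorem F19376 : act 1 n4051 = n2843 := d16_1 D4051 (iv D2843) (iv F13798)
theorem F19377 : act 3 n4051 = n4051 := d29_1 D4051 (iv D4051) F13799
theorem F19378 : act 4 n4051 = n2976 := d34_1 D4051 (iv D2976) (iv F13800)
theorem F19379 : act 6 n4051 = n4051 := d41_1 D4051 (iv D4051) F13801
theorem F19380 : act 7 n4051 = n2837 := d43_1 D4051 (iv D2837) D2836
def n4052 : Q := act 8 n2837
theorem D4052 : act 8 n2837 = n4052 := rfl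
theorem F19381 : act 1 n4052 = n2844 := d15_1 D4052 (iv D2844) (iv F13803)
theorem F19382 : act 3 n4052 = n4052 := d28_1 D4052 (iv D4052) F13804
theorem F19383 : act 4 n4052 = n2977 := d33_1 D4052 (iv D2977) (iv F13805)
theorem F19384 : act 6 n4052 = n2838 := d40_1 D4052 (iv D2838) (iv F13806)
theorem F19385 : act 9 n4052 = n2879 := d44_2 D2837 D4052 (iv D2879) (iv D2008) (iv F9820)
def n4053 : Q := act 5 n2838
theorem D4053 : act 5 n2838 = n4053 := rfl
theorem F19386 : act 1 n4053 = n2845 := d12_1 D4053 (iv D2845) (iv F13807)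
theorem F19387 : act 3 n4053 = n4053 := d25_1 D4053 (iv D4053) F13808
theorem F19388 : act 7 n4053 = n4053 := d36_2 F13810 D4053 (iv D4053)
theorem F19389 : act 9 n4053 = n2880 := d38_2 (iv F13811) D4053 (iv D2880)
def n4054 : Q := act 7 n2839
theorem D4054 : act 7 n2839 = n4054 := rfl
theorem F19390 : act 0 n4054 = n4054 := d6_1 D4054 (iv D4054) F13812
theorem F19391 : act 2 n4054 = n2846 := d21_1 D4054 (iv D2846) (iv F13813)
theorem F19392 : act 3 n4054 = n2858 := d27_1 D4054 (iv F19285) F19282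
theorem F19393 : act 4 n4054 = n2840 := d32_1 D4054 (iv D2840) D2839
theorem F19394 : act 5 n4054 = n2980 := d36_1 D4054 (iv D2980) (iv F13814)
theorem F19395 : act 6 n4054 = n2850 := d39_1 D4054 F13862 (iv F13717) (iv F19199) F19197
theorem F19396 : act 8 n4054 = n2849 := d42_2 F19249 D4054 (iv F19248)
def n4055 : Q := act 9 n2839
theorem D4055 : act 9 n2839 = n4055 := rfl
theorem F19397 : act 0 n4055 = n4055 := d8_1 D4055 (iv D4055) F13812
theorem F19398 : act 2 n4055 = n2848 := d23_1 D4055 (iv D2848) (iv F13813)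
theorem F19399 : act 4 n4055 = n2842 := d34_1 D4055 (iv D2842) D2839
theorem F19400 : act 5 n4055 = n2981 := d38_1 D4055 (iv D2981) (iv F13814)
def n4056 : Q := act 6 n2840
theorem D4056 : act 6 n2840 = n4056 := rfl
theorem F19401 : act 0 n4056 = n4056 := d5_1 D4056 (iv D4056) F13815
theorem F19402 : act 2 n4056 = n2849 := d20_1 D4056 (iv D2849) (iv F13816)
theorem F19403 : act 3 n4056 = n4056 := d26_1 D4056 (iv D4056) F13817
theorem F19404 : act 4 n4056 = n2850 := d31_1 D4056 (iv F19395) F19393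
theorem F19405 : act 5 n4056 = n4056 := d35_1 D4056 (iv D4056) F13818 F9832 (iv F13818)
theorem F19406 : act 7 n4056 = n2847 := d39_2 D2840 D4056 F19206 (iv D4015) F13689
theorem F19407 : act 8 n2846 = n4056 := d42_0 F19406 (iv D2847) D2846
def n4057 : Q := act 8 n2840
theorem D4057 : act 8 n2840 = n4057 := rfl
theorem F19408 : act 0 n4057 = n4057 := d7_1 D4057 (iv D4057) F13815
theorem F19409 : act 2 n4057 = n2850 := d22_1 D4057 (iv D2850) (iv F13816)
theorem F19410 : act 3 n4057 = n4057 := d28_1 D4057 (iv D4057) F13817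
theorem F19411 : act 4 n4057 = n2849 := d33_1 D4057 (iv F19396) F19393
theorem F19412 : act 5 n4057 = n2882 := d37_1 D4057 (iv D2882) F9946 (iv F9833) (iv F13818)
theorem F19413 : act 6 n4057 = n2846 := d40_1 D4057 F19407 (iv D4056)
theorem F19414 : act 7 n4057 = n2841 := d42_1 D4057 (iv D2841) D2840
def n4058 : Q := act 9 n2840
theorem D4058 : act 9 n2840 = n4058 := rfl
theorem F19415 : act 0 n4058 = n4058 := d8_1 D4058 (iv D4058) F13815
theorem F19416 : act 2 n4058 = n2851 := d23_1 D4058 (iv D2851) (iv F13816)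
theorem F19417 : act 3 n4058 = n4058 := d29_1 D4058 (iv D4058) F13817
theorem F19418 : act 5 n4058 = n2843 := d38_1 D4058 (iv D2843) (iv F13818)
theorem F19419 : act 7 n4058 = n2842 := d43_1 D4058 (iv D2842) D2840
def n4059 : Q := act 9 n2841
theorem D4059 : act 9 n2841 = n4059 := rfl
theorem F19420 : act 0 n4059 = n4059 := d8_1 D4059 (iv D4059) F13819
theorem F19421 : act 2 n4059 = n2852 := d23_1 D4059 (iv D2852) (iv F13820)
theorem F19422 : act 3 n4059 = n4059 := d29_1 D4059 (iv D4059) F13821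
theorem F19423 : act 5 n4059 = n2884 := d38_1 D4059 (iv D2884) (iv F13822)
def n4060 : Q := act 8 n2842
theorem D4060 : act 8 n2842 = n4060 := rfl
theorem F19424 : act 0 n4060 = n4060 := d7_1 D4060 (iv D4060) F13823
theorem F19425 : act 2 n4060 = n2853 := d22_1 D4060 (iv D2853) (iv F13824)
theorem F19426 : act 3 n4060 = n4060 := d28_1 D4060 (iv D4060) F13825
def n4061 : Q := act 8 n2843
theorem D4061 : act 8 n2843 = n4061 := rfl
theorem F19427 : act 0 n4061 = n4061 := d7_1 D4061 (iv D4061) F13827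
theorem F19428 : act 2 n4061 = n2854 := d22_1 D4061 (iv D2854) (iv F13828)
theorem F19429 : act 3 n4061 = n4061 := d28_1 D4061 (iv D4061) F13829
theorem F19430 : act 4 n4061 = n2985 := d33_1 D4061 (iv D2985) (iv F13830)
theorem F19431 : act 6 n4061 = n4061 := d40_1 D4061 (iv D4061) F13831
theorem F19432 : act 7 n4061 = n2844 := d42_1 D4061 (iv D2844) (iv F13832)
theorem F19433 : act 9 n4061 = n2886 := d44_2 D2843 D4061 (iv D2886) (iv D2013) (iv F9833)
def n4062 : Q := act 5 n2844
theorem D4062 : act 5 n2844 = n4062 := rfl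
theorem F19434 : act 0 n4062 = n4062 := d4_1 D4062 (iv D4062) F13833
theorem F19435 : act 2 n4062 = n2855 := d19_1 D4062 (iv D2855) (iv F13834)
theorem F19436 : act 3 n4062 = n4062 := d25_1 D4062 (iv D4062) F13835
theorem F19437 : act 9 n4062 = n2887 := d38_2 (iv F13838) D4062 (iv D2887)
def n4063 : Q := act 4 n2845
theorem D4063 : act 4 n2845 = n4063 := rfl
theorem F19438 : act 0 n4063 = n4063 := d3_1 D4063 (iv D4063) F13839
theorem F19439 : act 2 n4063 = n2856 := d18_1 D4063 (iv D2856) (iv F13840)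
theorem F19440 : act 5 n4063 = n2987 := d30_2 D2845 D4063 (iv D2987) (iv D2087) (iv F9842)
theorem F19441 : act 7 n4063 = n4063 := d32_2 F13842 D4063 (iv D4063)
theorem F19442 : act 9 n4063 = n2888 := d34_2 (iv F13843) D4063 (iv D2888)
def n4064 : Q := act 6 n2845
theorem D4064 : act 6 n2845 = n4064 := rfl
theorem F19443 : act 0 n4064 = n4064 := d5_1 D4064 (iv D4064) F13839
theorem F19444 : act 2 n4064 = n2857 := d20_1 D4064 (iv D2857) (iv F13840)
theorem F19445 : act 3 n4064 = n4064 := d26_1 D4064 (iv D4064) F13841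
theorem F19446 : act 9 n4064 = n2889 := d41_2 (iv F13843) D4064 (iv D2889)
def n4065 : Q := act 9 n2846
theorem D4065 : act 9 n2846 = n4065 := rfl
theorem F19447 : act 0 n4065 = n4065 := d8_1 D4065 (iv D4065) F13844
theorem F19448 : act 3 n4065 = n4065 := d29_1 D4065 (iv D4065) F13845
theorem F19449 : act 4 n4065 = n2851 := d34_1 D4065 (iv D2851) (iv F13846)
theorem F19450 : act 5 n4065 = n2990 := d38_1 D4065 (iv D2990) (iv F13847)
theorem F19451 : act 7 n4065 = n2848 := d43_1 D4065 (iv D2848) D2846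
def n4066 : Q := act 9 n2847
theorem D4066 : act 9 n2847 = n4066 := rfl
theorem F19452 : act 0 n4066 = n4066 := d8_1 D4066 (iv D4066) F13848
theorem F19453 : act 3 n4066 = n4066 := d29_1 D4066 (iv D4066) F13849
theorem F19454 : act 4 n4066 = n2852 := d34_1 D4066 (iv D2852) (iv F13850)
theorem F19455 : act 5 n4066 = n4066 := d38_1 D4066 (iv D4066) F13851
def n4067 : Q := act 8 n2848
theorem D4067 : act 8 n2848 = n4067 := rfl
theorem F19456 : act 0 n4067 = n4067 := d7_1 D4067 (iv D4067) F13852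
theorem F19457 : act 3 n4067 = n4067 := d28_1 D4067 (iv D4067) F13853
theorem F19458 : act 4 n4067 = n2853 := d33_1 D4067 (iv D2853) (iv F13854)
def n4068 : Q := act 9 n2849
theorem D4068 : act 9 n2849 = n4068 := rfl
theorem F19459 : act 0 n4068 = n4068 := d8_1 D4068 (iv D4068) F13856
theorem F19460 : act 3 n4068 = n2859 := d29_1 D4068 (iv D2859) (iv F13857)
theorem F19461 : act 5 n4068 = n4068 := d38_1 D4068 (iv D4068) F13858
theorem F19462 : act 6 n4068 = n2851 := d41_1 D4068 (iv D2851) D2849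
def n4069 : Q := act 9 n2850
theorem D4069 : act 9 n2850 = n4069 := rfl
theorem F19463 : act 0 n4069 = n4069 := d8_1 D4069 (iv D4069) F13859
theorem F19464 : act 3 n4069 = n2860 := d29_1 D4069 (iv D2860) (iv F13860)
theorem F19465 : act 5 n4069 = n2892 := d38_1 D4069 (iv D2892) (iv F13861)
theorem F19466 : act 7 n4069 = n2852 := d43_1 D4069 (iv D2852) (iv F13862)
def n4070 : Q := act 8 n2851
theorem D4070 : act 8 n2851 = n4070 := rfl
theorem F19467 : act 0 n4070 = n4070 := d7_1 D4070 (iv D4070) F13863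
theorem F19468 : act 3 n4070 = n2861 := d28_1 D4070 (iv D2861) (iv F13864)
theorem F19469 : act 7 n4070 = n2853 := d42_1 D4070 (iv D2853) (iv F13866)
def n4071 : Q := act 8 n2852
theorem D4071 : act 8 n2852 = n4071 := rfl
theorem F19470 : act 0 n4071 = n4071 := d7_1 D4071 (iv D4071) F13867
theorem F19471 : act 3 n4071 = n2862 := d28_1 D4071 (iv D2862) (iv F13868)
theorem F19472 : act 9 n4071 = n2853 := d44_2 D2852 D4071 (iv D2853) (iv D1990) D1989
def n4072 : Q := act 5 n2853
theorem D4072 : act 5 n2853 = n4072 := rfl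
theorem F19473 : act 0 n4072 = n4072 := d4_1 D4072 (iv D4072) F13870
theorem F19474 : act 3 n4072 = n2863 := d25_1 D4072 (iv D2863) (iv F13871)
theorem F19475 : act 8 n4072 = n2855 := d37_2 D2853 D4072 (iv D2855) (iv D1992) (iv F9856)
def n4073 : Q := act 5 n2854
theorem D4073 : act 5 n2854 = n4073 := rfl
theorem F19476 : act 0 n4073 = n4073 := d4_1 D4073 (iv D4073) F13872
theorem F19477 : act 3 n4073 = n2864 := d25_1 D4073 (iv D2864) (iv F13873)
theorem F19478 : act 7 n4073 = n2855 := d36_2 (iv F13876) D4073 (iv D2855)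
theorem F19479 : act 9 n4073 = n2896 := d38_2 (iv F13877) D4073 (iv D2896)
def n4074 : Q := act 4 n2855
theorem D4074 : act 4 n2855 = n4074 := rfl
theorem F19480 : act 0 n4074 = n4074 := d3_1 D4074 (iv D4074) F13878
theorem F19481 : act 5 n4074 = n2996 := d30_2 D2855 D4074 (iv D2996) (iv D2094) (iv F9864)
theorem F19482 : act 9 n4074 = n2897 := d34_2 (iv F13880) D4074 (iv D2897)
def n4075 : Q := act 6 n2855
theorem D4075 : act 6 n2855 = n4075 := rfl
theorem F19483 : act 0 n4075 = n4075 := d5_1 D4075 (iv D4075) F13878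
theorem F19484 : act 3 n4075 = n2866 := d26_1 D4075 (iv D2866) (iv F13879)
theorem F19485 : act 5 n4075 = n2857 := d35_1 D4075 (iv D2857) (iv D1993) (iv F9865) D2855
theorem F19486 : act 9 n4075 = n2898 := d41_2 (iv F13880) D4075 (iv D2898)
def n4076 : Q := act 6 n2856
theorem D4076 : act 6 n2856 = n4076 := rfl
theorem F19487 : act 0 n4076 = n4076 := d5_1 D4076 (iv D4076) F13881
theorem F19488 : act 3 n4076 = n4076 := d26_1 D4076 (iv D4076) F13882
theorem F19489 : act 4 n4076 = n2857 := d31_1 D4076 (iv D2857) D2856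
theorem F19490 : act 9 n4076 = n2899 := d41_2 (iv F13885) D4076 (iv D2899)
def n4077 : Q := act 7 n2857
theorem D4077 : act 7 n2857 = n4077 := rfl
theorem F19491 : act 0 n4077 = n4077 := d6_1 D4077 (iv D4077) F13886
theorem F19492 : act 3 n4077 = n2867 := d27_1 D4077 (iv D2867) (iv F13887)
theorem F19493 : act 6 n4077 = n4077 := d39_1 D4077 (iv D4077) (iv D2857) F9869 D2857
theorem F19494 : act 9 n4077 = n2900 := d43_2 (iv F13888) D4077 (iv D2900)
def n4078 : Q := act 5 n2858
theorem D4078 : act 5 n2858 = n4078 := rfl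
theorem F19497 : act 3 n4078 = n2980 := d25_1 D4078 (iv F19394) F19392
theorem F19498 : act 6 n4078 = n2901 := d35_2 (iv F13892) D4078 (iv D2901) F10014 (iv F9878)
theorem F19499 : act 7 n4078 = n2979 := d36_2 F19285 D4078 F19286
theorem F19501 : act 4 n3079 = n4078 := d32_3 F19499 F14446 D3079
def n4079 : Q := act 9 n2858
theorem D4079 : act 9 n2858 = n4079 := rfl
theorem F19502 : act 0 n4079 = n4079 := d8_1 D4079 (iv D4079) F13889
theorem F19503 : act 2 n4079 = n4079 := d23_1 D4079 (iv D4079) F13890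
theorem F19504 : act 4 n4079 = n4079 := d34_1 D4079 (iv D4079) F13891
theorem F19505 : act 6 n4079 = n2860 := d41_1 D4079 (iv D2860) (iv F13892)
def n4080 : Q := act 8 n2859
theorem D4080 : act 8 n2859 = n4080 := rfl
theorem F19506 : act 0 n4080 = n4080 := d7_1 D4080 (iv D4080) F13893
theorem F19507 : act 2 n4080 = n4080 := d22_1 D4080 (iv D4080) F13894
theorem F19508 : act 4 n4080 = n4080 := d33_1 D4080 (iv D4080) F13895
theorem F19509 : act 6 n4080 = n2861 := d40_1 D4080 (iv D2861) (iv F13897)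
def n4081 : Q := act 8 n2860
theorem D4081 : act 8 n2860 = n4081 := rfl
theorem F19510 : act 0 n4081 = n4081 := d7_1 D4081 (iv D4081) F13898
theorem F19511 : act 2 n4081 = n4081 := d22_1 D4081 (iv D4081) F13899
theorem F19512 : act 4 n4081 = n4081 := d33_1 D4081 (iv D4081) F13900
theorem F19513 : act 7 n4081 = n2862 := d42_1 D4081 (iv D2862) (iv F13902)
theorem F19514 : act 9 n4081 = n2861 := d44_2 D2860 D4081 (iv D2861) (iv D1996) D1995
def n4082 : Q := act 5 n2861
theorem D4082 : act 5 n2861 = n4082 := rfl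
theorem F19515 : act 0 n4082 = n4082 := d4_1 D4082 (iv D4082) F13903
theorem F19516 : act 2 n4082 = n4082 := d19_1 D4082 (iv D4082) F13904
theorem F19517 : act 7 n4082 = n2863 := d36_2 (iv F13906) D4082 (iv D2863)
theorem F19518 : act 8 n4082 = n2864 := d37_2 D2861 D4082 (iv D2864) (iv D1999) (iv F9883)
def n4083 : Q := act 5 n2862
theorem D4083 : act 5 n2862 = n4083 := rfl
theorem F19519 : act 0 n4083 = n4083 := d4_1 D4083 (iv D4083) F13907
theorem F19520 : act 2 n4083 = n4083 := d19_1 D4083 (iv D4083) F13908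
theorem F19521 : act 8 n4083 = n2906 := d37_2 D2862 D4083 (iv D2906) (iv D2029) (iv F9888)
theorem F19522 : act 9 n4083 = n2863 := d38_2 (iv F13910) D4083 (iv D2863)
def n4084 : Q := act 4 n2863
theorem D4084 : act 4 n2863 = n4084 := rfl
theorem F19523 : act 0 n4084 = n4084 := d3_1 D4084 (iv D4084) F13911
theorem F19524 : act 2 n4084 = n4084 := d18_1 D4084 (iv D4084) F13912
theorem F19525 : act 5 n4084 = n4084 := d30_2 D2863 D4084 (iv D4084) (iv D2863) F9891
theorem F19526 : act 8 n4084 = n2865 := d33_2 (iv F13913) D4084 (iv D2865)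
def n4085 : Q := act 6 n2863
theorem D4085 : act 6 n2863 = n4085 := rfl
theorem F19527 : act 0 n4085 = n4085 := d5_1 D4085 (iv D4085) F13911
theorem F19528 : act 2 n4085 = n4085 := d20_1 D4085 (iv D4085) F13912
theorem F19529 : act 8 n4085 = n2866 := d40_2 (iv F13913) D4085 (iv D2866)
def n4086 : Q := act 4 n2864
theorem D4086 : act 4 n2864 = n4086 := rfl
theorem F19530 : act 0 n4086 = n4086 := d3_1 D4086 (iv D4086) F13914
theorem F19531 : act 2 n4086 = n4086 := d18_1 D4086 (iv D4086) F13915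
theorem F19532 : act 5 n4086 = n2868 := d30_2 D2864 D4086 (iv D2868) (iv D2002) (iv F9894)
theorem F19533 : act 7 n4086 = n2865 := d32_2 (iv F13916) D4086 (iv D2865)
theorem F19534 : act 9 n4086 = n2909 := d34_2 (iv F13917) D4086 (iv D2909)
def n4087 : Q := act 6 n2864
theorem D4087 : act 6 n2864 = n4087 := rfl
theorem F19535 : act 0 n4087 = n4087 := d5_1 D4087 (iv D4087) F13914
theorem F19536 : act 2 n4087 = n4087 := d20_1 D4087 (iv D4087) F13915
theorem F19537 : act 5 n4087 = n4087 := d35_1 D4087 (iv D4087) (iv D2864) F9895 D2864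
theorem F19538 : act 9 n4087 = n2910 := d41_2 (iv F13917) D4087 (iv D2910)
def n4088 : Q := act 3 n2865
theorem D4088 : act 3 n2865 = n4088 := rfl
theorem F19539 : act 0 n4088 = n4088 := d2_1 D4088 (iv D4088) F13918
theorem F19540 : act 5 n4088 = n2870 := d25_2 (iv F13920) D4088 (iv D2870)
theorem F19541 : act 9 n4088 = n2911 := d29_2 (iv F13921) D4088 (iv D2911)
def n4089 : Q := act 6 n2865
theorem D4089 : act 6 n2865 = n4089 := rfl
theorem F19542 : act 0 n4089 = n4089 := d5_1 D4089 (iv D4089) F13918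
theorem F19543 : act 2 n4089 = n4089 := d20_1 D4089 (iv D4089) F13919
theorem F19544 : act 4 n4089 = n2866 := d31_1 D4089 (iv D2866) D2865
theorem F19545 : act 5 n4089 = n4089 := d35_1 D4089 (iv D4089) F13920 F9913 (iv F13920)
theorem F19546 : act 9 n4089 = n2912 := d41_2 (iv F13921) D4089 (iv D2912)
def n4090 : Q := act 7 n2866
theorem D4090 : act 7 n2866 = n4090 := rfl
theorem F19547 : act 0 n4090 = n4090 := d6_1 D4090 (iv D4090) F13922
theorem F19548 : act 2 n4090 = n4090 := d21_1 D4090 (iv D4090) F13923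
theorem F19549 : act 5 n4090 = n2867 := d36_1 D4090 (iv D2867) (iv F13924)
theorem F19550 : act 9 n4090 = n2913 := d43_2 (iv F13925) D4090 (iv D2913)
def n4091 : Q := act 3 n2868
theorem D4091 : act 3 n2868 = n4091 := rfl
theorem F19551 : act 0 n4091 = n4091 := d2_1 D4091 (iv D4091) F13931
theorem F19552 : act 4 n4091 = n3009 := d24_2 D2868 D4091 (iv D3009) (iv D2104) (iv F9907)
theorem F19553 : act 7 n4091 = n2870 := d27_2 (iv F13933) D4091 (iv D2870)
theorem F19554 : act 8 n4091 = n4091 := d28_2 F13934 D4091 (iv D4091)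
theorem F19555 : act 9 n4091 = n2914 := d29_2 (iv F13935) D4091 (iv D2914)
def n4092 : Q := act 6 n2868
theorem D4092 : act 6 n2868 = n4092 := rfl
theorem F19556 : act 0 n4092 = n4092 := d5_1 D4092 (iv D4092) F13931
theorem F19557 : act 2 n4092 = n4092 := d20_1 D4092 (iv D4092) F13932
theorem F19558 : act 4 n4092 = n2869 := d31_1 D4092 (iv D2869) D2868
theorem F19559 : act 7 n4092 = n4092 := d39_2 (iv F13933) D4092 (iv D4092) F13933 F9913
theorem F19560 : act 8 n4092 = n4092 := d40_2 F13934 D4092 (iv D4092)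
theorem F19561 : act 9 n4092 = n2915 := d41_2 (iv F13935) D4092 (iv D2915)
def n4093 : Q := act 2 n2870
theorem D4093 : act 2 n2870 = n4093 := rfl
theorem F19562 : act 0 n4093 = n4093 := d1_1 D4093 (iv D4093) F13943
theorem F19563 : act 3 n4093 = n4093 := d17_2 D2870 D4093 (iv D4093) (iv D2870) F9912
theorem F19565 : act 6 n4093 = n4093 := d20_2 F13945 D4093 (iv D4093)
theorem F19566 : act 8 n4093 = n4093 := d22_2 F13946 D4093 (iv D4093)
theorem F19567 : act 9 n4093 = n2916 := d23_2 (iv F13947) D4093 (iv D2916)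
def n4094 : Q := act 7 n2871
theorem D4094 : act 7 n2871 = n4094 := rfl
theorem F19568 : act 0 n4094 = n2875 := d6_1 D4094 (iv D2875) (iv F13948)
theorem F19569 : act 1 n4094 = n4094 := d14_1 D4094 (iv D4094) F13949
theorem F19570 : act 3 n4094 = n4094 := d27_1 D4094 (iv D4094) F13950
theorem F19571 : act 4 n4094 = n4094 := d32_1 D4094 (iv D4094) F13951
theorem F19572 : act 5 n4094 = n2872 := d36_1 D4094 (iv D2872) D2871
def n4095 : Q := act 8 n2871
theorem D4095 : act 8 n2871 = n4095 := rfl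
theorem F19573 : act 0 n4095 = n2876 := d7_1 D4095 (iv D2876) (iv F13948)
theorem F19574 : act 1 n4095 = n4095 := d15_1 D4095 (iv D4095) F13949
theorem F19575 : act 3 n4095 = n4095 := d28_1 D4095 (iv D4095) F13950
theorem F19576 : act 4 n4095 = n4095 := d33_1 D4095 (iv D4095) F13951
theorem F19577 : act 6 n4095 = n4095 := d40_1 D4095 (iv D4095) F13952
def n4096 : Q := act 9 n2871
theorem D4096 : act 9 n2871 = n4096 := rfl
theorem F19578 : act 0 n4096 = n2877 := d8_1 D4096 (iv D2877) (iv F13948)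
theorem F19579 : act 1 n4096 = n4096 := d16_1 D4096 (iv D4096) F13949
theorem F19580 : act 3 n4096 = n4096 := d29_1 D4096 (iv D4096) F13950
theorem F19581 : act 4 n4096 = n4096 := d34_1 D4096 (iv D4096) F13951
theorem F19582 : act 5 n4096 = n2873 := d38_1 D4096 (iv D2873) D2871
theorem F19583 : act 6 n4096 = n4096 := d41_1 D4096 (iv D4096) F13952
def n4097 : Q := act 9 n2872
theorem D4097 : act 9 n2872 = n4097 := rfl
theorem F19584 : act 0 n4097 = n2878 := d8_1 D4097 (iv D2878) (iv F13953)
theorem F19585 : act 1 n4097 = n4097 := d16_1 D4097 (iv D4097) F13954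
theorem F19586 : act 3 n4097 = n4097 := d29_1 D4097 (iv D4097) F13955
theorem F19587 : act 4 n4097 = n3012 := d34_1 D4097 (iv D3012) (iv F13956)
theorem F19588 : act 6 n4097 = n4097 := d41_1 D4097 (iv D4097) F13957
theorem F19589 : act 7 n4097 = n2873 := d43_1 D4097 (iv D2873) D2872
def n4098 : Q := act 8 n2873
theorem D4098 : act 8 n2873 = n4098 := rfl
theorem F19590 : act 0 n4098 = n2879 := d7_1 D4098 (iv D2879) (iv F13958)
theorem F19591 : act 1 n4098 = n4098 := d15_1 D4098 (iv D4098) F13959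
theorem F19592 : act 3 n4098 = n4098 := d28_1 D4098 (iv D4098) F13960
theorem F19593 : act 4 n4098 = n3013 := d33_1 D4098 (iv D3013) (iv F13961)
theorem F19594 : act 6 n4098 = n2874 := d40_1 D4098 (iv D2874) (iv F13962)
def n4099 : Q := act 5 n2874
theorem D4099 : act 5 n2874 = n4099 := rfl
theorem F19595 : act 0 n4099 = n2880 := d4_1 D4099 (iv D2880) (iv F13963)
theorem F19596 : act 1 n4099 = n4099 := d12_1 D4099 (iv D4099) F13964
theorem F19597 : act 3 n4099 = n4099 := d25_1 D4099 (iv D4099) F13965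
theorem F19598 : act 7 n4099 = n4099 := d36_2 F13967 D4099 (iv D4099)
theorem F19599 : act 8 n4099 = n4099 := d37_2 D2874 D4099 (iv D4099) (iv D2874) F9924
def n4100 : Q := act 6 n2875
theorem D4100 : act 6 n2875 = n4100 := rfl
theorem F19600 : act 1 n4100 = n2881 := d13_1 D4100 (iv D2881) (iv F13968)
def n4101 : Q := act 8 n2875
theorem D4101 : act 8 n2875 = n4101 := rfl
theorem F19605 : act 1 n4101 = n2882 := d15_1 D4101 (iv D2882) (iv F13968)
theorem F19606 : act 3 n4101 = n4101 := d28_1 D4101 (iv D4101) F13969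
theorem F19607 : act 4 n4101 = n4101 := d33_1 D4101 (iv D4101) F13970
theorem F19608 : act 7 n4101 = n2876 := d42_1 D4101 (iv D2876) D2875
def n4102 : Q := act 9 n2875
theorem D4102 : act 9 n2875 = n4102 := rfl
theorem F19609 : act 1 n4102 = n2883 := d16_1 D4102 (iv D2883) (iv F13968)
theorem F19610 : act 3 n4102 = n4102 := d29_1 D4102 (iv D4102) F13969
theorem F19611 : act 4 n4102 = n4102 := d34_1 D4102 (iv D4102) F13970
theorem F19612 : act 5 n4102 = n2878 := d38_1 D4102 (iv D2878) (iv F13971)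
theorem F19613 : act 7 n4102 = n2877 := d43_1 D4102 (iv D2877) D2875
def n4103 : Q := act 9 n2876
theorem D4103 : act 9 n2876 = n4103 := rfl
theorem F19614 : act 1 n4103 = n2884 := d16_1 D4103 (iv D2884) (iv F13972)
theorem F19615 : act 3 n4103 = n4103 := d29_1 D4103 (iv D4103) F13973
theorem F19616 : act 4 n4103 = n4103 := d34_1 D4103 (iv D4103) F13974
theorem F19617 : act 6 n4103 = n4103 := d41_1 D4103 (iv D4103) F13975
def n4104 : Q := act 8 n2877
theorem D4104 : act 8 n2877 = n4104 := rfl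
theorem F19618 : act 1 n4104 = n2885 := d15_1 D4104 (iv D2885) (iv F13976)
theorem F19619 : act 3 n4104 = n4104 := d28_1 D4104 (iv D4104) F13977
theorem F19620 : act 4 n4104 = n4104 := d33_1 D4104 (iv D4104) F13978
theorem F19621 : act 6 n4104 = n4104 := d40_1 D4104 (iv D4104) F13980
def n4105 : Q := act 8 n2878
theorem D4105 : act 8 n2878 = n4105 := rfl
theorem F19622 : act 1 n4105 = n2886 := d15_1 D4105 (iv D2886) (iv F13981)
theorem F19623 : act 3 n4105 = n4105 := d28_1 D4105 (iv D4105) F13982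
theorem F19624 : act 4 n4105 = n3015 := d33_1 D4105 (iv D3015) (iv F13983)
theorem F19625 : act 6 n4105 = n4105 := d40_1 D4105 (iv D4105) F13984
theorem F19626 : act 7 n4105 = n2879 := d42_1 D4105 (iv D2879) (iv F13985)
def n4106 : Q := act 5 n2879
theorem D4106 : act 5 n2879 = n4106 := rfl
theorem F19627 : act 1 n4106 = n2887 := d12_1 D4106 (iv D2887) (iv F13986)
theorem F19628 : act 3 n4106 = n4106 := d25_1 D4106 (iv D4106) F13987
def n4107 : Q := act 4 n2880
theorem D4107 : act 4 n2880 = n4107 := rfl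
theorem F19629 : act 1 n4107 = n2888 := d11_1 D4107 (iv D2888) (iv F13990)
theorem F19630 : act 5 n4107 = n3017 := d30_2 D2880 D4107 (iv D3017) (iv D2112) (iv F9940)
theorem F19631 : act 7 n4107 = n4107 := d32_2 F13992 D4107 (iv D4107)
theorem F19632 : act 8 n4107 = n4107 := d33_2 F13993 D4107 (iv D4107)
def n4108 : Q := act 6 n2880
theorem D4108 : act 6 n2880 = n4108 := rfl
theorem F19633 : act 1 n4108 = n2889 := d13_1 D4108 (iv D2889) (iv F13990)
theorem F19634 : act 3 n4108 = n4108 := d26_1 D4108 (iv D4108) F13991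
theorem F19635 : act 8 n4108 = n4108 := d40_2 F13993 D4108 (iv D4108)
def n4109 : Q := act 8 n2881
theorem D4109 : act 8 n2881 = n4109 := rfl
theorem F19637 : act 2 n4109 = n2890 := d22_1 D4109 (iv D2890) (iv F13995)
theorem F19640 : act 6 n4109 = n2882 := d40_1 D4109 (iv D2882) D2881
theorem F19642 : act 5 n2989 = n4109 := d35_5 F19640 (iv F19412) F19413 F13847 D2989
def n4110 : Q := act 9 n2881
theorem D4110 : act 9 n2881 = n4110 := rfl
theorem F19648 : act 6 n4110 = n2883 := d41_1 D4110 (iv D2883) D2881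
def n4111 : Q := act 9 n2882
theorem D4111 : act 9 n2882 = n4111 := rfl
theorem F19650 : act 0 n4111 = n4111 := d8_1 D4111 (iv D4111) F14000
theorem F19651 : act 2 n4111 = n2892 := d23_1 D4111 (iv D2892) (iv F14001)
theorem F19652 : act 3 n4111 = n4111 := d29_1 D4111 (iv D4111) F14002
theorem F19653 : act 4 n4111 = n4111 := d34_1 D4111 (iv D4111) F14003
theorem F19654 : act 7 n4111 = n2884 := d43_1 D4111 (iv D2884) (iv F14004)
def n4112 : Q := act 8 n2883
theorem D4112 : act 8 n2883 = n4112 := rfl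
theorem F19655 : act 0 n4112 = n4112 := d7_1 D4112 (iv D4112) F14005
theorem F19656 : act 2 n4112 = n2893 := d22_1 D4112 (iv D2893) (iv F14006)
theorem F19657 : act 3 n4112 = n4112 := d28_1 D4112 (iv D4112) F14007
theorem F19658 : act 4 n4112 = n4112 := d33_1 D4112 (iv D4112) F14008
theorem F19659 : act 7 n4112 = n2885 := d42_1 D4112 (iv D2885) (iv F14010)
def n4113 : Q := act 8 n2884
theorem D4113 : act 8 n2884 = n4113 := rfl
theorem F19660 : act 0 n4113 = n4113 := d7_1 D4113 (iv D4113) F14011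
theorem F19661 : act 2 n4113 = n2894 := d22_1 D4113 (iv D2894) (iv F14012)
theorem F19662 : act 3 n4113 = n4113 := d28_1 D4113 (iv D4113) F14013
theorem F19663 : act 4 n4113 = n4113 := d33_1 D4113 (iv D4113) F14014
theorem F19664 : act 6 n4113 = n4113 := d40_1 D4113 (iv D4113) F14015
theorem F19665 : act 9 n4113 = n2885 := d44_2 D2884 D4113 (iv D2885) (iv D2012) D2011
def n4114 : Q := act 5 n2885
theorem D4114 : act 5 n2885 = n4114 := rfl
theorem F19666 : act 0 n4114 = n4114 := d4_1 D4114 (iv D4114) F14016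
theorem F19667 : act 2 n4114 = n2895 := d19_1 D4114 (iv D2895) (iv F14017)
theorem F19668 : act 3 n4114 = n4114 := d25_1 D4114 (iv D4114) F14018
theorem F19669 : act 8 n4114 = n2887 := d37_2 D2885 D4114 (iv D2887) (iv D2014) (iv F9956)
def n4115 : Q := act 5 n2886
theorem D4115 : act 5 n2886 = n4115 := rfl
theorem F19670 : act 0 n4115 = n4115 := d4_1 D4115 (iv D4115) F14021
theorem F19671 : act 2 n4115 = n2896 := d19_1 D4115 (iv D2896) (iv F14022)
theorem F19672 : act 3 n4115 = n4115 := d25_1 D4115 (iv D4115) F14023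
theorem F19673 : act 7 n4115 = n2887 := d36_2 (iv F14026) D4115 (iv D2887)
def n4116 : Q := act 4 n2887
theorem D4116 : act 4 n2887 = n4116 := rfl
theorem F19674 : act 0 n4116 = n4116 := d3_1 D4116 (iv D4116) F14027
theorem F19675 : act 2 n4116 = n2897 := d18_1 D4116 (iv D2897) (iv F14028)
theorem F19676 : act 5 n4116 = n3020 := d30_2 D2887 D4116 (iv D3020) (iv D2114) (iv F9967)
def n4117 : Q := act 6 n2887
theorem D4117 : act 6 n2887 = n4117 := rfl
theorem F19677 : act 0 n4117 = n4117 := d5_1 D4117 (iv D4117) F14027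
theorem F19678 : act 2 n4117 = n2898 := d20_1 D4117 (iv D2898) (iv F14028)
theorem F19679 : act 3 n4117 = n4117 := d26_1 D4117 (iv D4117) F14029
theorem F19680 : act 5 n4117 = n2889 := d35_1 D4117 (iv D2889) (iv D2015) (iv F9968) D2887
def n4118 : Q := act 3 n2888
theorem D4118 : act 3 n2888 = n4118 := rfl
theorem F19681 : act 0 n4118 = n4118 := d2_1 D4118 (iv D4118) F14030
theorem F19682 : act 2 n4118 = n4118 := d17_1 D4118 (iv D4118) F14031 F10004 (iv F14031)
theorem F19683 : act 4 n4118 = n4118 := d24_2 D2888 D4118 (iv D4118) (iv D2888) F9971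
theorem F19684 : act 5 n4118 = n3022 := d25_2 (iv F14032) D4118 (iv D3022)
theorem F19685 : act 7 n4118 = n4118 := d27_2 F14033 D4118 (iv D4118)
theorem F19686 : act 8 n4118 = n4118 := d28_2 F14034 D4118 (iv D4118)
def n4119 : Q := act 6 n2888
theorem D4119 : act 6 n2888 = n4119 := rfl
theorem F19687 : act 0 n4119 = n4119 := d5_1 D4119 (iv D4119) F14030
theorem F19688 : act 2 n4119 = n2899 := d20_1 D4119 (iv D2899) (iv F14031)
theorem F19689 : act 4 n4119 = n2889 := d31_1 D4119 (iv D2889) D2888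
theorem F19690 : act 8 n4119 = n4119 := d40_2 F14034 D4119 (iv D4119)
def n4120 : Q := act 7 n2889
theorem D4120 : act 7 n2889 = n4120 := rfl
theorem F19691 : act 0 n4120 = n4120 := d6_1 D4120 (iv D4120) F14035
theorem F19692 : act 2 n4120 = n2900 := d21_1 D4120 (iv D2900) (iv F14036)
theorem F19693 : act 3 n4120 = n4120 := d27_1 D4120 (iv D4120) F14037
theorem F19694 : act 6 n4120 = n4120 := d39_1 D4120 (iv D4120) (iv D2889) F9972 D2889
theorem F19695 : act 8 n4120 = n4120 := d42_2 F14038 D4120 (iv D4120)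
def n4121 : Q := act 5 n2890
theorem D4121 : act 5 n2890 = n4121 := rfl
theorem F19697 : act 2 n4121 = n2989 := d19_1 D4121 F19642 F19637
theorem F19698 : act 3 n4121 = n2901 := d25_1 D4121 (iv D2901) (iv F14040)
theorem F19699 : act 6 n4121 = n2980 := d35_2 (iv F14042) D4121 (iv F19394) F19395 F13861
theorem F19702 : act 4 n2982 = n4121 := d45_2 (iv F10639) (iv F14459) (iv D4121) F14042 F9982 (iv D1405) (iv F7057) F7058 F7059 (iv D1400) (iv D973) F3533 (iv F4954) (iv D963) (iv D669) (iv D464) (iv D321) F1245 F1246 (iv D221) F869 F870 F629 (iv D107) (iv D72) (iv D48) D49 F309 F235 F236 F171 F172 (iv F248) (iv D38) (iv F218) F219 (iv F305) F306 D72 F438 D108 F634 F473 F474 D84 F503 F504 F505 (iv F658) F659 D166 (iv F1310) D341 D496 (iv F3688) F3685 (iv F3826) F3827 (iv F5403) D1516 F7602 F7603 F7598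
def n4122 : Q := act 9 n2890
theorem D4122 : act 9 n2890 = n4122 := rfl
theorem F19706 : act 6 n4122 = n2892 := d41_1 D4122 (iv D2892) (iv F14042)
def n4123 : Q := act 8 n2891
theorem D4123 : act 8 n2891 = n4123 := rfl
theorem F19711 : act 6 n4123 = n2893 := d40_1 D4123 (iv D2893) (iv F14048)
def n4124 : Q := act 8 n2892
theorem D4124 : act 8 n2892 = n4124 := rfl
theorem F19713 : act 0 n4124 = n4124 := d7_1 D4124 (iv D4124) F14050
theorem F19714 : act 3 n4124 = n2904 := d28_1 D4124 (iv D2904) (iv F14051)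
theorem F19715 : act 4 n4124 = n4124 := d33_1 D4124 (iv D4124) F14052
theorem F19716 : act 7 n4124 = n2894 := d42_1 D4124 (iv D2894) (iv F14053)
theorem F19717 : act 9 n4124 = n2893 := d44_2 D2892 D4124 (iv D2893) (iv D2018) D2017
def n4125 : Q := act 5 n2893
theorem D4125 : act 5 n2893 = n4125 := rfl
theorem F19718 : act 0 n4125 = n4125 := d4_1 D4125 (iv D4125) F14054
theorem F19719 : act 3 n4125 = n2905 := d25_1 D4125 (iv D2905) (iv F14055)
theorem F19720 : act 7 n4125 = n2895 := d36_2 (iv F14057) D4125 (iv D2895)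
theorem F19721 : act 8 n4125 = n2896 := d37_2 D2893 D4125 (iv D2896) (iv D2021) (iv F9986)
def n4126 : Q := act 5 n2894
theorem D4126 : act 5 n2894 = n4126 := rfl
theorem F19722 : act 0 n4126 = n4126 := d4_1 D4126 (iv D4126) F14058
theorem F19723 : act 3 n4126 = n2906 := d25_1 D4126 (iv D2906) (iv F14059)
theorem F19724 : act 9 n4126 = n2895 := d38_2 (iv F14062) D4126 (iv D2895)
def n4127 : Q := act 4 n2895
theorem D4127 : act 4 n2895 = n4127 := rfl
theorem F19725 : act 0 n4127 = n4127 := d3_1 D4127 (iv D4127) F14063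
theorem F19726 : act 5 n4127 = n4127 := d30_2 D2895 D4127 (iv D4127) (iv D2895) F9994
theorem F19727 : act 8 n4127 = n2897 := d33_2 (iv F14065) D4127 (iv D2897)
def n4128 : Q := act 6 n2895
theorem D4128 : act 6 n2895 = n4128 := rfl
theorem F19728 : act 0 n4128 = n4128 := d5_1 D4128 (iv D4128) F14063
theorem F19729 : act 3 n4128 = n2908 := d26_1 D4128 (iv D2908) (iv F14064)
theorem F19730 : act 5 n4128 = n4128 := d35_1 D4128 (iv D4128) (iv D2895) F9995 D2895
theorem F19731 : act 8 n4128 = n2898 := d40_2 (iv F14065) D4128 (iv D2898)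
def n4129 : Q := act 4 n2896
theorem D4129 : act 4 n2896 = n4129 := rfl
theorem F19732 : act 0 n4129 = n4129 := d3_1 D4129 (iv D4129) F14066
theorem F19733 : act 5 n4129 = n3025 := d30_2 D2896 D4129 (iv D3025) (iv D2117) (iv F9998)
theorem F19734 : act 7 n4129 = n2897 := d32_2 (iv F14068) D4129 (iv D2897)
def n4130 : Q := act 6 n2896
theorem D4130 : act 6 n2896 = n4130 := rfl
theorem F19735 : act 0 n4130 = n4130 := d5_1 D4130 (iv D4130) F14066
theorem F19736 : act 3 n4130 = n2910 := d26_1 D4130 (iv D2910) (iv F14067)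
theorem F19737 : act 5 n4130 = n4130 := d35_1 D4130 (iv D4130) (iv D2896) F9999 D2896
def n4131 : Q := act 3 n2897
theorem D4131 : act 3 n2897 = n4131 := rfl
theorem F19738 : act 0 n4131 = n4131 := d2_1 D4131 (iv D4131) F14069
theorem F19739 : act 4 n4131 = n2911 := d24_2 D2897 D4131 (iv D2911) (iv D2032) (iv F10002)
theorem F19740 : act 5 n4131 = n3027 := d25_2 (iv F14070) D4131 (iv D3027)
def n4132 : Q := act 6 n2897
theorem D4132 : act 6 n2897 = n4132 := rfl
theorem F19741 : act 0 n4132 = n4132 := d5_1 D4132 (iv D4132) F14069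
theorem F19742 : act 4 n4132 = n2898 := d31_1 D4132 (iv D2898) D2897
def n4133 : Q := act 7 n2898
theorem D4133 : act 7 n2898 = n4133 := rfl
theorem F19743 : act 0 n4133 = n4133 := d6_1 D4133 (iv D4133) F14071
theorem F19744 : act 3 n4133 = n2913 := d27_1 D4133 (iv D2913) (iv F14072)
theorem F19745 : act 5 n4133 = n2900 := d36_1 D4133 (iv D2900) (iv F14073)
def n4134 : Q := act 5 n2899
theorem D4134 : act 5 n2899 = n4134 := rfl
theorem F19746 : act 0 n4134 = n4134 := d4_1 D4134 (iv D4134) F14074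
theorem F19747 : act 3 n4134 = n4134 := d25_1 D4134 (iv D4134) F14075
theorem F19748 : act 6 n4134 = n3030 := d35_2 D2899 D4134 (iv D3030) (iv D2120) (iv F10005)
def n4135 : Q := act 7 n2899
theorem D4135 : act 7 n2899 = n4135 := rfl
theorem F19749 : act 0 n4135 = n4135 := d6_1 D4135 (iv D4135) F14074
theorem F19750 : act 3 n4135 = n4135 := d27_1 D4135 (iv D4135) F14075
theorem F19751 : act 4 n4135 = n2900 := d32_1 D4135 (iv D2900) (iv F14076)
theorem F19752 : act 6 n4135 = n4135 := d39_1 D4135 (iv D4135) (iv D2899) F10006 D2899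
theorem F19753 : act 8 n4135 = n4135 := d42_2 F14077 D4135 (iv D4135)
def n4136 : Q := act 4 n2901
theorem D4136 : act 4 n2901 = n4136 := rfl
theorem F19756 : act 3 n4136 = n3081 := d24_1 D4136 F14912 (iv F14459) F19702 F19698
theorem F19757 : act 5 n4136 = n2917 := d30_2 D2901 D4136 (iv D2917) (iv D2038) (iv F10013)
theorem F19758 : act 6 n4136 = n3079 := d31_2 F19498 D4136 F19501
def n4138 : Q := act 8 n2902
theorem D4138 : act 8 n2902 = n4138 := rfl
theorem F19768 : act 6 n4138 = n2904 := d40_1 D4138 (iv D2904) (iv F14089)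
def n4140 : Q := act 5 n2904
theorem D4140 : act 5 n2904 = n4140 := rfl
theorem F19775 : act 0 n4140 = n4140 := d4_1 D4140 (iv D4140) F14096
theorem F19776 : act 2 n4140 = n4140 := d19_1 D4140 (iv D4140) F14097
theorem F19777 : act 7 n4140 = n2906 := d36_2 (iv F14099) D4140 (iv D2906)
theorem F19778 : act 9 n4140 = n2905 := d38_2 (iv F14100) D4140 (iv D2905)
def n4141 : Q := act 4 n2905
theorem D4141 : act 4 n2905 = n4141 := rfl
theorem F19779 : act 0 n4141 = n4141 := d3_1 D4141 (iv D4141) F14101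
theorem F19780 : act 2 n4141 = n4141 := d18_1 D4141 (iv D4141) F14102
theorem F19781 : act 5 n4141 = n2922 := d30_2 D2905 D4141 (iv D2922) (iv D2042) (iv F10028)
theorem F19782 : act 7 n4141 = n2907 := d32_2 (iv F14103) D4141 (iv D2907)
theorem F19783 : act 8 n4141 = n2909 := d33_2 (iv F14104) D4141 (iv D2909)
def n4142 : Q := act 6 n2905
theorem D4142 : act 6 n2905 = n4142 := rfl
theorem F19784 : act 0 n4142 = n4142 := d5_1 D4142 (iv D4142) F14101
theorem F19785 : act 2 n4142 = n4142 := d20_1 D4142 (iv D4142) F14102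
theorem F19786 : act 8 n4142 = n2910 := d40_2 (iv F14104) D4142 (iv D2910)
def n4143 : Q := act 4 n2906
theorem D4143 : act 4 n2906 = n4143 := rfl
theorem F19787 : act 0 n4143 = n4143 := d3_1 D4143 (iv D4143) F14105
theorem F19788 : act 2 n4143 = n4143 := d18_1 D4143 (iv D4143) F14106
theorem F19789 : act 5 n4143 = n2924 := d30_2 D2906 D4143 (iv D2924) (iv D2043) (iv F10032)
theorem F19790 : act 9 n4143 = n2907 := d34_2 (iv F14107) D4143 (iv D2907)
def n4144 : Q := act 6 n2906
theorem D4144 : act 6 n2906 = n4144 := rfl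
theorem F19791 : act 0 n4144 = n4144 := d5_1 D4144 (iv D4144) F14105
theorem F19792 : act 2 n4144 = n4144 := d20_1 D4144 (iv D4144) F14106
theorem F19793 : act 5 n4144 = n4144 := d35_1 D4144 (iv D4144) (iv D2906) F10033 D2906
theorem F19794 : act 9 n4144 = n2908 := d41_2 (iv F14107) D4144 (iv D2908)
def n4145 : Q := act 3 n2907
theorem D4145 : act 3 n2907 = n4145 := rfl
theorem F19795 : act 0 n4145 = n4145 := d2_1 D4145 (iv D4145) F14108
theorem F19796 : act 5 n4145 = n2926 := d25_2 (iv F14110) D4145 (iv D2926)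
theorem F19797 : act 8 n4145 = n2911 := d28_2 (iv F14111) D4145 (iv D2911)
def n4146 : Q := act 6 n2907
theorem D4146 : act 6 n2907 = n4146 := rfl
theorem F19798 : act 0 n4146 = n4146 := d5_1 D4146 (iv D4146) F14108
theorem F19799 : act 2 n4146 = n4146 := d20_1 D4146 (iv D4146) F14109
theorem F19800 : act 4 n4146 = n2908 := d31_1 D4146 (iv D2908) D2907
theorem F19801 : act 8 n4146 = n2912 := d40_2 (iv F14111) D4146 (iv D2912)
def n4147 : Q := act 7 n2908
theorem D4147 : act 7 n2908 = n4147 := rfl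
theorem F19802 : act 0 n4147 = n4147 := d6_1 D4147 (iv D4147) F14112
theorem F19803 : act 2 n4147 = n4147 := d21_1 D4147 (iv D4147) F14113
theorem F19804 : act 5 n4147 = n4147 := d36_1 D4147 (iv D4147) F14114
theorem F19805 : act 8 n4147 = n2913 := d42_2 (iv F14115) D4147 (iv D2913)
def n4148 : Q := act 3 n2909
theorem D4148 : act 3 n2909 = n4148 := rfl
theorem F19806 : act 0 n4148 = n4148 := d2_1 D4148 (iv D4148) F14116
theorem F19807 : act 5 n4148 = n2914 := d25_2 (iv F14118) D4148 (iv D2914)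
theorem F19808 : act 7 n4148 = n2911 := d27_2 (iv F14119) D4148 (iv D2911)
def n4149 : Q := act 6 n2909
theorem D4149 : act 6 n2909 = n4149 := rfl
theorem F19809 : act 0 n4149 = n4149 := d5_1 D4149 (iv D4149) F14116
theorem F19810 : act 2 n4149 = n4149 := d20_1 D4149 (iv D4149) F14117
theorem F19811 : act 4 n4149 = n2910 := d31_1 D4149 (iv D2910) D2909
def n4150 : Q := act 7 n2910
theorem D4150 : act 7 n2910 = n4150 := rfl
theorem F19812 : act 0 n4150 = n4150 := d6_1 D4150 (iv D4150) F14120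
theorem F19813 : act 2 n4150 = n4150 := d21_1 D4150 (iv D4150) F14121
theorem F19814 : act 5 n4150 = n4150 := d36_1 D4150 (iv D4150) F14122
theorem F19815 : act 6 n4150 = n2913 := d39_1 D4150 (iv D2913) (iv D2033) (iv F10040) D2910
def n4151 : Q := act 2 n2911
theorem D4151 : act 2 n2911 = n4151 := rfl
theorem F19816 : act 0 n4151 = n4151 := d1_1 D4151 (iv D4151) F14123
theorem F19817 : act 3 n4151 = n4151 := d17_2 D2911 D4151 (iv D4151) (iv D2911) F10042
theorem F19818 : act 5 n4151 = n2916 := d19_2 (iv F14124) D4151 (iv D2916)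
def n4152 : Q := act 6 n2911
theorem D4152 : act 6 n2911 = n4152 := rfl
theorem F19819 : act 0 n4152 = n4152 := d5_1 D4152 (iv D4152) F14123
theorem F19820 : act 3 n4152 = n2912 := d26_1 D4152 (iv D2912) D2911
theorem F19821 : act 5 n4152 = n4152 := d35_1 D4152 (iv D4152) F14124 F10064 (iv F14124)
def n4153 : Q := act 7 n2912
theorem D4153 : act 7 n2912 = n4153 := rfl
theorem F19822 : act 0 n4153 = n4153 := d6_1 D4153 (iv D4153) F14125
theorem F19823 : act 2 n4153 = n4153 := d21_1 D4153 (iv D4153) F14126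
theorem F19824 : act 4 n4153 = n2913 := d32_1 D4153 (iv D2913) (iv F14127)
theorem F19825 : act 5 n4153 = n4153 := d36_1 D4153 (iv D4153) F14128
def n4154 : Q := act 2 n2914
theorem D4154 : act 2 n2914 = n4154 := rfl
theorem F19828 : act 4 n4154 = n3038 := d18_2 (iv F14133) D4154 (iv D3038)
theorem F19829 : act 7 n4154 = n2916 := d21_2 (iv F14134) D4154 (iv D2916)
def n4155 : Q := act 6 n2914
theorem D4155 : act 6 n2914 = n4155 := rfl
theorem F19832 : act 3 n4155 = n2915 := d26_1 D4155 (iv D2915) D2914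
theorem F19833 : act 4 n4155 = n3039 := d31_1 D4155 (iv D3039) (iv F14133)
def n4156 : Q := act 5 n2915
theorem D4156 : act 5 n2915 = n4156 := rfl
def n4157 : Q := act 1 n2916
theorem D4157 : act 1 n2916 = n4157 := rfl
def n4158 : Q := act 3 n2917
theorem D4158 : act 3 n2917 = n4158 := rfl
theorem F19846 : act 5 n4158 = n3081 := d25_2 F19757 D4158 (iv F19756)
theorem F19849 : act 8 n4158 = n2939 := d28_2 (iv F14150) D4158 (iv D2939)
theorem F19850 : act 2 n4158 = n3093 := d45_7 F10144 D2939 F14254 F14255 F14256 F14257 (iv F19849) F14968 F14969 (iv D3093) (iv D2167) (iv D1514) F5399 (iv F7559) D2157 (iv F14446) F19286 F19284 F13746 (iv D1973) F6946 (iv F9754) D2816 F13709 F13710 D2846 F19407 F19402 F13857 F9873 F9874 (iv D1994) (iv D1389) D1390 F7009 (iv F9852) (iv F13850) F13851 F19206 (iv D4015) D4016 F19209 F13715 F9776 F9777 F9778 (iv F9879) (iv D1995) F7005 (iv F9849) (iv F13846) F13847 D2989 F14496 F14497 (iv F19697) F19698 D4136 F19757 F14148 F14149 F14150 F10143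
def n4164 : Q := act 4 n2921
theorem D4164 : act 4 n2921 = n4164 := rfl
theorem F19876 : act 0 n4164 = n4164 := d3_1 D4164 (iv D4164) F14168
theorem F19877 : act 2 n4164 = n4164 := d18_1 D4164 (iv D4164) F14169
theorem F19878 : act 7 n4164 = n2924 := d32_2 (iv F14171) D4164 (iv D2924)
theorem F19879 : act 8 n4164 = n4164 := d33_2 F14172 D4164 (iv D4164)
theorem F19880 : act 9 n4164 = n2922 := d34_2 (iv F14173) D4164 (iv D2922)
def n4165 : Q := act 6 n2921
theorem D4165 : act 6 n2921 = n4165 := rfl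
theorem F19885 : act 9 n4165 = n2923 := d41_2 (iv F14173) D4165 (iv D2923)
def n4166 : Q := act 3 n2922
theorem D4166 : act 3 n2922 = n4166 := rfl
theorem F19886 : act 0 n4166 = n4166 := d2_1 D4166 (iv D4166) F14174
theorem F19887 : act 4 n4166 = n4166 := d24_2 D2922 D4166 (iv D4166) (iv D2922) F10089
theorem F19888 : act 7 n4166 = n2926 := d27_2 (iv F14176) D4166 (iv D2926)
theorem F19889 : act 8 n4166 = n2929 := d28_2 (iv F14177) D4166 (iv D2929)
def n4167 : Q := act 6 n2922
theorem D4167 : act 6 n2922 = n4167 := rfl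
theorem F19892 : act 4 n4167 = n2923 := d31_1 D4167 (iv D2923) D2922
def n4168 : Q := act 7 n2923
theorem D4168 : act 7 n2923 = n4168 := rfl
theorem F19897 : act 6 n4168 = n2928 := d39_1 D4168 (iv D2928) (iv D2045) (iv F10090) D2923
def n4169 : Q := act 3 n2924
theorem D4169 : act 3 n2924 = n4169 := rfl
theorem F19899 : act 0 n4169 = n4169 := d2_1 D4169 (iv D4169) F14182
theorem F19900 : act 4 n4169 = n4169 := d24_2 D2924 D4169 (iv D4169) (iv D2924) F10094
theorem F19901 : act 8 n4169 = n4169 := d28_2 F14184 D4169 (iv D4169)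
theorem F19902 : act 9 n4169 = n2926 := d29_2 (iv F14185) D4169 (iv D2926)
def n4170 : Q := act 6 n2924
theorem D4170 : act 6 n2924 = n4170 := rfl
theorem F19903 : act 0 n4170 = n4170 := d5_1 D4170 (iv D4170) F14182
theorem F19904 : act 2 n4170 = n4170 := d20_1 D4170 (iv D4170) F14183
theorem F19905 : act 4 n4170 = n2925 := d31_1 D4170 (iv D2925) D2924
theorem F19906 : act 8 n4170 = n4170 := d40_2 F14184 D4170 (iv D4170)
theorem F19907 : act 9 n4170 = n2927 := d41_2 (iv F14185) D4170 (iv D2927)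
def n4171 : Q := act 7 n2925
theorem D4171 : act 7 n2925 = n4171 := rfl
theorem F19913 : act 9 n4171 = n2928 := d43_2 (iv F14191) D4171 (iv D2928)
def n4172 : Q := act 2 n2926
theorem D4172 : act 2 n2926 = n4172 := rfl
theorem F19914 : act 0 n4172 = n4172 := d1_1 D4172 (iv D4172) F14192
theorem F19915 : act 3 n4172 = n4172 := d17_2 D2926 D4172 (iv D4172) (iv D2926) F10098
theorem F19916 : act 4 n4172 = n4172 := d18_2 F14193 D4172 (iv D4172)
theorem F19917 : act 8 n4172 = n2932 := d22_2 (iv F14194) D4172 (iv D2932)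
def n4173 : Q := act 6 n2926
theorem D4173 : act 6 n2926 = n4173 := rfl
theorem F19918 : act 0 n4173 = n4173 := d5_1 D4173 (iv D4173) F14192
theorem F19919 : act 3 n4173 = n2927 := d26_1 D4173 (iv D2927) D2926
theorem F19920 : act 4 n4173 = n4173 := d31_1 D4173 (iv D4173) F14193
theorem F19921 : act 8 n4173 = n2933 := d40_2 (iv F14194) D4173 (iv D2933)
def n4174 : Q := act 5 n2927
theorem D4174 : act 5 n2927 = n4174 := rfl
theorem F19922 : act 0 n4174 = n4174 := d4_1 D4174 (iv D4174) F14195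
theorem F19923 : act 2 n4174 = n4174 := d19_1 D4174 (iv D4174) F14196
theorem F19924 : act 4 n4174 = n4174 := d30_1 D4174 (iv D4174) F14197 F10103 (iv F14197)
theorem F19925 : act 8 n4174 = n4174 := d37_2 (iv F14198) D4174 (iv D4174) F14198 F10122
def n4175 : Q := act 7 n2927
theorem D4175 : act 7 n2927 = n4175 := rfl
theorem F19928 : act 4 n4175 = n2928 := d32_1 D4175 (iv D2928) (iv F14197)
def n4176 : Q := act 2 n2929
theorem D4176 : act 2 n2929 = n4176 := rfl
theorem F19933 : act 5 n4176 = n2935 := d19_2 (iv F14206) D4176 (iv D2935)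
theorem F19934 : act 7 n4176 = n2932 := d21_2 (iv F14207) D4176 (iv D2932)
def n4177 : Q := act 6 n2929
theorem D4177 : act 6 n2929 = n4177 := rfl
theorem F19937 : act 3 n4177 = n2930 := d26_1 D4177 (iv D2930) D2929
def n4180 : Q := act 1 n2932
theorem D4180 : act 1 n2932 = n4180 := rfl
def n4181 : Q := act 6 n2932
theorem D4181 : act 6 n2932 = n4181 := rfl
theorem F19954 : act 0 n4181 = n4181 := d5_1 D4181 (iv D4181) F14219
theorem F19955 : act 2 n4181 = n2933 := d20_1 D4181 (iv D2933) D2932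
theorem F19956 : act 3 n4181 = n4181 := d26_1 D4181 (iv D4181) F14220
theorem F19957 : act 4 n4181 = n4181 := d31_1 D4181 (iv D4181) F14221
theorem F19958 : act 5 n4181 = n4181 := d35_1 D4181 (iv D4181) F14222 F10141 (iv F14222)
theorem F19959 : act 9 n4181 = n4181 := d41_2 F14223 D4181 (iv D4181)
def n4182 : Q := act 7 n2933
theorem D4182 : act 7 n2933 = n4182 := rfl
theorem F19961 : act 3 n4182 = n2934 := d27_1 D4182 (iv D2934) (iv F14225)
def n4183 : Q := act 1 n2935
theorem D4183 : act 1 n2935 = n4183 := rfl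
theorem F19966 : act 4 n4183 = n3042 := d11_2 (iv F14236) D4183 (iv D3042)
def n4184 : Q := act 6 n2935
theorem D4184 : act 6 n2935 = n4184 := rfl
theorem F19970 : act 2 n4184 = n2936 := d20_1 D4184 (iv D2936) D2935
theorem F19972 : act 4 n4184 = n3043 := d31_1 D4184 (iv D3043) (iv F14236)
def n4185 : Q := act 5 n2936
theorem D4185 : act 5 n2936 = n4185 := rfl
theorem F19976 : act 3 n4185 = n2937 := d25_1 D4185 (iv D2937) (iv F14240)
def n4188 : Q := act 2 n2939
theorem D4188 : act 2 n2939 = n4188 := rfl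
theorem F19994 : act 8 n4188 = n3093 := d22_2 F19849 D4188 (iv F19850)
theorem F19995 : act 1 n4188 = n4188 := d15_3 F19994 F14967 (iv F19994)
theorem F19996 : act 2 n3884 = n3884 := d9_4 D4188 F19995 (iv D4188) (iv F18633) F18633
theorem F19997 : act 3 n3732 = n3732 := d17_4 D3884 F19996 (iv D3884) (iv F18055) F18055
theorem F19998 : act 4 n3717 = n3717 := d24_4 D3732 F19997 (iv D3732) (iv F17985) F17985
theorem F19999 : act 5 n3708 = n3708 := d30_4 D3717 F19998 (iv D3717) (iv F17937) F17937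
theorem E1 : n3708 = n91 := ((c45_3 F1485 F1066 F766 F19999 F17938 F12785 (iv D1812) F6457 F6458 (iv D1263) (iv D879) (iv D611) (iv F3216) F3217 F3213 (iv D605) (iv D420) (iv D290) (iv F1611) F1612 (iv D289) F1136 F810 F579 F410 (iv D67) (iv D45) D46 F293 F294 (iv F405) D99 D147 D215 F1213 F1210 (iv F1677) (iv F2375) (iv F3349) D917 F4741 D1320 (iv F9149) (iv F12809) (iv F17937) F19999 F17938 F12785 (iv D1812) F6457 F6458 (iv D1263) (iv D879) (iv D611) (iv F3216) F3217 F3213 (iv D605) (iv D420) (iv D290) (iv F1611) F1612 (iv D289) (iv F1484))).symm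
theorem E2 : n2600 = n131 := ((((iv F766)).symm.trans (sb E1 F17937))).symm
theorem E5 : n3379 = n97 := (((F763).symm.trans (sb E2 (iv F16388)))).symm
theorem E6 : n1823 = n187 := ((((iv F1066)).symm.trans (sb E2 F12809))).symm
theorem E8 : n1815 = n89 := ((((iv D131)).symm.trans (sb E2 F12810))).symm
theorem E19 : n2373 = n139 := ((((iv F810)).symm.trans (sb E5 F16390))).symm
theorem E20 : n2365 = n65 := ((((iv D97)).symm.trans (sb E5 F16391))).symm
theorem E22 : n1320 = n267 := ((((iv F1485)).symm.trans (sb E6 F9149))).symm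
theorem E23 : n2611 = n271 := (((D271).symm.trans (sb E6 D2611))).symm
theorem E24 : n1271 = n129 := ((((iv D187)).symm.trans (sb E6 F9151))).symm
theorem E25 : n1270 = n272 := (((D272).symm.trans (sb E6 (iv D1823)))).symm
theorem E27 : n1265 = n61 := ((((iv D89)).symm.trans (sb E8 F9112))).symm
theorem E38 : n3281 = n103 := (((F809).symm.trans (sb E19 (iv F15930)))).symm
theorem E39 : n1708 = n199 := ((((iv F1136)).symm.trans (sb E19 F11718))).symm
theorem E41 : n1659 = n95 := ((((iv D139)).symm.trans (sb E19 F11720))).symm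
theorem E42 : n1658 = n204 := (((D204).symm.trans (sb E19 (iv D2373)))).symm
theorem E44 : n3273 = n48 := (((F398).symm.trans (sb E20 (iv F15890)))).symm
theorem E45 : n1653 = n44 := ((((iv D65)).symm.trans (sb E20 F11681))).symm
theorem E51 : n997 = n380 := ((((iv F2061)).symm.trans (sb E22 F6692))).symm
theorem E52 : n1896 = n384 := (((D384).symm.trans (sb E22 D1896))).symm
theorem E53 : n918 = n185 := ((((iv D267)).symm.trans (sb E22 F6695))).symm
theorem E54 : n917 = n385 := (((D385).symm.trans (sb E22 (iv D1320)))).symm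
theorem E57 : n3691 = n392 := (((D392).symm.trans (sb E23 (iv F17867)))).symm
theorem E59 : n884 = n88 := ((((iv D129)).symm.trans (sb E24 F6499))).symm
theorem E60 : n883 = n188 := (((D188).symm.trans (sb E24 (iv D1271)))).symm
theorem E62 : n1801 = n393 := (((D393).symm.trans (sb E25 (iv F9048)))).symm
theorem E65 : n879 = n90 := (((D90).symm.trans (sb E27 (iv D1265)))).symm
theorem E86 : n2302 = n70 := ((((iv D103)).symm.trans (sb E38 F15933))).symm
theorem E88 : n2446 = n288 := (((D288).symm.trans (sb E39 D2446))).symm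
theorem E89 : n1192 = n137 := ((((iv D199)).symm.trans (sb E39 F8580))).symm
theorem E90 : n1191 = n289 := (((D289).symm.trans (sb E39 (iv D1708)))).symm
theorem E92 : n1158 = n64 := ((((iv D95)).symm.trans (sb E41 F8344))).symm
theorem E93 : n1157 = n140 := (((D140).symm.trans (sb E41 (iv D1659)))).symm
theorem E95 : n2351 = n297 := (((D297).symm.trans (sb E42 (iv F11617)))).symm
theorem E97 : n2296 = n32 := ((((iv D48)).symm.trans (sb E44 F15893))).symm
theorem E99 : n1153 = n66 := (((D66).symm.trans (sb E45 (iv D1653)))).symm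
theorem E104 : n1433 = n545 := (((D545).symm.trans (sb E51 D1433))).symm
theorem E105 : n693 = n265 := ((((iv D380)).symm.trans (sb E51 F5112))).symm
theorem E106 : n692 = n546 := (((D546).symm.trans (sb E51 (iv D997)))).symm
theorem E109 : n2700 = n553 := (((D553).symm.trans (sb E52 (iv F13207)))).symm
theorem E112 : n636 = n268 := (((D268).symm.trans (sb E53 (iv D918)))).symm
theorem E114 : n1310 = n554 := (((D554).symm.trans (sb E54 (iv F6654)))).symm
theorem E117 : n2581 = n566 := (((D566).symm.trans (sb E57 (iv D3691)))).symm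
theorem E118 : n613 = n130 := (((D130).symm.trans (sb E59 (iv D884)))).symm
theorem E120 : n614 = n273 := (((D273).symm.trans (sb E60 F4599))).symm
theorem E123 : n2559 = n568 := (((D568).symm.trans (sb E62 (iv F12621)))).symm
theorem E124 : n1255 = n569 := (((D569).symm.trans (sb E62 (iv D1801)))).symm
theorem E127 : n611 = n133 := (((D133).symm.trans (sb E65 (iv D879)))).symm
theorem E140 : n1612 = n47 := ((((iv D70)).symm.trans (sb E86 F11383))).symm
theorem E141 : n1611 = n104 := (((D104).symm.trans (sb E86 (iv D2302)))).symm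
theorem E146 : n3479 = n417 := (((D417).symm.trans (sb E88 (iv F16856)))).symm
theorem E148 : n830 = n94 := ((((iv D137)).symm.trans (sb E89 F6096))).symm
theorem E149 : n829 = n200 := (((D200).symm.trans (sb E89 (iv D1192)))).symm
theorem E151 : n1698 = n418 := (((D418).symm.trans (sb E90 (iv F8529)))).symm
theorem E154 : n806 = n96 := (((D96).symm.trans (sb E92 (iv D1158)))).symm
theorem E156 : n807 = n205 := (((D205).symm.trans (sb E93 F5921))).symm
theorem E159 : n3338 = n432 := (((D432).symm.trans (sb E95 (iv F16202)))).symm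
theorem E165 : n1607 = n49 := (((D49).symm.trans (sb E97 (iv D2296)))).symm
theorem E170 : n804 = n99 := (((D99).symm.trans (sb E99 (iv D1153)))).symm
theorem E181 : n2054 = n778 := (((D778).symm.trans (sb E104 D2054))).symm
theorem E182 : n2038 = n779 := (((D779).symm.trans (sb E104 (iv F10071)))).symm
theorem E184 : n480 = n184 := ((((iv D265)).symm.trans (sb E105 F3622))).symm
theorem E185 : n479 = n381 := (((D381).symm.trans (sb E105 (iv D693)))).symm
theorem E187 : n987 = n780 := (((D780).symm.trans (sb E106 (iv F5061)))).symm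
theorem E193 : n1883 = n793 := (((D793).symm.trans (sb E109 (iv D2700)))).symm
theorem E198 : n441 = n386 := (((D386).symm.trans (sb E112 F3349))).symm
theorem E201 : n1873 = n795 := (((D795).symm.trans (sb E114 (iv F9352)))).symm
theorem E202 : n909 = n796 := (((D796).symm.trans (sb E114 (iv D1310)))).symm
theorem E206 : n3661 = n814 := (((D814).symm.trans (sb E117 (iv F17730)))).symm
theorem E207 : n1802 = n815 := (((D815).symm.trans (sb E117 F12723))).symm
theorem E209 : n424 = n189 := (((D189).symm.trans (sb E118 (iv D613)))).symm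
theorem E212 : n426 = n395 := (((D395).symm.trans (sb E120 F3258))).symm
theorem E213 : n874 = n396 := (((D396).symm.trans (sb E120 (iv F4556)))).symm
theorem E217 : n3652 = n817 := (((D817).symm.trans (sb E123 (iv F17697)))).symm
theorem E218 : n1786 = n818 := (((D818).symm.trans (sb E123 (iv D2559)))).symm
theorem E220 : n873 = n820 := (((D820).symm.trans (sb E124 (iv D1255)))).symm
theorem E224 : n423 = n195 := (((D195).symm.trans (sb E127 (iv D611)))).symm
theorem E244 : n1127 = n71 := (((D71).symm.trans (sb E140 (iv D1612)))).symm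
theorem E246 : n1128 = n153 := (((D153).symm.trans (sb E141 F8106))).symm
theorem E249 : n2433 = n600 := (((D600).symm.trans (sb E146 (iv D3479)))).symm
theorem E250 : n576 = n138 := (((D138).symm.trans (sb E148 (iv D830)))).symm
theorem E252 : n577 = n290 := (((D290).symm.trans (sb E149 F4318))).symm
theorem E255 : n2423 = n602 := (((D602).symm.trans (sb E151 (iv F11956)))).symm
theorem E256 : n1183 = n603 := (((D603).symm.trans (sb E151 (iv D1698)))).symm
theorem E259 : n560 = n141 := (((D141).symm.trans (sb E154 (iv D806)))).symm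
theorem E262 : n562 = n299 := (((D299).symm.trans (sb E156 F4209))).symm
theorem E263 : n1148 = n300 := (((D300).symm.trans (sb E156 (iv F5878)))).symm
theorem E266 : n2336 = n625 := (((D625).symm.trans (sb E159 (iv D3338)))).symm
theorem E271 : n1125 = n74 := (((D74).symm.trans (sb E165 (iv D1607)))).symm
theorem E276 : n559 = n147 := (((D147).symm.trans (sb E170 (iv D804)))).symm
theorem E286 : n2939 = n1111 := (((D1111).symm.trans (sb E181 D2939))).symm
theorem E287 : n2917 = n1112 := (((D1112).symm.trans (sb E181 (iv F14150)))).symm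
theorem E289 : n1420 = n1113 := (((D1113).symm.trans (sb E182 (iv D2038)))).symm
theorem E292 : n331 = n266 := (((D266).symm.trans (sb E184 (iv D480)))).symm
theorem E294 : n547 = n332 := ((D547).symm.trans (sb E185 F2554))
theorem E297 : n1410 = n1115 := (((D1115).symm.trans (sb E187 (iv F7104)))).symm
theorem E298 : n1116 = n684 := ((D1116).symm.trans (sb E187 (iv D987)))
theorem E302 : n2687 = n1136 := (((D1136).symm.trans (sb E193 (iv F13161)))).symm
theorem E303 : n1311 = n1137 := (((D1137).symm.trans (sb E193 F9385))).symm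
theorem E308 : n556 = n304 := ((D556).symm.trans (sb E198 F2375))
theorem E309 : n631 = n557 := (((D557).symm.trans (sb E198 (iv F3327)))).symm
theorem E313 : n2678 = n1139 := (((D1139).symm.trans (sb E201 (iv F13124)))).symm
theorem E314 : n1302 = n1140 := (((D1140).symm.trans (sb E201 (iv D1873)))).symm
theorem E316 : n1142 = n630 := ((D1142).symm.trans (sb E202 (iv D909)))
theorem E317 : n1312 = n1143 := (((D1143).symm.trans (sb E202 D1312))).symm
theorem E320 : n2560 = n1169 := (((D1169).symm.trans (sb E206 F17731))).symm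
theorem E321 : n1256 = n1171 := (((D1171).symm.trans (sb E207 F9053))).symm
theorem E323 : n293 = n275 := (((D275).symm.trans (sb E209 F2303))).symm
theorem E324 : n292 = n276 := (((D276).symm.trans (sb E209 (iv D424)))).symm
theorem E328 : n608 = n571 := (((D571).symm.trans (sb E212 (iv F3230)))).symm
theorem E329 : n617 = n572 := (((D572).symm.trans (sb E212 D617))).symm
theorem E330 : n606 = n573 := (((D573).symm.trans (sb E213 (iv D874)))).symm
theorem E334 : n2553 = n1175 := (((D1175).symm.trans (sb E217 (iv D3652)))).symm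
theorem E335 : n1246 = n1177 := (((D1177).symm.trans (sb E218 F8976))).symm
theorem E336 : n1245 = n1178 := (((D1178).symm.trans (sb E218 (iv D1786)))).symm
theorem E338 : n1257 = n1181 := (((D1181).symm.trans (sb E220 D1257))).symm
theorem E340 : n605 = n283 := (((D283).symm.trans (sb E224 (iv F3216)))).symm
theorem E341 : n612 = n284 := (((D284).symm.trans (sb E224 D612))).symm
theorem E352 : n786 = n105 := (((D105).symm.trans (sb E244 (iv D1127)))).symm
theorem E355 : n788 = n224 := (((D224).symm.trans (sb E246 F5780))).symm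
theorem E363 : n3466 = n862 := (((D862).symm.trans (sb E249 (iv F16797)))).symm
theorem E364 : n1699 = n863 := (((D863).symm.trans (sb E249 F11999))).symm
theorem E366 : n398 = n201 := (((D201).symm.trans (sb E250 (iv D576)))).symm
theorem E369 : n420 = n400 := ((D420).symm.trans (sb E252 F3065))
theorem E370 : n824 = n421 := (((D421).symm.trans (sb E252 (iv F4291)))).symm
theorem E374 : n3457 = n865 := (((D865).symm.trans (sb E255 (iv F16751)))).symm
theorem E375 : n1690 = n866 := (((D866).symm.trans (sb E255 (iv D2423)))).symm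
theorem E377 : n868 = n823 := ((D868).symm.trans (sb E256 (iv D1183)))
theorem E381 : n389 = n207 := (((D207).symm.trans (sb E259 F2980))).symm
theorem E382 : n388 = n208 := (((D208).symm.trans (sb E259 (iv D560)))).symm
theorem E386 : n801 = n435 := (((D435).symm.trans (sb E262 (iv F4181)))).symm
theorem E387 : n810 = n436 := (((D436).symm.trans (sb E262 D810))).symm
theorem E388 : n799 = n437 := (((D437).symm.trans (sb E263 (iv D1148)))).symm
theorem E392 : n3332 = n901 := ((((iv F4675)).symm.trans (sb E266 (iv F16178)))).symm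
theorem E393 : n1634 = n903 := (((D903).symm.trans (sb E266 F11545))).symm
theorem E394 : n1633 = n904 := (((D904).symm.trans (sb E266 (iv D2336)))).symm
theorem E403 : n785 = n111 := (((D111).symm.trans (sb E271 (iv D1125)))).symm
theorem E411 : n798 = n215 := (((D215).symm.trans (sb E276 (iv F4167)))).symm
theorem E412 : n805 = n216 := (((D216).symm.trans (sb E276 D805))).symm
theorem E427 : n4188 = n1583 := (((D1583).symm.trans (sb E286 D4188))).symm
theorem E428 : n4158 = n1584 := (((D1584).symm.trans (sb E286 (iv F19849)))).symm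
theorem E429 : n4136 = n1585 := (((D1585).symm.trans (sb E287 (iv F19757)))).symm
theorem E431 : n2025 = n1587 := (((D1587).symm.trans (sb E289 (iv F10013)))).symm
theorem E432 : n1588 = n988 := ((D1588).symm.trans (sb E289 F7147))
theorem E435 : n382 = n227 := ((D382).symm.trans (sb E292 (iv D331)))
theorem F20002 : act 1 n332 = n386 := (sb E294 F2909)
theorem E438 : n782 = n229 := (((F1815).symm.trans (sb E294 D782))).symm
theorem F20003 : act 5 n332 = n381 := (sb E294 (iv D547))
theorem E439 : n783 = n474 := ((((iv F2527)).symm.trans (sb E294 D783))).symm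
theorem E440 : n784 = n482 := (((D482).symm.trans (sb E294 D784))).symm
theorem E443 : n2016 = n1590 := (((D1590).symm.trans (sb E297 (iv F9975)))).symm
theorem E444 : n1591 = n979 := ((D1591).symm.trans (sb E297 (iv D1410)))
theorem F20004 : act 1 n684 = n796 := (sb E298 F5711)
theorem F20005 : act 6 n684 = n780 := (sb E298 (iv D1116))
theorem E447 : n1594 = n989 := (((D989).symm.trans (sb E298 D1594))).symm
theorem E450 : n3835 = n1624 := (((D1624).symm.trans (sb E302 (iv F18454)))).symm
theorem E452 : n1874 = n1625 := (((D1625).symm.trans (sb E302 F13162))).symm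
theorem E454 : n1627 = n910 := ((D1627).symm.trans (sb E303 F6659))
theorem E455 : n1885 = n1628 := (((D1628).symm.trans (sb E303 D1885))).symm
theorem F20006 : act 2 n304 = n395 := (sb E308 F2960)
theorem F20007 : act 4 n304 = n386 := (sb E308 (iv D556))
theorem E460 : n800 = n444 := (((D444).symm.trans (sb E308 D800))).symm
theorem E461 : n912 = n802 := (((D802).symm.trans (sb E309 D912))).symm
theorem E466 : n3826 = n1630 := (((D1630).symm.trans (sb E313 (iv F18425)))).symm
theorem E467 : n1867 = n1631 := (((D1631).symm.trans (sb E313 (iv D2678)))).symm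
theorem E469 : n1875 = n1635 := (((D1635).symm.trans (sb E314 D1875))).symm
theorem F20008 : act 2 n630 = n820 := (sb E316 F5847)
theorem F20009 : act 7 n630 = n796 := (sb E316 (iv D1142))
theorem E471 : n1637 = n911 := (((D911).symm.trans (sb E316 D1637))).symm
theorem E472 : n1886 = n1638 := (((D1638).symm.trans (sb E317 D1886))).symm
theorem E476 : n3653 = n1675 := ((((iv F8421)).symm.trans (sb E320 (iv F17701)))).symm
theorem E477 : n3627 = n1677 := (((D1677).symm.trans (sb E320 (iv F17589)))).symm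
theorem E478 : n1787 = n1678 := (((D1678).symm.trans (sb E320 F12627))).symm
theorem E480 : n1804 = n1681 := (((D1681).symm.trans (sb E321 D1804))).symm
theorem E482 : n427 = n399 := (((D399).symm.trans (sb E323 D427))).symm
theorem E483 : n425 = n401 := (((D401).symm.trans (sb E324 D425))).symm
theorem E488 : n877 = n825 := (((D825).symm.trans (sb E328 D877))).symm
theorem E489 : n889 = n826 := (((D826).symm.trans (sb E329 D889))).symm
theorem E490 : n875 = n827 := (((D827).symm.trans (sb E330 D875))).symm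
theorem E495 : n3643 = n1684 := ((((iv F8462)).symm.trans (sb E334 (iv F17660)))).symm
theorem E496 : n1783 = n1686 := (((D1686).symm.trans (sb E334 F12598))).symm
theorem E499 : n1774 = n1691 := (((D1691).symm.trans (sb E335 (iv F8924)))).symm
theorem E500 : n1789 = n1692 := (((D1692).symm.trans (sb E335 D1789))).symm
theorem E501 : n1788 = n1693 := (((D1693).symm.trans (sb E336 D1788))).symm
theorem E503 : n1805 = n1696 := (((D1696).symm.trans (sb E338 D1805))).symm
theorem E505 : n872 = n411 := (((D411).symm.trans (sb E340 D872))).symm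
theorem E506 : n882 = n412 := (((D412).symm.trans (sb E341 D882))).symm
theorem E522 : n550 = n155 := (((D155).symm.trans (sb E352 F4102))).symm
theorem E523 : n549 = n156 := (((D156).symm.trans (sb E352 (iv D786)))).symm
theorem E527 : n1131 = n327 := (((D327).symm.trans (sb E355 D1131))).symm
theorem E535 : n2424 = n1237 := (((D1237).symm.trans (sb E363 F16798))).symm
theorem E536 : n1239 = n1184 := ((D1239).symm.trans (sb E364 F8535))
theorem F20010 : act 4 n201 = n276 := (sb E366 F2162)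
theorem F20011 : act 6 n201 = n275 := (sb E366 (iv D398))
theorem E538 : n578 = n294 := (((D294).symm.trans (sb E366 D578))).symm
theorem F20012 : act 2 n400 = n299 := (sb E369 F2283)
theorem F20013 : act 4 n400 = n290 := (sb E369 (iv D420))
theorem E541 : n607 = n580 := (((D580).symm.trans (sb E369 D607))).symm
theorem F20014 : act 4 n421 = n573 := (sb E370 F4290)
theorem F20015 : act 7 n421 = n571 := (sb E370 (iv D824))
theorem E542 : n1186 = n609 := (((D609).symm.trans (sb E370 D1186))).symm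
theorem E545 : n2417 = n1243 := (((D1243).symm.trans (sb E374 (iv D3457)))).symm
theorem F20016 : act 5 n866 = n1178 := (sb E375 F8492)
theorem F20017 : act 7 n866 = n1177 := (sb E375 (iv D1690))
theorem E546 : n2425 = n1247 := (((D1247).symm.trans (sb E375 D2425))).symm
theorem F20018 : act 2 n823 = n627 := (sb E377 F4525)
theorem F20019 : act 7 n823 = n603 := (sb E377 (iv D868))
theorem E547 : n1249 = n1185 := (((D1185).symm.trans (sb E377 D1249))).symm
theorem F20020 : act 2 n207 = n276 := (sb E381 F2113)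
theorem F20021 : act 6 n207 = n269 := (sb E381 (iv D389))
theorem E549 : n563 = n303 := (((D303).symm.trans (sb E381 D563))).symm
theorem F20022 : act 2 n208 = n275 := (sb E382 F2109)
theorem F20023 : act 4 n208 = n269 := (sb E382 (iv D388))
theorem E550 : n561 = n305 := (((D305).symm.trans (sb E382 D561))).symm
theorem F20024 : act 2 n435 = n573 := (sb E386 F4179)
theorem F20025 : act 7 n435 = n557 := (sb E386 (iv D801))
theorem E553 : n1151 = n632 := (((D632).symm.trans (sb E386 D1151))).symm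
theorem E554 : n1163 = n633 := (((D633).symm.trans (sb E387 D1163))).symm
theorem F20026 : act 2 n437 = n571 := (sb E388 F4170)
theorem F20027 : act 4 n437 = n557 := (sb E388 F4171)
theorem E555 : n1149 = n634 := (((D634).symm.trans (sb E388 D1149))).symm
theorem E558 : n2333 = n1298 := (((D1298).symm.trans (sb E392 F16179))).symm
theorem E559 : n2332 = n1299 := (((D1299).symm.trans (sb E392 (iv D3332)))).symm
theorem F20028 : act 2 n903 = n1178 := (sb E393 F8221)
theorem F20029 : act 7 n903 = n1140 := (sb E393 (iv D1634))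
theorem E560 : n2324 = n1303 := (((D1303).symm.trans (sb E393 (iv F11492)))).symm
theorem E561 : n2339 = n1304 := (((D1304).symm.trans (sb E393 D2339))).symm
theorem F20030 : act 2 n904 = n1177 := (sb E394 F8217)
theorem F20031 : act 5 n904 = n1140 := (sb E394 (iv D1633))
theorem E562 : n2337 = n1290 := ((((iv F6580)).symm.trans (sb E394 D2337))).symm
theorem E563 : n2338 = n1305 := (((D1305).symm.trans (sb E394 D2338))).symm
theorem E569 : n1126 = n164 := (((D164).symm.trans (sb E403 D1126))).symm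
theorem E573 : n1146 = n315 := (((D315).symm.trans (sb E411 D1146))).symm
theorem E574 : n1156 = n316 := (((D316).symm.trans (sb E412 D1156))).symm
theorem E577 : n3093 = n2255 := (((D2255).symm.trans (sb E427 F19994))).symm
theorem E578 : n3081 = n2256 := (((D2256).symm.trans (sb E428 F19846))).symm
theorem E579 : n2901 = n2258 := (((D2258).symm.trans (sb E429 (iv D4136)))).symm
theorem E580 : n3079 = n2259 := (((D2259).symm.trans (sb E429 F19758))).symm
theorem E581 : n2890 = n2261 := (((D2261).symm.trans (sb E431 (iv F14040)))).symm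
theorem E582 : n2262 = n1411 := ((D2262).symm.trans (sb E431 F10014))
theorem E583 : n2902 = n2263 := (((D2263).symm.trans (sb E431 D2902))).symm
theorem F20032 : act 1 n988 = n1137 := (sb E432 F7976)
theorem F20033 : act 6 n988 = n1113 := (sb E432 (iv D1588))
theorem E585 : n2265 = n1422 := (((D1422).symm.trans (sb E432 D2265))).symm
theorem F20034 : act 1 n227 = n269 := (sb E435 F2074)
theorem F20035 : act 5 n227 = n266 := (sb E435 (iv D382))
theorem E587 : n551 = n333 := (((D333).symm.trans (sb E435 D551))).symm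
theorem E590 : n1120 = n335 := (((D335).symm.trans (sb E438 D1120))).symm
theorem F20036 : act 1 n474 = n557 := (sb E439 F4084)
theorem E591 : n1122 = n687 := (((D687).symm.trans (sb E439 D1122))).symm
theorem F20037 : act 1 n482 = n558 := (sb E440 F4089)
theorem F20038 : act 5 n482 = n548 := (sb E440 F4092)
theorem E592 : n1123 = n697 := (((D697).symm.trans (sb E440 D1123))).symm
theorem E596 : n2881 = n2267 := (((D2267).symm.trans (sb E443 (iv F13995)))).symm
theorem E597 : n2268 = n1404 := ((D2268).symm.trans (sb E443 (iv D2016)))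
theorem E598 : n2891 = n2269 := (((D2269).symm.trans (sb E443 D2891))).symm
theorem F20039 : act 1 n979 = n1140 := (sb E444 F7993)
theorem F20040 : act 6 n979 = n1115 := (sb E444 (iv D1591))
theorem E599 : n2272 = n1412 := (((D1412).symm.trans (sb E444 D2272))).symm
theorem F20041 : act 1 n989 = n1143 := (sb E447 F8009)
theorem F20042 : act 6 n989 = n1117 := (sb E447 F8013)
theorem E602 : n2275 = n1423 := (((D1423).symm.trans (sb E447 D2275))).symm
theorem E606 : n2679 = n2321 := (((D2321).symm.trans (sb E450 F18456))).symm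
theorem E607 : n2657 = n2323 := (((D2323).symm.trans (sb E452 (iv F13049)))).symm
theorem E608 : n2689 = n2325 := (((D2325).symm.trans (sb E452 D2689))).symm
theorem F20043 : act 2 n910 = n1171 := (sb E454 F8187)
theorem F20044 : act 7 n910 = n1137 := (sb E454 (iv D1627))
theorem E609 : n2327 = n1313 := (((D1313).symm.trans (sb E454 D2327))).symm
theorem E610 : n2703 = n2328 := (((D2328).symm.trans (sb E455 D2703))).symm
theorem F20045 : act 2 n444 = n572 := (sb E460 F4174)
theorem F20046 : act 4 n444 = n558 := (sb E460 F4175)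
theorem E615 : n1150 = n642 := (((D642).symm.trans (sb E460 D1150))).symm
theorem E616 : n1315 = n1152 := (((D1152).symm.trans (sb E461 D1315))).symm
theorem E620 : n2672 = n2330 := (((D2330).symm.trans (sb E466 (iv D3826)))).symm
theorem E621 : n2680 = n2334 := (((D2334).symm.trans (sb E467 D2680))).symm
theorem E622 : n2690 = n2340 := (((D2340).symm.trans (sb E469 D2690))).symm
theorem F20047 : act 2 n911 = n1181 := (sb E471 F8233)
theorem F20048 : act 7 n911 = n1143 := (sb E471 F8237)
theorem E623 : n2342 = n1314 := (((D1314).symm.trans (sb E471 D2342))).symm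
theorem E624 : n2704 = n2343 := (((D2343).symm.trans (sb E472 D2704))).symm
theorem E625 : n2554 = n2399 := (((D2399).symm.trans (sb E476 F17702))).symm
theorem E626 : n2538 = n2402 := (((D2402).symm.trans (sb E477 F17590))).symm
theorem E627 : n2537 = n2403 := (((D2403).symm.trans (sb E477 (iv D3627)))).symm
theorem E628 : n2562 = n2405 := (((D2405).symm.trans (sb E478 D2562))).symm
theorem E629 : n2585 = n2408 := (((D2408).symm.trans (sb E480 D2585))).symm
theorem E630 : n618 = n579 := (((D579).symm.trans (sb E482 D618))).symm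
theorem E631 : n616 = n581 := (((D581).symm.trans (sb E483 D616))).symm
theorem E635 : n1261 = n1187 := (((D1187).symm.trans (sb E488 D1261))).symm
theorem E636 : n1278 = n1188 := (((D1188).symm.trans (sb E489 D1278))).symm
theorem E637 : n1259 = n1189 := (((D1189).symm.trans (sb E490 D1259))).symm
theorem E641 : n2549 = n2413 := (((D2413).symm.trans (sb E495 F17662))).symm
theorem E642 : n2548 = n2414 := (((D2414).symm.trans (sb E495 (iv D3643)))).symm
theorem E643 : n2534 = n2418 := (((D2418).symm.trans (sb E496 (iv F12513)))).symm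
theorem E644 : n2556 = n2419 := (((D2419).symm.trans (sb E496 D2556))).symm
theorem E646 : n2540 = n2426 := (((D2426).symm.trans (sb E499 D2540))).symm
theorem E647 : n2564 = n2427 := (((D2427).symm.trans (sb E500 D2564))).symm
theorem E648 : n2563 = n2428 := (((D2428).symm.trans (sb E501 D2563))).symm
theorem E649 : n2586 = n2431 := (((D2431).symm.trans (sb E503 D2586))).symm
theorem E650 : n1254 = n593 := (((D593).symm.trans (sb E505 D1254))).symm
theorem E651 : n1269 = n594 := (((D594).symm.trans (sb E506 D1269))).symm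
theorem E655 : n789 = n228 := (((D228).symm.trans (sb E522 D789))).symm
theorem E656 : n787 = n230 := (((D230).symm.trans (sb E523 D787))).symm
theorem E660 : n1617 = n476 := (((D476).symm.trans (sb E527 D1617))).symm
theorem E672 : n3458 = n1771 := ((((iv F8910)).symm.trans (sb E535 (iv F16757)))).symm
theorem E673 : n3436 = n1773 := (((D1773).symm.trans (sb E535 (iv F16659)))).symm
theorem F20049 : act 7 n1237 = n1691 := (sb E535 F11962)
theorem E674 : n3468 = n1775 := (((D1775).symm.trans (sb E535 D3468))).symm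
theorem F20050 : act 2 n1184 = n897 := (sb E536 F6343)
theorem F20051 : act 7 n1184 = n863 := (sb E536 (iv D1239))
theorem E675 : n1777 = n1701 := (((D1701).symm.trans (sb E536 D1777))).symm
theorem F20052 : act 4 n294 = n401 := (sb E538 F3070)
theorem F20053 : act 6 n294 = n399 := (sb E538 F3071)
theorem E677 : n833 = n428 := (((D428).symm.trans (sb E538 D833))).symm
theorem F20054 : act 2 n580 = n436 := (sb E541 F3223)
theorem F20055 : act 4 n580 = n422 := (sb E541 F3224)
theorem E681 : n876 = n835 := (((D835).symm.trans (sb E541 D876))).symm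
theorem F20056 : act 4 n609 = n827 := (sb E542 F6059)
theorem F20057 : act 7 n609 = n825 := (sb E542 F6061)
theorem E682 : n1703 = n878 := (((D878).symm.trans (sb E542 D1703))).symm
theorem E686 : n3451 = n1780 := ((((iv F8950)).symm.trans (sb E545 (iv F16724)))).symm
theorem F20058 : act 5 n1243 = n1687 := (sb E545 F11926)
theorem F20059 : act 7 n1243 = n1686 := (sb E545 (iv D2417))
theorem E687 : n3459 = n1784 := (((D1784).symm.trans (sb E545 D3459))).symm
theorem F20060 : act 5 n1247 = n1693 := (sb E546 F11966)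
theorem F20061 : act 7 n1247 = n1692 := (sb E546 F11967)
theorem E688 : n3469 = n1790 := (((D1790).symm.trans (sb E546 D3469))).symm
theorem F20062 : act 2 n1185 = n907 := (sb E547 F6388)
theorem F20063 : act 7 n1185 = n869 := (sb E547 F6392)
theorem E689 : n1792 = n1702 := (((D1702).symm.trans (sb E547 D1792))).symm
theorem F20064 : act 2 n303 = n401 := (sb E549 F2992)
theorem F20065 : act 6 n303 = n390 := (sb E549 F2995)
theorem E691 : n811 = n443 := (((D443).symm.trans (sb E549 D811))).symm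
theorem F20066 : act 2 n305 = n399 := (sb E550 F2983)
theorem F20067 : act 4 n305 = n390 := (sb E550 F2984)
theorem E692 : n809 = n445 := (((D445).symm.trans (sb E550 D809))).symm
theorem F20068 : act 2 n632 = n827 := (sb E553 F5890)
theorem F20069 : act 7 n632 = n802 := (sb E553 F5893)
theorem E696 : n1649 = n913 := (((D913).symm.trans (sb E553 D1649))).symm
theorem E697 : n1666 = n914 := (((D914).symm.trans (sb E554 D1666))).symm
theorem F20070 : act 2 n634 = n825 := (sb E555 F5881)
theorem F20071 : act 4 n634 = n802 := (sb E555 F5882)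
theorem E698 : n1647 = n915 := (((D915).symm.trans (sb E555 D1647))).symm
theorem E702 : n3328 = n1863 := ((((iv F9313)).symm.trans (sb E558 (iv F16159)))).symm
theorem F20072 : act 7 n1298 = n1631 := (sb E558 (iv D2333))
theorem E703 : n3313 = n1868 := (((D1868).symm.trans (sb E558 (iv F16092)))).symm
theorem E704 : n3335 = n1869 := (((D1869).symm.trans (sb E558 D3335))).symm
theorem E705 : n3327 = n1864 := ((((iv F9316)).symm.trans (sb E559 (iv F16155)))).symm
theorem F20073 : act 5 n1299 = n1631 := (sb E559 (iv D2332))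
theorem E707 : n3334 = n1870 := (((D1870).symm.trans (sb E559 D3334))).symm
theorem F20074 : act 2 n1303 = n1678 := (sb E560 F11489)
theorem E708 : n3316 = n1853 := ((((iv F9275)).symm.trans (sb E560 (iv F16105)))).symm
theorem F20075 : act 7 n1303 = n1625 := (sb E560 (iv D2324))
theorem E709 : n3319 = n1876 := (((D1876).symm.trans (sb E560 D3319))).symm
theorem F20076 : act 2 n1304 = n1693 := (sb E561 F11556)
theorem F20077 : act 7 n1304 = n1635 := (sb E561 F11559)
theorem E710 : n3343 = n1877 := (((D1877).symm.trans (sb E561 D3343))).symm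
theorem F20078 : act 2 n1290 = n1691 := (sb E562 F11547)
theorem E711 : n3317 = n1852 := ((((iv F9272)).symm.trans (sb E562 (iv F16109)))).symm
theorem E712 : n3341 = n1855 := (((D1855).symm.trans (sb E562 D3341))).symm
theorem F20079 : act 2 n1305 = n1692 := (sb E563 F11551)
theorem F20080 : act 5 n1305 = n1635 := (sb E563 F11553)
theorem E713 : n3342 = n1878 := (((D1878).symm.trans (sb E563 D3342))).symm
theorem E720 : n1610 = n241 := (((D241).symm.trans (sb E569 D1610))).symm
theorem E724 : n1642 = n457 := (((D457).symm.trans (sb E573 D1642))).symm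
theorem E725 : n1657 = n458 := (((D458).symm.trans (sb E574 D1657))).symm
theorem E729 : n3206 = n2167 := ((D3206).symm.trans (sb E577 (iv D3093)))
theorem E730 : n3208 = n2160 := ((D3208).symm.trans (sb E578 F14912))
theorem E731 : n3209 = n2158 := ((D3209).symm.trans (sb E578 (iv D3081)))
theorem E732 : n4121 = n3211 := (((D3211).symm.trans (sb E579 (iv F19698)))).symm
theorem E733 : n4078 = n3212 := (((D3212).symm.trans (sb E579 (iv F19498)))).symm
theorem E735 : n3214 = n2157 := ((D3214).symm.trans (sb E580 (iv D3079)))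
theorem E736 : n4109 = n3217 := (((D3217).symm.trans (sb E581 (iv F19637)))).symm
theorem E737 : n3218 = n2017 := ((D3218).symm.trans (sb E581 F14042))
theorem E738 : n4122 = n3219 := (((D3219).symm.trans (sb E581 D4122))).symm
theorem F20081 : act 1 n1411 = n1625 := (sb E582 F11159)
theorem E739 : n3220 = n1995 := ((((iv F9878)).symm.trans (sb E582 D3220))).symm
theorem F20082 : act 6 n1411 = n1587 := (sb E582 (iv D2262))
theorem E740 : n3222 = n2027 := (((D2027).symm.trans (sb E582 D3222))).symm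
theorem E741 : n4138 = n3223 := (((D3223).symm.trans (sb E583 D4138))).symm
theorem F20083 : act 1 n1422 = n1628 := (sb E585 F11176)
theorem F20084 : act 6 n1422 = n1589 := (sb E585 F11180)
theorem E743 : n3225 = n2041 := (((D2041).symm.trans (sb E585 D3225))).symm
theorem F20085 : act 1 n333 = n390 := (sb E587 F2933)
theorem F20086 : act 5 n333 = n383 := (sb E587 F2936)
theorem E745 : n790 = n483 := (((D483).symm.trans (sb E587 D790))).symm
theorem E749 : n1602 = n485 := (((D485).symm.trans (sb E590 D1602))).symm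
theorem F20087 : act 1 n687 = n802 := (sb E591 F5745)
theorem E750 : n1604 = n992 := (((D992).symm.trans (sb E591 D1604))).symm
theorem F20088 : act 1 n697 = n803 := (sb E592 F5750)
theorem E751 : n1003 = n697 := ((D1003).symm.trans (sb E592 (tr F5753 E592)))
theorem E754 : n4100 = n3226 := (((D3226).symm.trans (sb E596 (iv F19600)))).symm
theorem E755 : n3227 = n2010 := ((D3227).symm.trans (sb E596 (iv D2881)))
theorem E756 : n4110 = n3228 := (((D3228).symm.trans (sb E596 D4110))).symm
theorem F20089 : act 1 n1404 = n1631 := (sb E597 F11194)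
theorem F20090 : act 6 n1404 = n1590 := (sb E597 (iv D2268))
theorem E757 : n3231 = n2018 := (((D2018).symm.trans (sb E597 D3231))).symm
theorem E758 : n4123 = n3232 := (((D3232).symm.trans (sb E598 D4123))).symm
theorem F20091 : act 1 n1412 = n1635 := (sb E599 F11214)
theorem F20092 : act 6 n1412 = n1592 := (sb E599 F11217)
theorem E759 : n3237 = n2028 := (((D2028).symm.trans (sb E599 D3237))).symm
theorem F20093 : act 1 n1423 = n1638 := (sb E602 F11231)
theorem E762 : n3240 = n2042 := (((D2042).symm.trans (sb E602 D3240))).symm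
theorem F20094 : act 6 n1423 = n1595 := (sb E602 F11234)
theorem E765 : n3827 = n3310 := ((((iv F16077)).symm.trans (sb E606 (iv F18429)))).symm
theorem E766 : n3795 = n3312 := (((D3312).symm.trans (sb E606 (iv F18308)))).symm
theorem E767 : n3837 = n3314 := (((D3314).symm.trans (sb E606 D3837))).symm
theorem E768 : n3803 = n3303 := ((((iv F16048)).symm.trans (sb E607 (iv F18338)))).symm
theorem E769 : n3805 = n3318 := (((D3318).symm.trans (sb E607 D3805))).symm
theorem E770 : n3849 = n3320 := (((D3320).symm.trans (sb E608 D3849))).symm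
theorem F20095 : act 2 n1313 = n1681 := (sb E609 F11503)
theorem F20096 : act 7 n1313 = n1628 := (sb E609 F11507)
theorem E771 : n3322 = n1887 := (((D1887).symm.trans (sb E609 D3322))).symm
theorem E772 : n3866 = n3323 := (((D3323).symm.trans (sb E610 D3866))).symm
theorem F20097 : act 2 n642 = n826 := (sb E615 F5885)
theorem F20098 : act 4 n642 = n803 := (sb E615 F5886)
theorem E779 : n1648 = n925 := (((D925).symm.trans (sb E615 D1648))).symm
theorem E780 : n1889 = n1650 := (((D1650).symm.trans (sb E616 D1889))).symm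
theorem E786 : n3820 = n3325 := ((((iv F16146)).symm.trans (sb E620 (iv F18399)))).symm
theorem E787 : n3828 = n3329 := (((D3329).symm.trans (sb E620 D3828))).symm
theorem E788 : n3838 = n3336 := (((D3336).symm.trans (sb E621 D3838))).symm
theorem E789 : n3850 = n3344 := (((D3344).symm.trans (sb E622 D3850))).symm
theorem F20099 : act 2 n1314 = n1696 := (sb E623 F11570)
theorem E790 : n3346 = n1888 := (((D1888).symm.trans (sb E623 D3346))).symm
theorem F20100 : act 7 n1314 = n1638 := (sb E623 F11573)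
theorem E791 : n3867 = n3347 := (((D3347).symm.trans (sb E624 D3867))).symm
theorem E793 : n3644 = n3425 := ((((iv F16606)).symm.trans (sb E625 (iv F17663)))).symm
theorem E794 : n3621 = n3429 := ((((iv F16626)).symm.trans (sb E625 (iv F17564)))).symm
theorem E796 : n3605 = n3435 := (((D3435).symm.trans (sb E626 (iv F17493)))).symm
theorem E797 : n3629 = n3437 := (((D3437).symm.trans (sb E626 D3629))).symm
theorem E798 : n3620 = n3430 := ((((iv F16629)).symm.trans (sb E627 (iv F17560)))).symm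
theorem E799 : n3626 = n3414 := ((((iv F16556)).symm.trans (sb E627 D3626))).symm
theorem E800 : n3628 = n3438 := (((D3438).symm.trans (sb E627 D3628))).symm
theorem E801 : n3665 = n3440 := (((D3440).symm.trans (sb E628 D3665))).symm
theorem E802 : n3696 = n3443 := (((D3443).symm.trans (sb E629 D3696))).symm
theorem E803 : n890 = n834 := (((D834).symm.trans (sb E630 D890))).symm
theorem E804 : n888 = n836 := (((D836).symm.trans (sb E631 D888))).symm
theorem E810 : n1809 = n1704 := (((D1704).symm.trans (sb E635 D1809))).symm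
theorem E812 : n1834 = n1705 := (((D1705).symm.trans (sb E636 D1834))).symm
theorem E813 : n1807 = n1706 := (((D1706).symm.trans (sb E637 D1807))).symm
theorem E819 : n3639 = n3447 := ((((iv F16707)).symm.trans (sb E641 (iv F17641)))).symm
theorem E820 : n3616 = n3452 := (((D3452).symm.trans (sb E641 (iv F17546)))).symm
theorem E821 : n3646 = n3453 := (((D3453).symm.trans (sb E641 D3646))).symm
theorem E822 : n3638 = n3448 := ((((iv F16711)).symm.trans (sb E642 (iv F17637)))).symm
theorem E823 : n3645 = n3454 := (((D3454).symm.trans (sb E642 D3645))).symm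
theorem E824 : n3623 = n3460 := (((D3460).symm.trans (sb E643 D3623))).symm
theorem E825 : n3657 = n3461 := (((D3461).symm.trans (sb E644 D3657))).symm
theorem E827 : n3631 = n3470 := (((D3470).symm.trans (sb E646 D3631))).symm
theorem E828 : n3667 = n3471 := (((D3471).symm.trans (sb E647 D3667))).symm
theorem E829 : n3666 = n3472 := (((D3472).symm.trans (sb E648 D3666))).symm
theorem E830 : n3697 = n3476 := (((D3476).symm.trans (sb E649 D3697))).symm
theorem E831 : n3698 = n3477 := (((D3477).symm.trans (sb E649 D3698))).symm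
theorem E832 : n1800 = n853 := (((D853).symm.trans (sb E650 D1800))).symm
theorem E833 : n1821 = n854 := (((D854).symm.trans (sb E651 D1821))).symm
theorem E840 : n1132 = n334 := (((D334).symm.trans (sb E655 D1132))).symm
theorem E841 : n1130 = n336 := (((D336).symm.trans (sb E656 D1130))).symm
theorem E844 : n2309 = n689 := (((D689).symm.trans (sb E660 D2309))).symm
theorem F20101 : act 7 n1771 = n2418 := (sb E672 F16759)
theorem F20102 : act 7 n1773 = n2403 := (sb E673 F16660)
theorem F20103 : act 8 n1773 = n2402 := (sb E673 (iv D3436))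
theorem F20104 : act 7 n1775 = n2426 := (sb E674 F16809)
theorem F20105 : act 2 n1701 = n1293 := (sb E675 F8935)
theorem F20106 : act 7 n1701 = n1240 := (sb E675 F8939)
theorem E846 : n2543 = n2437 := (((D2437).symm.trans (sb E675 D2543))).symm
theorem F20107 : act 4 n428 = n581 := (sb E677 F4339)
theorem F20108 : act 6 n428 = n579 := (sb E677 F4340)
theorem F20109 : act 2 n835 = n633 := (sb E681 F4563)
theorem F20110 : act 4 n835 = n610 := (sb E681 F4564)
theorem E850 : n1260 = n1199 := (((D1199).symm.trans (sb E681 D1260))).symm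
theorem F20111 : act 4 n878 = n1189 := (sb E682 F8553)
theorem E851 : n2439 = n1262 := (((D1262).symm.trans (sb E682 D2439))).symm
theorem F20112 : act 7 n878 = n1187 := (sb E682 F8555)
theorem F20113 : act 5 n1780 = n2414 := (sb E686 F16726)
theorem F20114 : act 7 n1780 = n2413 := (sb E686 (iv D3451))
theorem F20115 : act 5 n1784 = n2420 := (sb E687 F16764)
theorem F20116 : act 7 n1784 = n2419 := (sb E687 F16765)
theorem F20117 : act 7 n1790 = n2427 := (sb E688 F16813)
theorem F20118 : act 2 n1702 = n1308 := (sb E689 F9001)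
theorem E854 : n2567 = n2438 := (((D2438).symm.trans (sb E689 D2567))).symm
theorem F20119 : act 7 n1702 = n1250 := (sb E689 F9004)
theorem F20120 : act 2 n443 = n581 := (sb E691 F4225)
theorem E855 : n1164 = n641 := (((D641).symm.trans (sb E691 D1164))).symm
theorem F20121 : act 6 n443 = n564 := (sb E691 F4227)
theorem F20122 : act 2 n445 = n579 := (sb E692 F4216)
theorem F20123 : act 4 n445 = n564 := (sb E692 F4217)
theorem E856 : n1162 = n643 := (((D643).symm.trans (sb E692 D1162))).symm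
theorem F20124 : act 2 n913 = n1189 := (sb E696 F8291)
theorem E859 : n2359 = n1316 := (((D1316).symm.trans (sb E696 D2359))).symm
theorem F20125 : act 7 n913 = n1152 := (sb E696 F8294)
theorem E861 : n2384 = n1317 := (((D1317).symm.trans (sb E697 D2384))).symm
theorem F20126 : act 2 n915 = n1187 := (sb E698 F8280)
theorem F20127 : act 4 n915 = n1152 := (sb E698 F8281)
theorem E862 : n2357 = n1318 := (((D1318).symm.trans (sb E698 D2357))).symm
theorem F20128 : act 3 n1863 = n2414 := (sb E702 F16160)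
theorem F20129 : act 7 n1863 = n2330 := (sb E702 (iv D3328))
theorem F20130 : act 7 n1868 = n2321 := (sb E703 (iv D3313))
theorem F20131 : act 7 n1869 = n2334 := (sb E704 F16191)
theorem F20132 : act 3 n1864 = n2413 := (sb E705 F16156)
theorem F20133 : act 5 n1864 = n2330 := (sb E705 (iv D3327))
theorem F20134 : act 5 n1870 = n2334 := (sb E707 F16185)
theorem F20135 : act 2 n1853 = n2402 := (sb E708 F16103)
theorem F20136 : act 7 n1853 = n2323 := (sb E708 (iv D3316))
theorem F20137 : act 2 n1876 = n2405 := (sb E709 F16115)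
theorem F20138 : act 7 n1876 = n2325 := (sb E709 F16118)
theorem F20139 : act 2 n1877 = n2428 := (sb E710 F16223)
theorem F20140 : act 7 n1877 = n2340 := (sb E710 F16226)
theorem F20141 : act 2 n1852 = n2403 := (sb E711 F16107)
theorem F20142 : act 8 n1852 = n2323 := (sb E711 (iv D3317))
theorem F20143 : act 2 n1855 = n2426 := (sb E712 F16215)
theorem F20144 : act 2 n1878 = n2427 := (sb E713 F16219)
theorem E866 : n2300 = n349 := (((D349).symm.trans (sb E720 D2300))).symm
theorem E867 : n2350 = n660 := (((D660).symm.trans (sb E724 D2350))).symm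
theorem E868 : n2371 = n661 := (((D661).symm.trans (sb E725 D2371))).symm
theorem F20145 : act 2 n2167 = n2256 := (sb E729 F15527)
theorem F20146 : act 5 n2167 = n2255 := (sb E729 (iv D3206))
theorem E870 : n3072 = n2311 := (((iv F14868)).symm.trans (sb E730 F15540))
theorem F20147 : act 4 n2160 = n2256 := (sb E730 (iv D3208))
theorem E871 : n3070 = n2312 := (((iv F14858)).symm.trans (sb E731 F15545))
theorem F20148 : act 3 n2158 = n2259 := (sb E731 F15546)
theorem F20149 : act 6 n2158 = n2256 := (sb E731 (iv D3209))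
theorem F20150 : act 2 n3211 = n2989 := (sb E732 F19697)
theorem F20151 : act 4 n3211 = n2982 := (sb E732 (iv F19702))
theorem F20152 : act 6 n3211 = n2980 := (sb E732 F19699)
theorem F20153 : act 3 n3212 = n2980 := (sb E733 F19497)
theorem F20154 : act 5 n3212 = n2858 := (sb E733 (iv D4078))
theorem F20155 : act 7 n3212 = n2979 := (sb E733 F19499)
theorem E872 : n3069 = n2317 := (((iv F14854)).symm.trans (sb E735 F15571))
theorem F20156 : act 7 n2157 = n2259 := (sb E735 (iv D3214))
theorem F20157 : act 5 n3217 = n2989 := (sb E736 (iv F19642))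
theorem F20158 : act 6 n3217 = n2882 := (sb E736 F19640)
theorem F20159 : act 1 n2017 = n2321 := (sb E737 F15593)
theorem F20160 : act 6 n2017 = n2261 := (sb E737 (iv D3218))
theorem F20161 : act 6 n3219 = n2892 := (sb E738 F19706)
theorem F20162 : act 1 n1995 = n2323 := (sb E739 F15603)
theorem F20163 : act 1 n2027 = n2325 := (sb E740 F15613)
theorem F20164 : act 6 n2027 = n2263 := (sb E740 F15616)
theorem F20165 : act 6 n3223 = n2904 := (sb E741 F19768)
theorem F20166 : act 1 n2041 = n2328 := (sb E743 F15631)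
theorem F20167 : act 6 n2041 = n2266 := (sb E743 F15634)
theorem F20168 : act 1 n483 = n564 := (sb E745 F4122)
theorem E873 : n698 = n483 := ((D698).symm.trans (sb E745 (tr F4125 E745)))
theorem E879 : n2287 = n700 := (((D700).symm.trans (sb E749 D2287))).symm
theorem F20169 : act 1 n992 = n1152 := (sb E750 F8066)
theorem E880 : n2289 = n1426 := (((D1426).symm.trans (sb E750 D2289))).symm
theorem F20170 : act 5 n697 = n697 := (sb E751 (iv D1003))
theorem F20171 : act 6 n3226 = n2875 := (sb E754 (iv D4100))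
theorem F20172 : act 6 n2010 = n2267 := (sb E755 (iv D3227))
theorem F20173 : act 6 n3228 = n2883 := (sb E756 F19648)
theorem F20174 : act 1 n2018 = n2334 := (sb E757 F15661)
theorem F20175 : act 6 n2018 = n2269 := (sb E757 F15664)
theorem F20176 : act 6 n3232 = n2893 := (sb E758 F19711)
theorem F20177 : act 1 n2028 = n2340 := (sb E759 F15693)
theorem F20178 : act 6 n2028 = n2273 := (sb E759 F15696)
theorem F20179 : act 1 n2042 = n2343 := (sb E762 F15710)
theorem E886 : n2923 = n2042 := ((D2923).symm.trans (sb E762 (tr F15713 E762)))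
theorem F20180 : act 7 n3310 = n2673 := (sb E765 F18431)
theorem F20181 : act 1 n3312 = n2850 := (sb E766 F18306)
theorem F20182 : act 7 n3312 = n2651 := (sb E766 F18309)
theorem F20183 : act 8 n3312 = n2650 := (sb E766 (iv D3795))
theorem F20184 : act 1 n3314 = n2892 := (sb E767 F18464)
theorem F20185 : act 7 n3314 = n2681 := (sb E767 F18467)
theorem F20186 : act 1 n3303 = n2858 := (sb E768 F18336)
theorem F20187 : act 8 n3303 = n2656 := (sb E768 (iv D3803))
theorem F20188 : act 1 n3318 = n2860 := (sb E769 F18343)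
theorem F20189 : act 7 n3318 = n2659 := (sb E769 F18346)
theorem F20190 : act 1 n3320 = n2904 := (sb E770 F18507)
theorem F20191 : act 7 n3320 = n2691 := (sb E770 F18509)
theorem F20192 : act 2 n1887 = n2408 := (sb E771 F16130)
theorem F20193 : act 7 n1887 = n2328 := (sb E771 F16133)
theorem F20194 : act 1 n3323 = n2921 := (sb E772 F18563)
theorem F20195 : act 7 n3323 = n2705 := (sb E772 F18565)
theorem F20196 : act 2 n925 = n1188 := (sb E779 F8285)
theorem E892 : n1330 = n925 := ((D1330).symm.trans (sb E779 (tr F8286 E779)))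
theorem E893 : n2358 = n1331 := (((D1331).symm.trans (sb E779 D2358))).symm
theorem E894 : n2708 = n2360 := (((D2360).symm.trans (sb E780 D2708))).symm
theorem F20197 : act 2 n3325 = n2875 := (sb E786 F18400)
theorem F20198 : act 5 n3325 = n2669 := (sb E786 F18402)
theorem F20199 : act 7 n3325 = n2668 := (sb E786 (iv D3820))
theorem F20200 : act 5 n3329 = n2675 := (sb E787 F18434)
theorem F20201 : act 7 n3329 = n2674 := (sb E787 F18435)
theorem F20202 : act 1 n3336 = n2893 := (sb E788 F18468)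
theorem F20203 : act 7 n3336 = n2682 := (sb E788 F18471)
theorem F20204 : act 1 n3344 = n2905 := (sb E789 F18511)
theorem F20205 : act 7 n3344 = n2692 := (sb E789 F18512)
theorem F20206 : act 8 n3344 = n2693 := (sb E789 F18513)
theorem F20207 : act 2 n1888 = n2431 := (sb E790 F16234)
theorem F20208 : act 7 n1888 = n2343 := (sb E790 F16236)
theorem F20209 : act 1 n3347 = n2922 := (sb E791 F18568)
theorem F20210 : act 7 n3347 = n2706 := (sb E791 F18569)
theorem F20211 : act 3 n3425 = n2673 := (sb E793 F17664)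
theorem F20212 : act 8 n3429 = n2533 := (sb E794 (iv D3621))
theorem F20213 : act 2 n3435 = n2635 := (sb E796 F17490)
theorem F20214 : act 8 n3435 = n2524 := (sb E796 (iv D3605))
theorem F20215 : act 2 n3437 = n2659 := (sb E797 F17597)
theorem F20216 : act 7 n3430 = n2533 := (sb E798 (iv D3620))
theorem F20217 : act 2 n3414 = n2656 := (sb E799 F17583)
theorem F20218 : act 2 n3438 = n2658 := (sb E800 F17592)
theorem F20219 : act 7 n3438 = n2539 := (sb E800 F17595)
theorem F20220 : act 2 n3440 = n2691 := (sb E801 F17748)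
theorem F20221 : act 2 n3443 = n2705 := (sb E802 F17885)
theorem E900 : n1198 = n834 := ((D1198).symm.trans (sb E803 (tr F4632 E803)))
theorem E901 : n1200 = n836 := ((D1200).symm.trans (sb E804 (tr F4621 E804)))
theorem E906 : n2591 = n2440 := (((D2440).symm.trans (sb E810 D2591))).symm
theorem E907 : n2592 = n2441 := (((D2441).symm.trans (sb E810 D2592))).symm
theorem E910 : n2442 = n1705 := ((D2442).symm.trans (sb E812 (tr F9200 E812)))
theorem E911 : n2588 = n2443 := (((D2443).symm.trans (sb E813 D2588))).symm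
theorem F20222 : act 3 n3447 = n2669 := (sb E819 F17643)
theorem F20223 : act 7 n3447 = n2546 := (sb E819 (iv D3639))
theorem F20224 : act 3 n3452 = n2646 := (sb E820 F17543)
theorem F20225 : act 7 n3452 = n2531 := (sb E820 (iv D3616))
theorem F20226 : act 3 n3453 = n2675 := (sb E821 F17671)
theorem F20227 : act 7 n3453 = n2550 := (sb E821 F17674)
theorem F20228 : act 3 n3448 = n2668 := (sb E822 F17639)
theorem F20229 : act 5 n3448 = n2546 := (sb E822 (iv D3638))
theorem F20230 : act 3 n3454 = n2674 := (sb E823 F17667)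
theorem F20231 : act 5 n3454 = n2550 := (sb E823 F17668)
theorem F20232 : act 7 n3460 = n2535 := (sb E824 F17572)
theorem F20233 : act 7 n3461 = n2557 := (sb E825 F17717)
theorem F20234 : act 2 n3470 = n2661 := (sb E827 F17604)
theorem F20235 : act 7 n3470 = n2541 := (sb E827 F17607)
theorem F20236 : act 2 n3471 = n2693 := (sb E828 F17756)
theorem F20237 : act 7 n3471 = n2565 := (sb E828 F17757)
theorem F20238 : act 2 n3472 = n2692 := (sb E829 F17753)
theorem F20239 : act 8 n3472 = n2565 := (sb E829 F17754)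
theorem F20240 : act 2 n3476 = n2706 := (sb E830 F17889)
theorem F20241 : act 2 n3477 = n2707 := (sb E831 F17892)
theorem E913 : n2579 = n1223 := (((D1223).symm.trans (sb E832 D2579))).symm
theorem E915 : n1225 = n854 := ((D1225).symm.trans (sb E833 (tr F9139 E833)))
theorem E918 : n1618 = n484 := (((D484).symm.trans (sb E840 D1618))).symm
theorem E919 : n1616 = n486 := (((D486).symm.trans (sb E841 D1616))).symm
theorem E924 : n3292 = n994 := (((D994).symm.trans (sb E844 D3292))).symm
theorem F20242 : act 2 n2437 = n1858 := (sb E846 F12551)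
theorem E926 : n3634 = n3484 := (((D3484).symm.trans (sb E846 D3634))).symm
theorem F20243 : act 7 n2437 = n1778 := (sb E846 F12554)
theorem F20244 : act 2 n1199 = n914 := (sb E850 F6440)
theorem E932 : n1718 = n1199 := ((D1718).symm.trans (sb E850 (tr F6441 E850)))
theorem E933 : n1808 = n1719 := (((D1719).symm.trans (sb E850 D1808))).symm
theorem E934 : n3487 = n1810 := (((D1810).symm.trans (sb E851 D3487))).symm
theorem F20245 : act 7 n1262 = n1704 := (sb E851 F12028)
theorem F20246 : act 2 n2438 = n1881 := (sb E854 F12653)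
theorem E939 : n3671 = n3485 := (((D3485).symm.trans (sb E854 D3671))).symm
theorem E940 : n3672 = n3486 := (((D3486).symm.trans (sb E854 D3672))).symm
theorem F20247 : act 7 n2438 = n1793 := (sb E854 F12655)
theorem F20248 : act 2 n641 = n836 := (sb E855 F5952)
theorem E942 : n924 = n641 := ((D924).symm.trans (sb E855 (tr F5954 E855)))
theorem F20249 : act 2 n643 = n834 := (sb E856 F5942)
theorem E943 : n926 = n643 := ((D926).symm.trans (sb E856 (tr F5943 E856)))
theorem F20250 : act 2 n1316 = n1706 := (sb E859 F11649)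
theorem E948 : n3370 = n1890 := (((D1890).symm.trans (sb E859 D3370))).symm
theorem E949 : n3371 = n1891 := (((D1891).symm.trans (sb E859 D3371))).symm
theorem F20251 : act 7 n1316 = n1650 := (sb E859 F11651)
theorem E952 : n1892 = n1317 := ((D1892).symm.trans (sb E861 (tr F11769 E861)))
theorem F20252 : act 2 n1318 = n1704 := (sb E862 F11641)
theorem E953 : n3367 = n1893 := (((D1893).symm.trans (sb E862 D3367))).symm
theorem E954 : n3368 = n1894 := (((D1894).symm.trans (sb E862 D3368))).symm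
theorem E958 : n3279 = n504 := (((D504).symm.trans (sb E866 D3279))).symm
theorem E960 : n3358 = n949 := (((D949).symm.trans (sb E867 D3358))).symm
theorem E962 : n951 = n661 := ((D951).symm.trans (sb E868 (tr F11708 E868)))
theorem F20253 : act 1 n2311 = n2160 := (sb E870 F14868)
theorem E965 : n3295 = n2152 := ((D3295).symm.trans (sb E870 (iv D3072)))
theorem F20254 : act 1 n2312 = n2158 := (sb E871 F14858)
theorem E966 : n3297 = n2151 := ((D3297).symm.trans (sb E871 (iv D3070)))
theorem F20255 : act 1 n2317 = n2157 := (sb E872 F14854)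
theorem F20256 : act 5 n483 = n483 := (sb E873 (iv D698))
theorem E972 : n1007 = n700 := ((D1007).symm.trans (sb E879 (tr F11298 E879)))
theorem F20257 : act 1 n1426 = n1650 := (sb E880 F11310)
theorem E974 : n3261 = n2046 := (((D2046).symm.trans (sb E880 D3261))).symm
theorem E975 : n2047 = n1426 := ((D2047).symm.trans (sb E880 (tr F11313 E880)))
theorem E979 : n4167 = n2922 := (((D2922).symm.trans (sb E886 (iv F19892)))).symm
theorem F20258 : act 6 n2042 = n2042 := (sb E886 (iv D2923))
theorem E980 : n4168 = n1425 := (((F10090).symm.trans (sb E886 D4168))).symm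
theorem E981 : n4165 = n2921 := ((((iv F14173)).symm.trans (sb E886 (iv F19885)))).symm
theorem F20259 : act 4 n925 = n925 := (sb E892 (iv D1330))
theorem E990 : n1910 = n1331 := (((D1331).symm.trans (sb E892 D1910))).symm
theorem F20260 : act 2 n1331 = n1705 := (sb E893 F11644)
theorem E992 : n3874 = n3372 := (((D3372).symm.trans (sb E894 D3874))).symm
theorem F20261 : act 6 n834 = n834 := (sb E900 (iv D1198))
theorem F20262 : act 4 n836 = n836 := (sb E901 (iv D1200))
theorem E1006 : n3704 = n3489 := (((D3489).symm.trans (sb E906 D3704))).symm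
theorem E1007 : n3705 = n3490 := (((D3490).symm.trans (sb E906 D3705))).symm
theorem E1008 : n3491 = n2441 := ((D3491).symm.trans (sb E907 (tr F12770 E907)))
theorem F20263 : act 7 n1705 = n1705 := (sb E910 (iv D2442))
theorem E1012 : n3701 = n3492 := (((D3492).symm.trans (sb E911 D3701))).symm
theorem E1013 : n3702 = n3493 := (((D3493).symm.trans (sb E911 D3702))).symm
theorem E1015 : n1752 = n1223 := ((D1752).symm.trans (sb E913 (tr F12711 E913)))
theorem F20264 : act 3 n854 = n854 := (sb E915 (iv D1225))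
theorem E1022 : n699 = n484 := ((D699).symm.trans (sb E918 (tr F8146 E918)))
theorem E1023 : n701 = n486 := ((D701).symm.trans (sb E919 (tr F8133 E919)))
theorem E1025 : n1429 = n994 := ((D1429).symm.trans (sb E924 (tr F15993 E924)))
theorem F20265 : act 2 n3484 = n2664 := (sb E926 F17617)
theorem F20266 : act 7 n3484 = n2544 := (sb E926 F17619)
theorem F20267 : act 4 n1199 = n1199 := (sb E932 (iv D1718))
theorem E1030 : n2460 = n1719 := (((D1719).symm.trans (sb E932 D2460))).symm
theorem F20268 : act 2 n1719 = n1317 := (sb E933 F9075)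
theorem F20269 : act 5 n1810 = n2443 := (sb E934 F16892)
theorem F20270 : act 7 n1810 = n2440 := (sb E934 F16893)
theorem F20271 : act 2 n3485 = n2697 := (sb E939 F17770)
theorem F20272 : act 7 n3485 = n2568 := (sb E939 F17771)
theorem F20273 : act 2 n3486 = n2698 := (sb E940 F17774)
theorem F20274 : act 7 n3486 = n3486 := (sb E940 (tr F17777 E940))
theorem F20275 : act 6 n641 = n641 := (sb E942 (iv D924))
theorem F20276 : act 4 n643 = n643 := (sb E943 (iv D926))
theorem F20277 : act 2 n1890 = n2443 := (sb E948 F16344)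
theorem F20278 : act 7 n1890 = n2360 := (sb E948 F16345)
theorem F20279 : act 2 n1891 = n2444 := (sb E949 F16348)
theorem E1036 : n2712 = n1891 := ((D2712).symm.trans (sb E949 (tr F16351 E949)))
theorem F20280 : act 7 n1317 = n1317 := (sb E952 (iv D1892))
theorem F20281 : act 2 n1893 = n2440 := (sb E953 F16330)
theorem F20282 : act 5 n1893 = n2360 := (sb E953 F16331)
theorem F20283 : act 2 n1894 = n2441 := (sb E954 F16334)
theorem E1037 : n726 = n504 := ((D726).symm.trans (sb E958 (tr F15920 E958)))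
theorem E1038 : n1364 = n949 := ((D1364).symm.trans (sb E960 (tr F16292 E960)))
theorem F20284 : act 3 n661 = n661 := (sb E962 (iv D951))
theorem E1040 : n3064 = n2516 := (((iv F14826)).symm.trans (sb E965 F16007))
theorem F20285 : act 4 n2152 = n2312 := (sb E965 F16009)
theorem F20286 : act 6 n2152 = n2311 := (sb E965 (iv D3295))
theorem E1041 : n3063 = n2518 := (((iv F14820)).symm.trans (sb E966 F16016))
theorem F20287 : act 3 n2151 = n2317 := (sb E966 F16018)
theorem F20288 : act 7 n2151 = n2312 := (sb E966 (iv D3297))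
theorem F20289 : act 4 n700 = n700 := (sb E972 (iv D1007))
theorem E1050 : n1447 = n1008 := (((D1008).symm.trans (sb E972 D1447))).symm
theorem F20290 : act 1 n2046 = n2360 := (sb E974 F15824)
theorem E1051 : n2930 = n2046 := ((D2930).symm.trans (sb E974 (tr F15826 E974)))
theorem F20291 : act 6 n1426 = n1426 := (sb E975 (iv D2047))
theorem F20292 : act 6 n2922 = n2922 := (sb E979 (iv D4167))
theorem E1057 : n2928 = n2045 := (((D2045).symm.trans (sb E980 F19897))).symm
theorem F20293 : act 6 n2921 = n2921 := (sb E981 (iv D4165))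
theorem F20294 : act 4 n1331 = n1331 := (sb E990 F9494)
theorem E1063 : n2736 = n1894 := ((((iv F9428)).symm.trans (sb E990 D2736))).symm
theorem F20295 : act 1 n3372 = n2929 := (sb E992 F18592)
theorem F20296 : act 5 n3372 = n2713 := (sb E992 F18594)
theorem F20297 : act 7 n3372 = n2710 := (sb E992 F18595)
theorem F20298 : act 7 n3489 = n2593 := (sb E1006 F17918)
theorem F20299 : act 2 n3490 = n2714 := (sb E1007 F17921)
theorem F20300 : act 7 n3490 = n3490 := (sb E1007 (tr F17923 E1007))
theorem F20301 : act 7 n2441 = n2441 := (sb E1008 (iv D3491))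
theorem F20302 : act 5 n3492 = n2593 := (sb E1012 F17905)
theorem F20303 : act 2 n3493 = n2711 := (sb E1013 F17908)
theorem F20304 : act 5 n3493 = n3493 := (sb E1013 (tr F17910 E1013))
theorem F20305 : act 3 n1223 = n1223 := (sb E1015 (iv D1752))
theorem F20306 : act 6 n484 = n484 := (sb E1022 (iv D699))
theorem F20307 : act 4 n486 = n486 := (sb E1023 (iv D701))
theorem E1073 : n2050 = n1428 := ((((iv F7185)).symm.trans (sb E1025 (iv F10127)))).symm
theorem F20308 : act 7 n994 = n994 := (sb E1025 (iv D1429))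
theorem F20309 : act 4 n1719 = n1719 := (sb E1030 F12135)
theorem E1082 : n3879 = n2711 := ((((iv F13247)).symm.trans (sb E1036 (iv F18614)))).symm
theorem F20310 : act 7 n1891 = n1891 := (sb E1036 (iv D2712))
theorem E1083 : n3873 = n2707 := ((((iv F13233)).symm.trans (sb E1036 (iv F18591)))).symm
theorem E1084 : n1043 = n370 := (((F2671).symm.trans (sb E1037 D1043))).symm
theorem F20311 : act 3 n504 = n504 := (sb E1037 (iv D726))
theorem E1085 : n1041 = n724 := ((((iv F3765)).symm.trans (sb E1037 (iv F5314)))).symm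
theorem F20312 : act 3 n949 = n949 := (sb E1038 (iv D1364))
theorem F20313 : act 0 n2516 = n2152 := (sb E1040 F14826)
theorem E1089 : n3591 = n2148 := ((D3591).symm.trans (sb E1040 F14829))
theorem E1090 : n3592 = n2147 := ((D3592).symm.trans (sb E1040 (iv D3064)))
theorem F20314 : act 0 n2518 = n2151 := (sb E1041 F14820)
theorem F20315 : act 4 n1008 = n1008 := (sb E1050 F7280)
theorem E1096 : n2074 = n1431 := ((((iv F7201)).symm.trans (sb E1050 D2074))).symm
theorem E1097 : n4177 = n2929 := (((D2929).symm.trans (sb E1051 (iv F19937)))).symm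
theorem F20316 : act 6 n2046 = n2046 := (sb E1051 (iv D2930))
theorem E1100 : n4175 = n2927 := ((((iv F14197)).symm.trans (sb E1057 (iv F19928)))).symm
theorem F20317 : act 7 n2045 = n2045 := (sb E1057 (iv D2928))
theorem E1101 : n4171 = n2925 := ((((iv F14191)).symm.trans (sb E1057 (iv F19913)))).symm
theorem E1108 : n3882 = n2714 := ((((iv F13259)).symm.trans (sb E1063 (iv F18626)))).symm
theorem E1117 : n2934 = n2049 := ((((iv F10121)).symm.trans (sb E1073 (iv F14231)))).symm
theorem F20319 : act 7 n1428 = n1428 := (sb E1073 (iv D2050))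
theorem F20320 : act 7 n2711 = n2711 := (sb E1082 (iv D3879))
theorem F20321 : act 7 n2707 = n2707 := (sb E1083 (iv D3873))
theorem E1120 : n765 = n533 := (((D533).symm.trans (sb E1084 F5324))).symm
theorem F20322 : act 3 n724 = n724 := (sb E1085 (iv D1041))
theorem F20324 : act 5 n2148 = n2516 := (sb E1089 (iv D3591))
theorem F20325 : act 4 n2147 = n2518 := (sb E1090 F17436)
theorem F20326 : act 7 n2147 = n2516 := (sb E1090 (iv D3592))
theorem E1133 : n2937 = n2052 := ((((iv F10135)).symm.trans (sb E1096 (iv F14246)))).symm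
theorem F20327 : act 6 n2929 = n2929 := (sb E1097 (iv D4177))
theorem F20328 : act 7 n2927 = n2927 := (sb E1100 (iv D4175))
theorem F20329 : act 7 n2925 = n2925 := (sb E1101 (iv D4171))
theorem F20330 : act 5 n2714 = n2714 := (sb E1108 (iv D3882))
theorem E1136 : n4182 = n2933 := ((((iv F14225)).symm.trans (sb E1117 (iv F19961)))).symm
theorem F20332 : act 7 n2049 = n2049 := (sb E1117 (iv D2934))
theorem F20333 : act 2 n533 = n533 := (sb E1120 (iv D765))
theorem E1149 : n4185 = n2936 := ((((iv F14240)).symm.trans (sb E1133 (iv F19976)))).symm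
theorem F20336 : act 5 n2052 = n2052 := (sb E1133 (iv D2937))
theorem F20337 : act 7 n2933 = n2933 := (sb E1136 (iv D4182))
theorem F20341 : act 5 n2936 = n2936 := (sb E1149 (iv D4185))
theorem F20352 : act 5 n4184 = n4184 := d19_2 F20341 (iv F19970) F19970
theorem F20355 : act 6 n4176 = n4176 := d35_4 D4184 F20352 (iv D4184) (iv F19933) F19933
theorem F20356 : act 7 n4181 = n4181 := d39_4 (iv F19934) F20355 F19934 D4181 (iv D4181)
theorem F20358 : act 7 n3878 = n3878 := d14_2 F20337 (iv F18608) F18608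
theorem F20359 : act 7 n4173 = n4173 := d42_3 F19921 F20337 (iv F19921)
theorem F20360 : act 6 n4166 = n4166 := d39_3 F20359 (iv D4173) (iv F19888) F19888 D4173
theorem F20362 : act 7 n3870 = n3870 := d14_2 F20329 (iv F18577) F18577
theorem F20363 : act 7 n4170 = n4170 := d32_2 F20329 (iv F19905) F19905
theorem F20364 : act 6 n4164 = n4164 := d39_3 F20363 (iv D4170) (iv F19878) F19878 D4170
theorem F20365 : act 7 n3872 = n3872 := d14_2 F20328 (iv F18585) F18585
theorem F20366 : act 7 n4174 = n4174 := d36_2 F20328 D4174 (iv D4174)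
theorem F20367 : act 7 n3589 = n2969 := d27_2 F20326 (iv F17422) F14403
theorem F20368 : act 7 n3593 = n3065 := d43_3 (iv D3065) F20326 D3593
theorem F20369 : act 0 n3073 = n3593 := d6_3 F20368 F14831 (iv F14876)
theorem F20370 : act 4 n3065 = n3595 := d32_1 F20368 F17453 (iv F17441)
theorem F20371 : act 5 n3066 = n3593 := d36_3 F20368 F14834 (iv F14841)
theorem F20372 : act 0 n3595 = n3071 := d3_1 F20370 F14865 (iv F14831)
theorem F20373 : act 3 n3071 = n3307 := d2_2 (iv F17450) F20372 F16063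
theorem F20374 : act 7 n3071 = n3298 := d6_2 (iv F17453) F20372 F16022
theorem F20375 : act 1 n3298 = n3082 := d14_1 F20374 F14919 (iv F14863)
theorem F20376 : act 4 n3298 = n3073 := d32_1 F20374 F14876 (iv F14865)
theorem F20377 : act 6 n3073 = n3296 := d31_2 (iv F16026) F20376 F16013
theorem F20378 : act 1 n3296 = n3084 := d13_1 F20377 F14928 (iv F14873)
theorem F20379 : act 4 n3084 = n3210 := d11_2 (iv F16013) F20378 F15550
theorem F20380 : act 2 n3210 = n3094 := d18_1 F20379 F14975 (iv F14926)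
theorem F20381 : act 6 n3210 = n3082 := d31_2 (iv F14928) F20379 F14917
theorem F20382 : act 3 n3082 = n3215 := d26_1 F20381 F15580 (iv F15551)
theorem F20383 : act 7 n3215 = n3080 := d27_2 (iv F14919) F20382 F14907
theorem F20384 : act 1 n3080 = n3307 := d14_1 F20383 F16067 (iv F15577)
theorem F20385 : act 5 n3094 = n3207 := d19_2 (iv F15552) F20380 F15533
theorem F20386 : act 0 n2974 = n3589 := d6_3 F20367 F14401 D2974
theorem F20387 : act 4 n2969 = n3601 := d32_1 F20367 (iv D3601) (iv F17423)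
theorem F20388 : act 5 n2970 = n3589 := d36_3 F20367 (iv D2969) D2970
theorem F20389 : act 0 n3601 = n2973 := d3_1 F20387 (iv D2973) (iv F14401)
theorem F20390 : act 3 n2973 = n3304 := d2_2 (iv F17475) F20389 F16049
theorem F20391 : act 7 n2973 = n3301 := d6_2 D3601 F20389 F16038
theorem F20392 : act 1 n3301 = n2980 := d14_1 F20391 (iv D2980) (iv F14420)
theorem F20393 : act 4 n3301 = n2974 := d32_1 F20391 (iv D2974) D2973
theorem F20394 : act 6 n2974 = n3294 := d31_2 D3301 F20393 F16003
theorem F20395 : act 1 n3294 = n2982 := d13_1 F20394 (iv D2982) (iv F14423)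
theorem F20396 : act 1 n3304 = n2979 := d10_1 F20390 (iv D2979) (iv F14420)
def n4189 : Q := act 9 n2969
theorem D4189 : act 9 n2969 = n4189 := rfl
theorem F20397 : act 0 n4189 = n2975 := d8_1 D4189 (iv D2975) (iv F14401)
theorem F20398 : act 1 n4189 = n4189 := d16_1 D4189 (iv D4189) F14402
theorem F20399 : act 3 n4189 = n3065 := d29_1 D4189 (iv D3065) (iv F14403)
theorem F20400 : act 5 n4189 = n2971 := d38_1 D4189 (iv D2971) D2969
theorem F20401 : act 6 n4189 = n4189 := d41_1 D4189 (iv D4189) F14404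
def n4190 : Q := act 9 n2970
theorem D4190 : act 9 n2970 = n4190 := rfl
theorem F20402 : act 0 n4190 = n2976 := d8_1 D4190 (iv D2976) (iv F14406)
theorem F20403 : act 1 n4190 = n4190 := d16_1 D4190 (iv D4190) F14407
theorem F20404 : act 3 n4190 = n3066 := d29_1 D4190 (iv D3066) (iv F14408)
theorem F20405 : act 6 n4190 = n4190 := d41_1 D4190 (iv D4190) F14409
theorem F20406 : act 7 n4190 = n2971 := d43_1 D4190 (iv D2971) D2970
def n4191 : Q := act 8 n2971
theorem D4191 : act 8 n2971 = n4191 := rfl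
theorem F20407 : act 0 n4191 = n2977 := d7_1 D4191 (iv D2977) (iv F14411)
theorem F20408 : act 1 n4191 = n4191 := d15_1 D4191 (iv D4191) F14412
theorem F20409 : act 3 n4191 = n3067 := d28_1 D4191 (iv D3067) (iv F14413)
theorem F20410 : act 6 n4191 = n2972 := d40_1 D4191 (iv D2972) (iv F14414)
theorem F20411 : act 9 n4191 = n3013 := d44_2 D2971 D4191 (iv D3013) (iv D2108) (iv F10257)
def n4192 : Q := act 5 n2972
theorem D4192 : act 5 n2972 = n4192 := rfl
theorem F20412 : act 0 n4192 = n2978 := d4_1 D4192 (iv D2978) (iv F14415)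
theorem F20413 : act 1 n4192 = n4192 := d12_1 D4192 (iv D4192) F14416
theorem F20414 : act 3 n4192 = n3068 := d25_1 D4192 (iv D3068) (iv F14417)
theorem F20415 : act 7 n4192 = n4192 := d36_2 F14418 D4192 (iv D4192)
theorem F20416 : act 8 n4192 = n4192 := d37_2 D2972 D4192 (iv D4192) (iv D2972) F10261
theorem F20417 : act 9 n4192 = n3014 := d38_2 (iv F14419) D4192 (iv D3014)
def n4193 : Q := act 9 n2973
theorem D4193 : act 9 n2973 = n4193 := rfl
theorem F20418 : act 1 n4193 = n2981 := d16_1 D4193 (iv D2981) (iv F14420)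
theorem F20419 : act 4 n4193 = n2975 := d34_1 D4193 (iv D2975) D2973
theorem F20420 : act 6 n4193 = n4193 := d41_1 D4193 (iv D4193) F14421
def n4194 : Q := act 9 n2974
theorem D4194 : act 9 n2974 = n4194 := rfl
theorem F20421 : act 1 n4194 = n2983 := d16_1 D4194 (iv D2983) (iv F14423)
theorem F20422 : act 3 n4194 = n3073 := d29_1 D4194 (iv D3073) (iv F14424)
theorem F20423 : act 5 n4194 = n2976 := d38_1 D4194 (iv D2976) (iv F14425)
theorem F20424 : act 7 n4194 = n2975 := d43_1 D4194 (iv D2975) D2974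
def n4195 : Q := act 8 n2975
theorem D4195 : act 8 n2975 = n4195 := rfl
theorem F20425 : act 1 n4195 = n2984 := d15_1 D4195 (iv D2984) (iv F14427)
theorem F20426 : act 3 n4195 = n3074 := d28_1 D4195 (iv D3074) (iv F14428)
theorem F20427 : act 6 n4195 = n4195 := d40_1 D4195 (iv D4195) F14430
theorem F20428 : act 9 n4195 = n4195 := d44_2 D2975 D4195 (iv D4195) (iv D2975) F10266
def n4196 : Q := act 8 n2976
theorem D4196 : act 8 n2976 = n4196 := rfl
theorem F20429 : act 1 n4196 = n2985 := d15_1 D4196 (iv D2985) (iv F14431)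
theorem F20430 : act 3 n4196 = n3075 := d28_1 D4196 (iv D3075) (iv F14432)
theorem F20431 : act 6 n4196 = n4196 := d40_1 D4196 (iv D4196) F14433
theorem F20432 : act 7 n4196 = n2977 := d42_1 D4196 (iv D2977) (iv F14434)
theorem F20433 : act 9 n4196 = n3015 := d44_2 D2976 D4196 (iv D3015) (iv D2110) (iv F10270)
def n4197 : Q := act 5 n2977
theorem D4197 : act 5 n2977 = n4197 := rfl
theorem F20434 : act 1 n4197 = n2986 := d12_1 D4197 (iv D2986) (iv F14435)
theorem F20435 : act 3 n4197 = n3076 := d25_1 D4197 (iv D3076) (iv F14436)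
theorem F20436 : act 9 n4197 = n3016 := d38_2 (iv F14438) D4197 (iv D3016)
def n4198 : Q := act 4 n2978
theorem D4198 : act 4 n2978 = n4198 := rfl
theorem F20437 : act 1 n4198 = n2987 := d11_1 D4198 (iv D2987) (iv F14439)
theorem F20438 : act 7 n4198 = n4198 := d32_2 F14441 D4198 (iv D4198)
theorem F20439 : act 8 n4198 = n4198 := d33_2 F14442 D4198 (iv D4198)
theorem F20440 : act 9 n4198 = n3017 := d34_2 (iv F14443) D4198 (iv D3017)
def n4199 : Q := act 6 n2978
theorem D4199 : act 6 n2978 = n4199 := rfl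
theorem F20441 : act 1 n4199 = n2988 := d13_1 D4199 (iv D2988) (iv F14439)
theorem F20442 : act 3 n4199 = n3078 := d26_1 D4199 (iv D3078) (iv F14440)
def n4200 : Q := act 9 n2979
theorem D4200 : act 9 n2979 = n4200 := rfl
theorem F20445 : act 0 n4200 = n4200 := d8_1 D4200 (iv D4200) F14444
theorem F20446 : act 2 n4200 = n4200 := d23_1 D4200 (iv D4200) F14445
theorem F20447 : act 3 n4200 = n2981 := d29_1 D4200 (iv D2981) D2979
theorem F20448 : act 4 n4200 = n3080 := d34_1 D4200 (iv D3080) (iv F14446)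
theorem F20449 : act 6 n4200 = n4200 := d41_1 D4200 (iv D4200) F14447
def n4201 : Q := act 9 n2980
theorem D4201 : act 9 n2980 = n4201 := rfl
theorem F20450 : act 0 n4201 = n4201 := d8_1 D4201 (iv D4201) F14449
theorem F20451 : act 2 n4201 = n2990 := d23_1 D4201 (iv D2990) (iv F14450)
theorem F20452 : act 4 n4201 = n2983 := d34_1 D4201 (iv D2983) (iv F14451)
theorem F20453 : act 7 n4201 = n2981 := d43_1 D4201 (iv D2981) D2980
def n4202 : Q := act 8 n2981
theorem D4202 : act 8 n2981 = n4202 := rfl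
theorem F20454 : act 0 n4202 = n4202 := d7_1 D4202 (iv D4202) F14453
theorem F20455 : act 2 n4202 = n2991 := d22_1 D4202 (iv D2991) (iv F14454)
theorem F20456 : act 4 n4202 = n2984 := d33_1 D4202 (iv D2984) (iv F14455)
theorem F20457 : act 6 n4202 = n4202 := d40_1 D4202 (iv D4202) F14456
theorem F20458 : act 9 n4202 = n4202 := d44_2 D2981 D4202 (iv D4202) (iv D2981) F10281
def n4203 : Q := act 9 n2982
theorem D4203 : act 9 n2982 = n4203 := rfl
theorem F20459 : act 0 n4203 = n4203 := d8_1 D4203 (iv D4203) F14457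
theorem F20460 : act 2 n4203 = n2992 := d23_1 D4203 (iv D2992) (iv F14458)
theorem F20461 : act 3 n4203 = n3084 := d29_1 D4203 (iv D3084) (iv F14459)
theorem F20462 : act 5 n4203 = n4203 := d38_1 D4203 (iv D4203) F14460
theorem F20463 : act 6 n4203 = n2983 := d41_1 D4203 (iv D2983) D2982
theorem F20464 : act 7 n4203 = n4203 := d43_1 D4203 (iv D4203) F14461
def n4204 : Q := act 8 n2983
theorem D4204 : act 8 n2983 = n4204 := rfl
theorem F20465 : act 0 n4204 = n4204 := d7_1 D4204 (iv D4204) F14463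
theorem F20466 : act 2 n4204 = n2993 := d22_1 D4204 (iv D2993) (iv F14464)
theorem F20467 : act 3 n4204 = n3085 := d28_1 D4204 (iv D3085) (iv F14465)
theorem F20468 : act 7 n4204 = n2984 := d42_1 D4204 (iv D2984) (iv F14467)
theorem F20469 : act 9 n4204 = n4204 := d44_2 D2983 D4204 (iv D4204) (iv D2983) F10286
def n4205 : Q := act 5 n2984
theorem D4205 : act 5 n2984 = n4205 := rfl
theorem F20470 : act 0 n4205 = n4205 := d4_1 D4205 (iv D4205) F14468
theorem F20471 : act 2 n4205 = n2994 := d19_1 D4205 (iv D2994) (iv F14469)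
theorem F20472 : act 3 n4205 = n3086 := d25_1 D4205 (iv D3086) (iv F14470)
theorem F20473 : act 8 n4205 = n2986 := d37_2 D2984 D4205 (iv D2986) (iv D2086) (iv F10290)
theorem F20474 : act 9 n4205 = n4205 := d38_2 F14472 D4205 (iv D4205)
def n4206 : Q := act 5 n2985
theorem D4206 : act 5 n2985 = n4206 := rfl
theorem F20475 : act 0 n4206 = n4206 := d4_1 D4206 (iv D4206) F14473
theorem F20476 : act 2 n4206 = n2995 := d19_1 D4206 (iv D2995) (iv F14474)
theorem F20477 : act 3 n4206 = n3087 := d25_1 D4206 (iv D3087) (iv F14475)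
theorem F20478 : act 7 n4206 = n2986 := d36_2 (iv F14477) D4206 (iv D2986)
theorem F20479 : act 9 n4206 = n3019 := d38_2 (iv F14478) D4206 (iv D3019)
def n4207 : Q := act 4 n2986
theorem D4207 : act 4 n2986 = n4207 := rfl
theorem F20480 : act 0 n4207 = n4207 := d3_1 D4207 (iv D4207) F14479
theorem F20481 : act 2 n4207 = n2996 := d18_1 D4207 (iv D2996) (iv F14480)
theorem F20482 : act 9 n4207 = n3020 := d34_2 (iv F14482) D4207 (iv D3020)
def n4208 : Q := act 6 n2986
theorem D4208 : act 6 n2986 = n4208 := rfl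
theorem F20483 : act 0 n4208 = n4208 := d5_1 D4208 (iv D4208) F14479
theorem F20484 : act 2 n4208 = n2997 := d20_1 D4208 (iv D2997) (iv F14480)
theorem F20485 : act 3 n4208 = n3089 := d26_1 D4208 (iv D3089) (iv F14481)
theorem F20486 : act 5 n4208 = n2988 := d35_1 D4208 (iv D2988) (iv D2087) (iv F10300) D2986
theorem F20487 : act 9 n4208 = n3021 := d41_2 (iv F14482) D4208 (iv D3021)
def n4209 : Q := act 3 n2987
theorem D4209 : act 3 n2987 = n4209 := rfl
theorem F20490 : act 4 n4209 = n3090 := d24_2 D2987 D4209 (iv D3090) (iv D2165) (iv F10304)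
def n4210 : Q := act 6 n2987
theorem D4210 : act 6 n2987 = n4210 := rfl
theorem F20495 : act 2 n4210 = n2998 := d20_1 D4210 (iv D2998) (iv F14484)
theorem F20496 : act 4 n4210 = n2988 := d31_1 D4210 (iv D2988) D2987
def n4211 : Q := act 7 n2988
theorem D4211 : act 7 n2988 = n4211 := rfl
theorem F20500 : act 2 n4211 = n2999 := d21_1 D4211 (iv D2999) (iv F14489)
theorem F20501 : act 3 n4211 = n3092 := d27_1 D4211 (iv D3092) (iv F14490)
def n4212 : Q := act 9 n2989
theorem D4212 : act 9 n2989 = n4212 := rfl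
theorem F20505 : act 0 n4212 = n4212 := d8_1 D4212 (iv D4212) F14493
theorem F20506 : act 3 n4212 = n4212 := d29_1 D4212 (iv D4212) F14494
theorem F20507 : act 4 n4212 = n2992 := d34_1 D4212 (iv D2992) (iv F14495)
theorem F20508 : act 6 n4212 = n2990 := d41_1 D4212 (iv D2990) D2989
theorem F20509 : act 7 n4212 = n4212 := d43_1 D4212 (iv D4212) F14496
def n4213 : Q := act 8 n2990
theorem D4213 : act 8 n2990 = n4213 := rfl
theorem F20510 : act 0 n4213 = n4213 := d7_1 D4213 (iv D4213) F14498
theorem F20511 : act 3 n4213 = n4213 := d28_1 D4213 (iv D4213) F14499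
theorem F20512 : act 4 n4213 = n2993 := d33_1 D4213 (iv D2993) (iv F14500)
theorem F20513 : act 7 n4213 = n2991 := d42_1 D4213 (iv D2991) (iv F14501)
theorem F20514 : act 9 n4213 = n4213 := d44_2 D2990 D4213 (iv D4213) (iv D2990) F10311
def n4214 : Q := act 5 n2991
theorem D4214 : act 5 n2991 = n4214 := rfl
theorem F20515 : act 0 n4214 = n4214 := d4_1 D4214 (iv D4214) F14502
theorem F20516 : act 3 n4214 = n4214 := d25_1 D4214 (iv D4214) F14503
theorem F20517 : act 9 n4214 = n4214 := d38_2 F14506 D4214 (iv D4214)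
def n4215 : Q := act 8 n2992
theorem D4215 : act 8 n2992 = n4215 := rfl
theorem F20518 : act 0 n4215 = n4215 := d7_1 D4215 (iv D4215) F14507
theorem F20519 : act 3 n4215 = n3000 := d28_1 D4215 (iv D3000) (iv F14508)
theorem F20520 : act 6 n4215 = n2993 := d40_1 D4215 (iv D2993) (iv F14510)
theorem F20521 : act 7 n4215 = n4215 := d42_1 D4215 (iv D4215) F14511
theorem F20522 : act 9 n4215 = n4215 := d44_2 D2992 D4215 (iv D4215) (iv D2992) F10320
def n4216 : Q := act 5 n2993
theorem D4216 : act 5 n2993 = n4216 := rfl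
theorem F20523 : act 0 n4216 = n4216 := d4_1 D4216 (iv D4216) F14512
theorem F20524 : act 3 n4216 = n3001 := d25_1 D4216 (iv D3001) (iv F14513)
theorem F20525 : act 7 n4216 = n2994 := d36_2 (iv F14514) D4216 (iv D2994)
theorem F20526 : act 8 n4216 = n2995 := d37_2 D2993 D4216 (iv D2995) (iv D2093) (iv F10323)
theorem F20527 : act 9 n4216 = n4216 := d38_2 F14515 D4216 (iv D4216)
def n4217 : Q := act 4 n2994
theorem D4217 : act 4 n2994 = n4217 := rfl
theorem F20528 : act 0 n4217 = n4217 := d3_1 D4217 (iv D4217) F14516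
theorem F20529 : act 8 n4217 = n2996 := d33_2 (iv F14518) D4217 (iv D2996)
theorem F20530 : act 9 n4217 = n4217 := d34_2 F14519 D4217 (iv D4217)
def n4218 : Q := act 6 n2994
theorem D4218 : act 6 n2994 = n4218 := rfl
theorem F20531 : act 0 n4218 = n4218 := d5_1 D4218 (iv D4218) F14516
theorem F20532 : act 3 n4218 = n3003 := d26_1 D4218 (iv D3003) (iv F14517)
theorem F20533 : act 5 n4218 = n4218 := d35_1 D4218 (iv D4218) (iv D2994) F10327 D2994
theorem F20534 : act 8 n4218 = n2997 := d40_2 (iv F14518) D4218 (iv D2997)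
theorem F20535 : act 9 n4218 = n4218 := d41_2 F14519 D4218 (iv D4218)
def n4219 : Q := act 4 n2995
theorem D4219 : act 4 n2995 = n4219 := rfl
theorem F20536 : act 0 n4219 = n4219 := d3_1 D4219 (iv D4219) F14520
theorem F20537 : act 7 n4219 = n2996 := d32_2 (iv F14522) D4219 (iv D2996)
theorem F20538 : act 9 n4219 = n3025 := d34_2 (iv F14523) D4219 (iv D3025)
def n4220 : Q := act 6 n2995
theorem D4220 : act 6 n2995 = n4220 := rfl
theorem F20539 : act 0 n4220 = n4220 := d5_1 D4220 (iv D4220) F14520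
theorem F20540 : act 3 n4220 = n3005 := d26_1 D4220 (iv D3005) (iv F14521)
theorem F20541 : act 5 n4220 = n4220 := d35_1 D4220 (iv D4220) (iv D2995) F10331 D2995
theorem F20542 : act 9 n4220 = n3026 := d41_2 (iv F14523) D4220 (iv D3026)
def n4221 : Q := act 3 n2996
theorem D4221 : act 3 n2996 = n4221 := rfl
theorem F20543 : act 0 n4221 = n4221 := d2_1 D4221 (iv D4221) F14524
theorem F20544 : act 4 n4221 = n3006 := d24_2 D2996 D4221 (iv D3006) (iv D2101) (iv F10335)
theorem F20545 : act 9 n4221 = n3027 := d29_2 (iv F14525) D4221 (iv D3027)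
def n4222 : Q := act 6 n2996
theorem D4222 : act 6 n2996 = n4222 := rfl
theorem F20546 : act 0 n4222 = n4222 := d5_1 D4222 (iv D4222) F14524
theorem F20547 : act 4 n4222 = n2997 := d31_1 D4222 (iv D2997) D2996
theorem F20548 : act 9 n4222 = n3028 := d41_2 (iv F14525) D4222 (iv D3028)
def n4223 : Q := act 7 n2997
theorem D4223 : act 7 n2997 = n4223 := rfl
theorem F20549 : act 0 n4223 = n4223 := d6_1 D4223 (iv D4223) F14526
theorem F20550 : act 3 n4223 = n3008 := d27_1 D4223 (iv D3008) (iv F14527)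
theorem F20551 : act 5 n4223 = n2999 := d36_1 D4223 (iv D2999) (iv F14528)
theorem F20552 : act 9 n4223 = n3029 := d43_2 (iv F14529) D4223 (iv D3029)
def n4224 : Q := act 5 n2998
theorem D4224 : act 5 n2998 = n4224 := rfl
theorem F20553 : act 0 n4224 = n4224 := d4_1 D4224 (iv D4224) F14530
theorem F20554 : act 3 n4224 = n4224 := d25_1 D4224 (iv D4224) F14531
theorem F20555 : act 9 n4224 = n3030 := d38_2 (iv F14534) D4224 (iv D3030)
def n4225 : Q := act 7 n2998
theorem D4225 : act 7 n2998 = n4225 := rfl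
theorem F20558 : act 4 n4225 = n2999 := d32_1 D4225 (iv D2999) (iv F14532)
def n4226 : Q := act 5 n3000
theorem D4226 : act 5 n3000 = n4226 := rfl
theorem F20562 : act 0 n4226 = n4226 := d4_1 D4226 (iv D4226) F14540
theorem F20563 : act 2 n4226 = n3108 := d19_1 D4226 (iv D3108) (iv F14541)
theorem F20564 : act 7 n4226 = n4226 := d36_2 F14544 D4226 (iv D4226)
theorem F20565 : act 8 n4226 = n4226 := d37_2 D3000 D4226 (iv D4226) (iv D3000) F10349
theorem F20566 : act 9 n4226 = n4226 := d38_2 F14545 D4226 (iv D4226)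
def n4227 : Q := act 4 n3001
theorem D4227 : act 4 n3001 = n4227 := rfl
theorem F20567 : act 0 n4227 = n4227 := d3_1 D4227 (iv D4227) F14546
theorem F20569 : act 5 n4227 = n4227 := d30_2 D3001 D4227 (iv D4227) (iv D3001) F10354
theorem F20570 : act 7 n4227 = n3002 := d32_2 (iv F14548) D4227 (iv D3002)
theorem F20571 : act 8 n4227 = n3004 := d33_2 (iv F14549) D4227 (iv D3004)
theorem F20572 : act 9 n4227 = n4227 := d34_2 F14550 D4227 (iv D4227)
def n4228 : Q := act 6 n3001
theorem D4228 : act 6 n3001 = n4228 := rfl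
theorem F20573 : act 0 n4228 = n4228 := d5_1 D4228 (iv D4228) F14546
theorem F20574 : act 2 n4228 = n3110 := d20_1 D4228 (iv D3110) (iv F14547)
theorem F20575 : act 8 n4228 = n3005 := d40_2 (iv F14549) D4228 (iv D3005)
theorem F20576 : act 9 n4228 = n4228 := d41_2 F14550 D4228 (iv D4228)
def n4229 : Q := act 3 n3002
theorem D4229 : act 3 n3002 = n4229 := rfl
theorem F20577 : act 0 n4229 = n4229 := d2_1 D4229 (iv D4229) F14551
theorem F20578 : act 5 n4229 = n4229 := d25_2 F14553 D4229 (iv D4229)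
theorem F20579 : act 8 n4229 = n3006 := d28_2 (iv F14554) D4229 (iv D3006)
theorem F20580 : act 9 n4229 = n4229 := d29_2 F14555 D4229 (iv D4229)
def n4230 : Q := act 6 n3002
theorem D4230 : act 6 n3002 = n4230 := rfl
theorem F20581 : act 0 n4230 = n4230 := d5_1 D4230 (iv D4230) F14551
theorem F20582 : act 2 n4230 = n3112 := d20_1 D4230 (iv D3112) (iv F14552)
theorem F20583 : act 4 n4230 = n3003 := d31_1 D4230 (iv D3003) D3002
theorem F20584 : act 8 n4230 = n3007 := d40_2 (iv F14554) D4230 (iv D3007)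
theorem F20585 : act 9 n4230 = n4230 := d41_2 F14555 D4230 (iv D4230)
def n4231 : Q := act 7 n3003
theorem D4231 : act 7 n3003 = n4231 := rfl
theorem F20586 : act 0 n4231 = n4231 := d6_1 D4231 (iv D4231) F14556
theorem F20587 : act 2 n4231 = n3113 := d21_1 D4231 (iv D3113) (iv F14557)
theorem F20588 : act 5 n4231 = n4231 := d36_1 D4231 (iv D4231) F14558
theorem F20589 : act 8 n4231 = n3008 := d42_2 (iv F14559) D4231 (iv D3008)
theorem F20590 : act 9 n4231 = n4231 := d43_2 F14560 D4231 (iv D4231)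
def n4232 : Q := act 3 n3004
theorem D4232 : act 3 n3004 = n4232 := rfl
theorem F20592 : act 5 n4232 = n3009 := d25_2 (iv F14563) D4232 (iv D3009)
theorem F20593 : act 7 n4232 = n3006 := d27_2 (iv F14564) D4232 (iv D3006)
theorem F20594 : act 9 n4232 = n3032 := d29_2 (iv F14565) D4232 (iv D3032)
def n4233 : Q := act 6 n3004
theorem D4233 : act 6 n3004 = n4233 := rfl
theorem F20597 : act 4 n4233 = n3005 := d31_1 D4233 (iv D3005) D3004
def n4234 : Q := act 7 n3005
theorem D4234 : act 7 n3005 = n4234 := rfl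
theorem F20599 : act 0 n4234 = n4234 := d6_1 D4234 (iv D4234) F14566
theorem F20600 : act 2 n4234 = n3116 := d21_1 D4234 (iv D3116) (iv F14567)
theorem F20601 : act 5 n4234 = n4234 := d36_1 D4234 (iv D4234) F14568
theorem F20602 : act 6 n4234 = n3008 := d39_1 D4234 (iv D3008) (iv D2102) (iv F10363) D3005
theorem F20603 : act 9 n4234 = n3034 := d43_2 (iv F14569) D4234 (iv D3034)
def n4235 : Q := act 2 n3006
theorem D4235 : act 2 n3006 = n4235 := rfl
def n4236 : Q := act 6 n3006
theorem D4236 : act 6 n3006 = n4236 := rfl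
theorem F20608 : act 0 n4236 = n4236 := d5_1 D4236 (iv D4236) F14570
theorem F20609 : act 3 n4236 = n3007 := d26_1 D4236 (iv D3007) D3006
theorem F20610 : act 5 n4236 = n4236 := d35_1 D4236 (iv D4236) F14571 F10391 (iv F14571)
theorem F20611 : act 9 n4236 = n3036 := d41_2 (iv F14572) D4236 (iv D3036)
def n4237 : Q := act 7 n3007
theorem D4237 : act 7 n3007 = n4237 := rfl
theorem F20612 : act 0 n4237 = n4237 := d6_1 D4237 (iv D4237) F14573
theorem F20613 : act 2 n4237 = n3119 := d21_1 D4237 (iv D3119) (iv F14574)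
theorem F20614 : act 4 n4237 = n3008 := d32_1 D4237 (iv D3008) (iv F14575)
theorem F20615 : act 5 n4237 = n4237 := d36_1 D4237 (iv D4237) F14576
theorem F20616 : act 9 n4237 = n3037 := d43_2 (iv F14577) D4237 (iv D3037)
def n4238 : Q := act 2 n3009
theorem D4238 : act 2 n3009 = n4238 := rfl
theorem F20618 : act 3 n4238 = n3120 := d17_2 D3009 D4238 (iv D3120) (iv D2187) (iv F10380)
theorem F20619 : act 7 n4238 = n3011 := d21_2 (iv F14583) D4238 (iv D3011)
def n4239 : Q := act 6 n3009
theorem D4239 : act 6 n3009 = n4239 := rfl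
theorem F20623 : act 3 n4239 = n3010 := d26_1 D4239 (iv D3010) D3009
def n4240 : Q := act 5 n3010
theorem D4240 : act 5 n3010 = n4240 := rfl
theorem F20628 : act 2 n4240 = n3122 := d19_1 D4240 (iv D3122) (iv F14587)
def n4242 : Q := act 8 n3012
theorem D4242 : act 8 n3012 = n4242 := rfl
theorem F20636 : act 0 n4242 = n3015 := d7_1 D4242 (iv D3015) (iv F14597)
theorem F20637 : act 1 n4242 = n4242 := d15_1 D4242 (iv D4242) F14598
theorem F20638 : act 3 n4242 = n3124 := d28_1 D4242 (iv D3124) (iv F14599)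
theorem F20639 : act 6 n4242 = n4242 := d40_1 D4242 (iv D4242) F14601
theorem F20640 : act 7 n4242 = n3013 := d42_1 D4242 (iv D3013) (iv F14602)
def n4243 : Q := act 5 n3013
theorem D4243 : act 5 n3013 = n4243 := rfl
theorem F20641 : act 0 n4243 = n3016 := d4_1 D4243 (iv D3016) (iv F14603)
theorem F20642 : act 1 n4243 = n4243 := d12_1 D4243 (iv D4243) F14604
theorem F20643 : act 3 n4243 = n3125 := d25_1 D4243 (iv D3125) (iv F14605)
theorem F20644 : act 8 n4243 = n4243 := d37_2 D3013 D4243 (iv D4243) (iv D3013) F10402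
def n4244 : Q := act 4 n3014
theorem D4244 : act 4 n3014 = n4244 := rfl
theorem F20645 : act 0 n4244 = n3017 := d3_1 D4244 (iv D3017) (iv F14607)
theorem F20646 : act 1 n4244 = n4244 := d11_1 D4244 (iv D4244) F14608
theorem F20647 : act 7 n4244 = n4244 := d32_2 F14610 D4244 (iv D4244)
theorem F20648 : act 8 n4244 = n3053 := d33_2 (iv F14611) D4244 (iv D3053)
def n4245 : Q := act 6 n3014
theorem D4245 : act 6 n3014 = n4245 := rfl
theorem F20649 : act 0 n4245 = n3018 := d5_1 D4245 (iv D3018) (iv F14607)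
theorem F20651 : act 3 n4245 = n3127 := d26_1 D4245 (iv D3127) (iv F14609)
def n4246 : Q := act 5 n3015
theorem D4246 : act 5 n3015 = n4246 := rfl
theorem F20653 : act 1 n4246 = n3019 := d12_1 D4246 (iv D3019) (iv F14612)
theorem F20654 : act 3 n4246 = n3128 := d25_1 D4246 (iv D3128) (iv F14613)
theorem F20655 : act 7 n4246 = n3016 := d36_2 (iv F14615) D4246 (iv D3016)
theorem F20656 : act 8 n4246 = n4246 := d37_2 D3015 D4246 (iv D4246) (iv D3015) F10410
def n4247 : Q := act 4 n3016
theorem D4247 : act 4 n3016 = n4247 := rfl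
theorem F20657 : act 1 n4247 = n3020 := d11_1 D4247 (iv D3020) (iv F14616)
theorem F20658 : act 8 n4247 = n4247 := d33_2 F14618 D4247 (iv D4247)
def n4248 : Q := act 6 n3016
theorem D4248 : act 6 n3016 = n4248 := rfl
theorem F20659 : act 1 n4248 = n3021 := d13_1 D4248 (iv D3021) (iv F14616)
theorem F20660 : act 3 n4248 = n3130 := d26_1 D4248 (iv D3130) (iv F14617)
def n4249 : Q := act 3 n3017
theorem D4249 : act 3 n3017 = n4249 := rfl
theorem F20663 : act 1 n4249 = n3022 := d10_1 D4249 (iv D3022) (iv F14619)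
theorem F20664 : act 4 n4249 = n3131 := d24_2 D3017 D4249 (iv D3131) (iv D2195) (iv F10417)
theorem F20666 : act 8 n4249 = n3055 := d28_2 (iv F14621) D4249 (iv D3055)
def n4250 : Q := act 6 n3017
theorem D4250 : act 6 n3017 = n4250 := rfl
theorem F20667 : act 1 n4250 = n3023 := d13_1 D4250 (iv D3023) (iv F14619)
def n4251 : Q := act 7 n3018
theorem D4251 : act 7 n3018 = n4251 := rfl
theorem F20671 : act 3 n4251 = n3133 := d27_1 D4251 (iv D3133) (iv F14623)
def n4252 : Q := act 4 n3019
theorem D4252 : act 4 n3019 = n4252 := rfl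
theorem F20674 : act 0 n4252 = n4252 := d3_1 D4252 (iv D4252) F14625
theorem F20675 : act 2 n4252 = n3025 := d18_1 D4252 (iv D3025) (iv F14626)
theorem F20676 : act 7 n4252 = n3020 := d32_2 (iv F14628) D4252 (iv D3020)
theorem F20677 : act 8 n4252 = n4252 := d33_2 F14629 D4252 (iv D4252)
def n4253 : Q := act 6 n3019
theorem D4253 : act 6 n3019 = n4253 := rfl
theorem F20678 : act 0 n4253 = n4253 := d5_1 D4253 (iv D4253) F14625
theorem F20679 : act 2 n4253 = n3026 := d20_1 D4253 (iv D3026) (iv F14626)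
theorem F20680 : act 3 n4253 = n3135 := d26_1 D4253 (iv D3135) (iv F14627)
theorem F20681 : act 5 n4253 = n4253 := d35_1 D4253 (iv D4253) (iv D3019) F10423 D3019
theorem F20682 : act 8 n4253 = n4253 := d40_2 F14629 D4253 (iv D4253)
def n4254 : Q := act 3 n3020
theorem D4254 : act 3 n3020 = n4254 := rfl
theorem F20683 : act 0 n4254 = n4254 := d2_1 D4254 (iv D4254) F14630
theorem F20684 : act 4 n4254 = n3136 := d24_2 D3020 D4254 (iv D3136) (iv D2198) (iv F10427)
theorem F20685 : act 8 n4254 = n4254 := d28_2 F14632 D4254 (iv D4254)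
def n4255 : Q := act 6 n3020
theorem D4255 : act 6 n3020 = n4255 := rfl
theorem F20686 : act 0 n4255 = n4255 := d5_1 D4255 (iv D4255) F14630
theorem F20687 : act 2 n4255 = n3028 := d20_1 D4255 (iv D3028) (iv F14631)
theorem F20688 : act 4 n4255 = n3021 := d31_1 D4255 (iv D3021) D3020
theorem F20689 : act 8 n4255 = n4255 := d40_2 F14632 D4255 (iv D4255)
def n4256 : Q := act 7 n3021
theorem D4256 : act 7 n3021 = n4256 := rfl
theorem F20691 : act 2 n4256 = n3029 := d21_1 D4256 (iv D3029) (iv F14634)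
theorem F20692 : act 3 n4256 = n3138 := d27_1 D4256 (iv D3138) (iv F14635)
def n4257 : Q := act 6 n3022
theorem D4257 : act 6 n3022 = n4257 := rfl
theorem F20697 : act 3 n4257 = n3023 := d26_1 D4257 (iv D3023) D3022
theorem F20698 : act 4 n4257 = n3139 := d31_1 D4257 (iv D3139) (iv F14640)
def n4258 : Q := act 5 n3023
theorem D4258 : act 5 n3023 = n4258 := rfl
theorem F20701 : act 2 n4258 = n3030 := d19_1 D4258 (iv D3030) (iv F14644)
def n4259 : Q := act 7 n3023
theorem D4259 : act 7 n3023 = n4259 := rfl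
theorem F20703 : act 2 n4259 = n3031 := d21_1 D4259 (iv D3031) (iv F14644)
def n4260 : Q := act 3 n3025
theorem D4260 : act 3 n3025 = n4260 := rfl
theorem F20708 : act 4 n4260 = n3032 := d24_2 D3025 D4260 (iv D3032) (iv D2122) (iv F10438)
theorem F20709 : act 7 n4260 = n3027 := d27_2 (iv F14653) D4260 (iv D3027)
def n4261 : Q := act 6 n3025
theorem D4261 : act 6 n3025 = n4261 := rfl
theorem F20712 : act 4 n4261 = n3026 := d31_1 D4261 (iv D3026) D3025
def n4262 : Q := act 7 n3026
theorem D4262 : act 7 n3026 = n4262 := rfl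
theorem F20714 : act 0 n4262 = n4262 := d6_1 D4262 (iv D4262) F14655
theorem F20715 : act 3 n4262 = n3034 := d27_1 D4262 (iv D3034) (iv F14656)
theorem F20716 : act 5 n4262 = n4262 := d36_1 D4262 (iv D4262) F14657
theorem F20717 : act 6 n4262 = n3029 := d39_1 D4262 (iv D3029) (iv D2119) (iv F10439) D3026
theorem F20718 : act 8 n4262 = n4262 := d42_2 F14658 D4262 (iv D4262)
def n4263 : Q := act 2 n3027
theorem D4263 : act 2 n3027 = n4263 := rfl
theorem F20719 : act 0 n4263 = n4263 := d1_1 D4263 (iv D4263) F14659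
theorem F20720 : act 4 n4263 = n3035 := d18_2 (iv F14660) D4263 (iv D3035)
theorem F20721 : act 8 n4263 = n4263 := d22_2 F14661 D4263 (iv D4263)
def n4264 : Q := act 6 n3027
theorem D4264 : act 6 n3027 = n4264 := rfl
theorem F20722 : act 0 n4264 = n4264 := d5_1 D4264 (iv D4264) F14659
theorem F20723 : act 3 n4264 = n3028 := d26_1 D4264 (iv D3028) D3027
theorem F20724 : act 4 n4264 = n3036 := d31_1 D4264 (iv D3036) (iv F14660)
theorem F20725 : act 8 n4264 = n4264 := d40_2 F14661 D4264 (iv D4264)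
def n4265 : Q := act 5 n3028
theorem D4265 : act 5 n3028 = n4265 := rfl
theorem F20726 : act 0 n4265 = n4265 := d4_1 D4265 (iv D4265) F14662
theorem F20727 : act 4 n4265 = n3030 := d30_1 D4265 (iv D3030) F10449 (iv F10445) (iv F14663)
def n4266 : Q := act 7 n3028
theorem D4266 : act 7 n3028 = n4266 := rfl
theorem F20729 : act 4 n4266 = n3029 := d32_1 D4266 (iv D3029) (iv F14663)
def n4267 : Q := act 7 n3030
theorem D4267 : act 7 n3030 = n4267 := rfl
def n4268 : Q := act 8 n3030
theorem D4268 : act 8 n3030 = n4268 := rfl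
theorem F20734 : act 0 n4268 = n4268 := d7_1 D4268 (iv D4268) F14669
theorem F20735 : act 3 n4268 = n4268 := d28_1 D4268 (iv D4268) F14670
theorem F20736 : act 5 n4268 = n3062 := d37_1 D4268 (iv D3062) (iv D2145) (iv F10450) D3030
def n4269 : Q := act 2 n3032
theorem D4269 : act 2 n3032 = n4269 := rfl
theorem F20738 : act 3 n4269 = n3151 := d17_2 D3032 D4269 (iv D3151) (iv D2210) (iv F10456)
theorem F20739 : act 5 n4269 = n3038 := d19_2 (iv F14677) D4269 (iv D3038)
theorem F20740 : act 7 n4269 = n3035 := d21_2 (iv F14678) D4269 (iv D3035)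
def n4270 : Q := act 6 n3032
theorem D4270 : act 6 n3032 = n4270 := rfl
theorem F20743 : act 3 n4270 = n3033 := d26_1 D4270 (iv D3033) D3032
def n4271 : Q := act 5 n3033
theorem D4271 : act 5 n3033 = n4271 := rfl
theorem F20746 : act 2 n4271 = n3153 := d19_1 D4271 (iv D3153) (iv F14681)
theorem F20748 : act 6 n4271 = n3040 := d35_2 D3033 D4271 (iv D3040) (iv D2128) (iv F10457)
def n4272 : Q := act 7 n3033
theorem D4272 : act 7 n3033 = n4272 := rfl
theorem F20751 : act 4 n4272 = n3034 := d32_1 D4272 (iv D3034) (iv F14682)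
def n4273 : Q := act 1 n3035
theorem D4273 : act 1 n3035 = n4273 := rfl
def n4274 : Q := act 6 n3035
theorem D4274 : act 6 n3035 = n4274 := rfl
def n4275 : Q := act 7 n3036
theorem D4275 : act 7 n3036 = n4275 := rfl
def n4276 : Q := act 1 n3038
theorem D4276 : act 1 n3038 = n4276 := rfl
theorem F20766 : act 3 n4276 = n3158 := d10_2 (iv F14703) D4276 (iv D3158)
def n4277 : Q := act 6 n3038
theorem D4277 : act 6 n3038 = n4277 := rfl
theorem F20770 : act 2 n4277 = n3039 := d20_1 D4277 (iv D3039) D3038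
theorem F20771 : act 3 n4277 = n3159 := d26_1 D4277 (iv D3159) (iv F14703)
def n4278 : Q := act 5 n3039
theorem D4278 : act 5 n3039 = n4278 := rfl
def n4279 : Q := act 8 n3040
theorem D4279 : act 8 n3040 = n4279 := rfl
theorem F20778 : act 2 n4279 = n3161 := d22_1 D4279 (iv D3161) (iv F14711)
def n4281 : Q := act 0 n3042
theorem D4281 : act 0 n3042 = n4281 := rfl
theorem F20787 : act 3 n4281 = n3163 := d2_2 (iv F14717) D4281 (iv D3163)
def n4282 : Q := act 6 n3042
theorem D4282 : act 6 n3042 = n4282 := rfl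
theorem F20792 : act 3 n4282 = n3164 := d26_1 D4282 (iv D3164) (iv F14717)
def n4283 : Q := act 5 n3043
theorem D4283 : act 5 n3043 = n4283 := rfl
theorem F20796 : act 2 n4283 = n3044 := d19_1 D4283 (iv D3044) (iv F14722)
theorem F20797 : act 3 n4283 = n3165 := d25_1 D4283 (iv D3165) (iv F14723)
def n4284 : Q := act 8 n3044
theorem D4284 : act 8 n3044 = n4284 := rfl
def n4285 : Q := act 9 n3045
theorem D4285 : act 9 n3045 = n4285 := rfl
theorem F20808 : act 2 n4285 = n3168 := d23_1 D4285 (iv D3168) (iv F14732)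
def n4286 : Q := act 3 n3053
theorem D4286 : act 3 n3053 = n4286 := rfl
theorem F20813 : act 0 n4286 = n3055 := d2_1 D4286 (iv D3055) (iv F14773)
theorem F20815 : act 4 n4286 = n3175 := d24_2 D3053 D4286 (iv D3175) (iv D2231) (iv F10536)
theorem F20816 : act 5 n4286 = n4286 := d25_2 F14775 D4286 (iv D4286)
def n4287 : Q := act 6 n3053
theorem D4287 : act 6 n3053 = n4287 := rfl
theorem F20819 : act 0 n4287 = n3056 := d5_1 D4287 (iv D3056) (iv F14773)
def n4288 : Q := act 7 n3054
theorem D4288 : act 7 n3054 = n4288 := rfl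
theorem F20825 : act 3 n4288 = n3177 := d27_1 D4288 (iv D3177) (iv F14780)
def n4289 : Q := act 2 n3055
theorem D4289 : act 2 n3055 = n4289 := rfl
theorem F20830 : act 4 n4289 = n3178 := d18_2 (iv F14784) D4289 (iv D3178)
def n4290 : Q := act 6 n3055
theorem D4290 : act 6 n3055 = n4290 := rfl
theorem F20835 : act 3 n4290 = n3056 := d26_1 D4290 (iv D3056) D3055
theorem F20836 : act 4 n4290 = n3179 := d31_1 D4290 (iv D3179) (iv F14784)
def n4291 : Q := act 5 n3056
theorem D4291 : act 5 n3056 = n4291 := rfl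
theorem F20839 : act 4 n4291 = n4291 := d30_1 D4291 (iv D4291) F14789 F10545 (iv F14789)
def n4292 : Q := act 7 n3056
theorem D4292 : act 7 n3056 = n4292 := rfl
def n4293 : Q := act 5 n3058
theorem D4293 : act 5 n3058 = n4293 := rfl
theorem F20848 : act 3 n4293 = n3059 := d25_1 D4293 (iv D3059) (iv F14798)
def n4294 : Q := act 7 n3058
theorem D4294 : act 7 n3058 = n4294 := rfl
theorem F20853 : act 3 n4294 = n3060 := d27_1 D4294 (iv D3060) (iv F14798)
theorem F20854 : act 4 n4294 = n3183 := d32_1 D4294 (iv D3183) (iv F14799)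
def n4295 : Q := act 7 n3059
theorem D4295 : act 7 n3059 = n4295 := rfl
theorem F20858 : act 2 n4295 = n3061 := d21_1 D4295 (iv D3061) (iv F14802)
def n4296 : Q := act 8 n3059
theorem D4296 : act 8 n3059 = n4296 := rfl
theorem F20863 : act 2 n4296 = n3062 := d22_1 D4296 (iv D3062) (iv F14802)
def n4297 : Q := act 6 n3061
theorem D4297 : act 6 n3061 = n4297 := rfl
def n4298 : Q := act 8 n3061
theorem D4298 : act 8 n3061 = n4298 := rfl
theorem F20875 : act 7 n4298 = n3062 := d42_1 D4298 (iv D3062) D3061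
def n4299 : Q := act 9 n3062
theorem D4299 : act 9 n3062 = n4299 := rfl
theorem F20876 : act 0 n4299 = n4299 := d8_1 D4299 (iv D4299) F14816
theorem F20877 : act 3 n4299 = n4299 := d29_1 D4299 (iv D4299) F14817
theorem F20878 : act 4 n4299 = n4299 := d34_1 D4299 (iv D4299) F14818
theorem F20879 : act 6 n4299 = n4299 := d41_1 D4299 (iv D4299) F14819
theorem F20880 : act 8 n4299 = n4299 := d44_1 D4299 (iv D4299) (iv D3062) F10567 D3062
def n4300 : Q := act 8 n3065
theorem D4300 : act 8 n3065 = n4300 := rfl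
theorem F20881 : act 0 n4300 = n3074 := d7_1 D4300 (iv D3074) (iv F14831)
theorem F20882 : act 1 n4300 = n4300 := d15_1 D4300 (iv D4300) F14832
theorem F20883 : act 2 n4300 = n4300 := d22_1 D4300 (iv D4300) F14833
theorem F20884 : act 6 n4300 = n4300 := d40_1 D4300 (iv D4300) F14835
theorem F20885 : act 9 n4300 = n4300 := d44_2 D3065 D4300 (iv D4300) (iv D3065) F10577
def n4301 : Q := act 8 n3066
theorem D4301 : act 8 n3066 = n4301 := rfl
theorem F20886 : act 0 n4301 = n3075 := d7_1 D4301 (iv D3075) (iv F14836)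
theorem F20887 : act 1 n4301 = n4301 := d15_1 D4301 (iv D4301) F14837
theorem F20888 : act 2 n4301 = n4301 := d22_1 D4301 (iv D4301) F14838
theorem F20889 : act 4 n4301 = n4301 := d33_1 D4301 (iv D4301) F14839
theorem F20890 : act 6 n4301 = n4301 := d40_1 D4301 (iv D4301) F14840
theorem F20891 : act 7 n4301 = n3067 := d42_1 D4301 (iv D3067) (iv F14841)
theorem F20892 : act 9 n4301 = n3124 := d44_2 D3066 D4301 (iv D3124) (iv D2190) (iv F10583)
def n4302 : Q := act 5 n3067
theorem D4302 : act 5 n3067 = n4302 := rfl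
theorem F20893 : act 0 n4302 = n3076 := d4_1 D4302 (iv D3076) (iv F14842)
theorem F20894 : act 1 n4302 = n4302 := d12_1 D4302 (iv D4302) F14843
theorem F20895 : act 2 n4302 = n4302 := d19_1 D4302 (iv D4302) F14844
theorem F20896 : act 9 n4302 = n3125 := d38_2 (iv F14847) D4302 (iv D3125)
def n4303 : Q := act 4 n3068
theorem D4303 : act 4 n3068 = n4303 := rfl
theorem F20897 : act 0 n4303 = n3077 := d3_1 D4303 (iv D3077) (iv F14848)
theorem F20903 : act 9 n4303 = n3126 := d34_2 (iv F14853) D4303 (iv D3126)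
def n4304 : Q := act 6 n3068
theorem D4304 : act 6 n3068 = n4304 := rfl
theorem F20904 : act 0 n4304 = n3078 := d5_1 D4304 (iv D3078) (iv F14848)
def n4305 : Q := act 8 n3071
theorem D4305 : act 8 n3071 = n4305 := rfl
theorem F20909 : act 1 n4305 = n3083 := d15_1 D4305 (iv D3083) (iv F14863)
theorem F20910 : act 2 n4305 = n4305 := d22_1 D4305 (iv D4305) F14864
theorem F20911 : act 4 n4305 = n3074 := d33_1 D4305 (iv D3074) (iv F14865)
theorem F20912 : act 6 n4305 = n4305 := d40_1 D4305 (iv D4305) F14867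
theorem F20913 : act 9 n4305 = n4305 := d44_2 D3071 D4305 (iv D4305) (iv D3071) F10599
def n4306 : Q := act 8 n3073
theorem D4306 : act 8 n3073 = n4306 := rfl
theorem F20914 : act 1 n4306 = n3085 := d15_1 D4306 (iv D3085) (iv F14873)
theorem F20915 : act 2 n4306 = n4306 := d22_1 D4306 (iv D4306) F14874
theorem F20916 : act 7 n4306 = n3074 := d42_1 D4306 (iv D3074) (iv F14876)
theorem F20917 : act 9 n4306 = n4306 := d44_2 D3073 D4306 (iv D4306) (iv D3073) F10603
def n4307 : Q := act 5 n3074
theorem D4307 : act 5 n3074 = n4307 := rfl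
theorem F20918 : act 1 n4307 = n3086 := d12_1 D4307 (iv D3086) (iv F14877)
theorem F20919 : act 2 n4307 = n4307 := d19_1 D4307 (iv D4307) F14878
theorem F20920 : act 8 n4307 = n3076 := d37_2 D3074 D4307 (iv D3076) (iv D2155) (iv F10606)
theorem F20921 : act 9 n4307 = n4307 := d38_2 F14880 D4307 (iv D4307)
def n4308 : Q := act 5 n3075
theorem D4308 : act 5 n3075 = n4308 := rfl
theorem F20922 : act 1 n4308 = n3087 := d12_1 D4308 (iv D3087) (iv F14881)
theorem F20923 : act 2 n4308 = n4308 := d19_1 D4308 (iv D4308) F14882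
theorem F20924 : act 7 n4308 = n3076 := d36_2 (iv F14885) D4308 (iv D3076)
theorem F20925 : act 9 n4308 = n3128 := d38_2 (iv F14886) D4308 (iv D3128)
def n4309 : Q := act 4 n3076
theorem D4309 : act 4 n3076 = n4309 := rfl
theorem F20929 : act 9 n4309 = n3129 := d34_2 (iv F14889) D4309 (iv D3129)
def n4310 : Q := act 6 n3076
theorem D4310 : act 6 n3076 = n4310 := rfl
theorem F20932 : act 5 n4310 = n3078 := d35_1 D4310 (iv D3078) (iv D2156) (iv F10616) D3076
def n4311 : Q := act 3 n3077
theorem D4311 : act 3 n3077 = n4311 := rfl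
theorem F20938 : act 9 n4311 = n3131 := d29_2 (iv F14895) D4311 (iv D3131)
def n4312 : Q := act 6 n3077
theorem D4312 : act 6 n3077 = n4312 := rfl
theorem F20941 : act 4 n4312 = n3078 := d31_1 D4312 (iv D3078) D3077
theorem F20943 : act 9 n4312 = n3132 := d41_2 (iv F14895) D4312 (iv D3132)
def n4313 : Q := act 7 n3078
theorem D4313 : act 7 n3078 = n4313 := rfl
def n4314 : Q := act 8 n3080
theorem D4314 : act 8 n3080 = n4314 := rfl
theorem F20949 : act 0 n4314 = n4314 := d7_1 D4314 (iv D4314) F14905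
theorem F20950 : act 2 n4314 = n4314 := d22_1 D4314 (iv D4314) F14906
theorem F20951 : act 3 n4314 = n3083 := d28_1 D4314 (iv D3083) (iv F14907)
theorem F20952 : act 6 n4314 = n4314 := d40_1 D4314 (iv D4314) F14909
theorem F20953 : act 9 n4314 = n4314 := d44_2 D3080 D4314 (iv D4314) (iv D3080) F10627
def n4315 : Q := act 8 n3082
theorem D4315 : act 8 n3082 = n4315 := rfl
theorem F20954 : act 0 n4315 = n4315 := d7_1 D4315 (iv D4315) F14915
theorem F20955 : act 2 n4315 = n3095 := d22_1 D4315 (iv D3095) (iv F14916)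
theorem F20956 : act 4 n4315 = n3085 := d33_1 D4315 (iv D3085) (iv F14917)
theorem F20957 : act 7 n4315 = n3083 := d42_1 D4315 (iv D3083) (iv F14919)
theorem F20958 : act 9 n4315 = n4315 := d44_2 D3082 D4315 (iv D4315) (iv D3082) F10632
def n4316 : Q := act 5 n3083
theorem D4316 : act 5 n3083 = n4316 := rfl
theorem F20959 : act 0 n4316 = n4316 := d4_1 D4316 (iv D4316) F14920
theorem F20960 : act 2 n4316 = n3096 := d19_1 D4316 (iv D3096) (iv F14921)
theorem F20961 : act 8 n4316 = n4316 := d37_2 D3083 D4316 (iv D4316) (iv D3083) F10636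
theorem F20962 : act 9 n4316 = n4316 := d38_2 F14924 D4316 (iv D4316)
def n4317 : Q := act 8 n3084
theorem D4317 : act 8 n3084 = n4317 := rfl
theorem F20963 : act 0 n4317 = n4317 := d7_1 D4317 (iv D4317) F14925
theorem F20964 : act 2 n4317 = n3097 := d22_1 D4317 (iv D3097) (iv F14926)
theorem F20965 : act 6 n4317 = n3085 := d40_1 D4317 (iv D3085) (iv F14928)
theorem F20966 : act 7 n4317 = n4317 := d42_1 D4317 (iv D4317) F14929
theorem F20967 : act 9 n4317 = n4317 := d44_2 D3084 D4317 (iv D4317) (iv D3084) F10642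
def n4318 : Q := act 5 n3085
theorem D4318 : act 5 n3085 = n4318 := rfl
theorem F20968 : act 0 n4318 = n4318 := d4_1 D4318 (iv D4318) F14930
theorem F20969 : act 2 n4318 = n3098 := d19_1 D4318 (iv D3098) (iv F14931)
theorem F20970 : act 7 n4318 = n3086 := d36_2 (iv F14932) D4318 (iv D3086)
theorem F20971 : act 8 n4318 = n3087 := d37_2 D3085 D4318 (iv D3087) (iv D2163) (iv F10645)
theorem F20972 : act 9 n4318 = n4318 := d38_2 F14933 D4318 (iv D4318)
def n4319 : Q := act 4 n3086
theorem D4319 : act 4 n3086 = n4319 := rfl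
theorem F20974 : act 2 n4319 = n3099 := d18_1 D4319 (iv D3099) (iv F14935)
theorem F20975 : act 8 n4319 = n3088 := d33_2 (iv F14936) D4319 (iv D3088)
def n4320 : Q := act 6 n3086
theorem D4320 : act 6 n3086 = n4320 := rfl
theorem F20978 : act 2 n4320 = n3100 := d20_1 D4320 (iv D3100) (iv F14935)
def n4321 : Q := act 4 n3087
theorem D4321 : act 4 n3087 = n4321 := rfl
theorem F20983 : act 2 n4321 = n3101 := d18_1 D4321 (iv D3101) (iv F14939)
theorem F20985 : act 7 n4321 = n3088 := d32_2 (iv F14940) D4321 (iv D3088)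
theorem F20986 : act 9 n4321 = n3134 := d34_2 (iv F14941) D4321 (iv D3134)
def n4322 : Q := act 6 n3087
theorem D4322 : act 6 n3087 = n4322 := rfl
theorem F20988 : act 2 n4322 = n3102 := d20_1 D4322 (iv D3102) (iv F14939)
def n4323 : Q := act 3 n3088
theorem D4323 : act 3 n3088 = n4323 := rfl
theorem F20993 : act 9 n4323 = n3136 := d29_2 (iv F14945) D4323 (iv D3136)
def n4324 : Q := act 6 n3088
theorem D4324 : act 6 n3088 = n4324 := rfl
theorem F20996 : act 4 n4324 = n3089 := d31_1 D4324 (iv D3089) D3088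
def n4325 : Q := act 7 n3089
theorem D4325 : act 7 n3089 = n4325 := rfl
def n4326 : Q := act 6 n3090
theorem D4326 : act 6 n3090 = n4326 := rfl
theorem F21004 : act 3 n4326 = n3091 := d26_1 D4326 (iv D3091) D3090
theorem F21006 : act 9 n4326 = n3139 := d41_2 (iv F14955) D4326 (iv D3139)
def n4327 : Q := act 5 n3091
theorem D4327 : act 5 n3091 = n4327 := rfl
theorem F21010 : act 9 n4327 = n3140 := d38_2 (iv F14960) D4327 (iv D3140)
def n4328 : Q := act 7 n3091
theorem D4328 : act 7 n3091 = n4328 := rfl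
theorem F21013 : act 4 n4328 = n3092 := d32_1 D4328 (iv D3092) (iv F14958)
def n4329 : Q := act 8 n3094
theorem D4329 : act 8 n3094 = n4329 := rfl
theorem F21017 : act 0 n4329 = n4329 := d7_1 D4329 (iv D4329) F14972
theorem F21018 : act 1 n4329 = n4329 := d15_1 D4329 (iv D4329) F14973
theorem F21019 : act 3 n4329 = n4329 := d28_1 D4329 (iv D4329) F14974
theorem F21020 : act 4 n4329 = n3097 := d33_1 D4329 (iv D3097) (iv F14975)
theorem F21021 : act 5 n4329 = n4329 := d37_1 D4329 (iv D4329) F20385 F15538 (iv F20385)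
theorem F21022 : act 6 n4329 = n3095 := d40_1 D4329 (iv D3095) (iv F14976)
theorem F21023 : act 7 n4329 = n4329 := d42_1 D4329 (iv D4329) F14977
theorem F21024 : act 9 n4329 = n4329 := d44_2 D3094 D4329 (iv D4329) (iv D3094) F10675
def n4330 : Q := act 5 n3095
theorem D4330 : act 5 n3095 = n4330 := rfl
theorem F21025 : act 0 n4330 = n4330 := d4_1 D4330 (iv D4330) F14978
theorem F21026 : act 1 n4330 = n4330 := d12_1 D4330 (iv D4330) F14979
theorem F21027 : act 3 n4330 = n4330 := d25_1 D4330 (iv D4330) F14980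
theorem F21028 : act 6 n4330 = n4330 := d35_2 F21022 D4330 (iv D4330) (iv F21022) F21021
theorem F21029 : act 7 n4330 = n3096 := d36_2 (iv F14982) D4330 (iv D3096)
theorem F21030 : act 8 n4330 = n4330 := d37_2 D3095 D4330 (iv D4330) (iv D3095) F10680
theorem F21031 : act 9 n4330 = n4330 := d38_2 F14983 D4330 (iv D4330)
def n4331 : Q := act 4 n3096
theorem D4331 : act 4 n3096 = n4331 := rfl
theorem F21032 : act 0 n4331 = n4331 := d3_1 D4331 (iv D4331) F14984
theorem F21033 : act 1 n4331 = n4331 := d11_1 D4331 (iv D4331) F14985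
theorem F21034 : act 5 n4331 = n3099 := d30_2 D3096 D4331 (iv D3099) (iv D2172) (iv F10685)
theorem F21035 : act 8 n4331 = n4331 := d33_2 F14987 D4331 (iv D4331)
theorem F21036 : act 9 n4331 = n4331 := d34_2 F14988 D4331 (iv D4331)
def n4332 : Q := act 6 n3096
theorem D4332 : act 6 n3096 = n4332 := rfl
theorem F21037 : act 0 n4332 = n4332 := d5_1 D4332 (iv D4332) F14984
theorem F21038 : act 1 n4332 = n4332 := d13_1 D4332 (iv D4332) F14985
theorem F21039 : act 3 n4332 = n4332 := d26_1 D4332 (iv D4332) F14986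
theorem F21040 : act 5 n4332 = n4332 := d35_1 D4332 (iv D4332) (iv D3096) F10686 D3096
theorem F21041 : act 7 n4332 = n4332 := d39_2 F21029 D4332 (iv D4332) (iv F21029) F21028
theorem F21042 : act 8 n4332 = n4332 := d40_2 F14987 D4332 (iv D4332)
theorem F21043 : act 9 n4332 = n4332 := d41_2 F14988 D4332 (iv D4332)
def n4333 : Q := act 5 n3097
theorem D4333 : act 5 n3097 = n4333 := rfl
theorem F21044 : act 0 n4333 = n4333 := d4_1 D4333 (iv D4333) F14989
theorem F21045 : act 1 n4333 = n4333 := d12_1 D4333 (iv D4333) F14990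
theorem F21046 : act 3 n4333 = n3108 := d25_1 D4333 (iv D3108) (iv F14991)
theorem F21047 : act 4 n4333 = n4333 := d30_1 D4333 (iv D4333) (iv F21020) F21021 F21020
theorem F21048 : act 7 n4333 = n4333 := d36_2 F14993 D4333 (iv D4333)
theorem F21049 : act 8 n4333 = n4333 := d37_2 D3097 D4333 (iv D4333) (iv D3097) F10691
theorem F21050 : act 9 n4333 = n4333 := d38_2 F14994 D4333 (iv D4333)
def n4334 : Q := act 4 n3098
theorem D4334 : act 4 n3098 = n4334 := rfl
theorem F21051 : act 0 n4334 = n4334 := d3_1 D4334 (iv D4334) F14995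
theorem F21052 : act 1 n4334 = n4334 := d11_1 D4334 (iv D4334) F14996
theorem F21053 : act 7 n4334 = n3099 := d32_2 (iv F14998) D4334 (iv D3099)
theorem F21054 : act 8 n4334 = n3101 := d33_2 (iv F14999) D4334 (iv D3101)
theorem F21055 : act 9 n4334 = n4334 := d34_2 F15000 D4334 (iv D4334)
def n4335 : Q := act 6 n3098
theorem D4335 : act 6 n3098 = n4335 := rfl
theorem F21056 : act 0 n4335 = n4335 := d5_1 D4335 (iv D4335) F14995
theorem F21057 : act 1 n4335 = n4335 := d13_1 D4335 (iv D4335) F14996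
theorem F21059 : act 8 n4335 = n3102 := d40_2 (iv F14999) D4335 (iv D3102)
theorem F21060 : act 9 n4335 = n4335 := d41_2 F15000 D4335 (iv D4335)
def n4336 : Q := act 3 n3099
theorem D4336 : act 3 n3099 = n4336 := rfl
theorem F21063 : act 4 n4336 = n3111 := d24_2 D3099 D4336 (iv D3111) (iv D2180) (iv F10701)
theorem F21064 : act 8 n4336 = n3103 := d28_2 (iv F15003) D4336 (iv D3103)
def n4337 : Q := act 6 n3099
theorem D4337 : act 6 n3099 = n4337 := rfl
theorem F21068 : act 4 n4337 = n3100 := d31_1 D4337 (iv D3100) D3099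
theorem F21069 : act 8 n4337 = n3104 := d40_2 (iv F15003) D4337 (iv D3104)
def n4338 : Q := act 7 n3100
theorem D4338 : act 7 n3100 = n4338 := rfl
theorem F21073 : act 3 n4338 = n3113 := d27_1 D4338 (iv D3113) (iv F15007)
def n4339 : Q := act 3 n3101
theorem D4339 : act 3 n3101 = n4339 := rfl
theorem F21079 : act 4 n4339 = n3114 := d24_2 D3101 D4339 (iv D3114) (iv D2182) (iv F10706)
theorem F21081 : act 7 n4339 = n3103 := d27_2 (iv F15014) D4339 (iv D3103)
theorem F21082 : act 9 n4339 = n3142 := d29_2 (iv F15015) D4339 (iv D3142)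
def n4340 : Q := act 6 n3101
theorem D4340 : act 6 n3101 = n4340 := rfl
def n4341 : Q := act 7 n3102
theorem D4341 : act 7 n3102 = n4341 := rfl
theorem F21091 : act 6 n4341 = n3105 := d39_1 D4341 (iv D3105) (iv D2175) (iv F10707) D3102
theorem F21092 : act 9 n4341 = n3144 := d43_2 (iv F15020) D4341 (iv D3144)
def n4342 : Q := act 2 n3103
theorem D4342 : act 2 n3103 = n4342 := rfl
theorem F21096 : act 9 n4342 = n3145 := d23_2 (iv F15025) D4342 (iv D3145)
def n4343 : Q := act 6 n3103
theorem D4343 : act 6 n3103 = n4343 := rfl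
theorem F21099 : act 3 n4343 = n3104 := d26_1 D4343 (iv D3104) D3103
theorem F21100 : act 4 n4343 = n3118 := d31_1 D4343 (iv D3118) (iv F15023)
def n4344 : Q := act 5 n3104
theorem D4344 : act 5 n3104 = n4344 := rfl
theorem F21104 : act 4 n4344 = n3106 := d30_1 D4344 (iv D3106) F10721 (iv F10716) (iv F15028)
def n4345 : Q := act 7 n3104
theorem D4345 : act 7 n3104 = n4345 := rfl
theorem F21109 : act 4 n4345 = n3105 := d32_1 D4345 (iv D3105) (iv F15028)
def n4346 : Q := act 7 n3106
theorem D4346 : act 7 n3106 = n4346 := rfl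
theorem F21115 : act 9 n4346 = n3149 := d43_2 (iv F15039) D4346 (iv D3149)
def n4347 : Q := act 8 n3106
theorem D4347 : act 8 n3106 = n4347 := rfl
def n4348 : Q := act 4 n3108
theorem D4348 : act 4 n3108 = n4348 := rfl
theorem F21123 : act 3 n4348 = n4348 := d24_1 D4348 (iv D4348) (iv F21046) F21047 F21046
def n4349 : Q := act 6 n3108
theorem D4349 : act 6 n3108 = n4349 := rfl
theorem F21130 : act 5 n4349 = n3110 := d35_1 D4349 (iv D3110) (iv D2179) (iv F10733) D3108
def n4350 : Q := act 3 n3109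
theorem D4350 : act 3 n3109 = n4350 := rfl
theorem F21136 : act 7 n4350 = n3111 := d27_2 (iv F15055) D4350 (iv D3111)
theorem F21137 : act 8 n4350 = n3114 := d28_2 (iv F15056) D4350 (iv D3114)
def n4351 : Q := act 6 n3109
theorem D4351 : act 6 n3109 = n4351 := rfl
theorem F21141 : act 4 n4351 = n3110 := d31_1 D4351 (iv D3110) D3109
theorem F21142 : act 8 n4351 = n3115 := d40_2 (iv F15056) D4351 (iv D3115)
def n4352 : Q := act 7 n3110
theorem D4352 : act 7 n3110 = n4352 := rfl
def n4353 : Q := act 2 n3111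
theorem D4353 : act 2 n3111 = n4353 := rfl
theorem F21151 : act 8 n4353 = n3117 := d22_2 (iv F15065) D4353 (iv D3117)
def n4354 : Q := act 6 n3111
theorem D4354 : act 6 n3111 = n4354 := rfl
theorem F21155 : act 3 n4354 = n3112 := d26_1 D4354 (iv D3112) D3111
theorem F21156 : act 8 n4354 = n3118 := d40_2 (iv F15065) D4354 (iv D3118)
def n4355 : Q := act 5 n3112
theorem D4355 : act 5 n3112 = n4355 := rfl
theorem F21158 : act 0 n4355 = n4355 := d4_1 D4355 (iv D4355) F15067
theorem F21159 : act 1 n4355 = n4355 := d12_1 D4355 (iv D4355) F15068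
theorem F21160 : act 4 n4355 = n4355 := d30_1 D4355 (iv D4355) F15069 F10748 (iv F15069)
theorem F21161 : act 6 n4355 = n4355 := d35_2 D3112 D4355 (iv D4355) (iv D3112) F10743
theorem F21162 : act 8 n4355 = n4355 := d37_2 (iv F15070) D4355 (iv D4355) F15070 F10767
theorem F21163 : act 9 n4355 = n4355 := d38_2 F15071 D4355 (iv D4355)
def n4356 : Q := act 7 n3112
theorem D4356 : act 7 n3112 = n4356 := rfl
theorem F21167 : act 8 n4356 = n3119 := d42_2 (iv F15070) D4356 (iv D3119)
def n4357 : Q := act 2 n3114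
theorem D4357 : act 2 n3114 = n4357 := rfl
theorem F21170 : act 5 n4357 = n3120 := d19_2 (iv F15079) D4357 (iv D3120)
theorem F21171 : act 7 n4357 = n3117 := d21_2 (iv F15080) D4357 (iv D3117)
theorem F21172 : act 9 n4357 = n3151 := d23_2 (iv F15081) D4357 (iv D3151)
def n4358 : Q := act 6 n3114
theorem D4358 : act 6 n3114 = n4358 := rfl
def n4359 : Q := act 5 n3115
theorem D4359 : act 5 n3115 = n4359 := rfl
theorem F21180 : act 6 n4359 = n3122 := d35_2 D3115 D4359 (iv D3122) (iv D2188) (iv F10753)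
def n4360 : Q := act 7 n3115
theorem D4360 : act 7 n3115 = n4360 := rfl
theorem F21184 : act 4 n4360 = n3116 := d32_1 D4360 (iv D3116) (iv F15084)
theorem F21185 : act 6 n4360 = n3119 := d39_1 D4360 (iv D3119) (iv D2185) (iv F10754) D3115
def n4362 : Q := act 6 n3117
theorem D4362 : act 6 n3117 = n4362 := rfl
theorem F21193 : act 9 n4362 = n3156 := d41_2 (iv F15093) D4362 (iv D3156)
def n4363 : Q := act 7 n3118
theorem D4363 : act 7 n3118 = n4363 := rfl
def n4364 : Q := act 1 n3120
theorem D4364 : act 1 n3120 = n4364 := rfl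
theorem F21203 : act 9 n4364 = n3158 := d16_2 (iv F15108) D4364 (iv D3158)
def n4365 : Q := act 6 n3120
theorem D4365 : act 6 n3120 = n4365 := rfl
theorem F21209 : act 9 n4365 = n3159 := d41_2 (iv F15108) D4365 (iv D3159)
def n4366 : Q := act 5 n3121
theorem D4366 : act 5 n3121 = n4366 := rfl
theorem F21212 : act 3 n4366 = n3122 := d25_1 D4366 (iv D3122) (iv F15111)
theorem F21214 : act 9 n4366 = n3160 := d38_2 (iv F15115) D4366 (iv D3160)
def n4367 : Q := act 8 n3122
theorem D4367 : act 8 n3122 = n4367 := rfl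
def n4369 : Q := act 5 n3124
theorem D4369 : act 5 n3124 = n4369 := rfl
theorem F21226 : act 0 n4369 = n3128 := d4_1 D4369 (iv D3128) (iv F15126)
theorem F21227 : act 1 n4369 = n4369 := d12_1 D4369 (iv D4369) F15127
theorem F21228 : act 2 n4369 = n4369 := d19_1 D4369 (iv D4369) F15128
theorem F21229 : act 7 n4369 = n3125 := d36_2 (iv F15131) D4369 (iv D3125)
theorem F21230 : act 8 n4369 = n4369 := d37_2 D3124 D4369 (iv D4369) (iv D3124) F10794
def n4370 : Q := act 4 n3125
theorem D4370 : act 4 n3125 = n4370 := rfl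
def n4371 : Q := act 6 n3125
theorem D4371 : act 6 n3125 = n4371 := rfl
theorem F21239 : act 5 n4371 = n3127 := d35_1 D4371 (iv D3127) (iv D2192) (iv F10801) D3125
def n4372 : Q := act 3 n3126
theorem D4372 : act 3 n3126 = n4372 := rfl
theorem F21245 : act 8 n4372 = n3175 := d28_2 (iv F15141) D4372 (iv D3175)
def n4373 : Q := act 6 n3126
theorem D4373 : act 6 n3126 = n4373 := rfl
theorem F21249 : act 4 n4373 = n3127 := d31_1 D4373 (iv D3127) D3126
theorem F21250 : act 8 n4373 = n3176 := d40_2 (iv F15141) D4373 (iv D3176)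
def n4374 : Q := act 7 n3127
theorem D4374 : act 7 n3127 = n4374 := rfl
def n4375 : Q := act 4 n3128
theorem D4375 : act 4 n3128 = n4375 := rfl
theorem F21256 : act 1 n4375 = n3134 := d11_1 D4375 (iv D3134) (iv F15146)
theorem F21257 : act 2 n4375 = n4375 := d18_1 D4375 (iv D4375) F15147
theorem F21259 : act 7 n4375 = n3129 := d32_2 (iv F15148) D4375 (iv D3129)
def n4376 : Q := act 6 n3128
theorem D4376 : act 6 n3128 = n4376 := rfl
theorem F21261 : act 1 n4376 = n3135 := d13_1 D4376 (iv D3135) (iv F15146)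
def n4377 : Q := act 3 n3129
theorem D4377 : act 3 n3129 = n4377 := rfl
def n4378 : Q := act 6 n3129
theorem D4378 : act 6 n3129 = n4378 := rfl
theorem F21270 : act 4 n4378 = n3130 := d31_1 D4378 (iv D3130) D3129
def n4379 : Q := act 7 n3130
theorem D4379 : act 7 n3130 = n4379 := rfl
def n4380 : Q := act 2 n3131
theorem D4380 : act 2 n3131 = n4380 := rfl
theorem F21278 : act 5 n4380 = n4380 := d19_2 F15159 D4380 (iv D4380)
theorem F21280 : act 8 n4380 = n3178 := d22_2 (iv F15161) D4380 (iv D3178)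
def n4381 : Q := act 6 n3131
theorem D4381 : act 6 n3131 = n4381 := rfl
theorem F21282 : act 3 n4381 = n3132 := d26_1 D4381 (iv D3132) D3131
theorem F21283 : act 8 n4381 = n3179 := d40_2 (iv F15161) D4381 (iv D3179)
def n4382 : Q := act 5 n3132
theorem D4382 : act 5 n3132 = n4382 := rfl
def n4383 : Q := act 7 n3132
theorem D4383 : act 7 n3132 = n4383 := rfl
theorem F21289 : act 4 n4383 = n3133 := d32_1 D4383 (iv D3133) (iv F15164)
theorem F21291 : act 8 n4383 = n3181 := d42_2 (iv F15165) D4383 (iv D3181)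
def n4384 : Q := act 3 n3134
theorem D4384 : act 3 n3134 = n4384 := rfl
theorem F21294 : act 7 n4384 = n3136 := d27_2 (iv F15173) D4384 (iv D3136)
def n4386 : Q := act 7 n3135
theorem D4386 : act 7 n3135 = n4386 := rfl
theorem F21303 : act 6 n4386 = n3138 := d39_1 D4386 (iv D3138) (iv D2199) (iv F10825) D3135
def n4387 : Q := act 2 n3136
theorem D4387 : act 2 n3136 = n4387 := rfl
def n4388 : Q := act 6 n3136
theorem D4388 : act 6 n3136 = n4388 := rfl
theorem F21310 : act 3 n4388 = n3137 := d26_1 D4388 (iv D3137) D3136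
def n4389 : Q := act 5 n3137
theorem D4389 : act 5 n3137 = n4389 := rfl
theorem F21314 : act 4 n4389 = n3140 := d30_1 D4389 (iv D3140) F10842 (iv F10833) (iv F15184)
def n4390 : Q := act 7 n3137
theorem D4390 : act 7 n3137 = n4390 := rfl
theorem F21318 : act 4 n4390 = n3138 := d32_1 D4390 (iv D3138) (iv F15184)
def n4391 : Q := act 5 n3139
theorem D4391 : act 5 n3139 = n4391 := rfl
theorem F21322 : act 3 n4391 = n3140 := d25_1 D4391 (iv D3140) (iv F15192)
def n4392 : Q := act 7 n3139
theorem D4392 : act 7 n3139 = n4392 := rfl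
theorem F21328 : act 8 n4392 = n3183 := d42_2 (iv F15193) D4392 (iv D3183)
def n4393 : Q := act 7 n3140
theorem D4393 : act 7 n3140 = n4393 := rfl
theorem F21331 : act 5 n4393 = n3141 := d36_1 D4393 (iv D3141) D3140
def n4394 : Q := act 8 n3140
theorem D4394 : act 8 n3140 = n4394 := rfl
def n4395 : Q := act 2 n3142
theorem D4395 : act 2 n3142 = n4395 := rfl
theorem F21337 : act 4 n4395 = n3151 := d18_2 (iv F15204) D4395 (iv D3151)
theorem F21339 : act 7 n4395 = n3145 := d21_2 (iv F15206) D4395 (iv D3145)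
def n4396 : Q := act 6 n3142
theorem D4396 : act 6 n3142 = n4396 := rfl
theorem F21343 : act 3 n4396 = n3143 := d26_1 D4396 (iv D3143) D3142
theorem F21344 : act 4 n4396 = n3152 := d31_1 D4396 (iv D3152) (iv F15204)
def n4397 : Q := act 5 n3143
theorem D4397 : act 5 n3143 = n4397 := rfl
def n4398 : Q := act 7 n3143
theorem D4398 : act 7 n3143 = n4398 := rfl
theorem F21353 : act 6 n4398 = n3148 := d39_1 D4398 (iv D3148) (iv D2206) (iv F10851) D3143
def n4399 : Q := act 1 n3145
theorem D4399 : act 1 n3145 = n4399 := rfl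
def n4400 : Q := act 6 n3145
theorem D4400 : act 6 n3145 = n4400 := rfl
theorem F21360 : act 2 n4400 = n3146 := d20_1 D4400 (iv D3146) D3145
def n4401 : Q := act 5 n3146
theorem D4401 : act 5 n3146 = n4401 := rfl
theorem F21365 : act 3 n4401 = n3147 := d25_1 D4401 (iv D3147) (iv F15224)
def n4402 : Q := act 7 n3146
theorem D4402 : act 7 n3146 = n4402 := rfl
theorem F21371 : act 4 n4402 = n3157 := d32_1 D4402 (iv D3157) (iv F15225)
def n4403 : Q := act 7 n3147
theorem D4403 : act 7 n3147 = n4403 := rfl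
theorem F21375 : act 4 n4403 = n3149 := d32_1 D4403 (iv D3149) (iv F15229)
theorem F21376 : act 5 n4403 = n3148 := d36_1 D4403 (iv D3148) D3147
def n4404 : Q := act 8 n3147
theorem D4404 : act 8 n3147 = n4404 := rfl
def n4405 : Q := act 6 n3149
theorem D4405 : act 6 n3149 = n4405 := rfl
def n4406 : Q := act 8 n3149
theorem D4406 : act 8 n3149 = n4406 := rfl
theorem F21390 : act 5 n4406 = n3187 := d37_1 D4406 (iv D3187) F11032 (iv F10881) (iv F15238)
theorem F21391 : act 7 n4406 = n3150 := d42_1 D4406 (iv D3150) D3149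
def n4407 : Q := act 9 n3150
theorem D4407 : act 9 n3150 = n4407 := rfl
def n4408 : Q := act 1 n3151
theorem D4408 : act 1 n3151 = n4408 := rfl
theorem F21398 : act 5 n4408 = n3158 := d12_2 (iv F15245) D4408 (iv D3158)
def n4409 : Q := act 6 n3151
theorem D4409 : act 6 n3151 = n4409 := rfl
theorem F21402 : act 2 n4409 = n3152 := d20_1 D4409 (iv D3152) D3151
def n4410 : Q := act 5 n3152
theorem D4410 : act 5 n3152 = n4410 := rfl
theorem F21406 : act 3 n4410 = n3153 := d25_1 D4410 (iv D3153) (iv F15250)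
theorem F21407 : act 6 n4410 = n3160 := d35_2 D3152 D4410 (iv D3160) (iv D2217) (iv F10884)
def n4411 : Q := act 7 n3152
theorem D4411 : act 7 n3152 = n4411 := rfl
theorem F21411 : act 6 n4411 = n3157 := d39_1 D4411 (iv D3157) (iv D2214) (iv F10885) D3152
def n4412 : Q := act 7 n3153
theorem D4412 : act 7 n3153 = n4412 := rfl
theorem F21416 : act 5 n4412 = n3154 := d36_1 D4412 (iv D3154) D3153
def n4413 : Q := act 8 n3153
theorem D4413 : act 8 n3153 = n4413 := rfl
theorem F21422 : act 6 n4413 = n3161 := d40_1 D4413 (iv D3161) (iv F15255)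
def n4416 : Q := act 7 n3156
theorem D4416 : act 7 n3156 = n4416 := rfl
def n4417 : Q := act 0 n3158
theorem D4417 : act 0 n3158 = n4417 := rfl
theorem F21439 : act 8 n4417 = n3163 := d7_2 (iv F15276) D4417 (iv D3163)
def n4418 : Q := act 6 n3158
theorem D4418 : act 6 n3158 = n4418 := rfl
theorem F21440 : act 1 n4418 = n3159 := d13_1 D4418 (iv D3159) D3158
theorem F21444 : act 8 n4418 = n3164 := d40_2 (iv F15276) D4418 (iv D3164)
def n4419 : Q := act 5 n3159
theorem D4419 : act 5 n3159 = n4419 := rfl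
theorem F21447 : act 7 n4419 = n4419 := d36_2 F15280 D4419 (iv D4419)
def n4420 : Q := act 4 n3160
theorem D4420 : act 4 n3160 = n4420 := rfl
def n4421 : Q := act 8 n3160
theorem D4421 : act 8 n3160 = n4421 := rfl
theorem F21455 : act 3 n4421 = n3161 := d28_1 D4421 (iv D3161) (iv F15284)
theorem F21456 : act 5 n4421 = n3167 := d37_1 D4421 (iv D3167) (iv D2222) (iv F10918) D3160
def n4422 : Q := act 9 n3161
theorem D4422 : act 9 n3161 = n4422 := rfl
def n4423 : Q := act 6 n3163
theorem D4423 : act 6 n3163 = n4423 := rfl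
theorem F21463 : act 0 n4423 = n3164 := d5_1 D4423 (iv D3164) D3163
theorem F21465 : act 2 n4423 = n4423 := d20_1 D4423 (iv D4423) F15297
theorem F21468 : act 9 n4423 = n4423 := d41_2 F15301 D4423 (iv D4423)
def n4424 : Q := act 5 n3164
theorem D4424 : act 5 n3164 = n4424 := rfl
theorem F21469 : act 1 n4424 = n3165 := d12_1 D4424 (iv D3165) (iv F15302)
theorem F21473 : act 9 n4424 = n4424 := d38_2 F15306 D4424 (iv D4424)
def n4425 : Q := act 4 n3165
theorem D4425 : act 4 n3165 = n4425 := rfl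
theorem F21475 : act 2 n4425 = n3166 := d18_1 D4425 (iv D3166) (iv F15308)
def n4426 : Q := act 8 n3165
theorem D4426 : act 8 n3165 = n4426 := rfl
def n4427 : Q := act 8 n3166
theorem D4427 : act 8 n3166 = n4427 := rfl
theorem F21487 : act 3 n4427 = n3173 := d28_1 D4427 (iv D3173) (iv F15314)
theorem F21488 : act 4 n4427 = n3167 := d33_1 D4427 (iv D3167) D3166
def n4428 : Q := act 9 n3167
theorem D4428 : act 9 n3167 = n4428 := rfl
theorem F21493 : act 3 n4428 = n3168 := d29_1 D4428 (iv D3168) (iv F15321)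
def n4429 : Q := act 5 n3173
theorem D4429 : act 5 n3173 = n4429 := rfl
def n4430 : Q := act 9 n3173
theorem D4430 : act 9 n3173 = n4430 := rfl
theorem F21506 : act 4 n4430 = n3174 := d34_1 D4430 (iv D3174) (iv F15355)
def n4431 : Q := act 2 n3175
theorem D4431 : act 2 n3175 = n4431 := rfl
theorem F21510 : act 0 n4431 = n3178 := d1_1 D4431 (iv D3178) (iv F15365)
theorem F21511 : act 3 n4431 = n4431 := d17_2 D3175 D4431 (iv D4431) (iv D3175) F10992
theorem F21512 : act 5 n4431 = n3189 := d19_2 (iv F15367) D4431 (iv D3189)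
def n4432 : Q := act 6 n3175
theorem D4432 : act 6 n3175 = n4432 := rfl
theorem F21515 : act 0 n4432 = n3179 := d5_1 D4432 (iv D3179) (iv F15365)
theorem F21517 : act 3 n4432 = n3176 := d26_1 D4432 (iv D3176) D3175
def n4433 : Q := act 5 n3176
theorem D4433 : act 5 n3176 = n4433 := rfl
theorem F21519 : act 0 n4433 = n3180 := d4_1 D4433 (iv D3180) (iv F15370)
theorem F21521 : act 2 n4433 = n4433 := d19_1 D4433 (iv D4433) F15372
theorem F21523 : act 6 n4433 = n3191 := d35_2 D3176 D4433 (iv D3191) (iv D2242) (iv F10993)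
def n4434 : Q := act 7 n3176
theorem D4434 : act 7 n3176 = n4434 := rfl
theorem F21528 : act 4 n4434 = n3177 := d32_1 D4434 (iv D3177) (iv F15373)
def n4435 : Q := act 6 n3178
theorem D4435 : act 6 n3178 = n4435 := rfl
theorem F21532 : act 2 n4435 = n3179 := d20_1 D4435 (iv D3179) D3178
theorem F21534 : act 9 n4435 = n4435 := d41_2 F15385 D4435 (iv D4435)
def n4436 : Q := act 5 n3179
theorem D4436 : act 5 n3179 = n4436 := rfl
theorem F21535 : act 1 n4436 = n3182 := d12_1 D4436 (iv D3182) (iv F15386)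
theorem F21536 : act 3 n4436 = n3180 := d25_1 D4436 (iv D3180) (iv F15387)
theorem F21537 : act 6 n4436 = n3194 := d35_2 D3179 D4436 (iv D3194) (iv D2245) (iv F11002)
def n4437 : Q := act 7 n3179
theorem D4437 : act 7 n3179 = n4437 := rfl
def n4438 : Q := act 7 n3180
theorem D4438 : act 7 n3180 = n4438 := rfl
theorem F21543 : act 1 n4438 = n3184 := d14_1 D4438 (iv D3184) (iv F15389)
theorem F21546 : act 5 n4438 = n3181 := d36_1 D4438 (iv D3181) D3180
def n4439 : Q := act 8 n3180
theorem D4439 : act 8 n3180 = n4439 := rfl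
def n4440 : Q := act 4 n3182
theorem D4440 : act 4 n3182 = n4440 := rfl
theorem F21555 : act 6 n4440 = n3198 := d31_2 (iv F15402) D4440 (iv D3198)
def n4441 : Q := act 7 n3182
theorem D4441 : act 7 n3182 = n4441 := rfl
theorem F21559 : act 3 n4441 = n3184 := d27_1 D4441 (iv D3184) (iv F15401)
theorem F21560 : act 5 n4441 = n3183 := d36_1 D4441 (iv D3183) D3182
def n4442 : Q := act 8 n3182
theorem D4442 : act 8 n3182 = n4442 := rfl
def n4443 : Q := act 6 n3184
theorem D4443 : act 6 n3184 = n4443 := rfl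
theorem F21567 : act 2 n4443 = n3186 := d20_1 D4443 (iv D3186) (iv F15410)
def n4444 : Q := act 8 n3184
theorem D4444 : act 8 n3184 = n4444 := rfl
theorem F21575 : act 7 n4444 = n3185 := d42_1 D4444 (iv D3185) D3184
def n4445 : Q := act 9 n3185
theorem D4445 : act 9 n3185 = n4445 := rfl
def n4446 : Q := act 8 n3186
theorem D4446 : act 8 n3186 = n4446 := rfl
theorem F21585 : act 6 n4446 = n3187 := d40_1 D4446 (iv D3187) D3186
theorem F21586 : act 7 n4446 = n3204 := d42_1 D4446 (iv D3204) (iv F15423)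
def n4447 : Q := act 9 n3187
theorem D4447 : act 9 n3187 = n4447 := rfl
theorem F21591 : act 7 n4447 = n3188 := d43_1 D4447 (iv D3188) (iv F15429)
def n4448 : Q := act 1 n3189
theorem D4448 : act 1 n3189 = n4448 := rfl
theorem F21594 : act 2 n4448 = n4448 := d9_2 D3189 D4448 (iv D4448) (iv D3189) F11040
theorem F21595 : act 3 n4448 = n4448 := d10_2 F15437 D4448 (iv D4448)
theorem F21596 : act 4 n4448 = n4448 := d11_2 F15438 D4448 (iv D4448)
theorem F21597 : act 7 n4448 = n4448 := d14_2 F15439 D4448 (iv D4448)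
theorem F21598 : act 8 n4448 = n4448 := d15_2 F15440 D4448 (iv D4448)
def n4449 : Q := act 6 n3189
theorem D4449 : act 6 n3189 = n4449 := rfl
theorem F21601 : act 2 n4449 = n3190 := d20_1 D4449 (iv D3190) D3189
def n4450 : Q := act 5 n3190
theorem D4450 : act 5 n3190 = n4450 := rfl
theorem F21606 : act 0 n4450 = n3194 := d4_1 D4450 (iv D3194) (iv F15442)
theorem F21608 : act 3 n4450 = n3191 := d25_1 D4450 (iv D3191) (iv F15444)
def n4452 : Q := act 7 n3191
theorem D4452 : act 7 n3191 = n4452 := rfl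
theorem F21619 : act 2 n4452 = n4452 := d21_1 D4452 (iv D4452) F15450
theorem F21621 : act 5 n4452 = n3192 := d36_1 D4452 (iv D3192) D3191
def n4453 : Q := act 8 n3191
theorem D4453 : act 8 n3191 = n4453 := rfl
theorem F21625 : act 2 n4453 = n4453 := d22_1 D4453 (iv D4453) F15450
def n4454 : Q := act 5 n3193
theorem D4454 : act 5 n3193 = n4454 := rfl
theorem F21629 : act 2 n4454 = n3194 := d19_1 D4454 (iv D3194) (iv F15461)
theorem F21630 : act 3 n4454 = n4454 := d25_1 D4454 (iv D4454) F15462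
def n4456 : Q := act 4 n3194
theorem D4456 : act 4 n3194 = n4456 := rfl
theorem F21639 : act 1 n4456 = n3198 := d11_1 D4456 (iv D3198) (iv F15466)
def n4457 : Q := act 7 n3194
theorem D4457 : act 7 n3194 = n4457 := rfl
theorem F21644 : act 3 n4457 = n3196 := d27_1 D4457 (iv D3196) (iv F15467)
def n4458 : Q := act 8 n3194
theorem D4458 : act 8 n3194 = n4458 := rfl
theorem F21648 : act 3 n4458 = n3197 := d28_1 D4458 (iv D3197) (iv F15467)
def n4459 : Q := act 6 n3196
theorem D4459 : act 6 n3196 = n4459 := rfl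
theorem F21651 : act 2 n4459 = n4459 := d20_1 D4459 (iv D4459) F15476
def n4460 : Q := act 8 n3196
theorem D4460 : act 8 n3196 = n4460 := rfl
theorem F21659 : act 7 n4460 = n3197 := d42_1 D4460 (iv D3197) D3196
def n4461 : Q := act 9 n3197
theorem D4461 : act 9 n3197 = n4461 := rfl
theorem F21661 : act 2 n4461 = n4461 := d23_1 D4461 (iv D4461) F15481
theorem F21664 : act 8 n4461 = n4461 := d44_1 D4461 (iv D4461) (iv D3197) F11073 D3197
def n4462 : Q := act 7 n3198
theorem D4462 : act 7 n3198 = n4462 := rfl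
theorem F21668 : act 4 n4462 = n3199 := d32_1 D4462 (iv D3199) D3198
def n4463 : Q := act 8 n3198
theorem D4463 : act 8 n3198 = n4463 := rfl
def n4464 : Q := act 6 n3199
theorem D4464 : act 6 n3199 = n4464 := rfl
theorem F21677 : act 3 n4464 = n3201 := d26_1 D4464 (iv D3201) (iv F15491)
def n4467 : Q := act 8 n3201
theorem D4467 : act 8 n3201 = n4467 := rfl
theorem F21691 : act 2 n4467 = n3204 := d22_1 D4467 (iv D3204) (iv F15499)
def n4469 : Q := act 5 n3204
theorem D4469 : act 5 n3204 = n4469 := rfl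
def n4470 : Q := act 9 n3204
theorem D4470 : act 9 n3204 = n4470 := rfl
theorem F21709 : act 6 n4470 = n3205 := d41_1 D4470 (iv D3205) (iv F15517)
def n4471 : Q := act 8 n3210
theorem D4471 : act 8 n3210 = n4471 := rfl
theorem F21711 : act 0 n4471 = n4471 := d7_1 D4471 (iv D4471) F15549
theorem F21712 : act 1 n4471 = n3299 := d15_1 D4471 (iv D3299) (iv F15550)
theorem F21713 : act 2 n4471 = n4329 := d22_1 D4471 (iv D4329) (iv F20380)
theorem F21714 : act 3 n4471 = n3216 := d28_1 D4471 (iv D3216) (iv F15551)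
theorem F21715 : act 4 n4471 = n4317 := d33_1 D4471 (iv D4317) F20379
theorem F21716 : act 5 n4471 = n4471 := d37_1 D4471 (iv D4471) F15552 F11136 (iv F15552)
theorem F21717 : act 6 n4471 = n4315 := d40_1 D4471 (iv D4315) (iv F20381)
theorem F21718 : act 7 n4471 = n4471 := d42_1 D4471 (iv D4471) F15553
theorem F21719 : act 9 n4471 = n4471 := d44_2 D3210 D4471 (iv D4471) (iv D3210) F11129
def n4472 : Q := act 9 n3211
theorem D4472 : act 9 n3211 = n4472 := rfl
theorem F21720 : act 0 n4472 = n4472 := d8_1 D4472 (iv D4472) F15554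
theorem F21721 : act 1 n4472 = n3302 := d16_1 D4472 (iv D3302) (iv F15555)
theorem F21722 : act 2 n4472 = n4212 := d23_1 D4472 (iv D4212) (iv F20150)
theorem F21723 : act 3 n4472 = n3213 := d29_1 D4472 (iv D3213) D3211
theorem F21724 : act 4 n4472 = n4203 := d34_1 D4472 (iv D4203) (iv F20151)
theorem F21725 : act 5 n4472 = n3219 := d38_1 D4472 (iv D3219) (iv F15556)
theorem F21726 : act 6 n4472 = n4201 := d41_1 D4472 (iv D4201) (iv F20152)
theorem F21727 : act 7 n4472 = n4472 := d43_1 D4472 (iv D4472) F15557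
def n4473 : Q := act 9 n3212
theorem D4473 : act 9 n3212 = n4473 := rfl
theorem F21728 : act 0 n4473 = n4473 := d8_1 D4473 (iv D4473) F15559
theorem F21729 : act 1 n4473 = n3305 := d16_1 D4473 (iv D3305) (iv F15560)
theorem F21730 : act 2 n4473 = n4473 := d23_1 D4473 (iv D4473) F15561
theorem F21731 : act 3 n4473 = n4201 := d29_1 D4473 (iv D4201) (iv F20153)
theorem F21732 : act 4 n4473 = n3215 := d34_1 D4473 (iv D3215) (iv F15562)
theorem F21733 : act 5 n4473 = n4079 := d38_1 D4473 (iv D4079) (iv F20154)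
theorem F21734 : act 6 n4473 = n3213 := d41_1 D4473 (iv D3213) D3212
theorem F21735 : act 7 n4473 = n4200 := d43_1 D4473 (iv D4200) (iv F20155)
def n4474 : Q := act 8 n3213
theorem D4474 : act 8 n3213 = n4474 := rfl
theorem F21736 : act 0 n4474 = n4474 := d7_1 D4474 (iv D4474) F15564
theorem F21737 : act 1 n4474 = n3306 := d15_1 D4474 (iv D3306) (iv F15565)
theorem F21738 : act 2 n4474 = n4474 := d22_1 D4474 (iv D4474) F15566
theorem F21739 : act 4 n4474 = n3216 := d33_1 D4474 (iv D3216) (iv F15567)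
theorem F21740 : act 7 n4474 = n4474 := d42_1 D4474 (iv D4474) F15569
theorem F21741 : act 9 n4474 = n4474 := d44_2 D3213 D4474 (iv D4474) (iv D3213) F11142
def n4475 : Q := act 8 n3215
theorem D4475 : act 8 n3215 = n4475 := rfl
theorem F21742 : act 0 n4475 = n4475 := d7_1 D4475 (iv D4475) F15576
theorem F21743 : act 1 n4475 = n3308 := d15_1 D4475 (iv D3308) (iv F15577)
theorem F21744 : act 2 n4475 = n4475 := d22_1 D4475 (iv D4475) F15578
theorem F21745 : act 3 n4475 = n4315 := d28_1 D4475 (iv D4315) F20382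
theorem F21746 : act 6 n4475 = n3216 := d40_1 D4475 (iv D3216) (iv F15580)
theorem F21747 : act 7 n4475 = n4314 := d42_1 D4475 (iv D4314) (iv F20383)
theorem F21748 : act 9 n4475 = n4475 := d44_2 D3215 D4475 (iv D4475) (iv D3215) F11147
def n4476 : Q := act 1 n3217
theorem D4476 : act 1 n3217 = n4476 := rfl
theorem F21749 : act 2 n4476 = n3309 := d9_2 D3217 D4476 (iv D3309) (iv D2320) (iv F11154)
theorem F21750 : act 3 n4476 = n4476 := d10_2 F15588 D4476 (iv D4476)
theorem F21751 : act 4 n4476 = n4476 := d11_2 F15589 D4476 (iv D4476)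
theorem F21752 : act 5 n4476 = n3934 := d12_2 (iv F20157) D4476 F18844
theorem F21753 : act 6 n4476 = n4101 := d13_2 (iv F20158) D4476 F19605
theorem F21754 : act 7 n4476 = n4476 := d14_2 F15590 D4476 (iv D4476)
theorem F21755 : act 8 n4476 = n3226 := d15_2 (iv F15591) D4476 (iv D3226)
def n4477 : Q := act 9 n3217
theorem D4477 : act 9 n3217 = n4477 := rfl
theorem F21756 : act 0 n4477 = n4477 := d8_1 D4477 (iv D4477) F15587
theorem F21757 : act 2 n4477 = n3219 := d23_1 D4477 (iv D3219) D3217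
theorem F21758 : act 3 n4477 = n4477 := d29_1 D4477 (iv D4477) F15588
theorem F21759 : act 4 n4477 = n4477 := d34_1 D4477 (iv D4477) F15589
theorem F21760 : act 5 n4477 = n4212 := d38_1 D4477 (iv D4212) (iv F20157)
theorem F21761 : act 6 n4477 = n4111 := d41_1 D4477 (iv D4111) (iv F20158)
theorem F21762 : act 7 n4477 = n4477 := d43_1 D4477 (iv D4477) F15590
def n4478 : Q := act 8 n3219
theorem D4478 : act 8 n3219 = n4478 := rfl
theorem F21763 : act 0 n4478 = n4478 := d7_1 D4478 (iv D4478) F15597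
theorem F21764 : act 1 n4478 = n3315 := d15_1 D4478 (iv D3315) (iv F15598)
theorem F21765 : act 3 n4478 = n3223 := d28_1 D4478 (iv D3223) (iv F15599)
theorem F21766 : act 4 n4478 = n4478 := d33_1 D4478 (iv D4478) F15600
theorem F21767 : act 6 n4478 = n4124 := d40_1 D4478 (iv D4124) (iv F20161)
theorem F21768 : act 7 n4478 = n4478 := d42_1 D4478 (iv D4478) F15601
theorem F21769 : act 9 n4478 = n3232 := d44_2 D3219 D4478 (iv D3232) (iv D2269) (iv F11157)
def n4479 : Q := act 5 n3223
theorem D4479 : act 5 n3223 = n4479 := rfl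
theorem F21770 : act 0 n4479 = n4479 := d4_1 D4479 (iv D4479) F15617
theorem F21771 : act 1 n4479 = n3321 := d12_1 D4479 (iv D3321) (iv F15618)
theorem F21772 : act 2 n4479 = n4479 := d19_1 D4479 (iv D4479) F15619
theorem F21773 : act 4 n4479 = n4479 := d30_1 D4479 (iv D4479) F15620 F11185 (iv F15620)
theorem F21774 : act 7 n4479 = n4479 := d36_2 F15621 D4479 (iv D4479)
theorem F21775 : act 9 n4479 = n3238 := d38_2 (iv F15622) D4479 (iv D3238)
def n4480 : Q := act 0 n3226
theorem D4480 : act 0 n3226 = n4480 := rfl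
theorem F21776 : act 1 n4480 = n4480 := d0_2 D3226 D4480 (iv D4480) (iv D3226) F11188
theorem F21777 : act 2 n4480 = n3324 := d1_2 (iv F15636) D4480 (iv D3324)
theorem F21778 : act 3 n4480 = n4480 := d2_2 F15637 D4480 (iv D4480)
theorem F21779 : act 4 n4480 = n4480 := d3_2 F15638 D4480 (iv D4480)
theorem F21780 : act 5 n4480 = n4480 := d4_2 F15639 D4480 (iv D4480)
theorem F21781 : act 6 n4480 = n4094 := d5_2 (iv F20171) D4480 F19568
theorem F21782 : act 7 n4480 = n4480 := d6_2 F15640 D4480 (iv D4480)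
def n4481 : Q := act 9 n3226
theorem D4481 : act 9 n3226 = n4481 := rfl
theorem F21783 : act 1 n4481 = n3228 := d16_1 D4481 (iv D3228) D3226
theorem F21784 : act 2 n4481 = n3326 := d23_1 D4481 (iv D3326) (iv F15636)
theorem F21785 : act 3 n4481 = n4481 := d29_1 D4481 (iv D4481) F15637
theorem F21786 : act 4 n4481 = n4481 := d34_1 D4481 (iv D4481) F15638
theorem F21787 : act 5 n4481 = n4481 := d38_1 D4481 (iv D4481) F15639
theorem F21788 : act 6 n4481 = n4102 := d41_1 D4481 (iv D4102) (iv F20171)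
theorem F21789 : act 7 n4481 = n4481 := d43_1 D4481 (iv D4481) F15640
def n4482 : Q := act 8 n3228
theorem D4482 : act 8 n3228 = n4482 := rfl
theorem F21790 : act 0 n4482 = n4482 := d7_1 D4482 (iv D4482) F15645
theorem F21791 : act 2 n4482 = n3232 := d22_1 D4482 (iv D3232) (iv F15646)
theorem F21792 : act 3 n4482 = n4482 := d28_1 D4482 (iv D4482) F15647
theorem F21793 : act 4 n4482 = n4482 := d33_1 D4482 (iv D4482) F15648
theorem F21794 : act 6 n4482 = n4112 := d40_1 D4482 (iv D4112) (iv F20173)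
theorem F21795 : act 7 n4482 = n4482 := d42_1 D4482 (iv D4482) F15650
def n4483 : Q := act 5 n3232
theorem D4483 : act 5 n3232 = n4483 := rfl
theorem F21796 : act 0 n4483 = n4483 := d4_1 D4483 (iv D4483) F15665
theorem F21797 : act 1 n4483 = n3337 := d12_1 D4483 (iv D3337) (iv F15666)
theorem F21798 : act 3 n4483 = n3238 := d25_1 D4483 (iv D3238) (iv F15667)
theorem F21799 : act 7 n4483 = n4483 := d36_2 F15669 D4483 (iv D4483)
theorem F21800 : act 8 n4483 = n4483 := d37_2 D3232 D4483 (iv D4483) (iv D3232) F11201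
def n4484 : Q := act 6 n3238
theorem D4484 : act 6 n3238 = n4484 := rfl
theorem F21801 : act 0 n4484 = n4484 := d5_1 D4484 (iv D4484) F15697
theorem F21802 : act 1 n4484 = n3345 := d13_1 D4484 (iv D3345) (iv F15698)
theorem F21803 : act 2 n4484 = n4484 := d20_1 D4484 (iv D4484) F15699
theorem F21804 : act 4 n4484 = n4484 := d31_1 D4484 (iv D4484) F15700
theorem F21805 : act 5 n4484 = n4142 := d35_1 D4484 (iv D4142) (iv D2905) F20178 D3238
theorem F21806 : act 8 n4484 = n4484 := d40_2 F15702 D4484 (iv D4484)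
def n4485 : Q := act 2 n3294
theorem D4485 : act 2 n3294 = n4485 := rfl
theorem F21807 : act 0 n4485 = n3588 := d1_1 D4485 (iv D3588) (iv F16002)
theorem F21808 : act 1 n4485 = n3927 := d9_1 D4485 F18815 F13417 (iv F14458) (iv F20395)
theorem F21809 : act 3 n4485 = n4485 := d17_2 D3294 D4485 (iv D4485) (iv D3294) F11431
theorem F21810 : act 4 n4485 = n3300 := d18_2 (iv F16003) D4485 (iv D3300)
theorem F21811 : act 5 n4485 = n4485 := d19_2 F16004 D4485 (iv D4485)
theorem F21812 : act 6 n4485 = n3919 := d20_2 F20394 D4485 F18780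
theorem F21813 : act 7 n4485 = n4485 := d21_2 F16005 D4485 (iv D4485)
theorem F21814 : act 8 n4485 = n4485 := d22_2 F16006 D4485 (iv D4485)
def n4486 : Q := act 9 n3294
theorem D4486 : act 9 n3294 = n4486 := rfl
theorem F21815 : act 0 n4486 = n3590 := d8_1 D4486 (iv D3590) (iv F16002)
theorem F21816 : act 1 n4486 = n4203 := d16_1 D4486 (iv D4203) (iv F20395)
theorem F21817 : act 3 n4486 = n3296 := d29_1 D4486 (iv D3296) D3294
theorem F21818 : act 4 n4486 = n3302 := d34_1 D4486 (iv D3302) (iv F16003)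
theorem F21819 : act 5 n4486 = n4486 := d38_1 D4486 (iv D4486) F16004
theorem F21820 : act 6 n4486 = n4194 := d41_1 D4486 (iv D4194) F20394
theorem F21821 : act 7 n4486 = n4486 := d43_1 D4486 (iv D4486) F16005
def n4487 : Q := act 8 n3296
theorem D4487 : act 8 n3296 = n4487 := rfl
theorem F21822 : act 0 n4487 = n3594 := d7_1 D4487 (iv D3594) (iv F16011)
theorem F21823 : act 1 n4487 = n4317 := d15_1 D4487 (iv D4317) (iv F20378)
theorem F21824 : act 2 n4487 = n4487 := d22_1 D4487 (iv D4487) F16012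
theorem F21825 : act 4 n4487 = n3299 := d33_1 D4487 (iv D3299) (iv F16013)
theorem F21826 : act 6 n4487 = n4306 := d40_1 D4487 (iv D4306) F20377
theorem F21827 : act 7 n4487 = n4487 := d42_1 D4487 (iv D4487) F16015
theorem F21828 : act 9 n4487 = n4487 := d44_2 D3296 D4487 (iv D4487) (iv D3296) F11434
def n4488 : Q := act 8 n3298
theorem D4488 : act 8 n3298 = n4488 := rfl
theorem F21829 : act 0 n4488 = n3596 := d7_1 D4488 (iv D3596) (iv F16022)
theorem F21830 : act 1 n4488 = n4315 := d15_1 D4488 (iv D4315) (iv F20375)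
theorem F21831 : act 2 n4488 = n4488 := d22_1 D4488 (iv D4488) F16023
theorem F21832 : act 3 n4488 = n3308 := d28_1 D4488 (iv D3308) (iv F16024)
theorem F21833 : act 4 n4488 = n4306 := d33_1 D4488 (iv D4306) (iv F20376)
theorem F21834 : act 6 n4488 = n3299 := d40_1 D4488 (iv D3299) (iv F16026)
theorem F21835 : act 7 n4488 = n4305 := d42_1 D4488 (iv D4305) F20374
theorem F21836 : act 9 n4488 = n4488 := d44_2 D3298 D4488 (iv D4488) (iv D3298) F11439
def n4489 : Q := act 1 n3300
theorem D4489 : act 1 n3300 = n4489 := rfl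
theorem F21837 : act 2 n4489 = n3934 := d9_2 D3300 D4489 F18844 (iv F20150) F15555
theorem F21838 : act 3 n4489 = n3406 := d10_2 (iv F16034) D4489 (iv D3406)
theorem F21839 : act 4 n4489 = n3927 := d11_2 F21810 D4489 (iv F21808)
theorem F21840 : act 5 n4489 = n3309 := d12_2 (iv F16035) D4489 (iv D3309)
theorem F21841 : act 7 n4489 = n4489 := d14_2 F16036 D4489 (iv D4489)
theorem F21842 : act 8 n4489 = n4489 := d15_2 F16037 D4489 (iv D4489)
theorem F21843 : act 6 n3925 = n4489 := d31_0 F21839 (iv D3927) (iv F18810)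
def n4490 : Q := act 6 n3300
theorem D4490 : act 6 n3300 = n4490 := rfl
theorem F21844 : act 0 n4490 = n3598 := d5_1 D4490 (iv D3598) (iv F16033)
theorem F21845 : act 1 n4490 = n3925 := d13_1 D4490 F21843 (iv D4489)
theorem F21846 : act 2 n4490 = n3301 := d20_1 D4490 (iv D3301) D3300
theorem F21847 : act 3 n4490 = n3407 := d26_1 D4490 (iv D3407) (iv F16034)
theorem F21848 : act 4 n4490 = n3919 := d31_1 D4490 (iv F21812) F21810
theorem F21849 : act 8 n4490 = n4490 := d40_2 F16037 D4490 (iv D4490)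
theorem F21850 : act 7 n3918 = n4490 := d32_0 F21848 (iv D3919) D3918
def n4491 : Q := act 9 n3300
theorem D4491 : act 9 n3300 = n4491 := rfl
theorem F21851 : act 0 n4491 = n3599 := d8_1 D4491 (iv D3599) (iv F16033)
theorem F21852 : act 2 n4491 = n3302 := d23_1 D4491 (iv D3302) D3300
theorem F21853 : act 3 n4491 = n3408 := d29_1 D4491 (iv D3408) (iv F16034)
theorem F21854 : act 5 n4491 = n3311 := d38_1 D4491 (iv D3311) (iv F16035)
theorem F21855 : act 7 n4491 = n4491 := d43_1 D4491 (iv D4491) F16036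
def n4492 : Q := act 5 n3301
theorem D4492 : act 5 n3301 = n4492 := rfl
theorem F21856 : act 0 n4492 = n3600 := d4_1 D4492 (iv D3600) (iv F16038)
theorem F21857 : act 1 n4492 = n4054 := d12_1 D4492 F19394 (iv F20392)
theorem F21858 : act 3 n4492 = n3303 := d25_1 D4492 (iv D3303) (iv F16039)
theorem F21859 : act 4 n4492 = n4048 := d30_1 D4492 F19369 F13800 (iv F14425) (iv F20393)
theorem F21860 : act 6 n4492 = n3312 := d35_2 D3301 D4492 (iv D3312) (iv D2321) (iv F11446)
theorem F21861 : act 7 n4492 = n4047 := d36_2 F20391 D4492 F19366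
theorem F21862 : act 8 n3794 = n4492 := d40_0 F21860 F20183 D3794
def n4493 : Q := act 9 n3301
theorem D4493 : act 9 n3301 = n4493 := rfl
theorem F21863 : act 0 n4493 = n3602 := d8_1 D4493 (iv D3602) (iv F16038)
theorem F21864 : act 1 n4493 = n4201 := d16_1 D4493 (iv D4201) (iv F20392)
theorem F21865 : act 3 n4493 = n3305 := d29_1 D4493 (iv D3305) (iv F16039)
theorem F21866 : act 4 n4493 = n4194 := d34_1 D4493 (iv D4194) (iv F20393)
theorem F21867 : act 6 n4493 = n3302 := d41_1 D4493 (iv D3302) D3301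
theorem F21868 : act 7 n4493 = n4193 := d43_1 D4493 (iv D4193) F20391
def n4494 : Q := act 8 n3302
theorem D4494 : act 8 n3302 = n4494 := rfl
theorem F21869 : act 0 n4494 = n3603 := d7_1 D4494 (iv D3603) (iv F16041)
theorem F21870 : act 3 n4494 = n3306 := d28_1 D4494 (iv D3306) (iv F16042)
theorem F21871 : act 7 n4494 = n4494 := d42_1 D4494 (iv D4494) F16044
theorem F21872 : act 9 n4494 = n4494 := d44_2 D3302 D4494 (iv D4494) (iv D3302) F11448
def n4495 : Q := act 7 n3303
theorem D4495 : act 7 n3303 = n4495 := rfl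
theorem F21873 : act 0 n4495 = n3604 := d6_1 D4495 (iv D3604) (iv F16045)
theorem F21874 : act 1 n4495 = n4030 := d14_1 D4495 F19285 (iv F20186)
theorem F21875 : act 2 n4495 = n3413 := d21_1 D4495 (iv D3413) (iv F16046)
theorem F21876 : act 3 n4495 = n4047 := d27_1 D4495 (iv F21861) F21858
theorem F21877 : act 4 n4495 = n4495 := d32_1 D4495 (iv D4495) F16047
theorem F21878 : act 5 n4495 = n3304 := d36_1 D4495 (iv D3304) D3303
theorem F21879 : act 6 n4495 = n3769 := d39_1 D4495 F18216 F12966 F20136 (iv F16048)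
theorem F21880 : act 8 n4495 = n3768 := d42_2 (iv F20187) D4495 F18212
def n4496 : Q := act 9 n3303
theorem D4496 : act 9 n3303 = n4496 := rfl
theorem F21881 : act 0 n4496 = n3606 := d8_1 D4496 (iv D3606) (iv F16045)
theorem F21882 : act 1 n4496 = n4079 := d16_1 D4496 (iv D4079) (iv F20186)
theorem F21883 : act 2 n4496 = n3415 := d23_1 D4496 (iv D3415) (iv F16046)
theorem F21884 : act 4 n4496 = n4496 := d34_1 D4496 (iv D4496) F16047
theorem F21885 : act 5 n4496 = n3305 := d38_1 D4496 (iv D3305) D3303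
theorem F21886 : act 6 n4496 = n3318 := d41_1 D4496 (iv D3318) (iv F16048)
def n4497 : Q := act 9 n3304
theorem D4497 : act 9 n3304 = n4497 := rfl
theorem F21887 : act 0 n4497 = n3607 := d8_1 D4497 (iv D3607) (iv F16049)
theorem F21888 : act 1 n4497 = n4200 := d16_1 D4497 (iv D4200) (iv F20396)
theorem F21889 : act 2 n4497 = n3416 := d23_1 D4497 (iv D3416) (iv F16050)
theorem F21890 : act 3 n4497 = n4193 := d29_1 D4497 (iv D4193) F20390
theorem F21891 : act 4 n4497 = n3307 := d34_1 D4497 (iv D3307) (iv F16051)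
theorem F21892 : act 6 n4497 = n4497 := d41_1 D4497 (iv D4497) F16052
theorem F21893 : act 7 n4497 = n3305 := d43_1 D4497 (iv D3305) D3304
def n4498 : Q := act 8 n3305
theorem D4498 : act 8 n3305 = n4498 := rfl
theorem F21894 : act 0 n4498 = n3608 := d7_1 D4498 (iv D3608) (iv F16054)
theorem F21895 : act 2 n4498 = n3417 := d22_1 D4498 (iv D3417) (iv F16055)
theorem F21896 : act 4 n4498 = n3308 := d33_1 D4498 (iv D3308) (iv F16056)
theorem F21897 : act 6 n4498 = n3306 := d40_1 D4498 (iv D3306) (iv F16057)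
theorem F21898 : act 9 n4498 = n4498 := d44_2 D3305 D4498 (iv D4498) (iv D3305) F11452
def n4499 : Q := act 5 n3306
theorem D4499 : act 5 n3306 = n4499 := rfl
theorem F21899 : act 0 n4499 = n3609 := d4_1 D4499 (iv D3609) (iv F16058)
theorem F21900 : act 2 n4499 = n3418 := d19_1 D4499 (iv D3418) (iv F16059)
theorem F21901 : act 4 n4499 = n4499 := d30_1 D4499 (iv D4499) F16060 F11469 (iv F16060)
theorem F21902 : act 7 n4499 = n4499 := d36_2 F16061 D4499 (iv D4499)
theorem F21903 : act 8 n4499 = n3321 := d37_2 D3306 D4499 (iv D3321) (iv D2326) (iv F11456)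
theorem F21904 : act 9 n4499 = n4499 := d38_2 F16062 D4499 (iv D4499)
def n4500 : Q := act 8 n3307
theorem D4500 : act 8 n3307 = n4500 := rfl
theorem F21905 : act 0 n4500 = n3610 := d7_1 D4500 (iv D3610) (iv F16063)
theorem F21906 : act 1 n4500 = n4314 := d15_1 D4500 (iv D4314) F20384
theorem F21907 : act 2 n4500 = n3419 := d22_1 D4500 (iv D3419) (iv F16064)
theorem F21908 : act 3 n4500 = n4305 := d28_1 D4500 (iv D4305) F20373
theorem F21909 : act 6 n4500 = n4500 := d40_1 D4500 (iv D4500) F16066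
theorem F21910 : act 7 n4500 = n3308 := d42_1 D4500 (iv D3308) (iv F16067)
theorem F21911 : act 9 n4500 = n4500 := d44_2 D3307 D4500 (iv D4500) (iv D3307) F11462
def n4501 : Q := act 5 n3308
theorem D4501 : act 5 n3308 = n4501 := rfl
theorem F21912 : act 0 n4501 = n3611 := d4_1 D4501 (iv D3611) (iv F16068)
theorem F21913 : act 2 n4501 = n3420 := d19_1 D4501 (iv D3420) (iv F16069)
theorem F21914 : act 6 n4501 = n4501 := d35_2 (iv F16070) D4501 (iv D4501) F16070 F11469
theorem F21915 : act 8 n4501 = n4501 := d37_2 D3308 D4501 (iv D4501) (iv D3308) F11465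
theorem F21916 : act 9 n4501 = n4501 := d38_2 F16071 D4501 (iv D4501)
def n4502 : Q := act 0 n3309
theorem D4502 : act 0 n3309 = n4502 := rfl
theorem F21917 : act 1 n4502 = n3612 := d0_2 D3309 D4502 (iv D3612) (iv D2530) (iv F11472)
theorem F21918 : act 3 n4502 = n3421 := d2_2 (iv F16072) D4502 (iv D3421)
theorem F21919 : act 4 n4502 = n4502 := d3_2 F16073 D4502 (iv D4502)
theorem F21920 : act 7 n4502 = n4502 := d6_2 F16074 D4502 (iv D4502)
theorem F21921 : act 8 n4502 = n3324 := d7_2 (iv F16075) D4502 (iv D3324)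
def n4503 : Q := act 6 n3309
theorem D4503 : act 6 n3309 = n4503 := rfl
theorem F21922 : act 1 n4503 = n3310 := d13_1 D4503 (iv D3310) D3309
theorem F21923 : act 2 n4503 = n4101 := d20_1 D4503 (iv F21753) F21749
theorem F21924 : act 3 n4503 = n3422 := d26_1 D4503 (iv D3422) (iv F16072)
theorem F21925 : act 4 n4503 = n4503 := d31_1 D4503 (iv D4503) F16073
theorem F21926 : act 8 n4503 = n3325 := d40_2 (iv F16075) D4503 (iv D3325)
theorem F21927 : act 7 n3821 = n4503 := d42_3 F21926 F20199 D3821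
def n4504 : Q := act 9 n3309
theorem D4504 : act 9 n3309 = n4504 := rfl
theorem F21928 : act 1 n4504 = n3311 := d16_1 D4504 (iv D3311) D3309
theorem F21929 : act 3 n4504 = n3423 := d29_1 D4504 (iv D3423) (iv F16072)
theorem F21930 : act 4 n4504 = n4504 := d34_1 D4504 (iv D4504) F16073
theorem F21931 : act 7 n4504 = n4504 := d43_1 D4504 (iv D4504) F16074
def n4505 : Q := act 5 n3310
theorem D4505 : act 5 n3310 = n4505 := rfl
theorem F21932 : act 0 n4505 = n3615 := d4_1 D4505 (iv D3615) (iv F16076)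
theorem F21933 : act 2 n4505 = n3312 := d19_1 D4505 (iv D3312) (iv F16077)
theorem F21934 : act 3 n4505 = n3424 := d25_1 D4505 (iv D3424) (iv F16078)
theorem F21935 : act 7 n4505 = n3786 := d36_2 (iv F20180) D4505 F18277
theorem F21936 : act 8 n4505 = n3785 := d37_2 (iv F16080) D4505 F18275 F13010 F20133
def n4506 : Q := act 9 n3310
theorem D4506 : act 9 n3310 = n4506 := rfl
theorem F21937 : act 0 n4506 = n3617 := d8_1 D4506 (iv D3617) (iv F16076)
theorem F21938 : act 2 n4506 = n3314 := d23_1 D4506 (iv D3314) (iv F16077)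
theorem F21939 : act 3 n4506 = n3426 := d29_1 D4506 (iv D3426) (iv F16078)
theorem F21940 : act 4 n4506 = n4506 := d34_1 D4506 (iv D4506) F16079
theorem F21941 : act 6 n4506 = n3311 := d41_1 D4506 (iv D3311) D3310
theorem F21942 : act 7 n4506 = n3829 := d43_1 D4506 (iv D3829) (iv F20180)
def n4507 : Q := act 8 n3311
theorem D4507 : act 8 n3311 = n4507 := rfl
theorem F21943 : act 0 n4507 = n3618 := d7_1 D4507 (iv D3618) (iv F16081)
theorem F21944 : act 2 n4507 = n3315 := d22_1 D4507 (iv D3315) (iv F16082)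
theorem F21945 : act 3 n4507 = n3427 := d28_1 D4507 (iv D3427) (iv F16083)
theorem F21946 : act 4 n4507 = n4507 := d33_1 D4507 (iv D4507) F16084
theorem F21947 : act 7 n4507 = n4507 := d42_1 D4507 (iv D4507) F16085
theorem F21948 : act 9 n4507 = n3330 := d44_2 D3311 D4507 (iv D3330) (iv D2331) (iv F11476)
def n4508 : Q := act 4 n3312
theorem D4508 : act 4 n3312 = n4508 := rfl
theorem F21949 : act 0 n4508 = n3619 := d3_1 D4508 (iv D3619) (iv F16086)
theorem F21950 : act 1 n4508 = n4056 := d11_1 D4508 F19404 (iv F20181)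
theorem F21951 : act 3 n4508 = n4508 := d24_1 D4508 (iv D4508) F16087 F11487 (iv F16087)
theorem F21952 : act 5 n4508 = n4508 := d30_2 D3312 D4508 (iv D4508) (iv D3312) F11479
theorem F21953 : act 6 n4508 = n4048 := d31_2 F21860 D4508 (iv F21859)
theorem F21954 : act 7 n4508 = n3792 := d32_2 (iv F20182) D4508 F18297
theorem F21955 : act 8 n4508 = n3791 := d33_2 (iv F20183) D4508 F18293
def n4509 : Q := act 9 n3312
theorem D4509 : act 9 n3312 = n4509 := rfl
theorem F21956 : act 0 n4509 = n3622 := d8_1 D4509 (iv D3622) (iv F16086)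
theorem F21957 : act 1 n4509 = n4069 := d16_1 D4509 (iv D4069) (iv F20181)
theorem F21958 : act 3 n4509 = n3318 := d29_1 D4509 (iv D3318) (iv F16087)
theorem F21959 : act 5 n4509 = n3314 := d38_1 D4509 (iv D3314) D3312
theorem F21960 : act 7 n4509 = n3797 := d43_1 D4509 (iv D3797) (iv F20182)
def n4510 : Q := act 8 n3314
theorem D4510 : act 8 n3314 = n4510 := rfl
theorem F21961 : act 0 n4510 = n3624 := d7_1 D4510 (iv D3624) (iv F16093)
theorem F21962 : act 1 n4510 = n4124 := d15_1 D4510 (iv D4124) (iv F20184)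
theorem F21963 : act 3 n4510 = n3320 := d28_1 D4510 (iv D3320) (iv F16094)
theorem F21964 : act 4 n4510 = n4510 := d33_1 D4510 (iv D4510) F16095
theorem F21965 : act 6 n4510 = n3315 := d40_1 D4510 (iv D3315) (iv F16096)
theorem F21966 : act 7 n4510 = n3839 := d42_1 D4510 (iv D3839) (iv F20185)
theorem F21967 : act 9 n4510 = n3336 := d44_2 D3314 D4510 (iv D3336) (iv D2334) (iv F11480)
def n4511 : Q := act 5 n3315
theorem D4511 : act 5 n3315 = n4511 := rfl
theorem F21968 : act 0 n4511 = n3625 := d4_1 D4511 (iv D3625) (iv F16097)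
theorem F21969 : act 3 n4511 = n3321 := d25_1 D4511 (iv D3321) (iv F16098)
theorem F21970 : act 7 n4511 = n4511 := d36_2 F16100 D4511 (iv D4511)
theorem F21971 : act 9 n4511 = n3337 := d38_2 (iv F16101) D4511 (iv D3337)
def n4512 : Q := act 8 n3318
theorem D4512 : act 8 n3318 = n4512 := rfl
theorem F21972 : act 0 n4512 = n3630 := d7_1 D4512 (iv D3630) (iv F16110)
theorem F21973 : act 1 n4512 = n4081 := d15_1 D4512 (iv D4081) (iv F20188)
theorem F21974 : act 2 n4512 = n3439 := d22_1 D4512 (iv D3439) (iv F16111)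
theorem F21975 : act 4 n4512 = n4512 := d33_1 D4512 (iv D4512) F16112
theorem F21976 : act 7 n4512 = n3807 := d42_1 D4512 (iv D3807) (iv F20189)
theorem F21977 : act 9 n4512 = n3806 := d44_2 D3318 D4512 (iv D3806) (iv D2658) F20142
def n4513 : Q := act 5 n3320
theorem D4513 : act 5 n3320 = n4513 := rfl
theorem F21978 : act 0 n4513 = n3632 := d4_1 D4513 (iv D3632) (iv F16119)
theorem F21979 : act 1 n4513 = n4140 := d12_1 D4513 (iv D4140) (iv F20190)
theorem F21980 : act 2 n4513 = n3441 := d19_1 D4513 (iv D3441) (iv F16120)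
theorem F21981 : act 7 n4513 = n3851 := d36_2 (iv F20191) D4513 (iv D3851)
theorem F21982 : act 9 n4513 = n3344 := d38_2 (iv F16123) D4513 (iv D3344)
def n4514 : Q := act 6 n3321
theorem D4514 : act 6 n3321 = n4514 := rfl
theorem F21983 : act 0 n4514 = n3633 := d5_1 D4514 (iv D3633) (iv F16124)
theorem F21984 : act 2 n4514 = n3442 := d20_1 D4514 (iv D3442) (iv F16125)
theorem F21985 : act 4 n4514 = n4514 := d31_1 D4514 (iv D4514) F16126
theorem F21986 : act 9 n4514 = n3345 := d41_2 (iv F16128) D4514 (iv D3345)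
def n4515 : Q := act 4 n3323
theorem D4515 : act 4 n3323 = n4515 := rfl
theorem F21987 : act 0 n4515 = n3635 := d3_1 D4515 (iv D3635) (iv F16135)
theorem F21988 : act 1 n4515 = n4164 := d11_1 D4515 (iv D4164) (iv F20194)
theorem F21989 : act 2 n4515 = n3444 := d18_1 D4515 (iv D3444) (iv F16136)
theorem F21990 : act 6 n4515 = n4515 := d31_2 F16138 D4515 (iv D4515)
theorem F21991 : act 7 n4515 = n3869 := d32_2 (iv F20195) D4515 (iv D3869)
theorem F21992 : act 8 n4515 = n4515 := d33_2 F16139 D4515 (iv D4515)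
theorem F21993 : act 9 n4515 = n3347 := d34_2 (iv F16140) D4515 (iv D3347)
def n4516 : Q := act 6 n3324
theorem D4516 : act 6 n3324 = n4516 := rfl
theorem F21994 : act 0 n4516 = n3325 := d5_1 D4516 (iv D3325) D3324
theorem F21995 : act 1 n4516 = n3636 := d13_1 D4516 (iv D3636) (iv F16141)
theorem F21996 : act 2 n4516 = n4094 := d20_1 D4516 (iv F21781) F21777
theorem F21997 : act 3 n4516 = n3445 := d26_1 D4516 (iv D3445) (iv F16142)
theorem F21998 : act 4 n4516 = n4516 := d31_1 D4516 (iv D4516) F16143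
theorem F21999 : act 5 n3817 = n4516 := d19_0 F21996 F19572 (iv F18388)
theorem F22000 : act 7 n3816 = n4516 := d21_0 F21996 (iv D4094) (iv F18384)
def n4517 : Q := act 9 n3324
theorem D4517 : act 9 n3324 = n4517 := rfl
theorem F22001 : act 0 n4517 = n3326 := d8_1 D4517 (iv D3326) D3324
theorem F22002 : act 1 n4517 = n3637 := d16_1 D4517 (iv D3637) (iv F16141)
theorem F22003 : act 3 n4517 = n3446 := d29_1 D4517 (iv D3446) (iv F16142)
theorem F22004 : act 4 n4517 = n4517 := d34_1 D4517 (iv D4517) F16143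
theorem F22005 : act 5 n4517 = n4517 := d38_1 D4517 (iv D4517) F16144
theorem F22006 : act 7 n4517 = n4517 := d43_1 D4517 (iv D4517) F16145
def n4518 : Q := act 9 n3325
theorem D4518 : act 9 n3325 = n4518 := rfl
theorem F22007 : act 1 n4518 = n3329 := d16_1 D4518 (iv D3329) (iv F16146)
theorem F22008 : act 2 n4518 = n4102 := d23_1 D4518 (iv D4102) (iv F20197)
theorem F22009 : act 3 n4518 = n3449 := d29_1 D4518 (iv D3449) (iv F16147)
theorem F22010 : act 4 n4518 = n4518 := d34_1 D4518 (iv D4518) F16148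
theorem F22011 : act 5 n4518 = n3823 := d38_1 D4518 (iv D3823) (iv F20198)
theorem F22012 : act 6 n4518 = n3326 := d41_1 D4518 (iv D3326) D3325
theorem F22013 : act 7 n4518 = n3822 := d43_1 D4518 (iv D3822) (iv F20199)
def n4519 : Q := act 8 n3326
theorem D4519 : act 8 n3326 = n4519 := rfl
theorem F22014 : act 1 n4519 = n3330 := d15_1 D4519 (iv D3330) (iv F16149)
theorem F22015 : act 3 n4519 = n3450 := d28_1 D4519 (iv D3450) (iv F16150)
theorem F22016 : act 4 n4519 = n4519 := d33_1 D4519 (iv D4519) F16151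
theorem F22017 : act 7 n4519 = n4519 := d42_1 D4519 (iv D4519) F16153
def n4520 : Q := act 8 n3329
theorem D4520 : act 8 n3329 = n4520 := rfl
theorem F22018 : act 0 n4520 = n3647 := d7_1 D4520 (iv D3647) (iv F16163)
theorem F22019 : act 2 n4520 = n3336 := d22_1 D4520 (iv D3336) (iv F16164)
theorem F22020 : act 3 n4520 = n3455 := d28_1 D4520 (iv D3455) (iv F16165)
theorem F22021 : act 4 n4520 = n4520 := d33_1 D4520 (iv D4520) F16166
theorem F22022 : act 6 n4520 = n3330 := d40_1 D4520 (iv D3330) (iv F16167)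
theorem F22023 : act 7 n4520 = n3830 := d42_1 D4520 (iv D3830) (iv F20201)
def n4521 : Q := act 5 n3330
theorem D4521 : act 5 n3330 = n4521 := rfl
theorem F22024 : act 0 n4521 = n3648 := d4_1 D4521 (iv D3648) (iv F16168)
theorem F22025 : act 2 n4521 = n3337 := d19_1 D4521 (iv D3337) (iv F16169)
theorem F22026 : act 3 n4521 = n3456 := d25_1 D4521 (iv D3456) (iv F16170)
theorem F22027 : act 7 n4521 = n4521 := d36_2 F16172 D4521 (iv D4521)
theorem F22028 : act 8 n4521 = n4521 := d37_2 D3330 D4521 (iv D4521) (iv D3330) F11525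
def n4522 : Q := act 5 n3336
theorem D4522 : act 5 n3336 = n4522 := rfl
theorem F22029 : act 0 n4522 = n3658 := d4_1 D4522 (iv D3658) (iv F16192)
theorem F22030 : act 1 n4522 = n4125 := d12_1 D4522 (iv D4125) (iv F20202)
theorem F22031 : act 3 n4522 = n3344 := d25_1 D4522 (iv D3344) (iv F16193)
theorem F22032 : act 7 n4522 = n3840 := d36_2 (iv F20203) D4522 (iv D3840)
theorem F22033 : act 8 n4522 = n3841 := d37_2 D3336 D4522 (iv D3841) (iv D2683) F20134
def n4523 : Q := act 4 n3337
theorem D4523 : act 4 n3337 = n4523 := rfl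
theorem F22034 : act 0 n4523 = n3659 := d3_1 D4523 (iv D3659) (iv F16196)
theorem F22035 : act 3 n4523 = n4523 := d24_1 D4523 (iv D4523) F16197 F11566 (iv F16197)
theorem F22036 : act 5 n4523 = n4523 := d30_2 D3337 D4523 (iv D4523) (iv D3337) F11540
theorem F22037 : act 7 n4523 = n4523 := d32_2 F16198 D4523 (iv D4523)
theorem F22038 : act 8 n4523 = n4523 := d33_2 F16199 D4523 (iv D4523)
def n4524 : Q := act 6 n3337
theorem D4524 : act 6 n3337 = n4524 := rfl
theorem F22039 : act 0 n4524 = n3660 := d5_1 D4524 (iv D3660) (iv F16196)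
theorem F22040 : act 3 n4524 = n3345 := d26_1 D4524 (iv D3345) (iv F16197)
theorem F22041 : act 8 n4524 = n4524 := d40_2 F16199 D4524 (iv D4524)
def n4525 : Q := act 4 n3344
theorem D4525 : act 4 n3344 = n4525 := rfl
theorem F22042 : act 0 n4525 = n3668 := d3_1 D4525 (iv D3668) (iv F16227)
theorem F22043 : act 1 n4525 = n4141 := d11_1 D4525 (iv D4141) (iv F20204)
theorem F22044 : act 2 n4525 = n3473 := d18_1 D4525 (iv D3473) (iv F16228)
theorem F22045 : act 5 n4525 = n3347 := d30_2 D3344 D4525 (iv D3347) (iv D2343) (iv F11562)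
theorem F22046 : act 7 n4525 = n3852 := d32_2 (iv F20205) D4525 (iv D3852)
theorem F22047 : act 8 n4525 = n3854 := d33_2 (iv F20206) D4525 (iv D3854)
def n4526 : Q := act 6 n3344
theorem D4526 : act 6 n3344 = n4526 := rfl
theorem F22048 : act 0 n4526 = n3669 := d5_1 D4526 (iv D3669) (iv F16227)
theorem F22049 : act 1 n4526 = n4142 := d13_1 D4526 (iv D4142) (iv F20204)
theorem F22050 : act 2 n4526 = n3474 := d20_1 D4526 (iv D3474) (iv F16228)
theorem F22051 : act 5 n4526 = n3345 := d35_1 D4526 (iv D3345) (iv D2341) (iv F11563) D3344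
theorem F22052 : act 8 n4526 = n3855 := d40_2 (iv F20206) D4526 (iv D3855)
def n4527 : Q := act 7 n3345
theorem D4527 : act 7 n3345 = n4527 := rfl
theorem F22053 : act 0 n4527 = n3670 := d6_1 D4527 (iv D3670) (iv F16229)
theorem F22054 : act 2 n4527 = n3475 := d21_1 D4527 (iv D3475) (iv F16230)
theorem F22055 : act 4 n4527 = n4527 := d32_1 D4527 (iv D4527) F16231
theorem F22056 : act 6 n4527 = n4527 := d39_1 D4527 (iv D4527) (iv D3345) F11567 D3345
theorem F22057 : act 8 n4527 = n4527 := d42_2 F16232 D4527 (iv D4527)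
def n4528 : Q := act 3 n3347
theorem D4528 : act 3 n3347 = n4528 := rfl
theorem F22058 : act 0 n4528 = n3673 := d2_1 D4528 (iv D3673) (iv F16238)
theorem F22059 : act 1 n4528 = n4166 := d10_1 D4528 (iv D4166) (iv F20209)
theorem F22060 : act 4 n4528 = n4528 := d24_2 D3347 D4528 (iv D4528) (iv D3347) F11576
theorem F22061 : act 6 n4528 = n4528 := d26_2 F16240 D4528 (iv D4528)
theorem F22062 : act 7 n4528 = n3871 := d27_2 (iv F20210) D4528 (iv D3871)
theorem F22063 : act 8 n4528 = n3372 := d28_2 (iv F16241) D4528 (iv D3372)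
def n4529 : Q := act 2 n3372
theorem D4529 : act 2 n3372 = n4529 := rfl
theorem F22064 : act 0 n4529 = n3706 := d1_1 D4529 (iv D3706) (iv F16353)
theorem F22065 : act 3 n4529 = n3494 := d17_2 D3372 D4529 (iv D3494) (iv D2445) (iv F11654)
theorem F22066 : act 4 n4529 = n4529 := d18_2 F16354 D4529 (iv D4529)
theorem F22067 : act 5 n4529 = n3880 := d19_2 (iv F20296) D4529 (iv D3880)
theorem F22068 : act 6 n4529 = n4529 := d20_2 F16355 D4529 (iv D4529)
theorem F22069 : act 7 n4529 = n3877 := d21_2 (iv F20297) D4529 (iv D3877)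
theorem F22070 : act 9 n4529 = n4529 := d23_2 F16356 D4529 (iv D4529)
def n4530 : Q := act 0 n3406
theorem D4530 : act 0 n3406 = n4530 := rfl
theorem F22071 : act 1 n4530 = n3754 := d0_2 D3406 D4530 (iv D3754) (iv D2627) (iv F11777)
theorem F22072 : act 2 n4530 = n4530 := d1_2 F16513 D4530 (iv D4530)
theorem F22073 : act 4 n4530 = n4530 := d3_2 F16514 D4530 (iv D4530)
theorem F22074 : act 5 n4530 = n3421 := d4_2 (iv F16515) D4530 (iv D3421)
theorem F22075 : act 7 n4530 = n4530 := d6_2 F16516 D4530 (iv D4530)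
theorem F22076 : act 8 n4530 = n4530 := d7_2 F16517 D4530 (iv D4530)
def n4531 : Q := act 6 n3406
theorem D4531 : act 6 n3406 = n4531 := rfl
theorem F22077 : act 1 n4531 = n3407 := d13_1 D4531 (iv D3407) D3406
theorem F22078 : act 2 n4531 = n4531 := d20_1 D4531 (iv D4531) F16513
theorem F22079 : act 3 n4531 = n3925 := d26_1 D4531 F21843 F21838
theorem F22080 : act 4 n4531 = n4531 := d31_1 D4531 (iv D4531) F16514
theorem F22081 : act 8 n4531 = n4531 := d40_2 F16517 D4531 (iv D4531)
theorem F22082 : act 7 n3924 = n4531 := d27_0 F22079 (iv D3925) D3924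
def n4532 : Q := act 9 n3406
theorem D4532 : act 9 n3406 = n4532 := rfl
theorem F22083 : act 1 n4532 = n3408 := d16_1 D4532 (iv D3408) D3406
theorem F22084 : act 2 n4532 = n4532 := d23_1 D4532 (iv D4532) F16513
theorem F22085 : act 4 n4532 = n4532 := d34_1 D4532 (iv D4532) F16514
theorem F22086 : act 5 n4532 = n3423 := d38_1 D4532 (iv D3423) (iv F16515)
theorem F22087 : act 7 n4532 = n4532 := d43_1 D4532 (iv D4532) F16516
def n4533 : Q := act 5 n3407
theorem D4533 : act 5 n3407 = n4533 := rfl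
theorem F22088 : act 0 n4533 = n3757 := d4_1 D4533 (iv D3757) (iv F16518)
theorem F22089 : act 2 n4533 = n3409 := d19_1 D4533 (iv D3409) (iv F16519)
theorem F22090 : act 6 n4533 = n3424 := d35_2 D3407 D4533 (iv D3424) (iv D2396) (iv F11779)
def n4534 : Q := act 7 n3407
theorem D4534 : act 7 n3407 = n4534 := rfl
theorem F22091 : act 0 n4534 = n3758 := d6_1 D4534 (iv D3758) (iv F16518)
theorem F22092 : act 1 n4534 = n3924 := d14_1 D4534 F22082 F22077
theorem F22093 : act 2 n4534 = n3410 := d21_1 D4534 (iv D3410) (iv F16519)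
theorem F22094 : act 3 n4534 = n3918 := d27_1 D4534 F21850 F21847
theorem F22095 : act 4 n4534 = n4534 := d32_1 D4534 (iv D4534) F16520
theorem F22096 : act 6 n4534 = n4534 := d39_1 D4534 (iv D4534) (iv D3407) F11780 D3407
theorem F22097 : act 8 n4534 = n4534 := d42_2 F16521 D4534 (iv D4534)
def n4535 : Q := act 9 n3407
theorem D4535 : act 9 n3407 = n4535 := rfl
theorem F22098 : act 0 n4535 = n3759 := d8_1 D4535 (iv D3759) (iv F16518)
theorem F22099 : act 2 n4535 = n3411 := d23_1 D4535 (iv D3411) (iv F16519)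
theorem F22100 : act 4 n4535 = n4535 := d34_1 D4535 (iv D4535) F16520
theorem F22101 : act 6 n4535 = n3408 := d41_1 D4535 (iv D3408) D3407
def n4536 : Q := act 8 n3408
theorem D4536 : act 8 n3408 = n4536 := rfl
theorem F22102 : act 0 n4536 = n3760 := d7_1 D4536 (iv D3760) (iv F16522)
theorem F22103 : act 2 n4536 = n3412 := d22_1 D4536 (iv D3412) (iv F16523)
theorem F22104 : act 4 n4536 = n4536 := d33_1 D4536 (iv D4536) F16524
theorem F22105 : act 7 n4536 = n4536 := d42_1 D4536 (iv D4536) F16526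
theorem F22106 : act 9 n4536 = n4536 := d44_2 D3408 D4536 (iv D4536) (iv D3408) F11781
def n4537 : Q := act 4 n3409
theorem D4537 : act 4 n3409 = n4537 := rfl
theorem F22107 : act 0 n4537 = n3761 := d3_1 D4537 (iv D3761) (iv F16527)
theorem F22108 : act 1 n4537 = n4537 := d11_1 D4537 (iv D4537) F16528
theorem F22109 : act 3 n4537 = n4537 := d24_1 D4537 (iv D4537) F16529 F11795 (iv F16529)
theorem F22110 : act 5 n4537 = n4537 := d30_2 D3409 D4537 (iv D4537) (iv D3409) F11785
theorem F22111 : act 6 n4537 = n3428 := d31_2 (iv F16530) D4537 (iv D3428)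
def n4538 : Q := act 7 n3409
theorem D4538 : act 7 n3409 = n4538 := rfl
theorem F22112 : act 0 n4538 = n3762 := d6_1 D4538 (iv D3762) (iv F16527)
theorem F22113 : act 1 n4538 = n4538 := d14_1 D4538 (iv D4538) F16528
theorem F22114 : act 3 n4538 = n3413 := d27_1 D4538 (iv D3413) (iv F16529)
theorem F22115 : act 5 n4538 = n3410 := d36_1 D4538 (iv D3410) D3409
def n4539 : Q := act 8 n3409
theorem D4539 : act 8 n3409 = n4539 := rfl
theorem F22116 : act 0 n4539 = n3763 := d7_1 D4539 (iv D3763) (iv F16527)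
theorem F22117 : act 1 n4539 = n4539 := d15_1 D4539 (iv D4539) F16528
theorem F22118 : act 3 n4539 = n3414 := d28_1 D4539 (iv D3414) (iv F16529)
theorem F22119 : act 5 n4539 = n4539 := d37_1 D4539 (iv D4539) (iv D3409) F11786 D3409
theorem F22120 : act 6 n4539 = n3430 := d40_1 D4539 (iv D3430) (iv F16530)
def n4540 : Q := act 9 n3409
theorem D4540 : act 9 n3409 = n4540 := rfl
theorem F22121 : act 0 n4540 = n3764 := d8_1 D4540 (iv D3764) (iv F16527)
theorem F22122 : act 1 n4540 = n4540 := d16_1 D4540 (iv D4540) F16528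
theorem F22123 : act 3 n4540 = n3415 := d29_1 D4540 (iv D3415) (iv F16529)
theorem F22124 : act 5 n4540 = n3411 := d38_1 D4540 (iv D3411) D3409
theorem F22125 : act 6 n4540 = n3431 := d41_1 D4540 (iv D3431) (iv F16530)
def n4541 : Q := act 9 n3410
theorem D4541 : act 9 n3410 = n4541 := rfl
theorem F22126 : act 0 n4541 = n3765 := d8_1 D4541 (iv D3765) (iv F16531)
theorem F22127 : act 1 n4541 = n4541 := d16_1 D4541 (iv D4541) F16532
theorem F22128 : act 3 n4541 = n3416 := d29_1 D4541 (iv D3416) (iv F16533)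
theorem F22129 : act 4 n4541 = n4541 := d34_1 D4541 (iv D4541) F16534
theorem F22130 : act 6 n4541 = n4541 := d41_1 D4541 (iv D4541) F16535
theorem F22131 : act 7 n4541 = n3411 := d43_1 D4541 (iv D3411) D3410
def n4542 : Q := act 8 n3411
theorem D4542 : act 8 n3411 = n4542 := rfl
theorem F22132 : act 0 n4542 = n3766 := d7_1 D4542 (iv D3766) (iv F16537)
theorem F22133 : act 1 n4542 = n4542 := d15_1 D4542 (iv D4542) F16538
theorem F22134 : act 3 n4542 = n3417 := d28_1 D4542 (iv D3417) (iv F16539)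
theorem F22135 : act 4 n4542 = n4542 := d33_1 D4542 (iv D4542) F16540
theorem F22136 : act 6 n4542 = n3412 := d40_1 D4542 (iv D3412) (iv F16541)
theorem F22137 : act 9 n4542 = n4542 := d44_2 D3411 D4542 (iv D4542) (iv D3411) F11786
def n4543 : Q := act 5 n3412
theorem D4543 : act 5 n3412 = n4543 := rfl
theorem F22138 : act 0 n4543 = n3767 := d4_1 D4543 (iv D3767) (iv F16542)
theorem F22139 : act 1 n4543 = n4543 := d12_1 D4543 (iv D4543) F16543
theorem F22140 : act 3 n4543 = n3418 := d25_1 D4543 (iv D3418) (iv F16544)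
theorem F22141 : act 7 n4543 = n4543 := d36_2 F16546 D4543 (iv D4543)
theorem F22142 : act 8 n4543 = n3434 := d37_2 D3412 D4543 (iv D3434) (iv D2401) (iv F11791)
theorem F22143 : act 9 n4543 = n4543 := d38_2 F16547 D4543 (iv D4543)
def n4544 : Q := act 6 n3413
theorem D4544 : act 6 n3413 = n4544 := rfl
theorem F22144 : act 0 n4544 = n3768 := d5_1 D4544 (iv D3768) (iv F16548)
theorem F22145 : act 1 n4544 = n4544 := d13_1 D4544 (iv D4544) F16549
theorem F22146 : act 2 n4544 = n3769 := d20_1 D4544 (iv F21879) F21875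
theorem F22147 : act 4 n4544 = n4544 := d31_1 D4544 (iv D4544) F16550
theorem F22148 : act 5 n4544 = n4544 := d35_1 D4544 (iv D4544) F16551 F11800 (iv F16551)
theorem F22149 : act 7 n4544 = n3435 := d39_2 D3413 D4544 (iv D3435) (iv D2402) (iv F11796)
theorem F22150 : act 8 n3604 = n4544 := d42_0 F22149 F20214 D3604
def n4545 : Q := act 8 n3413
theorem D4545 : act 8 n3413 = n4545 := rfl
theorem F22151 : act 0 n4545 = n3769 := d7_1 D4545 (iv D3769) (iv F16548)
theorem F22152 : act 1 n4545 = n4545 := d15_1 D4545 (iv D4545) F16549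
theorem F22153 : act 2 n4545 = n3768 := d22_1 D4545 (iv F21880) F21875
theorem F22154 : act 4 n4545 = n4545 := d33_1 D4545 (iv D4545) F16550
theorem F22155 : act 5 n4545 = n4545 := d37_1 D4545 (iv D4545) F16551 F11801 (iv F16551)
theorem F22156 : act 6 n4545 = n3604 := d40_1 D4545 F22150 (iv D4544)
theorem F22157 : act 7 n4545 = n3414 := d42_1 D4545 (iv D3414) D3413
def n4546 : Q := act 9 n3413
theorem D4546 : act 9 n3413 = n4546 := rfl
theorem F22158 : act 0 n4546 = n3770 := d8_1 D4546 (iv D3770) (iv F16548)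
theorem F22159 : act 1 n4546 = n4546 := d16_1 D4546 (iv D4546) F16549
theorem F22160 : act 4 n4546 = n4546 := d34_1 D4546 (iv D4546) F16550
theorem F22161 : act 5 n4546 = n3416 := d38_1 D4546 (iv D3416) (iv F16551)
theorem F22162 : act 7 n4546 = n3415 := d43_1 D4546 (iv D3415) D3413
def n4547 : Q := act 9 n3414
theorem D4547 : act 9 n3414 = n4547 := rfl
theorem F22163 : act 0 n4547 = n3771 := d8_1 D4547 (iv D3771) (iv F16552)
theorem F22164 : act 1 n4547 = n4547 := d16_1 D4547 (iv D4547) F16553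
theorem F22165 : act 2 n4547 = n3804 := d23_1 D4547 (iv D3804) (iv F20217)
theorem F22166 : act 4 n4547 = n4547 := d34_1 D4547 (iv D4547) F16554
theorem F22167 : act 5 n4547 = n4547 := d38_1 D4547 (iv D4547) F16555
theorem F22168 : act 6 n4547 = n3438 := d41_1 D4547 (iv D3438) (iv F16556)
def n4548 : Q := act 8 n3415
theorem D4548 : act 8 n3415 = n4548 := rfl
theorem F22169 : act 0 n4548 = n3772 := d7_1 D4548 (iv D3772) (iv F16557)
theorem F22170 : act 1 n4548 = n4548 := d15_1 D4548 (iv D4548) F16558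
theorem F22171 : act 4 n4548 = n4548 := d33_1 D4548 (iv D4548) F16559
theorem F22172 : act 6 n4548 = n3439 := d40_1 D4548 (iv D3439) (iv F16561)
def n4549 : Q := act 8 n3416
theorem D4549 : act 8 n3416 = n4549 := rfl
theorem F22173 : act 0 n4549 = n3773 := d7_1 D4549 (iv D3773) (iv F16562)
theorem F22174 : act 1 n4549 = n4549 := d15_1 D4549 (iv D4549) F16563
theorem F22175 : act 4 n4549 = n3419 := d33_1 D4549 (iv D3419) (iv F16564)
theorem F22176 : act 6 n4549 = n4549 := d40_1 D4549 (iv D4549) F16565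
theorem F22177 : act 7 n4549 = n3417 := d42_1 D4549 (iv D3417) (iv F16566)
theorem F22178 : act 9 n4549 = n4549 := d44_2 D3416 D4549 (iv D4549) (iv D3416) F11801
def n4550 : Q := act 5 n3417
theorem D4550 : act 5 n3417 = n4550 := rfl
theorem F22179 : act 0 n4550 = n3774 := d4_1 D4550 (iv D3774) (iv F16567)
theorem F22180 : act 1 n4550 = n4550 := d12_1 D4550 (iv D4550) F16568
theorem F22181 : act 9 n4550 = n4550 := d38_2 F16571 D4550 (iv D4550)
def n4551 : Q := act 6 n3418
theorem D4551 : act 6 n3418 = n4551 := rfl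
theorem F22182 : act 0 n4551 = n3775 := d5_1 D4551 (iv D3775) (iv F16572)
theorem F22183 : act 1 n4551 = n4551 := d13_1 D4551 (iv D4551) F16573
theorem F22184 : act 4 n4551 = n4551 := d31_1 D4551 (iv D4551) F16574
theorem F22185 : act 8 n4551 = n3442 := d40_2 (iv F16576) D4551 (iv D3442)
theorem F22186 : act 9 n4551 = n4551 := d41_2 F16577 D4551 (iv D4551)
def n4552 : Q := act 5 n3419
theorem D4552 : act 5 n3419 = n4552 := rfl
theorem F22187 : act 0 n4552 = n3776 := d4_1 D4552 (iv D3776) (iv F16578)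
theorem F22188 : act 1 n4552 = n4552 := d12_1 D4552 (iv D4552) F16579
theorem F22189 : act 3 n4552 = n4552 := d25_1 D4552 (iv D4552) F16580
theorem F22190 : act 7 n4552 = n3420 := d36_2 (iv F16582) D4552 (iv D3420)
theorem F22191 : act 8 n4552 = n4552 := d37_2 D3419 D4552 (iv D4552) (iv D3419) F11814
theorem F22192 : act 9 n4552 = n4552 := d38_2 F16583 D4552 (iv D4552)
def n4553 : Q := act 4 n3420
theorem D4553 : act 4 n3420 = n4553 := rfl
theorem F22193 : act 0 n4553 = n3777 := d3_1 D4553 (iv D3777) (iv F16584)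
theorem F22194 : act 1 n4553 = n4553 := d11_1 D4553 (iv D4553) F16585
theorem F22195 : act 6 n4553 = n4553 := d31_2 F16587 D4553 (iv D4553)
theorem F22196 : act 8 n4553 = n4553 := d33_2 F16588 D4553 (iv D4553)
theorem F22197 : act 9 n4553 = n4553 := d34_2 F16589 D4553 (iv D4553)
def n4554 : Q := act 6 n3421
theorem D4554 : act 6 n3421 = n4554 := rfl
theorem F22198 : act 0 n4554 = n3422 := d5_1 D4554 (iv D3422) D3421
theorem F22199 : act 1 n4554 = n3778 := d13_1 D4554 (iv D3778) (iv F16590)
theorem F22200 : act 2 n4554 = n4554 := d20_1 D4554 (iv D4554) F16591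
theorem F22201 : act 4 n4554 = n3517 := d31_1 D4554 (iv D3517) (iv F16592)
theorem F22202 : act 8 n4554 = n3445 := d40_2 (iv F16594) D4554 (iv D3445)
def n4555 : Q := act 9 n3421
theorem D4555 : act 9 n3421 = n4555 := rfl
theorem F22203 : act 0 n4555 = n3423 := d8_1 D4555 (iv D3423) D3421
theorem F22204 : act 1 n4555 = n3779 := d16_1 D4555 (iv D3779) (iv F16590)
theorem F22205 : act 2 n4555 = n4555 := d23_1 D4555 (iv D4555) F16591
theorem F22206 : act 4 n4555 = n3518 := d34_1 D4555 (iv D3518) (iv F16592)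
theorem F22207 : act 7 n4555 = n4555 := d43_1 D4555 (iv D4555) F16593
def n4556 : Q := act 5 n3422
theorem D4556 : act 5 n3422 = n4556 := rfl
theorem F22208 : act 1 n4556 = n3424 := d12_1 D4556 (iv D3424) (iv F16595)
theorem F22209 : act 2 n4556 = n4556 := d19_1 D4556 (iv D4556) F16596
def n4557 : Q := act 7 n3422
theorem D4557 : act 7 n3422 = n4557 := rfl
theorem F22210 : act 1 n4557 = n3425 := d14_1 D4557 (iv D3425) (iv F16595)
theorem F22211 : act 2 n4557 = n4557 := d21_1 D4557 (iv D4557) F16596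
theorem F22212 : act 3 n4557 = n3821 := d27_1 D4557 F21927 F21924
theorem F22213 : act 4 n4557 = n3520 := d32_1 D4557 (iv D3520) (iv F16597)
theorem F22214 : act 6 n4557 = n4557 := d39_1 D4557 (iv D4557) (iv D3422) F11824 D3422
theorem F22215 : act 8 n4557 = n3448 := d42_2 (iv F16598) D4557 (iv D3448)
def n4558 : Q := act 9 n3422
theorem D4558 : act 9 n3422 = n4558 := rfl
theorem F22216 : act 1 n4558 = n3426 := d16_1 D4558 (iv D3426) (iv F16595)
theorem F22217 : act 2 n4558 = n4558 := d23_1 D4558 (iv D4558) F16596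
theorem F22218 : act 4 n4558 = n3521 := d34_1 D4558 (iv D3521) (iv F16597)
theorem F22219 : act 6 n4558 = n3423 := d41_1 D4558 (iv D3423) D3422
def n4559 : Q := act 8 n3423
theorem D4559 : act 8 n3423 = n4559 := rfl
theorem F22220 : act 1 n4559 = n3427 := d15_1 D4559 (iv D3427) (iv F16599)
theorem F22221 : act 2 n4559 = n4559 := d22_1 D4559 (iv D4559) F16600
theorem F22222 : act 4 n4559 = n3522 := d33_1 D4559 (iv D3522) (iv F16601)
theorem F22223 : act 7 n4559 = n4559 := d42_1 D4559 (iv D4559) F16602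
theorem F22224 : act 9 n4559 = n3450 := d44_2 D3423 D4559 (iv D3450) (iv D2412) (iv F11825)
def n4560 : Q := act 4 n3424
theorem D4560 : act 4 n3424 = n4560 := rfl
theorem F22225 : act 0 n4560 = n3784 := d3_1 D4560 (iv D3784) (iv F16603)
theorem F22226 : act 2 n4560 = n3428 := d18_1 D4560 (iv D3428) (iv F16604)
theorem F22227 : act 5 n4560 = n3523 := d30_2 D3424 D4560 (iv D3523) (iv D2465) (iv F11828)
def n4561 : Q := act 7 n3424
theorem D4561 : act 7 n3424 = n4561 := rfl
theorem F22228 : act 0 n4561 = n3785 := d6_1 D4561 (iv D3785) (iv F16603)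
theorem F22229 : act 2 n4561 = n3429 := d21_1 D4561 (iv D3429) (iv F16604)
theorem F22230 : act 3 n4561 = n3786 := d27_1 D4561 (iv F21935) F21934
theorem F22231 : act 5 n4561 = n3425 := d36_1 D4561 (iv D3425) D3424
theorem F22232 : act 8 n3615 = n4561 := d37_0 F22231 F16609 (iv F20113) (iv F12502) D3615
def n4562 : Q := act 8 n3424
theorem D4562 : act 8 n3424 = n4562 := rfl
theorem F22233 : act 0 n4562 = n3786 := d7_1 D4562 (iv D3786) (iv F16603)
theorem F22234 : act 2 n4562 = n3430 := d22_1 D4562 (iv D3430) (iv F16604)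
theorem F22235 : act 3 n4562 = n3785 := d28_1 D4562 (iv F21936) F21934
theorem F22236 : act 5 n4562 = n3452 := d37_1 D4562 (iv D3452) (iv D2413) (iv F11829) D3424
theorem F22237 : act 7 n4562 = n3615 := d42_1 D4562 F22232 (iv D4561)
def n4563 : Q := act 9 n3424
theorem D4563 : act 9 n3424 = n4563 := rfl
theorem F22238 : act 0 n4563 = n3787 := d8_1 D4563 (iv D3787) (iv F16603)
theorem F22239 : act 2 n4563 = n3431 := d23_1 D4563 (iv D3431) (iv F16604)
theorem F22240 : act 5 n4563 = n3426 := d38_1 D4563 (iv D3426) D3424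
def n4564 : Q := act 9 n3425
theorem D4564 : act 9 n3425 = n4564 := rfl
theorem F22241 : act 0 n4564 = n3788 := d8_1 D4564 (iv D3788) (iv F16605)
theorem F22242 : act 2 n4564 = n3432 := d23_1 D4564 (iv D3432) (iv F16606)
theorem F22243 : act 3 n4564 = n3829 := d29_1 D4564 (iv D3829) (iv F20211)
theorem F22244 : act 4 n4564 = n3526 := d34_1 D4564 (iv D3526) (iv F16607)
theorem F22245 : act 6 n4564 = n4564 := d41_1 D4564 (iv D4564) F16608
theorem F22246 : act 7 n4564 = n3426 := d43_1 D4564 (iv D3426) D3425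
def n4565 : Q := act 8 n3426
theorem D4565 : act 8 n3426 = n4565 := rfl
theorem F22247 : act 0 n4565 = n3789 := d7_1 D4565 (iv D3789) (iv F16610)
theorem F22248 : act 2 n4565 = n3433 := d22_1 D4565 (iv D3433) (iv F16611)
theorem F22249 : act 4 n4565 = n3527 := d33_1 D4565 (iv D3527) (iv F16612)
theorem F22250 : act 6 n4565 = n3427 := d40_1 D4565 (iv D3427) (iv F16613)
theorem F22251 : act 9 n4565 = n3455 := d44_2 D3426 D4565 (iv D3455) (iv D2415) (iv F11829)
def n4566 : Q := act 5 n3427
theorem D4566 : act 5 n3427 = n4566 := rfl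
theorem F22252 : act 0 n4566 = n3790 := d4_1 D4566 (iv D3790) (iv F16614)
theorem F22253 : act 2 n4566 = n3434 := d19_1 D4566 (iv D3434) (iv F16615)
theorem F22254 : act 7 n4566 = n4566 := d36_2 F16617 D4566 (iv D4566)
theorem F22255 : act 9 n4566 = n3456 := d38_2 (iv F16618) D4566 (iv D3456)
def n4567 : Q := act 7 n3428
theorem D4567 : act 7 n3428 = n4567 := rfl
theorem F22256 : act 0 n4567 = n3791 := d6_1 D4567 (iv D3791) (iv F16619)
theorem F22257 : act 1 n4567 = n4567 := d14_1 D4567 (iv D4567) F16620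
theorem F22258 : act 3 n4567 = n4567 := d27_1 D4567 (iv D4567) F16621
theorem F22259 : act 4 n4567 = n3429 := d32_1 D4567 (iv D3429) D3428
theorem F22260 : act 5 n4567 = n3529 := d36_1 D4567 (iv D3529) (iv F16622)
theorem F22261 : act 8 n3619 = n4567 := d33_0 F22259 F20212 D3619
def n4568 : Q := act 8 n3428
theorem D4568 : act 8 n3428 = n4568 := rfl
theorem F22262 : act 0 n4568 = n3792 := d7_1 D4568 (iv D3792) (iv F16619)
theorem F22263 : act 1 n4568 = n4568 := d15_1 D4568 (iv D4568) F16620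
theorem F22264 : act 3 n4568 = n4568 := d28_1 D4568 (iv D4568) F16621
theorem F22265 : act 4 n4568 = n3430 := d33_1 D4568 (iv D3430) D3428
theorem F22266 : act 5 n4568 = n4568 := d37_1 D4568 (iv D4568) F16622 F12182 (iv F16622)
theorem F22267 : act 7 n4568 = n3619 := d42_1 D4568 F22261 (iv D4567)
def n4569 : Q := act 9 n3428
theorem D4569 : act 9 n3428 = n4569 := rfl
theorem F22268 : act 0 n4569 = n3793 := d8_1 D4569 (iv D3793) (iv F16619)
theorem F22269 : act 1 n4569 = n4569 := d16_1 D4569 (iv D4569) F16620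
theorem F22270 : act 3 n4569 = n4569 := d29_1 D4569 (iv D4569) F16621
theorem F22271 : act 4 n4569 = n3431 := d34_1 D4569 (iv D3431) D3428
theorem F22272 : act 5 n4569 = n3530 := d38_1 D4569 (iv D3530) (iv F16622)
def n4570 : Q := act 6 n3429
theorem D4570 : act 6 n3429 = n4570 := rfl
theorem F22273 : act 0 n4570 = n3794 := d5_1 D4570 (iv D3794) (iv F16623)
theorem F22274 : act 1 n4570 = n4570 := d13_1 D4570 (iv D4570) F16624
theorem F22275 : act 3 n4570 = n3435 := d26_1 D4570 (iv D3435) (iv F16625)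
theorem F22276 : act 5 n4570 = n4570 := d35_1 D4570 (iv D4570) F16626 F11841 (iv F16626)
theorem F22277 : act 8 n4570 = n3600 := d40_2 (iv F20212) D4570 F17473
def n4571 : Q := act 9 n3429
theorem D4571 : act 9 n3429 = n4571 := rfl
theorem F22278 : act 0 n4571 = n3796 := d8_1 D4571 (iv D3796) (iv F16623)
theorem F22279 : act 1 n4571 = n4571 := d16_1 D4571 (iv D4571) F16624
theorem F22280 : act 3 n4571 = n3437 := d29_1 D4571 (iv D3437) (iv F16625)
theorem F22281 : act 5 n4571 = n3432 := d38_1 D4571 (iv D3432) (iv F16626)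
theorem F22282 : act 7 n4571 = n3431 := d43_1 D4571 (iv D3431) D3429
def n4572 : Q := act 9 n3430
theorem D4572 : act 9 n3430 = n4572 := rfl
theorem F22283 : act 0 n4572 = n3797 := d8_1 D4572 (iv D3797) (iv F16627)
theorem F22284 : act 1 n4572 = n4572 := d16_1 D4572 (iv D4572) F16628
theorem F22285 : act 3 n4572 = n3438 := d29_1 D4572 (iv D3438) (iv F16629)
theorem F22286 : act 5 n4572 = n3460 := d38_1 D4572 (iv D3460) (iv F16630)
theorem F22287 : act 7 n4572 = n3622 := d43_1 D4572 (iv D3622) (iv F20216)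
def n4573 : Q := act 8 n3431
theorem D4573 : act 8 n3431 = n4573 := rfl
theorem F22288 : act 0 n4573 = n3798 := d7_1 D4573 (iv D3798) (iv F16631)
theorem F22289 : act 1 n4573 = n4573 := d15_1 D4573 (iv D4573) F16632
theorem F22290 : act 3 n4573 = n3439 := d28_1 D4573 (iv D3439) (iv F16633)
def n4574 : Q := act 8 n3432
theorem D4574 : act 8 n3432 = n4574 := rfl
theorem F22291 : act 0 n4574 = n3799 := d7_1 D4574 (iv D3799) (iv F16635)
theorem F22292 : act 1 n4574 = n4574 := d15_1 D4574 (iv D4574) F16636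
theorem F22293 : act 3 n4574 = n3440 := d28_1 D4574 (iv D3440) (iv F16637)
theorem F22294 : act 4 n4574 = n3534 := d33_1 D4574 (iv D3534) (iv F16638)
theorem F22295 : act 6 n4574 = n4574 := d40_1 D4574 (iv D4574) F16639
theorem F22296 : act 7 n4574 = n3433 := d42_1 D4574 (iv D3433) (iv F16640)
theorem F22297 : act 9 n4574 = n3462 := d44_2 D3432 D4574 (iv D3462) (iv D2420) (iv F11842)
def n4575 : Q := act 5 n3433
theorem D4575 : act 5 n3433 = n4575 := rfl
theorem F22298 : act 0 n4575 = n3800 := d4_1 D4575 (iv D3800) (iv F16641)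
theorem F22299 : act 1 n4575 = n4575 := d12_1 D4575 (iv D4575) F16642
theorem F22300 : act 3 n4575 = n3441 := d25_1 D4575 (iv D3441) (iv F16643)
theorem F22301 : act 9 n4575 = n3463 := d38_2 (iv F16646) D4575 (iv D3463)
def n4576 : Q := act 4 n3434
theorem D4576 : act 4 n3434 = n4576 := rfl
theorem F22302 : act 0 n4576 = n3801 := d3_1 D4576 (iv D3801) (iv F16647)
theorem F22303 : act 1 n4576 = n4576 := d11_1 D4576 (iv D4576) F16648
theorem F22304 : act 3 n4576 = n4576 := d24_1 D4576 (iv D4576) F16649 F11878 (iv F16649)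
theorem F22305 : act 5 n4576 = n3536 := d30_2 D3434 D4576 (iv D3536) (iv D2474) (iv F11851)
theorem F22306 : act 7 n4576 = n4576 := d32_2 F16650 D4576 (iv D4576)
theorem F22307 : act 9 n4576 = n3464 := d34_2 (iv F16651) D4576 (iv D3464)
def n4577 : Q := act 6 n3434
theorem D4577 : act 6 n3434 = n4577 := rfl
theorem F22308 : act 0 n4577 = n3802 := d5_1 D4577 (iv D3802) (iv F16647)
theorem F22309 : act 1 n4577 = n4577 := d13_1 D4577 (iv D4577) F16648
theorem F22310 : act 3 n4577 = n3442 := d26_1 D4577 (iv D3442) (iv F16649)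
theorem F22311 : act 9 n4577 = n3465 := d41_2 (iv F16651) D4577 (iv D3465)
def n4578 : Q := act 9 n3435
theorem D4578 : act 9 n3435 = n4578 := rfl
theorem F22312 : act 0 n4578 = n3804 := d8_1 D4578 (iv D3804) (iv F16652)
theorem F22313 : act 1 n4578 = n4578 := d16_1 D4578 (iv D4578) F16653
theorem F22314 : act 2 n4578 = n3771 := d23_1 D4578 (iv D3771) (iv F20213)
theorem F22315 : act 4 n4578 = n4578 := d34_1 D4578 (iv D4578) F16654
theorem F22316 : act 5 n4578 = n4578 := d38_1 D4578 (iv D4578) F16655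
theorem F22317 : act 6 n4578 = n3437 := d41_1 D4578 (iv D3437) D3435
def n4579 : Q := act 8 n3437
theorem D4579 : act 8 n3437 = n4579 := rfl
theorem F22318 : act 0 n4579 = n3806 := d7_1 D4579 (iv D3806) (iv F16661)
theorem F22319 : act 1 n4579 = n4579 := d15_1 D4579 (iv D4579) F16662
theorem F22320 : act 2 n4579 = n3807 := d22_1 D4579 (iv D3807) (iv F20215)
theorem F22321 : act 4 n4579 = n4579 := d33_1 D4579 (iv D4579) F16663
theorem F22322 : act 7 n4579 = n3439 := d42_1 D4579 (iv D3439) (iv F16665)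
theorem F22323 : act 9 n4579 = n3630 := d44_2 D3437 D4579 (iv D3630) (iv D2539) F20103
def n4580 : Q := act 8 n3438
theorem D4580 : act 8 n3438 = n4580 := rfl
theorem F22324 : act 0 n4580 = n3807 := d7_1 D4580 (iv D3807) (iv F16666)
theorem F22325 : act 1 n4580 = n4580 := d15_1 D4580 (iv D4580) F16667
theorem F22326 : act 2 n4580 = n3806 := d22_1 D4580 (iv D3806) (iv F20218)
theorem F22327 : act 4 n4580 = n4580 := d33_1 D4580 (iv D4580) F16668
theorem F22328 : act 7 n4580 = n3630 := d42_1 D4580 (iv D3630) (iv F20219)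
theorem F22329 : act 9 n4580 = n3439 := d44_2 D3438 D4580 (iv D3439) (iv D2404) D2403
def n4581 : Q := act 5 n3439
theorem D4581 : act 5 n3439 = n4581 := rfl
theorem F22330 : act 0 n4581 = n3808 := d4_1 D4581 (iv D3808) (iv F16670)
theorem F22331 : act 1 n4581 = n4581 := d12_1 D4581 (iv D4581) F16671
theorem F22332 : act 8 n4581 = n3441 := d37_2 D3439 D4581 (iv D3441) (iv D2406) (iv F11865)
def n4582 : Q := act 5 n3440
theorem D4582 : act 5 n3440 = n4582 := rfl
theorem F22333 : act 0 n4582 = n3809 := d4_1 D4582 (iv D3809) (iv F16673)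
theorem F22334 : act 1 n4582 = n4582 := d12_1 D4582 (iv D4582) F16674
theorem F22335 : act 2 n4582 = n3851 := d19_1 D4582 (iv D3851) (iv F20220)
theorem F22336 : act 7 n4582 = n3441 := d36_2 (iv F16677) D4582 (iv D3441)
theorem F22337 : act 9 n4582 = n3472 := d38_2 (iv F16678) D4582 (iv D3472)
def n4583 : Q := act 4 n3441
theorem D4583 : act 4 n3441 = n4583 := rfl
theorem F22338 : act 0 n4583 = n3810 := d3_1 D4583 (iv D3810) (iv F16679)
theorem F22339 : act 1 n4583 = n4583 := d11_1 D4583 (iv D4583) F16680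
theorem F22340 : act 5 n4583 = n3444 := d30_2 D3441 D4583 (iv D3444) (iv D2409) (iv F11873)
theorem F22341 : act 9 n4583 = n3473 := d34_2 (iv F16681) D4583 (iv D3473)
def n4584 : Q := act 6 n3441
theorem D4584 : act 6 n3441 = n4584 := rfl
theorem F22342 : act 0 n4584 = n3811 := d5_1 D4584 (iv D3811) (iv F16679)
theorem F22343 : act 1 n4584 = n4584 := d13_1 D4584 (iv D4584) F16680
theorem F22344 : act 5 n4584 = n3442 := d35_1 D4584 (iv D3442) (iv D2407) (iv F11874) D3441
theorem F22345 : act 9 n4584 = n3474 := d41_2 (iv F16681) D4584 (iv D3474)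
def n4585 : Q := act 7 n3442
theorem D4585 : act 7 n3442 = n4585 := rfl
theorem F22346 : act 0 n4585 = n3812 := d6_1 D4585 (iv D3812) (iv F16682)
theorem F22347 : act 1 n4585 = n4585 := d14_1 D4585 (iv D4585) F16683
theorem F22348 : act 4 n4585 = n4585 := d32_1 D4585 (iv D4585) F16684
theorem F22349 : act 6 n4585 = n4585 := d39_1 D4585 (iv D4585) (iv D3442) F11879 D3442
theorem F22350 : act 9 n4585 = n3475 := d43_2 (iv F16685) D4585 (iv D3475)
def n4586 : Q := act 4 n3443
theorem D4586 : act 4 n3443 = n4586 := rfl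
theorem F22351 : act 0 n4586 = n3813 := d3_1 D4586 (iv D3813) (iv F16686)
theorem F22352 : act 1 n4586 = n4586 := d11_1 D4586 (iv D4586) F16687
theorem F22353 : act 2 n4586 = n3869 := d18_1 D4586 (iv D3869) (iv F20221)
theorem F22354 : act 7 n4586 = n3444 := d32_2 (iv F16689) D4586 (iv D3444)
theorem F22355 : act 8 n4586 = n4586 := d33_2 F16690 D4586 (iv D4586)
theorem F22356 : act 9 n4586 = n3476 := d34_2 (iv F16691) D4586 (iv D3476)
def n4587 : Q := act 6 n3443
theorem D4587 : act 6 n3443 = n4587 := rfl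
theorem F22357 : act 0 n4587 = n3814 := d5_1 D4587 (iv D3814) (iv F16686)
theorem F22358 : act 1 n4587 = n4587 := d13_1 D4587 (iv D4587) F16687
theorem F22359 : act 2 n4587 = n3870 := d20_1 D4587 (iv D3870) (iv F20221)
theorem F22360 : act 3 n4587 = n3546 := d26_1 D4587 (iv D3546) (iv F16688)
theorem F22361 : act 5 n4587 = n4587 := d35_1 D4587 (iv D4587) (iv D3443) F11884 D3443
theorem F22362 : act 7 n4587 = n4587 := d39_2 (iv F16689) D4587 (iv D4587) F16689 F11890
theorem F22363 : act 8 n4587 = n4587 := d40_2 F16690 D4587 (iv D4587)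
theorem F22364 : act 9 n4587 = n3477 := d41_2 (iv F16691) D4587 (iv D3477)
def n4588 : Q := act 3 n3444
theorem D4588 : act 3 n3444 = n4588 := rfl
theorem F22365 : act 0 n4588 = n3815 := d2_1 D4588 (iv D3815) (iv F16692)
theorem F22366 : act 1 n4588 = n4588 := d10_1 D4588 (iv D4588) F16693
theorem F22367 : act 4 n4588 = n3547 := d24_2 D3444 D4588 (iv D3547) (iv D2482) (iv F11889)
theorem F22368 : act 6 n4588 = n4588 := d26_2 F16694 D4588 (iv D4588)
theorem F22369 : act 8 n4588 = n4588 := d28_2 F16695 D4588 (iv D4588)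
theorem F22370 : act 9 n4588 = n3478 := d29_2 (iv F16696) D4588 (iv D3478)
def n4589 : Q := act 5 n3445
theorem D4589 : act 5 n3445 = n4589 := rfl
theorem F22371 : act 0 n4589 = n3447 := d4_1 D4589 (iv D3447) (iv F16697)
theorem F22372 : act 1 n4589 = n3816 := d12_1 D4589 (iv D3816) (iv F16698)
theorem F22373 : act 2 n4589 = n4589 := d19_1 D4589 (iv D4589) F16699
theorem F22374 : act 3 n4589 = n3817 := d25_1 D4589 F21999 F21997
theorem F22375 : act 4 n4589 = n4589 := d30_1 D4589 (iv D4589) F16700 F12261 (iv F16700)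
theorem F22376 : act 6 n4589 = n4589 := d35_2 D3445 D4589 (iv D4589) (iv D3445) F11896
theorem F22377 : act 7 n3636 = n4589 := d27_0 F22374 (iv D3817) (iv F17629)
def n4590 : Q := act 7 n3445
theorem D4590 : act 7 n3445 = n4590 := rfl
theorem F22378 : act 0 n4590 = n3448 := d6_1 D4590 (iv D3448) (iv F16697)
theorem F22379 : act 1 n4590 = n3817 := d14_1 D4590 (iv D3817) (iv F16698)
theorem F22380 : act 2 n4590 = n4590 := d21_1 D4590 (iv D4590) F16699
theorem F22381 : act 3 n4590 = n3816 := d27_1 D4590 F22000 F21997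
theorem F22382 : act 4 n4590 = n3548 := d32_1 D4590 (iv D3548) (iv F16700)
theorem F22383 : act 5 n4590 = n3636 := d36_1 D4590 F22377 (iv D4589)
theorem F22384 : act 6 n4590 = n4590 := d39_1 D4590 (iv D4590) (iv D3445) F11897 D3445
def n4591 : Q := act 9 n3445
theorem D4591 : act 9 n3445 = n4591 := rfl
theorem F22385 : act 0 n4591 = n3449 := d8_1 D4591 (iv D3449) (iv F16697)
theorem F22386 : act 1 n4591 = n3818 := d16_1 D4591 (iv D3818) (iv F16698)
theorem F22387 : act 2 n4591 = n4591 := d23_1 D4591 (iv D4591) F16699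
theorem F22388 : act 4 n4591 = n3549 := d34_1 D4591 (iv D3549) (iv F16700)
theorem F22389 : act 6 n4591 = n3446 := d41_1 D4591 (iv D3446) D3445
def n4592 : Q := act 8 n3446
theorem D4592 : act 8 n3446 = n4592 := rfl
theorem F22390 : act 0 n4592 = n3450 := d7_1 D4592 (iv D3450) (iv F16701)
theorem F22391 : act 1 n4592 = n3819 := d15_1 D4592 (iv D3819) (iv F16702)
theorem F22392 : act 2 n4592 = n4592 := d22_1 D4592 (iv D4592) F16703
theorem F22393 : act 4 n4592 = n3550 := d33_1 D4592 (iv D3550) (iv F16704)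
theorem F22394 : act 7 n4592 = n4592 := d42_1 D4592 (iv D4592) F16706
def n4593 : Q := act 8 n3447
theorem D4593 : act 8 n3447 = n4593 := rfl
theorem F22395 : act 1 n4593 = n3452 := d15_1 D4593 (iv D3452) (iv F16707)
theorem F22396 : act 2 n4593 = n4593 := d22_1 D4593 (iv D4593) F16708
theorem F22397 : act 3 n4593 = n3781 := d28_1 D4593 F18262 (iv F20222)
theorem F22398 : act 4 n4593 = n4593 := d33_1 D4593 (iv D4593) F16709
theorem F22399 : act 6 n4593 = n4593 := d40_1 D4593 (iv D4593) F16710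
theorem F22400 : act 7 n4593 = n3613 := d42_1 D4593 F17534 (iv F20223)
def n4594 : Q := act 9 n3447
theorem D4594 : act 9 n3447 = n4594 := rfl
theorem F22401 : act 1 n4594 = n3453 := d16_1 D4594 (iv D3453) (iv F16707)
theorem F22402 : act 2 n4594 = n4594 := d23_1 D4594 (iv D4594) F16708
theorem F22403 : act 3 n4594 = n3823 := d29_1 D4594 (iv D3823) (iv F20222)
theorem F22404 : act 4 n4594 = n4594 := d34_1 D4594 (iv D4594) F16709
theorem F22405 : act 5 n4594 = n3449 := d38_1 D4594 (iv D3449) D3447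
theorem F22406 : act 6 n4594 = n4594 := d41_1 D4594 (iv D4594) F16710
theorem F22407 : act 7 n4594 = n3640 := d43_1 D4594 (iv D3640) (iv F20223)
def n4595 : Q := act 9 n3448
theorem D4595 : act 9 n3448 = n4595 := rfl
theorem F22408 : act 1 n4595 = n3454 := d16_1 D4595 (iv D3454) (iv F16711)
theorem F22409 : act 2 n4595 = n4595 := d23_1 D4595 (iv D4595) F16712
theorem F22410 : act 3 n4595 = n3822 := d29_1 D4595 (iv D3822) (iv F20228)
theorem F22411 : act 4 n4595 = n3551 := d34_1 D4595 (iv D3551) (iv F16713)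
theorem F22412 : act 5 n4595 = n3640 := d38_1 D4595 (iv D3640) (iv F20229)
theorem F22413 : act 6 n4595 = n4595 := d41_1 D4595 (iv D4595) F16714
theorem F22414 : act 7 n4595 = n3449 := d43_1 D4595 (iv D3449) D3448
def n4596 : Q := act 8 n3449
theorem D4596 : act 8 n3449 = n4596 := rfl
theorem F22415 : act 1 n4596 = n3455 := d15_1 D4596 (iv D3455) (iv F16715)
theorem F22416 : act 2 n4596 = n4596 := d22_1 D4596 (iv D4596) F16716
theorem F22417 : act 4 n4596 = n3552 := d33_1 D4596 (iv D3552) (iv F16717)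
theorem F22418 : act 6 n4596 = n3450 := d40_1 D4596 (iv D3450) (iv F16718)
def n4597 : Q := act 5 n3450
theorem D4597 : act 5 n3450 = n4597 := rfl
theorem F22419 : act 1 n4597 = n3456 := d12_1 D4597 (iv D3456) (iv F16719)
theorem F22420 : act 2 n4597 = n4597 := d19_1 D4597 (iv D4597) F16720
theorem F22421 : act 7 n4597 = n4597 := d36_2 F16722 D4597 (iv D4597)
theorem F22422 : act 8 n4597 = n4597 := d37_2 D3450 D4597 (iv D4597) (iv D3450) F11904
def n4598 : Q := act 9 n3452
theorem D4598 : act 9 n3452 = n4598 := rfl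
theorem F22423 : act 0 n4598 = n3829 := d8_1 D4598 (iv D3829) (iv F16727)
theorem F22424 : act 2 n4598 = n3460 := d23_1 D4598 (iv D3460) (iv F16728)
theorem F22425 : act 3 n4598 = n3788 := d29_1 D4598 (iv D3788) (iv F20224)
theorem F22426 : act 4 n4598 = n4598 := d34_1 D4598 (iv D4598) F16729
theorem F22427 : act 6 n4598 = n4598 := d41_1 D4598 (iv D4598) F16730
theorem F22428 : act 7 n4598 = n3617 := d43_1 D4598 (iv D3617) (iv F20225)
def n4599 : Q := act 8 n3453
theorem D4599 : act 8 n3453 = n4599 := rfl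
theorem F22429 : act 0 n4599 = n3830 := d7_1 D4599 (iv D3830) (iv F16731)
theorem F22430 : act 2 n4599 = n3461 := d22_1 D4599 (iv D3461) (iv F16732)
theorem F22431 : act 3 n4599 = n3831 := d28_1 D4599 (iv D3831) (iv F20226)
theorem F22432 : act 4 n4599 = n4599 := d33_1 D4599 (iv D4599) F16733
theorem F22433 : act 6 n4599 = n4599 := d40_1 D4599 (iv D4599) F16735
theorem F22434 : act 7 n4599 = n3647 := d42_1 D4599 (iv D3647) (iv F20227)
def n4600 : Q := act 8 n3454
theorem D4600 : act 8 n3454 = n4600 := rfl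
theorem F22435 : act 0 n4600 = n3831 := d7_1 D4600 (iv D3831) (iv F16736)
theorem F22436 : act 2 n4600 = n3462 := d22_1 D4600 (iv D3462) (iv F16737)
theorem F22437 : act 3 n4600 = n3830 := d28_1 D4600 (iv D3830) (iv F20230)
theorem F22438 : act 4 n4600 = n3554 := d33_1 D4600 (iv D3554) (iv F16738)
theorem F22439 : act 6 n4600 = n4600 := d40_1 D4600 (iv D4600) F16739
theorem F22440 : act 7 n4600 = n3455 := d42_1 D4600 (iv D3455) (iv F16740)
def n4601 : Q := act 5 n3455
theorem D4601 : act 5 n3455 = n4601 := rfl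
theorem F22441 : act 0 n4601 = n3832 := d4_1 D4601 (iv D3832) (iv F16741)
theorem F22442 : act 2 n4601 = n3463 := d19_1 D4601 (iv D3463) (iv F16742)
def n4602 : Q := act 4 n3456
theorem D4602 : act 4 n3456 = n4602 := rfl
theorem F22443 : act 0 n4602 = n3833 := d3_1 D4602 (iv D3833) (iv F16745)
theorem F22444 : act 2 n4602 = n3464 := d18_1 D4602 (iv D3464) (iv F16746)
theorem F22445 : act 5 n4602 = n3556 := d30_2 D3456 D4602 (iv D3556) (iv D2490) (iv F11920)
theorem F22446 : act 7 n4602 = n4602 := d32_2 F16747 D4602 (iv D4602)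
theorem F22447 : act 8 n4602 = n4602 := d33_2 F16748 D4602 (iv D4602)
def n4603 : Q := act 6 n3456
theorem D4603 : act 6 n3456 = n4603 := rfl
theorem F22448 : act 0 n4603 = n3834 := d5_1 D4603 (iv D3834) (iv F16745)
theorem F22449 : act 2 n4603 = n3465 := d20_1 D4603 (iv D3465) (iv F16746)
theorem F22450 : act 8 n4603 = n4603 := d40_2 F16748 D4603 (iv D4603)
def n4604 : Q := act 8 n3460
theorem D4604 : act 8 n3460 = n4604 := rfl
theorem F22451 : act 0 n4604 = n3839 := d7_1 D4604 (iv D3839) (iv F16766)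
theorem F22452 : act 1 n4604 = n4604 := d15_1 D4604 (iv D4604) F16767
theorem F22453 : act 3 n4604 = n3470 := d28_1 D4604 (iv D3470) (iv F16768)
theorem F22454 : act 4 n4604 = n4604 := d33_1 D4604 (iv D4604) F16769
theorem F22455 : act 6 n4604 = n4604 := d40_1 D4604 (iv D4604) F16770
theorem F22456 : act 7 n4604 = n3624 := d42_1 D4604 (iv D3624) (iv F20232)
theorem F22457 : act 9 n4604 = n3461 := d44_2 D3460 D4604 (iv D3461) (iv D2419) D2418
def n4605 : Q := act 5 n3461
theorem D4605 : act 5 n3461 = n4605 := rfl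
theorem F22458 : act 0 n4605 = n3840 := d4_1 D4605 (iv D3840) (iv F16771)
theorem F22459 : act 1 n4605 = n4605 := d12_1 D4605 (iv D4605) F16772
theorem F22460 : act 3 n4605 = n3471 := d25_1 D4605 (iv D3471) (iv F16773)
theorem F22461 : act 7 n4605 = n3658 := d36_2 (iv F20233) D4605 (iv D3658)
theorem F22462 : act 8 n4605 = n3463 := d37_2 D3461 D4605 (iv D3463) (iv D2421) (iv F11936)
def n4606 : Q := act 5 n3462
theorem D4606 : act 5 n3462 = n4606 := rfl
theorem F22463 : act 0 n4606 = n3841 := d4_1 D4606 (iv D3841) (iv F16776)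
theorem F22464 : act 1 n4606 = n4606 := d12_1 D4606 (iv D4606) F16777
theorem F22465 : act 3 n4606 = n3472 := d25_1 D4606 (iv D3472) (iv F16778)
theorem F22466 : act 7 n4606 = n3463 := d36_2 (iv F16781) D4606 (iv D3463)
theorem F22467 : act 8 n4606 = n3658 := d37_2 D3462 D4606 (iv D3658) (iv D2557) F20115
def n4607 : Q := act 4 n3463
theorem D4607 : act 4 n3463 = n4607 := rfl
theorem F22468 : act 0 n4607 = n3842 := d3_1 D4607 (iv D3842) (iv F16782)
theorem F22469 : act 1 n4607 = n4607 := d11_1 D4607 (iv D4607) F16783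
theorem F22470 : act 5 n4607 = n3559 := d30_2 D3463 D4607 (iv D3559) (iv D2492) (iv F11947)
def n4608 : Q := act 6 n3463
theorem D4608 : act 6 n3463 = n4608 := rfl
theorem F22471 : act 0 n4608 = n3843 := d5_1 D4608 (iv D3843) (iv F16782)
theorem F22472 : act 1 n4608 = n4608 := d13_1 D4608 (iv D4608) F16783
theorem F22473 : act 3 n4608 = n3474 := d26_1 D4608 (iv D3474) (iv F16784)
theorem F22474 : act 5 n4608 = n3465 := d35_1 D4608 (iv D3465) (iv D2422) (iv F11948) D3463
def n4609 : Q := act 6 n3464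
theorem D4609 : act 6 n3464 = n4609 := rfl
theorem F22475 : act 0 n4609 = n3844 := d5_1 D4609 (iv D3844) (iv F16785)
theorem F22476 : act 1 n4609 = n4609 := d13_1 D4609 (iv D4609) F16786
theorem F22477 : act 3 n4609 = n4609 := d26_1 D4609 (iv D4609) F16787
theorem F22478 : act 4 n4609 = n3465 := d31_1 D4609 (iv D3465) D3464
theorem F22479 : act 8 n4609 = n4609 := d40_2 F16790 D4609 (iv D4609)
def n4610 : Q := act 7 n3465
theorem D4610 : act 7 n3465 = n4610 := rfl
theorem F22480 : act 0 n4610 = n3845 := d6_1 D4610 (iv D3845) (iv F16791)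
theorem F22481 : act 1 n4610 = n4610 := d14_1 D4610 (iv D4610) F16792
theorem F22482 : act 3 n4610 = n3475 := d27_1 D4610 (iv D3475) (iv F16793)
theorem F22483 : act 6 n4610 = n4610 := d39_1 D4610 (iv D4610) (iv D3465) F11952 D3465
theorem F22484 : act 8 n4610 = n4610 := d42_2 F16794 D4610 (iv D4610)
def n4611 : Q := act 5 n3470
theorem D4611 : act 5 n3470 = n4611 := rfl
theorem F22485 : act 0 n4611 = n3851 := d4_1 D4611 (iv D3851) (iv F16814)
theorem F22486 : act 1 n4611 = n4611 := d12_1 D4611 (iv D4611) F16815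
theorem F22487 : act 2 n4611 = n3809 := d19_1 D4611 (iv D3809) (iv F20234)
theorem F22488 : act 7 n4611 = n3632 := d36_2 (iv F20235) D4611 (iv D3632)
theorem F22489 : act 9 n4611 = n3471 := d38_2 (iv F16818) D4611 (iv D3471)
def n4612 : Q := act 4 n3471
theorem D4612 : act 4 n3471 = n4612 := rfl
theorem F22490 : act 0 n4612 = n3852 := d3_1 D4612 (iv D3852) (iv F16819)
theorem F22491 : act 1 n4612 = n4612 := d11_1 D4612 (iv D4612) F16820
theorem F22492 : act 2 n4612 = n3854 := d18_1 D4612 (iv D3854) (iv F20236)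
theorem F22493 : act 5 n4612 = n3485 := d30_2 D3471 D4612 (iv D3485) (iv D2438) (iv F11974)
theorem F22494 : act 7 n4612 = n3668 := d32_2 (iv F20237) D4612 (iv D3668)
theorem F22495 : act 8 n4612 = n3473 := d33_2 (iv F16821) D4612 (iv D3473)
def n4613 : Q := act 6 n3471
theorem D4613 : act 6 n3471 = n4613 := rfl
theorem F22496 : act 0 n4613 = n3853 := d5_1 D4613 (iv D3853) (iv F16819)
theorem F22497 : act 1 n4613 = n4613 := d13_1 D4613 (iv D4613) F16820
theorem F22498 : act 2 n4613 = n3855 := d20_1 D4613 (iv D3855) (iv F20236)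
theorem F22499 : act 5 n4613 = n4613 := d35_1 D4613 (iv D4613) (iv D3471) F11975 D3471
theorem F22500 : act 8 n4613 = n3474 := d40_2 (iv F16821) D4613 (iv D3474)
def n4614 : Q := act 4 n3472
theorem D4614 : act 4 n3472 = n4614 := rfl
theorem F22501 : act 0 n4614 = n3854 := d3_1 D4614 (iv D3854) (iv F16822)
theorem F22502 : act 1 n4614 = n4614 := d11_1 D4614 (iv D4614) F16823
theorem F22503 : act 2 n4614 = n3852 := d18_1 D4614 (iv D3852) (iv F20238)
theorem F22504 : act 5 n4614 = n3476 := d30_2 D3472 D4614 (iv D3476) (iv D2431) (iv F11978)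
theorem F22505 : act 7 n4614 = n3473 := d32_2 (iv F16824) D4614 (iv D3473)
theorem F22506 : act 8 n4614 = n3668 := d33_2 (iv F20239) D4614 (iv D3668)
def n4615 : Q := act 6 n3472
theorem D4615 : act 6 n3472 = n4615 := rfl
theorem F22507 : act 0 n4615 = n3855 := d5_1 D4615 (iv D3855) (iv F16822)
theorem F22508 : act 1 n4615 = n4615 := d13_1 D4615 (iv D4615) F16823
theorem F22509 : act 2 n4615 = n3853 := d20_1 D4615 (iv D3853) (iv F20238)
theorem F22510 : act 5 n4615 = n4615 := d35_1 D4615 (iv D4615) (iv D3472) F11979 D3472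
theorem F22511 : act 8 n4615 = n3669 := d40_2 (iv F20239) D4615 (iv D3669)
def n4616 : Q := act 3 n3473
theorem D4616 : act 3 n3473 = n4616 := rfl
theorem F22512 : act 0 n4616 = n3856 := d2_1 D4616 (iv D3856) (iv F16825)
theorem F22513 : act 1 n4616 = n4616 := d10_1 D4616 (iv D4616) F16826
theorem F22514 : act 5 n4616 = n3478 := d25_2 (iv F16827) D4616 (iv D3478)
def n4617 : Q := act 6 n3473
theorem D4617 : act 6 n3473 = n4617 := rfl
theorem F22515 : act 0 n4617 = n3857 := d5_1 D4617 (iv D3857) (iv F16825)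
theorem F22516 : act 1 n4617 = n4617 := d13_1 D4617 (iv D4617) F16826
theorem F22517 : act 4 n4617 = n3474 := d31_1 D4617 (iv D3474) D3473
theorem F22518 : act 5 n4617 = n4617 := d35_1 D4617 (iv D4617) F16827 F11994 (iv F16827)
def n4618 : Q := act 7 n3474
theorem D4618 : act 7 n3474 = n4618 := rfl
theorem F22519 : act 0 n4618 = n3858 := d6_1 D4618 (iv D3858) (iv F16828)
theorem F22520 : act 1 n4618 = n4618 := d14_1 D4618 (iv D4618) F16829
theorem F22521 : act 5 n4618 = n3475 := d36_1 D4618 (iv D3475) (iv F16830)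
def n4619 : Q := act 3 n3476
theorem D4619 : act 3 n3476 = n4619 := rfl
theorem F22522 : act 0 n4619 = n3859 := d2_1 D4619 (iv D3859) (iv F16836)
theorem F22523 : act 1 n4619 = n4619 := d10_1 D4619 (iv D4619) F16837
theorem F22524 : act 4 n4619 = n3568 := d24_2 D3476 D4619 (iv D3568) (iv D2499) (iv F11989)
theorem F22525 : act 7 n4619 = n3478 := d27_2 (iv F16838) D4619 (iv D3478)
theorem F22526 : act 8 n4619 = n3492 := d28_2 (iv F16839) D4619 (iv D3492)
def n4620 : Q := act 6 n3476
theorem D4620 : act 6 n3476 = n4620 := rfl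
theorem F22527 : act 0 n4620 = n3860 := d5_1 D4620 (iv D3860) (iv F16836)
theorem F22528 : act 1 n4620 = n4620 := d13_1 D4620 (iv D4620) F16837
theorem F22529 : act 2 n4620 = n3872 := d20_1 D4620 (iv D3872) (iv F20240)
theorem F22530 : act 4 n4620 = n3477 := d31_1 D4620 (iv D3477) D3476
theorem F22531 : act 7 n4620 = n4620 := d39_2 (iv F16838) D4620 (iv D4620) F16838 F11994
theorem F22532 : act 8 n4620 = n3493 := d40_2 (iv F16839) D4620 (iv D3493)
def n4621 : Q := act 2 n3478
theorem D4621 : act 2 n3478 = n4621 := rfl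
theorem F22533 : act 0 n4621 = n3861 := d1_1 D4621 (iv D3861) (iv F16846)
theorem F22534 : act 4 n4621 = n3570 := d18_2 (iv F16848) D4621 (iv D3570)
theorem F22535 : act 6 n4621 = n4621 := d20_2 F16849 D4621 (iv D4621)
theorem F22536 : act 8 n4621 = n3494 := d22_2 (iv F16850) D4621 (iv D3494)
def n4622 : Q := act 4 n3484
theorem D4622 : act 4 n3484 = n4622 := rfl
theorem F22537 : act 0 n4622 = n3869 := d3_1 D4622 (iv D3869) (iv F16877)
theorem F22538 : act 1 n4622 = n4622 := d11_1 D4622 (iv D4622) F16878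
theorem F22539 : act 2 n4622 = n3813 := d18_1 D4622 (iv D3813) (iv F20265)
theorem F22540 : act 7 n4622 = n3635 := d32_2 (iv F20266) D4622 (iv D3635)
theorem F22541 : act 8 n4622 = n4622 := d33_2 F16880 D4622 (iv D4622)
theorem F22542 : act 9 n4622 = n3485 := d34_2 (iv F16881) D4622 (iv D3485)
def n4623 : Q := act 6 n3484
theorem D4623 : act 6 n3484 = n4623 := rfl
theorem F22543 : act 0 n4623 = n3870 := d5_1 D4623 (iv D3870) (iv F16877)
theorem F22544 : act 1 n4623 = n4623 := d13_1 D4623 (iv D4623) F16878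
theorem F22545 : act 2 n4623 = n3814 := d20_1 D4623 (iv D3814) (iv F20265)
theorem F22546 : act 3 n4623 = n4623 := d26_1 D4623 (iv D4623) F16879
theorem F22547 : act 5 n4623 = n4623 := d35_1 D4623 (iv D4623) (iv D3484) F12019 D3484
theorem F22548 : act 7 n4623 = n4623 := d39_2 (iv F20266) D4623 (iv D4623) F20266 F12559
theorem F22549 : act 8 n4623 = n4623 := d40_2 F16880 D4623 (iv D4623)
theorem F22550 : act 9 n4623 = n3486 := d41_2 (iv F16881) D4623 (iv D3486)
def n4624 : Q := act 3 n3485
theorem D4624 : act 3 n3485 = n4624 := rfl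
theorem F22551 : act 0 n4624 = n3871 := d2_1 D4624 (iv D3871) (iv F16882)
theorem F22552 : act 1 n4624 = n4624 := d10_1 D4624 (iv D4624) F16883
theorem F22553 : act 4 n4624 = n4624 := d24_2 D3485 D4624 (iv D4624) (iv D3485) F12023
theorem F22554 : act 7 n4624 = n3673 := d27_2 (iv F20272) D4624 (iv D3673)
theorem F22555 : act 8 n4624 = n3489 := d28_2 (iv F16884) D4624 (iv D3489)
def n4625 : Q := act 6 n3485
theorem D4625 : act 6 n3485 = n4625 := rfl
theorem F22556 : act 0 n4625 = n3872 := d5_1 D4625 (iv D3872) (iv F16882)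
theorem F22557 : act 1 n4625 = n4625 := d13_1 D4625 (iv D4625) F16883
theorem F22558 : act 2 n4625 = n3860 := d20_1 D4625 (iv D3860) (iv F20271)
theorem F22559 : act 4 n4625 = n3486 := d31_1 D4625 (iv D3486) D3485
theorem F22560 : act 7 n4625 = n4625 := d39_2 (iv F20272) D4625 (iv D4625) F20272 F12659
theorem F22561 : act 8 n4625 = n3490 := d40_2 (iv F16884) D4625 (iv D3490)
def n4626 : Q := act 2 n3489
theorem D4626 : act 2 n3489 = n4626 := rfl
theorem F22562 : act 0 n4626 = n3877 := d1_1 D4626 (iv D3877) (iv F16900)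
theorem F22563 : act 3 n4626 = n3880 := d17_2 D3489 D4626 (iv D3880) (iv D2713) F20281
theorem F22564 : act 4 n4626 = n4626 := d18_2 F16902 D4626 (iv D4626)
theorem F22565 : act 5 n4626 = n3494 := d19_2 (iv F16903) D4626 (iv D3494)
theorem F22566 : act 7 n4626 = n3706 := d21_2 (iv F20298) D4626 (iv D3706)
theorem F22567 : act 9 n4626 = n4626 := d23_2 F16904 D4626 (iv D4626)
def n4627 : Q := act 6 n3489
theorem D4627 : act 6 n3489 = n4627 := rfl
theorem F22568 : act 0 n4627 = n3878 := d5_1 D4627 (iv D3878) (iv F16900)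
theorem F22569 : act 1 n4627 = n4627 := d13_1 D4627 (iv D4627) F16901
theorem F22570 : act 3 n4627 = n3490 := d26_1 D4627 (iv D3490) D3489
theorem F22571 : act 4 n4627 = n4627 := d31_1 D4627 (iv D4627) F16902
theorem F22572 : act 5 n4627 = n4627 := d35_1 D4627 (iv D4627) F16903 F12059 (iv F16903)
theorem F22573 : act 7 n4627 = n4627 := d39_2 (iv F20298) D4627 (iv D4627) F20298 F12774
theorem F22574 : act 9 n4627 = n4627 := d41_2 F16904 D4627 (iv D4627)
def n4628 : Q := act 2 n3492
theorem D4628 : act 2 n3492 = n4628 := rfl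
theorem F22575 : act 0 n4628 = n3880 := d1_1 D4628 (iv D3880) (iv F16915)
theorem F22576 : act 3 n4628 = n3877 := d17_2 D3492 D4628 (iv D3877) (iv D2710) F20277
theorem F22577 : act 4 n4628 = n3571 := d18_2 (iv F16917) D4628 (iv D3571)
theorem F22578 : act 5 n4628 = n3706 := d19_2 (iv F20302) D4628 (iv D3706)
theorem F22579 : act 7 n4628 = n3494 := d21_2 (iv F16918) D4628 (iv D3494)
theorem F22580 : act 9 n4628 = n4628 := d23_2 F16919 D4628 (iv D4628)
def n4629 : Q := act 6 n3492
theorem D4629 : act 6 n3492 = n4629 := rfl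
theorem F22581 : act 0 n4629 = n3881 := d5_1 D4629 (iv D3881) (iv F16915)
theorem F22583 : act 3 n4629 = n3493 := d26_1 D4629 (iv D3493) D3492
def n4630 : Q := act 1 n3494
theorem D4630 : act 1 n3494 = n4630 := rfl
theorem F22588 : act 2 n4630 = n4630 := d9_2 D3494 D4630 (iv D4630) (iv D3494) F12057
theorem F22589 : act 4 n4630 = n3574 := d11_2 (iv F16926) D4630 (iv D3574)
theorem F22590 : act 6 n4630 = n4630 := d13_2 F16927 D4630 (iv D4630)
theorem F22591 : act 9 n4630 = n4630 := d16_2 F16928 D4630 (iv D4630)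
def n4631 : Q := act 5 n3517
theorem D4631 : act 5 n3517 = n4631 := rfl
theorem F22592 : act 0 n4631 = n3519 := d4_1 D4631 (iv D3519) (iv F17042)
theorem F22593 : act 1 n4631 = n3914 := d12_1 D4631 (iv D3914) (iv F17043)
theorem F22594 : act 2 n4631 = n4631 := d19_1 D4631 (iv D4631) F17044
theorem F22595 : act 3 n4631 = n4631 := d25_1 D4631 (iv D4631) F17045
theorem F22596 : act 6 n4631 = n4631 := d35_2 D3517 D4631 (iv D4631) (iv D3517) F12147
theorem F22597 : act 8 n4631 = n4631 := d37_2 (iv F17046) D4631 (iv D4631) F17046 F12261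
def n4632 : Q := act 7 n3517
theorem D4632 : act 7 n3517 = n4632 := rfl
theorem F22598 : act 0 n4632 = n3520 := d6_1 D4632 (iv D3520) (iv F17042)
theorem F22599 : act 1 n4632 = n3915 := d14_1 D4632 (iv D3915) (iv F17043)
theorem F22600 : act 2 n4632 = n4632 := d21_1 D4632 (iv D4632) F17044
theorem F22601 : act 3 n4632 = n4632 := d27_1 D4632 (iv D4632) F17045
theorem F22602 : act 6 n4632 = n4632 := d39_1 D4632 (iv D4632) (iv D3517) F12148 D3517
theorem F22603 : act 8 n4632 = n3548 := d42_2 (iv F17046) D4632 (iv D3548)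
def n4633 : Q := act 9 n3517
theorem D4633 : act 9 n3517 = n4633 := rfl
theorem F22604 : act 0 n4633 = n3521 := d8_1 D4633 (iv D3521) (iv F17042)
theorem F22605 : act 1 n4633 = n3916 := d16_1 D4633 (iv D3916) (iv F17043)
theorem F22606 : act 2 n4633 = n4633 := d23_1 D4633 (iv D4633) F17044
theorem F22607 : act 3 n4633 = n4633 := d29_1 D4633 (iv D4633) F17045
theorem F22608 : act 6 n4633 = n3518 := d41_1 D4633 (iv D3518) D3517
def n4634 : Q := act 8 n3518
theorem D4634 : act 8 n3518 = n4634 := rfl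
theorem F22609 : act 0 n4634 = n3522 := d7_1 D4634 (iv D3522) (iv F17047)
theorem F22610 : act 1 n4634 = n3917 := d15_1 D4634 (iv D3917) (iv F17048)
theorem F22611 : act 2 n4634 = n4634 := d22_1 D4634 (iv D4634) F17049
theorem F22612 : act 3 n4634 = n4634 := d28_1 D4634 (iv D4634) F17050
theorem F22613 : act 7 n4634 = n4634 := d42_1 D4634 (iv D4634) F17052
theorem F22614 : act 9 n4634 = n3550 := d44_2 D3518 D4634 (iv D3550) (iv D2484) (iv F12149)
def n4635 : Q := act 4 n3519
theorem D4635 : act 4 n3519 = n4635 := rfl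
theorem F22615 : act 1 n4635 = n3523 := d11_1 D4635 (iv D3523) (iv F17053)
theorem F22616 : act 2 n4635 = n4635 := d18_1 D4635 (iv D4635) F17054
theorem F22617 : act 6 n4635 = n4635 := d31_2 F17056 D4635 (iv D4635)
theorem F22618 : act 8 n4635 = n4635 := d33_2 F17057 D4635 (iv D4635)
def n4636 : Q := act 7 n3519
theorem D4636 : act 7 n3519 = n4636 := rfl
theorem F22619 : act 1 n4636 = n3524 := d14_1 D4636 (iv D3524) (iv F17053)
theorem F22620 : act 2 n4636 = n4636 := d21_1 D4636 (iv D4636) F17054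
theorem F22621 : act 3 n4636 = n4636 := d27_1 D4636 (iv D4636) F17055
theorem F22622 : act 5 n4636 = n3520 := d36_1 D4636 (iv D3520) D3519
theorem F22623 : act 8 n4636 = n4636 := d42_2 F17057 D4636 (iv D4636)
def n4637 : Q := act 9 n3519
theorem D4637 : act 9 n3519 = n4637 := rfl
theorem F22624 : act 1 n4637 = n3525 := d16_1 D4637 (iv D3525) (iv F17053)
theorem F22625 : act 2 n4637 = n4637 := d23_1 D4637 (iv D4637) F17054
theorem F22626 : act 3 n4637 = n4637 := d29_1 D4637 (iv D4637) F17055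
theorem F22627 : act 5 n4637 = n3521 := d38_1 D4637 (iv D3521) D3519
theorem F22628 : act 6 n4637 = n4637 := d41_1 D4637 (iv D4637) F17056
def n4638 : Q := act 9 n3520
theorem D4638 : act 9 n3520 = n4638 := rfl
theorem F22629 : act 1 n4638 = n3526 := d16_1 D4638 (iv D3526) (iv F17058)
theorem F22630 : act 2 n4638 = n4638 := d23_1 D4638 (iv D4638) F17059
theorem F22631 : act 3 n4638 = n4638 := d29_1 D4638 (iv D4638) F17060
theorem F22632 : act 6 n4638 = n4638 := d41_1 D4638 (iv D4638) F17061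
theorem F22633 : act 7 n4638 = n3521 := d43_1 D4638 (iv D3521) D3520
def n4639 : Q := act 8 n3521
theorem D4639 : act 8 n3521 = n4639 := rfl
theorem F22634 : act 1 n4639 = n3527 := d15_1 D4639 (iv D3527) (iv F17063)
theorem F22635 : act 2 n4639 = n4639 := d22_1 D4639 (iv D4639) F17064
theorem F22636 : act 3 n4639 = n4639 := d28_1 D4639 (iv D4639) F17065
theorem F22637 : act 6 n4639 = n3522 := d40_1 D4639 (iv D3522) (iv F17066)
theorem F22638 : act 9 n4639 = n3552 := d44_2 D3521 D4639 (iv D3552) (iv D2486) (iv F12153)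
def n4640 : Q := act 5 n3522
theorem D4640 : act 5 n3522 = n4640 := rfl
theorem F22639 : act 1 n4640 = n3528 := d12_1 D4640 (iv D3528) (iv F17067)
theorem F22640 : act 2 n4640 = n4640 := d19_1 D4640 (iv D4640) F17068
theorem F22641 : act 3 n4640 = n4640 := d25_1 D4640 (iv D4640) F17069
theorem F22642 : act 7 n4640 = n4640 := d36_2 F17070 D4640 (iv D4640)
theorem F22643 : act 8 n4640 = n4640 := d37_2 D3522 D4640 (iv D4640) (iv D3522) F12157
theorem F22644 : act 9 n4640 = n3553 := d38_2 (iv F17071) D4640 (iv D3553)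
def n4641 : Q := act 3 n3523
theorem D4641 : act 3 n3523 = n4641 := rfl
theorem F22645 : act 0 n4641 = n3924 := d2_1 D4641 (iv D3924) (iv F17072)
theorem F22646 : act 2 n4641 = n4641 := d17_1 D4641 (iv D4641) F17073 F12180 (iv F17073)
theorem F22647 : act 4 n4641 = n4641 := d24_2 D3523 D4641 (iv D4641) (iv D3523) F12161
theorem F22648 : act 6 n4641 = n4641 := d26_2 F17074 D4641 (iv D4641)
theorem F22649 : act 8 n4641 = n4641 := d28_2 F17075 D4641 (iv D4641)
def n4642 : Q := act 7 n3523
theorem D4642 : act 7 n3523 = n4642 := rfl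
theorem F22650 : act 0 n4642 = n3925 := d6_1 D4642 (iv D3925) (iv F17072)
theorem F22651 : act 2 n4642 = n3529 := d21_1 D4642 (iv D3529) (iv F17073)
theorem F22652 : act 4 n4642 = n3524 := d32_1 D4642 (iv D3524) D3523
theorem F22653 : act 8 n4642 = n4642 := d42_2 F17075 D4642 (iv D4642)
def n4643 : Q := act 9 n3523
theorem D4643 : act 9 n3523 = n4643 := rfl
theorem F22654 : act 0 n4643 = n3926 := d8_1 D4643 (iv D3926) (iv F17072)
theorem F22655 : act 2 n4643 = n3530 := d23_1 D4643 (iv D3530) (iv F17073)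
theorem F22656 : act 4 n4643 = n3525 := d34_1 D4643 (iv D3525) D3523
theorem F22657 : act 6 n4643 = n4643 := d41_1 D4643 (iv D4643) F17074
def n4644 : Q := act 6 n3524
theorem D4644 : act 6 n3524 = n4644 := rfl
theorem F22658 : act 0 n4644 = n3927 := d5_1 D4644 (iv D3927) (iv F17076)
theorem F22659 : act 2 n4644 = n3531 := d20_1 D4644 (iv D3531) (iv F17077)
theorem F22660 : act 3 n4644 = n4644 := d26_1 D4644 (iv D4644) F17078
theorem F22661 : act 5 n4644 = n4644 := d35_1 D4644 (iv D4644) F17079 F12167 (iv F17079)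
theorem F22662 : act 7 n4644 = n4644 := d39_2 D3524 D4644 (iv D4644) (iv D3524) F12162
theorem F22663 : act 8 n4644 = n4644 := d40_2 F17080 D4644 (iv D4644)
def n4645 : Q := act 9 n3524
theorem D4645 : act 9 n3524 = n4645 := rfl
theorem F22664 : act 0 n4645 = n3928 := d8_1 D4645 (iv D3928) (iv F17076)
theorem F22665 : act 2 n4645 = n3532 := d23_1 D4645 (iv D3532) (iv F17077)
theorem F22666 : act 3 n4645 = n4645 := d29_1 D4645 (iv D4645) F17078
theorem F22667 : act 5 n4645 = n3526 := d38_1 D4645 (iv D3526) (iv F17079)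
theorem F22668 : act 7 n4645 = n3525 := d43_1 D4645 (iv D3525) D3524
def n4646 : Q := act 8 n3525
theorem D4646 : act 8 n3525 = n4646 := rfl
theorem F22669 : act 0 n4646 = n3929 := d7_1 D4646 (iv D3929) (iv F17081)
theorem F22670 : act 2 n4646 = n3533 := d22_1 D4646 (iv D3533) (iv F17082)
theorem F22671 : act 3 n4646 = n4646 := d28_1 D4646 (iv D4646) F17083
theorem F22672 : act 6 n4646 = n4646 := d40_1 D4646 (iv D4646) F17085
theorem F22673 : act 9 n4646 = n4646 := d44_2 D3525 D4646 (iv D4646) (iv D3525) F12163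
def n4647 : Q := act 8 n3526
theorem D4647 : act 8 n3526 = n4647 := rfl
theorem F22674 : act 0 n4647 = n3930 := d7_1 D4647 (iv D3930) (iv F17086)
theorem F22675 : act 2 n4647 = n3534 := d22_1 D4647 (iv D3534) (iv F17087)
theorem F22676 : act 3 n4647 = n4647 := d28_1 D4647 (iv D4647) F17088
theorem F22677 : act 6 n4647 = n4647 := d40_1 D4647 (iv D4647) F17089
theorem F22678 : act 7 n4647 = n3527 := d42_1 D4647 (iv D3527) (iv F17090)
theorem F22679 : act 9 n4647 = n3554 := d44_2 D3526 D4647 (iv D3554) (iv D2488) (iv F12168)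
def n4648 : Q := act 5 n3527
theorem D4648 : act 5 n3527 = n4648 := rfl
theorem F22680 : act 0 n4648 = n3931 := d4_1 D4648 (iv D3931) (iv F17091)
theorem F22681 : act 2 n4648 = n3535 := d19_1 D4648 (iv D3535) (iv F17092)
theorem F22682 : act 3 n4648 = n4648 := d25_1 D4648 (iv D4648) F17093
theorem F22683 : act 9 n4648 = n3555 := d38_2 (iv F17095) D4648 (iv D3555)
def n4649 : Q := act 4 n3528
theorem D4649 : act 4 n3528 = n4649 := rfl
theorem F22684 : act 0 n4649 = n3932 := d3_1 D4649 (iv D3932) (iv F17096)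
theorem F22685 : act 2 n4649 = n3536 := d18_1 D4649 (iv D3536) (iv F17097)
theorem F22686 : act 7 n4649 = n4649 := d32_2 F17099 D4649 (iv D4649)
theorem F22687 : act 8 n4649 = n4649 := d33_2 F17100 D4649 (iv D4649)
theorem F22688 : act 9 n4649 = n3556 := d34_2 (iv F17101) D4649 (iv D3556)
def n4650 : Q := act 6 n3528
theorem D4650 : act 6 n3528 = n4650 := rfl
theorem F22689 : act 0 n4650 = n3933 := d5_1 D4650 (iv D3933) (iv F17096)
theorem F22690 : act 2 n4650 = n3537 := d20_1 D4650 (iv D3537) (iv F17097)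
theorem F22691 : act 3 n4650 = n4650 := d26_1 D4650 (iv D4650) F17098
theorem F22692 : act 8 n4650 = n4650 := d40_2 F17100 D4650 (iv D4650)
theorem F22693 : act 9 n4650 = n3557 := d41_2 (iv F17101) D4650 (iv D3557)
def n4651 : Q := act 6 n3529
theorem D4651 : act 6 n3529 = n4651 := rfl
theorem F22694 : act 0 n4651 = n3934 := d5_1 D4651 (iv D3934) (iv F17102)
theorem F22695 : act 1 n4651 = n4651 := d13_1 D4651 (iv D4651) F17103
theorem F22696 : act 3 n4651 = n4651 := d26_1 D4651 (iv D4651) F17104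
theorem F22697 : act 4 n4651 = n3531 := d31_1 D4651 (iv D3531) (iv F17105)
theorem F22698 : act 7 n4651 = n4651 := d39_2 D3529 D4651 (iv D4651) (iv D3529) F12181
theorem F22699 : act 8 n4651 = n4651 := d40_2 F17106 D4651 (iv D4651)
def n4652 : Q := act 9 n3529
theorem D4652 : act 9 n3529 = n4652 := rfl
theorem F22700 : act 0 n4652 = n3935 := d8_1 D4652 (iv D3935) (iv F17102)
theorem F22701 : act 1 n4652 = n4652 := d16_1 D4652 (iv D4652) F17103
theorem F22702 : act 3 n4652 = n4652 := d29_1 D4652 (iv D4652) F17104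
theorem F22703 : act 4 n4652 = n3532 := d34_1 D4652 (iv D3532) (iv F17105)
theorem F22704 : act 7 n4652 = n3530 := d43_1 D4652 (iv D3530) D3529
def n4653 : Q := act 8 n3530
theorem D4653 : act 8 n3530 = n4653 := rfl
theorem F22705 : act 0 n4653 = n3936 := d7_1 D4653 (iv D3936) (iv F17107)
theorem F22706 : act 1 n4653 = n4653 := d15_1 D4653 (iv D4653) F17108
theorem F22707 : act 3 n4653 = n4653 := d28_1 D4653 (iv D4653) F17109
theorem F22708 : act 4 n4653 = n3533 := d33_1 D4653 (iv D3533) (iv F17110)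
theorem F22709 : act 6 n4653 = n4653 := d40_1 D4653 (iv D4653) F17111
theorem F22710 : act 9 n4653 = n4653 := d44_2 D3530 D4653 (iv D4653) (iv D3530) F12182
def n4654 : Q := act 9 n3531
theorem D4654 : act 9 n3531 = n4654 := rfl
theorem F22711 : act 0 n4654 = n3937 := d8_1 D4654 (iv D3937) (iv F17112)
theorem F22712 : act 1 n4654 = n4654 := d16_1 D4654 (iv D4654) F17113
theorem F22713 : act 3 n4654 = n3538 := d29_1 D4654 (iv D3538) (iv F17114)
theorem F22714 : act 5 n4654 = n4654 := d38_1 D4654 (iv D4654) F17115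
theorem F22715 : act 6 n4654 = n3532 := d41_1 D4654 (iv D3532) D3531
theorem F22716 : act 7 n4654 = n4654 := d43_1 D4654 (iv D4654) F17116
def n4655 : Q := act 8 n3532
theorem D4655 : act 8 n3532 = n4655 := rfl
theorem F22717 : act 0 n4655 = n3938 := d7_1 D4655 (iv D3938) (iv F17118)
theorem F22718 : act 1 n4655 = n4655 := d15_1 D4655 (iv D4655) F17119
theorem F22719 : act 3 n4655 = n3539 := d28_1 D4655 (iv D3539) (iv F17120)
theorem F22720 : act 7 n4655 = n3533 := d42_1 D4655 (iv D3533) (iv F17122)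
theorem F22721 : act 9 n4655 = n4655 := d44_2 D3532 D4655 (iv D4655) (iv D3532) F12187
def n4656 : Q := act 5 n3533
theorem D4656 : act 5 n3533 = n4656 := rfl
theorem F22722 : act 0 n4656 = n3939 := d4_1 D4656 (iv D3939) (iv F17123)
theorem F22723 : act 1 n4656 = n4656 := d12_1 D4656 (iv D4656) F17124
theorem F22724 : act 3 n4656 = n3540 := d25_1 D4656 (iv D3540) (iv F17125)
theorem F22725 : act 8 n4656 = n3535 := d37_2 D3533 D4656 (iv D3535) (iv D2473) (iv F12191)
theorem F22726 : act 9 n4656 = n4656 := d38_2 F17127 D4656 (iv D4656)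
def n4657 : Q := act 5 n3534
theorem D4657 : act 5 n3534 = n4657 := rfl
theorem F22727 : act 0 n4657 = n3940 := d4_1 D4657 (iv D3940) (iv F17128)
theorem F22728 : act 1 n4657 = n4657 := d12_1 D4657 (iv D4657) F17129
theorem F22729 : act 3 n4657 = n3541 := d25_1 D4657 (iv D3541) (iv F17130)
theorem F22730 : act 7 n4657 = n3535 := d36_2 (iv F17132) D4657 (iv D3535)
theorem F22731 : act 9 n4657 = n3558 := d38_2 (iv F17133) D4657 (iv D3558)
def n4658 : Q := act 4 n3535
theorem D4658 : act 4 n3535 = n4658 := rfl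
theorem F22732 : act 0 n4658 = n3941 := d3_1 D4658 (iv D3941) (iv F17134)
theorem F22733 : act 1 n4658 = n4658 := d11_1 D4658 (iv D4658) F17135
theorem F22734 : act 9 n4658 = n3559 := d34_2 (iv F17137) D4658 (iv D3559)
def n4659 : Q := act 6 n3535
theorem D4659 : act 6 n3535 = n4659 := rfl
theorem F22735 : act 0 n4659 = n3942 := d5_1 D4659 (iv D3942) (iv F17134)
theorem F22736 : act 1 n4659 = n4659 := d13_1 D4659 (iv D4659) F17135
theorem F22737 : act 3 n4659 = n3543 := d26_1 D4659 (iv D3543) (iv F17136)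
theorem F22738 : act 5 n4659 = n3537 := d35_1 D4659 (iv D3537) (iv D2474) (iv F12201) D3535
theorem F22739 : act 9 n4659 = n3560 := d41_2 (iv F17137) D4659 (iv D3560)
def n4660 : Q := act 6 n3536
theorem D4660 : act 6 n3536 = n4660 := rfl
theorem F22740 : act 0 n4660 = n3943 := d5_1 D4660 (iv D3943) (iv F17138)
theorem F22741 : act 1 n4660 = n4660 := d13_1 D4660 (iv D4660) F17139
theorem F22742 : act 3 n4660 = n4660 := d26_1 D4660 (iv D4660) F17140
theorem F22743 : act 4 n4660 = n3537 := d31_1 D4660 (iv D3537) D3536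
theorem F22744 : act 8 n4660 = n4660 := d40_2 F17142 D4660 (iv D4660)
theorem F22745 : act 9 n4660 = n3561 := d41_2 (iv F17143) D4660 (iv D3561)
def n4661 : Q := act 7 n3537
theorem D4661 : act 7 n3537 = n4661 := rfl
theorem F22746 : act 0 n4661 = n3944 := d6_1 D4661 (iv D3944) (iv F17144)
theorem F22747 : act 1 n4661 = n4661 := d14_1 D4661 (iv D4661) F17145
theorem F22748 : act 3 n4661 = n3544 := d27_1 D4661 (iv D3544) (iv F17146)
theorem F22749 : act 6 n4661 = n4661 := d39_1 D4661 (iv D4661) (iv D3537) F12206 D3537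
theorem F22750 : act 8 n4661 = n4661 := d42_2 F17147 D4661 (iv D4661)
theorem F22751 : act 9 n4661 = n3562 := d43_2 (iv F17148) D4661 (iv D3562)
def n4662 : Q := act 8 n3538
theorem D4662 : act 8 n3538 = n4662 := rfl
theorem F22752 : act 0 n4662 = n3945 := d7_1 D4662 (iv D3945) (iv F17149)
theorem F22753 : act 1 n4662 = n4662 := d15_1 D4662 (iv D4662) F17150
theorem F22754 : act 2 n4662 = n4662 := d22_1 D4662 (iv D4662) F17151
theorem F22755 : act 4 n4662 = n4662 := d33_1 D4662 (iv D4662) F17152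
theorem F22756 : act 6 n4662 = n3539 := d40_1 D4662 (iv D3539) (iv F17154)
theorem F22757 : act 7 n4662 = n4662 := d42_1 D4662 (iv D4662) F17155
theorem F22758 : act 9 n4662 = n4662 := d44_2 D3538 D4662 (iv D4662) (iv D3538) F12215
def n4663 : Q := act 5 n3539
theorem D4663 : act 5 n3539 = n4663 := rfl
theorem F22759 : act 0 n4663 = n3946 := d4_1 D4663 (iv D3946) (iv F17156)
theorem F22760 : act 1 n4663 = n4663 := d12_1 D4663 (iv D4663) F17157
theorem F22761 : act 2 n4663 = n4663 := d19_1 D4663 (iv D4663) F17158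
theorem F22762 : act 7 n4663 = n3540 := d36_2 (iv F17160) D4663 (iv D3540)
theorem F22763 : act 8 n4663 = n3541 := d37_2 D3539 D4663 (iv D3541) (iv D2478) (iv F12220)
theorem F22764 : act 9 n4663 = n4663 := d38_2 F17161 D4663 (iv D4663)
def n4664 : Q := act 4 n3540
theorem D4664 : act 4 n3540 = n4664 := rfl
theorem F22765 : act 0 n4664 = n3947 := d3_1 D4664 (iv D3947) (iv F17162)
theorem F22766 : act 1 n4664 = n4664 := d11_1 D4664 (iv D4664) F17163
theorem F22767 : act 2 n4664 = n4664 := d18_1 D4664 (iv D4664) F17164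
theorem F22768 : act 5 n4664 = n4664 := d30_2 D3540 D4664 (iv D4664) (iv D3540) F12225
theorem F22769 : act 8 n4664 = n3542 := d33_2 (iv F17165) D4664 (iv D3542)
theorem F22770 : act 9 n4664 = n4664 := d34_2 F17166 D4664 (iv D4664)
def n4665 : Q := act 6 n3540
theorem D4665 : act 6 n3540 = n4665 := rfl
theorem F22771 : act 0 n4665 = n3948 := d5_1 D4665 (iv D3948) (iv F17162)
theorem F22772 : act 1 n4665 = n4665 := d13_1 D4665 (iv D4665) F17163
theorem F22773 : act 2 n4665 = n4665 := d20_1 D4665 (iv D4665) F17164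
theorem F22774 : act 5 n4665 = n4665 := d35_1 D4665 (iv D4665) (iv D3540) F12226 D3540
theorem F22775 : act 8 n4665 = n3543 := d40_2 (iv F17165) D4665 (iv D3543)
theorem F22776 : act 9 n4665 = n4665 := d41_2 F17166 D4665 (iv D4665)
def n4666 : Q := act 4 n3541
theorem D4666 : act 4 n3541 = n4666 := rfl
theorem F22777 : act 0 n4666 = n3949 := d3_1 D4666 (iv D3949) (iv F17167)
theorem F22778 : act 1 n4666 = n4666 := d11_1 D4666 (iv D4666) F17168
theorem F22779 : act 2 n4666 = n4666 := d18_1 D4666 (iv D4666) F17169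
theorem F22780 : act 5 n4666 = n3545 := d30_2 D3541 D4666 (iv D3545) (iv D2481) (iv F12231)
theorem F22781 : act 7 n4666 = n3542 := d32_2 (iv F17170) D4666 (iv D3542)
theorem F22782 : act 9 n4666 = n3563 := d34_2 (iv F17171) D4666 (iv D3563)
def n4667 : Q := act 6 n3541
theorem D4667 : act 6 n3541 = n4667 := rfl
theorem F22783 : act 0 n4667 = n3950 := d5_1 D4667 (iv D3950) (iv F17167)
theorem F22784 : act 1 n4667 = n4667 := d13_1 D4667 (iv D4667) F17168
theorem F22785 : act 2 n4667 = n4667 := d20_1 D4667 (iv D4667) F17169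
theorem F22786 : act 5 n4667 = n4667 := d35_1 D4667 (iv D4667) (iv D3541) F12232 D3541
theorem F22787 : act 9 n4667 = n3564 := d41_2 (iv F17171) D4667 (iv D3564)
def n4668 : Q := act 3 n3542
theorem D4668 : act 3 n3542 = n4668 := rfl
theorem F22788 : act 0 n4668 = n3951 := d2_1 D4668 (iv D3951) (iv F17172)
theorem F22789 : act 1 n4668 = n4668 := d10_1 D4668 (iv D4668) F17173
theorem F22790 : act 5 n4668 = n3547 := d25_2 (iv F17175) D4668 (iv D3547)
theorem F22791 : act 9 n4668 = n3565 := d29_2 (iv F17176) D4668 (iv D3565)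
def n4669 : Q := act 6 n3542
theorem D4669 : act 6 n3542 = n4669 := rfl
theorem F22792 : act 0 n4669 = n3952 := d5_1 D4669 (iv D3952) (iv F17172)
theorem F22793 : act 1 n4669 = n4669 := d13_1 D4669 (iv D4669) F17173
theorem F22794 : act 2 n4669 = n4669 := d20_1 D4669 (iv D4669) F17174
theorem F22795 : act 4 n4669 = n3543 := d31_1 D4669 (iv D3543) D3542
theorem F22796 : act 5 n4669 = n4669 := d35_1 D4669 (iv D4669) F17175 F12254 (iv F17175)
theorem F22797 : act 9 n4669 = n3566 := d41_2 (iv F17176) D4669 (iv D3566)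
def n4670 : Q := act 7 n3543
theorem D4670 : act 7 n3543 = n4670 := rfl
theorem F22798 : act 0 n4670 = n3953 := d6_1 D4670 (iv D3953) (iv F17177)
theorem F22799 : act 1 n4670 = n4670 := d14_1 D4670 (iv D4670) F17178
theorem F22800 : act 2 n4670 = n4670 := d21_1 D4670 (iv D4670) F17179
theorem F22801 : act 5 n4670 = n3544 := d36_1 D4670 (iv D3544) (iv F17180)
theorem F22802 : act 9 n4670 = n3567 := d43_2 (iv F17181) D4670 (iv D3567)
def n4671 : Q := act 3 n3545
theorem D4671 : act 3 n3545 = n4671 := rfl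
theorem F22803 : act 0 n4671 = n3954 := d2_1 D4671 (iv D3954) (iv F17189)
theorem F22804 : act 1 n4671 = n4671 := d10_1 D4671 (iv D4671) F17190
theorem F22805 : act 7 n4671 = n3547 := d27_2 (iv F17192) D4671 (iv D3547)
theorem F22806 : act 8 n4671 = n4671 := d28_2 F17193 D4671 (iv D4671)
theorem F22807 : act 9 n4671 = n3568 := d29_2 (iv F17194) D4671 (iv D3568)
def n4672 : Q := act 6 n3545
theorem D4672 : act 6 n3545 = n4672 := rfl
theorem F22808 : act 0 n4672 = n3955 := d5_1 D4672 (iv D3955) (iv F17189)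
def n4673 : Q := act 2 n3547
theorem D4673 : act 2 n3547 = n4673 := rfl
theorem F22815 : act 0 n4673 = n3956 := d1_1 D4673 (iv D3956) (iv F17202)
theorem F22816 : act 3 n4673 = n4673 := d17_2 D3547 D4673 (iv D4673) (iv D3547) F12253
theorem F22817 : act 6 n4673 = n4673 := d20_2 F17204 D4673 (iv D4673)
theorem F22818 : act 8 n4673 = n4673 := d22_2 F17205 D4673 (iv D4673)
theorem F22819 : act 9 n4673 = n3570 := d23_2 (iv F17206) D4673 (iv D3570)
def n4674 : Q := act 9 n3548
theorem D4674 : act 9 n3548 = n4674 := rfl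
theorem F22820 : act 0 n4674 = n3551 := d8_1 D4674 (iv D3551) (iv F17207)
theorem F22821 : act 1 n4674 = n3957 := d16_1 D4674 (iv D3957) (iv F17208)
theorem F22822 : act 2 n4674 = n4674 := d23_1 D4674 (iv D4674) F17209
theorem F22823 : act 3 n4674 = n4674 := d29_1 D4674 (iv D4674) F17210
theorem F22824 : act 5 n4674 = n4674 := d38_1 D4674 (iv D4674) F17211
theorem F22825 : act 6 n4674 = n4674 := d41_1 D4674 (iv D4674) F17212
theorem F22826 : act 7 n4674 = n3549 := d43_1 D4674 (iv D3549) D3548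
def n4675 : Q := act 8 n3549
theorem D4675 : act 8 n3549 = n4675 := rfl
theorem F22827 : act 0 n4675 = n3552 := d7_1 D4675 (iv D3552) (iv F17213)
theorem F22828 : act 1 n4675 = n3958 := d15_1 D4675 (iv D3958) (iv F17214)
theorem F22829 : act 2 n4675 = n4675 := d22_1 D4675 (iv D4675) F17215
theorem F22830 : act 3 n4675 = n4675 := d28_1 D4675 (iv D4675) F17216
theorem F22831 : act 6 n4675 = n3550 := d40_1 D4675 (iv D3550) (iv F17218)
def n4676 : Q := act 5 n3550
theorem D4676 : act 5 n3550 = n4676 := rfl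
theorem F22832 : act 0 n4676 = n3553 := d4_1 D4676 (iv D3553) (iv F17219)
theorem F22833 : act 1 n4676 = n3959 := d12_1 D4676 (iv D3959) (iv F17220)
theorem F22834 : act 2 n4676 = n4676 := d19_1 D4676 (iv D4676) F17221
theorem F22835 : act 3 n4676 = n4676 := d25_1 D4676 (iv D4676) F17222
theorem F22836 : act 7 n4676 = n4676 := d36_2 F17223 D4676 (iv D4676)
theorem F22837 : act 8 n4676 = n3580 := d37_2 D3550 D4676 (iv D3580) (iv D2509) (iv F12266)
def n4677 : Q := act 8 n3551
theorem D4677 : act 8 n3551 = n4677 := rfl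
theorem F22838 : act 1 n4677 = n3554 := d15_1 D4677 (iv D3554) (iv F17224)
theorem F22839 : act 2 n4677 = n4677 := d22_1 D4677 (iv D4677) F17225
theorem F22840 : act 3 n4677 = n4677 := d28_1 D4677 (iv D4677) F17226
theorem F22841 : act 6 n4677 = n4677 := d40_1 D4677 (iv D4677) F17228
theorem F22842 : act 7 n4677 = n3552 := d42_1 D4677 (iv D3552) (iv F17229)
def n4678 : Q := act 5 n3552
theorem D4678 : act 5 n3552 = n4678 := rfl
theorem F22843 : act 1 n4678 = n3555 := d12_1 D4678 (iv D3555) (iv F17230)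
theorem F22844 : act 2 n4678 = n4678 := d19_1 D4678 (iv D4678) F17231
theorem F22845 : act 3 n4678 = n4678 := d25_1 D4678 (iv D4678) F17232
theorem F22846 : act 8 n4678 = n4678 := d37_2 D3552 D4678 (iv D4678) (iv D3552) F12276
def n4679 : Q := act 4 n3553
theorem D4679 : act 4 n3553 = n4679 := rfl
theorem F22847 : act 1 n4679 = n3556 := d11_1 D4679 (iv D3556) (iv F17234)
theorem F22848 : act 2 n4679 = n4679 := d18_1 D4679 (iv D4679) F17235
theorem F22849 : act 7 n4679 = n4679 := d32_2 F17237 D4679 (iv D4679)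
theorem F22850 : act 8 n4679 = n3581 := d33_2 (iv F17238) D4679 (iv D3581)
def n4680 : Q := act 6 n3553
theorem D4680 : act 6 n3553 = n4680 := rfl
theorem F22851 : act 1 n4680 = n3557 := d13_1 D4680 (iv D3557) (iv F17234)
theorem F22852 : act 2 n4680 = n4680 := d20_1 D4680 (iv D4680) F17235
theorem F22853 : act 3 n4680 = n4680 := d26_1 D4680 (iv D4680) F17236
theorem F22854 : act 8 n4680 = n3582 := d40_2 (iv F17238) D4680 (iv D3582)
def n4681 : Q := act 5 n3554
theorem D4681 : act 5 n3554 = n4681 := rfl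
theorem F22855 : act 0 n4681 = n3964 := d4_1 D4681 (iv D3964) (iv F17239)
theorem F22856 : act 2 n4681 = n3558 := d19_1 D4681 (iv D3558) (iv F17240)
theorem F22857 : act 3 n4681 = n4681 := d25_1 D4681 (iv D4681) F17241
theorem F22858 : act 7 n4681 = n3555 := d36_2 (iv F17243) D4681 (iv D3555)
theorem F22859 : act 8 n4681 = n4681 := d37_2 D3554 D4681 (iv D4681) (iv D3554) F12285
def n4682 : Q := act 4 n3555
theorem D4682 : act 4 n3555 = n4682 := rfl
theorem F22860 : act 0 n4682 = n3965 := d3_1 D4682 (iv D3965) (iv F17244)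
theorem F22861 : act 2 n4682 = n3559 := d18_1 D4682 (iv D3559) (iv F17245)
theorem F22862 : act 8 n4682 = n4682 := d33_2 F17247 D4682 (iv D4682)
def n4683 : Q := act 6 n3555
theorem D4683 : act 6 n3555 = n4683 := rfl
theorem F22863 : act 0 n4683 = n3966 := d5_1 D4683 (iv D3966) (iv F17244)
theorem F22864 : act 2 n4683 = n3560 := d20_1 D4683 (iv D3560) (iv F17245)
theorem F22865 : act 3 n4683 = n4683 := d26_1 D4683 (iv D4683) F17246
theorem F22866 : act 5 n4683 = n3557 := d35_1 D4683 (iv D3557) (iv D2490) (iv F12291) D3555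
theorem F22867 : act 8 n4683 = n4683 := d40_2 F17247 D4683 (iv D4683)
def n4684 : Q := act 3 n3556
theorem D4684 : act 3 n3556 = n4684 := rfl
theorem F22868 : act 0 n4684 = n3967 := d2_1 D4684 (iv D3967) (iv F17248)
theorem F22869 : act 2 n4684 = n4684 := d17_1 D4684 (iv D4684) F17249 F12308 (iv F17249)
theorem F22870 : act 4 n4684 = n4684 := d24_2 D3556 D4684 (iv D4684) (iv D3556) F12294
theorem F22871 : act 7 n4684 = n4684 := d27_2 F17250 D4684 (iv D4684)
theorem F22872 : act 8 n4684 = n3583 := d28_2 (iv F17251) D4684 (iv D3583)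
def n4685 : Q := act 6 n3556
theorem D4685 : act 6 n3556 = n4685 := rfl
theorem F22873 : act 0 n4685 = n3968 := d5_1 D4685 (iv D3968) (iv F17248)
theorem F22874 : act 2 n4685 = n3561 := d20_1 D4685 (iv D3561) (iv F17249)
theorem F22875 : act 4 n4685 = n3557 := d31_1 D4685 (iv D3557) D3556
theorem F22876 : act 8 n4685 = n3584 := d40_2 (iv F17251) D4685 (iv D3584)
def n4686 : Q := act 7 n3557
theorem D4686 : act 7 n3557 = n4686 := rfl
theorem F22877 : act 0 n4686 = n3969 := d6_1 D4686 (iv D3969) (iv F17252)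
theorem F22878 : act 2 n4686 = n3562 := d21_1 D4686 (iv D3562) (iv F17253)
theorem F22879 : act 3 n4686 = n4686 := d27_1 D4686 (iv D4686) F17254
theorem F22880 : act 6 n4686 = n4686 := d39_1 D4686 (iv D4686) (iv D3557) F12295 D3557
theorem F22881 : act 8 n4686 = n3585 := d42_2 (iv F17255) D4686 (iv D3585)
def n4687 : Q := act 4 n3558
theorem D4687 : act 4 n3558 = n4687 := rfl
theorem F22882 : act 0 n4687 = n3970 := d3_1 D4687 (iv D3970) (iv F17256)
theorem F22883 : act 1 n4687 = n4687 := d11_1 D4687 (iv D4687) F17257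
theorem F22884 : act 7 n4687 = n3559 := d32_2 (iv F17259) D4687 (iv D3559)
theorem F22885 : act 8 n4687 = n4687 := d33_2 F17260 D4687 (iv D4687)
def n4688 : Q := act 6 n3558
theorem D4688 : act 6 n3558 = n4688 := rfl
theorem F22886 : act 0 n4688 = n3971 := d5_1 D4688 (iv D3971) (iv F17256)
theorem F22887 : act 1 n4688 = n4688 := d13_1 D4688 (iv D4688) F17257
theorem F22888 : act 3 n4688 = n3564 := d26_1 D4688 (iv D3564) (iv F17258)
theorem F22889 : act 5 n4688 = n4688 := d35_1 D4688 (iv D4688) (iv D3558) F12300 D3558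
theorem F22890 : act 8 n4688 = n4688 := d40_2 F17260 D4688 (iv D4688)
def n4689 : Q := act 3 n3559
theorem D4689 : act 3 n3559 = n4689 := rfl
theorem F22891 : act 0 n4689 = n3972 := d2_1 D4689 (iv D3972) (iv F17261)
theorem F22892 : act 1 n4689 = n4689 := d10_1 D4689 (iv D4689) F17262
theorem F22893 : act 4 n4689 = n3565 := d24_2 D3559 D4689 (iv D3565) (iv D2496) (iv F12304)
theorem F22894 : act 8 n4689 = n4689 := d28_2 F17263 D4689 (iv D4689)
def n4690 : Q := act 6 n3559
theorem D4690 : act 6 n3559 = n4690 := rfl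
theorem F22895 : act 0 n4690 = n3973 := d5_1 D4690 (iv D3973) (iv F17261)
theorem F22896 : act 1 n4690 = n4690 := d13_1 D4690 (iv D4690) F17262
theorem F22897 : act 4 n4690 = n3560 := d31_1 D4690 (iv D3560) D3559
theorem F22898 : act 8 n4690 = n4690 := d40_2 F17263 D4690 (iv D4690)
def n4691 : Q := act 7 n3560
theorem D4691 : act 7 n3560 = n4691 := rfl
theorem F22899 : act 0 n4691 = n3974 := d6_1 D4691 (iv D3974) (iv F17264)
theorem F22900 : act 1 n4691 = n4691 := d14_1 D4691 (iv D4691) F17265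
theorem F22901 : act 3 n4691 = n3567 := d27_1 D4691 (iv D3567) (iv F17266)
theorem F22902 : act 5 n4691 = n3562 := d36_1 D4691 (iv D3562) (iv F17267)
theorem F22903 : act 8 n4691 = n4691 := d42_2 F17268 D4691 (iv D4691)
def n4692 : Q := act 5 n3561
theorem D4692 : act 5 n3561 = n4692 := rfl
theorem F22904 : act 0 n4692 = n3975 := d4_1 D4692 (iv D3975) (iv F17269)
theorem F22905 : act 1 n4692 = n4692 := d12_1 D4692 (iv D4692) F17270
theorem F22906 : act 3 n4692 = n4692 := d25_1 D4692 (iv D4692) F17271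
def n4693 : Q := act 7 n3561
theorem D4693 : act 7 n3561 = n4693 := rfl
theorem F22907 : act 0 n4693 = n3976 := d6_1 D4693 (iv D3976) (iv F17269)
theorem F22908 : act 1 n4693 = n4693 := d14_1 D4693 (iv D4693) F17270
theorem F22909 : act 3 n4693 = n4693 := d27_1 D4693 (iv D4693) F17271
theorem F22910 : act 4 n4693 = n3562 := d32_1 D4693 (iv D3562) (iv F17272)
theorem F22911 : act 6 n4693 = n4693 := d39_1 D4693 (iv D4693) (iv D3561) F12309 D3561
theorem F22912 : act 8 n4693 = n3587 := d42_2 (iv F17273) D4693 (iv D3587)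
def n4694 : Q := act 3 n3563
theorem D4694 : act 3 n3563 = n4694 := rfl
theorem F22913 : act 0 n4694 = n3977 := d2_1 D4694 (iv D3977) (iv F17279)
theorem F22914 : act 1 n4694 = n4694 := d10_1 D4694 (iv D4694) F17280
theorem F22915 : act 5 n4694 = n3568 := d25_2 (iv F17282) D4694 (iv D3568)
theorem F22916 : act 7 n4694 = n3565 := d27_2 (iv F17283) D4694 (iv D3565)
theorem F22917 : act 8 n4694 = n4694 := d28_2 F17284 D4694 (iv D4694)
def n4695 : Q := act 6 n3563
theorem D4695 : act 6 n3563 = n4695 := rfl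
theorem F22921 : act 4 n4695 = n3564 := d31_1 D4695 (iv D3564) D3563
def n4696 : Q := act 7 n3564
theorem D4696 : act 7 n3564 = n4696 := rfl
theorem F22923 : act 0 n4696 = n3979 := d6_1 D4696 (iv D3979) (iv F17285)
theorem F22924 : act 1 n4696 = n4696 := d14_1 D4696 (iv D4696) F17286
theorem F22925 : act 2 n4696 = n4696 := d21_1 D4696 (iv D4696) F17287
theorem F22926 : act 5 n4696 = n4696 := d36_1 D4696 (iv D4696) F17288
theorem F22927 : act 6 n4696 = n3567 := d39_1 D4696 (iv D3567) (iv D2497) (iv F12318) D3564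
theorem F22928 : act 8 n4696 = n4696 := d42_2 F17289 D4696 (iv D4696)
def n4697 : Q := act 2 n3565
theorem D4697 : act 2 n3565 = n4697 := rfl
theorem F22929 : act 0 n4697 = n3980 := d1_1 D4697 (iv D3980) (iv F17290)
theorem F22930 : act 3 n4697 = n4697 := d17_2 D3565 D4697 (iv D4697) (iv D3565) F12322
theorem F22931 : act 5 n4697 = n3570 := d19_2 (iv F17292) D4697 (iv D3570)
theorem F22932 : act 8 n4697 = n4697 := d22_2 F17293 D4697 (iv D4697)
def n4698 : Q := act 6 n3565
theorem D4698 : act 6 n3565 = n4698 := rfl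
theorem F22933 : act 0 n4698 = n3981 := d5_1 D4698 (iv D3981) (iv F17290)
theorem F22934 : act 1 n4698 = n4698 := d13_1 D4698 (iv D4698) F17291
theorem F22935 : act 3 n4698 = n3566 := d26_1 D4698 (iv D3566) D3565
theorem F22936 : act 5 n4698 = n4698 := d35_1 D4698 (iv D4698) F17292 F12349 (iv F17292)
theorem F22937 : act 8 n4698 = n4698 := d40_2 F17293 D4698 (iv D4698)
def n4699 : Q := act 7 n3566
theorem D4699 : act 7 n3566 = n4699 := rfl
theorem F22938 : act 0 n4699 = n3982 := d6_1 D4699 (iv D3982) (iv F17294)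
theorem F22939 : act 1 n4699 = n4699 := d14_1 D4699 (iv D4699) F17295
theorem F22940 : act 2 n4699 = n4699 := d21_1 D4699 (iv D4699) F17296
theorem F22941 : act 4 n4699 = n3567 := d32_1 D4699 (iv D3567) (iv F17297)
theorem F22942 : act 5 n4699 = n4699 := d36_1 D4699 (iv D4699) F17298
theorem F22943 : act 8 n4699 = n4699 := d42_2 F17299 D4699 (iv D4699)
def n4700 : Q := act 2 n3568
theorem D4700 : act 2 n3568 = n4700 := rfl
theorem F22944 : act 0 n4700 = n3983 := d1_1 D4700 (iv D3983) (iv F17305)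
theorem F22945 : act 3 n4700 = n4700 := d17_2 D3568 D4700 (iv D4700) (iv D3568) F12338
theorem F22946 : act 7 n4700 = n3570 := d21_2 (iv F17307) D4700 (iv D3570)
theorem F22947 : act 8 n4700 = n3571 := d22_2 (iv F17308) D4700 (iv D3571)
def n4701 : Q := act 6 n3568
theorem D4701 : act 6 n3568 = n4701 := rfl
theorem F22948 : act 0 n4701 = n3984 := d5_1 D4701 (iv D3984) (iv F17305)
theorem F22950 : act 3 n4701 = n3569 := d26_1 D4701 (iv D3569) D3568
def n4702 : Q := act 5 n3569
theorem D4702 : act 5 n3569 = n4702 := rfl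
theorem F22953 : act 0 n4702 = n3985 := d4_1 D4702 (iv D3985) (iv F17309)
theorem F22956 : act 4 n4702 = n4702 := d30_1 D4702 (iv D4702) F17312 F12344 (iv F17312)
def n4703 : Q := act 1 n3570
theorem D4703 : act 1 n3570 = n4703 := rfl
theorem F22958 : act 2 n4703 = n4703 := d9_2 D3570 D4703 (iv D4703) (iv D3570) F12348
theorem F22959 : act 3 n4703 = n4703 := d10_2 F17316 D4703 (iv D4703)
theorem F22960 : act 6 n4703 = n4703 := d13_2 F17317 D4703 (iv D4703)
theorem F22961 : act 8 n4703 = n3574 := d15_2 (iv F17318) D4703 (iv D3574)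
def n4704 : Q := act 1 n3571
theorem D4704 : act 1 n3571 = n4704 := rfl
theorem F22962 : act 2 n4704 = n4704 := d9_2 D3571 D4704 (iv D4704) (iv D3571) F12352
theorem F22963 : act 3 n4704 = n4704 := d10_2 F17320 D4704 (iv D4704)
theorem F22964 : act 5 n4704 = n4704 := d12_2 F17321 D4704 (iv D4704)
theorem F22965 : act 7 n4704 = n3574 := d14_2 (iv F17322) D4704 (iv D3574)
theorem F22966 : act 9 n4704 = n4704 := d16_2 F17323 D4704 (iv D4704)
def n4705 : Q := act 6 n3571
theorem D4705 : act 6 n3571 = n4705 := rfl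
theorem F22967 : act 0 n4705 = n3988 := d5_1 D4705 (iv D3988) (iv F17319)
def n4707 : Q := act 8 n3573
theorem D4707 : act 8 n3573 = n4707 := rfl
theorem F22979 : act 0 n4707 = n3990 := d7_1 D4707 (iv D3990) (iv F17329)
def n4708 : Q := act 0 n3574
theorem D4708 : act 0 n3574 = n4708 := rfl
theorem F22985 : act 1 n4708 = n3991 := d0_2 D3574 D4708 (iv D3991) (iv D2795) (iv F12362)
theorem F22986 : act 2 n4708 = n4708 := d1_2 F17336 D4708 (iv D4708)
theorem F22987 : act 3 n4708 = n4708 := d2_2 F17337 D4708 (iv D4708)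
theorem F22988 : act 5 n4708 = n4708 := d4_2 F17338 D4708 (iv D4708)
theorem F22989 : act 6 n4708 = n4708 := d5_2 F17339 D4708 (iv D4708)
theorem F22990 : act 9 n4708 = n4708 := d8_2 F17340 D4708 (iv D4708)
def n4710 : Q := act 4 n3580
theorem D4710 : act 4 n3580 = n4710 := rfl
theorem F22999 : act 0 n4710 = n3581 := d3_1 D4710 (iv D3581) (iv F17372)
theorem F23000 : act 1 n4710 = n3998 := d11_1 D4710 (iv D3998) (iv F17373)
theorem F23001 : act 2 n4710 = n4710 := d18_1 D4710 (iv D4710) F17374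
theorem F23002 : act 5 n4710 = n4710 := d30_2 D3580 D4710 (iv D4710) (iv D3580) F12395
theorem F23003 : act 7 n4710 = n4710 := d32_2 F17376 D4710 (iv D4710)
theorem F23004 : act 9 n4710 = n4710 := d34_2 F17377 D4710 (iv D4710)
def n4711 : Q := act 6 n3580
theorem D4711 : act 6 n3580 = n4711 := rfl
theorem F23005 : act 0 n4711 = n3582 := d5_1 D4711 (iv D3582) (iv F17372)
theorem F23006 : act 1 n4711 = n3999 := d13_1 D4711 (iv D3999) (iv F17373)
def n4712 : Q := act 3 n3581
theorem D4712 : act 3 n3581 = n4712 := rfl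
theorem F23011 : act 1 n4712 = n3583 := d10_1 D4712 (iv D3583) (iv F17378)
theorem F23012 : act 4 n4712 = n4712 := d24_2 D3581 D4712 (iv D4712) (iv D3581) F12401
theorem F23013 : act 5 n4712 = n4712 := d25_2 F17380 D4712 (iv D4712)
theorem F23014 : act 7 n4712 = n4712 := d27_2 F17381 D4712 (iv D4712)
theorem F23015 : act 9 n4712 = n4712 := d29_2 F17382 D4712 (iv D4712)
def n4713 : Q := act 6 n3581
theorem D4713 : act 6 n3581 = n4713 := rfl
theorem F23016 : act 1 n4713 = n3584 := d13_1 D4713 (iv D3584) (iv F17378)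
theorem F23017 : act 2 n4713 = n4713 := d20_1 D4713 (iv D4713) F17379
theorem F23018 : act 4 n4713 = n3582 := d31_1 D4713 (iv D3582) D3581
theorem F23019 : act 9 n4713 = n4713 := d41_2 F17382 D4713 (iv D4713)
def n4714 : Q := act 7 n3582
theorem D4714 : act 7 n3582 = n4714 := rfl
def n4715 : Q := act 6 n3583
theorem D4715 : act 6 n3583 = n4715 := rfl
theorem F23026 : act 0 n4715 = n4003 := d5_1 D4715 (iv D4003) (iv F17388)
theorem F23027 : act 2 n4715 = n4715 := d20_1 D4715 (iv D4715) F17389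
theorem F23028 : act 3 n4715 = n3584 := d26_1 D4715 (iv D3584) D3583
theorem F23029 : act 4 n4715 = n4715 := d31_1 D4715 (iv D4715) F17390
theorem F23030 : act 9 n4715 = n4715 := d41_2 F17393 D4715 (iv D4715)
def n4716 : Q := act 5 n3584
theorem D4716 : act 5 n3584 = n4716 := rfl
theorem F23031 : act 0 n4716 = n4004 := d4_1 D4716 (iv D4004) (iv F17394)
theorem F23032 : act 2 n4716 = n3586 := d19_1 D4716 (iv D3586) (iv F17395)
theorem F23033 : act 4 n4716 = n4716 := d30_1 D4716 (iv D4716) F17396 F12412 (iv F17396)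
theorem F23034 : act 6 n4716 = n4716 := d35_2 D3584 D4716 (iv D4716) (iv D3584) F12406
theorem F23035 : act 9 n4716 = n4716 := d38_2 F17397 D4716 (iv D4716)
def n4717 : Q := act 7 n3584
theorem D4717 : act 7 n3584 = n4717 := rfl
theorem F23036 : act 0 n4717 = n4005 := d6_1 D4717 (iv D4005) (iv F17394)
theorem F23037 : act 2 n4717 = n3587 := d21_1 D4717 (iv D3587) (iv F17395)
theorem F23038 : act 4 n4717 = n3585 := d32_1 D4717 (iv D3585) (iv F17396)
theorem F23039 : act 6 n4717 = n4717 := d39_1 D4717 (iv D4717) (iv D3584) F12407 D3584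
theorem F23040 : act 9 n4717 = n4717 := d43_2 F17397 D4717 (iv D4717)
def n4718 : Q := act 7 n3586
theorem D4718 : act 7 n3586 = n4718 := rfl
theorem F23041 : act 0 n4718 = n4006 := d6_1 D4718 (iv D4006) (iv F17404)
theorem F23042 : act 1 n4718 = n4718 := d14_1 D4718 (iv D4718) F17405
theorem F23043 : act 3 n4718 = n4718 := d27_1 D4718 (iv D4718) F17406
theorem F23044 : act 4 n4718 = n4718 := d32_1 D4718 (iv D4718) F17407
theorem F23045 : act 5 n4718 = n3587 := d36_1 D4718 (iv D3587) D3586
theorem F23046 : act 9 n4718 = n4718 := d43_2 F17409 D4718 (iv D4718)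
def n4719 : Q := act 8 n3586
theorem D4719 : act 8 n3586 = n4719 := rfl
theorem F23047 : act 0 n4719 = n4007 := d7_1 D4719 (iv D4007) (iv F17404)
theorem F23048 : act 1 n4719 = n4719 := d15_1 D4719 (iv D4719) F17405
theorem F23049 : act 3 n4719 = n4719 := d28_1 D4719 (iv D4719) F17406
theorem F23050 : act 4 n4719 = n4719 := d33_1 D4719 (iv D4719) F17407
theorem F23051 : act 6 n4719 = n4719 := d40_1 D4719 (iv D4719) F17408
def n4720 : Q := act 1 n3588
theorem D4720 : act 1 n3588 = n4720 := rfl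
theorem F23052 : act 2 n4720 = n4720 := d9_2 D3588 D4720 (iv D4720) (iv D3588) F12425
theorem F23053 : act 3 n4720 = n4720 := d10_2 F17416 D4720 (iv D4720)
theorem F23054 : act 4 n4720 = n3597 := d11_2 (iv F17417) D4720 (iv D3597)
theorem F23055 : act 5 n4720 = n4720 := d12_2 F17418 D4720 (iv D4720)
theorem F23056 : act 7 n4720 = n4720 := d14_2 F17419 D4720 (iv D4720)
theorem F23057 : act 8 n4720 = n4720 := d15_2 F17420 D4720 (iv D4720)
def n4721 : Q := act 6 n3588
theorem D4721 : act 6 n3588 = n4721 := rfl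
theorem F23058 : act 0 n4721 = n3919 := d5_1 D4721 (iv F21812) F21807
theorem F23059 : act 2 n4721 = n3589 := d20_1 D4721 (iv D3589) D3588
theorem F23060 : act 3 n4721 = n4721 := d26_1 D4721 (iv D4721) F17416
theorem F23061 : act 4 n4721 = n3598 := d31_1 D4721 (iv D3598) (iv F17417)
theorem F23062 : act 8 n4721 = n4721 := d40_2 F17420 D4721 (iv D4721)
theorem F23063 : act 5 n3915 = n4721 := d19_0 F23059 (iv F20388) (iv F18762)
theorem F23064 : act 7 n3914 = n4721 := d21_0 F23059 F20367 (iv F18757)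
def n4722 : Q := act 9 n3588
theorem D4722 : act 9 n3588 = n4722 := rfl
theorem F23065 : act 2 n4722 = n3590 := d23_1 D4722 (iv D3590) D3588
theorem F23066 : act 3 n4722 = n4722 := d29_1 D4722 (iv D4722) F17416
theorem F23067 : act 4 n4722 = n3599 := d34_1 D4722 (iv D3599) (iv F17417)
theorem F23068 : act 5 n4722 = n4722 := d38_1 D4722 (iv D4722) F17418
theorem F23069 : act 7 n4722 = n4722 := d43_1 D4722 (iv D4722) F17419
def n4723 : Q := act 9 n3589
theorem D4723 : act 9 n3589 = n4723 := rfl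
theorem F23070 : act 0 n4723 = n4194 := d8_1 D4723 (iv D4194) F20386
theorem F23071 : act 1 n4723 = n4723 := d16_1 D4723 (iv D4723) F17421
theorem F23072 : act 3 n4723 = n3593 := d29_1 D4723 (iv D3593) (iv F17422)
theorem F23073 : act 4 n4723 = n3602 := d34_1 D4723 (iv D3602) (iv F17423)
theorem F23074 : act 5 n4723 = n4190 := d38_1 D4723 (iv D4190) F20388
theorem F23075 : act 6 n4723 = n3590 := d41_1 D4723 (iv D3590) D3589
theorem F23076 : act 7 n4723 = n4189 := d43_1 D4723 (iv D4189) (iv F20367)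
def n4724 : Q := act 8 n3590
theorem D4724 : act 8 n3590 = n4724 := rfl
theorem F23077 : act 1 n4724 = n4724 := d15_1 D4724 (iv D4724) F17425
theorem F23078 : act 3 n4724 = n3594 := d28_1 D4724 (iv D3594) (iv F17426)
theorem F23079 : act 4 n4724 = n3603 := d33_1 D4724 (iv D3603) (iv F17427)
theorem F23080 : act 7 n4724 = n4724 := d42_1 D4724 (iv D4724) F17429
theorem F23081 : act 9 n4724 = n4724 := d44_2 D3590 D4724 (iv D4724) (iv D3590) F12429
def n4725 : Q := act 8 n3593
theorem D4725 : act 8 n3593 = n4725 := rfl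
theorem F23082 : act 0 n4725 = n4306 := d7_1 D4725 (iv D4306) F20369
theorem F23083 : act 1 n4725 = n4725 := d15_1 D4725 (iv D4725) F17439
theorem F23084 : act 2 n4725 = n4725 := d22_1 D4725 (iv D4725) F17440
theorem F23085 : act 4 n4725 = n3596 := d33_1 D4725 (iv D3596) (iv F17441)
theorem F23086 : act 6 n4725 = n3594 := d40_1 D4725 (iv D3594) (iv F17442)
theorem F23087 : act 7 n4725 = n4300 := d42_1 D4725 (iv D4300) (iv F20368)
theorem F23088 : act 9 n4725 = n4725 := d44_2 D3593 D4725 (iv D4725) (iv D3593) F12433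
def n4726 : Q := act 5 n3594
theorem D4726 : act 5 n3594 = n4726 := rfl
theorem F23089 : act 1 n4726 = n4726 := d12_1 D4726 (iv D4726) F17443
theorem F23090 : act 2 n4726 = n4726 := d19_1 D4726 (iv D4726) F17444
theorem F23091 : act 4 n4726 = n4726 := d30_1 D4726 (iv D4726) F17445 F12453 (iv F17445)
theorem F23092 : act 7 n4726 = n4726 := d36_2 F17446 D4726 (iv D4726)
theorem F23093 : act 8 n4726 = n4726 := d37_2 D3594 D4726 (iv D4726) (iv D3594) F12437
theorem F23094 : act 9 n4726 = n4726 := d38_2 F17447 D4726 (iv D4726)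
def n4727 : Q := act 8 n3595
theorem D4727 : act 8 n3595 = n4727 := rfl
theorem F23095 : act 0 n4727 = n4305 := d7_1 D4727 (iv D4305) (iv F20372)
theorem F23096 : act 1 n4727 = n4727 := d15_1 D4727 (iv D4727) F17448
theorem F23097 : act 2 n4727 = n4727 := d22_1 D4727 (iv D4727) F17449
theorem F23098 : act 3 n4727 = n3610 := d28_1 D4727 (iv D3610) (iv F17450)
theorem F23099 : act 4 n4727 = n4300 := d33_1 D4727 (iv D4300) F20370
theorem F23100 : act 6 n4727 = n4727 := d40_1 D4727 (iv D4727) F17452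
theorem F23101 : act 7 n4727 = n3596 := d42_1 D4727 (iv D3596) (iv F17453)
theorem F23102 : act 9 n4727 = n4727 := d44_2 D3595 D4727 (iv D4727) (iv D3595) F12444
def n4728 : Q := act 5 n3596
theorem D4728 : act 5 n3596 = n4728 := rfl
theorem F23103 : act 1 n4728 = n4728 := d12_1 D4728 (iv D4728) F17454
theorem F23104 : act 2 n4728 = n4728 := d19_1 D4728 (iv D4728) F17455
theorem F23105 : act 3 n4728 = n3611 := d25_1 D4728 (iv D3611) (iv F17456)
theorem F23106 : act 6 n4728 = n4728 := d35_2 (iv F17457) D4728 (iv D4728) F17457 F12453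
theorem F23107 : act 8 n4728 = n4728 := d37_2 D3596 D4728 (iv D4728) (iv D3596) F12448
theorem F23108 : act 9 n4728 = n4728 := d38_2 F17458 D4728 (iv D4728)
def n4729 : Q := act 0 n3597
theorem D4729 : act 0 n3597 = n4729 := rfl
theorem F23109 : act 2 n4729 = n4729 := d1_2 F17459 D4729 (iv D4729)
theorem F23110 : act 3 n4729 = n3754 := d2_2 (iv F17460) D4729 (iv D3754)
theorem F23111 : act 5 n4729 = n3612 := d4_2 (iv F17461) D4729 (iv D3612)
theorem F23112 : act 7 n4729 = n4729 := d6_2 F17462 D4729 (iv D4729)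
theorem F23113 : act 8 n4729 = n4729 := d7_2 F17463 D4729 (iv D4729)
def n4730 : Q := act 6 n3597
theorem D4730 : act 6 n3597 = n4730 := rfl
theorem F23114 : act 1 n4730 = n3598 := d13_1 D4730 (iv D3598) D3597
theorem F23115 : act 2 n4730 = n4730 := d20_1 D4730 (iv D4730) F17459
theorem F23116 : act 3 n4730 = n3755 := d26_1 D4730 (iv D3755) (iv F17460)
theorem F23117 : act 8 n4730 = n4730 := d40_2 F17463 D4730 (iv D4730)
def n4731 : Q := act 9 n3597
theorem D4731 : act 9 n3597 = n4731 := rfl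
theorem F23118 : act 1 n4731 = n3599 := d16_1 D4731 (iv D3599) D3597
theorem F23119 : act 2 n4731 = n4731 := d23_1 D4731 (iv D4731) F17459
theorem F23120 : act 3 n4731 = n3756 := d29_1 D4731 (iv D3756) (iv F17460)
theorem F23121 : act 5 n4731 = n3614 := d38_1 D4731 (iv D3614) (iv F17461)
theorem F23122 : act 7 n4731 = n4731 := d43_1 D4731 (iv D4731) F17462
def n4732 : Q := act 5 n3598
theorem D4732 : act 5 n3598 = n4732 := rfl
theorem F23123 : act 2 n4732 = n3600 := d19_1 D4732 (iv D3600) (iv F17464)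
theorem F23124 : act 3 n4732 = n3757 := d25_1 D4732 (iv D3757) (iv F17465)
theorem F23125 : act 6 n4732 = n3615 := d35_2 D3598 D4732 (iv D3615) (iv D2531) (iv F12457)
def n4733 : Q := act 7 n3598
theorem D4733 : act 7 n3598 = n4733 := rfl
theorem F23126 : act 0 n4733 = n3918 := d6_1 D4733 F21850 F21844
theorem F23127 : act 2 n4733 = n3601 := d21_1 D4733 (iv D3601) (iv F17464)
theorem F23128 : act 3 n4733 = n3758 := d27_1 D4733 (iv D3758) (iv F17465)
theorem F23129 : act 4 n4733 = n3914 := d32_1 D4733 F23064 F23061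
theorem F23130 : act 6 n4733 = n4733 := d39_1 D4733 (iv D4733) (iv D3598) F12458 D3598
theorem F23131 : act 8 n4733 = n4733 := d42_2 F17466 D4733 (iv D4733)
def n4734 : Q := act 9 n3598
theorem D4734 : act 9 n3598 = n4734 := rfl
theorem F23132 : act 2 n4734 = n3602 := d23_1 D4734 (iv D3602) (iv F17464)
theorem F23133 : act 3 n4734 = n3759 := d29_1 D4734 (iv D3759) (iv F17465)
theorem F23134 : act 6 n4734 = n3599 := d41_1 D4734 (iv D3599) D3598
def n4735 : Q := act 8 n3599
theorem D4735 : act 8 n3599 = n4735 := rfl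
theorem F23135 : act 2 n4735 = n3603 := d22_1 D4735 (iv D3603) (iv F17467)
theorem F23136 : act 3 n4735 = n3760 := d28_1 D4735 (iv D3760) (iv F17468)
theorem F23137 : act 7 n4735 = n4735 := d42_1 D4735 (iv D4735) F17470
theorem F23138 : act 9 n4735 = n4735 := d44_2 D3599 D4735 (iv D4735) (iv D3599) F12459
def n4736 : Q := act 4 n3600
theorem D4736 : act 4 n3600 = n4736 := rfl
theorem F23139 : act 0 n4736 = n4048 := d3_1 D4736 (iv F21859) F21856
theorem F23140 : act 1 n4736 = n4736 := d11_1 D4736 (iv D4736) F17471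
theorem F23141 : act 3 n4736 = n4736 := d24_1 D4736 (iv D4736) F17472 F12469 (iv F17472)
theorem F23142 : act 5 n4736 = n4044 := d30_2 D3600 D4736 F19351 F20388 F17423
theorem F23143 : act 6 n4736 = n3619 := d31_2 (iv F17473) D4736 (iv D3619)
theorem F23144 : act 7 n4043 = n4736 := d36_0 F23142 (iv D4044) D4043
def n4737 : Q := act 7 n3600
theorem D4737 : act 7 n3600 = n4737 := rfl
theorem F23145 : act 0 n4737 = n4047 := d6_1 D4737 (iv F21861) F21856
theorem F23146 : act 1 n4737 = n4737 := d14_1 D4737 (iv D4737) F17471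
theorem F23147 : act 3 n4737 = n3604 := d27_1 D4737 (iv D3604) (iv F17472)
theorem F23148 : act 4 n4737 = n4043 := d32_1 D4737 F23144 (iv D4736)
theorem F23149 : act 5 n4737 = n3601 := d36_1 D4737 (iv D3601) D3600
def n4738 : Q := act 9 n3600
theorem D4738 : act 9 n3600 = n4738 := rfl
theorem F23150 : act 1 n4738 = n4738 := d16_1 D4738 (iv D4738) F17471
theorem F23151 : act 3 n4738 = n3606 := d29_1 D4738 (iv D3606) (iv F17472)
theorem F23152 : act 5 n4738 = n3602 := d38_1 D4738 (iv D3602) D3600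
theorem F23153 : act 6 n4738 = n3622 := d41_1 D4738 (iv D3622) (iv F17473)
def n4739 : Q := act 9 n3601
theorem D4739 : act 9 n3601 = n4739 := rfl
theorem F23154 : act 0 n4739 = n4193 := d8_1 D4739 (iv D4193) (iv F20389)
theorem F23155 : act 1 n4739 = n4739 := d16_1 D4739 (iv D4739) F17474
theorem F23156 : act 3 n4739 = n3607 := d29_1 D4739 (iv D3607) (iv F17475)
theorem F23157 : act 4 n4739 = n4189 := d34_1 D4739 (iv D4189) F20387
theorem F23158 : act 6 n4739 = n4739 := d41_1 D4739 (iv D4739) F17476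
theorem F23159 : act 7 n4739 = n3602 := d43_1 D4739 (iv D3602) D3601
def n4740 : Q := act 8 n3602
theorem D4740 : act 8 n3602 = n4740 := rfl
theorem F23160 : act 1 n4740 = n4740 := d15_1 D4740 (iv D4740) F17478
theorem F23161 : act 3 n4740 = n3608 := d28_1 D4740 (iv D3608) (iv F17479)
theorem F23162 : act 6 n4740 = n3603 := d40_1 D4740 (iv D3603) (iv F17480)
theorem F23163 : act 9 n4740 = n4740 := d44_2 D3602 D4740 (iv D4740) (iv D3602) F12462
def n4741 : Q := act 5 n3603
theorem D4741 : act 5 n3603 = n4741 := rfl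
theorem F23164 : act 1 n4741 = n4741 := d12_1 D4741 (iv D4741) F17481
theorem F23165 : act 3 n4741 = n3609 := d25_1 D4741 (iv D3609) (iv F17482)
theorem F23166 : act 7 n4741 = n4741 := d36_2 F17483 D4741 (iv D4741)
theorem F23167 : act 8 n4741 = n3625 := d37_2 D3603 D4741 (iv D3625) (iv D2536) (iv F12465)
theorem F23168 : act 9 n4741 = n4741 := d38_2 F17484 D4741 (iv D4741)
def n4742 : Q := act 9 n3604
theorem D4742 : act 9 n3604 = n4742 := rfl
theorem F23169 : act 1 n4742 = n4742 := d16_1 D4742 (iv D4742) F17485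
theorem F23170 : act 2 n4742 = n3770 := d23_1 D4742 (iv D3770) (iv F17486)
theorem F23171 : act 4 n4742 = n4742 := d34_1 D4742 (iv D4742) F17487
theorem F23172 : act 5 n4742 = n3607 := d38_1 D4742 (iv D3607) (iv F17488)
theorem F23173 : act 7 n4742 = n3606 := d43_1 D4742 (iv D3606) D3604
def n4743 : Q := act 8 n3606
theorem D4743 : act 8 n3606 = n4743 := rfl
theorem F23174 : act 1 n4743 = n4743 := d15_1 D4743 (iv D4743) F17494
theorem F23175 : act 2 n4743 = n3772 := d22_1 D4743 (iv D3772) (iv F17495)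
theorem F23176 : act 4 n4743 = n4743 := d33_1 D4743 (iv D4743) F17496
theorem F23177 : act 6 n4743 = n3630 := d40_1 D4743 (iv D3630) (iv F17498)
def n4744 : Q := act 8 n3607
theorem D4744 : act 8 n3607 = n4744 := rfl
theorem F23178 : act 1 n4744 = n4744 := d15_1 D4744 (iv D4744) F17499
theorem F23179 : act 2 n4744 = n3773 := d22_1 D4744 (iv D3773) (iv F17500)
theorem F23180 : act 4 n4744 = n3610 := d33_1 D4744 (iv D3610) (iv F17501)
theorem F23181 : act 6 n4744 = n4744 := d40_1 D4744 (iv D4744) F17502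
theorem F23182 : act 7 n4744 = n3608 := d42_1 D4744 (iv D3608) (iv F17503)
theorem F23183 : act 9 n4744 = n4744 := d44_2 D3607 D4744 (iv D4744) (iv D3607) F12475
def n4745 : Q := act 5 n3608
theorem D4745 : act 5 n3608 = n4745 := rfl
theorem F23184 : act 1 n4745 = n4745 := d12_1 D4745 (iv D4745) F17504
theorem F23185 : act 2 n4745 = n3774 := d19_1 D4745 (iv D3774) (iv F17505)
theorem F23186 : act 9 n4745 = n4745 := d38_2 F17508 D4745 (iv D4745)
def n4746 : Q := act 6 n3609
theorem D4746 : act 6 n3609 = n4746 := rfl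
theorem F23187 : act 1 n4746 = n4746 := d13_1 D4746 (iv D4746) F17509
theorem F23188 : act 2 n4746 = n3775 := d20_1 D4746 (iv D3775) (iv F17510)
theorem F23189 : act 4 n4746 = n4746 := d31_1 D4746 (iv D4746) F17511
theorem F23190 : act 8 n4746 = n3633 := d40_2 (iv F17513) D4746 (iv D3633)
theorem F23191 : act 9 n4746 = n4746 := d41_2 F17514 D4746 (iv D4746)
def n4747 : Q := act 5 n3610
theorem D4747 : act 5 n3610 = n4747 := rfl
theorem F23192 : act 1 n4747 = n4747 := d12_1 D4747 (iv D4747) F17515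
theorem F23193 : act 2 n4747 = n3776 := d19_1 D4747 (iv D3776) (iv F17516)
theorem F23194 : act 7 n4747 = n3611 := d36_2 (iv F17518) D4747 (iv D3611)
theorem F23195 : act 8 n4747 = n4747 := d37_2 D3610 D4747 (iv D4747) (iv D3610) F12487
theorem F23196 : act 9 n4747 = n4747 := d38_2 F17519 D4747 (iv D4747)
def n4748 : Q := act 4 n3611
theorem D4748 : act 4 n3611 = n4748 := rfl
theorem F23197 : act 1 n4748 = n4748 := d11_1 D4748 (iv D4748) F17520
theorem F23198 : act 2 n4748 = n3777 := d18_1 D4748 (iv D3777) (iv F17521)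
theorem F23199 : act 6 n4748 = n4748 := d31_2 F17522 D4748 (iv D4748)
theorem F23200 : act 8 n4748 = n4748 := d33_2 F17523 D4748 (iv D4748)
theorem F23201 : act 9 n4748 = n4748 := d34_2 F17524 D4748 (iv D4748)
def n4749 : Q := act 6 n3612
theorem D4749 : act 6 n3612 = n4749 := rfl
theorem F23202 : act 0 n4749 = n3613 := d5_1 D4749 (iv D3613) D3612
theorem F23203 : act 2 n4749 = n4749 := d20_1 D4749 (iv D4749) F17525
theorem F23204 : act 3 n4749 = n3778 := d26_1 D4749 (iv D3778) (iv F17526)
theorem F23205 : act 4 n4749 = n4749 := d31_1 D4749 (iv D4749) F17527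
theorem F23206 : act 8 n4749 = n3636 := d40_2 (iv F17529) D4749 (iv D3636)
def n4750 : Q := act 9 n3612
theorem D4750 : act 9 n3612 = n4750 := rfl
theorem F23207 : act 0 n4750 = n3614 := d8_1 D4750 (iv D3614) D3612
theorem F23208 : act 2 n4750 = n4750 := d23_1 D4750 (iv D4750) F17525
theorem F23209 : act 3 n4750 = n3779 := d29_1 D4750 (iv D3779) (iv F17526)
theorem F23210 : act 4 n4750 = n4750 := d34_1 D4750 (iv D4750) F17527
theorem F23211 : act 7 n4750 = n4750 := d43_1 D4750 (iv D4750) F17528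
def n4751 : Q := act 5 n3613
theorem D4751 : act 5 n3613 = n4751 := rfl
theorem F23212 : act 1 n4751 = n3615 := d12_1 D4751 (iv D3615) (iv F17530)
theorem F23213 : act 2 n4751 = n4751 := d19_1 D4751 (iv D4751) F17531
theorem F23214 : act 3 n4751 = n3780 := d25_1 D4751 (iv D3780) (iv F17532)
def n4752 : Q := act 9 n3613
theorem D4752 : act 9 n3613 = n4752 := rfl
theorem F23215 : act 1 n4752 = n3617 := d16_1 D4752 (iv D3617) (iv F17530)
theorem F23216 : act 2 n4752 = n4752 := d23_1 D4752 (iv D4752) F17531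
theorem F23217 : act 3 n4752 = n3782 := d29_1 D4752 (iv D3782) (iv F17532)
theorem F23218 : act 4 n4752 = n4752 := d34_1 D4752 (iv D4752) F17533
theorem F23219 : act 6 n4752 = n3614 := d41_1 D4752 (iv D3614) D3613
def n4753 : Q := act 8 n3614
theorem D4753 : act 8 n3614 = n4753 := rfl
theorem F23220 : act 1 n4753 = n3618 := d15_1 D4753 (iv D3618) (iv F17535)
theorem F23221 : act 2 n4753 = n4753 := d22_1 D4753 (iv D4753) F17536
theorem F23222 : act 3 n4753 = n3783 := d28_1 D4753 (iv D3783) (iv F17537)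
theorem F23223 : act 4 n4753 = n4753 := d33_1 D4753 (iv D4753) F17538
theorem F23224 : act 7 n4753 = n4753 := d42_1 D4753 (iv D4753) F17539
theorem F23225 : act 9 n4753 = n3641 := d44_2 D3614 D4753 (iv D3641) (iv D2547) (iv F12498)
def n4754 : Q := act 4 n3615
theorem D4754 : act 4 n3615 = n4754 := rfl
theorem F23226 : act 2 n4754 = n3619 := d18_1 D4754 (iv D3619) (iv F17540)
theorem F23227 : act 5 n4754 = n4754 := d30_2 D3615 D4754 (iv D4754) (iv D3615) F12501
def n4755 : Q := act 9 n3615
theorem D4755 : act 9 n3615 = n4755 := rfl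
theorem F23228 : act 2 n4755 = n3622 := d23_1 D4755 (iv D3622) (iv F17540)
theorem F23229 : act 3 n4755 = n3787 := d29_1 D4755 (iv D3787) (iv F17541)
theorem F23230 : act 5 n4755 = n3617 := d38_1 D4755 (iv D3617) D3615
def n4756 : Q := act 8 n3617
theorem D4756 : act 8 n3617 = n4756 := rfl
theorem F23231 : act 2 n4756 = n3624 := d22_1 D4756 (iv D3624) (iv F17547)
theorem F23232 : act 3 n4756 = n3789 := d28_1 D4756 (iv D3789) (iv F17548)
theorem F23233 : act 4 n4756 = n4756 := d33_1 D4756 (iv D4756) F17549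
theorem F23234 : act 6 n4756 = n3618 := d40_1 D4756 (iv D3618) (iv F17550)
theorem F23235 : act 9 n4756 = n3647 := d44_2 D3617 D4756 (iv D3647) (iv D2550) (iv F12502)
def n4757 : Q := act 5 n3618
theorem D4757 : act 5 n3618 = n4757 := rfl
theorem F23236 : act 2 n4757 = n3625 := d19_1 D4757 (iv D3625) (iv F17551)
theorem F23237 : act 3 n4757 = n3790 := d25_1 D4757 (iv D3790) (iv F17552)
theorem F23238 : act 7 n4757 = n4757 := d36_2 F17554 D4757 (iv D4757)
theorem F23239 : act 9 n4757 = n3648 := d38_2 (iv F17555) D4757 (iv D3648)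
def n4758 : Q := act 9 n3619
theorem D4758 : act 9 n3619 = n4758 := rfl
theorem F23240 : act 1 n4758 = n4758 := d16_1 D4758 (iv D4758) F17556
theorem F23241 : act 3 n4758 = n4758 := d29_1 D4758 (iv D4758) F17557
theorem F23242 : act 4 n4758 = n3622 := d34_1 D4758 (iv D3622) D3619
theorem F23243 : act 5 n4758 = n4758 := d38_1 D4758 (iv D4758) F17558
def n4759 : Q := act 8 n3622
theorem D4759 : act 8 n3622 = n4759 := rfl
theorem F23244 : act 1 n4759 = n4759 := d15_1 D4759 (iv D4759) F17565
theorem F23245 : act 3 n4759 = n3630 := d28_1 D4759 (iv D3630) (iv F17566)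
def n4760 : Q := act 5 n3624
theorem D4760 : act 5 n3624 = n4760 := rfl
theorem F23246 : act 1 n4760 = n4760 := d12_1 D4760 (iv D4760) F17573
theorem F23247 : act 3 n4760 = n3632 := d25_1 D4760 (iv D3632) (iv F17574)
theorem F23248 : act 9 n4760 = n3658 := d38_2 (iv F17577) D4760 (iv D3658)
def n4761 : Q := act 4 n3625
theorem D4761 : act 4 n3625 = n4761 := rfl
theorem F23249 : act 1 n4761 = n4761 := d11_1 D4761 (iv D4761) F17578
theorem F23250 : act 3 n4761 = n4761 := d24_1 D4761 (iv D4761) F17579 F12547 (iv F17579)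
theorem F23251 : act 5 n4761 = n4761 := d30_2 D3625 D4761 (iv D4761) (iv D3625) F12520
theorem F23252 : act 7 n4761 = n4761 := d32_2 F17580 D4761 (iv D4761)
theorem F23253 : act 9 n4761 = n3659 := d34_2 (iv F17581) D4761 (iv D3659)
def n4762 : Q := act 6 n3625
theorem D4762 : act 6 n3625 = n4762 := rfl
theorem F23254 : act 1 n4762 = n4762 := d13_1 D4762 (iv D4762) F17578
theorem F23255 : act 3 n4762 = n3633 := d26_1 D4762 (iv D3633) (iv F17579)
theorem F23256 : act 9 n4762 = n3660 := d41_2 (iv F17581) D4762 (iv D3660)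
def n4763 : Q := act 5 n3630
theorem D4763 : act 5 n3630 = n4763 := rfl
theorem F23257 : act 1 n4763 = n4763 := d12_1 D4763 (iv D4763) F17600
theorem F23258 : act 2 n4763 = n3808 := d19_1 D4763 (iv D3808) (iv F17601)
theorem F23259 : act 8 n4763 = n3632 := d37_2 D3630 D4763 (iv D3632) (iv D2541) (iv F12534)
def n4764 : Q := act 4 n3632
theorem D4764 : act 4 n3632 = n4764 := rfl
theorem F23260 : act 1 n4764 = n4764 := d11_1 D4764 (iv D4764) F17609
theorem F23261 : act 2 n4764 = n3810 := d18_1 D4764 (iv D3810) (iv F17610)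
theorem F23262 : act 5 n4764 = n3635 := d30_2 D3632 D4764 (iv D3635) (iv D2544) (iv F12542)
theorem F23263 : act 9 n4764 = n3668 := d34_2 (iv F17611) D4764 (iv D3668)
def n4765 : Q := act 6 n3632
theorem D4765 : act 6 n3632 = n4765 := rfl
theorem F23264 : act 1 n4765 = n4765 := d13_1 D4765 (iv D4765) F17609
theorem F23265 : act 2 n4765 = n3811 := d20_1 D4765 (iv D3811) (iv F17610)
theorem F23266 : act 5 n4765 = n3633 := d35_1 D4765 (iv D3633) (iv D2542) (iv F12543) D3632
theorem F23267 : act 9 n4765 = n3669 := d41_2 (iv F17611) D4765 (iv D3669)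
def n4766 : Q := act 7 n3633
theorem D4766 : act 7 n3633 = n4766 := rfl
theorem F23268 : act 1 n4766 = n4766 := d14_1 D4766 (iv D4766) F17612
theorem F23269 : act 2 n4766 = n3812 := d21_1 D4766 (iv D3812) (iv F17613)
theorem F23270 : act 4 n4766 = n4766 := d32_1 D4766 (iv D4766) F17614
theorem F23271 : act 6 n4766 = n4766 := d39_1 D4766 (iv D4766) (iv D3633) F12548 D3633
theorem F23272 : act 9 n4766 = n3670 := d43_2 (iv F17615) D4766 (iv D3670)
def n4767 : Q := act 3 n3635
theorem D4767 : act 3 n3635 = n4767 := rfl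
theorem F23273 : act 1 n4767 = n4767 := d10_1 D4767 (iv D4767) F17622
theorem F23274 : act 4 n4767 = n4767 := d24_2 D3635 D4767 (iv D4767) (iv D3635) F12558
theorem F23275 : act 6 n4767 = n4767 := d26_2 F17624 D4767 (iv D4767)
theorem F23276 : act 8 n4767 = n4767 := d28_2 F17625 D4767 (iv D4767)
theorem F23277 : act 9 n4767 = n3673 := d29_2 (iv F17626) D4767 (iv D3673)
def n4768 : Q := act 9 n3636
theorem D4768 : act 9 n3636 = n4768 := rfl
theorem F23278 : act 0 n4768 = n3640 := d8_1 D4768 (iv D3640) (iv F17627)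
theorem F23279 : act 2 n4768 = n4768 := d23_1 D4768 (iv D4768) F17628
theorem F23280 : act 3 n4768 = n3818 := d29_1 D4768 (iv D3818) (iv F17629)
theorem F23281 : act 4 n4768 = n4768 := d34_1 D4768 (iv D4768) F17630
theorem F23282 : act 6 n4768 = n3637 := d41_1 D4768 (iv D3637) D3636
def n4769 : Q := act 8 n3637
theorem D4769 : act 8 n3637 = n4769 := rfl
theorem F23283 : act 0 n4769 = n3641 := d7_1 D4769 (iv D3641) (iv F17631)
theorem F23284 : act 2 n4769 = n4769 := d22_1 D4769 (iv D4769) F17632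
theorem F23285 : act 3 n4769 = n3819 := d28_1 D4769 (iv D3819) (iv F17633)
theorem F23286 : act 4 n4769 = n4769 := d33_1 D4769 (iv D4769) F17634
theorem F23287 : act 7 n4769 = n4769 := d42_1 D4769 (iv D4769) F17636
def n4770 : Q := act 8 n3640
theorem D4770 : act 8 n3640 = n4770 := rfl
theorem F23288 : act 1 n4770 = n3647 := d15_1 D4770 (iv D3647) (iv F17646)
theorem F23289 : act 2 n4770 = n4770 := d22_1 D4770 (iv D4770) F17647
theorem F23290 : act 3 n4770 = n3824 := d28_1 D4770 (iv D3824) (iv F17648)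
theorem F23291 : act 4 n4770 = n4770 := d33_1 D4770 (iv D4770) F17649
theorem F23292 : act 6 n4770 = n3641 := d40_1 D4770 (iv D3641) (iv F17650)
def n4771 : Q := act 5 n3641
theorem D4771 : act 5 n3641 = n4771 := rfl
theorem F23293 : act 1 n4771 = n3648 := d12_1 D4771 (iv D3648) (iv F17651)
theorem F23294 : act 2 n4771 = n4771 := d19_1 D4771 (iv D4771) F17652
theorem F23295 : act 3 n4771 = n3825 := d25_1 D4771 (iv D3825) (iv F17653)
theorem F23296 : act 7 n4771 = n4771 := d36_2 F17655 D4771 (iv D4771)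
theorem F23297 : act 8 n4771 = n4771 := d37_2 D3641 D4771 (iv D4771) (iv D3641) F12575
def n4772 : Q := act 5 n3647
theorem D4772 : act 5 n3647 = n4772 := rfl
theorem F23298 : act 2 n4772 = n3658 := d19_1 D4772 (iv D3658) (iv F17675)
theorem F23299 : act 3 n4772 = n3832 := d25_1 D4772 (iv D3832) (iv F17676)
def n4773 : Q := act 4 n3648
theorem D4773 : act 4 n3648 = n4773 := rfl
theorem F23300 : act 2 n4773 = n3659 := d18_1 D4773 (iv D3659) (iv F17679)
theorem F23301 : act 5 n4773 = n4773 := d30_2 D3648 D4773 (iv D4773) (iv D3648) F12590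
theorem F23302 : act 7 n4773 = n4773 := d32_2 F17681 D4773 (iv D4773)
theorem F23303 : act 8 n4773 = n4773 := d33_2 F17682 D4773 (iv D4773)
def n4774 : Q := act 6 n3648
theorem D4774 : act 6 n3648 = n4774 := rfl
theorem F23304 : act 2 n4774 = n3660 := d20_1 D4774 (iv D3660) (iv F17679)
theorem F23305 : act 3 n4774 = n3834 := d26_1 D4774 (iv D3834) (iv F17680)
theorem F23306 : act 8 n4774 = n4774 := d40_2 F17682 D4774 (iv D4774)
def n4775 : Q := act 4 n3658
theorem D4775 : act 4 n3658 = n4775 := rfl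
theorem F23307 : act 1 n4775 = n4775 := d11_1 D4775 (iv D4775) F17718
theorem F23308 : act 5 n4775 = n4775 := d30_2 D3658 D4775 (iv D4775) (iv D3658) F12613
def n4776 : Q := act 6 n3658
theorem D4776 : act 6 n3658 = n4776 := rfl
theorem F23309 : act 1 n4776 = n4776 := d13_1 D4776 (iv D4776) F17718
theorem F23310 : act 3 n4776 = n3669 := d26_1 D4776 (iv D3669) (iv F17719)
theorem F23311 : act 5 n4776 = n3660 := d35_1 D4776 (iv D3660) (iv D2558) (iv F12614) D3658
def n4777 : Q := act 6 n3659
theorem D4777 : act 6 n3659 = n4777 := rfl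
theorem F23312 : act 1 n4777 = n4777 := d13_1 D4777 (iv D4777) F17720
theorem F23313 : act 3 n4777 = n4777 := d26_1 D4777 (iv D4777) F17721
theorem F23314 : act 4 n4777 = n3660 := d31_1 D4777 (iv D3660) D3659
theorem F23315 : act 8 n4777 = n4777 := d40_2 F17724 D4777 (iv D4777)
def n4778 : Q := act 7 n3660
theorem D4778 : act 7 n3660 = n4778 := rfl
theorem F23316 : act 1 n4778 = n4778 := d14_1 D4778 (iv D4778) F17725
theorem F23317 : act 3 n4778 = n3670 := d27_1 D4778 (iv D3670) (iv F17726)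
theorem F23318 : act 6 n4778 = n4778 := d39_1 D4778 (iv D4778) (iv D3660) F12617 D3660
theorem F23319 : act 8 n4778 = n4778 := d42_2 F17727 D4778 (iv D4778)
def n4779 : Q := act 3 n3668
theorem D4779 : act 3 n3668 = n4779 := rfl
theorem F23320 : act 1 n4779 = n4779 := d10_1 D4779 (iv D4779) F17758
theorem F23321 : act 5 n4779 = n3673 := d25_2 (iv F17760) D4779 (iv D3673)
def n4780 : Q := act 6 n3668
theorem D4780 : act 6 n3668 = n4780 := rfl
theorem F23322 : act 1 n4780 = n4780 := d13_1 D4780 (iv D4780) F17758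
theorem F23323 : act 2 n4780 = n3857 := d20_1 D4780 (iv D3857) (iv F17759)
theorem F23324 : act 4 n4780 = n3669 := d31_1 D4780 (iv D3669) D3668
theorem F23325 : act 5 n4780 = n4780 := d35_1 D4780 (iv D4780) F17760 F12659 (iv F17760)
def n4781 : Q := act 7 n3669
theorem D4781 : act 7 n3669 = n4781 := rfl
theorem F23326 : act 1 n4781 = n4781 := d14_1 D4781 (iv D4781) F17761
theorem F23327 : act 2 n4781 = n3858 := d21_1 D4781 (iv D3858) (iv F17762)
theorem F23328 : act 5 n4781 = n3670 := d36_1 D4781 (iv D3670) (iv F17763)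
def n4782 : Q := act 2 n3673
theorem D4782 : act 2 n3673 = n4782 := rfl
theorem F23329 : act 3 n4782 = n3861 := d17_2 D3673 D4782 (iv D3861) (iv D2699) (iv F12658)
theorem F23330 : act 4 n4782 = n4782 := d18_2 F17780 D4782 (iv D4782)
theorem F23331 : act 6 n4782 = n4782 := d20_2 F17781 D4782 (iv D4782)
theorem F23332 : act 8 n4782 = n3706 := d22_2 (iv F17782) D4782 (iv D3706)
def n4783 : Q := act 1 n3706
theorem D4783 : act 1 n3706 = n4783 := rfl
theorem F23333 : act 2 n4783 = n4783 := d9_2 D3706 D4783 (iv D4783) (iv D3706) F12772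
theorem F23334 : act 3 n4783 = n3883 := d10_2 (iv F17925) D4783 (iv D3883)
theorem F23335 : act 4 n4783 = n4783 := d11_2 F17926 D4783 (iv D4783)
theorem F23336 : act 6 n4783 = n4783 := d13_2 F17927 D4783 (iv D4783)
theorem F23337 : act 9 n4783 = n4783 := d16_2 F17928 D4783 (iv D4783)
def n4784 : Q := act 6 n3754
theorem D4784 : act 6 n3754 = n4784 := rfl
theorem F23338 : act 0 n4784 = n3755 := d5_1 D4784 (iv D3755) D3754
theorem F23339 : act 2 n4784 = n4008 := d20_1 D4784 (iv D4008) (iv F18152)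
theorem F23340 : act 4 n4784 = n4784 := d31_1 D4784 (iv D4784) F18153
theorem F23341 : act 8 n4784 = n4784 := d40_2 F18156 D4784 (iv D4784)
def n4785 : Q := act 9 n3754
theorem D4785 : act 9 n3754 = n4785 := rfl
theorem F23342 : act 0 n4785 = n3756 := d8_1 D4785 (iv D3756) D3754
theorem F23343 : act 2 n4785 = n4009 := d23_1 D4785 (iv D4009) (iv F18152)
theorem F23344 : act 4 n4785 = n4785 := d34_1 D4785 (iv D4785) F18153
theorem F23345 : act 5 n4785 = n3779 := d38_1 D4785 (iv D3779) (iv F18154)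
theorem F23346 : act 7 n4785 = n4785 := d43_1 D4785 (iv D4785) F18155
def n4786 : Q := act 5 n3755
theorem D4786 : act 5 n3755 = n4786 := rfl
theorem F23347 : act 1 n4786 = n3757 := d12_1 D4786 (iv D3757) (iv F18157)
theorem F23348 : act 2 n4786 = n4010 := d19_1 D4786 (iv D4010) (iv F18158)
theorem F23349 : act 6 n4786 = n3780 := d35_2 D3755 D4786 (iv D3780) (iv D2643) (iv F12933)
def n4787 : Q := act 7 n3755
theorem D4787 : act 7 n3755 = n4787 := rfl
theorem F23350 : act 1 n4787 = n3758 := d14_1 D4787 (iv D3758) (iv F18157)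
theorem F23351 : act 2 n4787 = n4011 := d21_1 D4787 (iv D4011) (iv F18158)
theorem F23352 : act 4 n4787 = n4787 := d32_1 D4787 (iv D4787) F18159
theorem F23353 : act 6 n4787 = n4787 := d39_1 D4787 (iv D4787) (iv D3755) F12934 D3755
theorem F23354 : act 8 n4787 = n4787 := d42_2 F18160 D4787 (iv D4787)
def n4788 : Q := act 9 n3755
theorem D4788 : act 9 n3755 = n4788 := rfl
theorem F23355 : act 1 n4788 = n3759 := d16_1 D4788 (iv D3759) (iv F18157)
theorem F23356 : act 2 n4788 = n4012 := d23_1 D4788 (iv D4012) (iv F18158)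
theorem F23357 : act 4 n4788 = n4788 := d34_1 D4788 (iv D4788) F18159
theorem F23358 : act 6 n4788 = n3756 := d41_1 D4788 (iv D3756) D3755
def n4789 : Q := act 8 n3756
theorem D4789 : act 8 n3756 = n4789 := rfl
theorem F23359 : act 1 n4789 = n3760 := d15_1 D4789 (iv D3760) (iv F18161)
theorem F23360 : act 2 n4789 = n4013 := d22_1 D4789 (iv D4013) (iv F18162)
theorem F23361 : act 4 n4789 = n4789 := d33_1 D4789 (iv D4789) F18163
theorem F23362 : act 7 n4789 = n4789 := d42_1 D4789 (iv D4789) F18165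
theorem F23363 : act 9 n4789 = n4789 := d44_2 D3756 D4789 (iv D4789) (iv D3756) F12935
def n4790 : Q := act 4 n3757
theorem D4790 : act 4 n3757 = n4790 := rfl
theorem F23364 : act 2 n4790 = n3761 := d18_1 D4790 (iv D3761) (iv F18166)
theorem F23365 : act 5 n4790 = n4790 := d30_2 D3757 D4790 (iv D4790) (iv D3757) F12937
theorem F23366 : act 6 n4790 = n3784 := d31_2 (iv F18167) D4790 (iv D3784)
def n4791 : Q := act 7 n3757
theorem D4791 : act 7 n3757 = n4791 := rfl
theorem F23367 : act 2 n4791 = n3762 := d21_1 D4791 (iv D3762) (iv F18166)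
theorem F23368 : act 5 n4791 = n3758 := d36_1 D4791 (iv D3758) D3757
def n4792 : Q := act 8 n3757
theorem D4792 : act 8 n3757 = n4792 := rfl
theorem F23369 : act 2 n4792 = n3763 := d22_1 D4792 (iv D3763) (iv F18166)
theorem F23370 : act 5 n4792 = n4792 := d37_1 D4792 (iv D4792) (iv D3757) F12938 D3757
theorem F23371 : act 6 n4792 = n3786 := d40_1 D4792 (iv D3786) (iv F18167)
def n4793 : Q := act 9 n3757
theorem D4793 : act 9 n3757 = n4793 := rfl
theorem F23372 : act 2 n4793 = n3764 := d23_1 D4793 (iv D3764) (iv F18166)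
theorem F23373 : act 5 n4793 = n3759 := d38_1 D4793 (iv D3759) D3757
theorem F23374 : act 6 n4793 = n3787 := d41_1 D4793 (iv D3787) (iv F18167)
def n4794 : Q := act 9 n3758
theorem D4794 : act 9 n3758 = n4794 := rfl
theorem F23375 : act 2 n4794 = n3765 := d23_1 D4794 (iv D3765) (iv F18168)
theorem F23376 : act 4 n4794 = n4794 := d34_1 D4794 (iv D4794) F18169
theorem F23377 : act 6 n4794 = n4794 := d41_1 D4794 (iv D4794) F18170
theorem F23378 : act 7 n4794 = n3759 := d43_1 D4794 (iv D3759) D3758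
def n4795 : Q := act 8 n3759
theorem D4795 : act 8 n3759 = n4795 := rfl
theorem F23379 : act 2 n4795 = n3766 := d22_1 D4795 (iv D3766) (iv F18172)
theorem F23380 : act 4 n4795 = n4795 := d33_1 D4795 (iv D4795) F18173
theorem F23381 : act 6 n4795 = n3760 := d40_1 D4795 (iv D3760) (iv F18174)
theorem F23382 : act 9 n4795 = n4795 := d44_2 D3759 D4795 (iv D4795) (iv D3759) F12938
def n4796 : Q := act 5 n3760
theorem D4796 : act 5 n3760 = n4796 := rfl
theorem F23383 : act 2 n4796 = n3767 := d19_1 D4796 (iv D3767) (iv F18175)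
theorem F23384 : act 7 n4796 = n4796 := d36_2 F18177 D4796 (iv D4796)
theorem F23385 : act 8 n4796 = n3790 := d37_2 D3760 D4796 (iv D3790) (iv D2648) (iv F12941)
theorem F23386 : act 9 n4796 = n4796 := d38_2 F18178 D4796 (iv D4796)
def n4797 : Q := act 7 n3761
theorem D4797 : act 7 n3761 = n4797 := rfl
theorem F23387 : act 1 n4797 = n4016 := d14_1 D4797 F19214 (iv F18179)
theorem F23388 : act 3 n4797 = n4797 := d27_1 D4797 (iv D4797) F18180
theorem F23389 : act 4 n4797 = n3762 := d32_1 D4797 (iv D3762) D3761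
theorem F23390 : act 5 n4797 = n4797 := d36_1 D4797 (iv D4797) F18181
theorem F23391 : act 6 n4049 = n4797 := d13_0 F23387 F19213 (iv F19370)
theorem F23392 : act 8 n4010 = n4797 := d15_0 F23387 (iv D4016) (iv F19177)
def n4798 : Q := act 8 n3761
theorem D4798 : act 8 n3761 = n4798 := rfl
theorem F23393 : act 1 n4798 = n4015 := d15_1 D4798 (iv F19207) (iv F18179)
theorem F23394 : act 3 n4798 = n4798 := d28_1 D4798 (iv D4798) F18180
theorem F23395 : act 4 n4798 = n3763 := d33_1 D4798 (iv D3763) D3761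
theorem F23396 : act 6 n4798 = n3792 := d40_1 D4798 (iv D3792) (iv F18182)
theorem F23397 : act 7 n4798 = n4010 := d42_1 D4798 F23392 (iv D4797)
theorem F23398 : act 5 n4011 = n4798 := d36_3 F23397 (iv D4010) D4011
def n4799 : Q := act 9 n3761
theorem D4799 : act 9 n3761 = n4799 := rfl
theorem F23399 : act 1 n4799 = n4021 := d16_1 D4799 (iv D4021) (iv F18179)
theorem F23400 : act 3 n4799 = n4799 := d29_1 D4799 (iv D4799) F18180
theorem F23401 : act 4 n4799 = n3764 := d34_1 D4799 (iv D3764) D3761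
theorem F23402 : act 5 n4799 = n4799 := d38_1 D4799 (iv D4799) F18181
theorem F23403 : act 6 n4799 = n3793 := d41_1 D4799 (iv D3793) (iv F18182)
def n4800 : Q := act 6 n3762
theorem D4800 : act 6 n3762 = n4800 := rfl
theorem F23404 : act 1 n4800 = n4022 := d13_1 D4800 (iv D4022) (iv F18183)
theorem F23405 : act 3 n4800 = n3768 := d26_1 D4800 (iv D3768) (iv F18184)
theorem F23406 : act 4 n4800 = n4049 := d31_1 D4800 F23391 F23389
theorem F23407 : act 5 n4800 = n4800 := d35_1 D4800 (iv D4800) F18185 F12949 (iv F18185)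
theorem F23408 : act 7 n4800 = n3794 := d39_2 D3762 D4800 (iv D3794) (iv D2650) (iv F12945)
theorem F23409 : act 8 n4047 = n4800 := d42_0 F23408 F21862 F21861
def n4801 : Q := act 8 n3762
theorem D4801 : act 8 n3762 = n4801 := rfl
theorem F23410 : act 1 n4801 = n4014 := d15_1 D4801 F19200 (iv F18183)
theorem F23411 : act 3 n4801 = n3769 := d28_1 D4801 (iv D3769) (iv F18184)
theorem F23412 : act 4 n4801 = n4010 := d33_1 D4801 F23392 F23389
theorem F23413 : act 5 n4801 = n4801 := d37_1 D4801 (iv D4801) F18185 F12950 (iv F18185)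
theorem F23414 : act 6 n4801 = n4047 := d40_1 D4801 F23409 (iv D4800)
theorem F23415 : act 7 n4801 = n3763 := d42_1 D4801 (iv D3763) D3762
def n4802 : Q := act 9 n3762
theorem D4802 : act 9 n3762 = n4802 := rfl
theorem F23416 : act 1 n4802 = n4023 := d16_1 D4802 (iv D4023) (iv F18183)
theorem F23417 : act 3 n4802 = n3770 := d29_1 D4802 (iv D3770) (iv F18184)
theorem F23418 : act 5 n4802 = n3765 := d38_1 D4802 (iv D3765) (iv F18185)
theorem F23419 : act 7 n4802 = n3764 := d43_1 D4802 (iv D3764) D3762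
def n4803 : Q := act 9 n3763
theorem D4803 : act 9 n3763 = n4803 := rfl
theorem F23420 : act 1 n4803 = n4024 := d16_1 D4803 (iv D4024) (iv F18186)
theorem F23421 : act 3 n4803 = n3771 := d29_1 D4803 (iv D3771) (iv F18187)
theorem F23422 : act 5 n4803 = n4803 := d38_1 D4803 (iv D4803) F18188
theorem F23423 : act 6 n4803 = n3797 := d41_1 D4803 (iv D3797) (iv F18189)
def n4804 : Q := act 8 n3764
theorem D4804 : act 8 n3764 = n4804 := rfl
theorem F23424 : act 1 n4804 = n4025 := d15_1 D4804 (iv D4025) (iv F18190)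
theorem F23425 : act 3 n4804 = n3772 := d28_1 D4804 (iv D3772) (iv F18191)
theorem F23426 : act 6 n4804 = n3798 := d40_1 D4804 (iv D3798) (iv F18193)
def n4805 : Q := act 8 n3765
theorem D4805 : act 8 n3765 = n4805 := rfl
theorem F23427 : act 1 n4805 = n4026 := d15_1 D4805 (iv D4026) (iv F18194)
theorem F23428 : act 3 n4805 = n3773 := d28_1 D4805 (iv D3773) (iv F18195)
theorem F23429 : act 4 n4805 = n4805 := d33_1 D4805 (iv D4805) F18196
theorem F23430 : act 6 n4805 = n4805 := d40_1 D4805 (iv D4805) F18197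
theorem F23431 : act 7 n4805 = n3766 := d42_1 D4805 (iv D3766) (iv F18198)
theorem F23432 : act 9 n4805 = n4805 := d44_2 D3765 D4805 (iv D4805) (iv D3765) F12950
def n4806 : Q := act 5 n3766
theorem D4806 : act 5 n3766 = n4806 := rfl
theorem F23433 : act 1 n4806 = n4027 := d12_1 D4806 (iv D4027) (iv F18199)
theorem F23434 : act 3 n4806 = n3774 := d25_1 D4806 (iv D3774) (iv F18200)
theorem F23435 : act 9 n4806 = n4806 := d38_2 F18203 D4806 (iv D4806)
def n4807 : Q := act 4 n3767
theorem D4807 : act 4 n3767 = n4807 := rfl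
theorem F23436 : act 1 n4807 = n4028 := d11_1 D4807 (iv D4028) (iv F18204)
theorem F23437 : act 3 n4807 = n4807 := d24_1 D4807 (iv D4807) F18205 F12980 (iv F18205)
theorem F23438 : act 5 n4807 = n4807 := d30_2 D3767 D4807 (iv D4807) (iv D3767) F12957
theorem F23439 : act 7 n4807 = n4807 := d32_2 F18206 D4807 (iv D4807)
theorem F23440 : act 8 n4807 = n3801 := d33_2 (iv F18207) D4807 (iv D3801)
theorem F23441 : act 9 n4807 = n4807 := d34_2 F18208 D4807 (iv D4807)
def n4808 : Q := act 6 n3767
theorem D4808 : act 6 n3767 = n4808 := rfl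
theorem F23442 : act 1 n4808 = n4029 := d13_1 D4808 (iv D4029) (iv F18204)
theorem F23443 : act 3 n4808 = n3775 := d26_1 D4808 (iv D3775) (iv F18205)
theorem F23444 : act 8 n4808 = n3802 := d40_2 (iv F18207) D4808 (iv D3802)
theorem F23445 : act 9 n4808 = n4808 := d41_2 F18208 D4808 (iv D4808)
def n4809 : Q := act 9 n3768
theorem D4809 : act 9 n3768 = n4809 := rfl
theorem F23446 : act 1 n4809 = n4031 := d16_1 D4809 (iv D4031) (iv F18209)
theorem F23447 : act 4 n4809 = n4809 := d34_1 D4809 (iv D4809) F18210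
theorem F23448 : act 5 n4809 = n4809 := d38_1 D4809 (iv D4809) F18211
theorem F23449 : act 6 n4809 = n3770 := d41_1 D4809 (iv D3770) D3768
theorem F23450 : act 7 n4809 = n3804 := d43_1 D4809 (iv D3804) (iv F18212)
def n4810 : Q := act 9 n3769
theorem D4810 : act 9 n3769 = n4810 := rfl
theorem F23451 : act 1 n4810 = n4032 := d16_1 D4810 (iv D4032) (iv F18213)
theorem F23452 : act 4 n4810 = n4810 := d34_1 D4810 (iv D4810) F18214
theorem F23453 : act 5 n4810 = n4810 := d38_1 D4810 (iv D4810) F18215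
theorem F23454 : act 7 n4810 = n3771 := d43_1 D4810 (iv D3771) (iv F18216)
def n4811 : Q := act 8 n3770
theorem D4811 : act 8 n3770 = n4811 := rfl
theorem F23455 : act 1 n4811 = n4033 := d15_1 D4811 (iv D4033) (iv F18217)
theorem F23456 : act 4 n4811 = n4811 := d33_1 D4811 (iv D4811) F18218
theorem F23457 : act 7 n4811 = n3772 := d42_1 D4811 (iv D3772) (iv F18220)
def n4812 : Q := act 8 n3771
theorem D4812 : act 8 n3771 = n4812 := rfl
theorem F23458 : act 1 n4812 = n4034 := d15_1 D4812 (iv D4034) (iv F18221)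
theorem F23459 : act 4 n4812 = n4812 := d33_1 D4812 (iv D4812) F18222
theorem F23460 : act 6 n4812 = n3807 := d40_1 D4812 (iv D3807) (iv F18224)
theorem F23461 : act 9 n4812 = n3772 := d44_2 D3771 D4812 (iv D3772) (iv D2636) D2635
def n4813 : Q := act 5 n3772
theorem D4813 : act 5 n3772 = n4813 := rfl
theorem F23462 : act 1 n4813 = n4035 := d12_1 D4813 (iv D4035) (iv F18225)
theorem F23463 : act 8 n4813 = n3774 := d37_2 D3772 D4813 (iv D3774) (iv D2638) (iv F12969)
def n4814 : Q := act 5 n3773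
theorem D4814 : act 5 n3773 = n4814 := rfl
theorem F23464 : act 1 n4814 = n4036 := d12_1 D4814 (iv D4036) (iv F18228)
theorem F23465 : act 7 n4814 = n3774 := d36_2 (iv F18231) D4814 (iv D3774)
theorem F23466 : act 9 n4814 = n4814 := d38_2 F18232 D4814 (iv D4814)
def n4815 : Q := act 4 n3774
theorem D4815 : act 4 n3774 = n4815 := rfl
theorem F23467 : act 1 n4815 = n4037 := d11_1 D4815 (iv D4037) (iv F18233)
theorem F23468 : act 5 n4815 = n3777 := d30_2 D3774 D4815 (iv D3777) (iv D2641) (iv F12976)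
theorem F23469 : act 9 n4815 = n4815 := d34_2 F18234 D4815 (iv D4815)
def n4816 : Q := act 6 n3774
theorem D4816 : act 6 n3774 = n4816 := rfl
theorem F23470 : act 1 n4816 = n4038 := d13_1 D4816 (iv D4038) (iv F18233)
theorem F23471 : act 5 n4816 = n3775 := d35_1 D4816 (iv D3775) (iv D2639) (iv F12977) D3774
theorem F23472 : act 9 n4816 = n4816 := d41_2 F18234 D4816 (iv D4816)
def n4817 : Q := act 7 n3775
theorem D4817 : act 7 n3775 = n4817 := rfl
theorem F23473 : act 1 n4817 = n4039 := d14_1 D4817 (iv D4039) (iv F18235)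
theorem F23474 : act 4 n4817 = n4817 := d32_1 D4817 (iv D4817) F18236
theorem F23475 : act 6 n4817 = n4817 := d39_1 D4817 (iv D4817) (iv D3775) F12981 D3775
theorem F23476 : act 8 n4817 = n3812 := d42_2 (iv F18237) D4817 (iv D3812)
theorem F23477 : act 9 n4817 = n4817 := d43_2 F18238 D4817 (iv D4817)
def n4818 : Q := act 4 n3776
theorem D4818 : act 4 n3776 = n4818 := rfl
theorem F23478 : act 1 n4818 = n4040 := d11_1 D4818 (iv D4040) (iv F18239)
theorem F23479 : act 7 n4818 = n3777 := d32_2 (iv F18241) D4818 (iv D3777)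
theorem F23480 : act 8 n4818 = n4818 := d33_2 F18242 D4818 (iv D4818)
theorem F23481 : act 9 n4818 = n4818 := d34_2 F18243 D4818 (iv D4818)
def n4819 : Q := act 6 n3776
theorem D4819 : act 6 n3776 = n4819 := rfl
theorem F23482 : act 1 n4819 = n4041 := d13_1 D4819 (iv D4041) (iv F18239)
theorem F23483 : act 3 n4819 = n4819 := d26_1 D4819 (iv D4819) F18240
theorem F23484 : act 5 n4819 = n4819 := d35_1 D4819 (iv D4819) (iv D3776) F12986 D3776
theorem F23485 : act 7 n4819 = n4819 := d39_2 (iv F18241) D4819 (iv D4819) F18241 F12991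
theorem F23486 : act 8 n4819 = n4819 := d40_2 F18242 D4819 (iv D4819)
theorem F23487 : act 9 n4819 = n4819 := d41_2 F18243 D4819 (iv D4819)
def n4820 : Q := act 3 n3777
theorem D4820 : act 3 n3777 = n4820 := rfl
theorem F23488 : act 1 n4820 = n4042 := d10_1 D4820 (iv D4042) (iv F18244)
theorem F23489 : act 4 n4820 = n4820 := d24_2 D3777 D4820 (iv D4820) (iv D3777) F12990
theorem F23490 : act 6 n4820 = n4820 := d26_2 F18245 D4820 (iv D4820)
theorem F23491 : act 8 n4820 = n4820 := d28_2 F18246 D4820 (iv D4820)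
theorem F23492 : act 9 n4820 = n4820 := d29_2 F18247 D4820 (iv D4820)
def n4821 : Q := act 5 n3778
theorem D4821 : act 5 n3778 = n4821 := rfl
theorem F23493 : act 0 n4821 = n3780 := d4_1 D4821 (iv D3780) (iv F18248)
theorem F23494 : act 2 n4821 = n4043 := d19_1 D4821 (iv D4043) (iv F18249)
def n4822 : Q := act 7 n3778
theorem D4822 : act 7 n3778 = n4822 := rfl
theorem F23495 : act 0 n4822 = n3781 := d6_1 D4822 (iv D3781) (iv F18248)
theorem F23496 : act 2 n4822 = n4044 := d21_1 D4822 (iv D4044) (iv F18249)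
theorem F23497 : act 4 n4822 = n3915 := d32_1 D4822 (iv D3915) (iv F18250)
theorem F23498 : act 6 n4822 = n4822 := d39_1 D4822 (iv D4822) (iv D3778) F12996 D3778
theorem F23499 : act 8 n4822 = n3817 := d42_2 (iv F18251) D4822 (iv D3817)
def n4823 : Q := act 9 n3778
theorem D4823 : act 9 n3778 = n4823 := rfl
theorem F23500 : act 0 n4823 = n3782 := d8_1 D4823 (iv D3782) (iv F18248)
theorem F23501 : act 2 n4823 = n4045 := d23_1 D4823 (iv D4045) (iv F18249)
theorem F23502 : act 4 n4823 = n3916 := d34_1 D4823 (iv D3916) (iv F18250)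
theorem F23503 : act 6 n4823 = n3779 := d41_1 D4823 (iv D3779) D3778
def n4824 : Q := act 8 n3779
theorem D4824 : act 8 n3779 = n4824 := rfl
theorem F23504 : act 0 n4824 = n3783 := d7_1 D4824 (iv D3783) (iv F18252)
theorem F23505 : act 2 n4824 = n4046 := d22_1 D4824 (iv D4046) (iv F18253)
theorem F23506 : act 4 n4824 = n3917 := d33_1 D4824 (iv D3917) (iv F18254)
theorem F23507 : act 7 n4824 = n4824 := d42_1 D4824 (iv D4824) F18255
theorem F23508 : act 9 n4824 = n3819 := d44_2 D3779 D4824 (iv D3819) (iv D2667) (iv F12997)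
def n4825 : Q := act 4 n3780
theorem D4825 : act 4 n3780 = n4825 := rfl
theorem F23509 : act 1 n4825 = n3784 := d11_1 D4825 (iv D3784) (iv F18256)
theorem F23510 : act 2 n4825 = n4047 := d18_1 D4825 (iv D4047) (iv F18257)
theorem F23511 : act 5 n4825 = n3918 := d30_2 D3780 D4825 (iv D3918) (iv D2740) (iv F13000)
def n4826 : Q := act 7 n3780
theorem D4826 : act 7 n3780 = n4826 := rfl
theorem F23512 : act 1 n4826 = n3785 := d14_1 D4826 (iv D3785) (iv F18256)
theorem F23513 : act 2 n4826 = n4048 := d21_1 D4826 (iv D4048) (iv F18257)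
theorem F23514 : act 5 n4826 = n3781 := d36_1 D4826 (iv D3781) D3780
def n4827 : Q := act 8 n3780
theorem D4827 : act 8 n3780 = n4827 := rfl
theorem F23515 : act 1 n4827 = n3786 := d15_1 D4827 (iv D3786) (iv F18256)
theorem F23516 : act 2 n4827 = n4049 := d22_1 D4827 (iv D4049) (iv F18257)
theorem F23517 : act 5 n4827 = n3821 := d37_1 D4827 (iv D3821) (iv D2668) (iv F13001) D3780
def n4828 : Q := act 9 n3780
theorem D4828 : act 9 n3780 = n4828 := rfl
theorem F23518 : act 1 n4828 = n3787 := d16_1 D4828 (iv D3787) (iv F18256)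
theorem F23519 : act 2 n4828 = n4050 := d23_1 D4828 (iv D4050) (iv F18257)
theorem F23520 : act 5 n4828 = n3782 := d38_1 D4828 (iv D3782) D3780
def n4829 : Q := act 9 n3781
theorem D4829 : act 9 n3781 = n4829 := rfl
theorem F23521 : act 1 n4829 = n3788 := d16_1 D4829 (iv D3788) (iv F18258)
theorem F23522 : act 2 n4829 = n4051 := d23_1 D4829 (iv D4051) (iv F18259)
theorem F23523 : act 4 n4829 = n3921 := d34_1 D4829 (iv D3921) (iv F18260)
theorem F23524 : act 6 n4829 = n4829 := d41_1 D4829 (iv D4829) F18261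
theorem F23525 : act 7 n4829 = n3782 := d43_1 D4829 (iv D3782) D3781
def n4830 : Q := act 8 n3782
theorem D4830 : act 8 n3782 = n4830 := rfl
theorem F23526 : act 1 n4830 = n3789 := d15_1 D4830 (iv D3789) (iv F18263)
theorem F23527 : act 2 n4830 = n4052 := d22_1 D4830 (iv D4052) (iv F18264)
theorem F23528 : act 4 n4830 = n3922 := d33_1 D4830 (iv D3922) (iv F18265)
theorem F23529 : act 6 n4830 = n3783 := d40_1 D4830 (iv D3783) (iv F18266)
theorem F23530 : act 9 n4830 = n3824 := d44_2 D3782 D4830 (iv D3824) (iv D2670) (iv F13001)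
def n4831 : Q := act 5 n3783
theorem D4831 : act 5 n3783 = n4831 := rfl
theorem F23531 : act 1 n4831 = n3790 := d12_1 D4831 (iv D3790) (iv F18267)
theorem F23532 : act 2 n4831 = n4053 := d19_1 D4831 (iv D4053) (iv F18268)
theorem F23533 : act 7 n4831 = n4831 := d36_2 F18270 D4831 (iv D4831)
theorem F23534 : act 9 n4831 = n3825 := d38_2 (iv F18271) D4831 (iv D3825)
def n4832 : Q := act 3 n3784
theorem D4832 : act 3 n3784 = n4832 := rfl
theorem F23535 : act 2 n4832 = n4832 := d17_1 D4832 (iv D4832) F18272 F13019 (iv F18272)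
theorem F23536 : act 5 n4832 = n3924 := d25_2 (iv F18273) D4832 (iv D3924)
def n4833 : Q := act 7 n3784
theorem D4833 : act 7 n3784 = n4833 := rfl
theorem F23537 : act 2 n4833 = n3791 := d21_1 D4833 (iv D3791) (iv F18272)
theorem F23538 : act 4 n4833 = n3785 := d32_1 D4833 (iv D3785) D3784
theorem F23539 : act 5 n4833 = n3925 := d36_1 D4833 (iv D3925) (iv F18273)
def n4834 : Q := act 8 n3784
theorem D4834 : act 8 n3784 = n4834 := rfl
theorem F23540 : act 2 n4834 = n3792 := d22_1 D4834 (iv D3792) (iv F18272)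
theorem F23541 : act 4 n4834 = n3786 := d33_1 D4834 (iv D3786) D3784
theorem F23542 : act 5 n4834 = n4834 := d37_1 D4834 (iv D4834) F18273 F13387 (iv F18273)
def n4835 : Q := act 9 n3784
theorem D4835 : act 9 n3784 = n4835 := rfl
theorem F23543 : act 2 n4835 = n3793 := d23_1 D4835 (iv D3793) (iv F18272)
theorem F23544 : act 4 n4835 = n3787 := d34_1 D4835 (iv D3787) D3784
theorem F23545 : act 5 n4835 = n3926 := d38_1 D4835 (iv D3926) (iv F18273)
def n4836 : Q := act 6 n3785
theorem D4836 : act 6 n3785 = n4836 := rfl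
theorem F23546 : act 2 n4836 = n3794 := d20_1 D4836 (iv D3794) (iv F18274)
theorem F23547 : act 5 n4836 = n4836 := d35_1 D4836 (iv D4836) F18275 F13009 (iv F18275)
def n4837 : Q := act 9 n3785
theorem D4837 : act 9 n3785 = n4837 := rfl
theorem F23548 : act 2 n4837 = n3796 := d23_1 D4837 (iv D3796) (iv F18274)
theorem F23549 : act 5 n4837 = n3788 := d38_1 D4837 (iv D3788) (iv F18275)
theorem F23550 : act 7 n4837 = n3787 := d43_1 D4837 (iv D3787) D3785
def n4838 : Q := act 9 n3786
theorem D4838 : act 9 n3786 = n4838 := rfl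
theorem F23551 : act 2 n4838 = n3797 := d23_1 D4838 (iv D3797) (iv F18276)
theorem F23552 : act 5 n4838 = n3829 := d38_1 D4838 (iv D3829) (iv F18277)
def n4839 : Q := act 8 n3787
theorem D4839 : act 8 n3787 = n4839 := rfl
theorem F23553 : act 2 n4839 = n3798 := d22_1 D4839 (iv D3798) (iv F18278)
def n4840 : Q := act 8 n3788
theorem D4840 : act 8 n3788 = n4840 := rfl
theorem F23554 : act 2 n4840 = n3799 := d22_1 D4840 (iv D3799) (iv F18280)
theorem F23555 : act 4 n4840 = n3930 := d33_1 D4840 (iv D3930) (iv F18281)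
theorem F23556 : act 6 n4840 = n4840 := d40_1 D4840 (iv D4840) F18282
theorem F23557 : act 7 n4840 = n3789 := d42_1 D4840 (iv D3789) (iv F18283)
theorem F23558 : act 9 n4840 = n3831 := d44_2 D3788 D4840 (iv D3831) (iv D2675) (iv F13010)
def n4841 : Q := act 5 n3789
theorem D4841 : act 5 n3789 = n4841 := rfl
theorem F23559 : act 2 n4841 = n3800 := d19_1 D4841 (iv D3800) (iv F18284)
theorem F23560 : act 9 n4841 = n3832 := d38_2 (iv F18287) D4841 (iv D3832)
def n4842 : Q := act 4 n3790
theorem D4842 : act 4 n3790 = n4842 := rfl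
theorem F23561 : act 2 n4842 = n3801 := d18_1 D4842 (iv D3801) (iv F18288)
theorem F23562 : act 5 n4842 = n3932 := d30_2 D3790 D4842 (iv D3932) (iv D2749) (iv F13015)
theorem F23563 : act 7 n4842 = n4842 := d32_2 F18289 D4842 (iv D4842)
theorem F23564 : act 9 n4842 = n3833 := d34_2 (iv F18290) D4842 (iv D3833)
def n4843 : Q := act 6 n3790
theorem D4843 : act 6 n3790 = n4843 := rfl
theorem F23565 : act 2 n4843 = n3802 := d20_1 D4843 (iv D3802) (iv F18288)
theorem F23566 : act 9 n4843 = n3834 := d41_2 (iv F18290) D4843 (iv D3834)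
def n4844 : Q := act 6 n3791
theorem D4844 : act 6 n3791 = n4844 := rfl
theorem F23567 : act 1 n4844 = n4057 := d13_1 D4844 F19413 (iv F18291)
theorem F23568 : act 3 n4844 = n4844 := d26_1 D4844 (iv D4844) F18292
theorem F23569 : act 4 n4844 = n3794 := d31_1 D4844 (iv D3794) (iv F18293)
theorem F23570 : act 5 n4844 = n4101 := d35_1 D4844 (iv F21753) F21752 (iv D3934) (iv F18294)
theorem F23571 : act 7 n4844 = n4049 := d39_2 D3791 D4844 F23391 (iv D4797) F18182
theorem F23572 : act 8 n4844 = n4048 := d40_2 F21955 D4844 (iv F21953)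
def n4845 : Q := act 9 n3791
theorem D4845 : act 9 n3791 = n4845 := rfl
theorem F23573 : act 1 n4845 = n4065 := d16_1 D4845 (iv D4065) (iv F18291)
theorem F23574 : act 3 n4845 = n4845 := d29_1 D4845 (iv D4845) F18292
theorem F23575 : act 4 n4845 = n3796 := d34_1 D4845 (iv D3796) (iv F18293)
theorem F23576 : act 5 n4845 = n3935 := d38_1 D4845 (iv D3935) (iv F18294)
theorem F23577 : act 7 n4845 = n3793 := d43_1 D4845 (iv D3793) D3791
def n4846 : Q := act 9 n3792
theorem D4846 : act 9 n3792 = n4846 := rfl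
theorem F23578 : act 1 n4846 = n4066 := d16_1 D4846 (iv D4066) (iv F18295)
theorem F23579 : act 3 n4846 = n4846 := d29_1 D4846 (iv D4846) F18296
theorem F23580 : act 4 n4846 = n3797 := d34_1 D4846 (iv D3797) (iv F18297)
theorem F23581 : act 5 n4846 = n4846 := d38_1 D4846 (iv D4846) F18298
def n4847 : Q := act 8 n3793
theorem D4847 : act 8 n3793 = n4847 := rfl
theorem F23582 : act 1 n4847 = n4067 := d15_1 D4847 (iv D4067) (iv F18299)
theorem F23583 : act 3 n4847 = n4847 := d28_1 D4847 (iv D4847) F18300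
theorem F23584 : act 4 n4847 = n3798 := d33_1 D4847 (iv D3798) (iv F18301)
def n4848 : Q := act 9 n3794
theorem D4848 : act 9 n3794 = n4848 := rfl
theorem F23585 : act 1 n4848 = n4068 := d16_1 D4848 (iv D4068) (iv F18303)
theorem F23586 : act 3 n4848 = n3804 := d29_1 D4848 (iv D3804) (iv F18304)
theorem F23587 : act 5 n4848 = n4848 := d38_1 D4848 (iv D4848) F18305
theorem F23588 : act 6 n4848 = n3796 := d41_1 D4848 (iv D3796) D3794
def n4849 : Q := act 8 n3796
theorem D4849 : act 8 n3796 = n4849 := rfl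
theorem F23589 : act 1 n4849 = n4070 := d15_1 D4849 (iv D4070) (iv F18310)
theorem F23590 : act 3 n4849 = n3806 := d28_1 D4849 (iv D3806) (iv F18311)
theorem F23591 : act 7 n4849 = n3798 := d42_1 D4849 (iv D3798) (iv F18313)
def n4850 : Q := act 8 n3797
theorem D4850 : act 8 n3797 = n4850 := rfl
theorem F23592 : act 1 n4850 = n4071 := d15_1 D4850 (iv D4071) (iv F18314)
theorem F23593 : act 3 n4850 = n3807 := d28_1 D4850 (iv D3807) (iv F18315)
theorem F23594 : act 9 n4850 = n3798 := d44_2 D3797 D4850 (iv D3798) (iv D2652) D2651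
def n4851 : Q := act 5 n3798
theorem D4851 : act 5 n3798 = n4851 := rfl
theorem F23595 : act 1 n4851 = n4072 := d12_1 D4851 (iv D4072) (iv F18317)
theorem F23596 : act 3 n4851 = n3808 := d25_1 D4851 (iv D3808) (iv F18318)
theorem F23597 : act 8 n4851 = n3800 := d37_2 D3798 D4851 (iv D3800) (iv D2654) (iv F13029)
def n4852 : Q := act 5 n3799
theorem D4852 : act 5 n3799 = n4852 := rfl
theorem F23598 : act 1 n4852 = n4073 := d12_1 D4852 (iv D4073) (iv F18319)
theorem F23599 : act 3 n4852 = n3809 := d25_1 D4852 (iv D3809) (iv F18320)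
theorem F23600 : act 7 n4852 = n3800 := d36_2 (iv F18323) D4852 (iv D3800)
theorem F23601 : act 9 n4852 = n3841 := d38_2 (iv F18324) D4852 (iv D3841)
def n4853 : Q := act 4 n3800
theorem D4853 : act 4 n3800 = n4853 := rfl
theorem F23602 : act 1 n4853 = n4074 := d11_1 D4853 (iv D4074) (iv F18325)
theorem F23603 : act 5 n4853 = n3941 := d30_2 D3800 D4853 (iv D3941) (iv D2756) (iv F13037)
theorem F23604 : act 9 n4853 = n3842 := d34_2 (iv F18327) D4853 (iv D3842)
def n4854 : Q := act 6 n3800
theorem D4854 : act 6 n3800 = n4854 := rfl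
theorem F23605 : act 1 n4854 = n4075 := d13_1 D4854 (iv D4075) (iv F18325)
theorem F23606 : act 3 n4854 = n3811 := d26_1 D4854 (iv D3811) (iv F18326)
theorem F23607 : act 5 n4854 = n3802 := d35_1 D4854 (iv D3802) (iv D2655) (iv F13038) D3800
theorem F23608 : act 9 n4854 = n3843 := d41_2 (iv F18327) D4854 (iv D3843)
def n4855 : Q := act 6 n3801
theorem D4855 : act 6 n3801 = n4855 := rfl
theorem F23609 : act 1 n4855 = n4076 := d13_1 D4855 (iv D4076) (iv F18328)
theorem F23610 : act 3 n4855 = n4855 := d26_1 D4855 (iv D4855) F18329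
theorem F23611 : act 4 n4855 = n3802 := d31_1 D4855 (iv D3802) D3801
theorem F23612 : act 9 n4855 = n3844 := d41_2 (iv F18332) D4855 (iv D3844)
def n4856 : Q := act 7 n3802
theorem D4856 : act 7 n3802 = n4856 := rfl
theorem F23613 : act 1 n4856 = n4077 := d14_1 D4856 (iv D4077) (iv F18333)
theorem F23614 : act 3 n4856 = n3812 := d27_1 D4856 (iv D3812) (iv F18334)
theorem F23615 : act 6 n4856 = n4856 := d39_1 D4856 (iv D4856) (iv D3802) F13042 D3802
theorem F23616 : act 9 n4856 = n3845 := d43_2 (iv F18335) D4856 (iv D3845)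
def n4857 : Q := act 8 n3804
theorem D4857 : act 8 n3804 = n4857 := rfl
theorem F23617 : act 1 n4857 = n4080 := d15_1 D4857 (iv D4080) (iv F18339)
theorem F23618 : act 4 n4857 = n4857 := d33_1 D4857 (iv D4857) F18340
theorem F23619 : act 6 n4857 = n3806 := d40_1 D4857 (iv D3806) (iv F18342)
def n4858 : Q := act 5 n3806
theorem D4858 : act 5 n3806 = n4858 := rfl
theorem F23620 : act 1 n4858 = n4082 := d12_1 D4858 (iv D4082) (iv F18347)
theorem F23621 : act 7 n4858 = n3808 := d36_2 (iv F18349) D4858 (iv D3808)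
theorem F23622 : act 8 n4858 = n3809 := d37_2 D3806 D4858 (iv D3809) (iv D2661) (iv F13053)
def n4859 : Q := act 5 n3807
theorem D4859 : act 5 n3807 = n4859 := rfl
theorem F23623 : act 1 n4859 = n4083 := d12_1 D4859 (iv D4083) (iv F18350)
theorem F23624 : act 8 n4859 = n3851 := d37_2 D3807 D4859 (iv D3851) (iv D2691) (iv F13057)
theorem F23625 : act 9 n4859 = n3808 := d38_2 (iv F18352) D4859 (iv D3808)
def n4860 : Q := act 4 n3808
theorem D4860 : act 4 n3808 = n4860 := rfl
theorem F23626 : act 1 n4860 = n4084 := d11_1 D4860 (iv D4084) (iv F18353)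
theorem F23627 : act 5 n4860 = n4860 := d30_2 D3808 D4860 (iv D4860) (iv D3808) F13059
theorem F23628 : act 8 n4860 = n3810 := d33_2 (iv F18354) D4860 (iv D3810)
def n4861 : Q := act 6 n3808
theorem D4861 : act 6 n3808 = n4861 := rfl
theorem F23629 : act 1 n4861 = n4085 := d13_1 D4861 (iv D4085) (iv F18353)
theorem F23630 : act 8 n4861 = n3811 := d40_2 (iv F18354) D4861 (iv D3811)
def n4862 : Q := act 4 n3809
theorem D4862 : act 4 n3809 = n4862 := rfl
theorem F23631 : act 1 n4862 = n4086 := d11_1 D4862 (iv D4086) (iv F18355)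
theorem F23632 : act 5 n4862 = n3813 := d30_2 D3809 D4862 (iv D3813) (iv D2664) (iv F13061)
theorem F23633 : act 7 n4862 = n3810 := d32_2 (iv F18356) D4862 (iv D3810)
theorem F23634 : act 9 n4862 = n3854 := d34_2 (iv F18357) D4862 (iv D3854)
def n4863 : Q := act 6 n3809
theorem D4863 : act 6 n3809 = n4863 := rfl
theorem F23635 : act 1 n4863 = n4087 := d13_1 D4863 (iv D4087) (iv F18355)
theorem F23636 : act 5 n4863 = n4863 := d35_1 D4863 (iv D4863) (iv D3809) F13062 D3809
theorem F23637 : act 9 n4863 = n3855 := d41_2 (iv F18357) D4863 (iv D3855)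
def n4864 : Q := act 3 n3810
theorem D4864 : act 3 n3810 = n4864 := rfl
theorem F23638 : act 1 n4864 = n4088 := d10_1 D4864 (iv D4088) (iv F18358)
theorem F23639 : act 5 n4864 = n3815 := d25_2 (iv F18359) D4864 (iv D3815)
theorem F23640 : act 9 n4864 = n3856 := d29_2 (iv F18360) D4864 (iv D3856)
def n4865 : Q := act 6 n3810
theorem D4865 : act 6 n3810 = n4865 := rfl
theorem F23641 : act 1 n4865 = n4089 := d13_1 D4865 (iv D4089) (iv F18358)
theorem F23642 : act 4 n4865 = n3811 := d31_1 D4865 (iv D3811) D3810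
theorem F23643 : act 5 n4865 = n4865 := d35_1 D4865 (iv D4865) F18359 F13076 (iv F18359)
theorem F23644 : act 9 n4865 = n3857 := d41_2 (iv F18360) D4865 (iv D3857)
def n4866 : Q := act 7 n3811
theorem D4866 : act 7 n3811 = n4866 := rfl
theorem F23645 : act 1 n4866 = n4090 := d14_1 D4866 (iv D4090) (iv F18361)
theorem F23646 : act 5 n4866 = n3812 := d36_1 D4866 (iv D3812) (iv F18362)
theorem F23647 : act 9 n4866 = n3858 := d43_2 (iv F18363) D4866 (iv D3858)
def n4867 : Q := act 3 n3813
theorem D4867 : act 3 n3813 = n4867 := rfl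
theorem F23648 : act 1 n4867 = n4091 := d10_1 D4867 (iv D4091) (iv F18368)
theorem F23649 : act 4 n4867 = n3954 := d24_2 D3813 D4867 (iv D3954) (iv D2766) (iv F13071)
theorem F23650 : act 7 n4867 = n3815 := d27_2 (iv F18369) D4867 (iv D3815)
theorem F23651 : act 8 n4867 = n4867 := d28_2 F18370 D4867 (iv D4867)
theorem F23652 : act 9 n4867 = n3859 := d29_2 (iv F18371) D4867 (iv D3859)
def n4868 : Q := act 6 n3813
theorem D4868 : act 6 n3813 = n4868 := rfl
theorem F23653 : act 1 n4868 = n4092 := d13_1 D4868 (iv D4092) (iv F18368)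
theorem F23654 : act 4 n4868 = n3814 := d31_1 D4868 (iv D3814) D3813
theorem F23655 : act 7 n4868 = n4868 := d39_2 (iv F18369) D4868 (iv D4868) F18369 F13076
theorem F23656 : act 8 n4868 = n4868 := d40_2 F18370 D4868 (iv D4868)
theorem F23657 : act 9 n4868 = n3860 := d41_2 (iv F18371) D4868 (iv D3860)
def n4869 : Q := act 2 n3815
theorem D4869 : act 2 n3815 = n4869 := rfl
theorem F23658 : act 4 n4869 = n3956 := d18_2 (iv F18379) D4869 (iv D3956)
theorem F23659 : act 6 n4869 = n4869 := d20_2 F18380 D4869 (iv D4869)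
theorem F23660 : act 8 n4869 = n4869 := d22_2 F18381 D4869 (iv D4869)
theorem F23661 : act 9 n4869 = n3861 := d23_2 (iv F18382) D4869 (iv D3861)
def n4870 : Q := act 8 n3816
theorem D4870 : act 8 n3816 = n4870 := rfl
theorem F23662 : act 0 n4870 = n3821 := d7_1 D4870 (iv D3821) (iv F18383)
theorem F23663 : act 2 n4870 = n4095 := d22_1 D4870 (iv D4095) (iv F18384)
theorem F23664 : act 4 n4870 = n4870 := d33_1 D4870 (iv D4870) F18385
theorem F23665 : act 6 n4870 = n4870 := d40_1 D4870 (iv D4870) F18386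
def n4871 : Q := act 9 n3816
theorem D4871 : act 9 n3816 = n4871 := rfl
theorem F23666 : act 0 n4871 = n3822 := d8_1 D4871 (iv D3822) (iv F18383)
theorem F23667 : act 2 n4871 = n4096 := d23_1 D4871 (iv D4096) (iv F18384)
theorem F23668 : act 4 n4871 = n4871 := d34_1 D4871 (iv D4871) F18385
theorem F23669 : act 5 n4871 = n3818 := d38_1 D4871 (iv D3818) D3816
theorem F23670 : act 6 n4871 = n4871 := d41_1 D4871 (iv D4871) F18386
def n4872 : Q := act 9 n3817
theorem D4872 : act 9 n3817 = n4872 := rfl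
theorem F23671 : act 0 n4872 = n3823 := d8_1 D4872 (iv D3823) (iv F18387)
theorem F23672 : act 2 n4872 = n4097 := d23_1 D4872 (iv D4097) (iv F18388)
theorem F23673 : act 4 n4872 = n3957 := d34_1 D4872 (iv D3957) (iv F18389)
theorem F23674 : act 6 n4872 = n4872 := d41_1 D4872 (iv D4872) F18390
theorem F23675 : act 7 n4872 = n3818 := d43_1 D4872 (iv D3818) D3817
def n4873 : Q := act 8 n3818
theorem D4873 : act 8 n3818 = n4873 := rfl
theorem F23676 : act 0 n4873 = n3824 := d7_1 D4873 (iv D3824) (iv F18391)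
theorem F23677 : act 2 n4873 = n4098 := d22_1 D4873 (iv D4098) (iv F18392)
theorem F23678 : act 4 n4873 = n3958 := d33_1 D4873 (iv D3958) (iv F18393)
theorem F23679 : act 6 n4873 = n3819 := d40_1 D4873 (iv D3819) (iv F18394)
def n4874 : Q := act 5 n3819
theorem D4874 : act 5 n3819 = n4874 := rfl
theorem F23680 : act 0 n4874 = n3825 := d4_1 D4874 (iv D3825) (iv F18395)
theorem F23681 : act 2 n4874 = n4099 := d19_1 D4874 (iv D4099) (iv F18396)
theorem F23682 : act 7 n4874 = n4874 := d36_2 F18398 D4874 (iv D4874)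
theorem F23683 : act 8 n4874 = n4874 := d37_2 D3819 D4874 (iv D4874) (iv D3819) F13085
def n4875 : Q := act 9 n3821
theorem D4875 : act 9 n3821 = n4875 := rfl
theorem F23684 : act 1 n4875 = n3829 := d16_1 D4875 (iv D3829) (iv F18403)
theorem F23685 : act 2 n4875 = n4103 := d23_1 D4875 (iv D4103) (iv F18404)
theorem F23686 : act 4 n4875 = n4875 := d34_1 D4875 (iv D4875) F18405
theorem F23687 : act 6 n4875 = n4875 := d41_1 D4875 (iv D4875) F18406
def n4876 : Q := act 8 n3822
theorem D4876 : act 8 n3822 = n4876 := rfl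
theorem F23688 : act 1 n4876 = n3830 := d15_1 D4876 (iv D3830) (iv F18407)
theorem F23689 : act 2 n4876 = n4104 := d22_1 D4876 (iv D4104) (iv F18408)
theorem F23690 : act 4 n4876 = n4876 := d33_1 D4876 (iv D4876) F18409
theorem F23691 : act 6 n4876 = n4876 := d40_1 D4876 (iv D4876) F18411
def n4877 : Q := act 8 n3823
theorem D4877 : act 8 n3823 = n4877 := rfl
theorem F23692 : act 1 n4877 = n3831 := d15_1 D4877 (iv D3831) (iv F18412)
theorem F23693 : act 2 n4877 = n4105 := d22_1 D4877 (iv D4105) (iv F18413)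
theorem F23694 : act 4 n4877 = n3960 := d33_1 D4877 (iv D3960) (iv F18414)
theorem F23695 : act 6 n4877 = n4877 := d40_1 D4877 (iv D4877) F18415
theorem F23696 : act 7 n4877 = n3824 := d42_1 D4877 (iv D3824) (iv F18416)
def n4878 : Q := act 5 n3824
theorem D4878 : act 5 n3824 = n4878 := rfl
theorem F23697 : act 1 n4878 = n3832 := d12_1 D4878 (iv D3832) (iv F18417)
theorem F23698 : act 2 n4878 = n4106 := d19_1 D4878 (iv D4106) (iv F18418)
def n4879 : Q := act 4 n3825
theorem D4879 : act 4 n3825 = n4879 := rfl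
theorem F23699 : act 1 n4879 = n3833 := d11_1 D4879 (iv D3833) (iv F18421)
theorem F23700 : act 2 n4879 = n4107 := d18_1 D4879 (iv D4107) (iv F18422)
theorem F23701 : act 5 n4879 = n3962 := d30_2 D3825 D4879 (iv D3962) (iv D2774) (iv F13101)
theorem F23702 : act 7 n4879 = n4879 := d32_2 F18423 D4879 (iv D4879)
theorem F23703 : act 8 n4879 = n4879 := d33_2 F18424 D4879 (iv D4879)
def n4880 : Q := act 6 n3825
theorem D4880 : act 6 n3825 = n4880 := rfl
theorem F23704 : act 1 n4880 = n3834 := d13_1 D4880 (iv D3834) (iv F18421)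
theorem F23705 : act 2 n4880 = n4108 := d20_1 D4880 (iv D4108) (iv F18422)
theorem F23706 : act 8 n4880 = n4880 := d40_2 F18424 D4880 (iv D4880)
def n4881 : Q := act 8 n3829
theorem D4881 : act 8 n3829 = n4881 := rfl
theorem F23707 : act 2 n4881 = n3839 := d22_1 D4881 (iv D3839) (iv F18436)
theorem F23708 : act 4 n4881 = n4881 := d33_1 D4881 (iv D4881) F18437
theorem F23709 : act 6 n4881 = n4881 := d40_1 D4881 (iv D4881) F18438
theorem F23710 : act 9 n4881 = n3830 := d44_2 D3829 D4881 (iv D3830) (iv D2674) D2673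
def n4882 : Q := act 5 n3830
theorem D4882 : act 5 n3830 = n4882 := rfl
theorem F23711 : act 2 n4882 = n3840 := d19_1 D4882 (iv D3840) (iv F18439)
theorem F23712 : act 8 n4882 = n3832 := d37_2 D3830 D4882 (iv D3832) (iv D2676) (iv F13111)
def n4883 : Q := act 5 n3831
theorem D4883 : act 5 n3831 = n4883 := rfl
theorem F23713 : act 2 n4883 = n3841 := d19_1 D4883 (iv D3841) (iv F18442)
theorem F23714 : act 7 n4883 = n3832 := d36_2 (iv F18445) D4883 (iv D3832)
def n4884 : Q := act 4 n3832
theorem D4884 : act 4 n3832 = n4884 := rfl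
theorem F23715 : act 2 n4884 = n3842 := d18_1 D4884 (iv D3842) (iv F18446)
theorem F23716 : act 5 n4884 = n3965 := d30_2 D3832 D4884 (iv D3965) (iv D2776) (iv F13118)
def n4885 : Q := act 6 n3832
theorem D4885 : act 6 n3832 = n4885 := rfl
theorem F23717 : act 2 n4885 = n3843 := d20_1 D4885 (iv D3843) (iv F18446)
theorem F23718 : act 5 n4885 = n3834 := d35_1 D4885 (iv D3834) (iv D2677) (iv F13119) D3832
def n4886 : Q := act 3 n3833
theorem D4886 : act 3 n3833 = n4886 := rfl
theorem F23719 : act 2 n4886 = n4886 := d17_1 D4886 (iv D4886) F18447 F13153 (iv F18447)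
theorem F23720 : act 5 n4886 = n3967 := d25_2 (iv F18448) D4886 (iv D3967)
theorem F23721 : act 7 n4886 = n4886 := d27_2 F18449 D4886 (iv D4886)
theorem F23722 : act 8 n4886 = n4886 := d28_2 F18450 D4886 (iv D4886)
def n4887 : Q := act 6 n3833
theorem D4887 : act 6 n3833 = n4887 := rfl
theorem F23723 : act 2 n4887 = n3844 := d20_1 D4887 (iv D3844) (iv F18447)
theorem F23724 : act 4 n4887 = n3834 := d31_1 D4887 (iv D3834) D3833
theorem F23725 : act 8 n4887 = n4887 := d40_2 F18450 D4887 (iv D4887)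
def n4888 : Q := act 7 n3834
theorem D4888 : act 7 n3834 = n4888 := rfl
theorem F23726 : act 2 n4888 = n3845 := d21_1 D4888 (iv D3845) (iv F18451)
theorem F23727 : act 6 n4888 = n4888 := d39_1 D4888 (iv D4888) (iv D3834) F13121 D3834
theorem F23728 : act 8 n4888 = n4888 := d42_2 F18452 D4888 (iv D4888)
def n4889 : Q := act 5 n3839
theorem D4889 : act 5 n3839 = n4889 := rfl
theorem F23729 : act 1 n4889 = n4126 := d12_1 D4889 (iv D4126) (iv F18472)
theorem F23730 : act 3 n4889 = n3851 := d25_1 D4889 (iv D3851) (iv F18473)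
theorem F23731 : act 9 n4889 = n3840 := d38_2 (iv F18476) D4889 (iv D3840)
def n4890 : Q := act 4 n3840
theorem D4890 : act 4 n3840 = n4890 := rfl
theorem F23732 : act 1 n4890 = n4127 := d11_1 D4890 (iv D4127) (iv F18477)
theorem F23733 : act 5 n4890 = n4890 := d30_2 D3840 D4890 (iv D4890) (iv D3840) F13143
theorem F23734 : act 8 n4890 = n3842 := d33_2 (iv F18479) D4890 (iv D3842)
def n4891 : Q := act 6 n3840
theorem D4891 : act 6 n3840 = n4891 := rfl
theorem F23735 : act 1 n4891 = n4128 := d13_1 D4891 (iv D4128) (iv F18477)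
theorem F23736 : act 3 n4891 = n3853 := d26_1 D4891 (iv D3853) (iv F18478)
theorem F23737 : act 5 n4891 = n4891 := d35_1 D4891 (iv D4891) (iv D3840) F13144 D3840
theorem F23738 : act 8 n4891 = n3843 := d40_2 (iv F18479) D4891 (iv D3843)
def n4892 : Q := act 4 n3841
theorem D4892 : act 4 n3841 = n4892 := rfl
theorem F23739 : act 1 n4892 = n4129 := d11_1 D4892 (iv D4129) (iv F18480)
theorem F23740 : act 5 n4892 = n3970 := d30_2 D3841 D4892 (iv D3970) (iv D2779) (iv F13147)
theorem F23741 : act 7 n4892 = n3842 := d32_2 (iv F18482) D4892 (iv D3842)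
def n4893 : Q := act 6 n3841
theorem D4893 : act 6 n3841 = n4893 := rfl
theorem F23742 : act 1 n4893 = n4130 := d13_1 D4893 (iv D4130) (iv F18480)
theorem F23743 : act 3 n4893 = n3855 := d26_1 D4893 (iv D3855) (iv F18481)
theorem F23744 : act 5 n4893 = n4893 := d35_1 D4893 (iv D4893) (iv D3841) F13148 D3841
def n4894 : Q := act 3 n3842
theorem D4894 : act 3 n3842 = n4894 := rfl
theorem F23745 : act 1 n4894 = n4131 := d10_1 D4894 (iv D4131) (iv F18483)
theorem F23746 : act 4 n4894 = n3856 := d24_2 D3842 D4894 (iv D3856) (iv D2694) (iv F13151)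
theorem F23747 : act 5 n4894 = n3972 := d25_2 (iv F18484) D4894 (iv D3972)
def n4895 : Q := act 6 n3842
theorem D4895 : act 6 n3842 = n4895 := rfl
theorem F23748 : act 1 n4895 = n4132 := d13_1 D4895 (iv D4132) (iv F18483)
theorem F23749 : act 4 n4895 = n3843 := d31_1 D4895 (iv D3843) D3842
def n4896 : Q := act 7 n3843
theorem D4896 : act 7 n3843 = n4896 := rfl
theorem F23750 : act 1 n4896 = n4133 := d14_1 D4896 (iv D4133) (iv F18485)
theorem F23751 : act 3 n4896 = n3858 := d27_1 D4896 (iv D3858) (iv F18486)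
theorem F23752 : act 5 n4896 = n3845 := d36_1 D4896 (iv D3845) (iv F18487)
def n4897 : Q := act 5 n3844
theorem D4897 : act 5 n3844 = n4897 := rfl
theorem F23753 : act 1 n4897 = n4134 := d12_1 D4897 (iv D4134) (iv F18488)
theorem F23754 : act 3 n4897 = n4897 := d25_1 D4897 (iv D4897) F18489
theorem F23755 : act 6 n4897 = n3975 := d35_2 D3844 D4897 (iv D3975) (iv D2782) (iv F13154)
def n4898 : Q := act 7 n3844
theorem D4898 : act 7 n3844 = n4898 := rfl
theorem F23756 : act 1 n4898 = n4135 := d14_1 D4898 (iv D4135) (iv F18488)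
theorem F23757 : act 3 n4898 = n4898 := d27_1 D4898 (iv D4898) F18489
theorem F23758 : act 4 n4898 = n3845 := d32_1 D4898 (iv D3845) (iv F18490)
theorem F23759 : act 6 n4898 = n4898 := d39_1 D4898 (iv D4898) (iv D3844) F13155 D3844
theorem F23760 : act 8 n4898 = n4898 := d42_2 F18491 D4898 (iv D4898)
def n4899 : Q := act 4 n3851
theorem D4899 : act 4 n3851 = n4899 := rfl
theorem F23761 : act 1 n4899 = n4143 := d11_1 D4899 (iv D4143) (iv F18514)
theorem F23762 : act 5 n4899 = n3869 := d30_2 D3851 D4899 (iv D3869) (iv D2705) (iv F13176)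
theorem F23763 : act 9 n4899 = n3852 := d34_2 (iv F18515) D4899 (iv D3852)
def n4900 : Q := act 6 n3851
theorem D4900 : act 6 n3851 = n4900 := rfl
theorem F23764 : act 1 n4900 = n4144 := d13_1 D4900 (iv D4144) (iv F18514)
theorem F23765 : act 5 n4900 = n4900 := d35_1 D4900 (iv D4900) (iv D3851) F13177 D3851
theorem F23766 : act 9 n4900 = n3853 := d41_2 (iv F18515) D4900 (iv D3853)
def n4901 : Q := act 3 n3852
theorem D4901 : act 3 n3852 = n4901 := rfl
theorem F23767 : act 1 n4901 = n4145 := d10_1 D4901 (iv D4145) (iv F18516)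
theorem F23768 : act 5 n4901 = n3871 := d25_2 (iv F18517) D4901 (iv D3871)
theorem F23769 : act 8 n4901 = n3856 := d28_2 (iv F18518) D4901 (iv D3856)
def n4902 : Q := act 6 n3852
theorem D4902 : act 6 n3852 = n4902 := rfl
theorem F23770 : act 1 n4902 = n4146 := d13_1 D4902 (iv D4146) (iv F18516)
theorem F23771 : act 4 n4902 = n3853 := d31_1 D4902 (iv D3853) D3852
theorem F23772 : act 8 n4902 = n3857 := d40_2 (iv F18518) D4902 (iv D3857)
def n4903 : Q := act 7 n3853
theorem D4903 : act 7 n3853 = n4903 := rfl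
theorem F23773 : act 1 n4903 = n4147 := d14_1 D4903 (iv D4147) (iv F18519)
theorem F23774 : act 5 n4903 = n4903 := d36_1 D4903 (iv D4903) F18520
theorem F23775 : act 8 n4903 = n3858 := d42_2 (iv F18521) D4903 (iv D3858)
def n4904 : Q := act 3 n3854
theorem D4904 : act 3 n3854 = n4904 := rfl
theorem F23776 : act 1 n4904 = n4148 := d10_1 D4904 (iv D4148) (iv F18522)
theorem F23777 : act 5 n4904 = n3859 := d25_2 (iv F18523) D4904 (iv D3859)
theorem F23778 : act 7 n4904 = n3856 := d27_2 (iv F18524) D4904 (iv D3856)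
def n4905 : Q := act 6 n3854
theorem D4905 : act 6 n3854 = n4905 := rfl
theorem F23779 : act 1 n4905 = n4149 := d13_1 D4905 (iv D4149) (iv F18522)
theorem F23780 : act 4 n4905 = n3855 := d31_1 D4905 (iv D3855) D3854
def n4906 : Q := act 7 n3855
theorem D4906 : act 7 n3855 = n4906 := rfl
theorem F23781 : act 1 n4906 = n4150 := d14_1 D4906 (iv D4150) (iv F18525)
theorem F23782 : act 5 n4906 = n4906 := d36_1 D4906 (iv D4906) F18526
theorem F23783 : act 6 n4906 = n3858 := d39_1 D4906 (iv D3858) (iv D2695) (iv F13182) D3855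
def n4907 : Q := act 2 n3856
theorem D4907 : act 2 n3856 = n4907 := rfl
theorem F23784 : act 5 n4907 = n3861 := d19_2 (iv F18528) D4907 (iv D3861)
def n4908 : Q := act 6 n3856
theorem D4908 : act 6 n3856 = n4908 := rfl
theorem F23785 : act 1 n4908 = n4152 := d13_1 D4908 (iv D4152) (iv F18527)
theorem F23786 : act 3 n4908 = n3857 := d26_1 D4908 (iv D3857) D3856
theorem F23787 : act 5 n4908 = n4908 := d35_1 D4908 (iv D4908) F18528 F13201 (iv F18528)
def n4909 : Q := act 7 n3857
theorem D4909 : act 7 n3857 = n4909 := rfl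
theorem F23788 : act 1 n4909 = n4153 := d14_1 D4909 (iv D4153) (iv F18529)
theorem F23789 : act 4 n4909 = n3858 := d32_1 D4909 (iv D3858) (iv F18530)
theorem F23790 : act 5 n4909 = n4909 := d36_1 D4909 (iv D4909) F18531
def n4910 : Q := act 2 n3859
theorem D4910 : act 2 n3859 = n4910 := rfl
theorem F23791 : act 4 n4910 = n3983 := d18_2 (iv F18535) D4910 (iv D3983)
theorem F23792 : act 7 n4910 = n3861 := d21_2 (iv F18536) D4910 (iv D3861)
theorem F23793 : act 8 n4910 = n3880 := d22_2 (iv F18537) D4910 (iv D3880)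
def n4911 : Q := act 6 n3859
theorem D4911 : act 6 n3859 = n4911 := rfl
theorem F23794 : act 1 n4911 = n4155 := d13_1 D4911 (iv D4155) (iv F18534)
theorem F23796 : act 4 n4911 = n3984 := d31_1 D4911 (iv D3984) (iv F18535)
def n4912 : Q := act 5 n3860
theorem D4912 : act 5 n3860 = n4912 := rfl
theorem F23800 : act 4 n4912 = n4912 := d30_1 D4912 (iv D4912) F18539 F13196 (iv F18539)
theorem F23801 : act 7 n4912 = n4912 := d36_2 F18540 D4912 (iv D4912)
theorem F23802 : act 8 n4912 = n4912 := d37_2 (iv F18541) D4912 (iv D4912) F18541 F20330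
def n4913 : Q := act 1 n3861
theorem D4913 : act 1 n3861 = n4913 := rfl
theorem F23803 : act 2 n4913 = n4157 := d9_2 D3861 D4913 (iv D4157) (iv D2916) (iv F13199)
theorem F23805 : act 6 n4913 = n4913 := d13_2 F18543 D4913 (iv D4913)
theorem F23806 : act 8 n4913 = n3883 := d15_2 (iv F18544) D4913 (iv D3883)
def n4914 : Q := act 3 n3869
theorem D4914 : act 3 n3869 = n4914 := rfl
theorem F23807 : act 1 n4914 = n4169 := d10_1 D4914 (iv D4169) (iv F18574)
theorem F23808 : act 4 n4914 = n4914 := d24_2 D3869 D4914 (iv D4914) (iv D3869) F13225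
theorem F23809 : act 8 n4914 = n4914 := d28_2 F18575 D4914 (iv D4914)
theorem F23810 : act 9 n4914 = n3871 := d29_2 (iv F18576) D4914 (iv D3871)
def n4915 : Q := act 6 n3869
theorem D4915 : act 6 n3869 = n4915 := rfl
theorem F23811 : act 1 n4915 = n4170 := d13_1 D4915 (iv D4170) (iv F18574)
theorem F23812 : act 4 n4915 = n3870 := d31_1 D4915 (iv D3870) D3869
theorem F23813 : act 7 n4915 = n4915 := d39_2 F21991 D4915 (iv D4915) (iv F21991) F21990
theorem F23814 : act 8 n4915 = n4915 := d40_2 F18575 D4915 (iv D4915)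
theorem F23815 : act 9 n4915 = n3872 := d41_2 (iv F18576) D4915 (iv D3872)
def n4916 : Q := act 2 n3871
theorem D4916 : act 2 n3871 = n4916 := rfl
theorem F23816 : act 4 n4916 = n4916 := d18_2 F18583 D4916 (iv D4916)
theorem F23817 : act 8 n4916 = n3877 := d22_2 (iv F18584) D4916 (iv D3877)
def n4917 : Q := act 6 n3871
theorem D4917 : act 6 n3871 = n4917 := rfl
theorem F23818 : act 1 n4917 = n4173 := d13_1 D4917 (iv D4173) (iv F18582)
theorem F23819 : act 3 n4917 = n3872 := d26_1 D4917 (iv D3872) D3871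
theorem F23820 : act 4 n4917 = n4917 := d31_1 D4917 (iv D4917) F18583
theorem F23821 : act 7 n4917 = n4917 := d39_2 F22062 D4917 (iv D4917) (iv F22062) F22061
theorem F23822 : act 8 n4917 = n3878 := d40_2 (iv F18584) D4917 (iv D3878)
def n4918 : Q := act 5 n3872
theorem D4918 : act 5 n3872 = n4918 := rfl
theorem F23823 : act 1 n4918 = n4174 := d12_1 D4918 (iv D4174) (iv F18585)
theorem F23824 : act 4 n4918 = n4918 := d30_1 D4918 (iv D4918) F18586 F13232 (iv F18586)
theorem F23825 : act 7 n4918 = n4918 := d36_2 F20365 D4918 (iv D4918)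
theorem F23826 : act 8 n4918 = n4918 := d37_2 (iv F18587) D4918 (iv D4918) F18587 F13248
def n4919 : Q := act 1 n3877
theorem D4919 : act 1 n3877 = n4919 := rfl
theorem F23827 : act 2 n4919 = n4180 := d9_2 D3877 D4919 (iv D4180) (iv D2932) (iv F13242)
theorem F23828 : act 4 n4919 = n4919 := d11_2 F18605 D4919 (iv D4919)
theorem F23829 : act 5 n4919 = n3883 := d12_2 (iv F18606) D4919 (iv D3883)
theorem F23830 : act 9 n4919 = n4919 := d16_2 F18607 D4919 (iv D4919)
def n4920 : Q := act 6 n3877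
theorem D4920 : act 6 n3877 = n4920 := rfl
theorem F23831 : act 2 n4920 = n3878 := d20_1 D4920 (iv D3878) D3877
theorem F23832 : act 4 n4920 = n4920 := d31_1 D4920 (iv D4920) F18605
theorem F23833 : act 5 n4920 = n4920 := d35_1 D4920 (iv D4920) F18606 F13263 (iv F18606)
theorem F23834 : act 7 n4920 = n4920 := d39_2 F22069 D4920 (iv D4920) (iv F22069) F22068
theorem F23835 : act 9 n4920 = n4920 := d41_2 F18607 D4920 (iv D4920)
def n4921 : Q := act 1 n3880
theorem D4921 : act 1 n3880 = n4921 := rfl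
theorem F23837 : act 4 n4921 = n3987 := d11_2 (iv F18617) D4921 (iv D3987)
theorem F23838 : act 7 n4921 = n3883 := d14_2 (iv F18618) D4921 (iv D3883)
def n4922 : Q := act 6 n3880
theorem D4922 : act 6 n3880 = n4922 := rfl
theorem F23840 : act 2 n4922 = n3881 := d20_1 D4922 (iv D3881) D3880
theorem F23841 : act 4 n4922 = n3988 := d31_1 D4922 (iv D3988) (iv F18617)
def n4923 : Q := act 0 n3883
theorem D4923 : act 0 n3883 = n4923 := rfl
def n4924 : Q := act 9 n3914
theorem D4924 : act 9 n3914 = n4924 := rfl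
theorem F23849 : act 0 n4924 = n3920 := d8_1 D4924 (iv D3920) (iv F18756)
theorem F23850 : act 2 n4924 = n4189 := d23_1 D4924 (iv D4189) (iv F18757)
theorem F23851 : act 3 n4924 = n4924 := d29_1 D4924 (iv D4924) F18758
theorem F23852 : act 5 n4924 = n3916 := d38_1 D4924 (iv D3916) D3914
theorem F23853 : act 6 n4924 = n4924 := d41_1 D4924 (iv D4924) F18759
def n4925 : Q := act 9 n3915
theorem D4925 : act 9 n3915 = n4925 := rfl
theorem F23854 : act 0 n4925 = n3921 := d8_1 D4925 (iv D3921) (iv F18761)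
theorem F23855 : act 2 n4925 = n4190 := d23_1 D4925 (iv D4190) (iv F18762)
theorem F23856 : act 3 n4925 = n4925 := d29_1 D4925 (iv D4925) F18763
theorem F23857 : act 6 n4925 = n4925 := d41_1 D4925 (iv D4925) F18764
theorem F23858 : act 7 n4925 = n3916 := d43_1 D4925 (iv D3916) D3915
def n4926 : Q := act 8 n3916
theorem D4926 : act 8 n3916 = n4926 := rfl
theorem F23859 : act 0 n4926 = n3922 := d7_1 D4926 (iv D3922) (iv F18766)
theorem F23860 : act 2 n4926 = n4191 := d22_1 D4926 (iv D4191) (iv F18767)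
theorem F23861 : act 3 n4926 = n4926 := d28_1 D4926 (iv D4926) F18768
theorem F23862 : act 6 n4926 = n3917 := d40_1 D4926 (iv D3917) (iv F18769)
theorem F23863 : act 9 n4926 = n3958 := d44_2 D3916 D4926 (iv D3958) (iv D2770) (iv F13360)
def n4927 : Q := act 5 n3917
theorem D4927 : act 5 n3917 = n4927 := rfl
theorem F23864 : act 0 n4927 = n3923 := d4_1 D4927 (iv D3923) (iv F18770)
theorem F23865 : act 2 n4927 = n4192 := d19_1 D4927 (iv D4192) (iv F18771)
theorem F23866 : act 3 n4927 = n4927 := d25_1 D4927 (iv D4927) F18772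
theorem F23867 : act 7 n4927 = n4927 := d36_2 F18773 D4927 (iv D4927)
theorem F23868 : act 8 n4927 = n4927 := d37_2 D3917 D4927 (iv D4927) (iv D3917) F13364
theorem F23869 : act 9 n4927 = n3959 := d38_2 (iv F18774) D4927 (iv D3959)
def n4928 : Q := act 9 n3918
theorem D4928 : act 9 n3918 = n4928 := rfl
theorem F23870 : act 1 n4928 = n3926 := d16_1 D4928 (iv D3926) (iv F18775)
theorem F23871 : act 2 n4928 = n4193 := d23_1 D4928 (iv D4193) (iv F18776)
theorem F23872 : act 4 n4928 = n3920 := d34_1 D4928 (iv D3920) D3918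
theorem F23873 : act 6 n4928 = n4928 := d41_1 D4928 (iv D4928) F18777
def n4929 : Q := act 9 n3919
theorem D4929 : act 9 n3919 = n4929 := rfl
theorem F23874 : act 1 n4929 = n3928 := d16_1 D4929 (iv D3928) (iv F18779)
theorem F23875 : act 2 n4929 = n4194 := d23_1 D4929 (iv D4194) (iv F18780)
theorem F23876 : act 3 n4929 = n4929 := d29_1 D4929 (iv D4929) F18781
theorem F23877 : act 5 n4929 = n3921 := d38_1 D4929 (iv D3921) (iv F18782)
theorem F23878 : act 7 n4929 = n3920 := d43_1 D4929 (iv D3920) D3919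
def n4930 : Q := act 8 n3920
theorem D4930 : act 8 n3920 = n4930 := rfl
theorem F23879 : act 1 n4930 = n3929 := d15_1 D4930 (iv D3929) (iv F18784)
theorem F23880 : act 2 n4930 = n4195 := d22_1 D4930 (iv D4195) (iv F18785)
theorem F23881 : act 3 n4930 = n4930 := d28_1 D4930 (iv D4930) F18786
theorem F23882 : act 6 n4930 = n4930 := d40_1 D4930 (iv D4930) F18788
theorem F23883 : act 9 n4930 = n4930 := d44_2 D3920 D4930 (iv D4930) (iv D3920) F13370
def n4931 : Q := act 8 n3921
theorem D4931 : act 8 n3921 = n4931 := rfl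
theorem F23884 : act 1 n4931 = n3930 := d15_1 D4931 (iv D3930) (iv F18789)
theorem F23885 : act 2 n4931 = n4196 := d22_1 D4931 (iv D4196) (iv F18790)
theorem F23886 : act 3 n4931 = n4931 := d28_1 D4931 (iv D4931) F18791
theorem F23887 : act 6 n4931 = n4931 := d40_1 D4931 (iv D4931) F18792
theorem F23888 : act 7 n4931 = n3922 := d42_1 D4931 (iv D3922) (iv F18793)
theorem F23889 : act 9 n4931 = n3960 := d44_2 D3921 D4931 (iv D3960) (iv D2772) (iv F13375)
def n4932 : Q := act 5 n3922
theorem D4932 : act 5 n3922 = n4932 := rfl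
theorem F23890 : act 1 n4932 = n3931 := d12_1 D4932 (iv D3931) (iv F18794)
theorem F23891 : act 2 n4932 = n4197 := d19_1 D4932 (iv D4197) (iv F18795)
theorem F23892 : act 3 n4932 = n4932 := d25_1 D4932 (iv D4932) F18796
theorem F23893 : act 9 n4932 = n3961 := d38_2 (iv F18798) D4932 (iv D3961)
def n4933 : Q := act 4 n3923
theorem D4933 : act 4 n3923 = n4933 := rfl
theorem F23894 : act 1 n4933 = n3932 := d11_1 D4933 (iv D3932) (iv F18799)
theorem F23895 : act 2 n4933 = n4198 := d18_1 D4933 (iv D4198) (iv F18800)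
theorem F23896 : act 7 n4933 = n4933 := d32_2 F18802 D4933 (iv D4933)
theorem F23897 : act 8 n4933 = n4933 := d33_2 F18803 D4933 (iv D4933)
theorem F23898 : act 9 n4933 = n3962 := d34_2 (iv F18804) D4933 (iv D3962)
def n4934 : Q := act 6 n3923
theorem D4934 : act 6 n3923 = n4934 := rfl
theorem F23899 : act 1 n4934 = n3933 := d13_1 D4934 (iv D3933) (iv F18799)
theorem F23900 : act 2 n4934 = n4199 := d20_1 D4934 (iv D4199) (iv F18800)
theorem F23901 : act 3 n4934 = n4934 := d26_1 D4934 (iv D4934) F18801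
theorem F23902 : act 8 n4934 = n4934 := d40_2 F18803 D4934 (iv D4934)
theorem F23903 : act 9 n4934 = n3963 := d41_2 (iv F18804) D4934 (iv D3963)
def n4935 : Q := act 9 n3924
theorem D4935 : act 9 n3924 = n4935 := rfl
theorem F23904 : act 2 n4935 = n4935 := d23_1 D4935 (iv D4935) F18805
theorem F23905 : act 3 n4935 = n3926 := d29_1 D4935 (iv D3926) D3924
theorem F23906 : act 4 n4935 = n4935 := d34_1 D4935 (iv D4935) F18806
theorem F23907 : act 6 n4935 = n4935 := d41_1 D4935 (iv D4935) F18807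
def n4936 : Q := act 9 n3925
theorem D4936 : act 9 n3925 = n4936 := rfl
theorem F23908 : act 2 n4936 = n3935 := d23_1 D4936 (iv D3935) (iv F18809)
theorem F23909 : act 4 n4936 = n3928 := d34_1 D4936 (iv D3928) (iv F18810)
theorem F23910 : act 7 n4936 = n3926 := d43_1 D4936 (iv D3926) D3925
def n4937 : Q := act 8 n3926
theorem D4937 : act 8 n3926 = n4937 := rfl
theorem F23911 : act 2 n4937 = n3936 := d22_1 D4937 (iv D3936) (iv F18812)
theorem F23912 : act 4 n4937 = n3929 := d33_1 D4937 (iv D3929) (iv F18813)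
theorem F23913 : act 6 n4937 = n4937 := d40_1 D4937 (iv D4937) F18814
theorem F23914 : act 9 n4937 = n4937 := d44_2 D3926 D4937 (iv D4937) (iv D3926) F13387
def n4938 : Q := act 9 n3927
theorem D4938 : act 9 n3927 = n4938 := rfl
theorem F23915 : act 2 n4938 = n3937 := d23_1 D4938 (iv D3937) (iv F18815)
theorem F23916 : act 3 n4938 = n4938 := d29_1 D4938 (iv D4938) F18816
theorem F23917 : act 5 n4938 = n4938 := d38_1 D4938 (iv D4938) F18817
theorem F23918 : act 6 n4938 = n3928 := d41_1 D4938 (iv D3928) D3927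
theorem F23919 : act 7 n4938 = n4938 := d43_1 D4938 (iv D4938) F18818
def n4939 : Q := act 8 n3928
theorem D4939 : act 8 n3928 = n4939 := rfl
theorem F23920 : act 2 n4939 = n3938 := d22_1 D4939 (iv D3938) (iv F18820)
theorem F23921 : act 3 n4939 = n4939 := d28_1 D4939 (iv D4939) F18821
theorem F23922 : act 7 n4939 = n3929 := d42_1 D4939 (iv D3929) (iv F18823)
theorem F23923 : act 9 n4939 = n4939 := d44_2 D3928 D4939 (iv D4939) (iv D3928) F13391
def n4940 : Q := act 5 n3929
theorem D4940 : act 5 n3929 = n4940 := rfl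
theorem F23924 : act 2 n4940 = n3939 := d19_1 D4940 (iv D3939) (iv F18824)
theorem F23925 : act 3 n4940 = n4940 := d25_1 D4940 (iv D4940) F18825
theorem F23926 : act 8 n4940 = n3931 := d37_2 D3929 D4940 (iv D3931) (iv D2748) (iv F13394)
theorem F23927 : act 9 n4940 = n4940 := d38_2 F18827 D4940 (iv D4940)
def n4941 : Q := act 5 n3930
theorem D4941 : act 5 n3930 = n4941 := rfl
theorem F23928 : act 2 n4941 = n3940 := d19_1 D4941 (iv D3940) (iv F18828)
theorem F23929 : act 3 n4941 = n4941 := d25_1 D4941 (iv D4941) F18829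
theorem F23930 : act 7 n4941 = n3931 := d36_2 (iv F18831) D4941 (iv D3931)
theorem F23931 : act 9 n4941 = n3964 := d38_2 (iv F18832) D4941 (iv D3964)
def n4942 : Q := act 4 n3931
theorem D4942 : act 4 n3931 = n4942 := rfl
theorem F23932 : act 2 n4942 = n3941 := d18_1 D4942 (iv D3941) (iv F18833)
theorem F23933 : act 9 n4942 = n3965 := d34_2 (iv F18835) D4942 (iv D3965)
def n4943 : Q := act 6 n3931
theorem D4943 : act 6 n3931 = n4943 := rfl
theorem F23934 : act 2 n4943 = n3942 := d20_1 D4943 (iv D3942) (iv F18833)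
theorem F23935 : act 3 n4943 = n4943 := d26_1 D4943 (iv D4943) F18834
theorem F23936 : act 5 n4943 = n3933 := d35_1 D4943 (iv D3933) (iv D2749) (iv F13402) D3931
theorem F23937 : act 9 n4943 = n3966 := d41_2 (iv F18835) D4943 (iv D3966)
def n4944 : Q := act 3 n3932
theorem D4944 : act 3 n3932 = n4944 := rfl
theorem F23938 : act 2 n4944 = n4944 := d17_1 D4944 (iv D4944) F18836 F13439 (iv F18836)
theorem F23939 : act 4 n4944 = n4944 := d24_2 D3932 D4944 (iv D4944) (iv D3932) F13405
theorem F23940 : act 7 n4944 = n4944 := d27_2 F18837 D4944 (iv D4944)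
theorem F23941 : act 8 n4944 = n4944 := d28_2 F18838 D4944 (iv D4944)
theorem F23942 : act 9 n4944 = n3967 := d29_2 (iv F18839) D4944 (iv D3967)
def n4945 : Q := act 6 n3932
theorem D4945 : act 6 n3932 = n4945 := rfl
theorem F23943 : act 2 n4945 = n3943 := d20_1 D4945 (iv D3943) (iv F18836)
theorem F23944 : act 4 n4945 = n3933 := d31_1 D4945 (iv D3933) D3932
theorem F23945 : act 8 n4945 = n4945 := d40_2 F18838 D4945 (iv D4945)
theorem F23946 : act 9 n4945 = n3968 := d41_2 (iv F18839) D4945 (iv D3968)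
def n4946 : Q := act 7 n3933
theorem D4946 : act 7 n3933 = n4946 := rfl
theorem F23947 : act 2 n4946 = n3944 := d21_1 D4946 (iv D3944) (iv F18840)
theorem F23948 : act 3 n4946 = n4946 := d27_1 D4946 (iv D4946) F18841
theorem F23949 : act 6 n4946 = n4946 := d39_1 D4946 (iv D4946) (iv D3933) F13406 D3933
theorem F23950 : act 8 n4946 = n4946 := d42_2 F18842 D4946 (iv D4946)
theorem F23951 : act 9 n4946 = n3969 := d43_2 (iv F18843) D4946 (iv D3969)
def n4947 : Q := act 9 n3934
theorem D4947 : act 9 n3934 = n4947 := rfl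
theorem F23952 : act 1 n4947 = n4212 := d16_1 D4947 (iv D4212) (iv F18844)
theorem F23953 : act 3 n4947 = n4947 := d29_1 D4947 (iv D4947) F18845
theorem F23954 : act 4 n4947 = n3937 := d34_1 D4947 (iv D3937) (iv F18846)
theorem F23955 : act 6 n4947 = n3935 := d41_1 D4947 (iv D3935) D3934
theorem F23956 : act 7 n4947 = n4947 := d43_1 D4947 (iv D4947) F18847
def n4948 : Q := act 8 n3935
theorem D4948 : act 8 n3935 = n4948 := rfl
theorem F23957 : act 1 n4948 = n4213 := d15_1 D4948 (iv D4213) (iv F18849)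
theorem F23958 : act 3 n4948 = n4948 := d28_1 D4948 (iv D4948) F18850
theorem F23959 : act 4 n4948 = n3938 := d33_1 D4948 (iv D3938) (iv F18851)
theorem F23960 : act 7 n4948 = n3936 := d42_1 D4948 (iv D3936) (iv F18852)
theorem F23961 : act 9 n4948 = n4948 := d44_2 D3935 D4948 (iv D4948) (iv D3935) F13412
def n4949 : Q := act 5 n3936
theorem D4949 : act 5 n3936 = n4949 := rfl
theorem F23962 : act 1 n4949 = n4214 := d12_1 D4949 (iv D4214) (iv F18853)
theorem F23963 : act 3 n4949 = n4949 := d25_1 D4949 (iv D4949) F18854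
theorem F23964 : act 9 n4949 = n4949 := d38_2 F18857 D4949 (iv D4949)
def n4950 : Q := act 8 n3937
theorem D4950 : act 8 n3937 = n4950 := rfl
theorem F23965 : act 1 n4950 = n4215 := d15_1 D4950 (iv D4215) (iv F18858)
theorem F23966 : act 3 n4950 = n3945 := d28_1 D4950 (iv D3945) (iv F18859)
theorem F23967 : act 6 n4950 = n3938 := d40_1 D4950 (iv D3938) (iv F18861)
theorem F23968 : act 7 n4950 = n4950 := d42_1 D4950 (iv D4950) F18862
theorem F23969 : act 9 n4950 = n4950 := d44_2 D3937 D4950 (iv D4950) (iv D3937) F13421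
def n4951 : Q := act 5 n3938
theorem D4951 : act 5 n3938 = n4951 := rfl
theorem F23970 : act 1 n4951 = n4216 := d12_1 D4951 (iv D4216) (iv F18863)
theorem F23971 : act 3 n4951 = n3946 := d25_1 D4951 (iv D3946) (iv F18864)
theorem F23972 : act 7 n4951 = n3939 := d36_2 (iv F18865) D4951 (iv D3939)
theorem F23973 : act 8 n4951 = n3940 := d37_2 D3938 D4951 (iv D3940) (iv D2755) (iv F13424)
theorem F23974 : act 9 n4951 = n4951 := d38_2 F18866 D4951 (iv D4951)
def n4952 : Q := act 4 n3939
theorem D4952 : act 4 n3939 = n4952 := rfl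
theorem F23975 : act 1 n4952 = n4217 := d11_1 D4952 (iv D4217) (iv F18867)
theorem F23976 : act 8 n4952 = n3941 := d33_2 (iv F18869) D4952 (iv D3941)
theorem F23977 : act 9 n4952 = n4952 := d34_2 F18870 D4952 (iv D4952)
def n4953 : Q := act 6 n3939
theorem D4953 : act 6 n3939 = n4953 := rfl
theorem F23978 : act 1 n4953 = n4218 := d13_1 D4953 (iv D4218) (iv F18867)
theorem F23979 : act 3 n4953 = n3948 := d26_1 D4953 (iv D3948) (iv F18868)
theorem F23980 : act 5 n4953 = n4953 := d35_1 D4953 (iv D4953) (iv D3939) F13428 D3939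
theorem F23981 : act 8 n4953 = n3942 := d40_2 (iv F18869) D4953 (iv D3942)
theorem F23982 : act 9 n4953 = n4953 := d41_2 F18870 D4953 (iv D4953)
def n4954 : Q := act 4 n3940
theorem D4954 : act 4 n3940 = n4954 := rfl
theorem F23983 : act 1 n4954 = n4219 := d11_1 D4954 (iv D4219) (iv F18871)
theorem F23984 : act 7 n4954 = n3941 := d32_2 (iv F18873) D4954 (iv D3941)
theorem F23985 : act 9 n4954 = n3970 := d34_2 (iv F18874) D4954 (iv D3970)
def n4955 : Q := act 6 n3940
theorem D4955 : act 6 n3940 = n4955 := rfl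
theorem F23986 : act 1 n4955 = n4220 := d13_1 D4955 (iv D4220) (iv F18871)
theorem F23987 : act 3 n4955 = n3950 := d26_1 D4955 (iv D3950) (iv F18872)
theorem F23988 : act 5 n4955 = n4955 := d35_1 D4955 (iv D4955) (iv D3940) F13432 D3940
theorem F23989 : act 9 n4955 = n3971 := d41_2 (iv F18874) D4955 (iv D3971)
def n4956 : Q := act 3 n3941
theorem D4956 : act 3 n3941 = n4956 := rfl
theorem F23990 : act 1 n4956 = n4221 := d10_1 D4956 (iv D4221) (iv F18875)
theorem F23991 : act 4 n4956 = n3951 := d24_2 D3941 D4956 (iv D3951) (iv D2763) (iv F13436)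
theorem F23992 : act 9 n4956 = n3972 := d29_2 (iv F18876) D4956 (iv D3972)
def n4957 : Q := act 6 n3941
theorem D4957 : act 6 n3941 = n4957 := rfl
theorem F23993 : act 1 n4957 = n4222 := d13_1 D4957 (iv D4222) (iv F18875)
theorem F23994 : act 4 n4957 = n3942 := d31_1 D4957 (iv D3942) D3941
theorem F23995 : act 9 n4957 = n3973 := d41_2 (iv F18876) D4957 (iv D3973)
def n4958 : Q := act 7 n3942
theorem D4958 : act 7 n3942 = n4958 := rfl
theorem F23996 : act 1 n4958 = n4223 := d14_1 D4958 (iv D4223) (iv F18877)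
theorem F23997 : act 3 n4958 = n3953 := d27_1 D4958 (iv D3953) (iv F18878)
theorem F23998 : act 5 n4958 = n3944 := d36_1 D4958 (iv D3944) (iv F18879)
theorem F23999 : act 9 n4958 = n3974 := d43_2 (iv F18880) D4958 (iv D3974)
def n4959 : Q := act 5 n3943
theorem D4959 : act 5 n3943 = n4959 := rfl
theorem F24000 : act 1 n4959 = n4224 := d12_1 D4959 (iv D4224) (iv F18881)
theorem F24001 : act 3 n4959 = n4959 := d25_1 D4959 (iv D4959) F18882
theorem F24002 : act 9 n4959 = n3975 := d38_2 (iv F18885) D4959 (iv D3975)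
def n4960 : Q := act 7 n3943
theorem D4960 : act 7 n3943 = n4960 := rfl
theorem F24003 : act 1 n4960 = n4225 := d14_1 D4960 (iv D4225) (iv F18881)
theorem F24004 : act 3 n4960 = n4960 := d27_1 D4960 (iv D4960) F18882
theorem F24005 : act 4 n4960 = n3944 := d32_1 D4960 (iv D3944) (iv F18883)
theorem F24006 : act 6 n4960 = n4960 := d39_1 D4960 (iv D4960) (iv D3943) F13440 D3943
theorem F24007 : act 8 n4960 = n4960 := d42_2 F18884 D4960 (iv D4960)
theorem F24008 : act 9 n4960 = n3976 := d43_2 (iv F18885) D4960 (iv D3976)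
def n4961 : Q := act 5 n3945
theorem D4961 : act 5 n3945 = n4961 := rfl
theorem F24009 : act 1 n4961 = n4226 := d12_1 D4961 (iv D4226) (iv F18891)
theorem F24010 : act 2 n4961 = n4961 := d19_1 D4961 (iv D4961) F18892
theorem F24011 : act 7 n4961 = n4961 := d36_2 F18895 D4961 (iv D4961)
theorem F24012 : act 8 n4961 = n4961 := d37_2 D3945 D4961 (iv D4961) (iv D3945) F13450
theorem F24013 : act 9 n4961 = n4961 := d38_2 F18896 D4961 (iv D4961)
def n4962 : Q := act 4 n3946
theorem D4962 : act 4 n3946 = n4962 := rfl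
theorem F24014 : act 1 n4962 = n4227 := d11_1 D4962 (iv D4227) (iv F18897)
theorem F24015 : act 2 n4962 = n4962 := d18_1 D4962 (iv D4962) F18898
theorem F24016 : act 5 n4962 = n4962 := d30_2 D3946 D4962 (iv D4962) (iv D3946) F13455
theorem F24017 : act 7 n4962 = n3947 := d32_2 (iv F18899) D4962 (iv D3947)
theorem F24018 : act 8 n4962 = n3949 := d33_2 (iv F18900) D4962 (iv D3949)
theorem F24019 : act 9 n4962 = n4962 := d34_2 F18901 D4962 (iv D4962)
def n4963 : Q := act 6 n3946
theorem D4963 : act 6 n3946 = n4963 := rfl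
theorem F24020 : act 1 n4963 = n4228 := d13_1 D4963 (iv D4228) (iv F18897)
theorem F24021 : act 2 n4963 = n4963 := d20_1 D4963 (iv D4963) F18898
theorem F24022 : act 8 n4963 = n3950 := d40_2 (iv F18900) D4963 (iv D3950)
theorem F24023 : act 9 n4963 = n4963 := d41_2 F18901 D4963 (iv D4963)
def n4964 : Q := act 3 n3947
theorem D4964 : act 3 n3947 = n4964 := rfl
theorem F24024 : act 1 n4964 = n4229 := d10_1 D4964 (iv D4229) (iv F18902)
theorem F24025 : act 5 n4964 = n4964 := d25_2 F18904 D4964 (iv D4964)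
theorem F24026 : act 8 n4964 = n3951 := d28_2 (iv F18905) D4964 (iv D3951)
theorem F24027 : act 9 n4964 = n4964 := d29_2 F18906 D4964 (iv D4964)
def n4965 : Q := act 6 n3947
theorem D4965 : act 6 n3947 = n4965 := rfl
theorem F24028 : act 1 n4965 = n4230 := d13_1 D4965 (iv D4230) (iv F18902)
theorem F24029 : act 2 n4965 = n4965 := d20_1 D4965 (iv D4965) F18903
theorem F24030 : act 4 n4965 = n3948 := d31_1 D4965 (iv D3948) D3947
theorem F24031 : act 8 n4965 = n3952 := d40_2 (iv F18905) D4965 (iv D3952)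
theorem F24032 : act 9 n4965 = n4965 := d41_2 F18906 D4965 (iv D4965)
def n4966 : Q := act 7 n3948
theorem D4966 : act 7 n3948 = n4966 := rfl
theorem F24033 : act 1 n4966 = n4231 := d14_1 D4966 (iv D4231) (iv F18907)
theorem F24034 : act 2 n4966 = n4966 := d21_1 D4966 (iv D4966) F18908
theorem F24035 : act 5 n4966 = n4966 := d36_1 D4966 (iv D4966) F18909
theorem F24036 : act 8 n4966 = n3953 := d42_2 (iv F18910) D4966 (iv D3953)
theorem F24037 : act 9 n4966 = n4966 := d43_2 F18911 D4966 (iv D4966)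
def n4967 : Q := act 3 n3949
theorem D4967 : act 3 n3949 = n4967 := rfl
theorem F24038 : act 1 n4967 = n4232 := d10_1 D4967 (iv D4232) (iv F18912)
theorem F24039 : act 5 n4967 = n3954 := d25_2 (iv F18914) D4967 (iv D3954)
theorem F24040 : act 7 n4967 = n3951 := d27_2 (iv F18915) D4967 (iv D3951)
theorem F24041 : act 9 n4967 = n3977 := d29_2 (iv F18916) D4967 (iv D3977)
def n4968 : Q := act 6 n3949
theorem D4968 : act 6 n3949 = n4968 := rfl
theorem F24044 : act 4 n4968 = n3950 := d31_1 D4968 (iv D3950) D3949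
def n4969 : Q := act 7 n3950
theorem D4969 : act 7 n3950 = n4969 := rfl
theorem F24046 : act 1 n4969 = n4234 := d14_1 D4969 (iv D4234) (iv F18917)
theorem F24047 : act 2 n4969 = n4969 := d21_1 D4969 (iv D4969) F18918
theorem F24048 : act 5 n4969 = n4969 := d36_1 D4969 (iv D4969) F18919
theorem F24049 : act 6 n4969 = n3953 := d39_1 D4969 (iv D3953) (iv D2764) (iv F13464) D3950
theorem F24050 : act 9 n4969 = n3979 := d43_2 (iv F18920) D4969 (iv D3979)
def n4970 : Q := act 2 n3951
theorem D4970 : act 2 n3951 = n4970 := rfl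
theorem F24051 : act 3 n4970 = n4970 := d17_2 D3951 D4970 (iv D4970) (iv D3951) F13467
theorem F24052 : act 5 n4970 = n3956 := d19_2 (iv F18922) D4970 (iv D3956)
theorem F24053 : act 9 n4970 = n3980 := d23_2 (iv F18923) D4970 (iv D3980)
def n4971 : Q := act 6 n3951
theorem D4971 : act 6 n3951 = n4971 := rfl
theorem F24054 : act 1 n4971 = n4236 := d13_1 D4971 (iv D4236) (iv F18921)
theorem F24055 : act 3 n4971 = n3952 := d26_1 D4971 (iv D3952) D3951
theorem F24056 : act 5 n4971 = n4971 := d35_1 D4971 (iv D4971) F18922 F13492 (iv F18922)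
theorem F24057 : act 9 n4971 = n3981 := d41_2 (iv F18923) D4971 (iv D3981)
def n4972 : Q := act 7 n3952
theorem D4972 : act 7 n3952 = n4972 := rfl
theorem F24058 : act 1 n4972 = n4237 := d14_1 D4972 (iv D4237) (iv F18924)
theorem F24059 : act 2 n4972 = n4972 := d21_1 D4972 (iv D4972) F18925
theorem F24060 : act 4 n4972 = n3953 := d32_1 D4972 (iv D3953) (iv F18926)
theorem F24061 : act 5 n4972 = n4972 := d36_1 D4972 (iv D4972) F18927
theorem F24062 : act 9 n4972 = n3982 := d43_2 (iv F18928) D4972 (iv D3982)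
def n4973 : Q := act 2 n3954
theorem D4973 : act 2 n3954 = n4973 := rfl
theorem F24064 : act 7 n4973 = n3956 := d21_2 (iv F18934) D4973 (iv D3956)
def n4974 : Q := act 6 n3954
theorem D4974 : act 6 n3954 = n4974 := rfl
theorem F24067 : act 1 n4974 = n4239 := d13_1 D4974 (iv D4239) (iv F18933)
def n4975 : Q := act 5 n3955
theorem D4975 : act 5 n3955 = n4975 := rfl
theorem F24072 : act 1 n4975 = n4240 := d12_1 D4975 (iv D4240) (iv F18937)
def n4976 : Q := act 1 n3956
theorem D4976 : act 1 n3956 = n4976 := rfl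
def n4977 : Q := act 8 n3957
theorem D4977 : act 8 n3957 = n4977 := rfl
theorem F24082 : act 0 n4977 = n3960 := d7_1 D4977 (iv D3960) (iv F18947)
theorem F24083 : act 2 n4977 = n4242 := d22_1 D4977 (iv D4242) (iv F18948)
theorem F24084 : act 3 n4977 = n4977 := d28_1 D4977 (iv D4977) F18949
theorem F24085 : act 6 n4977 = n4977 := d40_1 D4977 (iv D4977) F18951
theorem F24086 : act 7 n4977 = n3958 := d42_1 D4977 (iv D3958) (iv F18952)
def n4978 : Q := act 5 n3958
theorem D4978 : act 5 n3958 = n4978 := rfl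
theorem F24087 : act 0 n4978 = n3961 := d4_1 D4978 (iv D3961) (iv F18953)
theorem F24088 : act 2 n4978 = n4243 := d19_1 D4978 (iv D4243) (iv F18954)
theorem F24089 : act 3 n4978 = n4978 := d25_1 D4978 (iv D4978) F18955
theorem F24090 : act 8 n4978 = n4978 := d37_2 D3958 D4978 (iv D4978) (iv D3958) F13503
def n4979 : Q := act 4 n3959
theorem D4979 : act 4 n3959 = n4979 := rfl
theorem F24091 : act 0 n4979 = n3962 := d3_1 D4979 (iv D3962) (iv F18957)
theorem F24092 : act 2 n4979 = n4244 := d18_1 D4979 (iv D4244) (iv F18958)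
theorem F24093 : act 7 n4979 = n4979 := d32_2 F18960 D4979 (iv D4979)
theorem F24094 : act 8 n4979 = n3998 := d33_2 (iv F18961) D4979 (iv D3998)
def n4980 : Q := act 6 n3959
theorem D4980 : act 6 n3959 = n4980 := rfl
theorem F24095 : act 0 n4980 = n3963 := d5_1 D4980 (iv D3963) (iv F18957)
theorem F24096 : act 2 n4980 = n4245 := d20_1 D4980 (iv D4245) (iv F18958)
theorem F24098 : act 8 n4980 = n3999 := d40_2 (iv F18961) D4980 (iv D3999)
def n4981 : Q := act 5 n3960
theorem D4981 : act 5 n3960 = n4981 := rfl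
theorem F24099 : act 1 n4981 = n3964 := d12_1 D4981 (iv D3964) (iv F18962)
theorem F24100 : act 2 n4981 = n4246 := d19_1 D4981 (iv D4246) (iv F18963)
theorem F24101 : act 3 n4981 = n4981 := d25_1 D4981 (iv D4981) F18964
theorem F24102 : act 7 n4981 = n3961 := d36_2 (iv F18966) D4981 (iv D3961)
theorem F24103 : act 8 n4981 = n4981 := d37_2 D3960 D4981 (iv D4981) (iv D3960) F13512
def n4982 : Q := act 4 n3961
theorem D4982 : act 4 n3961 = n4982 := rfl
theorem F24104 : act 1 n4982 = n3965 := d11_1 D4982 (iv D3965) (iv F18967)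
theorem F24105 : act 2 n4982 = n4247 := d18_1 D4982 (iv D4247) (iv F18968)
theorem F24106 : act 8 n4982 = n4982 := d33_2 F18970 D4982 (iv D4982)
def n4983 : Q := act 6 n3961
theorem D4983 : act 6 n3961 = n4983 := rfl
theorem F24107 : act 1 n4983 = n3966 := d13_1 D4983 (iv D3966) (iv F18967)
theorem F24108 : act 2 n4983 = n4248 := d20_1 D4983 (iv D4248) (iv F18968)
theorem F24109 : act 3 n4983 = n4983 := d26_1 D4983 (iv D4983) F18969
theorem F24110 : act 5 n4983 = n3963 := d35_1 D4983 (iv D3963) (iv D2774) (iv F13518) D3961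
theorem F24111 : act 8 n4983 = n4983 := d40_2 F18970 D4983 (iv D4983)
def n4984 : Q := act 3 n3962
theorem D4984 : act 3 n3962 = n4984 := rfl
theorem F24112 : act 1 n4984 = n3967 := d10_1 D4984 (iv D3967) (iv F18971)
theorem F24113 : act 4 n4984 = n4984 := d24_2 D3962 D4984 (iv D4984) (iv D3962) F13521
theorem F24114 : act 7 n4984 = n4984 := d27_2 F18973 D4984 (iv D4984)
theorem F24115 : act 8 n4984 = n4000 := d28_2 (iv F18974) D4984 (iv D4000)
def n4985 : Q := act 6 n3962
theorem D4985 : act 6 n3962 = n4985 := rfl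
theorem F24116 : act 1 n4985 = n3968 := d13_1 D4985 (iv D3968) (iv F18971)
theorem F24117 : act 2 n4985 = n4250 := d20_1 D4985 (iv D4250) (iv F18972)
theorem F24118 : act 4 n4985 = n3963 := d31_1 D4985 (iv D3963) D3962
theorem F24119 : act 8 n4985 = n4001 := d40_2 (iv F18974) D4985 (iv D4001)
def n4986 : Q := act 7 n3963
theorem D4986 : act 7 n3963 = n4986 := rfl
theorem F24120 : act 1 n4986 = n3969 := d14_1 D4986 (iv D3969) (iv F18975)
theorem F24121 : act 2 n4986 = n4251 := d21_1 D4986 (iv D4251) (iv F18976)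
theorem F24124 : act 8 n4986 = n4002 := d42_2 (iv F18978) D4986 (iv D4002)
def n4987 : Q := act 4 n3964
theorem D4987 : act 4 n3964 = n4987 := rfl
theorem F24125 : act 2 n4987 = n3970 := d18_1 D4987 (iv D3970) (iv F18979)
theorem F24126 : act 7 n4987 = n3965 := d32_2 (iv F18981) D4987 (iv D3965)
theorem F24127 : act 8 n4987 = n4987 := d33_2 F18982 D4987 (iv D4987)
def n4988 : Q := act 6 n3964
theorem D4988 : act 6 n3964 = n4988 := rfl
theorem F24128 : act 2 n4988 = n3971 := d20_1 D4988 (iv D3971) (iv F18979)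
theorem F24129 : act 3 n4988 = n4988 := d26_1 D4988 (iv D4988) F18980
theorem F24130 : act 5 n4988 = n4988 := d35_1 D4988 (iv D4988) (iv D3964) F13526 D3964
theorem F24131 : act 8 n4988 = n4988 := d40_2 F18982 D4988 (iv D4988)
def n4989 : Q := act 3 n3965
theorem D4989 : act 3 n3965 = n4989 := rfl
theorem F24132 : act 4 n4989 = n4989 := d24_2 D3965 D4989 (iv D4989) (iv D3965) F13529
theorem F24133 : act 8 n4989 = n4989 := d28_2 F18984 D4989 (iv D4989)
def n4990 : Q := act 6 n3965
theorem D4990 : act 6 n3965 = n4990 := rfl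
theorem F24134 : act 2 n4990 = n3973 := d20_1 D4990 (iv D3973) (iv F18983)
theorem F24135 : act 4 n4990 = n3966 := d31_1 D4990 (iv D3966) D3965
theorem F24136 : act 8 n4990 = n4990 := d40_2 F18984 D4990 (iv D4990)
def n4991 : Q := act 7 n3966
theorem D4991 : act 7 n3966 = n4991 := rfl
theorem F24137 : act 2 n4991 = n3974 := d21_1 D4991 (iv D3974) (iv F18985)
theorem F24138 : act 3 n4991 = n4991 := d27_1 D4991 (iv D4991) F18986
theorem F24139 : act 5 n4991 = n3969 := d36_1 D4991 (iv D3969) (iv F18987)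
theorem F24140 : act 8 n4991 = n4991 := d42_2 F18988 D4991 (iv D4991)
def n4992 : Q := act 6 n3967
theorem D4992 : act 6 n3967 = n4992 := rfl
theorem F24141 : act 2 n4992 = n4992 := d20_1 D4992 (iv D4992) F18989
theorem F24142 : act 3 n4992 = n3968 := d26_1 D4992 (iv D3968) D3967
theorem F24143 : act 4 n4992 = n4992 := d31_1 D4992 (iv D4992) F18990
theorem F24144 : act 8 n4992 = n4003 := d40_2 (iv F18992) D4992 (iv D4003)
def n4993 : Q := act 5 n3968
theorem D4993 : act 5 n3968 = n4993 := rfl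
theorem F24145 : act 2 n4993 = n3975 := d19_1 D4993 (iv D3975) (iv F18993)
def n4994 : Q := act 7 n3968
theorem D4994 : act 7 n3968 = n4994 := rfl
theorem F24147 : act 4 n4994 = n3969 := d32_1 D4994 (iv D3969) (iv F18994)
theorem F24149 : act 8 n4994 = n4005 := d42_2 (iv F18995) D4994 (iv D4005)
def n4995 : Q := act 3 n3970
theorem D4995 : act 3 n3970 = n4995 := rfl
theorem F24150 : act 1 n4995 = n4260 := d10_1 D4995 (iv D4260) (iv F19000)
theorem F24151 : act 4 n4995 = n3977 := d24_2 D3970 D4995 (iv D3977) (iv D2784) (iv F13538)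
theorem F24152 : act 7 n4995 = n3972 := d27_2 (iv F19001) D4995 (iv D3972)
theorem F24153 : act 8 n4995 = n4995 := d28_2 F19002 D4995 (iv D4995)
def n4996 : Q := act 6 n3970
theorem D4996 : act 6 n3970 = n4996 := rfl
theorem F24154 : act 1 n4996 = n4261 := d13_1 D4996 (iv D4261) (iv F19000)
theorem F24155 : act 4 n4996 = n3971 := d31_1 D4996 (iv D3971) D3970
theorem F24156 : act 8 n4996 = n4996 := d40_2 F19002 D4996 (iv D4996)
def n4997 : Q := act 7 n3971
theorem D4997 : act 7 n3971 = n4997 := rfl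
theorem F24157 : act 1 n4997 = n4262 := d14_1 D4997 (iv D4262) (iv F19003)
theorem F24158 : act 3 n4997 = n3979 := d27_1 D4997 (iv D3979) (iv F19004)
theorem F24159 : act 5 n4997 = n4997 := d36_1 D4997 (iv D4997) F19005
theorem F24160 : act 6 n4997 = n3974 := d39_1 D4997 (iv D3974) (iv D2781) (iv F13539) D3971
theorem F24161 : act 8 n4997 = n4997 := d42_2 F19006 D4997 (iv D4997)
def n4998 : Q := act 2 n3972
theorem D4998 : act 2 n3972 = n4998 := rfl
theorem F24162 : act 4 n4998 = n3980 := d18_2 (iv F19008) D4998 (iv D3980)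
theorem F24163 : act 8 n4998 = n4998 := d22_2 F19009 D4998 (iv D4998)
def n4999 : Q := act 6 n3972
theorem D4999 : act 6 n3972 = n4999 := rfl
theorem F24164 : act 1 n4999 = n4264 := d13_1 D4999 (iv D4264) (iv F19007)
theorem F24165 : act 3 n4999 = n3973 := d26_1 D4999 (iv D3973) D3972
theorem F24166 : act 4 n4999 = n3981 := d31_1 D4999 (iv D3981) (iv F19008)
theorem F24167 : act 8 n4999 = n4999 := d40_2 F19009 D4999 (iv D4999)
def n5000 : Q := act 5 n3973
theorem D5000 : act 5 n3973 = n5000 := rfl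
theorem F24168 : act 1 n5000 = n4265 := d12_1 D5000 (iv D4265) (iv F19010)
theorem F24169 : act 4 n5000 = n3975 := d30_1 D5000 (iv D3975) F13549 (iv F13545) (iv F19011)
def n5001 : Q := act 7 n3973
theorem D5001 : act 7 n3973 = n5001 := rfl
theorem F24170 : act 1 n5001 = n4266 := d14_1 D5001 (iv D4266) (iv F19010)
theorem F24171 : act 4 n5001 = n3974 := d32_1 D5001 (iv D3974) (iv F19011)
theorem F24172 : act 8 n5001 = n5001 := d42_2 F19012 D5001 (iv D5001)
def n5002 : Q := act 7 n3975
theorem D5002 : act 7 n3975 = n5002 := rfl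
theorem F24173 : act 1 n5002 = n4267 := d14_1 D5002 (iv D4267) (iv F19017)
theorem F24174 : act 3 n5002 = n5002 := d27_1 D5002 (iv D5002) F19018
theorem F24175 : act 5 n5002 = n3976 := d36_1 D5002 (iv D3976) D3975
def n5003 : Q := act 8 n3975
theorem D5003 : act 8 n3975 = n5003 := rfl
theorem F24176 : act 1 n5003 = n4268 := d15_1 D5003 (iv D4268) (iv F19017)
theorem F24177 : act 3 n5003 = n5003 := d28_1 D5003 (iv D5003) F19018
theorem F24178 : act 5 n5003 = n4007 := d37_1 D5003 (iv D4007) (iv D2807) (iv F13550) D3975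
def n5004 : Q := act 2 n3977
theorem D5004 : act 2 n3977 = n5004 := rfl
theorem F24180 : act 5 n5004 = n3983 := d19_2 (iv F19025) D5004 (iv D3983)
theorem F24181 : act 7 n5004 = n3980 := d21_2 (iv F19026) D5004 (iv D3980)
def n5005 : Q := act 6 n3977
theorem D5005 : act 6 n3977 = n5005 := rfl
theorem F24183 : act 1 n5005 = n4270 := d13_1 D5005 (iv D4270) (iv F19024)
def n5006 : Q := act 5 n3978
theorem D5006 : act 5 n3978 = n5006 := rfl
theorem F24189 : act 6 n5006 = n3985 := d35_2 D3978 D5006 (iv D3985) (iv D2790) (iv F13557)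
def n5008 : Q := act 1 n3980
theorem D5008 : act 1 n3980 = n5008 := rfl
def n5009 : Q := act 6 n3980
theorem D5009 : act 6 n3980 = n5009 := rfl
theorem F24199 : act 2 n5009 = n3981 := d20_1 D5009 (iv D3981) D3980
theorem F24200 : act 3 n5009 = n5009 := d26_1 D5009 (iv D5009) F19037
theorem F24201 : act 5 n5009 = n5009 := d35_1 D5009 (iv D5009) F19038 F13585 (iv F19038)
theorem F24202 : act 8 n5009 = n5009 := d40_2 F19039 D5009 (iv D5009)
def n5010 : Q := act 7 n3981
theorem D5010 : act 7 n3981 = n5010 := rfl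
theorem F24204 : act 3 n5010 = n3982 := d27_1 D5010 (iv D3982) (iv F19041)
theorem F24205 : act 5 n5010 = n5010 := d36_1 D5010 (iv D5010) F19042
theorem F24206 : act 8 n5010 = n5010 := d42_2 F19043 D5010 (iv D5010)
def n5011 : Q := act 1 n3983
theorem D5011 : act 1 n3983 = n5011 := rfl
theorem F24207 : act 2 n5011 = n4276 := d9_2 D3983 D5011 (iv D4276) (iv D3038) (iv F13576)
theorem F24209 : act 7 n5011 = n3986 := d14_2 (iv F19050) D5011 (iv D3986)
def n5012 : Q := act 6 n3983
theorem D5012 : act 6 n3983 = n5012 := rfl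
def n5013 : Q := act 5 n3984
theorem D5013 : act 5 n3984 = n5013 := rfl
theorem F24215 : act 1 n5013 = n4278 := d12_1 D5013 (iv D4278) (iv F19052)
def n5014 : Q := act 8 n3985
theorem D5014 : act 8 n3985 = n5014 := rfl
theorem F24218 : act 1 n5014 = n4279 := d15_1 D5014 (iv D4279) (iv F19056)
def n5016 : Q := act 0 n3987
theorem D5016 : act 0 n3987 = n5016 := rfl
theorem F24227 : act 2 n5016 = n4281 := d1_2 (iv F19064) D5016 (iv D4281)
def n5017 : Q := act 6 n3987
theorem D5017 : act 6 n3987 = n5017 := rfl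
theorem F24232 : act 1 n5017 = n3988 := d13_1 D5017 (iv D3988) D3987
theorem F24233 : act 2 n5017 = n4282 := d20_1 D5017 (iv D4282) (iv F19064)
def n5018 : Q := act 5 n3988
theorem D5018 : act 5 n3988 = n5018 := rfl
def n5019 : Q := act 8 n3989
theorem D5019 : act 8 n3989 = n5019 := rfl
theorem F24243 : act 1 n5019 = n4284 := d15_1 D5019 (iv D4284) (iv F19073)
def n5020 : Q := act 9 n3990
theorem D5020 : act 9 n3990 = n5020 := rfl
theorem F24248 : act 1 n5020 = n4285 := d16_1 D5020 (iv D4285) (iv F19078)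
def n5021 : Q := act 3 n3998
theorem D5021 : act 3 n3998 = n5021 := rfl
theorem F24254 : act 0 n5021 = n4000 := d2_1 D5021 (iv D4000) (iv F19120)
def n5022 : Q := act 6 n3998
theorem D5022 : act 6 n3998 = n5022 := rfl
theorem F24259 : act 0 n5022 = n4001 := d5_1 D5022 (iv D4001) (iv F19120)
theorem F24260 : act 2 n5022 = n4287 := d20_1 D5022 (iv D4287) (iv F19121)
def n5023 : Q := act 7 n3999
theorem D5023 : act 7 n3999 = n5023 := rfl
theorem F24264 : act 2 n5023 = n4288 := d21_1 D5023 (iv D4288) (iv F19126)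
def n5024 : Q := act 2 n4000
theorem D5024 : act 2 n4000 = n5024 := rfl
theorem F24270 : act 3 n5024 = n4289 := d17_2 D4000 D5024 (iv D4289) (iv D3055) (iv F13639)
def n5025 : Q := act 6 n4000
theorem D5025 : act 6 n4000 = n5025 := rfl
theorem F24275 : act 1 n5025 = n4003 := d13_1 D5025 (iv D4003) (iv F19130)
theorem F24276 : act 3 n5025 = n4001 := d26_1 D5025 (iv D4001) D4000
def n5026 : Q := act 5 n4001
theorem D5026 : act 5 n4001 = n5026 := rfl
theorem F24279 : act 1 n5026 = n4004 := d12_1 D5026 (iv D4004) (iv F19135)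
theorem F24280 : act 2 n5026 = n4291 := d19_1 D5026 (iv D4291) (iv F19136)
def n5027 : Q := act 7 n4001
theorem D5027 : act 7 n4001 = n5027 := rfl
theorem F24284 : act 1 n5027 = n4005 := d14_1 D5027 (iv D4005) (iv F19135)
theorem F24285 : act 2 n5027 = n4292 := d21_1 D5027 (iv D4292) (iv F19136)
def n5028 : Q := act 5 n4003
theorem D5028 : act 5 n4003 = n5028 := rfl
theorem F24290 : act 3 n5028 = n4004 := d25_1 D5028 (iv D4004) (iv F19146)
def n5029 : Q := act 7 n4003
theorem D5029 : act 7 n4003 = n5029 := rfl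
def n5030 : Q := act 7 n4004
theorem D5030 : act 7 n4004 = n5030 := rfl
theorem F24298 : act 2 n5030 = n4006 := d21_1 D5030 (iv D4006) (iv F19149)
theorem F24300 : act 5 n5030 = n4005 := d36_1 D5030 (iv D4005) D4004
def n5031 : Q := act 8 n4004
theorem D5031 : act 8 n4004 = n5031 := rfl
theorem F24302 : act 2 n5031 = n4007 := d22_1 D5031 (iv D4007) (iv F19149)
theorem F24303 : act 4 n5031 = n5031 := d33_1 D5031 (iv D5031) F19150
theorem F24304 : act 6 n5031 = n5031 := d40_1 D5031 (iv D5031) F19151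
def n5032 : Q := act 6 n4006
theorem D5032 : act 6 n4006 = n5032 := rfl
theorem F24305 : act 1 n5032 = n4297 := d13_1 D5032 (iv D4297) (iv F19157)
theorem F24306 : act 3 n5032 = n5032 := d26_1 D5032 (iv D5032) F19158
theorem F24307 : act 4 n5032 = n5032 := d31_1 D5032 (iv D5032) F19159
theorem F24308 : act 5 n5032 = n5032 := d35_1 D5032 (iv D5032) F19160 F13669 (iv F19160)
theorem F24309 : act 7 n5032 = n5032 := d39_2 D4006 D5032 (iv D5032) (iv D4006) F13664
theorem F24310 : act 9 n5032 = n5032 := d41_2 F19161 D5032 (iv D5032)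
def n5033 : Q := act 8 n4006
theorem D5033 : act 8 n4006 = n5033 := rfl
theorem F24311 : act 1 n5033 = n4298 := d15_1 D5033 (iv D4298) (iv F19157)
theorem F24312 : act 3 n5033 = n5033 := d28_1 D5033 (iv D5033) F19158
theorem F24313 : act 4 n5033 = n5033 := d33_1 D5033 (iv D5033) F19159
theorem F24314 : act 7 n5033 = n4007 := d42_1 D5033 (iv D4007) D4006
def n5034 : Q := act 9 n4007
theorem D5034 : act 9 n4007 = n5034 := rfl
theorem F24315 : act 1 n5034 = n4299 := d16_1 D5034 (iv D4299) (iv F19162)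
theorem F24316 : act 3 n5034 = n5034 := d29_1 D5034 (iv D5034) F19163
theorem F24317 : act 4 n5034 = n5034 := d34_1 D5034 (iv D5034) F19164
theorem F24318 : act 6 n5034 = n5034 := d41_1 D5034 (iv D5034) F19165
theorem F24319 : act 8 n5034 = n5034 := d44_1 D5034 (iv D5034) (iv D4007) F13665 D4007
def n5035 : Q := act 5 n4008
theorem D5035 : act 5 n4008 = n5035 := rfl
theorem F24320 : act 0 n5035 = n4010 := d4_1 D5035 (iv D4010) (iv F19166)
theorem F24321 : act 1 n5035 = n5035 := d12_1 D5035 (iv D5035) F19167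
theorem F24322 : act 3 n5035 = n5035 := d25_1 D5035 (iv D5035) F19168
theorem F24323 : act 6 n5035 = n4043 := d35_2 D4008 D5035 (iv D4043) (iv D2833) (iv F13674)
def n5036 : Q := act 7 n4008
theorem D5036 : act 7 n4008 = n5036 := rfl
theorem F24324 : act 0 n5036 = n4011 := d6_1 D5036 (iv D4011) (iv F19166)
theorem F24325 : act 1 n5036 = n5036 := d14_1 D5036 (iv D5036) F19167
theorem F24326 : act 3 n5036 = n5036 := d27_1 D5036 (iv D5036) F19168
theorem F24327 : act 4 n5036 = n5036 := d32_1 D5036 (iv D5036) F19169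
theorem F24328 : act 6 n5036 = n5036 := d39_1 D5036 (iv D5036) (iv D4008) F13675 D4008
theorem F24329 : act 8 n5036 = n5036 := d42_2 F19170 D5036 (iv D5036)
def n5037 : Q := act 9 n4008
theorem D5037 : act 9 n4008 = n5037 := rfl
theorem F24330 : act 0 n5037 = n4012 := d8_1 D5037 (iv D4012) (iv F19166)
theorem F24331 : act 1 n5037 = n5037 := d16_1 D5037 (iv D5037) F19167
theorem F24332 : act 3 n5037 = n5037 := d29_1 D5037 (iv D5037) F19168
theorem F24333 : act 4 n5037 = n5037 := d34_1 D5037 (iv D5037) F19169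
theorem F24334 : act 6 n5037 = n4009 := d41_1 D5037 (iv D4009) D4008
def n5038 : Q := act 8 n4009
theorem D5038 : act 8 n4009 = n5038 := rfl
theorem F24335 : act 0 n5038 = n4013 := d7_1 D5038 (iv D4013) (iv F19171)
theorem F24336 : act 1 n5038 = n5038 := d15_1 D5038 (iv D5038) F19172
theorem F24337 : act 3 n5038 = n5038 := d28_1 D5038 (iv D5038) F19173
theorem F24338 : act 4 n5038 = n5038 := d33_1 D5038 (iv D5038) F19174
theorem F24339 : act 7 n5038 = n5038 := d42_1 D5038 (iv D5038) F19176
theorem F24340 : act 9 n5038 = n5038 := d44_2 D4009 D5038 (iv D5038) (iv D4009) F13676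
def n5039 : Q := act 9 n4010
theorem D5039 : act 9 n4010 = n5039 := rfl
theorem F24341 : act 1 n5039 = n4017 := d16_1 D5039 (iv D4017) (iv F19177)
theorem F24342 : act 3 n5039 = n5039 := d29_1 D5039 (iv D5039) F19178
theorem F24343 : act 5 n5039 = n4012 := d38_1 D5039 (iv D4012) D4010
theorem F24344 : act 6 n5039 = n4050 := d41_1 D5039 (iv D4050) (iv F19179)
def n5040 : Q := act 9 n4011
theorem D5040 : act 9 n4011 = n5040 := rfl
theorem F24345 : act 1 n5040 = n4018 := d16_1 D5040 (iv D4018) (iv F19180)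
theorem F24346 : act 3 n5040 = n5040 := d29_1 D5040 (iv D5040) F19181
theorem F24347 : act 4 n5040 = n5040 := d34_1 D5040 (iv D5040) F19182
theorem F24348 : act 6 n5040 = n5040 := d41_1 D5040 (iv D5040) F19183
theorem F24349 : act 7 n5040 = n4012 := d43_1 D5040 (iv D4012) D4011
def n5041 : Q := act 8 n4012
theorem D5041 : act 8 n4012 = n5041 := rfl
theorem F24350 : act 1 n5041 = n4019 := d15_1 D5041 (iv D4019) (iv F19185)
theorem F24351 : act 3 n5041 = n5041 := d28_1 D5041 (iv D5041) F19186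
theorem F24352 : act 4 n5041 = n5041 := d33_1 D5041 (iv D5041) F19187
theorem F24353 : act 6 n5041 = n4013 := d40_1 D5041 (iv D4013) (iv F19188)
theorem F24354 : act 9 n5041 = n5041 := d44_2 D4012 D5041 (iv D5041) (iv D4012) F13680
def n5042 : Q := act 5 n4013
theorem D5042 : act 5 n4013 = n5042 := rfl
theorem F24355 : act 1 n5042 = n4020 := d12_1 D5042 (iv D4020) (iv F19189)
theorem F24356 : act 3 n5042 = n5042 := d25_1 D5042 (iv D5042) F19190
theorem F24357 : act 7 n5042 = n5042 := d36_2 F19192 D5042 (iv D5042)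
theorem F24358 : act 8 n5042 = n4053 := d37_2 D4013 D5042 (iv D4053) (iv D2838) (iv F13684)
theorem F24359 : act 9 n5042 = n5042 := d38_2 F19193 D5042 (iv D5042)
def n5043 : Q := act 9 n4014
theorem D5043 : act 9 n4014 = n5043 := rfl
theorem F24360 : act 0 n5043 = n5043 := d8_1 D5043 (iv D5043) F19194
theorem F24361 : act 2 n5043 = n4021 := d23_1 D5043 (iv D4021) (iv F19195)
theorem F24362 : act 3 n5043 = n4032 := d29_1 D5043 (iv D4032) F19198
theorem F24363 : act 4 n5043 = n4017 := d34_1 D5043 (iv D4017) D4014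
theorem F24364 : act 5 n5043 = n5043 := d38_1 D5043 (iv D5043) F19196
theorem F24365 : act 6 n5043 = n4055 := d41_1 D5043 (iv D4055) (iv F19197)
theorem F24366 : act 7 n5043 = n4024 := d43_1 D5043 (iv D4024) (iv F19199)
def n5044 : Q := act 9 n4015
theorem D5044 : act 9 n4015 = n5044 := rfl
theorem F24367 : act 0 n5044 = n5044 := d8_1 D5044 (iv D5044) F19201
theorem F24368 : act 2 n5044 = n4023 := d23_1 D5044 (iv D4023) (iv F19202)
theorem F24369 : act 3 n5044 = n5044 := d29_1 D5044 (iv D5044) F19203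
theorem F24370 : act 4 n5044 = n4024 := d34_1 D5044 (iv D4024) (iv F19204)
theorem F24371 : act 5 n5044 = n4018 := d38_1 D5044 (iv D4018) (iv F19205)
theorem F24372 : act 6 n5044 = n4066 := d41_1 D5044 (iv D4066) F19206
theorem F24373 : act 7 n5044 = n4017 := d43_1 D5044 (iv D4017) D4015
def n5045 : Q := act 9 n4016
theorem D5045 : act 9 n4016 = n5045 := rfl
theorem F24374 : act 0 n5045 = n5045 := d8_1 D5045 (iv D5045) F19208
theorem F24375 : act 2 n5045 = n4024 := d23_1 D5045 (iv D4024) (iv F19209)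
theorem F24376 : act 3 n5045 = n5045 := d29_1 D5045 (iv D5045) F19210
theorem F24377 : act 4 n5045 = n4023 := d34_1 D5045 (iv D4023) (iv F19211)
theorem F24378 : act 5 n5045 = n5045 := d38_1 D5045 (iv D5045) F19212
theorem F24379 : act 6 n5045 = n4059 := d41_1 D5045 (iv D4059) (iv F19213)
theorem F24380 : act 7 n5045 = n4021 := d43_1 D5045 (iv D4021) (iv F19214)
def n5046 : Q := act 8 n4017
theorem D5046 : act 8 n4017 = n5046 := rfl
theorem F24381 : act 0 n5046 = n5046 := d7_1 D5046 (iv D5046) F19215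
theorem F24382 : act 2 n5046 = n4025 := d22_1 D5046 (iv D4025) (iv F19216)
theorem F24383 : act 3 n5046 = n5046 := d28_1 D5046 (iv D5046) F19217
theorem F24384 : act 6 n5046 = n4060 := d40_1 D5046 (iv D4060) (iv F19219)
def n5047 : Q := act 8 n4018
theorem D5047 : act 8 n4018 = n5047 := rfl
theorem F24385 : act 0 n5047 = n5047 := d7_1 D5047 (iv D5047) F19220
theorem F24386 : act 2 n5047 = n4026 := d22_1 D5047 (iv D4026) (iv F19221)
theorem F24387 : act 3 n5047 = n5047 := d28_1 D5047 (iv D5047) F19222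
theorem F24388 : act 4 n5047 = n5047 := d33_1 D5047 (iv D5047) F19223
theorem F24389 : act 6 n5047 = n5047 := d40_1 D5047 (iv D5047) F19224
theorem F24390 : act 7 n5047 = n4019 := d42_1 D5047 (iv D4019) (iv F19225)
theorem F24391 : act 9 n5047 = n5047 := d44_2 D4018 D5047 (iv D5047) (iv D4018) F13695
def n5048 : Q := act 5 n4019
theorem D5048 : act 5 n4019 = n5048 := rfl
theorem F24392 : act 0 n5048 = n5048 := d4_1 D5048 (iv D5048) F19226
theorem F24393 : act 2 n5048 = n4027 := d19_1 D5048 (iv D4027) (iv F19227)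
theorem F24394 : act 3 n5048 = n5048 := d25_1 D5048 (iv D5048) F19228
theorem F24395 : act 9 n5048 = n5048 := d38_2 F19231 D5048 (iv D5048)
def n5049 : Q := act 4 n4020
theorem D5049 : act 4 n4020 = n5049 := rfl
theorem F24396 : act 0 n5049 = n5049 := d3_1 D5049 (iv D5049) F19232
theorem F24397 : act 2 n5049 = n4028 := d18_1 D5049 (iv D4028) (iv F19233)
theorem F24398 : act 5 n5049 = n5049 := d30_2 D4020 D5049 (iv D5049) (iv D4020) F13704
theorem F24399 : act 7 n5049 = n5049 := d32_2 F19235 D5049 (iv D5049)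
theorem F24400 : act 8 n5049 = n4063 := d33_2 (iv F19236) D5049 (iv D4063)
theorem F24401 : act 9 n5049 = n5049 := d34_2 F19237 D5049 (iv D5049)
def n5050 : Q := act 6 n4020
theorem D5050 : act 6 n4020 = n5050 := rfl
theorem F24402 : act 0 n5050 = n5050 := d5_1 D5050 (iv D5050) F19232
theorem F24403 : act 2 n5050 = n4029 := d20_1 D5050 (iv D4029) (iv F19233)
theorem F24404 : act 3 n5050 = n5050 := d26_1 D5050 (iv D5050) F19234
theorem F24405 : act 8 n5050 = n4064 := d40_2 (iv F19236) D5050 (iv D4064)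
theorem F24406 : act 9 n5050 = n5050 := d41_2 F19237 D5050 (iv D5050)
def n5051 : Q := act 8 n4021
theorem D5051 : act 8 n4021 = n5051 := rfl
theorem F24407 : act 0 n5051 = n5051 := d7_1 D5051 (iv D5051) F19238
theorem F24408 : act 3 n5051 = n5051 := d28_1 D5051 (iv D5051) F19239
theorem F24409 : act 4 n5051 = n4025 := d33_1 D5051 (iv D4025) (iv F19240)
theorem F24410 : act 6 n5051 = n4067 := d40_1 D5051 (iv D4067) (iv F19242)
def n5052 : Q := act 9 n4022
theorem D5052 : act 9 n4022 = n5052 := rfl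
theorem F24411 : act 0 n5052 = n5052 := d8_1 D5052 (iv D5052) F19243
theorem F24412 : act 2 n5052 = n4066 := d23_1 D5052 (iv D4066) (iv F19244)
theorem F24413 : act 3 n5052 = n4031 := d29_1 D5052 (iv D4031) (iv F19245)
theorem F24414 : act 4 n5052 = n4059 := d34_1 D5052 (iv D4059) (iv F19246)
theorem F24415 : act 5 n5052 = n5052 := d38_1 D5052 (iv D5052) F19247
theorem F24416 : act 6 n5052 = n4023 := d41_1 D5052 (iv D4023) D4022
theorem F24417 : act 7 n5052 = n4068 := d43_1 D5052 (iv D4068) (iv F19248)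
def n5053 : Q := act 8 n4023
theorem D5053 : act 8 n4023 = n5053 := rfl
theorem F24418 : act 0 n5053 = n5053 := d7_1 D5053 (iv D5053) F19250
theorem F24419 : act 3 n5053 = n4033 := d28_1 D5053 (iv D4033) (iv F19251)
theorem F24420 : act 7 n5053 = n4025 := d42_1 D5053 (iv D4025) (iv F19253)
def n5054 : Q := act 8 n4024
theorem D5054 : act 8 n4024 = n5054 := rfl
theorem F24421 : act 0 n5054 = n5054 := d7_1 D5054 (iv D5054) F19254
theorem F24422 : act 3 n5054 = n4034 := d28_1 D5054 (iv D4034) (iv F19255)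
theorem F24423 : act 6 n5054 = n4071 := d40_1 D5054 (iv D4071) (iv F19257)
theorem F24424 : act 9 n5054 = n4025 := d44_2 D4024 D5054 (iv D4025) (iv D2819) D2818
def n5055 : Q := act 5 n4025
theorem D5055 : act 5 n4025 = n5055 := rfl
theorem F24425 : act 0 n5055 = n5055 := d4_1 D5055 (iv D5055) F19258
theorem F24426 : act 3 n5055 = n4035 := d25_1 D5055 (iv D4035) (iv F19259)
theorem F24427 : act 8 n5055 = n4027 := d37_2 D4025 D5055 (iv D4027) (iv D2821) (iv F13720)
def n5056 : Q := act 5 n4026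
theorem D5056 : act 5 n4026 = n5056 := rfl
theorem F24428 : act 0 n5056 = n5056 := d4_1 D5056 (iv D5056) F19261
theorem F24429 : act 3 n5056 = n4036 := d25_1 D5056 (iv D4036) (iv F19262)
theorem F24430 : act 7 n5056 = n4027 := d36_2 (iv F19265) D5056 (iv D4027)
theorem F24431 : act 9 n5056 = n5056 := d38_2 F19266 D5056 (iv D5056)
def n5057 : Q := act 4 n4027
theorem D5057 : act 4 n4027 = n5057 := rfl
theorem F24432 : act 0 n5057 = n5057 := d3_1 D5057 (iv D5057) F19267
theorem F24433 : act 5 n5057 = n5057 := d30_2 D4027 D5057 (iv D5057) (iv D4027) F13729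
theorem F24434 : act 9 n5057 = n5057 := d34_2 F19269 D5057 (iv D5057)
def n5058 : Q := act 6 n4027
theorem D5058 : act 6 n4027 = n5058 := rfl
theorem F24435 : act 0 n5058 = n5058 := d5_1 D5058 (iv D5058) F19267
theorem F24436 : act 3 n5058 = n4038 := d26_1 D5058 (iv D4038) (iv F19268)
theorem F24437 : act 5 n5058 = n4029 := d35_1 D5058 (iv D4029) (iv D2822) (iv F13730) D4027
theorem F24438 : act 9 n5058 = n5058 := d41_2 F19269 D5058 (iv D5058)
def n5059 : Q := act 6 n4028
theorem D5059 : act 6 n4028 = n5059 := rfl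
theorem F24439 : act 0 n5059 = n5059 := d5_1 D5059 (iv D5059) F19270
theorem F24440 : act 3 n5059 = n5059 := d26_1 D5059 (iv D5059) F19271
theorem F24441 : act 4 n5059 = n4029 := d31_1 D5059 (iv D4029) D4028
theorem F24442 : act 8 n5059 = n4076 := d40_2 (iv F19274) D5059 (iv D4076)
theorem F24443 : act 9 n5059 = n5059 := d41_2 F19275 D5059 (iv D5059)
def n5060 : Q := act 7 n4029
theorem D5060 : act 7 n4029 = n5060 := rfl
theorem F24444 : act 0 n5060 = n5060 := d6_1 D5060 (iv D5060) F19276
theorem F24445 : act 3 n5060 = n4039 := d27_1 D5060 (iv D4039) (iv F19277)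
theorem F24446 : act 6 n5060 = n5060 := d39_1 D5060 (iv D5060) (iv D4029) F13734 D4029
theorem F24447 : act 8 n5060 = n4077 := d42_2 (iv F19278) D5060 (iv D4077)
theorem F24448 : act 9 n5060 = n5060 := d43_2 F19279 D5060 (iv D5060)
def n5061 : Q := act 9 n4030
theorem D5061 : act 9 n4030 = n5061 := rfl
theorem F24449 : act 0 n5061 = n5061 := d8_1 D5061 (iv D5061) F19280
theorem F24450 : act 2 n5061 = n5061 := d23_1 D5061 (iv D5061) F19281
theorem F24451 : act 3 n5061 = n4055 := d29_1 D5061 (iv D4055) (iv F19282)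
theorem F24452 : act 4 n5061 = n5061 := d34_1 D5061 (iv D5061) F19283
theorem F24453 : act 5 n5061 = n4200 := d38_1 D5061 (iv D4200) F19286
theorem F24454 : act 6 n5061 = n4032 := d41_1 D5061 (iv D4032) (iv F19284)
theorem F24455 : act 7 n5061 = n4079 := d43_1 D5061 (iv D4079) (iv F19285)
def n5062 : Q := act 8 n4031
theorem D5062 : act 8 n4031 = n5062 := rfl
theorem F24456 : act 0 n5062 = n5062 := d7_1 D5062 (iv D5062) F19287
theorem F24457 : act 2 n5062 = n5062 := d22_1 D5062 (iv D5062) F19288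
theorem F24458 : act 4 n5062 = n5062 := d33_1 D5062 (iv D5062) F19289
theorem F24459 : act 6 n5062 = n4033 := d40_1 D5062 (iv D4033) (iv F19291)
theorem F24460 : act 7 n5062 = n4080 := d42_1 D5062 (iv D4080) (iv F19292)
def n5063 : Q := act 8 n4032
theorem D5063 : act 8 n4032 = n5063 := rfl
theorem F24461 : act 0 n5063 = n5063 := d7_1 D5063 (iv D5063) F19293
theorem F24462 : act 2 n5063 = n5063 := d22_1 D5063 (iv D5063) F19294
theorem F24463 : act 4 n5063 = n5063 := d33_1 D5063 (iv D5063) F19295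
theorem F24464 : act 7 n5063 = n4034 := d42_1 D5063 (iv D4034) (iv F19297)
theorem F24465 : act 9 n5063 = n4033 := d44_2 D4032 D5063 (iv D4033) (iv D2825) D2824
def n5064 : Q := act 5 n4033
theorem D5064 : act 5 n4033 = n5064 := rfl
theorem F24466 : act 0 n5064 = n5064 := d4_1 D5064 (iv D5064) F19298
theorem F24467 : act 2 n5064 = n5064 := d19_1 D5064 (iv D5064) F19299
theorem F24468 : act 7 n5064 = n4035 := d36_2 (iv F19301) D5064 (iv D4035)
theorem F24469 : act 8 n5064 = n4036 := d37_2 D4033 D5064 (iv D4036) (iv D2828) (iv F13750)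
def n5065 : Q := act 5 n4034
theorem D5065 : act 5 n4034 = n5065 := rfl
theorem F24470 : act 0 n5065 = n5065 := d4_1 D5065 (iv D5065) F19302
theorem F24471 : act 2 n5065 = n5065 := d19_1 D5065 (iv D5065) F19303
theorem F24472 : act 8 n5065 = n5065 := d37_2 D4034 D5065 (iv D5065) (iv D4034) F13755
theorem F24473 : act 9 n5065 = n4035 := d38_2 (iv F19306) D5065 (iv D4035)
def n5066 : Q := act 4 n4035
theorem D5066 : act 4 n4035 = n5066 := rfl
theorem F24474 : act 0 n5066 = n5066 := d3_1 D5066 (iv D5066) F19307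
theorem F24475 : act 2 n5066 = n5066 := d18_1 D5066 (iv D5066) F19308
theorem F24476 : act 5 n5066 = n5066 := d30_2 D4035 D5066 (iv D5066) (iv D4035) F13759
theorem F24477 : act 8 n5066 = n4037 := d33_2 (iv F19309) D5066 (iv D4037)
def n5067 : Q := act 6 n4035
theorem D5067 : act 6 n4035 = n5067 := rfl
theorem F24478 : act 0 n5067 = n5067 := d5_1 D5067 (iv D5067) F19307
theorem F24479 : act 2 n5067 = n5067 := d20_1 D5067 (iv D5067) F19308
theorem F24480 : act 5 n5067 = n4085 := d35_1 D5067 (iv D4085) (iv D2863) (iv F13760) D4035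
theorem F24481 : act 8 n5067 = n4038 := d40_2 (iv F19309) D5067 (iv D4038)
def n5068 : Q := act 4 n4036
theorem D5068 : act 4 n4036 = n5068 := rfl
theorem F24482 : act 0 n5068 = n5068 := d3_1 D5068 (iv D5068) F19310
theorem F24483 : act 2 n5068 = n5068 := d18_1 D5068 (iv D5068) F19311
theorem F24484 : act 5 n5068 = n4040 := d30_2 D4036 D5068 (iv D4040) (iv D2831) (iv F13763)
theorem F24485 : act 7 n5068 = n4037 := d32_2 (iv F19312) D5068 (iv D4037)
theorem F24486 : act 9 n5068 = n5068 := d34_2 F19313 D5068 (iv D5068)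
def n5069 : Q := act 6 n4036
theorem D5069 : act 6 n4036 = n5069 := rfl
theorem F24487 : act 0 n5069 = n5069 := d5_1 D5069 (iv D5069) F19310
theorem F24488 : act 2 n5069 = n5069 := d20_1 D5069 (iv D5069) F19311
theorem F24489 : act 5 n5069 = n5069 := d35_1 D5069 (iv D5069) (iv D4036) F13764 D4036
theorem F24490 : act 9 n5069 = n5069 := d41_2 F19313 D5069 (iv D5069)
def n5070 : Q := act 3 n4037
theorem D5070 : act 3 n4037 = n5070 := rfl
theorem F24491 : act 0 n5070 = n5070 := d2_1 D5070 (iv D5070) F19314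
theorem F24492 : act 5 n5070 = n4042 := d25_2 (iv F19316) D5070 (iv D4042)
theorem F24493 : act 9 n5070 = n5070 := d29_2 F19317 D5070 (iv D5070)
def n5071 : Q := act 6 n4037
theorem D5071 : act 6 n4037 = n5071 := rfl
theorem F24494 : act 0 n5071 = n5071 := d5_1 D5071 (iv D5071) F19314
theorem F24495 : act 2 n5071 = n5071 := d20_1 D5071 (iv D5071) F19315
theorem F24496 : act 4 n5071 = n4038 := d31_1 D5071 (iv D4038) D4037
theorem F24497 : act 5 n5071 = n5071 := d35_1 D5071 (iv D5071) F19316 F13783 (iv F19316)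
theorem F24498 : act 9 n5071 = n5071 := d41_2 F19317 D5071 (iv D5071)
def n5072 : Q := act 7 n4038
theorem D5072 : act 7 n4038 = n5072 := rfl
theorem F24499 : act 0 n5072 = n5072 := d6_1 D5072 (iv D5072) F19318
theorem F24500 : act 2 n5072 = n5072 := d21_1 D5072 (iv D5072) F19319
theorem F24501 : act 5 n5072 = n4039 := d36_1 D5072 (iv D4039) (iv F19320)
theorem F24502 : act 9 n5072 = n5072 := d43_2 F19321 D5072 (iv D5072)
def n5073 : Q := act 3 n4040
theorem D5073 : act 3 n4040 = n5073 := rfl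
theorem F24503 : act 0 n5073 = n5073 := d2_1 D5073 (iv D5073) F19328
theorem F24504 : act 4 n5073 = n5073 := d24_2 D4040 D5073 (iv D5073) (iv D4040) F13777
theorem F24505 : act 7 n5073 = n4042 := d27_2 (iv F19330) D5073 (iv D4042)
theorem F24506 : act 8 n5073 = n5073 := d28_2 F19331 D5073 (iv D5073)
theorem F24507 : act 9 n5073 = n5073 := d29_2 F19332 D5073 (iv D5073)
def n5074 : Q := act 6 n4040
theorem D5074 : act 6 n4040 = n5074 := rfl
theorem F24508 : act 0 n5074 = n5074 := d5_1 D5074 (iv D5074) F19328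
theorem F24509 : act 2 n5074 = n5074 := d20_1 D5074 (iv D5074) F19329
theorem F24510 : act 4 n5074 = n4041 := d31_1 D5074 (iv D4041) D4040
theorem F24511 : act 7 n5074 = n5074 := d39_2 (iv F19330) D5074 (iv D5074) F19330 F13783
theorem F24512 : act 8 n5074 = n5074 := d40_2 F19331 D5074 (iv D5074)
theorem F24513 : act 9 n5074 = n5074 := d41_2 F19332 D5074 (iv D5074)
def n5075 : Q := act 2 n4042
theorem D5075 : act 2 n4042 = n5075 := rfl
theorem F24514 : act 0 n5075 = n5075 := d1_1 D5075 (iv D5075) F19340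
theorem F24515 : act 3 n5075 = n5075 := d17_2 D4042 D5075 (iv D5075) (iv D4042) F13782
theorem F24516 : act 4 n5075 = n5075 := d18_2 F19341 D5075 (iv D5075)
theorem F24517 : act 6 n5075 = n5075 := d20_2 F19342 D5075 (iv D5075)
theorem F24518 : act 8 n5075 = n5075 := d22_2 F19343 D5075 (iv D5075)
theorem F24519 : act 9 n5075 = n5075 := d23_2 F19344 D5075 (iv D5075)
def n5076 : Q := act 8 n4043
theorem D5076 : act 8 n4043 = n5076 := rfl
theorem F24520 : act 0 n5076 = n4049 := d7_1 D5076 (iv D4049) (iv F19345)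
theorem F24521 : act 1 n5076 = n5076 := d15_1 D5076 (iv D5076) F19346
theorem F24522 : act 3 n5076 = n5076 := d28_1 D5076 (iv D5076) F19347
theorem F24523 : act 5 n5076 = n4095 := d37_1 D5076 (iv D4095) (iv D2871) (iv F13790) D4043
def n5077 : Q := act 9 n4043
theorem D5077 : act 9 n4043 = n5077 := rfl
theorem F24524 : act 0 n5077 = n4050 := d8_1 D5077 (iv D4050) (iv F19345)
theorem F24525 : act 1 n5077 = n5077 := d16_1 D5077 (iv D5077) F19346
theorem F24526 : act 3 n5077 = n5077 := d29_1 D5077 (iv D5077) F19347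
theorem F24527 : act 5 n5077 = n4045 := d38_1 D5077 (iv D4045) D4043
def n5078 : Q := act 9 n4044
theorem D5078 : act 9 n4044 = n5078 := rfl
theorem F24528 : act 0 n5078 = n4051 := d8_1 D5078 (iv D4051) (iv F19348)
theorem F24529 : act 1 n5078 = n5078 := d16_1 D5078 (iv D5078) F19349
theorem F24530 : act 3 n5078 = n5078 := d29_1 D5078 (iv D5078) F19350
theorem F24531 : act 4 n5078 = n4190 := d34_1 D5078 (iv D4190) (iv F19351)
theorem F24532 : act 6 n5078 = n5078 := d41_1 D5078 (iv D5078) F19352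
theorem F24533 : act 7 n5078 = n4045 := d43_1 D5078 (iv D4045) D4044
def n5079 : Q := act 8 n4045
theorem D5079 : act 8 n4045 = n5079 := rfl
theorem F24534 : act 0 n5079 = n4052 := d7_1 D5079 (iv D4052) (iv F19354)
theorem F24535 : act 1 n5079 = n5079 := d15_1 D5079 (iv D5079) F19355
theorem F24536 : act 3 n5079 = n5079 := d28_1 D5079 (iv D5079) F19356
theorem F24537 : act 4 n5079 = n4191 := d33_1 D5079 (iv D4191) (iv F19357)
theorem F24538 : act 6 n5079 = n4046 := d40_1 D5079 (iv D4046) (iv F19358)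
theorem F24539 : act 9 n5079 = n4098 := d44_2 D4045 D5079 (iv D4098) (iv D2873) (iv F13790)
def n5080 : Q := act 5 n4046
theorem D5080 : act 5 n4046 = n5080 := rfl
theorem F24540 : act 0 n5080 = n4053 := d4_1 D5080 (iv D4053) (iv F19359)
theorem F24541 : act 1 n5080 = n5080 := d12_1 D5080 (iv D5080) F19360
theorem F24542 : act 3 n5080 = n5080 := d25_1 D5080 (iv D5080) F19361
theorem F24543 : act 7 n5080 = n5080 := d36_2 F19363 D5080 (iv D5080)
theorem F24544 : act 9 n5080 = n4099 := d38_2 (iv F19364) D5080 (iv D4099)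
def n5081 : Q := act 9 n4047
theorem D5081 : act 9 n4047 = n5081 := rfl
theorem F24545 : act 1 n5081 = n4055 := d16_1 D5081 (iv D4055) (iv F19365)
theorem F24546 : act 4 n5081 = n4050 := d34_1 D5081 (iv D4050) D4047
theorem F24547 : act 5 n5081 = n4193 := d38_1 D5081 (iv D4193) (iv F19366)
def n5082 : Q := act 9 n4048
theorem D5082 : act 9 n4048 = n5082 := rfl
theorem F24548 : act 1 n5082 = n4058 := d16_1 D5082 (iv D4058) (iv F19367)
theorem F24549 : act 3 n5082 = n5082 := d29_1 D5082 (iv D5082) F19368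
theorem F24550 : act 5 n5082 = n4051 := d38_1 D5082 (iv D4051) (iv F19369)
theorem F24551 : act 7 n5082 = n4050 := d43_1 D5082 (iv D4050) D4048
def n5083 : Q := act 9 n4049
theorem D5083 : act 9 n4049 = n5083 := rfl
theorem F24552 : act 1 n5083 = n4059 := d16_1 D5083 (iv D4059) (iv F19370)
theorem F24553 : act 3 n5083 = n5083 := d29_1 D5083 (iv D5083) F19371
theorem F24554 : act 5 n5083 = n4103 := d38_1 D5083 (iv D4103) (iv F19372)
def n5084 : Q := act 8 n4050
theorem D5084 : act 8 n4050 = n5084 := rfl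
theorem F24555 : act 1 n5084 = n4060 := d15_1 D5084 (iv D4060) (iv F19373)
theorem F24556 : act 3 n5084 = n5084 := d28_1 D5084 (iv D5084) F19374
def n5085 : Q := act 8 n4051
theorem D5085 : act 8 n4051 = n5085 := rfl
theorem F24557 : act 1 n5085 = n4061 := d15_1 D5085 (iv D4061) (iv F19376)
theorem F24558 : act 3 n5085 = n5085 := d28_1 D5085 (iv D5085) F19377
theorem F24559 : act 4 n5085 = n4196 := d33_1 D5085 (iv D4196) (iv F19378)
theorem F24560 : act 6 n5085 = n5085 := d40_1 D5085 (iv D5085) F19379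
theorem F24561 : act 7 n5085 = n4052 := d42_1 D5085 (iv D4052) (iv F19380)
theorem F24562 : act 9 n5085 = n4105 := d44_2 D4051 D5085 (iv D4105) (iv D2878) (iv F13802)
def n5086 : Q := act 5 n4052
theorem D5086 : act 5 n4052 = n5086 := rfl
theorem F24563 : act 1 n5086 = n4062 := d12_1 D5086 (iv D4062) (iv F19381)
theorem F24564 : act 3 n5086 = n5086 := d25_1 D5086 (iv D5086) F19382
theorem F24565 : act 9 n5086 = n4106 := d38_2 (iv F19385) D5086 (iv D4106)
def n5087 : Q := act 4 n4053
theorem D5087 : act 4 n4053 = n5087 := rfl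
theorem F24566 : act 1 n5087 = n4063 := d11_1 D5087 (iv D4063) (iv F19386)
theorem F24567 : act 5 n5087 = n4198 := d30_2 D4053 D5087 (iv D4198) (iv D2978) (iv F13809)
theorem F24568 : act 7 n5087 = n5087 := d32_2 F19388 D5087 (iv D5087)
theorem F24569 : act 9 n5087 = n4107 := d34_2 (iv F19389) D5087 (iv D4107)
def n5088 : Q := act 6 n4053
theorem D5088 : act 6 n4053 = n5088 := rfl
theorem F24570 : act 1 n5088 = n4064 := d13_1 D5088 (iv D4064) (iv F19386)
theorem F24571 : act 3 n5088 = n5088 := d26_1 D5088 (iv D5088) F19387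
theorem F24572 : act 9 n5088 = n4108 := d41_2 (iv F19389) D5088 (iv D4108)
def n5089 : Q := act 9 n4054
theorem D5089 : act 9 n4054 = n5089 := rfl
theorem F24573 : act 0 n5089 = n5089 := d8_1 D5089 (iv D5089) F19390
theorem F24574 : act 2 n5089 = n4065 := d23_1 D5089 (iv D4065) (iv F19391)
theorem F24575 : act 3 n5089 = n4079 := d29_1 D5089 (iv D4079) (iv F19392)
theorem F24576 : act 4 n5089 = n4058 := d34_1 D5089 (iv D4058) (iv F19393)
theorem F24577 : act 5 n5089 = n4201 := d38_1 D5089 (iv D4201) (iv F19394)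
theorem F24578 : act 6 n5089 = n4069 := d41_1 D5089 (iv D4069) (iv F19395)
theorem F24579 : act 7 n5089 = n4055 := d43_1 D5089 (iv D4055) D4054
def n5090 : Q := act 8 n4055
theorem D5090 : act 8 n4055 = n5090 := rfl
theorem F24580 : act 0 n5090 = n5090 := d7_1 D5090 (iv D5090) F19397
theorem F24581 : act 2 n5090 = n4067 := d22_1 D5090 (iv D4067) (iv F19398)
theorem F24582 : act 4 n5090 = n4060 := d33_1 D5090 (iv D4060) (iv F19399)
def n5091 : Q := act 9 n4056
theorem D5091 : act 9 n4056 = n5091 := rfl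
theorem F24583 : act 0 n5091 = n5091 := d8_1 D5091 (iv D5091) F19401
theorem F24584 : act 2 n5091 = n4068 := d23_1 D5091 (iv D4068) (iv F19402)
theorem F24585 : act 3 n5091 = n5091 := d29_1 D5091 (iv D5091) F19403
theorem F24586 : act 4 n5091 = n4069 := d34_1 D5091 (iv D4069) (iv F19404)
theorem F24587 : act 5 n5091 = n5091 := d38_1 D5091 (iv D5091) F19405
theorem F24588 : act 6 n5091 = n4058 := d41_1 D5091 (iv D4058) D4056
theorem F24589 : act 7 n5091 = n4066 := d43_1 D5091 (iv D4066) (iv F19406)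
def n5092 : Q := act 9 n4057
theorem D5092 : act 9 n4057 = n5092 := rfl
theorem F24590 : act 0 n5092 = n5092 := d8_1 D5092 (iv D5092) F19408
theorem F24591 : act 2 n5092 = n4069 := d23_1 D5092 (iv D4069) (iv F19409)
theorem F24592 : act 3 n5092 = n5092 := d29_1 D5092 (iv D5092) F19410
theorem F24593 : act 4 n5092 = n4068 := d34_1 D5092 (iv D4068) (iv F19411)
theorem F24594 : act 5 n5092 = n4111 := d38_1 D5092 (iv D4111) (iv F19412)
theorem F24595 : act 6 n5092 = n4065 := d41_1 D5092 (iv D4065) (iv F19413)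
theorem F24596 : act 7 n5092 = n4059 := d43_1 D5092 (iv D4059) (iv F19414)
def n5093 : Q := act 8 n4058
theorem D5093 : act 8 n4058 = n5093 := rfl
theorem F24597 : act 0 n5093 = n5093 := d7_1 D5093 (iv D5093) F19415
theorem F24598 : act 2 n5093 = n4070 := d22_1 D5093 (iv D4070) (iv F19416)
theorem F24599 : act 3 n5093 = n5093 := d28_1 D5093 (iv D5093) F19417
theorem F24600 : act 7 n5093 = n4060 := d42_1 D5093 (iv D4060) (iv F19419)
def n5094 : Q := act 8 n4059
theorem D5094 : act 8 n4059 = n5094 := rfl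
theorem F24601 : act 0 n5094 = n5094 := d7_1 D5094 (iv D5094) F19420
theorem F24602 : act 2 n5094 = n4071 := d22_1 D5094 (iv D4071) (iv F19421)
theorem F24603 : act 3 n5094 = n5094 := d28_1 D5094 (iv D5094) F19422
theorem F24604 : act 9 n5094 = n4060 := d44_2 D4059 D5094 (iv D4060) (iv D2842) D2841
def n5095 : Q := act 5 n4060
theorem D5095 : act 5 n4060 = n5095 := rfl
theorem F24605 : act 0 n5095 = n5095 := d4_1 D5095 (iv D5095) F19424
theorem F24606 : act 2 n5095 = n4072 := d19_1 D5095 (iv D4072) (iv F19425)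
theorem F24607 : act 3 n5095 = n5095 := d25_1 D5095 (iv D5095) F19426
theorem F24608 : act 8 n5095 = n4062 := d37_2 D4060 D5095 (iv D4062) (iv D2844) (iv F13826)
def n5096 : Q := act 5 n4061
theorem D5096 : act 5 n4061 = n5096 := rfl
theorem F24609 : act 0 n5096 = n5096 := d4_1 D5096 (iv D5096) F19427
theorem F24610 : act 2 n5096 = n4073 := d19_1 D5096 (iv D4073) (iv F19428)
theorem F24611 : act 3 n5096 = n5096 := d25_1 D5096 (iv D5096) F19429
theorem F24612 : act 7 n5096 = n4062 := d36_2 (iv F19432) D5096 (iv D4062)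
theorem F24613 : act 9 n5096 = n4115 := d38_2 (iv F19433) D5096 (iv D4115)
def n5097 : Q := act 4 n4062
theorem D5097 : act 4 n4062 = n5097 := rfl
theorem F24614 : act 0 n5097 = n5097 := d3_1 D5097 (iv D5097) F19434
theorem F24615 : act 2 n5097 = n4074 := d18_1 D5097 (iv D4074) (iv F19435)
theorem F24616 : act 5 n5097 = n4207 := d30_2 D4062 D5097 (iv D4207) (iv D2986) (iv F13836)
theorem F24617 : act 9 n5097 = n4116 := d34_2 (iv F19437) D5097 (iv D4116)
def n5098 : Q := act 6 n4062
theorem D5098 : act 6 n4062 = n5098 := rfl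
theorem F24618 : act 0 n5098 = n5098 := d5_1 D5098 (iv D5098) F19434
theorem F24619 : act 2 n5098 = n4075 := d20_1 D5098 (iv D4075) (iv F19435)
theorem F24620 : act 3 n5098 = n5098 := d26_1 D5098 (iv D5098) F19436
theorem F24621 : act 5 n5098 = n4064 := d35_1 D5098 (iv D4064) (iv D2845) (iv F13837) D4062
theorem F24622 : act 9 n5098 = n4117 := d41_2 (iv F19437) D5098 (iv D4117)
def n5099 : Q := act 3 n4063
theorem D5099 : act 3 n4063 = n5099 := rfl
theorem F24623 : act 0 n5099 = n5099 := d2_1 D5099 (iv D5099) F19438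
theorem F24624 : act 2 n5099 = n5099 := d17_1 D5099 (iv D5099) F19439 F13882 (iv F19439)
theorem F24625 : act 4 n5099 = n5099 := d24_2 D4063 D5099 (iv D5099) (iv D4063) F13841
theorem F24626 : act 5 n5099 = n4209 := d25_2 (iv F19440) D5099 (iv D4209)
theorem F24627 : act 7 n5099 = n5099 := d27_2 F19441 D5099 (iv D5099)
theorem F24628 : act 9 n5099 = n4118 := d29_2 (iv F19442) D5099 (iv D4118)
def n5100 : Q := act 6 n4063
theorem D5100 : act 6 n4063 = n5100 := rfl
theorem F24629 : act 0 n5100 = n5100 := d5_1 D5100 (iv D5100) F19438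
theorem F24630 : act 2 n5100 = n4076 := d20_1 D5100 (iv D4076) (iv F19439)
theorem F24631 : act 4 n5100 = n4064 := d31_1 D5100 (iv D4064) D4063
theorem F24632 : act 9 n5100 = n4119 := d41_2 (iv F19442) D5100 (iv D4119)
def n5101 : Q := act 7 n4064
theorem D5101 : act 7 n4064 = n5101 := rfl
theorem F24633 : act 0 n5101 = n5101 := d6_1 D5101 (iv D5101) F19443
theorem F24634 : act 2 n5101 = n4077 := d21_1 D5101 (iv D4077) (iv F19444)
theorem F24635 : act 3 n5101 = n5101 := d27_1 D5101 (iv D5101) F19445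
theorem F24636 : act 6 n5101 = n5101 := d39_1 D5101 (iv D5101) (iv D4064) F13842 D4064
theorem F24637 : act 9 n5101 = n4120 := d43_2 (iv F19446) D5101 (iv D4120)
def n5102 : Q := act 8 n4065
theorem D5102 : act 8 n4065 = n5102 := rfl
theorem F24638 : act 0 n5102 = n5102 := d7_1 D5102 (iv D5102) F19447
theorem F24639 : act 3 n5102 = n5102 := d28_1 D5102 (iv D5102) F19448
theorem F24640 : act 4 n5102 = n4070 := d33_1 D5102 (iv D4070) (iv F19449)
theorem F24641 : act 7 n5102 = n4067 := d42_1 D5102 (iv D4067) (iv F19451)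
def n5103 : Q := act 8 n4066
theorem D5103 : act 8 n4066 = n5103 := rfl
theorem F24642 : act 0 n5103 = n5103 := d7_1 D5103 (iv D5103) F19452
theorem F24643 : act 3 n5103 = n5103 := d28_1 D5103 (iv D5103) F19453
theorem F24644 : act 4 n5103 = n4071 := d33_1 D5103 (iv D4071) (iv F19454)
theorem F24645 : act 9 n5103 = n4067 := d44_2 D4066 D5103 (iv D4067) (iv D2848) D2847
def n5104 : Q := act 5 n4067
theorem D5104 : act 5 n4067 = n5104 := rfl
theorem F24646 : act 0 n5104 = n5104 := d4_1 D5104 (iv D5104) F19456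
theorem F24647 : act 3 n5104 = n5104 := d25_1 D5104 (iv D5104) F19457
theorem F24648 : act 8 n5104 = n4214 := d37_2 D4067 D5104 (iv D4214) (iv D2991) (iv F13855)
def n5105 : Q := act 8 n4068
theorem D5105 : act 8 n4068 = n5105 := rfl
theorem F24649 : act 0 n5105 = n5105 := d7_1 D5105 (iv D5105) F19459
theorem F24650 : act 3 n5105 = n4080 := d28_1 D5105 (iv D4080) (iv F19460)
theorem F24651 : act 6 n5105 = n4070 := d40_1 D5105 (iv D4070) (iv F19462)
def n5106 : Q := act 8 n4069
theorem D5106 : act 8 n4069 = n5106 := rfl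
theorem F24652 : act 0 n5106 = n5106 := d7_1 D5106 (iv D5106) F19463
theorem F24653 : act 3 n5106 = n4081 := d28_1 D5106 (iv D4081) (iv F19464)
theorem F24654 : act 7 n5106 = n4071 := d42_1 D5106 (iv D4071) (iv F19466)
theorem F24655 : act 9 n5106 = n4070 := d44_2 D4069 D5106 (iv D4070) (iv D2851) D2850
def n5107 : Q := act 5 n4070
theorem D5107 : act 5 n4070 = n5107 := rfl
theorem F24656 : act 0 n5107 = n5107 := d4_1 D5107 (iv D5107) F19467
theorem F24657 : act 3 n5107 = n4082 := d25_1 D5107 (iv D4082) (iv F19468)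
theorem F24658 : act 7 n5107 = n4072 := d36_2 (iv F19469) D5107 (iv D4072)
theorem F24659 : act 8 n5107 = n4073 := d37_2 D4070 D5107 (iv D4073) (iv D2854) (iv F13865)
def n5108 : Q := act 5 n4071
theorem D5108 : act 5 n4071 = n5108 := rfl
theorem F24660 : act 0 n5108 = n5108 := d4_1 D5108 (iv D5108) F19470
theorem F24661 : act 3 n5108 = n4083 := d25_1 D5108 (iv D4083) (iv F19471)
theorem F24662 : act 8 n5108 = n4126 := d37_2 D4071 D5108 (iv D4126) (iv D2894) (iv F13869)
theorem F24663 : act 9 n5108 = n4072 := d38_2 (iv F19472) D5108 (iv D4072)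
def n5109 : Q := act 4 n4072
theorem D5109 : act 4 n4072 = n5109 := rfl
theorem F24664 : act 0 n5109 = n5109 := d3_1 D5109 (iv D5109) F19473
theorem F24665 : act 8 n5109 = n4074 := d33_2 (iv F19475) D5109 (iv D4074)
def n5110 : Q := act 6 n4072
theorem D5110 : act 6 n4072 = n5110 := rfl
theorem F24666 : act 0 n5110 = n5110 := d5_1 D5110 (iv D5110) F19473
theorem F24667 : act 3 n5110 = n4085 := d26_1 D5110 (iv D4085) (iv F19474)
theorem F24668 : act 8 n5110 = n4075 := d40_2 (iv F19475) D5110 (iv D4075)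
def n5111 : Q := act 4 n4073
theorem D5111 : act 4 n4073 = n5111 := rfl
theorem F24669 : act 0 n5111 = n5111 := d3_1 D5111 (iv D5111) F19476
theorem F24670 : act 5 n5111 = n4219 := d30_2 D4073 D5111 (iv D4219) (iv D2995) (iv F13874)
theorem F24671 : act 7 n5111 = n4074 := d32_2 (iv F19478) D5111 (iv D4074)
theorem F24672 : act 9 n5111 = n4129 := d34_2 (iv F19479) D5111 (iv D4129)
def n5112 : Q := act 6 n4073
theorem D5112 : act 6 n4073 = n5112 := rfl
theorem F24673 : act 0 n5112 = n5112 := d5_1 D5112 (iv D5112) F19476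
theorem F24674 : act 3 n5112 = n4087 := d26_1 D5112 (iv D4087) (iv F19477)
theorem F24675 : act 5 n5112 = n5112 := d35_1 D5112 (iv D5112) (iv D4073) F13875 D4073
theorem F24676 : act 9 n5112 = n4130 := d41_2 (iv F19479) D5112 (iv D4130)
def n5113 : Q := act 3 n4074
theorem D5113 : act 3 n4074 = n5113 := rfl
theorem F24677 : act 0 n5113 = n5113 := d2_1 D5113 (iv D5113) F19480
theorem F24678 : act 4 n5113 = n4088 := d24_2 D4074 D5113 (iv D4088) (iv D2865) (iv F13879)
theorem F24679 : act 5 n5113 = n4221 := d25_2 (iv F19481) D5113 (iv D4221)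
theorem F24680 : act 9 n5113 = n4131 := d29_2 (iv F19482) D5113 (iv D4131)
def n5114 : Q := act 6 n4074
theorem D5114 : act 6 n4074 = n5114 := rfl
theorem F24681 : act 0 n5114 = n5114 := d5_1 D5114 (iv D5114) F19480
theorem F24682 : act 4 n5114 = n4075 := d31_1 D5114 (iv D4075) D4074
theorem F24683 : act 9 n5114 = n4132 := d41_2 (iv F19482) D5114 (iv D4132)
def n5115 : Q := act 7 n4075
theorem D5115 : act 7 n4075 = n5115 := rfl
theorem F24684 : act 0 n5115 = n5115 := d6_1 D5115 (iv D5115) F19483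
theorem F24685 : act 3 n5115 = n4090 := d27_1 D5115 (iv D4090) (iv F19484)
theorem F24686 : act 5 n5115 = n4077 := d36_1 D5115 (iv D4077) (iv F19485)
theorem F24687 : act 9 n5115 = n4133 := d43_2 (iv F19486) D5115 (iv D4133)
def n5116 : Q := act 5 n4076
theorem D5116 : act 5 n4076 = n5116 := rfl
theorem F24688 : act 0 n5116 = n5116 := d4_1 D5116 (iv D5116) F19487
theorem F24689 : act 3 n5116 = n5116 := d25_1 D5116 (iv D5116) F19488
theorem F24690 : act 6 n5116 = n4224 := d35_2 D4076 D5116 (iv D4224) (iv D2998) (iv F13883)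
theorem F24691 : act 9 n5116 = n4134 := d38_2 (iv F19490) D5116 (iv D4134)
def n5117 : Q := act 7 n4076
theorem D5117 : act 7 n4076 = n5117 := rfl
theorem F24692 : act 0 n5117 = n5117 := d6_1 D5117 (iv D5117) F19487
theorem F24693 : act 3 n5117 = n5117 := d27_1 D5117 (iv D5117) F19488
theorem F24694 : act 4 n5117 = n4077 := d32_1 D5117 (iv D4077) (iv F19489)
theorem F24695 : act 6 n5117 = n5117 := d39_1 D5117 (iv D5117) (iv D4076) F13884 D4076
theorem F24696 : act 9 n5117 = n4135 := d43_2 (iv F19490) D5117 (iv D4135)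
def n5118 : Q := act 8 n4079
theorem D5118 : act 8 n4079 = n5118 := rfl
theorem F24697 : act 0 n5118 = n5118 := d7_1 D5118 (iv D5118) F19502
theorem F24698 : act 2 n5118 = n5118 := d22_1 D5118 (iv D5118) F19503
theorem F24699 : act 4 n5118 = n5118 := d33_1 D5118 (iv D5118) F19504
theorem F24700 : act 6 n5118 = n4081 := d40_1 D5118 (iv D4081) (iv F19505)
theorem F24701 : act 9 n5118 = n4080 := d44_2 D4079 D5118 (iv D4080) (iv D2859) D2858
def n5119 : Q := act 5 n4080
theorem D5119 : act 5 n4080 = n5119 := rfl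
theorem F24702 : act 0 n5119 = n5119 := d4_1 D5119 (iv D5119) F19506
theorem F24703 : act 2 n5119 = n5119 := d19_1 D5119 (iv D5119) F19507
theorem F24704 : act 8 n5119 = n5119 := d37_2 D4080 D5119 (iv D5119) (iv D4080) F13896
def n5120 : Q := act 5 n4081
theorem D5120 : act 5 n4081 = n5120 := rfl
theorem F24705 : act 0 n5120 = n5120 := d4_1 D5120 (iv D5120) F19510
theorem F24706 : act 2 n5120 = n5120 := d19_1 D5120 (iv D5120) F19511
theorem F24707 : act 7 n5120 = n4083 := d36_2 (iv F19513) D5120 (iv D4083)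
theorem F24708 : act 8 n5120 = n4140 := d37_2 D4081 D5120 (iv D4140) (iv D2904) (iv F13901)
theorem F24709 : act 9 n5120 = n4082 := d38_2 (iv F19514) D5120 (iv D4082)
def n5121 : Q := act 4 n4082
theorem D5121 : act 4 n4082 = n5121 := rfl
theorem F24710 : act 0 n5121 = n5121 := d3_1 D5121 (iv D5121) F19515
theorem F24711 : act 2 n5121 = n5121 := d18_1 D5121 (iv D5121) F19516
theorem F24712 : act 5 n5121 = n5121 := d30_2 D4082 D5121 (iv D5121) (iv D4082) F13905
theorem F24713 : act 7 n5121 = n4084 := d32_2 (iv F19517) D5121 (iv D4084)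
theorem F24714 : act 8 n5121 = n4086 := d33_2 (iv F19518) D5121 (iv D4086)
def n5122 : Q := act 6 n4082
theorem D5122 : act 6 n4082 = n5122 := rfl
theorem F24715 : act 0 n5122 = n5122 := d5_1 D5122 (iv D5122) F19515
theorem F24716 : act 2 n5122 = n5122 := d20_1 D5122 (iv D5122) F19516
theorem F24717 : act 8 n5122 = n4087 := d40_2 (iv F19518) D5122 (iv D4087)
def n5123 : Q := act 4 n4083
theorem D5123 : act 4 n4083 = n5123 := rfl
theorem F24718 : act 0 n5123 = n5123 := d3_1 D5123 (iv D5123) F19519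
theorem F24719 : act 2 n5123 = n5123 := d18_1 D5123 (iv D5123) F19520
theorem F24720 : act 5 n5123 = n5123 := d30_2 D4083 D5123 (iv D5123) (iv D4083) F13909
theorem F24721 : act 8 n5123 = n4143 := d33_2 (iv F19521) D5123 (iv D4143)
theorem F24722 : act 9 n5123 = n4084 := d34_2 (iv F19522) D5123 (iv D4084)
def n5124 : Q := act 6 n4083
theorem D5124 : act 6 n4083 = n5124 := rfl
theorem F24723 : act 0 n5124 = n5124 := d5_1 D5124 (iv D5124) F19519
theorem F24724 : act 2 n5124 = n5124 := d20_1 D5124 (iv D5124) F19520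
theorem F24725 : act 8 n5124 = n4144 := d40_2 (iv F19521) D5124 (iv D4144)
theorem F24726 : act 9 n5124 = n4085 := d41_2 (iv F19522) D5124 (iv D4085)
def n5125 : Q := act 3 n4084
theorem D5125 : act 3 n4084 = n5125 := rfl
theorem F24727 : act 0 n5125 = n5125 := d2_1 D5125 (iv D5125) F19523
theorem F24728 : act 5 n5125 = n5125 := d25_2 F19525 D5125 (iv D5125)
theorem F24729 : act 8 n5125 = n4088 := d28_2 (iv F19526) D5125 (iv D4088)
def n5126 : Q := act 6 n4084
theorem D5126 : act 6 n4084 = n5126 := rfl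
theorem F24730 : act 0 n5126 = n5126 := d5_1 D5126 (iv D5126) F19523
theorem F24731 : act 2 n5126 = n5126 := d20_1 D5126 (iv D5126) F19524
theorem F24732 : act 4 n5126 = n4085 := d31_1 D5126 (iv D4085) D4084
theorem F24733 : act 8 n5126 = n4089 := d40_2 (iv F19526) D5126 (iv D4089)
def n5127 : Q := act 7 n4085
theorem D5127 : act 7 n4085 = n5127 := rfl
theorem F24734 : act 0 n5127 = n5127 := d6_1 D5127 (iv D5127) F19527
theorem F24735 : act 2 n5127 = n5127 := d21_1 D5127 (iv D5127) F19528
theorem F24736 : act 8 n5127 = n4090 := d42_2 (iv F19529) D5127 (iv D4090)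
def n5128 : Q := act 3 n4086
theorem D5128 : act 3 n4086 = n5128 := rfl
theorem F24737 : act 0 n5128 = n5128 := d2_1 D5128 (iv D5128) F19530
theorem F24738 : act 5 n5128 = n4091 := d25_2 (iv F19532) D5128 (iv D4091)
theorem F24739 : act 7 n5128 = n4088 := d27_2 (iv F19533) D5128 (iv D4088)
theorem F24740 : act 9 n5128 = n4148 := d29_2 (iv F19534) D5128 (iv D4148)
def n5129 : Q := act 6 n4086
theorem D5129 : act 6 n4086 = n5129 := rfl
theorem F24741 : act 0 n5129 = n5129 := d5_1 D5129 (iv D5129) F19530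
theorem F24742 : act 2 n5129 = n5129 := d20_1 D5129 (iv D5129) F19531
theorem F24743 : act 4 n5129 = n4087 := d31_1 D5129 (iv D4087) D4086
theorem F24744 : act 9 n5129 = n4149 := d41_2 (iv F19534) D5129 (iv D4149)
def n5130 : Q := act 7 n4087
theorem D5130 : act 7 n4087 = n5130 := rfl
theorem F24745 : act 0 n5130 = n5130 := d6_1 D5130 (iv D5130) F19535
theorem F24746 : act 2 n5130 = n5130 := d21_1 D5130 (iv D5130) F19536
theorem F24747 : act 5 n5130 = n5130 := d36_1 D5130 (iv D5130) F19537
theorem F24748 : act 6 n5130 = n4090 := d39_1 D5130 (iv D4090) (iv D2866) (iv F13916) D4087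
theorem F24749 : act 9 n5130 = n4150 := d43_2 (iv F19538) D5130 (iv D4150)
def n5131 : Q := act 2 n4088
theorem D5131 : act 2 n4088 = n5131 := rfl
theorem F24750 : act 0 n5131 = n5131 := d1_1 D5131 (iv D5131) F19539
theorem F24751 : act 3 n5131 = n5131 := d17_2 D4088 D5131 (iv D5131) (iv D4088) F13919
theorem F24752 : act 5 n5131 = n4093 := d19_2 (iv F19540) D5131 (iv D4093)
theorem F24753 : act 9 n5131 = n4151 := d23_2 (iv F19541) D5131 (iv D4151)
def n5132 : Q := act 6 n4088
theorem D5132 : act 6 n4088 = n5132 := rfl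
theorem F24754 : act 0 n5132 = n5132 := d5_1 D5132 (iv D5132) F19539
theorem F24755 : act 3 n5132 = n4089 := d26_1 D5132 (iv D4089) D4088
theorem F24756 : act 5 n5132 = n5132 := d35_1 D5132 (iv D5132) F19540 F13945 (iv F19540)
theorem F24757 : act 9 n5132 = n4152 := d41_2 (iv F19541) D5132 (iv D4152)
def n5133 : Q := act 7 n4089
theorem D5133 : act 7 n4089 = n5133 := rfl
theorem F24758 : act 0 n5133 = n5133 := d6_1 D5133 (iv D5133) F19542
theorem F24759 : act 2 n5133 = n5133 := d21_1 D5133 (iv D5133) F19543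
theorem F24760 : act 4 n5133 = n4090 := d32_1 D5133 (iv D4090) (iv F19544)
theorem F24761 : act 5 n5133 = n5133 := d36_1 D5133 (iv D5133) F19545
theorem F24762 : act 9 n5133 = n4153 := d43_2 (iv F19546) D5133 (iv D4153)
def n5134 : Q := act 2 n4091
theorem D5134 : act 2 n4091 = n5134 := rfl
theorem F24765 : act 4 n5134 = n4238 := d18_2 (iv F19552) D5134 (iv D4238)
theorem F24766 : act 7 n5134 = n4093 := d21_2 (iv F19553) D5134 (iv D4093)
def n5135 : Q := act 6 n4091
theorem D5135 : act 6 n4091 = n5135 := rfl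
theorem F24770 : act 3 n5135 = n4092 := d26_1 D5135 (iv D4092) D4091
theorem F24771 : act 4 n5135 = n4239 := d31_1 D5135 (iv D4239) (iv F19552)
def n5136 : Q := act 5 n4092
theorem D5136 : act 5 n4092 = n5136 := rfl
def n5137 : Q := act 1 n4093
theorem D5137 : act 1 n4093 = n5137 := rfl
def n5138 : Q := act 8 n4094
theorem D5138 : act 8 n4094 = n5138 := rfl
theorem F24785 : act 0 n5138 = n4101 := d7_1 D5138 (iv D4101) (iv F19568)
theorem F24786 : act 1 n5138 = n5138 := d15_1 D5138 (iv D5138) F19569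
theorem F24787 : act 3 n5138 = n5138 := d28_1 D5138 (iv D5138) F19570
theorem F24788 : act 4 n5138 = n5138 := d33_1 D5138 (iv D5138) F19571
theorem F24789 : act 7 n5138 = n4095 := d42_1 D5138 (iv D4095) D4094
def n5139 : Q := act 9 n4094
theorem D5139 : act 9 n4094 = n5139 := rfl
theorem F24790 : act 0 n5139 = n4102 := d8_1 D5139 (iv D4102) (iv F19568)
theorem F24791 : act 1 n5139 = n5139 := d16_1 D5139 (iv D5139) F19569
theorem F24792 : act 3 n5139 = n5139 := d29_1 D5139 (iv D5139) F19570
theorem F24793 : act 4 n5139 = n5139 := d34_1 D5139 (iv D5139) F19571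
theorem F24794 : act 5 n5139 = n4097 := d38_1 D5139 (iv D4097) (iv F19572)
theorem F24795 : act 7 n5139 = n4096 := d43_1 D5139 (iv D4096) D4094
def n5140 : Q := act 9 n4095
theorem D5140 : act 9 n4095 = n5140 := rfl
theorem F24796 : act 0 n5140 = n4103 := d8_1 D5140 (iv D4103) (iv F19573)
theorem F24797 : act 1 n5140 = n5140 := d16_1 D5140 (iv D5140) F19574
theorem F24798 : act 3 n5140 = n5140 := d29_1 D5140 (iv D5140) F19575
theorem F24799 : act 4 n5140 = n5140 := d34_1 D5140 (iv D5140) F19576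
theorem F24800 : act 6 n5140 = n5140 := d41_1 D5140 (iv D5140) F19577
def n5141 : Q := act 8 n4096
theorem D5141 : act 8 n4096 = n5141 := rfl
theorem F24801 : act 0 n5141 = n4104 := d7_1 D5141 (iv D4104) (iv F19578)
theorem F24802 : act 1 n5141 = n5141 := d15_1 D5141 (iv D5141) F19579
theorem F24803 : act 3 n5141 = n5141 := d28_1 D5141 (iv D5141) F19580
theorem F24804 : act 4 n5141 = n5141 := d33_1 D5141 (iv D5141) F19581
theorem F24805 : act 6 n5141 = n5141 := d40_1 D5141 (iv D5141) F19583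
def n5142 : Q := act 8 n4097
theorem D5142 : act 8 n4097 = n5142 := rfl
theorem F24806 : act 0 n5142 = n4105 := d7_1 D5142 (iv D4105) (iv F19584)
theorem F24807 : act 1 n5142 = n5142 := d15_1 D5142 (iv D5142) F19585
theorem F24808 : act 3 n5142 = n5142 := d28_1 D5142 (iv D5142) F19586
theorem F24809 : act 4 n5142 = n4242 := d33_1 D5142 (iv D4242) (iv F19587)
theorem F24810 : act 6 n5142 = n5142 := d40_1 D5142 (iv D5142) F19588
theorem F24811 : act 7 n5142 = n4098 := d42_1 D5142 (iv D4098) (iv F19589)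
def n5143 : Q := act 5 n4098
theorem D5143 : act 5 n4098 = n5143 := rfl
theorem F24812 : act 0 n5143 = n4106 := d4_1 D5143 (iv D4106) (iv F19590)
theorem F24813 : act 1 n5143 = n5143 := d12_1 D5143 (iv D5143) F19591
theorem F24814 : act 3 n5143 = n5143 := d25_1 D5143 (iv D5143) F19592
def n5144 : Q := act 4 n4099
theorem D5144 : act 4 n4099 = n5144 := rfl
theorem F24815 : act 0 n5144 = n4107 := d3_1 D5144 (iv D4107) (iv F19595)
theorem F24816 : act 1 n5144 = n5144 := d11_1 D5144 (iv D5144) F19596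
theorem F24817 : act 5 n5144 = n4244 := d30_2 D4099 D5144 (iv D4244) (iv D3014) (iv F13966)
theorem F24818 : act 7 n5144 = n5144 := d32_2 F19598 D5144 (iv D5144)
theorem F24819 : act 8 n5144 = n5144 := d33_2 F19599 D5144 (iv D5144)
def n5145 : Q := act 6 n4099
theorem D5145 : act 6 n4099 = n5145 := rfl
theorem F24820 : act 0 n5145 = n4108 := d5_1 D5145 (iv D4108) (iv F19595)
theorem F24821 : act 1 n5145 = n5145 := d13_1 D5145 (iv D5145) F19596
theorem F24822 : act 3 n5145 = n5145 := d26_1 D5145 (iv D5145) F19597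
theorem F24823 : act 8 n5145 = n5145 := d40_2 F19599 D5145 (iv D5145)
def n5146 : Q := act 9 n4101
theorem D5146 : act 9 n4101 = n5146 := rfl
theorem F24824 : act 1 n5146 = n4111 := d16_1 D5146 (iv D4111) (iv F19605)
theorem F24825 : act 3 n5146 = n5146 := d29_1 D5146 (iv D5146) F19606
theorem F24826 : act 4 n5146 = n5146 := d34_1 D5146 (iv D5146) F19607
theorem F24827 : act 7 n5146 = n4103 := d43_1 D5146 (iv D4103) (iv F19608)
def n5147 : Q := act 8 n4102
theorem D5147 : act 8 n4102 = n5147 := rfl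
theorem F24828 : act 1 n5147 = n4112 := d15_1 D5147 (iv D4112) (iv F19609)
theorem F24829 : act 3 n5147 = n5147 := d28_1 D5147 (iv D5147) F19610
theorem F24830 : act 4 n5147 = n5147 := d33_1 D5147 (iv D5147) F19611
theorem F24831 : act 7 n5147 = n4104 := d42_1 D5147 (iv D4104) (iv F19613)
def n5148 : Q := act 8 n4103
theorem D5148 : act 8 n4103 = n5148 := rfl
theorem F24832 : act 1 n5148 = n4113 := d15_1 D5148 (iv D4113) (iv F19614)
theorem F24833 : act 3 n5148 = n5148 := d28_1 D5148 (iv D5148) F19615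
theorem F24834 : act 4 n5148 = n5148 := d33_1 D5148 (iv D5148) F19616
theorem F24835 : act 6 n5148 = n5148 := d40_1 D5148 (iv D5148) F19617
theorem F24836 : act 9 n5148 = n4104 := d44_2 D4103 D5148 (iv D4104) (iv D2877) D2876
def n5149 : Q := act 5 n4104
theorem D5149 : act 5 n4104 = n5149 := rfl
theorem F24837 : act 1 n5149 = n4114 := d12_1 D5149 (iv D4114) (iv F19618)
theorem F24838 : act 3 n5149 = n5149 := d25_1 D5149 (iv D5149) F19619
theorem F24839 : act 8 n5149 = n4106 := d37_2 D4104 D5149 (iv D4106) (iv D2879) (iv F13979)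
def n5150 : Q := act 5 n4105
theorem D5150 : act 5 n4105 = n5150 := rfl
theorem F24840 : act 1 n5150 = n4115 := d12_1 D5150 (iv D4115) (iv F19622)
theorem F24841 : act 3 n5150 = n5150 := d25_1 D5150 (iv D5150) F19623
theorem F24842 : act 7 n5150 = n4106 := d36_2 (iv F19626) D5150 (iv D4106)
def n5151 : Q := act 4 n4106
theorem D5151 : act 4 n4106 = n5151 := rfl
theorem F24843 : act 1 n5151 = n4116 := d11_1 D5151 (iv D4116) (iv F19627)
theorem F24844 : act 5 n5151 = n4247 := d30_2 D4106 D5151 (iv D4247) (iv D3016) (iv F13988)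
def n5152 : Q := act 6 n4106
theorem D5152 : act 6 n4106 = n5152 := rfl
theorem F24845 : act 1 n5152 = n4117 := d13_1 D5152 (iv D4117) (iv F19627)
theorem F24846 : act 3 n5152 = n5152 := d26_1 D5152 (iv D5152) F19628
theorem F24847 : act 5 n5152 = n4108 := d35_1 D5152 (iv D4108) (iv D2880) (iv F13989) D4106
def n5153 : Q := act 3 n4107
theorem D5153 : act 3 n4107 = n5153 := rfl
theorem F24848 : act 1 n5153 = n4118 := d10_1 D5153 (iv D4118) (iv F19629)
theorem F24850 : act 5 n5153 = n4249 := d25_2 (iv F19630) D5153 (iv D4249)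
def n5154 : Q := act 6 n4107
theorem D5154 : act 6 n4107 = n5154 := rfl
theorem F24853 : act 1 n5154 = n4119 := d13_1 D5154 (iv D4119) (iv F19629)
theorem F24854 : act 4 n5154 = n4108 := d31_1 D5154 (iv D4108) D4107
theorem F24855 : act 8 n5154 = n5154 := d40_2 F19632 D5154 (iv D5154)
def n5155 : Q := act 7 n4108
theorem D5155 : act 7 n4108 = n5155 := rfl
theorem F24856 : act 1 n5155 = n4120 := d14_1 D5155 (iv D4120) (iv F19633)
theorem F24857 : act 3 n5155 = n5155 := d27_1 D5155 (iv D5155) F19634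
theorem F24858 : act 6 n5155 = n5155 := d39_1 D5155 (iv D5155) (iv D4108) F13992 D4108
theorem F24859 : act 8 n5155 = n5155 := d42_2 F19635 D5155 (iv D5155)
def n5156 : Q := act 8 n4111
theorem D5156 : act 8 n4111 = n5156 := rfl
theorem F24860 : act 0 n5156 = n5156 := d7_1 D5156 (iv D5156) F19650
theorem F24861 : act 2 n5156 = n4124 := d22_1 D5156 (iv D4124) (iv F19651)
theorem F24862 : act 3 n5156 = n5156 := d28_1 D5156 (iv D5156) F19652
theorem F24863 : act 4 n5156 = n5156 := d33_1 D5156 (iv D5156) F19653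
theorem F24864 : act 7 n5156 = n4113 := d42_1 D5156 (iv D4113) (iv F19654)
theorem F24865 : act 9 n5156 = n4112 := d44_2 D4111 D5156 (iv D4112) (iv D2883) D2882
def n5157 : Q := act 5 n4112
theorem D5157 : act 5 n4112 = n5157 := rfl
theorem F24866 : act 0 n5157 = n5157 := d4_1 D5157 (iv D5157) F19655
theorem F24867 : act 2 n5157 = n4125 := d19_1 D5157 (iv D4125) (iv F19656)
theorem F24868 : act 3 n5157 = n5157 := d25_1 D5157 (iv D5157) F19657
theorem F24869 : act 7 n5157 = n4114 := d36_2 (iv F19659) D5157 (iv D4114)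
theorem F24870 : act 8 n5157 = n4115 := d37_2 D4112 D5157 (iv D4115) (iv D2886) (iv F14009)
def n5158 : Q := act 5 n4113
theorem D5158 : act 5 n4113 = n5158 := rfl
theorem F24871 : act 0 n5158 = n5158 := d4_1 D5158 (iv D5158) F19660
theorem F24872 : act 2 n5158 = n4126 := d19_1 D5158 (iv D4126) (iv F19661)
theorem F24873 : act 3 n5158 = n5158 := d25_1 D5158 (iv D5158) F19662
theorem F24874 : act 9 n5158 = n4114 := d38_2 (iv F19665) D5158 (iv D4114)
def n5159 : Q := act 4 n4114
theorem D5159 : act 4 n4114 = n5159 := rfl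
theorem F24875 : act 0 n5159 = n5159 := d3_1 D5159 (iv D5159) F19666
theorem F24876 : act 2 n5159 = n4127 := d18_1 D5159 (iv D4127) (iv F19667)
theorem F24877 : act 5 n5159 = n5159 := d30_2 D4114 D5159 (iv D5159) (iv D4114) F14019
theorem F24878 : act 8 n5159 = n4116 := d33_2 (iv F19669) D5159 (iv D4116)
def n5160 : Q := act 6 n4114
theorem D5160 : act 6 n4114 = n5160 := rfl
theorem F24879 : act 0 n5160 = n5160 := d5_1 D5160 (iv D5160) F19666
theorem F24880 : act 2 n5160 = n4128 := d20_1 D5160 (iv D4128) (iv F19667)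
theorem F24881 : act 3 n5160 = n5160 := d26_1 D5160 (iv D5160) F19668
theorem F24882 : act 5 n5160 = n5160 := d35_1 D5160 (iv D5160) (iv D4114) F14020 D4114
theorem F24883 : act 8 n5160 = n4117 := d40_2 (iv F19669) D5160 (iv D4117)
def n5161 : Q := act 4 n4115
theorem D5161 : act 4 n4115 = n5161 := rfl
theorem F24884 : act 0 n5161 = n5161 := d3_1 D5161 (iv D5161) F19670
theorem F24885 : act 2 n5161 = n4129 := d18_1 D5161 (iv D4129) (iv F19671)
theorem F24886 : act 5 n5161 = n4252 := d30_2 D4115 D5161 (iv D4252) (iv D3019) (iv F14024)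
theorem F24887 : act 7 n5161 = n4116 := d32_2 (iv F19673) D5161 (iv D4116)
def n5162 : Q := act 6 n4115
theorem D5162 : act 6 n4115 = n5162 := rfl
theorem F24888 : act 0 n5162 = n5162 := d5_1 D5162 (iv D5162) F19670
theorem F24889 : act 2 n5162 = n4130 := d20_1 D5162 (iv D4130) (iv F19671)
theorem F24890 : act 3 n5162 = n5162 := d26_1 D5162 (iv D5162) F19672
theorem F24891 : act 5 n5162 = n5162 := d35_1 D5162 (iv D5162) (iv D4115) F14025 D4115
def n5163 : Q := act 3 n4116
theorem D5163 : act 3 n4116 = n5163 := rfl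
theorem F24892 : act 0 n5163 = n5163 := d2_1 D5163 (iv D5163) F19674
theorem F24893 : act 4 n5163 = n5163 := d24_2 D4116 D5163 (iv D5163) (iv D4116) F14029
theorem F24894 : act 5 n5163 = n4254 := d25_2 (iv F19676) D5163 (iv D4254)
def n5164 : Q := act 6 n4116
theorem D5164 : act 6 n4116 = n5164 := rfl
theorem F24895 : act 0 n5164 = n5164 := d5_1 D5164 (iv D5164) F19674
theorem F24896 : act 2 n5164 = n4132 := d20_1 D5164 (iv D4132) (iv F19675)
theorem F24897 : act 4 n5164 = n4117 := d31_1 D5164 (iv D4117) D4116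
def n5165 : Q := act 7 n4117
theorem D5165 : act 7 n4117 = n5165 := rfl
theorem F24898 : act 0 n5165 = n5165 := d6_1 D5165 (iv D5165) F19677
theorem F24899 : act 2 n5165 = n4133 := d21_1 D5165 (iv D4133) (iv F19678)
theorem F24900 : act 3 n5165 = n5165 := d27_1 D5165 (iv D5165) F19679
theorem F24901 : act 5 n5165 = n4120 := d36_1 D5165 (iv D4120) (iv F19680)
def n5166 : Q := act 6 n4118
theorem D5166 : act 6 n4118 = n5166 := rfl
theorem F24902 : act 0 n5166 = n5166 := d5_1 D5166 (iv D5166) F19681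
theorem F24903 : act 2 n5166 = n5166 := d20_1 D5166 (iv D5166) F19682
theorem F24904 : act 3 n5166 = n4119 := d26_1 D5166 (iv D4119) D4118
theorem F24905 : act 4 n5166 = n5166 := d31_1 D5166 (iv D5166) F19683
theorem F24906 : act 8 n5166 = n5166 := d40_2 F19686 D5166 (iv D5166)
def n5167 : Q := act 5 n4119
theorem D5167 : act 5 n4119 = n5167 := rfl
theorem F24907 : act 0 n5167 = n5167 := d4_1 D5167 (iv D5167) F19687
theorem F24908 : act 2 n5167 = n4134 := d19_1 D5167 (iv D4134) (iv F19688)
def n5168 : Q := act 7 n4119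
theorem D5168 : act 7 n4119 = n5168 := rfl
theorem F24910 : act 0 n5168 = n5168 := d6_1 D5168 (iv D5168) F19687
theorem F24911 : act 2 n5168 = n4135 := d21_1 D5168 (iv D4135) (iv F19688)
theorem F24912 : act 4 n5168 = n4120 := d32_1 D5168 (iv D4120) (iv F19689)
theorem F24913 : act 6 n5168 = n5168 := d39_1 D5168 (iv D5168) (iv D4119) F14033 D4119
theorem F24914 : act 8 n5168 = n5168 := d42_2 F19690 D5168 (iv D5168)
def n5169 : Q := act 5 n4124
theorem D5169 : act 5 n4124 = n5169 := rfl
theorem F24915 : act 0 n5169 = n5169 := d4_1 D5169 (iv D5169) F19713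
theorem F24916 : act 3 n5169 = n4140 := d25_1 D5169 (iv D4140) (iv F19714)
theorem F24917 : act 7 n5169 = n4126 := d36_2 (iv F19716) D5169 (iv D4126)
theorem F24918 : act 9 n5169 = n4125 := d38_2 (iv F19717) D5169 (iv D4125)
def n5170 : Q := act 4 n4125
theorem D5170 : act 4 n4125 = n5170 := rfl
theorem F24919 : act 0 n5170 = n5170 := d3_1 D5170 (iv D5170) F19718
theorem F24920 : act 5 n5170 = n5170 := d30_2 D4125 D5170 (iv D5170) (iv D4125) F14056
theorem F24921 : act 7 n5170 = n4127 := d32_2 (iv F19720) D5170 (iv D4127)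
theorem F24922 : act 8 n5170 = n4129 := d33_2 (iv F19721) D5170 (iv D4129)
def n5171 : Q := act 6 n4125
theorem D5171 : act 6 n4125 = n5171 := rfl
theorem F24923 : act 0 n5171 = n5171 := d5_1 D5171 (iv D5171) F19718
theorem F24924 : act 3 n5171 = n4142 := d26_1 D5171 (iv D4142) (iv F19719)
theorem F24925 : act 8 n5171 = n4130 := d40_2 (iv F19721) D5171 (iv D4130)
def n5172 : Q := act 4 n4126
theorem D5172 : act 4 n4126 = n5172 := rfl
theorem F24926 : act 0 n5172 = n5172 := d3_1 D5172 (iv D5172) F19722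
theorem F24927 : act 5 n5172 = n5172 := d30_2 D4126 D5172 (iv D5172) (iv D4126) F14060
theorem F24928 : act 9 n5172 = n4127 := d34_2 (iv F19724) D5172 (iv D4127)
def n5173 : Q := act 6 n4126
theorem D5173 : act 6 n4126 = n5173 := rfl
theorem F24929 : act 0 n5173 = n5173 := d5_1 D5173 (iv D5173) F19722
theorem F24930 : act 3 n5173 = n4144 := d26_1 D5173 (iv D4144) (iv F19723)
theorem F24931 : act 5 n5173 = n5173 := d35_1 D5173 (iv D5173) (iv D4126) F14061 D4126
theorem F24932 : act 9 n5173 = n4128 := d41_2 (iv F19724) D5173 (iv D4128)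
def n5174 : Q := act 3 n4127
theorem D5174 : act 3 n4127 = n5174 := rfl
theorem F24933 : act 0 n5174 = n5174 := d2_1 D5174 (iv D5174) F19725
theorem F24934 : act 4 n5174 = n4145 := d24_2 D4127 D5174 (iv D4145) (iv D2907) (iv F14064)
theorem F24935 : act 5 n5174 = n5174 := d25_2 F19726 D5174 (iv D5174)
theorem F24936 : act 8 n5174 = n4131 := d28_2 (iv F19727) D5174 (iv D4131)
def n5175 : Q := act 6 n4127
theorem D5175 : act 6 n4127 = n5175 := rfl
theorem F24937 : act 0 n5175 = n5175 := d5_1 D5175 (iv D5175) F19725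
theorem F24938 : act 4 n5175 = n4128 := d31_1 D5175 (iv D4128) D4127
theorem F24939 : act 8 n5175 = n4132 := d40_2 (iv F19727) D5175 (iv D4132)
def n5176 : Q := act 7 n4128
theorem D5176 : act 7 n4128 = n5176 := rfl
theorem F24940 : act 0 n5176 = n5176 := d6_1 D5176 (iv D5176) F19728
theorem F24941 : act 3 n5176 = n4147 := d27_1 D5176 (iv D4147) (iv F19729)
theorem F24942 : act 5 n5176 = n5176 := d36_1 D5176 (iv D5176) F19730
theorem F24943 : act 8 n5176 = n4133 := d42_2 (iv F19731) D5176 (iv D4133)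
def n5177 : Q := act 3 n4129
theorem D5177 : act 3 n4129 = n5177 := rfl
theorem F24944 : act 0 n5177 = n5177 := d2_1 D5177 (iv D5177) F19732
theorem F24945 : act 4 n5177 = n4148 := d24_2 D4129 D5177 (iv D4148) (iv D2909) (iv F14067)
theorem F24946 : act 5 n5177 = n4260 := d25_2 (iv F19733) D5177 (iv D4260)
theorem F24947 : act 7 n5177 = n4131 := d27_2 (iv F19734) D5177 (iv D4131)
def n5178 : Q := act 6 n4129
theorem D5178 : act 6 n4129 = n5178 := rfl
theorem F24948 : act 0 n5178 = n5178 := d5_1 D5178 (iv D5178) F19732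
theorem F24949 : act 4 n5178 = n4130 := d31_1 D5178 (iv D4130) D4129
def n5179 : Q := act 7 n4130
theorem D5179 : act 7 n4130 = n5179 := rfl
theorem F24950 : act 0 n5179 = n5179 := d6_1 D5179 (iv D5179) F19735
theorem F24951 : act 3 n5179 = n4150 := d27_1 D5179 (iv D4150) (iv F19736)
theorem F24952 : act 5 n5179 = n5179 := d36_1 D5179 (iv D5179) F19737
theorem F24953 : act 6 n5179 = n4133 := d39_1 D5179 (iv D4133) (iv D2898) (iv F14068) D4130
def n5180 : Q := act 2 n4131
theorem D5180 : act 2 n4131 = n5180 := rfl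
theorem F24954 : act 0 n5180 = n5180 := d1_1 D5180 (iv D5180) F19738
theorem F24955 : act 4 n5180 = n4151 := d18_2 (iv F19739) D5180 (iv D4151)
theorem F24956 : act 5 n5180 = n4263 := d19_2 (iv F19740) D5180 (iv D4263)
def n5181 : Q := act 6 n4131
theorem D5181 : act 6 n4131 = n5181 := rfl
theorem F24957 : act 0 n5181 = n5181 := d5_1 D5181 (iv D5181) F19738
theorem F24958 : act 3 n5181 = n4132 := d26_1 D5181 (iv D4132) D4131
theorem F24959 : act 4 n5181 = n4152 := d31_1 D5181 (iv D4152) (iv F19739)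
def n5182 : Q := act 5 n4132
theorem D5182 : act 5 n4132 = n5182 := rfl
theorem F24960 : act 0 n5182 = n5182 := d4_1 D5182 (iv D5182) F19741
theorem F24961 : act 4 n5182 = n4134 := d30_1 D5182 (iv D4134) F14076 (iv F14073) (iv F19742)
theorem F24962 : act 6 n5182 = n4265 := d35_2 D4132 D5182 (iv D4265) (iv D3028) (iv F14070)
def n5183 : Q := act 7 n4132
theorem D5183 : act 7 n4132 = n5183 := rfl
theorem F24963 : act 0 n5183 = n5183 := d6_1 D5183 (iv D5183) F19741
theorem F24964 : act 4 n5183 = n4133 := d32_1 D5183 (iv D4133) (iv F19742)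
def n5184 : Q := act 7 n4134
theorem D5184 : act 7 n4134 = n5184 := rfl
theorem F24965 : act 0 n5184 = n5184 := d6_1 D5184 (iv D5184) F19746
theorem F24966 : act 3 n5184 = n5184 := d27_1 D5184 (iv D5184) F19747
theorem F24967 : act 5 n5184 = n4135 := d36_1 D5184 (iv D4135) D4134
def n5185 : Q := act 8 n4134
theorem D5185 : act 8 n4134 = n5185 := rfl
theorem F24968 : act 0 n5185 = n5185 := d7_1 D5185 (iv D5185) F19746
theorem F24969 : act 3 n5185 = n5185 := d28_1 D5185 (iv D5185) F19747
theorem F24970 : act 5 n5185 = n5185 := d37_1 D5185 (iv D5185) (iv D4134) F14077 D4134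
theorem F24971 : act 6 n5185 = n4268 := d40_1 D5185 (iv D4268) (iv F19748)
def n5186 : Q := act 4 n4140
theorem D5186 : act 4 n4140 = n5186 := rfl
theorem F24972 : act 0 n5186 = n5186 := d3_1 D5186 (iv D5186) F19775
theorem F24973 : act 2 n5186 = n5186 := d18_1 D5186 (iv D5186) F19776
theorem F24974 : act 5 n5186 = n4164 := d30_2 D4140 D5186 (iv D4164) (iv D2921) (iv F14098)
theorem F24975 : act 7 n5186 = n4143 := d32_2 (iv F19777) D5186 (iv D4143)
theorem F24976 : act 9 n5186 = n4141 := d34_2 (iv F19778) D5186 (iv D4141)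
def n5187 : Q := act 6 n4140
theorem D5187 : act 6 n4140 = n5187 := rfl
theorem F24977 : act 0 n5187 = n5187 := d5_1 D5187 (iv D5187) F19775
theorem F24978 : act 2 n5187 = n5187 := d20_1 D5187 (iv D5187) F19776
theorem F24979 : act 9 n5187 = n4142 := d41_2 (iv F19778) D5187 (iv D4142)
def n5188 : Q := act 3 n4141
theorem D5188 : act 3 n4141 = n5188 := rfl
theorem F24980 : act 0 n5188 = n5188 := d2_1 D5188 (iv D5188) F19779
theorem F24981 : act 5 n5188 = n4166 := d25_2 (iv F19781) D5188 (iv D4166)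
theorem F24982 : act 7 n5188 = n4145 := d27_2 (iv F19782) D5188 (iv D4145)
theorem F24983 : act 8 n5188 = n4148 := d28_2 (iv F19783) D5188 (iv D4148)
def n5189 : Q := act 6 n4141
theorem D5189 : act 6 n4141 = n5189 := rfl
theorem F24984 : act 0 n5189 = n5189 := d5_1 D5189 (iv D5189) F19779
theorem F24985 : act 2 n5189 = n5189 := d20_1 D5189 (iv D5189) F19780
theorem F24986 : act 4 n5189 = n4142 := d31_1 D5189 (iv D4142) D4141
theorem F24987 : act 5 n5189 = n5189 := d35_1 D5189 (iv D5189) F19781 F20292 (iv F19781)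
theorem F24988 : act 8 n5189 = n4149 := d40_2 (iv F19783) D5189 (iv D4149)
def n5190 : Q := act 7 n4142
theorem D5190 : act 7 n4142 = n5190 := rfl
theorem F24989 : act 0 n5190 = n5190 := d6_1 D5190 (iv D5190) F19784
theorem F24990 : act 2 n5190 = n5190 := d21_1 D5190 (iv D5190) F19785
theorem F24991 : act 6 n5190 = n4147 := d39_1 D5190 (iv D4147) (iv D2908) (iv F14103) D4142
theorem F24992 : act 8 n5190 = n4150 := d42_2 (iv F19786) D5190 (iv D4150)
def n5191 : Q := act 3 n4143
theorem D5191 : act 3 n4143 = n5191 := rfl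
theorem F24993 : act 0 n5191 = n5191 := d2_1 D5191 (iv D5191) F19787
theorem F24994 : act 5 n5191 = n4169 := d25_2 (iv F19789) D5191 (iv D4169)
theorem F24995 : act 9 n5191 = n4145 := d29_2 (iv F19790) D5191 (iv D4145)
def n5192 : Q := act 6 n4143
theorem D5192 : act 6 n4143 = n5192 := rfl
theorem F24996 : act 0 n5192 = n5192 := d5_1 D5192 (iv D5192) F19787
theorem F24997 : act 2 n5192 = n5192 := d20_1 D5192 (iv D5192) F19788
theorem F24998 : act 4 n5192 = n4144 := d31_1 D5192 (iv D4144) D4143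
theorem F24999 : act 9 n5192 = n4146 := d41_2 (iv F19790) D5192 (iv D4146)
def n5193 : Q := act 7 n4144
theorem D5193 : act 7 n4144 = n5193 := rfl
theorem F25000 : act 0 n5193 = n5193 := d6_1 D5193 (iv D5193) F19791
theorem F25001 : act 2 n5193 = n5193 := d21_1 D5193 (iv D5193) F19792
theorem F25002 : act 5 n5193 = n5193 := d36_1 D5193 (iv D5193) F19793
theorem F25003 : act 9 n5193 = n4147 := d43_2 (iv F19794) D5193 (iv D4147)
def n5194 : Q := act 2 n4145
theorem D5194 : act 2 n4145 = n5194 := rfl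
theorem F25004 : act 0 n5194 = n5194 := d1_1 D5194 (iv D5194) F19795
theorem F25005 : act 3 n5194 = n5194 := d17_2 D4145 D5194 (iv D5194) (iv D4145) F14109
theorem F25006 : act 5 n5194 = n4172 := d19_2 (iv F19796) D5194 (iv D4172)
theorem F25007 : act 8 n5194 = n4151 := d22_2 (iv F19797) D5194 (iv D4151)
def n5195 : Q := act 6 n4145
theorem D5195 : act 6 n4145 = n5195 := rfl
theorem F25008 : act 0 n5195 = n5195 := d5_1 D5195 (iv D5195) F19795
theorem F25009 : act 3 n5195 = n4146 := d26_1 D5195 (iv D4146) D4145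
theorem F25010 : act 8 n5195 = n4152 := d40_2 (iv F19797) D5195 (iv D4152)
def n5196 : Q := act 5 n4146
theorem D5196 : act 5 n4146 = n5196 := rfl
theorem F25011 : act 0 n5196 = n5196 := d4_1 D5196 (iv D5196) F19798
theorem F25012 : act 2 n5196 = n5196 := d19_1 D5196 (iv D5196) F19799
theorem F25013 : act 4 n5196 = n5196 := d30_1 D5196 (iv D5196) F19800 F14114 (iv F19800)
theorem F25014 : act 6 n5196 = n4174 := d35_2 D4146 D5196 (iv D4174) (iv D2927) (iv F14110)
theorem F25015 : act 8 n5196 = n5196 := d37_2 (iv F19801) D5196 (iv D5196) F19801 F14128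
def n5197 : Q := act 7 n4146
theorem D5197 : act 7 n4146 = n5197 := rfl
theorem F25016 : act 0 n5197 = n5197 := d6_1 D5197 (iv D5197) F19798
theorem F25017 : act 2 n5197 = n5197 := d21_1 D5197 (iv D5197) F19799
theorem F25018 : act 4 n5197 = n4147 := d32_1 D5197 (iv D4147) (iv F19800)
theorem F25019 : act 8 n5197 = n4153 := d42_2 (iv F19801) D5197 (iv D4153)
def n5198 : Q := act 2 n4148
theorem D5198 : act 2 n4148 = n5198 := rfl
theorem F25022 : act 5 n5198 = n4154 := d19_2 (iv F19807) D5198 (iv D4154)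
theorem F25023 : act 7 n5198 = n4151 := d21_2 (iv F19808) D5198 (iv D4151)
def n5199 : Q := act 6 n4148
theorem D5199 : act 6 n4148 = n5199 := rfl
theorem F25025 : act 3 n5199 = n4149 := d26_1 D5199 (iv D4149) D4148
def n5201 : Q := act 7 n4149
theorem D5201 : act 7 n4149 = n5201 := rfl
theorem F25031 : act 0 n5201 = n5201 := d6_1 D5201 (iv D5201) F19809
theorem F25032 : act 2 n5201 = n5201 := d21_1 D5201 (iv D5201) F19810
theorem F25033 : act 4 n5201 = n4150 := d32_1 D5201 (iv D4150) (iv F19811)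
theorem F25034 : act 6 n5201 = n4153 := d39_1 D5201 (iv D4153) (iv D2912) (iv F14119) D4149
def n5202 : Q := act 1 n4151
theorem D5202 : act 1 n4151 = n5202 := rfl
def n5203 : Q := act 6 n4151
theorem D5203 : act 6 n4151 = n5203 := rfl
theorem F25037 : act 0 n5203 = n5203 := d5_1 D5203 (iv D5203) F19816
theorem F25038 : act 2 n5203 = n4152 := d20_1 D5203 (iv D4152) D4151
theorem F25039 : act 3 n5203 = n5203 := d26_1 D5203 (iv D5203) F19817
theorem F25040 : act 5 n5203 = n5203 := d35_1 D5203 (iv D5203) F19818 F14144 (iv F19818)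
def n5204 : Q := act 7 n4152
theorem D5204 : act 7 n4152 = n5204 := rfl
theorem F25041 : act 0 n5204 = n5204 := d6_1 D5204 (iv D5204) F19819
theorem F25042 : act 3 n5204 = n4153 := d27_1 D5204 (iv D4153) (iv F19820)
theorem F25043 : act 5 n5204 = n5204 := d36_1 D5204 (iv D5204) F19821
def n5205 : Q := act 1 n4154
theorem D5205 : act 1 n4154 = n5205 := rfl
theorem F25045 : act 4 n5205 = n4276 := d11_2 (iv F19828) D5205 (iv D4276)
def n5206 : Q := act 6 n4154
theorem D5206 : act 6 n4154 = n5206 := rfl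
theorem F25051 : act 4 n5206 = n4277 := d31_1 D5206 (iv D4277) (iv F19828)
def n5207 : Q := act 5 n4155
theorem D5207 : act 5 n4155 = n5207 := rfl
def n5209 : Q := act 3 n4164
theorem D5209 : act 3 n4164 = n5209 := rfl
theorem F25063 : act 0 n5209 = n5209 := d2_1 D5209 (iv D5209) F19876
theorem F25064 : act 4 n5209 = n5209 := d24_2 D4164 D5209 (iv D5209) (iv D4164) F14170
theorem F25065 : act 6 n5209 = n5209 := d26_2 F20364 D5209 (iv D5209)
theorem F25066 : act 7 n5209 = n4169 := d27_2 (iv F19878) D5209 (iv D4169)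
theorem F25067 : act 8 n5209 = n5209 := d28_2 F19879 D5209 (iv D5209)
theorem F25068 : act 9 n5209 = n4166 := d29_2 (iv F19880) D5209 (iv D4166)
def n5210 : Q := act 2 n4166
theorem D5210 : act 2 n4166 = n5210 := rfl
theorem F25072 : act 6 n5210 = n5210 := d20_2 F20360 D5210 (iv D5210)
theorem F25073 : act 7 n5210 = n4172 := d21_2 (iv F19888) D5210 (iv D4172)
theorem F25074 : act 8 n5210 = n4176 := d22_2 (iv F19889) D5210 (iv D4176)
def n5211 : Q := act 2 n4169
theorem D5211 : act 2 n4169 = n5211 := rfl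
theorem F25075 : act 0 n5211 = n5211 := d1_1 D5211 (iv D5211) F19899
theorem F25076 : act 3 n5211 = n5211 := d17_2 D4169 D5211 (iv D5211) (iv D4169) F14183
theorem F25077 : act 4 n5211 = n5211 := d18_2 F19900 D5211 (iv D5211)
theorem F25078 : act 8 n5211 = n5211 := d22_2 F19901 D5211 (iv D5211)
theorem F25079 : act 9 n5211 = n4172 := d23_2 (iv F19902) D5211 (iv D4172)
def n5212 : Q := act 6 n4169
theorem D5212 : act 6 n4169 = n5212 := rfl
theorem F25080 : act 0 n5212 = n5212 := d5_1 D5212 (iv D5212) F19899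
theorem F25081 : act 3 n5212 = n4170 := d26_1 D5212 (iv D4170) D4169
theorem F25082 : act 4 n5212 = n5212 := d31_1 D5212 (iv D5212) F19900
theorem F25083 : act 7 n5212 = n5212 := d39_2 F25066 D5212 (iv D5212) (iv F25066) F25065
theorem F25084 : act 8 n5212 = n5212 := d40_2 F19901 D5212 (iv D5212)
theorem F25085 : act 9 n5212 = n4173 := d41_2 (iv F19902) D5212 (iv D4173)
def n5213 : Q := act 5 n4170
theorem D5213 : act 5 n4170 = n5213 := rfl
theorem F25086 : act 0 n5213 = n5213 := d4_1 D5213 (iv D5213) F19903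
theorem F25087 : act 2 n5213 = n5213 := d19_1 D5213 (iv D5213) F19904
theorem F25088 : act 4 n5213 = n5213 := d30_1 D5213 (iv D5213) F19905 F14189 (iv F19905)
theorem F25089 : act 7 n5213 = n5213 := d36_2 F20363 D5213 (iv D5213)
theorem F25090 : act 9 n5213 = n4174 := d38_2 (iv F19907) D5213 (iv D4174)
def n5214 : Q := act 1 n4172
theorem D5214 : act 1 n4172 = n5214 := rfl
theorem F25093 : act 8 n5214 = n4180 := d15_2 (iv F19917) D5214 (iv D4180)
def n5215 : Q := act 6 n4172
theorem D5215 : act 6 n4172 = n5215 := rfl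
theorem F25094 : act 0 n5215 = n5215 := d5_1 D5215 (iv D5215) F19914
theorem F25095 : act 2 n5215 = n4173 := d20_1 D5215 (iv D4173) D4172
theorem F25096 : act 3 n5215 = n5215 := d26_1 D5215 (iv D5215) F19915
theorem F25097 : act 4 n5215 = n5215 := d31_1 D5215 (iv D5215) F19916
theorem F25098 : act 7 n5215 = n5215 := d39_2 F25073 D5215 (iv D5215) (iv F25073) F25072
theorem F25099 : act 8 n5215 = n4181 := d40_2 (iv F19917) D5215 (iv D4181)
def n5216 : Q := act 5 n4173
theorem D5216 : act 5 n4173 = n5216 := rfl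
theorem F25100 : act 0 n5216 = n5216 := d4_1 D5216 (iv D5216) F19918
theorem F25101 : act 3 n5216 = n4174 := d25_1 D5216 (iv D4174) (iv F19919)
theorem F25102 : act 7 n5216 = n5216 := d36_2 F20359 D5216 (iv D5216)
theorem F25103 : act 8 n5216 = n5216 := d37_2 (iv F19921) D5216 (iv D5216) F19921 F14227
def n5217 : Q := act 1 n4176
theorem D5217 : act 1 n4176 = n5217 := rfl
theorem F25106 : act 5 n5217 = n4183 := d12_2 (iv F19933) D5217 (iv D4183)
theorem F25107 : act 6 n5217 = n5217 := d13_2 F20355 D5217 (iv D5217)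
theorem F25108 : act 7 n5217 = n4180 := d14_2 (iv F19934) D5217 (iv D4180)
def n5218 : Q := act 0 n4180
theorem D5218 : act 0 n4180 = n5218 := rfl
def n5219 : Q := act 6 n4180
theorem D5219 : act 6 n4180 = n5219 := rfl
def n5220 : Q := act 0 n4183
theorem D5220 : act 0 n4183 = n5220 := rfl
theorem F25123 : act 4 n5220 = n4281 := d3_2 (iv F19966) D5220 (iv D4281)
def n5221 : Q := act 6 n4183
theorem D5221 : act 6 n4183 = n5221 := rfl
theorem F25128 : act 4 n5221 = n4282 := d31_1 D5221 (iv D4282) (iv F19966)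
def n5222 : Q := act 8 n4189
theorem D5222 : act 8 n4189 = n5222 := rfl
theorem F25132 : act 0 n5222 = n4195 := d7_1 D5222 (iv D4195) (iv F20397)
theorem F25133 : act 1 n5222 = n5222 := d15_1 D5222 (iv D5222) F20398
theorem F25134 : act 3 n5222 = n4300 := d28_1 D5222 (iv D4300) (iv F20399)
theorem F25135 : act 6 n5222 = n5222 := d40_1 D5222 (iv D5222) F20401
theorem F25136 : act 9 n5222 = n5222 := d44_2 D4189 D5222 (iv D5222) (iv D4189) F14405
def n5223 : Q := act 8 n4190
theorem D5223 : act 8 n4190 = n5223 := rfl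
theorem F25137 : act 0 n5223 = n4196 := d7_1 D5223 (iv D4196) (iv F20402)
theorem F25138 : act 1 n5223 = n5223 := d15_1 D5223 (iv D5223) F20403
theorem F25139 : act 3 n5223 = n4301 := d28_1 D5223 (iv D4301) (iv F20404)
theorem F25140 : act 6 n5223 = n5223 := d40_1 D5223 (iv D5223) F20405
theorem F25141 : act 7 n5223 = n4191 := d42_1 D5223 (iv D4191) (iv F20406)
theorem F25142 : act 9 n5223 = n4242 := d44_2 D4190 D5223 (iv D4242) (iv D3012) (iv F14410)
def n5224 : Q := act 5 n4191
theorem D5224 : act 5 n4191 = n5224 := rfl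
theorem F25143 : act 0 n5224 = n4197 := d4_1 D5224 (iv D4197) (iv F20407)
theorem F25144 : act 1 n5224 = n5224 := d12_1 D5224 (iv D5224) F20408
theorem F25145 : act 3 n5224 = n4302 := d25_1 D5224 (iv D4302) (iv F20409)
theorem F25146 : act 9 n5224 = n4243 := d38_2 (iv F20411) D5224 (iv D4243)
def n5225 : Q := act 4 n4192
theorem D5225 : act 4 n4192 = n5225 := rfl
theorem F25147 : act 0 n5225 = n4198 := d3_1 D5225 (iv D4198) (iv F20412)
theorem F25148 : act 1 n5225 = n5225 := d11_1 D5225 (iv D5225) F20413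
theorem F25149 : act 7 n5225 = n5225 := d32_2 F20415 D5225 (iv D5225)
theorem F25150 : act 8 n5225 = n5225 := d33_2 F20416 D5225 (iv D5225)
theorem F25151 : act 9 n5225 = n4244 := d34_2 (iv F20417) D5225 (iv D4244)
def n5226 : Q := act 6 n4192
theorem D5226 : act 6 n4192 = n5226 := rfl
theorem F25152 : act 0 n5226 = n4199 := d5_1 D5226 (iv D4199) (iv F20412)
theorem F25154 : act 3 n5226 = n4304 := d26_1 D5226 (iv D4304) (iv F20414)
def n5227 : Q := act 8 n4193
theorem D5227 : act 8 n4193 = n5227 := rfl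
theorem F25157 : act 1 n5227 = n4202 := d15_1 D5227 (iv D4202) (iv F20418)
theorem F25158 : act 4 n5227 = n4195 := d33_1 D5227 (iv D4195) (iv F20419)
theorem F25159 : act 6 n5227 = n5227 := d40_1 D5227 (iv D5227) F20420
theorem F25160 : act 9 n5227 = n5227 := d44_2 D4193 D5227 (iv D5227) (iv D4193) F14422
def n5228 : Q := act 8 n4194
theorem D5228 : act 8 n4194 = n5228 := rfl
theorem F25161 : act 1 n5228 = n4204 := d15_1 D5228 (iv D4204) (iv F20421)
theorem F25162 : act 3 n5228 = n4306 := d28_1 D5228 (iv D4306) (iv F20422)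
theorem F25163 : act 7 n5228 = n4195 := d42_1 D5228 (iv D4195) (iv F20424)
theorem F25164 : act 9 n5228 = n5228 := d44_2 D4194 D5228 (iv D5228) (iv D4194) F14426
def n5229 : Q := act 5 n4195
theorem D5229 : act 5 n4195 = n5229 := rfl
theorem F25165 : act 1 n5229 = n4205 := d12_1 D5229 (iv D4205) (iv F20425)
theorem F25166 : act 3 n5229 = n4307 := d25_1 D5229 (iv D4307) (iv F20426)
theorem F25167 : act 8 n5229 = n4197 := d37_2 D4195 D5229 (iv D4197) (iv D2977) (iv F14429)
theorem F25168 : act 9 n5229 = n5229 := d38_2 F20428 D5229 (iv D5229)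
def n5230 : Q := act 5 n4196
theorem D5230 : act 5 n4196 = n5230 := rfl
theorem F25169 : act 1 n5230 = n4206 := d12_1 D5230 (iv D4206) (iv F20429)
theorem F25170 : act 3 n5230 = n4308 := d25_1 D5230 (iv D4308) (iv F20430)
theorem F25171 : act 7 n5230 = n4197 := d36_2 (iv F20432) D5230 (iv D4197)
theorem F25172 : act 9 n5230 = n4246 := d38_2 (iv F20433) D5230 (iv D4246)
def n5231 : Q := act 4 n4197
theorem D5231 : act 4 n4197 = n5231 := rfl
theorem F25173 : act 1 n5231 = n4207 := d11_1 D5231 (iv D4207) (iv F20434)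
theorem F25174 : act 9 n5231 = n4247 := d34_2 (iv F20436) D5231 (iv D4247)
def n5232 : Q := act 6 n4197
theorem D5232 : act 6 n4197 = n5232 := rfl
theorem F25175 : act 1 n5232 = n4208 := d13_1 D5232 (iv D4208) (iv F20434)
theorem F25176 : act 3 n5232 = n4310 := d26_1 D5232 (iv D4310) (iv F20435)
def n5233 : Q := act 3 n4198
theorem D5233 : act 3 n4198 = n5233 := rfl
theorem F25179 : act 1 n5233 = n4209 := d10_1 D5233 (iv D4209) (iv F20437)
theorem F25180 : act 4 n5233 = n4311 := d24_2 D4198 D5233 (iv D4311) (iv D3077) (iv F14440)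
def n5234 : Q := act 6 n4198
theorem D5234 : act 6 n4198 = n5234 := rfl
theorem F25184 : act 1 n5234 = n4210 := d13_1 D5234 (iv D4210) (iv F20437)
theorem F25187 : act 9 n5234 = n4250 := d41_2 (iv F20440) D5234 (iv D4250)
def n5235 : Q := act 7 n4199
theorem D5235 : act 7 n4199 = n5235 := rfl
theorem F25189 : act 3 n5235 = n4313 := d27_1 D5235 (iv D4313) (iv F20442)
def n5236 : Q := act 8 n4200
theorem D5236 : act 8 n4200 = n5236 := rfl
theorem F25193 : act 0 n5236 = n5236 := d7_1 D5236 (iv D5236) F20445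
theorem F25194 : act 2 n5236 = n5236 := d22_1 D5236 (iv D5236) F20446
theorem F25195 : act 3 n5236 = n4202 := d28_1 D5236 (iv D4202) (iv F20447)
theorem F25196 : act 4 n5236 = n4314 := d33_1 D5236 (iv D4314) (iv F20448)
theorem F25197 : act 6 n5236 = n5236 := d40_1 D5236 (iv D5236) F20449
theorem F25198 : act 9 n5236 = n5236 := d44_2 D4200 D5236 (iv D5236) (iv D4200) F14448
def n5237 : Q := act 8 n4201
theorem D5237 : act 8 n4201 = n5237 := rfl
theorem F25199 : act 0 n5237 = n5237 := d7_1 D5237 (iv D5237) F20450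
theorem F25200 : act 2 n5237 = n4213 := d22_1 D5237 (iv D4213) (iv F20451)
theorem F25201 : act 4 n5237 = n4204 := d33_1 D5237 (iv D4204) (iv F20452)
theorem F25202 : act 7 n5237 = n4202 := d42_1 D5237 (iv D4202) (iv F20453)
theorem F25203 : act 9 n5237 = n5237 := d44_2 D4201 D5237 (iv D5237) (iv D4201) F14452
def n5238 : Q := act 5 n4202
theorem D5238 : act 5 n4202 = n5238 := rfl
theorem F25204 : act 0 n5238 = n5238 := d4_1 D5238 (iv D5238) F20454
theorem F25205 : act 2 n5238 = n4214 := d19_1 D5238 (iv D4214) (iv F20455)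
theorem F25206 : act 9 n5238 = n5238 := d38_2 F20458 D5238 (iv D5238)
def n5239 : Q := act 8 n4203
theorem D5239 : act 8 n4203 = n5239 := rfl
theorem F25207 : act 0 n5239 = n5239 := d7_1 D5239 (iv D5239) F20459
theorem F25208 : act 2 n5239 = n4215 := d22_1 D5239 (iv D4215) (iv F20460)
theorem F25209 : act 3 n5239 = n4317 := d28_1 D5239 (iv D4317) (iv F20461)
theorem F25210 : act 6 n5239 = n4204 := d40_1 D5239 (iv D4204) (iv F20463)
theorem F25211 : act 7 n5239 = n5239 := d42_1 D5239 (iv D5239) F20464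
theorem F25212 : act 9 n5239 = n5239 := d44_2 D4203 D5239 (iv D5239) (iv D4203) F14462
def n5240 : Q := act 5 n4204
theorem D5240 : act 5 n4204 = n5240 := rfl
theorem F25213 : act 0 n5240 = n5240 := d4_1 D5240 (iv D5240) F20465
theorem F25214 : act 2 n5240 = n4216 := d19_1 D5240 (iv D4216) (iv F20466)
theorem F25215 : act 3 n5240 = n4318 := d25_1 D5240 (iv D4318) (iv F20467)
theorem F25216 : act 7 n5240 = n4205 := d36_2 (iv F20468) D5240 (iv D4205)
theorem F25217 : act 8 n5240 = n4206 := d37_2 D4204 D5240 (iv D4206) (iv D2985) (iv F14466)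
theorem F25218 : act 9 n5240 = n5240 := d38_2 F20469 D5240 (iv D5240)
def n5241 : Q := act 4 n4205
theorem D5241 : act 4 n4205 = n5241 := rfl
theorem F25219 : act 0 n5241 = n5241 := d3_1 D5241 (iv D5241) F20470
theorem F25220 : act 2 n5241 = n4217 := d18_1 D5241 (iv D4217) (iv F20471)
theorem F25221 : act 8 n5241 = n4207 := d33_2 (iv F20473) D5241 (iv D4207)
theorem F25222 : act 9 n5241 = n5241 := d34_2 F20474 D5241 (iv D5241)
def n5242 : Q := act 6 n4205
theorem D5242 : act 6 n4205 = n5242 := rfl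
theorem F25223 : act 0 n5242 = n5242 := d5_1 D5242 (iv D5242) F20470
theorem F25224 : act 2 n5242 = n4218 := d20_1 D5242 (iv D4218) (iv F20471)
theorem F25225 : act 3 n5242 = n4320 := d26_1 D5242 (iv D4320) (iv F20472)
theorem F25226 : act 5 n5242 = n5242 := d35_1 D5242 (iv D5242) (iv D4205) F14471 D4205
theorem F25227 : act 8 n5242 = n4208 := d40_2 (iv F20473) D5242 (iv D4208)
theorem F25228 : act 9 n5242 = n5242 := d41_2 F20474 D5242 (iv D5242)
def n5243 : Q := act 4 n4206
theorem D5243 : act 4 n4206 = n5243 := rfl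
theorem F25229 : act 0 n5243 = n5243 := d3_1 D5243 (iv D5243) F20475
theorem F25230 : act 2 n5243 = n4219 := d18_1 D5243 (iv D4219) (iv F20476)
theorem F25231 : act 7 n5243 = n4207 := d32_2 (iv F20478) D5243 (iv D4207)
theorem F25232 : act 9 n5243 = n4252 := d34_2 (iv F20479) D5243 (iv D4252)
def n5244 : Q := act 6 n4206
theorem D5244 : act 6 n4206 = n5244 := rfl
theorem F25233 : act 0 n5244 = n5244 := d5_1 D5244 (iv D5244) F20475
theorem F25234 : act 2 n5244 = n4220 := d20_1 D5244 (iv D4220) (iv F20476)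
theorem F25235 : act 3 n5244 = n4322 := d26_1 D5244 (iv D4322) (iv F20477)
theorem F25236 : act 5 n5244 = n5244 := d35_1 D5244 (iv D5244) (iv D4206) F14476 D4206
theorem F25237 : act 9 n5244 = n4253 := d41_2 (iv F20479) D5244 (iv D4253)
def n5245 : Q := act 3 n4207
theorem D5245 : act 3 n4207 = n5245 := rfl
theorem F25238 : act 0 n5245 = n5245 := d2_1 D5245 (iv D5245) F20480
theorem F25239 : act 4 n5245 = n4323 := d24_2 D4207 D5245 (iv D4323) (iv D3088) (iv F14481)
theorem F25240 : act 9 n5245 = n4254 := d29_2 (iv F20482) D5245 (iv D4254)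
def n5246 : Q := act 6 n4207
theorem D5246 : act 6 n4207 = n5246 := rfl
theorem F25241 : act 0 n5246 = n5246 := d5_1 D5246 (iv D5246) F20480
theorem F25242 : act 2 n5246 = n4222 := d20_1 D5246 (iv D4222) (iv F20481)
theorem F25243 : act 4 n5246 = n4208 := d31_1 D5246 (iv D4208) D4207
theorem F25244 : act 9 n5246 = n4255 := d41_2 (iv F20482) D5246 (iv D4255)
def n5247 : Q := act 7 n4208
theorem D5247 : act 7 n4208 = n5247 := rfl
theorem F25246 : act 2 n5247 = n4223 := d21_1 D5247 (iv D4223) (iv F20484)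
theorem F25247 : act 3 n5247 = n4325 := d27_1 D5247 (iv D4325) (iv F20485)
def n5248 : Q := act 6 n4209
theorem D5248 : act 6 n4209 = n5248 := rfl
theorem F25252 : act 3 n5248 = n4210 := d26_1 D5248 (iv D4210) D4209
theorem F25253 : act 4 n5248 = n4326 := d31_1 D5248 (iv D4326) (iv F20490)
def n5249 : Q := act 5 n4210
theorem D5249 : act 5 n4210 = n5249 := rfl
theorem F25257 : act 2 n5249 = n4224 := d19_1 D5249 (iv D4224) (iv F20495)
def n5250 : Q := act 7 n4210
theorem D5250 : act 7 n4210 = n5250 := rfl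
theorem F25260 : act 2 n5250 = n4225 := d21_1 D5250 (iv D4225) (iv F20495)
def n5251 : Q := act 8 n4212
theorem D5251 : act 8 n4212 = n5251 := rfl
theorem F25265 : act 0 n5251 = n5251 := d7_1 D5251 (iv D5251) F20505
theorem F25266 : act 3 n5251 = n5251 := d28_1 D5251 (iv D5251) F20506
theorem F25267 : act 4 n5251 = n4215 := d33_1 D5251 (iv D4215) (iv F20507)
theorem F25268 : act 6 n5251 = n4213 := d40_1 D5251 (iv D4213) (iv F20508)
theorem F25269 : act 7 n5251 = n5251 := d42_1 D5251 (iv D5251) F20509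
theorem F25270 : act 9 n5251 = n5251 := d44_2 D4212 D5251 (iv D5251) (iv D4212) F14497
def n5252 : Q := act 5 n4213
theorem D5252 : act 5 n4213 = n5252 := rfl
theorem F25271 : act 0 n5252 = n5252 := d4_1 D5252 (iv D5252) F20510
theorem F25272 : act 3 n5252 = n5252 := d25_1 D5252 (iv D5252) F20511
theorem F25273 : act 7 n5252 = n4214 := d36_2 (iv F20513) D5252 (iv D4214)
theorem F25274 : act 9 n5252 = n5252 := d38_2 F20514 D5252 (iv D5252)
def n5253 : Q := act 4 n4214
theorem D5253 : act 4 n4214 = n5253 := rfl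
theorem F25275 : act 0 n5253 = n5253 := d3_1 D5253 (iv D5253) F20515
theorem F25276 : act 5 n5253 = n4217 := d30_2 D4214 D5253 (iv D4217) (iv D2994) (iv F14504)
theorem F25277 : act 9 n5253 = n5253 := d34_2 F20517 D5253 (iv D5253)
def n5254 : Q := act 6 n4214
theorem D5254 : act 6 n4214 = n5254 := rfl
theorem F25278 : act 0 n5254 = n5254 := d5_1 D5254 (iv D5254) F20515
theorem F25279 : act 3 n5254 = n5254 := d26_1 D5254 (iv D5254) F20516
theorem F25280 : act 5 n5254 = n5254 := d35_1 D5254 (iv D5254) (iv D4214) F14505 D4214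
theorem F25281 : act 9 n5254 = n5254 := d41_2 F20517 D5254 (iv D5254)
def n5255 : Q := act 5 n4215
theorem D5255 : act 5 n4215 = n5255 := rfl
theorem F25282 : act 0 n5255 = n5255 := d4_1 D5255 (iv D5255) F20518
theorem F25283 : act 3 n5255 = n4226 := d25_1 D5255 (iv D4226) (iv F20519)
theorem F25284 : act 7 n5255 = n5255 := d36_2 F20521 D5255 (iv D5255)
theorem F25285 : act 8 n5255 = n5255 := d37_2 D4215 D5255 (iv D5255) (iv D4215) F14509
theorem F25286 : act 9 n5255 = n5255 := d38_2 F20522 D5255 (iv D5255)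
def n5256 : Q := act 4 n4216
theorem D5256 : act 4 n4216 = n5256 := rfl
theorem F25287 : act 0 n5256 = n5256 := d3_1 D5256 (iv D5256) F20523
theorem F25288 : act 7 n5256 = n4217 := d32_2 (iv F20525) D5256 (iv D4217)
theorem F25289 : act 8 n5256 = n4219 := d33_2 (iv F20526) D5256 (iv D4219)
theorem F25290 : act 9 n5256 = n5256 := d34_2 F20527 D5256 (iv D5256)
def n5257 : Q := act 6 n4216
theorem D5257 : act 6 n4216 = n5257 := rfl
theorem F25291 : act 0 n5257 = n5257 := d5_1 D5257 (iv D5257) F20523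
theorem F25292 : act 3 n5257 = n4228 := d26_1 D5257 (iv D4228) (iv F20524)
theorem F25293 : act 8 n5257 = n4220 := d40_2 (iv F20526) D5257 (iv D4220)
theorem F25294 : act 9 n5257 = n5257 := d41_2 F20527 D5257 (iv D5257)
def n5258 : Q := act 3 n4217
theorem D5258 : act 3 n4217 = n5258 := rfl
theorem F25295 : act 0 n5258 = n5258 := d2_1 D5258 (iv D5258) F20528
theorem F25296 : act 4 n5258 = n4229 := d24_2 D4217 D5258 (iv D4229) (iv D3002) (iv F14517)
theorem F25297 : act 8 n5258 = n4221 := d28_2 (iv F20529) D5258 (iv D4221)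
theorem F25298 : act 9 n5258 = n5258 := d29_2 F20530 D5258 (iv D5258)
def n5259 : Q := act 6 n4217
theorem D5259 : act 6 n4217 = n5259 := rfl
theorem F25299 : act 0 n5259 = n5259 := d5_1 D5259 (iv D5259) F20528
theorem F25300 : act 4 n5259 = n4218 := d31_1 D5259 (iv D4218) D4217
theorem F25301 : act 8 n5259 = n4222 := d40_2 (iv F20529) D5259 (iv D4222)
theorem F25302 : act 9 n5259 = n5259 := d41_2 F20530 D5259 (iv D5259)
def n5260 : Q := act 7 n4218
theorem D5260 : act 7 n4218 = n5260 := rfl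
theorem F25303 : act 0 n5260 = n5260 := d6_1 D5260 (iv D5260) F20531
theorem F25304 : act 3 n5260 = n4231 := d27_1 D5260 (iv D4231) (iv F20532)
theorem F25305 : act 5 n5260 = n5260 := d36_1 D5260 (iv D5260) F20533
theorem F25306 : act 8 n5260 = n4223 := d42_2 (iv F20534) D5260 (iv D4223)
theorem F25307 : act 9 n5260 = n5260 := d43_2 F20535 D5260 (iv D5260)
def n5261 : Q := act 3 n4219
theorem D5261 : act 3 n4219 = n5261 := rfl
theorem F25309 : act 4 n5261 = n4232 := d24_2 D4219 D5261 (iv D4232) (iv D3004) (iv F14521)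
theorem F25310 : act 7 n5261 = n4221 := d27_2 (iv F20537) D5261 (iv D4221)
theorem F25311 : act 9 n5261 = n4260 := d29_2 (iv F20538) D5261 (iv D4260)
def n5262 : Q := act 6 n4219
theorem D5262 : act 6 n4219 = n5262 := rfl
theorem F25313 : act 4 n5262 = n4220 := d31_1 D5262 (iv D4220) D4219
def n5263 : Q := act 7 n4220
theorem D5263 : act 7 n4220 = n5263 := rfl
theorem F25315 : act 0 n5263 = n5263 := d6_1 D5263 (iv D5263) F20539
theorem F25316 : act 3 n5263 = n4234 := d27_1 D5263 (iv D4234) (iv F20540)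
theorem F25317 : act 5 n5263 = n5263 := d36_1 D5263 (iv D5263) F20541
theorem F25318 : act 6 n5263 = n4223 := d39_1 D5263 (iv D4223) (iv D2997) (iv F14522) D4220
theorem F25319 : act 9 n5263 = n4262 := d43_2 (iv F20542) D5263 (iv D4262)
def n5264 : Q := act 2 n4221
theorem D5264 : act 2 n4221 = n5264 := rfl
theorem F25320 : act 0 n5264 = n5264 := d1_1 D5264 (iv D5264) F20543
theorem F25322 : act 9 n5264 = n4263 := d23_2 (iv F20545) D5264 (iv D4263)
def n5265 : Q := act 6 n4221
theorem D5265 : act 6 n4221 = n5265 := rfl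
theorem F25323 : act 0 n5265 = n5265 := d5_1 D5265 (iv D5265) F20543
theorem F25324 : act 3 n5265 = n4222 := d26_1 D5265 (iv D4222) D4221
theorem F25325 : act 4 n5265 = n4236 := d31_1 D5265 (iv D4236) (iv F20544)
theorem F25326 : act 9 n5265 = n4264 := d41_2 (iv F20545) D5265 (iv D4264)
def n5266 : Q := act 5 n4222
theorem D5266 : act 5 n4222 = n5266 := rfl
theorem F25327 : act 0 n5266 = n5266 := d4_1 D5266 (iv D5266) F20546
theorem F25328 : act 4 n5266 = n4224 := d30_1 D5266 (iv D4224) F14532 (iv F14528) (iv F20547)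
theorem F25329 : act 9 n5266 = n4265 := d38_2 (iv F20548) D5266 (iv D4265)
def n5267 : Q := act 7 n4222
theorem D5267 : act 7 n4222 = n5267 := rfl
theorem F25331 : act 4 n5267 = n4223 := d32_1 D5267 (iv D4223) (iv F20547)
def n5268 : Q := act 7 n4224
theorem D5268 : act 7 n4224 = n5268 := rfl
def n5269 : Q := act 8 n4224
theorem D5269 : act 8 n4224 = n5269 := rfl
theorem F25337 : act 0 n5269 = n5269 := d7_1 D5269 (iv D5269) F20553
theorem F25338 : act 3 n5269 = n5269 := d28_1 D5269 (iv D5269) F20554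
theorem F25339 : act 5 n5269 = n5269 := d37_1 D5269 (iv D5269) (iv D4224) F14533 D4224
def n5270 : Q := act 4 n4226
theorem D5270 : act 4 n4226 = n5270 := rfl
theorem F25340 : act 0 n5270 = n5270 := d3_1 D5270 (iv D5270) F20562
theorem F25341 : act 2 n5270 = n4348 := d18_1 D5270 (iv D4348) (iv F20563)
theorem F25342 : act 5 n5270 = n5270 := d30_2 D4226 D5270 (iv D5270) (iv D4226) F14542
theorem F25343 : act 7 n5270 = n5270 := d32_2 F20564 D5270 (iv D5270)
theorem F25344 : act 8 n5270 = n5270 := d33_2 F20565 D5270 (iv D5270)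
theorem F25345 : act 9 n5270 = n5270 := d34_2 F20566 D5270 (iv D5270)
def n5271 : Q := act 6 n4226
theorem D5271 : act 6 n4226 = n5271 := rfl
theorem F25346 : act 0 n5271 = n5271 := d5_1 D5271 (iv D5271) F20562
theorem F25347 : act 2 n5271 = n4349 := d20_1 D5271 (iv D4349) (iv F20563)
theorem F25348 : act 5 n5271 = n4228 := d35_1 D5271 (iv D4228) (iv D3001) (iv F14543) D4226
theorem F25349 : act 8 n5271 = n5271 := d40_2 F20565 D5271 (iv D5271)
theorem F25350 : act 9 n5271 = n5271 := d41_2 F20566 D5271 (iv D5271)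
def n5272 : Q := act 3 n4227
theorem D5272 : act 3 n4227 = n5272 := rfl
theorem F25353 : act 7 n5272 = n4229 := d27_2 (iv F20570) D5272 (iv D4229)
theorem F25354 : act 8 n5272 = n4232 := d28_2 (iv F20571) D5272 (iv D4232)
def n5273 : Q := act 6 n4227
theorem D5273 : act 6 n4227 = n5273 := rfl
theorem F25358 : act 4 n5273 = n4228 := d31_1 D5273 (iv D4228) D4227
theorem F25359 : act 8 n5273 = n4233 := d40_2 (iv F20571) D5273 (iv D4233)
def n5274 : Q := act 7 n4228
theorem D5274 : act 7 n4228 = n5274 := rfl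
theorem F25361 : act 0 n5274 = n5274 := d6_1 D5274 (iv D5274) F20573
theorem F25362 : act 2 n5274 = n4352 := d21_1 D5274 (iv D4352) (iv F20574)
theorem F25363 : act 6 n5274 = n4231 := d39_1 D5274 (iv D4231) (iv D3003) (iv F14548) D4228
theorem F25364 : act 8 n5274 = n4234 := d42_2 (iv F20575) D5274 (iv D4234)
theorem F25365 : act 9 n5274 = n5274 := d43_2 F20576 D5274 (iv D5274)
def n5275 : Q := act 2 n4229
theorem D5275 : act 2 n4229 = n5275 := rfl
def n5276 : Q := act 6 n4229
theorem D5276 : act 6 n4229 = n5276 := rfl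
theorem F25371 : act 0 n5276 = n5276 := d5_1 D5276 (iv D5276) F20577
theorem F25372 : act 3 n5276 = n4230 := d26_1 D5276 (iv D4230) D4229
theorem F25373 : act 8 n5276 = n4236 := d40_2 (iv F20579) D5276 (iv D4236)
theorem F25374 : act 9 n5276 = n5276 := d41_2 F20580 D5276 (iv D5276)
def n5277 : Q := act 5 n4230
theorem D5277 : act 5 n4230 = n5277 := rfl
theorem F25375 : act 0 n5277 = n5277 := d4_1 D5277 (iv D5277) F20581
theorem F25376 : act 2 n5277 = n4355 := d19_1 D5277 (iv D4355) (iv F20582)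
theorem F25377 : act 4 n5277 = n5277 := d30_1 D5277 (iv D5277) F20583 F14558 (iv F20583)
theorem F25378 : act 6 n5277 = n5277 := d35_2 D4230 D5277 (iv D5277) (iv D4230) F14553
theorem F25379 : act 8 n5277 = n5277 := d37_2 (iv F20584) D5277 (iv D5277) F20584 F14576
theorem F25380 : act 9 n5277 = n5277 := d38_2 F20585 D5277 (iv D5277)
def n5278 : Q := act 7 n4230
theorem D5278 : act 7 n4230 = n5278 := rfl
theorem F25381 : act 0 n5278 = n5278 := d6_1 D5278 (iv D5278) F20581
theorem F25382 : act 2 n5278 = n4356 := d21_1 D5278 (iv D4356) (iv F20582)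
theorem F25383 : act 4 n5278 = n4231 := d32_1 D5278 (iv D4231) (iv F20583)
theorem F25384 : act 8 n5278 = n4237 := d42_2 (iv F20584) D5278 (iv D4237)
theorem F25385 : act 9 n5278 = n5278 := d43_2 F20585 D5278 (iv D5278)
def n5279 : Q := act 2 n4232
theorem D5279 : act 2 n4232 = n5279 := rfl
theorem F25388 : act 5 n5279 = n4238 := d19_2 (iv F20592) D5279 (iv D4238)
theorem F25389 : act 7 n5279 = n4235 := d21_2 (iv F20593) D5279 (iv D4235)
theorem F25390 : act 9 n5279 = n4269 := d23_2 (iv F20594) D5279 (iv D4269)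
def n5280 : Q := act 6 n4232
theorem D5280 : act 6 n4232 = n5280 := rfl
def n5281 : Q := act 5 n4233
theorem D5281 : act 5 n4233 = n5281 := rfl
theorem F25397 : act 6 n5281 = n4240 := d35_2 D4233 D5281 (iv D4240) (iv D3010) (iv F14563)
def n5282 : Q := act 7 n4233
theorem D5282 : act 7 n4233 = n5282 := rfl
theorem F25401 : act 4 n5282 = n4234 := d32_1 D5282 (iv D4234) (iv F20597)
theorem F25402 : act 6 n5282 = n4237 := d39_1 D5282 (iv D4237) (iv D3007) (iv F14564) D4233
def n5283 : Q := act 1 n4235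
theorem D5283 : act 1 n4235 = n5283 := rfl
def n5285 : Q := act 7 n4236
theorem D5285 : act 7 n4236 = n5285 := rfl
theorem F25413 : act 3 n5285 = n4237 := d27_1 D5285 (iv D4237) (iv F20609)
def n5286 : Q := act 1 n4238
theorem D5286 : act 1 n4238 = n5286 := rfl
theorem F25416 : act 3 n5286 = n4364 := d10_2 (iv F20618) D5286 (iv D4364)
def n5287 : Q := act 6 n4238
theorem D5287 : act 6 n4238 = n5287 := rfl
theorem F25421 : act 2 n5287 = n4239 := d20_1 D5287 (iv D4239) D4238
theorem F25422 : act 3 n5287 = n4365 := d26_1 D5287 (iv D4365) (iv F20618)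
def n5288 : Q := act 5 n4239
theorem D5288 : act 5 n4239 = n5288 := rfl
def n5289 : Q := act 8 n4240
theorem D5289 : act 8 n4240 = n5289 := rfl
theorem F25431 : act 2 n5289 = n4367 := d22_1 D5289 (iv D4367) (iv F20628)
def n5291 : Q := act 5 n4242
theorem D5291 : act 5 n4242 = n5291 := rfl
theorem F25440 : act 0 n5291 = n4246 := d4_1 D5291 (iv D4246) (iv F20636)
theorem F25441 : act 1 n5291 = n5291 := d12_1 D5291 (iv D5291) F20637
theorem F25442 : act 3 n5291 = n4369 := d25_1 D5291 (iv D4369) (iv F20638)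
theorem F25443 : act 7 n5291 = n4243 := d36_2 (iv F20640) D5291 (iv D4243)
theorem F25444 : act 8 n5291 = n5291 := d37_2 D4242 D5291 (iv D5291) (iv D4242) F14600
def n5292 : Q := act 4 n4243
theorem D5292 : act 4 n4243 = n5292 := rfl
theorem F25445 : act 0 n5292 = n4247 := d3_1 D5292 (iv D4247) (iv F20641)
theorem F25446 : act 1 n5292 = n5292 := d11_1 D5292 (iv D5292) F20642
theorem F25447 : act 8 n5292 = n5292 := d33_2 F20644 D5292 (iv D5292)
def n5293 : Q := act 6 n4243
theorem D5293 : act 6 n4243 = n5293 := rfl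
theorem F25450 : act 3 n5293 = n4371 := d26_1 D5293 (iv D4371) (iv F20643)
theorem F25451 : act 5 n5293 = n4245 := d35_1 D5293 (iv D4245) (iv D3014) (iv F14606) D4243
def n5294 : Q := act 3 n4244
theorem D5294 : act 3 n4244 = n5294 := rfl
theorem F25453 : act 0 n5294 = n4249 := d2_1 D5294 (iv D4249) (iv F20645)
theorem F25455 : act 4 n5294 = n4372 := d24_2 D4244 D5294 (iv D4372) (iv D3126) (iv F14609)
theorem F25457 : act 8 n5294 = n4286 := d28_2 (iv F20648) D5294 (iv D4286)
def n5295 : Q := act 6 n4244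
theorem D5295 : act 6 n4244 = n5295 := rfl
theorem F25458 : act 0 n5295 = n4250 := d5_1 D5295 (iv D4250) (iv F20645)
theorem F25460 : act 4 n5295 = n4245 := d31_1 D5295 (iv D4245) D4244
def n5296 : Q := act 7 n4245
theorem D5296 : act 7 n4245 = n5296 := rfl
theorem F25464 : act 3 n5296 = n4374 := d27_1 D5296 (iv D4374) (iv F20651)
def n5297 : Q := act 4 n4246
theorem D5297 : act 4 n4246 = n5297 := rfl
theorem F25467 : act 1 n5297 = n4252 := d11_1 D5297 (iv D4252) (iv F20653)
theorem F25468 : act 7 n5297 = n4247 := d32_2 (iv F20655) D5297 (iv D4247)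
theorem F25469 : act 8 n5297 = n5297 := d33_2 F20656 D5297 (iv D5297)
def n5298 : Q := act 6 n4246
theorem D5298 : act 6 n4246 = n5298 := rfl
theorem F25470 : act 1 n5298 = n4253 := d13_1 D5298 (iv D4253) (iv F20653)
def n5299 : Q := act 3 n4247
theorem D5299 : act 3 n4247 = n5299 := rfl
theorem F25474 : act 1 n5299 = n4254 := d10_1 D5299 (iv D4254) (iv F20657)
theorem F25475 : act 4 n5299 = n4377 := d24_2 D4247 D5299 (iv D4377) (iv D3129) (iv F14617)
def n5300 : Q := act 6 n4247
theorem D5300 : act 6 n4247 = n5300 := rfl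
theorem F25477 : act 1 n5300 = n4255 := d13_1 D5300 (iv D4255) (iv F20657)
def n5301 : Q := act 7 n4248
theorem D5301 : act 7 n4248 = n5301 := rfl
theorem F25481 : act 3 n5301 = n4379 := d27_1 D5301 (iv D4379) (iv F20660)
def n5302 : Q := act 2 n4249
theorem D5302 : act 2 n4249 = n5302 := rfl
theorem F25485 : act 4 n5302 = n4380 := d18_2 (iv F20664) D5302 (iv D4380)
theorem F25487 : act 8 n5302 = n4289 := d22_2 (iv F20666) D5302 (iv D4289)
def n5303 : Q := act 6 n4249
theorem D5303 : act 6 n4249 = n5303 := rfl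
theorem F25489 : act 3 n5303 = n4250 := d26_1 D5303 (iv D4250) D4249
theorem F25490 : act 4 n5303 = n4381 := d31_1 D5303 (iv D4381) (iv F20664)
def n5304 : Q := act 5 n4250
theorem D5304 : act 5 n4250 = n5304 := rfl
def n5305 : Q := act 7 n4250
theorem D5305 : act 7 n4250 = n5305 := rfl
def n5306 : Q := act 3 n4252
theorem D5306 : act 3 n4252 = n5306 := rfl
theorem F25497 : act 0 n5306 = n5306 := d2_1 D5306 (iv D5306) F20674
theorem F25498 : act 4 n5306 = n4384 := d24_2 D4252 D5306 (iv D4384) (iv D3134) (iv F14627)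
theorem F25499 : act 7 n5306 = n4254 := d27_2 (iv F20676) D5306 (iv D4254)
theorem F25500 : act 8 n5306 = n5306 := d28_2 F20677 D5306 (iv D5306)
def n5307 : Q := act 6 n4252
theorem D5307 : act 6 n4252 = n5307 := rfl
theorem F25501 : act 0 n5307 = n5307 := d5_1 D5307 (iv D5307) F20674
theorem F25503 : act 4 n5307 = n4253 := d31_1 D5307 (iv D4253) D4252
theorem F25504 : act 8 n5307 = n5307 := d40_2 F20677 D5307 (iv D5307)
def n5308 : Q := act 7 n4253
theorem D5308 : act 7 n4253 = n5308 := rfl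
theorem F25506 : act 2 n5308 = n4262 := d21_1 D5308 (iv D4262) (iv F20679)
theorem F25509 : act 6 n5308 = n4256 := d39_1 D5308 (iv D4256) (iv D3021) (iv F14628) D4253
theorem F25510 : act 8 n5308 = n5308 := d42_2 F20682 D5308 (iv D5308)
def n5309 : Q := act 2 n4254
theorem D5309 : act 2 n4254 = n5309 := rfl
theorem F25512 : act 3 n5309 = n4263 := d17_2 D4254 D5309 (iv D4263) (iv D3027) (iv F14631)
theorem F25513 : act 4 n5309 = n4387 := d18_2 (iv F20684) D5309 (iv D4387)
def n5310 : Q := act 6 n4254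
theorem D5310 : act 6 n4254 = n5310 := rfl
theorem F25516 : act 3 n5310 = n4255 := d26_1 D5310 (iv D4255) D4254
theorem F25517 : act 4 n5310 = n4388 := d31_1 D5310 (iv D4388) (iv F20684)
def n5311 : Q := act 5 n4255
theorem D5311 : act 5 n4255 = n5311 := rfl
theorem F25520 : act 2 n5311 = n4265 := d19_1 D5311 (iv D4265) (iv F20687)
def n5312 : Q := act 7 n4255
theorem D5312 : act 7 n4255 = n5312 := rfl
theorem F25523 : act 2 n5312 = n4266 := d21_1 D5312 (iv D4266) (iv F20687)
def n5313 : Q := act 5 n4257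
theorem D5313 : act 5 n4257 = n5313 := rfl
theorem F25528 : act 3 n5313 = n4258 := d25_1 D5313 (iv D4258) (iv F20697)
def n5314 : Q := act 7 n4257
theorem D5314 : act 7 n4257 = n5314 := rfl
theorem F25531 : act 3 n5314 = n4259 := d27_1 D5314 (iv D4259) (iv F20697)
theorem F25532 : act 4 n5314 = n4392 := d32_1 D5314 (iv D4392) (iv F20698)
def n5315 : Q := act 7 n4258
theorem D5315 : act 7 n4258 = n5315 := rfl
theorem F25536 : act 2 n5315 = n4267 := d21_1 D5315 (iv D4267) (iv F20701)
def n5316 : Q := act 8 n4258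
theorem D5316 : act 8 n4258 = n5316 := rfl
theorem F25539 : act 2 n5316 = n4268 := d22_1 D5316 (iv D4268) (iv F20701)
def n5317 : Q := act 2 n4260
theorem D5317 : act 2 n4260 = n5317 := rfl
theorem F25542 : act 4 n5317 = n4269 := d18_2 (iv F20708) D5317 (iv D4269)
theorem F25543 : act 7 n5317 = n4263 := d21_2 (iv F20709) D5317 (iv D4263)
def n5318 : Q := act 6 n4260
theorem D5318 : act 6 n4260 = n5318 := rfl
theorem F25546 : act 3 n5318 = n4261 := d26_1 D5318 (iv D4261) D4260
theorem F25547 : act 4 n5318 = n4270 := d31_1 D5318 (iv D4270) (iv F20708)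
def n5319 : Q := act 5 n4261
theorem D5319 : act 5 n4261 = n5319 := rfl
def n5320 : Q := act 7 n4261
theorem D5320 : act 7 n4261 = n5320 := rfl
theorem F25552 : act 4 n5320 = n4262 := d32_1 D5320 (iv D4262) (iv F20712)
def n5321 : Q := act 1 n4263
theorem D5321 : act 1 n4263 = n5321 := rfl
theorem F25555 : act 4 n5321 = n4273 := d11_2 (iv F20720) D5321 (iv D4273)
def n5322 : Q := act 6 n4263
theorem D5322 : act 6 n4263 = n5322 := rfl
theorem F25558 : act 2 n5322 = n4264 := d20_1 D5322 (iv D4264) D4263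
def n5323 : Q := act 5 n4264
theorem D5323 : act 5 n4264 = n5323 := rfl
theorem F25561 : act 0 n5323 = n5323 := d4_1 D5323 (iv D5323) F20722
theorem F25562 : act 3 n5323 = n4265 := d25_1 D5323 (iv D4265) (iv F20723)
theorem F25563 : act 4 n5323 = n5323 := d30_1 D5323 (iv D5323) F20724 F14695 (iv F20724)
def n5324 : Q := act 7 n4264
theorem D5324 : act 7 n4264 = n5324 := rfl
def n5325 : Q := act 7 n4265
theorem D5325 : act 7 n4265 = n5325 := rfl
def n5326 : Q := act 8 n4265
theorem D5326 : act 8 n4265 = n5326 := rfl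
theorem F25571 : act 0 n5326 = n5326 := d7_1 D5326 (iv D5326) F20726
theorem F25572 : act 4 n5326 = n4268 := d33_1 D5326 (iv D4268) (iv F20727)
theorem F25573 : act 5 n5326 = n5326 := d37_1 D5326 (iv D5326) (iv D4265) F14664 D4265
def n5327 : Q := act 6 n4267
theorem D5327 : act 6 n4267 = n5327 := rfl
def n5328 : Q := act 8 n4267
theorem D5328 : act 8 n4267 = n5328 := rfl
theorem F25580 : act 7 n5328 = n4268 := d42_1 D5328 (iv D4268) D4267
def n5329 : Q := act 9 n4268
theorem D5329 : act 9 n4268 = n5329 := rfl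
theorem F25581 : act 0 n5329 = n5329 := d8_1 D5329 (iv D5329) F20734
theorem F25582 : act 3 n5329 = n5329 := d29_1 D5329 (iv D5329) F20735
theorem F25583 : act 5 n5329 = n4299 := d38_1 D5329 (iv D4299) (iv F20736)
def n5330 : Q := act 1 n4269
theorem D5330 : act 1 n4269 = n5330 := rfl
theorem F25584 : act 3 n5330 = n4408 := d10_2 (iv F20738) D5330 (iv D4408)
theorem F25585 : act 5 n5330 = n4276 := d12_2 (iv F20739) D5330 (iv D4276)
def n5331 : Q := act 6 n4269
theorem D5331 : act 6 n4269 = n5331 := rfl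
theorem F25589 : act 2 n5331 = n4270 := d20_1 D5331 (iv D4270) D4269
theorem F25590 : act 3 n5331 = n4409 := d26_1 D5331 (iv D4409) (iv F20738)
def n5332 : Q := act 5 n4270
theorem D5332 : act 5 n4270 = n5332 := rfl
theorem F25594 : act 6 n5332 = n4278 := d35_2 D4270 D5332 (iv D4278) (iv D3039) (iv F14677)
def n5333 : Q := act 7 n4270
theorem D5333 : act 7 n4270 = n5333 := rfl
theorem F25596 : act 3 n5333 = n4272 := d27_1 D5333 (iv D4272) (iv F20743)
theorem F25597 : act 6 n5333 = n4275 := d39_1 D5333 (iv D4275) (iv D3036) (iv F14678) D4270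
def n5334 : Q := act 7 n4271
theorem D5334 : act 7 n4271 = n5334 := rfl
theorem F25602 : act 5 n5334 = n4272 := d36_1 D5334 (iv D4272) D4271
theorem F25603 : act 6 n5334 = n5334 := d39_1 D5334 (iv D5334) F20748 F14713 (iv F20748)
def n5335 : Q := act 8 n4271
theorem D5335 : act 8 n4271 = n5335 := rfl
theorem F25605 : act 2 n5335 = n4413 := d22_1 D5335 (iv D4413) (iv F20746)
theorem F25608 : act 6 n5335 = n4279 := d40_1 D5335 (iv D4279) (iv F20748)
def n5337 : Q := act 6 n4273
theorem D5337 : act 6 n4273 = n5337 := rfl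
theorem F25613 : act 1 n5337 = n4274 := d13_1 D5337 (iv D4274) D4273
def n5338 : Q := act 7 n4274
theorem D5338 : act 7 n4274 = n5338 := rfl
def n5339 : Q := act 0 n4276
theorem D5339 : act 0 n4276 = n5339 := rfl
theorem F25623 : act 3 n5339 = n4417 := d2_2 (iv F20766) D5339 (iv D4417)
def n5340 : Q := act 6 n4276
theorem D5340 : act 6 n4276 = n5340 := rfl
theorem F25627 : act 3 n5340 = n4418 := d26_1 D5340 (iv D4418) (iv F20766)
def n5341 : Q := act 5 n4277
theorem D5341 : act 5 n4277 = n5341 := rfl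
theorem F25631 : act 2 n5341 = n4278 := d19_1 D5341 (iv D4278) (iv F20770)
theorem F25632 : act 3 n5341 = n4419 := d25_1 D5341 (iv D4419) (iv F20771)
def n5342 : Q := act 4 n4278
theorem D5342 : act 4 n4278 = n5342 := rfl
def n5343 : Q := act 8 n4278
theorem D5343 : act 8 n4278 = n5343 := rfl
def n5344 : Q := act 9 n4279
theorem D5344 : act 9 n4279 = n5344 := rfl
theorem F25642 : act 2 n5344 = n4422 := d23_1 D5344 (iv D4422) (iv F20778)
def n5345 : Q := act 6 n4281
theorem D5345 : act 6 n4281 = n5345 := rfl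
theorem F25648 : act 3 n5345 = n4423 := d26_1 D5345 (iv D4423) (iv F20787)
def n5346 : Q := act 5 n4282
theorem D5346 : act 5 n4282 = n5346 := rfl
theorem F25652 : act 3 n5346 = n4424 := d25_1 D5346 (iv D4424) (iv F20792)
def n5347 : Q := act 8 n4283
theorem D5347 : act 8 n4283 = n5347 := rfl
theorem F25658 : act 2 n5347 = n4284 := d22_1 D5347 (iv D4284) (iv F20796)
theorem F25659 : act 3 n5347 = n4426 := d28_1 D5347 (iv D4426) (iv F20797)
def n5348 : Q := act 9 n4284
theorem D5348 : act 9 n4284 = n5348 := rfl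
def n5349 : Q := act 2 n4286
theorem D5349 : act 2 n4286 = n5349 := rfl
theorem F25669 : act 0 n5349 = n4289 := d1_1 D5349 (iv D4289) (iv F20813)
theorem F25670 : act 4 n5349 = n4431 := d18_2 (iv F20815) D5349 (iv D4431)
theorem F25671 : act 5 n5349 = n5349 := d19_2 F20816 D5349 (iv D5349)
def n5350 : Q := act 6 n4286
theorem D5350 : act 6 n4286 = n5350 := rfl
theorem F25676 : act 3 n5350 = n4287 := d26_1 D5350 (iv D4287) D4286
theorem F25677 : act 4 n5350 = n4432 := d31_1 D5350 (iv D4432) (iv F20815)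
def n5351 : Q := act 5 n4287
theorem D5351 : act 5 n4287 = n5351 := rfl
def n5352 : Q := act 7 n4287
theorem D5352 : act 7 n4287 = n5352 := rfl
def n5353 : Q := act 6 n4289
theorem D5353 : act 6 n4289 = n5353 := rfl
theorem F25690 : act 2 n5353 = n4290 := d20_1 D5353 (iv D4290) D4289
theorem F25691 : act 4 n5353 = n4435 := d31_1 D5353 (iv D4435) (iv F20830)
def n5354 : Q := act 5 n4290
theorem D5354 : act 5 n4290 = n5354 := rfl
theorem F25694 : act 3 n5354 = n4291 := d25_1 D5354 (iv D4291) (iv F20835)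
def n5355 : Q := act 7 n4290
theorem D5355 : act 7 n4290 = n5355 := rfl
theorem F25698 : act 3 n5355 = n4292 := d27_1 D5355 (iv D4292) (iv F20835)
theorem F25699 : act 4 n5355 = n4437 := d32_1 D5355 (iv D4437) (iv F20836)
def n5356 : Q := act 7 n4291
theorem D5356 : act 7 n4291 = n5356 := rfl
def n5358 : Q := act 4 n4293
theorem D5358 : act 4 n4293 = n5358 := rfl
theorem F25712 : act 5 n5358 = n4440 := d30_2 D4293 D5358 (iv D4440) (iv D3182) (iv F14799)
def n5359 : Q := act 7 n4293
theorem D5359 : act 7 n4293 = n5359 := rfl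
theorem F25717 : act 3 n5359 = n4295 := d27_1 D5359 (iv D4295) (iv F20848)
def n5361 : Q := act 6 n4295
theorem D5361 : act 6 n4295 = n5361 := rfl
theorem F25725 : act 2 n5361 = n4297 := d20_1 D5361 (iv D4297) (iv F20858)
def n5362 : Q := act 8 n4295
theorem D5362 : act 8 n4295 = n5362 := rfl
theorem F25731 : act 2 n5362 = n4298 := d22_1 D5362 (iv D4298) (iv F20858)
def n5363 : Q := act 9 n4296
theorem D5363 : act 9 n4296 = n5363 := rfl
theorem F25735 : act 2 n5363 = n4299 := d23_1 D5363 (iv D4299) (iv F20863)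
def n5364 : Q := act 8 n4297
theorem D5364 : act 8 n4297 = n5364 := rfl
def n5365 : Q := act 9 n4298
theorem D5365 : act 9 n4298 = n5365 := rfl
theorem F25747 : act 7 n5365 = n4299 := d43_1 D5365 (iv D4299) (iv F20875)
def n5366 : Q := act 5 n4300
theorem D5366 : act 5 n4300 = n5366 := rfl
theorem F25749 : act 0 n5366 = n4307 := d4_1 D5366 (iv D4307) (iv F20881)
theorem F25750 : act 1 n5366 = n5366 := d12_1 D5366 (iv D5366) F20882
theorem F25751 : act 2 n5366 = n5366 := d19_1 D5366 (iv D5366) F20883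
theorem F25752 : act 8 n5366 = n4302 := d37_2 D4300 D5366 (iv D4302) (iv D3067) (iv F14834)
theorem F25753 : act 9 n5366 = n5366 := d38_2 F20885 D5366 (iv D5366)
def n5367 : Q := act 5 n4301
theorem D5367 : act 5 n4301 = n5367 := rfl
theorem F25754 : act 0 n5367 = n4308 := d4_1 D5367 (iv D4308) (iv F20886)
theorem F25755 : act 1 n5367 = n5367 := d12_1 D5367 (iv D5367) F20887
theorem F25756 : act 2 n5367 = n5367 := d19_1 D5367 (iv D5367) F20888
theorem F25757 : act 7 n5367 = n4302 := d36_2 (iv F20891) D5367 (iv D4302)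
theorem F25758 : act 9 n5367 = n4369 := d38_2 (iv F20892) D5367 (iv D4369)
def n5368 : Q := act 4 n4302
theorem D5368 : act 4 n4302 = n5368 := rfl
theorem F25763 : act 9 n5368 = n4370 := d34_2 (iv F20896) D5368 (iv D4370)
def n5369 : Q := act 6 n4302
theorem D5369 : act 6 n4302 = n5369 := rfl
theorem F25767 : act 5 n5369 = n4304 := d35_1 D5369 (iv D4304) (iv D3068) (iv F14846) D4302
def n5370 : Q := act 3 n4303
theorem D5370 : act 3 n4303 = n5370 := rfl
theorem F25774 : act 9 n5370 = n4372 := d29_2 (iv F20903) D5370 (iv D4372)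
def n5371 : Q := act 6 n4303
theorem D5371 : act 6 n4303 = n5371 := rfl
theorem F25778 : act 4 n5371 = n4304 := d31_1 D5371 (iv D4304) D4303
theorem F25780 : act 9 n5371 = n4373 := d41_2 (iv F20903) D5371 (iv D4373)
def n5372 : Q := act 7 n4304
theorem D5372 : act 7 n4304 = n5372 := rfl
def n5373 : Q := act 5 n4305
theorem D5373 : act 5 n4305 = n5373 := rfl
theorem F25787 : act 1 n5373 = n4316 := d12_1 D5373 (iv D4316) (iv F20909)
theorem F25788 : act 2 n5373 = n5373 := d19_1 D5373 (iv D5373) F20910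
theorem F25789 : act 8 n5373 = n5373 := d37_2 D4305 D5373 (iv D5373) (iv D4305) F14866
theorem F25790 : act 9 n5373 = n5373 := d38_2 F20913 D5373 (iv D5373)
def n5374 : Q := act 5 n4306
theorem D5374 : act 5 n4306 = n5374 := rfl
theorem F25791 : act 1 n5374 = n4318 := d12_1 D5374 (iv D4318) (iv F20914)
theorem F25792 : act 2 n5374 = n5374 := d19_1 D5374 (iv D5374) F20915
theorem F25793 : act 7 n5374 = n4307 := d36_2 (iv F20916) D5374 (iv D4307)
theorem F25794 : act 8 n5374 = n4308 := d37_2 D4306 D5374 (iv D4308) (iv D3075) (iv F14875)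
theorem F25795 : act 9 n5374 = n5374 := d38_2 F20917 D5374 (iv D5374)
def n5375 : Q := act 4 n4307
theorem D5375 : act 4 n4307 = n5375 := rfl
theorem F25798 : act 8 n5375 = n4309 := d33_2 (iv F20920) D5375 (iv D4309)
def n5376 : Q := act 6 n4307
theorem D5376 : act 6 n4307 = n5376 := rfl
theorem F25803 : act 8 n5376 = n4310 := d40_2 (iv F20920) D5376 (iv D4310)
def n5377 : Q := act 4 n4308
theorem D5377 : act 4 n4308 = n5377 := rfl
theorem F25805 : act 1 n5377 = n4321 := d11_1 D5377 (iv D4321) (iv F20922)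
theorem F25808 : act 7 n5377 = n4309 := d32_2 (iv F20924) D5377 (iv D4309)
theorem F25809 : act 9 n5377 = n4375 := d34_2 (iv F20925) D5377 (iv D4375)
def n5379 : Q := act 3 n4309
theorem D5379 : act 3 n4309 = n5379 := rfl
theorem F25816 : act 9 n5379 = n4377 := d29_2 (iv F20929) D5379 (iv D4377)
def n5380 : Q := act 6 n4309
theorem D5380 : act 6 n4309 = n5380 := rfl
theorem F25819 : act 4 n5380 = n4310 := d31_1 D5380 (iv D4310) D4309
def n5381 : Q := act 7 n4310
theorem D5381 : act 7 n4310 = n5381 := rfl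
def n5382 : Q := act 2 n4311
theorem D5382 : act 2 n4311 = n5382 := rfl
theorem F25830 : act 9 n5382 = n4380 := d23_2 (iv F20938) D5382 (iv D4380)
def n5383 : Q := act 6 n4311
theorem D5383 : act 6 n4311 = n5383 := rfl
theorem F25832 : act 3 n5383 = n4312 := d26_1 D5383 (iv D4312) D4311
theorem F25834 : act 9 n5383 = n4381 := d41_2 (iv F20938) D5383 (iv D4381)
def n5384 : Q := act 5 n4312
theorem D5384 : act 5 n4312 = n5384 := rfl
theorem F25838 : act 9 n5384 = n4382 := d38_2 (iv F20943) D5384 (iv D4382)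
def n5385 : Q := act 7 n4312
theorem D5385 : act 7 n4312 = n5385 := rfl
theorem F25841 : act 4 n5385 = n4313 := d32_1 D5385 (iv D4313) (iv F20941)
def n5386 : Q := act 5 n4314
theorem D5386 : act 5 n4314 = n5386 := rfl
theorem F25845 : act 0 n5386 = n5386 := d4_1 D5386 (iv D5386) F20949
theorem F25846 : act 2 n5386 = n5386 := d19_1 D5386 (iv D5386) F20950
theorem F25847 : act 3 n5386 = n4316 := d25_1 D5386 (iv D4316) (iv F20951)
theorem F25848 : act 8 n5386 = n5386 := d37_2 D4314 D5386 (iv D5386) (iv D4314) F14908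
theorem F25849 : act 9 n5386 = n5386 := d38_2 F20953 D5386 (iv D5386)
def n5387 : Q := act 5 n4315
theorem D5387 : act 5 n4315 = n5387 := rfl
theorem F25850 : act 0 n5387 = n5387 := d4_1 D5387 (iv D5387) F20954
theorem F25851 : act 2 n5387 = n4330 := d19_1 D5387 (iv D4330) (iv F20955)
theorem F25852 : act 6 n5387 = n5387 := d35_2 F21717 D5387 (iv D5387) (iv F21717) F21716
theorem F25853 : act 7 n5387 = n4316 := d36_2 (iv F20957) D5387 (iv D4316)
theorem F25854 : act 8 n5387 = n5387 := d37_2 D4315 D5387 (iv D5387) (iv D4315) F14918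
theorem F25855 : act 9 n5387 = n5387 := d38_2 F20958 D5387 (iv D5387)
def n5388 : Q := act 4 n4316
theorem D5388 : act 4 n4316 = n5388 := rfl
theorem F25857 : act 2 n5388 = n4331 := d18_1 D5388 (iv D4331) (iv F20960)
theorem F25858 : act 5 n5388 = n4319 := d30_2 D4316 D5388 (iv D4319) (iv D3086) (iv F14922)
def n5389 : Q := act 6 n4316
theorem D5389 : act 6 n4316 = n5389 := rfl
theorem F25862 : act 2 n5389 = n4332 := d20_1 D5389 (iv D4332) (iv F20960)
def n5390 : Q := act 5 n4317
theorem D5390 : act 5 n4317 = n5390 := rfl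
theorem F25867 : act 0 n5390 = n5390 := d4_1 D5390 (iv D5390) F20963
theorem F25868 : act 2 n5390 = n4333 := d19_1 D5390 (iv D4333) (iv F20964)
theorem F25869 : act 4 n5390 = n5390 := d30_1 D5390 (iv D5390) (iv F21715) F21716 F21715
theorem F25870 : act 7 n5390 = n5390 := d36_2 F20966 D5390 (iv D5390)
theorem F25871 : act 8 n5390 = n5390 := d37_2 D4317 D5390 (iv D5390) (iv D4317) F14927
theorem F25872 : act 9 n5390 = n5390 := d38_2 F20967 D5390 (iv D5390)
def n5391 : Q := act 4 n4318
theorem D5391 : act 4 n4318 = n5391 := rfl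
theorem F25874 : act 2 n5391 = n4334 := d18_1 D5391 (iv D4334) (iv F20969)
theorem F25875 : act 7 n5391 = n4319 := d32_2 (iv F20970) D5391 (iv D4319)
theorem F25876 : act 8 n5391 = n4321 := d33_2 (iv F20971) D5391 (iv D4321)
def n5392 : Q := act 6 n4318
theorem D5392 : act 6 n4318 = n5392 := rfl
theorem F25879 : act 2 n5392 = n4335 := d20_1 D5392 (iv D4335) (iv F20969)
def n5393 : Q := act 3 n4319
theorem D5393 : act 3 n4319 = n5393 := rfl
theorem F25883 : act 8 n5393 = n4323 := d28_2 (iv F20975) D5393 (iv D4323)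
def n5394 : Q := act 6 n4319
theorem D5394 : act 6 n4319 = n5394 := rfl
theorem F25887 : act 4 n5394 = n4320 := d31_1 D5394 (iv D4320) D4319
theorem F25888 : act 8 n5394 = n4324 := d40_2 (iv F20975) D5394 (iv D4324)
def n5395 : Q := act 7 n4320
theorem D5395 : act 7 n4320 = n5395 := rfl
def n5396 : Q := act 3 n4321
theorem D5396 : act 3 n4321 = n5396 := rfl
theorem F25897 : act 7 n5396 = n4323 := d27_2 (iv F20985) D5396 (iv D4323)
theorem F25898 : act 9 n5396 = n4384 := d29_2 (iv F20986) D5396 (iv D4384)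
def n5398 : Q := act 7 n4322
theorem D5398 : act 7 n4322 = n5398 := rfl
theorem F25904 : act 2 n5398 = n4341 := d21_1 D5398 (iv D4341) (iv F20988)
theorem F25906 : act 6 n5398 = n4325 := d39_1 D5398 (iv D4325) (iv D3089) (iv F14940) D4322
def n5399 : Q := act 2 n4323
theorem D5399 : act 2 n4323 = n5399 := rfl
theorem F25911 : act 9 n5399 = n4387 := d23_2 (iv F20993) D5399 (iv D4387)
def n5400 : Q := act 6 n4323
theorem D5400 : act 6 n4323 = n5400 := rfl
theorem F25913 : act 3 n5400 = n4324 := d26_1 D5400 (iv D4324) D4323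
def n5401 : Q := act 5 n4324
theorem D5401 : act 5 n4324 = n5401 := rfl
theorem F25917 : act 4 n5401 = n4327 := d30_1 D5401 (iv D4327) F14958 (iv F14948) (iv F20996)
def n5402 : Q := act 7 n4324
theorem D5402 : act 7 n4324 = n5402 := rfl
theorem F25922 : act 4 n5402 = n4325 := d32_1 D5402 (iv D4325) (iv F20996)
def n5403 : Q := act 5 n4326
theorem D5403 : act 5 n4326 = n5403 := rfl
theorem F25926 : act 3 n5403 = n4327 := d25_1 D5403 (iv D4327) (iv F21004)
theorem F25928 : act 9 n5403 = n4391 := d38_2 (iv F21006) D5403 (iv D4391)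
def n5404 : Q := act 7 n4326
theorem D5404 : act 7 n4326 = n5404 := rfl
def n5405 : Q := act 7 n4327
theorem D5405 : act 7 n4327 = n5405 := rfl
theorem F25937 : act 5 n5405 = n4328 := d36_1 D5405 (iv D4328) D4327
theorem F25938 : act 9 n5405 = n4393 := d43_2 (iv F21010) D5405 (iv D4393)
def n5406 : Q := act 8 n4327
theorem D5406 : act 8 n4327 = n5406 := rfl
def n5407 : Q := act 4 n4330
theorem D5407 : act 4 n4330 = n5407 := rfl
theorem F25943 : act 0 n5407 = n5407 := d3_1 D5407 (iv D5407) F21025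
theorem F25944 : act 1 n5407 = n5407 := d11_1 D5407 (iv D5407) F21026
theorem F25945 : act 5 n5407 = n4334 := d30_2 D4330 D5407 (iv D4334) (iv D3098) (iv F14981)
theorem F25946 : act 6 n5407 = n5407 := d31_2 F21028 D5407 (iv D5407)
theorem F25947 : act 7 n5407 = n4331 := d32_2 (iv F21029) D5407 (iv D4331)
theorem F25948 : act 8 n5407 = n5407 := d33_2 F21030 D5407 (iv D5407)
theorem F25949 : act 9 n5407 = n5407 := d34_2 F21031 D5407 (iv D5407)
def n5408 : Q := act 3 n4331
theorem D5408 : act 3 n4331 = n5408 := rfl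
theorem F25950 : act 0 n5408 = n5408 := d2_1 D5408 (iv D5408) F21032
theorem F25951 : act 1 n5408 = n5408 := d10_1 D5408 (iv D5408) F21033
theorem F25952 : act 4 n5408 = n5408 := d24_2 D4331 D5408 (iv D5408) (iv D4331) F14986
theorem F25953 : act 5 n5408 = n4336 := d25_2 (iv F21034) D5408 (iv D4336)
theorem F25954 : act 8 n5408 = n5408 := d28_2 F21035 D5408 (iv D5408)
theorem F25955 : act 9 n5408 = n5408 := d29_2 F21036 D5408 (iv D5408)
def n5409 : Q := act 6 n4331
theorem D5409 : act 6 n4331 = n5409 := rfl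
theorem F25958 : act 4 n5409 = n4332 := d31_1 D5409 (iv D4332) D4331
def n5410 : Q := act 6 n4333
theorem D5410 : act 6 n4333 = n5410 := rfl
theorem F25966 : act 5 n5410 = n4335 := d35_1 D5410 (iv D4335) (iv D3098) (iv F14992) D4333
def n5411 : Q := act 3 n4334
theorem D5411 : act 3 n4334 = n5411 := rfl
theorem F25971 : act 4 n5411 = n4350 := d24_2 D4334 D5411 (iv D4350) (iv D3109) (iv F14997)
theorem F25972 : act 7 n5411 = n4336 := d27_2 (iv F21053) D5411 (iv D4336)
theorem F25973 : act 8 n5411 = n4339 := d28_2 (iv F21054) D5411 (iv D4339)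
def n5412 : Q := act 6 n4334
theorem D5412 : act 6 n4334 = n5412 := rfl
def n5413 : Q := act 7 n4335
theorem D5413 : act 7 n4335 = n5413 := rfl
theorem F25984 : act 6 n5413 = n4338 := d39_1 D5413 (iv D4338) (iv D3100) (iv F14998) D4335
theorem F25985 : act 8 n5413 = n4341 := d42_2 (iv F21059) D5413 (iv D4341)
def n5414 : Q := act 2 n4336
theorem D5414 : act 2 n4336 = n5414 := rfl
theorem F25988 : act 4 n5414 = n4353 := d18_2 (iv F21063) D5414 (iv D4353)
theorem F25989 : act 8 n5414 = n4342 := d22_2 (iv F21064) D5414 (iv D4342)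
def n5415 : Q := act 6 n4336
theorem D5415 : act 6 n4336 = n5415 := rfl
theorem F25994 : act 4 n5415 = n4354 := d31_1 D5415 (iv D4354) (iv F21063)
theorem F25995 : act 8 n5415 = n4343 := d40_2 (iv F21064) D5415 (iv D4343)
def n5416 : Q := act 5 n4337
theorem D5416 : act 5 n4337 = n5416 := rfl
def n5417 : Q := act 7 n4337
theorem D5417 : act 7 n4337 = n5417 := rfl
theorem F26003 : act 4 n5417 = n4338 := d32_1 D5417 (iv D4338) (iv F21068)
theorem F26004 : act 8 n5417 = n4345 := d42_2 (iv F21069) D5417 (iv D4345)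
def n5418 : Q := act 2 n4339
theorem D5418 : act 2 n4339 = n5418 := rfl
theorem F26007 : act 4 n5418 = n4357 := d18_2 (iv F21079) D5418 (iv D4357)
theorem F26009 : act 7 n5418 = n4342 := d21_2 (iv F21081) D5418 (iv D4342)
theorem F26010 : act 9 n5418 = n4395 := d23_2 (iv F21082) D5418 (iv D4395)
def n5419 : Q := act 6 n4339
theorem D5419 : act 6 n4339 = n5419 := rfl
theorem F26013 : act 3 n5419 = n4340 := d26_1 D5419 (iv D4340) D4339
theorem F26014 : act 4 n5419 = n4358 := d31_1 D5419 (iv D4358) (iv F21079)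
def n5421 : Q := act 7 n4340
theorem D5421 : act 7 n4340 = n5421 := rfl
theorem F26025 : act 6 n5421 = n4345 := d39_1 D5421 (iv D4345) (iv D3104) (iv F15014) D4340
def n5422 : Q := act 1 n4342
theorem D5422 : act 1 n4342 = n5422 := rfl
theorem F26030 : act 9 n5422 = n4399 := d16_2 (iv F21096) D5422 (iv D4399)
def n5423 : Q := act 6 n4342
theorem D5423 : act 6 n4342 = n5423 := rfl
theorem F26032 : act 2 n5423 = n4343 := d20_1 D5423 (iv D4343) D4342
theorem F26034 : act 9 n5423 = n4400 := d41_2 (iv F21096) D5423 (iv D4400)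
def n5424 : Q := act 5 n4343
theorem D5424 : act 5 n4343 = n5424 := rfl
theorem F26037 : act 3 n5424 = n4344 := d25_1 D5424 (iv D4344) (iv F21099)
def n5425 : Q := act 7 n4343
theorem D5425 : act 7 n4343 = n5425 := rfl
theorem F26044 : act 4 n5425 = n4363 := d32_1 D5425 (iv D4363) (iv F21100)
def n5426 : Q := act 7 n4344
theorem D5426 : act 7 n4344 = n5426 := rfl
theorem F26048 : act 4 n5426 = n4346 := d32_1 D5426 (iv D4346) (iv F21104)
theorem F26049 : act 5 n5426 = n4345 := d36_1 D5426 (iv D4345) D4344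
def n5427 : Q := act 8 n4344
theorem D5427 : act 8 n4344 = n5427 := rfl
def n5428 : Q := act 6 n4346
theorem D5428 : act 6 n4346 = n5428 := rfl
theorem F26060 : act 9 n5428 = n4405 := d41_2 (iv F21115) D5428 (iv D4405)
def n5429 : Q := act 8 n4346
theorem D5429 : act 8 n4346 = n5429 := rfl
theorem F26065 : act 7 n5429 = n4347 := d42_1 D5429 (iv D4347) D4346
def n5430 : Q := act 9 n4347
theorem D5430 : act 9 n4347 = n5430 := rfl
def n5431 : Q := act 6 n4348
theorem D5431 : act 6 n4348 = n5431 := rfl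
theorem F26075 : act 4 n5431 = n4349 := d31_1 D5431 (iv D4349) D4348
def n5432 : Q := act 7 n4349
theorem D5432 : act 7 n4349 = n5432 := rfl
def n5433 : Q := act 2 n4350
theorem D5433 : act 2 n4350 = n5433 := rfl
theorem F26086 : act 7 n5433 = n4353 := d21_2 (iv F21136) D5433 (iv D4353)
theorem F26087 : act 8 n5433 = n4357 := d22_2 (iv F21137) D5433 (iv D4357)
def n5434 : Q := act 6 n4350
theorem D5434 : act 6 n4350 = n5434 := rfl
theorem F26092 : act 8 n5434 = n4358 := d40_2 (iv F21137) D5434 (iv D4358)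
def n5435 : Q := act 5 n4351
theorem D5435 : act 5 n4351 = n5435 := rfl
def n5436 : Q := act 7 n4351
theorem D5436 : act 7 n4351 = n5436 := rfl
theorem F26100 : act 4 n5436 = n4352 := d32_1 D5436 (iv D4352) (iv F21141)
theorem F26101 : act 6 n5436 = n4356 := d39_1 D5436 (iv D4356) (iv D3112) (iv F15055) D4351
def n5438 : Q := act 6 n4353
theorem D5438 : act 6 n4353 = n5438 := rfl
theorem F26110 : act 8 n5438 = n4362 := d40_2 (iv F21151) D5438 (iv D4362)
def n5439 : Q := act 5 n4354
theorem D5439 : act 5 n4354 = n5439 := rfl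
theorem F26114 : act 3 n5439 = n4355 := d25_1 D5439 (iv D4355) (iv F21155)
def n5440 : Q := act 7 n4354
theorem D5440 : act 7 n4354 = n5440 := rfl
theorem F26121 : act 8 n5440 = n4363 := d42_2 (iv F21156) D5440 (iv D4363)
def n5441 : Q := act 7 n4355
theorem D5441 : act 7 n4355 = n5441 := rfl
theorem F26126 : act 5 n5441 = n4356 := d36_1 D5441 (iv D4356) D4355
def n5442 : Q := act 1 n4357
theorem D5442 : act 1 n4357 = n5442 := rfl
theorem F26130 : act 5 n5442 = n4364 := d12_2 (iv F21170) D5442 (iv D4364)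
theorem F26132 : act 9 n5442 = n4408 := d16_2 (iv F21172) D5442 (iv D4408)
def n5443 : Q := act 6 n4357
theorem D5443 : act 6 n4357 = n5443 := rfl
def n5444 : Q := act 5 n4358
theorem D5444 : act 5 n4358 = n5444 := rfl
theorem F26139 : act 6 n5444 = n4366 := d35_2 D4358 D5444 (iv D4366) (iv D3121) (iv F15079)
def n5445 : Q := act 7 n4358
theorem D5445 : act 7 n4358 = n5445 := rfl
theorem F26144 : act 6 n5445 = n4363 := d39_1 D5445 (iv D4363) (iv D3118) (iv F15080) D4358
def n5446 : Q := act 7 n4359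
theorem D5446 : act 7 n4359 = n5446 := rfl
theorem F26149 : act 5 n5446 = n4360 := d36_1 D5446 (iv D4360) D4359
def n5447 : Q := act 8 n4359
theorem D5447 : act 8 n4359 = n5447 := rfl
theorem F26155 : act 6 n5447 = n4367 := d40_1 D5447 (iv D4367) (iv F21180)
def n5450 : Q := act 7 n4362
theorem D5450 : act 7 n4362 = n5450 := rfl
def n5451 : Q := act 0 n4364
theorem D5451 : act 0 n4364 = n5451 := rfl
theorem F26173 : act 9 n5451 = n4417 := d8_2 (iv F21203) D5451 (iv D4417)
def n5452 : Q := act 6 n4364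
theorem D5452 : act 6 n4364 = n5452 := rfl
theorem F26179 : act 9 n5452 = n4418 := d41_2 (iv F21203) D5452 (iv D4418)
def n5453 : Q := act 5 n4365
theorem D5453 : act 5 n4365 = n5453 := rfl
theorem F26183 : act 9 n5453 = n4419 := d38_2 (iv F21209) D5453 (iv D4419)
def n5454 : Q := act 4 n4366
theorem D5454 : act 4 n4366 = n5454 := rfl
theorem F26189 : act 9 n5454 = n4420 := d34_2 (iv F21214) D5454 (iv D4420)
def n5455 : Q := act 8 n4366
theorem D5455 : act 8 n4366 = n5455 := rfl
theorem F26192 : act 3 n5455 = n4367 := d28_1 D5455 (iv D4367) (iv F21212)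
def n5456 : Q := act 9 n4367
theorem D5456 : act 9 n4367 = n5456 := rfl
def n5457 : Q := act 4 n4369
theorem D5457 : act 4 n4369 = n5457 := rfl
theorem F26201 : act 0 n5457 = n4375 := d3_1 D5457 (iv D4375) (iv F21226)
theorem F26203 : act 2 n5457 = n5457 := d18_1 D5457 (iv D5457) F21228
theorem F26205 : act 7 n5457 = n4370 := d32_2 (iv F21229) D5457 (iv D4370)
def n5458 : Q := act 6 n4369
theorem D5458 : act 6 n4369 = n5458 := rfl
theorem F26207 : act 0 n5458 = n4376 := d5_1 D5458 (iv D4376) (iv F21226)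
def n5459 : Q := act 3 n4370
theorem D5459 : act 3 n4370 = n5459 := rfl
def n5460 : Q := act 6 n4370
theorem D5460 : act 6 n4370 = n5460 := rfl
theorem F26219 : act 4 n5460 = n4371 := d31_1 D5460 (iv D4371) D4370
def n5461 : Q := act 7 n4371
theorem D5461 : act 7 n4371 = n5461 := rfl
def n5462 : Q := act 2 n4372
theorem D5462 : act 2 n4372 = n5462 := rfl
theorem F26230 : act 8 n5462 = n4431 := d22_2 (iv F21245) D5462 (iv D4431)
def n5463 : Q := act 6 n4372
theorem D5463 : act 6 n4372 = n5463 := rfl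
theorem F26233 : act 3 n5463 = n4373 := d26_1 D5463 (iv D4373) D4372
theorem F26234 : act 8 n5463 = n4432 := d40_2 (iv F21245) D5463 (iv D4432)
def n5464 : Q := act 5 n4373
theorem D5464 : act 5 n4373 = n5464 := rfl
def n5465 : Q := act 7 n4373
theorem D5465 : act 7 n4373 = n5465 := rfl
theorem F26242 : act 4 n5465 = n4374 := d32_1 D5465 (iv D4374) (iv F21249)
theorem F26244 : act 8 n5465 = n4434 := d42_2 (iv F21250) D5465 (iv D4434)
def n5466 : Q := act 3 n4375
theorem D5466 : act 3 n4375 = n5466 := rfl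
theorem F26245 : act 1 n5466 = n4384 := d10_1 D5466 (iv D4384) (iv F21256)
theorem F26247 : act 7 n5466 = n4377 := d27_2 (iv F21259) D5466 (iv D4377)
def n5467 : Q := act 6 n4375
theorem D5467 : act 6 n4375 = n5467 := rfl
theorem F26250 : act 2 n5467 = n5467 := d20_1 D5467 (iv D5467) F21257
def n5469 : Q := act 2 n4377
theorem D5469 : act 2 n4377 = n5469 := rfl
def n5470 : Q := act 6 n4377
theorem D5470 : act 6 n4377 = n5470 := rfl
theorem F26262 : act 3 n5470 = n4378 := d26_1 D5470 (iv D4378) D4377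
def n5471 : Q := act 5 n4378
theorem D5471 : act 5 n4378 = n5471 := rfl
theorem F26266 : act 4 n5471 = n4382 := d30_1 D5471 (iv D4382) F15164 (iv F15156) (iv F21270)
def n5472 : Q := act 7 n4378
theorem D5472 : act 7 n4378 = n5472 := rfl
theorem F26270 : act 4 n5472 = n4379 := d32_1 D5472 (iv D4379) (iv F21270)
def n5473 : Q := act 6 n4380
theorem D5473 : act 6 n4380 = n5473 := rfl
theorem F26273 : act 2 n5473 = n4381 := d20_1 D5473 (iv D4381) D4380
theorem F26275 : act 8 n5473 = n4435 := d40_2 (iv F21280) D5473 (iv D4435)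
def n5474 : Q := act 5 n4381
theorem D5474 : act 5 n4381 = n5474 := rfl
theorem F26277 : act 3 n5474 = n4382 := d25_1 D5474 (iv D4382) (iv F21282)
def n5475 : Q := act 7 n4381
theorem D5475 : act 7 n4381 = n5475 := rfl
theorem F26282 : act 8 n5475 = n4437 := d42_2 (iv F21283) D5475 (iv D4437)
def n5476 : Q := act 7 n4382
theorem D5476 : act 7 n4382 = n5476 := rfl
theorem F26285 : act 5 n5476 = n4383 := d36_1 D5476 (iv D4383) D4382
def n5477 : Q := act 8 n4382
theorem D5477 : act 8 n4382 = n5477 := rfl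
def n5478 : Q := act 2 n4384
theorem D5478 : act 2 n4384 = n5478 := rfl
theorem F26291 : act 3 n5478 = n4395 := d17_2 D4384 D5478 (iv D4395) (iv D3142) (iv F15171)
theorem F26293 : act 7 n5478 = n4387 := d21_2 (iv F21294) D5478 (iv D4387)
def n5479 : Q := act 6 n4384
theorem D5479 : act 6 n4384 = n5479 := rfl
def n5482 : Q := act 1 n4387
theorem D5482 : act 1 n4387 = n5482 := rfl
def n5483 : Q := act 6 n4387
theorem D5483 : act 6 n4387 = n5483 := rfl
theorem F26311 : act 2 n5483 = n4388 := d20_1 D5483 (iv D4388) D4387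
def n5484 : Q := act 5 n4388
theorem D5484 : act 5 n4388 = n5484 := rfl
theorem F26315 : act 3 n5484 = n4389 := d25_1 D5484 (iv D4389) (iv F21310)
def n5485 : Q := act 7 n4388
theorem D5485 : act 7 n4388 = n5485 := rfl
def n5486 : Q := act 7 n4389
theorem D5486 : act 7 n4389 = n5486 := rfl
theorem F26322 : act 4 n5486 = n4393 := d32_1 D5486 (iv D4393) (iv F21314)
theorem F26323 : act 5 n5486 = n4390 := d36_1 D5486 (iv D4390) D4389
def n5487 : Q := act 8 n4389
theorem D5487 : act 8 n4389 = n5487 := rfl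
def n5488 : Q := act 4 n4391
theorem D5488 : act 4 n4391 = n5488 := rfl
def n5489 : Q := act 7 n4391
theorem D5489 : act 7 n4391 = n5489 := rfl
theorem F26335 : act 5 n5489 = n4392 := d36_1 D5489 (iv D4392) D4391
def n5490 : Q := act 8 n4391
theorem D5490 : act 8 n4391 = n5490 := rfl
theorem F26339 : act 5 n5490 = n4442 := d37_1 D5490 (iv D4442) (iv D3182) (iv F15193) D4391
def n5491 : Q := act 6 n4393
theorem D5491 : act 6 n4393 = n5491 := rfl
def n5492 : Q := act 8 n4393
theorem D5492 : act 8 n4393 = n5492 := rfl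
theorem F26347 : act 5 n5492 = n4444 := d37_1 D5492 (iv D4444) F15412 (iv F15201) (iv F21331)
theorem F26348 : act 7 n5492 = n4394 := d42_1 D5492 (iv D4394) D4393
def n5493 : Q := act 9 n4394
theorem D5493 : act 9 n4394 = n5493 := rfl
def n5494 : Q := act 1 n4395
theorem D5494 : act 1 n4395 = n5494 := rfl
theorem F26354 : act 4 n5494 = n4408 := d11_2 (iv F21337) D5494 (iv D4408)
theorem F26356 : act 7 n5494 = n4399 := d14_2 (iv F21339) D5494 (iv D4399)
def n5495 : Q := act 6 n4395
theorem D5495 : act 6 n4395 = n5495 := rfl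
theorem F26360 : act 4 n5495 = n4409 := d31_1 D5495 (iv D4409) (iv F21337)
def n5496 : Q := act 5 n4396
theorem D5496 : act 5 n4396 = n5496 := rfl
theorem F26364 : act 3 n5496 = n4397 := d25_1 D5496 (iv D4397) (iv F21343)
def n5497 : Q := act 7 n4396
theorem D5497 : act 7 n4396 = n5497 := rfl
theorem F26370 : act 6 n5497 = n4402 := d39_1 D5497 (iv D4402) (iv D3146) (iv F15206) D4396
def n5498 : Q := act 7 n4397
theorem D5498 : act 7 n4397 = n5498 := rfl
theorem F26375 : act 5 n5498 = n4398 := d36_1 D5498 (iv D4398) D4397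
def n5499 : Q := act 8 n4397
theorem D5499 : act 8 n4397 = n5499 := rfl
def n5500 : Q := act 0 n4399
theorem D5500 : act 0 n4399 = n5500 := rfl
def n5501 : Q := act 6 n4399
theorem D5501 : act 6 n4399 = n5501 := rfl
theorem F26387 : act 1 n5501 = n4400 := d13_1 D5501 (iv D4400) D4399
def n5502 : Q := act 5 n4400
theorem D5502 : act 5 n4400 = n5502 := rfl
theorem F26392 : act 2 n5502 = n4401 := d19_1 D5502 (iv D4401) (iv F21360)
def n5503 : Q := act 7 n4400
theorem D5503 : act 7 n4400 = n5503 := rfl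
def n5504 : Q := act 7 n4401
theorem D5504 : act 7 n4401 = n5504 := rfl
theorem F26401 : act 3 n5504 = n4403 := d27_1 D5504 (iv D4403) (iv F21365)
theorem F26403 : act 5 n5504 = n4402 := d36_1 D5504 (iv D4402) D4401
def n5505 : Q := act 8 n4401
theorem D5505 : act 8 n4401 = n5505 := rfl
def n5506 : Q := act 6 n4403
theorem D5506 : act 6 n4403 = n5506 := rfl
theorem F26412 : act 4 n5506 = n4405 := d31_1 D5506 (iv D4405) (iv F21375)
def n5507 : Q := act 8 n4403
theorem D5507 : act 8 n4403 = n5507 := rfl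
theorem F26418 : act 7 n5507 = n4404 := d42_1 D5507 (iv D4404) D4403
def n5508 : Q := act 9 n4404
theorem D5508 : act 9 n4404 = n5508 := rfl
def n5509 : Q := act 8 n4405
theorem D5509 : act 8 n4405 = n5509 := rfl
theorem F26427 : act 6 n5509 = n4406 := d40_1 D5509 (iv D4406) D4405
def n5510 : Q := act 9 n4406
theorem D5510 : act 9 n4406 = n5510 := rfl
theorem F26433 : act 7 n5510 = n4407 := d43_1 D5510 (iv D4407) (iv F21391)
def n5511 : Q := act 0 n4408
theorem D5511 : act 0 n4408 = n5511 := rfl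
theorem F26436 : act 5 n5511 = n4417 := d4_2 (iv F21398) D5511 (iv D4417)
def n5512 : Q := act 6 n4408
theorem D5512 : act 6 n4408 = n5512 := rfl
theorem F26439 : act 1 n5512 = n4409 := d13_1 D5512 (iv D4409) D4408
def n5513 : Q := act 5 n4409
theorem D5513 : act 5 n4409 = n5513 := rfl
theorem F26443 : act 2 n5513 = n4410 := d19_1 D5513 (iv D4410) (iv F21402)
theorem F26444 : act 6 n5513 = n4419 := d35_2 D4409 D5513 (iv D4419) (iv D3159) (iv F15245)
def n5514 : Q := act 7 n4409
theorem D5514 : act 7 n4409 = n5514 := rfl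
theorem F26447 : act 6 n5514 = n4416 := d39_1 D5514 (iv D4416) (iv D3156) (iv F15246) D4409
def n5515 : Q := act 4 n4410
theorem D5515 : act 4 n4410 = n5515 := rfl
theorem F26451 : act 3 n5515 = n5515 := d24_1 D5515 (iv D5515) F21406 F15254 (iv F21406)
theorem F26452 : act 6 n5515 = n4420 := d31_2 (iv F21407) D5515 (iv D4420)
def n5516 : Q := act 7 n4410
theorem D5516 : act 7 n4410 = n5516 := rfl
theorem F26456 : act 5 n5516 = n4411 := d36_1 D5516 (iv D4411) D4410
def n5517 : Q := act 8 n4410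
theorem D5517 : act 8 n4410 = n5517 := rfl
theorem F26460 : act 3 n5517 = n4413 := d28_1 D5517 (iv D4413) (iv F21406)
theorem F26462 : act 6 n5517 = n4421 := d40_1 D5517 (iv D4421) (iv F21407)
def n5518 : Q := act 8 n4412
theorem D5518 : act 8 n4412 = n5518 := rfl
theorem F26468 : act 7 n5518 = n4413 := d42_1 D5518 (iv D4413) D4412
def n5519 : Q := act 9 n4413
theorem D5519 : act 9 n4413 = n5519 := rfl
theorem F26473 : act 6 n5519 = n4422 := d41_1 D5519 (iv D4422) (iv F21422)
def n5522 : Q := act 6 n4417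
theorem D5522 : act 6 n4417 = n5522 := rfl
theorem F26483 : act 0 n5522 = n4418 := d5_1 D5522 (iv D4418) D4417
theorem F26488 : act 8 n5522 = n4423 := d40_2 (iv F21439) D5522 (iv D4423)
def n5523 : Q := act 5 n4418
theorem D5523 : act 5 n4418 = n5523 := rfl
theorem F26489 : act 1 n5523 = n4419 := d12_1 D5523 (iv D4419) (iv F21440)
def n5524 : Q := act 4 n4419
theorem D5524 : act 4 n4419 = n5524 := rfl
theorem F26495 : act 7 n5524 = n5524 := d32_2 F21447 D5524 (iv D5524)
def n5525 : Q := act 8 n4419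
theorem D5525 : act 8 n4419 = n5525 := rfl
theorem F26498 : act 5 n5525 = n4426 := d37_1 D5525 (iv D4426) (iv D3165) (iv F15281) D4419
def n5526 : Q := act 8 n4420
theorem D5526 : act 8 n4420 = n5526 := rfl
theorem F26503 : act 4 n5526 = n4421 := d33_1 D5526 (iv D4421) D4420
def n5527 : Q := act 9 n4421
theorem D5527 : act 9 n4421 = n5527 := rfl
theorem F26507 : act 3 n5527 = n4422 := d29_1 D5527 (iv D4422) (iv F21455)
def n5528 : Q := act 5 n4423
theorem D5528 : act 5 n4423 = n5528 := rfl
theorem F26510 : act 0 n5528 = n4424 := d4_1 D5528 (iv D4424) (iv F21463)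
theorem F26512 : act 2 n5528 = n5528 := d19_1 D5528 (iv D5528) F21465
theorem F26515 : act 9 n5528 = n5528 := d38_2 F21468 D5528 (iv D5528)
def n5529 : Q := act 4 n4424
theorem D5529 : act 4 n4424 = n5529 := rfl
theorem F26516 : act 1 n5529 = n4425 := d11_1 D5529 (iv D4425) (iv F21469)
theorem F26522 : act 9 n5529 = n5529 := d34_2 F21473 D5529 (iv D5529)
def n5530 : Q := act 8 n4424
theorem D5530 : act 8 n4424 = n5530 := rfl
def n5531 : Q := act 8 n4425
theorem D5531 : act 8 n4425 = n5531 := rfl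
theorem F26528 : act 2 n5531 = n4427 := d22_1 D5531 (iv D4427) (iv F21475)
theorem F26530 : act 4 n5531 = n4426 := d33_1 D5531 (iv D4426) D4425
def n5532 : Q := act 9 n4426
theorem D5532 : act 9 n4426 = n5532 := rfl
def n5533 : Q := act 5 n4427
theorem D5533 : act 5 n4427 = n5533 := rfl
theorem F26540 : act 3 n5533 = n4429 := d25_1 D5533 (iv D4429) (iv F21487)
def n5534 : Q := act 9 n4427
theorem D5534 : act 9 n4427 = n5534 := rfl
theorem F26546 : act 4 n5534 = n4428 := d34_1 D5534 (iv D4428) (iv F21488)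
def n5535 : Q := act 6 n4429
theorem D5535 : act 6 n4429 = n5535 := rfl
def n5536 : Q := act 9 n4429
theorem D5536 : act 9 n4429 = n5536 := rfl
theorem F26560 : act 5 n5536 = n4430 := d38_1 D5536 (iv D4430) D4429
def n5537 : Q := act 1 n4431
theorem D5537 : act 1 n4431 = n5537 := rfl
theorem F26562 : act 0 n5537 = n5537 := d0_1 D5537 (iv D5537) F21510 F15381 (iv F21510)
theorem F26563 : act 2 n5537 = n5537 := d9_2 D4431 D5537 (iv D5537) (iv D4431) F15366
theorem F26564 : act 3 n5537 = n5537 := d10_2 F21511 D5537 (iv D5537)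
theorem F26565 : act 5 n5537 = n4448 := d12_2 (iv F21512) D5537 (iv D4448)
def n5538 : Q := act 6 n4431
theorem D5538 : act 6 n4431 = n5538 := rfl
theorem F26569 : act 2 n5538 = n4432 := d20_1 D5538 (iv D4432) D4431
theorem F26570 : act 3 n5538 = n5538 := d26_1 D5538 (iv D5538) F21511
def n5539 : Q := act 5 n4432
theorem D5539 : act 5 n4432 = n5539 := rfl
theorem F26572 : act 0 n5539 = n4436 := d4_1 D5539 (iv D4436) (iv F21515)
theorem F26574 : act 3 n5539 = n4433 := d25_1 D5539 (iv D4433) (iv F21517)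
theorem F26575 : act 6 n5539 = n4450 := d35_2 D4432 D5539 (iv D4450) (iv D3190) (iv F15367)
def n5540 : Q := act 7 n4432
theorem D5540 : act 7 n4432 = n5540 := rfl
def n5541 : Q := act 7 n4433
theorem D5541 : act 7 n4433 = n5541 := rfl
theorem F26582 : act 0 n5541 = n4438 := d6_1 D5541 (iv D4438) (iv F21519)
theorem F26584 : act 2 n5541 = n5541 := d21_1 D5541 (iv D5541) F21521
theorem F26586 : act 5 n5541 = n4434 := d36_1 D5541 (iv D4434) D4433
def n5542 : Q := act 8 n4433
theorem D5542 : act 8 n4433 = n5542 := rfl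
def n5543 : Q := act 5 n4435
theorem D5543 : act 5 n4435 = n5543 := rfl
theorem F26594 : act 2 n5543 = n4436 := d19_1 D5543 (iv D4436) (iv F21532)
theorem F26596 : act 6 n5543 = n4454 := d35_2 D4435 D5543 (iv D4454) (iv D3193) (iv F15383)
theorem F26597 : act 9 n5543 = n5543 := d38_2 F21534 D5543 (iv D5543)
def n5544 : Q := act 7 n4435
theorem D5544 : act 7 n4435 = n5544 := rfl
def n5545 : Q := act 4 n4436
theorem D5545 : act 4 n4436 = n5545 := rfl
theorem F26603 : act 1 n5545 = n4440 := d11_1 D5545 (iv D4440) (iv F21535)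
theorem F26604 : act 3 n5545 = n5545 := d24_1 D5545 (iv D5545) F21536 F15391 (iv F21536)
theorem F26605 : act 6 n5545 = n4456 := d31_2 (iv F21537) D5545 (iv D4456)
def n5546 : Q := act 7 n4436
theorem D5546 : act 7 n4436 = n5546 := rfl
theorem F26608 : act 3 n5546 = n4438 := d27_1 D5546 (iv D4438) (iv F21536)
theorem F26609 : act 5 n5546 = n4437 := d36_1 D5546 (iv D4437) D4436
def n5547 : Q := act 8 n4436
theorem D5547 : act 8 n4436 = n5547 := rfl
def n5548 : Q := act 6 n4438
theorem D5548 : act 6 n4438 = n5548 := rfl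
theorem F26614 : act 1 n5548 = n4443 := d13_1 D5548 (iv D4443) (iv F21543)
theorem F26618 : act 7 n5548 = n4459 := d39_2 D4438 D5548 (iv D4459) (iv D3196) (iv F15392)
def n5549 : Q := act 8 n4438
theorem D5549 : act 8 n4438 = n5549 := rfl
theorem F26623 : act 7 n5549 = n4439 := d42_1 D5549 (iv D4439) D4438
def n5550 : Q := act 9 n4439
theorem D5550 : act 9 n4439 = n5550 := rfl
def n5551 : Q := act 7 n4440
theorem D5551 : act 7 n4440 = n5551 := rfl
theorem F26632 : act 4 n5551 = n4441 := d32_1 D5551 (iv D4441) D4440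
def n5552 : Q := act 8 n4440
theorem D5552 : act 8 n4440 = n5552 := rfl
theorem F26637 : act 4 n5552 = n4442 := d33_1 D5552 (iv D4442) D4440
theorem F26638 : act 6 n5552 = n4463 := d40_1 D5552 (iv D4463) (iv F21555)
def n5553 : Q := act 6 n4441
theorem D5553 : act 6 n4441 = n5553 := rfl
theorem F26641 : act 3 n5553 = n4443 := d26_1 D5553 (iv D4443) (iv F21559)
def n5554 : Q := act 8 n4441
theorem D5554 : act 8 n4441 = n5554 := rfl
theorem F26648 : act 7 n5554 = n4442 := d42_1 D5554 (iv D4442) D4441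
def n5555 : Q := act 9 n4442
theorem D5555 : act 9 n4442 = n5555 := rfl
def n5556 : Q := act 8 n4443
theorem D5556 : act 8 n4443 = n5556 := rfl
theorem F26655 : act 2 n5556 = n4446 := d22_1 D5556 (iv D4446) (iv F21567)
theorem F26657 : act 6 n5556 = n4444 := d40_1 D5556 (iv D4444) D4443
def n5557 : Q := act 9 n4444
theorem D5557 : act 9 n4444 = n5557 := rfl
theorem F26662 : act 7 n5557 = n4445 := d43_1 D5557 (iv D4445) (iv F21575)
def n5558 : Q := act 5 n4446
theorem D5558 : act 5 n4446 = n5558 := rfl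
theorem F26667 : act 7 n5558 = n4469 := d36_2 (iv F21586) D5558 (iv D4469)
def n5559 : Q := act 9 n4446
theorem D5559 : act 9 n4446 = n5559 := rfl
theorem F26673 : act 6 n5559 = n4447 := d41_1 D5559 (iv D4447) (iv F21585)
def n5560 : Q := act 6 n4448
theorem D5560 : act 6 n4448 = n5560 := rfl
theorem F26677 : act 1 n5560 = n4449 := d13_1 D5560 (iv D4449) D4448
theorem F26678 : act 2 n5560 = n5560 := d20_1 D5560 (iv D5560) F21594
theorem F26679 : act 3 n5560 = n5560 := d26_1 D5560 (iv D5560) F21595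
theorem F26680 : act 4 n5560 = n5560 := d31_1 D5560 (iv D5560) F21596
theorem F26681 : act 8 n5560 = n5560 := d40_2 F21598 D5560 (iv D5560)
def n5561 : Q := act 5 n4449
theorem D5561 : act 5 n4449 = n5561 := rfl
theorem F26684 : act 2 n5561 = n4450 := d19_1 D5561 (iv D4450) (iv F21601)
def n5563 : Q := act 4 n4450
theorem D5563 : act 4 n4450 = n5563 := rfl
theorem F26694 : act 0 n5563 = n4456 := d3_1 D5563 (iv D4456) (iv F21606)
def n5564 : Q := act 7 n4450
theorem D5564 : act 7 n4450 = n5564 := rfl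
theorem F26701 : act 3 n5564 = n4452 := d27_1 D5564 (iv D4452) (iv F21608)
def n5565 : Q := act 8 n4450
theorem D5565 : act 8 n4450 = n5565 := rfl
theorem F26706 : act 3 n5565 = n4453 := d28_1 D5565 (iv D4453) (iv F21608)
def n5566 : Q := act 6 n4452
theorem D5566 : act 6 n4452 = n5566 := rfl
theorem F26710 : act 2 n5566 = n5566 := d20_1 D5566 (iv D5566) F21619
def n5567 : Q := act 8 n4452
theorem D5567 : act 8 n4452 = n5567 := rfl
theorem F26719 : act 7 n5567 = n4453 := d42_1 D5567 (iv D4453) D4452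
def n5568 : Q := act 9 n4453
theorem D5568 : act 9 n4453 = n5568 := rfl
theorem F26722 : act 2 n5568 = n5568 := d23_1 D5568 (iv D5568) F21625
theorem F26725 : act 8 n5568 = n5568 := d44_1 D5568 (iv D5568) (iv D4453) F15452 D4453
def n5569 : Q := act 4 n4454
theorem D5569 : act 4 n4454 = n5569 := rfl
theorem F26727 : act 2 n5569 = n4456 := d18_1 D5569 (iv D4456) (iv F21629)
theorem F26728 : act 5 n5569 = n5569 := d30_2 D4454 D5569 (iv D5569) (iv D4454) F15463
def n5571 : Q := act 8 n4454
theorem D5571 : act 8 n4454 = n5571 := rfl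
def n5572 : Q := act 7 n4456
theorem D5572 : act 7 n4456 = n5572 := rfl
theorem F26739 : act 1 n5572 = n4462 := d14_1 D5572 (iv D4462) (iv F21639)
theorem F26741 : act 4 n5572 = n4457 := d32_1 D5572 (iv D4457) D4456
def n5573 : Q := act 8 n4456
theorem D5573 : act 8 n4456 = n5573 := rfl
theorem F26744 : act 1 n5573 = n4463 := d15_1 D5573 (iv D4463) (iv F21639)
theorem F26746 : act 4 n5573 = n4458 := d33_1 D5573 (iv D4458) D4456
def n5574 : Q := act 6 n4457
theorem D5574 : act 6 n4457 = n5574 := rfl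
theorem F26748 : act 3 n5574 = n4459 := d26_1 D5574 (iv D4459) (iv F21644)
def n5576 : Q := act 9 n4458
theorem D5576 : act 9 n4458 = n5576 := rfl
theorem F26756 : act 3 n5576 = n4461 := d29_1 D5576 (iv D4461) (iv F21648)
def n5577 : Q := act 8 n4459
theorem D5577 : act 8 n4459 = n5577 := rfl
theorem F26760 : act 2 n5577 = n5577 := d22_1 D5577 (iv D5577) F21651
theorem F26762 : act 6 n5577 = n4460 := d40_1 D5577 (iv D4460) D4459
def n5578 : Q := act 9 n4460
theorem D5578 : act 9 n4460 = n5578 := rfl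
theorem F26767 : act 7 n5578 = n4461 := d43_1 D5578 (iv D4461) (iv F21659)
def n5579 : Q := act 6 n4462
theorem D5579 : act 6 n4462 = n5579 := rfl
theorem F26772 : act 4 n5579 = n4464 := d31_1 D5579 (iv D4464) (iv F21668)
def n5580 : Q := act 8 n4462
theorem D5580 : act 8 n4462 = n5580 := rfl
theorem F26778 : act 7 n5580 = n4463 := d42_1 D5580 (iv D4463) D4462
def n5582 : Q := act 9 n4463
theorem D5582 : act 9 n4463 = n5582 := rfl
def n5583 : Q := act 8 n4464
theorem D5583 : act 8 n4464 = n5583 := rfl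
theorem F26791 : act 3 n5583 = n4467 := d28_1 D5583 (iv D4467) (iv F21677)
def n5588 : Q := act 9 n4469
theorem D5588 : act 9 n4469 = n5588 := rfl
theorem F26816 : act 5 n5588 = n4470 := d38_1 D5588 (iv D4470) D4469
def n5589 : Q := act 8 n4472
theorem D5589 : act 8 n4472 = n5589 := rfl
theorem F26818 : act 0 n5589 = n5589 := d7_1 D5589 (iv D5589) F21720
theorem F26819 : act 1 n5589 = n4494 := d15_1 D5589 (iv D4494) (iv F21721)
theorem F26820 : act 2 n5589 = n5251 := d22_1 D5589 (iv D5251) (iv F21722)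
theorem F26821 : act 3 n5589 = n4474 := d28_1 D5589 (iv D4474) (iv F21723)
theorem F26822 : act 4 n5589 = n5239 := d33_1 D5589 (iv D5239) (iv F21724)
theorem F26823 : act 6 n5589 = n5237 := d40_1 D5589 (iv D5237) (iv F21726)
theorem F26824 : act 7 n5589 = n5589 := d42_1 D5589 (iv D5589) F21727
theorem F26825 : act 9 n5589 = n5589 := d44_2 D4472 D5589 (iv D5589) (iv D4472) F15558
def n5590 : Q := act 8 n4473
theorem D5590 : act 8 n4473 = n5590 := rfl
theorem F26826 : act 0 n5590 = n5590 := d7_1 D5590 (iv D5590) F21728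
theorem F26827 : act 1 n5590 = n4498 := d15_1 D5590 (iv D4498) (iv F21729)
theorem F26828 : act 2 n5590 = n5590 := d22_1 D5590 (iv D5590) F21730
theorem F26829 : act 3 n5590 = n5237 := d28_1 D5590 (iv D5237) (iv F21731)
theorem F26830 : act 4 n5590 = n4475 := d33_1 D5590 (iv D4475) (iv F21732)
theorem F26831 : act 6 n5590 = n4474 := d40_1 D5590 (iv D4474) (iv F21734)
theorem F26832 : act 7 n5590 = n5236 := d42_1 D5590 (iv D5236) (iv F21735)
theorem F26833 : act 9 n5590 = n5590 := d44_2 D4473 D5590 (iv D5590) (iv D4473) F15563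
def n5591 : Q := act 5 n4474
theorem D5591 : act 5 n4474 = n5591 := rfl
theorem F26834 : act 0 n5591 = n5591 := d4_1 D5591 (iv D5591) F21736
theorem F26835 : act 1 n5591 = n4499 := d12_1 D5591 (iv D4499) (iv F21737)
theorem F26836 : act 2 n5591 = n5591 := d19_1 D5591 (iv D5591) F21738
theorem F26837 : act 4 n5591 = n5591 := d30_1 D5591 (iv D5591) F21739 F15584 (iv F21739)
theorem F26838 : act 7 n5591 = n5591 := d36_2 F21740 D5591 (iv D5591)
theorem F26839 : act 8 n5591 = n4479 := d37_2 D4474 D5591 (iv D4479) (iv D3223) (iv F15568)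
theorem F26840 : act 9 n5591 = n5591 := d38_2 F21741 D5591 (iv D5591)
def n5592 : Q := act 5 n4475
theorem D5592 : act 5 n4475 = n5592 := rfl
theorem F26841 : act 0 n5592 = n5592 := d4_1 D5592 (iv D5592) F21742
theorem F26842 : act 1 n5592 = n4501 := d12_1 D5592 (iv D4501) (iv F21743)
theorem F26843 : act 2 n5592 = n5592 := d19_1 D5592 (iv D5592) F21744
theorem F26844 : act 3 n5592 = n5387 := d25_1 D5592 (iv D5387) (iv F21745)
theorem F26845 : act 6 n5592 = n5592 := d35_2 (iv F21746) D5592 (iv D5592) F21746 F15584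
theorem F26846 : act 7 n5592 = n5386 := d36_2 (iv F21747) D5592 (iv D5386)
theorem F26847 : act 8 n5592 = n5592 := d37_2 D4475 D5592 (iv D5592) (iv D4475) F15579
theorem F26848 : act 9 n5592 = n5592 := d38_2 F21748 D5592 (iv D5592)
def n5593 : Q := act 0 n4476
theorem D5593 : act 0 n4476 = n5593 := rfl
theorem F26849 : act 1 n5593 = n5593 := d0_2 D4476 D5593 (iv D5593) (iv D4476) F15587
theorem F26850 : act 2 n5593 = n4502 := d1_2 (iv F21749) D5593 (iv D4502)
theorem F26851 : act 3 n5593 = n5593 := d2_2 F21750 D5593 (iv D5593)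
theorem F26852 : act 4 n5593 = n5593 := d3_2 F21751 D5593 (iv D5593)
theorem F26853 : act 5 n5593 = n4651 := d4_2 (iv F21752) D5593 F22694
theorem F26854 : act 6 n5593 = n5138 := d5_2 (iv F21753) D5593 F24785
theorem F26855 : act 7 n5593 = n5593 := d6_2 F21754 D5593 (iv D5593)
theorem F26856 : act 8 n5593 = n4480 := d7_2 (iv F21755) D5593 (iv D4480)
def n5594 : Q := act 9 n4476
theorem D5594 : act 9 n4476 = n5594 := rfl
theorem F26857 : act 1 n5594 = n4477 := d16_1 D5594 (iv D4477) D4476
theorem F26858 : act 2 n5594 = n4504 := d23_1 D5594 (iv D4504) (iv F21749)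
theorem F26859 : act 3 n5594 = n5594 := d29_1 D5594 (iv D5594) F21750
theorem F26860 : act 4 n5594 = n5594 := d34_1 D5594 (iv D5594) F21751
theorem F26861 : act 5 n5594 = n4947 := d38_1 D5594 (iv D4947) (iv F21752)
theorem F26862 : act 6 n5594 = n5146 := d41_1 D5594 (iv D5146) (iv F21753)
theorem F26863 : act 7 n5594 = n5594 := d43_1 D5594 (iv D5594) F21754
def n5595 : Q := act 8 n4477
theorem D5595 : act 8 n4477 = n5595 := rfl
theorem F26864 : act 0 n5595 = n5595 := d7_1 D5595 (iv D5595) F21756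
theorem F26865 : act 2 n5595 = n4478 := d22_1 D5595 (iv D4478) (iv F21757)
theorem F26866 : act 3 n5595 = n5595 := d28_1 D5595 (iv D5595) F21758
theorem F26867 : act 4 n5595 = n5595 := d33_1 D5595 (iv D5595) F21759
theorem F26868 : act 6 n5595 = n5156 := d40_1 D5595 (iv D5156) (iv F21761)
theorem F26869 : act 7 n5595 = n5595 := d42_1 D5595 (iv D5595) F21762
theorem F26870 : act 9 n5595 = n4482 := d44_2 D4477 D5595 (iv D4482) (iv D3228) (iv F15591)
def n5596 : Q := act 5 n4478
theorem D5596 : act 5 n4478 = n5596 := rfl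
theorem F26871 : act 0 n5596 = n5596 := d4_1 D5596 (iv D5596) F21763
theorem F26872 : act 1 n5596 = n4511 := d12_1 D5596 (iv D4511) (iv F21764)
theorem F26873 : act 3 n5596 = n4479 := d25_1 D5596 (iv D4479) (iv F21765)
theorem F26874 : act 7 n5596 = n5596 := d36_2 F21768 D5596 (iv D5596)
theorem F26875 : act 9 n5596 = n4483 := d38_2 (iv F21769) D5596 (iv D4483)
def n5597 : Q := act 6 n4479
theorem D5597 : act 6 n4479 = n5597 := rfl
theorem F26876 : act 0 n5597 = n5597 := d5_1 D5597 (iv D5597) F21770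
theorem F26877 : act 1 n5597 = n4514 := d13_1 D5597 (iv D4514) (iv F21771)
theorem F26878 : act 2 n5597 = n5597 := d20_1 D5597 (iv D5597) F21772
theorem F26879 : act 4 n5597 = n5597 := d31_1 D5597 (iv D5597) F21773
theorem F26880 : act 5 n5597 = n5187 := d35_1 D5597 (iv D5187) (iv D4140) (iv F20165) D4479
theorem F26881 : act 9 n5597 = n4484 := d41_2 (iv F21775) D5597 (iv D4484)
def n5598 : Q := act 9 n4480
theorem D5598 : act 9 n4480 = n5598 := rfl
theorem F26882 : act 0 n5598 = n4481 := d8_1 D5598 (iv D4481) D4480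
theorem F26883 : act 1 n5598 = n5598 := d16_1 D5598 (iv D5598) F21776
theorem F26884 : act 2 n5598 = n4517 := d23_1 D5598 (iv D4517) (iv F21777)
theorem F26885 : act 3 n5598 = n5598 := d29_1 D5598 (iv D5598) F21778
theorem F26886 : act 4 n5598 = n5598 := d34_1 D5598 (iv D5598) F21779
theorem F26887 : act 5 n5598 = n5598 := d38_1 D5598 (iv D5598) F21780
theorem F26888 : act 6 n5598 = n5139 := d41_1 D5598 (iv D5139) (iv F21781)
theorem F26889 : act 7 n5598 = n5598 := d43_1 D5598 (iv D5598) F21782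
def n5599 : Q := act 8 n4481
theorem D5599 : act 8 n4481 = n5599 := rfl
theorem F26890 : act 1 n5599 = n4482 := d15_1 D5599 (iv D4482) (iv F21783)
theorem F26891 : act 2 n5599 = n4519 := d22_1 D5599 (iv D4519) (iv F21784)
theorem F26892 : act 3 n5599 = n5599 := d28_1 D5599 (iv D5599) F21785
theorem F26893 : act 4 n5599 = n5599 := d33_1 D5599 (iv D5599) F21786
theorem F26894 : act 6 n5599 = n5147 := d40_1 D5599 (iv D5147) (iv F21788)
theorem F26895 : act 7 n5599 = n5599 := d42_1 D5599 (iv D5599) F21789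
def n5600 : Q := act 5 n4482
theorem D5600 : act 5 n4482 = n5600 := rfl
theorem F26896 : act 0 n5600 = n5600 := d4_1 D5600 (iv D5600) F21790
theorem F26897 : act 2 n5600 = n4483 := d19_1 D5600 (iv D4483) (iv F21791)
theorem F26898 : act 3 n5600 = n5600 := d25_1 D5600 (iv D5600) F21792
theorem F26899 : act 7 n5600 = n5600 := d36_2 F21795 D5600 (iv D5600)
theorem F26900 : act 8 n5600 = n5600 := d37_2 D4482 D5600 (iv D5600) (iv D4482) F15649
def n5601 : Q := act 4 n4483
theorem D5601 : act 4 n4483 = n5601 := rfl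
theorem F26901 : act 0 n5601 = n5601 := d3_1 D5601 (iv D5601) F21796
theorem F26902 : act 1 n5601 = n4523 := d11_1 D5601 (iv D4523) (iv F21797)
theorem F26903 : act 3 n5601 = n5601 := d24_1 D5601 (iv D5601) F21798 F15700 (iv F21798)
theorem F26904 : act 5 n5601 = n5601 := d30_2 D4483 D5601 (iv D5601) (iv D4483) F15668
theorem F26905 : act 7 n5601 = n5601 := d32_2 F21799 D5601 (iv D5601)
theorem F26906 : act 8 n5601 = n5601 := d33_2 F21800 D5601 (iv D5601)
def n5602 : Q := act 6 n4483
theorem D5602 : act 6 n4483 = n5602 := rfl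
theorem F26907 : act 0 n5602 = n5602 := d5_1 D5602 (iv D5602) F21796
theorem F26908 : act 1 n5602 = n4524 := d13_1 D5602 (iv D4524) (iv F21797)
theorem F26909 : act 3 n5602 = n4484 := d26_1 D5602 (iv D4484) (iv F21798)
theorem F26910 : act 5 n5602 = n5171 := d35_1 D5602 (iv D5171) (iv D4125) (iv F20176) D4483
theorem F26911 : act 8 n5602 = n5602 := d40_2 F21800 D5602 (iv D5602)
def n5603 : Q := act 7 n4484
theorem D5603 : act 7 n4484 = n5603 := rfl
theorem F26912 : act 0 n5603 = n5603 := d6_1 D5603 (iv D5603) F21801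
theorem F26913 : act 1 n5603 = n4527 := d14_1 D5603 (iv D4527) (iv F21802)
theorem F26914 : act 2 n5603 = n5603 := d21_1 D5603 (iv D5603) F21803
theorem F26915 : act 4 n5603 = n5603 := d32_1 D5603 (iv D5603) F21804
theorem F26916 : act 5 n5603 = n5190 := d36_1 D5603 (iv D5190) (iv F21805)
theorem F26917 : act 6 n5603 = n5603 := d39_1 D5603 (iv D5603) (iv D4484) F15701 D4484
theorem F26918 : act 8 n5603 = n5603 := d42_2 F21806 D5603 (iv D5603)
def n5604 : Q := act 9 n4485
theorem D5604 : act 9 n4485 = n5604 := rfl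
theorem F26919 : act 0 n5604 = n4722 := d8_1 D5604 (iv D4722) (iv F21807)
theorem F26920 : act 1 n5604 = n4938 := d16_1 D5604 (iv D4938) (iv F21808)
theorem F26921 : act 2 n5604 = n4486 := d23_1 D5604 (iv D4486) D4485
theorem F26922 : act 3 n5604 = n5604 := d29_1 D5604 (iv D5604) F21809
theorem F26923 : act 4 n5604 = n4491 := d34_1 D5604 (iv D4491) (iv F21810)
theorem F26924 : act 5 n5604 = n5604 := d38_1 D5604 (iv D5604) F21811
theorem F26925 : act 6 n5604 = n4929 := d41_1 D5604 (iv D4929) (iv F21812)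
theorem F26926 : act 7 n5604 = n5604 := d43_1 D5604 (iv D5604) F21813
def n5605 : Q := act 8 n4486
theorem D5605 : act 8 n4486 = n5605 := rfl
theorem F26927 : act 0 n5605 = n4724 := d7_1 D5605 (iv D4724) (iv F21815)
theorem F26928 : act 1 n5605 = n5239 := d15_1 D5605 (iv D5239) (iv F21816)
theorem F26929 : act 3 n5605 = n4487 := d28_1 D5605 (iv D4487) (iv F21817)
theorem F26930 : act 4 n5605 = n4494 := d33_1 D5605 (iv D4494) (iv F21818)
theorem F26931 : act 6 n5605 = n5228 := d40_1 D5605 (iv D5228) (iv F21820)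
theorem F26932 : act 7 n5605 = n5605 := d42_1 D5605 (iv D5605) F21821
theorem F26933 : act 9 n5605 = n5605 := d44_2 D4486 D5605 (iv D5605) (iv D4486) F16006
def n5606 : Q := act 5 n4487
theorem D5606 : act 5 n4487 = n5606 := rfl
theorem F26934 : act 0 n5606 = n4726 := d4_1 D5606 (iv D4726) (iv F21822)
theorem F26935 : act 1 n5606 = n5390 := d12_1 D5606 (iv D5390) (iv F21823)
theorem F26936 : act 2 n5606 = n5606 := d19_1 D5606 (iv D5606) F21824
theorem F26937 : act 4 n5606 = n5606 := d30_1 D5606 (iv D5606) F21825 F16030 (iv F21825)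
theorem F26938 : act 7 n5606 = n5606 := d36_2 F21827 D5606 (iv D5606)
theorem F26939 : act 8 n5606 = n5606 := d37_2 D4487 D5606 (iv D5606) (iv D4487) F16014
theorem F26940 : act 9 n5606 = n5606 := d38_2 F21828 D5606 (iv D5606)
def n5607 : Q := act 5 n4488
theorem D5607 : act 5 n4488 = n5607 := rfl
theorem F26941 : act 0 n5607 = n4728 := d4_1 D5607 (iv D4728) (iv F21829)
theorem F26942 : act 1 n5607 = n5387 := d12_1 D5607 (iv D5387) (iv F21830)
theorem F26943 : act 2 n5607 = n5607 := d19_1 D5607 (iv D5607) F21831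
theorem F26944 : act 3 n5607 = n4501 := d25_1 D5607 (iv D4501) (iv F21832)
theorem F26945 : act 6 n5607 = n5607 := d35_2 (iv F21834) D5607 (iv D5607) F21834 F16030
theorem F26946 : act 7 n5607 = n5373 := d36_2 (iv F21835) D5607 (iv D5373)
theorem F26947 : act 8 n5607 = n5607 := d37_2 D4488 D5607 (iv D5607) (iv D4488) F16025
theorem F26948 : act 9 n5607 = n5607 := d38_2 F21836 D5607 (iv D5607)
def n5608 : Q := act 0 n4489
theorem D5608 : act 0 n4489 = n5608 := rfl
theorem F26949 : act 1 n5608 = n4729 := d0_2 D4489 D5608 (iv D4729) (iv D3597) (iv F16033)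
theorem F26950 : act 2 n5608 = n4651 := d1_2 (iv F21837) D5608 F22694
theorem F26951 : act 3 n5608 = n4530 := d2_2 (iv F21838) D5608 (iv D4530)
theorem F26952 : act 4 n5608 = n4644 := d3_2 (iv F21839) D5608 F22658
theorem F26953 : act 5 n5608 = n4502 := d4_2 (iv F21840) D5608 (iv D4502)
theorem F26954 : act 6 n5608 = n4642 := d5_2 F21843 D5608 F22650
theorem F26955 : act 7 n5608 = n5608 := d6_2 F21841 D5608 (iv D5608)
theorem F26956 : act 8 n5608 = n5608 := d7_2 F21842 D5608 (iv D5608)
def n5609 : Q := act 9 n4489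
theorem D5609 : act 9 n4489 = n5609 := rfl
theorem F26957 : act 1 n5609 = n4491 := d16_1 D5609 (iv D4491) D4489
theorem F26958 : act 2 n5609 = n4947 := d23_1 D5609 (iv D4947) (iv F21837)
theorem F26959 : act 3 n5609 = n4532 := d29_1 D5609 (iv D4532) (iv F21838)
theorem F26960 : act 4 n5609 = n4938 := d34_1 D5609 (iv D4938) (iv F21839)
theorem F26961 : act 5 n5609 = n4504 := d38_1 D5609 (iv D4504) (iv F21840)
theorem F26962 : act 6 n5609 = n4936 := d41_1 D5609 (iv D4936) F21843
theorem F26963 : act 7 n5609 = n5609 := d43_1 D5609 (iv D5609) F21841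
def n5610 : Q := act 5 n4490
theorem D5610 : act 5 n4490 = n5610 := rfl
theorem F26964 : act 0 n5610 = n4732 := d4_1 D5610 (iv D4732) (iv F21844)
theorem F26965 : act 1 n5610 = n4833 := d12_1 D5610 F23539 (iv F21845)
theorem F26966 : act 2 n5610 = n4492 := d19_1 D5610 (iv D4492) (iv F21846)
theorem F26967 : act 3 n5610 = n4533 := d25_1 D5610 (iv D4533) (iv F21847)
theorem F26968 : act 4 n5610 = n4826 := d30_1 D5610 F23514 F18260 (iv F18782) (iv F21848)
theorem F26969 : act 6 n5610 = n4505 := d35_2 D4490 D5610 (iv D4505) (iv D3310) (iv F16035)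
theorem F26970 : act 7 n5610 = n4825 := d36_2 F21850 D5610 F23511
theorem F26971 : act 8 n4836 = n5610 := d40_0 F26969 F21936 D4836
def n5611 : Q := act 9 n4490
theorem D5611 : act 9 n4490 = n5611 := rfl
theorem F26972 : act 0 n5611 = n4734 := d8_1 D5611 (iv D4734) (iv F21844)
theorem F26973 : act 1 n5611 = n4936 := d16_1 D5611 (iv D4936) (iv F21845)
theorem F26974 : act 2 n5611 = n4493 := d23_1 D5611 (iv D4493) (iv F21846)
theorem F26975 : act 3 n5611 = n4535 := d29_1 D5611 (iv D4535) (iv F21847)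
theorem F26976 : act 4 n5611 = n4929 := d34_1 D5611 (iv D4929) (iv F21848)
theorem F26977 : act 6 n5611 = n4491 := d41_1 D5611 (iv D4491) D4490
theorem F26978 : act 7 n5611 = n4928 := d43_1 D5611 (iv D4928) F21850
def n5612 : Q := act 8 n4491
theorem D5612 : act 8 n4491 = n5612 := rfl
theorem F26979 : act 0 n5612 = n4735 := d7_1 D5612 (iv D4735) (iv F21851)
theorem F26980 : act 2 n5612 = n4494 := d22_1 D5612 (iv D4494) (iv F21852)
theorem F26981 : act 3 n5612 = n4536 := d28_1 D5612 (iv D4536) (iv F21853)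
theorem F26982 : act 7 n5612 = n5612 := d42_1 D5612 (iv D5612) F21855
theorem F26983 : act 9 n5612 = n5612 := d44_2 D4491 D5612 (iv D5612) (iv D4491) F16037
def n5613 : Q := act 9 n4492
theorem D5613 : act 9 n4492 = n5613 := rfl
theorem F26984 : act 0 n5613 = n4738 := d8_1 D5613 (iv D4738) (iv F21856)
theorem F26985 : act 1 n5613 = n5089 := d16_1 D5613 (iv D5089) (iv F21857)
theorem F26986 : act 3 n5613 = n4496 := d29_1 D5613 (iv D4496) (iv F21858)
theorem F26987 : act 4 n5613 = n5082 := d34_1 D5613 (iv D5082) (iv F21859)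
theorem F26988 : act 5 n5613 = n4493 := d38_1 D5613 (iv D4493) D4492
theorem F26989 : act 6 n5613 = n4509 := d41_1 D5613 (iv D4509) (iv F21860)
theorem F26990 : act 7 n5613 = n5081 := d43_1 D5613 (iv D5081) (iv F21861)
def n5614 : Q := act 8 n4493
theorem D5614 : act 8 n4493 = n5614 := rfl
theorem F26991 : act 0 n5614 = n4740 := d7_1 D5614 (iv D4740) (iv F21863)
theorem F26992 : act 1 n5614 = n5237 := d15_1 D5614 (iv D5237) (iv F21864)
theorem F26993 : act 3 n5614 = n4498 := d28_1 D5614 (iv D4498) (iv F21865)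
theorem F26994 : act 4 n5614 = n5228 := d33_1 D5614 (iv D5228) (iv F21866)
theorem F26995 : act 6 n5614 = n4494 := d40_1 D5614 (iv D4494) (iv F21867)
theorem F26996 : act 7 n5614 = n5227 := d42_1 D5614 (iv D5227) (iv F21868)
theorem F26997 : act 9 n5614 = n5614 := d44_2 D4493 D5614 (iv D5614) (iv D4493) F16040
def n5615 : Q := act 5 n4494
theorem D5615 : act 5 n4494 = n5615 := rfl
theorem F26998 : act 0 n5615 = n4741 := d4_1 D5615 (iv D4741) (iv F21869)
theorem F26999 : act 3 n5615 = n4499 := d25_1 D5615 (iv D4499) (iv F21870)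
theorem F27000 : act 7 n5615 = n5615 := d36_2 F21871 D5615 (iv D5615)
theorem F27001 : act 8 n5615 = n4511 := d37_2 D4494 D5615 (iv D4511) (iv D3315) (iv F16043)
theorem F27002 : act 9 n5615 = n5615 := d38_2 F21872 D5615 (iv D5615)
def n5616 : Q := act 9 n4495
theorem D5616 : act 9 n4495 = n5616 := rfl
theorem F27003 : act 0 n5616 = n4742 := d8_1 D5616 (iv D4742) (iv F21873)
theorem F27004 : act 1 n5616 = n5061 := d16_1 D5616 (iv D5061) (iv F21874)
theorem F27005 : act 2 n5616 = n4546 := d23_1 D5616 (iv D4546) (iv F21875)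
theorem F27006 : act 3 n5616 = n5081 := d29_1 D5616 (iv D5081) (iv F21876)
theorem F27007 : act 4 n5616 = n5616 := d34_1 D5616 (iv D5616) F21877
theorem F27008 : act 5 n5616 = n4497 := d38_1 D5616 (iv D4497) (iv F21878)
theorem F27009 : act 6 n5616 = n4810 := d41_1 D5616 (iv D4810) (iv F21879)
theorem F27010 : act 7 n5616 = n4496 := d43_1 D5616 (iv D4496) D4495
def n5617 : Q := act 8 n4496
theorem D5617 : act 8 n4496 = n5617 := rfl
theorem F27011 : act 0 n5617 = n4743 := d7_1 D5617 (iv D4743) (iv F21881)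
theorem F27012 : act 1 n5617 = n5118 := d15_1 D5617 (iv D5118) (iv F21882)
theorem F27013 : act 2 n5617 = n4548 := d22_1 D5617 (iv D4548) (iv F21883)
theorem F27014 : act 4 n5617 = n5617 := d33_1 D5617 (iv D5617) F21884
theorem F27015 : act 6 n5617 = n4512 := d40_1 D5617 (iv D4512) (iv F21886)
theorem F27016 : act 9 n5617 = n4857 := d44_2 D4496 D5617 (iv D4857) (iv D3804) (iv F20187)
def n5618 : Q := act 8 n4497
theorem D5618 : act 8 n4497 = n5618 := rfl
theorem F27017 : act 0 n5618 = n4744 := d7_1 D5618 (iv D4744) (iv F21887)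
theorem F27018 : act 1 n5618 = n5236 := d15_1 D5618 (iv D5236) (iv F21888)
theorem F27019 : act 2 n5618 = n4549 := d22_1 D5618 (iv D4549) (iv F21889)
theorem F27020 : act 3 n5618 = n5227 := d28_1 D5618 (iv D5227) (iv F21890)
theorem F27021 : act 4 n5618 = n4500 := d33_1 D5618 (iv D4500) (iv F21891)
theorem F27022 : act 6 n5618 = n5618 := d40_1 D5618 (iv D5618) F21892
theorem F27023 : act 7 n5618 = n4498 := d42_1 D5618 (iv D4498) (iv F21893)
theorem F27024 : act 9 n5618 = n5618 := d44_2 D4497 D5618 (iv D5618) (iv D4497) F16053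
def n5619 : Q := act 5 n4498
theorem D5619 : act 5 n4498 = n5619 := rfl
theorem F27025 : act 0 n5619 = n4745 := d4_1 D5619 (iv D4745) (iv F21894)
theorem F27026 : act 2 n5619 = n4550 := d19_1 D5619 (iv D4550) (iv F21895)
theorem F27027 : act 9 n5619 = n5619 := d38_2 F21898 D5619 (iv D5619)
def n5620 : Q := act 6 n4499
theorem D5620 : act 6 n4499 = n5620 := rfl
theorem F27028 : act 0 n5620 = n4746 := d5_1 D5620 (iv D4746) (iv F21899)
theorem F27029 : act 2 n5620 = n4551 := d20_1 D5620 (iv D4551) (iv F21900)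
theorem F27030 : act 4 n5620 = n5620 := d31_1 D5620 (iv D5620) F21901
theorem F27031 : act 8 n5620 = n4514 := d40_2 (iv F21903) D5620 (iv D4514)
theorem F27032 : act 9 n5620 = n5620 := d41_2 F21904 D5620 (iv D5620)
def n5621 : Q := act 5 n4500
theorem D5621 : act 5 n4500 = n5621 := rfl
theorem F27033 : act 0 n5621 = n4747 := d4_1 D5621 (iv D4747) (iv F21905)
theorem F27034 : act 1 n5621 = n5386 := d12_1 D5621 (iv D5386) (iv F21906)
theorem F27035 : act 2 n5621 = n4552 := d19_1 D5621 (iv D4552) (iv F21907)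
theorem F27036 : act 3 n5621 = n5373 := d25_1 D5621 (iv D5373) (iv F21908)
theorem F27037 : act 7 n5621 = n4501 := d36_2 (iv F21910) D5621 (iv D4501)
theorem F27038 : act 8 n5621 = n5621 := d37_2 D4500 D5621 (iv D5621) (iv D4500) F16065
theorem F27039 : act 9 n5621 = n5621 := d38_2 F21911 D5621 (iv D5621)
def n5622 : Q := act 4 n4501
theorem D5622 : act 4 n4501 = n5622 := rfl
theorem F27040 : act 0 n5622 = n4748 := d3_1 D5622 (iv D4748) (iv F21912)
theorem F27041 : act 2 n5622 = n4553 := d18_1 D5622 (iv D4553) (iv F21913)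
theorem F27042 : act 6 n5622 = n5622 := d31_2 F21914 D5622 (iv D5622)
theorem F27043 : act 8 n5622 = n5622 := d33_2 F21915 D5622 (iv D5622)
theorem F27044 : act 9 n5622 = n5622 := d34_2 F21916 D5622 (iv D5622)
def n5623 : Q := act 6 n4502
theorem D5623 : act 6 n4502 = n5623 := rfl
theorem F27045 : act 0 n5623 = n4503 := d5_1 D5623 (iv D4503) D4502
theorem F27046 : act 1 n5623 = n4749 := d13_1 D5623 (iv D4749) (iv F21917)
theorem F27047 : act 2 n5623 = n5138 := d20_1 D5623 (iv F26854) F26850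
theorem F27048 : act 3 n5623 = n4554 := d26_1 D5623 (iv D4554) (iv F21918)
theorem F27049 : act 4 n5623 = n5623 := d31_1 D5623 (iv D5623) F21919
theorem F27050 : act 8 n5623 = n4516 := d40_2 (iv F21921) D5623 (iv D4516)
theorem F27051 : act 7 n4870 = n5623 := d42_3 F27050 (iv F22000) D4870
def n5624 : Q := act 9 n4502
theorem D5624 : act 9 n4502 = n5624 := rfl
theorem F27052 : act 0 n5624 = n4504 := d8_1 D5624 (iv D4504) D4502
theorem F27053 : act 1 n5624 = n4750 := d16_1 D5624 (iv D4750) (iv F21917)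
theorem F27054 : act 3 n5624 = n4555 := d29_1 D5624 (iv D4555) (iv F21918)
theorem F27055 : act 4 n5624 = n5624 := d34_1 D5624 (iv D5624) F21919
theorem F27056 : act 7 n5624 = n5624 := d43_1 D5624 (iv D5624) F21920
def n5625 : Q := act 5 n4503
theorem D5625 : act 5 n4503 = n5625 := rfl
theorem F27057 : act 1 n5625 = n4505 := d12_1 D5625 (iv D4505) (iv F21922)
theorem F27058 : act 2 n5625 = n4844 := d19_1 D5625 F23570 (iv F21923)
theorem F27059 : act 3 n5625 = n4556 := d25_1 D5625 (iv D4556) (iv F21924)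
theorem F27060 : act 6 n5625 = n4833 := d35_2 D4503 D5625 F23539 F21843 F21840
theorem F27061 : act 7 n5625 = n4827 := d36_2 F21927 D5625 F23517
theorem F27062 : act 8 n5625 = n4826 := d37_2 (iv F21926) D5625 F23514 F18262 (iv F20198)
theorem F27063 : act 4 n4836 = n5625 := d33_3 F27062 (iv F26968) (iv F26971)
def n5626 : Q := act 9 n4503
theorem D5626 : act 9 n4503 = n5626 := rfl
theorem F27064 : act 1 n5626 = n4506 := d16_1 D5626 (iv D4506) (iv F21922)
theorem F27065 : act 2 n5626 = n5146 := d23_1 D5626 (iv D5146) (iv F21923)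
theorem F27066 : act 3 n5626 = n4558 := d29_1 D5626 (iv D4558) (iv F21924)

end Cfsg.Agent.Helper17.SP6TC
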