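import Cfsg.Agent.Helper17.SP6TC.Facts2

set_option autoImplicit false
set_option linter.all false

noncomputable section

namespace Cfsg.Agent.Helper17.SP6TC

theorem F27067 : act 4 n5626 = n5626 := d34_1 D5626 (iv D5626) F21925
theorem F27068 : act 6 n5626 = n4504 := d41_1 D5626 (iv D4504) D4503
theorem F27069 : act 7 n5626 = n4875 := d43_1 D5626 (iv D4875) F21927
def n5627 : Q := act 8 n4504
theorem D5627 : act 8 n4504 = n5627 := rfl
theorem F27070 : act 1 n5627 = n4507 := d15_1 D5627 (iv D4507) (iv F21928)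
theorem F27071 : act 3 n5627 = n4559 := d28_1 D5627 (iv D4559) (iv F21929)
theorem F27072 : act 4 n5627 = n5627 := d33_1 D5627 (iv D5627) F21930
theorem F27073 : act 7 n5627 = n5627 := d42_1 D5627 (iv D5627) F21931
theorem F27074 : act 9 n5627 = n4519 := d44_2 D4504 D5627 (iv D4519) (iv D3326) (iv F16075)
def n5628 : Q := act 4 n4505
theorem D5628 : act 4 n4505 = n5628 := rfl
theorem F27075 : act 0 n5628 = n4754 := d3_1 D5628 (iv D4754) (iv F21932)
theorem F27076 : act 1 n5628 = n4836 := d11_1 D5628 F27063 F27057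
theorem F27077 : act 2 n5628 = n4508 := d18_1 D5628 (iv D4508) (iv F21933)
theorem F27078 : act 5 n5628 = n5628 := d30_2 D4505 D5628 (iv D5628) (iv D4505) F16079
theorem F27079 : act 6 n5628 = n4826 := d31_2 F26969 D5628 (iv F26968)
theorem F27080 : act 7 n5628 = n4834 := d32_2 (iv F21935) D5628 F23541
theorem F27081 : act 8 n5628 = n4833 := d33_2 (iv F21936) D5628 F23538
def n5629 : Q := act 9 n4505
theorem D5629 : act 9 n4505 = n5629 := rfl
theorem F27082 : act 0 n5629 = n4755 := d8_1 D5629 (iv D4755) (iv F21932)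
theorem F27083 : act 2 n5629 = n4509 := d23_1 D5629 (iv D4509) (iv F21933)
theorem F27084 : act 3 n5629 = n4563 := d29_1 D5629 (iv D4563) (iv F21934)
theorem F27085 : act 5 n5629 = n4506 := d38_1 D5629 (iv D4506) D4505
theorem F27086 : act 7 n5629 = n4838 := d43_1 D5629 (iv D4838) (iv F21935)
def n5630 : Q := act 8 n4506
theorem D5630 : act 8 n4506 = n5630 := rfl
theorem F27087 : act 0 n5630 = n4756 := d7_1 D5630 (iv D4756) (iv F21937)
theorem F27088 : act 2 n5630 = n4510 := d22_1 D5630 (iv D4510) (iv F21938)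
theorem F27089 : act 3 n5630 = n4565 := d28_1 D5630 (iv D4565) (iv F21939)
theorem F27090 : act 4 n5630 = n5630 := d33_1 D5630 (iv D5630) F21940
theorem F27091 : act 6 n5630 = n4507 := d40_1 D5630 (iv D4507) (iv F21941)
theorem F27092 : act 7 n5630 = n4881 := d42_1 D5630 (iv D4881) (iv F21942)
theorem F27093 : act 9 n5630 = n4520 := d44_2 D4506 D5630 (iv D4520) (iv D3329) (iv F16080)
def n5631 : Q := act 5 n4507
theorem D5631 : act 5 n4507 = n5631 := rfl
theorem F27094 : act 0 n5631 = n4757 := d4_1 D5631 (iv D4757) (iv F21943)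
theorem F27095 : act 2 n5631 = n4511 := d19_1 D5631 (iv D4511) (iv F21944)
theorem F27096 : act 3 n5631 = n4566 := d25_1 D5631 (iv D4566) (iv F21945)
theorem F27097 : act 7 n5631 = n5631 := d36_2 F21947 D5631 (iv D5631)
theorem F27098 : act 9 n5631 = n4521 := d38_2 (iv F21948) D5631 (iv D4521)
def n5632 : Q := act 9 n4508
theorem D5632 : act 9 n4508 = n5632 := rfl
theorem F27099 : act 0 n5632 = n4758 := d8_1 D5632 (iv D4758) (iv F21949)
theorem F27100 : act 1 n5632 = n5091 := d16_1 D5632 (iv D5091) (iv F21950)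
theorem F27101 : act 3 n5632 = n5632 := d29_1 D5632 (iv D5632) F21951
theorem F27102 : act 4 n5632 = n4509 := d34_1 D5632 (iv D4509) D4508
theorem F27103 : act 5 n5632 = n5632 := d38_1 D5632 (iv D5632) F21952
theorem F27104 : act 6 n5632 = n5082 := d41_1 D5632 (iv D5082) (iv F21953)
theorem F27105 : act 7 n5632 = n4846 := d43_1 D5632 (iv D4846) (iv F21954)
def n5633 : Q := act 8 n4509
theorem D5633 : act 8 n4509 = n5633 := rfl
theorem F27106 : act 0 n5633 = n4759 := d7_1 D5633 (iv D4759) (iv F21956)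
theorem F27107 : act 1 n5633 = n5106 := d15_1 D5633 (iv D5106) (iv F21957)
theorem F27108 : act 3 n5633 = n4512 := d28_1 D5633 (iv D4512) (iv F21958)
theorem F27109 : act 7 n5633 = n4850 := d42_1 D5633 (iv D4850) (iv F21960)
theorem F27110 : act 9 n5633 = n4849 := d44_2 D4509 D5633 (iv D4849) (iv D3796) (iv F20183)
def n5634 : Q := act 5 n4510
theorem D5634 : act 5 n4510 = n5634 := rfl
theorem F27111 : act 0 n5634 = n4760 := d4_1 D5634 (iv D4760) (iv F21961)
theorem F27112 : act 1 n5634 = n5169 := d12_1 D5634 (iv D5169) (iv F21962)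
theorem F27113 : act 3 n5634 = n4513 := d25_1 D5634 (iv D4513) (iv F21963)
theorem F27114 : act 7 n5634 = n4889 := d36_2 (iv F21966) D5634 (iv D4889)
theorem F27115 : act 9 n5634 = n4522 := d38_2 (iv F21967) D5634 (iv D4522)
def n5635 : Q := act 4 n4511
theorem D5635 : act 4 n4511 = n5635 := rfl
theorem F27116 : act 0 n5635 = n4761 := d3_1 D5635 (iv D4761) (iv F21968)
theorem F27117 : act 3 n5635 = n5635 := d24_1 D5635 (iv D5635) F21969 F16126 (iv F21969)
theorem F27118 : act 5 n5635 = n5635 := d30_2 D4511 D5635 (iv D5635) (iv D4511) F16099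
theorem F27119 : act 7 n5635 = n5635 := d32_2 F21970 D5635 (iv D5635)
theorem F27120 : act 9 n5635 = n4523 := d34_2 (iv F21971) D5635 (iv D4523)
def n5636 : Q := act 6 n4511
theorem D5636 : act 6 n4511 = n5636 := rfl
theorem F27121 : act 0 n5636 = n4762 := d5_1 D5636 (iv D4762) (iv F21968)
theorem F27122 : act 3 n5636 = n4514 := d26_1 D5636 (iv D4514) (iv F21969)
theorem F27123 : act 9 n5636 = n4524 := d41_2 (iv F21971) D5636 (iv D4524)
def n5637 : Q := act 5 n4512
theorem D5637 : act 5 n4512 = n5637 := rfl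
theorem F27124 : act 0 n5637 = n4763 := d4_1 D5637 (iv D4763) (iv F21972)
theorem F27125 : act 1 n5637 = n5120 := d12_1 D5637 (iv D5120) (iv F21973)
theorem F27126 : act 2 n5637 = n4581 := d19_1 D5637 (iv D4581) (iv F21974)
theorem F27127 : act 7 n5637 = n4859 := d36_2 (iv F21976) D5637 (iv D4859)
theorem F27128 : act 8 n5637 = n4513 := d37_2 D4512 D5637 (iv D4513) (iv D3320) (iv F16113)
theorem F27129 : act 9 n5637 = n4858 := d38_2 (iv F21977) D5637 (iv D4858)
def n5638 : Q := act 4 n4513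
theorem D5638 : act 4 n4513 = n5638 := rfl
theorem F27130 : act 0 n5638 = n4764 := d3_1 D5638 (iv D4764) (iv F21978)
theorem F27131 : act 1 n5638 = n5186 := d11_1 D5638 (iv D5186) (iv F21979)
theorem F27132 : act 2 n5638 = n4583 := d18_1 D5638 (iv D4583) (iv F21980)
theorem F27133 : act 5 n5638 = n4515 := d30_2 D4513 D5638 (iv D4515) (iv D3323) (iv F16121)
theorem F27134 : act 7 n5638 = n4899 := d32_2 (iv F21981) D5638 (iv D4899)
theorem F27135 : act 9 n5638 = n4525 := d34_2 (iv F21982) D5638 (iv D4525)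
def n5639 : Q := act 6 n4513
theorem D5639 : act 6 n4513 = n5639 := rfl
theorem F27136 : act 0 n5639 = n4765 := d5_1 D5639 (iv D4765) (iv F21978)
theorem F27137 : act 1 n5639 = n5187 := d13_1 D5639 (iv D5187) (iv F21979)
theorem F27138 : act 2 n5639 = n4584 := d20_1 D5639 (iv D4584) (iv F21980)
theorem F27139 : act 5 n5639 = n4514 := d35_1 D5639 (iv D4514) (iv D3321) (iv F16122) D4513
theorem F27140 : act 9 n5639 = n4526 := d41_2 (iv F21982) D5639 (iv D4526)
def n5640 : Q := act 7 n4514
theorem D5640 : act 7 n4514 = n5640 := rfl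
theorem F27141 : act 0 n5640 = n4766 := d6_1 D5640 (iv D4766) (iv F21983)
theorem F27142 : act 2 n5640 = n4585 := d21_1 D5640 (iv D4585) (iv F21984)
theorem F27143 : act 4 n5640 = n5640 := d32_1 D5640 (iv D5640) F21985
theorem F27144 : act 6 n5640 = n5640 := d39_1 D5640 (iv D5640) (iv D4514) F16127 D4514
theorem F27145 : act 9 n5640 = n4527 := d43_2 (iv F21986) D5640 (iv D4527)
def n5641 : Q := act 3 n4515
theorem D5641 : act 3 n4515 = n5641 := rfl
theorem F27146 : act 0 n5641 = n4767 := d2_1 D5641 (iv D4767) (iv F21987)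
theorem F27147 : act 1 n5641 = n5209 := d10_1 D5641 (iv D5209) (iv F21988)
theorem F27148 : act 4 n5641 = n5641 := d24_2 D4515 D5641 (iv D5641) (iv D4515) F16137
theorem F27149 : act 6 n5641 = n5641 := d26_2 F21990 D5641 (iv D5641)
theorem F27150 : act 7 n5641 = n4914 := d27_2 (iv F21991) D5641 (iv D4914)
theorem F27151 : act 8 n5641 = n5641 := d28_2 F21992 D5641 (iv D5641)
theorem F27152 : act 9 n5641 = n4528 := d29_2 (iv F21993) D5641 (iv D4528)
def n5642 : Q := act 9 n4516
theorem D5642 : act 9 n4516 = n5642 := rfl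
theorem F27153 : act 0 n5642 = n4518 := d8_1 D5642 (iv D4518) (iv F21994)
theorem F27154 : act 1 n5642 = n4768 := d16_1 D5642 (iv D4768) (iv F21995)
theorem F27155 : act 2 n5642 = n5139 := d23_1 D5642 (iv D5139) (iv F21996)
theorem F27156 : act 3 n5642 = n4591 := d29_1 D5642 (iv D4591) (iv F21997)
theorem F27157 : act 4 n5642 = n5642 := d34_1 D5642 (iv D5642) F21998
theorem F27158 : act 5 n5642 = n4872 := d38_1 D5642 (iv D4872) F21999
theorem F27159 : act 6 n5642 = n4517 := d41_1 D5642 (iv D4517) D4516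
theorem F27160 : act 7 n5642 = n4871 := d43_1 D5642 (iv D4871) F22000
def n5643 : Q := act 8 n4517
theorem D5643 : act 8 n4517 = n5643 := rfl
theorem F27161 : act 0 n5643 = n4519 := d7_1 D5643 (iv D4519) (iv F22001)
theorem F27162 : act 1 n5643 = n4769 := d15_1 D5643 (iv D4769) (iv F22002)
theorem F27163 : act 3 n5643 = n4592 := d28_1 D5643 (iv D4592) (iv F22003)
theorem F27164 : act 4 n5643 = n5643 := d33_1 D5643 (iv D5643) F22004
theorem F27165 : act 7 n5643 = n5643 := d42_1 D5643 (iv D5643) F22006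
def n5644 : Q := act 8 n4518
theorem D5644 : act 8 n4518 = n5644 := rfl
theorem F27166 : act 1 n5644 = n4520 := d15_1 D5644 (iv D4520) (iv F22007)
theorem F27167 : act 2 n5644 = n5147 := d22_1 D5644 (iv D5147) (iv F22008)
theorem F27168 : act 3 n5644 = n4596 := d28_1 D5644 (iv D4596) (iv F22009)
theorem F27169 : act 4 n5644 = n5644 := d33_1 D5644 (iv D5644) F22010
theorem F27170 : act 6 n5644 = n4519 := d40_1 D5644 (iv D4519) (iv F22012)
theorem F27171 : act 7 n5644 = n4876 := d42_1 D5644 (iv D4876) (iv F22013)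
def n5645 : Q := act 5 n4519
theorem D5645 : act 5 n4519 = n5645 := rfl
theorem F27172 : act 1 n5645 = n4521 := d12_1 D5645 (iv D4521) (iv F22014)
theorem F27173 : act 3 n5645 = n4597 := d25_1 D5645 (iv D4597) (iv F22015)
theorem F27174 : act 7 n5645 = n5645 := d36_2 F22017 D5645 (iv D5645)
theorem F27175 : act 8 n5645 = n5645 := d37_2 D4519 D5645 (iv D5645) (iv D4519) F16152
def n5646 : Q := act 5 n4520
theorem D5646 : act 5 n4520 = n5646 := rfl
theorem F27176 : act 0 n5646 = n4772 := d4_1 D5646 (iv D4772) (iv F22018)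
theorem F27177 : act 2 n5646 = n4522 := d19_1 D5646 (iv D4522) (iv F22019)
theorem F27178 : act 3 n5646 = n4601 := d25_1 D5646 (iv D4601) (iv F22020)
theorem F27179 : act 7 n5646 = n4882 := d36_2 (iv F22023) D5646 (iv D4882)
theorem F27180 : act 8 n5646 = n4883 := d37_2 D4520 D5646 (iv D4883) (iv D3831) (iv F20200)
def n5647 : Q := act 4 n4521
theorem D5647 : act 4 n4521 = n5647 := rfl
theorem F27181 : act 0 n5647 = n4773 := d3_1 D5647 (iv D4773) (iv F22024)
theorem F27182 : act 2 n5647 = n4523 := d18_1 D5647 (iv D4523) (iv F22025)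
theorem F27183 : act 5 n5647 = n5647 := d30_2 D4521 D5647 (iv D5647) (iv D4521) F16171
theorem F27184 : act 7 n5647 = n5647 := d32_2 F22027 D5647 (iv D5647)
theorem F27185 : act 8 n5647 = n5647 := d33_2 F22028 D5647 (iv D5647)
def n5648 : Q := act 6 n4521
theorem D5648 : act 6 n4521 = n5648 := rfl
theorem F27186 : act 0 n5648 = n4774 := d5_1 D5648 (iv D4774) (iv F22024)
theorem F27187 : act 2 n5648 = n4524 := d20_1 D5648 (iv D4524) (iv F22025)
theorem F27188 : act 3 n5648 = n4603 := d26_1 D5648 (iv D4603) (iv F22026)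
theorem F27189 : act 8 n5648 = n5648 := d40_2 F22028 D5648 (iv D5648)
def n5649 : Q := act 4 n4522
theorem D5649 : act 4 n4522 = n5649 := rfl
theorem F27190 : act 0 n5649 = n4775 := d3_1 D5649 (iv D4775) (iv F22029)
theorem F27191 : act 1 n5649 = n5170 := d11_1 D5649 (iv D5170) (iv F22030)
theorem F27192 : act 5 n5649 = n5649 := d30_2 D4522 D5649 (iv D5649) (iv D4522) F16194
theorem F27193 : act 7 n5649 = n4890 := d32_2 (iv F22032) D5649 (iv D4890)
theorem F27194 : act 8 n5649 = n4892 := d33_2 (iv F22033) D5649 (iv D4892)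
def n5650 : Q := act 6 n4522
theorem D5650 : act 6 n4522 = n5650 := rfl
theorem F27195 : act 0 n5650 = n4776 := d5_1 D5650 (iv D4776) (iv F22029)
theorem F27196 : act 1 n5650 = n5171 := d13_1 D5650 (iv D5171) (iv F22030)
theorem F27197 : act 3 n5650 = n4526 := d26_1 D5650 (iv D4526) (iv F22031)
theorem F27198 : act 5 n5650 = n4524 := d35_1 D5650 (iv D4524) (iv D3337) (iv F16195) D4522
theorem F27199 : act 8 n5650 = n4893 := d40_2 (iv F22033) D5650 (iv D4893)
def n5651 : Q := act 6 n4523
theorem D5651 : act 6 n4523 = n5651 := rfl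
theorem F27200 : act 0 n5651 = n4777 := d5_1 D5651 (iv D4777) (iv F22034)
theorem F27201 : act 3 n5651 = n5651 := d26_1 D5651 (iv D5651) F22035
theorem F27202 : act 4 n5651 = n4524 := d31_1 D5651 (iv D4524) D4523
theorem F27203 : act 8 n5651 = n5651 := d40_2 F22038 D5651 (iv D5651)
def n5652 : Q := act 7 n4524
theorem D5652 : act 7 n4524 = n5652 := rfl
theorem F27204 : act 0 n5652 = n4778 := d6_1 D5652 (iv D4778) (iv F22039)
theorem F27205 : act 3 n5652 = n4527 := d27_1 D5652 (iv D4527) (iv F22040)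
theorem F27206 : act 6 n5652 = n5652 := d39_1 D5652 (iv D5652) (iv D4524) F16198 D4524
theorem F27207 : act 8 n5652 = n5652 := d42_2 F22041 D5652 (iv D5652)
def n5653 : Q := act 3 n4525
theorem D5653 : act 3 n4525 = n5653 := rfl
theorem F27208 : act 0 n5653 = n4779 := d2_1 D5653 (iv D4779) (iv F22042)
theorem F27209 : act 1 n5653 = n5188 := d10_1 D5653 (iv D5188) (iv F22043)
theorem F27210 : act 5 n5653 = n4528 := d25_2 (iv F22045) D5653 (iv D4528)
theorem F27211 : act 7 n5653 = n4901 := d27_2 (iv F22046) D5653 (iv D4901)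
theorem F27212 : act 8 n5653 = n4904 := d28_2 (iv F22047) D5653 (iv D4904)
def n5654 : Q := act 6 n4525
theorem D5654 : act 6 n4525 = n5654 := rfl
theorem F27213 : act 0 n5654 = n4780 := d5_1 D5654 (iv D4780) (iv F22042)
theorem F27214 : act 1 n5654 = n5189 := d13_1 D5654 (iv D5189) (iv F22043)
theorem F27215 : act 2 n5654 = n4617 := d20_1 D5654 (iv D4617) (iv F22044)
theorem F27216 : act 4 n5654 = n4526 := d31_1 D5654 (iv D4526) D4525
theorem F27217 : act 5 n5654 = n5654 := d35_1 D5654 (iv D5654) F22045 F16240 (iv F22045)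
theorem F27218 : act 8 n5654 = n4905 := d40_2 (iv F22047) D5654 (iv D4905)
def n5655 : Q := act 7 n4526
theorem D5655 : act 7 n4526 = n5655 := rfl
theorem F27219 : act 0 n5655 = n4781 := d6_1 D5655 (iv D4781) (iv F22048)
theorem F27220 : act 1 n5655 = n5190 := d14_1 D5655 (iv D5190) (iv F22049)
theorem F27221 : act 2 n5655 = n4618 := d21_1 D5655 (iv D4618) (iv F22050)
theorem F27222 : act 5 n5655 = n4527 := d36_1 D5655 (iv D4527) (iv F22051)
theorem F27223 : act 6 n5655 = n4903 := d39_1 D5655 (iv D4903) (iv D3853) (iv F20205) D4526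
theorem F27224 : act 8 n5655 = n4906 := d42_2 (iv F22052) D5655 (iv D4906)
def n5656 : Q := act 2 n4528
theorem D5656 : act 2 n4528 = n5656 := rfl
theorem F27225 : act 0 n5656 = n4782 := d1_1 D5656 (iv D4782) (iv F22058)
theorem F27226 : act 3 n5656 = n4621 := d17_2 D4528 D5656 (iv D4621) (iv D3478) (iv F16239)
theorem F27227 : act 4 n5656 = n5656 := d18_2 F22060 D5656 (iv D5656)
theorem F27228 : act 6 n5656 = n5656 := d20_2 F22061 D5656 (iv D5656)
theorem F27229 : act 7 n5656 = n4916 := d21_2 (iv F22062) D5656 (iv D4916)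
theorem F27230 : act 8 n5656 = n4529 := d22_2 (iv F22063) D5656 (iv D4529)
def n5657 : Q := act 1 n4529
theorem D5657 : act 1 n4529 = n5657 := rfl
theorem F27232 : act 3 n5657 = n4630 := d10_2 (iv F22065) D5657 (iv D4630)
theorem F27234 : act 5 n5657 = n4921 := d12_2 (iv F22067) D5657 (iv D4921)
theorem F27236 : act 7 n5657 = n4919 := d14_2 (iv F22069) D5657 (iv D4919)
def n5658 : Q := act 6 n4530
theorem D5658 : act 6 n4530 = n5658 := rfl
theorem F27238 : act 0 n5658 = n4531 := d5_1 D5658 (iv D4531) D4530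
theorem F27239 : act 1 n5658 = n4784 := d13_1 D5658 (iv D4784) (iv F22071)
theorem F27240 : act 2 n5658 = n5658 := d20_1 D5658 (iv D5658) F22072
theorem F27241 : act 3 n5658 = n4642 := d26_1 D5658 (iv F26954) F26951
theorem F27242 : act 4 n5658 = n5658 := d31_1 D5658 (iv D5658) F22073
theorem F27243 : act 8 n5658 = n5658 := d40_2 F22076 D5658 (iv D5658)
theorem F27244 : act 7 n5658 = n4641 := d45_5 F12145 F12146 (iv F16592) (iv F22074) D5658 F22649 F22646 (iv D4641) (iv D3523) (iv D2465) (iv D1722) F6144 F6145 (iv D843) (iv D585) (iv D405) (iv D279) F1096 F773 (iv D90) F377 D88 F527 F528 F529 D129 D188 (iv F1491) F1492 F1493 D386 D557 (iv F20025) F2351 F20024 F3044 F2213 (iv F3121) F3122 (iv D588) (iv F3097) F3095 (iv F4247) (iv F5979) D1677 (iv F11796) D3413 D4545 F22153 (iv F23405) F23406 F19372 F13975 (iv F19608) (iv D4101) (iv F20197) F16147 F11900 F8730 (iv D1736) F6192 (iv F8650) D2462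
def n5659 : Q := act 9 n4530
theorem D5659 : act 9 n4530 = n5659 := rfl
theorem F27245 : act 0 n5659 = n4532 := d8_1 D5659 (iv D4532) D4530
theorem F27246 : act 1 n5659 = n4785 := d16_1 D5659 (iv D4785) (iv F22071)
theorem F27247 : act 2 n5659 = n5659 := d23_1 D5659 (iv D5659) F22072
theorem F27248 : act 4 n5659 = n5659 := d34_1 D5659 (iv D5659) F22073
theorem F27249 : act 5 n5659 = n4555 := d38_1 D5659 (iv D4555) (iv F22074)
theorem F27250 : act 7 n5659 = n5659 := d43_1 D5659 (iv D5659) F22075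
def n5660 : Q := act 5 n4531
theorem D5660 : act 5 n4531 = n5660 := rfl
theorem F27251 : act 1 n5660 = n4533 := d12_1 D5660 (iv D4533) (iv F22077)
theorem F27252 : act 2 n5660 = n5660 := d19_1 D5660 (iv D5660) F22078
theorem F27253 : act 3 n5660 = n4833 := d25_1 D5660 F23539 (iv F22079)
theorem F27254 : act 6 n5660 = n4556 := d35_2 D4531 D5660 (iv D4556) (iv D3422) (iv F16515)
theorem F27255 : act 7 n5660 = n4832 := d36_2 F22082 D5660 F23536
def n5661 : Q := act 9 n4531
theorem D5661 : act 9 n4531 = n5661 := rfl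
theorem F27256 : act 1 n5661 = n4535 := d16_1 D5661 (iv D4535) (iv F22077)
theorem F27257 : act 2 n5661 = n5661 := d23_1 D5661 (iv D5661) F22078
theorem F27258 : act 3 n5661 = n4936 := d29_1 D5661 (iv D4936) (iv F22079)
theorem F27259 : act 4 n5661 = n5661 := d34_1 D5661 (iv D5661) F22080
theorem F27260 : act 6 n5661 = n4532 := d41_1 D5661 (iv D4532) D4531
theorem F27261 : act 7 n5661 = n4935 := d43_1 D5661 (iv D4935) F22082
def n5662 : Q := act 8 n4532
theorem D5662 : act 8 n4532 = n5662 := rfl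
theorem F27262 : act 1 n5662 = n4536 := d15_1 D5662 (iv D4536) (iv F22083)
theorem F27263 : act 2 n5662 = n5662 := d22_1 D5662 (iv D5662) F22084
theorem F27264 : act 4 n5662 = n5662 := d33_1 D5662 (iv D5662) F22085
theorem F27265 : act 7 n5662 = n5662 := d42_1 D5662 (iv D5662) F22087
theorem F27266 : act 9 n5662 = n5662 := d44_2 D4532 D5662 (iv D5662) (iv D4532) F16517
def n5663 : Q := act 4 n4533
theorem D5663 : act 4 n4533 = n5663 := rfl
theorem F27267 : act 0 n5663 = n4790 := d3_1 D5663 (iv D4790) (iv F22088)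
theorem F27268 : act 2 n5663 = n4537 := d18_1 D5663 (iv D4537) (iv F22089)
theorem F27269 : act 5 n5663 = n5663 := d30_2 D4533 D5663 (iv D5663) (iv D4533) F16520
theorem F27270 : act 6 n5663 = n4560 := d31_2 (iv F22090) D5663 (iv D4560)
def n5664 : Q := act 7 n4533
theorem D5664 : act 7 n4533 = n5664 := rfl
theorem F27271 : act 0 n5664 = n4791 := d6_1 D5664 (iv D4791) (iv F22088)
theorem F27272 : act 1 n5664 = n4832 := d14_1 D5664 (iv F27255) F27251
theorem F27273 : act 2 n5664 = n4538 := d21_1 D5664 (iv D4538) (iv F22089)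
theorem F27274 : act 3 n5664 = n4825 := d27_1 D5664 (iv F26970) F26967
theorem F27275 : act 5 n5664 = n4534 := d36_1 D5664 (iv D4534) D4533
def n5665 : Q := act 8 n4533
theorem D5665 : act 8 n4533 = n5665 := rfl
theorem F27276 : act 0 n5665 = n4792 := d7_1 D5665 (iv D4792) (iv F22088)
theorem F27277 : act 2 n5665 = n4539 := d22_1 D5665 (iv D4539) (iv F22089)
theorem F27278 : act 3 n5665 = n4836 := d28_1 D5665 F26971 F26967
theorem F27279 : act 5 n5665 = n5665 := d37_1 D5665 (iv D5665) (iv D4533) F16521 D4533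
theorem F27280 : act 6 n5665 = n4562 := d40_1 D5665 (iv D4562) (iv F22090)
def n5666 : Q := act 9 n4533
theorem D5666 : act 9 n4533 = n5666 := rfl
theorem F27281 : act 0 n5666 = n4793 := d8_1 D5666 (iv D4793) (iv F22088)
theorem F27282 : act 2 n5666 = n4540 := d23_1 D5666 (iv D4540) (iv F22089)
theorem F27283 : act 5 n5666 = n4535 := d38_1 D5666 (iv D4535) D4533
theorem F27284 : act 6 n5666 = n4563 := d41_1 D5666 (iv D4563) (iv F22090)
def n5667 : Q := act 9 n4534
theorem D5667 : act 9 n4534 = n5667 := rfl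
theorem F27285 : act 0 n5667 = n4794 := d8_1 D5667 (iv D4794) (iv F22091)
theorem F27286 : act 1 n5667 = n4935 := d16_1 D5667 (iv D4935) (iv F22092)
theorem F27287 : act 2 n5667 = n4541 := d23_1 D5667 (iv D4541) (iv F22093)
theorem F27288 : act 3 n5667 = n4928 := d29_1 D5667 (iv D4928) (iv F22094)
theorem F27289 : act 4 n5667 = n5667 := d34_1 D5667 (iv D5667) F22095
theorem F27290 : act 6 n5667 = n5667 := d41_1 D5667 (iv D5667) F22096
theorem F27291 : act 7 n5667 = n4535 := d43_1 D5667 (iv D4535) D4534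
def n5668 : Q := act 8 n4535
theorem D5668 : act 8 n4535 = n5668 := rfl
theorem F27292 : act 0 n5668 = n4795 := d7_1 D5668 (iv D4795) (iv F22098)
theorem F27293 : act 2 n5668 = n4542 := d22_1 D5668 (iv D4542) (iv F22099)
theorem F27294 : act 4 n5668 = n5668 := d33_1 D5668 (iv D5668) F22100
theorem F27295 : act 6 n5668 = n4536 := d40_1 D5668 (iv D4536) (iv F22101)
theorem F27296 : act 9 n5668 = n5668 := d44_2 D4535 D5668 (iv D5668) (iv D4535) F16521
def n5669 : Q := act 5 n4536
theorem D5669 : act 5 n4536 = n5669 := rfl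
theorem F27297 : act 0 n5669 = n4796 := d4_1 D5669 (iv D4796) (iv F22102)
theorem F27298 : act 2 n5669 = n4543 := d19_1 D5669 (iv D4543) (iv F22103)
theorem F27299 : act 7 n5669 = n5669 := d36_2 F22105 D5669 (iv D5669)
theorem F27300 : act 8 n5669 = n4566 := d37_2 D4536 D5669 (iv D4566) (iv D3427) (iv F16525)
theorem F27301 : act 9 n5669 = n5669 := d38_2 F22106 D5669 (iv D5669)
def n5670 : Q := act 7 n4537
theorem D5670 : act 7 n4537 = n5670 := rfl
theorem F27302 : act 0 n5670 = n4797 := d6_1 D5670 (iv D4797) (iv F22107)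
theorem F27303 : act 1 n5670 = n5670 := d14_1 D5670 (iv D5670) F22108
theorem F27304 : act 3 n5670 = n5670 := d27_1 D5670 (iv D5670) F22109
theorem F27305 : act 4 n5670 = n4538 := d32_1 D5670 (iv D4538) D4537
theorem F27306 : act 5 n5670 = n5670 := d36_1 D5670 (iv D5670) F22110
theorem F27307 : act 6 n5076 = n5670 := d5_0 F27302 (iv F23391) (iv F24520)
theorem F27308 : act 8 n5035 = n5670 := d7_0 F27302 (iv F23392) (iv F24320)
def n5671 : Q := act 8 n4537
theorem D5671 : act 8 n4537 = n5671 := rfl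
theorem F27309 : act 0 n5671 = n4798 := d7_1 D5671 (iv D4798) (iv F22107)
theorem F27310 : act 1 n5671 = n5671 := d15_1 D5671 (iv D5671) F22108
theorem F27311 : act 3 n5671 = n5671 := d28_1 D5671 (iv D5671) F22109
theorem F27312 : act 4 n5671 = n4539 := d33_1 D5671 (iv D4539) D4537
theorem F27313 : act 6 n5671 = n4568 := d40_1 D5671 (iv D4568) (iv F22111)
theorem F27314 : act 7 n5671 = n5035 := d42_1 D5671 F27308 (iv D5670)
theorem F27315 : act 5 n5036 = n5671 := d36_3 F27314 (iv D5035) D5036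
def n5672 : Q := act 9 n4537
theorem D5672 : act 9 n4537 = n5672 := rfl
theorem F27316 : act 0 n5672 = n4799 := d8_1 D5672 (iv D4799) (iv F22107)
theorem F27317 : act 1 n5672 = n5672 := d16_1 D5672 (iv D5672) F22108
theorem F27318 : act 3 n5672 = n5672 := d29_1 D5672 (iv D5672) F22109
theorem F27319 : act 4 n5672 = n4540 := d34_1 D5672 (iv D4540) D4537
theorem F27320 : act 5 n5672 = n5672 := d38_1 D5672 (iv D5672) F22110
theorem F27321 : act 6 n5672 = n4569 := d41_1 D5672 (iv D4569) (iv F22111)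
def n5673 : Q := act 6 n4538
theorem D5673 : act 6 n4538 = n5673 := rfl
theorem F27322 : act 0 n5673 = n4800 := d5_1 D5673 (iv D4800) (iv F22112)
theorem F27323 : act 1 n5673 = n5673 := d13_1 D5673 (iv D5673) F22113
theorem F27324 : act 3 n5673 = n4544 := d26_1 D5673 (iv D4544) (iv F22114)
theorem F27325 : act 4 n5673 = n5076 := d31_1 D5673 F27307 F27305
theorem F27326 : act 5 n5673 = n5673 := d35_1 D5673 (iv D5673) F22115 F16535 (iv F22115)
theorem F27327 : act 7 n5673 = n4570 := d39_2 D4538 D5673 (iv D4570) (iv D3429) (iv F16530)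
theorem F27328 : act 8 n4737 = n5673 := d42_0 F27327 F22277 D4737
def n5674 : Q := act 8 n4538
theorem D5674 : act 8 n4538 = n5674 := rfl
theorem F27329 : act 0 n5674 = n4801 := d7_1 D5674 (iv D4801) (iv F22112)
theorem F27330 : act 1 n5674 = n5674 := d15_1 D5674 (iv D5674) F22113
theorem F27331 : act 3 n5674 = n4545 := d28_1 D5674 (iv D4545) (iv F22114)
theorem F27332 : act 4 n5674 = n5035 := d33_1 D5674 F27308 F27305
theorem F27333 : act 5 n5674 = n5674 := d37_1 D5674 (iv D5674) F22115 F16536 (iv F22115)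
theorem F27334 : act 6 n5674 = n4737 := d40_1 D5674 F27328 (iv D5673)
theorem F27335 : act 7 n5674 = n4539 := d42_1 D5674 (iv D4539) D4538
def n5675 : Q := act 9 n4538
theorem D5675 : act 9 n4538 = n5675 := rfl
theorem F27336 : act 0 n5675 = n4802 := d8_1 D5675 (iv D4802) (iv F22112)
theorem F27337 : act 1 n5675 = n5675 := d16_1 D5675 (iv D5675) F22113
theorem F27338 : act 3 n5675 = n4546 := d29_1 D5675 (iv D4546) (iv F22114)
theorem F27339 : act 5 n5675 = n4541 := d38_1 D5675 (iv D4541) (iv F22115)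
theorem F27340 : act 7 n5675 = n4540 := d43_1 D5675 (iv D4540) D4538
def n5676 : Q := act 9 n4539
theorem D5676 : act 9 n4539 = n5676 := rfl
theorem F27341 : act 0 n5676 = n4803 := d8_1 D5676 (iv D4803) (iv F22116)
theorem F27342 : act 1 n5676 = n5676 := d16_1 D5676 (iv D5676) F22117
theorem F27343 : act 3 n5676 = n4547 := d29_1 D5676 (iv D4547) (iv F22118)
theorem F27344 : act 5 n5676 = n5676 := d38_1 D5676 (iv D5676) F22119
theorem F27345 : act 6 n5676 = n4572 := d41_1 D5676 (iv D4572) (iv F22120)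
def n5677 : Q := act 8 n4540
theorem D5677 : act 8 n4540 = n5677 := rfl
theorem F27346 : act 0 n5677 = n4804 := d7_1 D5677 (iv D4804) (iv F22121)
theorem F27347 : act 1 n5677 = n5677 := d15_1 D5677 (iv D5677) F22122
theorem F27348 : act 3 n5677 = n4548 := d28_1 D5677 (iv D4548) (iv F22123)
theorem F27349 : act 6 n5677 = n4573 := d40_1 D5677 (iv D4573) (iv F22125)
def n5678 : Q := act 8 n4541
theorem D5678 : act 8 n4541 = n5678 := rfl
theorem F27350 : act 0 n5678 = n4805 := d7_1 D5678 (iv D4805) (iv F22126)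
theorem F27351 : act 1 n5678 = n5678 := d15_1 D5678 (iv D5678) F22127
theorem F27352 : act 3 n5678 = n4549 := d28_1 D5678 (iv D4549) (iv F22128)
theorem F27353 : act 4 n5678 = n5678 := d33_1 D5678 (iv D5678) F22129
theorem F27354 : act 6 n5678 = n5678 := d40_1 D5678 (iv D5678) F22130
theorem F27355 : act 7 n5678 = n4542 := d42_1 D5678 (iv D4542) (iv F22131)
theorem F27356 : act 9 n5678 = n5678 := d44_2 D4541 D5678 (iv D5678) (iv D4541) F16536
def n5679 : Q := act 5 n4542
theorem D5679 : act 5 n4542 = n5679 := rfl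
theorem F27357 : act 0 n5679 = n4806 := d4_1 D5679 (iv D4806) (iv F22132)
theorem F27358 : act 1 n5679 = n5679 := d12_1 D5679 (iv D5679) F22133
theorem F27359 : act 3 n5679 = n4550 := d25_1 D5679 (iv D4550) (iv F22134)
theorem F27360 : act 9 n5679 = n5679 := d38_2 F22137 D5679 (iv D5679)
def n5680 : Q := act 4 n4543
theorem D5680 : act 4 n4543 = n5680 := rfl
theorem F27361 : act 0 n5680 = n4807 := d3_1 D5680 (iv D4807) (iv F22138)
theorem F27362 : act 1 n5680 = n5680 := d11_1 D5680 (iv D5680) F22139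
theorem F27363 : act 3 n5680 = n5680 := d24_1 D5680 (iv D5680) F22140 F16574 (iv F22140)
theorem F27364 : act 5 n5680 = n5680 := d30_2 D4543 D5680 (iv D5680) (iv D4543) F16545
theorem F27365 : act 7 n5680 = n5680 := d32_2 F22141 D5680 (iv D5680)
theorem F27366 : act 8 n5680 = n4576 := d33_2 (iv F22142) D5680 (iv D4576)
theorem F27367 : act 9 n5680 = n5680 := d34_2 F22143 D5680 (iv D5680)
def n5681 : Q := act 6 n4543
theorem D5681 : act 6 n4543 = n5681 := rfl
theorem F27368 : act 0 n5681 = n4808 := d5_1 D5681 (iv D4808) (iv F22138)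
theorem F27369 : act 1 n5681 = n5681 := d13_1 D5681 (iv D5681) F22139
theorem F27370 : act 3 n5681 = n4551 := d26_1 D5681 (iv D4551) (iv F22140)
theorem F27371 : act 8 n5681 = n4577 := d40_2 (iv F22142) D5681 (iv D4577)
theorem F27372 : act 9 n5681 = n5681 := d41_2 F22143 D5681 (iv D5681)
def n5682 : Q := act 9 n4544
theorem D5682 : act 9 n4544 = n5682 := rfl
theorem F27373 : act 0 n5682 = n4809 := d8_1 D5682 (iv D4809) (iv F22144)
theorem F27374 : act 1 n5682 = n5682 := d16_1 D5682 (iv D5682) F22145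
theorem F27375 : act 2 n5682 = n4810 := d23_1 D5682 (iv D4810) (iv F22146)
theorem F27376 : act 4 n5682 = n5682 := d34_1 D5682 (iv D5682) F22147
theorem F27377 : act 5 n5682 = n5682 := d38_1 D5682 (iv D5682) F22148
theorem F27378 : act 6 n5682 = n4546 := d41_1 D5682 (iv D4546) D4544
theorem F27379 : act 7 n5682 = n4578 := d43_1 D5682 (iv D4578) (iv F22149)
def n5683 : Q := act 9 n4545
theorem D5683 : act 9 n4545 = n5683 := rfl
theorem F27380 : act 0 n5683 = n4810 := d8_1 D5683 (iv D4810) (iv F22151)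
theorem F27381 : act 1 n5683 = n5683 := d16_1 D5683 (iv D5683) F22152
theorem F27382 : act 2 n5683 = n4809 := d23_1 D5683 (iv D4809) (iv F22153)
theorem F27383 : act 4 n5683 = n5683 := d34_1 D5683 (iv D5683) F22154
theorem F27384 : act 5 n5683 = n5683 := d38_1 D5683 (iv D5683) F22155
theorem F27385 : act 6 n5683 = n4742 := d41_1 D5683 (iv D4742) (iv F22156)
theorem F27386 : act 7 n5683 = n4547 := d43_1 D5683 (iv D4547) (iv F22157)
def n5684 : Q := act 8 n4546
theorem D5684 : act 8 n4546 = n5684 := rfl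
theorem F27387 : act 0 n5684 = n4811 := d7_1 D5684 (iv D4811) (iv F22158)
theorem F27388 : act 1 n5684 = n5684 := d15_1 D5684 (iv D5684) F22159
theorem F27389 : act 4 n5684 = n5684 := d33_1 D5684 (iv D5684) F22160
theorem F27390 : act 7 n5684 = n4548 := d42_1 D5684 (iv D4548) (iv F22162)
def n5685 : Q := act 8 n4547
theorem D5685 : act 8 n4547 = n5685 := rfl
theorem F27391 : act 0 n5685 = n4812 := d7_1 D5685 (iv D4812) (iv F22163)
theorem F27392 : act 1 n5685 = n5685 := d15_1 D5685 (iv D5685) F22164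
theorem F27393 : act 2 n5685 = n4857 := d22_1 D5685 (iv D4857) (iv F22165)
theorem F27394 : act 4 n5685 = n5685 := d33_1 D5685 (iv D5685) F22166
theorem F27395 : act 6 n5685 = n4580 := d40_1 D5685 (iv D4580) (iv F22168)
theorem F27396 : act 9 n5685 = n4548 := d44_2 D4547 D5685 (iv D4548) (iv D3415) D3414
def n5686 : Q := act 5 n4548
theorem D5686 : act 5 n4548 = n5686 := rfl
theorem F27397 : act 0 n5686 = n4813 := d4_1 D5686 (iv D4813) (iv F22169)
theorem F27398 : act 1 n5686 = n5686 := d12_1 D5686 (iv D5686) F22170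
theorem F27399 : act 8 n5686 = n4550 := d37_2 D4548 D5686 (iv D4550) (iv D3417) (iv F16560)
def n5687 : Q := act 5 n4549
theorem D5687 : act 5 n4549 = n5687 := rfl
theorem F27400 : act 0 n5687 = n4814 := d4_1 D5687 (iv D4814) (iv F22173)
theorem F27401 : act 1 n5687 = n5687 := d12_1 D5687 (iv D5687) F22174
theorem F27402 : act 7 n5687 = n4550 := d36_2 (iv F22177) D5687 (iv D4550)
theorem F27403 : act 9 n5687 = n5687 := d38_2 F22178 D5687 (iv D5687)
def n5688 : Q := act 4 n4550
theorem D5688 : act 4 n4550 = n5688 := rfl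
theorem F27404 : act 0 n5688 = n4815 := d3_1 D5688 (iv D4815) (iv F22179)
theorem F27405 : act 1 n5688 = n5688 := d11_1 D5688 (iv D5688) F22180
theorem F27406 : act 5 n5688 = n4553 := d30_2 D4550 D5688 (iv D4553) (iv D3420) (iv F16569)
theorem F27407 : act 9 n5688 = n5688 := d34_2 F22181 D5688 (iv D5688)
def n5689 : Q := act 6 n4550
theorem D5689 : act 6 n4550 = n5689 := rfl
theorem F27408 : act 0 n5689 = n4816 := d5_1 D5689 (iv D4816) (iv F22179)
theorem F27409 : act 1 n5689 = n5689 := d13_1 D5689 (iv D5689) F22180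
theorem F27410 : act 5 n5689 = n4551 := d35_1 D5689 (iv D4551) (iv D3418) (iv F16570) D4550
theorem F27411 : act 9 n5689 = n5689 := d41_2 F22181 D5689 (iv D5689)
def n5690 : Q := act 7 n4551
theorem D5690 : act 7 n4551 = n5690 := rfl
theorem F27412 : act 0 n5690 = n4817 := d6_1 D5690 (iv D4817) (iv F22182)
theorem F27413 : act 1 n5690 = n5690 := d14_1 D5690 (iv D5690) F22183
theorem F27414 : act 4 n5690 = n5690 := d32_1 D5690 (iv D5690) F22184
theorem F27415 : act 6 n5690 = n5690 := d39_1 D5690 (iv D5690) (iv D4551) F16575 D4551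
theorem F27416 : act 8 n5690 = n4585 := d42_2 (iv F22185) D5690 (iv D4585)
theorem F27417 : act 9 n5690 = n5690 := d43_2 F22186 D5690 (iv D5690)
def n5691 : Q := act 4 n4552
theorem D5691 : act 4 n4552 = n5691 := rfl
theorem F27418 : act 0 n5691 = n4818 := d3_1 D5691 (iv D4818) (iv F22187)
theorem F27419 : act 1 n5691 = n5691 := d11_1 D5691 (iv D5691) F22188
theorem F27420 : act 7 n5691 = n4553 := d32_2 (iv F22190) D5691 (iv D4553)
theorem F27421 : act 8 n5691 = n5691 := d33_2 F22191 D5691 (iv D5691)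
theorem F27422 : act 9 n5691 = n5691 := d34_2 F22192 D5691 (iv D5691)
def n5692 : Q := act 6 n4552
theorem D5692 : act 6 n4552 = n5692 := rfl
theorem F27423 : act 0 n5692 = n4819 := d5_1 D5692 (iv D4819) (iv F22187)
theorem F27424 : act 1 n5692 = n5692 := d13_1 D5692 (iv D5692) F22188
theorem F27425 : act 3 n5692 = n5692 := d26_1 D5692 (iv D5692) F22189
theorem F27426 : act 5 n5692 = n5692 := d35_1 D5692 (iv D5692) (iv D4552) F16581 D4552
theorem F27427 : act 7 n5692 = n5692 := d39_2 (iv F22190) D5692 (iv D5692) F22190 F16587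
theorem F27428 : act 8 n5692 = n5692 := d40_2 F22191 D5692 (iv D5692)
theorem F27429 : act 9 n5692 = n5692 := d41_2 F22192 D5692 (iv D5692)
def n5693 : Q := act 3 n4553
theorem D5693 : act 3 n4553 = n5693 := rfl
theorem F27430 : act 0 n5693 = n4820 := d2_1 D5693 (iv D4820) (iv F22193)
theorem F27431 : act 1 n5693 = n5693 := d10_1 D5693 (iv D5693) F22194
theorem F27432 : act 4 n5693 = n5693 := d24_2 D4553 D5693 (iv D5693) (iv D4553) F16586
theorem F27433 : act 6 n5693 = n5693 := d26_2 F22195 D5693 (iv D5693)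
theorem F27434 : act 8 n5693 = n5693 := d28_2 F22196 D5693 (iv D5693)
theorem F27435 : act 9 n5693 = n5693 := d29_2 F22197 D5693 (iv D5693)
def n5694 : Q := act 5 n4554
theorem D5694 : act 5 n4554 = n5694 := rfl
theorem F27436 : act 0 n5694 = n4556 := d4_1 D5694 (iv D4556) (iv F22198)
theorem F27437 : act 1 n5694 = n4821 := d12_1 D5694 (iv D4821) (iv F22199)
theorem F27438 : act 2 n5694 = n5694 := d19_1 D5694 (iv D5694) F22200
def n5695 : Q := act 7 n4554
theorem D5695 : act 7 n4554 = n5695 := rfl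
theorem F27439 : act 0 n5695 = n4557 := d6_1 D5695 (iv D4557) (iv F22198)
theorem F27440 : act 1 n5695 = n4822 := d14_1 D5695 (iv D4822) (iv F22199)
theorem F27441 : act 2 n5695 = n5695 := d21_1 D5695 (iv D5695) F22200
theorem F27442 : act 3 n5695 = n4870 := d27_1 D5695 F27051 F27048
theorem F27443 : act 4 n5695 = n4632 := d32_1 D5695 (iv D4632) (iv F22201)
theorem F27444 : act 6 n5695 = n5695 := d39_1 D5695 (iv D5695) (iv D4554) F16593 D4554
theorem F27445 : act 8 n5695 = n4590 := d42_2 (iv F22202) D5695 (iv D4590)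
def n5696 : Q := act 9 n4554
theorem D5696 : act 9 n4554 = n5696 := rfl
theorem F27446 : act 0 n5696 = n4558 := d8_1 D5696 (iv D4558) (iv F22198)
theorem F27447 : act 1 n5696 = n4823 := d16_1 D5696 (iv D4823) (iv F22199)
theorem F27448 : act 2 n5696 = n5696 := d23_1 D5696 (iv D5696) F22200
theorem F27449 : act 4 n5696 = n4633 := d34_1 D5696 (iv D4633) (iv F22201)
theorem F27450 : act 6 n5696 = n4555 := d41_1 D5696 (iv D4555) D4554
def n5697 : Q := act 8 n4555
theorem D5697 : act 8 n4555 = n5697 := rfl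
theorem F27451 : act 0 n5697 = n4559 := d7_1 D5697 (iv D4559) (iv F22203)
theorem F27452 : act 1 n5697 = n4824 := d15_1 D5697 (iv D4824) (iv F22204)
theorem F27453 : act 2 n5697 = n5697 := d22_1 D5697 (iv D5697) F22205
theorem F27454 : act 4 n5697 = n4634 := d33_1 D5697 (iv D4634) (iv F22206)
theorem F27455 : act 7 n5697 = n5697 := d42_1 D5697 (iv D5697) F22207
theorem F27456 : act 9 n5697 = n4592 := d44_2 D4555 D5697 (iv D4592) (iv D3446) (iv F16594)
def n5698 : Q := act 4 n4556
theorem D5698 : act 4 n4556 = n5698 := rfl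
theorem F27457 : act 1 n5698 = n4560 := d11_1 D5698 (iv D4560) (iv F22208)
theorem F27458 : act 2 n5698 = n5698 := d18_1 D5698 (iv D5698) F22209
theorem F27459 : act 5 n5698 = n4635 := d30_2 D4556 D5698 (iv D4635) (iv D3519) (iv F16597)
def n5699 : Q := act 7 n4556
theorem D5699 : act 7 n4556 = n5699 := rfl
theorem F27460 : act 1 n5699 = n4561 := d14_1 D5699 (iv D4561) (iv F22208)
theorem F27461 : act 2 n5699 = n5699 := d21_1 D5699 (iv D5699) F22209
theorem F27462 : act 3 n5699 = n4827 := d27_1 D5699 (iv F27061) F27059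
theorem F27463 : act 5 n5699 = n4557 := d36_1 D5699 (iv D4557) D4556
theorem F27464 : act 8 n5699 = n4751 := d45_6 (iv F18809) (iv F22079) F22080 D5660 F27254 D5699 F23213 F23214 D4825 F23511 F18777 F21850 F21849 F21846 F16039 F11451 F8168 (iv D1622) F5812 F5813 F5811 F4231 D1165 F5959 D1169 D1678 F8436 (iv F20028) (iv F6608) F6609 (iv D1298) (iv D901) F3302 (iv F4650) D1286 (iv F8905) F8906 (iv F12457) D3598 D4733 F23131 F23127 F17475 F12473 F8893 F8894 (iv D1767) F6325 F6323 F4640 (iv F6544) D1839 F9223 D1852 F20142 F11486 (iv F11836) D3428 F16622 F12181 D3529 F17106 F17102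
def n5700 : Q := act 8 n4556
theorem D5700 : act 8 n4556 = n5700 := rfl
theorem F27465 : act 1 n5700 = n4562 := d15_1 D5700 (iv D4562) (iv F22208)
theorem F27466 : act 2 n5700 = n5700 := d22_1 D5700 (iv D5700) F22209
theorem F27467 : act 3 n5700 = n4826 := d28_1 D5700 (iv F27062) F27059
theorem F27468 : act 5 n5700 = n4593 := d37_1 D5700 (iv D4593) (iv D3447) (iv F16598) D4556
theorem F27469 : act 7 n5700 = n4751 := d42_1 D5700 (iv F27464) (iv D5699)
def n5701 : Q := act 9 n4556
theorem D5701 : act 9 n4556 = n5701 := rfl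
theorem F27470 : act 1 n5701 = n4563 := d16_1 D5701 (iv D4563) (iv F22208)
theorem F27471 : act 2 n5701 = n5701 := d23_1 D5701 (iv D5701) F22209
theorem F27472 : act 5 n5701 = n4558 := d38_1 D5701 (iv D4558) D4556
def n5702 : Q := act 9 n4557
theorem D5702 : act 9 n4557 = n5702 := rfl
theorem F27473 : act 1 n5702 = n4564 := d16_1 D5702 (iv D4564) (iv F22210)
theorem F27474 : act 2 n5702 = n5702 := d23_1 D5702 (iv D5702) F22211
theorem F27475 : act 3 n5702 = n4875 := d29_1 D5702 (iv D4875) (iv F22212)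
theorem F27476 : act 4 n5702 = n4638 := d34_1 D5702 (iv D4638) (iv F22213)
theorem F27477 : act 6 n5702 = n5702 := d41_1 D5702 (iv D5702) F22214
theorem F27478 : act 7 n5702 = n4558 := d43_1 D5702 (iv D4558) D4557
def n5703 : Q := act 8 n4558
theorem D5703 : act 8 n4558 = n5703 := rfl
theorem F27479 : act 1 n5703 = n4565 := d15_1 D5703 (iv D4565) (iv F22216)
theorem F27480 : act 2 n5703 = n5703 := d22_1 D5703 (iv D5703) F22217
theorem F27481 : act 4 n5703 = n4639 := d33_1 D5703 (iv D4639) (iv F22218)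
theorem F27482 : act 6 n5703 = n4559 := d40_1 D5703 (iv D4559) (iv F22219)
theorem F27483 : act 9 n5703 = n4596 := d44_2 D4558 D5703 (iv D4596) (iv D3449) (iv F16598)
def n5704 : Q := act 5 n4559
theorem D5704 : act 5 n4559 = n5704 := rfl
theorem F27484 : act 1 n5704 = n4566 := d12_1 D5704 (iv D4566) (iv F22220)
theorem F27485 : act 2 n5704 = n5704 := d19_1 D5704 (iv D5704) F22221
theorem F27486 : act 7 n5704 = n5704 := d36_2 F22223 D5704 (iv D5704)
theorem F27487 : act 9 n5704 = n4597 := d38_2 (iv F22224) D5704 (iv D4597)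
def n5705 : Q := act 3 n4560
theorem D5705 : act 3 n4560 = n5705 := rfl
theorem F27488 : act 0 n5705 = n4832 := d2_1 D5705 (iv D4832) (iv F22225)
theorem F27489 : act 2 n5705 = n5705 := d17_1 D5705 (iv D5705) F22226 F16621 (iv F22226)
theorem F27490 : act 5 n5705 = n4641 := d25_2 (iv F22227) D5705 (iv D4641)
def n5706 : Q := act 7 n4560
theorem D5706 : act 7 n4560 = n5706 := rfl
theorem F27491 : act 0 n5706 = n4833 := d6_1 D5706 (iv D4833) (iv F22225)
theorem F27492 : act 2 n5706 = n4567 := d21_1 D5706 (iv D4567) (iv F22226)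
theorem F27493 : act 4 n5706 = n4561 := d32_1 D5706 (iv D4561) D4560
theorem F27494 : act 5 n5706 = n4642 := d36_1 D5706 (iv D4642) (iv F22227)
theorem F27495 : act 8 n5706 = n4754 := d45_6 (iv F26966) F26967 D5663 F27269 F27270 D5706 F23226 F17557 (iv D3619) (iv D2533) (iv D1771) F6332 F6333 D1242 F6359 F4671 F3411 F2452 F2453 F2454 (iv D459) (iv D317) (iv D218) (iv D149) F598 F417 (iv D46) F201 F202 D44 F284 F285 D65 D98 F583 (iv F815) F816 D205 D300 D437 F2360 F20026 F3033 F3034 (iv F3025) (iv D569) F2136 (iv F3011) (iv F4140) F4141 D1136 (iv F8163) D2315 D3304 F16053 F16050 (iv F16533) F16534 (iv F22115) D5673 F27327 F22277 (iv F21856)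
def n5707 : Q := act 8 n4560
theorem D5707 : act 8 n4560 = n5707 := rfl
theorem F27496 : act 0 n5707 = n4834 := d7_1 D5707 (iv D4834) (iv F22225)
theorem F27497 : act 2 n5707 = n4568 := d22_1 D5707 (iv D4568) (iv F22226)
theorem F27498 : act 4 n5707 = n4562 := d33_1 D5707 (iv D4562) D4560
theorem F27499 : act 5 n5707 = n5707 := d37_1 D5707 (iv D5707) F22227 F17075 (iv F22227)
theorem F27500 : act 7 n5707 = n4754 := d42_1 D5707 (iv F27495) (iv D5706)
def n5708 : Q := act 9 n4560
theorem D5708 : act 9 n4560 = n5708 := rfl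
theorem F27501 : act 0 n5708 = n4835 := d8_1 D5708 (iv D4835) (iv F22225)
theorem F27502 : act 2 n5708 = n4569 := d23_1 D5708 (iv D4569) (iv F22226)
theorem F27503 : act 4 n5708 = n4563 := d34_1 D5708 (iv D4563) D4560
theorem F27504 : act 5 n5708 = n4643 := d38_1 D5708 (iv D4643) (iv F22227)
def n5709 : Q := act 6 n4561
theorem D5709 : act 6 n4561 = n5709 := rfl
theorem F27505 : act 0 n5709 = n4836 := d5_1 D5709 (iv D4836) (iv F22228)
theorem F27506 : act 2 n5709 = n4570 := d20_1 D5709 (iv D4570) (iv F22229)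
theorem F27507 : act 3 n5709 = n4792 := d26_1 D5709 F23371 (iv F22230)
theorem F27508 : act 5 n5709 = n5709 := d35_1 D5709 (iv D5709) F22231 F16608 (iv F22231)
theorem F27509 : act 8 n5709 = n4732 := d40_2 F22232 D5709 F23125
def n5710 : Q := act 9 n4561
theorem D5710 : act 9 n4561 = n5710 := rfl
theorem F27510 : act 0 n5710 = n4837 := d8_1 D5710 (iv D4837) (iv F22228)
theorem F27511 : act 2 n5710 = n4571 := d23_1 D5710 (iv D4571) (iv F22229)
theorem F27512 : act 3 n5710 = n4838 := d29_1 D5710 (iv D4838) (iv F22230)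
theorem F27513 : act 5 n5710 = n4564 := d38_1 D5710 (iv D4564) (iv F22231)
theorem F27514 : act 7 n5710 = n4563 := d43_1 D5710 (iv D4563) D4561
def n5711 : Q := act 9 n4562
theorem D5711 : act 9 n4562 = n5711 := rfl
theorem F27515 : act 0 n5711 = n4838 := d8_1 D5711 (iv D4838) (iv F22233)
theorem F27516 : act 2 n5711 = n4572 := d23_1 D5711 (iv D4572) (iv F22234)
theorem F27517 : act 3 n5711 = n4837 := d29_1 D5711 (iv D4837) (iv F22235)
theorem F27518 : act 5 n5711 = n4598 := d38_1 D5711 (iv D4598) (iv F22236)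
theorem F27519 : act 7 n5711 = n4755 := d43_1 D5711 (iv D4755) (iv F22237)
def n5712 : Q := act 8 n4563
theorem D5712 : act 8 n4563 = n5712 := rfl
theorem F27520 : act 0 n5712 = n4839 := d7_1 D5712 (iv D4839) (iv F22238)
theorem F27521 : act 2 n5712 = n4573 := d22_1 D5712 (iv D4573) (iv F22239)
def n5713 : Q := act 8 n4564
theorem D5713 : act 8 n4564 = n5713 := rfl
theorem F27522 : act 0 n5713 = n4840 := d7_1 D5713 (iv D4840) (iv F22241)
theorem F27523 : act 2 n5713 = n4574 := d22_1 D5713 (iv D4574) (iv F22242)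
theorem F27524 : act 3 n5713 = n4881 := d28_1 D5713 (iv D4881) (iv F22243)
theorem F27525 : act 4 n5713 = n4647 := d33_1 D5713 (iv D4647) (iv F22244)
theorem F27526 : act 6 n5713 = n5713 := d40_1 D5713 (iv D5713) F22245
theorem F27527 : act 7 n5713 = n4565 := d42_1 D5713 (iv D4565) (iv F22246)
theorem F27528 : act 9 n5713 = n4600 := d44_2 D4564 D5713 (iv D4600) (iv D3454) (iv F16609)
def n5714 : Q := act 5 n4565
theorem D5714 : act 5 n4565 = n5714 := rfl
theorem F27529 : act 0 n5714 = n4841 := d4_1 D5714 (iv D4841) (iv F22247)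
theorem F27530 : act 2 n5714 = n4575 := d19_1 D5714 (iv D4575) (iv F22248)
theorem F27531 : act 9 n5714 = n4601 := d38_2 (iv F22251) D5714 (iv D4601)
def n5715 : Q := act 4 n4566
theorem D5715 : act 4 n4566 = n5715 := rfl
theorem F27532 : act 0 n5715 = n4842 := d3_1 D5715 (iv D4842) (iv F22252)
theorem F27533 : act 2 n5715 = n4576 := d18_1 D5715 (iv D4576) (iv F22253)
theorem F27534 : act 5 n5715 = n4649 := d30_2 D4566 D5715 (iv D4649) (iv D3528) (iv F16616)
theorem F27535 : act 7 n5715 = n5715 := d32_2 F22254 D5715 (iv D5715)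
theorem F27536 : act 9 n5715 = n4602 := d34_2 (iv F22255) D5715 (iv D4602)
def n5716 : Q := act 6 n4566
theorem D5716 : act 6 n4566 = n5716 := rfl
theorem F27537 : act 0 n5716 = n4843 := d5_1 D5716 (iv D4843) (iv F22252)
theorem F27538 : act 2 n5716 = n4577 := d20_1 D5716 (iv D4577) (iv F22253)
theorem F27539 : act 9 n5716 = n4603 := d41_2 (iv F22255) D5716 (iv D4603)
def n5717 : Q := act 6 n4567
theorem D5717 : act 6 n4567 = n5717 := rfl
theorem F27540 : act 0 n5717 = n4844 := d5_1 D5717 (iv D4844) (iv F22256)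
theorem F27541 : act 1 n5717 = n5717 := d13_1 D5717 (iv D5717) F22257
theorem F27542 : act 3 n5717 = n5717 := d26_1 D5717 (iv D5717) F22258
theorem F27543 : act 4 n5717 = n4570 := d31_1 D5717 (iv D4570) (iv F22259)
theorem F27544 : act 5 n5717 = n5138 := d35_1 D5717 (iv F26854) F26853 (iv D4651) (iv F22260)
theorem F27545 : act 7 n5717 = n5076 := d39_2 D4567 D5717 F27307 (iv D5670) F22111
theorem F27546 : act 8 n5717 = n4736 := d40_2 F22261 D5717 F23143
def n5718 : Q := act 9 n4567
theorem D5718 : act 9 n4567 = n5718 := rfl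
theorem F27547 : act 0 n5718 = n4845 := d8_1 D5718 (iv D4845) (iv F22256)
theorem F27548 : act 1 n5718 = n5718 := d16_1 D5718 (iv D5718) F22257
theorem F27549 : act 3 n5718 = n5718 := d29_1 D5718 (iv D5718) F22258
theorem F27550 : act 4 n5718 = n4571 := d34_1 D5718 (iv D4571) (iv F22259)
theorem F27551 : act 5 n5718 = n4652 := d38_1 D5718 (iv D4652) (iv F22260)
theorem F27552 : act 7 n5718 = n4569 := d43_1 D5718 (iv D4569) D4567
def n5719 : Q := act 9 n4568
theorem D5719 : act 9 n4568 = n5719 := rfl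
theorem F27553 : act 0 n5719 = n4846 := d8_1 D5719 (iv D4846) (iv F22262)
theorem F27554 : act 1 n5719 = n5719 := d16_1 D5719 (iv D5719) F22263
theorem F27555 : act 3 n5719 = n5719 := d29_1 D5719 (iv D5719) F22264
theorem F27556 : act 4 n5719 = n4572 := d34_1 D5719 (iv D4572) (iv F22265)
theorem F27557 : act 5 n5719 = n5719 := d38_1 D5719 (iv D5719) F22266
theorem F27558 : act 7 n5719 = n4758 := d43_1 D5719 (iv D4758) (iv F22267)
def n5720 : Q := act 8 n4569
theorem D5720 : act 8 n4569 = n5720 := rfl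
theorem F27559 : act 0 n5720 = n4847 := d7_1 D5720 (iv D4847) (iv F22268)
theorem F27560 : act 1 n5720 = n5720 := d15_1 D5720 (iv D5720) F22269
theorem F27561 : act 3 n5720 = n5720 := d28_1 D5720 (iv D5720) F22270
theorem F27562 : act 4 n5720 = n4573 := d33_1 D5720 (iv D4573) (iv F22271)
def n5721 : Q := act 9 n4570
theorem D5721 : act 9 n4570 = n5721 := rfl
theorem F27563 : act 0 n5721 = n4848 := d8_1 D5721 (iv D4848) (iv F22273)
theorem F27564 : act 1 n5721 = n5721 := d16_1 D5721 (iv D5721) F22274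
theorem F27565 : act 3 n5721 = n4578 := d29_1 D5721 (iv D4578) (iv F22275)
theorem F27566 : act 5 n5721 = n5721 := d38_1 D5721 (iv D5721) F22276
theorem F27567 : act 6 n5721 = n4571 := d41_1 D5721 (iv D4571) D4570
def n5722 : Q := act 8 n4571
theorem D5722 : act 8 n4571 = n5722 := rfl
theorem F27568 : act 0 n5722 = n4849 := d7_1 D5722 (iv D4849) (iv F22278)
theorem F27569 : act 1 n5722 = n5722 := d15_1 D5722 (iv D5722) F22279
theorem F27570 : act 3 n5722 = n4579 := d28_1 D5722 (iv D4579) (iv F22280)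
theorem F27571 : act 7 n5722 = n4573 := d42_1 D5722 (iv D4573) (iv F22282)
theorem F27572 : act 9 n5722 = n4759 := d44_2 D4571 D5722 (iv D4759) (iv D3622) (iv F20212)
def n5723 : Q := act 8 n4572
theorem D5723 : act 8 n4572 = n5723 := rfl
theorem F27573 : act 0 n5723 = n4850 := d7_1 D5723 (iv D4850) (iv F22283)
theorem F27574 : act 1 n5723 = n5723 := d15_1 D5723 (iv D5723) F22284
theorem F27575 : act 3 n5723 = n4580 := d28_1 D5723 (iv D4580) (iv F22285)
theorem F27576 : act 7 n5723 = n4759 := d42_1 D5723 (iv D4759) (iv F22287)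
theorem F27577 : act 9 n5723 = n4573 := d44_2 D4572 D5723 (iv D4573) (iv D3431) D3430
def n5724 : Q := act 5 n4573
theorem D5724 : act 5 n4573 = n5724 := rfl
theorem F27578 : act 0 n5724 = n4851 := d4_1 D5724 (iv D4851) (iv F22288)
theorem F27579 : act 1 n5724 = n5724 := d12_1 D5724 (iv D5724) F22289
theorem F27580 : act 3 n5724 = n4581 := d25_1 D5724 (iv D4581) (iv F22290)
theorem F27581 : act 8 n5724 = n4575 := d37_2 D4573 D5724 (iv D4575) (iv D3433) (iv F16634)
def n5725 : Q := act 5 n4574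
theorem D5725 : act 5 n4574 = n5725 := rfl
theorem F27582 : act 0 n5725 = n4852 := d4_1 D5725 (iv D4852) (iv F22291)
theorem F27583 : act 1 n5725 = n5725 := d12_1 D5725 (iv D5725) F22292
theorem F27584 : act 3 n5725 = n4582 := d25_1 D5725 (iv D4582) (iv F22293)
theorem F27585 : act 7 n5725 = n4575 := d36_2 (iv F22296) D5725 (iv D4575)
theorem F27586 : act 9 n5725 = n4606 := d38_2 (iv F22297) D5725 (iv D4606)
def n5726 : Q := act 4 n4575
theorem D5726 : act 4 n4575 = n5726 := rfl
theorem F27587 : act 0 n5726 = n4853 := d3_1 D5726 (iv D4853) (iv F22298)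
theorem F27588 : act 1 n5726 = n5726 := d11_1 D5726 (iv D5726) F22299
theorem F27589 : act 5 n5726 = n4658 := d30_2 D4575 D5726 (iv D4658) (iv D3535) (iv F16644)
theorem F27590 : act 9 n5726 = n4607 := d34_2 (iv F22301) D5726 (iv D4607)
def n5727 : Q := act 6 n4575
theorem D5727 : act 6 n4575 = n5727 := rfl
theorem F27591 : act 0 n5727 = n4854 := d5_1 D5727 (iv D4854) (iv F22298)
theorem F27592 : act 1 n5727 = n5727 := d13_1 D5727 (iv D5727) F22299
theorem F27593 : act 3 n5727 = n4584 := d26_1 D5727 (iv D4584) (iv F22300)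
theorem F27594 : act 5 n5727 = n4577 := d35_1 D5727 (iv D4577) (iv D3434) (iv F16645) D4575
theorem F27595 : act 9 n5727 = n4608 := d41_2 (iv F22301) D5727 (iv D4608)
def n5728 : Q := act 6 n4576
theorem D5728 : act 6 n4576 = n5728 := rfl
theorem F27596 : act 0 n5728 = n4855 := d5_1 D5728 (iv D4855) (iv F22302)
theorem F27597 : act 1 n5728 = n5728 := d13_1 D5728 (iv D5728) F22303
theorem F27598 : act 3 n5728 = n5728 := d26_1 D5728 (iv D5728) F22304
theorem F27599 : act 4 n5728 = n4577 := d31_1 D5728 (iv D4577) D4576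
theorem F27600 : act 9 n5728 = n4609 := d41_2 (iv F22307) D5728 (iv D4609)
def n5729 : Q := act 7 n4577
theorem D5729 : act 7 n4577 = n5729 := rfl
theorem F27601 : act 0 n5729 = n4856 := d6_1 D5729 (iv D4856) (iv F22308)
theorem F27602 : act 1 n5729 = n5729 := d14_1 D5729 (iv D5729) F22309
theorem F27603 : act 3 n5729 = n4585 := d27_1 D5729 (iv D4585) (iv F22310)
theorem F27604 : act 6 n5729 = n5729 := d39_1 D5729 (iv D5729) (iv D4577) F16650 D4577
theorem F27605 : act 9 n5729 = n4610 := d43_2 (iv F22311) D5729 (iv D4610)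
def n5730 : Q := act 8 n4578
theorem D5730 : act 8 n4578 = n5730 := rfl
theorem F27606 : act 0 n5730 = n4857 := d7_1 D5730 (iv D4857) (iv F22312)
theorem F27607 : act 1 n5730 = n5730 := d15_1 D5730 (iv D5730) F22313
theorem F27608 : act 2 n5730 = n4812 := d22_1 D5730 (iv D4812) (iv F22314)
theorem F27609 : act 4 n5730 = n5730 := d33_1 D5730 (iv D5730) F22315
theorem F27610 : act 6 n5730 = n4579 := d40_1 D5730 (iv D4579) (iv F22317)
theorem F27611 : act 9 n5730 = n4743 := d44_2 D4578 D5730 (iv D4743) (iv D3606) (iv F20214)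
def n5731 : Q := act 5 n4579
theorem D5731 : act 5 n4579 = n5731 := rfl
theorem F27612 : act 0 n5731 = n4858 := d4_1 D5731 (iv D4858) (iv F22318)
theorem F27613 : act 1 n5731 = n5731 := d12_1 D5731 (iv D5731) F22319
theorem F27614 : act 2 n5731 = n4859 := d19_1 D5731 (iv D4859) (iv F22320)
theorem F27615 : act 7 n5731 = n4581 := d36_2 (iv F22322) D5731 (iv D4581)
theorem F27616 : act 8 n5731 = n4582 := d37_2 D4579 D5731 (iv D4582) (iv D3440) (iv F16664)
theorem F27617 : act 9 n5731 = n4763 := d38_2 (iv F22323) D5731 (iv D4763)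
def n5732 : Q := act 5 n4580
theorem D5732 : act 5 n4580 = n5732 := rfl
theorem F27618 : act 0 n5732 = n4859 := d4_1 D5732 (iv D4859) (iv F22324)
theorem F27619 : act 1 n5732 = n5732 := d12_1 D5732 (iv D5732) F22325
theorem F27620 : act 2 n5732 = n4858 := d19_1 D5732 (iv D4858) (iv F22326)
theorem F27621 : act 7 n5732 = n4763 := d36_2 (iv F22328) D5732 (iv D4763)
theorem F27622 : act 8 n5732 = n4611 := d37_2 D4580 D5732 (iv D4611) (iv D3470) (iv F16669)
theorem F27623 : act 9 n5732 = n4581 := d38_2 (iv F22329) D5732 (iv D4581)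
def n5733 : Q := act 4 n4581
theorem D5733 : act 4 n4581 = n5733 := rfl
theorem F27624 : act 0 n5733 = n4860 := d3_1 D5733 (iv D4860) (iv F22330)
theorem F27625 : act 1 n5733 = n5733 := d11_1 D5733 (iv D5733) F22331
theorem F27626 : act 5 n5733 = n5733 := d30_2 D4581 D5733 (iv D5733) (iv D4581) F16672
theorem F27627 : act 8 n5733 = n4583 := d33_2 (iv F22332) D5733 (iv D4583)
def n5734 : Q := act 6 n4581
theorem D5734 : act 6 n4581 = n5734 := rfl
theorem F27628 : act 0 n5734 = n4861 := d5_1 D5734 (iv D4861) (iv F22330)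
theorem F27629 : act 1 n5734 = n5734 := d13_1 D5734 (iv D5734) F22331
theorem F27630 : act 8 n5734 = n4584 := d40_2 (iv F22332) D5734 (iv D4584)
def n5735 : Q := act 4 n4582
theorem D5735 : act 4 n4582 = n5735 := rfl
theorem F27631 : act 0 n5735 = n4862 := d3_1 D5735 (iv D4862) (iv F22333)
theorem F27632 : act 1 n5735 = n5735 := d11_1 D5735 (iv D5735) F22334
theorem F27633 : act 2 n5735 = n4899 := d18_1 D5735 (iv D4899) (iv F22335)
theorem F27634 : act 5 n5735 = n4586 := d30_2 D4582 D5735 (iv D4586) (iv D3443) (iv F16675)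
theorem F27635 : act 7 n5735 = n4583 := d32_2 (iv F22336) D5735 (iv D4583)
theorem F27636 : act 9 n5735 = n4614 := d34_2 (iv F22337) D5735 (iv D4614)
def n5736 : Q := act 6 n4582
theorem D5736 : act 6 n4582 = n5736 := rfl
theorem F27637 : act 0 n5736 = n4863 := d5_1 D5736 (iv D4863) (iv F22333)
theorem F27638 : act 1 n5736 = n5736 := d13_1 D5736 (iv D5736) F22334
theorem F27639 : act 2 n5736 = n4900 := d20_1 D5736 (iv D4900) (iv F22335)
theorem F27640 : act 5 n5736 = n5736 := d35_1 D5736 (iv D5736) (iv D4582) F16676 D4582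
theorem F27641 : act 9 n5736 = n4615 := d41_2 (iv F22337) D5736 (iv D4615)
def n5737 : Q := act 3 n4583
theorem D5737 : act 3 n4583 = n5737 := rfl
theorem F27642 : act 0 n5737 = n4864 := d2_1 D5737 (iv D4864) (iv F22338)
theorem F27643 : act 1 n5737 = n5737 := d10_1 D5737 (iv D5737) F22339
theorem F27644 : act 5 n5737 = n4588 := d25_2 (iv F22340) D5737 (iv D4588)
theorem F27645 : act 9 n5737 = n4616 := d29_2 (iv F22341) D5737 (iv D4616)
def n5738 : Q := act 6 n4583
theorem D5738 : act 6 n4583 = n5738 := rfl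
theorem F27646 : act 0 n5738 = n4865 := d5_1 D5738 (iv D4865) (iv F22338)
theorem F27647 : act 1 n5738 = n5738 := d13_1 D5738 (iv D5738) F22339
theorem F27648 : act 4 n5738 = n4584 := d31_1 D5738 (iv D4584) D4583
theorem F27649 : act 5 n5738 = n5738 := d35_1 D5738 (iv D5738) F22340 F16694 (iv F22340)
theorem F27650 : act 9 n5738 = n4617 := d41_2 (iv F22341) D5738 (iv D4617)
def n5739 : Q := act 7 n4584
theorem D5739 : act 7 n4584 = n5739 := rfl
theorem F27651 : act 0 n5739 = n4866 := d6_1 D5739 (iv D4866) (iv F22342)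
theorem F27652 : act 1 n5739 = n5739 := d14_1 D5739 (iv D5739) F22343
theorem F27653 : act 5 n5739 = n4585 := d36_1 D5739 (iv D4585) (iv F22344)
theorem F27654 : act 9 n5739 = n4618 := d43_2 (iv F22345) D5739 (iv D4618)
def n5740 : Q := act 3 n4586
theorem D5740 : act 3 n4586 = n5740 := rfl
theorem F27655 : act 0 n5740 = n4867 := d2_1 D5740 (iv D4867) (iv F22351)
theorem F27656 : act 1 n5740 = n5740 := d10_1 D5740 (iv D5740) F22352
theorem F27657 : act 4 n5740 = n4671 := d24_2 D4586 D5740 (iv D4671) (iv D3545) (iv F16688)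
theorem F27658 : act 7 n5740 = n4588 := d27_2 (iv F22354) D5740 (iv D4588)
theorem F27659 : act 8 n5740 = n5740 := d28_2 F22355 D5740 (iv D5740)
theorem F27660 : act 9 n5740 = n4619 := d29_2 (iv F22356) D5740 (iv D4619)
def n5741 : Q := act 6 n4586
theorem D5741 : act 6 n4586 = n5741 := rfl
theorem F27661 : act 0 n5741 = n4868 := d5_1 D5741 (iv D4868) (iv F22351)
theorem F27662 : act 1 n5741 = n5741 := d13_1 D5741 (iv D5741) F22352
theorem F27663 : act 2 n5741 = n4915 := d20_1 D5741 (iv D4915) (iv F22353)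
theorem F27664 : act 4 n5741 = n4587 := d31_1 D5741 (iv D4587) D4586
theorem F27665 : act 7 n5741 = n5741 := d39_2 (iv F22354) D5741 (iv D5741) F22354 F16694
theorem F27666 : act 8 n5741 = n5741 := d40_2 F22355 D5741 (iv D5741)
theorem F27667 : act 9 n5741 = n4620 := d41_2 (iv F22356) D5741 (iv D4620)
def n5742 : Q := act 2 n4588
theorem D5742 : act 2 n4588 = n5742 := rfl
theorem F27668 : act 0 n5742 = n4869 := d1_1 D5742 (iv D4869) (iv F22365)
theorem F27669 : act 4 n5742 = n4673 := d18_2 (iv F22367) D5742 (iv D4673)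
theorem F27670 : act 6 n5742 = n5742 := d20_2 F22368 D5742 (iv D5742)
theorem F27671 : act 8 n5742 = n5742 := d22_2 F22369 D5742 (iv D5742)
theorem F27672 : act 9 n5742 = n4621 := d23_2 (iv F22370) D5742 (iv D4621)
def n5743 : Q := act 8 n4589
theorem D5743 : act 8 n4589 = n5743 := rfl
theorem F27673 : act 0 n5743 = n4593 := d7_1 D5743 (iv D4593) (iv F22371)
theorem F27674 : act 1 n5743 = n4870 := d15_1 D5743 (iv D4870) (iv F22372)
theorem F27675 : act 2 n5743 = n5743 := d22_1 D5743 (iv D5743) F22373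
theorem F27676 : act 3 n5743 = n4822 := d28_1 D5743 F23499 (iv F22374)
theorem F27677 : act 4 n5743 = n5743 := d33_1 D5743 (iv D5743) F22375
theorem F27678 : act 6 n5743 = n5743 := d40_1 D5743 (iv D5743) F22376
theorem F27679 : act 7 n5743 = n4749 := d42_1 D5743 F23206 F22377
def n5744 : Q := act 9 n4589
theorem D5744 : act 9 n4589 = n5744 := rfl
theorem F27680 : act 0 n5744 = n4594 := d8_1 D5744 (iv D4594) (iv F22371)
theorem F27681 : act 1 n5744 = n4871 := d16_1 D5744 (iv D4871) (iv F22372)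
theorem F27682 : act 2 n5744 = n5744 := d23_1 D5744 (iv D5744) F22373
theorem F27683 : act 3 n5744 = n4872 := d29_1 D5744 (iv D4872) (iv F22374)
theorem F27684 : act 4 n5744 = n5744 := d34_1 D5744 (iv D5744) F22375
theorem F27685 : act 5 n5744 = n4591 := d38_1 D5744 (iv D4591) D4589
theorem F27686 : act 6 n5744 = n5744 := d41_1 D5744 (iv D5744) F22376
theorem F27687 : act 7 n5744 = n4768 := d43_1 D5744 (iv D4768) F22377
def n5745 : Q := act 9 n4590
theorem D5745 : act 9 n4590 = n5745 := rfl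
theorem F27688 : act 0 n5745 = n4595 := d8_1 D5745 (iv D4595) (iv F22378)
theorem F27689 : act 1 n5745 = n4872 := d16_1 D5745 (iv D4872) (iv F22379)
theorem F27690 : act 2 n5745 = n5745 := d23_1 D5745 (iv D5745) F22380
theorem F27691 : act 3 n5745 = n4871 := d29_1 D5745 (iv D4871) (iv F22381)
theorem F27692 : act 4 n5745 = n4674 := d34_1 D5745 (iv D4674) (iv F22382)
theorem F27693 : act 5 n5745 = n4768 := d38_1 D5745 (iv D4768) (iv F22383)
theorem F27694 : act 6 n5745 = n5745 := d41_1 D5745 (iv D5745) F22384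
theorem F27695 : act 7 n5745 = n4591 := d43_1 D5745 (iv D4591) D4590
def n5746 : Q := act 8 n4591
theorem D5746 : act 8 n4591 = n5746 := rfl
theorem F27696 : act 0 n5746 = n4596 := d7_1 D5746 (iv D4596) (iv F22385)
theorem F27697 : act 1 n5746 = n4873 := d15_1 D5746 (iv D4873) (iv F22386)
theorem F27698 : act 2 n5746 = n5746 := d22_1 D5746 (iv D5746) F22387
theorem F27699 : act 4 n5746 = n4675 := d33_1 D5746 (iv D4675) (iv F22388)
theorem F27700 : act 6 n5746 = n4592 := d40_1 D5746 (iv D4592) (iv F22389)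
def n5747 : Q := act 5 n4592
theorem D5747 : act 5 n4592 = n5747 := rfl
theorem F27701 : act 0 n5747 = n4597 := d4_1 D5747 (iv D4597) (iv F22390)
theorem F27702 : act 1 n5747 = n4874 := d12_1 D5747 (iv D4874) (iv F22391)
theorem F27703 : act 2 n5747 = n5747 := d19_1 D5747 (iv D5747) F22392
theorem F27704 : act 7 n5747 = n5747 := d36_2 F22394 D5747 (iv D5747)
theorem F27705 : act 8 n5747 = n5747 := d37_2 D4592 D5747 (iv D5747) (iv D4592) F16705
def n5748 : Q := act 9 n4593
theorem D5748 : act 9 n4593 = n5748 := rfl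
theorem F27706 : act 1 n5748 = n4598 := d16_1 D5748 (iv D4598) (iv F22395)
theorem F27707 : act 2 n5748 = n5748 := d23_1 D5748 (iv D5748) F22396
theorem F27708 : act 3 n5748 = n4829 := d29_1 D5748 (iv D4829) (iv F22397)
theorem F27709 : act 4 n5748 = n5748 := d34_1 D5748 (iv D5748) F22398
theorem F27710 : act 6 n5748 = n5748 := d41_1 D5748 (iv D5748) F22399
theorem F27711 : act 7 n5748 = n4752 := d43_1 D5748 (iv D4752) (iv F22400)
def n5749 : Q := act 8 n4594
theorem D5749 : act 8 n4594 = n5749 := rfl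
theorem F27712 : act 1 n5749 = n4599 := d15_1 D5749 (iv D4599) (iv F22401)
theorem F27713 : act 2 n5749 = n5749 := d22_1 D5749 (iv D5749) F22402
theorem F27714 : act 3 n5749 = n4877 := d28_1 D5749 (iv D4877) (iv F22403)
theorem F27715 : act 4 n5749 = n5749 := d33_1 D5749 (iv D5749) F22404
theorem F27716 : act 6 n5749 = n5749 := d40_1 D5749 (iv D5749) F22406
theorem F27717 : act 7 n5749 = n4770 := d42_1 D5749 (iv D4770) (iv F22407)
def n5750 : Q := act 8 n4595
theorem D5750 : act 8 n4595 = n5750 := rfl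
theorem F27718 : act 1 n5750 = n4600 := d15_1 D5750 (iv D4600) (iv F22408)
theorem F27719 : act 2 n5750 = n5750 := d22_1 D5750 (iv D5750) F22409
theorem F27720 : act 3 n5750 = n4876 := d28_1 D5750 (iv D4876) (iv F22410)
theorem F27721 : act 4 n5750 = n4677 := d33_1 D5750 (iv D4677) (iv F22411)
theorem F27722 : act 6 n5750 = n5750 := d40_1 D5750 (iv D5750) F22413
theorem F27723 : act 7 n5750 = n4596 := d42_1 D5750 (iv D4596) (iv F22414)
def n5751 : Q := act 5 n4596
theorem D5751 : act 5 n4596 = n5751 := rfl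
theorem F27724 : act 1 n5751 = n4601 := d12_1 D5751 (iv D4601) (iv F22415)
theorem F27725 : act 2 n5751 = n5751 := d19_1 D5751 (iv D5751) F22416
def n5752 : Q := act 4 n4597
theorem D5752 : act 4 n4597 = n5752 := rfl
theorem F27726 : act 1 n5752 = n4602 := d11_1 D5752 (iv D4602) (iv F22419)
theorem F27727 : act 2 n5752 = n5752 := d18_1 D5752 (iv D5752) F22420
theorem F27728 : act 5 n5752 = n4679 := d30_2 D4597 D5752 (iv D4679) (iv D3553) (iv F16721)
theorem F27729 : act 7 n5752 = n5752 := d32_2 F22421 D5752 (iv D5752)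
theorem F27730 : act 8 n5752 = n5752 := d33_2 F22422 D5752 (iv D5752)
def n5753 : Q := act 6 n4597
theorem D5753 : act 6 n4597 = n5753 := rfl
theorem F27731 : act 1 n5753 = n4603 := d13_1 D5753 (iv D4603) (iv F22419)
theorem F27732 : act 2 n5753 = n5753 := d20_1 D5753 (iv D5753) F22420
theorem F27733 : act 8 n5753 = n5753 := d40_2 F22422 D5753 (iv D5753)
def n5754 : Q := act 8 n4598
theorem D5754 : act 8 n4598 = n5754 := rfl
theorem F27734 : act 0 n5754 = n4881 := d7_1 D5754 (iv D4881) (iv F22423)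
theorem F27735 : act 2 n5754 = n4604 := d22_1 D5754 (iv D4604) (iv F22424)
theorem F27736 : act 3 n5754 = n4840 := d28_1 D5754 (iv D4840) (iv F22425)
theorem F27737 : act 4 n5754 = n5754 := d33_1 D5754 (iv D5754) F22426
theorem F27738 : act 6 n5754 = n5754 := d40_1 D5754 (iv D5754) F22427
theorem F27739 : act 7 n5754 = n4756 := d42_1 D5754 (iv D4756) (iv F22428)
theorem F27740 : act 9 n5754 = n4599 := d44_2 D4598 D5754 (iv D4599) (iv D3453) D3452
def n5755 : Q := act 5 n4599
theorem D5755 : act 5 n4599 = n5755 := rfl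
theorem F27741 : act 0 n5755 = n4882 := d4_1 D5755 (iv D4882) (iv F22429)
theorem F27742 : act 2 n5755 = n4605 := d19_1 D5755 (iv D4605) (iv F22430)
theorem F27743 : act 3 n5755 = n4883 := d25_1 D5755 (iv D4883) (iv F22431)
theorem F27744 : act 7 n5755 = n4772 := d36_2 (iv F22434) D5755 (iv D4772)
theorem F27745 : act 8 n5755 = n4601 := d37_2 D4599 D5755 (iv D4601) (iv D3455) (iv F16734)
def n5756 : Q := act 5 n4600
theorem D5756 : act 5 n4600 = n5756 := rfl
theorem F27746 : act 0 n5756 = n4883 := d4_1 D5756 (iv D4883) (iv F22435)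
theorem F27747 : act 2 n5756 = n4606 := d19_1 D5756 (iv D4606) (iv F22436)
theorem F27748 : act 3 n5756 = n4882 := d25_1 D5756 (iv D4882) (iv F22437)
theorem F27749 : act 7 n5756 = n4601 := d36_2 (iv F22440) D5756 (iv D4601)
theorem F27750 : act 8 n5756 = n4772 := d37_2 D4600 D5756 (iv D4772) (iv D3647) (iv F20231)
def n5757 : Q := act 4 n4601
theorem D5757 : act 4 n4601 = n5757 := rfl
theorem F27751 : act 0 n5757 = n4884 := d3_1 D5757 (iv D4884) (iv F22441)
theorem F27752 : act 2 n5757 = n4607 := d18_1 D5757 (iv D4607) (iv F22442)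
theorem F27753 : act 5 n5757 = n4682 := d30_2 D4601 D5757 (iv D4682) (iv D3555) (iv F16743)
def n5758 : Q := act 6 n4601
theorem D5758 : act 6 n4601 = n5758 := rfl
theorem F27754 : act 0 n5758 = n4885 := d5_1 D5758 (iv D4885) (iv F22441)
theorem F27755 : act 2 n5758 = n4608 := d20_1 D5758 (iv D4608) (iv F22442)
theorem F27756 : act 5 n5758 = n4603 := d35_1 D5758 (iv D4603) (iv D3456) (iv F16744) D4601
def n5759 : Q := act 3 n4602
theorem D5759 : act 3 n4602 = n5759 := rfl
theorem F27757 : act 0 n5759 = n4886 := d2_1 D5759 (iv D4886) (iv F22443)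
theorem F27758 : act 2 n5759 = n5759 := d17_1 D5759 (iv D5759) F22444 F16787 (iv F22444)
theorem F27759 : act 5 n5759 = n4684 := d25_2 (iv F22445) D5759 (iv D4684)
theorem F27760 : act 7 n5759 = n5759 := d27_2 F22446 D5759 (iv D5759)
theorem F27761 : act 8 n5759 = n5759 := d28_2 F22447 D5759 (iv D5759)
def n5760 : Q := act 6 n4602
theorem D5760 : act 6 n4602 = n5760 := rfl
theorem F27762 : act 0 n5760 = n4887 := d5_1 D5760 (iv D4887) (iv F22443)
theorem F27763 : act 2 n5760 = n4609 := d20_1 D5760 (iv D4609) (iv F22444)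
theorem F27764 : act 4 n5760 = n4603 := d31_1 D5760 (iv D4603) D4602
theorem F27765 : act 8 n5760 = n5760 := d40_2 F22447 D5760 (iv D5760)
def n5761 : Q := act 7 n4603
theorem D5761 : act 7 n4603 = n5761 := rfl
theorem F27766 : act 0 n5761 = n4888 := d6_1 D5761 (iv D4888) (iv F22448)
theorem F27767 : act 2 n5761 = n4610 := d21_1 D5761 (iv D4610) (iv F22449)
theorem F27768 : act 6 n5761 = n5761 := d39_1 D5761 (iv D5761) (iv D4603) F16747 D4603
theorem F27769 : act 8 n5761 = n5761 := d42_2 F22450 D5761 (iv D5761)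
def n5762 : Q := act 5 n4604
theorem D5762 : act 5 n4604 = n5762 := rfl
theorem F27770 : act 0 n5762 = n4889 := d4_1 D5762 (iv D4889) (iv F22451)
theorem F27771 : act 1 n5762 = n5762 := d12_1 D5762 (iv D5762) F22452
theorem F27772 : act 3 n5762 = n4611 := d25_1 D5762 (iv D4611) (iv F22453)
theorem F27773 : act 7 n5762 = n4760 := d36_2 (iv F22456) D5762 (iv D4760)
theorem F27774 : act 9 n5762 = n4605 := d38_2 (iv F22457) D5762 (iv D4605)
def n5763 : Q := act 4 n4605
theorem D5763 : act 4 n4605 = n5763 := rfl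
theorem F27775 : act 0 n5763 = n4890 := d3_1 D5763 (iv D4890) (iv F22458)
theorem F27776 : act 1 n5763 = n5763 := d11_1 D5763 (iv D5763) F22459
theorem F27777 : act 5 n5763 = n5763 := d30_2 D4605 D5763 (iv D5763) (iv D4605) F16774
theorem F27778 : act 7 n5763 = n4775 := d32_2 (iv F22461) D5763 (iv D4775)
theorem F27779 : act 8 n5763 = n4607 := d33_2 (iv F22462) D5763 (iv D4607)
def n5764 : Q := act 6 n4605
theorem D5764 : act 6 n4605 = n5764 := rfl
theorem F27780 : act 0 n5764 = n4891 := d5_1 D5764 (iv D4891) (iv F22458)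
theorem F27781 : act 1 n5764 = n5764 := d13_1 D5764 (iv D5764) F22459
theorem F27782 : act 3 n5764 = n4613 := d26_1 D5764 (iv D4613) (iv F22460)
theorem F27783 : act 5 n5764 = n5764 := d35_1 D5764 (iv D5764) (iv D4605) F16775 D4605
theorem F27784 : act 8 n5764 = n4608 := d40_2 (iv F22462) D5764 (iv D4608)
def n5765 : Q := act 4 n4606
theorem D5765 : act 4 n4606 = n5765 := rfl
theorem F27785 : act 0 n5765 = n4892 := d3_1 D5765 (iv D4892) (iv F22463)
theorem F27786 : act 1 n5765 = n5765 := d11_1 D5765 (iv D5765) F22464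
theorem F27787 : act 5 n5765 = n4687 := d30_2 D4606 D5765 (iv D4687) (iv D3558) (iv F16779)
theorem F27788 : act 7 n5765 = n4607 := d32_2 (iv F22466) D5765 (iv D4607)
theorem F27789 : act 8 n5765 = n4775 := d33_2 (iv F22467) D5765 (iv D4775)
def n5766 : Q := act 6 n4606
theorem D5766 : act 6 n4606 = n5766 := rfl
theorem F27790 : act 0 n5766 = n4893 := d5_1 D5766 (iv D4893) (iv F22463)
theorem F27791 : act 1 n5766 = n5766 := d13_1 D5766 (iv D5766) F22464
theorem F27792 : act 3 n5766 = n4615 := d26_1 D5766 (iv D4615) (iv F22465)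
theorem F27793 : act 5 n5766 = n5766 := d35_1 D5766 (iv D5766) (iv D4606) F16780 D4606
theorem F27794 : act 8 n5766 = n4776 := d40_2 (iv F22467) D5766 (iv D4776)
def n5767 : Q := act 3 n4607
theorem D5767 : act 3 n4607 = n5767 := rfl
theorem F27795 : act 0 n5767 = n4894 := d2_1 D5767 (iv D4894) (iv F22468)
theorem F27796 : act 1 n5767 = n5767 := d10_1 D5767 (iv D5767) F22469
theorem F27797 : act 4 n5767 = n4616 := d24_2 D4607 D5767 (iv D4616) (iv D3473) (iv F16784)
theorem F27798 : act 5 n5767 = n4689 := d25_2 (iv F22470) D5767 (iv D4689)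
def n5768 : Q := act 6 n4607
theorem D5768 : act 6 n4607 = n5768 := rfl
theorem F27799 : act 0 n5768 = n4895 := d5_1 D5768 (iv D4895) (iv F22468)
theorem F27800 : act 1 n5768 = n5768 := d13_1 D5768 (iv D5768) F22469
theorem F27801 : act 4 n5768 = n4608 := d31_1 D5768 (iv D4608) D4607
def n5769 : Q := act 7 n4608
theorem D5769 : act 7 n4608 = n5769 := rfl
theorem F27802 : act 0 n5769 = n4896 := d6_1 D5769 (iv D4896) (iv F22471)
theorem F27803 : act 1 n5769 = n5769 := d14_1 D5769 (iv D5769) F22472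
theorem F27804 : act 3 n5769 = n4618 := d27_1 D5769 (iv D4618) (iv F22473)
theorem F27805 : act 5 n5769 = n4610 := d36_1 D5769 (iv D4610) (iv F22474)
def n5770 : Q := act 5 n4609
theorem D5770 : act 5 n4609 = n5770 := rfl
theorem F27806 : act 0 n5770 = n4897 := d4_1 D5770 (iv D4897) (iv F22475)
theorem F27807 : act 1 n5770 = n5770 := d12_1 D5770 (iv D5770) F22476
theorem F27808 : act 3 n5770 = n5770 := d25_1 D5770 (iv D5770) F22477
theorem F27809 : act 6 n5770 = n4692 := d35_2 D4609 D5770 (iv D4692) (iv D3561) (iv F16788)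
def n5771 : Q := act 7 n4609
theorem D5771 : act 7 n4609 = n5771 := rfl
theorem F27810 : act 0 n5771 = n4898 := d6_1 D5771 (iv D4898) (iv F22475)
theorem F27811 : act 1 n5771 = n5771 := d14_1 D5771 (iv D5771) F22476
theorem F27812 : act 3 n5771 = n5771 := d27_1 D5771 (iv D5771) F22477
theorem F27813 : act 4 n5771 = n4610 := d32_1 D5771 (iv D4610) (iv F22478)
theorem F27814 : act 6 n5771 = n5771 := d39_1 D5771 (iv D5771) (iv D4609) F16789 D4609
theorem F27815 : act 8 n5771 = n5771 := d42_2 F22479 D5771 (iv D5771)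
def n5772 : Q := act 4 n4611
theorem D5772 : act 4 n4611 = n5772 := rfl
theorem F27816 : act 0 n5772 = n4899 := d3_1 D5772 (iv D4899) (iv F22485)
theorem F27817 : act 1 n5772 = n5772 := d11_1 D5772 (iv D5772) F22486
theorem F27818 : act 2 n5772 = n4862 := d18_1 D5772 (iv D4862) (iv F22487)
theorem F27819 : act 5 n5772 = n4622 := d30_2 D4611 D5772 (iv D4622) (iv D3484) (iv F16816)
theorem F27820 : act 7 n5772 = n4764 := d32_2 (iv F22488) D5772 (iv D4764)
theorem F27821 : act 9 n5772 = n4612 := d34_2 (iv F22489) D5772 (iv D4612)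
def n5773 : Q := act 6 n4611
theorem D5773 : act 6 n4611 = n5773 := rfl
theorem F27822 : act 0 n5773 = n4900 := d5_1 D5773 (iv D4900) (iv F22485)
theorem F27823 : act 1 n5773 = n5773 := d13_1 D5773 (iv D5773) F22486
theorem F27824 : act 2 n5773 = n4863 := d20_1 D5773 (iv D4863) (iv F22487)
theorem F27825 : act 5 n5773 = n5773 := d35_1 D5773 (iv D5773) (iv D4611) F16817 D4611
theorem F27826 : act 9 n5773 = n4613 := d41_2 (iv F22489) D5773 (iv D4613)
def n5774 : Q := act 3 n4612
theorem D5774 : act 3 n4612 = n5774 := rfl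
theorem F27827 : act 0 n5774 = n4901 := d2_1 D5774 (iv D4901) (iv F22490)
theorem F27828 : act 1 n5774 = n5774 := d10_1 D5774 (iv D5774) F22491
theorem F27829 : act 5 n5774 = n4624 := d25_2 (iv F22493) D5774 (iv D4624)
theorem F27830 : act 7 n5774 = n4779 := d27_2 (iv F22494) D5774 (iv D4779)
theorem F27831 : act 8 n5774 = n4616 := d28_2 (iv F22495) D5774 (iv D4616)
def n5775 : Q := act 6 n4612
theorem D5775 : act 6 n4612 = n5775 := rfl
theorem F27832 : act 0 n5775 = n4902 := d5_1 D5775 (iv D4902) (iv F22490)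
theorem F27833 : act 1 n5775 = n5775 := d13_1 D5775 (iv D5775) F22491
theorem F27834 : act 2 n5775 = n4905 := d20_1 D5775 (iv D4905) (iv F22492)
theorem F27835 : act 4 n5775 = n4613 := d31_1 D5775 (iv D4613) D4612
theorem F27836 : act 8 n5775 = n4617 := d40_2 (iv F22495) D5775 (iv D4617)
def n5776 : Q := act 7 n4613
theorem D5776 : act 7 n4613 = n5776 := rfl
theorem F27837 : act 0 n5776 = n4903 := d6_1 D5776 (iv D4903) (iv F22496)
theorem F27838 : act 1 n5776 = n5776 := d14_1 D5776 (iv D5776) F22497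
theorem F27839 : act 2 n5776 = n4906 := d21_1 D5776 (iv D4906) (iv F22498)
theorem F27840 : act 5 n5776 = n5776 := d36_1 D5776 (iv D5776) F22499
theorem F27841 : act 6 n5776 = n4781 := d39_1 D5776 (iv D4781) (iv D3669) (iv F20237) D4613
theorem F27842 : act 8 n5776 = n4618 := d42_2 (iv F22500) D5776 (iv D4618)
def n5777 : Q := act 3 n4614
theorem D5777 : act 3 n4614 = n5777 := rfl
theorem F27843 : act 0 n5777 = n4904 := d2_1 D5777 (iv D4904) (iv F22501)
theorem F27844 : act 1 n5777 = n5777 := d10_1 D5777 (iv D5777) F22502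
theorem F27845 : act 5 n5777 = n4619 := d25_2 (iv F22504) D5777 (iv D4619)
theorem F27846 : act 7 n5777 = n4616 := d27_2 (iv F22505) D5777 (iv D4616)
theorem F27847 : act 8 n5777 = n4779 := d28_2 (iv F22506) D5777 (iv D4779)
def n5778 : Q := act 6 n4614
theorem D5778 : act 6 n4614 = n5778 := rfl
theorem F27848 : act 0 n5778 = n4905 := d5_1 D5778 (iv D4905) (iv F22501)
theorem F27849 : act 1 n5778 = n5778 := d13_1 D5778 (iv D5778) F22502
theorem F27850 : act 2 n5778 = n4902 := d20_1 D5778 (iv D4902) (iv F22503)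
theorem F27851 : act 4 n5778 = n4615 := d31_1 D5778 (iv D4615) D4614
theorem F27852 : act 8 n5778 = n4780 := d40_2 (iv F22506) D5778 (iv D4780)
def n5779 : Q := act 7 n4615
theorem D5779 : act 7 n4615 = n5779 := rfl
theorem F27853 : act 0 n5779 = n4906 := d6_1 D5779 (iv D4906) (iv F22507)
theorem F27854 : act 1 n5779 = n5779 := d14_1 D5779 (iv D5779) F22508
theorem F27855 : act 2 n5779 = n4903 := d21_1 D5779 (iv D4903) (iv F22509)
theorem F27856 : act 5 n5779 = n5779 := d36_1 D5779 (iv D5779) F22510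
theorem F27857 : act 6 n5779 = n4618 := d39_1 D5779 (iv D4618) (iv D3474) (iv F16824) D4615
theorem F27858 : act 8 n5779 = n4781 := d42_2 (iv F22511) D5779 (iv D4781)
def n5780 : Q := act 2 n4616
theorem D5780 : act 2 n4616 = n5780 := rfl
theorem F27859 : act 0 n5780 = n4907 := d1_1 D5780 (iv D4907) (iv F22512)
theorem F27860 : act 5 n5780 = n4621 := d19_2 (iv F22514) D5780 (iv D4621)
def n5781 : Q := act 6 n4616
theorem D5781 : act 6 n4616 = n5781 := rfl
theorem F27861 : act 0 n5781 = n4908 := d5_1 D5781 (iv D4908) (iv F22512)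
theorem F27862 : act 1 n5781 = n5781 := d13_1 D5781 (iv D5781) F22513
theorem F27863 : act 3 n5781 = n4617 := d26_1 D5781 (iv D4617) D4616
theorem F27864 : act 5 n5781 = n5781 := d35_1 D5781 (iv D5781) F22514 F16849 (iv F22514)
def n5782 : Q := act 7 n4617
theorem D5782 : act 7 n4617 = n5782 := rfl
theorem F27865 : act 0 n5782 = n4909 := d6_1 D5782 (iv D4909) (iv F22515)
theorem F27866 : act 1 n5782 = n5782 := d14_1 D5782 (iv D5782) F22516
theorem F27867 : act 4 n5782 = n4618 := d32_1 D5782 (iv D4618) (iv F22517)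
theorem F27868 : act 5 n5782 = n5782 := d36_1 D5782 (iv D5782) F22518
def n5783 : Q := act 2 n4619
theorem D5783 : act 2 n4619 = n5783 := rfl
theorem F27869 : act 0 n5783 = n4910 := d1_1 D5783 (iv D4910) (iv F22522)
theorem F27870 : act 3 n5783 = n4916 := d17_2 D4619 D5783 (iv D4916) (iv D3871) (iv F20240)
theorem F27871 : act 4 n5783 = n4700 := d18_2 (iv F22524) D5783 (iv D4700)
theorem F27872 : act 7 n5783 = n4621 := d21_2 (iv F22525) D5783 (iv D4621)
theorem F27873 : act 8 n5783 = n4628 := d22_2 (iv F22526) D5783 (iv D4628)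
def n5784 : Q := act 6 n4619
theorem D5784 : act 6 n4619 = n5784 := rfl
theorem F27874 : act 0 n5784 = n4911 := d5_1 D5784 (iv D4911) (iv F22522)
theorem F27876 : act 3 n5784 = n4620 := d26_1 D5784 (iv D4620) D4619
def n5785 : Q := act 5 n4620
theorem D5785 : act 5 n4620 = n5785 := rfl
theorem F27880 : act 0 n5785 = n4912 := d4_1 D5785 (iv D4912) (iv F22527)
theorem F27881 : act 1 n5785 = n5785 := d12_1 D5785 (iv D5785) F22528
theorem F27882 : act 2 n5785 = n4918 := d19_1 D5785 (iv D4918) (iv F22529)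
theorem F27883 : act 4 n5785 = n5785 := d30_1 D5785 (iv D5785) F22530 F16843 (iv F22530)
theorem F27884 : act 7 n5785 = n5785 := d36_2 F22531 D5785 (iv D5785)
theorem F27885 : act 8 n5785 = n5785 := d37_2 (iv F22532) D5785 (iv D5785) F22532 F20304
def n5786 : Q := act 1 n4621
theorem D5786 : act 1 n4621 = n5786 := rfl
theorem F27886 : act 2 n5786 = n5786 := d9_2 D4621 D5786 (iv D5786) (iv D4621) F16847
theorem F27887 : act 4 n5786 = n4703 := d11_2 (iv F22534) D5786 (iv D4703)
theorem F27888 : act 6 n5786 = n5786 := d13_2 F22535 D5786 (iv D5786)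
theorem F27889 : act 8 n5786 = n4630 := d15_2 (iv F22536) D5786 (iv D4630)
def n5787 : Q := act 3 n4622
theorem D5787 : act 3 n4622 = n5787 := rfl
theorem F27890 : act 0 n5787 = n4914 := d2_1 D5787 (iv D4914) (iv F22537)
theorem F27891 : act 1 n5787 = n5787 := d10_1 D5787 (iv D5787) F22538
theorem F27892 : act 4 n5787 = n5787 := d24_2 D4622 D5787 (iv D5787) (iv D4622) F16879
theorem F27893 : act 7 n5787 = n4767 := d27_2 (iv F22540) D5787 (iv D4767)
theorem F27894 : act 8 n5787 = n5787 := d28_2 F22541 D5787 (iv D5787)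
theorem F27895 : act 9 n5787 = n4624 := d29_2 (iv F22542) D5787 (iv D4624)
def n5788 : Q := act 6 n4622
theorem D5788 : act 6 n4622 = n5788 := rfl
theorem F27896 : act 0 n5788 = n4915 := d5_1 D5788 (iv D4915) (iv F22537)
theorem F27897 : act 1 n5788 = n5788 := d13_1 D5788 (iv D5788) F22538
theorem F27898 : act 2 n5788 = n4868 := d20_1 D5788 (iv D4868) (iv F22539)
theorem F27899 : act 4 n5788 = n4623 := d31_1 D5788 (iv D4623) D4622
theorem F27900 : act 7 n5788 = n5788 := d39_2 (iv F22540) D5788 (iv D5788) F22540 F17624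
theorem F27901 : act 8 n5788 = n5788 := d40_2 F22541 D5788 (iv D5788)
theorem F27902 : act 9 n5788 = n4625 := d41_2 (iv F22542) D5788 (iv D4625)
def n5789 : Q := act 2 n4624
theorem D5789 : act 2 n4624 = n5789 := rfl
theorem F27903 : act 0 n5789 = n4916 := d1_1 D5789 (iv D4916) (iv F22551)
theorem F27904 : act 3 n5789 = n4910 := d17_2 D4624 D5789 (iv D4910) (iv D3859) (iv F20271)
theorem F27905 : act 4 n5789 = n5789 := d18_2 F22553 D5789 (iv D5789)
theorem F27906 : act 7 n5789 = n4782 := d21_2 (iv F22554) D5789 (iv D4782)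
theorem F27907 : act 8 n5789 = n4626 := d22_2 (iv F22555) D5789 (iv D4626)
def n5790 : Q := act 6 n4624
theorem D5790 : act 6 n4624 = n5790 := rfl
theorem F27908 : act 0 n5790 = n4917 := d5_1 D5790 (iv D4917) (iv F22551)
theorem F27909 : act 1 n5790 = n5790 := d13_1 D5790 (iv D5790) F22552
theorem F27910 : act 3 n5790 = n4625 := d26_1 D5790 (iv D4625) D4624
theorem F27911 : act 4 n5790 = n5790 := d31_1 D5790 (iv D5790) F22553
theorem F27912 : act 7 n5790 = n5790 := d39_2 (iv F22554) D5790 (iv D5790) F22554 F17781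
theorem F27913 : act 8 n5790 = n4627 := d40_2 (iv F22555) D5790 (iv D4627)
def n5791 : Q := act 5 n4625
theorem D5791 : act 5 n4625 = n5791 := rfl
theorem F27914 : act 0 n5791 = n4918 := d4_1 D5791 (iv D4918) (iv F22556)
theorem F27915 : act 1 n5791 = n5791 := d12_1 D5791 (iv D5791) F22557
theorem F27916 : act 2 n5791 = n4912 := d19_1 D5791 (iv D4912) (iv F22558)
theorem F27917 : act 4 n5791 = n5791 := d30_1 D5791 (iv D5791) F22559 F16888 (iv F22559)
theorem F27918 : act 7 n5791 = n5791 := d36_2 F22560 D5791 (iv D5791)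
theorem F27919 : act 8 n5791 = n5791 := d37_2 (iv F22561) D5791 (iv D5791) F22561 F16908
def n5792 : Q := act 1 n4626
theorem D5792 : act 1 n4626 = n5792 := rfl
theorem F27921 : act 3 n5792 = n4921 := d10_2 (iv F22563) D5792 (iv D4921)
theorem F27923 : act 5 n5792 = n4630 := d12_2 (iv F22565) D5792 (iv D4630)
theorem F27924 : act 7 n5792 = n4783 := d14_2 (iv F22566) D5792 (iv D4783)
def n5793 : Q := act 6 n4626
theorem D5793 : act 6 n4626 = n5793 := rfl
theorem F27927 : act 2 n5793 = n4627 := d20_1 D5793 (iv D4627) D4626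
theorem F27928 : act 3 n5793 = n4922 := d26_1 D5793 (iv D4922) (iv F22563)
theorem F27931 : act 7 n5793 = n5793 := d39_2 (iv F22566) D5793 (iv D5793) F22566 F17927
def n5794 : Q := act 1 n4628
theorem D5794 : act 1 n4628 = n5794 := rfl
theorem F27933 : act 2 n5794 = n5794 := d9_2 D4628 D5794 (iv D5794) (iv D4628) F16916
theorem F27934 : act 3 n5794 = n4919 := d10_2 (iv F22576) D5794 (iv D4919)
theorem F27935 : act 4 n5794 = n4704 := d11_2 (iv F22577) D5794 (iv D4704)
theorem F27936 : act 5 n5794 = n4783 := d12_2 (iv F22578) D5794 (iv D4783)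
theorem F27937 : act 7 n5794 = n4630 := d14_2 (iv F22579) D5794 (iv D4630)
theorem F27938 : act 9 n5794 = n5794 := d16_2 F22580 D5794 (iv D5794)
def n5795 : Q := act 6 n4628
theorem D5795 : act 6 n4628 = n5795 := rfl
theorem F27939 : act 0 n5795 = n4922 := d5_1 D5795 (iv D4922) (iv F22575)
theorem F27941 : act 3 n5795 = n4920 := d26_1 D5795 (iv D4920) (iv F22576)
def n5796 : Q := act 0 n4630
theorem D5796 : act 0 n4630 = n5796 := rfl
theorem F27946 : act 1 n5796 = n4923 := d0_2 D4630 D5796 (iv D4923) (iv D3883) (iv F16925)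
theorem F27947 : act 2 n5796 = n5796 := d1_2 F22588 D5796 (iv D5796)
theorem F27948 : act 4 n5796 = n4708 := d3_2 (iv F22589) D5796 (iv D4708)
theorem F27949 : act 6 n5796 = n5796 := d5_2 F22590 D5796 (iv D5796)
theorem F27950 : act 9 n5796 = n5796 := d8_2 F22591 D5796 (iv D5796)
def n5797 : Q := act 4 n4631
theorem D5797 : act 4 n4631 = n5797 := rfl
theorem F27951 : act 0 n5797 = n4635 := d3_1 D5797 (iv D4635) (iv F22592)
theorem F27952 : act 1 n5797 = n4733 := d11_1 D5797 F23129 (iv F22593)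
theorem F27953 : act 2 n5797 = n5797 := d18_1 D5797 (iv D5797) F22594
theorem F27954 : act 6 n5797 = n5797 := d31_2 F22596 D5797 (iv D5797)
theorem F27955 : act 8 n5797 = n5797 := d33_2 F22597 D5797 (iv D5797)
theorem F27956 : act 3 n4787 = n5797 := d10_0 F27952 F23128 (iv F23350)
theorem F27957 : act 7 n4730 = n5797 := d14_0 F27952 (iv D4733) (iv F23114)
def n5798 : Q := act 7 n4631
theorem D5798 : act 7 n4631 = n5798 := rfl
theorem F27958 : act 0 n5798 = n4636 := d6_1 D5798 (iv D4636) (iv F22592)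
theorem F27959 : act 1 n5798 = n4721 := d14_1 D5798 (iv F23064) (iv F22593)
theorem F27960 : act 2 n5798 = n5798 := d21_1 D5798 (iv D5798) F22594
theorem F27961 : act 3 n5798 = n5798 := d27_1 D5798 (iv D5798) F22595
theorem F27962 : act 4 n5798 = n4730 := d32_1 D5798 F27957 (iv D5797)
theorem F27963 : act 5 n5798 = n4632 := d36_1 D5798 (iv D4632) D4631
theorem F27964 : act 8 n5798 = n5798 := d42_2 F22597 D5798 (iv D5798)
theorem F27965 : act 6 n4720 = n5798 := d31_0 F27962 (iv D4730) (iv F23054)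
def n5799 : Q := act 9 n4631
theorem D5799 : act 9 n4631 = n5799 := rfl
theorem F27966 : act 0 n5799 = n4637 := d8_1 D5799 (iv D4637) (iv F22592)
theorem F27967 : act 1 n5799 = n4924 := d16_1 D5799 (iv D4924) (iv F22593)
theorem F27968 : act 2 n5799 = n5799 := d23_1 D5799 (iv D5799) F22594
theorem F27969 : act 3 n5799 = n5799 := d29_1 D5799 (iv D5799) F22595
theorem F27970 : act 5 n5799 = n4633 := d38_1 D5799 (iv D4633) D4631
theorem F27971 : act 6 n5799 = n5799 := d41_1 D5799 (iv D5799) F22596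
def n5800 : Q := act 9 n4632
theorem D5800 : act 9 n4632 = n5800 := rfl
theorem F27972 : act 0 n5800 = n4638 := d8_1 D5800 (iv D4638) (iv F22598)
theorem F27973 : act 1 n5800 = n4925 := d16_1 D5800 (iv D4925) (iv F22599)
theorem F27974 : act 2 n5800 = n5800 := d23_1 D5800 (iv D5800) F22600
theorem F27975 : act 3 n5800 = n5800 := d29_1 D5800 (iv D5800) F22601
theorem F27976 : act 6 n5800 = n5800 := d41_1 D5800 (iv D5800) F22602
theorem F27977 : act 7 n5800 = n4633 := d43_1 D5800 (iv D4633) D4632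
def n5801 : Q := act 8 n4633
theorem D5801 : act 8 n4633 = n5801 := rfl
theorem F27978 : act 0 n5801 = n4639 := d7_1 D5801 (iv D4639) (iv F22604)
theorem F27979 : act 1 n5801 = n4926 := d15_1 D5801 (iv D4926) (iv F22605)
theorem F27980 : act 2 n5801 = n5801 := d22_1 D5801 (iv D5801) F22606
theorem F27981 : act 3 n5801 = n5801 := d28_1 D5801 (iv D5801) F22607
theorem F27982 : act 6 n5801 = n4634 := d40_1 D5801 (iv D4634) (iv F22608)
theorem F27983 : act 9 n5801 = n4675 := d44_2 D4633 D5801 (iv D4675) (iv D3549) (iv F17046)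
def n5802 : Q := act 5 n4634
theorem D5802 : act 5 n4634 = n5802 := rfl
theorem F27984 : act 0 n5802 = n4640 := d4_1 D5802 (iv D4640) (iv F22609)
theorem F27985 : act 1 n5802 = n4927 := d12_1 D5802 (iv D4927) (iv F22610)
theorem F27986 : act 2 n5802 = n5802 := d19_1 D5802 (iv D5802) F22611
theorem F27987 : act 3 n5802 = n5802 := d25_1 D5802 (iv D5802) F22612
theorem F27988 : act 7 n5802 = n5802 := d36_2 F22613 D5802 (iv D5802)
theorem F27989 : act 8 n5802 = n5802 := d37_2 D4634 D5802 (iv D5802) (iv D4634) F17051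
theorem F27990 : act 9 n5802 = n4676 := d38_2 (iv F22614) D5802 (iv D4676)
def n5803 : Q := act 3 n4635
theorem D5803 : act 3 n4635 = n5803 := rfl
theorem F27991 : act 0 n5803 = n4787 := d2_1 D5803 F27956 F27951
theorem F27992 : act 1 n5803 = n4641 := d10_1 D5803 (iv D4641) (iv F22615)
theorem F27993 : act 4 n5803 = n5803 := d24_2 D4635 D5803 (iv D5803) (iv D4635) F17055
theorem F27994 : act 6 n5803 = n5803 := d26_2 F22617 D5803 (iv D5803)
theorem F27995 : act 8 n5803 = n5803 := d28_2 F22618 D5803 (iv D5803)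
theorem F27996 : act 7 n4784 = n5803 := d14_0 F27992 (iv F27244) F27239
theorem F27997 : act 2 n5803 = n5036 := d21_1 F27996 (iv D5036) (iv F23339)
def n5804 : Q := act 7 n4635
theorem D5804 : act 7 n4635 = n5804 := rfl
theorem F27998 : act 0 n5804 = n4730 := d6_1 D5804 F27957 F27951
theorem F27999 : act 1 n5804 = n4642 := d14_1 D5804 (iv D4642) (iv F22615)
theorem F28000 : act 2 n5804 = n5804 := d21_1 D5804 (iv D5804) F22616
theorem F28001 : act 3 n5804 = n4784 := d27_1 D5804 F27996 (iv D5803)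
theorem F28002 : act 4 n5804 = n4636 := d32_1 D5804 (iv D4636) D4635
theorem F28003 : act 8 n5804 = n5804 := d42_2 F22618 D5804 (iv D5804)
theorem F28004 : act 6 n4729 = n5804 := d26_0 F28001 (iv D4784) (iv F23110)
def n5805 : Q := act 9 n4635
theorem D5805 : act 9 n4635 = n5805 := rfl
theorem F28005 : act 1 n5805 = n4643 := d16_1 D5805 (iv D4643) (iv F22615)
theorem F28006 : act 2 n5805 = n5805 := d23_1 D5805 (iv D5805) F22616
theorem F28007 : act 4 n5805 = n4637 := d34_1 D5805 (iv D4637) D4635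
theorem F28008 : act 6 n5805 = n5805 := d41_1 D5805 (iv D5805) F22617
def n5806 : Q := act 6 n4636
theorem D5806 : act 6 n4636 = n5806 := rfl
theorem F28009 : act 0 n5806 = n4720 := d5_1 D5806 F27965 F27958
theorem F28010 : act 1 n5806 = n4644 := d13_1 D5806 (iv D4644) (iv F22619)
theorem F28011 : act 2 n5806 = n5806 := d20_1 D5806 (iv D5806) F22620
theorem F28012 : act 3 n5806 = n5806 := d26_1 D5806 (iv D5806) F22621
theorem F28013 : act 4 n5806 = n4729 := d31_1 D5806 F28004 F28002
theorem F28014 : act 5 n5806 = n5806 := d35_1 D5806 (iv D5806) F22622 F17061 (iv F22622)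
theorem F28015 : act 7 n5806 = n5806 := d39_2 D4636 D5806 (iv D5806) (iv D4636) F17056
theorem F28016 : act 8 n5806 = n5806 := d40_2 F22623 D5806 (iv D5806)
def n5807 : Q := act 9 n4636
theorem D5807 : act 9 n4636 = n5807 := rfl
theorem F28017 : act 1 n5807 = n4645 := d16_1 D5807 (iv D4645) (iv F22619)
theorem F28018 : act 2 n5807 = n5807 := d23_1 D5807 (iv D5807) F22620
theorem F28019 : act 3 n5807 = n5807 := d29_1 D5807 (iv D5807) F22621
theorem F28020 : act 5 n5807 = n4638 := d38_1 D5807 (iv D4638) (iv F22622)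
theorem F28021 : act 7 n5807 = n4637 := d43_1 D5807 (iv D4637) D4636
def n5808 : Q := act 8 n4637
theorem D5808 : act 8 n4637 = n5808 := rfl
theorem F28022 : act 1 n5808 = n4646 := d15_1 D5808 (iv D4646) (iv F22624)
theorem F28023 : act 2 n5808 = n5808 := d22_1 D5808 (iv D5808) F22625
theorem F28024 : act 3 n5808 = n5808 := d28_1 D5808 (iv D5808) F22626
theorem F28025 : act 6 n5808 = n5808 := d40_1 D5808 (iv D5808) F22628
theorem F28026 : act 9 n5808 = n5808 := d44_2 D4637 D5808 (iv D5808) (iv D4637) F17057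
def n5809 : Q := act 8 n4638
theorem D5809 : act 8 n4638 = n5809 := rfl
theorem F28027 : act 1 n5809 = n4647 := d15_1 D5809 (iv D4647) (iv F22629)
theorem F28028 : act 2 n5809 = n5809 := d22_1 D5809 (iv D5809) F22630
theorem F28029 : act 3 n5809 = n5809 := d28_1 D5809 (iv D5809) F22631
theorem F28030 : act 6 n5809 = n5809 := d40_1 D5809 (iv D5809) F22632
theorem F28031 : act 7 n5809 = n4639 := d42_1 D5809 (iv D4639) (iv F22633)
theorem F28032 : act 9 n5809 = n4677 := d44_2 D4638 D5809 (iv D4677) (iv D3551) (iv F17062)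
def n5810 : Q := act 5 n4639
theorem D5810 : act 5 n4639 = n5810 := rfl
theorem F28033 : act 1 n5810 = n4648 := d12_1 D5810 (iv D4648) (iv F22634)
theorem F28034 : act 2 n5810 = n5810 := d19_1 D5810 (iv D5810) F22635
theorem F28035 : act 3 n5810 = n5810 := d25_1 D5810 (iv D5810) F22636
theorem F28036 : act 9 n5810 = n4678 := d38_2 (iv F22638) D5810 (iv D4678)
def n5811 : Q := act 4 n4640
theorem D5811 : act 4 n4640 = n5811 := rfl
theorem F28037 : act 1 n5811 = n4649 := d11_1 D5811 (iv D4649) (iv F22639)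
theorem F28038 : act 2 n5811 = n5811 := d18_1 D5811 (iv D5811) F22640
theorem F28039 : act 7 n5811 = n5811 := d32_2 F22642 D5811 (iv D5811)
theorem F28040 : act 8 n5811 = n5811 := d33_2 F22643 D5811 (iv D5811)
theorem F28041 : act 9 n5811 = n4679 := d34_2 (iv F22644) D5811 (iv D4679)
def n5812 : Q := act 6 n4640
theorem D5812 : act 6 n4640 = n5812 := rfl
theorem F28042 : act 1 n5812 = n4650 := d13_1 D5812 (iv D4650) (iv F22639)
theorem F28043 : act 2 n5812 = n5812 := d20_1 D5812 (iv D5812) F22640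
theorem F28044 : act 3 n5812 = n5812 := d26_1 D5812 (iv D5812) F22641
theorem F28045 : act 8 n5812 = n5812 := d40_2 F22643 D5812 (iv D5812)
theorem F28046 : act 9 n5812 = n4680 := d41_2 (iv F22644) D5812 (iv D4680)
def n5813 : Q := act 9 n4641
theorem D5813 : act 9 n4641 = n5813 := rfl
theorem F28047 : act 0 n5813 = n4935 := d8_1 D5813 (iv D4935) (iv F22645)
theorem F28048 : act 2 n5813 = n5813 := d23_1 D5813 (iv D5813) F22646
theorem F28049 : act 3 n5813 = n4643 := d29_1 D5813 (iv D4643) D4641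
theorem F28050 : act 4 n5813 = n5813 := d34_1 D5813 (iv D5813) F22647
theorem F28051 : act 6 n5813 = n5813 := d41_1 D5813 (iv D5813) F22648
def n5814 : Q := act 9 n4642
theorem D5814 : act 9 n4642 = n5814 := rfl
theorem F28052 : act 0 n5814 = n4936 := d8_1 D5814 (iv D4936) (iv F22650)
theorem F28053 : act 2 n5814 = n4652 := d23_1 D5814 (iv D4652) (iv F22651)
theorem F28054 : act 4 n5814 = n4645 := d34_1 D5814 (iv D4645) (iv F22652)
theorem F28055 : act 7 n5814 = n4643 := d43_1 D5814 (iv D4643) D4642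
def n5815 : Q := act 8 n4643
theorem D5815 : act 8 n4643 = n5815 := rfl
theorem F28056 : act 0 n5815 = n4937 := d7_1 D5815 (iv D4937) (iv F22654)
theorem F28057 : act 2 n5815 = n4653 := d22_1 D5815 (iv D4653) (iv F22655)
theorem F28058 : act 4 n5815 = n4646 := d33_1 D5815 (iv D4646) (iv F22656)
theorem F28059 : act 6 n5815 = n5815 := d40_1 D5815 (iv D5815) F22657
theorem F28060 : act 9 n5815 = n5815 := d44_2 D4643 D5815 (iv D5815) (iv D4643) F17075
def n5816 : Q := act 9 n4644
theorem D5816 : act 9 n4644 = n5816 := rfl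
theorem F28061 : act 0 n5816 = n4938 := d8_1 D5816 (iv D4938) (iv F22658)
theorem F28062 : act 2 n5816 = n4654 := d23_1 D5816 (iv D4654) (iv F22659)
theorem F28063 : act 3 n5816 = n5816 := d29_1 D5816 (iv D5816) F22660
theorem F28064 : act 5 n5816 = n5816 := d38_1 D5816 (iv D5816) F22661
theorem F28065 : act 6 n5816 = n4645 := d41_1 D5816 (iv D4645) D4644
theorem F28066 : act 7 n5816 = n5816 := d43_1 D5816 (iv D5816) F22662
def n5817 : Q := act 8 n4645
theorem D5817 : act 8 n4645 = n5817 := rfl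
theorem F28067 : act 0 n5817 = n4939 := d7_1 D5817 (iv D4939) (iv F22664)
theorem F28068 : act 2 n5817 = n4655 := d22_1 D5817 (iv D4655) (iv F22665)
theorem F28069 : act 3 n5817 = n5817 := d28_1 D5817 (iv D5817) F22666
theorem F28070 : act 7 n5817 = n4646 := d42_1 D5817 (iv D4646) (iv F22668)
theorem F28071 : act 9 n5817 = n5817 := d44_2 D4645 D5817 (iv D5817) (iv D4645) F17080
def n5818 : Q := act 5 n4646
theorem D5818 : act 5 n4646 = n5818 := rfl
theorem F28072 : act 0 n5818 = n4940 := d4_1 D5818 (iv D4940) (iv F22669)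
theorem F28073 : act 2 n5818 = n4656 := d19_1 D5818 (iv D4656) (iv F22670)
theorem F28074 : act 3 n5818 = n5818 := d25_1 D5818 (iv D5818) F22671
theorem F28075 : act 8 n5818 = n4648 := d37_2 D4646 D5818 (iv D4648) (iv D3527) (iv F17084)
theorem F28076 : act 9 n5818 = n5818 := d38_2 F22673 D5818 (iv D5818)
def n5819 : Q := act 5 n4647
theorem D5819 : act 5 n4647 = n5819 := rfl
theorem F28077 : act 0 n5819 = n4941 := d4_1 D5819 (iv D4941) (iv F22674)
theorem F28078 : act 2 n5819 = n4657 := d19_1 D5819 (iv D4657) (iv F22675)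
theorem F28079 : act 3 n5819 = n5819 := d25_1 D5819 (iv D5819) F22676
theorem F28080 : act 7 n5819 = n4648 := d36_2 (iv F22678) D5819 (iv D4648)
theorem F28081 : act 9 n5819 = n4681 := d38_2 (iv F22679) D5819 (iv D4681)
def n5820 : Q := act 4 n4648
theorem D5820 : act 4 n4648 = n5820 := rfl
theorem F28082 : act 0 n5820 = n4942 := d3_1 D5820 (iv D4942) (iv F22680)
theorem F28083 : act 2 n5820 = n4658 := d18_1 D5820 (iv D4658) (iv F22681)
theorem F28084 : act 9 n5820 = n4682 := d34_2 (iv F22683) D5820 (iv D4682)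
def n5821 : Q := act 6 n4648
theorem D5821 : act 6 n4648 = n5821 := rfl
theorem F28085 : act 0 n5821 = n4943 := d5_1 D5821 (iv D4943) (iv F22680)
theorem F28086 : act 2 n5821 = n4659 := d20_1 D5821 (iv D4659) (iv F22681)
theorem F28087 : act 3 n5821 = n5821 := d26_1 D5821 (iv D5821) F22682
theorem F28088 : act 5 n5821 = n4650 := d35_1 D5821 (iv D4650) (iv D3528) (iv F17094) D4648
theorem F28089 : act 9 n5821 = n4683 := d41_2 (iv F22683) D5821 (iv D4683)
def n5822 : Q := act 3 n4649
theorem D5822 : act 3 n4649 = n5822 := rfl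
theorem F28090 : act 0 n5822 = n4944 := d2_1 D5822 (iv D4944) (iv F22684)
theorem F28091 : act 2 n5822 = n5822 := d17_1 D5822 (iv D5822) F22685 F17140 (iv F22685)
theorem F28092 : act 4 n5822 = n5822 := d24_2 D4649 D5822 (iv D5822) (iv D4649) F17098
theorem F28093 : act 7 n5822 = n5822 := d27_2 F22686 D5822 (iv D5822)
theorem F28094 : act 8 n5822 = n5822 := d28_2 F22687 D5822 (iv D5822)
theorem F28095 : act 9 n5822 = n4684 := d29_2 (iv F22688) D5822 (iv D4684)
def n5823 : Q := act 6 n4649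
theorem D5823 : act 6 n4649 = n5823 := rfl
theorem F28096 : act 0 n5823 = n4945 := d5_1 D5823 (iv D4945) (iv F22684)
theorem F28097 : act 2 n5823 = n4660 := d20_1 D5823 (iv D4660) (iv F22685)
theorem F28098 : act 4 n5823 = n4650 := d31_1 D5823 (iv D4650) D4649
theorem F28099 : act 8 n5823 = n5823 := d40_2 F22687 D5823 (iv D5823)
theorem F28100 : act 9 n5823 = n4685 := d41_2 (iv F22688) D5823 (iv D4685)
def n5824 : Q := act 7 n4650
theorem D5824 : act 7 n4650 = n5824 := rfl
theorem F28101 : act 0 n5824 = n4946 := d6_1 D5824 (iv D4946) (iv F22689)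
theorem F28102 : act 2 n5824 = n4661 := d21_1 D5824 (iv D4661) (iv F22690)
theorem F28103 : act 3 n5824 = n5824 := d27_1 D5824 (iv D5824) F22691
theorem F28104 : act 6 n5824 = n5824 := d39_1 D5824 (iv D5824) (iv D4650) F17099 D4650
theorem F28105 : act 8 n5824 = n5824 := d42_2 F22692 D5824 (iv D5824)
theorem F28106 : act 9 n5824 = n4686 := d43_2 (iv F22693) D5824 (iv D4686)
def n5825 : Q := act 9 n4651
theorem D5825 : act 9 n4651 = n5825 := rfl
theorem F28107 : act 0 n5825 = n4947 := d8_1 D5825 (iv D4947) (iv F22694)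
theorem F28108 : act 1 n5825 = n5825 := d16_1 D5825 (iv D5825) F22695
theorem F28109 : act 3 n5825 = n5825 := d29_1 D5825 (iv D5825) F22696
theorem F28110 : act 4 n5825 = n4654 := d34_1 D5825 (iv D4654) (iv F22697)
theorem F28111 : act 6 n5825 = n4652 := d41_1 D5825 (iv D4652) D4651
theorem F28112 : act 7 n5825 = n5825 := d43_1 D5825 (iv D5825) F22698
def n5826 : Q := act 8 n4652
theorem D5826 : act 8 n4652 = n5826 := rfl
theorem F28113 : act 0 n5826 = n4948 := d7_1 D5826 (iv D4948) (iv F22700)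
theorem F28114 : act 1 n5826 = n5826 := d15_1 D5826 (iv D5826) F22701
theorem F28115 : act 3 n5826 = n5826 := d28_1 D5826 (iv D5826) F22702
theorem F28116 : act 4 n5826 = n4655 := d33_1 D5826 (iv D4655) (iv F22703)
theorem F28117 : act 7 n5826 = n4653 := d42_1 D5826 (iv D4653) (iv F22704)
theorem F28118 : act 9 n5826 = n5826 := d44_2 D4652 D5826 (iv D5826) (iv D4652) F17106
def n5827 : Q := act 5 n4653
theorem D5827 : act 5 n4653 = n5827 := rfl
theorem F28119 : act 0 n5827 = n4949 := d4_1 D5827 (iv D4949) (iv F22705)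
theorem F28120 : act 1 n5827 = n5827 := d12_1 D5827 (iv D5827) F22706
theorem F28121 : act 3 n5827 = n5827 := d25_1 D5827 (iv D5827) F22707
theorem F28122 : act 9 n5827 = n5827 := d38_2 F22710 D5827 (iv D5827)
def n5828 : Q := act 8 n4654
theorem D5828 : act 8 n4654 = n5828 := rfl
theorem F28123 : act 0 n5828 = n4950 := d7_1 D5828 (iv D4950) (iv F22711)
theorem F28124 : act 1 n5828 = n5828 := d15_1 D5828 (iv D5828) F22712
theorem F28125 : act 3 n5828 = n4662 := d28_1 D5828 (iv D4662) (iv F22713)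
theorem F28126 : act 6 n5828 = n4655 := d40_1 D5828 (iv D4655) (iv F22715)
theorem F28127 : act 7 n5828 = n5828 := d42_1 D5828 (iv D5828) F22716
theorem F28128 : act 9 n5828 = n5828 := d44_2 D4654 D5828 (iv D5828) (iv D4654) F17117
def n5829 : Q := act 5 n4655
theorem D5829 : act 5 n4655 = n5829 := rfl
theorem F28129 : act 0 n5829 = n4951 := d4_1 D5829 (iv D4951) (iv F22717)
theorem F28130 : act 1 n5829 = n5829 := d12_1 D5829 (iv D5829) F22718
theorem F28131 : act 3 n5829 = n4663 := d25_1 D5829 (iv D4663) (iv F22719)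
theorem F28132 : act 7 n5829 = n4656 := d36_2 (iv F22720) D5829 (iv D4656)
theorem F28133 : act 8 n5829 = n4657 := d37_2 D4655 D5829 (iv D4657) (iv D3534) (iv F17121)
theorem F28134 : act 9 n5829 = n5829 := d38_2 F22721 D5829 (iv D5829)
def n5830 : Q := act 4 n4656
theorem D5830 : act 4 n4656 = n5830 := rfl
theorem F28135 : act 0 n5830 = n4952 := d3_1 D5830 (iv D4952) (iv F22722)
theorem F28136 : act 1 n5830 = n5830 := d11_1 D5830 (iv D5830) F22723
theorem F28137 : act 8 n5830 = n4658 := d33_2 (iv F22725) D5830 (iv D4658)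
theorem F28138 : act 9 n5830 = n5830 := d34_2 F22726 D5830 (iv D5830)
def n5831 : Q := act 6 n4656
theorem D5831 : act 6 n4656 = n5831 := rfl
theorem F28139 : act 0 n5831 = n4953 := d5_1 D5831 (iv D4953) (iv F22722)
theorem F28140 : act 1 n5831 = n5831 := d13_1 D5831 (iv D5831) F22723
theorem F28141 : act 3 n5831 = n4665 := d26_1 D5831 (iv D4665) (iv F22724)
theorem F28142 : act 5 n5831 = n5831 := d35_1 D5831 (iv D5831) (iv D4656) F17126 D4656
theorem F28143 : act 8 n5831 = n4659 := d40_2 (iv F22725) D5831 (iv D4659)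
theorem F28144 : act 9 n5831 = n5831 := d41_2 F22726 D5831 (iv D5831)
def n5832 : Q := act 4 n4657
theorem D5832 : act 4 n4657 = n5832 := rfl
theorem F28145 : act 0 n5832 = n4954 := d3_1 D5832 (iv D4954) (iv F22727)
theorem F28146 : act 1 n5832 = n5832 := d11_1 D5832 (iv D5832) F22728
theorem F28147 : act 7 n5832 = n4658 := d32_2 (iv F22730) D5832 (iv D4658)
theorem F28148 : act 9 n5832 = n4687 := d34_2 (iv F22731) D5832 (iv D4687)
def n5833 : Q := act 6 n4657
theorem D5833 : act 6 n4657 = n5833 := rfl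
theorem F28149 : act 0 n5833 = n4955 := d5_1 D5833 (iv D4955) (iv F22727)
theorem F28150 : act 1 n5833 = n5833 := d13_1 D5833 (iv D5833) F22728
theorem F28151 : act 3 n5833 = n4667 := d26_1 D5833 (iv D4667) (iv F22729)
theorem F28152 : act 5 n5833 = n5833 := d35_1 D5833 (iv D5833) (iv D4657) F17131 D4657
theorem F28153 : act 9 n5833 = n4688 := d41_2 (iv F22731) D5833 (iv D4688)
def n5834 : Q := act 3 n4658
theorem D5834 : act 3 n4658 = n5834 := rfl
theorem F28154 : act 0 n5834 = n4956 := d2_1 D5834 (iv D4956) (iv F22732)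
theorem F28155 : act 1 n5834 = n5834 := d10_1 D5834 (iv D5834) F22733
theorem F28156 : act 4 n5834 = n4668 := d24_2 D4658 D5834 (iv D4668) (iv D3542) (iv F17136)
theorem F28157 : act 9 n5834 = n4689 := d29_2 (iv F22734) D5834 (iv D4689)
def n5835 : Q := act 6 n4658
theorem D5835 : act 6 n4658 = n5835 := rfl
theorem F28158 : act 0 n5835 = n4957 := d5_1 D5835 (iv D4957) (iv F22732)
theorem F28159 : act 1 n5835 = n5835 := d13_1 D5835 (iv D5835) F22733
theorem F28160 : act 4 n5835 = n4659 := d31_1 D5835 (iv D4659) D4658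
theorem F28161 : act 9 n5835 = n4690 := d41_2 (iv F22734) D5835 (iv D4690)
def n5836 : Q := act 7 n4659
theorem D5836 : act 7 n4659 = n5836 := rfl
theorem F28162 : act 0 n5836 = n4958 := d6_1 D5836 (iv D4958) (iv F22735)
theorem F28163 : act 1 n5836 = n5836 := d14_1 D5836 (iv D5836) F22736
theorem F28164 : act 3 n5836 = n4670 := d27_1 D5836 (iv D4670) (iv F22737)
theorem F28165 : act 5 n5836 = n4661 := d36_1 D5836 (iv D4661) (iv F22738)
theorem F28166 : act 9 n5836 = n4691 := d43_2 (iv F22739) D5836 (iv D4691)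
def n5837 : Q := act 5 n4660
theorem D5837 : act 5 n4660 = n5837 := rfl
theorem F28167 : act 0 n5837 = n4959 := d4_1 D5837 (iv D4959) (iv F22740)
theorem F28168 : act 1 n5837 = n5837 := d12_1 D5837 (iv D5837) F22741
theorem F28169 : act 3 n5837 = n5837 := d25_1 D5837 (iv D5837) F22742
theorem F28170 : act 9 n5837 = n4692 := d38_2 (iv F22745) D5837 (iv D4692)
def n5838 : Q := act 7 n4660
theorem D5838 : act 7 n4660 = n5838 := rfl
theorem F28171 : act 0 n5838 = n4960 := d6_1 D5838 (iv D4960) (iv F22740)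
theorem F28172 : act 1 n5838 = n5838 := d14_1 D5838 (iv D5838) F22741
theorem F28173 : act 3 n5838 = n5838 := d27_1 D5838 (iv D5838) F22742
theorem F28174 : act 4 n5838 = n4661 := d32_1 D5838 (iv D4661) (iv F22743)
theorem F28175 : act 6 n5838 = n5838 := d39_1 D5838 (iv D5838) (iv D4660) F17141 D4660
theorem F28176 : act 8 n5838 = n5838 := d42_2 F22744 D5838 (iv D5838)
theorem F28177 : act 9 n5838 = n4693 := d43_2 (iv F22745) D5838 (iv D4693)
def n5839 : Q := act 5 n4662
theorem D5839 : act 5 n4662 = n5839 := rfl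
theorem F28178 : act 0 n5839 = n4961 := d4_1 D5839 (iv D4961) (iv F22752)
theorem F28179 : act 1 n5839 = n5839 := d12_1 D5839 (iv D5839) F22753
theorem F28180 : act 2 n5839 = n5839 := d19_1 D5839 (iv D5839) F22754
theorem F28181 : act 7 n5839 = n5839 := d36_2 F22757 D5839 (iv D5839)
theorem F28182 : act 8 n5839 = n5839 := d37_2 D4662 D5839 (iv D5839) (iv D4662) F17153
theorem F28183 : act 9 n5839 = n5839 := d38_2 F22758 D5839 (iv D5839)
def n5840 : Q := act 4 n4663
theorem D5840 : act 4 n4663 = n5840 := rfl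
theorem F28184 : act 0 n5840 = n4962 := d3_1 D5840 (iv D4962) (iv F22759)
theorem F28185 : act 1 n5840 = n5840 := d11_1 D5840 (iv D5840) F22760
theorem F28186 : act 2 n5840 = n5840 := d18_1 D5840 (iv D5840) F22761
theorem F28187 : act 5 n5840 = n5840 := d30_2 D4663 D5840 (iv D5840) (iv D4663) F17159
theorem F28188 : act 7 n5840 = n4664 := d32_2 (iv F22762) D5840 (iv D4664)
theorem F28189 : act 8 n5840 = n4666 := d33_2 (iv F22763) D5840 (iv D4666)
theorem F28190 : act 9 n5840 = n5840 := d34_2 F22764 D5840 (iv D5840)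
def n5841 : Q := act 6 n4663
theorem D5841 : act 6 n4663 = n5841 := rfl
theorem F28191 : act 0 n5841 = n4963 := d5_1 D5841 (iv D4963) (iv F22759)
theorem F28192 : act 1 n5841 = n5841 := d13_1 D5841 (iv D5841) F22760
theorem F28193 : act 2 n5841 = n5841 := d20_1 D5841 (iv D5841) F22761
theorem F28194 : act 8 n5841 = n4667 := d40_2 (iv F22763) D5841 (iv D4667)
theorem F28195 : act 9 n5841 = n5841 := d41_2 F22764 D5841 (iv D5841)
def n5842 : Q := act 3 n4664
theorem D5842 : act 3 n4664 = n5842 := rfl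
theorem F28196 : act 0 n5842 = n4964 := d2_1 D5842 (iv D4964) (iv F22765)
theorem F28197 : act 1 n5842 = n5842 := d10_1 D5842 (iv D5842) F22766
theorem F28198 : act 5 n5842 = n5842 := d25_2 F22768 D5842 (iv D5842)
theorem F28199 : act 8 n5842 = n4668 := d28_2 (iv F22769) D5842 (iv D4668)
theorem F28200 : act 9 n5842 = n5842 := d29_2 F22770 D5842 (iv D5842)
def n5843 : Q := act 6 n4664
theorem D5843 : act 6 n4664 = n5843 := rfl
theorem F28201 : act 0 n5843 = n4965 := d5_1 D5843 (iv D4965) (iv F22765)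
theorem F28202 : act 1 n5843 = n5843 := d13_1 D5843 (iv D5843) F22766
theorem F28203 : act 2 n5843 = n5843 := d20_1 D5843 (iv D5843) F22767
theorem F28204 : act 4 n5843 = n4665 := d31_1 D5843 (iv D4665) D4664
theorem F28205 : act 8 n5843 = n4669 := d40_2 (iv F22769) D5843 (iv D4669)
theorem F28206 : act 9 n5843 = n5843 := d41_2 F22770 D5843 (iv D5843)
def n5844 : Q := act 7 n4665
theorem D5844 : act 7 n4665 = n5844 := rfl
theorem F28207 : act 0 n5844 = n4966 := d6_1 D5844 (iv D4966) (iv F22771)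
theorem F28208 : act 1 n5844 = n5844 := d14_1 D5844 (iv D5844) F22772
theorem F28209 : act 2 n5844 = n5844 := d21_1 D5844 (iv D5844) F22773
theorem F28210 : act 5 n5844 = n5844 := d36_1 D5844 (iv D5844) F22774
theorem F28211 : act 8 n5844 = n4670 := d42_2 (iv F22775) D5844 (iv D4670)
theorem F28212 : act 9 n5844 = n5844 := d43_2 F22776 D5844 (iv D5844)
def n5845 : Q := act 3 n4666
theorem D5845 : act 3 n4666 = n5845 := rfl
theorem F28213 : act 0 n5845 = n4967 := d2_1 D5845 (iv D4967) (iv F22777)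
theorem F28214 : act 1 n5845 = n5845 := d10_1 D5845 (iv D5845) F22778
theorem F28215 : act 5 n5845 = n4671 := d25_2 (iv F22780) D5845 (iv D4671)
theorem F28216 : act 7 n5845 = n4668 := d27_2 (iv F22781) D5845 (iv D4668)
theorem F28217 : act 9 n5845 = n4694 := d29_2 (iv F22782) D5845 (iv D4694)
def n5846 : Q := act 6 n4666
theorem D5846 : act 6 n4666 = n5846 := rfl
theorem F28221 : act 4 n5846 = n4667 := d31_1 D5846 (iv D4667) D4666
def n5847 : Q := act 7 n4667
theorem D5847 : act 7 n4667 = n5847 := rfl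
theorem F28223 : act 0 n5847 = n4969 := d6_1 D5847 (iv D4969) (iv F22783)
theorem F28224 : act 1 n5847 = n5847 := d14_1 D5847 (iv D5847) F22784
theorem F28225 : act 2 n5847 = n5847 := d21_1 D5847 (iv D5847) F22785
theorem F28226 : act 5 n5847 = n5847 := d36_1 D5847 (iv D5847) F22786
theorem F28227 : act 6 n5847 = n4670 := d39_1 D5847 (iv D4670) (iv D3543) (iv F17170) D4667
theorem F28228 : act 9 n5847 = n4696 := d43_2 (iv F22787) D5847 (iv D4696)
def n5848 : Q := act 2 n4668
theorem D5848 : act 2 n4668 = n5848 := rfl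
theorem F28229 : act 0 n5848 = n4970 := d1_1 D5848 (iv D4970) (iv F22788)
theorem F28230 : act 3 n5848 = n5848 := d17_2 D4668 D5848 (iv D5848) (iv D4668) F17174
theorem F28231 : act 5 n5848 = n4673 := d19_2 (iv F22790) D5848 (iv D4673)
theorem F28232 : act 9 n5848 = n4697 := d23_2 (iv F22791) D5848 (iv D4697)
def n5849 : Q := act 6 n4668
theorem D5849 : act 6 n4668 = n5849 := rfl
theorem F28233 : act 0 n5849 = n4971 := d5_1 D5849 (iv D4971) (iv F22788)
theorem F28234 : act 1 n5849 = n5849 := d13_1 D5849 (iv D5849) F22789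
theorem F28235 : act 3 n5849 = n4669 := d26_1 D5849 (iv D4669) D4668
theorem F28236 : act 5 n5849 = n5849 := d35_1 D5849 (iv D5849) F22790 F17204 (iv F22790)
theorem F28237 : act 9 n5849 = n4698 := d41_2 (iv F22791) D5849 (iv D4698)
def n5850 : Q := act 7 n4669
theorem D5850 : act 7 n4669 = n5850 := rfl
theorem F28238 : act 0 n5850 = n4972 := d6_1 D5850 (iv D4972) (iv F22792)
theorem F28239 : act 1 n5850 = n5850 := d14_1 D5850 (iv D5850) F22793
theorem F28240 : act 2 n5850 = n5850 := d21_1 D5850 (iv D5850) F22794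
theorem F28241 : act 4 n5850 = n4670 := d32_1 D5850 (iv D4670) (iv F22795)
theorem F28242 : act 5 n5850 = n5850 := d36_1 D5850 (iv D5850) F22796
theorem F28243 : act 9 n5850 = n4699 := d43_2 (iv F22797) D5850 (iv D4699)
def n5851 : Q := act 2 n4671
theorem D5851 : act 2 n4671 = n5851 := rfl
theorem F28244 : act 0 n5851 = n4973 := d1_1 D5851 (iv D4973) (iv F22803)
theorem F28245 : act 3 n5851 = n5851 := d17_2 D4671 D5851 (iv D5851) (iv D4671) F17191
theorem F28246 : act 7 n5851 = n4673 := d21_2 (iv F22805) D5851 (iv D4673)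
theorem F28247 : act 8 n5851 = n5851 := d22_2 F22806 D5851 (iv D5851)
theorem F28248 : act 9 n5851 = n4700 := d23_2 (iv F22807) D5851 (iv D4700)
def n5852 : Q := act 6 n4671
theorem D5852 : act 6 n4671 = n5852 := rfl
theorem F28249 : act 0 n5852 = n4974 := d5_1 D5852 (iv D4974) (iv F22803)
def n5853 : Q := act 5 n4672
theorem D5853 : act 5 n4672 = n5853 := rfl
theorem F28255 : act 0 n5853 = n4975 := d4_1 D5853 (iv D4975) (iv F22808)
def n5854 : Q := act 1 n4673
theorem D5854 : act 1 n4673 = n5854 := rfl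
theorem F28261 : act 2 n5854 = n5854 := d9_2 D4673 D5854 (iv D5854) (iv D4673) F17203
theorem F28262 : act 3 n5854 = n5854 := d10_2 F22816 D5854 (iv D5854)
theorem F28263 : act 6 n5854 = n5854 := d13_2 F22817 D5854 (iv D5854)
theorem F28264 : act 8 n5854 = n5854 := d15_2 F22818 D5854 (iv D5854)
theorem F28265 : act 9 n5854 = n4703 := d16_2 (iv F22819) D5854 (iv D4703)
def n5855 : Q := act 8 n4674
theorem D5855 : act 8 n4674 = n5855 := rfl
theorem F28266 : act 0 n5855 = n4677 := d7_1 D5855 (iv D4677) (iv F22820)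
theorem F28267 : act 1 n5855 = n4977 := d15_1 D5855 (iv D4977) (iv F22821)
theorem F28268 : act 2 n5855 = n5855 := d22_1 D5855 (iv D5855) F22822
theorem F28269 : act 3 n5855 = n5855 := d28_1 D5855 (iv D5855) F22823
theorem F28270 : act 6 n5855 = n5855 := d40_1 D5855 (iv D5855) F22825
theorem F28271 : act 7 n5855 = n4675 := d42_1 D5855 (iv D4675) (iv F22826)
def n5856 : Q := act 5 n4675
theorem D5856 : act 5 n4675 = n5856 := rfl
theorem F28272 : act 0 n5856 = n4678 := d4_1 D5856 (iv D4678) (iv F22827)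
theorem F28273 : act 1 n5856 = n4978 := d12_1 D5856 (iv D4978) (iv F22828)
theorem F28274 : act 2 n5856 = n5856 := d19_1 D5856 (iv D5856) F22829
theorem F28275 : act 3 n5856 = n5856 := d25_1 D5856 (iv D5856) F22830
theorem F28276 : act 8 n5856 = n5856 := d37_2 D4675 D5856 (iv D5856) (iv D4675) F17217
def n5857 : Q := act 4 n4676
theorem D5857 : act 4 n4676 = n5857 := rfl
theorem F28277 : act 0 n5857 = n4679 := d3_1 D5857 (iv D4679) (iv F22832)
theorem F28278 : act 1 n5857 = n4979 := d11_1 D5857 (iv D4979) (iv F22833)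
theorem F28279 : act 2 n5857 = n5857 := d18_1 D5857 (iv D5857) F22834
theorem F28280 : act 7 n5857 = n5857 := d32_2 F22836 D5857 (iv D5857)
theorem F28281 : act 8 n5857 = n4710 := d33_2 (iv F22837) D5857 (iv D4710)
def n5858 : Q := act 6 n4676
theorem D5858 : act 6 n4676 = n5858 := rfl
theorem F28282 : act 0 n5858 = n4680 := d5_1 D5858 (iv D4680) (iv F22832)
theorem F28283 : act 1 n5858 = n4980 := d13_1 D5858 (iv D4980) (iv F22833)
theorem F28284 : act 2 n5858 = n5858 := d20_1 D5858 (iv D5858) F22834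
theorem F28285 : act 3 n5858 = n5858 := d26_1 D5858 (iv D5858) F22835
def n5859 : Q := act 5 n4677
theorem D5859 : act 5 n4677 = n5859 := rfl
theorem F28287 : act 1 n5859 = n4681 := d12_1 D5859 (iv D4681) (iv F22838)
theorem F28288 : act 2 n5859 = n5859 := d19_1 D5859 (iv D5859) F22839
theorem F28289 : act 3 n5859 = n5859 := d25_1 D5859 (iv D5859) F22840
theorem F28290 : act 7 n5859 = n4678 := d36_2 (iv F22842) D5859 (iv D4678)
theorem F28291 : act 8 n5859 = n5859 := d37_2 D4677 D5859 (iv D5859) (iv D4677) F17227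
def n5860 : Q := act 4 n4678
theorem D5860 : act 4 n4678 = n5860 := rfl
theorem F28292 : act 1 n5860 = n4682 := d11_1 D5860 (iv D4682) (iv F22843)
theorem F28293 : act 2 n5860 = n5860 := d18_1 D5860 (iv D5860) F22844
theorem F28294 : act 8 n5860 = n5860 := d33_2 F22846 D5860 (iv D5860)
def n5861 : Q := act 6 n4678
theorem D5861 : act 6 n4678 = n5861 := rfl
theorem F28295 : act 1 n5861 = n4683 := d13_1 D5861 (iv D4683) (iv F22843)
theorem F28296 : act 2 n5861 = n5861 := d20_1 D5861 (iv D5861) F22844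
theorem F28297 : act 3 n5861 = n5861 := d26_1 D5861 (iv D5861) F22845
theorem F28298 : act 5 n5861 = n4680 := d35_1 D5861 (iv D4680) (iv D3553) (iv F17233) D4678
theorem F28299 : act 8 n5861 = n5861 := d40_2 F22846 D5861 (iv D5861)
def n5862 : Q := act 3 n4679
theorem D5862 : act 3 n4679 = n5862 := rfl
theorem F28300 : act 1 n5862 = n4684 := d10_1 D5862 (iv D4684) (iv F22847)
theorem F28301 : act 4 n5862 = n5862 := d24_2 D4679 D5862 (iv D5862) (iv D4679) F17236
theorem F28302 : act 7 n5862 = n5862 := d27_2 F22849 D5862 (iv D5862)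
theorem F28303 : act 8 n5862 = n4712 := d28_2 (iv F22850) D5862 (iv D4712)
def n5863 : Q := act 6 n4679
theorem D5863 : act 6 n4679 = n5863 := rfl
theorem F28304 : act 1 n5863 = n4685 := d13_1 D5863 (iv D4685) (iv F22847)
theorem F28305 : act 2 n5863 = n5863 := d20_1 D5863 (iv D5863) F22848
theorem F28306 : act 4 n5863 = n4680 := d31_1 D5863 (iv D4680) D4679
theorem F28307 : act 8 n5863 = n4713 := d40_2 (iv F22850) D5863 (iv D4713)
def n5864 : Q := act 7 n4680
theorem D5864 : act 7 n4680 = n5864 := rfl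
theorem F28308 : act 1 n5864 = n4686 := d14_1 D5864 (iv D4686) (iv F22851)
theorem F28309 : act 2 n5864 = n5864 := d21_1 D5864 (iv D5864) F22852
theorem F28310 : act 3 n5864 = n5864 := d27_1 D5864 (iv D5864) F22853
theorem F28311 : act 6 n5864 = n5864 := d39_1 D5864 (iv D5864) (iv D4680) F17237 D4680
def n5865 : Q := act 4 n4681
theorem D5865 : act 4 n4681 = n5865 := rfl
theorem F28313 : act 0 n5865 = n4987 := d3_1 D5865 (iv D4987) (iv F22855)
theorem F28314 : act 2 n5865 = n4687 := d18_1 D5865 (iv D4687) (iv F22856)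
theorem F28315 : act 7 n5865 = n4682 := d32_2 (iv F22858) D5865 (iv D4682)
theorem F28316 : act 8 n5865 = n5865 := d33_2 F22859 D5865 (iv D5865)
def n5866 : Q := act 6 n4681
theorem D5866 : act 6 n4681 = n5866 := rfl
theorem F28317 : act 0 n5866 = n4988 := d5_1 D5866 (iv D4988) (iv F22855)
theorem F28318 : act 2 n5866 = n4688 := d20_1 D5866 (iv D4688) (iv F22856)
theorem F28319 : act 3 n5866 = n5866 := d26_1 D5866 (iv D5866) F22857
theorem F28320 : act 5 n5866 = n5866 := d35_1 D5866 (iv D5866) (iv D4681) F17242 D4681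
theorem F28321 : act 8 n5866 = n5866 := d40_2 F22859 D5866 (iv D5866)
def n5867 : Q := act 3 n4682
theorem D5867 : act 3 n4682 = n5867 := rfl
theorem F28322 : act 0 n5867 = n4989 := d2_1 D5867 (iv D4989) (iv F22860)
theorem F28323 : act 4 n5867 = n5867 := d24_2 D4682 D5867 (iv D5867) (iv D4682) F17246
theorem F28324 : act 8 n5867 = n5867 := d28_2 F22862 D5867 (iv D5867)
def n5868 : Q := act 6 n4682
theorem D5868 : act 6 n4682 = n5868 := rfl
theorem F28325 : act 0 n5868 = n4990 := d5_1 D5868 (iv D4990) (iv F22860)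
theorem F28326 : act 2 n5868 = n4690 := d20_1 D5868 (iv D4690) (iv F22861)
theorem F28327 : act 4 n5868 = n4683 := d31_1 D5868 (iv D4683) D4682
theorem F28328 : act 8 n5868 = n5868 := d40_2 F22862 D5868 (iv D5868)
def n5869 : Q := act 7 n4683
theorem D5869 : act 7 n4683 = n5869 := rfl
theorem F28329 : act 0 n5869 = n4991 := d6_1 D5869 (iv D4991) (iv F22863)
theorem F28330 : act 2 n5869 = n4691 := d21_1 D5869 (iv D4691) (iv F22864)
theorem F28331 : act 3 n5869 = n5869 := d27_1 D5869 (iv D5869) F22865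
theorem F28332 : act 5 n5869 = n4686 := d36_1 D5869 (iv D4686) (iv F22866)
theorem F28333 : act 8 n5869 = n5869 := d42_2 F22867 D5869 (iv D5869)
def n5870 : Q := act 6 n4684
theorem D5870 : act 6 n4684 = n5870 := rfl
theorem F28334 : act 0 n5870 = n4992 := d5_1 D5870 (iv D4992) (iv F22868)
theorem F28335 : act 2 n5870 = n5870 := d20_1 D5870 (iv D5870) F22869
theorem F28336 : act 3 n5870 = n4685 := d26_1 D5870 (iv D4685) D4684
theorem F28337 : act 4 n5870 = n5870 := d31_1 D5870 (iv D5870) F22870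
theorem F28338 : act 8 n5870 = n4715 := d40_2 (iv F22872) D5870 (iv D4715)
def n5871 : Q := act 5 n4685
theorem D5871 : act 5 n4685 = n5871 := rfl
theorem F28339 : act 0 n5871 = n4993 := d4_1 D5871 (iv D4993) (iv F22873)
theorem F28340 : act 2 n5871 = n4692 := d19_1 D5871 (iv D4692) (iv F22874)
def n5872 : Q := act 7 n4685
theorem D5872 : act 7 n4685 = n5872 := rfl
theorem F28341 : act 0 n5872 = n4994 := d6_1 D5872 (iv D4994) (iv F22873)
theorem F28342 : act 2 n5872 = n4693 := d21_1 D5872 (iv D4693) (iv F22874)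
theorem F28343 : act 4 n5872 = n4686 := d32_1 D5872 (iv D4686) (iv F22875)
theorem F28344 : act 6 n5872 = n5872 := d39_1 D5872 (iv D5872) (iv D4685) F17250 D4685
theorem F28345 : act 8 n5872 = n4717 := d42_2 (iv F22876) D5872 (iv D4717)
def n5873 : Q := act 3 n4687
theorem D5873 : act 3 n4687 = n5873 := rfl
theorem F28346 : act 0 n5873 = n4995 := d2_1 D5873 (iv D4995) (iv F22882)
theorem F28347 : act 1 n5873 = n5873 := d10_1 D5873 (iv D5873) F22883
theorem F28348 : act 4 n5873 = n4694 := d24_2 D4687 D5873 (iv D4694) (iv D3563) (iv F17258)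
theorem F28349 : act 7 n5873 = n4689 := d27_2 (iv F22884) D5873 (iv D4689)
theorem F28350 : act 8 n5873 = n5873 := d28_2 F22885 D5873 (iv D5873)
def n5874 : Q := act 6 n4687
theorem D5874 : act 6 n4687 = n5874 := rfl
theorem F28351 : act 0 n5874 = n4996 := d5_1 D5874 (iv D4996) (iv F22882)
theorem F28352 : act 1 n5874 = n5874 := d13_1 D5874 (iv D5874) F22883
theorem F28353 : act 4 n5874 = n4688 := d31_1 D5874 (iv D4688) D4687
theorem F28354 : act 8 n5874 = n5874 := d40_2 F22885 D5874 (iv D5874)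
def n5875 : Q := act 7 n4688
theorem D5875 : act 7 n4688 = n5875 := rfl
theorem F28355 : act 0 n5875 = n4997 := d6_1 D5875 (iv D4997) (iv F22886)
theorem F28356 : act 1 n5875 = n5875 := d14_1 D5875 (iv D5875) F22887
theorem F28357 : act 3 n5875 = n4696 := d27_1 D5875 (iv D4696) (iv F22888)
theorem F28358 : act 5 n5875 = n5875 := d36_1 D5875 (iv D5875) F22889
theorem F28359 : act 6 n5875 = n4691 := d39_1 D5875 (iv D4691) (iv D3560) (iv F17259) D4688
theorem F28360 : act 8 n5875 = n5875 := d42_2 F22890 D5875 (iv D5875)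
def n5876 : Q := act 2 n4689
theorem D5876 : act 2 n4689 = n5876 := rfl
theorem F28361 : act 0 n5876 = n4998 := d1_1 D5876 (iv D4998) (iv F22891)
theorem F28362 : act 4 n5876 = n4697 := d18_2 (iv F22893) D5876 (iv D4697)
theorem F28363 : act 8 n5876 = n5876 := d22_2 F22894 D5876 (iv D5876)
def n5877 : Q := act 6 n4689
theorem D5877 : act 6 n4689 = n5877 := rfl
theorem F28364 : act 0 n5877 = n4999 := d5_1 D5877 (iv D4999) (iv F22891)
theorem F28365 : act 1 n5877 = n5877 := d13_1 D5877 (iv D5877) F22892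
theorem F28366 : act 3 n5877 = n4690 := d26_1 D5877 (iv D4690) D4689
theorem F28367 : act 4 n5877 = n4698 := d31_1 D5877 (iv D4698) (iv F22893)
theorem F28368 : act 8 n5877 = n5877 := d40_2 F22894 D5877 (iv D5877)
def n5878 : Q := act 5 n4690
theorem D5878 : act 5 n4690 = n5878 := rfl
theorem F28369 : act 0 n5878 = n5000 := d4_1 D5878 (iv D5000) (iv F22895)
theorem F28370 : act 1 n5878 = n5878 := d12_1 D5878 (iv D5878) F22896
theorem F28371 : act 4 n5878 = n4692 := d30_1 D5878 (iv D4692) F17272 (iv F17267) (iv F22897)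
def n5879 : Q := act 7 n4690
theorem D5879 : act 7 n4690 = n5879 := rfl
theorem F28372 : act 0 n5879 = n5001 := d6_1 D5879 (iv D5001) (iv F22895)
theorem F28373 : act 1 n5879 = n5879 := d14_1 D5879 (iv D5879) F22896
theorem F28374 : act 4 n5879 = n4691 := d32_1 D5879 (iv D4691) (iv F22897)
theorem F28375 : act 8 n5879 = n5879 := d42_2 F22898 D5879 (iv D5879)
def n5880 : Q := act 7 n4692
theorem D5880 : act 7 n4692 = n5880 := rfl
theorem F28376 : act 0 n5880 = n5002 := d6_1 D5880 (iv D5002) (iv F22904)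
theorem F28377 : act 1 n5880 = n5880 := d14_1 D5880 (iv D5880) F22905
theorem F28378 : act 3 n5880 = n5880 := d27_1 D5880 (iv D5880) F22906
theorem F28379 : act 5 n5880 = n4693 := d36_1 D5880 (iv D4693) D4692
def n5881 : Q := act 8 n4692
theorem D5881 : act 8 n4692 = n5881 := rfl
theorem F28380 : act 0 n5881 = n5003 := d7_1 D5881 (iv D5003) (iv F22904)
theorem F28381 : act 1 n5881 = n5881 := d15_1 D5881 (iv D5881) F22905
theorem F28382 : act 3 n5881 = n5881 := d28_1 D5881 (iv D5881) F22906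
theorem F28383 : act 5 n5881 = n4719 := d37_1 D5881 (iv D4719) (iv D3586) (iv F17273) D4692
def n5882 : Q := act 2 n4694
theorem D5882 : act 2 n4694 = n5882 := rfl
theorem F28384 : act 0 n5882 = n5004 := d1_1 D5882 (iv D5004) (iv F22913)
theorem F28385 : act 3 n5882 = n5882 := d17_2 D4694 D5882 (iv D5882) (iv D4694) F17281
theorem F28386 : act 5 n5882 = n4700 := d19_2 (iv F22915) D5882 (iv D4700)
theorem F28387 : act 7 n5882 = n4697 := d21_2 (iv F22916) D5882 (iv D4697)
theorem F28388 : act 8 n5882 = n5882 := d22_2 F22917 D5882 (iv D5882)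
def n5883 : Q := act 6 n4694
theorem D5883 : act 6 n4694 = n5883 := rfl
theorem F28389 : act 0 n5883 = n5005 := d5_1 D5883 (iv D5005) (iv F22913)
theorem F28391 : act 3 n5883 = n4695 := d26_1 D5883 (iv D4695) D4694
def n5884 : Q := act 5 n4695
theorem D5884 : act 5 n4695 = n5884 := rfl
theorem F28396 : act 4 n5884 = n5884 := d30_1 D5884 (iv D5884) F22921 F17288 (iv F22921)
theorem F28397 : act 6 n5884 = n4702 := d35_2 D4695 D5884 (iv D4702) (iv D3569) (iv F17282)
def n5886 : Q := act 1 n4697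
theorem D5886 : act 1 n4697 = n5886 := rfl
theorem F28404 : act 2 n5886 = n5886 := d9_2 D4697 D5886 (iv D5886) (iv D4697) F17291
theorem F28405 : act 3 n5886 = n5886 := d10_2 F22930 D5886 (iv D5886)
theorem F28406 : act 5 n5886 = n4703 := d12_2 (iv F22931) D5886 (iv D4703)
theorem F28407 : act 8 n5886 = n5886 := d15_2 F22932 D5886 (iv D5886)
def n5887 : Q := act 6 n4697
theorem D5887 : act 6 n4697 = n5887 := rfl
theorem F28408 : act 0 n5887 = n5009 := d5_1 D5887 (iv D5009) (iv F22929)
theorem F28409 : act 2 n5887 = n4698 := d20_1 D5887 (iv D4698) D4697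
theorem F28410 : act 3 n5887 = n5887 := d26_1 D5887 (iv D5887) F22930
theorem F28411 : act 5 n5887 = n5887 := d35_1 D5887 (iv D5887) F22931 F17317 (iv F22931)
theorem F28412 : act 8 n5887 = n5887 := d40_2 F22932 D5887 (iv D5887)
def n5888 : Q := act 7 n4698
theorem D5888 : act 7 n4698 = n5888 := rfl
theorem F28413 : act 0 n5888 = n5010 := d6_1 D5888 (iv D5010) (iv F22933)
theorem F28414 : act 1 n5888 = n5888 := d14_1 D5888 (iv D5888) F22934
theorem F28415 : act 3 n5888 = n4699 := d27_1 D5888 (iv D4699) (iv F22935)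
theorem F28416 : act 5 n5888 = n5888 := d36_1 D5888 (iv D5888) F22936
theorem F28417 : act 8 n5888 = n5888 := d42_2 F22937 D5888 (iv D5888)
def n5889 : Q := act 1 n4700
theorem D5889 : act 1 n4700 = n5889 := rfl
theorem F28420 : act 7 n5889 = n4703 := d14_2 (iv F22946) D5889 (iv D4703)
theorem F28421 : act 8 n5889 = n4704 := d15_2 (iv F22947) D5889 (iv D4704)
def n5890 : Q := act 6 n4700
theorem D5890 : act 6 n4700 = n5890 := rfl
theorem F28422 : act 0 n5890 = n5012 := d5_1 D5890 (iv D5012) (iv F22944)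
theorem F28423 : act 2 n5890 = n4701 := d20_1 D5890 (iv D4701) D4700
theorem F28425 : act 7 n5890 = n5890 := d39_2 (iv F22946) D5890 (iv D5890) F22946 F17317
def n5891 : Q := act 5 n4701
theorem D5891 : act 5 n4701 = n5891 := rfl
theorem F28427 : act 0 n5891 = n5013 := d4_1 D5891 (iv D5013) (iv F22948)
theorem F28429 : act 3 n5891 = n4702 := d25_1 D5891 (iv D4702) (iv F22950)
def n5892 : Q := act 8 n4702
theorem D5892 : act 8 n4702 = n5892 := rfl
theorem F28431 : act 0 n5892 = n5014 := d7_1 D5892 (iv D5014) (iv F22953)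
def n5893 : Q := act 0 n4703
theorem D5893 : act 0 n4703 = n5893 := rfl
theorem F28441 : act 8 n5893 = n4708 := d7_2 (iv F22961) D5893 (iv D4708)
def n5894 : Q := act 0 n4704
theorem D5894 : act 0 n4704 = n5894 := rfl
theorem F28442 : act 1 n5894 = n5016 := d0_2 D4704 D5894 (iv D5016) (iv D3987) (iv F17319)
theorem F28446 : act 7 n5894 = n4708 := d6_2 (iv F22965) D5894 (iv D4708)
def n5895 : Q := act 6 n4704
theorem D5895 : act 6 n4704 = n5895 := rfl
theorem F28448 : act 1 n5895 = n4705 := d13_1 D5895 (iv D4705) D4704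
def n5896 : Q := act 5 n4705
theorem D5896 : act 5 n4705 = n5896 := rfl
theorem F28453 : act 0 n5896 = n5018 := d4_1 D5896 (iv D5018) (iv F22967)
def n5899 : Q := act 3 n4710
theorem D5899 : act 3 n4710 = n5899 := rfl
theorem F28473 : act 0 n5899 = n4712 := d2_1 D5899 (iv D4712) (iv F22999)
theorem F28474 : act 1 n5899 = n5021 := d10_1 D5899 (iv D5021) (iv F23000)
theorem F28475 : act 4 n5899 = n5899 := d24_2 D4710 D5899 (iv D5899) (iv D4710) F17375
theorem F28476 : act 5 n5899 = n5899 := d25_2 F23002 D5899 (iv D5899)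
theorem F28477 : act 7 n5899 = n5899 := d27_2 F23003 D5899 (iv D5899)
theorem F28478 : act 9 n5899 = n5899 := d29_2 F23004 D5899 (iv D5899)
def n5900 : Q := act 6 n4710
theorem D5900 : act 6 n4710 = n5900 := rfl
theorem F28479 : act 0 n5900 = n4713 := d5_1 D5900 (iv D4713) (iv F22999)
theorem F28480 : act 1 n5900 = n5022 := d13_1 D5900 (iv D5022) (iv F23000)
def n5901 : Q := act 7 n4711
theorem D5901 : act 7 n4711 = n5901 := rfl
theorem F28484 : act 0 n5901 = n4714 := d6_1 D5901 (iv D4714) (iv F23005)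
theorem F28485 : act 1 n5901 = n5023 := d14_1 D5901 (iv D5023) (iv F23006)
def n5902 : Q := act 2 n4712
theorem D5902 : act 2 n4712 = n5902 := rfl
theorem F28491 : act 1 n5902 = n5902 := d9_1 D5902 (iv D5902) F23011 F17389 (iv F23011)
theorem F28492 : act 3 n5902 = n5902 := d17_2 D4712 D5902 (iv D5902) (iv D4712) F17379
theorem F28493 : act 4 n5902 = n5902 := d18_2 F23012 D5902 (iv D5902)
theorem F28494 : act 5 n5902 = n5902 := d19_2 F23013 D5902 (iv D5902)
theorem F28495 : act 7 n5902 = n5902 := d21_2 F23014 D5902 (iv D5902)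
theorem F28496 : act 9 n5902 = n5902 := d23_2 F23015 D5902 (iv D5902)
def n5903 : Q := act 6 n4712
theorem D5903 : act 6 n4712 = n5903 := rfl
theorem F28497 : act 1 n5903 = n4715 := d13_1 D5903 (iv D4715) (iv F23011)
theorem F28498 : act 3 n5903 = n4713 := d26_1 D5903 (iv D4713) D4712
theorem F28499 : act 4 n5903 = n5903 := d31_1 D5903 (iv D5903) F23012
theorem F28500 : act 9 n5903 = n5903 := d41_2 F23015 D5903 (iv D5903)
def n5904 : Q := act 5 n4713
theorem D5904 : act 5 n4713 = n5904 := rfl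
theorem F28501 : act 1 n5904 = n4716 := d12_1 D5904 (iv D4716) (iv F23016)
theorem F28502 : act 2 n5904 = n5904 := d19_1 D5904 (iv D5904) F23017
theorem F28503 : act 4 n5904 = n5904 := d30_1 D5904 (iv D5904) F23018 F17386 (iv F23018)
theorem F28504 : act 6 n5904 = n5904 := d35_2 D4713 D5904 (iv D5904) (iv D4713) F17380
theorem F28505 : act 9 n5904 = n5904 := d38_2 F23019 D5904 (iv D5904)
def n5905 : Q := act 7 n4713
theorem D5905 : act 7 n4713 = n5905 := rfl
def n5906 : Q := act 5 n4715
theorem D5906 : act 5 n4715 = n5906 := rfl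
theorem F28511 : act 0 n5906 = n5028 := d4_1 D5906 (iv D5028) (iv F23026)
theorem F28513 : act 3 n5906 = n4716 := d25_1 D5906 (iv D4716) (iv F23028)
def n5907 : Q := act 7 n4715
theorem D5907 : act 7 n4715 = n5907 := rfl
theorem F28518 : act 3 n5907 = n4717 := d27_1 D5907 (iv D4717) (iv F23028)
def n5908 : Q := act 7 n4716
theorem D5908 : act 7 n4716 = n5908 := rfl
theorem F28523 : act 2 n5908 = n4718 := d21_1 D5908 (iv D4718) (iv F23032)
theorem F28525 : act 5 n5908 = n4717 := d36_1 D5908 (iv D4717) D4716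
def n5909 : Q := act 8 n4716
theorem D5909 : act 8 n4716 = n5909 := rfl
theorem F28527 : act 0 n5909 = n5031 := d7_1 D5909 (iv D5031) (iv F23031)
theorem F28528 : act 2 n5909 = n4719 := d22_1 D5909 (iv D4719) (iv F23032)
theorem F28529 : act 4 n5909 = n5909 := d33_1 D5909 (iv D5909) F23033
theorem F28530 : act 6 n5909 = n5909 := d40_1 D5909 (iv D5909) F23034
def n5910 : Q := act 6 n4718
theorem D5910 : act 6 n4718 = n5910 := rfl
theorem F28531 : act 0 n5910 = n5032 := d5_1 D5910 (iv D5032) (iv F23041)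
theorem F28535 : act 5 n5910 = n5910 := d35_1 D5910 (iv D5910) F23045 F17414 (iv F23045)
theorem F28536 : act 7 n5910 = n5910 := d39_2 D4718 D5910 (iv D5910) (iv D4718) F17408
def n5911 : Q := act 8 n4718
theorem D5911 : act 8 n4718 = n5911 := rfl
theorem F28538 : act 0 n5911 = n5033 := d7_1 D5911 (iv D5033) (iv F23041)
theorem F28539 : act 1 n5911 = n5911 := d15_1 D5911 (iv D5911) F23042
theorem F28540 : act 3 n5911 = n5911 := d28_1 D5911 (iv D5911) F23043
theorem F28541 : act 4 n5911 = n5911 := d33_1 D5911 (iv D5911) F23044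
theorem F28542 : act 7 n5911 = n4719 := d42_1 D5911 (iv D4719) D4718
def n5912 : Q := act 9 n4719
theorem D5912 : act 9 n4719 = n5912 := rfl
theorem F28543 : act 0 n5912 = n5034 := d8_1 D5912 (iv D5034) (iv F23047)
theorem F28544 : act 1 n5912 = n5912 := d16_1 D5912 (iv D5912) F23048
theorem F28545 : act 3 n5912 = n5912 := d29_1 D5912 (iv D5912) F23049
theorem F28546 : act 4 n5912 = n5912 := d34_1 D5912 (iv D5912) F23050
theorem F28547 : act 6 n5912 = n5912 := d41_1 D5912 (iv D5912) F23051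
theorem F28548 : act 8 n5912 = n5912 := d44_1 D5912 (iv D5912) (iv D4719) F17409 D4719
def n5913 : Q := act 9 n4720
theorem D5913 : act 9 n4720 = n5913 := rfl
theorem F28549 : act 1 n5913 = n4722 := d16_1 D5913 (iv D4722) D4720
theorem F28550 : act 2 n5913 = n5913 := d23_1 D5913 (iv D5913) F23052
theorem F28551 : act 3 n5913 = n5913 := d29_1 D5913 (iv D5913) F23053
theorem F28552 : act 4 n5913 = n4731 := d34_1 D5913 (iv D4731) (iv F23054)
theorem F28553 : act 5 n5913 = n5913 := d38_1 D5913 (iv D5913) F23055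
theorem F28554 : act 7 n5913 = n5913 := d43_1 D5913 (iv D5913) F23056
def n5914 : Q := act 9 n4721
theorem D5914 : act 9 n4721 = n5914 := rfl
theorem F28555 : act 0 n5914 = n4929 := d8_1 D5914 (iv D4929) (iv F23058)
theorem F28556 : act 2 n5914 = n4723 := d23_1 D5914 (iv D4723) (iv F23059)
theorem F28557 : act 3 n5914 = n5914 := d29_1 D5914 (iv D5914) F23060
theorem F28558 : act 4 n5914 = n4734 := d34_1 D5914 (iv D4734) (iv F23061)
theorem F28559 : act 5 n5914 = n4925 := d38_1 D5914 (iv D4925) F23063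
theorem F28560 : act 6 n5914 = n4722 := d41_1 D5914 (iv D4722) D4721
theorem F28561 : act 7 n5914 = n4924 := d43_1 D5914 (iv D4924) F23064
def n5915 : Q := act 8 n4722
theorem D5915 : act 8 n4722 = n5915 := rfl
theorem F28562 : act 2 n5915 = n4724 := d22_1 D5915 (iv D4724) (iv F23065)
theorem F28563 : act 3 n5915 = n5915 := d28_1 D5915 (iv D5915) F23066
theorem F28564 : act 4 n5915 = n4735 := d33_1 D5915 (iv D4735) (iv F23067)
theorem F28565 : act 7 n5915 = n5915 := d42_1 D5915 (iv D5915) F23069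
theorem F28566 : act 9 n5915 = n5915 := d44_2 D4722 D5915 (iv D5915) (iv D4722) F17420
def n5916 : Q := act 8 n4723
theorem D5916 : act 8 n4723 = n5916 := rfl
theorem F28567 : act 0 n5916 = n5228 := d7_1 D5916 (iv D5228) (iv F23070)
theorem F28568 : act 1 n5916 = n5916 := d15_1 D5916 (iv D5916) F23071
theorem F28569 : act 3 n5916 = n4725 := d28_1 D5916 (iv D4725) (iv F23072)
theorem F28570 : act 4 n5916 = n4740 := d33_1 D5916 (iv D4740) (iv F23073)
theorem F28571 : act 6 n5916 = n4724 := d40_1 D5916 (iv D4724) (iv F23075)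
theorem F28572 : act 7 n5916 = n5222 := d42_1 D5916 (iv D5222) (iv F23076)
theorem F28573 : act 9 n5916 = n5916 := d44_2 D4723 D5916 (iv D5916) (iv D4723) F17424
def n5917 : Q := act 5 n4724
theorem D5917 : act 5 n4724 = n5917 := rfl
theorem F28574 : act 1 n5917 = n5917 := d12_1 D5917 (iv D5917) F23077
theorem F28575 : act 3 n5917 = n4726 := d25_1 D5917 (iv D4726) (iv F23078)
theorem F28576 : act 7 n5917 = n5917 := d36_2 F23080 D5917 (iv D5917)
theorem F28577 : act 8 n5917 = n5917 := d37_2 D4724 D5917 (iv D5917) (iv D4724) F17428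
theorem F28578 : act 9 n5917 = n5917 := d38_2 F23081 D5917 (iv D5917)
def n5918 : Q := act 5 n4725
theorem D5918 : act 5 n4725 = n5918 := rfl
theorem F28579 : act 0 n5918 = n5374 := d4_1 D5918 (iv D5374) (iv F23082)
theorem F28580 : act 1 n5918 = n5918 := d12_1 D5918 (iv D5918) F23083
theorem F28581 : act 2 n5918 = n5918 := d19_1 D5918 (iv D5918) F23084
theorem F28582 : act 7 n5918 = n5366 := d36_2 (iv F23087) D5918 (iv D5366)
theorem F28583 : act 8 n5918 = n5367 := d37_2 D4725 D5918 (iv D5367) (iv D4301) F20371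
theorem F28584 : act 9 n5918 = n5918 := d38_2 F23088 D5918 (iv D5918)
def n5919 : Q := act 6 n4726
theorem D5919 : act 6 n4726 = n5919 := rfl
theorem F28585 : act 1 n5919 = n5919 := d13_1 D5919 (iv D5919) F23089
theorem F28586 : act 2 n5919 = n5919 := d20_1 D5919 (iv D5919) F23090
theorem F28587 : act 4 n5919 = n5919 := d31_1 D5919 (iv D5919) F23091
theorem F28588 : act 8 n5919 = n5919 := d40_2 F23093 D5919 (iv D5919)
theorem F28589 : act 9 n5919 = n5919 := d41_2 F23094 D5919 (iv D5919)
def n5920 : Q := act 5 n4727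
theorem D5920 : act 5 n4727 = n5920 := rfl
theorem F28590 : act 0 n5920 = n5373 := d4_1 D5920 (iv D5373) (iv F23095)
theorem F28591 : act 1 n5920 = n5920 := d12_1 D5920 (iv D5920) F23096
theorem F28592 : act 2 n5920 = n5920 := d19_1 D5920 (iv D5920) F23097
theorem F28593 : act 3 n5920 = n4747 := d25_1 D5920 (iv D4747) (iv F23098)
theorem F28594 : act 7 n5920 = n4728 := d36_2 (iv F23101) D5920 (iv D4728)
theorem F28595 : act 8 n5920 = n5920 := d37_2 D4727 D5920 (iv D5920) (iv D4727) F17451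
theorem F28596 : act 9 n5920 = n5920 := d38_2 F23102 D5920 (iv D5920)
def n5921 : Q := act 4 n4728
theorem D5921 : act 4 n4728 = n5921 := rfl
theorem F28597 : act 1 n5921 = n5921 := d11_1 D5921 (iv D5921) F23103
theorem F28598 : act 2 n5921 = n5921 := d18_1 D5921 (iv D5921) F23104
theorem F28599 : act 6 n5921 = n5921 := d31_2 F23106 D5921 (iv D5921)
theorem F28600 : act 8 n5921 = n5921 := d33_2 F23107 D5921 (iv D5921)
theorem F28601 : act 9 n5921 = n5921 := d34_2 F23108 D5921 (iv D5921)
def n5922 : Q := act 9 n4729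
theorem D5922 : act 9 n4729 = n5922 := rfl
theorem F28602 : act 0 n5922 = n4731 := d8_1 D5922 (iv D4731) D4729
theorem F28603 : act 2 n5922 = n5922 := d23_1 D5922 (iv D5922) F23109
theorem F28604 : act 3 n5922 = n4785 := d29_1 D5922 (iv D4785) (iv F23110)
theorem F28605 : act 5 n5922 = n4750 := d38_1 D5922 (iv D4750) (iv F23111)
theorem F28606 : act 7 n5922 = n5922 := d43_1 D5922 (iv D5922) F23112
def n5923 : Q := act 5 n4730
theorem D5923 : act 5 n4730 = n5923 := rfl
theorem F28607 : act 1 n5923 = n4732 := d12_1 D5923 (iv D4732) (iv F23114)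
theorem F28608 : act 2 n5923 = n5923 := d19_1 D5923 (iv D5923) F23115
theorem F28609 : act 3 n5923 = n4786 := d25_1 D5923 (iv D4786) (iv F23116)
theorem F28610 : act 6 n5923 = n4751 := d35_2 D4730 D5923 (iv D4751) (iv D3613) (iv F17461)
def n5924 : Q := act 9 n4730
theorem D5924 : act 9 n4730 = n5924 := rfl
theorem F28611 : act 1 n5924 = n4734 := d16_1 D5924 (iv D4734) (iv F23114)
theorem F28612 : act 2 n5924 = n5924 := d23_1 D5924 (iv D5924) F23115
theorem F28613 : act 3 n5924 = n4788 := d29_1 D5924 (iv D4788) (iv F23116)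
theorem F28614 : act 6 n5924 = n4731 := d41_1 D5924 (iv D4731) D4730
def n5925 : Q := act 8 n4731
theorem D5925 : act 8 n4731 = n5925 := rfl
theorem F28615 : act 1 n5925 = n4735 := d15_1 D5925 (iv D4735) (iv F23118)
theorem F28616 : act 2 n5925 = n5925 := d22_1 D5925 (iv D5925) F23119
theorem F28617 : act 3 n5925 = n4789 := d28_1 D5925 (iv D4789) (iv F23120)
theorem F28618 : act 7 n5925 = n5925 := d42_1 D5925 (iv D5925) F23122
theorem F28619 : act 9 n5925 = n5925 := d44_2 D4731 D5925 (iv D5925) (iv D4731) F17463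
def n5926 : Q := act 4 n4732
theorem D5926 : act 4 n4732 = n5926 := rfl
theorem F28620 : act 0 n5926 = n4826 := d3_1 D5926 (iv F26968) F26964
theorem F28621 : act 2 n5926 = n4736 := d18_1 D5926 (iv D4736) (iv F23123)
theorem F28622 : act 5 n5926 = n4822 := d30_2 D4732 D5926 F23497 F23063 F23061
theorem F28623 : act 6 n5926 = n4754 := d31_2 (iv F23125) D5926 (iv D4754)
theorem F28624 : act 7 n4821 = n5926 := d36_0 F28622 (iv D4822) D4821
def n5927 : Q := act 7 n4732
theorem D5927 : act 7 n4732 = n5927 := rfl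
theorem F28625 : act 0 n5927 = n4825 := d6_1 D5927 (iv F26970) F26964
theorem F28626 : act 2 n5927 = n4737 := d21_1 D5927 (iv D4737) (iv F23123)
theorem F28627 : act 3 n5927 = n4791 := d27_1 D5927 (iv D4791) (iv F23124)
theorem F28628 : act 4 n5927 = n4821 := d32_1 D5927 F28624 (iv D5926)
theorem F28629 : act 5 n5927 = n4733 := d36_1 D5927 (iv D4733) D4732
def n5928 : Q := act 9 n4732
theorem D5928 : act 9 n4732 = n5928 := rfl
theorem F28630 : act 2 n5928 = n4738 := d23_1 D5928 (iv D4738) (iv F23123)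
theorem F28631 : act 3 n5928 = n4793 := d29_1 D5928 (iv D4793) (iv F23124)
theorem F28632 : act 5 n5928 = n4734 := d38_1 D5928 (iv D4734) D4732
theorem F28633 : act 6 n5928 = n4755 := d41_1 D5928 (iv D4755) (iv F23125)
def n5929 : Q := act 9 n4733
theorem D5929 : act 9 n4733 = n5929 := rfl
theorem F28634 : act 0 n5929 = n4928 := d8_1 D5929 (iv D4928) (iv F23126)
theorem F28635 : act 2 n5929 = n4739 := d23_1 D5929 (iv D4739) (iv F23127)
theorem F28636 : act 3 n5929 = n4794 := d29_1 D5929 (iv D4794) (iv F23128)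
theorem F28637 : act 4 n5929 = n4924 := d34_1 D5929 (iv D4924) (iv F23129)
theorem F28638 : act 6 n5929 = n5929 := d41_1 D5929 (iv D5929) F23130
theorem F28639 : act 7 n5929 = n4734 := d43_1 D5929 (iv D4734) D4733
def n5930 : Q := act 8 n4734
theorem D5930 : act 8 n4734 = n5930 := rfl
theorem F28640 : act 2 n5930 = n4740 := d22_1 D5930 (iv D4740) (iv F23132)
theorem F28641 : act 3 n5930 = n4795 := d28_1 D5930 (iv D4795) (iv F23133)
theorem F28642 : act 6 n5930 = n4735 := d40_1 D5930 (iv D4735) (iv F23134)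
theorem F28643 : act 9 n5930 = n5930 := d44_2 D4734 D5930 (iv D5930) (iv D4734) F17466
def n5931 : Q := act 5 n4735
theorem D5931 : act 5 n4735 = n5931 := rfl
theorem F28644 : act 2 n5931 = n4741 := d19_1 D5931 (iv D4741) (iv F23135)
theorem F28645 : act 3 n5931 = n4796 := d25_1 D5931 (iv D4796) (iv F23136)
theorem F28646 : act 7 n5931 = n5931 := d36_2 F23137 D5931 (iv D5931)
theorem F28647 : act 8 n5931 = n4757 := d37_2 D4735 D5931 (iv D4757) (iv D3618) (iv F17469)
theorem F28648 : act 9 n5931 = n5931 := d38_2 F23138 D5931 (iv D5931)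
def n5932 : Q := act 9 n4736
theorem D5932 : act 9 n4736 = n5932 := rfl
theorem F28649 : act 0 n5932 = n5082 := d8_1 D5932 (iv D5082) (iv F23139)
theorem F28650 : act 1 n5932 = n5932 := d16_1 D5932 (iv D5932) F23140
theorem F28651 : act 3 n5932 = n5932 := d29_1 D5932 (iv D5932) F23141
theorem F28652 : act 4 n5932 = n4738 := d34_1 D5932 (iv D4738) D4736
theorem F28653 : act 5 n5932 = n5078 := d38_1 D5932 (iv D5078) (iv F23142)
theorem F28654 : act 6 n5932 = n4758 := d41_1 D5932 (iv D4758) (iv F23143)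
theorem F28655 : act 7 n5932 = n5077 := d43_1 D5932 (iv D5077) F23144
def n5933 : Q := act 9 n4737
theorem D5933 : act 9 n4737 = n5933 := rfl
theorem F28656 : act 0 n5933 = n5081 := d8_1 D5933 (iv D5081) (iv F23145)
theorem F28657 : act 1 n5933 = n5933 := d16_1 D5933 (iv D5933) F23146
theorem F28658 : act 3 n5933 = n4742 := d29_1 D5933 (iv D4742) (iv F23147)
theorem F28659 : act 4 n5933 = n5077 := d34_1 D5933 (iv D5077) (iv F23148)
theorem F28660 : act 5 n5933 = n4739 := d38_1 D5933 (iv D4739) (iv F23149)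
theorem F28661 : act 7 n5933 = n4738 := d43_1 D5933 (iv D4738) D4737
def n5934 : Q := act 8 n4738
theorem D5934 : act 8 n4738 = n5934 := rfl
theorem F28662 : act 1 n5934 = n5934 := d15_1 D5934 (iv D5934) F23150
theorem F28663 : act 3 n5934 = n4743 := d28_1 D5934 (iv D4743) (iv F23151)
theorem F28664 : act 6 n5934 = n4759 := d40_1 D5934 (iv D4759) (iv F23153)
def n5935 : Q := act 8 n4739
theorem D5935 : act 8 n4739 = n5935 := rfl
theorem F28665 : act 0 n5935 = n5227 := d7_1 D5935 (iv D5227) (iv F23154)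
theorem F28666 : act 1 n5935 = n5935 := d15_1 D5935 (iv D5935) F23155
theorem F28667 : act 3 n5935 = n4744 := d28_1 D5935 (iv D4744) (iv F23156)
theorem F28668 : act 4 n5935 = n5222 := d33_1 D5935 (iv D5222) (iv F23157)
theorem F28669 : act 6 n5935 = n5935 := d40_1 D5935 (iv D5935) F23158
theorem F28670 : act 7 n5935 = n4740 := d42_1 D5935 (iv D4740) (iv F23159)
theorem F28671 : act 9 n5935 = n5935 := d44_2 D4739 D5935 (iv D5935) (iv D4739) F17477
def n5936 : Q := act 5 n4740
theorem D5936 : act 5 n4740 = n5936 := rfl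
theorem F28672 : act 1 n5936 = n5936 := d12_1 D5936 (iv D5936) F23160
theorem F28673 : act 3 n5936 = n4745 := d25_1 D5936 (iv D4745) (iv F23161)
theorem F28674 : act 9 n5936 = n5936 := d38_2 F23163 D5936 (iv D5936)
def n5937 : Q := act 4 n4741
theorem D5937 : act 4 n4741 = n5937 := rfl
theorem F28675 : act 1 n5937 = n5937 := d11_1 D5937 (iv D5937) F23164
theorem F28676 : act 3 n5937 = n5937 := d24_1 D5937 (iv D5937) F23165 F17511 (iv F23165)
theorem F28677 : act 7 n5937 = n5937 := d32_2 F23166 D5937 (iv D5937)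
theorem F28678 : act 8 n5937 = n4761 := d33_2 (iv F23167) D5937 (iv D4761)
theorem F28679 : act 9 n5937 = n5937 := d34_2 F23168 D5937 (iv D5937)
def n5938 : Q := act 6 n4741
theorem D5938 : act 6 n4741 = n5938 := rfl
theorem F28680 : act 1 n5938 = n5938 := d13_1 D5938 (iv D5938) F23164
theorem F28681 : act 3 n5938 = n4746 := d26_1 D5938 (iv D4746) (iv F23165)
theorem F28682 : act 8 n5938 = n4762 := d40_2 (iv F23167) D5938 (iv D4762)
theorem F28683 : act 9 n5938 = n5938 := d41_2 F23168 D5938 (iv D5938)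
def n5939 : Q := act 8 n4742
theorem D5939 : act 8 n4742 = n5939 := rfl
theorem F28684 : act 1 n5939 = n5939 := d15_1 D5939 (iv D5939) F23169
theorem F28685 : act 2 n5939 = n4811 := d22_1 D5939 (iv D4811) (iv F23170)
theorem F28686 : act 4 n5939 = n5939 := d33_1 D5939 (iv D5939) F23171
theorem F28687 : act 7 n5939 = n4743 := d42_1 D5939 (iv D4743) (iv F23173)
def n5940 : Q := act 5 n4743
theorem D5940 : act 5 n4743 = n5940 := rfl
theorem F28688 : act 1 n5940 = n5940 := d12_1 D5940 (iv D5940) F23174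
theorem F28689 : act 2 n5940 = n4813 := d19_1 D5940 (iv D4813) (iv F23175)
theorem F28690 : act 8 n5940 = n4745 := d37_2 D4743 D5940 (iv D4745) (iv D3608) (iv F17497)
def n5941 : Q := act 5 n4744
theorem D5941 : act 5 n4744 = n5941 := rfl
theorem F28691 : act 1 n5941 = n5941 := d12_1 D5941 (iv D5941) F23178
theorem F28692 : act 2 n5941 = n4814 := d19_1 D5941 (iv D4814) (iv F23179)
theorem F28693 : act 7 n5941 = n4745 := d36_2 (iv F23182) D5941 (iv D4745)
theorem F28694 : act 9 n5941 = n5941 := d38_2 F23183 D5941 (iv D5941)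
def n5942 : Q := act 4 n4745
theorem D5942 : act 4 n4745 = n5942 := rfl
theorem F28695 : act 1 n5942 = n5942 := d11_1 D5942 (iv D5942) F23184
theorem F28696 : act 2 n5942 = n4815 := d18_1 D5942 (iv D4815) (iv F23185)
theorem F28697 : act 5 n5942 = n4748 := d30_2 D4745 D5942 (iv D4748) (iv D3611) (iv F17506)
theorem F28698 : act 9 n5942 = n5942 := d34_2 F23186 D5942 (iv D5942)
def n5943 : Q := act 6 n4745
theorem D5943 : act 6 n4745 = n5943 := rfl
theorem F28699 : act 1 n5943 = n5943 := d13_1 D5943 (iv D5943) F23184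
theorem F28700 : act 2 n5943 = n4816 := d20_1 D5943 (iv D4816) (iv F23185)
theorem F28701 : act 5 n5943 = n4746 := d35_1 D5943 (iv D4746) (iv D3609) (iv F17507) D4745
theorem F28702 : act 9 n5943 = n5943 := d41_2 F23186 D5943 (iv D5943)
def n5944 : Q := act 7 n4746
theorem D5944 : act 7 n4746 = n5944 := rfl
theorem F28703 : act 1 n5944 = n5944 := d14_1 D5944 (iv D5944) F23187
theorem F28704 : act 2 n5944 = n4817 := d21_1 D5944 (iv D4817) (iv F23188)
theorem F28705 : act 4 n5944 = n5944 := d32_1 D5944 (iv D5944) F23189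
theorem F28706 : act 6 n5944 = n5944 := d39_1 D5944 (iv D5944) (iv D4746) F17512 D4746
theorem F28707 : act 8 n5944 = n4766 := d42_2 (iv F23190) D5944 (iv D4766)
theorem F28708 : act 9 n5944 = n5944 := d43_2 F23191 D5944 (iv D5944)
def n5945 : Q := act 4 n4747
theorem D5945 : act 4 n4747 = n5945 := rfl
theorem F28709 : act 1 n5945 = n5945 := d11_1 D5945 (iv D5945) F23192
theorem F28710 : act 2 n5945 = n4818 := d18_1 D5945 (iv D4818) (iv F23193)
theorem F28711 : act 7 n5945 = n4748 := d32_2 (iv F23194) D5945 (iv D4748)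
theorem F28712 : act 8 n5945 = n5945 := d33_2 F23195 D5945 (iv D5945)
theorem F28713 : act 9 n5945 = n5945 := d34_2 F23196 D5945 (iv D5945)
def n5946 : Q := act 6 n4747
theorem D5946 : act 6 n4747 = n5946 := rfl
theorem F28714 : act 1 n5946 = n5946 := d13_1 D5946 (iv D5946) F23192
theorem F28715 : act 2 n5946 = n4819 := d20_1 D5946 (iv D4819) (iv F23193)
theorem F28716 : act 5 n5946 = n5946 := d35_1 D5946 (iv D5946) (iv D4747) F17517 D4747
theorem F28717 : act 7 n5946 = n5946 := d39_2 (iv F23194) D5946 (iv D5946) F23194 F17522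
theorem F28718 : act 8 n5946 = n5946 := d40_2 F23195 D5946 (iv D5946)
theorem F28719 : act 9 n5946 = n5946 := d41_2 F23196 D5946 (iv D5946)
def n5947 : Q := act 3 n4748
theorem D5947 : act 3 n4748 = n5947 := rfl
theorem F28720 : act 1 n5947 = n5947 := d10_1 D5947 (iv D5947) F23197
theorem F28721 : act 6 n5947 = n5947 := d26_2 F23199 D5947 (iv D5947)
theorem F28722 : act 8 n5947 = n5947 := d28_2 F23200 D5947 (iv D5947)
theorem F28723 : act 9 n5947 = n5947 := d29_2 F23201 D5947 (iv D5947)
def n5948 : Q := act 5 n4749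
theorem D5948 : act 5 n4749 = n5948 := rfl
theorem F28724 : act 0 n5948 = n4751 := d4_1 D5948 (iv D4751) (iv F23202)
theorem F28725 : act 2 n5948 = n5948 := d19_1 D5948 (iv D5948) F23203
theorem F28726 : act 3 n5948 = n4821 := d25_1 D5948 (iv D4821) (iv F23204)
def n5949 : Q := act 9 n4749
theorem D5949 : act 9 n4749 = n5949 := rfl
theorem F28727 : act 0 n5949 = n4752 := d8_1 D5949 (iv D4752) (iv F23202)
theorem F28728 : act 2 n5949 = n5949 := d23_1 D5949 (iv D5949) F23203
theorem F28729 : act 3 n5949 = n4823 := d29_1 D5949 (iv D4823) (iv F23204)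
theorem F28730 : act 4 n5949 = n5949 := d34_1 D5949 (iv D5949) F23205
theorem F28731 : act 6 n5949 = n4750 := d41_1 D5949 (iv D4750) D4749
def n5950 : Q := act 8 n4750
theorem D5950 : act 8 n4750 = n5950 := rfl
theorem F28732 : act 0 n5950 = n4753 := d7_1 D5950 (iv D4753) (iv F23207)
theorem F28733 : act 2 n5950 = n5950 := d22_1 D5950 (iv D5950) F23208
theorem F28734 : act 3 n5950 = n4824 := d28_1 D5950 (iv D4824) (iv F23209)
theorem F28735 : act 4 n5950 = n5950 := d33_1 D5950 (iv D5950) F23210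
theorem F28736 : act 7 n5950 = n5950 := d42_1 D5950 (iv D5950) F23211
theorem F28737 : act 9 n5950 = n4769 := d44_2 D4750 D5950 (iv D4769) (iv D3637) (iv F17529)
def n5951 : Q := act 4 n4751
theorem D5951 : act 4 n4751 = n5951 := rfl
theorem F28738 : act 1 n5951 = n4754 := d11_1 D5951 (iv D4754) (iv F23212)
theorem F28739 : act 2 n5951 = n5951 := d18_1 D5951 (iv D5951) F23213
theorem F28740 : act 5 n5951 = n5951 := d30_2 D4751 D5951 (iv D5951) (iv D4751) F17533
def n5952 : Q := act 9 n4751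
theorem D5952 : act 9 n4751 = n5952 := rfl
theorem F28741 : act 1 n5952 = n4755 := d16_1 D5952 (iv D4755) (iv F23212)
theorem F28742 : act 2 n5952 = n5952 := d23_1 D5952 (iv D5952) F23213
theorem F28743 : act 3 n5952 = n4828 := d29_1 D5952 (iv D4828) (iv F23214)
theorem F28744 : act 5 n5952 = n4752 := d38_1 D5952 (iv D4752) D4751
def n5953 : Q := act 8 n4752
theorem D5953 : act 8 n4752 = n5953 := rfl
theorem F28745 : act 1 n5953 = n4756 := d15_1 D5953 (iv D4756) (iv F23215)
theorem F28746 : act 2 n5953 = n5953 := d22_1 D5953 (iv D5953) F23216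
theorem F28747 : act 3 n5953 = n4830 := d28_1 D5953 (iv D4830) (iv F23217)
theorem F28748 : act 4 n5953 = n5953 := d33_1 D5953 (iv D5953) F23218
theorem F28749 : act 6 n5953 = n4753 := d40_1 D5953 (iv D4753) (iv F23219)
theorem F28750 : act 9 n5953 = n4770 := d44_2 D4752 D5953 (iv D4770) (iv D3640) (iv F17534)
def n5954 : Q := act 5 n4753
theorem D5954 : act 5 n4753 = n5954 := rfl
theorem F28751 : act 1 n5954 = n4757 := d12_1 D5954 (iv D4757) (iv F23220)
theorem F28752 : act 2 n5954 = n5954 := d19_1 D5954 (iv D5954) F23221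
theorem F28753 : act 3 n5954 = n4831 := d25_1 D5954 (iv D4831) (iv F23222)
theorem F28754 : act 7 n5954 = n5954 := d36_2 F23224 D5954 (iv D5954)
theorem F28755 : act 9 n5954 = n4771 := d38_2 (iv F23225) D5954 (iv D4771)
def n5955 : Q := act 3 n4754
theorem D5955 : act 3 n4754 = n5955 := rfl
theorem F28756 : act 2 n5955 = n5955 := d17_1 D5955 (iv D5955) F23226 F17557 (iv F23226)
theorem F28757 : act 4 n5955 = n4832 := d24_2 D4754 D5955 (iv D4832) (iv D3784) (iv F17541)
theorem F28758 : act 5 n5955 = n5955 := d25_2 F23227 D5955 (iv D5955)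
def n5956 : Q := act 9 n4754
theorem D5956 : act 9 n4754 = n5956 := rfl
theorem F28759 : act 2 n5956 = n4758 := d23_1 D5956 (iv D4758) (iv F23226)
theorem F28760 : act 4 n5956 = n4755 := d34_1 D5956 (iv D4755) D4754
theorem F28761 : act 5 n5956 = n5956 := d38_1 D5956 (iv D5956) F23227
def n5957 : Q := act 8 n4755
theorem D5957 : act 8 n4755 = n5957 := rfl
theorem F28762 : act 2 n5957 = n4759 := d22_1 D5957 (iv D4759) (iv F23228)
theorem F28763 : act 3 n5957 = n4839 := d28_1 D5957 (iv D4839) (iv F23229)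
def n5958 : Q := act 5 n4756
theorem D5958 : act 5 n4756 = n5958 := rfl
theorem F28764 : act 2 n5958 = n4760 := d19_1 D5958 (iv D4760) (iv F23231)
theorem F28765 : act 3 n5958 = n4841 := d25_1 D5958 (iv D4841) (iv F23232)
theorem F28766 : act 9 n5958 = n4772 := d38_2 (iv F23235) D5958 (iv D4772)
def n5959 : Q := act 4 n4757
theorem D5959 : act 4 n4757 = n5959 := rfl
theorem F28767 : act 2 n5959 = n4761 := d18_1 D5959 (iv D4761) (iv F23236)
theorem F28768 : act 5 n5959 = n5959 := d30_2 D4757 D5959 (iv D5959) (iv D4757) F17553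
theorem F28769 : act 7 n5959 = n5959 := d32_2 F23238 D5959 (iv D5959)
theorem F28770 : act 9 n5959 = n4773 := d34_2 (iv F23239) D5959 (iv D4773)
def n5960 : Q := act 6 n4757
theorem D5960 : act 6 n4757 = n5960 := rfl
theorem F28771 : act 2 n5960 = n4762 := d20_1 D5960 (iv D4762) (iv F23236)
theorem F28772 : act 3 n5960 = n4843 := d26_1 D5960 (iv D4843) (iv F23237)
theorem F28773 : act 9 n5960 = n4774 := d41_2 (iv F23239) D5960 (iv D4774)
def n5961 : Q := act 8 n4758
theorem D5961 : act 8 n4758 = n5961 := rfl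
theorem F28774 : act 1 n5961 = n5961 := d15_1 D5961 (iv D5961) F23240
theorem F28775 : act 3 n5961 = n5961 := d28_1 D5961 (iv D5961) F23241
theorem F28776 : act 4 n5961 = n4759 := d33_1 D5961 (iv D4759) (iv F23242)
def n5962 : Q := act 5 n4759
theorem D5962 : act 5 n4759 = n5962 := rfl
theorem F28777 : act 1 n5962 = n5962 := d12_1 D5962 (iv D5962) F23244
theorem F28778 : act 3 n5962 = n4763 := d25_1 D5962 (iv D4763) (iv F23245)
theorem F28779 : act 8 n5962 = n4760 := d37_2 D4759 D5962 (iv D4760) (iv D3624) (iv F17567)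
def n5963 : Q := act 4 n4760
theorem D5963 : act 4 n4760 = n5963 := rfl
theorem F28780 : act 1 n5963 = n5963 := d11_1 D5963 (iv D5963) F23246
theorem F28781 : act 5 n5963 = n5963 := d30_2 D4760 D5963 (iv D5963) (iv D4760) F17575
theorem F28782 : act 9 n5963 = n4775 := d34_2 (iv F23248) D5963 (iv D4775)
def n5964 : Q := act 6 n4760
theorem D5964 : act 6 n4760 = n5964 := rfl
theorem F28783 : act 1 n5964 = n5964 := d13_1 D5964 (iv D5964) F23246
theorem F28784 : act 3 n5964 = n4765 := d26_1 D5964 (iv D4765) (iv F23247)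
theorem F28785 : act 5 n5964 = n4762 := d35_1 D5964 (iv D4762) (iv D3625) (iv F17576) D4760
theorem F28786 : act 9 n5964 = n4776 := d41_2 (iv F23248) D5964 (iv D4776)
def n5965 : Q := act 6 n4761
theorem D5965 : act 6 n4761 = n5965 := rfl
theorem F28787 : act 1 n5965 = n5965 := d13_1 D5965 (iv D5965) F23249
theorem F28788 : act 3 n5965 = n5965 := d26_1 D5965 (iv D5965) F23250
theorem F28789 : act 4 n5965 = n4762 := d31_1 D5965 (iv D4762) D4761
theorem F28790 : act 9 n5965 = n4777 := d41_2 (iv F23253) D5965 (iv D4777)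
def n5966 : Q := act 7 n4762
theorem D5966 : act 7 n4762 = n5966 := rfl
theorem F28791 : act 1 n5966 = n5966 := d14_1 D5966 (iv D5966) F23254
theorem F28792 : act 3 n5966 = n4766 := d27_1 D5966 (iv D4766) (iv F23255)
theorem F28793 : act 6 n5966 = n5966 := d39_1 D5966 (iv D5966) (iv D4762) F17580 D4762
theorem F28794 : act 9 n5966 = n4778 := d43_2 (iv F23256) D5966 (iv D4778)
def n5967 : Q := act 4 n4763
theorem D5967 : act 4 n4763 = n5967 := rfl
theorem F28795 : act 1 n5967 = n5967 := d11_1 D5967 (iv D5967) F23257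
theorem F28796 : act 2 n5967 = n4860 := d18_1 D5967 (iv D4860) (iv F23258)
theorem F28797 : act 5 n5967 = n5967 := d30_2 D4763 D5967 (iv D5967) (iv D4763) F17602
theorem F28798 : act 8 n5967 = n4764 := d33_2 (iv F23259) D5967 (iv D4764)
def n5968 : Q := act 6 n4763
theorem D5968 : act 6 n4763 = n5968 := rfl
theorem F28799 : act 1 n5968 = n5968 := d13_1 D5968 (iv D5968) F23257
theorem F28800 : act 2 n5968 = n4861 := d20_1 D5968 (iv D4861) (iv F23258)
theorem F28801 : act 8 n5968 = n4765 := d40_2 (iv F23259) D5968 (iv D4765)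
def n5969 : Q := act 3 n4764
theorem D5969 : act 3 n4764 = n5969 := rfl
theorem F28802 : act 1 n5969 = n5969 := d10_1 D5969 (iv D5969) F23260
theorem F28803 : act 5 n5969 = n4767 := d25_2 (iv F23262) D5969 (iv D4767)
theorem F28804 : act 9 n5969 = n4779 := d29_2 (iv F23263) D5969 (iv D4779)
def n5970 : Q := act 6 n4764
theorem D5970 : act 6 n4764 = n5970 := rfl
theorem F28805 : act 1 n5970 = n5970 := d13_1 D5970 (iv D5970) F23260
theorem F28806 : act 2 n5970 = n4865 := d20_1 D5970 (iv D4865) (iv F23261)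
theorem F28807 : act 4 n5970 = n4765 := d31_1 D5970 (iv D4765) D4764
theorem F28808 : act 5 n5970 = n5970 := d35_1 D5970 (iv D5970) F23262 F17624 (iv F23262)
theorem F28809 : act 9 n5970 = n4780 := d41_2 (iv F23263) D5970 (iv D4780)
def n5971 : Q := act 7 n4765
theorem D5971 : act 7 n4765 = n5971 := rfl
theorem F28810 : act 1 n5971 = n5971 := d14_1 D5971 (iv D5971) F23264
theorem F28811 : act 2 n5971 = n4866 := d21_1 D5971 (iv D4866) (iv F23265)
theorem F28812 : act 5 n5971 = n4766 := d36_1 D5971 (iv D4766) (iv F23266)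
theorem F28813 : act 9 n5971 = n4781 := d43_2 (iv F23267) D5971 (iv D4781)
def n5972 : Q := act 2 n4767
theorem D5972 : act 2 n4767 = n5972 := rfl
theorem F28814 : act 3 n5972 = n4869 := d17_2 D4767 D5972 (iv D4869) (iv D3815) (iv F17623)
theorem F28815 : act 4 n5972 = n5972 := d18_2 F23274 D5972 (iv D5972)
theorem F28816 : act 6 n5972 = n5972 := d20_2 F23275 D5972 (iv D5972)
theorem F28817 : act 8 n5972 = n5972 := d22_2 F23276 D5972 (iv D5972)
theorem F28818 : act 9 n5972 = n4782 := d23_2 (iv F23277) D5972 (iv D4782)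
def n5973 : Q := act 8 n4768
theorem D5973 : act 8 n4768 = n5973 := rfl
theorem F28819 : act 0 n5973 = n4770 := d7_1 D5973 (iv D4770) (iv F23278)
theorem F28820 : act 2 n5973 = n5973 := d22_1 D5973 (iv D5973) F23279
theorem F28821 : act 3 n5973 = n4873 := d28_1 D5973 (iv D4873) (iv F23280)
theorem F28822 : act 4 n5973 = n5973 := d33_1 D5973 (iv D5973) F23281
theorem F28823 : act 6 n5973 = n4769 := d40_1 D5973 (iv D4769) (iv F23282)
def n5974 : Q := act 5 n4769
theorem D5974 : act 5 n4769 = n5974 := rfl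
theorem F28824 : act 0 n5974 = n4771 := d4_1 D5974 (iv D4771) (iv F23283)
theorem F28825 : act 2 n5974 = n5974 := d19_1 D5974 (iv D5974) F23284
theorem F28826 : act 3 n5974 = n4874 := d25_1 D5974 (iv D4874) (iv F23285)
theorem F28827 : act 7 n5974 = n5974 := d36_2 F23287 D5974 (iv D5974)
theorem F28828 : act 8 n5974 = n5974 := d37_2 D4769 D5974 (iv D5974) (iv D4769) F17635
def n5975 : Q := act 5 n4770
theorem D5975 : act 5 n4770 = n5975 := rfl
theorem F28829 : act 1 n5975 = n4772 := d12_1 D5975 (iv D4772) (iv F23288)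
theorem F28830 : act 2 n5975 = n5975 := d19_1 D5975 (iv D5975) F23289
theorem F28831 : act 3 n5975 = n4878 := d25_1 D5975 (iv D4878) (iv F23290)
def n5976 : Q := act 4 n4771
theorem D5976 : act 4 n4771 = n5976 := rfl
theorem F28832 : act 1 n5976 = n4773 := d11_1 D5976 (iv D4773) (iv F23293)
theorem F28833 : act 2 n5976 = n5976 := d18_1 D5976 (iv D5976) F23294
theorem F28834 : act 5 n5976 = n5976 := d30_2 D4771 D5976 (iv D5976) (iv D4771) F17654
theorem F28835 : act 7 n5976 = n5976 := d32_2 F23296 D5976 (iv D5976)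
theorem F28836 : act 8 n5976 = n5976 := d33_2 F23297 D5976 (iv D5976)
def n5977 : Q := act 6 n4771
theorem D5977 : act 6 n4771 = n5977 := rfl
theorem F28837 : act 1 n5977 = n4774 := d13_1 D5977 (iv D4774) (iv F23293)
theorem F28838 : act 2 n5977 = n5977 := d20_1 D5977 (iv D5977) F23294
theorem F28839 : act 3 n5977 = n4880 := d26_1 D5977 (iv D4880) (iv F23295)
theorem F28840 : act 8 n5977 = n5977 := d40_2 F23297 D5977 (iv D5977)
def n5978 : Q := act 4 n4772
theorem D5978 : act 4 n4772 = n5978 := rfl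
theorem F28841 : act 2 n5978 = n4775 := d18_1 D5978 (iv D4775) (iv F23298)
theorem F28842 : act 5 n5978 = n5978 := d30_2 D4772 D5978 (iv D5978) (iv D4772) F17677
def n5979 : Q := act 6 n4772
theorem D5979 : act 6 n4772 = n5979 := rfl
theorem F28843 : act 2 n5979 = n4776 := d20_1 D5979 (iv D4776) (iv F23298)
theorem F28844 : act 3 n5979 = n4885 := d26_1 D5979 (iv D4885) (iv F23299)
theorem F28845 : act 5 n5979 = n4774 := d35_1 D5979 (iv D4774) (iv D3648) (iv F17678) D4772
def n5980 : Q := act 3 n4773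
theorem D5980 : act 3 n4773 = n5980 := rfl
theorem F28846 : act 2 n5980 = n5980 := d17_1 D5980 (iv D5980) F23300 F17721 (iv F23300)
theorem F28847 : act 4 n5980 = n4886 := d24_2 D4773 D5980 (iv D4886) (iv D3833) (iv F17680)
theorem F28848 : act 5 n5980 = n5980 := d25_2 F23301 D5980 (iv D5980)
theorem F28849 : act 7 n5980 = n5980 := d27_2 F23302 D5980 (iv D5980)
theorem F28850 : act 8 n5980 = n5980 := d28_2 F23303 D5980 (iv D5980)
def n5981 : Q := act 6 n4773
theorem D5981 : act 6 n4773 = n5981 := rfl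
theorem F28851 : act 2 n5981 = n4777 := d20_1 D5981 (iv D4777) (iv F23300)
theorem F28852 : act 4 n5981 = n4774 := d31_1 D5981 (iv D4774) D4773
theorem F28853 : act 8 n5981 = n5981 := d40_2 F23303 D5981 (iv D5981)
def n5982 : Q := act 7 n4774
theorem D5982 : act 7 n4774 = n5982 := rfl
theorem F28854 : act 2 n5982 = n4778 := d21_1 D5982 (iv D4778) (iv F23304)
theorem F28855 : act 3 n5982 = n4888 := d27_1 D5982 (iv D4888) (iv F23305)
theorem F28856 : act 6 n5982 = n5982 := d39_1 D5982 (iv D5982) (iv D4774) F17681 D4774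
theorem F28857 : act 8 n5982 = n5982 := d42_2 F23306 D5982 (iv D5982)
def n5983 : Q := act 3 n4775
theorem D5983 : act 3 n4775 = n5983 := rfl
theorem F28858 : act 1 n5983 = n5983 := d10_1 D5983 (iv D5983) F23307
theorem F28859 : act 4 n5983 = n4779 := d24_2 D4775 D5983 (iv D4779) (iv D3668) (iv F17719)
theorem F28860 : act 5 n5983 = n5983 := d25_2 F23308 D5983 (iv D5983)
def n5984 : Q := act 6 n4775
theorem D5984 : act 6 n4775 = n5984 := rfl
theorem F28861 : act 1 n5984 = n5984 := d13_1 D5984 (iv D5984) F23307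
theorem F28862 : act 4 n5984 = n4776 := d31_1 D5984 (iv D4776) D4775
def n5985 : Q := act 7 n4776
theorem D5985 : act 7 n4776 = n5985 := rfl
theorem F28863 : act 1 n5985 = n5985 := d14_1 D5985 (iv D5985) F23309
theorem F28864 : act 3 n5985 = n4781 := d27_1 D5985 (iv D4781) (iv F23310)
theorem F28865 : act 5 n5985 = n4778 := d36_1 D5985 (iv D4778) (iv F23311)
def n5986 : Q := act 5 n4777
theorem D5986 : act 5 n4777 = n5986 := rfl
theorem F28866 : act 1 n5986 = n5986 := d12_1 D5986 (iv D5986) F23312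
theorem F28867 : act 3 n5986 = n5986 := d25_1 D5986 (iv D5986) F23313
theorem F28868 : act 6 n5986 = n5986 := d35_2 D4777 D5986 (iv D5986) (iv D4777) F17722
def n5987 : Q := act 7 n4777
theorem D5987 : act 7 n4777 = n5987 := rfl
theorem F28869 : act 1 n5987 = n5987 := d14_1 D5987 (iv D5987) F23312
theorem F28870 : act 3 n5987 = n5987 := d27_1 D5987 (iv D5987) F23313
theorem F28871 : act 4 n5987 = n4778 := d32_1 D5987 (iv D4778) (iv F23314)
theorem F28872 : act 6 n5987 = n5987 := d39_1 D5987 (iv D5987) (iv D4777) F17723 D4777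
theorem F28873 : act 8 n5987 = n5987 := d42_2 F23315 D5987 (iv D5987)
def n5988 : Q := act 2 n4779
theorem D5988 : act 2 n4779 = n5988 := rfl
theorem F28874 : act 3 n5988 = n4907 := d17_2 D4779 D5988 (iv D4907) (iv D3856) (iv F17759)
theorem F28875 : act 5 n5988 = n4782 := d19_2 (iv F23321) D5988 (iv D4782)
def n5989 : Q := act 6 n4779
theorem D5989 : act 6 n4779 = n5989 := rfl
theorem F28876 : act 1 n5989 = n5989 := d13_1 D5989 (iv D5989) F23320
theorem F28877 : act 3 n5989 = n4780 := d26_1 D5989 (iv D4780) D4779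
theorem F28878 : act 5 n5989 = n5989 := d35_1 D5989 (iv D5989) F23321 F17781 (iv F23321)
def n5990 : Q := act 7 n4780
theorem D5990 : act 7 n4780 = n5990 := rfl
theorem F28879 : act 1 n5990 = n5990 := d14_1 D5990 (iv D5990) F23322
theorem F28880 : act 2 n5990 = n4909 := d21_1 D5990 (iv D4909) (iv F23323)
theorem F28881 : act 4 n5990 = n4781 := d32_1 D5990 (iv D4781) (iv F23324)
theorem F28882 : act 5 n5990 = n5990 := d36_1 D5990 (iv D5990) F23325
def n5991 : Q := act 1 n4782
theorem D5991 : act 1 n4782 = n5991 := rfl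
theorem F28883 : act 2 n5991 = n5991 := d9_2 D4782 D5991 (iv D5991) (iv D4782) F17779
theorem F28884 : act 3 n5991 = n4913 := d10_2 (iv F23329) D5991 (iv D4913)
theorem F28885 : act 4 n5991 = n5991 := d11_2 F23330 D5991 (iv D5991)
theorem F28886 : act 6 n5991 = n5991 := d13_2 F23331 D5991 (iv D5991)
theorem F28887 : act 8 n5991 = n4783 := d15_2 (iv F23332) D5991 (iv D4783)
def n5992 : Q := act 0 n4783
theorem D5992 : act 0 n4783 = n5992 := rfl
def n5993 : Q := act 5 n4784
theorem D5993 : act 5 n4784 = n5993 := rfl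
theorem F28893 : act 0 n5993 = n4786 := d4_1 D5993 (iv D4786) (iv F23338)
theorem F28894 : act 2 n5993 = n5035 := d19_1 D5993 (iv D5035) (iv F23339)
theorem F28895 : act 6 n5993 = n4821 := d35_2 D4784 D5993 (iv D4821) (iv D3778) (iv F18154)
def n5994 : Q := act 9 n4784
theorem D5994 : act 9 n4784 = n5994 := rfl
theorem F28896 : act 0 n5994 = n4788 := d8_1 D5994 (iv D4788) (iv F23338)
theorem F28897 : act 2 n5994 = n5037 := d23_1 D5994 (iv D5037) (iv F23339)
theorem F28898 : act 4 n5994 = n5994 := d34_1 D5994 (iv D5994) F23340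
theorem F28899 : act 6 n5994 = n4785 := d41_1 D5994 (iv D4785) D4784
def n5995 : Q := act 8 n4785
theorem D5995 : act 8 n4785 = n5995 := rfl
theorem F28900 : act 0 n5995 = n4789 := d7_1 D5995 (iv D4789) (iv F23342)
theorem F28901 : act 2 n5995 = n5038 := d22_1 D5995 (iv D5038) (iv F23343)
theorem F28902 : act 4 n5995 = n5995 := d33_1 D5995 (iv D5995) F23344
theorem F28903 : act 7 n5995 = n5995 := d42_1 D5995 (iv D5995) F23346
theorem F28904 : act 9 n5995 = n5995 := d44_2 D4785 D5995 (iv D5995) (iv D4785) F18156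
def n5996 : Q := act 4 n4786
theorem D5996 : act 4 n4786 = n5996 := rfl
theorem F28905 : act 1 n5996 = n4790 := d11_1 D5996 (iv D4790) (iv F23347)
theorem F28906 : act 2 n5996 = n4801 := d18_1 D5996 F23412 (iv F23348)
theorem F28907 : act 5 n5996 = n5996 := d30_2 D4786 D5996 (iv D5996) (iv D4786) F18159
theorem F28908 : act 6 n5996 = n4825 := d31_2 (iv F23349) D5996 (iv D4825)
theorem F28909 : act 7 n4792 = n5996 := d39_0 F28908 (iv F26970) F26969 F21935 (iv F23371)
theorem F28910 : act 8 n5996 = n4791 := d42_2 D4792 F28909 (iv D4791)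
def n5997 : Q := act 7 n4786
theorem D5997 : act 7 n4786 = n5997 := rfl
theorem F28911 : act 1 n5997 = n4791 := d14_1 D5997 (iv D4791) (iv F23347)
theorem F28912 : act 2 n5997 = n4798 := d21_1 D5997 F23397 (iv F23348)
theorem F28913 : act 4 n5997 = n4792 := d32_1 D5997 F28909 (iv D5996)
theorem F28914 : act 5 n5997 = n4787 := d36_1 D5997 (iv D4787) D4786
theorem F28915 : act 6 n5997 = n4834 := d39_1 D5997 (iv F27080) F27079 (iv D4826) (iv F23349)
theorem F28916 : act 8 n4790 = n5997 := d40_0 F28915 (iv D4834) (iv F23366)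
def n5998 : Q := act 8 n4786
theorem D5998 : act 8 n4786 = n5998 := rfl
theorem F28917 : act 1 n5998 = n4792 := d15_1 D5998 (iv D4792) (iv F23347)
theorem F28918 : act 2 n5998 = n4797 := d22_1 D5998 (iv F23392) (iv F23348)
theorem F28919 : act 4 n5998 = n4791 := d33_1 D5998 (iv F28910) (iv D5996)
theorem F28920 : act 5 n5998 = n5998 := d37_1 D5998 (iv D5998) (iv D4786) F18160 D4786
theorem F28921 : act 6 n5998 = n4827 := d40_1 D5998 (iv D4827) (iv F23349)
theorem F28922 : act 7 n5998 = n4790 := d42_1 D5998 F28916 (iv D5997)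
def n5999 : Q := act 9 n4786
theorem D5999 : act 9 n4786 = n5999 := rfl
theorem F28923 : act 1 n5999 = n4793 := d16_1 D5999 (iv D4793) (iv F23347)
theorem F28924 : act 2 n5999 = n5039 := d23_1 D5999 (iv D5039) (iv F23348)
theorem F28925 : act 5 n5999 = n4788 := d38_1 D5999 (iv D4788) D4786
theorem F28926 : act 6 n5999 = n4828 := d41_1 D5999 (iv D4828) (iv F23349)
def n6000 : Q := act 9 n4787
theorem D6000 : act 9 n4787 = n6000 := rfl
theorem F28927 : act 1 n6000 = n4794 := d16_1 D6000 (iv D4794) (iv F23350)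
theorem F28928 : act 2 n6000 = n5040 := d23_1 D6000 (iv D5040) (iv F23351)
theorem F28929 : act 4 n6000 = n6000 := d34_1 D6000 (iv D6000) F23352
theorem F28930 : act 6 n6000 = n6000 := d41_1 D6000 (iv D6000) F23353
theorem F28931 : act 7 n6000 = n4788 := d43_1 D6000 (iv D4788) D4787
def n6001 : Q := act 8 n4788
theorem D6001 : act 8 n4788 = n6001 := rfl
theorem F28932 : act 1 n6001 = n4795 := d15_1 D6001 (iv D4795) (iv F23355)
theorem F28933 : act 2 n6001 = n5041 := d22_1 D6001 (iv D5041) (iv F23356)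
theorem F28934 : act 4 n6001 = n6001 := d33_1 D6001 (iv D6001) F23357
theorem F28935 : act 6 n6001 = n4789 := d40_1 D6001 (iv D4789) (iv F23358)
theorem F28936 : act 9 n6001 = n6001 := d44_2 D4788 D6001 (iv D6001) (iv D4788) F18160
def n6002 : Q := act 5 n4789
theorem D6002 : act 5 n4789 = n6002 := rfl
theorem F28937 : act 1 n6002 = n4796 := d12_1 D6002 (iv D4796) (iv F23359)
theorem F28938 : act 2 n6002 = n5042 := d19_1 D6002 (iv D5042) (iv F23360)
theorem F28939 : act 7 n6002 = n6002 := d36_2 F23362 D6002 (iv D6002)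
theorem F28940 : act 8 n6002 = n4831 := d37_2 D4789 D6002 (iv D4831) (iv D3783) (iv F18164)
theorem F28941 : act 9 n6002 = n6002 := d38_2 F23363 D6002 (iv D6002)
def n6003 : Q := act 3 n4790
theorem D6003 : act 3 n4790 = n6003 := rfl
theorem F28942 : act 2 n6003 = n6003 := d17_1 D6003 (iv D6003) F23364 F18180 (iv F23364)
theorem F28943 : act 5 n6003 = n6003 := d25_2 F23365 D6003 (iv D6003)
theorem F28944 : act 6 n6003 = n4832 := d26_2 (iv F23366) D6003 (iv D4832)
def n6004 : Q := act 9 n4790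
theorem D6004 : act 9 n4790 = n6004 := rfl
theorem F28945 : act 2 n6004 = n4799 := d23_1 D6004 (iv D4799) (iv F23364)
theorem F28946 : act 4 n6004 = n4793 := d34_1 D6004 (iv D4793) D4790
theorem F28947 : act 5 n6004 = n6004 := d38_1 D6004 (iv D6004) F23365
theorem F28948 : act 6 n6004 = n4835 := d41_1 D6004 (iv D4835) (iv F23366)
def n6005 : Q := act 6 n4791
theorem D6005 : act 6 n4791 = n6005 := rfl
theorem F28949 : act 1 n6005 = n4834 := d13_1 D6005 (iv F28915) F28911
theorem F28950 : act 2 n6005 = n4800 := d20_1 D6005 (iv D4800) (iv F23367)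
theorem F28951 : act 4 n6005 = n4827 := d31_1 D6005 (iv F28921) F28919
theorem F28952 : act 5 n6005 = n6005 := d35_1 D6005 (iv D6005) F23368 F18170 (iv F23368)
theorem F28953 : act 7 n6005 = n4836 := d39_2 D4791 D6005 (iv D4836) (iv D3785) (iv F18167)
theorem F28954 : act 8 n6005 = n4825 := d40_2 F28910 D6005 (iv F28908)
def n6006 : Q := act 9 n4791
theorem D6006 : act 9 n4791 = n6006 := rfl
theorem F28955 : act 2 n6006 = n4802 := d23_1 D6006 (iv D4802) (iv F23367)
theorem F28956 : act 5 n6006 = n4794 := d38_1 D6006 (iv D4794) (iv F23368)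
theorem F28957 : act 7 n6006 = n4793 := d43_1 D6006 (iv D4793) D4791
def n6007 : Q := act 9 n4792
theorem D6007 : act 9 n4792 = n6007 := rfl
theorem F28958 : act 2 n6007 = n4803 := d23_1 D6007 (iv D4803) (iv F23369)
theorem F28959 : act 5 n6007 = n6007 := d38_1 D6007 (iv D6007) F23370
theorem F28960 : act 6 n6007 = n4838 := d41_1 D6007 (iv D4838) (iv F23371)
def n6008 : Q := act 8 n4793
theorem D6008 : act 8 n4793 = n6008 := rfl
theorem F28961 : act 2 n6008 = n4804 := d22_1 D6008 (iv D4804) (iv F23372)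
theorem F28962 : act 6 n6008 = n4839 := d40_1 D6008 (iv D4839) (iv F23374)
def n6009 : Q := act 8 n4794
theorem D6009 : act 8 n4794 = n6009 := rfl
theorem F28963 : act 2 n6009 = n4805 := d22_1 D6009 (iv D4805) (iv F23375)
theorem F28964 : act 4 n6009 = n6009 := d33_1 D6009 (iv D6009) F23376
theorem F28965 : act 6 n6009 = n6009 := d40_1 D6009 (iv D6009) F23377
theorem F28966 : act 7 n6009 = n4795 := d42_1 D6009 (iv D4795) (iv F23378)
theorem F28967 : act 9 n6009 = n6009 := d44_2 D4794 D6009 (iv D6009) (iv D4794) F18171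
def n6010 : Q := act 5 n4795
theorem D6010 : act 5 n4795 = n6010 := rfl
theorem F28968 : act 2 n6010 = n4806 := d19_1 D6010 (iv D4806) (iv F23379)
theorem F28969 : act 9 n6010 = n6010 := d38_2 F23382 D6010 (iv D6010)
def n6011 : Q := act 4 n4796
theorem D6011 : act 4 n4796 = n6011 := rfl
theorem F28970 : act 2 n6011 = n4807 := d18_1 D6011 (iv D4807) (iv F23383)
theorem F28971 : act 5 n6011 = n6011 := d30_2 D4796 D6011 (iv D6011) (iv D4796) F18176
theorem F28972 : act 7 n6011 = n6011 := d32_2 F23384 D6011 (iv D6011)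
theorem F28973 : act 8 n6011 = n4842 := d33_2 (iv F23385) D6011 (iv D4842)
theorem F28974 : act 9 n6011 = n6011 := d34_2 F23386 D6011 (iv D6011)
def n6012 : Q := act 6 n4796
theorem D6012 : act 6 n4796 = n6012 := rfl
theorem F28975 : act 2 n6012 = n4808 := d20_1 D6012 (iv D4808) (iv F23383)
theorem F28976 : act 8 n6012 = n4843 := d40_2 (iv F23385) D6012 (iv D4843)
theorem F28977 : act 9 n6012 = n6012 := d41_2 F23386 D6012 (iv D6012)
def n6013 : Q := act 9 n4797
theorem D6013 : act 9 n4797 = n6013 := rfl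
theorem F28978 : act 1 n6013 = n5045 := d16_1 D6013 (iv D5045) (iv F23387)
theorem F28979 : act 3 n6013 = n6013 := d29_1 D6013 (iv D6013) F23388
theorem F28980 : act 4 n6013 = n4802 := d34_1 D6013 (iv D4802) (iv F23389)
theorem F28981 : act 5 n6013 = n6013 := d38_1 D6013 (iv D6013) F23390
theorem F28982 : act 6 n6013 = n5083 := d41_1 D6013 (iv D5083) F23391
theorem F28983 : act 7 n6013 = n4799 := d43_1 D6013 (iv D4799) D4797
def n6014 : Q := act 9 n4798
theorem D6014 : act 9 n4798 = n6014 := rfl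
theorem F28984 : act 1 n6014 = n5044 := d16_1 D6014 (iv D5044) (iv F23393)
theorem F28985 : act 3 n6014 = n6014 := d29_1 D6014 (iv D6014) F23394
theorem F28986 : act 4 n6014 = n4803 := d34_1 D6014 (iv D4803) (iv F23395)
theorem F28987 : act 5 n6014 = n5040 := d38_1 D6014 (iv D5040) F23398
theorem F28988 : act 6 n6014 = n4846 := d41_1 D6014 (iv D4846) (iv F23396)
theorem F28989 : act 7 n6014 = n5039 := d43_1 D6014 (iv D5039) (iv F23397)
def n6015 : Q := act 8 n4799
theorem D6015 : act 8 n4799 = n6015 := rfl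
theorem F28990 : act 1 n6015 = n5051 := d15_1 D6015 (iv D5051) (iv F23399)
theorem F28991 : act 3 n6015 = n6015 := d28_1 D6015 (iv D6015) F23400
theorem F28992 : act 4 n6015 = n4804 := d33_1 D6015 (iv D4804) (iv F23401)
theorem F28993 : act 6 n6015 = n4847 := d40_1 D6015 (iv D4847) (iv F23403)
def n6016 : Q := act 9 n4800
theorem D6016 : act 9 n4800 = n6016 := rfl
theorem F28994 : act 1 n6016 = n5052 := d16_1 D6016 (iv D5052) (iv F23404)
theorem F28995 : act 3 n6016 = n4809 := d29_1 D6016 (iv D4809) (iv F23405)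
theorem F28996 : act 4 n6016 = n5083 := d34_1 D6016 (iv D5083) (iv F23406)
theorem F28997 : act 5 n6016 = n6016 := d38_1 D6016 (iv D6016) F23407
theorem F28998 : act 6 n6016 = n4802 := d41_1 D6016 (iv D4802) D4800
theorem F28999 : act 7 n6016 = n4848 := d43_1 D6016 (iv D4848) (iv F23408)
def n6017 : Q := act 9 n4801
theorem D6017 : act 9 n4801 = n6017 := rfl
theorem F29000 : act 1 n6017 = n5043 := d16_1 D6017 (iv D5043) (iv F23410)
theorem F29001 : act 3 n6017 = n4810 := d29_1 D6017 (iv D4810) (iv F23411)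
theorem F29002 : act 4 n6017 = n5039 := d34_1 D6017 (iv D5039) (iv F23412)
theorem F29003 : act 5 n6017 = n6017 := d38_1 D6017 (iv D6017) F23413
theorem F29004 : act 6 n6017 = n5081 := d41_1 D6017 (iv D5081) (iv F23414)
theorem F29005 : act 7 n6017 = n4803 := d43_1 D6017 (iv D4803) (iv F23415)
def n6018 : Q := act 8 n4802
theorem D6018 : act 8 n4802 = n6018 := rfl
theorem F29006 : act 1 n6018 = n5053 := d15_1 D6018 (iv D5053) (iv F23416)
theorem F29007 : act 3 n6018 = n4811 := d28_1 D6018 (iv D4811) (iv F23417)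
theorem F29008 : act 7 n6018 = n4804 := d42_1 D6018 (iv D4804) (iv F23419)
def n6019 : Q := act 8 n4803
theorem D6019 : act 8 n4803 = n6019 := rfl
theorem F29009 : act 1 n6019 = n5054 := d15_1 D6019 (iv D5054) (iv F23420)
theorem F29010 : act 3 n6019 = n4812 := d28_1 D6019 (iv D4812) (iv F23421)
theorem F29011 : act 6 n6019 = n4850 := d40_1 D6019 (iv D4850) (iv F23423)
theorem F29012 : act 9 n6019 = n4804 := d44_2 D4803 D6019 (iv D4804) (iv D3764) D3763
def n6020 : Q := act 5 n4804
theorem D6020 : act 5 n4804 = n6020 := rfl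
theorem F29013 : act 1 n6020 = n5055 := d12_1 D6020 (iv D5055) (iv F23424)
theorem F29014 : act 3 n6020 = n4813 := d25_1 D6020 (iv D4813) (iv F23425)
theorem F29015 : act 8 n6020 = n4806 := d37_2 D4804 D6020 (iv D4806) (iv D3766) (iv F18192)
def n6021 : Q := act 5 n4805
theorem D6021 : act 5 n4805 = n6021 := rfl
theorem F29016 : act 1 n6021 = n5056 := d12_1 D6021 (iv D5056) (iv F23427)
theorem F29017 : act 3 n6021 = n4814 := d25_1 D6021 (iv D4814) (iv F23428)
theorem F29018 : act 7 n6021 = n4806 := d36_2 (iv F23431) D6021 (iv D4806)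
theorem F29019 : act 9 n6021 = n6021 := d38_2 F23432 D6021 (iv D6021)
def n6022 : Q := act 4 n4806
theorem D6022 : act 4 n4806 = n6022 := rfl
theorem F29020 : act 1 n6022 = n5057 := d11_1 D6022 (iv D5057) (iv F23433)
theorem F29021 : act 5 n6022 = n6022 := d30_2 D4806 D6022 (iv D6022) (iv D4806) F18201
theorem F29022 : act 9 n6022 = n6022 := d34_2 F23435 D6022 (iv D6022)
def n6023 : Q := act 6 n4806
theorem D6023 : act 6 n4806 = n6023 := rfl
theorem F29023 : act 1 n6023 = n5058 := d13_1 D6023 (iv D5058) (iv F23433)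
theorem F29024 : act 3 n6023 = n4816 := d26_1 D6023 (iv D4816) (iv F23434)
theorem F29025 : act 5 n6023 = n4808 := d35_1 D6023 (iv D4808) (iv D3767) (iv F18202) D4806
theorem F29026 : act 9 n6023 = n6023 := d41_2 F23435 D6023 (iv D6023)
def n6024 : Q := act 6 n4807
theorem D6024 : act 6 n4807 = n6024 := rfl
theorem F29027 : act 1 n6024 = n5059 := d13_1 D6024 (iv D5059) (iv F23436)
theorem F29028 : act 3 n6024 = n6024 := d26_1 D6024 (iv D6024) F23437
theorem F29029 : act 4 n6024 = n4808 := d31_1 D6024 (iv D4808) D4807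
theorem F29030 : act 8 n6024 = n4855 := d40_2 (iv F23440) D6024 (iv D4855)
theorem F29031 : act 9 n6024 = n6024 := d41_2 F23441 D6024 (iv D6024)
def n6025 : Q := act 7 n4808
theorem D6025 : act 7 n4808 = n6025 := rfl
theorem F29032 : act 1 n6025 = n5060 := d14_1 D6025 (iv D5060) (iv F23442)
theorem F29033 : act 3 n6025 = n4817 := d27_1 D6025 (iv D4817) (iv F23443)
theorem F29034 : act 6 n6025 = n6025 := d39_1 D6025 (iv D6025) (iv D4808) F18206 D4808
theorem F29035 : act 8 n6025 = n4856 := d42_2 (iv F23444) D6025 (iv D4856)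
theorem F29036 : act 9 n6025 = n6025 := d43_2 F23445 D6025 (iv D6025)
def n6026 : Q := act 8 n4809
theorem D6026 : act 8 n4809 = n6026 := rfl
theorem F29037 : act 1 n6026 = n5062 := d15_1 D6026 (iv D5062) (iv F23446)
theorem F29038 : act 4 n6026 = n6026 := d33_1 D6026 (iv D6026) F23447
theorem F29039 : act 6 n6026 = n4811 := d40_1 D6026 (iv D4811) (iv F23449)
theorem F29040 : act 7 n6026 = n4857 := d42_1 D6026 (iv D4857) (iv F23450)
def n6027 : Q := act 8 n4810
theorem D6027 : act 8 n4810 = n6027 := rfl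
theorem F29041 : act 1 n6027 = n5063 := d15_1 D6027 (iv D5063) (iv F23451)
theorem F29042 : act 4 n6027 = n6027 := d33_1 D6027 (iv D6027) F23452
theorem F29043 : act 7 n6027 = n4812 := d42_1 D6027 (iv D4812) (iv F23454)
theorem F29044 : act 9 n6027 = n4811 := d44_2 D4810 D6027 (iv D4811) (iv D3770) D3769
def n6028 : Q := act 5 n4811
theorem D6028 : act 5 n4811 = n6028 := rfl
theorem F29045 : act 1 n6028 = n5064 := d12_1 D6028 (iv D5064) (iv F23455)
theorem F29046 : act 7 n6028 = n4813 := d36_2 (iv F23457) D6028 (iv D4813)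
theorem F29047 : act 8 n6028 = n4814 := d37_2 D4811 D6028 (iv D4814) (iv D3773) (iv F18219)
def n6029 : Q := act 5 n4812
theorem D6029 : act 5 n4812 = n6029 := rfl
theorem F29048 : act 1 n6029 = n5065 := d12_1 D6029 (iv D5065) (iv F23458)
theorem F29049 : act 8 n6029 = n6029 := d37_2 D4812 D6029 (iv D6029) (iv D4812) F18223
theorem F29050 : act 9 n6029 = n4813 := d38_2 (iv F23461) D6029 (iv D4813)
def n6030 : Q := act 4 n4813
theorem D6030 : act 4 n4813 = n6030 := rfl
theorem F29051 : act 1 n6030 = n5066 := d11_1 D6030 (iv D5066) (iv F23462)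
theorem F29052 : act 5 n6030 = n6030 := d30_2 D4813 D6030 (iv D6030) (iv D4813) F18226
theorem F29053 : act 8 n6030 = n4815 := d33_2 (iv F23463) D6030 (iv D4815)
def n6031 : Q := act 6 n4813
theorem D6031 : act 6 n4813 = n6031 := rfl
theorem F29054 : act 1 n6031 = n5067 := d13_1 D6031 (iv D5067) (iv F23462)
theorem F29055 : act 5 n6031 = n4861 := d35_1 D6031 (iv D4861) (iv D3808) (iv F18227) D4813
theorem F29056 : act 8 n6031 = n4816 := d40_2 (iv F23463) D6031 (iv D4816)
def n6032 : Q := act 4 n4814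
theorem D6032 : act 4 n4814 = n6032 := rfl
theorem F29057 : act 1 n6032 = n5068 := d11_1 D6032 (iv D5068) (iv F23464)
theorem F29058 : act 5 n6032 = n4818 := d30_2 D4814 D6032 (iv D4818) (iv D3776) (iv F18229)
theorem F29059 : act 7 n6032 = n4815 := d32_2 (iv F23465) D6032 (iv D4815)
theorem F29060 : act 9 n6032 = n6032 := d34_2 F23466 D6032 (iv D6032)
def n6033 : Q := act 6 n4814
theorem D6033 : act 6 n4814 = n6033 := rfl
theorem F29061 : act 1 n6033 = n5069 := d13_1 D6033 (iv D5069) (iv F23464)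
theorem F29062 : act 5 n6033 = n6033 := d35_1 D6033 (iv D6033) (iv D4814) F18230 D4814
theorem F29063 : act 9 n6033 = n6033 := d41_2 F23466 D6033 (iv D6033)
def n6034 : Q := act 3 n4815
theorem D6034 : act 3 n4815 = n6034 := rfl
theorem F29064 : act 1 n6034 = n5070 := d10_1 D6034 (iv D5070) (iv F23467)
theorem F29065 : act 5 n6034 = n4820 := d25_2 (iv F23468) D6034 (iv D4820)
theorem F29066 : act 9 n6034 = n6034 := d29_2 F23469 D6034 (iv D6034)
def n6035 : Q := act 6 n4815
theorem D6035 : act 6 n4815 = n6035 := rfl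
theorem F29067 : act 1 n6035 = n5071 := d13_1 D6035 (iv D5071) (iv F23467)
theorem F29068 : act 4 n6035 = n4816 := d31_1 D6035 (iv D4816) D4815
theorem F29069 : act 5 n6035 = n6035 := d35_1 D6035 (iv D6035) F23468 F18245 (iv F23468)
theorem F29070 : act 9 n6035 = n6035 := d41_2 F23469 D6035 (iv D6035)
def n6036 : Q := act 7 n4816
theorem D6036 : act 7 n4816 = n6036 := rfl
theorem F29071 : act 1 n6036 = n5072 := d14_1 D6036 (iv D5072) (iv F23470)
theorem F29072 : act 5 n6036 = n4817 := d36_1 D6036 (iv D4817) (iv F23471)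
theorem F29073 : act 9 n6036 = n6036 := d43_2 F23472 D6036 (iv D6036)
def n6037 : Q := act 3 n4818
theorem D6037 : act 3 n4818 = n6037 := rfl
theorem F29074 : act 1 n6037 = n5073 := d10_1 D6037 (iv D5073) (iv F23478)
theorem F29075 : act 4 n6037 = n6037 := d24_2 D4818 D6037 (iv D6037) (iv D4818) F18240
theorem F29076 : act 7 n6037 = n4820 := d27_2 (iv F23479) D6037 (iv D4820)
theorem F29077 : act 8 n6037 = n6037 := d28_2 F23480 D6037 (iv D6037)
theorem F29078 : act 9 n6037 = n6037 := d29_2 F23481 D6037 (iv D6037)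
def n6038 : Q := act 6 n4818
theorem D6038 : act 6 n4818 = n6038 := rfl
theorem F29079 : act 1 n6038 = n5074 := d13_1 D6038 (iv D5074) (iv F23478)
theorem F29080 : act 4 n6038 = n4819 := d31_1 D6038 (iv D4819) D4818
theorem F29081 : act 7 n6038 = n6038 := d39_2 (iv F23479) D6038 (iv D6038) F23479 F18245
theorem F29082 : act 8 n6038 = n6038 := d40_2 F23480 D6038 (iv D6038)
theorem F29083 : act 9 n6038 = n6038 := d41_2 F23481 D6038 (iv D6038)
def n6039 : Q := act 2 n4820
theorem D6039 : act 2 n4820 = n6039 := rfl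
theorem F29084 : act 4 n6039 = n6039 := d18_2 F23489 D6039 (iv D6039)
theorem F29085 : act 6 n6039 = n6039 := d20_2 F23490 D6039 (iv D6039)
theorem F29086 : act 8 n6039 = n6039 := d22_2 F23491 D6039 (iv D6039)
theorem F29087 : act 9 n6039 = n6039 := d23_2 F23492 D6039 (iv D6039)
def n6040 : Q := act 8 n4821
theorem D6040 : act 8 n4821 = n6040 := rfl
theorem F29088 : act 0 n6040 = n4827 := d7_1 D6040 (iv D4827) (iv F23493)
theorem F29089 : act 2 n6040 = n5076 := d22_1 D6040 (iv D5076) (iv F23494)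
theorem F29090 : act 5 n6040 = n4870 := d37_1 D6040 (iv D4870) (iv D3816) (iv F18251) D4821
def n6041 : Q := act 9 n4821
theorem D6041 : act 9 n4821 = n6041 := rfl
theorem F29091 : act 0 n6041 = n4828 := d8_1 D6041 (iv D4828) (iv F23493)
theorem F29092 : act 2 n6041 = n5077 := d23_1 D6041 (iv D5077) (iv F23494)
theorem F29093 : act 5 n6041 = n4823 := d38_1 D6041 (iv D4823) D4821
def n6042 : Q := act 9 n4822
theorem D6042 : act 9 n4822 = n6042 := rfl
theorem F29094 : act 0 n6042 = n4829 := d8_1 D6042 (iv D4829) (iv F23495)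
theorem F29095 : act 2 n6042 = n5078 := d23_1 D6042 (iv D5078) (iv F23496)
theorem F29096 : act 4 n6042 = n4925 := d34_1 D6042 (iv D4925) (iv F23497)
theorem F29097 : act 6 n6042 = n6042 := d41_1 D6042 (iv D6042) F23498
theorem F29098 : act 7 n6042 = n4823 := d43_1 D6042 (iv D4823) D4822
def n6043 : Q := act 8 n4823
theorem D6043 : act 8 n4823 = n6043 := rfl
theorem F29099 : act 0 n6043 = n4830 := d7_1 D6043 (iv D4830) (iv F23500)
theorem F29100 : act 2 n6043 = n5079 := d22_1 D6043 (iv D5079) (iv F23501)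
theorem F29101 : act 4 n6043 = n4926 := d33_1 D6043 (iv D4926) (iv F23502)
theorem F29102 : act 6 n6043 = n4824 := d40_1 D6043 (iv D4824) (iv F23503)
theorem F29103 : act 9 n6043 = n4873 := d44_2 D4823 D6043 (iv D4873) (iv D3818) (iv F18251)
def n6044 : Q := act 5 n4824
theorem D6044 : act 5 n4824 = n6044 := rfl
theorem F29104 : act 0 n6044 = n4831 := d4_1 D6044 (iv D4831) (iv F23504)
theorem F29105 : act 2 n6044 = n5080 := d19_1 D6044 (iv D5080) (iv F23505)
theorem F29106 : act 7 n6044 = n6044 := d36_2 F23507 D6044 (iv D6044)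
theorem F29107 : act 9 n6044 = n4874 := d38_2 (iv F23508) D6044 (iv D4874)
def n6045 : Q := act 9 n4825
theorem D6045 : act 9 n4825 = n6045 := rfl
theorem F29108 : act 1 n6045 = n4835 := d16_1 D6045 (iv D4835) (iv F23509)
theorem F29109 : act 2 n6045 = n5081 := d23_1 D6045 (iv D5081) (iv F23510)
theorem F29110 : act 4 n6045 = n4828 := d34_1 D6045 (iv D4828) D4825
theorem F29111 : act 5 n6045 = n4928 := d38_1 D6045 (iv D4928) (iv F23511)
def n6046 : Q := act 9 n4826
theorem D6046 : act 9 n4826 = n6046 := rfl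
theorem F29112 : act 1 n6046 = n4837 := d16_1 D6046 (iv D4837) (iv F23512)
theorem F29113 : act 2 n6046 = n5082 := d23_1 D6046 (iv D5082) (iv F23513)
theorem F29114 : act 5 n6046 = n4829 := d38_1 D6046 (iv D4829) (iv F23514)
theorem F29115 : act 7 n6046 = n4828 := d43_1 D6046 (iv D4828) D4826
def n6047 : Q := act 9 n4827
theorem D6047 : act 9 n4827 = n6047 := rfl
theorem F29116 : act 1 n6047 = n4838 := d16_1 D6047 (iv D4838) (iv F23515)
theorem F29117 : act 2 n6047 = n5083 := d23_1 D6047 (iv D5083) (iv F23516)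
theorem F29118 : act 5 n6047 = n4875 := d38_1 D6047 (iv D4875) (iv F23517)
def n6048 : Q := act 8 n4828
theorem D6048 : act 8 n4828 = n6048 := rfl
theorem F29119 : act 1 n6048 = n4839 := d15_1 D6048 (iv D4839) (iv F23518)
theorem F29120 : act 2 n6048 = n5084 := d22_1 D6048 (iv D5084) (iv F23519)
def n6049 : Q := act 8 n4829
theorem D6049 : act 8 n4829 = n6049 := rfl
theorem F29121 : act 1 n6049 = n4840 := d15_1 D6049 (iv D4840) (iv F23521)
theorem F29122 : act 2 n6049 = n5085 := d22_1 D6049 (iv D5085) (iv F23522)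
theorem F29123 : act 4 n6049 = n4931 := d33_1 D6049 (iv D4931) (iv F23523)
theorem F29124 : act 6 n6049 = n6049 := d40_1 D6049 (iv D6049) F23524
theorem F29125 : act 7 n6049 = n4830 := d42_1 D6049 (iv D4830) (iv F23525)
theorem F29126 : act 9 n6049 = n4877 := d44_2 D4829 D6049 (iv D4877) (iv D3823) (iv F18262)
def n6050 : Q := act 5 n4830
theorem D6050 : act 5 n4830 = n6050 := rfl
theorem F29127 : act 1 n6050 = n4841 := d12_1 D6050 (iv D4841) (iv F23526)
theorem F29128 : act 2 n6050 = n5086 := d19_1 D6050 (iv D5086) (iv F23527)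
theorem F29129 : act 9 n6050 = n4878 := d38_2 (iv F23530) D6050 (iv D4878)
def n6051 : Q := act 4 n4831
theorem D6051 : act 4 n4831 = n6051 := rfl
theorem F29130 : act 1 n6051 = n4842 := d11_1 D6051 (iv D4842) (iv F23531)
theorem F29131 : act 2 n6051 = n5087 := d18_1 D6051 (iv D5087) (iv F23532)
theorem F29132 : act 5 n6051 = n4933 := d30_2 D4831 D6051 (iv D4933) (iv D3923) (iv F18269)
theorem F29133 : act 7 n6051 = n6051 := d32_2 F23533 D6051 (iv D6051)
theorem F29134 : act 9 n6051 = n4879 := d34_2 (iv F23534) D6051 (iv D4879)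
def n6052 : Q := act 6 n4831
theorem D6052 : act 6 n4831 = n6052 := rfl
theorem F29135 : act 1 n6052 = n4843 := d13_1 D6052 (iv D4843) (iv F23531)
theorem F29136 : act 2 n6052 = n5088 := d20_1 D6052 (iv D5088) (iv F23532)
theorem F29137 : act 9 n6052 = n4880 := d41_2 (iv F23534) D6052 (iv D4880)
def n6053 : Q := act 8 n4832
theorem D6053 : act 8 n4832 = n6053 := rfl
theorem F29138 : act 2 n6053 = n6053 := d22_1 D6053 (iv D6053) F23535
theorem F29139 : act 3 n6053 = n4834 := d28_1 D6053 (iv D4834) D4832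
theorem F29140 : act 5 n6053 = n6053 := d37_1 D6053 (iv D6053) F23536 F18808 (iv F23536)
def n6054 : Q := act 9 n4832
theorem D6054 : act 9 n4832 = n6054 := rfl
theorem F29141 : act 2 n6054 = n6054 := d23_1 D6054 (iv D6054) F23535
theorem F29142 : act 3 n6054 = n4835 := d29_1 D6054 (iv D4835) D4832
theorem F29143 : act 5 n6054 = n4935 := d38_1 D6054 (iv D4935) (iv F23536)
def n6055 : Q := act 9 n4833
theorem D6055 : act 9 n4833 = n6055 := rfl
theorem F29144 : act 2 n6055 = n4845 := d23_1 D6055 (iv D4845) (iv F23537)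
theorem F29145 : act 4 n6055 = n4837 := d34_1 D6055 (iv D4837) (iv F23538)
theorem F29146 : act 5 n6055 = n4936 := d38_1 D6055 (iv D4936) (iv F23539)
theorem F29147 : act 7 n6055 = n4835 := d43_1 D6055 (iv D4835) D4833
def n6056 : Q := act 9 n4834
theorem D6056 : act 9 n4834 = n6056 := rfl
theorem F29148 : act 2 n6056 = n4846 := d23_1 D6056 (iv D4846) (iv F23540)
theorem F29149 : act 4 n6056 = n4838 := d34_1 D6056 (iv D4838) (iv F23541)
theorem F29150 : act 5 n6056 = n6056 := d38_1 D6056 (iv D6056) F23542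
def n6057 : Q := act 8 n4835
theorem D6057 : act 8 n4835 = n6057 := rfl
theorem F29151 : act 2 n6057 = n4847 := d22_1 D6057 (iv D4847) (iv F23543)
theorem F29152 : act 4 n6057 = n4839 := d33_1 D6057 (iv D4839) (iv F23544)
def n6058 : Q := act 9 n4836
theorem D6058 : act 9 n4836 = n6058 := rfl
theorem F29153 : act 2 n6058 = n4848 := d23_1 D6058 (iv D4848) (iv F23546)
theorem F29154 : act 5 n6058 = n6058 := d38_1 D6058 (iv D6058) F23547
theorem F29155 : act 6 n6058 = n4837 := d41_1 D6058 (iv D4837) D4836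
def n6059 : Q := act 8 n4837
theorem D6059 : act 8 n4837 = n6059 := rfl
theorem F29156 : act 2 n6059 = n4849 := d22_1 D6059 (iv D4849) (iv F23548)
theorem F29157 : act 7 n6059 = n4839 := d42_1 D6059 (iv D4839) (iv F23550)
def n6060 : Q := act 8 n4838
theorem D6060 : act 8 n4838 = n6060 := rfl
theorem F29158 : act 2 n6060 = n4850 := d22_1 D6060 (iv D4850) (iv F23551)
theorem F29159 : act 9 n6060 = n4839 := d44_2 D4838 D6060 (iv D4839) (iv D3787) D3786
def n6061 : Q := act 5 n4839
theorem D6061 : act 5 n4839 = n6061 := rfl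
theorem F29160 : act 2 n6061 = n4851 := d19_1 D6061 (iv D4851) (iv F23553)
theorem F29161 : act 8 n6061 = n4841 := d37_2 D4839 D6061 (iv D4841) (iv D3789) (iv F18279)
def n6062 : Q := act 5 n4840
theorem D6062 : act 5 n4840 = n6062 := rfl
theorem F29162 : act 2 n6062 = n4852 := d19_1 D6062 (iv D4852) (iv F23554)
theorem F29163 : act 7 n6062 = n4841 := d36_2 (iv F23557) D6062 (iv D4841)
theorem F29164 : act 9 n6062 = n4883 := d38_2 (iv F23558) D6062 (iv D4883)
def n6063 : Q := act 4 n4841
theorem D6063 : act 4 n4841 = n6063 := rfl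
theorem F29165 : act 2 n6063 = n4853 := d18_1 D6063 (iv D4853) (iv F23559)
theorem F29166 : act 5 n6063 = n4942 := d30_2 D4841 D6063 (iv D4942) (iv D3931) (iv F18285)
theorem F29167 : act 9 n6063 = n4884 := d34_2 (iv F23560) D6063 (iv D4884)
def n6064 : Q := act 6 n4841
theorem D6064 : act 6 n4841 = n6064 := rfl
theorem F29168 : act 2 n6064 = n4854 := d20_1 D6064 (iv D4854) (iv F23559)
theorem F29169 : act 5 n6064 = n4843 := d35_1 D6064 (iv D4843) (iv D3790) (iv F18286) D4841
theorem F29170 : act 9 n6064 = n4885 := d41_2 (iv F23560) D6064 (iv D4885)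
def n6065 : Q := act 3 n4842
theorem D6065 : act 3 n4842 = n6065 := rfl
theorem F29171 : act 2 n6065 = n6065 := d17_1 D6065 (iv D6065) F23561 F18329 (iv F23561)
theorem F29172 : act 5 n6065 = n4944 := d25_2 (iv F23562) D6065 (iv D4944)
theorem F29173 : act 7 n6065 = n6065 := d27_2 F23563 D6065 (iv D6065)
theorem F29174 : act 9 n6065 = n4886 := d29_2 (iv F23564) D6065 (iv D4886)
def n6066 : Q := act 6 n4842
theorem D6066 : act 6 n4842 = n6066 := rfl
theorem F29175 : act 2 n6066 = n4855 := d20_1 D6066 (iv D4855) (iv F23561)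
theorem F29176 : act 4 n6066 = n4843 := d31_1 D6066 (iv D4843) D4842
theorem F29177 : act 9 n6066 = n4887 := d41_2 (iv F23564) D6066 (iv D4887)
def n6067 : Q := act 7 n4843
theorem D6067 : act 7 n4843 = n6067 := rfl
theorem F29178 : act 2 n6067 = n4856 := d21_1 D6067 (iv D4856) (iv F23565)
theorem F29179 : act 6 n6067 = n6067 := d39_1 D6067 (iv D6067) (iv D4843) F18289 D4843
theorem F29180 : act 9 n6067 = n4888 := d43_2 (iv F23566) D6067 (iv D4888)
def n6068 : Q := act 9 n4844
theorem D6068 : act 9 n4844 = n6068 := rfl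
theorem F29181 : act 1 n6068 = n5092 := d16_1 D6068 (iv D5092) (iv F23567)
theorem F29182 : act 3 n6068 = n6068 := d29_1 D6068 (iv D6068) F23568
theorem F29183 : act 4 n6068 = n4848 := d34_1 D6068 (iv D4848) (iv F23569)
theorem F29184 : act 5 n6068 = n5146 := d38_1 D6068 (iv D5146) (iv F23570)
theorem F29185 : act 6 n6068 = n4845 := d41_1 D6068 (iv D4845) D4844
theorem F29186 : act 7 n6068 = n5083 := d43_1 D6068 (iv D5083) (iv F23571)
def n6069 : Q := act 8 n4845
theorem D6069 : act 8 n4845 = n6069 := rfl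
theorem F29187 : act 1 n6069 = n5102 := d15_1 D6069 (iv D5102) (iv F23573)
theorem F29188 : act 3 n6069 = n6069 := d28_1 D6069 (iv D6069) F23574
theorem F29189 : act 4 n6069 = n4849 := d33_1 D6069 (iv D4849) (iv F23575)
theorem F29190 : act 7 n6069 = n4847 := d42_1 D6069 (iv D4847) (iv F23577)
def n6070 : Q := act 8 n4846
theorem D6070 : act 8 n4846 = n6070 := rfl
theorem F29191 : act 1 n6070 = n5103 := d15_1 D6070 (iv D5103) (iv F23578)
theorem F29192 : act 3 n6070 = n6070 := d28_1 D6070 (iv D6070) F23579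
theorem F29193 : act 4 n6070 = n4850 := d33_1 D6070 (iv D4850) (iv F23580)
theorem F29194 : act 9 n6070 = n4847 := d44_2 D4846 D6070 (iv D4847) (iv D3793) D3792
def n6071 : Q := act 5 n4847
theorem D6071 : act 5 n4847 = n6071 := rfl
theorem F29195 : act 1 n6071 = n5104 := d12_1 D6071 (iv D5104) (iv F23582)
theorem F29196 : act 3 n6071 = n6071 := d25_1 D6071 (iv D6071) F23583
theorem F29197 : act 8 n6071 = n4949 := d37_2 D4847 D6071 (iv D4949) (iv D3936) (iv F18302)
def n6072 : Q := act 8 n4848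
theorem D6072 : act 8 n4848 = n6072 := rfl
theorem F29198 : act 1 n6072 = n5105 := d15_1 D6072 (iv D5105) (iv F23585)
theorem F29199 : act 3 n6072 = n4857 := d28_1 D6072 (iv D4857) (iv F23586)
theorem F29200 : act 6 n6072 = n4849 := d40_1 D6072 (iv D4849) (iv F23588)
def n6073 : Q := act 5 n4849
theorem D6073 : act 5 n4849 = n6073 := rfl
theorem F29201 : act 1 n6073 = n5107 := d12_1 D6073 (iv D5107) (iv F23589)
theorem F29202 : act 3 n6073 = n4858 := d25_1 D6073 (iv D4858) (iv F23590)
theorem F29203 : act 7 n6073 = n4851 := d36_2 (iv F23591) D6073 (iv D4851)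
theorem F29204 : act 8 n6073 = n4852 := d37_2 D4849 D6073 (iv D4852) (iv D3799) (iv F18312)
def n6074 : Q := act 5 n4850
theorem D6074 : act 5 n4850 = n6074 := rfl
theorem F29205 : act 1 n6074 = n5108 := d12_1 D6074 (iv D5108) (iv F23592)
theorem F29206 : act 3 n6074 = n4859 := d25_1 D6074 (iv D4859) (iv F23593)
theorem F29207 : act 8 n6074 = n4889 := d37_2 D4850 D6074 (iv D4889) (iv D3839) (iv F18316)
theorem F29208 : act 9 n6074 = n4851 := d38_2 (iv F23594) D6074 (iv D4851)
def n6075 : Q := act 4 n4851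
theorem D6075 : act 4 n4851 = n6075 := rfl
theorem F29209 : act 1 n6075 = n5109 := d11_1 D6075 (iv D5109) (iv F23595)
theorem F29210 : act 8 n6075 = n4853 := d33_2 (iv F23597) D6075 (iv D4853)
def n6076 : Q := act 6 n4851
theorem D6076 : act 6 n4851 = n6076 := rfl
theorem F29211 : act 1 n6076 = n5110 := d13_1 D6076 (iv D5110) (iv F23595)
theorem F29212 : act 3 n6076 = n4861 := d26_1 D6076 (iv D4861) (iv F23596)
theorem F29213 : act 8 n6076 = n4854 := d40_2 (iv F23597) D6076 (iv D4854)
def n6077 : Q := act 4 n4852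
theorem D6077 : act 4 n4852 = n6077 := rfl
theorem F29214 : act 1 n6077 = n5111 := d11_1 D6077 (iv D5111) (iv F23598)
theorem F29215 : act 5 n6077 = n4954 := d30_2 D4852 D6077 (iv D4954) (iv D3940) (iv F18321)
theorem F29216 : act 7 n6077 = n4853 := d32_2 (iv F23600) D6077 (iv D4853)
theorem F29217 : act 9 n6077 = n4892 := d34_2 (iv F23601) D6077 (iv D4892)
def n6078 : Q := act 6 n4852
theorem D6078 : act 6 n4852 = n6078 := rfl
theorem F29218 : act 1 n6078 = n5112 := d13_1 D6078 (iv D5112) (iv F23598)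
theorem F29219 : act 3 n6078 = n4863 := d26_1 D6078 (iv D4863) (iv F23599)
theorem F29220 : act 5 n6078 = n6078 := d35_1 D6078 (iv D6078) (iv D4852) F18322 D4852
theorem F29221 : act 9 n6078 = n4893 := d41_2 (iv F23601) D6078 (iv D4893)
def n6079 : Q := act 3 n4853
theorem D6079 : act 3 n4853 = n6079 := rfl
theorem F29222 : act 1 n6079 = n5113 := d10_1 D6079 (iv D5113) (iv F23602)
theorem F29223 : act 4 n6079 = n4864 := d24_2 D4853 D6079 (iv D4864) (iv D3810) (iv F18326)
theorem F29224 : act 5 n6079 = n4956 := d25_2 (iv F23603) D6079 (iv D4956)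
theorem F29225 : act 9 n6079 = n4894 := d29_2 (iv F23604) D6079 (iv D4894)
def n6080 : Q := act 6 n4853
theorem D6080 : act 6 n4853 = n6080 := rfl
theorem F29226 : act 1 n6080 = n5114 := d13_1 D6080 (iv D5114) (iv F23602)
theorem F29227 : act 4 n6080 = n4854 := d31_1 D6080 (iv D4854) D4853
theorem F29228 : act 9 n6080 = n4895 := d41_2 (iv F23604) D6080 (iv D4895)
def n6081 : Q := act 7 n4854
theorem D6081 : act 7 n4854 = n6081 := rfl
theorem F29229 : act 1 n6081 = n5115 := d14_1 D6081 (iv D5115) (iv F23605)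
theorem F29230 : act 3 n6081 = n4866 := d27_1 D6081 (iv D4866) (iv F23606)
theorem F29231 : act 5 n6081 = n4856 := d36_1 D6081 (iv D4856) (iv F23607)
theorem F29232 : act 9 n6081 = n4896 := d43_2 (iv F23608) D6081 (iv D4896)
def n6082 : Q := act 5 n4855
theorem D6082 : act 5 n4855 = n6082 := rfl
theorem F29233 : act 1 n6082 = n5116 := d12_1 D6082 (iv D5116) (iv F23609)
theorem F29234 : act 3 n6082 = n6082 := d25_1 D6082 (iv D6082) F23610
theorem F29235 : act 6 n6082 = n4959 := d35_2 D4855 D6082 (iv D4959) (iv D3943) (iv F18330)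
theorem F29236 : act 9 n6082 = n4897 := d38_2 (iv F23612) D6082 (iv D4897)
def n6083 : Q := act 7 n4855
theorem D6083 : act 7 n4855 = n6083 := rfl
theorem F29237 : act 1 n6083 = n5117 := d14_1 D6083 (iv D5117) (iv F23609)
theorem F29238 : act 3 n6083 = n6083 := d27_1 D6083 (iv D6083) F23610
theorem F29239 : act 4 n6083 = n4856 := d32_1 D6083 (iv D4856) (iv F23611)
theorem F29240 : act 6 n6083 = n6083 := d39_1 D6083 (iv D6083) (iv D4855) F18331 D4855
theorem F29241 : act 9 n6083 = n4898 := d43_2 (iv F23612) D6083 (iv D4898)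
def n6084 : Q := act 5 n4857
theorem D6084 : act 5 n4857 = n6084 := rfl
theorem F29242 : act 1 n6084 = n5119 := d12_1 D6084 (iv D5119) (iv F23617)
theorem F29243 : act 8 n6084 = n6084 := d37_2 D4857 D6084 (iv D6084) (iv D4857) F18341
def n6085 : Q := act 4 n4858
theorem D6085 : act 4 n4858 = n6085 := rfl
theorem F29244 : act 1 n6085 = n5121 := d11_1 D6085 (iv D5121) (iv F23620)
theorem F29245 : act 5 n6085 = n6085 := d30_2 D4858 D6085 (iv D6085) (iv D4858) F18348
theorem F29246 : act 7 n6085 = n4860 := d32_2 (iv F23621) D6085 (iv D4860)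
theorem F29247 : act 8 n6085 = n4862 := d33_2 (iv F23622) D6085 (iv D4862)
def n6086 : Q := act 6 n4858
theorem D6086 : act 6 n4858 = n6086 := rfl
theorem F29248 : act 1 n6086 = n5122 := d13_1 D6086 (iv D5122) (iv F23620)
theorem F29249 : act 8 n6086 = n4863 := d40_2 (iv F23622) D6086 (iv D4863)
def n6087 : Q := act 4 n4859
theorem D6087 : act 4 n4859 = n6087 := rfl
theorem F29250 : act 1 n6087 = n5123 := d11_1 D6087 (iv D5123) (iv F23623)
theorem F29251 : act 5 n6087 = n6087 := d30_2 D4859 D6087 (iv D6087) (iv D4859) F18351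
theorem F29252 : act 8 n6087 = n4899 := d33_2 (iv F23624) D6087 (iv D4899)
theorem F29253 : act 9 n6087 = n4860 := d34_2 (iv F23625) D6087 (iv D4860)
def n6088 : Q := act 6 n4859
theorem D6088 : act 6 n4859 = n6088 := rfl
theorem F29254 : act 1 n6088 = n5124 := d13_1 D6088 (iv D5124) (iv F23623)
theorem F29255 : act 8 n6088 = n4900 := d40_2 (iv F23624) D6088 (iv D4900)
theorem F29256 : act 9 n6088 = n4861 := d41_2 (iv F23625) D6088 (iv D4861)
def n6089 : Q := act 3 n4860
theorem D6089 : act 3 n4860 = n6089 := rfl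
theorem F29257 : act 1 n6089 = n5125 := d10_1 D6089 (iv D5125) (iv F23626)
theorem F29258 : act 5 n6089 = n6089 := d25_2 F23627 D6089 (iv D6089)
theorem F29259 : act 8 n6089 = n4864 := d28_2 (iv F23628) D6089 (iv D4864)
def n6090 : Q := act 6 n4860
theorem D6090 : act 6 n4860 = n6090 := rfl
theorem F29260 : act 1 n6090 = n5126 := d13_1 D6090 (iv D5126) (iv F23626)
theorem F29261 : act 4 n6090 = n4861 := d31_1 D6090 (iv D4861) D4860
theorem F29262 : act 8 n6090 = n4865 := d40_2 (iv F23628) D6090 (iv D4865)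
def n6091 : Q := act 7 n4861
theorem D6091 : act 7 n4861 = n6091 := rfl
theorem F29263 : act 1 n6091 = n5127 := d14_1 D6091 (iv D5127) (iv F23629)
theorem F29264 : act 8 n6091 = n4866 := d42_2 (iv F23630) D6091 (iv D4866)
def n6092 : Q := act 3 n4862
theorem D6092 : act 3 n4862 = n6092 := rfl
theorem F29265 : act 1 n6092 = n5128 := d10_1 D6092 (iv D5128) (iv F23631)
theorem F29266 : act 5 n6092 = n4867 := d25_2 (iv F23632) D6092 (iv D4867)
theorem F29267 : act 7 n6092 = n4864 := d27_2 (iv F23633) D6092 (iv D4864)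
theorem F29268 : act 9 n6092 = n4904 := d29_2 (iv F23634) D6092 (iv D4904)
def n6093 : Q := act 6 n4862
theorem D6093 : act 6 n4862 = n6093 := rfl
theorem F29269 : act 1 n6093 = n5129 := d13_1 D6093 (iv D5129) (iv F23631)
theorem F29270 : act 4 n6093 = n4863 := d31_1 D6093 (iv D4863) D4862
theorem F29271 : act 9 n6093 = n4905 := d41_2 (iv F23634) D6093 (iv D4905)
def n6094 : Q := act 7 n4863
theorem D6094 : act 7 n4863 = n6094 := rfl
theorem F29272 : act 1 n6094 = n5130 := d14_1 D6094 (iv D5130) (iv F23635)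
theorem F29273 : act 5 n6094 = n6094 := d36_1 D6094 (iv D6094) F23636
theorem F29274 : act 6 n6094 = n4866 := d39_1 D6094 (iv D4866) (iv D3811) (iv F18356) D4863
theorem F29275 : act 9 n6094 = n4906 := d43_2 (iv F23637) D6094 (iv D4906)
def n6095 : Q := act 2 n4864
theorem D6095 : act 2 n4864 = n6095 := rfl
theorem F29276 : act 5 n6095 = n4869 := d19_2 (iv F23639) D6095 (iv D4869)
theorem F29277 : act 9 n6095 = n4907 := d23_2 (iv F23640) D6095 (iv D4907)
def n6096 : Q := act 6 n4864
theorem D6096 : act 6 n4864 = n6096 := rfl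
theorem F29278 : act 1 n6096 = n5132 := d13_1 D6096 (iv D5132) (iv F23638)
theorem F29279 : act 3 n6096 = n4865 := d26_1 D6096 (iv D4865) D4864
theorem F29280 : act 5 n6096 = n6096 := d35_1 D6096 (iv D6096) F23639 F18380 (iv F23639)
theorem F29281 : act 9 n6096 = n4908 := d41_2 (iv F23640) D6096 (iv D4908)
def n6097 : Q := act 7 n4865
theorem D6097 : act 7 n4865 = n6097 := rfl
theorem F29282 : act 1 n6097 = n5133 := d14_1 D6097 (iv D5133) (iv F23641)
theorem F29283 : act 4 n6097 = n4866 := d32_1 D6097 (iv D4866) (iv F23642)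
theorem F29284 : act 5 n6097 = n6097 := d36_1 D6097 (iv D6097) F23643
theorem F29285 : act 9 n6097 = n4909 := d43_2 (iv F23644) D6097 (iv D4909)
def n6098 : Q := act 2 n4867
theorem D6098 : act 2 n4867 = n6098 := rfl
theorem F29286 : act 4 n6098 = n4973 := d18_2 (iv F23649) D6098 (iv D4973)
theorem F29287 : act 7 n6098 = n4869 := d21_2 (iv F23650) D6098 (iv D4869)
theorem F29288 : act 8 n6098 = n6098 := d22_2 F23651 D6098 (iv D6098)
theorem F29289 : act 9 n6098 = n4910 := d23_2 (iv F23652) D6098 (iv D4910)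
def n6099 : Q := act 6 n4867
theorem D6099 : act 6 n4867 = n6099 := rfl
theorem F29290 : act 1 n6099 = n5135 := d13_1 D6099 (iv D5135) (iv F23648)
def n6100 : Q := act 5 n4868
theorem D6100 : act 5 n4868 = n6100 := rfl
theorem F29297 : act 4 n6100 = n6100 := d30_1 D6100 (iv D6100) F23654 F18374 (iv F23654)
theorem F29298 : act 7 n6100 = n6100 := d36_2 F23655 D6100 (iv D6100)
theorem F29299 : act 9 n6100 = n4912 := d38_2 (iv F23657) D6100 (iv D4912)
def n6101 : Q := act 1 n4869
theorem D6101 : act 1 n4869 = n6101 := rfl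
theorem F29300 : act 2 n6101 = n5137 := d9_2 D4869 D6101 (iv D5137) (iv D4093) (iv F18378)
theorem F29302 : act 6 n6101 = n6101 := d13_2 F23659 D6101 (iv D6101)
theorem F29303 : act 8 n6101 = n6101 := d15_2 F23660 D6101 (iv D6101)
theorem F29304 : act 9 n6101 = n4913 := d16_2 (iv F23661) D6101 (iv D4913)
def n6102 : Q := act 9 n4870
theorem D6102 : act 9 n4870 = n6102 := rfl
theorem F29305 : act 0 n6102 = n4875 := d8_1 D6102 (iv D4875) (iv F23662)
theorem F29306 : act 2 n6102 = n5140 := d23_1 D6102 (iv D5140) (iv F23663)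
theorem F29307 : act 4 n6102 = n6102 := d34_1 D6102 (iv D6102) F23664
theorem F29308 : act 6 n6102 = n6102 := d41_1 D6102 (iv D6102) F23665
def n6103 : Q := act 8 n4871
theorem D6103 : act 8 n4871 = n6103 := rfl
theorem F29309 : act 0 n6103 = n4876 := d7_1 D6103 (iv D4876) (iv F23666)
theorem F29310 : act 2 n6103 = n5141 := d22_1 D6103 (iv D5141) (iv F23667)
theorem F29311 : act 4 n6103 = n6103 := d33_1 D6103 (iv D6103) F23668
theorem F29312 : act 6 n6103 = n6103 := d40_1 D6103 (iv D6103) F23670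
def n6104 : Q := act 8 n4872
theorem D6104 : act 8 n4872 = n6104 := rfl
theorem F29313 : act 0 n6104 = n4877 := d7_1 D6104 (iv D4877) (iv F23671)
theorem F29314 : act 2 n6104 = n5142 := d22_1 D6104 (iv D5142) (iv F23672)
theorem F29315 : act 4 n6104 = n4977 := d33_1 D6104 (iv D4977) (iv F23673)
theorem F29316 : act 6 n6104 = n6104 := d40_1 D6104 (iv D6104) F23674
theorem F29317 : act 7 n6104 = n4873 := d42_1 D6104 (iv D4873) (iv F23675)
def n6105 : Q := act 5 n4873
theorem D6105 : act 5 n4873 = n6105 := rfl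
theorem F29318 : act 0 n6105 = n4878 := d4_1 D6105 (iv D4878) (iv F23676)
theorem F29319 : act 2 n6105 = n5143 := d19_1 D6105 (iv D5143) (iv F23677)
def n6106 : Q := act 4 n4874
theorem D6106 : act 4 n4874 = n6106 := rfl
theorem F29320 : act 0 n6106 = n4879 := d3_1 D6106 (iv D4879) (iv F23680)
theorem F29321 : act 2 n6106 = n5144 := d18_1 D6106 (iv D5144) (iv F23681)
theorem F29322 : act 5 n6106 = n4979 := d30_2 D4874 D6106 (iv D4979) (iv D3959) (iv F18397)
theorem F29323 : act 7 n6106 = n6106 := d32_2 F23682 D6106 (iv D6106)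
theorem F29324 : act 8 n6106 = n6106 := d33_2 F23683 D6106 (iv D6106)
def n6107 : Q := act 6 n4874
theorem D6107 : act 6 n4874 = n6107 := rfl
theorem F29325 : act 0 n6107 = n4880 := d5_1 D6107 (iv D4880) (iv F23680)
theorem F29326 : act 2 n6107 = n5145 := d20_1 D6107 (iv D5145) (iv F23681)
theorem F29327 : act 8 n6107 = n6107 := d40_2 F23683 D6107 (iv D6107)
def n6108 : Q := act 8 n4875
theorem D6108 : act 8 n4875 = n6108 := rfl
theorem F29328 : act 1 n6108 = n4881 := d15_1 D6108 (iv D4881) (iv F23684)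
theorem F29329 : act 2 n6108 = n5148 := d22_1 D6108 (iv D5148) (iv F23685)
theorem F29330 : act 4 n6108 = n6108 := d33_1 D6108 (iv D6108) F23686
theorem F29331 : act 6 n6108 = n6108 := d40_1 D6108 (iv D6108) F23687
theorem F29332 : act 9 n6108 = n4876 := d44_2 D4875 D6108 (iv D4876) (iv D3822) D3821
def n6109 : Q := act 5 n4876
theorem D6109 : act 5 n4876 = n6109 := rfl
theorem F29333 : act 1 n6109 = n4882 := d12_1 D6109 (iv D4882) (iv F23688)
theorem F29334 : act 2 n6109 = n5149 := d19_1 D6109 (iv D5149) (iv F23689)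
theorem F29335 : act 8 n6109 = n4878 := d37_2 D4876 D6109 (iv D4878) (iv D3824) (iv F18410)
def n6110 : Q := act 5 n4877
theorem D6110 : act 5 n4877 = n6110 := rfl
theorem F29336 : act 1 n6110 = n4883 := d12_1 D6110 (iv D4883) (iv F23692)
theorem F29337 : act 2 n6110 = n5150 := d19_1 D6110 (iv D5150) (iv F23693)
theorem F29338 : act 7 n6110 = n4878 := d36_2 (iv F23696) D6110 (iv D4878)
def n6111 : Q := act 4 n4878
theorem D6111 : act 4 n4878 = n6111 := rfl
theorem F29339 : act 1 n6111 = n4884 := d11_1 D6111 (iv D4884) (iv F23697)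
theorem F29340 : act 2 n6111 = n5151 := d18_1 D6111 (iv D5151) (iv F23698)
theorem F29341 : act 5 n6111 = n4982 := d30_2 D4878 D6111 (iv D4982) (iv D3961) (iv F18419)
def n6112 : Q := act 6 n4878
theorem D6112 : act 6 n4878 = n6112 := rfl
theorem F29342 : act 1 n6112 = n4885 := d13_1 D6112 (iv D4885) (iv F23697)
theorem F29343 : act 2 n6112 = n5152 := d20_1 D6112 (iv D5152) (iv F23698)
theorem F29344 : act 5 n6112 = n4880 := d35_1 D6112 (iv D4880) (iv D3825) (iv F18420) D4878
def n6113 : Q := act 3 n4879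
theorem D6113 : act 3 n4879 = n6113 := rfl
theorem F29345 : act 1 n6113 = n4886 := d10_1 D6113 (iv D4886) (iv F23699)
theorem F29346 : act 5 n6113 = n4984 := d25_2 (iv F23701) D6113 (iv D4984)
theorem F29347 : act 7 n6113 = n6113 := d27_2 F23702 D6113 (iv D6113)
theorem F29348 : act 8 n6113 = n6113 := d28_2 F23703 D6113 (iv D6113)
def n6114 : Q := act 6 n4879
theorem D6114 : act 6 n4879 = n6114 := rfl
theorem F29349 : act 1 n6114 = n4887 := d13_1 D6114 (iv D4887) (iv F23699)
theorem F29350 : act 2 n6114 = n5154 := d20_1 D6114 (iv D5154) (iv F23700)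
theorem F29351 : act 4 n6114 = n4880 := d31_1 D6114 (iv D4880) D4879
theorem F29352 : act 8 n6114 = n6114 := d40_2 F23703 D6114 (iv D6114)
def n6115 : Q := act 7 n4880
theorem D6115 : act 7 n4880 = n6115 := rfl
theorem F29353 : act 1 n6115 = n4888 := d14_1 D6115 (iv D4888) (iv F23704)
theorem F29354 : act 2 n6115 = n5155 := d21_1 D6115 (iv D5155) (iv F23705)
theorem F29355 : act 6 n6115 = n6115 := d39_1 D6115 (iv D6115) (iv D4880) F18423 D4880
theorem F29356 : act 8 n6115 = n6115 := d42_2 F23706 D6115 (iv D6115)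
def n6116 : Q := act 5 n4881
theorem D6116 : act 5 n4881 = n6116 := rfl
theorem F29357 : act 2 n6116 = n4889 := d19_1 D6116 (iv D4889) (iv F23707)
theorem F29358 : act 9 n6116 = n4882 := d38_2 (iv F23710) D6116 (iv D4882)
def n6117 : Q := act 4 n4882
theorem D6117 : act 4 n4882 = n6117 := rfl
theorem F29359 : act 2 n6117 = n4890 := d18_1 D6117 (iv D4890) (iv F23711)
theorem F29360 : act 5 n6117 = n6117 := d30_2 D4882 D6117 (iv D6117) (iv D4882) F18440
theorem F29361 : act 8 n6117 = n4884 := d33_2 (iv F23712) D6117 (iv D4884)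
def n6118 : Q := act 6 n4882
theorem D6118 : act 6 n4882 = n6118 := rfl
theorem F29362 : act 2 n6118 = n4891 := d20_1 D6118 (iv D4891) (iv F23711)
theorem F29363 : act 5 n6118 = n6118 := d35_1 D6118 (iv D6118) (iv D4882) F18441 D4882
theorem F29364 : act 8 n6118 = n4885 := d40_2 (iv F23712) D6118 (iv D4885)
def n6119 : Q := act 4 n4883
theorem D6119 : act 4 n4883 = n6119 := rfl
theorem F29365 : act 2 n6119 = n4892 := d18_1 D6119 (iv D4892) (iv F23713)
theorem F29366 : act 5 n6119 = n4987 := d30_2 D4883 D6119 (iv D4987) (iv D3964) (iv F18443)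
theorem F29367 : act 7 n6119 = n4884 := d32_2 (iv F23714) D6119 (iv D4884)
def n6120 : Q := act 6 n4883
theorem D6120 : act 6 n4883 = n6120 := rfl
theorem F29368 : act 2 n6120 = n4893 := d20_1 D6120 (iv D4893) (iv F23713)
theorem F29369 : act 5 n6120 = n6120 := d35_1 D6120 (iv D6120) (iv D4883) F18444 D4883
def n6121 : Q := act 3 n4884
theorem D6121 : act 3 n4884 = n6121 := rfl
theorem F29370 : act 5 n6121 = n4989 := d25_2 (iv F23716) D6121 (iv D4989)
def n6122 : Q := act 6 n4884
theorem D6122 : act 6 n4884 = n6122 := rfl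
theorem F29371 : act 2 n6122 = n4895 := d20_1 D6122 (iv D4895) (iv F23715)
theorem F29372 : act 4 n6122 = n4885 := d31_1 D6122 (iv D4885) D4884
def n6123 : Q := act 7 n4885
theorem D6123 : act 7 n4885 = n6123 := rfl
theorem F29373 : act 2 n6123 = n4896 := d21_1 D6123 (iv D4896) (iv F23717)
theorem F29374 : act 5 n6123 = n4888 := d36_1 D6123 (iv D4888) (iv F23718)
def n6124 : Q := act 6 n4886
theorem D6124 : act 6 n4886 = n6124 := rfl
theorem F29375 : act 2 n6124 = n6124 := d20_1 D6124 (iv D6124) F23719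
theorem F29376 : act 3 n6124 = n4887 := d26_1 D6124 (iv D4887) D4886
theorem F29377 : act 8 n6124 = n6124 := d40_2 F23722 D6124 (iv D6124)
def n6125 : Q := act 5 n4887
theorem D6125 : act 5 n4887 = n6125 := rfl
theorem F29378 : act 2 n6125 = n4897 := d19_1 D6125 (iv D4897) (iv F23723)
theorem F29379 : act 6 n6125 = n4993 := d35_2 D4887 D6125 (iv D4993) (iv D3968) (iv F18448)
def n6126 : Q := act 7 n4887
theorem D6126 : act 7 n4887 = n6126 := rfl
theorem F29380 : act 2 n6126 = n4898 := d21_1 D6126 (iv D4898) (iv F23723)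
theorem F29381 : act 4 n6126 = n4888 := d32_1 D6126 (iv D4888) (iv F23724)
theorem F29382 : act 6 n6126 = n6126 := d39_1 D6126 (iv D6126) (iv D4887) F18449 D4887
theorem F29383 : act 8 n6126 = n6126 := d42_2 F23725 D6126 (iv D6126)
def n6127 : Q := act 4 n4889
theorem D6127 : act 4 n4889 = n6127 := rfl
theorem F29384 : act 1 n6127 = n5172 := d11_1 D6127 (iv D5172) (iv F23729)
theorem F29385 : act 5 n6127 = n6127 := d30_2 D4889 D6127 (iv D6127) (iv D4889) F18474
theorem F29386 : act 9 n6127 = n4890 := d34_2 (iv F23731) D6127 (iv D4890)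
def n6128 : Q := act 6 n4889
theorem D6128 : act 6 n4889 = n6128 := rfl
theorem F29387 : act 1 n6128 = n5173 := d13_1 D6128 (iv D5173) (iv F23729)
theorem F29388 : act 3 n6128 = n4900 := d26_1 D6128 (iv D4900) (iv F23730)
theorem F29389 : act 5 n6128 = n6128 := d35_1 D6128 (iv D6128) (iv D4889) F18475 D4889
theorem F29390 : act 9 n6128 = n4891 := d41_2 (iv F23731) D6128 (iv D4891)
def n6129 : Q := act 3 n4890
theorem D6129 : act 3 n4890 = n6129 := rfl
theorem F29391 : act 1 n6129 = n5174 := d10_1 D6129 (iv D5174) (iv F23732)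
theorem F29392 : act 4 n6129 = n4901 := d24_2 D4890 D6129 (iv D4901) (iv D3852) (iv F18478)
theorem F29393 : act 5 n6129 = n6129 := d25_2 F23733 D6129 (iv D6129)
theorem F29394 : act 8 n6129 = n4894 := d28_2 (iv F23734) D6129 (iv D4894)
def n6130 : Q := act 6 n4890
theorem D6130 : act 6 n4890 = n6130 := rfl
theorem F29395 : act 1 n6130 = n5175 := d13_1 D6130 (iv D5175) (iv F23732)
theorem F29396 : act 4 n6130 = n4891 := d31_1 D6130 (iv D4891) D4890
theorem F29397 : act 8 n6130 = n4895 := d40_2 (iv F23734) D6130 (iv D4895)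
def n6131 : Q := act 7 n4891
theorem D6131 : act 7 n4891 = n6131 := rfl
theorem F29398 : act 1 n6131 = n5176 := d14_1 D6131 (iv D5176) (iv F23735)
theorem F29399 : act 3 n6131 = n4903 := d27_1 D6131 (iv D4903) (iv F23736)
theorem F29400 : act 5 n6131 = n6131 := d36_1 D6131 (iv D6131) F23737
theorem F29401 : act 8 n6131 = n4896 := d42_2 (iv F23738) D6131 (iv D4896)
def n6132 : Q := act 3 n4892
theorem D6132 : act 3 n4892 = n6132 := rfl
theorem F29402 : act 1 n6132 = n5177 := d10_1 D6132 (iv D5177) (iv F23739)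
theorem F29403 : act 4 n6132 = n4904 := d24_2 D4892 D6132 (iv D4904) (iv D3854) (iv F18481)
theorem F29404 : act 5 n6132 = n4995 := d25_2 (iv F23740) D6132 (iv D4995)
theorem F29405 : act 7 n6132 = n4894 := d27_2 (iv F23741) D6132 (iv D4894)
def n6133 : Q := act 6 n4892
theorem D6133 : act 6 n4892 = n6133 := rfl
theorem F29406 : act 1 n6133 = n5178 := d13_1 D6133 (iv D5178) (iv F23739)
theorem F29407 : act 4 n6133 = n4893 := d31_1 D6133 (iv D4893) D4892
def n6134 : Q := act 7 n4893
theorem D6134 : act 7 n4893 = n6134 := rfl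
theorem F29408 : act 1 n6134 = n5179 := d14_1 D6134 (iv D5179) (iv F23742)
theorem F29409 : act 3 n6134 = n4906 := d27_1 D6134 (iv D4906) (iv F23743)
theorem F29410 : act 5 n6134 = n6134 := d36_1 D6134 (iv D6134) F23744
theorem F29411 : act 6 n6134 = n4896 := d39_1 D6134 (iv D4896) (iv D3843) (iv F18482) D4893
def n6135 : Q := act 2 n4894
theorem D6135 : act 2 n4894 = n6135 := rfl
theorem F29412 : act 4 n6135 = n4907 := d18_2 (iv F23746) D6135 (iv D4907)
theorem F29413 : act 5 n6135 = n4998 := d19_2 (iv F23747) D6135 (iv D4998)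
def n6136 : Q := act 6 n4894
theorem D6136 : act 6 n4894 = n6136 := rfl
theorem F29414 : act 1 n6136 = n5181 := d13_1 D6136 (iv D5181) (iv F23745)
theorem F29415 : act 3 n6136 = n4895 := d26_1 D6136 (iv D4895) D4894
theorem F29416 : act 4 n6136 = n4908 := d31_1 D6136 (iv D4908) (iv F23746)
def n6137 : Q := act 5 n4895
theorem D6137 : act 5 n4895 = n6137 := rfl
theorem F29417 : act 1 n6137 = n5182 := d12_1 D6137 (iv D5182) (iv F23748)
theorem F29418 : act 4 n6137 = n4897 := d30_1 D6137 (iv D4897) F18490 (iv F18487) (iv F23749)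
theorem F29419 : act 6 n6137 = n5000 := d35_2 D4895 D6137 (iv D5000) (iv D3973) (iv F18484)
def n6138 : Q := act 7 n4895
theorem D6138 : act 7 n4895 = n6138 := rfl
theorem F29420 : act 1 n6138 = n5183 := d14_1 D6138 (iv D5183) (iv F23748)
theorem F29421 : act 4 n6138 = n4896 := d32_1 D6138 (iv D4896) (iv F23749)
def n6139 : Q := act 7 n4897
theorem D6139 : act 7 n4897 = n6139 := rfl
theorem F29422 : act 1 n6139 = n5184 := d14_1 D6139 (iv D5184) (iv F23753)
theorem F29423 : act 3 n6139 = n6139 := d27_1 D6139 (iv D6139) F23754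
theorem F29424 : act 5 n6139 = n4898 := d36_1 D6139 (iv D4898) D4897
def n6140 : Q := act 8 n4897
theorem D6140 : act 8 n4897 = n6140 := rfl
theorem F29425 : act 1 n6140 = n5185 := d15_1 D6140 (iv D5185) (iv F23753)
theorem F29426 : act 3 n6140 = n6140 := d28_1 D6140 (iv D6140) F23754
theorem F29427 : act 5 n6140 = n6140 := d37_1 D6140 (iv D6140) (iv D4897) F18491 D4897
theorem F29428 : act 6 n6140 = n5003 := d40_1 D6140 (iv D5003) (iv F23755)
def n6141 : Q := act 3 n4899
theorem D6141 : act 3 n4899 = n6141 := rfl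
theorem F29429 : act 1 n6141 = n5191 := d10_1 D6141 (iv D5191) (iv F23761)
theorem F29430 : act 5 n6141 = n4914 := d25_2 (iv F23762) D6141 (iv D4914)
theorem F29431 : act 9 n6141 = n4901 := d29_2 (iv F23763) D6141 (iv D4901)
def n6142 : Q := act 6 n4899
theorem D6142 : act 6 n4899 = n6142 := rfl
theorem F29432 : act 1 n6142 = n5192 := d13_1 D6142 (iv D5192) (iv F23761)
theorem F29433 : act 4 n6142 = n4900 := d31_1 D6142 (iv D4900) D4899
theorem F29434 : act 9 n6142 = n4902 := d41_2 (iv F23763) D6142 (iv D4902)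
def n6143 : Q := act 7 n4900
theorem D6143 : act 7 n4900 = n6143 := rfl
theorem F29435 : act 1 n6143 = n5193 := d14_1 D6143 (iv D5193) (iv F23764)
theorem F29436 : act 5 n6143 = n6143 := d36_1 D6143 (iv D6143) F23765
theorem F29437 : act 9 n6143 = n4903 := d43_2 (iv F23766) D6143 (iv D4903)
def n6144 : Q := act 2 n4901
theorem D6144 : act 2 n4901 = n6144 := rfl
theorem F29438 : act 5 n6144 = n4916 := d19_2 (iv F23768) D6144 (iv D4916)
theorem F29439 : act 8 n6144 = n4907 := d22_2 (iv F23769) D6144 (iv D4907)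
def n6145 : Q := act 6 n4901
theorem D6145 : act 6 n4901 = n6145 := rfl
theorem F29440 : act 1 n6145 = n5195 := d13_1 D6145 (iv D5195) (iv F23767)
theorem F29441 : act 3 n6145 = n4902 := d26_1 D6145 (iv D4902) D4901
theorem F29442 : act 8 n6145 = n4908 := d40_2 (iv F23769) D6145 (iv D4908)
def n6146 : Q := act 5 n4902
theorem D6146 : act 5 n4902 = n6146 := rfl
theorem F29443 : act 1 n6146 = n5196 := d12_1 D6146 (iv D5196) (iv F23770)
theorem F29444 : act 4 n6146 = n6146 := d30_1 D6146 (iv D6146) F23771 F18520 (iv F23771)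
theorem F29445 : act 6 n6146 = n4918 := d35_2 D4902 D6146 (iv D4918) (iv D3872) (iv F18517)
theorem F29446 : act 8 n6146 = n6146 := d37_2 (iv F23772) D6146 (iv D6146) F23772 F18531
def n6147 : Q := act 7 n4902
theorem D6147 : act 7 n4902 = n6147 := rfl
theorem F29447 : act 1 n6147 = n5197 := d14_1 D6147 (iv D5197) (iv F23770)
theorem F29448 : act 4 n6147 = n4903 := d32_1 D6147 (iv D4903) (iv F23771)
theorem F29449 : act 8 n6147 = n4909 := d42_2 (iv F23772) D6147 (iv D4909)
def n6148 : Q := act 2 n4904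
theorem D6148 : act 2 n4904 = n6148 := rfl
theorem F29450 : act 5 n6148 = n4910 := d19_2 (iv F23777) D6148 (iv D4910)
theorem F29451 : act 7 n6148 = n4907 := d21_2 (iv F23778) D6148 (iv D4907)
def n6149 : Q := act 6 n4904
theorem D6149 : act 6 n4904 = n6149 := rfl
theorem F29452 : act 1 n6149 = n5199 := d13_1 D6149 (iv D5199) (iv F23776)
theorem F29453 : act 3 n6149 = n4905 := d26_1 D6149 (iv D4905) D4904
def n6150 : Q := act 5 n4905
theorem D6150 : act 5 n4905 = n6150 := rfl
theorem F29455 : act 4 n6150 = n6150 := d30_1 D6150 (iv D6150) F23780 F18526 (iv F23780)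
theorem F29456 : act 6 n6150 = n4912 := d35_2 D4905 D6150 (iv D4912) (iv D3860) (iv F18523)
theorem F29457 : act 8 n6150 = n6150 := d37_2 F27218 D6150 (iv D6150) (iv F27218) F27217
def n6151 : Q := act 7 n4905
theorem D6151 : act 7 n4905 = n6151 := rfl
theorem F29458 : act 1 n6151 = n5201 := d14_1 D6151 (iv D5201) (iv F23779)
theorem F29459 : act 4 n6151 = n4906 := d32_1 D6151 (iv D4906) (iv F23780)
theorem F29460 : act 6 n6151 = n4909 := d39_1 D6151 (iv D4909) (iv D3857) (iv F18524) D4905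
def n6152 : Q := act 1 n4907
theorem D6152 : act 1 n4907 = n6152 := rfl
theorem F29461 : act 2 n6152 = n5202 := d9_2 D4907 D6152 (iv D5202) (iv D4151) (iv F18527)
theorem F29462 : act 5 n6152 = n4913 := d12_2 (iv F23784) D6152 (iv D4913)
def n6153 : Q := act 6 n4907
theorem D6153 : act 6 n4907 = n6153 := rfl
theorem F29463 : act 2 n6153 = n4908 := d20_1 D6153 (iv D4908) D4907
theorem F29464 : act 5 n6153 = n6153 := d35_1 D6153 (iv D6153) F23784 F18543 (iv F23784)
def n6154 : Q := act 7 n4908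
theorem D6154 : act 7 n4908 = n6154 := rfl
theorem F29465 : act 1 n6154 = n5204 := d14_1 D6154 (iv D5204) (iv F23785)
theorem F29466 : act 3 n6154 = n4909 := d27_1 D6154 (iv D4909) (iv F23786)
theorem F29467 : act 5 n6154 = n6154 := d36_1 D6154 (iv D6154) F23787
def n6155 : Q := act 1 n4910
theorem D6155 : act 1 n4910 = n6155 := rfl
theorem F29469 : act 4 n6155 = n5011 := d11_2 (iv F23791) D6155 (iv D5011)
theorem F29470 : act 7 n6155 = n4913 := d14_2 (iv F23792) D6155 (iv D4913)
def n6156 : Q := act 6 n4910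
theorem D6156 : act 6 n4910 = n6156 := rfl
theorem F29472 : act 2 n6156 = n4911 := d20_1 D6156 (iv D4911) D4910
theorem F29473 : act 4 n6156 = n5012 := d31_1 D6156 (iv D5012) (iv F23791)
def n6157 : Q := act 5 n4911
theorem D6157 : act 5 n4911 = n6157 := rfl
def n6158 : Q := act 0 n4913
theorem D6158 : act 0 n4913 = n6158 := rfl
def n6159 : Q := act 2 n4914
theorem D6159 : act 2 n4914 = n6159 := rfl
theorem F29484 : act 4 n6159 = n6159 := d18_2 F23808 D6159 (iv D6159)
theorem F29485 : act 8 n6159 = n6159 := d22_2 F23809 D6159 (iv D6159)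
theorem F29486 : act 9 n6159 = n4916 := d23_2 (iv F23810) D6159 (iv D4916)
def n6160 : Q := act 6 n4914
theorem D6160 : act 6 n4914 = n6160 := rfl
theorem F29487 : act 1 n6160 = n5212 := d13_1 D6160 (iv D5212) (iv F23807)
theorem F29488 : act 3 n6160 = n4915 := d26_1 D6160 (iv D4915) D4914
theorem F29489 : act 4 n6160 = n6160 := d31_1 D6160 (iv D6160) F23808
theorem F29490 : act 7 n6160 = n6160 := d39_2 F27150 D6160 (iv D6160) (iv F27150) F27149
theorem F29491 : act 8 n6160 = n6160 := d40_2 F23809 D6160 (iv D6160)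
theorem F29492 : act 9 n6160 = n4917 := d41_2 (iv F23810) D6160 (iv D4917)
def n6161 : Q := act 5 n4915
theorem D6161 : act 5 n4915 = n6161 := rfl
theorem F29493 : act 1 n6161 = n5213 := d12_1 D6161 (iv D5213) (iv F23811)
theorem F29494 : act 4 n6161 = n6161 := d30_1 D6161 (iv D6161) F23812 F18579 (iv F23812)
theorem F29495 : act 7 n6161 = n6161 := d36_2 F23813 D6161 (iv D6161)
theorem F29496 : act 9 n6161 = n4918 := d38_2 (iv F23815) D6161 (iv D4918)
def n6162 : Q := act 1 n4916
theorem D6162 : act 1 n4916 = n6162 := rfl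
theorem F29497 : act 2 n6162 = n5214 := d9_2 D4916 D6162 (iv D5214) (iv D4172) (iv F18582)
theorem F29498 : act 4 n6162 = n6162 := d11_2 F23816 D6162 (iv D6162)
theorem F29499 : act 8 n6162 = n4919 := d15_2 (iv F23817) D6162 (iv D4919)
def n6163 : Q := act 6 n4916
theorem D6163 : act 6 n4916 = n6163 := rfl
theorem F29500 : act 2 n6163 = n4917 := d20_1 D6163 (iv D4917) D4916
theorem F29501 : act 4 n6163 = n6163 := d31_1 D6163 (iv D6163) F23816
theorem F29502 : act 7 n6163 = n6163 := d39_2 F27229 D6163 (iv D6163) (iv F27229) F27228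
theorem F29503 : act 8 n6163 = n4920 := d40_2 (iv F23817) D6163 (iv D4920)
def n6164 : Q := act 5 n4917
theorem D6164 : act 5 n4917 = n6164 := rfl
theorem F29504 : act 1 n6164 = n5216 := d12_1 D6164 (iv D5216) (iv F23818)
theorem F29505 : act 3 n6164 = n4918 := d25_1 D6164 (iv D4918) (iv F23819)
theorem F29506 : act 7 n6164 = n6164 := d36_2 F23821 D6164 (iv D6164)
theorem F29507 : act 8 n6164 = n6164 := d37_2 (iv F23822) D6164 (iv D6164) F23822 F18611
def n6165 : Q := act 0 n4919
theorem D6165 : act 0 n4919 = n6165 := rfl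
theorem F29508 : act 2 n6165 = n5218 := d1_2 (iv F23827) D6165 (iv D5218)
def n6166 : Q := act 6 n4919
theorem D6166 : act 6 n4919 = n6166 := rfl
theorem F29512 : act 1 n6166 = n4920 := d13_1 D6166 (iv D4920) D4919
theorem F29513 : act 2 n6166 = n5219 := d20_1 D6166 (iv D5219) (iv F23827)
def n6167 : Q := act 0 n4921
theorem D6167 : act 0 n4921 = n6167 := rfl
theorem F29519 : act 4 n6167 = n5016 := d3_2 (iv F23837) D6167 (iv D5016)
def n6168 : Q := act 6 n4921
theorem D6168 : act 6 n4921 = n6168 := rfl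
theorem F29524 : act 4 n6168 = n5017 := d31_1 D6168 (iv D5017) (iv F23837)
def n6169 : Q := act 8 n4924
theorem D6169 : act 8 n4924 = n6169 := rfl
theorem F29528 : act 0 n6169 = n4930 := d7_1 D6169 (iv D4930) (iv F23849)
theorem F29529 : act 2 n6169 = n5222 := d22_1 D6169 (iv D5222) (iv F23850)
theorem F29530 : act 3 n6169 = n6169 := d28_1 D6169 (iv D6169) F23851
theorem F29531 : act 6 n6169 = n6169 := d40_1 D6169 (iv D6169) F23853
theorem F29532 : act 9 n6169 = n6169 := d44_2 D4924 D6169 (iv D6169) (iv D4924) F18760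
def n6170 : Q := act 8 n4925
theorem D6170 : act 8 n4925 = n6170 := rfl
theorem F29533 : act 0 n6170 = n4931 := d7_1 D6170 (iv D4931) (iv F23854)
theorem F29534 : act 2 n6170 = n5223 := d22_1 D6170 (iv D5223) (iv F23855)
theorem F29535 : act 3 n6170 = n6170 := d28_1 D6170 (iv D6170) F23856
theorem F29536 : act 6 n6170 = n6170 := d40_1 D6170 (iv D6170) F23857
theorem F29537 : act 7 n6170 = n4926 := d42_1 D6170 (iv D4926) (iv F23858)
theorem F29538 : act 9 n6170 = n4977 := d44_2 D4925 D6170 (iv D4977) (iv D3957) (iv F18765)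
def n6171 : Q := act 5 n4926
theorem D6171 : act 5 n4926 = n6171 := rfl
theorem F29539 : act 0 n6171 = n4932 := d4_1 D6171 (iv D4932) (iv F23859)
theorem F29540 : act 2 n6171 = n5224 := d19_1 D6171 (iv D5224) (iv F23860)
theorem F29541 : act 3 n6171 = n6171 := d25_1 D6171 (iv D6171) F23861
theorem F29542 : act 9 n6171 = n4978 := d38_2 (iv F23863) D6171 (iv D4978)
def n6172 : Q := act 4 n4927
theorem D6172 : act 4 n4927 = n6172 := rfl
theorem F29543 : act 0 n6172 = n4933 := d3_1 D6172 (iv D4933) (iv F23864)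
theorem F29544 : act 2 n6172 = n5225 := d18_1 D6172 (iv D5225) (iv F23865)
theorem F29545 : act 7 n6172 = n6172 := d32_2 F23867 D6172 (iv D6172)
theorem F29546 : act 8 n6172 = n6172 := d33_2 F23868 D6172 (iv D6172)
theorem F29547 : act 9 n6172 = n4979 := d34_2 (iv F23869) D6172 (iv D4979)
def n6173 : Q := act 6 n4927
theorem D6173 : act 6 n4927 = n6173 := rfl
theorem F29548 : act 0 n6173 = n4934 := d5_1 D6173 (iv D4934) (iv F23864)
theorem F29549 : act 2 n6173 = n5226 := d20_1 D6173 (iv D5226) (iv F23865)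
def n6174 : Q := act 8 n4928
theorem D6174 : act 8 n4928 = n6174 := rfl
theorem F29553 : act 1 n6174 = n4937 := d15_1 D6174 (iv D4937) (iv F23870)
theorem F29554 : act 2 n6174 = n5227 := d22_1 D6174 (iv D5227) (iv F23871)
theorem F29555 : act 4 n6174 = n4930 := d33_1 D6174 (iv D4930) (iv F23872)
theorem F29556 : act 6 n6174 = n6174 := d40_1 D6174 (iv D6174) F23873
theorem F29557 : act 9 n6174 = n6174 := d44_2 D4928 D6174 (iv D6174) (iv D4928) F18778
def n6175 : Q := act 8 n4929
theorem D6175 : act 8 n4929 = n6175 := rfl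
theorem F29558 : act 1 n6175 = n4939 := d15_1 D6175 (iv D4939) (iv F23874)
theorem F29559 : act 2 n6175 = n5228 := d22_1 D6175 (iv D5228) (iv F23875)
theorem F29560 : act 3 n6175 = n6175 := d28_1 D6175 (iv D6175) F23876
theorem F29561 : act 7 n6175 = n4930 := d42_1 D6175 (iv D4930) (iv F23878)
theorem F29562 : act 9 n6175 = n6175 := d44_2 D4929 D6175 (iv D6175) (iv D4929) F18783
def n6176 : Q := act 5 n4930
theorem D6176 : act 5 n4930 = n6176 := rfl
theorem F29563 : act 1 n6176 = n4940 := d12_1 D6176 (iv D4940) (iv F23879)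
theorem F29564 : act 2 n6176 = n5229 := d19_1 D6176 (iv D5229) (iv F23880)
theorem F29565 : act 3 n6176 = n6176 := d25_1 D6176 (iv D6176) F23881
theorem F29566 : act 8 n6176 = n4932 := d37_2 D4930 D6176 (iv D4932) (iv D3922) (iv F18787)
theorem F29567 : act 9 n6176 = n6176 := d38_2 F23883 D6176 (iv D6176)
def n6177 : Q := act 5 n4931
theorem D6177 : act 5 n4931 = n6177 := rfl
theorem F29568 : act 1 n6177 = n4941 := d12_1 D6177 (iv D4941) (iv F23884)
theorem F29569 : act 2 n6177 = n5230 := d19_1 D6177 (iv D5230) (iv F23885)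
theorem F29570 : act 3 n6177 = n6177 := d25_1 D6177 (iv D6177) F23886
theorem F29571 : act 7 n6177 = n4932 := d36_2 (iv F23888) D6177 (iv D4932)
theorem F29572 : act 9 n6177 = n4981 := d38_2 (iv F23889) D6177 (iv D4981)
def n6178 : Q := act 4 n4932
theorem D6178 : act 4 n4932 = n6178 := rfl
theorem F29573 : act 1 n6178 = n4942 := d11_1 D6178 (iv D4942) (iv F23890)
theorem F29574 : act 2 n6178 = n5231 := d18_1 D6178 (iv D5231) (iv F23891)
theorem F29575 : act 9 n6178 = n4982 := d34_2 (iv F23893) D6178 (iv D4982)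
def n6179 : Q := act 6 n4932
theorem D6179 : act 6 n4932 = n6179 := rfl
theorem F29576 : act 1 n6179 = n4943 := d13_1 D6179 (iv D4943) (iv F23890)
theorem F29577 : act 2 n6179 = n5232 := d20_1 D6179 (iv D5232) (iv F23891)
theorem F29578 : act 3 n6179 = n6179 := d26_1 D6179 (iv D6179) F23892
theorem F29579 : act 5 n6179 = n4934 := d35_1 D6179 (iv D4934) (iv D3923) (iv F18797) D4932
theorem F29580 : act 9 n6179 = n4983 := d41_2 (iv F23893) D6179 (iv D4983)
def n6180 : Q := act 3 n4933
theorem D6180 : act 3 n4933 = n6180 := rfl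
theorem F29581 : act 1 n6180 = n4944 := d10_1 D6180 (iv D4944) (iv F23894)
theorem F29582 : act 4 n6180 = n6180 := d24_2 D4933 D6180 (iv D6180) (iv D4933) F18801
theorem F29583 : act 7 n6180 = n6180 := d27_2 F23896 D6180 (iv D6180)
theorem F29584 : act 8 n6180 = n6180 := d28_2 F23897 D6180 (iv D6180)
theorem F29585 : act 9 n6180 = n4984 := d29_2 (iv F23898) D6180 (iv D4984)
def n6181 : Q := act 6 n4933
theorem D6181 : act 6 n4933 = n6181 := rfl
theorem F29586 : act 1 n6181 = n4945 := d13_1 D6181 (iv D4945) (iv F23894)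
theorem F29587 : act 2 n6181 = n5234 := d20_1 D6181 (iv D5234) (iv F23895)
theorem F29588 : act 4 n6181 = n4934 := d31_1 D6181 (iv D4934) D4933
def n6182 : Q := act 7 n4934
theorem D6182 : act 7 n4934 = n6182 := rfl
theorem F29591 : act 1 n6182 = n4946 := d14_1 D6182 (iv D4946) (iv F23899)
theorem F29592 : act 2 n6182 = n5235 := d21_1 D6182 (iv D5235) (iv F23900)
def n6183 : Q := act 8 n4935
theorem D6183 : act 8 n4935 = n6183 := rfl
theorem F29597 : act 2 n6183 = n6183 := d22_1 D6183 (iv D6183) F23904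
theorem F29598 : act 3 n6183 = n4937 := d28_1 D6183 (iv D4937) (iv F23905)
theorem F29599 : act 4 n6183 = n6183 := d33_1 D6183 (iv D6183) F23906
theorem F29600 : act 6 n6183 = n6183 := d40_1 D6183 (iv D6183) F23907
theorem F29601 : act 9 n6183 = n6183 := d44_2 D4935 D6183 (iv D6183) (iv D4935) F18808
def n6184 : Q := act 8 n4936
theorem D6184 : act 8 n4936 = n6184 := rfl
theorem F29602 : act 2 n6184 = n4948 := d22_1 D6184 (iv D4948) (iv F23908)
theorem F29603 : act 4 n6184 = n4939 := d33_1 D6184 (iv D4939) (iv F23909)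
theorem F29604 : act 7 n6184 = n4937 := d42_1 D6184 (iv D4937) (iv F23910)
theorem F29605 : act 9 n6184 = n6184 := d44_2 D4936 D6184 (iv D6184) (iv D4936) F18811
def n6185 : Q := act 5 n4937
theorem D6185 : act 5 n4937 = n6185 := rfl
theorem F29606 : act 2 n6185 = n4949 := d19_1 D6185 (iv D4949) (iv F23911)
theorem F29607 : act 9 n6185 = n6185 := d38_2 F23914 D6185 (iv D6185)
def n6186 : Q := act 8 n4938
theorem D6186 : act 8 n4938 = n6186 := rfl
theorem F29608 : act 2 n6186 = n4950 := d22_1 D6186 (iv D4950) (iv F23915)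
theorem F29609 : act 3 n6186 = n6186 := d28_1 D6186 (iv D6186) F23916
theorem F29610 : act 6 n6186 = n4939 := d40_1 D6186 (iv D4939) (iv F23918)
theorem F29611 : act 7 n6186 = n6186 := d42_1 D6186 (iv D6186) F23919
theorem F29612 : act 9 n6186 = n6186 := d44_2 D4938 D6186 (iv D6186) (iv D4938) F18819
def n6187 : Q := act 5 n4939
theorem D6187 : act 5 n4939 = n6187 := rfl
theorem F29613 : act 2 n6187 = n4951 := d19_1 D6187 (iv D4951) (iv F23920)
theorem F29614 : act 3 n6187 = n6187 := d25_1 D6187 (iv D6187) F23921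
theorem F29615 : act 7 n6187 = n4940 := d36_2 (iv F23922) D6187 (iv D4940)
theorem F29616 : act 8 n6187 = n4941 := d37_2 D4939 D6187 (iv D4941) (iv D3930) (iv F18822)
theorem F29617 : act 9 n6187 = n6187 := d38_2 F23923 D6187 (iv D6187)
def n6188 : Q := act 4 n4940
theorem D6188 : act 4 n4940 = n6188 := rfl
theorem F29618 : act 2 n6188 = n4952 := d18_1 D6188 (iv D4952) (iv F23924)
theorem F29619 : act 8 n6188 = n4942 := d33_2 (iv F23926) D6188 (iv D4942)
theorem F29620 : act 9 n6188 = n6188 := d34_2 F23927 D6188 (iv D6188)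
def n6189 : Q := act 6 n4940
theorem D6189 : act 6 n4940 = n6189 := rfl
theorem F29621 : act 2 n6189 = n4953 := d20_1 D6189 (iv D4953) (iv F23924)
theorem F29622 : act 3 n6189 = n6189 := d26_1 D6189 (iv D6189) F23925
theorem F29623 : act 5 n6189 = n6189 := d35_1 D6189 (iv D6189) (iv D4940) F18826 D4940
theorem F29624 : act 8 n6189 = n4943 := d40_2 (iv F23926) D6189 (iv D4943)
theorem F29625 : act 9 n6189 = n6189 := d41_2 F23927 D6189 (iv D6189)
def n6190 : Q := act 4 n4941
theorem D6190 : act 4 n4941 = n6190 := rfl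
theorem F29626 : act 2 n6190 = n4954 := d18_1 D6190 (iv D4954) (iv F23928)
theorem F29627 : act 7 n6190 = n4942 := d32_2 (iv F23930) D6190 (iv D4942)
theorem F29628 : act 9 n6190 = n4987 := d34_2 (iv F23931) D6190 (iv D4987)
def n6191 : Q := act 6 n4941
theorem D6191 : act 6 n4941 = n6191 := rfl
theorem F29629 : act 2 n6191 = n4955 := d20_1 D6191 (iv D4955) (iv F23928)
theorem F29630 : act 3 n6191 = n6191 := d26_1 D6191 (iv D6191) F23929
theorem F29631 : act 5 n6191 = n6191 := d35_1 D6191 (iv D6191) (iv D4941) F18830 D4941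
theorem F29632 : act 9 n6191 = n4988 := d41_2 (iv F23931) D6191 (iv D4988)
def n6192 : Q := act 3 n4942
theorem D6192 : act 3 n4942 = n6192 := rfl
theorem F29633 : act 4 n6192 = n6192 := d24_2 D4942 D6192 (iv D6192) (iv D4942) F18834
theorem F29634 : act 9 n6192 = n4989 := d29_2 (iv F23933) D6192 (iv D4989)
def n6193 : Q := act 6 n4942
theorem D6193 : act 6 n4942 = n6193 := rfl
theorem F29635 : act 2 n6193 = n4957 := d20_1 D6193 (iv D4957) (iv F23932)
theorem F29636 : act 4 n6193 = n4943 := d31_1 D6193 (iv D4943) D4942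
theorem F29637 : act 9 n6193 = n4990 := d41_2 (iv F23933) D6193 (iv D4990)
def n6194 : Q := act 7 n4943
theorem D6194 : act 7 n4943 = n6194 := rfl
theorem F29638 : act 2 n6194 = n4958 := d21_1 D6194 (iv D4958) (iv F23934)
theorem F29639 : act 3 n6194 = n6194 := d27_1 D6194 (iv D6194) F23935
theorem F29640 : act 5 n6194 = n4946 := d36_1 D6194 (iv D4946) (iv F23936)
theorem F29641 : act 9 n6194 = n4991 := d43_2 (iv F23937) D6194 (iv D4991)
def n6195 : Q := act 6 n4944
theorem D6195 : act 6 n4944 = n6195 := rfl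
theorem F29642 : act 2 n6195 = n6195 := d20_1 D6195 (iv D6195) F23938
theorem F29643 : act 3 n6195 = n4945 := d26_1 D6195 (iv D4945) D4944
theorem F29644 : act 4 n6195 = n6195 := d31_1 D6195 (iv D6195) F23939
theorem F29645 : act 8 n6195 = n6195 := d40_2 F23941 D6195 (iv D6195)
theorem F29646 : act 9 n6195 = n4992 := d41_2 (iv F23942) D6195 (iv D4992)
def n6196 : Q := act 5 n4945
theorem D6196 : act 5 n4945 = n6196 := rfl
theorem F29647 : act 2 n6196 = n4959 := d19_1 D6196 (iv D4959) (iv F23943)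
theorem F29648 : act 9 n6196 = n4993 := d38_2 (iv F23946) D6196 (iv D4993)
def n6197 : Q := act 7 n4945
theorem D6197 : act 7 n4945 = n6197 := rfl
theorem F29650 : act 4 n6197 = n4946 := d32_1 D6197 (iv D4946) (iv F23944)
def n6198 : Q := act 8 n4947
theorem D6198 : act 8 n4947 = n6198 := rfl
theorem F29654 : act 1 n6198 = n5251 := d15_1 D6198 (iv D5251) (iv F23952)
theorem F29655 : act 3 n6198 = n6198 := d28_1 D6198 (iv D6198) F23953
theorem F29656 : act 4 n6198 = n4950 := d33_1 D6198 (iv D4950) (iv F23954)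
theorem F29657 : act 6 n6198 = n4948 := d40_1 D6198 (iv D4948) (iv F23955)
theorem F29658 : act 7 n6198 = n6198 := d42_1 D6198 (iv D6198) F23956
theorem F29659 : act 9 n6198 = n6198 := d44_2 D4947 D6198 (iv D6198) (iv D4947) F18848
def n6199 : Q := act 5 n4948
theorem D6199 : act 5 n4948 = n6199 := rfl
theorem F29660 : act 1 n6199 = n5252 := d12_1 D6199 (iv D5252) (iv F23957)
theorem F29661 : act 3 n6199 = n6199 := d25_1 D6199 (iv D6199) F23958
theorem F29662 : act 7 n6199 = n4949 := d36_2 (iv F23960) D6199 (iv D4949)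
theorem F29663 : act 9 n6199 = n6199 := d38_2 F23961 D6199 (iv D6199)
def n6200 : Q := act 4 n4949
theorem D6200 : act 4 n4949 = n6200 := rfl
theorem F29664 : act 1 n6200 = n5253 := d11_1 D6200 (iv D5253) (iv F23962)
theorem F29665 : act 5 n6200 = n4952 := d30_2 D4949 D6200 (iv D4952) (iv D3939) (iv F18855)
theorem F29666 : act 9 n6200 = n6200 := d34_2 F23964 D6200 (iv D6200)
def n6201 : Q := act 6 n4949
theorem D6201 : act 6 n4949 = n6201 := rfl
theorem F29667 : act 1 n6201 = n5254 := d13_1 D6201 (iv D5254) (iv F23962)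
theorem F29668 : act 3 n6201 = n6201 := d26_1 D6201 (iv D6201) F23963
theorem F29669 : act 5 n6201 = n6201 := d35_1 D6201 (iv D6201) (iv D4949) F18856 D4949
theorem F29670 : act 9 n6201 = n6201 := d41_2 F23964 D6201 (iv D6201)
def n6202 : Q := act 5 n4950
theorem D6202 : act 5 n4950 = n6202 := rfl
theorem F29671 : act 1 n6202 = n5255 := d12_1 D6202 (iv D5255) (iv F23965)
theorem F29672 : act 3 n6202 = n4961 := d25_1 D6202 (iv D4961) (iv F23966)
theorem F29673 : act 7 n6202 = n6202 := d36_2 F23968 D6202 (iv D6202)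
theorem F29674 : act 8 n6202 = n6202 := d37_2 D4950 D6202 (iv D6202) (iv D4950) F18860
theorem F29675 : act 9 n6202 = n6202 := d38_2 F23969 D6202 (iv D6202)
def n6203 : Q := act 4 n4951
theorem D6203 : act 4 n4951 = n6203 := rfl
theorem F29676 : act 1 n6203 = n5256 := d11_1 D6203 (iv D5256) (iv F23970)
theorem F29677 : act 7 n6203 = n4952 := d32_2 (iv F23972) D6203 (iv D4952)
theorem F29678 : act 8 n6203 = n4954 := d33_2 (iv F23973) D6203 (iv D4954)
theorem F29679 : act 9 n6203 = n6203 := d34_2 F23974 D6203 (iv D6203)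
def n6204 : Q := act 6 n4951
theorem D6204 : act 6 n4951 = n6204 := rfl
theorem F29680 : act 1 n6204 = n5257 := d13_1 D6204 (iv D5257) (iv F23970)
theorem F29681 : act 3 n6204 = n4963 := d26_1 D6204 (iv D4963) (iv F23971)
theorem F29682 : act 8 n6204 = n4955 := d40_2 (iv F23973) D6204 (iv D4955)
theorem F29683 : act 9 n6204 = n6204 := d41_2 F23974 D6204 (iv D6204)
def n6205 : Q := act 3 n4952
theorem D6205 : act 3 n4952 = n6205 := rfl
theorem F29684 : act 1 n6205 = n5258 := d10_1 D6205 (iv D5258) (iv F23975)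
theorem F29685 : act 4 n6205 = n4964 := d24_2 D4952 D6205 (iv D4964) (iv D3947) (iv F18868)
theorem F29686 : act 8 n6205 = n4956 := d28_2 (iv F23976) D6205 (iv D4956)
theorem F29687 : act 9 n6205 = n6205 := d29_2 F23977 D6205 (iv D6205)
def n6206 : Q := act 6 n4952
theorem D6206 : act 6 n4952 = n6206 := rfl
theorem F29688 : act 1 n6206 = n5259 := d13_1 D6206 (iv D5259) (iv F23975)
theorem F29689 : act 4 n6206 = n4953 := d31_1 D6206 (iv D4953) D4952
theorem F29690 : act 8 n6206 = n4957 := d40_2 (iv F23976) D6206 (iv D4957)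
theorem F29691 : act 9 n6206 = n6206 := d41_2 F23977 D6206 (iv D6206)
def n6207 : Q := act 7 n4953
theorem D6207 : act 7 n4953 = n6207 := rfl
theorem F29692 : act 1 n6207 = n5260 := d14_1 D6207 (iv D5260) (iv F23978)
theorem F29693 : act 3 n6207 = n4966 := d27_1 D6207 (iv D4966) (iv F23979)
theorem F29694 : act 5 n6207 = n6207 := d36_1 D6207 (iv D6207) F23980
theorem F29695 : act 8 n6207 = n4958 := d42_2 (iv F23981) D6207 (iv D4958)
theorem F29696 : act 9 n6207 = n6207 := d43_2 F23982 D6207 (iv D6207)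
def n6208 : Q := act 3 n4954
theorem D6208 : act 3 n4954 = n6208 := rfl
theorem F29697 : act 1 n6208 = n5261 := d10_1 D6208 (iv D5261) (iv F23983)
theorem F29698 : act 4 n6208 = n4967 := d24_2 D4954 D6208 (iv D4967) (iv D3949) (iv F18872)
theorem F29699 : act 7 n6208 = n4956 := d27_2 (iv F23984) D6208 (iv D4956)
theorem F29700 : act 9 n6208 = n4995 := d29_2 (iv F23985) D6208 (iv D4995)
def n6209 : Q := act 6 n4954
theorem D6209 : act 6 n4954 = n6209 := rfl
theorem F29701 : act 1 n6209 = n5262 := d13_1 D6209 (iv D5262) (iv F23983)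
theorem F29702 : act 4 n6209 = n4955 := d31_1 D6209 (iv D4955) D4954
theorem F29703 : act 9 n6209 = n4996 := d41_2 (iv F23985) D6209 (iv D4996)
def n6210 : Q := act 7 n4955
theorem D6210 : act 7 n4955 = n6210 := rfl
theorem F29704 : act 1 n6210 = n5263 := d14_1 D6210 (iv D5263) (iv F23986)
theorem F29705 : act 3 n6210 = n4969 := d27_1 D6210 (iv D4969) (iv F23987)
theorem F29706 : act 5 n6210 = n6210 := d36_1 D6210 (iv D6210) F23988
theorem F29707 : act 6 n6210 = n4958 := d39_1 D6210 (iv D4958) (iv D3942) (iv F18873) D4955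
theorem F29708 : act 9 n6210 = n4997 := d43_2 (iv F23989) D6210 (iv D4997)
def n6211 : Q := act 2 n4956
theorem D6211 : act 2 n4956 = n6211 := rfl
theorem F29709 : act 4 n6211 = n4970 := d18_2 (iv F23991) D6211 (iv D4970)
theorem F29710 : act 9 n6211 = n4998 := d23_2 (iv F23992) D6211 (iv D4998)
def n6212 : Q := act 6 n4956
theorem D6212 : act 6 n4956 = n6212 := rfl
theorem F29711 : act 1 n6212 = n5265 := d13_1 D6212 (iv D5265) (iv F23990)
theorem F29712 : act 3 n6212 = n4957 := d26_1 D6212 (iv D4957) D4956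
theorem F29713 : act 4 n6212 = n4971 := d31_1 D6212 (iv D4971) (iv F23991)
theorem F29714 : act 9 n6212 = n4999 := d41_2 (iv F23992) D6212 (iv D4999)
def n6213 : Q := act 5 n4957
theorem D6213 : act 5 n4957 = n6213 := rfl
theorem F29715 : act 1 n6213 = n5266 := d12_1 D6213 (iv D5266) (iv F23993)
theorem F29716 : act 4 n6213 = n4959 := d30_1 D6213 (iv D4959) F18883 (iv F18879) (iv F23994)
theorem F29717 : act 9 n6213 = n5000 := d38_2 (iv F23995) D6213 (iv D5000)
def n6214 : Q := act 7 n4957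
theorem D6214 : act 7 n4957 = n6214 := rfl
theorem F29718 : act 1 n6214 = n5267 := d14_1 D6214 (iv D5267) (iv F23993)
theorem F29719 : act 4 n6214 = n4958 := d32_1 D6214 (iv D4958) (iv F23994)
theorem F29720 : act 9 n6214 = n5001 := d43_2 (iv F23995) D6214 (iv D5001)
def n6215 : Q := act 7 n4959
theorem D6215 : act 7 n4959 = n6215 := rfl
theorem F29721 : act 1 n6215 = n5268 := d14_1 D6215 (iv D5268) (iv F24000)
theorem F29722 : act 3 n6215 = n6215 := d27_1 D6215 (iv D6215) F24001
theorem F29723 : act 5 n6215 = n4960 := d36_1 D6215 (iv D4960) D4959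
theorem F29724 : act 9 n6215 = n5002 := d43_2 (iv F24002) D6215 (iv D5002)
def n6216 : Q := act 8 n4959
theorem D6216 : act 8 n4959 = n6216 := rfl
theorem F29725 : act 1 n6216 = n5269 := d15_1 D6216 (iv D5269) (iv F24000)
theorem F29726 : act 3 n6216 = n6216 := d28_1 D6216 (iv D6216) F24001
theorem F29727 : act 5 n6216 = n6216 := d37_1 D6216 (iv D6216) (iv D4959) F18884 D4959
def n6217 : Q := act 4 n4961
theorem D6217 : act 4 n4961 = n6217 := rfl
theorem F29728 : act 1 n6217 = n5270 := d11_1 D6217 (iv D5270) (iv F24009)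
theorem F29729 : act 2 n6217 = n6217 := d18_1 D6217 (iv D6217) F24010
theorem F29730 : act 5 n6217 = n6217 := d30_2 D4961 D6217 (iv D6217) (iv D4961) F18893
theorem F29731 : act 7 n6217 = n6217 := d32_2 F24011 D6217 (iv D6217)
theorem F29732 : act 8 n6217 = n6217 := d33_2 F24012 D6217 (iv D6217)
theorem F29733 : act 9 n6217 = n6217 := d34_2 F24013 D6217 (iv D6217)
def n6218 : Q := act 6 n4961
theorem D6218 : act 6 n4961 = n6218 := rfl
theorem F29734 : act 1 n6218 = n5271 := d13_1 D6218 (iv D5271) (iv F24009)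
theorem F29735 : act 2 n6218 = n6218 := d20_1 D6218 (iv D6218) F24010
theorem F29736 : act 5 n6218 = n4963 := d35_1 D6218 (iv D4963) (iv D3946) (iv F18894) D4961
theorem F29737 : act 8 n6218 = n6218 := d40_2 F24012 D6218 (iv D6218)
theorem F29738 : act 9 n6218 = n6218 := d41_2 F24013 D6218 (iv D6218)
def n6219 : Q := act 3 n4962
theorem D6219 : act 3 n4962 = n6219 := rfl
theorem F29740 : act 5 n6219 = n6219 := d25_2 F24016 D6219 (iv D6219)
theorem F29741 : act 7 n6219 = n4964 := d27_2 (iv F24017) D6219 (iv D4964)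
theorem F29742 : act 8 n6219 = n4967 := d28_2 (iv F24018) D6219 (iv D4967)
theorem F29743 : act 9 n6219 = n6219 := d29_2 F24019 D6219 (iv D6219)
def n6220 : Q := act 6 n4962
theorem D6220 : act 6 n4962 = n6220 := rfl
theorem F29746 : act 4 n6220 = n4963 := d31_1 D6220 (iv D4963) D4962
theorem F29747 : act 8 n6220 = n4968 := d40_2 (iv F24018) D6220 (iv D4968)
def n6221 : Q := act 7 n4963
theorem D6221 : act 7 n4963 = n6221 := rfl
theorem F29749 : act 1 n6221 = n5274 := d14_1 D6221 (iv D5274) (iv F24020)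
theorem F29750 : act 2 n6221 = n6221 := d21_1 D6221 (iv D6221) F24021
theorem F29751 : act 6 n6221 = n4966 := d39_1 D6221 (iv D4966) (iv D3948) (iv F18899) D4963
theorem F29752 : act 8 n6221 = n4969 := d42_2 (iv F24022) D6221 (iv D4969)
theorem F29753 : act 9 n6221 = n6221 := d43_2 F24023 D6221 (iv D6221)
def n6222 : Q := act 2 n4964
theorem D6222 : act 2 n4964 = n6222 := rfl
theorem F29754 : act 3 n6222 = n6222 := d17_2 D4964 D6222 (iv D6222) (iv D4964) F18903
theorem F29755 : act 5 n6222 = n6222 := d19_2 F24025 D6222 (iv D6222)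
theorem F29756 : act 8 n6222 = n4970 := d22_2 (iv F24026) D6222 (iv D4970)
theorem F29757 : act 9 n6222 = n6222 := d23_2 F24027 D6222 (iv D6222)
def n6223 : Q := act 6 n4964
theorem D6223 : act 6 n4964 = n6223 := rfl
theorem F29758 : act 1 n6223 = n5276 := d13_1 D6223 (iv D5276) (iv F24024)
theorem F29759 : act 3 n6223 = n4965 := d26_1 D6223 (iv D4965) D4964
theorem F29760 : act 8 n6223 = n4971 := d40_2 (iv F24026) D6223 (iv D4971)
theorem F29761 : act 9 n6223 = n6223 := d41_2 F24027 D6223 (iv D6223)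
def n6224 : Q := act 5 n4965
theorem D6224 : act 5 n4965 = n6224 := rfl
theorem F29762 : act 1 n6224 = n5277 := d12_1 D6224 (iv D5277) (iv F24028)
theorem F29763 : act 2 n6224 = n6224 := d19_1 D6224 (iv D6224) F24029
theorem F29764 : act 4 n6224 = n6224 := d30_1 D6224 (iv D6224) F24030 F18909 (iv F24030)
theorem F29765 : act 6 n6224 = n6224 := d35_2 D4965 D6224 (iv D6224) (iv D4965) F18904
theorem F29766 : act 8 n6224 = n6224 := d37_2 (iv F24031) D6224 (iv D6224) F24031 F18927
theorem F29767 : act 9 n6224 = n6224 := d38_2 F24032 D6224 (iv D6224)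
def n6225 : Q := act 7 n4965
theorem D6225 : act 7 n4965 = n6225 := rfl
theorem F29768 : act 1 n6225 = n5278 := d14_1 D6225 (iv D5278) (iv F24028)
theorem F29769 : act 2 n6225 = n6225 := d21_1 D6225 (iv D6225) F24029
theorem F29770 : act 4 n6225 = n4966 := d32_1 D6225 (iv D4966) (iv F24030)
theorem F29771 : act 8 n6225 = n4972 := d42_2 (iv F24031) D6225 (iv D4972)
theorem F29772 : act 9 n6225 = n6225 := d43_2 F24032 D6225 (iv D6225)
def n6226 : Q := act 2 n4967
theorem D6226 : act 2 n4967 = n6226 := rfl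
theorem F29774 : act 5 n6226 = n4973 := d19_2 (iv F24039) D6226 (iv D4973)
theorem F29775 : act 7 n6226 = n4970 := d21_2 (iv F24040) D6226 (iv D4970)
def n6227 : Q := act 6 n4967
theorem D6227 : act 6 n4967 = n6227 := rfl
theorem F29777 : act 1 n6227 = n5280 := d13_1 D6227 (iv D5280) (iv F24038)
def n6228 : Q := act 5 n4968
theorem D6228 : act 5 n4968 = n6228 := rfl
theorem F29783 : act 6 n6228 = n4975 := d35_2 D4968 D6228 (iv D4975) (iv D3955) (iv F18914)
def n6229 : Q := act 7 n4968
theorem D6229 : act 7 n4968 = n6229 := rfl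
theorem F29787 : act 4 n6229 = n4969 := d32_1 D6229 (iv D4969) (iv F24044)
theorem F29788 : act 6 n6229 = n4972 := d39_1 D6229 (iv D4972) (iv D3952) (iv F18915) D4968
def n6230 : Q := act 1 n4970
theorem D6230 : act 1 n4970 = n6230 := rfl
def n6231 : Q := act 6 n4970
theorem D6231 : act 6 n4970 = n6231 := rfl
theorem F29794 : act 2 n6231 = n4971 := d20_1 D6231 (iv D4971) D4970
theorem F29795 : act 3 n6231 = n6231 := d26_1 D6231 (iv D6231) F24051
theorem F29796 : act 5 n6231 = n6231 := d35_1 D6231 (iv D6231) F24052 F18944 (iv F24052)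
theorem F29797 : act 9 n6231 = n5009 := d41_2 (iv F24053) D6231 (iv D5009)
def n6232 : Q := act 7 n4971
theorem D6232 : act 7 n4971 = n6232 := rfl
theorem F29799 : act 3 n6232 = n4972 := d27_1 D6232 (iv D4972) (iv F24055)
theorem F29800 : act 5 n6232 = n6232 := d36_1 D6232 (iv D6232) F24056
theorem F29801 : act 9 n6232 = n5010 := d43_2 (iv F24057) D6232 (iv D5010)
def n6233 : Q := act 1 n4973
theorem D6233 : act 1 n4973 = n6233 := rfl
theorem F29802 : act 2 n6233 = n5286 := d9_2 D4973 D6233 (iv D5286) (iv D4238) (iv F18933)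
theorem F29804 : act 7 n6233 = n4976 := d14_2 (iv F24064) D6233 (iv D4976)
def n6234 : Q := act 6 n4973
theorem D6234 : act 6 n4973 = n6234 := rfl
def n6235 : Q := act 5 n4974
theorem D6235 : act 5 n4974 = n6235 := rfl
theorem F29812 : act 1 n6235 = n5288 := d12_1 D6235 (iv D5288) (iv F24067)
def n6236 : Q := act 8 n4975
theorem D6236 : act 8 n4975 = n6236 := rfl
theorem F29816 : act 1 n6236 = n5289 := d15_1 D6236 (iv D5289) (iv F24072)
def n6238 : Q := act 5 n4977
theorem D6238 : act 5 n4977 = n6238 := rfl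
theorem F29826 : act 0 n6238 = n4981 := d4_1 D6238 (iv D4981) (iv F24082)
theorem F29827 : act 2 n6238 = n5291 := d19_1 D6238 (iv D5291) (iv F24083)
theorem F29828 : act 3 n6238 = n6238 := d25_1 D6238 (iv D6238) F24084
theorem F29829 : act 7 n6238 = n4978 := d36_2 (iv F24086) D6238 (iv D4978)
theorem F29830 : act 8 n6238 = n6238 := d37_2 D4977 D6238 (iv D6238) (iv D4977) F18950
def n6239 : Q := act 4 n4978
theorem D6239 : act 4 n4978 = n6239 := rfl
theorem F29831 : act 0 n6239 = n4982 := d3_1 D6239 (iv D4982) (iv F24087)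
theorem F29832 : act 2 n6239 = n5292 := d18_1 D6239 (iv D5292) (iv F24088)
theorem F29833 : act 8 n6239 = n6239 := d33_2 F24090 D6239 (iv D6239)
def n6240 : Q := act 6 n4978
theorem D6240 : act 6 n4978 = n6240 := rfl
theorem F29834 : act 0 n6240 = n4983 := d5_1 D6240 (iv D4983) (iv F24087)
theorem F29835 : act 2 n6240 = n5293 := d20_1 D6240 (iv D5293) (iv F24088)
theorem F29837 : act 5 n6240 = n4980 := d35_1 D6240 (iv D4980) (iv D3959) (iv F18956) D4978
def n6241 : Q := act 3 n4979
theorem D6241 : act 3 n4979 = n6241 := rfl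
theorem F29839 : act 0 n6241 = n4984 := d2_1 D6241 (iv D4984) (iv F24091)
theorem F29842 : act 8 n6241 = n5021 := d28_2 (iv F24094) D6241 (iv D5021)
def n6242 : Q := act 6 n4979
theorem D6242 : act 6 n4979 = n6242 := rfl
theorem F29843 : act 0 n6242 = n4985 := d5_1 D6242 (iv D4985) (iv F24091)
theorem F29844 : act 2 n6242 = n5295 := d20_1 D6242 (iv D5295) (iv F24092)
theorem F29845 : act 4 n6242 = n4980 := d31_1 D6242 (iv D4980) D4979
theorem F29846 : act 8 n6242 = n5022 := d40_2 (iv F24094) D6242 (iv D5022)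
def n6243 : Q := act 7 n4980
theorem D6243 : act 7 n4980 = n6243 := rfl
theorem F29848 : act 2 n6243 = n5296 := d21_1 D6243 (iv D5296) (iv F24096)
theorem F29851 : act 8 n6243 = n5023 := d42_2 (iv F24098) D6243 (iv D5023)
def n6244 : Q := act 4 n4981
theorem D6244 : act 4 n4981 = n6244 := rfl
theorem F29852 : act 1 n6244 = n4987 := d11_1 D6244 (iv D4987) (iv F24099)
theorem F29853 : act 2 n6244 = n5297 := d18_1 D6244 (iv D5297) (iv F24100)
theorem F29854 : act 7 n6244 = n4982 := d32_2 (iv F24102) D6244 (iv D4982)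
theorem F29855 : act 8 n6244 = n6244 := d33_2 F24103 D6244 (iv D6244)
def n6245 : Q := act 6 n4981
theorem D6245 : act 6 n4981 = n6245 := rfl
theorem F29856 : act 1 n6245 = n4988 := d13_1 D6245 (iv D4988) (iv F24099)
theorem F29857 : act 2 n6245 = n5298 := d20_1 D6245 (iv D5298) (iv F24100)
theorem F29858 : act 3 n6245 = n6245 := d26_1 D6245 (iv D6245) F24101
theorem F29859 : act 5 n6245 = n6245 := d35_1 D6245 (iv D6245) (iv D4981) F18965 D4981
theorem F29860 : act 8 n6245 = n6245 := d40_2 F24103 D6245 (iv D6245)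
def n6246 : Q := act 3 n4982
theorem D6246 : act 3 n4982 = n6246 := rfl
theorem F29861 : act 1 n6246 = n4989 := d10_1 D6246 (iv D4989) (iv F24104)
theorem F29862 : act 4 n6246 = n6246 := d24_2 D4982 D6246 (iv D6246) (iv D4982) F18969
theorem F29863 : act 8 n6246 = n6246 := d28_2 F24106 D6246 (iv D6246)
def n6247 : Q := act 6 n4982
theorem D6247 : act 6 n4982 = n6247 := rfl
theorem F29864 : act 1 n6247 = n4990 := d13_1 D6247 (iv D4990) (iv F24104)
theorem F29865 : act 2 n6247 = n5300 := d20_1 D6247 (iv D5300) (iv F24105)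
theorem F29866 : act 4 n6247 = n4983 := d31_1 D6247 (iv D4983) D4982
theorem F29867 : act 8 n6247 = n6247 := d40_2 F24106 D6247 (iv D6247)
def n6248 : Q := act 7 n4983
theorem D6248 : act 7 n4983 = n6248 := rfl
theorem F29868 : act 1 n6248 = n4991 := d14_1 D6248 (iv D4991) (iv F24107)
theorem F29869 : act 2 n6248 = n5301 := d21_1 D6248 (iv D5301) (iv F24108)
def n6249 : Q := act 2 n4984
theorem D6249 : act 2 n4984 = n6249 := rfl
theorem F29874 : act 3 n6249 = n5302 := d17_2 D4984 D6249 (iv D5302) (iv D4249) (iv F18972)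
theorem F29877 : act 8 n6249 = n5024 := d22_2 (iv F24115) D6249 (iv D5024)
def n6250 : Q := act 6 n4984
theorem D6250 : act 6 n4984 = n6250 := rfl
theorem F29878 : act 1 n6250 = n4992 := d13_1 D6250 (iv D4992) (iv F24112)
theorem F29879 : act 3 n6250 = n4985 := d26_1 D6250 (iv D4985) D4984
theorem F29881 : act 8 n6250 = n5025 := d40_2 (iv F24115) D6250 (iv D5025)
def n6251 : Q := act 5 n4985
theorem D6251 : act 5 n4985 = n6251 := rfl
theorem F29882 : act 1 n6251 = n4993 := d12_1 D6251 (iv D4993) (iv F24116)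
theorem F29883 : act 2 n6251 = n5304 := d19_1 D6251 (iv D5304) (iv F24117)
def n6252 : Q := act 7 n4985
theorem D6252 : act 7 n4985 = n6252 := rfl
theorem F29884 : act 1 n6252 = n4994 := d14_1 D6252 (iv D4994) (iv F24116)
theorem F29885 : act 2 n6252 = n5305 := d21_1 D6252 (iv D5305) (iv F24117)
theorem F29888 : act 8 n6252 = n5027 := d42_2 (iv F24119) D6252 (iv D5027)
def n6253 : Q := act 3 n4987
theorem D6253 : act 3 n4987 = n6253 := rfl
theorem F29889 : act 4 n6253 = n6253 := d24_2 D4987 D6253 (iv D6253) (iv D4987) F18980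
theorem F29890 : act 7 n6253 = n4989 := d27_2 (iv F24126) D6253 (iv D4989)
theorem F29891 : act 8 n6253 = n6253 := d28_2 F24127 D6253 (iv D6253)
def n6254 : Q := act 6 n4987
theorem D6254 : act 6 n4987 = n6254 := rfl
theorem F29892 : act 2 n6254 = n4996 := d20_1 D6254 (iv D4996) (iv F24125)
theorem F29893 : act 4 n6254 = n4988 := d31_1 D6254 (iv D4988) D4987
theorem F29894 : act 8 n6254 = n6254 := d40_2 F24127 D6254 (iv D6254)
def n6255 : Q := act 7 n4988
theorem D6255 : act 7 n4988 = n6255 := rfl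
theorem F29895 : act 2 n6255 = n4997 := d21_1 D6255 (iv D4997) (iv F24128)
theorem F29896 : act 3 n6255 = n6255 := d27_1 D6255 (iv D6255) F24129
theorem F29897 : act 5 n6255 = n6255 := d36_1 D6255 (iv D6255) F24130
theorem F29898 : act 6 n6255 = n4991 := d39_1 D6255 (iv D4991) (iv D3966) (iv F18981) D4988
theorem F29899 : act 8 n6255 = n6255 := d42_2 F24131 D6255 (iv D6255)
def n6256 : Q := act 2 n4989
theorem D6256 : act 2 n4989 = n6256 := rfl
theorem F29900 : act 3 n6256 = n4998 := d17_2 D4989 D6256 (iv D4998) (iv D3972) (iv F18983)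
theorem F29901 : act 4 n6256 = n6256 := d18_2 F24132 D6256 (iv D6256)
theorem F29902 : act 8 n6256 = n6256 := d22_2 F24133 D6256 (iv D6256)
def n6257 : Q := act 6 n4989
theorem D6257 : act 6 n4989 = n6257 := rfl
theorem F29903 : act 3 n6257 = n4990 := d26_1 D6257 (iv D4990) D4989
theorem F29904 : act 4 n6257 = n6257 := d31_1 D6257 (iv D6257) F24132
theorem F29905 : act 8 n6257 = n6257 := d40_2 F24133 D6257 (iv D6257)
def n6258 : Q := act 5 n4990
theorem D6258 : act 5 n4990 = n6258 := rfl
theorem F29906 : act 2 n6258 = n5000 := d19_1 D6258 (iv D5000) (iv F24134)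
theorem F29907 : act 4 n6258 = n4993 := d30_1 D6258 (iv D4993) F18994 (iv F18987) (iv F24135)
def n6259 : Q := act 7 n4990
theorem D6259 : act 7 n4990 = n6259 := rfl
theorem F29908 : act 2 n6259 = n5001 := d21_1 D6259 (iv D5001) (iv F24134)
theorem F29909 : act 4 n6259 = n4991 := d32_1 D6259 (iv D4991) (iv F24135)
theorem F29910 : act 8 n6259 = n6259 := d42_2 F24136 D6259 (iv D6259)
def n6260 : Q := act 5 n4992
theorem D6260 : act 5 n4992 = n6260 := rfl
theorem F29911 : act 2 n6260 = n6260 := d19_1 D6260 (iv D6260) F24141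
theorem F29912 : act 3 n6260 = n4993 := d25_1 D6260 (iv D4993) (iv F24142)
def n6261 : Q := act 7 n4992
theorem D6261 : act 7 n4992 = n6261 := rfl
theorem F29917 : act 8 n6261 = n5029 := d42_2 (iv F24144) D6261 (iv D5029)
def n6262 : Q := act 7 n4993
theorem D6262 : act 7 n4993 = n6262 := rfl
theorem F29919 : act 5 n6262 = n4994 := d36_1 D6262 (iv D4994) D4993
def n6263 : Q := act 8 n4993
theorem D6263 : act 8 n4993 = n6263 := rfl
theorem F29920 : act 2 n6263 = n5003 := d22_1 D6263 (iv D5003) (iv F24145)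
theorem F29921 : act 5 n6263 = n5031 := d37_1 D6263 (iv D5031) (iv D4004) (iv F18995) D4993
def n6264 : Q := act 2 n4995
theorem D6264 : act 2 n4995 = n6264 := rfl
theorem F29922 : act 4 n6264 = n5004 := d18_2 (iv F24151) D6264 (iv D5004)
theorem F29923 : act 7 n6264 = n4998 := d21_2 (iv F24152) D6264 (iv D4998)
def n6265 : Q := act 6 n4995
theorem D6265 : act 6 n4995 = n6265 := rfl
theorem F29925 : act 1 n6265 = n5318 := d13_1 D6265 (iv D5318) (iv F24150)
theorem F29926 : act 3 n6265 = n4996 := d26_1 D6265 (iv D4996) D4995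
theorem F29927 : act 4 n6265 = n5005 := d31_1 D6265 (iv D5005) (iv F24151)
def n6266 : Q := act 5 n4996
theorem D6266 : act 5 n4996 = n6266 := rfl
theorem F29929 : act 1 n6266 = n5319 := d12_1 D6266 (iv D5319) (iv F24154)
theorem F29930 : act 4 n6266 = n6266 := d30_1 D6266 (iv D6266) F24155 F19005 (iv F24155)
def n6267 : Q := act 7 n4996
theorem D6267 : act 7 n4996 = n6267 := rfl
theorem F29932 : act 4 n6267 = n4997 := d32_1 D6267 (iv D4997) (iv F24155)
theorem F29933 : act 6 n6267 = n5001 := d39_1 D6267 (iv D5001) (iv D3973) (iv F19001) D4996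
theorem F29934 : act 8 n6267 = n6267 := d42_2 F24156 D6267 (iv D6267)
def n6268 : Q := act 1 n4998
theorem D6268 : act 1 n4998 = n6268 := rfl
theorem F29935 : act 2 n6268 = n5321 := d9_2 D4998 D6268 (iv D5321) (iv D4263) (iv F19007)
def n6269 : Q := act 6 n4998
theorem D6269 : act 6 n4998 = n6269 := rfl
theorem F29938 : act 2 n6269 = n4999 := d20_1 D6269 (iv D4999) D4998
theorem F29939 : act 4 n6269 = n5009 := d31_1 D6269 (iv D5009) (iv F24162)
theorem F29940 : act 8 n6269 = n6269 := d40_2 F24163 D6269 (iv D6269)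
def n6270 : Q := act 5 n4999
theorem D6270 : act 5 n4999 = n6270 := rfl
theorem F29941 : act 1 n6270 = n5323 := d12_1 D6270 (iv D5323) (iv F24164)
theorem F29942 : act 3 n6270 = n5000 := d25_1 D6270 (iv D5000) (iv F24165)
theorem F29943 : act 4 n6270 = n6270 := d30_1 D6270 (iv D6270) F24166 F19042 (iv F24166)
def n6271 : Q := act 7 n4999
theorem D6271 : act 7 n4999 = n6271 := rfl
theorem F29945 : act 3 n6271 = n5001 := d27_1 D6271 (iv D5001) (iv F24165)
theorem F29946 : act 4 n6271 = n5010 := d32_1 D6271 (iv D5010) (iv F24166)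
theorem F29947 : act 8 n6271 = n6271 := d42_2 F24167 D6271 (iv D6271)
def n6272 : Q := act 7 n5000
theorem D6272 : act 7 n5000 = n6272 := rfl
theorem F29948 : act 1 n6272 = n5325 := d14_1 D6272 (iv D5325) (iv F24168)
theorem F29949 : act 4 n6272 = n5002 := d32_1 D6272 (iv D5002) (iv F24169)
theorem F29950 : act 5 n6272 = n5001 := d36_1 D6272 (iv D5001) D5000
def n6273 : Q := act 8 n5000
theorem D6273 : act 8 n5000 = n6273 := rfl
theorem F29951 : act 1 n6273 = n5326 := d15_1 D6273 (iv D5326) (iv F24168)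
theorem F29952 : act 4 n6273 = n5003 := d33_1 D6273 (iv D5003) (iv F24169)
theorem F29953 : act 5 n6273 = n6273 := d37_1 D6273 (iv D6273) (iv D5000) F19012 D5000
def n6274 : Q := act 6 n5002
theorem D6274 : act 6 n5002 = n6274 := rfl
theorem F29954 : act 1 n6274 = n5327 := d13_1 D6274 (iv D5327) (iv F24173)
theorem F29955 : act 3 n6274 = n6274 := d26_1 D6274 (iv D6274) F24174
theorem F29956 : act 5 n6274 = n6274 := d35_1 D6274 (iv D6274) F24175 F19022 (iv F24175)
def n6275 : Q := act 8 n5002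
theorem D6275 : act 8 n5002 = n6275 := rfl
theorem F29957 : act 1 n6275 = n5328 := d15_1 D6275 (iv D5328) (iv F24173)
theorem F29958 : act 3 n6275 = n6275 := d28_1 D6275 (iv D6275) F24174
theorem F29959 : act 5 n6275 = n5033 := d37_1 D6275 (iv D5033) F19160 (iv F19023) (iv F24175)
theorem F29960 : act 7 n6275 = n5003 := d42_1 D6275 (iv D5003) D5002
def n6276 : Q := act 9 n5003
theorem D6276 : act 9 n5003 = n6276 := rfl
theorem F29961 : act 1 n6276 = n5329 := d16_1 D6276 (iv D5329) (iv F24176)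
theorem F29962 : act 3 n6276 = n6276 := d29_1 D6276 (iv D6276) F24177
theorem F29963 : act 5 n6276 = n5034 := d38_1 D6276 (iv D5034) (iv F24178)
def n6277 : Q := act 1 n5004
theorem D6277 : act 1 n5004 = n6277 := rfl
theorem F29964 : act 2 n6277 = n5330 := d9_2 D5004 D6277 (iv D5330) (iv D4269) (iv F19024)
theorem F29966 : act 5 n6277 = n5011 := d12_2 (iv F24180) D6277 (iv D5011)
theorem F29967 : act 7 n6277 = n5008 := d14_2 (iv F24181) D6277 (iv D5008)
def n6278 : Q := act 6 n5004
theorem D6278 : act 6 n5004 = n6278 := rfl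
theorem F29969 : act 2 n6278 = n5005 := d20_1 D6278 (iv D5005) D5004
def n6279 : Q := act 5 n5005
theorem D6279 : act 5 n5005 = n6279 := rfl
theorem F29972 : act 1 n6279 = n5332 := d12_1 D6279 (iv D5332) (iv F24183)
theorem F29974 : act 6 n6279 = n5013 := d35_2 D5005 D6279 (iv D5013) (iv D3984) (iv F19025)
def n6280 : Q := act 7 n5005
theorem D6280 : act 7 n5005 = n6280 := rfl
theorem F29977 : act 6 n6280 = n5010 := d39_1 D6280 (iv D5010) (iv D3981) (iv F19026) D5005
def n6282 : Q := act 8 n5006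
theorem D6282 : act 8 n5006 = n6282 := rfl
theorem F29988 : act 6 n6282 = n5014 := d40_1 D6282 (iv D5014) (iv F24189)
def n6284 : Q := act 6 n5008
theorem D6284 : act 6 n5008 = n6284 := rfl
def n6285 : Q := act 7 n5009
theorem D6285 : act 7 n5009 = n6285 := rfl
def n6286 : Q := act 0 n5011
theorem D6286 : act 0 n5011 = n6286 := rfl
theorem F30002 : act 2 n6286 = n5339 := d1_2 (iv F24207) D6286 (iv D5339)
def n6287 : Q := act 6 n5011
theorem D6287 : act 6 n5011 = n6287 := rfl
theorem F30006 : act 1 n6287 = n5012 := d13_1 D6287 (iv D5012) D5011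
theorem F30007 : act 2 n6287 = n5340 := d20_1 D6287 (iv D5340) (iv F24207)
def n6288 : Q := act 5 n5012
theorem D6288 : act 5 n5012 = n6288 := rfl
def n6289 : Q := act 4 n5013
theorem D6289 : act 4 n5013 = n6289 := rfl
theorem F30014 : act 1 n6289 = n5342 := d11_1 D6289 (iv D5342) (iv F24215)
def n6290 : Q := act 8 n5013
theorem D6290 : act 8 n5013 = n6290 := rfl
theorem F30017 : act 1 n6290 = n5343 := d15_1 D6290 (iv D5343) (iv F24215)
def n6291 : Q := act 9 n5014
theorem D6291 : act 9 n5014 = n6291 := rfl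
theorem F30021 : act 1 n6291 = n5344 := d16_1 D6291 (iv D5344) (iv F24218)
def n6292 : Q := act 6 n5016
theorem D6292 : act 6 n5016 = n6292 := rfl
theorem F30027 : act 2 n6292 = n5345 := d20_1 D6292 (iv D5345) (iv F24227)
def n6293 : Q := act 5 n5017
theorem D6293 : act 5 n5017 = n6293 := rfl
theorem F30031 : act 1 n6293 = n5018 := d12_1 D6293 (iv D5018) (iv F24232)
theorem F30032 : act 2 n6293 = n5346 := d19_1 D6293 (iv D5346) (iv F24233)
def n6294 : Q := act 8 n5018
theorem D6294 : act 8 n5018 = n6294 := rfl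
def n6296 : Q := act 2 n5021
theorem D6296 : act 2 n5021 = n6296 := rfl
theorem F30049 : act 0 n6296 = n5024 := d1_1 D6296 (iv D5024) (iv F24254)
theorem F30050 : act 3 n6296 = n5349 := d17_2 D5021 D6296 (iv D5349) (iv D4286) (iv F19121)
def n6297 : Q := act 6 n5021
theorem D6297 : act 6 n5021 = n6297 := rfl
theorem F30055 : act 0 n6297 = n5025 := d5_1 D6297 (iv D5025) (iv F24254)
theorem F30056 : act 3 n6297 = n5022 := d26_1 D6297 (iv D5022) D5021
def n6298 : Q := act 5 n5022
theorem D6298 : act 5 n5022 = n6298 := rfl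
theorem F30060 : act 2 n6298 = n5351 := d19_1 D6298 (iv D5351) (iv F24260)
def n6299 : Q := act 7 n5022
theorem D6299 : act 7 n5022 = n6299 := rfl
theorem F30065 : act 2 n6299 = n5352 := d21_1 D6299 (iv D5352) (iv F24260)
def n6300 : Q := act 6 n5024
theorem D6300 : act 6 n5024 = n6300 := rfl
theorem F30070 : act 2 n6300 = n5025 := d20_1 D6300 (iv D5025) D5024
theorem F30071 : act 3 n6300 = n5353 := d26_1 D6300 (iv D5353) (iv F24270)
def n6301 : Q := act 5 n5025
theorem D6301 : act 5 n5025 = n6301 := rfl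
theorem F30074 : act 1 n6301 = n5028 := d12_1 D6301 (iv D5028) (iv F24275)
theorem F30075 : act 3 n6301 = n5026 := d25_1 D6301 (iv D5026) (iv F24276)
def n6302 : Q := act 7 n5025
theorem D6302 : act 7 n5025 = n6302 := rfl
theorem F30078 : act 1 n6302 = n5029 := d14_1 D6302 (iv D5029) (iv F24275)
def n6303 : Q := act 7 n5026
theorem D6303 : act 7 n5026 = n6303 := rfl
theorem F30083 : act 1 n6303 = n5030 := d14_1 D6303 (iv D5030) (iv F24279)
theorem F30084 : act 2 n6303 = n5356 := d21_1 D6303 (iv D5356) (iv F24280)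
theorem F30086 : act 5 n6303 = n5027 := d36_1 D6303 (iv D5027) D5026
def n6304 : Q := act 8 n5026
theorem D6304 : act 8 n5026 = n6304 := rfl
theorem F30088 : act 1 n6304 = n5031 := d15_1 D6304 (iv D5031) (iv F24279)
def n6305 : Q := act 4 n5028
theorem D6305 : act 4 n5028 = n6305 := rfl
def n6306 : Q := act 7 n5028
theorem D6306 : act 7 n5028 = n6306 := rfl
theorem F30098 : act 3 n6306 = n5030 := d27_1 D6306 (iv D5030) (iv F24290)
theorem F30099 : act 5 n6306 = n5029 := d36_1 D6306 (iv D5029) D5028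
def n6307 : Q := act 8 n5028
theorem D6307 : act 8 n5028 = n6307 := rfl
theorem F30102 : act 3 n6307 = n5031 := d28_1 D6307 (iv D5031) (iv F24290)
def n6308 : Q := act 6 n5030
theorem D6308 : act 6 n5030 = n6308 := rfl
theorem F30104 : act 2 n6308 = n5032 := d20_1 D6308 (iv D5032) (iv F24298)
def n6309 : Q := act 8 n5030
theorem D6309 : act 8 n5030 = n6309 := rfl
theorem F30111 : act 7 n6309 = n5031 := d42_1 D6309 (iv D5031) D5030
def n6310 : Q := act 9 n5031
theorem D6310 : act 9 n5031 = n6310 := rfl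
theorem F30112 : act 2 n6310 = n5034 := d23_1 D6310 (iv D5034) (iv F24302)
theorem F30113 : act 4 n6310 = n6310 := d34_1 D6310 (iv D6310) F24303
theorem F30114 : act 6 n6310 = n6310 := d41_1 D6310 (iv D6310) F24304
theorem F30115 : act 8 n6310 = n6310 := d44_1 D6310 (iv D6310) (iv D5031) F19152 D5031
def n6311 : Q := act 8 n5032
theorem D6311 : act 8 n5032 = n6311 := rfl
theorem F30116 : act 1 n6311 = n5364 := d15_1 D6311 (iv D5364) (iv F24305)
theorem F30117 : act 3 n6311 = n6311 := d28_1 D6311 (iv D6311) F24306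
theorem F30118 : act 4 n6311 = n6311 := d33_1 D6311 (iv D6311) F24307
theorem F30119 : act 6 n6311 = n5033 := d40_1 D6311 (iv D5033) D5032
theorem F30120 : act 7 n6311 = n6311 := d42_1 D6311 (iv D6311) F24309
def n6312 : Q := act 9 n5033
theorem D6312 : act 9 n5033 = n6312 := rfl
theorem F30121 : act 1 n6312 = n5365 := d16_1 D6312 (iv D5365) (iv F24311)
theorem F30122 : act 3 n6312 = n6312 := d29_1 D6312 (iv D6312) F24312
theorem F30123 : act 4 n6312 = n6312 := d34_1 D6312 (iv D6312) F24313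
theorem F30124 : act 7 n6312 = n5034 := d43_1 D6312 (iv D5034) (iv F24314)
theorem F30125 : act 8 n6312 = n6312 := d44_1 D6312 (iv D6312) (iv D5033) F19161 D5033
def n6313 : Q := act 9 n5035
theorem D6313 : act 9 n5035 = n6313 := rfl
theorem F30126 : act 0 n6313 = n5039 := d8_1 D6313 (iv D5039) (iv F24320)
theorem F30127 : act 1 n6313 = n6313 := d16_1 D6313 (iv D6313) F24321
theorem F30128 : act 3 n6313 = n6313 := d29_1 D6313 (iv D6313) F24322
theorem F30129 : act 5 n6313 = n5037 := d38_1 D6313 (iv D5037) D5035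
theorem F30130 : act 6 n6313 = n5077 := d41_1 D6313 (iv D5077) (iv F24323)
def n6314 : Q := act 9 n5036
theorem D6314 : act 9 n5036 = n6314 := rfl
theorem F30131 : act 0 n6314 = n5040 := d8_1 D6314 (iv D5040) (iv F24324)
theorem F30132 : act 1 n6314 = n6314 := d16_1 D6314 (iv D6314) F24325
theorem F30133 : act 3 n6314 = n6314 := d29_1 D6314 (iv D6314) F24326
theorem F30134 : act 4 n6314 = n6314 := d34_1 D6314 (iv D6314) F24327
theorem F30135 : act 6 n6314 = n6314 := d41_1 D6314 (iv D6314) F24328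
theorem F30136 : act 7 n6314 = n5037 := d43_1 D6314 (iv D5037) D5036
def n6315 : Q := act 8 n5037
theorem D6315 : act 8 n5037 = n6315 := rfl
theorem F30137 : act 0 n6315 = n5041 := d7_1 D6315 (iv D5041) (iv F24330)
theorem F30138 : act 1 n6315 = n6315 := d15_1 D6315 (iv D6315) F24331
theorem F30139 : act 3 n6315 = n6315 := d28_1 D6315 (iv D6315) F24332
theorem F30140 : act 4 n6315 = n6315 := d33_1 D6315 (iv D6315) F24333
theorem F30141 : act 6 n6315 = n5038 := d40_1 D6315 (iv D5038) (iv F24334)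
theorem F30142 : act 9 n6315 = n6315 := d44_2 D5037 D6315 (iv D6315) (iv D5037) F19170
def n6316 : Q := act 5 n5038
theorem D6316 : act 5 n5038 = n6316 := rfl
theorem F30143 : act 0 n6316 = n5042 := d4_1 D6316 (iv D5042) (iv F24335)
theorem F30144 : act 1 n6316 = n6316 := d12_1 D6316 (iv D6316) F24336
theorem F30145 : act 3 n6316 = n6316 := d25_1 D6316 (iv D6316) F24337
theorem F30146 : act 7 n6316 = n6316 := d36_2 F24339 D6316 (iv D6316)
theorem F30147 : act 8 n6316 = n5080 := d37_2 D5038 D6316 (iv D5080) (iv D4046) (iv F19175)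
theorem F30148 : act 9 n6316 = n6316 := d38_2 F24340 D6316 (iv D6316)
def n6317 : Q := act 8 n5039
theorem D6317 : act 8 n5039 = n6317 := rfl
theorem F30149 : act 1 n6317 = n5046 := d15_1 D6317 (iv D5046) (iv F24341)
theorem F30150 : act 3 n6317 = n6317 := d28_1 D6317 (iv D6317) F24342
theorem F30151 : act 6 n6317 = n5084 := d40_1 D6317 (iv D5084) (iv F24344)
def n6318 : Q := act 8 n5040
theorem D6318 : act 8 n5040 = n6318 := rfl
theorem F30152 : act 1 n6318 = n5047 := d15_1 D6318 (iv D5047) (iv F24345)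
theorem F30153 : act 3 n6318 = n6318 := d28_1 D6318 (iv D6318) F24346
theorem F30154 : act 4 n6318 = n6318 := d33_1 D6318 (iv D6318) F24347
theorem F30155 : act 6 n6318 = n6318 := d40_1 D6318 (iv D6318) F24348
theorem F30156 : act 7 n6318 = n5041 := d42_1 D6318 (iv D5041) (iv F24349)
theorem F30157 : act 9 n6318 = n6318 := d44_2 D5040 D6318 (iv D6318) (iv D5040) F19184
def n6319 : Q := act 5 n5041
theorem D6319 : act 5 n5041 = n6319 := rfl
theorem F30158 : act 1 n6319 = n5048 := d12_1 D6319 (iv D5048) (iv F24350)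
theorem F30159 : act 3 n6319 = n6319 := d25_1 D6319 (iv D6319) F24351
theorem F30160 : act 9 n6319 = n6319 := d38_2 F24354 D6319 (iv D6319)
def n6320 : Q := act 4 n5042
theorem D6320 : act 4 n5042 = n6320 := rfl
theorem F30161 : act 1 n6320 = n5049 := d11_1 D6320 (iv D5049) (iv F24355)
theorem F30162 : act 5 n6320 = n6320 := d30_2 D5042 D6320 (iv D6320) (iv D5042) F19191
theorem F30163 : act 7 n6320 = n6320 := d32_2 F24357 D6320 (iv D6320)
theorem F30164 : act 8 n6320 = n5087 := d33_2 (iv F24358) D6320 (iv D5087)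
theorem F30165 : act 9 n6320 = n6320 := d34_2 F24359 D6320 (iv D6320)
def n6321 : Q := act 6 n5042
theorem D6321 : act 6 n5042 = n6321 := rfl
theorem F30166 : act 1 n6321 = n5050 := d13_1 D6321 (iv D5050) (iv F24355)
theorem F30167 : act 3 n6321 = n6321 := d26_1 D6321 (iv D6321) F24356
theorem F30168 : act 8 n6321 = n5088 := d40_2 (iv F24358) D6321 (iv D5088)
theorem F30169 : act 9 n6321 = n6321 := d41_2 F24359 D6321 (iv D6321)
def n6322 : Q := act 8 n5043
theorem D6322 : act 8 n5043 = n6322 := rfl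
theorem F30170 : act 0 n6322 = n6322 := d7_1 D6322 (iv D6322) F24360
theorem F30171 : act 2 n6322 = n5051 := d22_1 D6322 (iv D5051) (iv F24361)
theorem F30172 : act 3 n6322 = n5063 := d28_1 D6322 (iv D5063) (iv F24362)
theorem F30173 : act 4 n6322 = n5046 := d33_1 D6322 (iv D5046) (iv F24363)
theorem F30174 : act 6 n6322 = n5090 := d40_1 D6322 (iv D5090) (iv F24365)
theorem F30175 : act 7 n6322 = n5054 := d42_1 D6322 (iv D5054) (iv F24366)
theorem F30176 : act 9 n6322 = n5053 := d44_2 D5043 D6322 (iv D5053) (iv D4023) (iv F19200)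
def n6323 : Q := act 8 n5044
theorem D6323 : act 8 n5044 = n6323 := rfl
theorem F30177 : act 0 n6323 = n6323 := d7_1 D6323 (iv D6323) F24367
theorem F30178 : act 2 n6323 = n5053 := d22_1 D6323 (iv D5053) (iv F24368)
theorem F30179 : act 3 n6323 = n6323 := d28_1 D6323 (iv D6323) F24369
theorem F30180 : act 4 n6323 = n5054 := d33_1 D6323 (iv D5054) (iv F24370)
theorem F30181 : act 6 n6323 = n5103 := d40_1 D6323 (iv D5103) (iv F24372)
theorem F30182 : act 7 n6323 = n5046 := d42_1 D6323 (iv D5046) (iv F24373)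
theorem F30183 : act 9 n6323 = n5051 := d44_2 D5044 D6323 (iv D5051) (iv D4021) F19207
def n6324 : Q := act 8 n5045
theorem D6324 : act 8 n5045 = n6324 := rfl
theorem F30184 : act 0 n6324 = n6324 := d7_1 D6324 (iv D6324) F24374
theorem F30185 : act 2 n6324 = n5054 := d22_1 D6324 (iv D5054) (iv F24375)
theorem F30186 : act 3 n6324 = n6324 := d28_1 D6324 (iv D6324) F24376
theorem F30187 : act 4 n6324 = n5053 := d33_1 D6324 (iv D5053) (iv F24377)
theorem F30188 : act 6 n6324 = n5094 := d40_1 D6324 (iv D5094) (iv F24379)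
theorem F30189 : act 7 n6324 = n5051 := d42_1 D6324 (iv D5051) (iv F24380)
theorem F30190 : act 9 n6324 = n5046 := d44_2 D5045 D6324 (iv D5046) (iv D4017) D4016
def n6325 : Q := act 5 n5046
theorem D6325 : act 5 n5046 = n6325 := rfl
theorem F30191 : act 0 n6325 = n6325 := d4_1 D6325 (iv D6325) F24381
theorem F30192 : act 2 n6325 = n5055 := d19_1 D6325 (iv D5055) (iv F24382)
theorem F30193 : act 3 n6325 = n6325 := d25_1 D6325 (iv D6325) F24383
theorem F30194 : act 8 n6325 = n5048 := d37_2 D5046 D6325 (iv D5048) (iv D4019) (iv F19218)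
def n6326 : Q := act 5 n5047
theorem D6326 : act 5 n5047 = n6326 := rfl
theorem F30195 : act 0 n6326 = n6326 := d4_1 D6326 (iv D6326) F24385
theorem F30196 : act 2 n6326 = n5056 := d19_1 D6326 (iv D5056) (iv F24386)
theorem F30197 : act 3 n6326 = n6326 := d25_1 D6326 (iv D6326) F24387
theorem F30198 : act 7 n6326 = n5048 := d36_2 (iv F24390) D6326 (iv D5048)
theorem F30199 : act 9 n6326 = n6326 := d38_2 F24391 D6326 (iv D6326)
def n6327 : Q := act 4 n5048
theorem D6327 : act 4 n5048 = n6327 := rfl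
theorem F30200 : act 0 n6327 = n6327 := d3_1 D6327 (iv D6327) F24392
theorem F30201 : act 2 n6327 = n5057 := d18_1 D6327 (iv D5057) (iv F24393)
theorem F30202 : act 5 n6327 = n6327 := d30_2 D5048 D6327 (iv D6327) (iv D5048) F19229
theorem F30203 : act 9 n6327 = n6327 := d34_2 F24395 D6327 (iv D6327)
def n6328 : Q := act 6 n5048
theorem D6328 : act 6 n5048 = n6328 := rfl
theorem F30204 : act 0 n6328 = n6328 := d5_1 D6328 (iv D6328) F24392
theorem F30205 : act 2 n6328 = n5058 := d20_1 D6328 (iv D5058) (iv F24393)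
theorem F30206 : act 3 n6328 = n6328 := d26_1 D6328 (iv D6328) F24394
theorem F30207 : act 5 n6328 = n5050 := d35_1 D6328 (iv D5050) (iv D4020) (iv F19230) D5048
theorem F30208 : act 9 n6328 = n6328 := d41_2 F24395 D6328 (iv D6328)
def n6329 : Q := act 3 n5049
theorem D6329 : act 3 n5049 = n6329 := rfl
theorem F30209 : act 0 n6329 = n6329 := d2_1 D6329 (iv D6329) F24396
theorem F30210 : act 2 n6329 = n6329 := d17_1 D6329 (iv D6329) F24397 F19271 (iv F24397)
theorem F30211 : act 4 n6329 = n6329 := d24_2 D5049 D6329 (iv D6329) (iv D5049) F19234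
theorem F30212 : act 5 n6329 = n6329 := d25_2 F24398 D6329 (iv D6329)
theorem F30213 : act 7 n6329 = n6329 := d27_2 F24399 D6329 (iv D6329)
theorem F30214 : act 8 n6329 = n5099 := d28_2 (iv F24400) D6329 (iv D5099)
theorem F30215 : act 9 n6329 = n6329 := d29_2 F24401 D6329 (iv D6329)
def n6330 : Q := act 6 n5049
theorem D6330 : act 6 n5049 = n6330 := rfl
theorem F30216 : act 0 n6330 = n6330 := d5_1 D6330 (iv D6330) F24396
theorem F30217 : act 2 n6330 = n5059 := d20_1 D6330 (iv D5059) (iv F24397)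
theorem F30218 : act 4 n6330 = n5050 := d31_1 D6330 (iv D5050) D5049
theorem F30219 : act 8 n6330 = n5100 := d40_2 (iv F24400) D6330 (iv D5100)
theorem F30220 : act 9 n6330 = n6330 := d41_2 F24401 D6330 (iv D6330)
def n6331 : Q := act 7 n5050
theorem D6331 : act 7 n5050 = n6331 := rfl
theorem F30221 : act 0 n6331 = n6331 := d6_1 D6331 (iv D6331) F24402
theorem F30222 : act 2 n6331 = n5060 := d21_1 D6331 (iv D5060) (iv F24403)
theorem F30223 : act 3 n6331 = n6331 := d27_1 D6331 (iv D6331) F24404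
theorem F30224 : act 6 n6331 = n6331 := d39_1 D6331 (iv D6331) (iv D5050) F19235 D5050
theorem F30225 : act 8 n6331 = n5101 := d42_2 (iv F24405) D6331 (iv D5101)
theorem F30226 : act 9 n6331 = n6331 := d43_2 F24406 D6331 (iv D6331)
def n6332 : Q := act 5 n5051
theorem D6332 : act 5 n5051 = n6332 := rfl
theorem F30227 : act 0 n6332 = n6332 := d4_1 D6332 (iv D6332) F24407
theorem F30228 : act 3 n6332 = n6332 := d25_1 D6332 (iv D6332) F24408
theorem F30229 : act 8 n6332 = n6332 := d37_2 D5051 D6332 (iv D6332) (iv D5051) F19241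
def n6333 : Q := act 8 n5052
theorem D6333 : act 8 n5052 = n6333 := rfl
theorem F30230 : act 0 n6333 = n6333 := d7_1 D6333 (iv D6333) F24411
theorem F30231 : act 2 n6333 = n5103 := d22_1 D6333 (iv D5103) (iv F24412)
theorem F30232 : act 3 n6333 = n5062 := d28_1 D6333 (iv D5062) (iv F24413)
theorem F30233 : act 4 n6333 = n5094 := d33_1 D6333 (iv D5094) (iv F24414)
theorem F30234 : act 6 n6333 = n5053 := d40_1 D6333 (iv D5053) (iv F24416)
theorem F30235 : act 7 n6333 = n5105 := d42_1 D6333 (iv D5105) (iv F24417)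
theorem F30236 : act 9 n6333 = n5090 := d44_2 D5052 D6333 (iv D5090) (iv D4055) (iv F19249)
def n6334 : Q := act 5 n5053
theorem D6334 : act 5 n5053 = n6334 := rfl
theorem F30237 : act 0 n6334 = n6334 := d4_1 D6334 (iv D6334) F24418
theorem F30238 : act 3 n6334 = n5064 := d25_1 D6334 (iv D5064) (iv F24419)
theorem F30239 : act 7 n6334 = n5055 := d36_2 (iv F24420) D6334 (iv D5055)
theorem F30240 : act 8 n6334 = n5056 := d37_2 D5053 D6334 (iv D5056) (iv D4026) (iv F19252)
def n6335 : Q := act 5 n5054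
theorem D6335 : act 5 n5054 = n6335 := rfl
theorem F30241 : act 0 n6335 = n6335 := d4_1 D6335 (iv D6335) F24421
theorem F30242 : act 3 n6335 = n5065 := d25_1 D6335 (iv D5065) (iv F24422)
theorem F30243 : act 8 n6335 = n6335 := d37_2 D5054 D6335 (iv D6335) (iv D5054) F19256
theorem F30244 : act 9 n6335 = n5055 := d38_2 (iv F24424) D6335 (iv D5055)
def n6336 : Q := act 4 n5055
theorem D6336 : act 4 n5055 = n6336 := rfl
theorem F30245 : act 0 n6336 = n6336 := d3_1 D6336 (iv D6336) F24425
theorem F30246 : act 8 n6336 = n5057 := d33_2 (iv F24427) D6336 (iv D5057)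
def n6337 : Q := act 6 n5055
theorem D6337 : act 6 n5055 = n6337 := rfl
theorem F30247 : act 0 n6337 = n6337 := d5_1 D6337 (iv D6337) F24425
theorem F30248 : act 3 n6337 = n5067 := d26_1 D6337 (iv D5067) (iv F24426)
theorem F30249 : act 5 n6337 = n5110 := d35_1 D6337 (iv D5110) (iv D4072) (iv F19260) D5055
theorem F30250 : act 8 n6337 = n5058 := d40_2 (iv F24427) D6337 (iv D5058)
def n6338 : Q := act 4 n5056
theorem D6338 : act 4 n5056 = n6338 := rfl
theorem F30251 : act 0 n6338 = n6338 := d3_1 D6338 (iv D6338) F24428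
theorem F30252 : act 5 n6338 = n6338 := d30_2 D5056 D6338 (iv D6338) (iv D5056) F19263
theorem F30253 : act 7 n6338 = n5057 := d32_2 (iv F24430) D6338 (iv D5057)
theorem F30254 : act 9 n6338 = n6338 := d34_2 F24431 D6338 (iv D6338)
def n6339 : Q := act 6 n5056
theorem D6339 : act 6 n5056 = n6339 := rfl
theorem F30255 : act 0 n6339 = n6339 := d5_1 D6339 (iv D6339) F24428
theorem F30256 : act 3 n6339 = n5069 := d26_1 D6339 (iv D5069) (iv F24429)
theorem F30257 : act 5 n6339 = n6339 := d35_1 D6339 (iv D6339) (iv D5056) F19264 D5056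
theorem F30258 : act 9 n6339 = n6339 := d41_2 F24431 D6339 (iv D6339)
def n6340 : Q := act 3 n5057
theorem D6340 : act 3 n5057 = n6340 := rfl
theorem F30259 : act 0 n6340 = n6340 := d2_1 D6340 (iv D6340) F24432
theorem F30260 : act 4 n6340 = n5070 := d24_2 D5057 D6340 (iv D5070) (iv D4037) (iv F19268)
theorem F30261 : act 5 n6340 = n6340 := d25_2 F24433 D6340 (iv D6340)
theorem F30262 : act 9 n6340 = n6340 := d29_2 F24434 D6340 (iv D6340)
def n6341 : Q := act 6 n5057
theorem D6341 : act 6 n5057 = n6341 := rfl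
theorem F30263 : act 0 n6341 = n6341 := d5_1 D6341 (iv D6341) F24432
theorem F30264 : act 4 n6341 = n5058 := d31_1 D6341 (iv D5058) D5057
theorem F30265 : act 9 n6341 = n6341 := d41_2 F24434 D6341 (iv D6341)
def n6342 : Q := act 7 n5058
theorem D6342 : act 7 n5058 = n6342 := rfl
theorem F30266 : act 0 n6342 = n6342 := d6_1 D6342 (iv D6342) F24435
theorem F30267 : act 3 n6342 = n5072 := d27_1 D6342 (iv D5072) (iv F24436)
theorem F30268 : act 5 n6342 = n5060 := d36_1 D6342 (iv D5060) (iv F24437)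
theorem F30269 : act 9 n6342 = n6342 := d43_2 F24438 D6342 (iv D6342)
def n6343 : Q := act 5 n5059
theorem D6343 : act 5 n5059 = n6343 := rfl
theorem F30270 : act 0 n6343 = n6343 := d4_1 D6343 (iv D6343) F24439
theorem F30271 : act 3 n6343 = n6343 := d25_1 D6343 (iv D6343) F24440
theorem F30272 : act 6 n6343 = n6343 := d35_2 D5059 D6343 (iv D6343) (iv D5059) F19272
theorem F30273 : act 9 n6343 = n6343 := d38_2 F24443 D6343 (iv D6343)
def n6344 : Q := act 7 n5059
theorem D6344 : act 7 n5059 = n6344 := rfl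
theorem F30274 : act 0 n6344 = n6344 := d6_1 D6344 (iv D6344) F24439
theorem F30275 : act 3 n6344 = n6344 := d27_1 D6344 (iv D6344) F24440
theorem F30276 : act 4 n6344 = n5060 := d32_1 D6344 (iv D5060) (iv F24441)
theorem F30277 : act 6 n6344 = n6344 := d39_1 D6344 (iv D6344) (iv D5059) F19273 D5059
theorem F30278 : act 8 n6344 = n5117 := d42_2 (iv F24442) D6344 (iv D5117)
theorem F30279 : act 9 n6344 = n6344 := d43_2 F24443 D6344 (iv D6344)
def n6345 : Q := act 8 n5061
theorem D6345 : act 8 n5061 = n6345 := rfl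
theorem F30280 : act 0 n6345 = n6345 := d7_1 D6345 (iv D6345) F24449
theorem F30281 : act 2 n6345 = n6345 := d22_1 D6345 (iv D6345) F24450
theorem F30282 : act 3 n6345 = n5090 := d28_1 D6345 (iv D5090) (iv F24451)
theorem F30283 : act 4 n6345 = n6345 := d33_1 D6345 (iv D6345) F24452
theorem F30284 : act 6 n6345 = n5063 := d40_1 D6345 (iv D5063) (iv F24454)
theorem F30285 : act 7 n6345 = n5118 := d42_1 D6345 (iv D5118) (iv F24455)
theorem F30286 : act 9 n6345 = n5062 := d44_2 D5061 D6345 (iv D5062) (iv D4031) D4030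
def n6346 : Q := act 5 n5062
theorem D6346 : act 5 n5062 = n6346 := rfl
theorem F30287 : act 0 n6346 = n6346 := d4_1 D6346 (iv D6346) F24456
theorem F30288 : act 2 n6346 = n6346 := d19_1 D6346 (iv D6346) F24457
theorem F30289 : act 7 n6346 = n5119 := d36_2 (iv F24460) D6346 (iv D5119)
theorem F30290 : act 8 n6346 = n6346 := d37_2 D5062 D6346 (iv D6346) (iv D5062) F19290
def n6347 : Q := act 5 n5063
theorem D6347 : act 5 n5063 = n6347 := rfl
theorem F30291 : act 0 n6347 = n6347 := d4_1 D6347 (iv D6347) F24461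
theorem F30292 : act 2 n6347 = n6347 := d19_1 D6347 (iv D6347) F24462
theorem F30293 : act 7 n6347 = n5065 := d36_2 (iv F24464) D6347 (iv D5065)
theorem F30294 : act 8 n6347 = n6347 := d37_2 D5063 D6347 (iv D6347) (iv D5063) F19296
theorem F30295 : act 9 n6347 = n5064 := d38_2 (iv F24465) D6347 (iv D5064)
def n6348 : Q := act 4 n5064
theorem D6348 : act 4 n5064 = n6348 := rfl
theorem F30296 : act 0 n6348 = n6348 := d3_1 D6348 (iv D6348) F24466
theorem F30297 : act 2 n6348 = n6348 := d18_1 D6348 (iv D6348) F24467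
theorem F30298 : act 5 n6348 = n6348 := d30_2 D5064 D6348 (iv D6348) (iv D5064) F19300
theorem F30299 : act 7 n6348 = n5066 := d32_2 (iv F24468) D6348 (iv D5066)
theorem F30300 : act 8 n6348 = n5068 := d33_2 (iv F24469) D6348 (iv D5068)
def n6349 : Q := act 6 n5064
theorem D6349 : act 6 n5064 = n6349 := rfl
theorem F30301 : act 0 n6349 = n6349 := d5_1 D6349 (iv D6349) F24466
theorem F30302 : act 2 n6349 = n6349 := d20_1 D6349 (iv D6349) F24467
theorem F30303 : act 8 n6349 = n5069 := d40_2 (iv F24469) D6349 (iv D5069)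
def n6350 : Q := act 4 n5065
theorem D6350 : act 4 n5065 = n6350 := rfl
theorem F30304 : act 0 n6350 = n6350 := d3_1 D6350 (iv D6350) F24470
theorem F30305 : act 2 n6350 = n6350 := d18_1 D6350 (iv D6350) F24471
theorem F30306 : act 5 n6350 = n6350 := d30_2 D5065 D6350 (iv D6350) (iv D5065) F19304
theorem F30307 : act 8 n6350 = n6350 := d33_2 F24472 D6350 (iv D6350)
theorem F30308 : act 9 n6350 = n5066 := d34_2 (iv F24473) D6350 (iv D5066)
def n6351 : Q := act 6 n5065
theorem D6351 : act 6 n5065 = n6351 := rfl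
theorem F30309 : act 0 n6351 = n6351 := d5_1 D6351 (iv D6351) F24470
theorem F30310 : act 2 n6351 = n6351 := d20_1 D6351 (iv D6351) F24471
theorem F30311 : act 5 n6351 = n5124 := d35_1 D6351 (iv D5124) (iv D4083) (iv F19305) D5065
theorem F30312 : act 8 n6351 = n6351 := d40_2 F24472 D6351 (iv D6351)
theorem F30313 : act 9 n6351 = n5067 := d41_2 (iv F24473) D6351 (iv D5067)
def n6352 : Q := act 3 n5066
theorem D6352 : act 3 n5066 = n6352 := rfl
theorem F30314 : act 0 n6352 = n6352 := d2_1 D6352 (iv D6352) F24474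
theorem F30315 : act 5 n6352 = n6352 := d25_2 F24476 D6352 (iv D6352)
theorem F30316 : act 8 n6352 = n5070 := d28_2 (iv F24477) D6352 (iv D5070)
def n6353 : Q := act 6 n5066
theorem D6353 : act 6 n5066 = n6353 := rfl
theorem F30317 : act 0 n6353 = n6353 := d5_1 D6353 (iv D6353) F24474
theorem F30318 : act 2 n6353 = n6353 := d20_1 D6353 (iv D6353) F24475
theorem F30319 : act 4 n6353 = n5067 := d31_1 D6353 (iv D5067) D5066
theorem F30320 : act 8 n6353 = n5071 := d40_2 (iv F24477) D6353 (iv D5071)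
def n6354 : Q := act 7 n5067
theorem D6354 : act 7 n5067 = n6354 := rfl
theorem F30321 : act 0 n6354 = n6354 := d6_1 D6354 (iv D6354) F24478
theorem F30322 : act 2 n6354 = n6354 := d21_1 D6354 (iv D6354) F24479
theorem F30323 : act 5 n6354 = n5127 := d36_1 D6354 (iv D5127) (iv F24480)
theorem F30324 : act 8 n6354 = n5072 := d42_2 (iv F24481) D6354 (iv D5072)
def n6355 : Q := act 3 n5068
theorem D6355 : act 3 n5068 = n6355 := rfl
theorem F30325 : act 0 n6355 = n6355 := d2_1 D6355 (iv D6355) F24482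
theorem F30326 : act 5 n6355 = n5073 := d25_2 (iv F24484) D6355 (iv D5073)
theorem F30327 : act 7 n6355 = n5070 := d27_2 (iv F24485) D6355 (iv D5070)
theorem F30328 : act 9 n6355 = n6355 := d29_2 F24486 D6355 (iv D6355)
def n6356 : Q := act 6 n5068
theorem D6356 : act 6 n5068 = n6356 := rfl
theorem F30329 : act 0 n6356 = n6356 := d5_1 D6356 (iv D6356) F24482
theorem F30330 : act 2 n6356 = n6356 := d20_1 D6356 (iv D6356) F24483
theorem F30331 : act 4 n6356 = n5069 := d31_1 D6356 (iv D5069) D5068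
theorem F30332 : act 9 n6356 = n6356 := d41_2 F24486 D6356 (iv D6356)
def n6357 : Q := act 7 n5069
theorem D6357 : act 7 n5069 = n6357 := rfl
theorem F30333 : act 0 n6357 = n6357 := d6_1 D6357 (iv D6357) F24487
theorem F30334 : act 2 n6357 = n6357 := d21_1 D6357 (iv D6357) F24488
theorem F30335 : act 5 n6357 = n6357 := d36_1 D6357 (iv D6357) F24489
theorem F30336 : act 6 n6357 = n5072 := d39_1 D6357 (iv D5072) (iv D4038) (iv F19312) D5069
theorem F30337 : act 9 n6357 = n6357 := d43_2 F24490 D6357 (iv D6357)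
def n6358 : Q := act 2 n5070
theorem D6358 : act 2 n5070 = n6358 := rfl
theorem F30338 : act 0 n6358 = n6358 := d1_1 D6358 (iv D6358) F24491
theorem F30339 : act 3 n6358 = n6358 := d17_2 D5070 D6358 (iv D6358) (iv D5070) F19315
theorem F30340 : act 5 n6358 = n5075 := d19_2 (iv F24492) D6358 (iv D5075)
theorem F30341 : act 9 n6358 = n6358 := d23_2 F24493 D6358 (iv D6358)
def n6359 : Q := act 6 n5070
theorem D6359 : act 6 n5070 = n6359 := rfl
theorem F30342 : act 0 n6359 = n6359 := d5_1 D6359 (iv D6359) F24491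
theorem F30343 : act 3 n6359 = n5071 := d26_1 D6359 (iv D5071) D5070
theorem F30344 : act 5 n6359 = n6359 := d35_1 D6359 (iv D6359) F24492 F19342 (iv F24492)
theorem F30345 : act 9 n6359 = n6359 := d41_2 F24493 D6359 (iv D6359)
def n6360 : Q := act 7 n5071
theorem D6360 : act 7 n5071 = n6360 := rfl
theorem F30346 : act 0 n6360 = n6360 := d6_1 D6360 (iv D6360) F24494
theorem F30347 : act 2 n6360 = n6360 := d21_1 D6360 (iv D6360) F24495
theorem F30348 : act 4 n6360 = n5072 := d32_1 D6360 (iv D5072) (iv F24496)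
theorem F30349 : act 5 n6360 = n6360 := d36_1 D6360 (iv D6360) F24497
theorem F30350 : act 9 n6360 = n6360 := d43_2 F24498 D6360 (iv D6360)
def n6361 : Q := act 2 n5073
theorem D6361 : act 2 n5073 = n6361 := rfl
theorem F30351 : act 0 n6361 = n6361 := d1_1 D6361 (iv D6361) F24503
theorem F30352 : act 3 n6361 = n6361 := d17_2 D5073 D6361 (iv D6361) (iv D5073) F19329
theorem F30353 : act 4 n6361 = n6361 := d18_2 F24504 D6361 (iv D6361)
theorem F30354 : act 7 n6361 = n5075 := d21_2 (iv F24505) D6361 (iv D5075)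
theorem F30355 : act 8 n6361 = n6361 := d22_2 F24506 D6361 (iv D6361)
theorem F30356 : act 9 n6361 = n6361 := d23_2 F24507 D6361 (iv D6361)
def n6362 : Q := act 6 n5073
theorem D6362 : act 6 n5073 = n6362 := rfl
theorem F30357 : act 0 n6362 = n6362 := d5_1 D6362 (iv D6362) F24503
theorem F30358 : act 3 n6362 = n5074 := d26_1 D6362 (iv D5074) D5073
theorem F30359 : act 4 n6362 = n6362 := d31_1 D6362 (iv D6362) F24504
theorem F30360 : act 7 n6362 = n6362 := d39_2 (iv F24505) D6362 (iv D6362) F24505 F19342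
theorem F30361 : act 8 n6362 = n6362 := d40_2 F24506 D6362 (iv D6362)
theorem F30362 : act 9 n6362 = n6362 := d41_2 F24507 D6362 (iv D6362)
def n6363 : Q := act 5 n5074
theorem D6363 : act 5 n5074 = n6363 := rfl
theorem F30363 : act 0 n6363 = n6363 := d4_1 D6363 (iv D6363) F24508
theorem F30364 : act 2 n6363 = n6363 := d19_1 D6363 (iv D6363) F24509
theorem F30365 : act 4 n6363 = n6363 := d30_1 D6363 (iv D6363) F24510 F19336 (iv F24510)
theorem F30366 : act 7 n6363 = n6363 := d36_2 F24511 D6363 (iv D6363)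
theorem F30367 : act 9 n6363 = n6363 := d38_2 F24513 D6363 (iv D6363)
def n6364 : Q := act 1 n5075
theorem D6364 : act 1 n5075 = n6364 := rfl
theorem F30368 : act 3 n6364 = n6364 := d10_2 F24515 D6364 (iv D6364)
theorem F30369 : act 4 n6364 = n6364 := d11_2 F24516 D6364 (iv D6364)
theorem F30370 : act 6 n6364 = n6364 := d13_2 F24517 D6364 (iv D6364)
theorem F30371 : act 8 n6364 = n6364 := d15_2 F24518 D6364 (iv D6364)
theorem F30372 : act 9 n6364 = n6364 := d16_2 F24519 D6364 (iv D6364)
def n6365 : Q := act 9 n5076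
theorem D6365 : act 9 n5076 = n6365 := rfl
theorem F30373 : act 0 n6365 = n5083 := d8_1 D6365 (iv D5083) (iv F24520)
theorem F30374 : act 1 n6365 = n6365 := d16_1 D6365 (iv D6365) F24521
theorem F30375 : act 3 n6365 = n6365 := d29_1 D6365 (iv D6365) F24522
theorem F30376 : act 5 n6365 = n5140 := d38_1 D6365 (iv D5140) (iv F24523)
def n6366 : Q := act 8 n5077
theorem D6366 : act 8 n5077 = n6366 := rfl
theorem F30377 : act 0 n6366 = n5084 := d7_1 D6366 (iv D5084) (iv F24524)
theorem F30378 : act 1 n6366 = n6366 := d15_1 D6366 (iv D6366) F24525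
theorem F30379 : act 3 n6366 = n6366 := d28_1 D6366 (iv D6366) F24526
def n6367 : Q := act 8 n5078
theorem D6367 : act 8 n5078 = n6367 := rfl
theorem F30380 : act 0 n6367 = n5085 := d7_1 D6367 (iv D5085) (iv F24528)
theorem F30381 : act 1 n6367 = n6367 := d15_1 D6367 (iv D6367) F24529
theorem F30382 : act 3 n6367 = n6367 := d28_1 D6367 (iv D6367) F24530
theorem F30383 : act 4 n6367 = n5223 := d33_1 D6367 (iv D5223) (iv F24531)
theorem F30384 : act 6 n6367 = n6367 := d40_1 D6367 (iv D6367) F24532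
theorem F30385 : act 7 n6367 = n5079 := d42_1 D6367 (iv D5079) (iv F24533)
theorem F30386 : act 9 n6367 = n5142 := d44_2 D5078 D6367 (iv D5142) (iv D4097) (iv F19353)
def n6368 : Q := act 5 n5079
theorem D6368 : act 5 n5079 = n6368 := rfl
theorem F30387 : act 0 n6368 = n5086 := d4_1 D6368 (iv D5086) (iv F24534)
theorem F30388 : act 1 n6368 = n6368 := d12_1 D6368 (iv D6368) F24535
theorem F30389 : act 3 n6368 = n6368 := d25_1 D6368 (iv D6368) F24536
theorem F30390 : act 9 n6368 = n5143 := d38_2 (iv F24539) D6368 (iv D5143)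
def n6369 : Q := act 4 n5080
theorem D6369 : act 4 n5080 = n6369 := rfl
theorem F30391 : act 0 n6369 = n5087 := d3_1 D6369 (iv D5087) (iv F24540)
theorem F30392 : act 1 n6369 = n6369 := d11_1 D6369 (iv D6369) F24541
theorem F30393 : act 5 n6369 = n5225 := d30_2 D5080 D6369 (iv D5225) (iv D4192) (iv F19362)
theorem F30394 : act 7 n6369 = n6369 := d32_2 F24543 D6369 (iv D6369)
theorem F30395 : act 9 n6369 = n5144 := d34_2 (iv F24544) D6369 (iv D5144)
def n6370 : Q := act 6 n5080
theorem D6370 : act 6 n5080 = n6370 := rfl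
theorem F30396 : act 0 n6370 = n5088 := d5_1 D6370 (iv D5088) (iv F24540)
theorem F30397 : act 1 n6370 = n6370 := d13_1 D6370 (iv D6370) F24541
theorem F30398 : act 3 n6370 = n6370 := d26_1 D6370 (iv D6370) F24542
theorem F30399 : act 9 n6370 = n5145 := d41_2 (iv F24544) D6370 (iv D5145)
def n6371 : Q := act 8 n5081
theorem D6371 : act 8 n5081 = n6371 := rfl
theorem F30400 : act 1 n6371 = n5090 := d15_1 D6371 (iv D5090) (iv F24545)
theorem F30401 : act 4 n6371 = n5084 := d33_1 D6371 (iv D5084) (iv F24546)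
def n6372 : Q := act 8 n5082
theorem D6372 : act 8 n5082 = n6372 := rfl
theorem F30402 : act 1 n6372 = n5093 := d15_1 D6372 (iv D5093) (iv F24548)
theorem F30403 : act 3 n6372 = n6372 := d28_1 D6372 (iv D6372) F24549
theorem F30404 : act 7 n6372 = n5084 := d42_1 D6372 (iv D5084) (iv F24551)
def n6373 : Q := act 8 n5083
theorem D6373 : act 8 n5083 = n6373 := rfl
theorem F30405 : act 1 n6373 = n5094 := d15_1 D6373 (iv D5094) (iv F24552)
theorem F30406 : act 3 n6373 = n6373 := d28_1 D6373 (iv D6373) F24553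
theorem F30407 : act 9 n6373 = n5084 := d44_2 D5083 D6373 (iv D5084) (iv D4050) D4049
def n6374 : Q := act 5 n5084
theorem D6374 : act 5 n5084 = n6374 := rfl
theorem F30408 : act 1 n6374 = n5095 := d12_1 D6374 (iv D5095) (iv F24555)
theorem F30409 : act 3 n6374 = n6374 := d25_1 D6374 (iv D6374) F24556
theorem F30410 : act 8 n6374 = n5086 := d37_2 D5084 D6374 (iv D5086) (iv D4052) (iv F19375)
def n6375 : Q := act 5 n5085
theorem D6375 : act 5 n5085 = n6375 := rfl
theorem F30411 : act 1 n6375 = n5096 := d12_1 D6375 (iv D5096) (iv F24557)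
theorem F30412 : act 3 n6375 = n6375 := d25_1 D6375 (iv D6375) F24558
theorem F30413 : act 7 n6375 = n5086 := d36_2 (iv F24561) D6375 (iv D5086)
theorem F30414 : act 9 n6375 = n5150 := d38_2 (iv F24562) D6375 (iv D5150)
def n6376 : Q := act 4 n5086
theorem D6376 : act 4 n5086 = n6376 := rfl
theorem F30415 : act 1 n6376 = n5097 := d11_1 D6376 (iv D5097) (iv F24563)
theorem F30416 : act 5 n6376 = n5231 := d30_2 D5086 D6376 (iv D5231) (iv D4197) (iv F19383)
theorem F30417 : act 9 n6376 = n5151 := d34_2 (iv F24565) D6376 (iv D5151)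
def n6377 : Q := act 6 n5086
theorem D6377 : act 6 n5086 = n6377 := rfl
theorem F30418 : act 1 n6377 = n5098 := d13_1 D6377 (iv D5098) (iv F24563)
theorem F30419 : act 3 n6377 = n6377 := d26_1 D6377 (iv D6377) F24564
theorem F30420 : act 5 n6377 = n5088 := d35_1 D6377 (iv D5088) (iv D4053) (iv F19384) D5086
theorem F30421 : act 9 n6377 = n5152 := d41_2 (iv F24565) D6377 (iv D5152)
def n6378 : Q := act 3 n5087
theorem D6378 : act 3 n5087 = n6378 := rfl
theorem F30422 : act 1 n6378 = n5099 := d10_1 D6378 (iv D5099) (iv F24566)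
theorem F30424 : act 5 n6378 = n5233 := d25_2 (iv F24567) D6378 (iv D5233)
def n6379 : Q := act 6 n5087
theorem D6379 : act 6 n5087 = n6379 := rfl
theorem F30427 : act 1 n6379 = n5100 := d13_1 D6379 (iv D5100) (iv F24566)
theorem F30428 : act 4 n6379 = n5088 := d31_1 D6379 (iv D5088) D5087
theorem F30429 : act 9 n6379 = n5154 := d41_2 (iv F24569) D6379 (iv D5154)
def n6380 : Q := act 7 n5088
theorem D6380 : act 7 n5088 = n6380 := rfl
theorem F30430 : act 1 n6380 = n5101 := d14_1 D6380 (iv D5101) (iv F24570)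
theorem F30431 : act 3 n6380 = n6380 := d27_1 D6380 (iv D6380) F24571
theorem F30432 : act 6 n6380 = n6380 := d39_1 D6380 (iv D6380) (iv D5088) F19388 D5088
theorem F30433 : act 9 n6380 = n5155 := d43_2 (iv F24572) D6380 (iv D5155)
def n6381 : Q := act 8 n5089
theorem D6381 : act 8 n5089 = n6381 := rfl
theorem F30434 : act 0 n6381 = n6381 := d7_1 D6381 (iv D6381) F24573
theorem F30435 : act 2 n6381 = n5102 := d22_1 D6381 (iv D5102) (iv F24574)
theorem F30436 : act 3 n6381 = n5118 := d28_1 D6381 (iv D5118) (iv F24575)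
theorem F30437 : act 4 n6381 = n5093 := d33_1 D6381 (iv D5093) (iv F24576)
theorem F30438 : act 6 n6381 = n5106 := d40_1 D6381 (iv D5106) (iv F24578)
theorem F30439 : act 7 n6381 = n5090 := d42_1 D6381 (iv D5090) (iv F24579)
theorem F30440 : act 9 n6381 = n5105 := d44_2 D5089 D6381 (iv D5105) (iv D4068) (iv F19396)
def n6382 : Q := act 5 n5090
theorem D6382 : act 5 n5090 = n6382 := rfl
theorem F30441 : act 0 n6382 = n6382 := d4_1 D6382 (iv D6382) F24580
theorem F30442 : act 2 n6382 = n5104 := d19_1 D6382 (iv D5104) (iv F24581)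
theorem F30443 : act 8 n6382 = n5238 := d37_2 D5090 D6382 (iv D5238) (iv D4202) (iv F19400)
def n6383 : Q := act 8 n5091
theorem D6383 : act 8 n5091 = n6383 := rfl
theorem F30444 : act 0 n6383 = n6383 := d7_1 D6383 (iv D6383) F24583
theorem F30445 : act 2 n6383 = n5105 := d22_1 D6383 (iv D5105) (iv F24584)
theorem F30446 : act 3 n6383 = n6383 := d28_1 D6383 (iv D6383) F24585
theorem F30447 : act 4 n6383 = n5106 := d33_1 D6383 (iv D5106) (iv F24586)
theorem F30448 : act 6 n6383 = n5093 := d40_1 D6383 (iv D5093) (iv F24588)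
theorem F30449 : act 7 n6383 = n5103 := d42_1 D6383 (iv D5103) (iv F24589)
theorem F30450 : act 9 n6383 = n5102 := d44_2 D5091 D6383 (iv D5102) (iv D4065) F19407
def n6384 : Q := act 8 n5092
theorem D6384 : act 8 n5092 = n6384 := rfl
theorem F30451 : act 0 n6384 = n6384 := d7_1 D6384 (iv D6384) F24590
theorem F30452 : act 2 n6384 = n5106 := d22_1 D6384 (iv D5106) (iv F24591)
theorem F30453 : act 3 n6384 = n6384 := d28_1 D6384 (iv D6384) F24592
theorem F30454 : act 4 n6384 = n5105 := d33_1 D6384 (iv D5105) (iv F24593)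
theorem F30455 : act 6 n6384 = n5102 := d40_1 D6384 (iv D5102) (iv F24595)
theorem F30456 : act 7 n6384 = n5094 := d42_1 D6384 (iv D5094) (iv F24596)
theorem F30457 : act 9 n6384 = n5093 := d44_2 D5092 D6384 (iv D5093) (iv D4058) D4057
def n6385 : Q := act 5 n5093
theorem D6385 : act 5 n5093 = n6385 := rfl
theorem F30458 : act 0 n6385 = n6385 := d4_1 D6385 (iv D6385) F24597
theorem F30459 : act 2 n6385 = n5107 := d19_1 D6385 (iv D5107) (iv F24598)
theorem F30460 : act 3 n6385 = n6385 := d25_1 D6385 (iv D6385) F24599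
theorem F30461 : act 7 n6385 = n5095 := d36_2 (iv F24600) D6385 (iv D5095)
theorem F30462 : act 8 n6385 = n5096 := d37_2 D5093 D6385 (iv D5096) (iv D4061) (iv F19418)
def n6386 : Q := act 5 n5094
theorem D6386 : act 5 n5094 = n6386 := rfl
theorem F30463 : act 0 n6386 = n6386 := d4_1 D6386 (iv D6386) F24601
theorem F30464 : act 2 n6386 = n5108 := d19_1 D6386 (iv D5108) (iv F24602)
theorem F30465 : act 3 n6386 = n6386 := d25_1 D6386 (iv D6386) F24603
theorem F30466 : act 8 n6386 = n5158 := d37_2 D5094 D6386 (iv D5158) (iv D4113) (iv F19423)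
theorem F30467 : act 9 n6386 = n5095 := d38_2 (iv F24604) D6386 (iv D5095)
def n6387 : Q := act 4 n5095
theorem D6387 : act 4 n5095 = n6387 := rfl
theorem F30468 : act 0 n6387 = n6387 := d3_1 D6387 (iv D6387) F24605
theorem F30469 : act 2 n6387 = n5109 := d18_1 D6387 (iv D5109) (iv F24606)
theorem F30470 : act 8 n6387 = n5097 := d33_2 (iv F24608) D6387 (iv D5097)
def n6388 : Q := act 6 n5095
theorem D6388 : act 6 n5095 = n6388 := rfl
theorem F30471 : act 0 n6388 = n6388 := d5_1 D6388 (iv D6388) F24605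
theorem F30472 : act 2 n6388 = n5110 := d20_1 D6388 (iv D5110) (iv F24606)
theorem F30473 : act 3 n6388 = n6388 := d26_1 D6388 (iv D6388) F24607
theorem F30474 : act 8 n6388 = n5098 := d40_2 (iv F24608) D6388 (iv D5098)
def n6389 : Q := act 4 n5096
theorem D6389 : act 4 n5096 = n6389 := rfl
theorem F30475 : act 0 n6389 = n6389 := d3_1 D6389 (iv D6389) F24609
theorem F30476 : act 2 n6389 = n5111 := d18_1 D6389 (iv D5111) (iv F24610)
theorem F30477 : act 5 n6389 = n5243 := d30_2 D5096 D6389 (iv D5243) (iv D4206) (iv F19430)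
theorem F30478 : act 7 n6389 = n5097 := d32_2 (iv F24612) D6389 (iv D5097)
theorem F30479 : act 9 n6389 = n5161 := d34_2 (iv F24613) D6389 (iv D5161)
def n6390 : Q := act 6 n5096
theorem D6390 : act 6 n5096 = n6390 := rfl
theorem F30480 : act 0 n6390 = n6390 := d5_1 D6390 (iv D6390) F24609
theorem F30481 : act 2 n6390 = n5112 := d20_1 D6390 (iv D5112) (iv F24610)
theorem F30482 : act 3 n6390 = n6390 := d26_1 D6390 (iv D6390) F24611
theorem F30483 : act 5 n6390 = n6390 := d35_1 D6390 (iv D6390) (iv D5096) F19431 D5096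
theorem F30484 : act 9 n6390 = n5162 := d41_2 (iv F24613) D6390 (iv D5162)
def n6391 : Q := act 3 n5097
theorem D6391 : act 3 n5097 = n6391 := rfl
theorem F30485 : act 0 n6391 = n6391 := d2_1 D6391 (iv D6391) F24614
theorem F30486 : act 4 n6391 = n6391 := d24_2 D5097 D6391 (iv D6391) (iv D5097) F19436
theorem F30487 : act 5 n6391 = n5245 := d25_2 (iv F24616) D6391 (iv D5245)
theorem F30488 : act 9 n6391 = n5163 := d29_2 (iv F24617) D6391 (iv D5163)
def n6392 : Q := act 6 n5097
theorem D6392 : act 6 n5097 = n6392 := rfl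
theorem F30489 : act 0 n6392 = n6392 := d5_1 D6392 (iv D6392) F24614
theorem F30490 : act 2 n6392 = n5114 := d20_1 D6392 (iv D5114) (iv F24615)
theorem F30491 : act 4 n6392 = n5098 := d31_1 D6392 (iv D5098) D5097
theorem F30492 : act 9 n6392 = n5164 := d41_2 (iv F24617) D6392 (iv D5164)
def n6393 : Q := act 7 n5098
theorem D6393 : act 7 n5098 = n6393 := rfl
theorem F30493 : act 0 n6393 = n6393 := d6_1 D6393 (iv D6393) F24618
theorem F30494 : act 2 n6393 = n5115 := d21_1 D6393 (iv D5115) (iv F24619)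
theorem F30495 : act 3 n6393 = n6393 := d27_1 D6393 (iv D6393) F24620
theorem F30496 : act 5 n6393 = n5101 := d36_1 D6393 (iv D5101) (iv F24621)
theorem F30497 : act 9 n6393 = n5165 := d43_2 (iv F24622) D6393 (iv D5165)
def n6394 : Q := act 6 n5099
theorem D6394 : act 6 n5099 = n6394 := rfl
theorem F30498 : act 0 n6394 = n6394 := d5_1 D6394 (iv D6394) F24623
theorem F30499 : act 2 n6394 = n6394 := d20_1 D6394 (iv D6394) F24624
theorem F30500 : act 3 n6394 = n5100 := d26_1 D6394 (iv D5100) D5099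
theorem F30501 : act 4 n6394 = n6394 := d31_1 D6394 (iv D6394) F24625
theorem F30502 : act 9 n6394 = n5166 := d41_2 (iv F24628) D6394 (iv D5166)
def n6395 : Q := act 5 n5100
theorem D6395 : act 5 n5100 = n6395 := rfl
theorem F30503 : act 0 n6395 = n6395 := d4_1 D6395 (iv D6395) F24629
theorem F30504 : act 2 n6395 = n5116 := d19_1 D6395 (iv D5116) (iv F24630)
theorem F30505 : act 6 n6395 = n5249 := d35_2 D5100 D6395 (iv D5249) (iv D4210) (iv F19440)
theorem F30506 : act 9 n6395 = n5167 := d38_2 (iv F24632) D6395 (iv D5167)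
def n6396 : Q := act 7 n5100
theorem D6396 : act 7 n5100 = n6396 := rfl
theorem F30507 : act 0 n6396 = n6396 := d6_1 D6396 (iv D6396) F24629
theorem F30508 : act 2 n6396 = n5117 := d21_1 D6396 (iv D5117) (iv F24630)
theorem F30509 : act 4 n6396 = n5101 := d32_1 D6396 (iv D5101) (iv F24631)
theorem F30510 : act 6 n6396 = n6396 := d39_1 D6396 (iv D6396) (iv D5100) F19441 D5100
theorem F30511 : act 9 n6396 = n5168 := d43_2 (iv F24632) D6396 (iv D5168)
def n6397 : Q := act 5 n5102
theorem D6397 : act 5 n5102 = n6397 := rfl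
theorem F30512 : act 0 n6397 = n6397 := d4_1 D6397 (iv D6397) F24638
theorem F30513 : act 3 n6397 = n6397 := d25_1 D6397 (iv D6397) F24639
theorem F30514 : act 7 n6397 = n5104 := d36_2 (iv F24641) D6397 (iv D5104)
theorem F30515 : act 8 n6397 = n5252 := d37_2 D5102 D6397 (iv D5252) (iv D4213) (iv F19450)
def n6398 : Q := act 5 n5103
theorem D6398 : act 5 n5103 = n6398 := rfl
theorem F30516 : act 0 n6398 = n6398 := d4_1 D6398 (iv D6398) F24642
theorem F30517 : act 3 n6398 = n6398 := d25_1 D6398 (iv D6398) F24643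
theorem F30518 : act 8 n6398 = n6398 := d37_2 D5103 D6398 (iv D6398) (iv D5103) F19455
theorem F30519 : act 9 n6398 = n5104 := d38_2 (iv F24645) D6398 (iv D5104)
def n6399 : Q := act 4 n5104
theorem D6399 : act 4 n5104 = n6399 := rfl
theorem F30520 : act 0 n6399 = n6399 := d3_1 D6399 (iv D6399) F24646
theorem F30521 : act 5 n6399 = n5109 := d30_2 D5104 D6399 (iv D5109) (iv D4072) (iv F19458)
theorem F30522 : act 8 n6399 = n5253 := d33_2 (iv F24648) D6399 (iv D5253)
def n6400 : Q := act 6 n5104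
theorem D6400 : act 6 n5104 = n6400 := rfl
theorem F30523 : act 0 n6400 = n6400 := d5_1 D6400 (iv D6400) F24646
theorem F30524 : act 3 n6400 = n6400 := d26_1 D6400 (iv D6400) F24647
theorem F30525 : act 8 n6400 = n5254 := d40_2 (iv F24648) D6400 (iv D5254)
def n6401 : Q := act 5 n5105
theorem D6401 : act 5 n5105 = n6401 := rfl
theorem F30526 : act 0 n6401 = n6401 := d4_1 D6401 (iv D6401) F24649
theorem F30527 : act 3 n6401 = n5119 := d25_1 D6401 (iv D5119) (iv F24650)
theorem F30528 : act 8 n6401 = n6401 := d37_2 D5105 D6401 (iv D6401) (iv D5105) F19461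
def n6402 : Q := act 5 n5106
theorem D6402 : act 5 n5106 = n6402 := rfl
theorem F30529 : act 0 n6402 = n6402 := d4_1 D6402 (iv D6402) F24652
theorem F30530 : act 3 n6402 = n5120 := d25_1 D6402 (iv D5120) (iv F24653)
theorem F30531 : act 7 n6402 = n5108 := d36_2 (iv F24654) D6402 (iv D5108)
theorem F30532 : act 8 n6402 = n5169 := d37_2 D5106 D6402 (iv D5169) (iv D4124) (iv F19465)
theorem F30533 : act 9 n6402 = n5107 := d38_2 (iv F24655) D6402 (iv D5107)
def n6403 : Q := act 4 n5107
theorem D6403 : act 4 n5107 = n6403 := rfl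
theorem F30534 : act 0 n6403 = n6403 := d3_1 D6403 (iv D6403) F24656
theorem F30535 : act 7 n6403 = n5109 := d32_2 (iv F24658) D6403 (iv D5109)
theorem F30536 : act 8 n6403 = n5111 := d33_2 (iv F24659) D6403 (iv D5111)
def n6404 : Q := act 6 n5107
theorem D6404 : act 6 n5107 = n6404 := rfl
theorem F30537 : act 0 n6404 = n6404 := d5_1 D6404 (iv D6404) F24656
theorem F30538 : act 3 n6404 = n5122 := d26_1 D6404 (iv D5122) (iv F24657)
theorem F30539 : act 8 n6404 = n5112 := d40_2 (iv F24659) D6404 (iv D5112)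
def n6405 : Q := act 4 n5108
theorem D6405 : act 4 n5108 = n6405 := rfl
theorem F30540 : act 0 n6405 = n6405 := d3_1 D6405 (iv D6405) F24660
theorem F30541 : act 8 n6405 = n5172 := d33_2 (iv F24662) D6405 (iv D5172)
theorem F30542 : act 9 n6405 = n5109 := d34_2 (iv F24663) D6405 (iv D5109)
def n6406 : Q := act 6 n5108
theorem D6406 : act 6 n5108 = n6406 := rfl
theorem F30543 : act 0 n6406 = n6406 := d5_1 D6406 (iv D6406) F24660
theorem F30544 : act 3 n6406 = n5124 := d26_1 D6406 (iv D5124) (iv F24661)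
theorem F30545 : act 8 n6406 = n5173 := d40_2 (iv F24662) D6406 (iv D5173)
theorem F30546 : act 9 n6406 = n5110 := d41_2 (iv F24663) D6406 (iv D5110)
def n6407 : Q := act 3 n5109
theorem D6407 : act 3 n5109 = n6407 := rfl
theorem F30547 : act 0 n6407 = n6407 := d2_1 D6407 (iv D6407) F24664
theorem F30548 : act 4 n6407 = n5125 := d24_2 D5109 D6407 (iv D5125) (iv D4084) (iv F19474)
theorem F30549 : act 8 n6407 = n5113 := d28_2 (iv F24665) D6407 (iv D5113)
def n6408 : Q := act 6 n5109
theorem D6408 : act 6 n5109 = n6408 := rfl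
theorem F30550 : act 0 n6408 = n6408 := d5_1 D6408 (iv D6408) F24664
theorem F30551 : act 4 n6408 = n5110 := d31_1 D6408 (iv D5110) D5109
theorem F30552 : act 8 n6408 = n5114 := d40_2 (iv F24665) D6408 (iv D5114)
def n6409 : Q := act 7 n5110
theorem D6409 : act 7 n5110 = n6409 := rfl
theorem F30553 : act 0 n6409 = n6409 := d6_1 D6409 (iv D6409) F24666
theorem F30554 : act 3 n6409 = n5127 := d27_1 D6409 (iv D5127) (iv F24667)
theorem F30555 : act 8 n6409 = n5115 := d42_2 (iv F24668) D6409 (iv D5115)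
def n6410 : Q := act 3 n5111
theorem D6410 : act 3 n5111 = n6410 := rfl
theorem F30556 : act 0 n6410 = n6410 := d2_1 D6410 (iv D6410) F24669
theorem F30557 : act 4 n6410 = n5128 := d24_2 D5111 D6410 (iv D5128) (iv D4086) (iv F19477)
theorem F30558 : act 5 n6410 = n5261 := d25_2 (iv F24670) D6410 (iv D5261)
theorem F30559 : act 7 n6410 = n5113 := d27_2 (iv F24671) D6410 (iv D5113)
theorem F30560 : act 9 n6410 = n5177 := d29_2 (iv F24672) D6410 (iv D5177)
def n6411 : Q := act 6 n5111
theorem D6411 : act 6 n5111 = n6411 := rfl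
theorem F30561 : act 0 n6411 = n6411 := d5_1 D6411 (iv D6411) F24669
theorem F30562 : act 4 n6411 = n5112 := d31_1 D6411 (iv D5112) D5111
theorem F30563 : act 9 n6411 = n5178 := d41_2 (iv F24672) D6411 (iv D5178)
def n6412 : Q := act 7 n5112
theorem D6412 : act 7 n5112 = n6412 := rfl
theorem F30564 : act 0 n6412 = n6412 := d6_1 D6412 (iv D6412) F24673
theorem F30565 : act 3 n6412 = n5130 := d27_1 D6412 (iv D5130) (iv F24674)
theorem F30566 : act 5 n6412 = n6412 := d36_1 D6412 (iv D6412) F24675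
theorem F30567 : act 6 n6412 = n5115 := d39_1 D6412 (iv D5115) (iv D4075) (iv F19478) D5112
theorem F30568 : act 9 n6412 = n5179 := d43_2 (iv F24676) D6412 (iv D5179)
def n6413 : Q := act 2 n5113
theorem D6413 : act 2 n5113 = n6413 := rfl
theorem F30569 : act 0 n6413 = n6413 := d1_1 D6413 (iv D6413) F24677
theorem F30570 : act 4 n6413 = n5131 := d18_2 (iv F24678) D6413 (iv D5131)
theorem F30571 : act 5 n6413 = n5264 := d19_2 (iv F24679) D6413 (iv D5264)
theorem F30572 : act 9 n6413 = n5180 := d23_2 (iv F24680) D6413 (iv D5180)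
def n6414 : Q := act 6 n5113
theorem D6414 : act 6 n5113 = n6414 := rfl
theorem F30573 : act 0 n6414 = n6414 := d5_1 D6414 (iv D6414) F24677
theorem F30574 : act 3 n6414 = n5114 := d26_1 D6414 (iv D5114) D5113
theorem F30575 : act 4 n6414 = n5132 := d31_1 D6414 (iv D5132) (iv F24678)
theorem F30576 : act 9 n6414 = n5181 := d41_2 (iv F24680) D6414 (iv D5181)
def n6415 : Q := act 5 n5114
theorem D6415 : act 5 n5114 = n6415 := rfl
theorem F30577 : act 0 n6415 = n6415 := d4_1 D6415 (iv D6415) F24681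
theorem F30578 : act 4 n6415 = n5116 := d30_1 D6415 (iv D5116) F19489 (iv F19485) (iv F24682)
theorem F30579 : act 6 n6415 = n5266 := d35_2 D5114 D6415 (iv D5266) (iv D4222) (iv F19481)
theorem F30580 : act 9 n6415 = n5182 := d38_2 (iv F24683) D6415 (iv D5182)
def n6416 : Q := act 7 n5114
theorem D6416 : act 7 n5114 = n6416 := rfl
theorem F30581 : act 0 n6416 = n6416 := d6_1 D6416 (iv D6416) F24681
theorem F30582 : act 4 n6416 = n5115 := d32_1 D6416 (iv D5115) (iv F24682)
theorem F30583 : act 9 n6416 = n5183 := d43_2 (iv F24683) D6416 (iv D5183)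
def n6417 : Q := act 7 n5116
theorem D6417 : act 7 n5116 = n6417 := rfl
theorem F30584 : act 0 n6417 = n6417 := d6_1 D6417 (iv D6417) F24688
theorem F30585 : act 3 n6417 = n6417 := d27_1 D6417 (iv D6417) F24689
theorem F30586 : act 5 n6417 = n5117 := d36_1 D6417 (iv D5117) D5116
theorem F30587 : act 9 n6417 = n5184 := d43_2 (iv F24691) D6417 (iv D5184)
def n6418 : Q := act 8 n5116
theorem D6418 : act 8 n5116 = n6418 := rfl
theorem F30588 : act 0 n6418 = n6418 := d7_1 D6418 (iv D6418) F24688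
theorem F30589 : act 3 n6418 = n6418 := d28_1 D6418 (iv D6418) F24689
theorem F30590 : act 6 n6418 = n5269 := d40_1 D6418 (iv D5269) (iv F24690)
def n6419 : Q := act 5 n5118
theorem D6419 : act 5 n5118 = n6419 := rfl
theorem F30591 : act 0 n6419 = n6419 := d4_1 D6419 (iv D6419) F24697
theorem F30592 : act 2 n6419 = n6419 := d19_1 D6419 (iv D6419) F24698
theorem F30593 : act 9 n6419 = n5119 := d38_2 (iv F24701) D6419 (iv D5119)
def n6420 : Q := act 4 n5119
theorem D6420 : act 4 n5119 = n6420 := rfl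
theorem F30594 : act 0 n6420 = n6420 := d3_1 D6420 (iv D6420) F24702
theorem F30595 : act 2 n6420 = n6420 := d18_1 D6420 (iv D6420) F24703
theorem F30596 : act 5 n6420 = n6420 := d30_2 D5119 D6420 (iv D6420) (iv D5119) F19508
theorem F30597 : act 8 n6420 = n6420 := d33_2 F24704 D6420 (iv D6420)
def n6421 : Q := act 6 n5119
theorem D6421 : act 6 n5119 = n6421 := rfl
theorem F30598 : act 0 n6421 = n6421 := d5_1 D6421 (iv D6421) F24702
theorem F30599 : act 2 n6421 = n6421 := d20_1 D6421 (iv D6421) F24703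
theorem F30600 : act 5 n6421 = n5122 := d35_1 D6421 (iv D5122) (iv D4082) (iv F19509) D5119
theorem F30601 : act 8 n6421 = n6421 := d40_2 F24704 D6421 (iv D6421)
def n6422 : Q := act 4 n5120
theorem D6422 : act 4 n5120 = n6422 := rfl
theorem F30602 : act 0 n6422 = n6422 := d3_1 D6422 (iv D6422) F24705
theorem F30603 : act 2 n6422 = n6422 := d18_1 D6422 (iv D6422) F24706
theorem F30604 : act 5 n6422 = n6422 := d30_2 D5120 D6422 (iv D6422) (iv D5120) F19512
theorem F30605 : act 7 n6422 = n5123 := d32_2 (iv F24707) D6422 (iv D5123)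
theorem F30606 : act 8 n6422 = n5186 := d33_2 (iv F24708) D6422 (iv D5186)
theorem F30607 : act 9 n6422 = n5121 := d34_2 (iv F24709) D6422 (iv D5121)
def n6423 : Q := act 6 n5120
theorem D6423 : act 6 n5120 = n6423 := rfl
theorem F30608 : act 0 n6423 = n6423 := d5_1 D6423 (iv D6423) F24705
theorem F30609 : act 2 n6423 = n6423 := d20_1 D6423 (iv D6423) F24706
theorem F30610 : act 8 n6423 = n5187 := d40_2 (iv F24708) D6423 (iv D5187)
theorem F30611 : act 9 n6423 = n5122 := d41_2 (iv F24709) D6423 (iv D5122)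
def n6424 : Q := act 3 n5121
theorem D6424 : act 3 n5121 = n6424 := rfl
theorem F30612 : act 0 n6424 = n6424 := d2_1 D6424 (iv D6424) F24710
theorem F30613 : act 5 n6424 = n6424 := d25_2 F24712 D6424 (iv D6424)
theorem F30614 : act 7 n6424 = n5125 := d27_2 (iv F24713) D6424 (iv D5125)
theorem F30615 : act 8 n6424 = n5128 := d28_2 (iv F24714) D6424 (iv D5128)
def n6425 : Q := act 6 n5121
theorem D6425 : act 6 n5121 = n6425 := rfl
theorem F30616 : act 0 n6425 = n6425 := d5_1 D6425 (iv D6425) F24710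
theorem F30617 : act 2 n6425 = n6425 := d20_1 D6425 (iv D6425) F24711
theorem F30618 : act 4 n6425 = n5122 := d31_1 D6425 (iv D5122) D5121
theorem F30619 : act 8 n6425 = n5129 := d40_2 (iv F24714) D6425 (iv D5129)
def n6426 : Q := act 7 n5122
theorem D6426 : act 7 n5122 = n6426 := rfl
theorem F30620 : act 0 n6426 = n6426 := d6_1 D6426 (iv D6426) F24715
theorem F30621 : act 2 n6426 = n6426 := d21_1 D6426 (iv D6426) F24716
theorem F30622 : act 6 n6426 = n5127 := d39_1 D6426 (iv D5127) (iv D4085) (iv F19517) D5122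
theorem F30623 : act 8 n6426 = n5130 := d42_2 (iv F24717) D6426 (iv D5130)
def n6427 : Q := act 3 n5123
theorem D6427 : act 3 n5123 = n6427 := rfl
theorem F30624 : act 0 n6427 = n6427 := d2_1 D6427 (iv D6427) F24718
theorem F30625 : act 5 n6427 = n6427 := d25_2 F24720 D6427 (iv D6427)
theorem F30626 : act 8 n6427 = n5191 := d28_2 (iv F24721) D6427 (iv D5191)
theorem F30627 : act 9 n6427 = n5125 := d29_2 (iv F24722) D6427 (iv D5125)
def n6428 : Q := act 6 n5123
theorem D6428 : act 6 n5123 = n6428 := rfl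
theorem F30628 : act 0 n6428 = n6428 := d5_1 D6428 (iv D6428) F24718
theorem F30629 : act 2 n6428 = n6428 := d20_1 D6428 (iv D6428) F24719
theorem F30630 : act 4 n6428 = n5124 := d31_1 D6428 (iv D5124) D5123
theorem F30631 : act 8 n6428 = n5192 := d40_2 (iv F24721) D6428 (iv D5192)
theorem F30632 : act 9 n6428 = n5126 := d41_2 (iv F24722) D6428 (iv D5126)
def n6429 : Q := act 7 n5124
theorem D6429 : act 7 n5124 = n6429 := rfl
theorem F30633 : act 0 n6429 = n6429 := d6_1 D6429 (iv D6429) F24723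
theorem F30634 : act 2 n6429 = n6429 := d21_1 D6429 (iv D6429) F24724
theorem F30635 : act 8 n6429 = n5193 := d42_2 (iv F24725) D6429 (iv D5193)
theorem F30636 : act 9 n6429 = n5127 := d43_2 (iv F24726) D6429 (iv D5127)
def n6430 : Q := act 2 n5125
theorem D6430 : act 2 n5125 = n6430 := rfl
theorem F30637 : act 0 n6430 = n6430 := d1_1 D6430 (iv D6430) F24727
theorem F30638 : act 3 n6430 = n6430 := d17_2 D5125 D6430 (iv D6430) (iv D5125) F19524
theorem F30639 : act 5 n6430 = n6430 := d19_2 F24728 D6430 (iv D6430)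
theorem F30640 : act 8 n6430 = n5131 := d22_2 (iv F24729) D6430 (iv D5131)
def n6431 : Q := act 6 n5125
theorem D6431 : act 6 n5125 = n6431 := rfl
theorem F30641 : act 0 n6431 = n6431 := d5_1 D6431 (iv D6431) F24727
theorem F30642 : act 3 n6431 = n5126 := d26_1 D6431 (iv D5126) D5125
theorem F30643 : act 8 n6431 = n5132 := d40_2 (iv F24729) D6431 (iv D5132)
def n6432 : Q := act 5 n5126
theorem D6432 : act 5 n5126 = n6432 := rfl
theorem F30644 : act 0 n6432 = n6432 := d4_1 D6432 (iv D6432) F24730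
theorem F30645 : act 2 n6432 = n6432 := d19_1 D6432 (iv D6432) F24731
theorem F30646 : act 6 n6432 = n6432 := d35_2 D5126 D6432 (iv D6432) (iv D5126) F19525
theorem F30647 : act 8 n6432 = n6432 := d37_2 (iv F24733) D6432 (iv D6432) F24733 F19545
def n6433 : Q := act 7 n5126
theorem D6433 : act 7 n5126 = n6433 := rfl
theorem F30648 : act 0 n6433 = n6433 := d6_1 D6433 (iv D6433) F24730
theorem F30649 : act 2 n6433 = n6433 := d21_1 D6433 (iv D6433) F24731
theorem F30650 : act 4 n6433 = n5127 := d32_1 D6433 (iv D5127) (iv F24732)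
theorem F30651 : act 8 n6433 = n5133 := d42_2 (iv F24733) D6433 (iv D5133)
def n6434 : Q := act 2 n5128
theorem D6434 : act 2 n5128 = n6434 := rfl
theorem F30654 : act 5 n6434 = n5134 := d19_2 (iv F24738) D6434 (iv D5134)
theorem F30655 : act 7 n6434 = n5131 := d21_2 (iv F24739) D6434 (iv D5131)
def n6435 : Q := act 6 n5128
theorem D6435 : act 6 n5128 = n6435 := rfl
def n6436 : Q := act 5 n5129
theorem D6436 : act 5 n5129 = n6436 := rfl
theorem F30663 : act 6 n6436 = n5136 := d35_2 D5129 D6436 (iv D5136) (iv D4092) (iv F19532)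
def n6437 : Q := act 7 n5129
theorem D6437 : act 7 n5129 = n6437 := rfl
theorem F30665 : act 0 n6437 = n6437 := d6_1 D6437 (iv D6437) F24741
theorem F30666 : act 2 n6437 = n6437 := d21_1 D6437 (iv D6437) F24742
theorem F30667 : act 4 n6437 = n5130 := d32_1 D6437 (iv D5130) (iv F24743)
theorem F30668 : act 6 n6437 = n5133 := d39_1 D6437 (iv D5133) (iv D4089) (iv F19533) D5129
theorem F30669 : act 9 n6437 = n5201 := d43_2 (iv F24744) D6437 (iv D5201)
def n6438 : Q := act 1 n5131
theorem D6438 : act 1 n5131 = n6438 := rfl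
def n6439 : Q := act 6 n5131
theorem D6439 : act 6 n5131 = n6439 := rfl
theorem F30673 : act 0 n6439 = n6439 := d5_1 D6439 (iv D6439) F24750
theorem F30674 : act 2 n6439 = n5132 := d20_1 D6439 (iv D5132) D5131
theorem F30675 : act 3 n6439 = n6439 := d26_1 D6439 (iv D6439) F24751
theorem F30676 : act 5 n6439 = n6439 := d35_1 D6439 (iv D6439) F24752 F19565 (iv F24752)
theorem F30677 : act 9 n6439 = n5203 := d41_2 (iv F24753) D6439 (iv D5203)
def n6440 : Q := act 7 n5132
theorem D6440 : act 7 n5132 = n6440 := rfl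
theorem F30678 : act 0 n6440 = n6440 := d6_1 D6440 (iv D6440) F24754
theorem F30679 : act 3 n6440 = n5133 := d27_1 D6440 (iv D5133) (iv F24755)
theorem F30680 : act 5 n6440 = n6440 := d36_1 D6440 (iv D6440) F24756
theorem F30681 : act 9 n6440 = n5204 := d43_2 (iv F24757) D6440 (iv D5204)
def n6442 : Q := act 6 n5134
theorem D6442 : act 6 n5134 = n6442 := rfl
theorem F30690 : act 4 n6442 = n5287 := d31_1 D6442 (iv D5287) (iv F24765)
def n6446 : Q := act 9 n5138
theorem D6446 : act 9 n5138 = n6446 := rfl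
theorem F30710 : act 0 n6446 = n5146 := d8_1 D6446 (iv D5146) (iv F24785)
theorem F30711 : act 1 n6446 = n6446 := d16_1 D6446 (iv D6446) F24786
theorem F30712 : act 3 n6446 = n6446 := d29_1 D6446 (iv D6446) F24787
theorem F30713 : act 4 n6446 = n6446 := d34_1 D6446 (iv D6446) F24788
theorem F30714 : act 7 n6446 = n5140 := d43_1 D6446 (iv D5140) (iv F24789)
def n6447 : Q := act 8 n5139
theorem D6447 : act 8 n5139 = n6447 := rfl
theorem F30715 : act 0 n6447 = n5147 := d7_1 D6447 (iv D5147) (iv F24790)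
theorem F30716 : act 1 n6447 = n6447 := d15_1 D6447 (iv D6447) F24791
theorem F30717 : act 3 n6447 = n6447 := d28_1 D6447 (iv D6447) F24792
theorem F30718 : act 4 n6447 = n6447 := d33_1 D6447 (iv D6447) F24793
theorem F30719 : act 7 n6447 = n5141 := d42_1 D6447 (iv D5141) (iv F24795)
def n6448 : Q := act 8 n5140
theorem D6448 : act 8 n5140 = n6448 := rfl
theorem F30720 : act 0 n6448 = n5148 := d7_1 D6448 (iv D5148) (iv F24796)
theorem F30721 : act 1 n6448 = n6448 := d15_1 D6448 (iv D6448) F24797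
theorem F30722 : act 3 n6448 = n6448 := d28_1 D6448 (iv D6448) F24798
theorem F30723 : act 4 n6448 = n6448 := d33_1 D6448 (iv D6448) F24799
theorem F30724 : act 6 n6448 = n6448 := d40_1 D6448 (iv D6448) F24800
theorem F30725 : act 9 n6448 = n5141 := d44_2 D5140 D6448 (iv D5141) (iv D4096) D4095
def n6449 : Q := act 5 n5141
theorem D6449 : act 5 n5141 = n6449 := rfl
theorem F30726 : act 0 n6449 = n5149 := d4_1 D6449 (iv D5149) (iv F24801)
theorem F30727 : act 1 n6449 = n6449 := d12_1 D6449 (iv D6449) F24802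
theorem F30728 : act 3 n6449 = n6449 := d25_1 D6449 (iv D6449) F24803
theorem F30729 : act 8 n6449 = n5143 := d37_2 D5141 D6449 (iv D5143) (iv D4098) (iv F19582)
def n6450 : Q := act 5 n5142
theorem D6450 : act 5 n5142 = n6450 := rfl
theorem F30730 : act 0 n6450 = n5150 := d4_1 D6450 (iv D5150) (iv F24806)
theorem F30731 : act 1 n6450 = n6450 := d12_1 D6450 (iv D6450) F24807
theorem F30732 : act 3 n6450 = n6450 := d25_1 D6450 (iv D6450) F24808
theorem F30733 : act 7 n6450 = n5143 := d36_2 (iv F24811) D6450 (iv D5143)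
def n6451 : Q := act 4 n5143
theorem D6451 : act 4 n5143 = n6451 := rfl
theorem F30734 : act 0 n6451 = n5151 := d3_1 D6451 (iv D5151) (iv F24812)
theorem F30735 : act 1 n6451 = n6451 := d11_1 D6451 (iv D6451) F24813
theorem F30736 : act 5 n6451 = n5292 := d30_2 D5143 D6451 (iv D5292) (iv D4243) (iv F19593)
def n6452 : Q := act 6 n5143
theorem D6452 : act 6 n5143 = n6452 := rfl
theorem F30737 : act 0 n6452 = n5152 := d5_1 D6452 (iv D5152) (iv F24812)
theorem F30738 : act 1 n6452 = n6452 := d13_1 D6452 (iv D6452) F24813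
theorem F30739 : act 3 n6452 = n6452 := d26_1 D6452 (iv D6452) F24814
theorem F30740 : act 5 n6452 = n5145 := d35_1 D6452 (iv D5145) (iv D4099) (iv F19594) D5143
def n6453 : Q := act 3 n5144
theorem D6453 : act 3 n5144 = n6453 := rfl
def n6454 : Q := act 6 n5144
theorem D6454 : act 6 n5144 = n6454 := rfl
theorem F30747 : act 0 n6454 = n5154 := d5_1 D6454 (iv D5154) (iv F24815)
theorem F30748 : act 1 n6454 = n6454 := d13_1 D6454 (iv D6454) F24816
theorem F30749 : act 4 n6454 = n5145 := d31_1 D6454 (iv D5145) D5144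
theorem F30750 : act 8 n6454 = n6454 := d40_2 F24819 D6454 (iv D6454)
def n6455 : Q := act 7 n5145
theorem D6455 : act 7 n5145 = n6455 := rfl
theorem F30751 : act 0 n6455 = n5155 := d6_1 D6455 (iv D5155) (iv F24820)
theorem F30752 : act 1 n6455 = n6455 := d14_1 D6455 (iv D6455) F24821
theorem F30753 : act 3 n6455 = n6455 := d27_1 D6455 (iv D6455) F24822
theorem F30754 : act 6 n6455 = n6455 := d39_1 D6455 (iv D6455) (iv D5145) F19598 D5145
theorem F30755 : act 8 n6455 = n6455 := d42_2 F24823 D6455 (iv D6455)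
def n6456 : Q := act 8 n5146
theorem D6456 : act 8 n5146 = n6456 := rfl
theorem F30756 : act 1 n6456 = n5156 := d15_1 D6456 (iv D5156) (iv F24824)
theorem F30757 : act 3 n6456 = n6456 := d28_1 D6456 (iv D6456) F24825
theorem F30758 : act 4 n6456 = n6456 := d33_1 D6456 (iv D6456) F24826
theorem F30759 : act 7 n6456 = n5148 := d42_1 D6456 (iv D5148) (iv F24827)
theorem F30760 : act 9 n6456 = n5147 := d44_2 D5146 D6456 (iv D5147) (iv D4102) D4101
def n6457 : Q := act 5 n5147
theorem D6457 : act 5 n5147 = n6457 := rfl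
theorem F30761 : act 1 n6457 = n5157 := d12_1 D6457 (iv D5157) (iv F24828)
theorem F30762 : act 3 n6457 = n6457 := d25_1 D6457 (iv D6457) F24829
theorem F30763 : act 7 n6457 = n5149 := d36_2 (iv F24831) D6457 (iv D5149)
theorem F30764 : act 8 n6457 = n5150 := d37_2 D5147 D6457 (iv D5150) (iv D4105) (iv F19612)
def n6458 : Q := act 5 n5148
theorem D6458 : act 5 n5148 = n6458 := rfl
theorem F30765 : act 1 n6458 = n5158 := d12_1 D6458 (iv D5158) (iv F24832)
theorem F30766 : act 3 n6458 = n6458 := d25_1 D6458 (iv D6458) F24833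
theorem F30767 : act 9 n6458 = n5149 := d38_2 (iv F24836) D6458 (iv D5149)
def n6459 : Q := act 4 n5149
theorem D6459 : act 4 n5149 = n6459 := rfl
theorem F30768 : act 1 n6459 = n5159 := d11_1 D6459 (iv D5159) (iv F24837)
theorem F30769 : act 5 n6459 = n6459 := d30_2 D5149 D6459 (iv D6459) (iv D5149) F19620
theorem F30770 : act 8 n6459 = n5151 := d33_2 (iv F24839) D6459 (iv D5151)
def n6460 : Q := act 6 n5149
theorem D6460 : act 6 n5149 = n6460 := rfl
theorem F30771 : act 1 n6460 = n5160 := d13_1 D6460 (iv D5160) (iv F24837)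
theorem F30772 : act 3 n6460 = n6460 := d26_1 D6460 (iv D6460) F24838
theorem F30773 : act 5 n6460 = n6460 := d35_1 D6460 (iv D6460) (iv D5149) F19621 D5149
theorem F30774 : act 8 n6460 = n5152 := d40_2 (iv F24839) D6460 (iv D5152)
def n6461 : Q := act 4 n5150
theorem D6461 : act 4 n5150 = n6461 := rfl
theorem F30775 : act 1 n6461 = n5161 := d11_1 D6461 (iv D5161) (iv F24840)
theorem F30776 : act 5 n6461 = n5297 := d30_2 D5150 D6461 (iv D5297) (iv D4246) (iv F19624)
theorem F30777 : act 7 n6461 = n5151 := d32_2 (iv F24842) D6461 (iv D5151)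
def n6462 : Q := act 6 n5150
theorem D6462 : act 6 n5150 = n6462 := rfl
theorem F30778 : act 1 n6462 = n5162 := d13_1 D6462 (iv D5162) (iv F24840)
theorem F30779 : act 3 n6462 = n6462 := d26_1 D6462 (iv D6462) F24841
theorem F30780 : act 5 n6462 = n6462 := d35_1 D6462 (iv D6462) (iv D5150) F19625 D5150
def n6463 : Q := act 3 n5151
theorem D6463 : act 3 n5151 = n6463 := rfl
theorem F30781 : act 1 n6463 = n5163 := d10_1 D6463 (iv D5163) (iv F24843)
theorem F30783 : act 5 n6463 = n5299 := d25_2 (iv F24844) D6463 (iv D5299)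
def n6464 : Q := act 6 n5151
theorem D6464 : act 6 n5151 = n6464 := rfl
theorem F30784 : act 1 n6464 = n5164 := d13_1 D6464 (iv D5164) (iv F24843)
theorem F30785 : act 4 n6464 = n5152 := d31_1 D6464 (iv D5152) D5151
def n6465 : Q := act 7 n5152
theorem D6465 : act 7 n5152 = n6465 := rfl
theorem F30786 : act 1 n6465 = n5165 := d14_1 D6465 (iv D5165) (iv F24845)
theorem F30787 : act 3 n6465 = n6465 := d27_1 D6465 (iv D6465) F24846
theorem F30788 : act 5 n6465 = n5155 := d36_1 D6465 (iv D5155) (iv F24847)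
def n6466 : Q := act 2 n5153
theorem D6466 : act 2 n5153 = n6466 := rfl
theorem F30791 : act 5 n6466 = n5302 := d19_2 (iv F24850) D6466 (iv D5302)
def n6467 : Q := act 6 n5153
theorem D6467 : act 6 n5153 = n6467 := rfl
theorem F30794 : act 1 n6467 = n5166 := d13_1 D6467 (iv D5166) (iv F24848)
theorem F30795 : act 3 n6467 = n5154 := d26_1 D6467 (iv D5154) D5153
def n6468 : Q := act 5 n5154
theorem D6468 : act 5 n5154 = n6468 := rfl
theorem F30798 : act 1 n6468 = n5167 := d12_1 D6468 (iv D5167) (iv F24853)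
theorem F30799 : act 6 n6468 = n5304 := d35_2 D5154 D6468 (iv D5304) (iv D4250) (iv F19630)
def n6469 : Q := act 7 n5154
theorem D6469 : act 7 n5154 = n6469 := rfl
theorem F30800 : act 1 n6469 = n5168 := d14_1 D6469 (iv D5168) (iv F24853)
theorem F30801 : act 4 n6469 = n5155 := d32_1 D6469 (iv D5155) (iv F24854)
theorem F30802 : act 6 n6469 = n6469 := d39_1 D6469 (iv D6469) (iv D5154) F19631 D5154
theorem F30803 : act 8 n6469 = n6469 := d42_2 F24855 D6469 (iv D6469)
def n6470 : Q := act 5 n5156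
theorem D6470 : act 5 n5156 = n6470 := rfl
theorem F30804 : act 0 n6470 = n6470 := d4_1 D6470 (iv D6470) F24860
theorem F30805 : act 2 n6470 = n5169 := d19_1 D6470 (iv D5169) (iv F24861)
theorem F30806 : act 3 n6470 = n6470 := d25_1 D6470 (iv D6470) F24862
theorem F30807 : act 7 n6470 = n5158 := d36_2 (iv F24864) D6470 (iv D5158)
theorem F30808 : act 9 n6470 = n5157 := d38_2 (iv F24865) D6470 (iv D5157)
def n6471 : Q := act 4 n5157
theorem D6471 : act 4 n5157 = n6471 := rfl
theorem F30809 : act 0 n6471 = n6471 := d3_1 D6471 (iv D6471) F24866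
theorem F30810 : act 2 n6471 = n5170 := d18_1 D6471 (iv D5170) (iv F24867)
theorem F30811 : act 5 n6471 = n6471 := d30_2 D5157 D6471 (iv D6471) (iv D5157) F19658
theorem F30812 : act 7 n6471 = n5159 := d32_2 (iv F24869) D6471 (iv D5159)
theorem F30813 : act 8 n6471 = n5161 := d33_2 (iv F24870) D6471 (iv D5161)
def n6472 : Q := act 6 n5157
theorem D6472 : act 6 n5157 = n6472 := rfl
theorem F30814 : act 0 n6472 = n6472 := d5_1 D6472 (iv D6472) F24866
theorem F30815 : act 2 n6472 = n5171 := d20_1 D6472 (iv D5171) (iv F24867)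
theorem F30816 : act 3 n6472 = n6472 := d26_1 D6472 (iv D6472) F24868
theorem F30817 : act 8 n6472 = n5162 := d40_2 (iv F24870) D6472 (iv D5162)
def n6473 : Q := act 4 n5158
theorem D6473 : act 4 n5158 = n6473 := rfl
theorem F30818 : act 0 n6473 = n6473 := d3_1 D6473 (iv D6473) F24871
theorem F30819 : act 2 n6473 = n5172 := d18_1 D6473 (iv D5172) (iv F24872)
theorem F30820 : act 5 n6473 = n6473 := d30_2 D5158 D6473 (iv D6473) (iv D5158) F19663
theorem F30821 : act 9 n6473 = n5159 := d34_2 (iv F24874) D6473 (iv D5159)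
def n6474 : Q := act 6 n5158
theorem D6474 : act 6 n5158 = n6474 := rfl
theorem F30822 : act 0 n6474 = n6474 := d5_1 D6474 (iv D6474) F24871
theorem F30823 : act 2 n6474 = n5173 := d20_1 D6474 (iv D5173) (iv F24872)
theorem F30824 : act 3 n6474 = n6474 := d26_1 D6474 (iv D6474) F24873
theorem F30825 : act 5 n6474 = n6474 := d35_1 D6474 (iv D6474) (iv D5158) F19664 D5158
theorem F30826 : act 9 n6474 = n5160 := d41_2 (iv F24874) D6474 (iv D5160)
def n6475 : Q := act 3 n5159
theorem D6475 : act 3 n5159 = n6475 := rfl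
theorem F30827 : act 0 n6475 = n6475 := d2_1 D6475 (iv D6475) F24875
theorem F30828 : act 4 n6475 = n6475 := d24_2 D5159 D6475 (iv D6475) (iv D5159) F19668
theorem F30829 : act 5 n6475 = n6475 := d25_2 F24877 D6475 (iv D6475)
theorem F30830 : act 8 n6475 = n5163 := d28_2 (iv F24878) D6475 (iv D5163)
def n6476 : Q := act 6 n5159
theorem D6476 : act 6 n5159 = n6476 := rfl
theorem F30831 : act 0 n6476 = n6476 := d5_1 D6476 (iv D6476) F24875
theorem F30832 : act 2 n6476 = n5175 := d20_1 D6476 (iv D5175) (iv F24876)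
theorem F30833 : act 4 n6476 = n5160 := d31_1 D6476 (iv D5160) D5159
theorem F30834 : act 8 n6476 = n5164 := d40_2 (iv F24878) D6476 (iv D5164)
def n6477 : Q := act 7 n5160
theorem D6477 : act 7 n5160 = n6477 := rfl
theorem F30835 : act 0 n6477 = n6477 := d6_1 D6477 (iv D6477) F24879
theorem F30836 : act 2 n6477 = n5176 := d21_1 D6477 (iv D5176) (iv F24880)
theorem F30837 : act 3 n6477 = n6477 := d27_1 D6477 (iv D6477) F24881
theorem F30838 : act 5 n6477 = n6477 := d36_1 D6477 (iv D6477) F24882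
theorem F30839 : act 8 n6477 = n5165 := d42_2 (iv F24883) D6477 (iv D5165)
def n6478 : Q := act 3 n5161
theorem D6478 : act 3 n5161 = n6478 := rfl
theorem F30840 : act 0 n6478 = n6478 := d2_1 D6478 (iv D6478) F24884
theorem F30841 : act 4 n6478 = n6478 := d24_2 D5161 D6478 (iv D6478) (iv D5161) F19672
theorem F30842 : act 5 n6478 = n5306 := d25_2 (iv F24886) D6478 (iv D5306)
theorem F30843 : act 7 n6478 = n5163 := d27_2 (iv F24887) D6478 (iv D5163)
def n6479 : Q := act 6 n5161
theorem D6479 : act 6 n5161 = n6479 := rfl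
theorem F30844 : act 0 n6479 = n6479 := d5_1 D6479 (iv D6479) F24884
theorem F30845 : act 2 n6479 = n5178 := d20_1 D6479 (iv D5178) (iv F24885)
theorem F30846 : act 4 n6479 = n5162 := d31_1 D6479 (iv D5162) D5161
def n6480 : Q := act 7 n5162
theorem D6480 : act 7 n5162 = n6480 := rfl
theorem F30847 : act 0 n6480 = n6480 := d6_1 D6480 (iv D6480) F24888
theorem F30848 : act 2 n6480 = n5179 := d21_1 D6480 (iv D5179) (iv F24889)
theorem F30849 : act 3 n6480 = n6480 := d27_1 D6480 (iv D6480) F24890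
theorem F30850 : act 5 n6480 = n6480 := d36_1 D6480 (iv D6480) F24891
theorem F30851 : act 6 n6480 = n5165 := d39_1 D6480 (iv D5165) (iv D4117) (iv F19673) D5162
def n6481 : Q := act 2 n5163
theorem D6481 : act 2 n5163 = n6481 := rfl
theorem F30852 : act 0 n6481 = n6481 := d1_1 D6481 (iv D6481) F24892
theorem F30853 : act 3 n6481 = n5180 := d17_2 D5163 D6481 (iv D5180) (iv D4131) (iv F19675)
theorem F30854 : act 4 n6481 = n6481 := d18_2 F24893 D6481 (iv D6481)
theorem F30855 : act 5 n6481 = n5309 := d19_2 (iv F24894) D6481 (iv D5309)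
def n6482 : Q := act 6 n5163
theorem D6482 : act 6 n5163 = n6482 := rfl
theorem F30856 : act 0 n6482 = n6482 := d5_1 D6482 (iv D6482) F24892
theorem F30857 : act 3 n6482 = n5164 := d26_1 D6482 (iv D5164) D5163
theorem F30858 : act 4 n6482 = n6482 := d31_1 D6482 (iv D6482) F24893
def n6483 : Q := act 5 n5164
theorem D6483 : act 5 n5164 = n6483 := rfl
theorem F30859 : act 0 n6483 = n6483 := d4_1 D6483 (iv D6483) F24895
theorem F30860 : act 2 n6483 = n5182 := d19_1 D6483 (iv D5182) (iv F24896)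
theorem F30861 : act 4 n6483 = n5167 := d30_1 D6483 (iv D5167) F19689 (iv F19680) (iv F24897)
theorem F30862 : act 6 n6483 = n5311 := d35_2 D5164 D6483 (iv D5311) (iv D4255) (iv F19676)
def n6484 : Q := act 7 n5164
theorem D6484 : act 7 n5164 = n6484 := rfl
theorem F30863 : act 0 n6484 = n6484 := d6_1 D6484 (iv D6484) F24895
theorem F30864 : act 2 n6484 = n5183 := d21_1 D6484 (iv D5183) (iv F24896)
theorem F30865 : act 4 n6484 = n5165 := d32_1 D6484 (iv D5165) (iv F24897)
def n6485 : Q := act 5 n5166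
theorem D6485 : act 5 n5166 = n6485 := rfl
theorem F30868 : act 3 n6485 = n5167 := d25_1 D6485 (iv D5167) (iv F24904)
theorem F30869 : act 6 n6485 = n5313 := d35_2 D5166 D6485 (iv D5313) (iv D4257) (iv F19684)
def n6486 : Q := act 7 n5166
theorem D6486 : act 7 n5166 = n6486 := rfl
theorem F30870 : act 0 n6486 = n6486 := d6_1 D6486 (iv D6486) F24902
theorem F30871 : act 2 n6486 = n6486 := d21_1 D6486 (iv D6486) F24903
theorem F30872 : act 3 n6486 = n5168 := d27_1 D6486 (iv D5168) (iv F24904)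
theorem F30873 : act 4 n6486 = n6486 := d32_1 D6486 (iv D6486) F24905
theorem F30874 : act 6 n6486 = n6486 := d39_1 D6486 (iv D6486) (iv D5166) F19685 D5166
theorem F30875 : act 8 n6486 = n6486 := d42_2 F24906 D6486 (iv D6486)
def n6487 : Q := act 7 n5167
theorem D6487 : act 7 n5167 = n6487 := rfl
theorem F30876 : act 0 n6487 = n6487 := d6_1 D6487 (iv D6487) F24907
theorem F30877 : act 2 n6487 = n5184 := d21_1 D6487 (iv D5184) (iv F24908)
theorem F30878 : act 5 n6487 = n5168 := d36_1 D6487 (iv D5168) D5167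
def n6488 : Q := act 8 n5167
theorem D6488 : act 8 n5167 = n6488 := rfl
theorem F30879 : act 0 n6488 = n6488 := d7_1 D6488 (iv D6488) F24907
theorem F30880 : act 2 n6488 = n5185 := d22_1 D6488 (iv D5185) (iv F24908)
theorem F30881 : act 5 n6488 = n6488 := d37_1 D6488 (iv D6488) (iv D5167) F19690 D5167
def n6489 : Q := act 4 n5169
theorem D6489 : act 4 n5169 = n6489 := rfl
theorem F30883 : act 0 n6489 = n6489 := d3_1 D6489 (iv D6489) F24915
theorem F30884 : act 5 n6489 = n6489 := d30_2 D5169 D6489 (iv D6489) (iv D5169) F19715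
theorem F30885 : act 7 n6489 = n5172 := d32_2 (iv F24917) D6489 (iv D5172)
theorem F30886 : act 9 n6489 = n5170 := d34_2 (iv F24918) D6489 (iv D5170)
def n6490 : Q := act 6 n5169
theorem D6490 : act 6 n5169 = n6490 := rfl
theorem F30887 : act 0 n6490 = n6490 := d5_1 D6490 (iv D6490) F24915
theorem F30888 : act 3 n6490 = n5187 := d26_1 D6490 (iv D5187) (iv F24916)
theorem F30889 : act 9 n6490 = n5171 := d41_2 (iv F24918) D6490 (iv D5171)
def n6491 : Q := act 3 n5170
theorem D6491 : act 3 n5170 = n6491 := rfl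
theorem F30890 : act 0 n6491 = n6491 := d2_1 D6491 (iv D6491) F24919
theorem F30891 : act 4 n6491 = n5188 := d24_2 D5170 D6491 (iv D5188) (iv D4141) (iv F19719)
theorem F30892 : act 5 n6491 = n6491 := d25_2 F24920 D6491 (iv D6491)
theorem F30893 : act 7 n6491 = n5174 := d27_2 (iv F24921) D6491 (iv D5174)
theorem F30894 : act 8 n6491 = n5177 := d28_2 (iv F24922) D6491 (iv D5177)
def n6492 : Q := act 6 n5170
theorem D6492 : act 6 n5170 = n6492 := rfl
theorem F30895 : act 0 n6492 = n6492 := d5_1 D6492 (iv D6492) F24919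
theorem F30896 : act 4 n6492 = n5171 := d31_1 D6492 (iv D5171) D5170
theorem F30897 : act 8 n6492 = n5178 := d40_2 (iv F24922) D6492 (iv D5178)
def n6493 : Q := act 7 n5171
theorem D6493 : act 7 n5171 = n6493 := rfl
theorem F30898 : act 0 n6493 = n6493 := d6_1 D6493 (iv D6493) F24923
theorem F30899 : act 3 n6493 = n5190 := d27_1 D6493 (iv D5190) (iv F24924)
theorem F30900 : act 6 n6493 = n5176 := d39_1 D6493 (iv D5176) (iv D4128) (iv F19720) D5171
theorem F30901 : act 8 n6493 = n5179 := d42_2 (iv F24925) D6493 (iv D5179)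
def n6494 : Q := act 3 n5172
theorem D6494 : act 3 n5172 = n6494 := rfl
theorem F30902 : act 0 n6494 = n6494 := d2_1 D6494 (iv D6494) F24926
theorem F30903 : act 4 n6494 = n5191 := d24_2 D5172 D6494 (iv D5191) (iv D4143) (iv F19723)
theorem F30904 : act 5 n6494 = n6494 := d25_2 F24927 D6494 (iv D6494)
theorem F30905 : act 9 n6494 = n5174 := d29_2 (iv F24928) D6494 (iv D5174)
def n6495 : Q := act 6 n5172
theorem D6495 : act 6 n5172 = n6495 := rfl
theorem F30906 : act 0 n6495 = n6495 := d5_1 D6495 (iv D6495) F24926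
theorem F30907 : act 4 n6495 = n5173 := d31_1 D6495 (iv D5173) D5172
theorem F30908 : act 9 n6495 = n5175 := d41_2 (iv F24928) D6495 (iv D5175)
def n6496 : Q := act 7 n5173
theorem D6496 : act 7 n5173 = n6496 := rfl
theorem F30909 : act 0 n6496 = n6496 := d6_1 D6496 (iv D6496) F24929
theorem F30910 : act 3 n6496 = n5193 := d27_1 D6496 (iv D5193) (iv F24930)
theorem F30911 : act 5 n6496 = n6496 := d36_1 D6496 (iv D6496) F24931
theorem F30912 : act 9 n6496 = n5176 := d43_2 (iv F24932) D6496 (iv D5176)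
def n6497 : Q := act 2 n5174
theorem D6497 : act 2 n5174 = n6497 := rfl
theorem F30913 : act 0 n6497 = n6497 := d1_1 D6497 (iv D6497) F24933
theorem F30914 : act 4 n6497 = n5194 := d18_2 (iv F24934) D6497 (iv D5194)
theorem F30915 : act 5 n6497 = n6497 := d19_2 F24935 D6497 (iv D6497)
theorem F30916 : act 8 n6497 = n5180 := d22_2 (iv F24936) D6497 (iv D5180)
def n6498 : Q := act 6 n5174
theorem D6498 : act 6 n5174 = n6498 := rfl
theorem F30917 : act 0 n6498 = n6498 := d5_1 D6498 (iv D6498) F24933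
theorem F30918 : act 3 n6498 = n5175 := d26_1 D6498 (iv D5175) D5174
theorem F30919 : act 4 n6498 = n5195 := d31_1 D6498 (iv D5195) (iv F24934)
theorem F30920 : act 8 n6498 = n5181 := d40_2 (iv F24936) D6498 (iv D5181)
def n6499 : Q := act 5 n5175
theorem D6499 : act 5 n5175 = n6499 := rfl
theorem F30921 : act 0 n6499 = n6499 := d4_1 D6499 (iv D6499) F24937
theorem F30922 : act 4 n6499 = n6499 := d30_1 D6499 (iv D6499) F24938 F19730 (iv F24938)
theorem F30923 : act 6 n6499 = n6499 := d35_2 D5175 D6499 (iv D6499) (iv D5175) F19726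
def n6500 : Q := act 7 n5175
theorem D6500 : act 7 n5175 = n6500 := rfl
theorem F30924 : act 0 n6500 = n6500 := d6_1 D6500 (iv D6500) F24937
theorem F30925 : act 4 n6500 = n5176 := d32_1 D6500 (iv D5176) (iv F24938)
theorem F30926 : act 8 n6500 = n5183 := d42_2 (iv F24939) D6500 (iv D5183)
def n6501 : Q := act 2 n5177
theorem D6501 : act 2 n5177 = n6501 := rfl
theorem F30929 : act 5 n6501 = n5317 := d19_2 (iv F24946) D6501 (iv D5317)
theorem F30930 : act 7 n6501 = n5180 := d21_2 (iv F24947) D6501 (iv D5180)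
def n6502 : Q := act 6 n5177
theorem D6502 : act 6 n5177 = n6502 := rfl
theorem F30932 : act 3 n6502 = n5178 := d26_1 D6502 (iv D5178) D5177
def n6503 : Q := act 5 n5178
theorem D6503 : act 5 n5178 = n6503 := rfl
theorem F30936 : act 6 n6503 = n5319 := d35_2 D5178 D6503 (iv D5319) (iv D4261) (iv F19733)
def n6504 : Q := act 7 n5178
theorem D6504 : act 7 n5178 = n6504 := rfl
theorem F30937 : act 0 n6504 = n6504 := d6_1 D6504 (iv D6504) F24948
theorem F30938 : act 4 n6504 = n5179 := d32_1 D6504 (iv D5179) (iv F24949)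
theorem F30939 : act 6 n6504 = n5183 := d39_1 D6504 (iv D5183) (iv D4132) (iv F19734) D5178
def n6505 : Q := act 1 n5180
theorem D6505 : act 1 n5180 = n6505 := rfl
theorem F30941 : act 5 n6505 = n5321 := d12_2 (iv F24956) D6505 (iv D5321)
def n6506 : Q := act 6 n5180
theorem D6506 : act 6 n5180 = n6506 := rfl
theorem F30942 : act 0 n6506 = n6506 := d5_1 D6506 (iv D6506) F24954
theorem F30943 : act 2 n6506 = n5181 := d20_1 D6506 (iv D5181) D5180
theorem F30944 : act 4 n6506 = n5203 := d31_1 D6506 (iv D5203) (iv F24955)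
def n6507 : Q := act 5 n5181
theorem D6507 : act 5 n5181 = n6507 := rfl
theorem F30945 : act 0 n6507 = n6507 := d4_1 D6507 (iv D6507) F24957
theorem F30946 : act 3 n6507 = n5182 := d25_1 D6507 (iv D5182) (iv F24958)
theorem F30947 : act 4 n6507 = n6507 := d30_1 D6507 (iv D6507) F24959 F19821 (iv F24959)
theorem F30948 : act 6 n6507 = n5323 := d35_2 D5181 D6507 (iv D5323) (iv D4264) (iv F19740)
def n6508 : Q := act 7 n5181
theorem D6508 : act 7 n5181 = n6508 := rfl
theorem F30949 : act 0 n6508 = n6508 := d6_1 D6508 (iv D6508) F24957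
theorem F30950 : act 3 n6508 = n5183 := d27_1 D6508 (iv D5183) (iv F24958)
theorem F30951 : act 4 n6508 = n5204 := d32_1 D6508 (iv D5204) (iv F24959)
def n6509 : Q := act 7 n5182
theorem D6509 : act 7 n5182 = n6509 := rfl
theorem F30952 : act 0 n6509 = n6509 := d6_1 D6509 (iv D6509) F24960
theorem F30953 : act 4 n6509 = n5184 := d32_1 D6509 (iv D5184) (iv F24961)
theorem F30954 : act 5 n6509 = n5183 := d36_1 D6509 (iv D5183) D5182
def n6510 : Q := act 8 n5182
theorem D6510 : act 8 n5182 = n6510 := rfl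
theorem F30955 : act 0 n6510 = n6510 := d7_1 D6510 (iv D6510) F24960
theorem F30956 : act 4 n6510 = n5185 := d33_1 D6510 (iv D5185) (iv F24961)
theorem F30957 : act 6 n6510 = n5326 := d40_1 D6510 (iv D5326) (iv F24962)
def n6511 : Q := act 6 n5184
theorem D6511 : act 6 n5184 = n6511 := rfl
theorem F30958 : act 0 n6511 = n6511 := d5_1 D6511 (iv D6511) F24965
theorem F30959 : act 3 n6511 = n6511 := d26_1 D6511 (iv D6511) F24966
theorem F30960 : act 5 n6511 = n6511 := d35_1 D6511 (iv D6511) F24967 F19752 (iv F24967)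
theorem F30961 : act 7 n6511 = n5327 := d39_2 D5184 D6511 (iv D5327) (iv D4267) (iv F19748)
def n6512 : Q := act 8 n5184
theorem D6512 : act 8 n5184 = n6512 := rfl
theorem F30962 : act 0 n6512 = n6512 := d7_1 D6512 (iv D6512) F24965
theorem F30963 : act 3 n6512 = n6512 := d28_1 D6512 (iv D6512) F24966
theorem F30964 : act 5 n6512 = n6512 := d37_1 D6512 (iv D6512) F24967 F19753 (iv F24967)
theorem F30965 : act 7 n6512 = n5185 := d42_1 D6512 (iv D5185) D5184
def n6513 : Q := act 9 n5185
theorem D6513 : act 9 n5185 = n6513 := rfl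
theorem F30966 : act 0 n6513 = n6513 := d8_1 D6513 (iv D6513) F24968
theorem F30967 : act 3 n6513 = n6513 := d29_1 D6513 (iv D6513) F24969
theorem F30968 : act 5 n6513 = n6513 := d38_1 D6513 (iv D6513) F24970
theorem F30969 : act 6 n6513 = n5329 := d41_1 D6513 (iv D5329) (iv F24971)
def n6514 : Q := act 3 n5186
theorem D6514 : act 3 n5186 = n6514 := rfl
theorem F30970 : act 0 n6514 = n6514 := d2_1 D6514 (iv D6514) F24972
theorem F30971 : act 5 n6514 = n5209 := d25_2 (iv F24974) D6514 (iv D5209)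
theorem F30972 : act 7 n6514 = n5191 := d27_2 (iv F24975) D6514 (iv D5191)
theorem F30973 : act 9 n6514 = n5188 := d29_2 (iv F24976) D6514 (iv D5188)
def n6515 : Q := act 6 n5186
theorem D6515 : act 6 n5186 = n6515 := rfl
theorem F30974 : act 0 n6515 = n6515 := d5_1 D6515 (iv D6515) F24972
theorem F30975 : act 2 n6515 = n6515 := d20_1 D6515 (iv D6515) F24973
theorem F30976 : act 4 n6515 = n5187 := d31_1 D6515 (iv D5187) D5186
theorem F30977 : act 5 n6515 = n6515 := d35_1 D6515 (iv D6515) F24974 F20364 (iv F24974)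
theorem F30978 : act 9 n6515 = n5189 := d41_2 (iv F24976) D6515 (iv D5189)
def n6516 : Q := act 7 n5187
theorem D6516 : act 7 n5187 = n6516 := rfl
theorem F30979 : act 0 n6516 = n6516 := d6_1 D6516 (iv D6516) F24977
theorem F30980 : act 2 n6516 = n6516 := d21_1 D6516 (iv D6516) F24978
theorem F30981 : act 6 n6516 = n5193 := d39_1 D6516 (iv D5193) (iv D4144) (iv F19777) D5187
theorem F30982 : act 9 n6516 = n5190 := d43_2 (iv F24979) D6516 (iv D5190)
def n6517 : Q := act 2 n5188
theorem D6517 : act 2 n5188 = n6517 := rfl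
theorem F30986 : act 7 n6517 = n5194 := d21_2 (iv F24982) D6517 (iv D5194)
theorem F30987 : act 8 n6517 = n5198 := d22_2 (iv F24983) D6517 (iv D5198)
def n6518 : Q := act 6 n5188
theorem D6518 : act 6 n5188 = n6518 := rfl
theorem F30991 : act 8 n6518 = n5199 := d40_2 (iv F24983) D6518 (iv D5199)
def n6519 : Q := act 7 n5189
theorem D6519 : act 7 n5189 = n6519 := rfl
theorem F30992 : act 0 n6519 = n6519 := d6_1 D6519 (iv D6519) F24984
theorem F30993 : act 2 n6519 = n6519 := d21_1 D6519 (iv D6519) F24985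
theorem F30994 : act 4 n6519 = n5190 := d32_1 D6519 (iv D5190) (iv F24986)
theorem F30995 : act 5 n6519 = n6519 := d36_1 D6519 (iv D6519) F24987
theorem F30996 : act 6 n6519 = n5197 := d39_1 D6519 (iv D5197) (iv D4146) (iv F19782) D5189
theorem F30997 : act 8 n6519 = n5201 := d42_2 (iv F24988) D6519 (iv D5201)
def n6520 : Q := act 2 n5191
theorem D6520 : act 2 n5191 = n6520 := rfl
theorem F30998 : act 0 n6520 = n6520 := d1_1 D6520 (iv D6520) F24993
theorem F30999 : act 3 n6520 = n6520 := d17_2 D5191 D6520 (iv D6520) (iv D5191) F19788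
theorem F31000 : act 5 n6520 = n5211 := d19_2 (iv F24994) D6520 (iv D5211)
theorem F31001 : act 9 n6520 = n5194 := d23_2 (iv F24995) D6520 (iv D5194)
def n6521 : Q := act 6 n5191
theorem D6521 : act 6 n5191 = n6521 := rfl
theorem F31002 : act 0 n6521 = n6521 := d5_1 D6521 (iv D6521) F24993
theorem F31003 : act 3 n6521 = n5192 := d26_1 D6521 (iv D5192) D5191
theorem F31004 : act 9 n6521 = n5195 := d41_2 (iv F24995) D6521 (iv D5195)
def n6522 : Q := act 5 n5192
theorem D6522 : act 5 n5192 = n6522 := rfl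
theorem F31005 : act 0 n6522 = n6522 := d4_1 D6522 (iv D6522) F24996
theorem F31006 : act 2 n6522 = n6522 := d19_1 D6522 (iv D6522) F24997
theorem F31007 : act 4 n6522 = n6522 := d30_1 D6522 (iv D6522) F24998 F19793 (iv F24998)
theorem F31008 : act 6 n6522 = n5213 := d35_2 D5192 D6522 (iv D5213) (iv D4170) (iv F19789)
theorem F31009 : act 9 n6522 = n5196 := d38_2 (iv F24999) D6522 (iv D5196)
def n6523 : Q := act 7 n5192
theorem D6523 : act 7 n5192 = n6523 := rfl
theorem F31010 : act 0 n6523 = n6523 := d6_1 D6523 (iv D6523) F24996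
theorem F31011 : act 2 n6523 = n6523 := d21_1 D6523 (iv D6523) F24997
theorem F31012 : act 4 n6523 = n5193 := d32_1 D6523 (iv D5193) (iv F24998)
theorem F31013 : act 9 n6523 = n5197 := d43_2 (iv F24999) D6523 (iv D5197)
def n6524 : Q := act 1 n5194
theorem D6524 : act 1 n5194 = n6524 := rfl
theorem F31015 : act 5 n6524 = n5214 := d12_2 (iv F25006) D6524 (iv D5214)
theorem F31016 : act 8 n6524 = n5202 := d15_2 (iv F25007) D6524 (iv D5202)
def n6525 : Q := act 6 n5194
theorem D6525 : act 6 n5194 = n6525 := rfl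
theorem F31017 : act 0 n6525 = n6525 := d5_1 D6525 (iv D6525) F25004
theorem F31018 : act 2 n6525 = n5195 := d20_1 D6525 (iv D5195) D5194
theorem F31019 : act 3 n6525 = n6525 := d26_1 D6525 (iv D6525) F25005
theorem F31020 : act 8 n6525 = n5203 := d40_2 (iv F25007) D6525 (iv D5203)
def n6526 : Q := act 5 n5195
theorem D6526 : act 5 n5195 = n6526 := rfl
theorem F31021 : act 0 n6526 = n6526 := d4_1 D6526 (iv D6526) F25008
theorem F31022 : act 3 n6526 = n5196 := d25_1 D6526 (iv D5196) (iv F25009)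
theorem F31023 : act 6 n6526 = n5216 := d35_2 D5195 D6526 (iv D5216) (iv D4173) (iv F19796)
theorem F31024 : act 8 n6526 = n6526 := d37_2 (iv F25010) D6526 (iv D6526) F25010 F19821
def n6527 : Q := act 7 n5195
theorem D6527 : act 7 n5195 = n6527 := rfl
theorem F31025 : act 0 n6527 = n6527 := d6_1 D6527 (iv D6527) F25008
theorem F31026 : act 3 n6527 = n5197 := d27_1 D6527 (iv D5197) (iv F25009)
theorem F31027 : act 8 n6527 = n5204 := d42_2 (iv F25010) D6527 (iv D5204)
def n6528 : Q := act 7 n5196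
theorem D6528 : act 7 n5196 = n6528 := rfl
theorem F31028 : act 0 n6528 = n6528 := d6_1 D6528 (iv D6528) F25011
theorem F31029 : act 2 n6528 = n6528 := d21_1 D6528 (iv D6528) F25012
theorem F31030 : act 4 n6528 = n6528 := d32_1 D6528 (iv D6528) F25013
theorem F31031 : act 5 n6528 = n5197 := d36_1 D6528 (iv D5197) D5196
theorem F31032 : act 6 n6528 = n6528 := d39_1 D6528 (iv D6528) F25014 F20366 (iv F25014)
theorem F31033 : act 8 n6528 = n6528 := d42_2 F25015 D6528 (iv D6528)
def n6529 : Q := act 1 n5198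
theorem D6529 : act 1 n5198 = n6529 := rfl
theorem F31035 : act 5 n6529 = n5205 := d12_2 (iv F25022) D6529 (iv D5205)
theorem F31036 : act 7 n6529 = n5202 := d14_2 (iv F25023) D6529 (iv D5202)
def n6530 : Q := act 6 n5198
theorem D6530 : act 6 n5198 = n6530 := rfl
theorem F31038 : act 2 n6530 = n5199 := d20_1 D6530 (iv D5199) D5198
def n6531 : Q := act 5 n5199
theorem D6531 : act 5 n5199 = n6531 := rfl
theorem F31042 : act 6 n6531 = n5207 := d35_2 D5199 D6531 (iv D5207) (iv D4155) (iv F19807)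
def n6532 : Q := act 7 n5199
theorem D6532 : act 7 n5199 = n6532 := rfl
theorem F31045 : act 3 n6532 = n5201 := d27_1 D6532 (iv D5201) (iv F25025)
theorem F31046 : act 6 n6532 = n5204 := d39_1 D6532 (iv D5204) (iv D4152) (iv F19808) D5199
def n6535 : Q := act 6 n5202
theorem D6535 : act 6 n5202 = n6535 := rfl
theorem F31056 : act 1 n6535 = n5203 := d13_1 D6535 (iv D5203) D5202
def n6536 : Q := act 7 n5203
theorem D6536 : act 7 n5203 = n6536 := rfl
def n6538 : Q := act 6 n5205
theorem D6538 : act 6 n5205 = n6538 := rfl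
theorem F31070 : act 4 n6538 = n5340 := d31_1 D6538 (iv D5340) (iv F25045)
def n6539 : Q := act 5 n5206
theorem D6539 : act 5 n5206 = n6539 := rfl
def n6540 : Q := act 4 n5207
theorem D6540 : act 4 n5207 = n6540 := rfl
theorem F31080 : act 5 n6540 = n5342 := d30_2 D5207 D6540 (iv D5342) (iv D4278) (iv F19833)
def n6541 : Q := act 2 n5209
theorem D6541 : act 2 n5209 = n6541 := rfl
theorem F31086 : act 6 n6541 = n6541 := d20_2 F25065 D6541 (iv D6541)
theorem F31087 : act 7 n6541 = n5211 := d21_2 (iv F25066) D6541 (iv D5211)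
def n6542 : Q := act 1 n5210
theorem D6542 : act 1 n5210 = n6542 := rfl
theorem F31094 : act 8 n6542 = n5217 := d15_2 (iv F25074) D6542 (iv D5217)
def n6543 : Q := act 1 n5211
theorem D6543 : act 1 n5211 = n6543 := rfl
theorem F31098 : act 9 n6543 = n5214 := d16_2 (iv F25079) D6543 (iv D5214)
def n6544 : Q := act 6 n5211
theorem D6544 : act 6 n5211 = n6544 := rfl
theorem F31099 : act 0 n6544 = n6544 := d5_1 D6544 (iv D6544) F25075
theorem F31100 : act 2 n6544 = n5212 := d20_1 D6544 (iv D5212) D5211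
theorem F31101 : act 3 n6544 = n6544 := d26_1 D6544 (iv D6544) F25076
theorem F31102 : act 4 n6544 = n6544 := d31_1 D6544 (iv D6544) F25077
theorem F31103 : act 7 n6544 = n6544 := d39_2 F31087 D6544 (iv D6544) (iv F31087) F31086
theorem F31104 : act 8 n6544 = n6544 := d40_2 F25078 D6544 (iv D6544)
theorem F31105 : act 9 n6544 = n5215 := d41_2 (iv F25079) D6544 (iv D5215)
def n6545 : Q := act 5 n5212
theorem D6545 : act 5 n5212 = n6545 := rfl
theorem F31106 : act 0 n6545 = n6545 := d4_1 D6545 (iv D6545) F25080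
theorem F31107 : act 3 n6545 = n5213 := d25_1 D6545 (iv D5213) (iv F25081)
theorem F31108 : act 7 n6545 = n6545 := d36_2 F25083 D6545 (iv D6545)
theorem F31109 : act 9 n6545 = n5216 := d38_2 (iv F25085) D6545 (iv D5216)
def n6546 : Q := act 8 n5213
theorem D6546 : act 8 n5213 = n6546 := rfl
theorem F31110 : act 0 n6546 = n6546 := d7_1 D6546 (iv D6546) F25086
theorem F31111 : act 2 n6546 = n6546 := d22_1 D6546 (iv D6546) F25087
theorem F31112 : act 4 n6546 = n6546 := d33_1 D6546 (iv D6546) F25088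
theorem F31113 : act 5 n6546 = n6546 := d37_1 D6546 (iv D6546) (iv D5213) F19906 D5213
theorem F31114 : act 7 n6546 = n6546 := d42_1 D6546 (iv D6546) F25089
theorem F31115 : act 9 n6546 = n6546 := d44_2 (iv F25090) D6546 (iv D6546) F25090 F19925
def n6547 : Q := act 0 n5214
theorem D6547 : act 0 n5214 = n6547 := rfl
theorem F31119 : act 8 n6547 = n5218 := d7_2 (iv F25093) D6547 (iv D5218)
def n6548 : Q := act 6 n5214
theorem D6548 : act 6 n5214 = n6548 := rfl
theorem F31120 : act 1 n6548 = n5215 := d13_1 D6548 (iv D5215) D5214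
def n6549 : Q := act 5 n5215
theorem D6549 : act 5 n5215 = n6549 := rfl
theorem F31125 : act 0 n6549 = n6549 := d4_1 D6549 (iv D6549) F25094
theorem F31126 : act 2 n6549 = n5216 := d19_1 D6549 (iv D5216) (iv F25095)
theorem F31127 : act 3 n6549 = n6549 := d25_1 D6549 (iv D6549) F25096
theorem F31128 : act 7 n6549 = n6549 := d36_2 F25098 D6549 (iv D6549)
theorem F31129 : act 8 n6549 = n6549 := d37_2 (iv F25099) D6549 (iv D6549) F25099 F19958
def n6550 : Q := act 4 n5216
theorem D6550 : act 4 n5216 = n6550 := rfl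
theorem F31130 : act 0 n6550 = n6550 := d3_1 D6550 (iv D6550) F25100
theorem F31131 : act 3 n6550 = n6550 := d24_1 D6550 (iv D6550) F25101 F19924 (iv F25101)
theorem F31132 : act 5 n6550 = n6550 := d30_2 D5216 D6550 (iv D6550) (iv D5216) F19920
theorem F31133 : act 7 n6550 = n6550 := d32_2 F25102 D6550 (iv D6550)
theorem F31134 : act 8 n6550 = n6550 := d33_2 F25103 D6550 (iv D6550)
def n6551 : Q := act 0 n5217
theorem D6551 : act 0 n5217 = n6551 := rfl
theorem F31138 : act 5 n6551 = n5220 := d4_2 (iv F25106) D6551 (iv D5220)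
theorem F31139 : act 6 n6551 = n6551 := d5_2 F25107 D6551 (iv D6551)
theorem F31140 : act 7 n6551 = n5218 := d6_2 (iv F25108) D6551 (iv D5218)
def n6552 : Q := act 6 n5218
theorem D6552 : act 6 n5218 = n6552 := rfl
def n6553 : Q := act 6 n5220
theorem D6553 : act 6 n5220 = n6553 := rfl
theorem F31152 : act 4 n6553 = n5345 := d31_1 D6553 (iv D5345) (iv F25123)
theorem F31153 : act 5 n6553 = n6553 := d35_1 D6553 (iv D6553) (iv F31138) F31139 F31138
def n6554 : Q := act 5 n5222
theorem D6554 : act 5 n5222 = n6554 := rfl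
theorem F31156 : act 0 n6554 = n5229 := d4_1 D6554 (iv D5229) (iv F25132)
theorem F31157 : act 1 n6554 = n6554 := d12_1 D6554 (iv D6554) F25133
theorem F31158 : act 3 n6554 = n5366 := d25_1 D6554 (iv D5366) (iv F25134)
theorem F31159 : act 8 n6554 = n5224 := d37_2 D5222 D6554 (iv D5224) (iv D4191) (iv F20400)
theorem F31160 : act 9 n6554 = n6554 := d38_2 F25136 D6554 (iv D6554)
def n6555 : Q := act 5 n5223
theorem D6555 : act 5 n5223 = n6555 := rfl
theorem F31161 : act 0 n6555 = n5230 := d4_1 D6555 (iv D5230) (iv F25137)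
theorem F31162 : act 1 n6555 = n6555 := d12_1 D6555 (iv D6555) F25138
theorem F31163 : act 3 n6555 = n5367 := d25_1 D6555 (iv D5367) (iv F25139)
theorem F31164 : act 7 n6555 = n5224 := d36_2 (iv F25141) D6555 (iv D5224)
theorem F31165 : act 9 n6555 = n5291 := d38_2 (iv F25142) D6555 (iv D5291)
def n6556 : Q := act 4 n5224
theorem D6556 : act 4 n5224 = n6556 := rfl
theorem F31166 : act 0 n6556 = n5231 := d3_1 D6556 (iv D5231) (iv F25143)
theorem F31167 : act 1 n6556 = n6556 := d11_1 D6556 (iv D6556) F25144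
theorem F31168 : act 9 n6556 = n5292 := d34_2 (iv F25146) D6556 (iv D5292)
def n6557 : Q := act 6 n5224
theorem D6557 : act 6 n5224 = n6557 := rfl
theorem F31171 : act 3 n6557 = n5369 := d26_1 D6557 (iv D5369) (iv F25145)
def n6558 : Q := act 3 n5225
theorem D6558 : act 3 n5225 = n6558 := rfl
theorem F31174 : act 0 n6558 = n5233 := d2_1 D6558 (iv D5233) (iv F25147)
theorem F31176 : act 4 n6558 = n5370 := d24_2 D5225 D6558 (iv D5370) (iv D4303) (iv F20414)
theorem F31179 : act 9 n6558 = n5294 := d29_2 (iv F25151) D6558 (iv D5294)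
def n6559 : Q := act 6 n5225
theorem D6559 : act 6 n5225 = n6559 := rfl
theorem F31180 : act 0 n6559 = n5234 := d5_1 D6559 (iv D5234) (iv F25147)
def n6560 : Q := act 7 n5226
theorem D6560 : act 7 n5226 = n6560 := rfl
theorem F31187 : act 3 n6560 = n5372 := d27_1 D6560 (iv D5372) (iv F25154)
def n6561 : Q := act 5 n5227
theorem D6561 : act 5 n5227 = n6561 := rfl
theorem F31191 : act 1 n6561 = n5238 := d12_1 D6561 (iv D5238) (iv F25157)
theorem F31192 : act 9 n6561 = n6561 := d38_2 F25160 D6561 (iv D6561)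
def n6562 : Q := act 5 n5228
theorem D6562 : act 5 n5228 = n6562 := rfl
theorem F31193 : act 1 n6562 = n5240 := d12_1 D6562 (iv D5240) (iv F25161)
theorem F31194 : act 3 n6562 = n5374 := d25_1 D6562 (iv D5374) (iv F25162)
theorem F31195 : act 7 n6562 = n5229 := d36_2 (iv F25163) D6562 (iv D5229)
theorem F31196 : act 8 n6562 = n5230 := d37_2 D5228 D6562 (iv D5230) (iv D4196) (iv F20423)
theorem F31197 : act 9 n6562 = n6562 := d38_2 F25164 D6562 (iv D6562)
def n6563 : Q := act 4 n5229
theorem D6563 : act 4 n5229 = n6563 := rfl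
theorem F31198 : act 1 n6563 = n5241 := d11_1 D6563 (iv D5241) (iv F25165)
theorem F31199 : act 8 n6563 = n5231 := d33_2 (iv F25167) D6563 (iv D5231)
theorem F31200 : act 9 n6563 = n6563 := d34_2 F25168 D6563 (iv D6563)
def n6564 : Q := act 6 n5229
theorem D6564 : act 6 n5229 = n6564 := rfl
theorem F31201 : act 1 n6564 = n5242 := d13_1 D6564 (iv D5242) (iv F25165)
theorem F31202 : act 3 n6564 = n5376 := d26_1 D6564 (iv D5376) (iv F25166)
def n6565 : Q := act 4 n5230
theorem D6565 : act 4 n5230 = n6565 := rfl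
theorem F31206 : act 1 n6565 = n5243 := d11_1 D6565 (iv D5243) (iv F25169)
theorem F31207 : act 7 n6565 = n5231 := d32_2 (iv F25171) D6565 (iv D5231)
theorem F31208 : act 9 n6565 = n5297 := d34_2 (iv F25172) D6565 (iv D5297)
def n6566 : Q := act 6 n5230
theorem D6566 : act 6 n5230 = n6566 := rfl
theorem F31209 : act 1 n6566 = n5244 := d13_1 D6566 (iv D5244) (iv F25169)
def n6567 : Q := act 3 n5231
theorem D6567 : act 3 n5231 = n6567 := rfl
theorem F31213 : act 1 n6567 = n5245 := d10_1 D6567 (iv D5245) (iv F25173)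
theorem F31214 : act 4 n6567 = n5379 := d24_2 D5231 D6567 (iv D5379) (iv D4309) (iv F20435)
theorem F31215 : act 9 n6567 = n5299 := d29_2 (iv F25174) D6567 (iv D5299)
def n6568 : Q := act 6 n5231
theorem D6568 : act 6 n5231 = n6568 := rfl
theorem F31216 : act 1 n6568 = n5246 := d13_1 D6568 (iv D5246) (iv F25173)
def n6569 : Q := act 7 n5232
theorem D6569 : act 7 n5232 = n6569 := rfl
theorem F31220 : act 3 n6569 = n5381 := d27_1 D6569 (iv D5381) (iv F25176)
def n6570 : Q := act 2 n5233
theorem D6570 : act 2 n5233 = n6570 := rfl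
theorem F31224 : act 4 n6570 = n5382 := d18_2 (iv F25180) D6570 (iv D5382)
def n6571 : Q := act 6 n5233
theorem D6571 : act 6 n5233 = n6571 := rfl
theorem F31229 : act 3 n6571 = n5234 := d26_1 D6571 (iv D5234) D5233
theorem F31230 : act 4 n6571 = n5383 := d31_1 D6571 (iv D5383) (iv F25180)
def n6572 : Q := act 5 n5234
theorem D6572 : act 5 n5234 = n6572 := rfl
theorem F31233 : act 1 n6572 = n5249 := d12_1 D6572 (iv D5249) (iv F25184)
theorem F31234 : act 9 n6572 = n5304 := d38_2 (iv F25187) D6572 (iv D5304)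
def n6573 : Q := act 7 n5234
theorem D6573 : act 7 n5234 = n6573 := rfl
def n6574 : Q := act 5 n5236
theorem D6574 : act 5 n5236 = n6574 := rfl
theorem F31240 : act 0 n6574 = n6574 := d4_1 D6574 (iv D6574) F25193
theorem F31241 : act 2 n6574 = n6574 := d19_1 D6574 (iv D6574) F25194
theorem F31242 : act 3 n6574 = n5238 := d25_1 D6574 (iv D5238) (iv F25195)
theorem F31243 : act 9 n6574 = n6574 := d38_2 F25198 D6574 (iv D6574)
def n6575 : Q := act 5 n5237
theorem D6575 : act 5 n5237 = n6575 := rfl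
theorem F31244 : act 0 n6575 = n6575 := d4_1 D6575 (iv D6575) F25199
theorem F31245 : act 2 n6575 = n5252 := d19_1 D6575 (iv D5252) (iv F25200)
theorem F31246 : act 7 n6575 = n5238 := d36_2 (iv F25202) D6575 (iv D5238)
theorem F31247 : act 9 n6575 = n6575 := d38_2 F25203 D6575 (iv D6575)
def n6576 : Q := act 4 n5238
theorem D6576 : act 4 n5238 = n6576 := rfl
theorem F31248 : act 0 n6576 = n6576 := d3_1 D6576 (iv D6576) F25204
theorem F31249 : act 2 n6576 = n5253 := d18_1 D6576 (iv D5253) (iv F25205)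
theorem F31250 : act 5 n6576 = n5241 := d30_2 D5238 D6576 (iv D5241) (iv D4205) (iv F20456)
theorem F31251 : act 9 n6576 = n6576 := d34_2 F25206 D6576 (iv D6576)
def n6577 : Q := act 6 n5238
theorem D6577 : act 6 n5238 = n6577 := rfl
theorem F31252 : act 0 n6577 = n6577 := d5_1 D6577 (iv D6577) F25204
theorem F31253 : act 2 n6577 = n5254 := d20_1 D6577 (iv D5254) (iv F25205)
theorem F31254 : act 5 n6577 = n6577 := d35_1 D6577 (iv D6577) (iv D5238) F20457 D5238
theorem F31255 : act 9 n6577 = n6577 := d41_2 F25206 D6577 (iv D6577)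
def n6578 : Q := act 5 n5239
theorem D6578 : act 5 n5239 = n6578 := rfl
theorem F31256 : act 0 n6578 = n6578 := d4_1 D6578 (iv D6578) F25207
theorem F31257 : act 2 n6578 = n5255 := d19_1 D6578 (iv D5255) (iv F25208)
theorem F31258 : act 3 n6578 = n5390 := d25_1 D6578 (iv D5390) (iv F25209)
theorem F31259 : act 7 n6578 = n6578 := d36_2 F25211 D6578 (iv D6578)
theorem F31260 : act 8 n6578 = n6578 := d37_2 D5239 D6578 (iv D6578) (iv D5239) F20462
theorem F31261 : act 9 n6578 = n6578 := d38_2 F25212 D6578 (iv D6578)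
def n6579 : Q := act 4 n5240
theorem D6579 : act 4 n5240 = n6579 := rfl
theorem F31262 : act 0 n6579 = n6579 := d3_1 D6579 (iv D6579) F25213
theorem F31263 : act 2 n6579 = n5256 := d18_1 D6579 (iv D5256) (iv F25214)
theorem F31264 : act 7 n6579 = n5241 := d32_2 (iv F25216) D6579 (iv D5241)
theorem F31265 : act 8 n6579 = n5243 := d33_2 (iv F25217) D6579 (iv D5243)
theorem F31266 : act 9 n6579 = n6579 := d34_2 F25218 D6579 (iv D6579)
def n6580 : Q := act 6 n5240
theorem D6580 : act 6 n5240 = n6580 := rfl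
theorem F31267 : act 0 n6580 = n6580 := d5_1 D6580 (iv D6580) F25213
theorem F31268 : act 2 n6580 = n5257 := d20_1 D6580 (iv D5257) (iv F25214)
theorem F31269 : act 3 n6580 = n5392 := d26_1 D6580 (iv D5392) (iv F25215)
theorem F31270 : act 8 n6580 = n5244 := d40_2 (iv F25217) D6580 (iv D5244)
theorem F31271 : act 9 n6580 = n6580 := d41_2 F25218 D6580 (iv D6580)
def n6581 : Q := act 3 n5241
theorem D6581 : act 3 n5241 = n6581 := rfl
theorem F31272 : act 0 n6581 = n6581 := d2_1 D6581 (iv D6581) F25219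
theorem F31273 : act 4 n6581 = n5393 := d24_2 D5241 D6581 (iv D5393) (iv D4319) (iv F20472)
theorem F31274 : act 8 n6581 = n5245 := d28_2 (iv F25221) D6581 (iv D5245)
theorem F31275 : act 9 n6581 = n6581 := d29_2 F25222 D6581 (iv D6581)
def n6582 : Q := act 6 n5241
theorem D6582 : act 6 n5241 = n6582 := rfl
theorem F31276 : act 0 n6582 = n6582 := d5_1 D6582 (iv D6582) F25219
theorem F31277 : act 2 n6582 = n5259 := d20_1 D6582 (iv D5259) (iv F25220)
theorem F31278 : act 4 n6582 = n5242 := d31_1 D6582 (iv D5242) D5241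
theorem F31279 : act 8 n6582 = n5246 := d40_2 (iv F25221) D6582 (iv D5246)
theorem F31280 : act 9 n6582 = n6582 := d41_2 F25222 D6582 (iv D6582)
def n6583 : Q := act 7 n5242
theorem D6583 : act 7 n5242 = n6583 := rfl
theorem F31282 : act 2 n6583 = n5260 := d21_1 D6583 (iv D5260) (iv F25224)
theorem F31283 : act 3 n6583 = n5395 := d27_1 D6583 (iv D5395) (iv F25225)
def n6584 : Q := act 3 n5243
theorem D6584 : act 3 n5243 = n6584 := rfl
theorem F31287 : act 0 n6584 = n6584 := d2_1 D6584 (iv D6584) F25229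
theorem F31288 : act 4 n6584 = n5396 := d24_2 D5243 D6584 (iv D5396) (iv D4321) (iv F20477)
theorem F31289 : act 7 n6584 = n5245 := d27_2 (iv F25231) D6584 (iv D5245)
theorem F31290 : act 9 n6584 = n5306 := d29_2 (iv F25232) D6584 (iv D5306)
def n6585 : Q := act 6 n5243
theorem D6585 : act 6 n5243 = n6585 := rfl
theorem F31291 : act 0 n6585 = n6585 := d5_1 D6585 (iv D6585) F25229
theorem F31293 : act 4 n6585 = n5244 := d31_1 D6585 (iv D5244) D5243
theorem F31294 : act 9 n6585 = n5307 := d41_2 (iv F25232) D6585 (iv D5307)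
def n6586 : Q := act 7 n5244
theorem D6586 : act 7 n5244 = n6586 := rfl
theorem F31296 : act 2 n6586 = n5263 := d21_1 D6586 (iv D5263) (iv F25234)
theorem F31297 : act 3 n6586 = n5398 := d27_1 D6586 (iv D5398) (iv F25235)
theorem F31299 : act 6 n6586 = n5247 := d39_1 D6586 (iv D5247) (iv D4208) (iv F20478) D5244
def n6587 : Q := act 2 n5245
theorem D6587 : act 2 n5245 = n6587 := rfl
theorem F31302 : act 3 n6587 = n5264 := d17_2 D5245 D6587 (iv D5264) (iv D4221) (iv F20481)
theorem F31303 : act 4 n6587 = n5399 := d18_2 (iv F25239) D6587 (iv D5399)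
theorem F31304 : act 9 n6587 = n5309 := d23_2 (iv F25240) D6587 (iv D5309)
def n6588 : Q := act 6 n5245
theorem D6588 : act 6 n5245 = n6588 := rfl
theorem F31306 : act 3 n6588 = n5246 := d26_1 D6588 (iv D5246) D5245
theorem F31307 : act 4 n6588 = n5400 := d31_1 D6588 (iv D5400) (iv F25239)
def n6589 : Q := act 5 n5246
theorem D6589 : act 5 n5246 = n6589 := rfl
theorem F31310 : act 2 n6589 = n5266 := d19_1 D6589 (iv D5266) (iv F25242)
def n6590 : Q := act 7 n5246
theorem D6590 : act 7 n5246 = n6590 := rfl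
theorem F31314 : act 2 n6590 = n5267 := d21_1 D6590 (iv D5267) (iv F25242)
def n6591 : Q := act 5 n5248
theorem D6591 : act 5 n5248 = n6591 := rfl
theorem F31319 : act 3 n6591 = n5249 := d25_1 D6591 (iv D5249) (iv F25252)
def n6592 : Q := act 7 n5248
theorem D6592 : act 7 n5248 = n6592 := rfl
theorem F31323 : act 3 n6592 = n5250 := d27_1 D6592 (iv D5250) (iv F25252)
theorem F31324 : act 4 n6592 = n5404 := d32_1 D6592 (iv D5404) (iv F25253)
def n6593 : Q := act 7 n5249
theorem D6593 : act 7 n5249 = n6593 := rfl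
theorem F31329 : act 2 n6593 = n5268 := d21_1 D6593 (iv D5268) (iv F25257)
def n6594 : Q := act 8 n5249
theorem D6594 : act 8 n5249 = n6594 := rfl
theorem F31333 : act 2 n6594 = n5269 := d22_1 D6594 (iv D5269) (iv F25257)
def n6595 : Q := act 5 n5251
theorem D6595 : act 5 n5251 = n6595 := rfl
theorem F31335 : act 0 n6595 = n6595 := d4_1 D6595 (iv D6595) F25265
theorem F31336 : act 3 n6595 = n6595 := d25_1 D6595 (iv D6595) F25266
theorem F31337 : act 7 n6595 = n6595 := d36_2 F25269 D6595 (iv D6595)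
theorem F31338 : act 9 n6595 = n6595 := d38_2 F25270 D6595 (iv D6595)
def n6596 : Q := act 4 n5252
theorem D6596 : act 4 n5252 = n6596 := rfl
theorem F31339 : act 0 n6596 = n6596 := d3_1 D6596 (iv D6596) F25271
theorem F31340 : act 5 n6596 = n5256 := d30_2 D5252 D6596 (iv D5256) (iv D4216) (iv F20512)
theorem F31341 : act 7 n6596 = n5253 := d32_2 (iv F25273) D6596 (iv D5253)
theorem F31342 : act 9 n6596 = n6596 := d34_2 F25274 D6596 (iv D6596)
def n6597 : Q := act 6 n5252
theorem D6597 : act 6 n5252 = n6597 := rfl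
theorem F31343 : act 0 n6597 = n6597 := d5_1 D6597 (iv D6597) F25271
theorem F31344 : act 3 n6597 = n6597 := d26_1 D6597 (iv D6597) F25272
theorem F31345 : act 9 n6597 = n6597 := d41_2 F25274 D6597 (iv D6597)
def n6598 : Q := act 3 n5253
theorem D6598 : act 3 n5253 = n6598 := rfl
theorem F31346 : act 0 n6598 = n6598 := d2_1 D6598 (iv D6598) F25275
theorem F31347 : act 4 n6598 = n6598 := d24_2 D5253 D6598 (iv D6598) (iv D5253) F20516
theorem F31348 : act 5 n6598 = n5258 := d25_2 (iv F25276) D6598 (iv D5258)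
theorem F31349 : act 9 n6598 = n6598 := d29_2 F25277 D6598 (iv D6598)
def n6599 : Q := act 6 n5253
theorem D6599 : act 6 n5253 = n6599 := rfl
theorem F31350 : act 0 n6599 = n6599 := d5_1 D6599 (iv D6599) F25275
theorem F31351 : act 4 n6599 = n5254 := d31_1 D6599 (iv D5254) D5253
theorem F31352 : act 9 n6599 = n6599 := d41_2 F25277 D6599 (iv D6599)
def n6600 : Q := act 7 n5254
theorem D6600 : act 7 n5254 = n6600 := rfl
theorem F31353 : act 0 n6600 = n6600 := d6_1 D6600 (iv D6600) F25278
theorem F31354 : act 3 n6600 = n6600 := d27_1 D6600 (iv D6600) F25279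
theorem F31355 : act 5 n6600 = n6600 := d36_1 D6600 (iv D6600) F25280
theorem F31356 : act 9 n6600 = n6600 := d43_2 F25281 D6600 (iv D6600)
def n6601 : Q := act 4 n5255
theorem D6601 : act 4 n5255 = n6601 := rfl
theorem F31357 : act 0 n6601 = n6601 := d3_1 D6601 (iv D6601) F25282
theorem F31358 : act 7 n6601 = n6601 := d32_2 F25284 D6601 (iv D6601)
theorem F31359 : act 8 n6601 = n6601 := d33_2 F25285 D6601 (iv D6601)
theorem F31360 : act 9 n6601 = n6601 := d34_2 F25286 D6601 (iv D6601)
def n6602 : Q := act 6 n5255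
theorem D6602 : act 6 n5255 = n6602 := rfl
theorem F31361 : act 0 n6602 = n6602 := d5_1 D6602 (iv D6602) F25282
theorem F31362 : act 3 n6602 = n5271 := d26_1 D6602 (iv D5271) (iv F25283)
theorem F31363 : act 5 n6602 = n5257 := d35_1 D6602 (iv D5257) (iv D4216) (iv F20520) D5255
theorem F31364 : act 8 n6602 = n6602 := d40_2 F25285 D6602 (iv D6602)
theorem F31365 : act 9 n6602 = n6602 := d41_2 F25286 D6602 (iv D6602)
def n6603 : Q := act 3 n5256
theorem D6603 : act 3 n5256 = n6603 := rfl
theorem F31367 : act 4 n6603 = n5272 := d24_2 D5256 D6603 (iv D5272) (iv D4227) (iv F20524)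
theorem F31368 : act 7 n6603 = n5258 := d27_2 (iv F25288) D6603 (iv D5258)
theorem F31369 : act 8 n6603 = n5261 := d28_2 (iv F25289) D6603 (iv D5261)
def n6604 : Q := act 6 n5256
theorem D6604 : act 6 n5256 = n6604 := rfl
theorem F31372 : act 4 n6604 = n5257 := d31_1 D6604 (iv D5257) D5256
def n6605 : Q := act 7 n5257
theorem D6605 : act 7 n5257 = n6605 := rfl
theorem F31375 : act 0 n6605 = n6605 := d6_1 D6605 (iv D6605) F25291
theorem F31376 : act 3 n6605 = n5274 := d27_1 D6605 (iv D5274) (iv F25292)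
theorem F31377 : act 6 n6605 = n5260 := d39_1 D6605 (iv D5260) (iv D4218) (iv F20525) D5257
theorem F31378 : act 8 n6605 = n5263 := d42_2 (iv F25293) D6605 (iv D5263)
theorem F31379 : act 9 n6605 = n6605 := d43_2 F25294 D6605 (iv D6605)
def n6606 : Q := act 2 n5258
theorem D6606 : act 2 n5258 = n6606 := rfl
theorem F31380 : act 0 n6606 = n6606 := d1_1 D6606 (iv D6606) F25295
theorem F31381 : act 4 n6606 = n5275 := d18_2 (iv F25296) D6606 (iv D5275)
theorem F31382 : act 8 n6606 = n5264 := d22_2 (iv F25297) D6606 (iv D5264)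
theorem F31383 : act 9 n6606 = n6606 := d23_2 F25298 D6606 (iv D6606)
def n6607 : Q := act 6 n5258
theorem D6607 : act 6 n5258 = n6607 := rfl
theorem F31384 : act 0 n6607 = n6607 := d5_1 D6607 (iv D6607) F25295
theorem F31385 : act 3 n6607 = n5259 := d26_1 D6607 (iv D5259) D5258
theorem F31386 : act 4 n6607 = n5276 := d31_1 D6607 (iv D5276) (iv F25296)
theorem F31387 : act 8 n6607 = n5265 := d40_2 (iv F25297) D6607 (iv D5265)
theorem F31388 : act 9 n6607 = n6607 := d41_2 F25298 D6607 (iv D6607)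
def n6608 : Q := act 5 n5259
theorem D6608 : act 5 n5259 = n6608 := rfl
theorem F31389 : act 0 n6608 = n6608 := d4_1 D6608 (iv D6608) F25299
theorem F31390 : act 4 n6608 = n6608 := d30_1 D6608 (iv D6608) F25300 F20533 (iv F25300)
theorem F31391 : act 9 n6608 = n6608 := d38_2 F25302 D6608 (iv D6608)
def n6609 : Q := act 7 n5259
theorem D6609 : act 7 n5259 = n6609 := rfl
theorem F31393 : act 4 n6609 = n5260 := d32_1 D6609 (iv D5260) (iv F25300)
def n6610 : Q := act 2 n5261
theorem D6610 : act 2 n5261 = n6610 := rfl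
theorem F31397 : act 4 n6610 = n5279 := d18_2 (iv F25309) D6610 (iv D5279)
theorem F31398 : act 7 n6610 = n5264 := d21_2 (iv F25310) D6610 (iv D5264)
theorem F31399 : act 9 n6610 = n5317 := d23_2 (iv F25311) D6610 (iv D5317)
def n6611 : Q := act 6 n5261
theorem D6611 : act 6 n5261 = n6611 := rfl
theorem F31401 : act 3 n6611 = n5262 := d26_1 D6611 (iv D5262) D5261
theorem F31402 : act 4 n6611 = n5280 := d31_1 D6611 (iv D5280) (iv F25309)
theorem F31403 : act 9 n6611 = n5318 := d41_2 (iv F25311) D6611 (iv D5318)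
def n6612 : Q := act 5 n5262
theorem D6612 : act 5 n5262 = n6612 := rfl
def n6613 : Q := act 7 n5262
theorem D6613 : act 7 n5262 = n6613 := rfl
theorem F31408 : act 4 n6613 = n5263 := d32_1 D6613 (iv D5263) (iv F25313)
def n6614 : Q := act 1 n5264
theorem D6614 : act 1 n5264 = n6614 := rfl
def n6615 : Q := act 6 n5264
theorem D6615 : act 6 n5264 = n6615 := rfl
theorem F31414 : act 2 n6615 = n5265 := d20_1 D6615 (iv D5265) D5264
theorem F31416 : act 9 n6615 = n5322 := d41_2 (iv F25322) D6615 (iv D5322)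
def n6616 : Q := act 5 n5265
theorem D6616 : act 5 n5265 = n6616 := rfl
theorem F31417 : act 0 n6616 = n6616 := d4_1 D6616 (iv D6616) F25323
theorem F31418 : act 3 n6616 = n5266 := d25_1 D6616 (iv D5266) (iv F25324)
theorem F31419 : act 4 n6616 = n6616 := d30_1 D6616 (iv D6616) F25325 F20610 (iv F25325)
theorem F31420 : act 9 n6616 = n5323 := d38_2 (iv F25326) D6616 (iv D5323)
def n6617 : Q := act 7 n5265
theorem D6617 : act 7 n5265 = n6617 := rfl
def n6618 : Q := act 7 n5266
theorem D6618 : act 7 n5266 = n6618 := rfl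
def n6619 : Q := act 8 n5266
theorem D6619 : act 8 n5266 = n6619 := rfl
theorem F31429 : act 0 n6619 = n6619 := d7_1 D6619 (iv D6619) F25327
theorem F31430 : act 4 n6619 = n5269 := d33_1 D6619 (iv D5269) (iv F25328)
def n6620 : Q := act 6 n5268
theorem D6620 : act 6 n5268 = n6620 := rfl
def n6621 : Q := act 8 n5268
theorem D6621 : act 8 n5268 = n6621 := rfl
theorem F31438 : act 7 n6621 = n5269 := d42_1 D6621 (iv D5269) D5268
def n6622 : Q := act 9 n5269
theorem D6622 : act 9 n5269 = n6622 := rfl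
theorem F31439 : act 0 n6622 = n6622 := d8_1 D6622 (iv D6622) F25337
theorem F31440 : act 3 n6622 = n6622 := d29_1 D6622 (iv D6622) F25338
theorem F31441 : act 5 n6622 = n6622 := d38_1 D6622 (iv D6622) F25339
theorem F31442 : act 8 n6622 = n5329 := d44_1 D6622 (iv D5329) (iv D4268) (iv F20555) D5269
def n6623 : Q := act 3 n5270
theorem D6623 : act 3 n5270 = n6623 := rfl
theorem F31443 : act 0 n6623 = n6623 := d2_1 D6623 (iv D6623) F25340
theorem F31444 : act 2 n6623 = n6623 := d17_1 D6623 (iv D6623) F25341 F21123 (iv F25341)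
theorem F31445 : act 5 n6623 = n6623 := d25_2 F25342 D6623 (iv D6623)
theorem F31446 : act 7 n6623 = n6623 := d27_2 F25343 D6623 (iv D6623)
theorem F31447 : act 8 n6623 = n6623 := d28_2 F25344 D6623 (iv D6623)
theorem F31448 : act 9 n6623 = n6623 := d29_2 F25345 D6623 (iv D6623)
def n6624 : Q := act 6 n5270
theorem D6624 : act 6 n5270 = n6624 := rfl
theorem F31451 : act 4 n6624 = n5271 := d31_1 D6624 (iv D5271) D5270
def n6625 : Q := act 7 n5271
theorem D6625 : act 7 n5271 = n6625 := rfl
theorem F31454 : act 0 n6625 = n6625 := d6_1 D6625 (iv D6625) F25346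
theorem F31455 : act 2 n6625 = n5432 := d21_1 D6625 (iv D5432) (iv F25347)
theorem F31456 : act 5 n6625 = n5274 := d36_1 D6625 (iv D5274) (iv F25348)
theorem F31457 : act 6 n6625 = n6625 := d39_1 D6625 (iv D6625) (iv D5271) F20564 D5271
theorem F31458 : act 8 n6625 = n6625 := d42_2 F25349 D6625 (iv D6625)
theorem F31459 : act 9 n6625 = n6625 := d43_2 F25350 D6625 (iv D6625)
def n6626 : Q := act 2 n5272
theorem D6626 : act 2 n5272 = n6626 := rfl
theorem F31463 : act 7 n6626 = n5275 := d21_2 (iv F25353) D6626 (iv D5275)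
theorem F31464 : act 8 n6626 = n5279 := d22_2 (iv F25354) D6626 (iv D5279)
def n6627 : Q := act 6 n5272
theorem D6627 : act 6 n5272 = n6627 := rfl
theorem F31467 : act 3 n6627 = n5273 := d26_1 D6627 (iv D5273) D5272
theorem F31468 : act 8 n6627 = n5280 := d40_2 (iv F25354) D6627 (iv D5280)
def n6628 : Q := act 5 n5273
theorem D6628 : act 5 n5273 = n6628 := rfl
def n6629 : Q := act 7 n5273
theorem D6629 : act 7 n5273 = n6629 := rfl
theorem F31476 : act 4 n6629 = n5274 := d32_1 D6629 (iv D5274) (iv F25358)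
theorem F31477 : act 6 n6629 = n5278 := d39_1 D6629 (iv D5278) (iv D4230) (iv F20570) D5273
def n6630 : Q := act 1 n5275
theorem D6630 : act 1 n5275 = n6630 := rfl
def n6631 : Q := act 6 n5275
theorem D6631 : act 6 n5275 = n6631 := rfl
def n6632 : Q := act 5 n5276
theorem D6632 : act 5 n5276 = n6632 := rfl
theorem F31489 : act 0 n6632 = n6632 := d4_1 D6632 (iv D6632) F25371
theorem F31490 : act 3 n6632 = n5277 := d25_1 D6632 (iv D5277) (iv F25372)
theorem F31491 : act 6 n6632 = n6632 := d35_2 D5276 D6632 (iv D6632) (iv D5276) F20578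
theorem F31492 : act 8 n6632 = n6632 := d37_2 (iv F25373) D6632 (iv D6632) F25373 F20610
theorem F31493 : act 9 n6632 = n6632 := d38_2 F25374 D6632 (iv D6632)
def n6633 : Q := act 7 n5276
theorem D6633 : act 7 n5276 = n6633 := rfl
theorem F31495 : act 3 n6633 = n5278 := d27_1 D6633 (iv D5278) (iv F25372)
def n6634 : Q := act 7 n5277
theorem D6634 : act 7 n5277 = n6634 := rfl
theorem F31498 : act 0 n6634 = n6634 := d6_1 D6634 (iv D6634) F25375
theorem F31499 : act 2 n6634 = n5441 := d21_1 D6634 (iv D5441) (iv F25376)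
theorem F31500 : act 4 n6634 = n6634 := d32_1 D6634 (iv D6634) F25377
theorem F31501 : act 5 n6634 = n5278 := d36_1 D6634 (iv D5278) D5277
theorem F31502 : act 8 n6634 = n6634 := d42_2 F25379 D6634 (iv D6634)
theorem F31503 : act 9 n6634 = n6634 := d43_2 F25380 D6634 (iv D6634)
def n6635 : Q := act 1 n5279
theorem D6635 : act 1 n5279 = n6635 := rfl
theorem F31505 : act 5 n6635 = n5286 := d12_2 (iv F25388) D6635 (iv D5286)
theorem F31506 : act 7 n6635 = n5283 := d14_2 (iv F25389) D6635 (iv D5283)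
theorem F31507 : act 9 n6635 = n5330 := d16_2 (iv F25390) D6635 (iv D5330)
def n6636 : Q := act 6 n5279
theorem D6636 : act 6 n5279 = n6636 := rfl
def n6637 : Q := act 5 n5280
theorem D6637 : act 5 n5280 = n6637 := rfl
theorem F31514 : act 6 n6637 = n5288 := d35_2 D5280 D6637 (iv D5288) (iv D4239) (iv F20592)
def n6638 : Q := act 7 n5280
theorem D6638 : act 7 n5280 = n6638 := rfl
theorem F31518 : act 6 n6638 = n5285 := d39_1 D6638 (iv D5285) (iv D4236) (iv F20593) D5280
def n6639 : Q := act 7 n5281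
theorem D6639 : act 7 n5281 = n6639 := rfl
theorem F31523 : act 5 n6639 = n5282 := d36_1 D6639 (iv D5282) D5281
def n6640 : Q := act 8 n5281
theorem D6640 : act 8 n5281 = n6640 := rfl
theorem F31529 : act 6 n6640 = n5289 := d40_1 D6640 (iv D5289) (iv F25397)
def n6642 : Q := act 6 n5283
theorem D6642 : act 6 n5283 = n6642 := rfl
def n6644 : Q := act 0 n5286
theorem D6644 : act 0 n5286 = n6644 := rfl
theorem F31544 : act 3 n6644 = n5451 := d2_2 (iv F25416) D6644 (iv D5451)
def n6645 : Q := act 6 n5286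
theorem D6645 : act 6 n5286 = n6645 := rfl
theorem F31549 : act 3 n6645 = n5452 := d26_1 D6645 (iv D5452) (iv F25416)
def n6646 : Q := act 5 n5287
theorem D6646 : act 5 n5287 = n6646 := rfl
theorem F31554 : act 2 n6646 = n5288 := d19_1 D6646 (iv D5288) (iv F25421)
theorem F31555 : act 3 n6646 = n5453 := d25_1 D6646 (iv D5453) (iv F25422)
def n6647 : Q := act 4 n5288
theorem D6647 : act 4 n5288 = n6647 := rfl
def n6648 : Q := act 8 n5288
theorem D6648 : act 8 n5288 = n6648 := rfl
def n6649 : Q := act 9 n5289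
theorem D6649 : act 9 n5289 = n6649 := rfl
theorem F31567 : act 2 n6649 = n5456 := d23_1 D6649 (iv D5456) (iv F25431)
def n6650 : Q := act 4 n5291
theorem D6650 : act 4 n5291 = n6650 := rfl
theorem F31572 : act 0 n6650 = n5297 := d3_1 D6650 (iv D5297) (iv F25440)
theorem F31573 : act 1 n6650 = n6650 := d11_1 D6650 (iv D6650) F25441
theorem F31574 : act 7 n6650 = n5292 := d32_2 (iv F25443) D6650 (iv D5292)
theorem F31575 : act 8 n6650 = n6650 := d33_2 F25444 D6650 (iv D6650)
def n6651 : Q := act 6 n5291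
theorem D6651 : act 6 n5291 = n6651 := rfl
def n6652 : Q := act 3 n5292
theorem D6652 : act 3 n5292 = n6652 := rfl
theorem F31581 : act 0 n6652 = n5299 := d2_1 D6652 (iv D5299) (iv F25445)
theorem F31583 : act 4 n6652 = n5459 := d24_2 D5292 D6652 (iv D5459) (iv D4370) (iv F20643)
def n6653 : Q := act 6 n5292
theorem D6653 : act 6 n5292 = n6653 := rfl
theorem F31587 : act 4 n6653 = n5293 := d31_1 D6653 (iv D5293) D5292
def n6654 : Q := act 7 n5293
theorem D6654 : act 7 n5293 = n6654 := rfl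
theorem F31591 : act 3 n6654 = n5461 := d27_1 D6654 (iv D5461) (iv F25450)
def n6655 : Q := act 2 n5294
theorem D6655 : act 2 n5294 = n6655 := rfl
theorem F31595 : act 4 n6655 = n5462 := d18_2 (iv F25455) D6655 (iv D5462)
theorem F31597 : act 8 n6655 = n5349 := d22_2 (iv F25457) D6655 (iv D5349)
def n6656 : Q := act 6 n5294
theorem D6656 : act 6 n5294 = n6656 := rfl
theorem F31600 : act 3 n6656 = n5295 := d26_1 D6656 (iv D5295) D5294
theorem F31601 : act 4 n6656 = n5463 := d31_1 D6656 (iv D5463) (iv F25455)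
theorem F31602 : act 8 n6656 = n5350 := d40_2 (iv F25457) D6656 (iv D5350)
def n6657 : Q := act 5 n5295
theorem D6657 : act 5 n5295 = n6657 := rfl
def n6658 : Q := act 7 n5295
theorem D6658 : act 7 n5295 = n6658 := rfl
def n6659 : Q := act 3 n5297
theorem D6659 : act 3 n5297 = n6659 := rfl
theorem F31610 : act 1 n6659 = n5306 := d10_1 D6659 (iv D5306) (iv F25467)
theorem F31611 : act 4 n6659 = n5466 := d24_2 D5297 D6659 (iv D5466) (iv D4375) (iv F20654)
theorem F31612 : act 7 n6659 = n5299 := d27_2 (iv F25468) D6659 (iv D5299)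
def n6660 : Q := act 6 n5297
theorem D6660 : act 6 n5297 = n6660 := rfl
theorem F31614 : act 1 n6660 = n5307 := d13_1 D6660 (iv D5307) (iv F25467)
def n6662 : Q := act 2 n5299
theorem D6662 : act 2 n5299 = n6662 := rfl
theorem F31622 : act 4 n6662 = n5469 := d18_2 (iv F25475) D6662 (iv D5469)
def n6663 : Q := act 6 n5299
theorem D6663 : act 6 n5299 = n6663 := rfl
theorem F31625 : act 3 n6663 = n5300 := d26_1 D6663 (iv D5300) D5299
theorem F31626 : act 4 n6663 = n5470 := d31_1 D6663 (iv D5470) (iv F25475)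
def n6664 : Q := act 5 n5300
theorem D6664 : act 5 n5300 = n6664 := rfl
def n6665 : Q := act 7 n5300
theorem D6665 : act 7 n5300 = n6665 := rfl
def n6666 : Q := act 6 n5302
theorem D6666 : act 6 n5302 = n6666 := rfl
theorem F31635 : act 4 n6666 = n5473 := d31_1 D6666 (iv D5473) (iv F25485)
theorem F31636 : act 8 n6666 = n5353 := d40_2 (iv F25487) D6666 (iv D5353)
def n6667 : Q := act 5 n5303
theorem D6667 : act 5 n5303 = n6667 := rfl
theorem F31638 : act 3 n6667 = n5304 := d25_1 D6667 (iv D5304) (iv F25489)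
def n6668 : Q := act 7 n5303
theorem D6668 : act 7 n5303 = n6668 := rfl
theorem F31640 : act 3 n6668 = n5305 := d27_1 D6668 (iv D5305) (iv F25489)
theorem F31641 : act 4 n6668 = n5475 := d32_1 D6668 (iv D5475) (iv F25490)
def n6669 : Q := act 7 n5304
theorem D6669 : act 7 n5304 = n6669 := rfl
def n6671 : Q := act 2 n5306
theorem D6671 : act 2 n5306 = n6671 := rfl
theorem F31649 : act 3 n6671 = n5317 := d17_2 D5306 D6671 (iv D5317) (iv D4260) (iv F20675)
theorem F31650 : act 4 n6671 = n5478 := d18_2 (iv F25498) D6671 (iv D5478)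
theorem F31651 : act 7 n6671 = n5309 := d21_2 (iv F25499) D6671 (iv D5309)
def n6672 : Q := act 6 n5306
theorem D6672 : act 6 n5306 = n6672 := rfl
theorem F31654 : act 3 n6672 = n5307 := d26_1 D6672 (iv D5307) D5306
theorem F31655 : act 4 n6672 = n5479 := d31_1 D6672 (iv D5479) (iv F25498)
def n6673 : Q := act 5 n5307
theorem D6673 : act 5 n5307 = n6673 := rfl
def n6674 : Q := act 7 n5307
theorem D6674 : act 7 n5307 = n6674 := rfl
theorem F31662 : act 4 n6674 = n5308 := d32_1 D6674 (iv D5308) (iv F25503)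
theorem F31663 : act 6 n6674 = n5312 := d39_1 D6674 (iv D5312) (iv D4255) (iv F20676) D5307
def n6675 : Q := act 1 n5309
theorem D6675 : act 1 n5309 = n6675 := rfl
theorem F31665 : act 3 n6675 = n5321 := d10_2 (iv F25512) D6675 (iv D5321)
theorem F31666 : act 4 n6675 = n5482 := d11_2 (iv F25513) D6675 (iv D5482)
def n6676 : Q := act 6 n5309
theorem D6676 : act 6 n5309 = n6676 := rfl
theorem F31670 : act 3 n6676 = n5322 := d26_1 D6676 (iv D5322) (iv F25512)
theorem F31671 : act 4 n6676 = n5483 := d31_1 D6676 (iv D5483) (iv F25513)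
def n6677 : Q := act 5 n5310
theorem D6677 : act 5 n5310 = n6677 := rfl
theorem F31674 : act 3 n6677 = n5311 := d25_1 D6677 (iv D5311) (iv F25516)
def n6678 : Q := act 7 n5310
theorem D6678 : act 7 n5310 = n6678 := rfl
theorem F31676 : act 3 n6678 = n5312 := d27_1 D6678 (iv D5312) (iv F25516)
theorem F31677 : act 4 n6678 = n5485 := d32_1 D6678 (iv D5485) (iv F25517)
def n6679 : Q := act 7 n5311
theorem D6679 : act 7 n5311 = n6679 := rfl
theorem F31680 : act 2 n6679 = n5325 := d21_1 D6679 (iv D5325) (iv F25520)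
theorem F31682 : act 5 n6679 = n5312 := d36_1 D6679 (iv D5312) D5311
def n6680 : Q := act 8 n5311
theorem D6680 : act 8 n5311 = n6680 := rfl
theorem F31684 : act 2 n6680 = n5326 := d22_1 D6680 (iv D5326) (iv F25520)
def n6681 : Q := act 4 n5313
theorem D6681 : act 4 n5313 = n6681 := rfl
theorem F31689 : act 5 n6681 = n5488 := d30_2 D5313 D6681 (iv D5488) (iv D4391) (iv F20698)
def n6682 : Q := act 7 n5313
theorem D6682 : act 7 n5313 = n6682 := rfl
theorem F31692 : act 3 n6682 = n5315 := d27_1 D6682 (iv D5315) (iv F25528)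
def n6684 : Q := act 6 n5315
theorem D6684 : act 6 n5315 = n6684 := rfl
theorem F31699 : act 2 n6684 = n5327 := d20_1 D6684 (iv D5327) (iv F25536)
def n6685 : Q := act 8 n5315
theorem D6685 : act 8 n5315 = n6685 := rfl
theorem F31702 : act 2 n6685 = n5328 := d22_1 D6685 (iv D5328) (iv F25536)
def n6686 : Q := act 9 n5316
theorem D6686 : act 9 n5316 = n6686 := rfl
theorem F31706 : act 2 n6686 = n5329 := d23_1 D6686 (iv D5329) (iv F25539)
def n6687 : Q := act 1 n5317
theorem D6687 : act 1 n5317 = n6687 := rfl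
theorem F31708 : act 4 n6687 = n5330 := d11_2 (iv F25542) D6687 (iv D5330)
theorem F31709 : act 7 n6687 = n5321 := d14_2 (iv F25543) D6687 (iv D5321)
def n6688 : Q := act 6 n5317
theorem D6688 : act 6 n5317 = n6688 := rfl
theorem F31713 : act 4 n6688 = n5331 := d31_1 D6688 (iv D5331) (iv F25542)
def n6689 : Q := act 5 n5318
theorem D6689 : act 5 n5318 = n6689 := rfl
theorem F31716 : act 3 n6689 = n5319 := d25_1 D6689 (iv D5319) (iv F25546)
def n6690 : Q := act 7 n5318
theorem D6690 : act 7 n5318 = n6690 := rfl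
theorem F31718 : act 3 n6690 = n5320 := d27_1 D6690 (iv D5320) (iv F25546)
theorem F31719 : act 4 n6690 = n5333 := d32_1 D6690 (iv D5333) (iv F25547)
theorem F31720 : act 6 n6690 = n5324 := d39_1 D6690 (iv D5324) (iv D4264) (iv F20709) D5318
def n6691 : Q := act 7 n5319
theorem D6691 : act 7 n5319 = n6691 := rfl
def n6692 : Q := act 8 n5319
theorem D6692 : act 8 n5319 = n6692 := rfl
def n6693 : Q := act 0 n5321
theorem D6693 : act 0 n5321 = n6693 := rfl
def n6694 : Q := act 6 n5321
theorem D6694 : act 6 n5321 = n6694 := rfl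
theorem F31732 : act 4 n6694 = n5337 := d31_1 D6694 (iv D5337) (iv F25555)
def n6695 : Q := act 5 n5322
theorem D6695 : act 5 n5322 = n6695 := rfl
theorem F31735 : act 2 n6695 = n5323 := d19_1 D6695 (iv D5323) (iv F25558)
def n6696 : Q := act 7 n5322
theorem D6696 : act 7 n5322 = n6696 := rfl
def n6697 : Q := act 7 n5323
theorem D6697 : act 7 n5323 = n6697 := rfl
theorem F31744 : act 5 n6697 = n5324 := d36_1 D6697 (iv D5324) D5323
def n6698 : Q := act 8 n5323
theorem D6698 : act 8 n5323 = n6698 := rfl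
theorem F31745 : act 0 n6698 = n6698 := d7_1 D6698 (iv D6698) F25561
theorem F31746 : act 3 n6698 = n5326 := d28_1 D6698 (iv D5326) (iv F25562)
theorem F31747 : act 4 n6698 = n6698 := d33_1 D6698 (iv D6698) F25563
theorem F31748 : act 5 n6698 = n6698 := d37_1 D6698 (iv D6698) (iv D5323) F20725 D5323
def n6699 : Q := act 6 n5325
theorem D6699 : act 6 n5325 = n6699 := rfl
def n6700 : Q := act 8 n5325
theorem D6700 : act 8 n5325 = n6700 := rfl
theorem F31754 : act 7 n6700 = n5326 := d42_1 D6700 (iv D5326) D5325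
def n6701 : Q := act 9 n5326
theorem D6701 : act 9 n5326 = n6701 := rfl
theorem F31755 : act 0 n6701 = n6701 := d8_1 D6701 (iv D6701) F25571
theorem F31756 : act 4 n6701 = n5329 := d34_1 D6701 (iv D5329) (iv F25572)
theorem F31757 : act 5 n6701 = n6701 := d38_1 D6701 (iv D6701) F25573
def n6702 : Q := act 8 n5327
theorem D6702 : act 8 n5327 = n6702 := rfl
def n6703 : Q := act 9 n5328
theorem D6703 : act 9 n5328 = n6703 := rfl
theorem F31764 : act 7 n6703 = n5329 := d43_1 D6703 (iv D5329) (iv F25580)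
def n6704 : Q := act 0 n5330
theorem D6704 : act 0 n5330 = n6704 := rfl
theorem F31767 : act 5 n6704 = n5339 := d4_2 (iv F25585) D6704 (iv D5339)
def n6705 : Q := act 6 n5330
theorem D6705 : act 6 n5330 = n6705 := rfl
theorem F31771 : act 3 n6705 = n5512 := d26_1 D6705 (iv D5512) (iv F25584)
def n6706 : Q := act 5 n5331
theorem D6706 : act 5 n5331 = n6706 := rfl
theorem F31774 : act 2 n6706 = n5332 := d19_1 D6706 (iv D5332) (iv F25589)
theorem F31775 : act 3 n6706 = n5513 := d25_1 D6706 (iv D5513) (iv F25590)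
theorem F31776 : act 6 n6706 = n5341 := d35_2 D5331 D6706 (iv D5341) (iv D4277) (iv F20739)
def n6707 : Q := act 7 n5331
theorem D6707 : act 7 n5331 = n6707 := rfl
theorem F31780 : act 6 n6707 = n5338 := d39_1 D6707 (iv D5338) (iv D4274) (iv F20740) D5331
def n6708 : Q := act 4 n5332
theorem D6708 : act 4 n5332 = n6708 := rfl
theorem F31784 : act 6 n6708 = n5342 := d31_2 (iv F25594) D6708 (iv D5342)
def n6709 : Q := act 7 n5332
theorem D6709 : act 7 n5332 = n6709 := rfl
theorem F31787 : act 5 n6709 = n5333 := d36_1 D6709 (iv D5333) D5332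
def n6710 : Q := act 8 n5332
theorem D6710 : act 8 n5332 = n6710 := rfl
theorem F31792 : act 6 n6710 = n5343 := d40_1 D6710 (iv D5343) (iv F25594)
def n6711 : Q := act 8 n5334
theorem D6711 : act 8 n5334 = n6711 := rfl
theorem F31798 : act 7 n6711 = n5335 := d42_1 D6711 (iv D5335) D5334
def n6712 : Q := act 9 n5335
theorem D6712 : act 9 n5335 = n6712 := rfl
theorem F31803 : act 6 n6712 = n5344 := d41_1 D6712 (iv D5344) (iv F25608)
def n6715 : Q := act 6 n5339
theorem D6715 : act 6 n5339 = n6715 := rfl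
theorem F31815 : act 3 n6715 = n5522 := d26_1 D6715 (iv D5522) (iv F25623)
def n6716 : Q := act 5 n5340
theorem D6716 : act 5 n5340 = n6716 := rfl
theorem F31819 : act 3 n6716 = n5523 := d25_1 D6716 (iv D5523) (iv F25627)
def n6717 : Q := act 4 n5341
theorem D6717 : act 4 n5341 = n6717 := rfl
theorem F31822 : act 2 n6717 = n5342 := d18_1 D6717 (iv D5342) (iv F25631)
def n6718 : Q := act 8 n5341
theorem D6718 : act 8 n5341 = n6718 := rfl
theorem F31825 : act 2 n6718 = n5343 := d22_1 D6718 (iv D5343) (iv F25631)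
theorem F31826 : act 3 n6718 = n5525 := d28_1 D6718 (iv D5525) (iv F25632)
def n6719 : Q := act 8 n5342
theorem D6719 : act 8 n5342 = n6719 := rfl
def n6720 : Q := act 9 n5343
theorem D6720 : act 9 n5343 = n6720 := rfl
def n6721 : Q := act 5 n5345
theorem D6721 : act 5 n5345 = n6721 := rfl
theorem F31840 : act 3 n6721 = n5528 := d25_1 D6721 (iv D5528) (iv F25648)
theorem F31841 : act 4 n6721 = n6721 := d30_1 D6721 (iv D6721) (iv F31152) F31153 F31152
def n6722 : Q := act 8 n5346
theorem D6722 : act 8 n5346 = n6722 := rfl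
theorem F31846 : act 3 n6722 = n5530 := d28_1 D6722 (iv D5530) (iv F25652)
def n6723 : Q := act 9 n5347
theorem D6723 : act 9 n5347 = n6723 := rfl
theorem F31851 : act 2 n6723 = n5348 := d23_1 D6723 (iv D5348) (iv F25658)
theorem F31852 : act 3 n6723 = n5532 := d29_1 D6723 (iv D5532) (iv F25659)
def n6724 : Q := act 1 n5349
theorem D6724 : act 1 n5349 = n6724 := rfl
theorem F31859 : act 4 n6724 = n5537 := d11_2 (iv F25670) D6724 (iv D5537)
def n6725 : Q := act 6 n5349
theorem D6725 : act 6 n5349 = n6725 := rfl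
theorem F31863 : act 0 n6725 = n5353 := d5_1 D6725 (iv D5353) (iv F25669)
theorem F31864 : act 2 n6725 = n5350 := d20_1 D6725 (iv D5350) D5349
theorem F31865 : act 4 n6725 = n5538 := d31_1 D6725 (iv D5538) (iv F25670)
def n6726 : Q := act 5 n5350
theorem D6726 : act 5 n5350 = n6726 := rfl
theorem F31869 : act 3 n6726 = n5351 := d25_1 D6726 (iv D5351) (iv F25676)
def n6727 : Q := act 7 n5350
theorem D6727 : act 7 n5350 = n6727 := rfl
theorem F31874 : act 3 n6727 = n5352 := d27_1 D6727 (iv D5352) (iv F25676)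
theorem F31875 : act 4 n6727 = n5540 := d32_1 D6727 (iv D5540) (iv F25677)
def n6728 : Q := act 7 n5351
theorem D6728 : act 7 n5351 = n6728 := rfl
def n6729 : Q := act 8 n5351
theorem D6729 : act 8 n5351 = n6729 := rfl
def n6730 : Q := act 5 n5353
theorem D6730 : act 5 n5353 = n6730 := rfl
theorem F31888 : act 2 n6730 = n5354 := d19_1 D6730 (iv D5354) (iv F25690)
def n6731 : Q := act 7 n5353
theorem D6731 : act 7 n5353 = n6731 := rfl
theorem F31893 : act 4 n6731 = n5544 := d32_1 D6731 (iv D5544) (iv F25691)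
def n6732 : Q := act 4 n5354
theorem D6732 : act 4 n5354 = n6732 := rfl
theorem F31897 : act 3 n6732 = n6732 := d24_1 D6732 (iv D6732) F25694 F20839 (iv F25694)
theorem F31898 : act 5 n6732 = n5545 := d30_2 D5354 D6732 (iv D5545) (iv D4436) (iv F20836)
def n6733 : Q := act 7 n5354
theorem D6733 : act 7 n5354 = n6733 := rfl
theorem F31902 : act 3 n6733 = n5356 := d27_1 D6733 (iv D5356) (iv F25694)
def n6736 : Q := act 8 n5356
theorem D6736 : act 8 n5356 = n6736 := rfl
def n6738 : Q := act 7 n5358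
theorem D6738 : act 7 n5358 = n6738 := rfl
theorem F31923 : act 4 n6738 = n5359 := d32_1 D6738 (iv D5359) D5358
theorem F31924 : act 5 n6738 = n5551 := d36_1 D6738 (iv D5551) (iv F25712)
def n6741 : Q := act 8 n5359
theorem D6741 : act 8 n5359 = n6741 := rfl
theorem F31939 : act 3 n6741 = n5362 := d28_1 D6741 (iv D5362) (iv F25717)
def n6743 : Q := act 8 n5361
theorem D6743 : act 8 n5361 = n6743 := rfl
theorem F31947 : act 2 n6743 = n5364 := d22_1 D6743 (iv D5364) (iv F25725)
theorem F31949 : act 6 n6743 = n5362 := d40_1 D6743 (iv D5362) D5361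
def n6744 : Q := act 9 n5362
theorem D6744 : act 9 n5362 = n6744 := rfl
theorem F31952 : act 2 n6744 = n5365 := d23_1 D6744 (iv D5365) (iv F25731)
def n6745 : Q := act 5 n5364
theorem D6745 : act 5 n5364 = n6745 := rfl
def n6746 : Q := act 9 n5364
theorem D6746 : act 9 n5364 = n6746 := rfl
def n6747 : Q := act 4 n5366
theorem D6747 : act 4 n5366 = n6747 := rfl
theorem F31969 : act 8 n6747 = n5368 := d33_2 (iv F25752) D6747 (iv D5368)
def n6748 : Q := act 6 n5366
theorem D6748 : act 6 n5366 = n6748 := rfl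
def n6749 : Q := act 4 n5367
theorem D6749 : act 4 n5367 = n6749 := rfl
theorem F31981 : act 7 n6749 = n5368 := d32_2 (iv F25757) D6749 (iv D5368)
theorem F31982 : act 9 n6749 = n5457 := d34_2 (iv F25758) D6749 (iv D5457)
def n6751 : Q := act 3 n5368
theorem D6751 : act 3 n5368 = n6751 := rfl
theorem F31991 : act 9 n6751 = n5459 := d29_2 (iv F25763) D6751 (iv D5459)
def n6752 : Q := act 6 n5368
theorem D6752 : act 6 n5368 = n6752 := rfl
theorem F31995 : act 4 n6752 = n5369 := d31_1 D6752 (iv D5369) D5368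
def n6753 : Q := act 7 n5369
theorem D6753 : act 7 n5369 = n6753 := rfl
def n6754 : Q := act 2 n5370
theorem D6754 : act 2 n5370 = n6754 := rfl
theorem F32007 : act 9 n6754 = n5462 := d23_2 (iv F25774) D6754 (iv D5462)
def n6755 : Q := act 6 n5370
theorem D6755 : act 6 n5370 = n6755 := rfl
theorem F32012 : act 9 n6755 = n5463 := d41_2 (iv F25774) D6755 (iv D5463)
def n6756 : Q := act 5 n5371
theorem D6756 : act 5 n5371 = n6756 := rfl
theorem F32017 : act 9 n6756 = n5464 := d38_2 (iv F25780) D6756 (iv D5464)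
def n6757 : Q := act 7 n5371
theorem D6757 : act 7 n5371 = n6757 := rfl
theorem F32021 : act 4 n6757 = n5372 := d32_1 D6757 (iv D5372) (iv F25778)
def n6758 : Q := act 4 n5373
theorem D6758 : act 4 n5373 = n6758 := rfl
theorem F32027 : act 5 n6758 = n5375 := d30_2 D5373 D6758 (iv D5375) (iv D4307) (iv F20911)
def n6759 : Q := act 6 n5373
theorem D6759 : act 6 n5373 = n6759 := rfl
def n6760 : Q := act 4 n5374
theorem D6760 : act 4 n5374 = n6760 := rfl
theorem F32036 : act 1 n6760 = n5391 := d11_1 D6760 (iv D5391) (iv F25791)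
theorem F32038 : act 7 n6760 = n5375 := d32_2 (iv F25793) D6760 (iv D5375)
theorem F32039 : act 8 n6760 = n5377 := d33_2 (iv F25794) D6760 (iv D5377)
def n6761 : Q := act 6 n5374
theorem D6761 : act 6 n5374 = n6761 := rfl
theorem F32041 : act 1 n6761 = n5392 := d13_1 D6761 (iv D5392) (iv F25791)
def n6762 : Q := act 3 n5375
theorem D6762 : act 3 n5375 = n6762 := rfl
theorem F32046 : act 8 n6762 = n5379 := d28_2 (iv F25798) D6762 (iv D5379)
def n6763 : Q := act 6 n5375
theorem D6763 : act 6 n5375 = n6763 := rfl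
theorem F32050 : act 4 n6763 = n5376 := d31_1 D6763 (iv D5376) D5375
theorem F32051 : act 8 n6763 = n5380 := d40_2 (iv F25798) D6763 (iv D5380)
def n6764 : Q := act 7 n5376
theorem D6764 : act 7 n5376 = n6764 := rfl
def n6765 : Q := act 3 n5377
theorem D6765 : act 3 n5377 = n6765 := rfl
theorem F32058 : act 1 n6765 = n5396 := d10_1 D6765 (iv D5396) (iv F25805)
theorem F32060 : act 7 n6765 = n5379 := d27_2 (iv F25808) D6765 (iv D5379)
theorem F32061 : act 9 n6765 = n5466 := d29_2 (iv F25809) D6765 (iv D5466)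
def n6766 : Q := act 6 n5377
theorem D6766 : act 6 n5377 = n6766 := rfl
theorem F32065 : act 9 n6766 = n5467 := d41_2 (iv F25809) D6766 (iv D5467)
def n6768 : Q := act 2 n5379
theorem D6768 : act 2 n5379 = n6768 := rfl
theorem F32073 : act 9 n6768 = n5469 := d23_2 (iv F25816) D6768 (iv D5469)
def n6769 : Q := act 6 n5379
theorem D6769 : act 6 n5379 = n6769 := rfl
theorem F32075 : act 3 n6769 = n5380 := d26_1 D6769 (iv D5380) D5379
def n6770 : Q := act 5 n5380
theorem D6770 : act 5 n5380 = n6770 := rfl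
theorem F32079 : act 4 n6770 = n5384 := d30_1 D6770 (iv D5384) F20941 (iv F20932) (iv F25819)
def n6771 : Q := act 7 n5380
theorem D6771 : act 7 n5380 = n6771 := rfl
theorem F32084 : act 4 n6771 = n5381 := d32_1 D6771 (iv D5381) (iv F25819)
def n6772 : Q := act 6 n5382
theorem D6772 : act 6 n5382 = n6772 := rfl
theorem F32090 : act 9 n6772 = n5473 := d41_2 (iv F25830) D6772 (iv D5473)
def n6773 : Q := act 5 n5383
theorem D6773 : act 5 n5383 = n6773 := rfl
theorem F32092 : act 3 n6773 = n5384 := d25_1 D6773 (iv D5384) (iv F25832)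
theorem F32094 : act 9 n6773 = n5474 := d38_2 (iv F25834) D6773 (iv D5474)
def n6774 : Q := act 7 n5383
theorem D6774 : act 7 n5383 = n6774 := rfl
def n6775 : Q := act 7 n5384
theorem D6775 : act 7 n5384 = n6775 := rfl
theorem F32102 : act 5 n6775 = n5385 := d36_1 D6775 (iv D5385) D5384
theorem F32103 : act 9 n6775 = n5476 := d43_2 (iv F25838) D6775 (iv D5476)
def n6776 : Q := act 8 n5384
theorem D6776 : act 8 n5384 = n6776 := rfl
def n6777 : Q := act 4 n5386
theorem D6777 : act 4 n5386 = n6777 := rfl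
theorem F32108 : act 0 n6777 = n6777 := d3_1 D6777 (iv D6777) F25845
theorem F32109 : act 2 n6777 = n6777 := d18_1 D6777 (iv D6777) F25846
theorem F32110 : act 8 n6777 = n6777 := d33_2 F25848 D6777 (iv D6777)
theorem F32111 : act 9 n6777 = n6777 := d34_2 F25849 D6777 (iv D6777)
def n6778 : Q := act 6 n5386
theorem D6778 : act 6 n5386 = n6778 := rfl
def n6779 : Q := act 4 n5387
theorem D6779 : act 4 n5387 = n6779 := rfl
theorem F32121 : act 5 n6779 = n5391 := d30_2 D5387 D6779 (iv D5391) (iv D4318) (iv F20956)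
theorem F32123 : act 7 n6779 = n5388 := d32_2 (iv F25853) D6779 (iv D5388)
def n6780 : Q := act 3 n5388
theorem D6780 : act 3 n5388 = n6780 := rfl
theorem F32127 : act 5 n6780 = n5393 := d25_2 (iv F25858) D6780 (iv D5393)
def n6781 : Q := act 6 n5388
theorem D6781 : act 6 n5388 = n6781 := rfl
theorem F32132 : act 4 n6781 = n5389 := d31_1 D6781 (iv D5389) D5388
def n6782 : Q := act 6 n5390
theorem D6782 : act 6 n5390 = n6782 := rfl
theorem F32139 : act 5 n6782 = n5392 := d35_1 D6782 (iv D5392) (iv D4318) (iv F20965) D5390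
def n6783 : Q := act 3 n5391
theorem D6783 : act 3 n5391 = n6783 := rfl
theorem F32143 : act 7 n6783 = n5393 := d27_2 (iv F25875) D6783 (iv D5393)
theorem F32144 : act 8 n6783 = n5396 := d28_2 (iv F25876) D6783 (iv D5396)
def n6785 : Q := act 7 n5392
theorem D6785 : act 7 n5392 = n6785 := rfl
theorem F32153 : act 2 n6785 = n5413 := d21_1 D6785 (iv D5413) (iv F25879)
theorem F32154 : act 6 n6785 = n5395 := d39_1 D6785 (iv D5395) (iv D4320) (iv F20970) D5392
def n6786 : Q := act 2 n5393
theorem D6786 : act 2 n5393 = n6786 := rfl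
theorem F32159 : act 8 n6786 = n5399 := d22_2 (iv F25883) D6786 (iv D5399)
def n6787 : Q := act 6 n5393
theorem D6787 : act 6 n5393 = n6787 := rfl
theorem F32163 : act 8 n6787 = n5400 := d40_2 (iv F25883) D6787 (iv D5400)
def n6788 : Q := act 5 n5394
theorem D6788 : act 5 n5394 = n6788 := rfl
def n6789 : Q := act 7 n5394
theorem D6789 : act 7 n5394 = n6789 := rfl
theorem F32171 : act 4 n6789 = n5395 := d32_1 D6789 (iv D5395) (iv F25887)
theorem F32172 : act 8 n6789 = n5402 := d42_2 (iv F25888) D6789 (iv D5402)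
def n6790 : Q := act 2 n5396
theorem D6790 : act 2 n5396 = n6790 := rfl
theorem F32175 : act 3 n6790 = n5418 := d17_2 D5396 D6790 (iv D5418) (iv D4339) (iv F20983)
theorem F32177 : act 7 n6790 = n5399 := d21_2 (iv F25897) D6790 (iv D5399)
theorem F32178 : act 9 n6790 = n5478 := d23_2 (iv F25898) D6790 (iv D5478)
def n6791 : Q := act 6 n5396
theorem D6791 : act 6 n5396 = n6791 := rfl
theorem F32181 : act 9 n6791 = n5479 := d41_2 (iv F25898) D6791 (iv D5479)
def n6794 : Q := act 1 n5399
theorem D6794 : act 1 n5399 = n6794 := rfl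
theorem F32195 : act 9 n6794 = n5482 := d16_2 (iv F25911) D6794 (iv D5482)
def n6795 : Q := act 6 n5399
theorem D6795 : act 6 n5399 = n6795 := rfl
theorem F32197 : act 2 n6795 = n5400 := d20_1 D6795 (iv D5400) D5399
def n6796 : Q := act 5 n5400
theorem D6796 : act 5 n5400 = n6796 := rfl
theorem F32201 : act 3 n6796 = n5401 := d25_1 D6796 (iv D5401) (iv F25913)
def n6797 : Q := act 7 n5400
theorem D6797 : act 7 n5400 = n6797 := rfl
def n6798 : Q := act 7 n5401
theorem D6798 : act 7 n5401 = n6798 := rfl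
theorem F32209 : act 4 n6798 = n5405 := d32_1 D6798 (iv D5405) (iv F25917)
theorem F32210 : act 5 n6798 = n5402 := d36_1 D6798 (iv D5402) D5401
def n6799 : Q := act 8 n5401
theorem D6799 : act 8 n5401 = n6799 := rfl
def n6800 : Q := act 4 n5403
theorem D6800 : act 4 n5403 = n6800 := rfl
def n6801 : Q := act 7 n5403
theorem D6801 : act 7 n5403 = n6801 := rfl
theorem F32223 : act 5 n6801 = n5404 := d36_1 D6801 (iv D5404) D5403
theorem F32224 : act 9 n6801 = n5489 := d43_2 (iv F25928) D6801 (iv D5489)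
def n6802 : Q := act 8 n5403
theorem D6802 : act 8 n5403 = n6802 := rfl
def n6803 : Q := act 6 n5405
theorem D6803 : act 6 n5405 = n6803 := rfl
theorem F32234 : act 9 n6803 = n5491 := d41_2 (iv F25938) D6803 (iv D5491)
def n6804 : Q := act 8 n5405
theorem D6804 : act 8 n5405 = n6804 := rfl
theorem F32238 : act 7 n6804 = n5406 := d42_1 D6804 (iv D5406) D5405
def n6805 : Q := act 9 n5406
theorem D6805 : act 9 n5406 = n6805 := rfl
def n6806 : Q := act 3 n5407
theorem D6806 : act 3 n5407 = n6806 := rfl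
theorem F32247 : act 5 n6806 = n5411 := d25_2 (iv F25945) D6806 (iv D5411)
theorem F32249 : act 7 n6806 = n5408 := d27_2 (iv F25947) D6806 (iv D5408)
def n6807 : Q := act 2 n5408
theorem D6807 : act 2 n5408 = n6807 := rfl
theorem F32254 : act 5 n6807 = n5414 := d19_2 (iv F25953) D6807 (iv D5414)
def n6808 : Q := act 6 n5408
theorem D6808 : act 6 n5408 = n6808 := rfl
def n6809 : Q := act 5 n5409
theorem D6809 : act 5 n5409 = n6809 := rfl
theorem F32267 : act 6 n6809 = n5416 := d35_2 D5409 D6809 (iv D5416) (iv D4337) (iv F21034)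
def n6811 : Q := act 2 n5411
theorem D6811 : act 2 n5411 = n6811 := rfl
theorem F32279 : act 4 n6811 = n5433 := d18_2 (iv F25971) D6811 (iv D5433)
theorem F32280 : act 7 n6811 = n5414 := d21_2 (iv F25972) D6811 (iv D5414)
def n6812 : Q := act 6 n5411
theorem D6812 : act 6 n5411 = n6812 := rfl
theorem F32285 : act 3 n6812 = n5412 := d26_1 D6812 (iv D5412) D5411
theorem F32286 : act 4 n6812 = n5434 := d31_1 D6812 (iv D5434) (iv F25971)
theorem F32288 : act 8 n6812 = n5419 := d40_2 (iv F25973) D6812 (iv D5419)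
def n6813 : Q := act 7 n5412
theorem D6813 : act 7 n5412 = n6813 := rfl
theorem F32294 : act 6 n6813 = n5417 := d39_1 D6813 (iv D5417) (iv D4337) (iv F21053) D5412
def n6814 : Q := act 1 n5414
theorem D6814 : act 1 n5414 = n6814 := rfl
theorem F32299 : act 8 n6814 = n5422 := d15_2 (iv F25989) D6814 (iv D5422)
def n6815 : Q := act 6 n5414
theorem D6815 : act 6 n5414 = n6815 := rfl
theorem F32303 : act 4 n6815 = n5438 := d31_1 D6815 (iv D5438) (iv F25988)
theorem F32304 : act 8 n6815 = n5423 := d40_2 (iv F25989) D6815 (iv D5423)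
def n6816 : Q := act 5 n5415
theorem D6816 : act 5 n5415 = n6816 := rfl
def n6817 : Q := act 7 n5415
theorem D6817 : act 7 n5415 = n6817 := rfl
theorem F32313 : act 4 n6817 = n5440 := d32_1 D6817 (iv D5440) (iv F25994)
theorem F32314 : act 8 n6817 = n5425 := d42_2 (iv F25995) D6817 (iv D5425)
def n6818 : Q := act 7 n5416
theorem D6818 : act 7 n5416 = n6818 := rfl
theorem F32319 : act 5 n6818 = n5417 := d36_1 D6818 (iv D5417) D5416
def n6819 : Q := act 8 n5416
theorem D6819 : act 8 n5416 = n6819 := rfl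
def n6820 : Q := act 1 n5418
theorem D6820 : act 1 n5418 = n6820 := rfl
theorem F32327 : act 4 n6820 = n5442 := d11_2 (iv F26007) D6820 (iv D5442)
theorem F32329 : act 7 n6820 = n5422 := d14_2 (iv F26009) D6820 (iv D5422)
theorem F32330 : act 9 n6820 = n5494 := d16_2 (iv F26010) D6820 (iv D5494)
def n6821 : Q := act 6 n5418
theorem D6821 : act 6 n5418 = n6821 := rfl
theorem F32333 : act 4 n6821 = n5443 := d31_1 D6821 (iv D5443) (iv F26007)
theorem F32334 : act 9 n6821 = n5495 := d41_2 (iv F26010) D6821 (iv D5495)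
def n6822 : Q := act 5 n5419
theorem D6822 : act 5 n5419 = n6822 := rfl
def n6823 : Q := act 7 n5419
theorem D6823 : act 7 n5419 = n6823 := rfl
theorem F32345 : act 6 n6823 = n5425 := d39_1 D6823 (iv D5425) (iv D4343) (iv F21081) D5419
def n6825 : Q := act 0 n5422
theorem D6825 : act 0 n5422 = n6825 := rfl
def n6826 : Q := act 6 n5422
theorem D6826 : act 6 n5422 = n6826 := rfl
theorem F32358 : act 1 n6826 = n5423 := d13_1 D6826 (iv D5423) D5422
theorem F32361 : act 9 n6826 = n5501 := d41_2 (iv F26030) D6826 (iv D5501)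
def n6827 : Q := act 5 n5423
theorem D6827 : act 5 n5423 = n6827 := rfl
theorem F32363 : act 2 n6827 = n5424 := d19_1 D6827 (iv D5424) (iv F26032)
def n6828 : Q := act 7 n5423
theorem D6828 : act 7 n5423 = n6828 := rfl
theorem F32370 : act 9 n6828 = n5503 := d43_2 (iv F26034) D6828 (iv D5503)
def n6829 : Q := act 7 n5424
theorem D6829 : act 7 n5424 = n6829 := rfl
theorem F32373 : act 3 n6829 = n5426 := d27_1 D6829 (iv D5426) (iv F26037)
theorem F32375 : act 5 n6829 = n5425 := d36_1 D6829 (iv D5425) D5424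
def n6830 : Q := act 8 n5424
theorem D6830 : act 8 n5424 = n6830 := rfl
def n6831 : Q := act 6 n5426
theorem D6831 : act 6 n5426 = n6831 := rfl
theorem F32384 : act 4 n6831 = n5428 := d31_1 D6831 (iv D5428) (iv F26048)
def n6832 : Q := act 8 n5426
theorem D6832 : act 8 n5426 = n6832 := rfl
theorem F32390 : act 7 n6832 = n5427 := d42_1 D6832 (iv D5427) D5426
def n6833 : Q := act 9 n5427
theorem D6833 : act 9 n5427 = n6833 := rfl
def n6834 : Q := act 8 n5428
theorem D6834 : act 8 n5428 = n6834 := rfl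
theorem F32399 : act 6 n6834 = n5429 := d40_1 D6834 (iv D5429) D5428
def n6835 : Q := act 9 n5429
theorem D6835 : act 9 n5429 = n6835 := rfl
theorem F32405 : act 7 n6835 = n5430 := d43_1 D6835 (iv D5430) (iv F26065)
def n6836 : Q := act 5 n5431
theorem D6836 : act 5 n5431 = n6836 := rfl
theorem F32410 : act 4 n6836 = n5435 := d30_1 D6836 (iv D5435) F21141 (iv F21130) (iv F26075)
def n6837 : Q := act 7 n5431
theorem D6837 : act 7 n5431 = n6837 := rfl
theorem F32416 : act 4 n6837 = n5432 := d32_1 D6837 (iv D5432) (iv F26075)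
def n6838 : Q := act 1 n5433
theorem D6838 : act 1 n5433 = n6838 := rfl
theorem F32423 : act 8 n6838 = n5442 := d15_2 (iv F26087) D6838 (iv D5442)
def n6839 : Q := act 6 n5433
theorem D6839 : act 6 n5433 = n6839 := rfl
theorem F32427 : act 8 n6839 = n5443 := d40_2 (iv F26087) D6839 (iv D5443)
def n6840 : Q := act 5 n5434
theorem D6840 : act 5 n5434 = n6840 := rfl
def n6841 : Q := act 7 n5434
theorem D6841 : act 7 n5434 = n6841 := rfl
theorem F32438 : act 6 n6841 = n5440 := d39_1 D6841 (iv D5440) (iv D4354) (iv F21136) D5434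
def n6842 : Q := act 7 n5435
theorem D6842 : act 7 n5435 = n6842 := rfl
theorem F32443 : act 5 n6842 = n5436 := d36_1 D6842 (iv D5436) D5435
def n6843 : Q := act 8 n5435
theorem D6843 : act 8 n5435 = n6843 := rfl
theorem F32447 : act 5 n6843 = n5447 := d37_1 D6843 (iv D5447) (iv D4359) (iv F21142) D5435
def n6846 : Q := act 5 n5438
theorem D6846 : act 5 n5438 = n6846 := rfl
def n6847 : Q := act 7 n5438
theorem D6847 : act 7 n5438 = n6847 := rfl
def n6848 : Q := act 4 n5439
theorem D6848 : act 4 n5439 = n6848 := rfl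
def n6849 : Q := act 7 n5439
theorem D6849 : act 7 n5439 = n6849 := rfl
theorem F32475 : act 3 n6849 = n5441 := d27_1 D6849 (iv D5441) (iv F26114)
theorem F32476 : act 5 n6849 = n5440 := d36_1 D6849 (iv D5440) D5439
def n6851 : Q := act 0 n5442
theorem D6851 : act 0 n5442 = n6851 := rfl
theorem F32487 : act 5 n6851 = n5451 := d4_2 (iv F26130) D6851 (iv D5451)
theorem F32489 : act 9 n6851 = n5511 := d8_2 (iv F26132) D6851 (iv D5511)
def n6852 : Q := act 6 n5442
theorem D6852 : act 6 n5442 = n6852 := rfl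
theorem F32492 : act 9 n6852 = n5512 := d41_2 (iv F26132) D6852 (iv D5512)
def n6853 : Q := act 5 n5443
theorem D6853 : act 5 n5443 = n6853 := rfl
theorem F32495 : act 6 n6853 = n5453 := d35_2 D5443 D6853 (iv D5453) (iv D4365) (iv F21170)
def n6854 : Q := act 7 n5443
theorem D6854 : act 7 n5443 = n6854 := rfl
theorem F32499 : act 6 n6854 = n5450 := d39_1 D6854 (iv D5450) (iv D4362) (iv F21171) D5443
def n6855 : Q := act 4 n5444
theorem D6855 : act 4 n5444 = n6855 := rfl
theorem F32504 : act 6 n6855 = n5454 := d31_2 (iv F26139) D6855 (iv D5454)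
def n6856 : Q := act 7 n5444
theorem D6856 : act 7 n5444 = n6856 := rfl
theorem F32509 : act 5 n6856 = n5445 := d36_1 D6856 (iv D5445) D5444
def n6857 : Q := act 8 n5444
theorem D6857 : act 8 n5444 = n6857 := rfl
theorem F32515 : act 6 n6857 = n5455 := d40_1 D6857 (iv D5455) (iv F26139)
def n6858 : Q := act 8 n5446
theorem D6858 : act 8 n5446 = n6858 := rfl
theorem F32520 : act 7 n6858 = n5447 := d42_1 D6858 (iv D5447) D5446
def n6859 : Q := act 9 n5447
theorem D6859 : act 9 n5447 = n6859 := rfl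
theorem F32524 : act 6 n6859 = n5456 := d41_1 D6859 (iv D5456) (iv F26155)
def n6862 : Q := act 6 n5451
theorem D6862 : act 6 n5451 = n6862 := rfl
theorem F32541 : act 9 n6862 = n5522 := d41_2 (iv F26173) D6862 (iv D5522)
def n6863 : Q := act 5 n5452
theorem D6863 : act 5 n5452 = n6863 := rfl
theorem F32545 : act 9 n6863 = n5523 := d38_2 (iv F26179) D6863 (iv D5523)
def n6864 : Q := act 4 n5453
theorem D6864 : act 4 n5453 = n6864 := rfl
theorem F32550 : act 9 n6864 = n5524 := d34_2 (iv F26183) D6864 (iv D5524)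
def n6865 : Q := act 8 n5453
theorem D6865 : act 8 n5453 = n6865 := rfl
def n6866 : Q := act 8 n5454
theorem D6866 : act 8 n5454 = n6866 := rfl
theorem F32558 : act 4 n6866 = n5455 := d33_1 D6866 (iv D5455) D5454
def n6867 : Q := act 9 n5455
theorem D6867 : act 9 n5455 = n6867 := rfl
theorem F32562 : act 3 n6867 = n5456 := d29_1 D6867 (iv D5456) (iv F26192)
def n6868 : Q := act 3 n5457
theorem D6868 : act 3 n5457 = n6868 := rfl
theorem F32566 : act 0 n6868 = n5466 := d2_1 D6868 (iv D5466) (iv F26201)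
theorem F32569 : act 7 n6868 = n5459 := d27_2 (iv F26205) D6868 (iv D5459)
def n6869 : Q := act 6 n5457
theorem D6869 : act 6 n5457 = n6869 := rfl
theorem F32571 : act 0 n6869 = n5467 := d5_1 D6869 (iv D5467) (iv F26201)
theorem F32573 : act 2 n6869 = n6869 := d20_1 D6869 (iv D6869) F26203
def n6871 : Q := act 2 n5459
theorem D6871 : act 2 n5459 = n6871 := rfl
def n6872 : Q := act 6 n5459
theorem D6872 : act 6 n5459 = n6872 := rfl
theorem F32588 : act 3 n6872 = n5460 := d26_1 D6872 (iv D5460) D5459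
def n6873 : Q := act 5 n5460
theorem D6873 : act 5 n5460 = n6873 := rfl
theorem F32593 : act 4 n6873 = n5464 := d30_1 D6873 (iv D5464) F21249 (iv F21239) (iv F26219)
def n6874 : Q := act 7 n5460
theorem D6874 : act 7 n5460 = n6874 := rfl
theorem F32598 : act 4 n6874 = n5461 := d32_1 D6874 (iv D5461) (iv F26219)
def n6875 : Q := act 1 n5462
theorem D6875 : act 1 n5462 = n6875 := rfl
theorem F32605 : act 8 n6875 = n5537 := d15_2 (iv F26230) D6875 (iv D5537)
def n6876 : Q := act 6 n5462
theorem D6876 : act 6 n5462 = n6876 := rfl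
theorem F32607 : act 2 n6876 = n5463 := d20_1 D6876 (iv D5463) D5462
theorem F32609 : act 8 n6876 = n5538 := d40_2 (iv F26230) D6876 (iv D5538)
def n6877 : Q := act 5 n5463
theorem D6877 : act 5 n5463 = n6877 := rfl
theorem F32612 : act 3 n6877 = n5464 := d25_1 D6877 (iv D5464) (iv F26233)
def n6878 : Q := act 7 n5463
theorem D6878 : act 7 n5463 = n6878 := rfl
theorem F32618 : act 8 n6878 = n5540 := d42_2 (iv F26234) D6878 (iv D5540)
def n6879 : Q := act 7 n5464
theorem D6879 : act 7 n5464 = n6879 := rfl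
theorem F32622 : act 5 n6879 = n5465 := d36_1 D6879 (iv D5465) D5464
def n6880 : Q := act 8 n5464
theorem D6880 : act 8 n5464 = n6880 := rfl
def n6881 : Q := act 2 n5466
theorem D6881 : act 2 n5466 = n6881 := rfl
theorem F32630 : act 7 n6881 = n5469 := d21_2 (iv F26247) D6881 (iv D5469)
def n6882 : Q := act 6 n5466
theorem D6882 : act 6 n5466 = n6882 := rfl
theorem F32632 : act 1 n6882 = n5479 := d13_1 D6882 (iv D5479) (iv F26245)
theorem F32633 : act 3 n6882 = n5467 := d26_1 D6882 (iv D5467) D5466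
def n6883 : Q := act 5 n5467
theorem D6883 : act 5 n5467 = n6883 := rfl
theorem F32636 : act 2 n6883 = n6883 := d19_1 D6883 (iv D6883) F26250
def n6884 : Q := act 7 n5467
theorem D6884 : act 7 n5467 = n6884 := rfl
theorem F32642 : act 6 n6884 = n5472 := d39_1 D6884 (iv D5472) (iv D4378) (iv F21259) D5467
def n6885 : Q := act 1 n5469
theorem D6885 : act 1 n5469 = n6885 := rfl
def n6886 : Q := act 6 n5469
theorem D6886 : act 6 n5469 = n6886 := rfl
theorem F32648 : act 2 n6886 = n5470 := d20_1 D6886 (iv D5470) D5469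
def n6887 : Q := act 5 n5470
theorem D6887 : act 5 n5470 = n6887 := rfl
theorem F32652 : act 3 n6887 = n5471 := d25_1 D6887 (iv D5471) (iv F26262)
def n6888 : Q := act 7 n5470
theorem D6888 : act 7 n5470 = n6888 := rfl
def n6889 : Q := act 7 n5471
theorem D6889 : act 7 n5471 = n6889 := rfl
theorem F32659 : act 4 n6889 = n5476 := d32_1 D6889 (iv D5476) (iv F26266)
theorem F32660 : act 5 n6889 = n5472 := d36_1 D6889 (iv D5472) D5471
def n6890 : Q := act 8 n5471
theorem D6890 : act 8 n5471 = n6890 := rfl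
def n6891 : Q := act 5 n5473
theorem D6891 : act 5 n5473 = n6891 := rfl
theorem F32667 : act 2 n6891 = n5474 := d19_1 D6891 (iv D5474) (iv F26273)
theorem F32669 : act 6 n6891 = n6891 := d35_2 D5473 D6891 (iv D6891) (iv D5473) F21278
def n6892 : Q := act 7 n5473
theorem D6892 : act 7 n5473 = n6892 := rfl
theorem F32674 : act 8 n6892 = n5544 := d42_2 (iv F26275) D6892 (iv D5544)
def n6893 : Q := act 4 n5474
theorem D6893 : act 4 n5474 = n6893 := rfl
def n6894 : Q := act 7 n5474
theorem D6894 : act 7 n5474 = n6894 := rfl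
theorem F32678 : act 3 n6894 = n5476 := d27_1 D6894 (iv D5476) (iv F26277)
theorem F32679 : act 5 n6894 = n5475 := d36_1 D6894 (iv D5475) D5474
def n6895 : Q := act 8 n5474
theorem D6895 : act 8 n5474 = n6895 := rfl
theorem F32682 : act 5 n6895 = n5547 := d37_1 D6895 (iv D5547) (iv D4436) (iv F21283) D5474
def n6896 : Q := act 6 n5476
theorem D6896 : act 6 n5476 = n6896 := rfl
def n6897 : Q := act 8 n5476
theorem D6897 : act 8 n5476 = n6897 := rfl
theorem F32690 : act 5 n6897 = n5549 := d37_1 D6897 (iv D5549) F21546 (iv F21291) (iv F26285)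
theorem F32691 : act 7 n6897 = n5477 := d42_1 D6897 (iv D5477) D5476
def n6898 : Q := act 9 n5477
theorem D6898 : act 9 n5477 = n6898 := rfl
def n6899 : Q := act 1 n5478
theorem D6899 : act 1 n5478 = n6899 := rfl
theorem F32696 : act 3 n6899 = n5494 := d10_2 (iv F26291) D6899 (iv D5494)
theorem F32698 : act 7 n6899 = n5482 := d14_2 (iv F26293) D6899 (iv D5482)
def n6900 : Q := act 6 n5478
theorem D6900 : act 6 n5478 = n6900 := rfl
theorem F32701 : act 2 n6900 = n5479 := d20_1 D6900 (iv D5479) D5478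
theorem F32702 : act 3 n6900 = n5495 := d26_1 D6900 (iv D5495) (iv F26291)
def n6901 : Q := act 5 n5479
theorem D6901 : act 5 n5479 = n6901 := rfl
def n6902 : Q := act 7 n5479
theorem D6902 : act 7 n5479 = n6902 := rfl
theorem F32709 : act 6 n6902 = n5485 := d39_1 D6902 (iv D5485) (iv D4388) (iv F21294) D5479
def n6905 : Q := act 0 n5482
theorem D6905 : act 0 n5482 = n6905 := rfl
def n6906 : Q := act 6 n5482
theorem D6906 : act 6 n5482 = n6906 := rfl
theorem F32725 : act 1 n6906 = n5483 := d13_1 D6906 (iv D5483) D5482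
def n6907 : Q := act 5 n5483
theorem D6907 : act 5 n5483 = n6907 := rfl
theorem F32729 : act 2 n6907 = n5484 := d19_1 D6907 (iv D5484) (iv F26311)
def n6908 : Q := act 7 n5483
theorem D6908 : act 7 n5483 = n6908 := rfl
def n6909 : Q := act 4 n5484
theorem D6909 : act 4 n5484 = n6909 := rfl
theorem F32737 : act 3 n6909 = n5488 := d24_1 D6909 (iv D5488) F21322 (iv F21314) (iv F26315)
def n6910 : Q := act 7 n5484
theorem D6910 : act 7 n5484 = n6910 := rfl
theorem F32740 : act 3 n6910 = n5486 := d27_1 D6910 (iv D5486) (iv F26315)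
theorem F32741 : act 5 n6910 = n5485 := d36_1 D6910 (iv D5485) D5484
def n6911 : Q := act 8 n5484
theorem D6911 : act 8 n5484 = n6911 := rfl
def n6912 : Q := act 6 n5486
theorem D6912 : act 6 n5486 = n6912 := rfl
theorem F32748 : act 4 n6912 = n5491 := d31_1 D6912 (iv D5491) (iv F26322)
def n6913 : Q := act 8 n5486
theorem D6913 : act 8 n5486 = n6913 := rfl
theorem F32754 : act 7 n6913 = n5487 := d42_1 D6913 (iv D5487) D5486
def n6914 : Q := act 9 n5487
theorem D6914 : act 9 n5487 = n6914 := rfl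
def n6915 : Q := act 7 n5488
theorem D6915 : act 7 n5488 = n6915 := rfl
theorem F32762 : act 4 n6915 = n5489 := d32_1 D6915 (iv D5489) D5488
def n6916 : Q := act 8 n5488
theorem D6916 : act 8 n5488 = n6916 := rfl
theorem F32765 : act 4 n6916 = n5490 := d33_1 D6916 (iv D5490) D5488
def n6917 : Q := act 6 n5489
theorem D6917 : act 6 n5489 = n6917 := rfl
def n6918 : Q := act 8 n5489
theorem D6918 : act 8 n5489 = n6918 := rfl
theorem F32775 : act 5 n6918 = n5554 := d37_1 D6918 (iv D5554) F21560 (iv F21328) (iv F26335)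
theorem F32776 : act 7 n6918 = n5490 := d42_1 D6918 (iv D5490) D5489
def n6919 : Q := act 9 n5490
theorem D6919 : act 9 n5490 = n6919 := rfl
def n6920 : Q := act 8 n5491
theorem D6920 : act 8 n5491 = n6920 := rfl
theorem F32784 : act 6 n6920 = n5492 := d40_1 D6920 (iv D5492) D5491
def n6921 : Q := act 9 n5492
theorem D6921 : act 9 n5492 = n6921 := rfl
theorem F32789 : act 7 n6921 = n5493 := d43_1 D6921 (iv D5493) (iv F26348)
def n6922 : Q := act 0 n5494
theorem D6922 : act 0 n5494 = n6922 := rfl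
theorem F32792 : act 4 n6922 = n5511 := d3_2 (iv F26354) D6922 (iv D5511)
theorem F32794 : act 7 n6922 = n5500 := d6_2 (iv F26356) D6922 (iv D5500)
def n6923 : Q := act 6 n5494
theorem D6923 : act 6 n5494 = n6923 := rfl
theorem F32796 : act 1 n6923 = n5495 := d13_1 D6923 (iv D5495) D5494
theorem F32798 : act 4 n6923 = n5512 := d31_1 D6923 (iv D5512) (iv F26354)
def n6924 : Q := act 5 n5495
theorem D6924 : act 5 n5495 = n6924 := rfl
def n6925 : Q := act 7 n5495
theorem D6925 : act 7 n5495 = n6925 := rfl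
theorem F32805 : act 4 n6925 = n5514 := d32_1 D6925 (iv D5514) (iv F26360)
theorem F32806 : act 6 n6925 = n5503 := d39_1 D6925 (iv D5503) (iv D4400) (iv F21339) D5495
def n6926 : Q := act 4 n5496
theorem D6926 : act 4 n5496 = n6926 := rfl
theorem F32811 : act 5 n6926 = n5515 := d30_2 D5496 D6926 (iv D5515) (iv D4410) (iv F21344)
def n6927 : Q := act 7 n5496
theorem D6927 : act 7 n5496 = n6927 := rfl
theorem F32816 : act 5 n6927 = n5497 := d36_1 D6927 (iv D5497) D5496
def n6928 : Q := act 8 n5496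
theorem D6928 : act 8 n5496 = n6928 := rfl
theorem F32819 : act 3 n6928 = n5499 := d28_1 D6928 (iv D5499) (iv F26364)
def n6929 : Q := act 6 n5498
theorem D6929 : act 6 n5498 = n6929 := rfl
theorem F32826 : act 5 n6929 = n5506 := d35_1 D6929 (iv D5506) F21376 (iv F21353) (iv F26375)
def n6930 : Q := act 8 n5498
theorem D6930 : act 8 n5498 = n6930 := rfl
theorem F32832 : act 7 n6930 = n5499 := d42_1 D6930 (iv D5499) D5498
def n6931 : Q := act 6 n5500
theorem D6931 : act 6 n5500 = n6931 := rfl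
theorem F32834 : act 0 n6931 = n5501 := d5_1 D6931 (iv D5501) D5500
def n6932 : Q := act 5 n5501
theorem D6932 : act 5 n5501 = n6932 := rfl
theorem F32839 : act 1 n6932 = n5502 := d12_1 D6932 (iv D5502) (iv F26387)
def n6933 : Q := act 7 n5501
theorem D6933 : act 7 n5501 = n6933 := rfl
def n6934 : Q := act 7 n5502
theorem D6934 : act 7 n5502 = n6934 := rfl
theorem F32848 : act 2 n6934 = n5504 := d21_1 D6934 (iv D5504) (iv F26392)
theorem F32850 : act 5 n6934 = n5503 := d36_1 D6934 (iv D5503) D5502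
def n6935 : Q := act 8 n5502
theorem D6935 : act 8 n5502 = n6935 := rfl
def n6936 : Q := act 6 n5504
theorem D6936 : act 6 n5504 = n6936 := rfl
theorem F32858 : act 3 n6936 = n5506 := d26_1 D6936 (iv D5506) (iv F26401)
def n6937 : Q := act 8 n5504
theorem D6937 : act 8 n5504 = n6937 := rfl
theorem F32866 : act 7 n6937 = n5505 := d42_1 D6937 (iv D5505) D5504
def n6938 : Q := act 9 n5505
theorem D6938 : act 9 n5505 = n6938 := rfl
def n6939 : Q := act 8 n5506
theorem D6939 : act 8 n5506 = n6939 := rfl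
theorem F32875 : act 4 n6939 = n5509 := d33_1 D6939 (iv D5509) (iv F26412)
theorem F32876 : act 6 n6939 = n5507 := d40_1 D6939 (iv D5507) D5506
def n6940 : Q := act 9 n5507
theorem D6940 : act 9 n5507 = n6940 := rfl
theorem F32882 : act 7 n6940 = n5508 := d43_1 D6940 (iv D5508) (iv F26418)
def n6941 : Q := act 5 n5509
theorem D6941 : act 5 n5509 = n6941 := rfl
theorem F32886 : act 6 n6941 = n5558 := d35_2 (iv F26427) D6941 (iv D5558) F21585 (iv F21390)
def n6942 : Q := act 9 n5509
theorem D6942 : act 9 n5509 = n6942 := rfl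
theorem F32892 : act 6 n6942 = n5510 := d41_1 D6942 (iv D5510) (iv F26427)
def n6943 : Q := act 6 n5511
theorem D6943 : act 6 n5511 = n6943 := rfl
theorem F32894 : act 0 n6943 = n5512 := d5_1 D6943 (iv D5512) D5511
def n6944 : Q := act 5 n5512
theorem D6944 : act 5 n5512 = n6944 := rfl
theorem F32898 : act 1 n6944 = n5513 := d12_1 D6944 (iv D5513) (iv F26439)
theorem F32900 : act 6 n6944 = n5523 := d35_2 D5512 D6944 (iv D5523) (iv D4418) (iv F21398)
def n6945 : Q := act 7 n5512
theorem D6945 : act 7 n5512 = n6945 := rfl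
def n6946 : Q := act 4 n5513
theorem D6946 : act 4 n5513 = n6946 := rfl
theorem F32906 : act 2 n6946 = n5515 := d18_1 D6946 (iv D5515) (iv F26443)
theorem F32907 : act 6 n6946 = n5524 := d31_2 (iv F26444) D6946 (iv D5524)
def n6947 : Q := act 7 n5513
theorem D6947 : act 7 n5513 = n6947 := rfl
theorem F32910 : act 5 n6947 = n5514 := d36_1 D6947 (iv D5514) D5513
def n6948 : Q := act 8 n5513
theorem D6948 : act 8 n5513 = n6948 := rfl
theorem F32915 : act 6 n6948 = n5525 := d40_1 D6948 (iv D5525) (iv F26444)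
def n6949 : Q := act 7 n5515
theorem D6949 : act 7 n5515 = n6949 := rfl
def n6950 : Q := act 8 n5515
theorem D6950 : act 8 n5515 = n6950 := rfl
theorem F32924 : act 4 n6950 = n5517 := d33_1 D6950 (iv D5517) D5515
theorem F32925 : act 6 n6950 = n5526 := d40_1 D6950 (iv D5526) (iv F26452)
def n6951 : Q := act 8 n5516
theorem D6951 : act 8 n5516 = n6951 := rfl
theorem F32931 : act 7 n6951 = n5517 := d42_1 D6951 (iv D5517) D5516
def n6952 : Q := act 9 n5517
theorem D6952 : act 9 n5517 = n6952 := rfl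
theorem F32936 : act 6 n6952 = n5527 := d41_1 D6952 (iv D5527) (iv F26462)
def n6953 : Q := act 9 n5518
theorem D6953 : act 9 n5518 = n6953 := rfl
theorem F32942 : act 7 n6953 = n5519 := d43_1 D6953 (iv D5519) (iv F26468)
def n6955 : Q := act 5 n5522
theorem D6955 : act 5 n5522 = n6955 := rfl
theorem F32948 : act 0 n6955 = n5523 := d4_1 D6955 (iv D5523) (iv F26483)
def n6956 : Q := act 4 n5523
theorem D6956 : act 4 n5523 = n6956 := rfl
theorem F32952 : act 1 n6956 = n5524 := d11_1 D6956 (iv D5524) (iv F26489)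
def n6957 : Q := act 8 n5523
theorem D6957 : act 8 n5523 = n6957 := rfl
theorem F32958 : act 5 n6957 = n5530 := d37_1 D6957 (iv D5530) (iv D4424) (iv F21444) D5523
def n6958 : Q := act 3 n5524
theorem D6958 : act 3 n5524 = n6958 := rfl
theorem F32963 : act 7 n6958 = n6958 := d27_2 F26495 D6958 (iv D6958)
def n6959 : Q := act 8 n5524
theorem D6959 : act 8 n5524 = n6959 := rfl
theorem F32966 : act 4 n6959 = n5525 := d33_1 D6959 (iv D5525) D5524
def n6960 : Q := act 9 n5525
theorem D6960 : act 9 n5525 = n6960 := rfl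
def n6961 : Q := act 5 n5526
theorem D6961 : act 5 n5526 = n6961 := rfl
theorem F32975 : act 4 n6961 = n5533 := d30_1 D6961 (iv D5533) F21488 (iv F21456) (iv F26503)
def n6962 : Q := act 9 n5526
theorem D6962 : act 9 n5526 = n6962 := rfl
theorem F32981 : act 4 n6962 = n5527 := d34_1 D6962 (iv D5527) (iv F26503)
def n6963 : Q := act 4 n5528
theorem D6963 : act 4 n5528 = n6963 := rfl
theorem F32983 : act 0 n6963 = n5529 := d3_1 D6963 (iv D5529) (iv F26510)
theorem F32985 : act 2 n6963 = n6963 := d18_1 D6963 (iv D6963) F26512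
theorem F32986 : act 3 n6963 = n6963 := d24_1 D6963 (iv D6963) (iv F31840) F31841 F31840
theorem F32990 : act 9 n6963 = n6963 := d34_2 F26515 D6963 (iv D6963)
def n6964 : Q := act 8 n5528
theorem D6964 : act 8 n5528 = n6964 := rfl
def n6965 : Q := act 8 n5529
theorem D6965 : act 8 n5529 = n6965 := rfl
theorem F32996 : act 1 n6965 = n5531 := d15_1 D6965 (iv D5531) (iv F26516)
theorem F32999 : act 4 n6965 = n5530 := d33_1 D6965 (iv D5530) D5529
def n6966 : Q := act 9 n5530
theorem D6966 : act 9 n5530 = n6966 := rfl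
def n6967 : Q := act 5 n5531
theorem D6967 : act 5 n5531 = n6967 := rfl
theorem F33008 : act 2 n6967 = n5533 := d19_1 D6967 (iv D5533) (iv F26528)
def n6968 : Q := act 9 n5531
theorem D6968 : act 9 n5531 = n6968 := rfl
theorem F33015 : act 4 n6968 = n5532 := d34_1 D6968 (iv D5532) (iv F26530)
def n6969 : Q := act 6 n5533
theorem D6969 : act 6 n5533 = n6969 := rfl
theorem F33021 : act 3 n6969 = n5535 := d26_1 D6969 (iv D5535) (iv F26540)
def n6970 : Q := act 9 n5533
theorem D6970 : act 9 n5533 = n6970 := rfl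
theorem F33027 : act 5 n6970 = n5534 := d38_1 D6970 (iv D5534) D5533
def n6972 : Q := act 9 n5535
theorem D6972 : act 9 n5535 = n6972 := rfl
theorem F33041 : act 6 n6972 = n5536 := d41_1 D6972 (iv D5536) D5535
def n6973 : Q := act 8 n5536
theorem D6973 : act 8 n5536 = n6973 := rfl
def n6974 : Q := act 6 n5537
theorem D6974 : act 6 n5537 = n6974 := rfl
theorem F33049 : act 0 n6974 = n6974 := d5_1 D6974 (iv D6974) F26562
theorem F33050 : act 1 n6974 = n5538 := d13_1 D6974 (iv D5538) D5537
theorem F33051 : act 2 n6974 = n6974 := d20_1 D6974 (iv D6974) F26563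
theorem F33052 : act 3 n6974 = n6974 := d26_1 D6974 (iv D6974) F26564
def n6975 : Q := act 5 n5538
theorem D6975 : act 5 n5538 = n6975 := rfl
theorem F33055 : act 2 n6975 = n5539 := d19_1 D6975 (iv D5539) (iv F26569)
theorem F33056 : act 3 n6975 = n6975 := d25_1 D6975 (iv D6975) F26570
theorem F33057 : act 6 n6975 = n5561 := d35_2 D5538 D6975 (iv D5561) (iv D4449) (iv F21512)
def n6976 : Q := act 7 n5538
theorem D6976 : act 7 n5538 = n6976 := rfl
def n6977 : Q := act 4 n5539
theorem D6977 : act 4 n5539 = n6977 := rfl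
theorem F33064 : act 0 n6977 = n5545 := d3_1 D6977 (iv D5545) (iv F26572)
theorem F33067 : act 6 n6977 = n5563 := d31_2 (iv F26575) D6977 (iv D5563)
def n6978 : Q := act 7 n5539
theorem D6978 : act 7 n5539 = n6978 := rfl
theorem F33071 : act 3 n6978 = n5541 := d27_1 D6978 (iv D5541) (iv F26574)
theorem F33072 : act 5 n6978 = n5540 := d36_1 D6978 (iv D5540) D5539
def n6979 : Q := act 8 n5539
theorem D6979 : act 8 n5539 = n6979 := rfl
def n6980 : Q := act 6 n5541
theorem D6980 : act 6 n5541 = n6980 := rfl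
theorem F33078 : act 0 n6980 = n5548 := d5_1 D6980 (iv D5548) (iv F26582)
theorem F33080 : act 2 n6980 = n6980 := d20_1 D6980 (iv D6980) F26584
theorem F33083 : act 7 n6980 = n5566 := d39_2 D5541 D6980 (iv D5566) (iv D4452) (iv F21523)
def n6981 : Q := act 8 n5541
theorem D6981 : act 8 n5541 = n6981 := rfl
theorem F33089 : act 7 n6981 = n5542 := d42_1 D6981 (iv D5542) D5541
def n6982 : Q := act 9 n5542
theorem D6982 : act 9 n5542 = n6982 := rfl
def n6983 : Q := act 4 n5543
theorem D6983 : act 4 n5543 = n6983 := rfl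
theorem F33097 : act 2 n6983 = n5545 := d18_1 D6983 (iv D5545) (iv F26594)
theorem F33098 : act 6 n6983 = n5569 := d31_2 (iv F26596) D6983 (iv D5569)
theorem F33099 : act 9 n6983 = n6983 := d34_2 F26597 D6983 (iv D6983)
def n6984 : Q := act 7 n5543
theorem D6984 : act 7 n5543 = n6984 := rfl
theorem F33101 : act 2 n6984 = n5546 := d21_1 D6984 (iv D5546) (iv F26594)
theorem F33103 : act 5 n6984 = n5544 := d36_1 D6984 (iv D5544) D5543
def n6985 : Q := act 8 n5543
theorem D6985 : act 8 n5543 = n6985 := rfl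
theorem F33108 : act 6 n6985 = n5571 := d40_1 D6985 (iv D5571) (iv F26596)
def n6986 : Q := act 7 n5545
theorem D6986 : act 7 n5545 = n6986 := rfl
theorem F33111 : act 4 n6986 = n5546 := d32_1 D6986 (iv D5546) D5545
def n6987 : Q := act 8 n5545
theorem D6987 : act 8 n5545 = n6987 := rfl
theorem F33113 : act 1 n6987 = n5552 := d15_1 D6987 (iv D5552) (iv F26603)
theorem F33115 : act 4 n6987 = n5547 := d33_1 D6987 (iv D5547) D5545
theorem F33116 : act 6 n6987 = n5573 := d40_1 D6987 (iv D5573) (iv F26605)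
def n6988 : Q := act 6 n5546
theorem D6988 : act 6 n5546 = n6988 := rfl
theorem F33118 : act 3 n6988 = n5548 := d26_1 D6988 (iv D5548) (iv F26608)
def n6989 : Q := act 8 n5546
theorem D6989 : act 8 n5546 = n6989 := rfl
theorem F33124 : act 7 n6989 = n5547 := d42_1 D6989 (iv D5547) D5546
def n6990 : Q := act 9 n5547
theorem D6990 : act 9 n5547 = n6990 := rfl
def n6991 : Q := act 8 n5548
theorem D6991 : act 8 n5548 = n6991 := rfl
theorem F33129 : act 1 n6991 = n5556 := d15_1 D6991 (iv D5556) (iv F26614)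
theorem F33132 : act 6 n6991 = n5549 := d40_1 D6991 (iv D5549) D5548
theorem F33133 : act 7 n6991 = n5577 := d42_1 D6991 (iv D5577) (iv F26618)
def n6992 : Q := act 9 n5549
theorem D6992 : act 9 n5549 = n6992 := rfl
theorem F33137 : act 7 n6992 = n5550 := d43_1 D6992 (iv D5550) (iv F26623)
def n6993 : Q := act 6 n5551
theorem D6993 : act 6 n5551 = n6993 := rfl
theorem F33142 : act 4 n6993 = n5553 := d31_1 D6993 (iv D5553) (iv F26632)
def n6994 : Q := act 8 n5551
theorem D6994 : act 8 n5551 = n6994 := rfl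
def n6995 : Q := act 5 n5552
theorem D6995 : act 5 n5552 = n6995 := rfl
def n6996 : Q := act 9 n5552
theorem D6996 : act 9 n5552 = n6996 := rfl
theorem F33157 : act 6 n6996 = n5582 := d41_1 D6996 (iv D5582) (iv F26638)
def n6997 : Q := act 8 n5553
theorem D6997 : act 8 n5553 = n6997 := rfl
theorem F33161 : act 3 n6997 = n5556 := d28_1 D6997 (iv D5556) (iv F26641)
theorem F33162 : act 6 n6997 = n5554 := d40_1 D6997 (iv D5554) D5553
def n6998 : Q := act 9 n5554
theorem D6998 : act 9 n5554 = n6998 := rfl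
theorem F33167 : act 7 n6998 = n5555 := d43_1 D6998 (iv D5555) (iv F26648)
def n6999 : Q := act 5 n5556
theorem D6999 : act 5 n5556 = n6999 := rfl
theorem F33170 : act 2 n6999 = n5558 := d19_1 D6999 (iv D5558) (iv F26655)
def n7000 : Q := act 9 n5556
theorem D7000 : act 9 n5556 = n7000 := rfl
theorem F33176 : act 6 n7000 = n5557 := d41_1 D7000 (iv D5557) (iv F26657)
def n7001 : Q := act 4 n5558
theorem D7001 : act 4 n5558 = n7001 := rfl
def n7002 : Q := act 9 n5558
theorem D7002 : act 9 n5558 = n7002 := rfl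
theorem F33187 : act 5 n7002 = n5559 := d38_1 D7002 (iv D5559) D5558
theorem F33188 : act 7 n7002 = n5588 := d43_1 D7002 (iv D5588) (iv F26667)
def n7003 : Q := act 5 n5560
theorem D7003 : act 5 n5560 = n7003 := rfl
theorem F33190 : act 1 n7003 = n5561 := d12_1 D7003 (iv D5561) (iv F26677)
def n7004 : Q := act 7 n5560
theorem D7004 : act 7 n5560 = n7004 := rfl
theorem F33199 : act 6 n7004 = n7004 := d39_1 D7004 (iv D7004) (iv D5560) F21597 D5560
def n7005 : Q := act 4 n5561
theorem D7005 : act 4 n5561 = n7005 := rfl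
theorem F33203 : act 2 n7005 = n5563 := d18_1 D7005 (iv D5563) (iv F26684)
def n7007 : Q := act 8 n5561
theorem D7007 : act 8 n5561 = n7007 := rfl
def n7008 : Q := act 7 n5563
theorem D7008 : act 7 n5563 = n7008 := rfl
theorem F33215 : act 0 n7008 = n5572 := d6_1 D7008 (iv D5572) (iv F26694)
theorem F33218 : act 4 n7008 = n5564 := d32_1 D7008 (iv D5564) D5563
def n7009 : Q := act 8 n5563
theorem D7009 : act 8 n5563 = n7009 := rfl
theorem F33224 : act 4 n7009 = n5565 := d33_1 D7009 (iv D5565) D5563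
def n7010 : Q := act 6 n5564
theorem D7010 : act 6 n5564 = n7010 := rfl
theorem F33227 : act 3 n7010 = n5566 := d26_1 D7010 (iv D5566) (iv F26701)
def n7012 : Q := act 9 n5565
theorem D7012 : act 9 n5565 = n7012 := rfl
theorem F33237 : act 3 n7012 = n5568 := d29_1 D7012 (iv D5568) (iv F26706)
def n7013 : Q := act 8 n5566
theorem D7013 : act 8 n5566 = n7013 := rfl
theorem F33242 : act 2 n7013 = n7013 := d22_1 D7013 (iv D7013) F26710
theorem F33244 : act 6 n7013 = n5567 := d40_1 D7013 (iv D5567) D5566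
def n7014 : Q := act 9 n5567
theorem D7014 : act 9 n5567 = n7014 := rfl
theorem F33250 : act 7 n7014 = n5568 := d43_1 D7014 (iv D5568) (iv F26719)
def n7015 : Q := act 3 n5569
theorem D7015 : act 3 n5569 = n7015 := rfl
theorem F33254 : act 4 n7015 = n7015 := d24_2 D5569 D7015 (iv D7015) (iv D5569) F21630
theorem F33255 : act 5 n7015 = n7015 := d25_2 F26728 D7015 (iv D7015)
def n7017 : Q := act 8 n5569
theorem D7017 : act 8 n5569 = n7017 := rfl
theorem F33263 : act 2 n7017 = n5573 := d22_1 D7017 (iv D5573) (iv F26727)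
theorem F33264 : act 4 n7017 = n5571 := d33_1 D7017 (iv D5571) D5569
def n7020 : Q := act 9 n5571
theorem D7020 : act 9 n5571 = n7020 := rfl
def n7021 : Q := act 6 n5572
theorem D7021 : act 6 n5572 = n7021 := rfl
theorem F33280 : act 1 n7021 = n5579 := d13_1 D7021 (iv D5579) (iv F26739)
theorem F33282 : act 4 n7021 = n5574 := d31_1 D7021 (iv D5574) (iv F26741)
def n7022 : Q := act 8 n5572
theorem D7022 : act 8 n5572 = n7022 := rfl
theorem F33287 : act 7 n7022 = n5573 := d42_1 D7022 (iv D5573) D5572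
def n7023 : Q := act 5 n5573
theorem D7023 : act 5 n5573 = n7023 := rfl
def n7024 : Q := act 9 n5573
theorem D7024 : act 9 n5573 = n7024 := rfl
theorem F33292 : act 1 n7024 = n5582 := d16_1 D7024 (iv D5582) (iv F26744)
theorem F33294 : act 4 n7024 = n5576 := d34_1 D7024 (iv D5576) (iv F26746)
def n7025 : Q := act 8 n5574
theorem D7025 : act 8 n5574 = n7025 := rfl
theorem F33297 : act 3 n7025 = n5577 := d28_1 D7025 (iv D5577) (iv F26748)
def n7027 : Q := act 5 n5577
theorem D7027 : act 5 n5577 = n7027 := rfl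
theorem F33305 : act 2 n7027 = n7027 := d19_1 D7027 (iv D7027) F26760
def n7028 : Q := act 9 n5577
theorem D7028 : act 9 n5577 = n7028 := rfl
theorem F33311 : act 6 n7028 = n5578 := d41_1 D7028 (iv D5578) (iv F26762)
def n7029 : Q := act 5 n5579
theorem D7029 : act 5 n5579 = n7029 := rfl
def n7030 : Q := act 8 n5579
theorem D7030 : act 8 n5579 = n7030 := rfl
theorem F33322 : act 4 n7030 = n5583 := d33_1 D7030 (iv D5583) (iv F26772)
theorem F33323 : act 6 n7030 = n5580 := d40_1 D7030 (iv D5580) D5579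
theorem F33324 : act 5 n7030 = n7030 := d45_3 (iv F21691) (iv F26791) (iv F33322) F33323 F26778 (iv D4463) F15485 F15486 (iv D3198) (iv D2248) (iv D1578) F5652 F5653 F5650 (iv D1106) (iv D774) (iv D541) F2044 F2045 (iv D377) F1453 F1035 F735 F522 F372 F266 F192 F188 (iv F251) (iv F348) (iv F499) (iv F708) (iv F1002) D256 (iv F1885) (iv F2586) (iv F3643) F20170 (iv F5086) F5087 (iv D688) F2530 F2531 F2532 (iv F2512) F2513 F1780 D472 F2515 F2516 (iv F2645) D719 D1035 D1485 F7451 F5356 (iv F5627) (iv F7884) (iv F11032) D3186 F15423 D3204 F15513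
theorem F33325 : act 8 n7029 = n7029 := d37_4 D7030 F33324 (iv D7030) D7029 (iv D7029)
def n7041 : Q := act 8 n5588
theorem D7041 : act 8 n5588 = n7041 := rfl
def n7042 : Q := act 5 n5589
theorem D7042 : act 5 n5589 = n7042 := rfl
theorem F33389 : act 0 n7042 = n7042 := d4_1 D7042 (iv D7042) F26818
theorem F33390 : act 1 n7042 = n5615 := d12_1 D7042 (iv D5615) (iv F26819)
theorem F33391 : act 2 n7042 = n6595 := d19_1 D7042 (iv D6595) (iv F26820)
theorem F33392 : act 3 n7042 = n5591 := d25_1 D7042 (iv D5591) (iv F26821)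
theorem F33393 : act 7 n7042 = n7042 := d36_2 F26824 D7042 (iv D7042)
theorem F33394 : act 8 n7042 = n5596 := d37_2 D5589 D7042 (iv D5596) (iv D4478) (iv F21725)
theorem F33395 : act 9 n7042 = n7042 := d38_2 F26825 D7042 (iv D7042)
def n7043 : Q := act 5 n5590
theorem D7043 : act 5 n5590 = n7043 := rfl
theorem F33396 : act 0 n7043 = n7043 := d4_1 D7043 (iv D7043) F26826
theorem F33397 : act 1 n7043 = n5619 := d12_1 D7043 (iv D5619) (iv F26827)
theorem F33398 : act 2 n7043 = n7043 := d19_1 D7043 (iv D7043) F26828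
theorem F33399 : act 3 n7043 = n6575 := d25_1 D7043 (iv D6575) (iv F26829)
theorem F33400 : act 7 n7043 = n6574 := d36_2 (iv F26832) D7043 (iv D6574)
theorem F33401 : act 8 n7043 = n6419 := d37_2 D5590 D7043 (iv D6419) (iv D5118) (iv F21733)
theorem F33402 : act 9 n7043 = n7043 := d38_2 F26833 D7043 (iv D7043)
def n7044 : Q := act 6 n5591
theorem D7044 : act 6 n5591 = n7044 := rfl
theorem F33403 : act 0 n7044 = n7044 := d5_1 D7044 (iv D7044) F26834
theorem F33404 : act 1 n7044 = n5620 := d13_1 D7044 (iv D5620) (iv F26835)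
theorem F33405 : act 2 n7044 = n7044 := d20_1 D7044 (iv D7044) F26836
theorem F33406 : act 4 n7044 = n7044 := d31_1 D7044 (iv D7044) F26837
theorem F33407 : act 8 n7044 = n5597 := d40_2 (iv F26839) D7044 (iv D5597)
theorem F33408 : act 9 n7044 = n7044 := d41_2 F26840 D7044 (iv D7044)
def n7045 : Q := act 4 n5592
theorem D7045 : act 4 n5592 = n7045 := rfl
theorem F33409 : act 0 n7045 = n7045 := d3_1 D7045 (iv D7045) F26841
theorem F33410 : act 1 n7045 = n5622 := d11_1 D7045 (iv D5622) (iv F26842)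
theorem F33411 : act 2 n7045 = n7045 := d18_1 D7045 (iv D7045) F26843
theorem F33412 : act 6 n7045 = n7045 := d31_2 F26845 D7045 (iv D7045)
theorem F33413 : act 7 n7045 = n6777 := d32_2 (iv F26846) D7045 (iv D6777)
theorem F33414 : act 8 n7045 = n7045 := d33_2 F26847 D7045 (iv D7045)
theorem F33415 : act 9 n7045 = n7045 := d34_2 F26848 D7045 (iv D7045)
def n7046 : Q := act 9 n5593
theorem D7046 : act 9 n5593 = n7046 := rfl
theorem F33416 : act 0 n7046 = n5594 := d8_1 D7046 (iv D5594) D5593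
theorem F33417 : act 1 n7046 = n7046 := d16_1 D7046 (iv D7046) F26849
theorem F33418 : act 2 n7046 = n5624 := d23_1 D7046 (iv D5624) (iv F26850)
theorem F33419 : act 3 n7046 = n7046 := d29_1 D7046 (iv D7046) F26851
theorem F33420 : act 4 n7046 = n7046 := d34_1 D7046 (iv D7046) F26852
theorem F33421 : act 5 n7046 = n5825 := d38_1 D7046 (iv D5825) (iv F26853)
theorem F33422 : act 6 n7046 = n6446 := d41_1 D7046 (iv D6446) (iv F26854)
theorem F33423 : act 7 n7046 = n7046 := d43_1 D7046 (iv D7046) F26855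
def n7047 : Q := act 8 n5594
theorem D7047 : act 8 n5594 = n7047 := rfl
theorem F33424 : act 1 n7047 = n5595 := d15_1 D7047 (iv D5595) (iv F26857)
theorem F33425 : act 2 n7047 = n5627 := d22_1 D7047 (iv D5627) (iv F26858)
theorem F33426 : act 3 n7047 = n7047 := d28_1 D7047 (iv D7047) F26859
theorem F33427 : act 4 n7047 = n7047 := d33_1 D7047 (iv D7047) F26860
theorem F33428 : act 6 n7047 = n6456 := d40_1 D7047 (iv D6456) (iv F26862)
theorem F33429 : act 7 n7047 = n7047 := d42_1 D7047 (iv D7047) F26863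
theorem F33430 : act 9 n7047 = n5599 := d44_2 D5594 D7047 (iv D5599) (iv D4481) (iv F21755)
def n7048 : Q := act 5 n5595
theorem D7048 : act 5 n5595 = n7048 := rfl
theorem F33431 : act 0 n7048 = n7048 := d4_1 D7048 (iv D7048) F26864
theorem F33432 : act 2 n7048 = n5596 := d19_1 D7048 (iv D5596) (iv F26865)
theorem F33433 : act 3 n7048 = n7048 := d25_1 D7048 (iv D7048) F26866
theorem F33434 : act 7 n7048 = n7048 := d36_2 F26869 D7048 (iv D7048)
theorem F33435 : act 8 n7048 = n6595 := d37_2 D5595 D7048 (iv D6595) (iv D5251) (iv F21760)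
theorem F33436 : act 9 n7048 = n5600 := d38_2 (iv F26870) D7048 (iv D5600)
def n7049 : Q := act 4 n5596
theorem D7049 : act 4 n5596 = n7049 := rfl
theorem F33437 : act 0 n7049 = n7049 := d3_1 D7049 (iv D7049) F26871
theorem F33438 : act 1 n7049 = n5635 := d11_1 D7049 (iv D5635) (iv F26872)
theorem F33439 : act 3 n7049 = n7049 := d24_1 D7049 (iv D7049) F26873 F21773 (iv F26873)
theorem F33440 : act 5 n7049 = n7049 := d30_2 D5596 D7049 (iv D7049) (iv D5596) F21766
theorem F33441 : act 7 n7049 = n7049 := d32_2 F26874 D7049 (iv D7049)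
theorem F33442 : act 9 n7049 = n5601 := d34_2 (iv F26875) D7049 (iv D5601)
def n7050 : Q := act 6 n5596
theorem D7050 : act 6 n5596 = n7050 := rfl
theorem F33443 : act 0 n7050 = n7050 := d5_1 D7050 (iv D7050) F26871
theorem F33444 : act 1 n7050 = n5636 := d13_1 D7050 (iv D5636) (iv F26872)
theorem F33445 : act 3 n7050 = n5597 := d26_1 D7050 (iv D5597) (iv F26873)
theorem F33446 : act 5 n7050 = n6490 := d35_1 D7050 (iv D6490) (iv D5169) (iv F21767) D5596
theorem F33447 : act 9 n7050 = n5602 := d41_2 (iv F26875) D7050 (iv D5602)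
def n7051 : Q := act 7 n5597
theorem D7051 : act 7 n5597 = n7051 := rfl
theorem F33448 : act 0 n7051 = n7051 := d6_1 D7051 (iv D7051) F26876
theorem F33449 : act 1 n7051 = n5640 := d14_1 D7051 (iv D5640) (iv F26877)
theorem F33450 : act 2 n7051 = n7051 := d21_1 D7051 (iv D7051) F26878
theorem F33451 : act 4 n7051 = n7051 := d32_1 D7051 (iv D7051) F26879
theorem F33452 : act 5 n7051 = n6516 := d36_1 D7051 (iv D6516) (iv F26880)
theorem F33453 : act 6 n7051 = n7051 := d39_1 D7051 (iv D7051) (iv D5597) F21774 D5597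
theorem F33454 : act 9 n7051 = n5603 := d43_2 (iv F26881) D7051 (iv D5603)
def n7052 : Q := act 8 n5598
theorem D7052 : act 8 n5598 = n7052 := rfl
theorem F33455 : act 0 n7052 = n5599 := d7_1 D7052 (iv D5599) (iv F26882)
theorem F33456 : act 1 n7052 = n7052 := d15_1 D7052 (iv D7052) F26883
theorem F33457 : act 2 n7052 = n5643 := d22_1 D7052 (iv D5643) (iv F26884)
theorem F33458 : act 3 n7052 = n7052 := d28_1 D7052 (iv D7052) F26885
theorem F33459 : act 4 n7052 = n7052 := d33_1 D7052 (iv D7052) F26886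
theorem F33460 : act 6 n7052 = n6447 := d40_1 D7052 (iv D6447) (iv F26888)
theorem F33461 : act 7 n7052 = n7052 := d42_1 D7052 (iv D7052) F26889
def n7053 : Q := act 5 n5599
theorem D7053 : act 5 n5599 = n7053 := rfl
theorem F33462 : act 1 n7053 = n5600 := d12_1 D7053 (iv D5600) (iv F26890)
theorem F33463 : act 2 n7053 = n5645 := d19_1 D7053 (iv D5645) (iv F26891)
theorem F33464 : act 3 n7053 = n7053 := d25_1 D7053 (iv D7053) F26892
theorem F33465 : act 7 n7053 = n7053 := d36_2 F26895 D7053 (iv D7053)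
theorem F33466 : act 8 n7053 = n7053 := d37_2 D5599 D7053 (iv D7053) (iv D5599) F21787
def n7054 : Q := act 4 n5600
theorem D7054 : act 4 n5600 = n7054 := rfl
theorem F33467 : act 0 n7054 = n7054 := d3_1 D7054 (iv D7054) F26896
theorem F33468 : act 2 n7054 = n5601 := d18_1 D7054 (iv D5601) (iv F26897)
theorem F33469 : act 5 n7054 = n7054 := d30_2 D5600 D7054 (iv D7054) (iv D5600) F21793
theorem F33470 : act 7 n7054 = n7054 := d32_2 F26899 D7054 (iv D7054)
theorem F33471 : act 8 n7054 = n7054 := d33_2 F26900 D7054 (iv D7054)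
def n7055 : Q := act 6 n5600
theorem D7055 : act 6 n5600 = n7055 := rfl
theorem F33472 : act 0 n7055 = n7055 := d5_1 D7055 (iv D7055) F26896
theorem F33473 : act 2 n7055 = n5602 := d20_1 D7055 (iv D5602) (iv F26897)
theorem F33474 : act 3 n7055 = n7055 := d26_1 D7055 (iv D7055) F26898
theorem F33475 : act 5 n7055 = n6472 := d35_1 D7055 (iv D6472) (iv D5157) (iv F21794) D5600
theorem F33476 : act 8 n7055 = n7055 := d40_2 F26900 D7055 (iv D7055)
def n7056 : Q := act 6 n5601
theorem D7056 : act 6 n5601 = n7056 := rfl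
theorem F33477 : act 0 n7056 = n7056 := d5_1 D7056 (iv D7056) F26901
theorem F33478 : act 1 n7056 = n5651 := d13_1 D7056 (iv D5651) (iv F26902)
theorem F33479 : act 3 n7056 = n7056 := d26_1 D7056 (iv D7056) F26903
theorem F33480 : act 4 n7056 = n5602 := d31_1 D7056 (iv D5602) D5601
theorem F33481 : act 8 n7056 = n7056 := d40_2 F26906 D7056 (iv D7056)
def n7057 : Q := act 7 n5602
theorem D7057 : act 7 n5602 = n7057 := rfl
theorem F33482 : act 0 n7057 = n7057 := d6_1 D7057 (iv D7057) F26907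
theorem F33483 : act 1 n7057 = n5652 := d14_1 D7057 (iv D5652) (iv F26908)
theorem F33484 : act 3 n7057 = n5603 := d27_1 D7057 (iv D5603) (iv F26909)
theorem F33485 : act 5 n7057 = n6493 := d36_1 D7057 (iv D6493) (iv F26910)
theorem F33486 : act 6 n7057 = n7057 := d39_1 D7057 (iv D7057) (iv D5602) F21799 D5602
theorem F33487 : act 8 n7057 = n7057 := d42_2 F26911 D7057 (iv D7057)
def n7058 : Q := act 8 n5604
theorem D7058 : act 8 n5604 = n7058 := rfl
theorem F33488 : act 0 n7058 = n5915 := d7_1 D7058 (iv D5915) (iv F26919)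
theorem F33489 : act 1 n7058 = n6186 := d15_1 D7058 (iv D6186) (iv F26920)
theorem F33490 : act 2 n7058 = n5605 := d22_1 D7058 (iv D5605) (iv F26921)
theorem F33491 : act 3 n7058 = n7058 := d28_1 D7058 (iv D7058) F26922
theorem F33492 : act 4 n7058 = n5612 := d33_1 D7058 (iv D5612) (iv F26923)
theorem F33493 : act 6 n7058 = n6175 := d40_1 D7058 (iv D6175) (iv F26925)
theorem F33494 : act 7 n7058 = n7058 := d42_1 D7058 (iv D7058) F26926
theorem F33495 : act 9 n7058 = n7058 := d44_2 D5604 D7058 (iv D7058) (iv D5604) F21814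
def n7059 : Q := act 5 n5605
theorem D7059 : act 5 n5605 = n7059 := rfl
theorem F33496 : act 0 n7059 = n5917 := d4_1 D7059 (iv D5917) (iv F26927)
theorem F33497 : act 1 n7059 = n6578 := d12_1 D7059 (iv D6578) (iv F26928)
theorem F33498 : act 3 n7059 = n5606 := d25_1 D7059 (iv D5606) (iv F26929)
theorem F33499 : act 7 n7059 = n7059 := d36_2 F26932 D7059 (iv D7059)
theorem F33500 : act 8 n7059 = n7059 := d37_2 D5605 D7059 (iv D7059) (iv D5605) F21819
theorem F33501 : act 9 n7059 = n7059 := d38_2 F26933 D7059 (iv D7059)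
def n7060 : Q := act 6 n5606
theorem D7060 : act 6 n5606 = n7060 := rfl
theorem F33502 : act 0 n7060 = n5919 := d5_1 D7060 (iv D5919) (iv F26934)
theorem F33503 : act 1 n7060 = n6782 := d13_1 D7060 (iv D6782) (iv F26935)
theorem F33504 : act 2 n7060 = n7060 := d20_1 D7060 (iv D7060) F26936
theorem F33505 : act 4 n7060 = n7060 := d31_1 D7060 (iv D7060) F26937
theorem F33506 : act 5 n7060 = n6761 := d35_1 D7060 (iv D6761) (iv D5374) (iv F21826) D5606
theorem F33507 : act 8 n7060 = n7060 := d40_2 F26939 D7060 (iv D7060)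
theorem F33508 : act 9 n7060 = n7060 := d41_2 F26940 D7060 (iv D7060)
def n7061 : Q := act 4 n5607
theorem D7061 : act 4 n5607 = n7061 := rfl
theorem F33509 : act 0 n7061 = n5921 := d3_1 D7061 (iv D5921) (iv F26941)
theorem F33510 : act 1 n7061 = n6779 := d11_1 D7061 (iv D6779) (iv F26942)
theorem F33511 : act 2 n7061 = n7061 := d18_1 D7061 (iv D7061) F26943
theorem F33512 : act 5 n7061 = n6760 := d30_2 D5607 D7061 (iv D6760) (iv D5374) (iv F21833)
theorem F33513 : act 6 n7061 = n7061 := d31_2 F26945 D7061 (iv D7061)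
theorem F33514 : act 7 n7061 = n6758 := d32_2 (iv F26946) D7061 (iv D6758)
theorem F33515 : act 8 n7061 = n7061 := d33_2 F26947 D7061 (iv D7061)
theorem F33516 : act 9 n7061 = n7061 := d34_2 F26948 D7061 (iv D7061)
def n7062 : Q := act 9 n5608
theorem D7062 : act 9 n5608 = n7062 := rfl
theorem F33517 : act 0 n7062 = n5609 := d8_1 D7062 (iv D5609) D5608
theorem F33518 : act 1 n7062 = n5922 := d16_1 D7062 (iv D5922) (iv F26949)
theorem F33519 : act 2 n7062 = n5825 := d23_1 D7062 (iv D5825) (iv F26950)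
theorem F33520 : act 3 n7062 = n5659 := d29_1 D7062 (iv D5659) (iv F26951)
theorem F33521 : act 4 n7062 = n5816 := d34_1 D7062 (iv D5816) (iv F26952)
theorem F33522 : act 5 n7062 = n5624 := d38_1 D7062 (iv D5624) (iv F26953)
theorem F33523 : act 6 n7062 = n5814 := d41_1 D7062 (iv D5814) (iv F26954)
theorem F33524 : act 7 n7062 = n7062 := d43_1 D7062 (iv D7062) F26955
def n7063 : Q := act 8 n5609
theorem D7063 : act 8 n5609 = n7063 := rfl
theorem F33525 : act 1 n7063 = n5612 := d15_1 D7063 (iv D5612) (iv F26957)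
theorem F33526 : act 2 n7063 = n6198 := d22_1 D7063 (iv D6198) (iv F26958)
theorem F33527 : act 3 n7063 = n5662 := d28_1 D7063 (iv D5662) (iv F26959)
theorem F33528 : act 4 n7063 = n6186 := d33_1 D7063 (iv D6186) (iv F26960)
theorem F33529 : act 6 n7063 = n6184 := d40_1 D7063 (iv D6184) (iv F26962)
theorem F33530 : act 7 n7063 = n7063 := d42_1 D7063 (iv D7063) F26963
theorem F33531 : act 9 n7063 = n7063 := d44_2 D5609 D7063 (iv D7063) (iv D5609) F21842
def n7064 : Q := act 9 n5610
theorem D7064 : act 9 n5610 = n7064 := rfl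
theorem F33532 : act 0 n7064 = n5928 := d8_1 D7064 (iv D5928) (iv F26964)
theorem F33533 : act 1 n7064 = n6055 := d16_1 D7064 (iv D6055) (iv F26965)
theorem F33534 : act 2 n7064 = n5613 := d23_1 D7064 (iv D5613) (iv F26966)
theorem F33535 : act 3 n7064 = n5666 := d29_1 D7064 (iv D5666) (iv F26967)
theorem F33536 : act 4 n7064 = n6046 := d34_1 D7064 (iv D6046) (iv F26968)
theorem F33537 : act 5 n7064 = n5611 := d38_1 D7064 (iv D5611) D5610
theorem F33538 : act 6 n7064 = n5629 := d41_1 D7064 (iv D5629) (iv F26969)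
theorem F33539 : act 7 n7064 = n6045 := d43_1 D7064 (iv D6045) (iv F26970)
def n7065 : Q := act 8 n5611
theorem D7065 : act 8 n5611 = n7065 := rfl
theorem F33540 : act 0 n7065 = n5930 := d7_1 D7065 (iv D5930) (iv F26972)
theorem F33541 : act 1 n7065 = n6184 := d15_1 D7065 (iv D6184) (iv F26973)
theorem F33542 : act 2 n7065 = n5614 := d22_1 D7065 (iv D5614) (iv F26974)
theorem F33543 : act 3 n7065 = n5668 := d28_1 D7065 (iv D5668) (iv F26975)
theorem F33544 : act 4 n7065 = n6175 := d33_1 D7065 (iv D6175) (iv F26976)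
theorem F33545 : act 6 n7065 = n5612 := d40_1 D7065 (iv D5612) (iv F26977)
theorem F33546 : act 7 n7065 = n6174 := d42_1 D7065 (iv D6174) (iv F26978)
theorem F33547 : act 9 n7065 = n7065 := d44_2 D5611 D7065 (iv D7065) (iv D5611) F21849
def n7066 : Q := act 5 n5612
theorem D7066 : act 5 n5612 = n7066 := rfl
theorem F33548 : act 0 n7066 = n5931 := d4_1 D7066 (iv D5931) (iv F26979)
theorem F33549 : act 2 n7066 = n5615 := d19_1 D7066 (iv D5615) (iv F26980)
theorem F33550 : act 3 n7066 = n5669 := d25_1 D7066 (iv D5669) (iv F26981)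
theorem F33551 : act 7 n7066 = n7066 := d36_2 F26982 D7066 (iv D7066)
theorem F33552 : act 8 n7066 = n5631 := d37_2 D5612 D7066 (iv D5631) (iv D4507) (iv F21854)
theorem F33553 : act 9 n7066 = n7066 := d38_2 F26983 D7066 (iv D7066)
def n7067 : Q := act 8 n5613
theorem D7067 : act 8 n5613 = n7067 := rfl
theorem F33554 : act 0 n7067 = n5934 := d7_1 D7067 (iv D5934) (iv F26984)
theorem F33555 : act 1 n7067 = n6381 := d15_1 D7067 (iv D6381) (iv F26985)
theorem F33556 : act 3 n7067 = n5617 := d28_1 D7067 (iv D5617) (iv F26986)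
theorem F33557 : act 4 n7067 = n6372 := d33_1 D7067 (iv D6372) (iv F26987)
theorem F33558 : act 6 n7067 = n5633 := d40_1 D7067 (iv D5633) (iv F26989)
theorem F33559 : act 7 n7067 = n6371 := d42_1 D7067 (iv D6371) (iv F26990)
theorem F33560 : act 9 n7067 = n6072 := d44_2 D5613 D7067 (iv D6072) (iv D4848) F21862
def n7068 : Q := act 5 n5614
theorem D7068 : act 5 n5614 = n7068 := rfl
theorem F33561 : act 0 n7068 = n5936 := d4_1 D7068 (iv D5936) (iv F26991)
theorem F33562 : act 1 n7068 = n6575 := d12_1 D7068 (iv D6575) (iv F26992)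
theorem F33563 : act 3 n7068 = n5619 := d25_1 D7068 (iv D5619) (iv F26993)
theorem F33564 : act 7 n7068 = n6561 := d36_2 (iv F26996) D7068 (iv D6561)
theorem F33565 : act 9 n7068 = n7068 := d38_2 F26997 D7068 (iv D7068)
def n7069 : Q := act 4 n5615
theorem D7069 : act 4 n5615 = n7069 := rfl
theorem F33566 : act 0 n7069 = n5937 := d3_1 D7069 (iv D5937) (iv F26998)
theorem F33567 : act 3 n7069 = n7069 := d24_1 D7069 (iv D7069) F26999 F21901 (iv F26999)
theorem F33568 : act 7 n7069 = n7069 := d32_2 F27000 D7069 (iv D7069)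
theorem F33569 : act 8 n7069 = n5635 := d33_2 (iv F27001) D7069 (iv D5635)
theorem F33570 : act 9 n7069 = n7069 := d34_2 F27002 D7069 (iv D7069)
def n7070 : Q := act 6 n5615
theorem D7070 : act 6 n5615 = n7070 := rfl
theorem F33571 : act 0 n7070 = n5938 := d5_1 D7070 (iv D5938) (iv F26998)
theorem F33572 : act 3 n7070 = n5620 := d26_1 D7070 (iv D5620) (iv F26999)
theorem F33573 : act 8 n7070 = n5636 := d40_2 (iv F27001) D7070 (iv D5636)
theorem F33574 : act 9 n7070 = n7070 := d41_2 F27002 D7070 (iv D7070)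
def n7071 : Q := act 8 n5616
theorem D7071 : act 8 n5616 = n7071 := rfl
theorem F33575 : act 0 n7071 = n5939 := d7_1 D7071 (iv D5939) (iv F27003)
theorem F33576 : act 1 n7071 = n6345 := d15_1 D7071 (iv D6345) (iv F27004)
theorem F33577 : act 2 n7071 = n5684 := d22_1 D7071 (iv D5684) (iv F27005)
theorem F33578 : act 3 n7071 = n6371 := d28_1 D7071 (iv D6371) (iv F27006)
theorem F33579 : act 4 n7071 = n7071 := d33_1 D7071 (iv D7071) F27007
theorem F33580 : act 6 n7071 = n6027 := d40_1 D7071 (iv D6027) (iv F27009)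
theorem F33581 : act 7 n7071 = n5617 := d42_1 D7071 (iv D5617) (iv F27010)
theorem F33582 : act 9 n7071 = n6026 := d44_2 D5616 D7071 (iv D6026) (iv D4809) (iv F21880)
def n7072 : Q := act 5 n5617
theorem D7072 : act 5 n5617 = n7072 := rfl
theorem F33583 : act 0 n7072 = n5940 := d4_1 D7072 (iv D5940) (iv F27011)
theorem F33584 : act 1 n7072 = n6419 := d12_1 D7072 (iv D6419) (iv F27012)
theorem F33585 : act 2 n7072 = n5686 := d19_1 D7072 (iv D5686) (iv F27013)
theorem F33586 : act 8 n7072 = n5619 := d37_2 D5617 D7072 (iv D5619) (iv D4498) (iv F21885)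
theorem F33587 : act 9 n7072 = n6084 := d38_2 (iv F27016) D7072 (iv D6084)
def n7073 : Q := act 5 n5618
theorem D7073 : act 5 n5618 = n7073 := rfl
theorem F33588 : act 0 n7073 = n5941 := d4_1 D7073 (iv D5941) (iv F27017)
theorem F33589 : act 1 n7073 = n6574 := d12_1 D7073 (iv D6574) (iv F27018)
theorem F33590 : act 2 n7073 = n5687 := d19_1 D7073 (iv D5687) (iv F27019)
theorem F33591 : act 3 n7073 = n6561 := d25_1 D7073 (iv D6561) (iv F27020)
theorem F33592 : act 7 n7073 = n5619 := d36_2 (iv F27023) D7073 (iv D5619)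
theorem F33593 : act 9 n7073 = n7073 := d38_2 F27024 D7073 (iv D7073)
def n7074 : Q := act 4 n5619
theorem D7074 : act 4 n5619 = n7074 := rfl
theorem F33594 : act 0 n7074 = n5942 := d3_1 D7074 (iv D5942) (iv F27025)
theorem F33595 : act 2 n7074 = n5688 := d18_1 D7074 (iv D5688) (iv F27026)
theorem F33596 : act 5 n7074 = n5622 := d30_2 D5619 D7074 (iv D5622) (iv D4501) (iv F21896)
theorem F33597 : act 9 n7074 = n7074 := d34_2 F27027 D7074 (iv D7074)
def n7075 : Q := act 6 n5619
theorem D7075 : act 6 n5619 = n7075 := rfl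
theorem F33598 : act 0 n7075 = n5943 := d5_1 D7075 (iv D5943) (iv F27025)
theorem F33599 : act 2 n7075 = n5689 := d20_1 D7075 (iv D5689) (iv F27026)
theorem F33600 : act 5 n7075 = n5620 := d35_1 D7075 (iv D5620) (iv D4499) (iv F21897) D5619
theorem F33601 : act 9 n7075 = n7075 := d41_2 F27027 D7075 (iv D7075)
def n7076 : Q := act 7 n5620
theorem D7076 : act 7 n5620 = n7076 := rfl
theorem F33602 : act 0 n7076 = n5944 := d6_1 D7076 (iv D5944) (iv F27028)
theorem F33603 : act 2 n7076 = n5690 := d21_1 D7076 (iv D5690) (iv F27029)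
theorem F33604 : act 4 n7076 = n7076 := d32_1 D7076 (iv D7076) F27030
theorem F33605 : act 6 n7076 = n7076 := d39_1 D7076 (iv D7076) (iv D5620) F21902 D5620
theorem F33606 : act 8 n7076 = n5640 := d42_2 (iv F27031) D7076 (iv D5640)
theorem F33607 : act 9 n7076 = n7076 := d43_2 F27032 D7076 (iv D7076)
def n7077 : Q := act 4 n5621
theorem D7077 : act 4 n5621 = n7077 := rfl
theorem F33608 : act 0 n7077 = n5945 := d3_1 D7077 (iv D5945) (iv F27033)
theorem F33609 : act 1 n7077 = n6777 := d11_1 D7077 (iv D6777) (iv F27034)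
theorem F33610 : act 2 n7077 = n5691 := d18_1 D7077 (iv D5691) (iv F27035)
theorem F33611 : act 7 n7077 = n5622 := d32_2 (iv F27037) D7077 (iv D5622)
theorem F33612 : act 8 n7077 = n7077 := d33_2 F27038 D7077 (iv D7077)
theorem F33613 : act 9 n7077 = n7077 := d34_2 F27039 D7077 (iv D7077)
def n7078 : Q := act 6 n5621
theorem D7078 : act 6 n5621 = n7078 := rfl
theorem F33614 : act 0 n7078 = n5946 := d5_1 D7078 (iv D5946) (iv F27033)
theorem F33616 : act 2 n7078 = n5692 := d20_1 D7078 (iv D5692) (iv F27035)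
theorem F33618 : act 5 n7078 = n7078 := d35_1 D7078 (iv D7078) (iv D5621) F21909 D5621
theorem F33619 : act 7 n7078 = n7078 := d39_2 (iv F27037) D7078 (iv D7078) F27037 F21914
theorem F33620 : act 8 n7078 = n7078 := d40_2 F27038 D7078 (iv D7078)
theorem F33621 : act 9 n7078 = n7078 := d41_2 F27039 D7078 (iv D7078)
def n7079 : Q := act 3 n5622
theorem D7079 : act 3 n5622 = n7079 := rfl
theorem F33622 : act 0 n7079 = n5947 := d2_1 D7079 (iv D5947) (iv F27040)
theorem F33623 : act 6 n7079 = n7079 := d26_2 F27042 D7079 (iv D7079)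
theorem F33624 : act 8 n7079 = n7079 := d28_2 F27043 D7079 (iv D7079)
theorem F33625 : act 9 n7079 = n7079 := d29_2 F27044 D7079 (iv D7079)
def n7080 : Q := act 5 n5623
theorem D7080 : act 5 n5623 = n7080 := rfl
theorem F33626 : act 0 n7080 = n5625 := d4_1 D7080 (iv D5625) (iv F27045)
theorem F33627 : act 1 n7080 = n5948 := d12_1 D7080 (iv D5948) (iv F27046)
theorem F33628 : act 2 n7080 = n5717 := d19_1 D7080 F27544 (iv F27047)
theorem F33629 : act 3 n7080 = n5694 := d25_1 D7080 (iv D5694) (iv F27048)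
theorem F33630 : act 6 n7080 = n5706 := d35_2 D5623 D7080 F27494 (iv F26954) F26953
theorem F33631 : act 7 n7080 = n6040 := d36_2 F27051 D7080 F29090
theorem F33632 : act 8 n7080 = n5926 := d37_2 (iv F27050) D7080 F28622 F23499 F21999
theorem F33633 : act 4 n5709 = n7080 := d45_2 (iv F23369) (iv F27507) (iv D7080) (iv D5623) F21920 F21921 (iv F21777) F21778 F21779 F21780 F21781 (iv D4094) D4095 (iv F23663) (iv F27442) F27443 (iv F27963) (iv F27965) F23056 F23057 F23052 F23053 F23054 F17461 D3613 (iv F22400) (iv D4593) F16708 F20222 F13093 F9608 F9609 (iv D1935) (iv F9510) F9508 F7296 F5369 D1504 F7542 D2152 F10603 F10601 (iv F14424) (iv F20393) D4492 F21860 F20182 (iv D2651) (iv F13006) (iv F17541) D4754 F23227 (iv F28623) (iv F28624) D6040 F29089 F24522 (iv F27325) F27326 (iv D5673) (iv D4538) D4539 F22116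
def n7081 : Q := act 9 n5623
theorem D7081 : act 9 n5623 = n7081 := rfl
theorem F33634 : act 0 n7081 = n5626 := d8_1 D7081 (iv D5626) (iv F27045)
theorem F33635 : act 1 n7081 = n5949 := d16_1 D7081 (iv D5949) (iv F27046)
theorem F33636 : act 2 n7081 = n6446 := d23_1 D7081 (iv D6446) (iv F27047)
theorem F33637 : act 3 n7081 = n5696 := d29_1 D7081 (iv D5696) (iv F27048)
theorem F33638 : act 4 n7081 = n7081 := d34_1 D7081 (iv D7081) F27049
theorem F33639 : act 6 n7081 = n5624 := d41_1 D7081 (iv D5624) D5623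
theorem F33640 : act 7 n7081 = n6102 := d43_1 D7081 (iv D6102) F27051
def n7082 : Q := act 8 n5624
theorem D7082 : act 8 n5624 = n7082 := rfl
theorem F33641 : act 0 n7082 = n5627 := d7_1 D7082 (iv D5627) (iv F27052)
theorem F33642 : act 1 n7082 = n5950 := d15_1 D7082 (iv D5950) (iv F27053)
theorem F33643 : act 3 n7082 = n5697 := d28_1 D7082 (iv D5697) (iv F27054)
theorem F33644 : act 4 n7082 = n7082 := d33_1 D7082 (iv D7082) F27055
theorem F33645 : act 7 n7082 = n7082 := d42_1 D7082 (iv D7082) F27056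
theorem F33646 : act 9 n7082 = n5643 := d44_2 D5624 D7082 (iv D5643) (iv D4517) (iv F21921)
def n7083 : Q := act 9 n5625
theorem D7083 : act 9 n5625 = n7083 := rfl
theorem F33647 : act 1 n7083 = n5629 := d16_1 D7083 (iv D5629) (iv F27057)
theorem F33648 : act 2 n7083 = n6068 := d23_1 D7083 (iv D6068) (iv F27058)
theorem F33649 : act 3 n7083 = n5701 := d29_1 D7083 (iv D5701) (iv F27059)
theorem F33650 : act 4 n7083 = n6058 := d34_1 D7083 (iv D6058) F27063
theorem F33651 : act 5 n7083 = n5626 := d38_1 D7083 (iv D5626) D5625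
theorem F33652 : act 6 n7083 = n6055 := d41_1 D7083 (iv D6055) (iv F27060)
theorem F33653 : act 7 n7083 = n6047 := d43_1 D7083 (iv D6047) (iv F27061)
def n7084 : Q := act 8 n5626
theorem D7084 : act 8 n5626 = n7084 := rfl
theorem F33654 : act 1 n7084 = n5630 := d15_1 D7084 (iv D5630) (iv F27064)
theorem F33655 : act 2 n7084 = n6456 := d22_1 D7084 (iv D6456) (iv F27065)
theorem F33656 : act 3 n7084 = n5703 := d28_1 D7084 (iv D5703) (iv F27066)
theorem F33657 : act 4 n7084 = n7084 := d33_1 D7084 (iv D7084) F27067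
theorem F33658 : act 6 n7084 = n5627 := d40_1 D7084 (iv D5627) (iv F27068)
theorem F33659 : act 7 n7084 = n6108 := d42_1 D7084 (iv D6108) (iv F27069)
theorem F33660 : act 9 n7084 = n5644 := d44_2 D5626 D7084 (iv D5644) (iv D4518) (iv F21926)
def n7085 : Q := act 5 n5627
theorem D7085 : act 5 n5627 = n7085 := rfl
theorem F33661 : act 1 n7085 = n5631 := d12_1 D7085 (iv D5631) (iv F27070)
theorem F33662 : act 3 n7085 = n5704 := d25_1 D7085 (iv D5704) (iv F27071)
theorem F33663 : act 7 n7085 = n7085 := d36_2 F27073 D7085 (iv D7085)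
theorem F33664 : act 9 n7085 = n5645 := d38_2 (iv F27074) D7085 (iv D5645)
def n7086 : Q := act 3 n5628
theorem D7086 : act 3 n5628 = n7086 := rfl
theorem F33665 : act 0 n7086 = n5955 := d2_1 D7086 (iv D5955) (iv F27075)
theorem F33666 : act 1 n7086 = n5665 := d10_1 D7086 F27278 (iv F27076)
theorem F33667 : act 2 n7086 = n7086 := d17_1 D7086 (iv D7086) F27077 F21951 (iv F27077)
theorem F33668 : act 4 n7086 = n5705 := d24_2 D5628 D7086 (iv D5705) (iv D4560) (iv F21934)
theorem F33669 : act 5 n7086 = n7086 := d25_2 F27078 D7086 (iv D7086)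
theorem F33670 : act 6 n7086 = n5700 := d26_2 (iv F27079) D7086 F27467
theorem F33671 : act 7 n7086 = n6053 := d27_2 (iv F27080) D7086 F29139
theorem F33672 : act 8 n7086 = n5660 := d28_2 (iv F27081) D7086 F27253
def n7087 : Q := act 9 n5628
theorem D7087 : act 9 n5628 = n7087 := rfl
theorem F33673 : act 0 n7087 = n5956 := d8_1 D7087 (iv D5956) (iv F27075)
theorem F33674 : act 1 n7087 = n6058 := d16_1 D7087 (iv D6058) (iv F27076)
theorem F33675 : act 2 n7087 = n5632 := d23_1 D7087 (iv D5632) (iv F27077)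
theorem F33676 : act 4 n7087 = n5629 := d34_1 D7087 (iv D5629) D5628
theorem F33677 : act 5 n7087 = n7087 := d38_1 D7087 (iv D7087) F27078
theorem F33678 : act 6 n7087 = n6046 := d41_1 D7087 (iv D6046) (iv F27079)
theorem F33679 : act 7 n7087 = n6056 := d43_1 D7087 (iv D6056) (iv F27080)
def n7088 : Q := act 8 n5629
theorem D7088 : act 8 n5629 = n7088 := rfl
theorem F33680 : act 0 n7088 = n5957 := d7_1 D7088 (iv D5957) (iv F27082)
theorem F33681 : act 2 n7088 = n5633 := d22_1 D7088 (iv D5633) (iv F27083)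
theorem F33682 : act 3 n7088 = n5712 := d28_1 D7088 (iv D5712) (iv F27084)
theorem F33683 : act 7 n7088 = n6060 := d42_1 D7088 (iv D6060) (iv F27086)
theorem F33684 : act 9 n7088 = n6059 := d44_2 D5629 D7088 (iv D6059) (iv D4837) (iv F21936)
def n7089 : Q := act 5 n5630
theorem D7089 : act 5 n5630 = n7089 := rfl
theorem F33685 : act 0 n7089 = n5958 := d4_1 D7089 (iv D5958) (iv F27087)
theorem F33686 : act 2 n7089 = n5634 := d19_1 D7089 (iv D5634) (iv F27088)
theorem F33687 : act 3 n7089 = n5714 := d25_1 D7089 (iv D5714) (iv F27089)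
theorem F33688 : act 7 n7089 = n6116 := d36_2 (iv F27092) D7089 (iv D6116)
theorem F33689 : act 9 n7089 = n5646 := d38_2 (iv F27093) D7089 (iv D5646)
def n7090 : Q := act 4 n5631
theorem D7090 : act 4 n5631 = n7090 := rfl
theorem F33690 : act 0 n7090 = n5959 := d3_1 D7090 (iv D5959) (iv F27094)
theorem F33691 : act 2 n7090 = n5635 := d18_1 D7090 (iv D5635) (iv F27095)
theorem F33692 : act 5 n7090 = n7090 := d30_2 D5631 D7090 (iv D7090) (iv D5631) F21946
theorem F33693 : act 7 n7090 = n7090 := d32_2 F27097 D7090 (iv D7090)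
theorem F33694 : act 9 n7090 = n5647 := d34_2 (iv F27098) D7090 (iv D5647)
def n7091 : Q := act 6 n5631
theorem D7091 : act 6 n5631 = n7091 := rfl
theorem F33695 : act 0 n7091 = n5960 := d5_1 D7091 (iv D5960) (iv F27094)
theorem F33696 : act 2 n7091 = n5636 := d20_1 D7091 (iv D5636) (iv F27095)
theorem F33697 : act 3 n7091 = n5716 := d26_1 D7091 (iv D5716) (iv F27096)
theorem F33698 : act 9 n7091 = n5648 := d41_2 (iv F27098) D7091 (iv D5648)
def n7092 : Q := act 8 n5632
theorem D7092 : act 8 n5632 = n7092 := rfl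
theorem F33699 : act 0 n7092 = n5961 := d7_1 D7092 (iv D5961) (iv F27099)
theorem F33700 : act 1 n7092 = n6383 := d15_1 D7092 (iv D6383) (iv F27100)
theorem F33701 : act 3 n7092 = n7092 := d28_1 D7092 (iv D7092) F27101
theorem F33702 : act 4 n7092 = n5633 := d33_1 D7092 (iv D5633) (iv F27102)
theorem F33703 : act 6 n7092 = n6372 := d40_1 D7092 (iv D6372) (iv F27104)
theorem F33704 : act 7 n7092 = n6070 := d42_1 D7092 (iv D6070) (iv F27105)
theorem F33705 : act 9 n7092 = n6069 := d44_2 D5632 D7092 (iv D6069) (iv D4845) (iv F21955)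
def n7093 : Q := act 5 n5633
theorem D7093 : act 5 n5633 = n7093 := rfl
theorem F33706 : act 0 n7093 = n5962 := d4_1 D7093 (iv D5962) (iv F27106)
theorem F33707 : act 1 n7093 = n6402 := d12_1 D7093 (iv D6402) (iv F27107)
theorem F33708 : act 3 n7093 = n5637 := d25_1 D7093 (iv D5637) (iv F27108)
theorem F33709 : act 7 n7093 = n6074 := d36_2 (iv F27109) D7093 (iv D6074)
theorem F33710 : act 8 n7093 = n5634 := d37_2 D5633 D7093 (iv D5634) (iv D4510) (iv F21959)
theorem F33711 : act 9 n7093 = n6073 := d38_2 (iv F27110) D7093 (iv D6073)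
def n7094 : Q := act 4 n5634
theorem D7094 : act 4 n5634 = n7094 := rfl
theorem F33712 : act 0 n7094 = n5963 := d3_1 D7094 (iv D5963) (iv F27111)
theorem F33713 : act 1 n7094 = n6489 := d11_1 D7094 (iv D6489) (iv F27112)
theorem F33714 : act 5 n7094 = n7094 := d30_2 D5634 D7094 (iv D7094) (iv D5634) F21964
theorem F33715 : act 7 n7094 = n6127 := d32_2 (iv F27114) D7094 (iv D6127)
theorem F33716 : act 9 n7094 = n5649 := d34_2 (iv F27115) D7094 (iv D5649)
def n7095 : Q := act 6 n5634
theorem D7095 : act 6 n5634 = n7095 := rfl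
theorem F33717 : act 0 n7095 = n5964 := d5_1 D7095 (iv D5964) (iv F27111)
theorem F33718 : act 1 n7095 = n6490 := d13_1 D7095 (iv D6490) (iv F27112)
theorem F33719 : act 3 n7095 = n5639 := d26_1 D7095 (iv D5639) (iv F27113)
theorem F33720 : act 5 n7095 = n5636 := d35_1 D7095 (iv D5636) (iv D4511) (iv F21965) D5634
theorem F33721 : act 9 n7095 = n5650 := d41_2 (iv F27115) D7095 (iv D5650)
def n7096 : Q := act 6 n5635
theorem D7096 : act 6 n5635 = n7096 := rfl
theorem F33722 : act 0 n7096 = n5965 := d5_1 D7096 (iv D5965) (iv F27116)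
theorem F33723 : act 3 n7096 = n7096 := d26_1 D7096 (iv D7096) F27117
theorem F33724 : act 4 n7096 = n5636 := d31_1 D7096 (iv D5636) D5635
theorem F33725 : act 9 n7096 = n5651 := d41_2 (iv F27120) D7096 (iv D5651)
def n7097 : Q := act 7 n5636
theorem D7097 : act 7 n5636 = n7097 := rfl
theorem F33726 : act 0 n7097 = n5966 := d6_1 D7097 (iv D5966) (iv F27121)
theorem F33727 : act 3 n7097 = n5640 := d27_1 D7097 (iv D5640) (iv F27122)
theorem F33728 : act 6 n7097 = n7097 := d39_1 D7097 (iv D7097) (iv D5636) F21970 D5636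
theorem F33729 : act 9 n7097 = n5652 := d43_2 (iv F27123) D7097 (iv D5652)
def n7098 : Q := act 4 n5637
theorem D7098 : act 4 n5637 = n7098 := rfl
theorem F33730 : act 0 n7098 = n5967 := d3_1 D7098 (iv D5967) (iv F27124)
theorem F33731 : act 1 n7098 = n6422 := d11_1 D7098 (iv D6422) (iv F27125)
theorem F33732 : act 2 n7098 = n5733 := d18_1 D7098 (iv D5733) (iv F27126)
theorem F33733 : act 5 n7098 = n7098 := d30_2 D5637 D7098 (iv D7098) (iv D5637) F21975
theorem F33734 : act 7 n7098 = n6087 := d32_2 (iv F27127) D7098 (iv D6087)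
theorem F33735 : act 8 n7098 = n5638 := d33_2 (iv F27128) D7098 (iv D5638)
theorem F33736 : act 9 n7098 = n6085 := d34_2 (iv F27129) D7098 (iv D6085)
def n7099 : Q := act 6 n5637
theorem D7099 : act 6 n5637 = n7099 := rfl
theorem F33737 : act 0 n7099 = n5968 := d5_1 D7099 (iv D5968) (iv F27124)
theorem F33738 : act 1 n7099 = n6423 := d13_1 D7099 (iv D6423) (iv F27125)
theorem F33739 : act 2 n7099 = n5734 := d20_1 D7099 (iv D5734) (iv F27126)
theorem F33740 : act 8 n7099 = n5639 := d40_2 (iv F27128) D7099 (iv D5639)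
theorem F33741 : act 9 n7099 = n6086 := d41_2 (iv F27129) D7099 (iv D6086)
def n7100 : Q := act 3 n5638
theorem D7100 : act 3 n5638 = n7100 := rfl
theorem F33742 : act 0 n7100 = n5969 := d2_1 D7100 (iv D5969) (iv F27130)
theorem F33743 : act 1 n7100 = n6514 := d10_1 D7100 (iv D6514) (iv F27131)
theorem F33744 : act 5 n7100 = n5641 := d25_2 (iv F27133) D7100 (iv D5641)
theorem F33745 : act 7 n7100 = n6141 := d27_2 (iv F27134) D7100 (iv D6141)
theorem F33746 : act 9 n7100 = n5653 := d29_2 (iv F27135) D7100 (iv D5653)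
def n7101 : Q := act 6 n5638
theorem D7101 : act 6 n5638 = n7101 := rfl
theorem F33747 : act 0 n7101 = n5970 := d5_1 D7101 (iv D5970) (iv F27130)
theorem F33748 : act 1 n7101 = n6515 := d13_1 D7101 (iv D6515) (iv F27131)
theorem F33749 : act 2 n7101 = n5738 := d20_1 D7101 (iv D5738) (iv F27132)
theorem F33750 : act 4 n7101 = n5639 := d31_1 D7101 (iv D5639) D5638
theorem F33751 : act 5 n7101 = n7101 := d35_1 D7101 (iv D7101) F27133 F21990 (iv F27133)
theorem F33752 : act 9 n7101 = n5654 := d41_2 (iv F27135) D7101 (iv D5654)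
def n7102 : Q := act 7 n5639
theorem D7102 : act 7 n5639 = n7102 := rfl
theorem F33753 : act 0 n7102 = n5971 := d6_1 D7102 (iv D5971) (iv F27136)
theorem F33754 : act 1 n7102 = n6516 := d14_1 D7102 (iv D6516) (iv F27137)
theorem F33755 : act 2 n7102 = n5739 := d21_1 D7102 (iv D5739) (iv F27138)
theorem F33756 : act 5 n7102 = n5640 := d36_1 D7102 (iv D5640) (iv F27139)
theorem F33757 : act 6 n7102 = n6143 := d39_1 D7102 (iv D6143) (iv D4900) (iv F21981) D5639
theorem F33758 : act 9 n7102 = n5655 := d43_2 (iv F27140) D7102 (iv D5655)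
def n7103 : Q := act 2 n5641
theorem D7103 : act 2 n5641 = n7103 := rfl
theorem F33759 : act 0 n7103 = n5972 := d1_1 D7103 (iv D5972) (iv F27146)
theorem F33760 : act 3 n7103 = n5742 := d17_2 D5641 D7103 (iv D5742) (iv D4588) (iv F21989)
theorem F33761 : act 4 n7103 = n7103 := d18_2 F27148 D7103 (iv D7103)
theorem F33762 : act 6 n7103 = n7103 := d20_2 F27149 D7103 (iv D7103)
theorem F33763 : act 7 n7103 = n6159 := d21_2 (iv F27150) D7103 (iv D6159)
theorem F33764 : act 8 n7103 = n7103 := d22_2 F27151 D7103 (iv D7103)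
theorem F33765 : act 9 n7103 = n5656 := d23_2 (iv F27152) D7103 (iv D5656)
def n7104 : Q := act 8 n5642
theorem D7104 : act 8 n5642 = n7104 := rfl
theorem F33766 : act 0 n7104 = n5644 := d7_1 D7104 (iv D5644) (iv F27153)
theorem F33767 : act 1 n7104 = n5973 := d15_1 D7104 (iv D5973) (iv F27154)
theorem F33768 : act 2 n7104 = n6447 := d22_1 D7104 (iv D6447) (iv F27155)
theorem F33769 : act 3 n7104 = n5746 := d28_1 D7104 (iv D5746) (iv F27156)
theorem F33770 : act 4 n7104 = n7104 := d33_1 D7104 (iv D7104) F27157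
theorem F33771 : act 6 n7104 = n5643 := d40_1 D7104 (iv D5643) (iv F27159)
theorem F33772 : act 7 n7104 = n6103 := d42_1 D7104 (iv D6103) (iv F27160)
def n7105 : Q := act 5 n5643
theorem D7105 : act 5 n5643 = n7105 := rfl
theorem F33773 : act 0 n7105 = n5645 := d4_1 D7105 (iv D5645) (iv F27161)
theorem F33774 : act 1 n7105 = n5974 := d12_1 D7105 (iv D5974) (iv F27162)
theorem F33775 : act 3 n7105 = n5747 := d25_1 D7105 (iv D5747) (iv F27163)
theorem F33776 : act 7 n7105 = n7105 := d36_2 F27165 D7105 (iv D7105)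
theorem F33777 : act 8 n7105 = n7105 := d37_2 D5643 D7105 (iv D7105) (iv D5643) F22005
def n7106 : Q := act 5 n5644
theorem D7106 : act 5 n5644 = n7106 := rfl
theorem F33778 : act 1 n7106 = n5646 := d12_1 D7106 (iv D5646) (iv F27166)
theorem F33779 : act 2 n7106 = n6457 := d19_1 D7106 (iv D6457) (iv F27167)
theorem F33780 : act 3 n7106 = n5751 := d25_1 D7106 (iv D5751) (iv F27168)
theorem F33781 : act 7 n7106 = n6109 := d36_2 (iv F27171) D7106 (iv D6109)
theorem F33782 : act 8 n7106 = n6110 := d37_2 D5644 D7106 (iv D6110) (iv D4877) (iv F22011)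
def n7107 : Q := act 4 n5645
theorem D7107 : act 4 n5645 = n7107 := rfl
theorem F33783 : act 1 n7107 = n5647 := d11_1 D7107 (iv D5647) (iv F27172)
theorem F33784 : act 5 n7107 = n7107 := d30_2 D5645 D7107 (iv D7107) (iv D5645) F22016
theorem F33785 : act 7 n7107 = n7107 := d32_2 F27174 D7107 (iv D7107)
theorem F33786 : act 8 n7107 = n7107 := d33_2 F27175 D7107 (iv D7107)
def n7108 : Q := act 6 n5645
theorem D7108 : act 6 n5645 = n7108 := rfl
theorem F33787 : act 1 n7108 = n5648 := d13_1 D7108 (iv D5648) (iv F27172)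
theorem F33788 : act 3 n7108 = n5753 := d26_1 D7108 (iv D5753) (iv F27173)
theorem F33789 : act 8 n7108 = n7108 := d40_2 F27175 D7108 (iv D7108)
def n7109 : Q := act 4 n5646
theorem D7109 : act 4 n5646 = n7109 := rfl
theorem F33790 : act 0 n7109 = n5978 := d3_1 D7109 (iv D5978) (iv F27176)
theorem F33791 : act 2 n7109 = n5649 := d18_1 D7109 (iv D5649) (iv F27177)
theorem F33792 : act 5 n7109 = n7109 := d30_2 D5646 D7109 (iv D7109) (iv D5646) F22021
theorem F33793 : act 7 n7109 = n6117 := d32_2 (iv F27179) D7109 (iv D6117)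
theorem F33794 : act 8 n7109 = n6119 := d33_2 (iv F27180) D7109 (iv D6119)
def n7110 : Q := act 6 n5646
theorem D7110 : act 6 n5646 = n7110 := rfl
theorem F33795 : act 0 n7110 = n5979 := d5_1 D7110 (iv D5979) (iv F27176)
theorem F33796 : act 2 n7110 = n5650 := d20_1 D7110 (iv D5650) (iv F27177)
theorem F33797 : act 3 n7110 = n5758 := d26_1 D7110 (iv D5758) (iv F27178)
theorem F33798 : act 5 n7110 = n5648 := d35_1 D7110 (iv D5648) (iv D4521) (iv F22022) D5646
theorem F33799 : act 8 n7110 = n6120 := d40_2 (iv F27180) D7110 (iv D6120)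
def n7111 : Q := act 3 n5647
theorem D7111 : act 3 n5647 = n7111 := rfl
theorem F33800 : act 0 n7111 = n5980 := d2_1 D7111 (iv D5980) (iv F27181)
theorem F33801 : act 2 n7111 = n7111 := d17_1 D7111 (iv D7111) F27182 F22035 (iv F27182)
theorem F33802 : act 4 n7111 = n5759 := d24_2 D5647 D7111 (iv D5759) (iv D4602) (iv F22026)
theorem F33803 : act 5 n7111 = n7111 := d25_2 F27183 D7111 (iv D7111)
theorem F33804 : act 7 n7111 = n7111 := d27_2 F27184 D7111 (iv D7111)
theorem F33805 : act 8 n7111 = n7111 := d28_2 F27185 D7111 (iv D7111)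
def n7112 : Q := act 6 n5647
theorem D7112 : act 6 n5647 = n7112 := rfl
theorem F33806 : act 0 n7112 = n5981 := d5_1 D7112 (iv D5981) (iv F27181)
theorem F33807 : act 2 n7112 = n5651 := d20_1 D7112 (iv D5651) (iv F27182)
theorem F33808 : act 4 n7112 = n5648 := d31_1 D7112 (iv D5648) D5647
theorem F33809 : act 8 n7112 = n7112 := d40_2 F27185 D7112 (iv D7112)
def n7113 : Q := act 7 n5648
theorem D7113 : act 7 n5648 = n7113 := rfl
theorem F33810 : act 0 n7113 = n5982 := d6_1 D7113 (iv D5982) (iv F27186)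
theorem F33811 : act 2 n7113 = n5652 := d21_1 D7113 (iv D5652) (iv F27187)
theorem F33812 : act 3 n7113 = n5761 := d27_1 D7113 (iv D5761) (iv F27188)
theorem F33813 : act 6 n7113 = n7113 := d39_1 D7113 (iv D7113) (iv D5648) F22027 D5648
theorem F33814 : act 8 n7113 = n7113 := d42_2 F27189 D7113 (iv D7113)
def n7114 : Q := act 3 n5649
theorem D7114 : act 3 n5649 = n7114 := rfl
theorem F33815 : act 0 n7114 = n5983 := d2_1 D7114 (iv D5983) (iv F27190)
theorem F33816 : act 1 n7114 = n6491 := d10_1 D7114 (iv D6491) (iv F27191)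
theorem F33817 : act 4 n7114 = n5653 := d24_2 D5649 D7114 (iv D5653) (iv D4525) (iv F22031)
theorem F33818 : act 5 n7114 = n7114 := d25_2 F27192 D7114 (iv D7114)
theorem F33819 : act 7 n7114 = n6129 := d27_2 (iv F27193) D7114 (iv D6129)
theorem F33820 : act 8 n7114 = n6132 := d28_2 (iv F27194) D7114 (iv D6132)
def n7115 : Q := act 6 n5649
theorem D7115 : act 6 n5649 = n7115 := rfl
theorem F33821 : act 0 n7115 = n5984 := d5_1 D7115 (iv D5984) (iv F27190)
theorem F33822 : act 1 n7115 = n6492 := d13_1 D7115 (iv D6492) (iv F27191)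
theorem F33823 : act 4 n7115 = n5650 := d31_1 D7115 (iv D5650) D5649
theorem F33824 : act 8 n7115 = n6133 := d40_2 (iv F27194) D7115 (iv D6133)
def n7116 : Q := act 7 n5650
theorem D7116 : act 7 n5650 = n7116 := rfl
theorem F33825 : act 0 n7116 = n5985 := d6_1 D7116 (iv D5985) (iv F27195)
theorem F33826 : act 1 n7116 = n6493 := d14_1 D7116 (iv D6493) (iv F27196)
theorem F33827 : act 3 n7116 = n5655 := d27_1 D7116 (iv D5655) (iv F27197)
theorem F33828 : act 5 n7116 = n5652 := d36_1 D7116 (iv D5652) (iv F27198)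
theorem F33829 : act 6 n7116 = n6131 := d39_1 D7116 (iv D6131) (iv D4891) (iv F22032) D5650
theorem F33830 : act 8 n7116 = n6134 := d42_2 (iv F27199) D7116 (iv D6134)
def n7117 : Q := act 5 n5651
theorem D7117 : act 5 n5651 = n7117 := rfl
theorem F33831 : act 0 n7117 = n5986 := d4_1 D7117 (iv D5986) (iv F27200)
theorem F33832 : act 3 n7117 = n7117 := d25_1 D7117 (iv D7117) F27201
theorem F33833 : act 6 n7117 = n7117 := d35_2 D5651 D7117 (iv D7117) (iv D5651) F22036
def n7118 : Q := act 7 n5651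
theorem D7118 : act 7 n5651 = n7118 := rfl
theorem F33834 : act 0 n7118 = n5987 := d6_1 D7118 (iv D5987) (iv F27200)
theorem F33835 : act 3 n7118 = n7118 := d27_1 D7118 (iv D7118) F27201
theorem F33836 : act 4 n7118 = n5652 := d32_1 D7118 (iv D5652) (iv F27202)
theorem F33837 : act 6 n7118 = n7118 := d39_1 D7118 (iv D7118) (iv D5651) F22037 D5651
theorem F33838 : act 8 n7118 = n7118 := d42_2 F27203 D7118 (iv D7118)
def n7119 : Q := act 2 n5653
theorem D7119 : act 2 n5653 = n7119 := rfl
theorem F33839 : act 0 n7119 = n5988 := d1_1 D7119 (iv D5988) (iv F27208)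
theorem F33840 : act 3 n7119 = n5780 := d17_2 D5653 D7119 (iv D5780) (iv D4616) (iv F22044)
theorem F33841 : act 5 n7119 = n5656 := d19_2 (iv F27210) D7119 (iv D5656)
theorem F33842 : act 7 n7119 = n6144 := d21_2 (iv F27211) D7119 (iv D6144)
theorem F33843 : act 8 n7119 = n6148 := d22_2 (iv F27212) D7119 (iv D6148)
def n7120 : Q := act 6 n5653
theorem D7120 : act 6 n5653 = n7120 := rfl
theorem F33844 : act 0 n7120 = n5989 := d5_1 D7120 (iv D5989) (iv F27208)
theorem F33846 : act 3 n7120 = n5654 := d26_1 D7120 (iv D5654) D5653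
theorem F33847 : act 5 n7120 = n7120 := d35_1 D7120 (iv D7120) F27210 F22061 (iv F27210)
theorem F33848 : act 8 n7120 = n6149 := d40_2 (iv F27212) D7120 (iv D6149)
def n7121 : Q := act 7 n5654
theorem D7121 : act 7 n5654 = n7121 := rfl
theorem F33849 : act 0 n7121 = n5990 := d6_1 D7121 (iv D5990) (iv F27213)
theorem F33850 : act 1 n7121 = n6519 := d14_1 D7121 (iv D6519) (iv F27214)
theorem F33851 : act 2 n7121 = n5782 := d21_1 D7121 (iv D5782) (iv F27215)
theorem F33852 : act 4 n7121 = n5655 := d32_1 D7121 (iv D5655) (iv F27216)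
theorem F33853 : act 5 n7121 = n7121 := d36_1 D7121 (iv D7121) F27217
theorem F33854 : act 6 n7121 = n6147 := d39_1 D7121 (iv D6147) (iv D4902) (iv F22046) D5654
theorem F33855 : act 8 n7121 = n6151 := d42_2 (iv F27218) D7121 (iv D6151)
def n7122 : Q := act 1 n5656
theorem D7122 : act 1 n5656 = n7122 := rfl
theorem F33856 : act 2 n7122 = n6542 := d9_2 D5656 D7122 (iv D6542) (iv D5210) (iv F22059)
theorem F33857 : act 3 n7122 = n5786 := d10_2 (iv F27226) D7122 (iv D5786)
def n7123 : Q := act 0 n5657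
theorem D7123 : act 0 n5657 = n7123 := rfl
theorem F33864 : act 3 n7123 = n5796 := d2_2 (iv F27232) D7123 (iv D5796)
theorem F33866 : act 5 n7123 = n6167 := d4_2 (iv F27234) D7123 (iv D6167)
theorem F33868 : act 7 n7123 = n6165 := d6_2 (iv F27236) D7123 (iv D6165)
def n7124 : Q := act 5 n5658
theorem D7124 : act 5 n5658 = n7124 := rfl
theorem F33870 : act 0 n7124 = n5660 := d4_1 D7124 (iv D5660) (iv F27238)
theorem F33871 : act 1 n7124 = n5993 := d12_1 D7124 (iv D5993) (iv F27239)
theorem F33872 : act 2 n7124 = n7124 := d19_1 D7124 (iv D7124) F27240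
theorem F33873 : act 3 n7124 = n5706 := d25_1 D7124 F27494 (iv F27241)
theorem F33874 : act 6 n7124 = n5694 := d35_2 D5658 D7124 (iv D5694) (iv D4554) (iv F22074)
theorem F33875 : act 7 n7124 = n5705 := d36_2 (iv F27244) D7124 F27490
theorem F33876 : act 4 n6053 = n7124 := d45_2 (iv F23540) (iv F29139) (iv D7124) (iv D5658) F22075 F22076 F22072 (iv F26951) F26952 F22661 (iv D4644) (iv D3524) F12163 F12160 F8662 F6158 (iv D1204) (iv D838) F3091 F3092 F2198 D585 (iv F4257) F4258 D1175 D1687 (iv F11842) (iv F16606) F20211 F13107 (iv F18277) (iv F23371) F28909 F28910 F23367 F18184 F12961 F12962 F9226 (iv D1840) F6545 (iv F8883) (iv F12461) (iv F17423) (iv F20388) F14409 (iv D2970) F10257 (iv F9597) F9598 (iv F13081) D3816 F18386 F22000 (iv F27050) F27047 F24787 F24788 (iv F27544) (iv D5717) (iv D4567) D4568 F22262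
theorem F33877 : act 8 n7124 = n5955 := d33_2 D6053 F33876 F28757
def n7125 : Q := act 9 n5658
theorem D7125 : act 9 n5658 = n7125 := rfl
theorem F33878 : act 0 n7125 = n5661 := d8_1 D7125 (iv D5661) (iv F27238)
theorem F33879 : act 1 n7125 = n5994 := d16_1 D7125 (iv D5994) (iv F27239)
theorem F33880 : act 2 n7125 = n7125 := d23_1 D7125 (iv D7125) F27240
theorem F33881 : act 3 n7125 = n5814 := d29_1 D7125 (iv D5814) (iv F27241)
theorem F33882 : act 4 n7125 = n7125 := d34_1 D7125 (iv D7125) F27242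
theorem F33883 : act 6 n7125 = n5659 := d41_1 D7125 (iv D5659) D5658
theorem F33884 : act 7 n7125 = n5813 := d43_1 D7125 (iv D5813) (iv F27244)
def n7126 : Q := act 8 n5659
theorem D7126 : act 8 n5659 = n7126 := rfl
theorem F33885 : act 0 n7126 = n5662 := d7_1 D7126 (iv D5662) (iv F27245)
theorem F33886 : act 1 n7126 = n5995 := d15_1 D7126 (iv D5995) (iv F27246)
theorem F33887 : act 2 n7126 = n7126 := d22_1 D7126 (iv D7126) F27247
theorem F33888 : act 4 n7126 = n7126 := d33_1 D7126 (iv D7126) F27248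
theorem F33889 : act 7 n7126 = n7126 := d42_1 D7126 (iv D7126) F27250
theorem F33890 : act 9 n7126 = n7126 := d44_2 D5659 D7126 (iv D7126) (iv D5659) F22076
def n7127 : Q := act 4 n5660
theorem D7127 : act 4 n5660 = n7127 := rfl
theorem F33891 : act 0 n7127 = n6053 := d3_1 D7127 F33876 F33870
theorem F33892 : act 1 n7127 = n5663 := d11_1 D7127 (iv D5663) (iv F27251)
theorem F33893 : act 2 n7127 = n7127 := d18_1 D7127 (iv D7127) F27252
theorem F33894 : act 3 n7127 = n5707 := d24_1 D7127 F27498 F22235 (iv F23538) (iv F27253)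
theorem F33895 : act 5 n7127 = n7127 := d30_2 D5660 D7127 (iv D7127) (iv D5660) F22080
theorem F33896 : act 6 n7127 = n5698 := d31_2 (iv F27254) D7127 (iv D5698)
theorem F33897 : act 7 n7127 = n5955 := d32_2 (iv F27255) D7127 F28757
theorem F33898 : act 8 n7127 = n5705 := d33_2 F33672 D7127 (iv F33668)
def n7128 : Q := act 9 n5660
theorem D7128 : act 9 n5660 = n7128 := rfl
theorem F33899 : act 1 n7128 = n5666 := d16_1 D7128 (iv D5666) (iv F27251)
theorem F33900 : act 2 n7128 = n7128 := d23_1 D7128 (iv D7128) F27252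
theorem F33901 : act 3 n7128 = n6055 := d29_1 D7128 (iv D6055) (iv F27253)
theorem F33902 : act 5 n7128 = n5661 := d38_1 D7128 (iv D5661) D5660
theorem F33903 : act 6 n7128 = n5701 := d41_1 D7128 (iv D5701) (iv F27254)
theorem F33904 : act 7 n7128 = n6054 := d43_1 D7128 (iv D6054) (iv F27255)
def n7129 : Q := act 8 n5661
theorem D7129 : act 8 n5661 = n7129 := rfl
theorem F33905 : act 1 n7129 = n5668 := d15_1 D7129 (iv D5668) (iv F27256)
theorem F33906 : act 2 n7129 = n7129 := d22_1 D7129 (iv D7129) F27257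
theorem F33907 : act 3 n7129 = n6184 := d28_1 D7129 (iv D6184) (iv F27258)
theorem F33908 : act 4 n7129 = n7129 := d33_1 D7129 (iv D7129) F27259
theorem F33909 : act 6 n7129 = n5662 := d40_1 D7129 (iv D5662) (iv F27260)
theorem F33910 : act 7 n7129 = n6183 := d42_1 D7129 (iv D6183) (iv F27261)
theorem F33911 : act 9 n7129 = n7129 := d44_2 D5661 D7129 (iv D7129) (iv D5661) F22081
def n7130 : Q := act 5 n5662
theorem D7130 : act 5 n5662 = n7130 := rfl
theorem F33912 : act 1 n7130 = n5669 := d12_1 D7130 (iv D5669) (iv F27262)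
theorem F33913 : act 2 n7130 = n7130 := d19_1 D7130 (iv D7130) F27263
theorem F33914 : act 7 n7130 = n7130 := d36_2 F27265 D7130 (iv D7130)
theorem F33915 : act 8 n7130 = n5704 := d37_2 D5662 D7130 (iv D5704) (iv D4559) (iv F22086)
theorem F33916 : act 9 n7130 = n7130 := d38_2 F27266 D7130 (iv D7130)
def n7131 : Q := act 3 n5663
theorem D7131 : act 3 n5663 = n7131 := rfl
theorem F33917 : act 0 n7131 = n6003 := d2_1 D7131 (iv D6003) (iv F27267)
theorem F33918 : act 1 n7131 = n5707 := d10_1 D7131 (iv F33894) F33892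
theorem F33919 : act 2 n7131 = n7131 := d17_1 D7131 (iv D7131) F27268 F22109 (iv F27268)
theorem F33920 : act 4 n7131 = n5700 := d24_2 D5663 D7131 F27467 (iv F26968) F26967
theorem F33921 : act 5 n7131 = n7131 := d25_2 F27269 D7131 (iv D7131)
theorem F33922 : act 6 n7131 = n5705 := d26_2 (iv F27270) D7131 (iv D5705)
theorem F33923 : act 8 n5698 = n7131 := d40_0 F33922 (iv F33898) F33896
theorem F33924 : act 7 n5951 = n7131 := d32_0 F33920 F27469 D5951
def n7132 : Q := act 7 n5663
theorem D7132 : act 7 n5663 = n7132 := rfl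
theorem F33925 : act 0 n7132 = n5998 := d6_1 D7132 F28922 (iv F27267)
theorem F33926 : act 1 n7132 = n5955 := d14_1 D7132 (iv F33897) F33892
theorem F33927 : act 2 n7132 = n5670 := d21_1 D7132 (iv D5670) (iv F27268)
theorem F33928 : act 3 n7132 = n5951 := d27_1 D7132 F33924 (iv D7131)
theorem F33929 : act 4 n7132 = n5664 := d32_1 D7132 (iv D5664) D5663
theorem F33930 : act 5 n7132 = n7132 := d36_1 D7132 (iv D7132) F27269
theorem F33931 : act 6 n7132 = n6040 := d39_1 D7132 (iv F33631) F33630 (iv D5706) (iv F27270)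
theorem F33932 : act 8 n7132 = n5993 := d45_6 (iv F12160) F12161 D3523 (iv F22227) (iv F27270) D7132 F28894 F24322 (iv F27332) F27333 F27334 (iv D4737) (iv F22277) (iv F27506) F27507 (iv F28913) F28914 F23353 (iv D4787) F18160 F18158 F13678 F13679 D4010 F19179 D4048 (iv F23572) (iv F27058) F27059 D5698 F27459 F22617 D5804 F28003 F28000 F28001 F23340 D5993 F28895 F28624 (iv F33632) F33628 F27542 F27543 F22276 (iv D4570) (iv D3429) D3430 (iv F22234) F22235 (iv F23538) F23539 F21843 F21841 F21842 F21837 F18845 F18846 F13419 (iv D2752) (iv D1920) F6764 (iv F8660)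
def n7133 : Q := act 8 n5663
theorem D7133 : act 8 n5663 = n7133 := rfl
theorem F33933 : act 0 n7133 = n5997 := d7_1 D7133 (iv F28916) (iv F27267)
theorem F33934 : act 1 n7133 = n5705 := d15_1 D7133 (iv F33898) F33892
theorem F33935 : act 2 n7133 = n5671 := d22_1 D7133 (iv D5671) (iv F27268)
theorem F33936 : act 3 n7133 = n5698 := d28_1 D7133 F33923 (iv D7131)
theorem F33937 : act 4 n7133 = n5665 := d33_1 D7133 (iv D5665) D5663
theorem F33938 : act 6 n7133 = n5707 := d40_1 D7133 (iv D5707) (iv F27270)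
theorem F33939 : act 7 n7133 = n5993 := d42_1 D7133 (iv F33932) (iv D7132)
theorem F33940 : act 5 n5803 = n7133 := d36_3 F33939 (iv D5993) F27996
def n7134 : Q := act 9 n5663
theorem D7134 : act 9 n5663 = n7134 := rfl
theorem F33941 : act 0 n7134 = n6004 := d8_1 D7134 (iv D6004) (iv F27267)
theorem F33942 : act 2 n7134 = n5672 := d23_1 D7134 (iv D5672) (iv F27268)
theorem F33943 : act 4 n7134 = n5666 := d34_1 D7134 (iv D5666) D5663
theorem F33944 : act 5 n7134 = n7134 := d38_1 D7134 (iv D7134) F27269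
theorem F33945 : act 6 n7134 = n5708 := d41_1 D7134 (iv D5708) (iv F27270)
def n7135 : Q := act 6 n5664
theorem D7135 : act 6 n5664 = n7135 := rfl
theorem F33946 : act 0 n7135 = n6005 := d5_1 D7135 (iv D6005) (iv F27271)
theorem F33947 : act 1 n7135 = n6003 := d13_1 D7135 F28944 (iv F27272)
theorem F33948 : act 2 n7135 = n5673 := d20_1 D7135 (iv D5673) (iv F27273)
theorem F33949 : act 3 n7135 = n5996 := d26_1 D7135 F28908 (iv F27274)
theorem F33950 : act 4 n7135 = n6040 := d31_1 D7135 (iv F33931) F33929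
theorem F33951 : act 5 n7135 = n7135 := d35_1 D7135 (iv D7135) F27275 F22096 (iv F27275)
theorem F33952 : act 7 n7135 = n5709 := d39_2 D5664 D7135 (iv D5709) (iv D4561) (iv F22090)
theorem F33953 : act 8 n5927 = n7135 := d42_0 F33952 F27509 D5927
def n7136 : Q := act 8 n5664
theorem D7136 : act 8 n5664 = n7136 := rfl
theorem F33954 : act 0 n7136 = n5996 := d7_1 D7136 F28910 (iv F27271)
theorem F33955 : act 1 n7136 = n6053 := d15_1 D7136 (iv D6053) (iv F27272)
theorem F33956 : act 2 n7136 = n5674 := d22_1 D7136 (iv D5674) (iv F27273)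
theorem F33957 : act 3 n7136 = n6005 := d28_1 D7136 F28954 (iv F27274)
theorem F33958 : act 4 n7136 = n5993 := d33_1 D7136 (iv F33932) F33929
theorem F33959 : act 5 n7136 = n7136 := d37_1 D7136 (iv D7136) F27275 F22097 (iv F27275)
theorem F33960 : act 6 n7136 = n5927 := d40_1 D7136 F33953 (iv D7135)
theorem F33961 : act 7 n7136 = n5665 := d42_1 D7136 (iv D5665) D5664
def n7137 : Q := act 9 n5664
theorem D7137 : act 9 n5664 = n7137 := rfl
theorem F33962 : act 0 n7137 = n6006 := d8_1 D7137 (iv D6006) (iv F27271)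
theorem F33963 : act 1 n7137 = n6054 := d16_1 D7137 (iv D6054) (iv F27272)
theorem F33964 : act 2 n7137 = n5675 := d23_1 D7137 (iv D5675) (iv F27273)
theorem F33965 : act 3 n7137 = n6045 := d29_1 D7137 (iv D6045) (iv F27274)
theorem F33966 : act 5 n7137 = n5667 := d38_1 D7137 (iv D5667) (iv F27275)
theorem F33967 : act 7 n7137 = n5666 := d43_1 D7137 (iv D5666) D5664
def n7138 : Q := act 9 n5665
theorem D7138 : act 9 n5665 = n7138 := rfl
theorem F33968 : act 0 n7138 = n6007 := d8_1 D7138 (iv D6007) (iv F27276)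
theorem F33969 : act 2 n7138 = n5676 := d23_1 D7138 (iv D5676) (iv F27277)
theorem F33970 : act 3 n7138 = n6058 := d29_1 D7138 (iv D6058) (iv F27278)
theorem F33971 : act 5 n7138 = n7138 := d38_1 D7138 (iv D7138) F27279
theorem F33972 : act 6 n7138 = n5711 := d41_1 D7138 (iv D5711) (iv F27280)
def n7139 : Q := act 8 n5666
theorem D7139 : act 8 n5666 = n7139 := rfl
theorem F33973 : act 0 n7139 = n6008 := d7_1 D7139 (iv D6008) (iv F27281)
theorem F33974 : act 2 n7139 = n5677 := d22_1 D7139 (iv D5677) (iv F27282)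
theorem F33975 : act 6 n7139 = n5712 := d40_1 D7139 (iv D5712) (iv F27284)
def n7140 : Q := act 8 n5667
theorem D7140 : act 8 n5667 = n7140 := rfl
theorem F33976 : act 0 n7140 = n6009 := d7_1 D7140 (iv D6009) (iv F27285)
theorem F33977 : act 1 n7140 = n6183 := d15_1 D7140 (iv D6183) (iv F27286)
theorem F33978 : act 2 n7140 = n5678 := d22_1 D7140 (iv D5678) (iv F27287)
theorem F33979 : act 3 n7140 = n6174 := d28_1 D7140 (iv D6174) (iv F27288)
theorem F33980 : act 4 n7140 = n7140 := d33_1 D7140 (iv D7140) F27289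
theorem F33981 : act 6 n7140 = n7140 := d40_1 D7140 (iv D7140) F27290
theorem F33982 : act 7 n7140 = n5668 := d42_1 D7140 (iv D5668) (iv F27291)
theorem F33983 : act 9 n7140 = n7140 := d44_2 D5667 D7140 (iv D7140) (iv D5667) F22097
def n7141 : Q := act 5 n5668
theorem D7141 : act 5 n5668 = n7141 := rfl
theorem F33984 : act 0 n7141 = n6010 := d4_1 D7141 (iv D6010) (iv F27292)
theorem F33985 : act 2 n7141 = n5679 := d19_1 D7141 (iv D5679) (iv F27293)
theorem F33986 : act 9 n7141 = n7141 := d38_2 F27296 D7141 (iv D7141)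
def n7142 : Q := act 4 n5669
theorem D7142 : act 4 n5669 = n7142 := rfl
theorem F33987 : act 0 n7142 = n6011 := d3_1 D7142 (iv D6011) (iv F27297)
theorem F33988 : act 2 n7142 = n5680 := d18_1 D7142 (iv D5680) (iv F27298)
theorem F33989 : act 5 n7142 = n7142 := d30_2 D5669 D7142 (iv D7142) (iv D5669) F22104
theorem F33990 : act 7 n7142 = n7142 := d32_2 F27299 D7142 (iv D7142)
theorem F33991 : act 8 n7142 = n5715 := d33_2 (iv F27300) D7142 (iv D5715)
theorem F33992 : act 9 n7142 = n7142 := d34_2 F27301 D7142 (iv D7142)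
def n7143 : Q := act 6 n5669
theorem D7143 : act 6 n5669 = n7143 := rfl
theorem F33993 : act 0 n7143 = n6012 := d5_1 D7143 (iv D6012) (iv F27297)
theorem F33994 : act 2 n7143 = n5681 := d20_1 D7143 (iv D5681) (iv F27298)
theorem F33995 : act 8 n7143 = n5716 := d40_2 (iv F27300) D7143 (iv D5716)
theorem F33996 : act 9 n7143 = n7143 := d41_2 F27301 D7143 (iv D7143)
def n7144 : Q := act 9 n5670
theorem D7144 : act 9 n5670 = n7144 := rfl
theorem F33997 : act 0 n7144 = n6013 := d8_1 D7144 (iv D6013) (iv F27302)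
theorem F33998 : act 1 n7144 = n7144 := d16_1 D7144 (iv D7144) F27303
theorem F33999 : act 3 n7144 = n7144 := d29_1 D7144 (iv D7144) F27304
theorem F34000 : act 4 n7144 = n5675 := d34_1 D7144 (iv D5675) (iv F27305)
theorem F34001 : act 5 n7144 = n7144 := d38_1 D7144 (iv D7144) F27306
theorem F34002 : act 6 n7144 = n6365 := d41_1 D7144 (iv D6365) F27307
theorem F34003 : act 7 n7144 = n5672 := d43_1 D7144 (iv D5672) D5670
def n7145 : Q := act 9 n5671
theorem D7145 : act 9 n5671 = n7145 := rfl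
theorem F34004 : act 0 n7145 = n6014 := d8_1 D7145 (iv D6014) (iv F27309)
theorem F34005 : act 1 n7145 = n7145 := d16_1 D7145 (iv D7145) F27310
theorem F34006 : act 3 n7145 = n7145 := d29_1 D7145 (iv D7145) F27311
theorem F34007 : act 4 n7145 = n5676 := d34_1 D7145 (iv D5676) (iv F27312)
theorem F34008 : act 5 n7145 = n6314 := d38_1 D7145 (iv D6314) F27315
theorem F34009 : act 6 n7145 = n5719 := d41_1 D7145 (iv D5719) (iv F27313)
theorem F34010 : act 7 n7145 = n6313 := d43_1 D7145 (iv D6313) (iv F27314)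
def n7146 : Q := act 8 n5672
theorem D7146 : act 8 n5672 = n7146 := rfl
theorem F34011 : act 0 n7146 = n6015 := d7_1 D7146 (iv D6015) (iv F27316)
theorem F34012 : act 1 n7146 = n7146 := d15_1 D7146 (iv D7146) F27317
theorem F34013 : act 3 n7146 = n7146 := d28_1 D7146 (iv D7146) F27318
theorem F34014 : act 4 n7146 = n5677 := d33_1 D7146 (iv D5677) (iv F27319)
theorem F34015 : act 6 n7146 = n5720 := d40_1 D7146 (iv D5720) (iv F27321)
def n7147 : Q := act 9 n5673
theorem D7147 : act 9 n5673 = n7147 := rfl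
theorem F34016 : act 0 n7147 = n6016 := d8_1 D7147 (iv D6016) (iv F27322)
theorem F34017 : act 1 n7147 = n7147 := d16_1 D7147 (iv D7147) F27323
theorem F34018 : act 3 n7147 = n5682 := d29_1 D7147 (iv D5682) (iv F27324)
theorem F34019 : act 4 n7147 = n6365 := d34_1 D7147 (iv D6365) (iv F27325)
theorem F34020 : act 5 n7147 = n7147 := d38_1 D7147 (iv D7147) F27326
theorem F34021 : act 6 n7147 = n5675 := d41_1 D7147 (iv D5675) D5673
theorem F34022 : act 7 n7147 = n5721 := d43_1 D7147 (iv D5721) (iv F27327)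
def n7148 : Q := act 9 n5674
theorem D7148 : act 9 n5674 = n7148 := rfl
theorem F34023 : act 0 n7148 = n6017 := d8_1 D7148 (iv D6017) (iv F27329)
theorem F34024 : act 1 n7148 = n7148 := d16_1 D7148 (iv D7148) F27330
theorem F34025 : act 3 n7148 = n5683 := d29_1 D7148 (iv D5683) (iv F27331)
theorem F34026 : act 4 n7148 = n6313 := d34_1 D7148 (iv D6313) (iv F27332)
theorem F34027 : act 5 n7148 = n7148 := d38_1 D7148 (iv D7148) F27333
theorem F34028 : act 6 n7148 = n5933 := d41_1 D7148 (iv D5933) (iv F27334)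
theorem F34029 : act 7 n7148 = n5676 := d43_1 D7148 (iv D5676) (iv F27335)
def n7149 : Q := act 8 n5675
theorem D7149 : act 8 n5675 = n7149 := rfl
theorem F34030 : act 0 n7149 = n6018 := d7_1 D7149 (iv D6018) (iv F27336)
theorem F34031 : act 1 n7149 = n7149 := d15_1 D7149 (iv D7149) F27337
theorem F34032 : act 3 n7149 = n5684 := d28_1 D7149 (iv D5684) (iv F27338)
theorem F34033 : act 7 n7149 = n5677 := d42_1 D7149 (iv D5677) (iv F27340)
def n7150 : Q := act 8 n5676
theorem D7150 : act 8 n5676 = n7150 := rfl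
theorem F34034 : act 0 n7150 = n6019 := d7_1 D7150 (iv D6019) (iv F27341)
theorem F34035 : act 1 n7150 = n7150 := d15_1 D7150 (iv D7150) F27342
theorem F34036 : act 3 n7150 = n5685 := d28_1 D7150 (iv D5685) (iv F27343)
theorem F34037 : act 6 n7150 = n5723 := d40_1 D7150 (iv D5723) (iv F27345)
theorem F34038 : act 9 n7150 = n5677 := d44_2 D5676 D7150 (iv D5677) (iv D4540) D4539
def n7151 : Q := act 5 n5677
theorem D7151 : act 5 n5677 = n7151 := rfl
theorem F34039 : act 0 n7151 = n6020 := d4_1 D7151 (iv D6020) (iv F27346)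
theorem F34040 : act 1 n7151 = n7151 := d12_1 D7151 (iv D7151) F27347
theorem F34041 : act 3 n7151 = n5686 := d25_1 D7151 (iv D5686) (iv F27348)
theorem F34042 : act 8 n7151 = n5679 := d37_2 D5677 D7151 (iv D5679) (iv D4542) (iv F22124)
def n7152 : Q := act 5 n5678
theorem D7152 : act 5 n5678 = n7152 := rfl
theorem F34043 : act 0 n7152 = n6021 := d4_1 D7152 (iv D6021) (iv F27350)
theorem F34044 : act 1 n7152 = n7152 := d12_1 D7152 (iv D7152) F27351
theorem F34045 : act 3 n7152 = n5687 := d25_1 D7152 (iv D5687) (iv F27352)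
theorem F34046 : act 7 n7152 = n5679 := d36_2 (iv F27355) D7152 (iv D5679)
theorem F34047 : act 9 n7152 = n7152 := d38_2 F27356 D7152 (iv D7152)
def n7153 : Q := act 4 n5679
theorem D7153 : act 4 n5679 = n7153 := rfl
theorem F34048 : act 0 n7153 = n6022 := d3_1 D7153 (iv D6022) (iv F27357)
theorem F34049 : act 1 n7153 = n7153 := d11_1 D7153 (iv D7153) F27358
theorem F34050 : act 5 n7153 = n7153 := d30_2 D5679 D7153 (iv D7153) (iv D5679) F22135
theorem F34051 : act 9 n7153 = n7153 := d34_2 F27360 D7153 (iv D7153)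
def n7154 : Q := act 6 n5679
theorem D7154 : act 6 n5679 = n7154 := rfl
theorem F34052 : act 0 n7154 = n6023 := d5_1 D7154 (iv D6023) (iv F27357)
theorem F34053 : act 1 n7154 = n7154 := d13_1 D7154 (iv D7154) F27358
theorem F34054 : act 3 n7154 = n5689 := d26_1 D7154 (iv D5689) (iv F27359)
theorem F34055 : act 5 n7154 = n5681 := d35_1 D7154 (iv D5681) (iv D4543) (iv F22136) D5679
theorem F34056 : act 9 n7154 = n7154 := d41_2 F27360 D7154 (iv D7154)
def n7155 : Q := act 6 n5680
theorem D7155 : act 6 n5680 = n7155 := rfl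
theorem F34057 : act 0 n7155 = n6024 := d5_1 D7155 (iv D6024) (iv F27361)
theorem F34058 : act 1 n7155 = n7155 := d13_1 D7155 (iv D7155) F27362
theorem F34059 : act 3 n7155 = n7155 := d26_1 D7155 (iv D7155) F27363
theorem F34060 : act 4 n7155 = n5681 := d31_1 D7155 (iv D5681) D5680
theorem F34061 : act 8 n7155 = n5728 := d40_2 (iv F27366) D7155 (iv D5728)
theorem F34062 : act 9 n7155 = n7155 := d41_2 F27367 D7155 (iv D7155)
def n7156 : Q := act 7 n5681
theorem D7156 : act 7 n5681 = n7156 := rfl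
theorem F34063 : act 0 n7156 = n6025 := d6_1 D7156 (iv D6025) (iv F27368)
theorem F34064 : act 1 n7156 = n7156 := d14_1 D7156 (iv D7156) F27369
theorem F34065 : act 3 n7156 = n5690 := d27_1 D7156 (iv D5690) (iv F27370)
theorem F34066 : act 6 n7156 = n7156 := d39_1 D7156 (iv D7156) (iv D5681) F22141 D5681
theorem F34067 : act 8 n7156 = n5729 := d42_2 (iv F27371) D7156 (iv D5729)
theorem F34068 : act 9 n7156 = n7156 := d43_2 F27372 D7156 (iv D7156)
def n7157 : Q := act 8 n5682
theorem D7157 : act 8 n5682 = n7157 := rfl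
theorem F34069 : act 0 n7157 = n6026 := d7_1 D7157 (iv D6026) (iv F27373)
theorem F34070 : act 1 n7157 = n7157 := d15_1 D7157 (iv D7157) F27374
theorem F34071 : act 2 n7157 = n6027 := d22_1 D7157 (iv D6027) (iv F27375)
theorem F34072 : act 4 n7157 = n7157 := d33_1 D7157 (iv D7157) F27376
theorem F34073 : act 6 n7157 = n5684 := d40_1 D7157 (iv D5684) (iv F27378)
theorem F34074 : act 7 n7157 = n5730 := d42_1 D7157 (iv D5730) (iv F27379)
theorem F34075 : act 9 n7157 = n5939 := d44_2 D5682 D7157 (iv D5939) (iv D4742) F22150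
def n7158 : Q := act 8 n5683
theorem D7158 : act 8 n5683 = n7158 := rfl
theorem F34076 : act 0 n7158 = n6027 := d7_1 D7158 (iv D6027) (iv F27380)
theorem F34077 : act 1 n7158 = n7158 := d15_1 D7158 (iv D7158) F27381
theorem F34078 : act 2 n7158 = n6026 := d22_1 D7158 (iv D6026) (iv F27382)
theorem F34079 : act 4 n7158 = n7158 := d33_1 D7158 (iv D7158) F27383
theorem F34080 : act 6 n7158 = n5939 := d40_1 D7158 (iv D5939) (iv F27385)
theorem F34081 : act 7 n7158 = n5685 := d42_1 D7158 (iv D5685) (iv F27386)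
theorem F34082 : act 9 n7158 = n5684 := d44_2 D5683 D7158 (iv D5684) (iv D4546) D4545
def n7159 : Q := act 5 n5684
theorem D7159 : act 5 n5684 = n7159 := rfl
theorem F34083 : act 0 n7159 = n6028 := d4_1 D7159 (iv D6028) (iv F27387)
theorem F34084 : act 1 n7159 = n7159 := d12_1 D7159 (iv D7159) F27388
theorem F34085 : act 7 n7159 = n5686 := d36_2 (iv F27390) D7159 (iv D5686)
theorem F34086 : act 8 n7159 = n5687 := d37_2 D5684 D7159 (iv D5687) (iv D4549) (iv F22161)
def n7160 : Q := act 5 n5685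
theorem D7160 : act 5 n5685 = n7160 := rfl
theorem F34087 : act 0 n7160 = n6029 := d4_1 D7160 (iv D6029) (iv F27391)
theorem F34088 : act 1 n7160 = n7160 := d12_1 D7160 (iv D7160) F27392
theorem F34089 : act 2 n7160 = n6084 := d19_1 D7160 (iv D6084) (iv F27393)
theorem F34090 : act 8 n7160 = n7160 := d37_2 D5685 D7160 (iv D7160) (iv D5685) F22167
theorem F34091 : act 9 n7160 = n5686 := d38_2 (iv F27396) D7160 (iv D5686)
def n7161 : Q := act 4 n5686
theorem D7161 : act 4 n5686 = n7161 := rfl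
theorem F34092 : act 0 n7161 = n6030 := d3_1 D7161 (iv D6030) (iv F27397)
theorem F34093 : act 1 n7161 = n7161 := d11_1 D7161 (iv D7161) F27398
theorem F34094 : act 5 n7161 = n7161 := d30_2 D5686 D7161 (iv D7161) (iv D5686) F22171
theorem F34095 : act 8 n7161 = n5688 := d33_2 (iv F27399) D7161 (iv D5688)
def n7162 : Q := act 6 n5686
theorem D7162 : act 6 n5686 = n7162 := rfl
theorem F34096 : act 0 n7162 = n6031 := d5_1 D7162 (iv D6031) (iv F27397)
theorem F34097 : act 1 n7162 = n7162 := d13_1 D7162 (iv D7162) F27398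
theorem F34098 : act 5 n7162 = n5734 := d35_1 D7162 (iv D5734) (iv D4581) (iv F22172) D5686
theorem F34099 : act 8 n7162 = n5689 := d40_2 (iv F27399) D7162 (iv D5689)
def n7163 : Q := act 4 n5687
theorem D7163 : act 4 n5687 = n7163 := rfl
theorem F34100 : act 0 n7163 = n6032 := d3_1 D7163 (iv D6032) (iv F27400)
theorem F34101 : act 1 n7163 = n7163 := d11_1 D7163 (iv D7163) F27401
theorem F34102 : act 5 n7163 = n5691 := d30_2 D5687 D7163 (iv D5691) (iv D4552) (iv F22175)
theorem F34103 : act 7 n7163 = n5688 := d32_2 (iv F27402) D7163 (iv D5688)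
theorem F34104 : act 9 n7163 = n7163 := d34_2 F27403 D7163 (iv D7163)
def n7164 : Q := act 6 n5687
theorem D7164 : act 6 n5687 = n7164 := rfl
theorem F34105 : act 0 n7164 = n6033 := d5_1 D7164 (iv D6033) (iv F27400)
theorem F34106 : act 1 n7164 = n7164 := d13_1 D7164 (iv D7164) F27401
theorem F34107 : act 5 n7164 = n7164 := d35_1 D7164 (iv D7164) (iv D5687) F22176 D5687
theorem F34108 : act 9 n7164 = n7164 := d41_2 F27403 D7164 (iv D7164)
def n7165 : Q := act 3 n5688
theorem D7165 : act 3 n5688 = n7165 := rfl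
theorem F34109 : act 0 n7165 = n6034 := d2_1 D7165 (iv D6034) (iv F27404)
theorem F34110 : act 1 n7165 = n7165 := d10_1 D7165 (iv D7165) F27405
theorem F34111 : act 5 n7165 = n5693 := d25_2 (iv F27406) D7165 (iv D5693)
theorem F34112 : act 9 n7165 = n7165 := d29_2 F27407 D7165 (iv D7165)
def n7166 : Q := act 6 n5688
theorem D7166 : act 6 n5688 = n7166 := rfl
theorem F34113 : act 0 n7166 = n6035 := d5_1 D7166 (iv D6035) (iv F27404)
theorem F34114 : act 1 n7166 = n7166 := d13_1 D7166 (iv D7166) F27405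
theorem F34115 : act 4 n7166 = n5689 := d31_1 D7166 (iv D5689) D5688
theorem F34116 : act 5 n7166 = n7166 := d35_1 D7166 (iv D7166) F27406 F22195 (iv F27406)
theorem F34117 : act 9 n7166 = n7166 := d41_2 F27407 D7166 (iv D7166)
def n7167 : Q := act 7 n5689
theorem D7167 : act 7 n5689 = n7167 := rfl
theorem F34118 : act 0 n7167 = n6036 := d6_1 D7167 (iv D6036) (iv F27408)
theorem F34119 : act 1 n7167 = n7167 := d14_1 D7167 (iv D7167) F27409
theorem F34120 : act 5 n7167 = n5690 := d36_1 D7167 (iv D5690) (iv F27410)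
theorem F34121 : act 9 n7167 = n7167 := d43_2 F27411 D7167 (iv D7167)
def n7168 : Q := act 3 n5691
theorem D7168 : act 3 n5691 = n7168 := rfl
theorem F34122 : act 0 n7168 = n6037 := d2_1 D7168 (iv D6037) (iv F27418)
theorem F34123 : act 1 n7168 = n7168 := d10_1 D7168 (iv D7168) F27419
theorem F34124 : act 4 n7168 = n7168 := d24_2 D5691 D7168 (iv D7168) (iv D5691) F22189
theorem F34125 : act 7 n7168 = n5693 := d27_2 (iv F27420) D7168 (iv D5693)
theorem F34126 : act 8 n7168 = n7168 := d28_2 F27421 D7168 (iv D7168)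
theorem F34127 : act 9 n7168 = n7168 := d29_2 F27422 D7168 (iv D7168)
def n7169 : Q := act 6 n5691
theorem D7169 : act 6 n5691 = n7169 := rfl
theorem F34128 : act 0 n7169 = n6038 := d5_1 D7169 (iv D6038) (iv F27418)
theorem F34129 : act 1 n7169 = n7169 := d13_1 D7169 (iv D7169) F27419
theorem F34130 : act 4 n7169 = n5692 := d31_1 D7169 (iv D5692) D5691
theorem F34131 : act 7 n7169 = n7169 := d39_2 (iv F27420) D7169 (iv D7169) F27420 F22195
theorem F34132 : act 8 n7169 = n7169 := d40_2 F27421 D7169 (iv D7169)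
theorem F34133 : act 9 n7169 = n7169 := d41_2 F27422 D7169 (iv D7169)
def n7170 : Q := act 2 n5693
theorem D7170 : act 2 n5693 = n7170 := rfl
theorem F34134 : act 0 n7170 = n6039 := d1_1 D7170 (iv D6039) (iv F27430)
theorem F34135 : act 4 n7170 = n7170 := d18_2 F27432 D7170 (iv D7170)
theorem F34136 : act 6 n7170 = n7170 := d20_2 F27433 D7170 (iv D7170)
theorem F34137 : act 8 n7170 = n7170 := d22_2 F27434 D7170 (iv D7170)
theorem F34138 : act 9 n7170 = n7170 := d23_2 F27435 D7170 (iv D7170)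
def n7171 : Q := act 4 n5694
theorem D7171 : act 4 n5694 = n7171 := rfl
theorem F34139 : act 0 n7171 = n5698 := d3_1 D7171 (iv D5698) (iv F27436)
theorem F34140 : act 1 n7171 = n5927 := d11_1 D7171 F28628 (iv F27437)
theorem F34141 : act 2 n7171 = n7171 := d18_1 D7171 (iv D7171) F27438
theorem F34142 : act 3 n7171 = n5997 := d24_1 D7171 F28913 (iv F27507) F33633 F33629
theorem F34143 : act 5 n7171 = n5797 := d30_2 D5694 D7171 (iv D5797) (iv D4631) (iv F22201)
theorem F34144 : act 6 n7171 = n6053 := d31_2 F33874 D7171 F33876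
theorem F34145 : act 7 n5923 = n7171 := d39_0 F34144 (iv F33671) F33670 F27469 (iv F28610)
theorem F34146 : act 8 n6003 = n7171 := d40_0 F34144 (iv D6053) (iv F28944)
def n7172 : Q := act 7 n5694
theorem D7172 : act 7 n5694 = n7172 := rfl
theorem F34147 : act 0 n7172 = n5699 := d6_1 D7172 (iv D5699) (iv F27436)
theorem F34148 : act 1 n7172 = n5926 := d14_1 D7172 (iv F28624) (iv F27437)
theorem F34149 : act 2 n7172 = n7172 := d21_1 D7172 (iv D7172) F27438
theorem F34150 : act 3 n7172 = n6040 := d27_1 D7172 (iv F33631) F33629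
theorem F34151 : act 4 n7172 = n5923 := d32_1 D7172 F34145 (iv D7171)
theorem F34152 : act 5 n7172 = n5695 := d36_1 D7172 (iv D5695) D5694
theorem F34153 : act 6 n7172 = n5951 := d39_1 D7172 F33924 F33922 (iv F33875) F33874
theorem F34154 : act 8 n7172 = n5948 := d45_6 (iv F22651) (iv F27241) F27242 D7124 F33874 D7172 F28725 F28726 (iv F28628) F28629 F23130 (iv D4733) F17466 F17464 F12461 F8884 F6324 (iv D1234) F4490 F4491 F4489 F3279 D891 F4636 D895 D1290 F6580 F20030 (iv F8471) F8472 (iv D1686) (iv D1175) F4259 (iv F5976) D1674 (iv F11473) F11474 (iv F16035) D4490 (iv F21850) F18778 F18776 F20390 F16051 F11460 F11461 (iv D2317) F8169 F8167 F5964 (iv F8391) D2389 F11796 D2402 (iv F20103) F8918 (iv F9255) D2649 F13020 F9533 D2750 F13412 (iv F17102)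
def n7173 : Q := act 8 n5694
theorem D7173 : act 8 n5694 = n7173 := rfl
theorem F34155 : act 0 n7173 = n5700 := d7_1 D7173 (iv D5700) (iv F27436)
theorem F34156 : act 1 n7173 = n6040 := d15_1 D7173 (iv D6040) (iv F27437)
theorem F34157 : act 2 n7173 = n7173 := d22_1 D7173 (iv D7173) F27438
theorem F34158 : act 3 n7173 = n5926 := d28_1 D7173 (iv F33632) F33629
theorem F34159 : act 4 n7173 = n6003 := d33_1 D7173 F34146 (iv D7171)
theorem F34160 : act 5 n7173 = n5743 := d37_1 D7173 (iv D5743) (iv D4589) (iv F22202) D5694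
theorem F34161 : act 6 n7173 = n5955 := d40_1 D7173 (iv F33877) F33874
theorem F34162 : act 7 n7173 = n5948 := d42_1 D7173 (iv F34154) (iv D7172)
def n7174 : Q := act 9 n5694
theorem D7174 : act 9 n5694 = n7174 := rfl
theorem F34163 : act 0 n7174 = n5701 := d8_1 D7174 (iv D5701) (iv F27436)
theorem F34164 : act 1 n7174 = n6041 := d16_1 D7174 (iv D6041) (iv F27437)
theorem F34165 : act 2 n7174 = n7174 := d23_1 D7174 (iv D7174) F27438
theorem F34166 : act 5 n7174 = n5696 := d38_1 D7174 (iv D5696) D5694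
def n7175 : Q := act 9 n5695
theorem D7175 : act 9 n5695 = n7175 := rfl
theorem F34167 : act 0 n7175 = n5702 := d8_1 D7175 (iv D5702) (iv F27439)
theorem F34168 : act 1 n7175 = n6042 := d16_1 D7175 (iv D6042) (iv F27440)
theorem F34169 : act 2 n7175 = n7175 := d23_1 D7175 (iv D7175) F27441
theorem F34170 : act 3 n7175 = n6102 := d29_1 D7175 (iv D6102) (iv F27442)
theorem F34171 : act 4 n7175 = n5800 := d34_1 D7175 (iv D5800) (iv F27443)
theorem F34172 : act 6 n7175 = n7175 := d41_1 D7175 (iv D7175) F27444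
theorem F34173 : act 7 n7175 = n5696 := d43_1 D7175 (iv D5696) D5695
def n7176 : Q := act 8 n5696
theorem D7176 : act 8 n5696 = n7176 := rfl
theorem F34174 : act 0 n7176 = n5703 := d7_1 D7176 (iv D5703) (iv F27446)
theorem F34175 : act 1 n7176 = n6043 := d15_1 D7176 (iv D6043) (iv F27447)
theorem F34176 : act 2 n7176 = n7176 := d22_1 D7176 (iv D7176) F27448
theorem F34177 : act 4 n7176 = n5801 := d33_1 D7176 (iv D5801) (iv F27449)
theorem F34178 : act 6 n7176 = n5697 := d40_1 D7176 (iv D5697) (iv F27450)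
theorem F34179 : act 9 n7176 = n5746 := d44_2 D5696 D7176 (iv D5746) (iv D4591) (iv F22202)
def n7177 : Q := act 5 n5697
theorem D7177 : act 5 n5697 = n7177 := rfl
theorem F34180 : act 0 n7177 = n5704 := d4_1 D7177 (iv D5704) (iv F27451)
theorem F34181 : act 1 n7177 = n6044 := d12_1 D7177 (iv D6044) (iv F27452)
theorem F34182 : act 2 n7177 = n7177 := d19_1 D7177 (iv D7177) F27453
theorem F34183 : act 7 n7177 = n7177 := d36_2 F27455 D7177 (iv D7177)
theorem F34184 : act 9 n7177 = n5747 := d38_2 (iv F27456) D7177 (iv D5747)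
def n7178 : Q := act 7 n5698
theorem D7178 : act 7 n5698 = n7178 := rfl
theorem F34185 : act 0 n7178 = n5923 := d6_1 D7178 F34145 F34139
theorem F34186 : act 1 n7178 = n5706 := d14_1 D7178 (iv D5706) (iv F27457)
theorem F34187 : act 2 n7178 = n7178 := d21_1 D7178 (iv D7178) F27458
theorem F34188 : act 3 n7178 = n5993 := d27_1 D7178 (iv F33939) F33936
theorem F34189 : act 4 n7178 = n5699 := d32_1 D7178 (iv D5699) D5698
theorem F34190 : act 5 n7178 = n5804 := d36_1 D7178 (iv D5804) (iv F27459)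
theorem F34191 : act 6 n7178 = n5948 := d39_1 D7178 (iv F34162) F34161 (iv F33897) F33896
theorem F34192 : act 8 n7178 = n5951 := d42_2 (iv F33923) D7178 F33924
def n7179 : Q := act 9 n5698
theorem D7179 : act 9 n5698 = n7179 := rfl
theorem F34193 : act 1 n7179 = n5708 := d16_1 D7179 (iv D5708) (iv F27457)
theorem F34194 : act 2 n7179 = n7179 := d23_1 D7179 (iv D7179) F27458
theorem F34195 : act 4 n7179 = n5701 := d34_1 D7179 (iv D5701) D5698
theorem F34196 : act 5 n7179 = n5805 := d38_1 D7179 (iv D5805) (iv F27459)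
def n7180 : Q := act 6 n5699
theorem D7180 : act 6 n5699 = n7180 := rfl
theorem F34197 : act 0 n7180 = n5951 := d5_1 D7180 (iv F34153) F34147
theorem F34198 : act 1 n7180 = n5709 := d13_1 D7180 (iv D5709) (iv F27460)
theorem F34199 : act 2 n7180 = n7180 := d20_1 D7180 (iv D7180) F27461
theorem F34200 : act 3 n7180 = n5998 := d26_1 D7180 F28921 (iv F27462)
theorem F34201 : act 4 n7180 = n5948 := d31_1 D7180 (iv F34191) F34189
theorem F34202 : act 5 n7180 = n7180 := d35_1 D7180 (iv D7180) F27463 F22214 (iv F27463)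
theorem F34203 : act 7 n7180 = n6003 := d39_2 D5699 D7180 F28944 (iv F27255) F27254
theorem F34204 : act 8 n7180 = n5923 := d40_2 (iv F27464) D7180 F28610
def n7181 : Q := act 9 n5699
theorem D7181 : act 9 n5699 = n7181 := rfl
theorem F34205 : act 1 n7181 = n5710 := d16_1 D7181 (iv D5710) (iv F27460)
theorem F34206 : act 2 n7181 = n7181 := d23_1 D7181 (iv D7181) F27461
theorem F34207 : act 3 n7181 = n6047 := d29_1 D7181 (iv D6047) (iv F27462)
theorem F34208 : act 5 n7181 = n5702 := d38_1 D7181 (iv D5702) (iv F27463)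
theorem F34209 : act 7 n7181 = n5701 := d43_1 D7181 (iv D5701) D5699
def n7182 : Q := act 9 n5700
theorem D7182 : act 9 n5700 = n7182 := rfl
theorem F34210 : act 1 n7182 = n5711 := d16_1 D7182 (iv D5711) (iv F27465)
theorem F34211 : act 2 n7182 = n7182 := d23_1 D7182 (iv D7182) F27466
theorem F34212 : act 3 n7182 = n6046 := d29_1 D7182 (iv D6046) (iv F27467)
theorem F34213 : act 5 n7182 = n5748 := d38_1 D7182 (iv D5748) (iv F27468)
theorem F34214 : act 7 n7182 = n5952 := d43_1 D7182 (iv D5952) (iv F27469)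
def n7183 : Q := act 8 n5701
theorem D7183 : act 8 n5701 = n7183 := rfl
theorem F34215 : act 1 n7183 = n5712 := d15_1 D7183 (iv D5712) (iv F27470)
theorem F34216 : act 2 n7183 = n7183 := d22_1 D7183 (iv D7183) F27471
def n7184 : Q := act 8 n5702
theorem D7184 : act 8 n5702 = n7184 := rfl
theorem F34217 : act 1 n7184 = n5713 := d15_1 D7184 (iv D5713) (iv F27473)
theorem F34218 : act 2 n7184 = n7184 := d22_1 D7184 (iv D7184) F27474
theorem F34219 : act 3 n7184 = n6108 := d28_1 D7184 (iv D6108) (iv F27475)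
theorem F34220 : act 4 n7184 = n5809 := d33_1 D7184 (iv D5809) (iv F27476)
theorem F34221 : act 6 n7184 = n7184 := d40_1 D7184 (iv D7184) F27477
theorem F34222 : act 7 n7184 = n5703 := d42_1 D7184 (iv D5703) (iv F27478)
theorem F34223 : act 9 n7184 = n5750 := d44_2 D5702 D7184 (iv D5750) (iv D4595) (iv F22215)
def n7185 : Q := act 5 n5703
theorem D7185 : act 5 n5703 = n7185 := rfl
theorem F34224 : act 1 n7185 = n5714 := d12_1 D7185 (iv D5714) (iv F27479)
theorem F34225 : act 2 n7185 = n7185 := d19_1 D7185 (iv D7185) F27480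
theorem F34226 : act 9 n7185 = n5751 := d38_2 (iv F27483) D7185 (iv D5751)
def n7186 : Q := act 4 n5704
theorem D7186 : act 4 n5704 = n7186 := rfl
theorem F34227 : act 1 n7186 = n5715 := d11_1 D7186 (iv D5715) (iv F27484)
theorem F34228 : act 2 n7186 = n7186 := d18_1 D7186 (iv D7186) F27485
theorem F34229 : act 5 n7186 = n5811 := d30_2 D5704 D7186 (iv D5811) (iv D4640) (iv F22222)
theorem F34230 : act 7 n7186 = n7186 := d32_2 F27486 D7186 (iv D7186)
theorem F34231 : act 9 n7186 = n5752 := d34_2 (iv F27487) D7186 (iv D5752)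
def n7187 : Q := act 6 n5704
theorem D7187 : act 6 n5704 = n7187 := rfl
theorem F34232 : act 1 n7187 = n5716 := d13_1 D7187 (iv D5716) (iv F27484)
theorem F34233 : act 2 n7187 = n7187 := d20_1 D7187 (iv D7187) F27485
theorem F34234 : act 9 n7187 = n5753 := d41_2 (iv F27487) D7187 (iv D5753)
def n7188 : Q := act 9 n5705
theorem D7188 : act 9 n5705 = n7188 := rfl
theorem F34235 : act 0 n7188 = n6054 := d8_1 D7188 (iv D6054) (iv F27488)
theorem F34236 : act 2 n7188 = n7188 := d23_1 D7188 (iv D7188) F27489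
theorem F34237 : act 3 n7188 = n5708 := d29_1 D7188 (iv D5708) D5705
theorem F34238 : act 5 n7188 = n5813 := d38_1 D7188 (iv D5813) (iv F27490)
def n7189 : Q := act 9 n5706
theorem D7189 : act 9 n5706 = n7189 := rfl
theorem F34239 : act 0 n7189 = n6055 := d8_1 D7189 (iv D6055) (iv F27491)
theorem F34240 : act 2 n7189 = n5718 := d23_1 D7189 (iv D5718) (iv F27492)
theorem F34241 : act 4 n7189 = n5710 := d34_1 D7189 (iv D5710) (iv F27493)
theorem F34242 : act 5 n7189 = n5814 := d38_1 D7189 (iv D5814) (iv F27494)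
theorem F34243 : act 7 n7189 = n5708 := d43_1 D7189 (iv D5708) D5706
def n7190 : Q := act 9 n5707
theorem D7190 : act 9 n5707 = n7190 := rfl
theorem F34244 : act 0 n7190 = n6056 := d8_1 D7190 (iv D6056) (iv F27496)
theorem F34245 : act 2 n7190 = n5719 := d23_1 D7190 (iv D5719) (iv F27497)
theorem F34246 : act 4 n7190 = n5711 := d34_1 D7190 (iv D5711) (iv F27498)
theorem F34247 : act 5 n7190 = n7190 := d38_1 D7190 (iv D7190) F27499
theorem F34248 : act 7 n7190 = n5956 := d43_1 D7190 (iv D5956) (iv F27500)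
def n7191 : Q := act 8 n5708
theorem D7191 : act 8 n5708 = n7191 := rfl
theorem F34249 : act 0 n7191 = n6057 := d7_1 D7191 (iv D6057) (iv F27501)
theorem F34250 : act 2 n7191 = n5720 := d22_1 D7191 (iv D5720) (iv F27502)
theorem F34251 : act 4 n7191 = n5712 := d33_1 D7191 (iv D5712) (iv F27503)
def n7192 : Q := act 9 n5709
theorem D7192 : act 9 n5709 = n7192 := rfl
theorem F34252 : act 0 n7192 = n6058 := d8_1 D7192 (iv D6058) (iv F27505)
theorem F34253 : act 2 n7192 = n5721 := d23_1 D7192 (iv D5721) (iv F27506)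
theorem F34254 : act 3 n7192 = n6007 := d29_1 D7192 (iv D6007) (iv F27507)
theorem F34255 : act 5 n7192 = n7192 := d38_1 D7192 (iv D7192) F27508
theorem F34256 : act 6 n7192 = n5710 := d41_1 D7192 (iv D5710) D5709
def n7193 : Q := act 8 n5710
theorem D7193 : act 8 n5710 = n7193 := rfl
theorem F34257 : act 0 n7193 = n6059 := d7_1 D7193 (iv D6059) (iv F27510)
theorem F34258 : act 2 n7193 = n5722 := d22_1 D7193 (iv D5722) (iv F27511)
theorem F34259 : act 3 n7193 = n6060 := d28_1 D7193 (iv D6060) (iv F27512)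
theorem F34260 : act 7 n7193 = n5712 := d42_1 D7193 (iv D5712) (iv F27514)
theorem F34261 : act 9 n7193 = n5957 := d44_2 D5710 D7193 (iv D5957) (iv D4755) F22232
def n7194 : Q := act 8 n5711
theorem D7194 : act 8 n5711 = n7194 := rfl
theorem F34262 : act 0 n7194 = n6060 := d7_1 D7194 (iv D6060) (iv F27515)
theorem F34263 : act 2 n7194 = n5723 := d22_1 D7194 (iv D5723) (iv F27516)
theorem F34264 : act 3 n7194 = n6059 := d28_1 D7194 (iv D6059) (iv F27517)
theorem F34265 : act 7 n7194 = n5957 := d42_1 D7194 (iv D5957) (iv F27519)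
theorem F34266 : act 9 n7194 = n5712 := d44_2 D5711 D7194 (iv D5712) (iv D4563) D4562
def n7195 : Q := act 5 n5712
theorem D7195 : act 5 n5712 = n7195 := rfl
theorem F34267 : act 0 n7195 = n6061 := d4_1 D7195 (iv D6061) (iv F27520)
theorem F34268 : act 2 n7195 = n5724 := d19_1 D7195 (iv D5724) (iv F27521)
theorem F34269 : act 8 n7195 = n5714 := d37_2 D5712 D7195 (iv D5714) (iv D4565) (iv F22240)
def n7196 : Q := act 5 n5713
theorem D7196 : act 5 n5713 = n7196 := rfl
theorem F34270 : act 0 n7196 = n6062 := d4_1 D7196 (iv D6062) (iv F27522)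
theorem F34271 : act 2 n7196 = n5725 := d19_1 D7196 (iv D5725) (iv F27523)
theorem F34272 : act 3 n7196 = n6116 := d25_1 D7196 (iv D6116) (iv F27524)
theorem F34273 : act 7 n7196 = n5714 := d36_2 (iv F27527) D7196 (iv D5714)
theorem F34274 : act 9 n7196 = n5756 := d38_2 (iv F27528) D7196 (iv D5756)
def n7197 : Q := act 4 n5714
theorem D7197 : act 4 n5714 = n7197 := rfl
theorem F34275 : act 0 n7197 = n6063 := d3_1 D7197 (iv D6063) (iv F27529)
theorem F34276 : act 2 n7197 = n5726 := d18_1 D7197 (iv D5726) (iv F27530)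
theorem F34277 : act 5 n7197 = n5820 := d30_2 D5714 D7197 (iv D5820) (iv D4648) (iv F22249)
theorem F34278 : act 9 n7197 = n5757 := d34_2 (iv F27531) D7197 (iv D5757)
def n7198 : Q := act 6 n5714
theorem D7198 : act 6 n5714 = n7198 := rfl
theorem F34279 : act 0 n7198 = n6064 := d5_1 D7198 (iv D6064) (iv F27529)
theorem F34280 : act 2 n7198 = n5727 := d20_1 D7198 (iv D5727) (iv F27530)
theorem F34281 : act 5 n7198 = n5716 := d35_1 D7198 (iv D5716) (iv D4566) (iv F22250) D5714
theorem F34282 : act 9 n7198 = n5758 := d41_2 (iv F27531) D7198 (iv D5758)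
def n7199 : Q := act 3 n5715
theorem D7199 : act 3 n5715 = n7199 := rfl
theorem F34283 : act 0 n7199 = n6065 := d2_1 D7199 (iv D6065) (iv F27532)
theorem F34284 : act 2 n7199 = n7199 := d17_1 D7199 (iv D7199) F27533 F22304 (iv F27533)
theorem F34285 : act 5 n7199 = n5822 := d25_2 (iv F27534) D7199 (iv D5822)
theorem F34286 : act 7 n7199 = n7199 := d27_2 F27535 D7199 (iv D7199)
theorem F34287 : act 9 n7199 = n5759 := d29_2 (iv F27536) D7199 (iv D5759)
def n7200 : Q := act 6 n5715
theorem D7200 : act 6 n5715 = n7200 := rfl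
theorem F34288 : act 0 n7200 = n6066 := d5_1 D7200 (iv D6066) (iv F27532)
theorem F34289 : act 2 n7200 = n5728 := d20_1 D7200 (iv D5728) (iv F27533)
theorem F34290 : act 4 n7200 = n5716 := d31_1 D7200 (iv D5716) D5715
theorem F34291 : act 9 n7200 = n5760 := d41_2 (iv F27536) D7200 (iv D5760)
def n7201 : Q := act 7 n5716
theorem D7201 : act 7 n5716 = n7201 := rfl
theorem F34292 : act 0 n7201 = n6067 := d6_1 D7201 (iv D6067) (iv F27537)
theorem F34293 : act 2 n7201 = n5729 := d21_1 D7201 (iv D5729) (iv F27538)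
theorem F34294 : act 6 n7201 = n7201 := d39_1 D7201 (iv D7201) (iv D5716) F22254 D5716
theorem F34295 : act 9 n7201 = n5761 := d43_2 (iv F27539) D7201 (iv D5761)
def n7202 : Q := act 9 n5717
theorem D7202 : act 9 n5717 = n7202 := rfl
theorem F34296 : act 0 n7202 = n6068 := d8_1 D7202 (iv D6068) (iv F27540)
theorem F34297 : act 1 n7202 = n7202 := d16_1 D7202 (iv D7202) F27541
theorem F34298 : act 3 n7202 = n7202 := d29_1 D7202 (iv D7202) F27542
theorem F34299 : act 4 n7202 = n5721 := d34_1 D7202 (iv D5721) (iv F27543)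
theorem F34300 : act 5 n7202 = n6446 := d38_1 D7202 (iv D6446) (iv F27544)
theorem F34301 : act 6 n7202 = n5718 := d41_1 D7202 (iv D5718) D5717
theorem F34302 : act 7 n7202 = n6365 := d43_1 D7202 (iv D6365) (iv F27545)
def n7203 : Q := act 8 n5718
theorem D7203 : act 8 n5718 = n7203 := rfl
theorem F34303 : act 0 n7203 = n6069 := d7_1 D7203 (iv D6069) (iv F27547)
theorem F34304 : act 1 n7203 = n7203 := d15_1 D7203 (iv D7203) F27548
theorem F34305 : act 3 n7203 = n7203 := d28_1 D7203 (iv D7203) F27549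
theorem F34306 : act 4 n7203 = n5722 := d33_1 D7203 (iv D5722) (iv F27550)
theorem F34307 : act 7 n7203 = n5720 := d42_1 D7203 (iv D5720) (iv F27552)
theorem F34308 : act 9 n7203 = n5961 := d44_2 D5718 D7203 (iv D5961) (iv D4758) F22261
def n7204 : Q := act 8 n5719
theorem D7204 : act 8 n5719 = n7204 := rfl
theorem F34309 : act 0 n7204 = n6070 := d7_1 D7204 (iv D6070) (iv F27553)
theorem F34310 : act 1 n7204 = n7204 := d15_1 D7204 (iv D7204) F27554
theorem F34311 : act 3 n7204 = n7204 := d28_1 D7204 (iv D7204) F27555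
theorem F34312 : act 4 n7204 = n5723 := d33_1 D7204 (iv D5723) (iv F27556)
theorem F34313 : act 7 n7204 = n5961 := d42_1 D7204 (iv D5961) (iv F27558)
theorem F34314 : act 9 n7204 = n5720 := d44_2 D5719 D7204 (iv D5720) (iv D4569) D4568
def n7205 : Q := act 5 n5720
theorem D7205 : act 5 n5720 = n7205 := rfl
theorem F34315 : act 0 n7205 = n6071 := d4_1 D7205 (iv D6071) (iv F27559)
theorem F34316 : act 1 n7205 = n7205 := d12_1 D7205 (iv D7205) F27560
theorem F34317 : act 3 n7205 = n7205 := d25_1 D7205 (iv D7205) F27561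
theorem F34318 : act 8 n7205 = n5827 := d37_2 D5720 D7205 (iv D5827) (iv D4653) (iv F22272)
def n7206 : Q := act 8 n5721
theorem D7206 : act 8 n5721 = n7206 := rfl
theorem F34319 : act 0 n7206 = n6072 := d7_1 D7206 (iv D6072) (iv F27563)
theorem F34320 : act 1 n7206 = n7206 := d15_1 D7206 (iv D7206) F27564
theorem F34321 : act 3 n7206 = n5730 := d28_1 D7206 (iv D5730) (iv F27565)
theorem F34322 : act 6 n7206 = n5722 := d40_1 D7206 (iv D5722) (iv F27567)
theorem F34323 : act 9 n7206 = n5934 := d44_2 D5721 D7206 (iv D5934) (iv D4738) (iv F22277)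
def n7207 : Q := act 5 n5722
theorem D7207 : act 5 n5722 = n7207 := rfl
theorem F34324 : act 0 n7207 = n6073 := d4_1 D7207 (iv D6073) (iv F27568)
theorem F34325 : act 1 n7207 = n7207 := d12_1 D7207 (iv D7207) F27569
theorem F34326 : act 3 n7207 = n5731 := d25_1 D7207 (iv D5731) (iv F27570)
theorem F34327 : act 7 n7207 = n5724 := d36_2 (iv F27571) D7207 (iv D5724)
theorem F34328 : act 8 n7207 = n5725 := d37_2 D5722 D7207 (iv D5725) (iv D4574) (iv F22281)
theorem F34329 : act 9 n7207 = n5962 := d38_2 (iv F27572) D7207 (iv D5962)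
def n7208 : Q := act 5 n5723
theorem D7208 : act 5 n5723 = n7208 := rfl
theorem F34330 : act 0 n7208 = n6074 := d4_1 D7208 (iv D6074) (iv F27573)
theorem F34331 : act 1 n7208 = n7208 := d12_1 D7208 (iv D7208) F27574
theorem F34332 : act 3 n7208 = n5732 := d25_1 D7208 (iv D5732) (iv F27575)
theorem F34333 : act 7 n7208 = n5962 := d36_2 (iv F27576) D7208 (iv D5962)
theorem F34334 : act 8 n7208 = n5762 := d37_2 D5723 D7208 (iv D5762) (iv D4604) (iv F22286)
theorem F34335 : act 9 n7208 = n5724 := d38_2 (iv F27577) D7208 (iv D5724)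
def n7209 : Q := act 4 n5724
theorem D7209 : act 4 n5724 = n7209 := rfl
theorem F34336 : act 0 n7209 = n6075 := d3_1 D7209 (iv D6075) (iv F27578)
theorem F34337 : act 1 n7209 = n7209 := d11_1 D7209 (iv D7209) F27579
theorem F34338 : act 8 n7209 = n5726 := d33_2 (iv F27581) D7209 (iv D5726)
def n7210 : Q := act 6 n5724
theorem D7210 : act 6 n5724 = n7210 := rfl
theorem F34339 : act 0 n7210 = n6076 := d5_1 D7210 (iv D6076) (iv F27578)
theorem F34340 : act 1 n7210 = n7210 := d13_1 D7210 (iv D7210) F27579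
theorem F34341 : act 3 n7210 = n5734 := d26_1 D7210 (iv D5734) (iv F27580)
theorem F34342 : act 8 n7210 = n5727 := d40_2 (iv F27581) D7210 (iv D5727)
def n7211 : Q := act 4 n5725
theorem D7211 : act 4 n5725 = n7211 := rfl
theorem F34343 : act 0 n7211 = n6077 := d3_1 D7211 (iv D6077) (iv F27582)
theorem F34344 : act 1 n7211 = n7211 := d11_1 D7211 (iv D7211) F27583
theorem F34345 : act 5 n7211 = n5832 := d30_2 D5725 D7211 (iv D5832) (iv D4657) (iv F22294)
theorem F34346 : act 7 n7211 = n5726 := d32_2 (iv F27585) D7211 (iv D5726)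
theorem F34347 : act 9 n7211 = n5765 := d34_2 (iv F27586) D7211 (iv D5765)
def n7212 : Q := act 6 n5725
theorem D7212 : act 6 n5725 = n7212 := rfl
theorem F34348 : act 0 n7212 = n6078 := d5_1 D7212 (iv D6078) (iv F27582)
theorem F34349 : act 1 n7212 = n7212 := d13_1 D7212 (iv D7212) F27583
theorem F34350 : act 3 n7212 = n5736 := d26_1 D7212 (iv D5736) (iv F27584)
theorem F34351 : act 5 n7212 = n7212 := d35_1 D7212 (iv D7212) (iv D5725) F22295 D5725
theorem F34352 : act 9 n7212 = n5766 := d41_2 (iv F27586) D7212 (iv D5766)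
def n7213 : Q := act 3 n5726
theorem D7213 : act 3 n5726 = n7213 := rfl
theorem F34353 : act 0 n7213 = n6079 := d2_1 D7213 (iv D6079) (iv F27587)
theorem F34354 : act 1 n7213 = n7213 := d10_1 D7213 (iv D7213) F27588
theorem F34355 : act 4 n7213 = n5737 := d24_2 D5726 D7213 (iv D5737) (iv D4583) (iv F22300)
theorem F34356 : act 5 n7213 = n5834 := d25_2 (iv F27589) D7213 (iv D5834)
theorem F34357 : act 9 n7213 = n5767 := d29_2 (iv F27590) D7213 (iv D5767)
def n7214 : Q := act 6 n5726
theorem D7214 : act 6 n5726 = n7214 := rfl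
theorem F34358 : act 0 n7214 = n6080 := d5_1 D7214 (iv D6080) (iv F27587)
theorem F34359 : act 1 n7214 = n7214 := d13_1 D7214 (iv D7214) F27588
theorem F34360 : act 4 n7214 = n5727 := d31_1 D7214 (iv D5727) D5726
theorem F34361 : act 9 n7214 = n5768 := d41_2 (iv F27590) D7214 (iv D5768)
def n7215 : Q := act 7 n5727
theorem D7215 : act 7 n5727 = n7215 := rfl
theorem F34362 : act 0 n7215 = n6081 := d6_1 D7215 (iv D6081) (iv F27591)
theorem F34363 : act 1 n7215 = n7215 := d14_1 D7215 (iv D7215) F27592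
theorem F34364 : act 3 n7215 = n5739 := d27_1 D7215 (iv D5739) (iv F27593)
theorem F34365 : act 5 n7215 = n5729 := d36_1 D7215 (iv D5729) (iv F27594)
theorem F34366 : act 9 n7215 = n5769 := d43_2 (iv F27595) D7215 (iv D5769)
def n7216 : Q := act 5 n5728
theorem D7216 : act 5 n5728 = n7216 := rfl
theorem F34367 : act 0 n7216 = n6082 := d4_1 D7216 (iv D6082) (iv F27596)
theorem F34368 : act 1 n7216 = n7216 := d12_1 D7216 (iv D7216) F27597
theorem F34369 : act 3 n7216 = n7216 := d25_1 D7216 (iv D7216) F27598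
theorem F34370 : act 6 n7216 = n5837 := d35_2 D5728 D7216 (iv D5837) (iv D4660) (iv F22305)
theorem F34371 : act 9 n7216 = n5770 := d38_2 (iv F27600) D7216 (iv D5770)
def n7217 : Q := act 7 n5728
theorem D7217 : act 7 n5728 = n7217 := rfl
theorem F34372 : act 0 n7217 = n6083 := d6_1 D7217 (iv D6083) (iv F27596)
theorem F34373 : act 1 n7217 = n7217 := d14_1 D7217 (iv D7217) F27597
theorem F34374 : act 3 n7217 = n7217 := d27_1 D7217 (iv D7217) F27598
theorem F34375 : act 4 n7217 = n5729 := d32_1 D7217 (iv D5729) (iv F27599)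
theorem F34376 : act 6 n7217 = n7217 := d39_1 D7217 (iv D7217) (iv D5728) F22306 D5728
theorem F34377 : act 9 n7217 = n5771 := d43_2 (iv F27600) D7217 (iv D5771)
def n7218 : Q := act 5 n5730
theorem D7218 : act 5 n5730 = n7218 := rfl
theorem F34378 : act 0 n7218 = n6084 := d4_1 D7218 (iv D6084) (iv F27606)
theorem F34379 : act 1 n7218 = n7218 := d12_1 D7218 (iv D7218) F27607
theorem F34380 : act 2 n7218 = n6029 := d19_1 D7218 (iv D6029) (iv F27608)
theorem F34381 : act 8 n7218 = n7218 := d37_2 D5730 D7218 (iv D7218) (iv D5730) F22316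
theorem F34382 : act 9 n7218 = n5940 := d38_2 (iv F27611) D7218 (iv D5940)
def n7219 : Q := act 4 n5731
theorem D7219 : act 4 n5731 = n7219 := rfl
theorem F34383 : act 0 n7219 = n6085 := d3_1 D7219 (iv D6085) (iv F27612)
theorem F34384 : act 1 n7219 = n7219 := d11_1 D7219 (iv D7219) F27613
theorem F34385 : act 2 n7219 = n6087 := d18_1 D7219 (iv D6087) (iv F27614)
theorem F34386 : act 5 n7219 = n7219 := d30_2 D5731 D7219 (iv D7219) (iv D5731) F22321
theorem F34387 : act 7 n7219 = n5733 := d32_2 (iv F27615) D7219 (iv D5733)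
theorem F34388 : act 8 n7219 = n5735 := d33_2 (iv F27616) D7219 (iv D5735)
theorem F34389 : act 9 n7219 = n5967 := d34_2 (iv F27617) D7219 (iv D5967)
def n7220 : Q := act 6 n5731
theorem D7220 : act 6 n5731 = n7220 := rfl
theorem F34390 : act 0 n7220 = n6086 := d5_1 D7220 (iv D6086) (iv F27612)
theorem F34391 : act 1 n7220 = n7220 := d13_1 D7220 (iv D7220) F27613
theorem F34392 : act 2 n7220 = n6088 := d20_1 D7220 (iv D6088) (iv F27614)
theorem F34393 : act 8 n7220 = n5736 := d40_2 (iv F27616) D7220 (iv D5736)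
theorem F34394 : act 9 n7220 = n5968 := d41_2 (iv F27617) D7220 (iv D5968)
def n7221 : Q := act 4 n5732
theorem D7221 : act 4 n5732 = n7221 := rfl
theorem F34395 : act 0 n7221 = n6087 := d3_1 D7221 (iv D6087) (iv F27618)
theorem F34396 : act 1 n7221 = n7221 := d11_1 D7221 (iv D7221) F27619
theorem F34397 : act 2 n7221 = n6085 := d18_1 D7221 (iv D6085) (iv F27620)
theorem F34398 : act 5 n7221 = n7221 := d30_2 D5732 D7221 (iv D7221) (iv D5732) F22327
theorem F34399 : act 7 n7221 = n5967 := d32_2 (iv F27621) D7221 (iv D5967)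
theorem F34400 : act 8 n7221 = n5772 := d33_2 (iv F27622) D7221 (iv D5772)
theorem F34401 : act 9 n7221 = n5733 := d34_2 (iv F27623) D7221 (iv D5733)
def n7222 : Q := act 6 n5732
theorem D7222 : act 6 n5732 = n7222 := rfl
theorem F34402 : act 0 n7222 = n6088 := d5_1 D7222 (iv D6088) (iv F27618)
theorem F34403 : act 1 n7222 = n7222 := d13_1 D7222 (iv D7222) F27619
theorem F34404 : act 2 n7222 = n6086 := d20_1 D7222 (iv D6086) (iv F27620)
theorem F34405 : act 8 n7222 = n5773 := d40_2 (iv F27622) D7222 (iv D5773)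
theorem F34406 : act 9 n7222 = n5734 := d41_2 (iv F27623) D7222 (iv D5734)
def n7223 : Q := act 3 n5733
theorem D7223 : act 3 n5733 = n7223 := rfl
theorem F34407 : act 0 n7223 = n6089 := d2_1 D7223 (iv D6089) (iv F27624)
theorem F34408 : act 1 n7223 = n7223 := d10_1 D7223 (iv D7223) F27625
theorem F34409 : act 5 n7223 = n7223 := d25_2 F27626 D7223 (iv D7223)
theorem F34410 : act 8 n7223 = n5737 := d28_2 (iv F27627) D7223 (iv D5737)
def n7224 : Q := act 6 n5733
theorem D7224 : act 6 n5733 = n7224 := rfl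
theorem F34411 : act 0 n7224 = n6090 := d5_1 D7224 (iv D6090) (iv F27624)
theorem F34412 : act 1 n7224 = n7224 := d13_1 D7224 (iv D7224) F27625
theorem F34413 : act 4 n7224 = n5734 := d31_1 D7224 (iv D5734) D5733
theorem F34414 : act 8 n7224 = n5738 := d40_2 (iv F27627) D7224 (iv D5738)
def n7225 : Q := act 7 n5734
theorem D7225 : act 7 n5734 = n7225 := rfl
theorem F34415 : act 0 n7225 = n6091 := d6_1 D7225 (iv D6091) (iv F27628)
theorem F34416 : act 1 n7225 = n7225 := d14_1 D7225 (iv D7225) F27629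
theorem F34417 : act 8 n7225 = n5739 := d42_2 (iv F27630) D7225 (iv D5739)
def n7226 : Q := act 3 n5735
theorem D7226 : act 3 n5735 = n7226 := rfl
theorem F34418 : act 0 n7226 = n6092 := d2_1 D7226 (iv D6092) (iv F27631)
theorem F34419 : act 1 n7226 = n7226 := d10_1 D7226 (iv D7226) F27632
theorem F34420 : act 5 n7226 = n5740 := d25_2 (iv F27634) D7226 (iv D5740)
theorem F34421 : act 7 n7226 = n5737 := d27_2 (iv F27635) D7226 (iv D5737)
theorem F34422 : act 9 n7226 = n5777 := d29_2 (iv F27636) D7226 (iv D5777)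
def n7227 : Q := act 6 n5735
theorem D7227 : act 6 n5735 = n7227 := rfl
theorem F34423 : act 0 n7227 = n6093 := d5_1 D7227 (iv D6093) (iv F27631)
theorem F34424 : act 1 n7227 = n7227 := d13_1 D7227 (iv D7227) F27632
theorem F34425 : act 2 n7227 = n6142 := d20_1 D7227 (iv D6142) (iv F27633)
theorem F34426 : act 4 n7227 = n5736 := d31_1 D7227 (iv D5736) D5735
theorem F34427 : act 9 n7227 = n5778 := d41_2 (iv F27636) D7227 (iv D5778)
def n7228 : Q := act 7 n5736
theorem D7228 : act 7 n5736 = n7228 := rfl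
theorem F34428 : act 0 n7228 = n6094 := d6_1 D7228 (iv D6094) (iv F27637)
theorem F34429 : act 1 n7228 = n7228 := d14_1 D7228 (iv D7228) F27638
theorem F34430 : act 2 n7228 = n6143 := d21_1 D7228 (iv D6143) (iv F27639)
theorem F34431 : act 5 n7228 = n7228 := d36_1 D7228 (iv D7228) F27640
theorem F34432 : act 6 n7228 = n5739 := d39_1 D7228 (iv D5739) (iv D4584) (iv F22336) D5736
theorem F34433 : act 9 n7228 = n5779 := d43_2 (iv F27641) D7228 (iv D5779)
def n7229 : Q := act 2 n5737
theorem D7229 : act 2 n5737 = n7229 := rfl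
theorem F34434 : act 0 n7229 = n6095 := d1_1 D7229 (iv D6095) (iv F27642)
theorem F34435 : act 5 n7229 = n5742 := d19_2 (iv F27644) D7229 (iv D5742)
theorem F34436 : act 9 n7229 = n5780 := d23_2 (iv F27645) D7229 (iv D5780)
def n7230 : Q := act 6 n5737
theorem D7230 : act 6 n5737 = n7230 := rfl
theorem F34437 : act 0 n7230 = n6096 := d5_1 D7230 (iv D6096) (iv F27642)
theorem F34438 : act 1 n7230 = n7230 := d13_1 D7230 (iv D7230) F27643
theorem F34439 : act 3 n7230 = n5738 := d26_1 D7230 (iv D5738) D5737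
theorem F34440 : act 5 n7230 = n7230 := d35_1 D7230 (iv D7230) F27644 F22368 (iv F27644)
theorem F34441 : act 9 n7230 = n5781 := d41_2 (iv F27645) D7230 (iv D5781)
def n7231 : Q := act 7 n5738
theorem D7231 : act 7 n5738 = n7231 := rfl
theorem F34442 : act 0 n7231 = n6097 := d6_1 D7231 (iv D6097) (iv F27646)
theorem F34443 : act 1 n7231 = n7231 := d14_1 D7231 (iv D7231) F27647
theorem F34444 : act 4 n7231 = n5739 := d32_1 D7231 (iv D5739) (iv F27648)
theorem F34445 : act 5 n7231 = n7231 := d36_1 D7231 (iv D7231) F27649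
theorem F34446 : act 9 n7231 = n5782 := d43_2 (iv F27650) D7231 (iv D5782)
def n7232 : Q := act 2 n5740
theorem D7232 : act 2 n5740 = n7232 := rfl
theorem F34447 : act 0 n7232 = n6098 := d1_1 D7232 (iv D6098) (iv F27655)
theorem F34448 : act 3 n7232 = n6159 := d17_2 D5740 D7232 (iv D6159) (iv D4914) (iv F22353)
theorem F34449 : act 4 n7232 = n5851 := d18_2 (iv F27657) D7232 (iv D5851)
theorem F34450 : act 7 n7232 = n5742 := d21_2 (iv F27658) D7232 (iv D5742)
theorem F34451 : act 8 n7232 = n7232 := d22_2 F27659 D7232 (iv D7232)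
theorem F34452 : act 9 n7232 = n5783 := d23_2 (iv F27660) D7232 (iv D5783)
def n7233 : Q := act 6 n5740
theorem D7233 : act 6 n5740 = n7233 := rfl
theorem F34455 : act 3 n7233 = n5741 := d26_1 D7233 (iv D5741) D5740
theorem F34456 : act 4 n7233 = n5852 := d31_1 D7233 (iv D5852) (iv F27657)
def n7234 : Q := act 5 n5741
theorem D7234 : act 5 n5741 = n7234 := rfl
theorem F34460 : act 0 n7234 = n6100 := d4_1 D7234 (iv D6100) (iv F27661)
theorem F34461 : act 1 n7234 = n7234 := d12_1 D7234 (iv D7234) F27662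
theorem F34462 : act 2 n7234 = n6161 := d19_1 D7234 (iv D6161) (iv F27663)
theorem F34463 : act 4 n7234 = n7234 := d30_1 D7234 (iv D7234) F27664 F22361 (iv F27664)
theorem F34464 : act 7 n7234 = n7234 := d36_2 F27665 D7234 (iv D7234)
theorem F34465 : act 9 n7234 = n5785 := d38_2 (iv F27667) D7234 (iv D5785)
def n7235 : Q := act 1 n5742
theorem D7235 : act 1 n5742 = n7235 := rfl
theorem F34466 : act 2 n7235 = n7235 := d9_2 D5742 D7235 (iv D7235) (iv D5742) F22366
theorem F34467 : act 4 n7235 = n5854 := d11_2 (iv F27669) D7235 (iv D5854)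
theorem F34468 : act 6 n7235 = n7235 := d13_2 F27670 D7235 (iv D7235)
theorem F34469 : act 8 n7235 = n7235 := d15_2 F27671 D7235 (iv D7235)
theorem F34470 : act 9 n7235 = n5786 := d16_2 (iv F27672) D7235 (iv D5786)
def n7236 : Q := act 9 n5743
theorem D7236 : act 9 n5743 = n7236 := rfl
theorem F34471 : act 0 n7236 = n5748 := d8_1 D7236 (iv D5748) (iv F27673)
theorem F34472 : act 1 n7236 = n6102 := d16_1 D7236 (iv D6102) (iv F27674)
theorem F34473 : act 2 n7236 = n7236 := d23_1 D7236 (iv D7236) F27675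
theorem F34474 : act 3 n7236 = n6042 := d29_1 D7236 (iv D6042) (iv F27676)
theorem F34475 : act 4 n7236 = n7236 := d34_1 D7236 (iv D7236) F27677
theorem F34476 : act 6 n7236 = n7236 := d41_1 D7236 (iv D7236) F27678
theorem F34477 : act 7 n7236 = n5949 := d43_1 D7236 (iv D5949) (iv F27679)
def n7237 : Q := act 8 n5744
theorem D7237 : act 8 n5744 = n7237 := rfl
theorem F34478 : act 0 n7237 = n5749 := d7_1 D7237 (iv D5749) (iv F27680)
theorem F34479 : act 1 n7237 = n6103 := d15_1 D7237 (iv D6103) (iv F27681)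
theorem F34480 : act 2 n7237 = n7237 := d22_1 D7237 (iv D7237) F27682
theorem F34481 : act 3 n7237 = n6104 := d28_1 D7237 (iv D6104) (iv F27683)
theorem F34482 : act 4 n7237 = n7237 := d33_1 D7237 (iv D7237) F27684
theorem F34483 : act 6 n7237 = n7237 := d40_1 D7237 (iv D7237) F27686
theorem F34484 : act 7 n7237 = n5973 := d42_1 D7237 (iv D5973) (iv F27687)
def n7238 : Q := act 8 n5745
theorem D7238 : act 8 n5745 = n7238 := rfl
theorem F34485 : act 0 n7238 = n5750 := d7_1 D7238 (iv D5750) (iv F27688)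
theorem F34486 : act 1 n7238 = n6104 := d15_1 D7238 (iv D6104) (iv F27689)
theorem F34487 : act 2 n7238 = n7238 := d22_1 D7238 (iv D7238) F27690
theorem F34488 : act 3 n7238 = n6103 := d28_1 D7238 (iv D6103) (iv F27691)
theorem F34489 : act 4 n7238 = n5855 := d33_1 D7238 (iv D5855) (iv F27692)
theorem F34490 : act 6 n7238 = n7238 := d40_1 D7238 (iv D7238) F27694
theorem F34491 : act 7 n7238 = n5746 := d42_1 D7238 (iv D5746) (iv F27695)
def n7239 : Q := act 5 n5746
theorem D7239 : act 5 n5746 = n7239 := rfl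
theorem F34492 : act 0 n7239 = n5751 := d4_1 D7239 (iv D5751) (iv F27696)
theorem F34493 : act 1 n7239 = n6105 := d12_1 D7239 (iv D6105) (iv F27697)
theorem F34494 : act 2 n7239 = n7239 := d19_1 D7239 (iv D7239) F27698
def n7240 : Q := act 4 n5747
theorem D7240 : act 4 n5747 = n7240 := rfl
theorem F34495 : act 0 n7240 = n5752 := d3_1 D7240 (iv D5752) (iv F27701)
theorem F34496 : act 1 n7240 = n6106 := d11_1 D7240 (iv D6106) (iv F27702)
theorem F34497 : act 2 n7240 = n7240 := d18_1 D7240 (iv D7240) F27703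
theorem F34498 : act 5 n7240 = n5857 := d30_2 D5747 D7240 (iv D5857) (iv D4676) (iv F22393)
theorem F34499 : act 7 n7240 = n7240 := d32_2 F27704 D7240 (iv D7240)
theorem F34500 : act 8 n7240 = n7240 := d33_2 F27705 D7240 (iv D7240)
def n7241 : Q := act 6 n5747
theorem D7241 : act 6 n5747 = n7241 := rfl
theorem F34501 : act 0 n7241 = n5753 := d5_1 D7241 (iv D5753) (iv F27701)
theorem F34502 : act 1 n7241 = n6107 := d13_1 D7241 (iv D6107) (iv F27702)
theorem F34503 : act 2 n7241 = n7241 := d20_1 D7241 (iv D7241) F27703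
theorem F34504 : act 8 n7241 = n7241 := d40_2 F27705 D7241 (iv D7241)
def n7242 : Q := act 8 n5748
theorem D7242 : act 8 n5748 = n7242 := rfl
theorem F34505 : act 1 n7242 = n5754 := d15_1 D7242 (iv D5754) (iv F27706)
theorem F34506 : act 2 n7242 = n7242 := d22_1 D7242 (iv D7242) F27707
theorem F34507 : act 3 n7242 = n6049 := d28_1 D7242 (iv D6049) (iv F27708)
theorem F34508 : act 4 n7242 = n7242 := d33_1 D7242 (iv D7242) F27709
theorem F34509 : act 6 n7242 = n7242 := d40_1 D7242 (iv D7242) F27710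
theorem F34510 : act 7 n7242 = n5953 := d42_1 D7242 (iv D5953) (iv F27711)
theorem F34511 : act 9 n7242 = n5749 := d44_2 D5748 D7242 (iv D5749) (iv D4594) D4593
def n7243 : Q := act 5 n5749
theorem D7243 : act 5 n5749 = n7243 := rfl
theorem F34512 : act 1 n7243 = n5755 := d12_1 D7243 (iv D5755) (iv F27712)
theorem F34513 : act 2 n7243 = n7243 := d19_1 D7243 (iv D7243) F27713
theorem F34514 : act 3 n7243 = n6110 := d25_1 D7243 (iv D6110) (iv F27714)
theorem F34515 : act 7 n7243 = n5975 := d36_2 (iv F27717) D7243 (iv D5975)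
theorem F34516 : act 8 n7243 = n5751 := d37_2 D5749 D7243 (iv D5751) (iv D4596) (iv F22405)
def n7244 : Q := act 5 n5750
theorem D7244 : act 5 n5750 = n7244 := rfl
theorem F34517 : act 1 n7244 = n5756 := d12_1 D7244 (iv D5756) (iv F27718)
theorem F34518 : act 2 n7244 = n7244 := d19_1 D7244 (iv D7244) F27719
theorem F34519 : act 3 n7244 = n6109 := d25_1 D7244 (iv D6109) (iv F27720)
theorem F34520 : act 7 n7244 = n5751 := d36_2 (iv F27723) D7244 (iv D5751)
theorem F34521 : act 8 n7244 = n5975 := d37_2 D5750 D7244 (iv D5975) (iv D4770) (iv F22412)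
def n7245 : Q := act 4 n5751
theorem D7245 : act 4 n5751 = n7245 := rfl
theorem F34522 : act 1 n7245 = n5757 := d11_1 D7245 (iv D5757) (iv F27724)
theorem F34523 : act 2 n7245 = n7245 := d18_1 D7245 (iv D7245) F27725
theorem F34524 : act 5 n7245 = n5860 := d30_2 D5751 D7245 (iv D5860) (iv D4678) (iv F22417)
def n7246 : Q := act 6 n5751
theorem D7246 : act 6 n5751 = n7246 := rfl
theorem F34525 : act 1 n7246 = n5758 := d13_1 D7246 (iv D5758) (iv F27724)
theorem F34526 : act 2 n7246 = n7246 := d20_1 D7246 (iv D7246) F27725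
theorem F34527 : act 5 n7246 = n5753 := d35_1 D7246 (iv D5753) (iv D4597) (iv F22418) D5751
def n7247 : Q := act 3 n5752
theorem D7247 : act 3 n5752 = n7247 := rfl
theorem F34528 : act 1 n7247 = n5759 := d10_1 D7247 (iv D5759) (iv F27726)
theorem F34529 : act 5 n7247 = n5862 := d25_2 (iv F27728) D7247 (iv D5862)
theorem F34530 : act 7 n7247 = n7247 := d27_2 F27729 D7247 (iv D7247)
theorem F34531 : act 8 n7247 = n7247 := d28_2 F27730 D7247 (iv D7247)
def n7248 : Q := act 6 n5752
theorem D7248 : act 6 n5752 = n7248 := rfl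
theorem F34532 : act 1 n7248 = n5760 := d13_1 D7248 (iv D5760) (iv F27726)
theorem F34533 : act 2 n7248 = n7248 := d20_1 D7248 (iv D7248) F27727
theorem F34534 : act 4 n7248 = n5753 := d31_1 D7248 (iv D5753) D5752
theorem F34535 : act 8 n7248 = n7248 := d40_2 F27730 D7248 (iv D7248)
def n7249 : Q := act 7 n5753
theorem D7249 : act 7 n5753 = n7249 := rfl
theorem F34536 : act 1 n7249 = n5761 := d14_1 D7249 (iv D5761) (iv F27731)
theorem F34537 : act 2 n7249 = n7249 := d21_1 D7249 (iv D7249) F27732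
theorem F34538 : act 6 n7249 = n7249 := d39_1 D7249 (iv D7249) (iv D5753) F22421 D5753
theorem F34539 : act 8 n7249 = n7249 := d42_2 F27733 D7249 (iv D7249)
def n7250 : Q := act 5 n5754
theorem D7250 : act 5 n5754 = n7250 := rfl
theorem F34540 : act 0 n7250 = n6116 := d4_1 D7250 (iv D6116) (iv F27734)
theorem F34541 : act 2 n7250 = n5762 := d19_1 D7250 (iv D5762) (iv F27735)
theorem F34542 : act 3 n7250 = n6062 := d25_1 D7250 (iv D6062) (iv F27736)
theorem F34543 : act 7 n7250 = n5958 := d36_2 (iv F27739) D7250 (iv D5958)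
theorem F34544 : act 9 n7250 = n5755 := d38_2 (iv F27740) D7250 (iv D5755)
def n7251 : Q := act 4 n5755
theorem D7251 : act 4 n5755 = n7251 := rfl
theorem F34545 : act 0 n7251 = n6117 := d3_1 D7251 (iv D6117) (iv F27741)
theorem F34546 : act 2 n7251 = n5763 := d18_1 D7251 (iv D5763) (iv F27742)
theorem F34547 : act 5 n7251 = n7251 := d30_2 D5755 D7251 (iv D7251) (iv D5755) F22432
theorem F34548 : act 7 n7251 = n5978 := d32_2 (iv F27744) D7251 (iv D5978)
theorem F34549 : act 8 n7251 = n5757 := d33_2 (iv F27745) D7251 (iv D5757)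
def n7252 : Q := act 6 n5755
theorem D7252 : act 6 n5755 = n7252 := rfl
theorem F34550 : act 0 n7252 = n6118 := d5_1 D7252 (iv D6118) (iv F27741)
theorem F34551 : act 2 n7252 = n5764 := d20_1 D7252 (iv D5764) (iv F27742)
theorem F34552 : act 3 n7252 = n6120 := d26_1 D7252 (iv D6120) (iv F27743)
theorem F34553 : act 5 n7252 = n7252 := d35_1 D7252 (iv D7252) (iv D5755) F22433 D5755
theorem F34554 : act 8 n7252 = n5758 := d40_2 (iv F27745) D7252 (iv D5758)
def n7253 : Q := act 4 n5756
theorem D7253 : act 4 n5756 = n7253 := rfl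
theorem F34555 : act 0 n7253 = n6119 := d3_1 D7253 (iv D6119) (iv F27746)
theorem F34556 : act 2 n7253 = n5765 := d18_1 D7253 (iv D5765) (iv F27747)
theorem F34557 : act 5 n7253 = n5865 := d30_2 D5756 D7253 (iv D5865) (iv D4681) (iv F22438)
theorem F34558 : act 7 n7253 = n5757 := d32_2 (iv F27749) D7253 (iv D5757)
theorem F34559 : act 8 n7253 = n5978 := d33_2 (iv F27750) D7253 (iv D5978)
def n7254 : Q := act 6 n5756
theorem D7254 : act 6 n5756 = n7254 := rfl
theorem F34560 : act 0 n7254 = n6120 := d5_1 D7254 (iv D6120) (iv F27746)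
theorem F34561 : act 2 n7254 = n5766 := d20_1 D7254 (iv D5766) (iv F27747)
theorem F34562 : act 3 n7254 = n6118 := d26_1 D7254 (iv D6118) (iv F27748)
theorem F34563 : act 5 n7254 = n7254 := d35_1 D7254 (iv D7254) (iv D5756) F22439 D5756
theorem F34564 : act 8 n7254 = n5979 := d40_2 (iv F27750) D7254 (iv D5979)
def n7255 : Q := act 3 n5757
theorem D7255 : act 3 n5757 = n7255 := rfl
theorem F34565 : act 0 n7255 = n6121 := d2_1 D7255 (iv D6121) (iv F27751)
theorem F34566 : act 5 n7255 = n5867 := d25_2 (iv F27753) D7255 (iv D5867)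
def n7256 : Q := act 6 n5757
theorem D7256 : act 6 n5757 = n7256 := rfl
theorem F34567 : act 0 n7256 = n6122 := d5_1 D7256 (iv D6122) (iv F27751)
theorem F34568 : act 2 n7256 = n5768 := d20_1 D7256 (iv D5768) (iv F27752)
theorem F34569 : act 4 n7256 = n5758 := d31_1 D7256 (iv D5758) D5757
def n7257 : Q := act 7 n5758
theorem D7257 : act 7 n5758 = n7257 := rfl
theorem F34570 : act 0 n7257 = n6123 := d6_1 D7257 (iv D6123) (iv F27754)
theorem F34571 : act 2 n7257 = n5769 := d21_1 D7257 (iv D5769) (iv F27755)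
theorem F34572 : act 5 n7257 = n5761 := d36_1 D7257 (iv D5761) (iv F27756)
def n7258 : Q := act 6 n5759
theorem D7258 : act 6 n5759 = n7258 := rfl
theorem F34573 : act 0 n7258 = n6124 := d5_1 D7258 (iv D6124) (iv F27757)
theorem F34574 : act 2 n7258 = n7258 := d20_1 D7258 (iv D7258) F27758
theorem F34575 : act 3 n7258 = n5760 := d26_1 D7258 (iv D5760) D5759
theorem F34576 : act 8 n7258 = n7258 := d40_2 F27761 D7258 (iv D7258)
def n7259 : Q := act 5 n5760
theorem D7259 : act 5 n5760 = n7259 := rfl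
theorem F34577 : act 0 n7259 = n6125 := d4_1 D7259 (iv D6125) (iv F27762)
theorem F34578 : act 2 n7259 = n5770 := d19_1 D7259 (iv D5770) (iv F27763)
theorem F34579 : act 6 n7259 = n5871 := d35_2 D5760 D7259 (iv D5871) (iv D4685) (iv F22445)
def n7260 : Q := act 7 n5760
theorem D7260 : act 7 n5760 = n7260 := rfl
theorem F34580 : act 0 n7260 = n6126 := d6_1 D7260 (iv D6126) (iv F27762)
theorem F34581 : act 2 n7260 = n5771 := d21_1 D7260 (iv D5771) (iv F27763)
theorem F34582 : act 4 n7260 = n5761 := d32_1 D7260 (iv D5761) (iv F27764)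
theorem F34583 : act 6 n7260 = n7260 := d39_1 D7260 (iv D7260) (iv D5760) F22446 D5760
theorem F34584 : act 8 n7260 = n7260 := d42_2 F27765 D7260 (iv D7260)
def n7261 : Q := act 4 n5762
theorem D7261 : act 4 n5762 = n7261 := rfl
theorem F34585 : act 0 n7261 = n6127 := d3_1 D7261 (iv D6127) (iv F27770)
theorem F34586 : act 1 n7261 = n7261 := d11_1 D7261 (iv D7261) F27771
theorem F34587 : act 5 n7261 = n7261 := d30_2 D5762 D7261 (iv D7261) (iv D5762) F22454
theorem F34588 : act 7 n7261 = n5963 := d32_2 (iv F27773) D7261 (iv D5963)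
theorem F34589 : act 9 n7261 = n5763 := d34_2 (iv F27774) D7261 (iv D5763)
def n7262 : Q := act 6 n5762
theorem D7262 : act 6 n5762 = n7262 := rfl
theorem F34590 : act 0 n7262 = n6128 := d5_1 D7262 (iv D6128) (iv F27770)
theorem F34591 : act 1 n7262 = n7262 := d13_1 D7262 (iv D7262) F27771
theorem F34592 : act 3 n7262 = n5773 := d26_1 D7262 (iv D5773) (iv F27772)
theorem F34593 : act 5 n7262 = n7262 := d35_1 D7262 (iv D7262) (iv D5762) F22455 D5762
theorem F34594 : act 9 n7262 = n5764 := d41_2 (iv F27774) D7262 (iv D5764)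
def n7263 : Q := act 3 n5763
theorem D7263 : act 3 n5763 = n7263 := rfl
theorem F34595 : act 0 n7263 = n6129 := d2_1 D7263 (iv D6129) (iv F27775)
theorem F34596 : act 1 n7263 = n7263 := d10_1 D7263 (iv D7263) F27776
theorem F34597 : act 4 n7263 = n5774 := d24_2 D5763 D7263 (iv D5774) (iv D4612) (iv F22460)
theorem F34598 : act 5 n7263 = n7263 := d25_2 F27777 D7263 (iv D7263)
theorem F34599 : act 7 n7263 = n5983 := d27_2 (iv F27778) D7263 (iv D5983)
theorem F34600 : act 8 n7263 = n5767 := d28_2 (iv F27779) D7263 (iv D5767)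
def n7264 : Q := act 6 n5763
theorem D7264 : act 6 n5763 = n7264 := rfl
theorem F34601 : act 0 n7264 = n6130 := d5_1 D7264 (iv D6130) (iv F27775)
theorem F34602 : act 1 n7264 = n7264 := d13_1 D7264 (iv D7264) F27776
theorem F34603 : act 4 n7264 = n5764 := d31_1 D7264 (iv D5764) D5763
theorem F34604 : act 8 n7264 = n5768 := d40_2 (iv F27779) D7264 (iv D5768)
def n7265 : Q := act 7 n5764
theorem D7265 : act 7 n5764 = n7265 := rfl
theorem F34605 : act 0 n7265 = n6131 := d6_1 D7265 (iv D6131) (iv F27780)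
theorem F34606 : act 1 n7265 = n7265 := d14_1 D7265 (iv D7265) F27781
theorem F34607 : act 3 n7265 = n5776 := d27_1 D7265 (iv D5776) (iv F27782)
theorem F34608 : act 5 n7265 = n7265 := d36_1 D7265 (iv D7265) F27783
theorem F34609 : act 6 n7265 = n5985 := d39_1 D7265 (iv D5985) (iv D4776) (iv F22461) D5764
theorem F34610 : act 8 n7265 = n5769 := d42_2 (iv F27784) D7265 (iv D5769)
def n7266 : Q := act 3 n5765
theorem D7266 : act 3 n5765 = n7266 := rfl
theorem F34611 : act 0 n7266 = n6132 := d2_1 D7266 (iv D6132) (iv F27785)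
theorem F34612 : act 1 n7266 = n7266 := d10_1 D7266 (iv D7266) F27786
theorem F34613 : act 4 n7266 = n5777 := d24_2 D5765 D7266 (iv D5777) (iv D4614) (iv F22465)
theorem F34614 : act 5 n7266 = n5873 := d25_2 (iv F27787) D7266 (iv D5873)
theorem F34615 : act 7 n7266 = n5767 := d27_2 (iv F27788) D7266 (iv D5767)
theorem F34616 : act 8 n7266 = n5983 := d28_2 (iv F27789) D7266 (iv D5983)
def n7267 : Q := act 6 n5765
theorem D7267 : act 6 n5765 = n7267 := rfl
theorem F34617 : act 0 n7267 = n6133 := d5_1 D7267 (iv D6133) (iv F27785)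
theorem F34618 : act 1 n7267 = n7267 := d13_1 D7267 (iv D7267) F27786
theorem F34619 : act 4 n7267 = n5766 := d31_1 D7267 (iv D5766) D5765
theorem F34620 : act 8 n7267 = n5984 := d40_2 (iv F27789) D7267 (iv D5984)
def n7268 : Q := act 7 n5766
theorem D7268 : act 7 n5766 = n7268 := rfl
theorem F34621 : act 0 n7268 = n6134 := d6_1 D7268 (iv D6134) (iv F27790)
theorem F34622 : act 1 n7268 = n7268 := d14_1 D7268 (iv D7268) F27791
theorem F34623 : act 3 n7268 = n5779 := d27_1 D7268 (iv D5779) (iv F27792)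
theorem F34624 : act 5 n7268 = n7268 := d36_1 D7268 (iv D7268) F27793
theorem F34625 : act 6 n7268 = n5769 := d39_1 D7268 (iv D5769) (iv D4608) (iv F22466) D5766
theorem F34626 : act 8 n7268 = n5985 := d42_2 (iv F27794) D7268 (iv D5985)
def n7269 : Q := act 2 n5767
theorem D7269 : act 2 n5767 = n7269 := rfl
theorem F34627 : act 0 n7269 = n6135 := d1_1 D7269 (iv D6135) (iv F27795)
theorem F34628 : act 4 n7269 = n5780 := d18_2 (iv F27797) D7269 (iv D5780)
theorem F34629 : act 5 n7269 = n5876 := d19_2 (iv F27798) D7269 (iv D5876)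
def n7270 : Q := act 6 n5767
theorem D7270 : act 6 n5767 = n7270 := rfl
theorem F34630 : act 0 n7270 = n6136 := d5_1 D7270 (iv D6136) (iv F27795)
theorem F34631 : act 1 n7270 = n7270 := d13_1 D7270 (iv D7270) F27796
theorem F34632 : act 3 n7270 = n5768 := d26_1 D7270 (iv D5768) D5767
theorem F34633 : act 4 n7270 = n5781 := d31_1 D7270 (iv D5781) (iv F27797)
def n7271 : Q := act 5 n5768
theorem D7271 : act 5 n5768 = n7271 := rfl
theorem F34634 : act 0 n7271 = n6137 := d4_1 D7271 (iv D6137) (iv F27799)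
theorem F34635 : act 1 n7271 = n7271 := d12_1 D7271 (iv D7271) F27800
theorem F34636 : act 4 n7271 = n5770 := d30_1 D7271 (iv D5770) F22478 (iv F22474) (iv F27801)
theorem F34637 : act 6 n7271 = n5878 := d35_2 D5768 D7271 (iv D5878) (iv D4690) (iv F22470)
def n7272 : Q := act 7 n5768
theorem D7272 : act 7 n5768 = n7272 := rfl
theorem F34638 : act 0 n7272 = n6138 := d6_1 D7272 (iv D6138) (iv F27799)
theorem F34639 : act 1 n7272 = n7272 := d14_1 D7272 (iv D7272) F27800
theorem F34640 : act 4 n7272 = n5769 := d32_1 D7272 (iv D5769) (iv F27801)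
def n7273 : Q := act 7 n5770
theorem D7273 : act 7 n5770 = n7273 := rfl
theorem F34641 : act 0 n7273 = n6139 := d6_1 D7273 (iv D6139) (iv F27806)
theorem F34642 : act 1 n7273 = n7273 := d14_1 D7273 (iv D7273) F27807
theorem F34643 : act 3 n7273 = n7273 := d27_1 D7273 (iv D7273) F27808
theorem F34644 : act 5 n7273 = n5771 := d36_1 D7273 (iv D5771) D5770
def n7274 : Q := act 8 n5770
theorem D7274 : act 8 n5770 = n7274 := rfl
theorem F34645 : act 0 n7274 = n6140 := d7_1 D7274 (iv D6140) (iv F27806)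
theorem F34646 : act 1 n7274 = n7274 := d15_1 D7274 (iv D7274) F27807
theorem F34647 : act 3 n7274 = n7274 := d28_1 D7274 (iv D7274) F27808
theorem F34648 : act 5 n7274 = n7274 := d37_1 D7274 (iv D7274) (iv D5770) F22479 D5770
theorem F34649 : act 6 n7274 = n5881 := d40_1 D7274 (iv D5881) (iv F27809)
def n7275 : Q := act 3 n5772
theorem D7275 : act 3 n5772 = n7275 := rfl
theorem F34650 : act 0 n7275 = n6141 := d2_1 D7275 (iv D6141) (iv F27816)
theorem F34651 : act 1 n7275 = n7275 := d10_1 D7275 (iv D7275) F27817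
theorem F34652 : act 5 n7275 = n5787 := d25_2 (iv F27819) D7275 (iv D5787)
theorem F34653 : act 7 n7275 = n5969 := d27_2 (iv F27820) D7275 (iv D5969)
theorem F34654 : act 9 n7275 = n5774 := d29_2 (iv F27821) D7275 (iv D5774)
def n7276 : Q := act 6 n5772
theorem D7276 : act 6 n5772 = n7276 := rfl
theorem F34655 : act 0 n7276 = n6142 := d5_1 D7276 (iv D6142) (iv F27816)
theorem F34656 : act 1 n7276 = n7276 := d13_1 D7276 (iv D7276) F27817
theorem F34657 : act 2 n7276 = n6093 := d20_1 D7276 (iv D6093) (iv F27818)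
theorem F34658 : act 4 n7276 = n5773 := d31_1 D7276 (iv D5773) D5772
theorem F34659 : act 9 n7276 = n5775 := d41_2 (iv F27821) D7276 (iv D5775)
def n7277 : Q := act 7 n5773
theorem D7277 : act 7 n5773 = n7277 := rfl
theorem F34660 : act 0 n7277 = n6143 := d6_1 D7277 (iv D6143) (iv F27822)
theorem F34661 : act 1 n7277 = n7277 := d14_1 D7277 (iv D7277) F27823
theorem F34662 : act 2 n7277 = n6094 := d21_1 D7277 (iv D6094) (iv F27824)
theorem F34663 : act 5 n7277 = n7277 := d36_1 D7277 (iv D7277) F27825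
theorem F34664 : act 6 n7277 = n5971 := d39_1 D7277 (iv D5971) (iv D4765) (iv F22488) D5773
theorem F34665 : act 9 n7277 = n5776 := d43_2 (iv F27826) D7277 (iv D5776)
def n7278 : Q := act 2 n5774
theorem D7278 : act 2 n5774 = n7278 := rfl
theorem F34666 : act 0 n7278 = n6144 := d1_1 D7278 (iv D6144) (iv F27827)
theorem F34667 : act 3 n7278 = n6148 := d17_2 D5774 D7278 (iv D6148) (iv D4904) (iv F22492)
theorem F34668 : act 5 n7278 = n5789 := d19_2 (iv F27829) D7278 (iv D5789)
theorem F34669 : act 7 n7278 = n5988 := d21_2 (iv F27830) D7278 (iv D5988)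
theorem F34670 : act 8 n7278 = n5780 := d22_2 (iv F27831) D7278 (iv D5780)
def n7279 : Q := act 6 n5774
theorem D7279 : act 6 n5774 = n7279 := rfl
theorem F34671 : act 0 n7279 = n6145 := d5_1 D7279 (iv D6145) (iv F27827)
theorem F34672 : act 1 n7279 = n7279 := d13_1 D7279 (iv D7279) F27828
theorem F34673 : act 3 n7279 = n5775 := d26_1 D7279 (iv D5775) D5774
theorem F34674 : act 8 n7279 = n5781 := d40_2 (iv F27831) D7279 (iv D5781)
def n7280 : Q := act 5 n5775
theorem D7280 : act 5 n5775 = n7280 := rfl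
theorem F34675 : act 0 n7280 = n6146 := d4_1 D7280 (iv D6146) (iv F27832)
theorem F34676 : act 1 n7280 = n7280 := d12_1 D7280 (iv D7280) F27833
theorem F34677 : act 2 n7280 = n6150 := d19_1 D7280 (iv D6150) (iv F27834)
theorem F34678 : act 4 n7280 = n7280 := d30_1 D7280 (iv D7280) F27835 F22499 (iv F27835)
theorem F34679 : act 6 n7280 = n5791 := d35_2 D5775 D7280 (iv D5791) (iv D4625) (iv F22493)
theorem F34680 : act 8 n7280 = n7280 := d37_2 (iv F27836) D7280 (iv D7280) F27836 F22518
def n7281 : Q := act 7 n5775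
theorem D7281 : act 7 n5775 = n7281 := rfl
theorem F34681 : act 0 n7281 = n6147 := d6_1 D7281 (iv D6147) (iv F27832)
theorem F34682 : act 1 n7281 = n7281 := d14_1 D7281 (iv D7281) F27833
theorem F34683 : act 2 n7281 = n6151 := d21_1 D7281 (iv D6151) (iv F27834)
theorem F34684 : act 4 n7281 = n5776 := d32_1 D7281 (iv D5776) (iv F27835)
theorem F34685 : act 6 n7281 = n5990 := d39_1 D7281 (iv D5990) (iv D4780) (iv F22494) D5775
theorem F34686 : act 8 n7281 = n5782 := d42_2 (iv F27836) D7281 (iv D5782)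
def n7282 : Q := act 2 n5777
theorem D7282 : act 2 n5777 = n7282 := rfl
theorem F34687 : act 0 n7282 = n6148 := d1_1 D7282 (iv D6148) (iv F27843)
theorem F34688 : act 3 n7282 = n6144 := d17_2 D5777 D7282 (iv D6144) (iv D4901) (iv F22503)
theorem F34689 : act 5 n7282 = n5783 := d19_2 (iv F27845) D7282 (iv D5783)
theorem F34690 : act 7 n7282 = n5780 := d21_2 (iv F27846) D7282 (iv D5780)
theorem F34691 : act 8 n7282 = n5988 := d22_2 (iv F27847) D7282 (iv D5988)
def n7283 : Q := act 6 n5777
theorem D7283 : act 6 n5777 = n7283 := rfl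
theorem F34692 : act 0 n7283 = n6149 := d5_1 D7283 (iv D6149) (iv F27843)
theorem F34693 : act 1 n7283 = n7283 := d13_1 D7283 (iv D7283) F27844
theorem F34694 : act 3 n7283 = n5778 := d26_1 D7283 (iv D5778) D5777
theorem F34695 : act 8 n7283 = n5989 := d40_2 (iv F27847) D7283 (iv D5989)
def n7284 : Q := act 5 n5778
theorem D7284 : act 5 n5778 = n7284 := rfl
theorem F34696 : act 0 n7284 = n6150 := d4_1 D7284 (iv D6150) (iv F27848)
theorem F34697 : act 1 n7284 = n7284 := d12_1 D7284 (iv D7284) F27849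
theorem F34698 : act 2 n7284 = n6146 := d19_1 D7284 (iv D6146) (iv F27850)
theorem F34699 : act 4 n7284 = n7284 := d30_1 D7284 (iv D7284) F27851 F22510 (iv F27851)
theorem F34700 : act 6 n7284 = n5785 := d35_2 D5778 D7284 (iv D5785) (iv D4620) (iv F22504)
theorem F34701 : act 8 n7284 = n7284 := d37_2 (iv F27852) D7284 (iv D7284) F27852 F23325
def n7285 : Q := act 7 n5778
theorem D7285 : act 7 n5778 = n7285 := rfl
theorem F34702 : act 0 n7285 = n6151 := d6_1 D7285 (iv D6151) (iv F27848)
theorem F34703 : act 1 n7285 = n7285 := d14_1 D7285 (iv D7285) F27849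
theorem F34704 : act 2 n7285 = n6147 := d21_1 D7285 (iv D6147) (iv F27850)
theorem F34705 : act 4 n7285 = n5779 := d32_1 D7285 (iv D5779) (iv F27851)
theorem F34706 : act 6 n7285 = n5782 := d39_1 D7285 (iv D5782) (iv D4617) (iv F22505) D5778
theorem F34707 : act 8 n7285 = n5990 := d42_2 (iv F27852) D7285 (iv D5990)
def n7286 : Q := act 1 n5780
theorem D7286 : act 1 n5780 = n7286 := rfl
theorem F34708 : act 2 n7286 = n7286 := d9_2 D5780 D7286 (iv D7286) (iv D5780) F22513
theorem F34709 : act 5 n7286 = n5786 := d12_2 (iv F27860) D7286 (iv D5786)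
def n7287 : Q := act 6 n5780
theorem D7287 : act 6 n5780 = n7287 := rfl
theorem F34710 : act 0 n7287 = n6153 := d5_1 D7287 (iv D6153) (iv F27859)
theorem F34711 : act 2 n7287 = n5781 := d20_1 D7287 (iv D5781) D5780
theorem F34712 : act 5 n7287 = n7287 := d35_1 D7287 (iv D7287) F27860 F22535 (iv F27860)
def n7288 : Q := act 7 n5781
theorem D7288 : act 7 n5781 = n7288 := rfl
theorem F34713 : act 0 n7288 = n6154 := d6_1 D7288 (iv D6154) (iv F27861)
theorem F34714 : act 1 n7288 = n7288 := d14_1 D7288 (iv D7288) F27862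
theorem F34715 : act 3 n7288 = n5782 := d27_1 D7288 (iv D5782) (iv F27863)
theorem F34716 : act 5 n7288 = n7288 := d36_1 D7288 (iv D7288) F27864
def n7289 : Q := act 1 n5783
theorem D7289 : act 1 n5783 = n7289 := rfl
theorem F34717 : act 2 n7289 = n7289 := d9_2 D5783 D7289 (iv D7289) (iv D5783) F22523
theorem F34718 : act 3 n7289 = n6162 := d10_2 (iv F27870) D7289 (iv D6162)
theorem F34719 : act 4 n7289 = n5889 := d11_2 (iv F27871) D7289 (iv D5889)
theorem F34720 : act 7 n7289 = n5786 := d14_2 (iv F27872) D7289 (iv D5786)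
theorem F34721 : act 8 n7289 = n5794 := d15_2 (iv F27873) D7289 (iv D5794)
def n7290 : Q := act 6 n5783
theorem D7290 : act 6 n5783 = n7290 := rfl
theorem F34722 : act 0 n7290 = n6156 := d5_1 D7290 (iv D6156) (iv F27869)
theorem F34724 : act 3 n7290 = n6163 := d26_1 D7290 (iv D6163) (iv F27870)
theorem F34725 : act 4 n7290 = n5890 := d31_1 D7290 (iv D5890) (iv F27871)
def n7291 : Q := act 5 n5784
theorem D7291 : act 5 n5784 = n7291 := rfl
theorem F34728 : act 0 n7291 = n6157 := d4_1 D7291 (iv D6157) (iv F27874)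
theorem F34730 : act 3 n7291 = n5785 := d25_1 D7291 (iv D5785) (iv F27876)
def n7292 : Q := act 0 n5786
theorem D7292 : act 0 n5786 = n7292 := rfl
theorem F34733 : act 1 n7292 = n6158 := d0_2 D5786 D7292 (iv D6158) (iv D4913) (iv F22533)
theorem F34734 : act 2 n7292 = n7292 := d1_2 F27886 D7292 (iv D7292)
theorem F34736 : act 6 n7292 = n7292 := d5_2 F27888 D7292 (iv D7292)
theorem F34737 : act 8 n7292 = n5796 := d7_2 (iv F27889) D7292 (iv D5796)
def n7293 : Q := act 2 n5787
theorem D7293 : act 2 n5787 = n7293 := rfl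
theorem F34738 : act 0 n7293 = n6159 := d1_1 D7293 (iv D6159) (iv F27890)
theorem F34739 : act 3 n7293 = n6098 := d17_2 D5787 D7293 (iv D6098) (iv D4867) (iv F22539)
theorem F34740 : act 4 n7293 = n7293 := d18_2 F27892 D7293 (iv D7293)
theorem F34741 : act 7 n7293 = n5972 := d21_2 (iv F27893) D7293 (iv D5972)
theorem F34742 : act 8 n7293 = n7293 := d22_2 F27894 D7293 (iv D7293)
theorem F34743 : act 9 n7293 = n5789 := d23_2 (iv F27895) D7293 (iv D5789)
def n7294 : Q := act 6 n5787
theorem D7294 : act 6 n5787 = n7294 := rfl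
theorem F34744 : act 0 n7294 = n6160 := d5_1 D7294 (iv D6160) (iv F27890)
theorem F34745 : act 1 n7294 = n7294 := d13_1 D7294 (iv D7294) F27891
theorem F34746 : act 3 n7294 = n5788 := d26_1 D7294 (iv D5788) D5787
theorem F34747 : act 4 n7294 = n7294 := d31_1 D7294 (iv D7294) F27892
theorem F34748 : act 7 n7294 = n7294 := d39_2 (iv F27893) D7294 (iv D7294) F27893 F23275
theorem F34749 : act 8 n7294 = n7294 := d40_2 F27894 D7294 (iv D7294)
theorem F34750 : act 9 n7294 = n5790 := d41_2 (iv F27895) D7294 (iv D5790)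
def n7295 : Q := act 5 n5788
theorem D7295 : act 5 n5788 = n7295 := rfl
theorem F34751 : act 0 n7295 = n6161 := d4_1 D7295 (iv D6161) (iv F27896)
theorem F34752 : act 1 n7295 = n7295 := d12_1 D7295 (iv D7295) F27897
theorem F34753 : act 2 n7295 = n6100 := d19_1 D7295 (iv D6100) (iv F27898)
theorem F34754 : act 4 n7295 = n7295 := d30_1 D7295 (iv D7295) F27899 F22547 (iv F27899)
theorem F34755 : act 7 n7295 = n7295 := d36_2 F27900 D7295 (iv D7295)
theorem F34756 : act 9 n7295 = n5791 := d38_2 (iv F27902) D7295 (iv D5791)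
def n7296 : Q := act 1 n5789
theorem D7296 : act 1 n5789 = n7296 := rfl
theorem F34758 : act 3 n7296 = n6155 := d10_2 (iv F27904) D7296 (iv D6155)
theorem F34760 : act 7 n7296 = n5991 := d14_2 (iv F27906) D7296 (iv D5991)
def n7297 : Q := act 6 n5789
theorem D7297 : act 6 n5789 = n7297 := rfl
theorem F34763 : act 2 n7297 = n5790 := d20_1 D7297 (iv D5790) D5789
theorem F34764 : act 3 n7297 = n6156 := d26_1 D7297 (iv D6156) (iv F27904)
theorem F34767 : act 8 n7297 = n5793 := d40_2 (iv F27907) D7297 (iv D5793)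
def n7298 : Q := act 5 n5790
theorem D7298 : act 5 n5790 = n7298 := rfl
theorem F34768 : act 0 n7298 = n6164 := d4_1 D7298 (iv D6164) (iv F27908)
theorem F34769 : act 1 n7298 = n7298 := d12_1 D7298 (iv D7298) F27909
theorem F34770 : act 3 n7298 = n5791 := d25_1 D7298 (iv D5791) (iv F27910)
theorem F34771 : act 7 n7298 = n7298 := d36_2 F27912 D7298 (iv D7298)
theorem F34772 : act 8 n7298 = n7298 := d37_2 (iv F27913) D7298 (iv D7298) F27913 F22572
def n7299 : Q := act 0 n5792
theorem D7299 : act 0 n5792 = n7299 := rfl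
theorem F34775 : act 3 n7299 = n6167 := d2_2 (iv F27921) D7299 (iv D6167)
theorem F34777 : act 5 n7299 = n5796 := d4_2 (iv F27923) D7299 (iv D5796)
theorem F34778 : act 7 n7299 = n5992 := d6_2 (iv F27924) D7299 (iv D5992)
def n7300 : Q := act 6 n5792
theorem D7300 : act 6 n5792 = n7300 := rfl
theorem F34782 : act 3 n7300 = n6168 := d26_1 D7300 (iv D6168) (iv F27921)
def n7301 : Q := act 0 n5794
theorem D7301 : act 0 n5794 = n7301 := rfl
theorem F34789 : act 3 n7301 = n6165 := d2_2 (iv F27934) D7301 (iv D6165)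
theorem F34790 : act 4 n7301 = n5894 := d3_2 (iv F27935) D7301 (iv D5894)
theorem F34791 : act 5 n7301 = n5992 := d4_2 (iv F27936) D7301 (iv D5992)
theorem F34792 : act 7 n7301 = n5796 := d6_2 (iv F27937) D7301 (iv D5796)
def n7302 : Q := act 6 n5794
theorem D7302 : act 6 n5794 = n7302 := rfl
theorem F34794 : act 1 n7302 = n5795 := d13_1 D7302 (iv D5795) D5794
theorem F34796 : act 3 n7302 = n6166 := d26_1 D7302 (iv D6166) (iv F27934)
theorem F34797 : act 4 n7302 = n5895 := d31_1 D7302 (iv D5895) (iv F27935)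
def n7303 : Q := act 9 n5797
theorem D7303 : act 9 n5797 = n7303 := rfl
theorem F34801 : act 0 n7303 = n5805 := d8_1 D7303 (iv D5805) (iv F27951)
theorem F34802 : act 1 n7303 = n5929 := d16_1 D7303 (iv D5929) (iv F27952)
theorem F34803 : act 2 n7303 = n7303 := d23_1 D7303 (iv D7303) F27953
theorem F34804 : act 3 n7303 = n6000 := d29_1 D7303 (iv D6000) F27956
theorem F34805 : act 4 n7303 = n5799 := d34_1 D7303 (iv D5799) D5797
theorem F34806 : act 6 n7303 = n7303 := d41_1 D7303 (iv D7303) F27954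
theorem F34807 : act 7 n7303 = n5924 := d43_1 D7303 (iv D5924) F27957
def n7304 : Q := act 9 n5798
theorem D7304 : act 9 n5798 = n7304 := rfl
theorem F34808 : act 0 n7304 = n5807 := d8_1 D7304 (iv D5807) (iv F27958)
theorem F34809 : act 1 n7304 = n5914 := d16_1 D7304 (iv D5914) (iv F27959)
theorem F34810 : act 2 n7304 = n7304 := d23_1 D7304 (iv D7304) F27960
theorem F34811 : act 3 n7304 = n7304 := d29_1 D7304 (iv D7304) F27961
theorem F34812 : act 4 n7304 = n5924 := d34_1 D7304 (iv D5924) (iv F27962)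
theorem F34813 : act 5 n7304 = n5800 := d38_1 D7304 (iv D5800) (iv F27963)
theorem F34814 : act 6 n7304 = n5913 := d41_1 D7304 (iv D5913) F27965
theorem F34815 : act 7 n7304 = n5799 := d43_1 D7304 (iv D5799) D5798
def n7305 : Q := act 8 n5799
theorem D7305 : act 8 n5799 = n7305 := rfl
theorem F34816 : act 0 n7305 = n5808 := d7_1 D7305 (iv D5808) (iv F27966)
theorem F34817 : act 1 n7305 = n6169 := d15_1 D7305 (iv D6169) (iv F27967)
theorem F34818 : act 2 n7305 = n7305 := d22_1 D7305 (iv D7305) F27968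
theorem F34819 : act 3 n7305 = n7305 := d28_1 D7305 (iv D7305) F27969
theorem F34820 : act 6 n7305 = n7305 := d40_1 D7305 (iv D7305) F27971
theorem F34821 : act 9 n7305 = n7305 := d44_2 D5799 D7305 (iv D7305) (iv D5799) F22597
def n7306 : Q := act 8 n5800
theorem D7306 : act 8 n5800 = n7306 := rfl
theorem F34822 : act 0 n7306 = n5809 := d7_1 D7306 (iv D5809) (iv F27972)
theorem F34823 : act 1 n7306 = n6170 := d15_1 D7306 (iv D6170) (iv F27973)
theorem F34824 : act 2 n7306 = n7306 := d22_1 D7306 (iv D7306) F27974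
theorem F34825 : act 3 n7306 = n7306 := d28_1 D7306 (iv D7306) F27975
theorem F34826 : act 6 n7306 = n7306 := d40_1 D7306 (iv D7306) F27976
theorem F34827 : act 7 n7306 = n5801 := d42_1 D7306 (iv D5801) (iv F27977)
theorem F34828 : act 9 n7306 = n5855 := d44_2 D5800 D7306 (iv D5855) (iv D4674) (iv F22603)
def n7307 : Q := act 5 n5801
theorem D7307 : act 5 n5801 = n7307 := rfl
theorem F34829 : act 0 n7307 = n5810 := d4_1 D7307 (iv D5810) (iv F27978)
theorem F34830 : act 1 n7307 = n6171 := d12_1 D7307 (iv D6171) (iv F27979)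
theorem F34831 : act 2 n7307 = n7307 := d19_1 D7307 (iv D7307) F27980
theorem F34832 : act 3 n7307 = n7307 := d25_1 D7307 (iv D7307) F27981
theorem F34833 : act 9 n7307 = n5856 := d38_2 (iv F27983) D7307 (iv D5856)
def n7308 : Q := act 4 n5802
theorem D7308 : act 4 n5802 = n7308 := rfl
theorem F34834 : act 0 n7308 = n5811 := d3_1 D7308 (iv D5811) (iv F27984)
theorem F34835 : act 1 n7308 = n6172 := d11_1 D7308 (iv D6172) (iv F27985)
theorem F34836 : act 2 n7308 = n7308 := d18_1 D7308 (iv D7308) F27986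
theorem F34837 : act 7 n7308 = n7308 := d32_2 F27988 D7308 (iv D7308)
theorem F34838 : act 8 n7308 = n7308 := d33_2 F27989 D7308 (iv D7308)
theorem F34839 : act 9 n7308 = n5857 := d34_2 (iv F27990) D7308 (iv D5857)
def n7309 : Q := act 6 n5802
theorem D7309 : act 6 n5802 = n7309 := rfl
theorem F34840 : act 0 n7309 = n5812 := d5_1 D7309 (iv D5812) (iv F27984)
theorem F34841 : act 1 n7309 = n6173 := d13_1 D7309 (iv D6173) (iv F27985)
theorem F34842 : act 2 n7309 = n7309 := d20_1 D7309 (iv D7309) F27986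
theorem F34843 : act 3 n7309 = n7309 := d26_1 D7309 (iv D7309) F27987
theorem F34844 : act 8 n7309 = n7309 := d40_2 F27989 D7309 (iv D7309)
theorem F34845 : act 9 n7309 = n5858 := d41_2 (iv F27990) D7309 (iv D5858)
def n7310 : Q := act 9 n5803
theorem D7310 : act 9 n5803 = n7310 := rfl
theorem F34846 : act 0 n7310 = n6000 := d8_1 D7310 (iv D6000) (iv F27991)
theorem F34847 : act 1 n7310 = n5813 := d16_1 D7310 (iv D5813) (iv F27992)
theorem F34848 : act 2 n7310 = n6314 := d23_1 D7310 (iv D6314) (iv F27997)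
theorem F34849 : act 3 n7310 = n5805 := d29_1 D7310 (iv D5805) D5803
theorem F34850 : act 4 n7310 = n7310 := d34_1 D7310 (iv D7310) F27993
theorem F34851 : act 6 n7310 = n7310 := d41_1 D7310 (iv D7310) F27994
theorem F34852 : act 7 n7310 = n5994 := d43_1 D7310 (iv D5994) F27996
def n7311 : Q := act 9 n5804
theorem D7311 : act 9 n5804 = n7311 := rfl
theorem F34853 : act 0 n7311 = n5924 := d8_1 D7311 (iv D5924) (iv F27998)
theorem F34854 : act 1 n7311 = n5814 := d16_1 D7311 (iv D5814) (iv F27999)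
theorem F34855 : act 2 n7311 = n7311 := d23_1 D7311 (iv D7311) F28000
theorem F34856 : act 3 n7311 = n5994 := d29_1 D7311 (iv D5994) (iv F28001)
theorem F34857 : act 4 n7311 = n5807 := d34_1 D7311 (iv D5807) (iv F28002)
theorem F34858 : act 6 n7311 = n5922 := d41_1 D7311 (iv D5922) F28004
theorem F34859 : act 7 n7311 = n5805 := d43_1 D7311 (iv D5805) D5804
def n7312 : Q := act 8 n5805
theorem D7312 : act 8 n5805 = n7312 := rfl
theorem F34860 : act 1 n7312 = n5815 := d15_1 D7312 (iv D5815) (iv F28005)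
theorem F34861 : act 2 n7312 = n7312 := d22_1 D7312 (iv D7312) F28006
theorem F34862 : act 4 n7312 = n5808 := d33_1 D7312 (iv D5808) (iv F28007)
theorem F34863 : act 6 n7312 = n7312 := d40_1 D7312 (iv D7312) F28008
theorem F34864 : act 9 n7312 = n7312 := d44_2 D5805 D7312 (iv D7312) (iv D5805) F22618
def n7313 : Q := act 9 n5806
theorem D7313 : act 9 n5806 = n7313 := rfl
theorem F34865 : act 0 n7313 = n5913 := d8_1 D7313 (iv D5913) (iv F28009)
theorem F34866 : act 1 n7313 = n5816 := d16_1 D7313 (iv D5816) (iv F28010)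
theorem F34867 : act 2 n7313 = n7313 := d23_1 D7313 (iv D7313) F28011
theorem F34868 : act 3 n7313 = n7313 := d29_1 D7313 (iv D7313) F28012
theorem F34869 : act 4 n7313 = n5922 := d34_1 D7313 (iv D5922) (iv F28013)
theorem F34870 : act 5 n7313 = n7313 := d38_1 D7313 (iv D7313) F28014
theorem F34871 : act 6 n7313 = n5807 := d41_1 D7313 (iv D5807) D5806
theorem F34872 : act 7 n7313 = n7313 := d43_1 D7313 (iv D7313) F28015
def n7314 : Q := act 8 n5807
theorem D7314 : act 8 n5807 = n7314 := rfl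
theorem F34873 : act 1 n7314 = n5817 := d15_1 D7314 (iv D5817) (iv F28017)
theorem F34874 : act 2 n7314 = n7314 := d22_1 D7314 (iv D7314) F28018
theorem F34875 : act 3 n7314 = n7314 := d28_1 D7314 (iv D7314) F28019
theorem F34876 : act 7 n7314 = n5808 := d42_1 D7314 (iv D5808) (iv F28021)
theorem F34877 : act 9 n7314 = n7314 := d44_2 D5807 D7314 (iv D7314) (iv D5807) F22623
def n7315 : Q := act 5 n5808
theorem D7315 : act 5 n5808 = n7315 := rfl
theorem F34878 : act 1 n7315 = n5818 := d12_1 D7315 (iv D5818) (iv F28022)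
theorem F34879 : act 2 n7315 = n7315 := d19_1 D7315 (iv D7315) F28023
theorem F34880 : act 3 n7315 = n7315 := d25_1 D7315 (iv D7315) F28024
theorem F34881 : act 8 n7315 = n5810 := d37_2 D5808 D7315 (iv D5810) (iv D4639) (iv F22627)
theorem F34882 : act 9 n7315 = n7315 := d38_2 F28026 D7315 (iv D7315)
def n7316 : Q := act 5 n5809
theorem D7316 : act 5 n5809 = n7316 := rfl
theorem F34883 : act 1 n7316 = n5819 := d12_1 D7316 (iv D5819) (iv F28027)
theorem F34884 : act 2 n7316 = n7316 := d19_1 D7316 (iv D7316) F28028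
theorem F34885 : act 3 n7316 = n7316 := d25_1 D7316 (iv D7316) F28029
theorem F34886 : act 7 n7316 = n5810 := d36_2 (iv F28031) D7316 (iv D5810)
theorem F34887 : act 9 n7316 = n5859 := d38_2 (iv F28032) D7316 (iv D5859)
def n7317 : Q := act 4 n5810
theorem D7317 : act 4 n5810 = n7317 := rfl
theorem F34888 : act 1 n7317 = n5820 := d11_1 D7317 (iv D5820) (iv F28033)
theorem F34889 : act 2 n7317 = n7317 := d18_1 D7317 (iv D7317) F28034
theorem F34890 : act 9 n7317 = n5860 := d34_2 (iv F28036) D7317 (iv D5860)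
def n7318 : Q := act 6 n5810
theorem D7318 : act 6 n5810 = n7318 := rfl
theorem F34891 : act 1 n7318 = n5821 := d13_1 D7318 (iv D5821) (iv F28033)
theorem F34892 : act 2 n7318 = n7318 := d20_1 D7318 (iv D7318) F28034
theorem F34893 : act 3 n7318 = n7318 := d26_1 D7318 (iv D7318) F28035
theorem F34894 : act 5 n7318 = n5812 := d35_1 D7318 (iv D5812) (iv D4640) (iv F22637) D5810
theorem F34895 : act 9 n7318 = n5861 := d41_2 (iv F28036) D7318 (iv D5861)
def n7319 : Q := act 3 n5811
theorem D7319 : act 3 n5811 = n7319 := rfl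
theorem F34896 : act 1 n7319 = n5822 := d10_1 D7319 (iv D5822) (iv F28037)
theorem F34897 : act 4 n7319 = n7319 := d24_2 D5811 D7319 (iv D7319) (iv D5811) F22641
theorem F34898 : act 7 n7319 = n7319 := d27_2 F28039 D7319 (iv D7319)
theorem F34899 : act 8 n7319 = n7319 := d28_2 F28040 D7319 (iv D7319)
theorem F34900 : act 9 n7319 = n5862 := d29_2 (iv F28041) D7319 (iv D5862)
def n7320 : Q := act 6 n5811
theorem D7320 : act 6 n5811 = n7320 := rfl
theorem F34901 : act 1 n7320 = n5823 := d13_1 D7320 (iv D5823) (iv F28037)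
theorem F34902 : act 2 n7320 = n7320 := d20_1 D7320 (iv D7320) F28038
theorem F34903 : act 4 n7320 = n5812 := d31_1 D7320 (iv D5812) D5811
theorem F34904 : act 8 n7320 = n7320 := d40_2 F28040 D7320 (iv D7320)
theorem F34905 : act 9 n7320 = n5863 := d41_2 (iv F28041) D7320 (iv D5863)
def n7321 : Q := act 7 n5812
theorem D7321 : act 7 n5812 = n7321 := rfl
theorem F34906 : act 1 n7321 = n5824 := d14_1 D7321 (iv D5824) (iv F28042)
theorem F34907 : act 2 n7321 = n7321 := d21_1 D7321 (iv D7321) F28043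
theorem F34908 : act 3 n7321 = n7321 := d27_1 D7321 (iv D7321) F28044
theorem F34909 : act 6 n7321 = n7321 := d39_1 D7321 (iv D7321) (iv D5812) F22642 D5812
theorem F34910 : act 8 n7321 = n7321 := d42_2 F28045 D7321 (iv D7321)
theorem F34911 : act 9 n7321 = n5864 := d43_2 (iv F28046) D7321 (iv D5864)
def n7322 : Q := act 8 n5813
theorem D7322 : act 8 n5813 = n7322 := rfl
theorem F34912 : act 0 n7322 = n6183 := d7_1 D7322 (iv D6183) (iv F28047)
theorem F34913 : act 2 n7322 = n7322 := d22_1 D7322 (iv D7322) F28048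
theorem F34914 : act 3 n7322 = n5815 := d28_1 D7322 (iv D5815) (iv F28049)
theorem F34915 : act 4 n7322 = n7322 := d33_1 D7322 (iv D7322) F28050
theorem F34916 : act 6 n7322 = n7322 := d40_1 D7322 (iv D7322) F28051
theorem F34917 : act 9 n7322 = n7322 := d44_2 D5813 D7322 (iv D7322) (iv D5813) F22649
def n7323 : Q := act 8 n5814
theorem D7323 : act 8 n5814 = n7323 := rfl
theorem F34918 : act 0 n7323 = n6184 := d7_1 D7323 (iv D6184) (iv F28052)
theorem F34919 : act 2 n7323 = n5826 := d22_1 D7323 (iv D5826) (iv F28053)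
theorem F34920 : act 4 n7323 = n5817 := d33_1 D7323 (iv D5817) (iv F28054)
theorem F34921 : act 7 n7323 = n5815 := d42_1 D7323 (iv D5815) (iv F28055)
theorem F34922 : act 9 n7323 = n7323 := d44_2 D5814 D7323 (iv D7323) (iv D5814) F22653
def n7324 : Q := act 5 n5815
theorem D7324 : act 5 n5815 = n7324 := rfl
theorem F34923 : act 0 n7324 = n6185 := d4_1 D7324 (iv D6185) (iv F28056)
theorem F34924 : act 2 n7324 = n5827 := d19_1 D7324 (iv D5827) (iv F28057)
theorem F34925 : act 9 n7324 = n7324 := d38_2 F28060 D7324 (iv D7324)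
def n7325 : Q := act 8 n5816
theorem D7325 : act 8 n5816 = n7325 := rfl
theorem F34926 : act 0 n7325 = n6186 := d7_1 D7325 (iv D6186) (iv F28061)
theorem F34927 : act 2 n7325 = n5828 := d22_1 D7325 (iv D5828) (iv F28062)
theorem F34928 : act 3 n7325 = n7325 := d28_1 D7325 (iv D7325) F28063
theorem F34929 : act 6 n7325 = n5817 := d40_1 D7325 (iv D5817) (iv F28065)
theorem F34930 : act 7 n7325 = n7325 := d42_1 D7325 (iv D7325) F28066
theorem F34931 : act 9 n7325 = n7325 := d44_2 D5816 D7325 (iv D7325) (iv D5816) F22663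
def n7326 : Q := act 5 n5817
theorem D7326 : act 5 n5817 = n7326 := rfl
theorem F34932 : act 0 n7326 = n6187 := d4_1 D7326 (iv D6187) (iv F28067)
theorem F34933 : act 2 n7326 = n5829 := d19_1 D7326 (iv D5829) (iv F28068)
theorem F34934 : act 3 n7326 = n7326 := d25_1 D7326 (iv D7326) F28069
theorem F34935 : act 7 n7326 = n5818 := d36_2 (iv F28070) D7326 (iv D5818)
theorem F34936 : act 8 n7326 = n5819 := d37_2 D5817 D7326 (iv D5819) (iv D4647) (iv F22667)
theorem F34937 : act 9 n7326 = n7326 := d38_2 F28071 D7326 (iv D7326)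
def n7327 : Q := act 4 n5818
theorem D7327 : act 4 n5818 = n7327 := rfl
theorem F34938 : act 0 n7327 = n6188 := d3_1 D7327 (iv D6188) (iv F28072)
theorem F34939 : act 2 n7327 = n5830 := d18_1 D7327 (iv D5830) (iv F28073)
theorem F34940 : act 8 n7327 = n5820 := d33_2 (iv F28075) D7327 (iv D5820)
theorem F34941 : act 9 n7327 = n7327 := d34_2 F28076 D7327 (iv D7327)
def n7328 : Q := act 6 n5818
theorem D7328 : act 6 n5818 = n7328 := rfl
theorem F34942 : act 0 n7328 = n6189 := d5_1 D7328 (iv D6189) (iv F28072)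
theorem F34943 : act 2 n7328 = n5831 := d20_1 D7328 (iv D5831) (iv F28073)
theorem F34944 : act 3 n7328 = n7328 := d26_1 D7328 (iv D7328) F28074
theorem F34945 : act 5 n7328 = n7328 := d35_1 D7328 (iv D7328) (iv D5818) F22672 D5818
theorem F34946 : act 8 n7328 = n5821 := d40_2 (iv F28075) D7328 (iv D5821)
theorem F34947 : act 9 n7328 = n7328 := d41_2 F28076 D7328 (iv D7328)
def n7329 : Q := act 4 n5819
theorem D7329 : act 4 n5819 = n7329 := rfl
theorem F34948 : act 0 n7329 = n6190 := d3_1 D7329 (iv D6190) (iv F28077)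
theorem F34949 : act 2 n7329 = n5832 := d18_1 D7329 (iv D5832) (iv F28078)
theorem F34950 : act 7 n7329 = n5820 := d32_2 (iv F28080) D7329 (iv D5820)
theorem F34951 : act 9 n7329 = n5865 := d34_2 (iv F28081) D7329 (iv D5865)
def n7330 : Q := act 6 n5819
theorem D7330 : act 6 n5819 = n7330 := rfl
theorem F34952 : act 0 n7330 = n6191 := d5_1 D7330 (iv D6191) (iv F28077)
theorem F34953 : act 2 n7330 = n5833 := d20_1 D7330 (iv D5833) (iv F28078)
theorem F34954 : act 3 n7330 = n7330 := d26_1 D7330 (iv D7330) F28079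
theorem F34955 : act 5 n7330 = n7330 := d35_1 D7330 (iv D7330) (iv D5819) F22677 D5819
theorem F34956 : act 9 n7330 = n5866 := d41_2 (iv F28081) D7330 (iv D5866)
def n7331 : Q := act 3 n5820
theorem D7331 : act 3 n5820 = n7331 := rfl
theorem F34957 : act 0 n7331 = n6192 := d2_1 D7331 (iv D6192) (iv F28082)
theorem F34958 : act 4 n7331 = n7331 := d24_2 D5820 D7331 (iv D7331) (iv D5820) F22682
theorem F34959 : act 9 n7331 = n5867 := d29_2 (iv F28084) D7331 (iv D5867)
def n7332 : Q := act 6 n5820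
theorem D7332 : act 6 n5820 = n7332 := rfl
theorem F34960 : act 0 n7332 = n6193 := d5_1 D7332 (iv D6193) (iv F28082)
theorem F34961 : act 2 n7332 = n5835 := d20_1 D7332 (iv D5835) (iv F28083)
theorem F34962 : act 4 n7332 = n5821 := d31_1 D7332 (iv D5821) D5820
theorem F34963 : act 9 n7332 = n5868 := d41_2 (iv F28084) D7332 (iv D5868)
def n7333 : Q := act 7 n5821
theorem D7333 : act 7 n5821 = n7333 := rfl
theorem F34964 : act 0 n7333 = n6194 := d6_1 D7333 (iv D6194) (iv F28085)
theorem F34965 : act 2 n7333 = n5836 := d21_1 D7333 (iv D5836) (iv F28086)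
theorem F34966 : act 3 n7333 = n7333 := d27_1 D7333 (iv D7333) F28087
theorem F34967 : act 5 n7333 = n5824 := d36_1 D7333 (iv D5824) (iv F28088)
theorem F34968 : act 9 n7333 = n5869 := d43_2 (iv F28089) D7333 (iv D5869)
def n7334 : Q := act 6 n5822
theorem D7334 : act 6 n5822 = n7334 := rfl
theorem F34969 : act 0 n7334 = n6195 := d5_1 D7334 (iv D6195) (iv F28090)
theorem F34970 : act 2 n7334 = n7334 := d20_1 D7334 (iv D7334) F28091
theorem F34971 : act 3 n7334 = n5823 := d26_1 D7334 (iv D5823) D5822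
theorem F34972 : act 4 n7334 = n7334 := d31_1 D7334 (iv D7334) F28092
theorem F34973 : act 8 n7334 = n7334 := d40_2 F28094 D7334 (iv D7334)
theorem F34974 : act 9 n7334 = n5870 := d41_2 (iv F28095) D7334 (iv D5870)
def n7335 : Q := act 5 n5823
theorem D7335 : act 5 n5823 = n7335 := rfl
theorem F34975 : act 0 n7335 = n6196 := d4_1 D7335 (iv D6196) (iv F28096)
theorem F34976 : act 2 n7335 = n5837 := d19_1 D7335 (iv D5837) (iv F28097)
theorem F34977 : act 9 n7335 = n5871 := d38_2 (iv F28100) D7335 (iv D5871)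
def n7336 : Q := act 7 n5823
theorem D7336 : act 7 n5823 = n7336 := rfl
theorem F34978 : act 0 n7336 = n6197 := d6_1 D7336 (iv D6197) (iv F28096)
theorem F34979 : act 2 n7336 = n5838 := d21_1 D7336 (iv D5838) (iv F28097)
theorem F34980 : act 4 n7336 = n5824 := d32_1 D7336 (iv D5824) (iv F28098)
theorem F34981 : act 6 n7336 = n7336 := d39_1 D7336 (iv D7336) (iv D5823) F22686 D5823
theorem F34982 : act 8 n7336 = n7336 := d42_2 F28099 D7336 (iv D7336)
theorem F34983 : act 9 n7336 = n5872 := d43_2 (iv F28100) D7336 (iv D5872)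
def n7337 : Q := act 8 n5825
theorem D7337 : act 8 n5825 = n7337 := rfl
theorem F34984 : act 0 n7337 = n6198 := d7_1 D7337 (iv D6198) (iv F28107)
theorem F34985 : act 1 n7337 = n7337 := d15_1 D7337 (iv D7337) F28108
theorem F34986 : act 3 n7337 = n7337 := d28_1 D7337 (iv D7337) F28109
theorem F34987 : act 4 n7337 = n5828 := d33_1 D7337 (iv D5828) (iv F28110)
theorem F34988 : act 6 n7337 = n5826 := d40_1 D7337 (iv D5826) (iv F28111)
theorem F34989 : act 7 n7337 = n7337 := d42_1 D7337 (iv D7337) F28112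
theorem F34990 : act 9 n7337 = n7337 := d44_2 D5825 D7337 (iv D7337) (iv D5825) F22699
def n7338 : Q := act 5 n5826
theorem D7338 : act 5 n5826 = n7338 := rfl
theorem F34991 : act 0 n7338 = n6199 := d4_1 D7338 (iv D6199) (iv F28113)
theorem F34992 : act 1 n7338 = n7338 := d12_1 D7338 (iv D7338) F28114
theorem F34993 : act 3 n7338 = n7338 := d25_1 D7338 (iv D7338) F28115
theorem F34994 : act 7 n7338 = n5827 := d36_2 (iv F28117) D7338 (iv D5827)
theorem F34995 : act 9 n7338 = n7338 := d38_2 F28118 D7338 (iv D7338)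
def n7339 : Q := act 4 n5827
theorem D7339 : act 4 n5827 = n7339 := rfl
theorem F34996 : act 0 n7339 = n6200 := d3_1 D7339 (iv D6200) (iv F28119)
theorem F34997 : act 1 n7339 = n7339 := d11_1 D7339 (iv D7339) F28120
theorem F34998 : act 5 n7339 = n5830 := d30_2 D5827 D7339 (iv D5830) (iv D4656) (iv F22708)
theorem F34999 : act 9 n7339 = n7339 := d34_2 F28122 D7339 (iv D7339)
def n7340 : Q := act 6 n5827
theorem D7340 : act 6 n5827 = n7340 := rfl
theorem F35000 : act 0 n7340 = n6201 := d5_1 D7340 (iv D6201) (iv F28119)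
theorem F35001 : act 1 n7340 = n7340 := d13_1 D7340 (iv D7340) F28120
theorem F35002 : act 3 n7340 = n7340 := d26_1 D7340 (iv D7340) F28121
theorem F35003 : act 5 n7340 = n7340 := d35_1 D7340 (iv D7340) (iv D5827) F22709 D5827
theorem F35004 : act 9 n7340 = n7340 := d41_2 F28122 D7340 (iv D7340)
def n7341 : Q := act 5 n5828
theorem D7341 : act 5 n5828 = n7341 := rfl
theorem F35005 : act 0 n7341 = n6202 := d4_1 D7341 (iv D6202) (iv F28123)
theorem F35006 : act 1 n7341 = n7341 := d12_1 D7341 (iv D7341) F28124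
theorem F35007 : act 3 n7341 = n5839 := d25_1 D7341 (iv D5839) (iv F28125)
theorem F35008 : act 7 n7341 = n7341 := d36_2 F28127 D7341 (iv D7341)
theorem F35009 : act 8 n7341 = n7341 := d37_2 D5828 D7341 (iv D7341) (iv D5828) F22714
theorem F35010 : act 9 n7341 = n7341 := d38_2 F28128 D7341 (iv D7341)
def n7342 : Q := act 4 n5829
theorem D7342 : act 4 n5829 = n7342 := rfl
theorem F35011 : act 0 n7342 = n6203 := d3_1 D7342 (iv D6203) (iv F28129)
theorem F35012 : act 1 n7342 = n7342 := d11_1 D7342 (iv D7342) F28130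
theorem F35013 : act 7 n7342 = n5830 := d32_2 (iv F28132) D7342 (iv D5830)
theorem F35014 : act 8 n7342 = n5832 := d33_2 (iv F28133) D7342 (iv D5832)
theorem F35015 : act 9 n7342 = n7342 := d34_2 F28134 D7342 (iv D7342)
def n7343 : Q := act 6 n5829
theorem D7343 : act 6 n5829 = n7343 := rfl
theorem F35016 : act 0 n7343 = n6204 := d5_1 D7343 (iv D6204) (iv F28129)
theorem F35017 : act 1 n7343 = n7343 := d13_1 D7343 (iv D7343) F28130
theorem F35018 : act 3 n7343 = n5841 := d26_1 D7343 (iv D5841) (iv F28131)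
theorem F35019 : act 8 n7343 = n5833 := d40_2 (iv F28133) D7343 (iv D5833)
theorem F35020 : act 9 n7343 = n7343 := d41_2 F28134 D7343 (iv D7343)
def n7344 : Q := act 3 n5830
theorem D7344 : act 3 n5830 = n7344 := rfl
theorem F35021 : act 0 n7344 = n6205 := d2_1 D7344 (iv D6205) (iv F28135)
theorem F35022 : act 1 n7344 = n7344 := d10_1 D7344 (iv D7344) F28136
theorem F35023 : act 4 n7344 = n5842 := d24_2 D5830 D7344 (iv D5842) (iv D4664) (iv F22724)
theorem F35024 : act 8 n7344 = n5834 := d28_2 (iv F28137) D7344 (iv D5834)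
theorem F35025 : act 9 n7344 = n7344 := d29_2 F28138 D7344 (iv D7344)
def n7345 : Q := act 6 n5830
theorem D7345 : act 6 n5830 = n7345 := rfl
theorem F35026 : act 0 n7345 = n6206 := d5_1 D7345 (iv D6206) (iv F28135)
theorem F35027 : act 1 n7345 = n7345 := d13_1 D7345 (iv D7345) F28136
theorem F35028 : act 4 n7345 = n5831 := d31_1 D7345 (iv D5831) D5830
theorem F35029 : act 8 n7345 = n5835 := d40_2 (iv F28137) D7345 (iv D5835)
theorem F35030 : act 9 n7345 = n7345 := d41_2 F28138 D7345 (iv D7345)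
def n7346 : Q := act 7 n5831
theorem D7346 : act 7 n5831 = n7346 := rfl
theorem F35031 : act 0 n7346 = n6207 := d6_1 D7346 (iv D6207) (iv F28139)
theorem F35032 : act 1 n7346 = n7346 := d14_1 D7346 (iv D7346) F28140
theorem F35033 : act 3 n7346 = n5844 := d27_1 D7346 (iv D5844) (iv F28141)
theorem F35034 : act 5 n7346 = n7346 := d36_1 D7346 (iv D7346) F28142
theorem F35035 : act 8 n7346 = n5836 := d42_2 (iv F28143) D7346 (iv D5836)
theorem F35036 : act 9 n7346 = n7346 := d43_2 F28144 D7346 (iv D7346)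
def n7347 : Q := act 3 n5832
theorem D7347 : act 3 n5832 = n7347 := rfl
theorem F35037 : act 0 n7347 = n6208 := d2_1 D7347 (iv D6208) (iv F28145)
theorem F35038 : act 1 n7347 = n7347 := d10_1 D7347 (iv D7347) F28146
theorem F35039 : act 4 n7347 = n5845 := d24_2 D5832 D7347 (iv D5845) (iv D4666) (iv F22729)
theorem F35040 : act 7 n7347 = n5834 := d27_2 (iv F28147) D7347 (iv D5834)
theorem F35041 : act 9 n7347 = n5873 := d29_2 (iv F28148) D7347 (iv D5873)
def n7348 : Q := act 6 n5832
theorem D7348 : act 6 n5832 = n7348 := rfl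
theorem F35042 : act 0 n7348 = n6209 := d5_1 D7348 (iv D6209) (iv F28145)
theorem F35043 : act 1 n7348 = n7348 := d13_1 D7348 (iv D7348) F28146
theorem F35044 : act 4 n7348 = n5833 := d31_1 D7348 (iv D5833) D5832
theorem F35045 : act 9 n7348 = n5874 := d41_2 (iv F28148) D7348 (iv D5874)
def n7349 : Q := act 7 n5833
theorem D7349 : act 7 n5833 = n7349 := rfl
theorem F35046 : act 0 n7349 = n6210 := d6_1 D7349 (iv D6210) (iv F28149)
theorem F35047 : act 1 n7349 = n7349 := d14_1 D7349 (iv D7349) F28150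
theorem F35048 : act 3 n7349 = n5847 := d27_1 D7349 (iv D5847) (iv F28151)
theorem F35049 : act 5 n7349 = n7349 := d36_1 D7349 (iv D7349) F28152
theorem F35050 : act 6 n7349 = n5836 := d39_1 D7349 (iv D5836) (iv D4659) (iv F22730) D5833
theorem F35051 : act 9 n7349 = n5875 := d43_2 (iv F28153) D7349 (iv D5875)
def n7350 : Q := act 2 n5834
theorem D7350 : act 2 n5834 = n7350 := rfl
theorem F35052 : act 0 n7350 = n6211 := d1_1 D7350 (iv D6211) (iv F28154)
theorem F35053 : act 4 n7350 = n5848 := d18_2 (iv F28156) D7350 (iv D5848)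
theorem F35054 : act 9 n7350 = n5876 := d23_2 (iv F28157) D7350 (iv D5876)
def n7351 : Q := act 6 n5834
theorem D7351 : act 6 n5834 = n7351 := rfl
theorem F35055 : act 0 n7351 = n6212 := d5_1 D7351 (iv D6212) (iv F28154)
theorem F35056 : act 1 n7351 = n7351 := d13_1 D7351 (iv D7351) F28155
theorem F35057 : act 3 n7351 = n5835 := d26_1 D7351 (iv D5835) D5834
theorem F35058 : act 4 n7351 = n5849 := d31_1 D7351 (iv D5849) (iv F28156)
theorem F35059 : act 9 n7351 = n5877 := d41_2 (iv F28157) D7351 (iv D5877)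
def n7352 : Q := act 5 n5835
theorem D7352 : act 5 n5835 = n7352 := rfl
theorem F35060 : act 0 n7352 = n6213 := d4_1 D7352 (iv D6213) (iv F28158)
theorem F35061 : act 1 n7352 = n7352 := d12_1 D7352 (iv D7352) F28159
theorem F35062 : act 4 n7352 = n5837 := d30_1 D7352 (iv D5837) F22743 (iv F22738) (iv F28160)
theorem F35063 : act 9 n7352 = n5878 := d38_2 (iv F28161) D7352 (iv D5878)
def n7353 : Q := act 7 n5835
theorem D7353 : act 7 n5835 = n7353 := rfl
theorem F35064 : act 0 n7353 = n6214 := d6_1 D7353 (iv D6214) (iv F28158)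
theorem F35065 : act 1 n7353 = n7353 := d14_1 D7353 (iv D7353) F28159
theorem F35066 : act 4 n7353 = n5836 := d32_1 D7353 (iv D5836) (iv F28160)
theorem F35067 : act 9 n7353 = n5879 := d43_2 (iv F28161) D7353 (iv D5879)
def n7354 : Q := act 7 n5837
theorem D7354 : act 7 n5837 = n7354 := rfl
theorem F35068 : act 0 n7354 = n6215 := d6_1 D7354 (iv D6215) (iv F28167)
theorem F35069 : act 1 n7354 = n7354 := d14_1 D7354 (iv D7354) F28168
theorem F35070 : act 3 n7354 = n7354 := d27_1 D7354 (iv D7354) F28169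
theorem F35071 : act 5 n7354 = n5838 := d36_1 D7354 (iv D5838) D5837
theorem F35072 : act 9 n7354 = n5880 := d43_2 (iv F28170) D7354 (iv D5880)
def n7355 : Q := act 8 n5837
theorem D7355 : act 8 n5837 = n7355 := rfl
theorem F35073 : act 0 n7355 = n6216 := d7_1 D7355 (iv D6216) (iv F28167)
theorem F35074 : act 1 n7355 = n7355 := d15_1 D7355 (iv D7355) F28168
theorem F35075 : act 3 n7355 = n7355 := d28_1 D7355 (iv D7355) F28169
theorem F35076 : act 5 n7355 = n7355 := d37_1 D7355 (iv D7355) (iv D5837) F22744 D5837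
def n7356 : Q := act 4 n5839
theorem D7356 : act 4 n5839 = n7356 := rfl
theorem F35077 : act 0 n7356 = n6217 := d3_1 D7356 (iv D6217) (iv F28178)
theorem F35078 : act 1 n7356 = n7356 := d11_1 D7356 (iv D7356) F28179
theorem F35079 : act 2 n7356 = n7356 := d18_1 D7356 (iv D7356) F28180
theorem F35080 : act 5 n7356 = n7356 := d30_2 D5839 D7356 (iv D7356) (iv D5839) F22755
theorem F35081 : act 7 n7356 = n7356 := d32_2 F28181 D7356 (iv D7356)
theorem F35082 : act 8 n7356 = n7356 := d33_2 F28182 D7356 (iv D7356)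
theorem F35083 : act 9 n7356 = n7356 := d34_2 F28183 D7356 (iv D7356)
def n7357 : Q := act 6 n5839
theorem D7357 : act 6 n5839 = n7357 := rfl
theorem F35084 : act 0 n7357 = n6218 := d5_1 D7357 (iv D6218) (iv F28178)
theorem F35085 : act 1 n7357 = n7357 := d13_1 D7357 (iv D7357) F28179
theorem F35086 : act 2 n7357 = n7357 := d20_1 D7357 (iv D7357) F28180
theorem F35087 : act 5 n7357 = n5841 := d35_1 D7357 (iv D5841) (iv D4663) (iv F22756) D5839
theorem F35088 : act 8 n7357 = n7357 := d40_2 F28182 D7357 (iv D7357)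
theorem F35089 : act 9 n7357 = n7357 := d41_2 F28183 D7357 (iv D7357)
def n7358 : Q := act 3 n5840
theorem D7358 : act 3 n5840 = n7358 := rfl
theorem F35090 : act 0 n7358 = n6219 := d2_1 D7358 (iv D6219) (iv F28184)
theorem F35091 : act 1 n7358 = n7358 := d10_1 D7358 (iv D7358) F28185
theorem F35092 : act 5 n7358 = n7358 := d25_2 F28187 D7358 (iv D7358)
theorem F35093 : act 7 n7358 = n5842 := d27_2 (iv F28188) D7358 (iv D5842)
theorem F35094 : act 8 n7358 = n5845 := d28_2 (iv F28189) D7358 (iv D5845)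
theorem F35095 : act 9 n7358 = n7358 := d29_2 F28190 D7358 (iv D7358)
def n7359 : Q := act 6 n5840
theorem D7359 : act 6 n5840 = n7359 := rfl
theorem F35099 : act 4 n7359 = n5841 := d31_1 D7359 (iv D5841) D5840
theorem F35100 : act 8 n7359 = n5846 := d40_2 (iv F28189) D7359 (iv D5846)
def n7360 : Q := act 7 n5841
theorem D7360 : act 7 n5841 = n7360 := rfl
theorem F35102 : act 0 n7360 = n6221 := d6_1 D7360 (iv D6221) (iv F28191)
theorem F35103 : act 1 n7360 = n7360 := d14_1 D7360 (iv D7360) F28192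
theorem F35104 : act 2 n7360 = n7360 := d21_1 D7360 (iv D7360) F28193
theorem F35105 : act 6 n7360 = n5844 := d39_1 D7360 (iv D5844) (iv D4665) (iv F22762) D5841
theorem F35106 : act 8 n7360 = n5847 := d42_2 (iv F28194) D7360 (iv D5847)
theorem F35107 : act 9 n7360 = n7360 := d43_2 F28195 D7360 (iv D7360)
def n7361 : Q := act 2 n5842
theorem D7361 : act 2 n5842 = n7361 := rfl
theorem F35108 : act 0 n7361 = n6222 := d1_1 D7361 (iv D6222) (iv F28196)
theorem F35109 : act 3 n7361 = n7361 := d17_2 D5842 D7361 (iv D7361) (iv D5842) F22767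
theorem F35110 : act 5 n7361 = n7361 := d19_2 F28198 D7361 (iv D7361)
theorem F35111 : act 8 n7361 = n5848 := d22_2 (iv F28199) D7361 (iv D5848)
theorem F35112 : act 9 n7361 = n7361 := d23_2 F28200 D7361 (iv D7361)
def n7362 : Q := act 6 n5842
theorem D7362 : act 6 n5842 = n7362 := rfl
theorem F35113 : act 0 n7362 = n6223 := d5_1 D7362 (iv D6223) (iv F28196)
theorem F35114 : act 1 n7362 = n7362 := d13_1 D7362 (iv D7362) F28197
theorem F35115 : act 3 n7362 = n5843 := d26_1 D7362 (iv D5843) D5842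
theorem F35116 : act 8 n7362 = n5849 := d40_2 (iv F28199) D7362 (iv D5849)
theorem F35117 : act 9 n7362 = n7362 := d41_2 F28200 D7362 (iv D7362)
def n7363 : Q := act 5 n5843
theorem D7363 : act 5 n5843 = n7363 := rfl
theorem F35118 : act 0 n7363 = n6224 := d4_1 D7363 (iv D6224) (iv F28201)
theorem F35119 : act 1 n7363 = n7363 := d12_1 D7363 (iv D7363) F28202
theorem F35120 : act 2 n7363 = n7363 := d19_1 D7363 (iv D7363) F28203
theorem F35121 : act 4 n7363 = n7363 := d30_1 D7363 (iv D7363) F28204 F22774 (iv F28204)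
theorem F35122 : act 6 n7363 = n7363 := d35_2 D5843 D7363 (iv D7363) (iv D5843) F22768
theorem F35123 : act 8 n7363 = n7363 := d37_2 (iv F28205) D7363 (iv D7363) F28205 F22796
theorem F35124 : act 9 n7363 = n7363 := d38_2 F28206 D7363 (iv D7363)
def n7364 : Q := act 7 n5843
theorem D7364 : act 7 n5843 = n7364 := rfl
theorem F35125 : act 0 n7364 = n6225 := d6_1 D7364 (iv D6225) (iv F28201)
theorem F35126 : act 1 n7364 = n7364 := d14_1 D7364 (iv D7364) F28202
theorem F35127 : act 2 n7364 = n7364 := d21_1 D7364 (iv D7364) F28203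
theorem F35128 : act 4 n7364 = n5844 := d32_1 D7364 (iv D5844) (iv F28204)
theorem F35129 : act 8 n7364 = n5850 := d42_2 (iv F28205) D7364 (iv D5850)
theorem F35130 : act 9 n7364 = n7364 := d43_2 F28206 D7364 (iv D7364)
def n7365 : Q := act 2 n5845
theorem D7365 : act 2 n5845 = n7365 := rfl
theorem F35131 : act 0 n7365 = n6226 := d1_1 D7365 (iv D6226) (iv F28213)
theorem F35132 : act 3 n7365 = n7365 := d17_2 D5845 D7365 (iv D7365) (iv D5845) F22779
theorem F35133 : act 5 n7365 = n5851 := d19_2 (iv F28215) D7365 (iv D5851)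
theorem F35134 : act 7 n7365 = n5848 := d21_2 (iv F28216) D7365 (iv D5848)
theorem F35135 : act 9 n7365 = n5882 := d23_2 (iv F28217) D7365 (iv D5882)
def n7366 : Q := act 6 n5845
theorem D7366 : act 6 n5845 = n7366 := rfl
theorem F35136 : act 0 n7366 = n6227 := d5_1 D7366 (iv D6227) (iv F28213)
def n7367 : Q := act 5 n5846
theorem D7367 : act 5 n5846 = n7367 := rfl
theorem F35144 : act 6 n7367 = n5853 := d35_2 D5846 D7367 (iv D5853) (iv D4672) (iv F22780)
def n7368 : Q := act 7 n5846
theorem D7368 : act 7 n5846 = n7368 := rfl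
theorem F35149 : act 4 n7368 = n5847 := d32_1 D7368 (iv D5847) (iv F28221)
theorem F35150 : act 6 n7368 = n5850 := d39_1 D7368 (iv D5850) (iv D4669) (iv F22781) D5846
def n7369 : Q := act 1 n5848
theorem D7369 : act 1 n5848 = n7369 := rfl
theorem F35152 : act 2 n7369 = n7369 := d9_2 D5848 D7369 (iv D7369) (iv D5848) F22789
theorem F35153 : act 3 n7369 = n7369 := d10_2 F28230 D7369 (iv D7369)
theorem F35154 : act 5 n7369 = n5854 := d12_2 (iv F28231) D7369 (iv D5854)
theorem F35155 : act 9 n7369 = n5886 := d16_2 (iv F28232) D7369 (iv D5886)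
def n7370 : Q := act 6 n5848
theorem D7370 : act 6 n5848 = n7370 := rfl
theorem F35156 : act 0 n7370 = n6231 := d5_1 D7370 (iv D6231) (iv F28229)
theorem F35157 : act 2 n7370 = n5849 := d20_1 D7370 (iv D5849) D5848
theorem F35158 : act 3 n7370 = n7370 := d26_1 D7370 (iv D7370) F28230
theorem F35159 : act 5 n7370 = n7370 := d35_1 D7370 (iv D7370) F28231 F22817 (iv F28231)
theorem F35160 : act 9 n7370 = n5887 := d41_2 (iv F28232) D7370 (iv D5887)
def n7371 : Q := act 7 n5849
theorem D7371 : act 7 n5849 = n7371 := rfl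
theorem F35161 : act 0 n7371 = n6232 := d6_1 D7371 (iv D6232) (iv F28233)
theorem F35162 : act 1 n7371 = n7371 := d14_1 D7371 (iv D7371) F28234
theorem F35163 : act 3 n7371 = n5850 := d27_1 D7371 (iv D5850) (iv F28235)
theorem F35164 : act 5 n7371 = n7371 := d36_1 D7371 (iv D7371) F28236
theorem F35165 : act 9 n7371 = n5888 := d43_2 (iv F28237) D7371 (iv D5888)
def n7372 : Q := act 1 n5851
theorem D7372 : act 1 n5851 = n7372 := rfl
theorem F35168 : act 7 n7372 = n5854 := d14_2 (iv F28246) D7372 (iv D5854)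
def n7373 : Q := act 6 n5851
theorem D7373 : act 6 n5851 = n7373 := rfl
theorem F35171 : act 0 n7373 = n6234 := d5_1 D7373 (iv D6234) (iv F28244)
theorem F35172 : act 2 n7373 = n5852 := d20_1 D7373 (iv D5852) D5851
def n7374 : Q := act 5 n5852
theorem D7374 : act 5 n5852 = n7374 := rfl
theorem F35177 : act 0 n7374 = n6235 := d4_1 D7374 (iv D6235) (iv F28249)
def n7375 : Q := act 8 n5853
theorem D7375 : act 8 n5853 = n7375 := rfl
theorem F35182 : act 0 n7375 = n6236 := d7_1 D7375 (iv D6236) (iv F28255)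
def n7376 : Q := act 0 n5854
theorem D7376 : act 0 n5854 = n7376 := rfl
def n7377 : Q := act 5 n5855
theorem D7377 : act 5 n5855 = n7377 := rfl
theorem F35194 : act 0 n7377 = n5859 := d4_1 D7377 (iv D5859) (iv F28266)
theorem F35195 : act 1 n7377 = n6238 := d12_1 D7377 (iv D6238) (iv F28267)
theorem F35196 : act 2 n7377 = n7377 := d19_1 D7377 (iv D7377) F28268
theorem F35197 : act 3 n7377 = n7377 := d25_1 D7377 (iv D7377) F28269
theorem F35198 : act 7 n7377 = n5856 := d36_2 (iv F28271) D7377 (iv D5856)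
theorem F35199 : act 8 n7377 = n7377 := d37_2 D5855 D7377 (iv D7377) (iv D5855) F22824
def n7378 : Q := act 4 n5856
theorem D7378 : act 4 n5856 = n7378 := rfl
theorem F35200 : act 0 n7378 = n5860 := d3_1 D7378 (iv D5860) (iv F28272)
theorem F35201 : act 1 n7378 = n6239 := d11_1 D7378 (iv D6239) (iv F28273)
theorem F35202 : act 2 n7378 = n7378 := d18_1 D7378 (iv D7378) F28274
theorem F35203 : act 8 n7378 = n7378 := d33_2 F28276 D7378 (iv D7378)
def n7379 : Q := act 6 n5856
theorem D7379 : act 6 n5856 = n7379 := rfl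
theorem F35204 : act 0 n7379 = n5861 := d5_1 D7379 (iv D5861) (iv F28272)
theorem F35205 : act 1 n7379 = n6240 := d13_1 D7379 (iv D6240) (iv F28273)
theorem F35206 : act 2 n7379 = n7379 := d20_1 D7379 (iv D7379) F28274
theorem F35207 : act 3 n7379 = n7379 := d26_1 D7379 (iv D7379) F28275
theorem F35208 : act 5 n7379 = n5858 := d35_1 D7379 (iv D5858) (iv D4676) (iv F22831) D5856
theorem F35209 : act 8 n7379 = n7379 := d40_2 F28276 D7379 (iv D7379)
def n7380 : Q := act 3 n5857
theorem D7380 : act 3 n5857 = n7380 := rfl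
theorem F35210 : act 0 n7380 = n5862 := d2_1 D7380 (iv D5862) (iv F28277)
theorem F35211 : act 1 n7380 = n6241 := d10_1 D7380 (iv D6241) (iv F28278)
theorem F35212 : act 4 n7380 = n7380 := d24_2 D5857 D7380 (iv D7380) (iv D5857) F22835
theorem F35213 : act 7 n7380 = n7380 := d27_2 F28280 D7380 (iv D7380)
theorem F35214 : act 8 n7380 = n5899 := d28_2 (iv F28281) D7380 (iv D5899)
def n7381 : Q := act 6 n5857
theorem D7381 : act 6 n5857 = n7381 := rfl
theorem F35215 : act 0 n7381 = n5863 := d5_1 D7381 (iv D5863) (iv F28277)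
theorem F35216 : act 1 n7381 = n6242 := d13_1 D7381 (iv D6242) (iv F28278)
theorem F35218 : act 4 n7381 = n5858 := d31_1 D7381 (iv D5858) D5857
theorem F35219 : act 8 n7381 = n5900 := d40_2 (iv F28281) D7381 (iv D5900)
def n7382 : Q := act 7 n5858
theorem D7382 : act 7 n5858 = n7382 := rfl
theorem F35220 : act 0 n7382 = n5864 := d6_1 D7382 (iv D5864) (iv F28282)
theorem F35221 : act 1 n7382 = n6243 := d14_1 D7382 (iv D6243) (iv F28283)
def n7383 : Q := act 4 n5859
theorem D7383 : act 4 n5859 = n7383 := rfl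
theorem F35226 : act 1 n7383 = n5865 := d11_1 D7383 (iv D5865) (iv F28287)
theorem F35227 : act 2 n7383 = n7383 := d18_1 D7383 (iv D7383) F28288
theorem F35228 : act 7 n7383 = n5860 := d32_2 (iv F28290) D7383 (iv D5860)
theorem F35229 : act 8 n7383 = n7383 := d33_2 F28291 D7383 (iv D7383)
def n7384 : Q := act 6 n5859
theorem D7384 : act 6 n5859 = n7384 := rfl
theorem F35230 : act 1 n7384 = n5866 := d13_1 D7384 (iv D5866) (iv F28287)
theorem F35231 : act 2 n7384 = n7384 := d20_1 D7384 (iv D7384) F28288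
theorem F35232 : act 3 n7384 = n7384 := d26_1 D7384 (iv D7384) F28289
theorem F35233 : act 5 n7384 = n7384 := d35_1 D7384 (iv D7384) (iv D5859) F22841 D5859
theorem F35234 : act 8 n7384 = n7384 := d40_2 F28291 D7384 (iv D7384)
def n7385 : Q := act 3 n5860
theorem D7385 : act 3 n5860 = n7385 := rfl
theorem F35235 : act 1 n7385 = n5867 := d10_1 D7385 (iv D5867) (iv F28292)
theorem F35236 : act 4 n7385 = n7385 := d24_2 D5860 D7385 (iv D7385) (iv D5860) F22845
theorem F35237 : act 8 n7385 = n7385 := d28_2 F28294 D7385 (iv D7385)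
def n7386 : Q := act 6 n5860
theorem D7386 : act 6 n5860 = n7386 := rfl
theorem F35238 : act 1 n7386 = n5868 := d13_1 D7386 (iv D5868) (iv F28292)
theorem F35239 : act 2 n7386 = n7386 := d20_1 D7386 (iv D7386) F28293
theorem F35240 : act 4 n7386 = n5861 := d31_1 D7386 (iv D5861) D5860
theorem F35241 : act 8 n7386 = n7386 := d40_2 F28294 D7386 (iv D7386)
def n7387 : Q := act 7 n5861
theorem D7387 : act 7 n5861 = n7387 := rfl
theorem F35242 : act 1 n7387 = n5869 := d14_1 D7387 (iv D5869) (iv F28295)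
theorem F35243 : act 2 n7387 = n7387 := d21_1 D7387 (iv D7387) F28296
theorem F35244 : act 3 n7387 = n7387 := d27_1 D7387 (iv D7387) F28297
theorem F35245 : act 5 n7387 = n5864 := d36_1 D7387 (iv D5864) (iv F28298)
theorem F35246 : act 8 n7387 = n7387 := d42_2 F28299 D7387 (iv D7387)
def n7388 : Q := act 2 n5862
theorem D7388 : act 2 n5862 = n7388 := rfl
theorem F35247 : act 1 n7388 = n7388 := d9_1 D7388 (iv D7388) F28300 F22869 (iv F28300)
theorem F35248 : act 3 n7388 = n7388 := d17_2 D5862 D7388 (iv D7388) (iv D5862) F22848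
theorem F35249 : act 4 n7388 = n7388 := d18_2 F28301 D7388 (iv D7388)
theorem F35250 : act 7 n7388 = n7388 := d21_2 F28302 D7388 (iv D7388)
theorem F35251 : act 8 n7388 = n5902 := d22_2 (iv F28303) D7388 (iv D5902)
def n7389 : Q := act 6 n5862
theorem D7389 : act 6 n5862 = n7389 := rfl
theorem F35252 : act 1 n7389 = n5870 := d13_1 D7389 (iv D5870) (iv F28300)
theorem F35253 : act 3 n7389 = n5863 := d26_1 D7389 (iv D5863) D5862
theorem F35254 : act 4 n7389 = n7389 := d31_1 D7389 (iv D7389) F28301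
theorem F35255 : act 8 n7389 = n5903 := d40_2 (iv F28303) D7389 (iv D5903)
def n7390 : Q := act 5 n5863
theorem D7390 : act 5 n5863 = n7390 := rfl
theorem F35256 : act 1 n7390 = n5871 := d12_1 D7390 (iv D5871) (iv F28304)
theorem F35257 : act 2 n7390 = n7390 := d19_1 D7390 (iv D7390) F28305
def n7391 : Q := act 7 n5863
theorem D7391 : act 7 n5863 = n7391 := rfl
theorem F35260 : act 4 n7391 = n5864 := d32_1 D7391 (iv D5864) (iv F28306)
theorem F35262 : act 8 n7391 = n5905 := d42_2 (iv F28307) D7391 (iv D5905)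
def n7392 : Q := act 3 n5865
theorem D7392 : act 3 n5865 = n7392 := rfl
theorem F35263 : act 0 n7392 = n6253 := d2_1 D7392 (iv D6253) (iv F28313)
theorem F35264 : act 4 n7392 = n7392 := d24_2 D5865 D7392 (iv D7392) (iv D5865) F22857
theorem F35265 : act 7 n7392 = n5867 := d27_2 (iv F28315) D7392 (iv D5867)
theorem F35266 : act 8 n7392 = n7392 := d28_2 F28316 D7392 (iv D7392)
def n7393 : Q := act 6 n5865
theorem D7393 : act 6 n5865 = n7393 := rfl
theorem F35267 : act 0 n7393 = n6254 := d5_1 D7393 (iv D6254) (iv F28313)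
theorem F35268 : act 2 n7393 = n5874 := d20_1 D7393 (iv D5874) (iv F28314)
theorem F35269 : act 4 n7393 = n5866 := d31_1 D7393 (iv D5866) D5865
theorem F35270 : act 8 n7393 = n7393 := d40_2 F28316 D7393 (iv D7393)
def n7394 : Q := act 7 n5866
theorem D7394 : act 7 n5866 = n7394 := rfl
theorem F35271 : act 0 n7394 = n6255 := d6_1 D7394 (iv D6255) (iv F28317)
theorem F35272 : act 2 n7394 = n5875 := d21_1 D7394 (iv D5875) (iv F28318)
theorem F35273 : act 3 n7394 = n7394 := d27_1 D7394 (iv D7394) F28319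
theorem F35274 : act 5 n7394 = n7394 := d36_1 D7394 (iv D7394) F28320
theorem F35275 : act 6 n7394 = n5869 := d39_1 D7394 (iv D5869) (iv D4683) (iv F22858) D5866
theorem F35276 : act 8 n7394 = n7394 := d42_2 F28321 D7394 (iv D7394)
def n7395 : Q := act 2 n5867
theorem D7395 : act 2 n5867 = n7395 := rfl
theorem F35277 : act 0 n7395 = n6256 := d1_1 D7395 (iv D6256) (iv F28322)
theorem F35278 : act 3 n7395 = n5876 := d17_2 D5867 D7395 (iv D5876) (iv D4689) (iv F22861)
theorem F35279 : act 4 n7395 = n7395 := d18_2 F28323 D7395 (iv D7395)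
theorem F35280 : act 8 n7395 = n7395 := d22_2 F28324 D7395 (iv D7395)
def n7396 : Q := act 6 n5867
theorem D7396 : act 6 n5867 = n7396 := rfl
theorem F35281 : act 0 n7396 = n6257 := d5_1 D7396 (iv D6257) (iv F28322)
theorem F35282 : act 3 n7396 = n5868 := d26_1 D7396 (iv D5868) D5867
theorem F35283 : act 4 n7396 = n7396 := d31_1 D7396 (iv D7396) F28323
theorem F35284 : act 8 n7396 = n7396 := d40_2 F28324 D7396 (iv D7396)
def n7397 : Q := act 5 n5868
theorem D7397 : act 5 n5868 = n7397 := rfl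
theorem F35285 : act 0 n7397 = n6258 := d4_1 D7397 (iv D6258) (iv F28325)
theorem F35286 : act 2 n7397 = n5878 := d19_1 D7397 (iv D5878) (iv F28326)
theorem F35287 : act 4 n7397 = n5871 := d30_1 D7397 (iv D5871) F22875 (iv F22866) (iv F28327)
def n7398 : Q := act 7 n5868
theorem D7398 : act 7 n5868 = n7398 := rfl
theorem F35288 : act 0 n7398 = n6259 := d6_1 D7398 (iv D6259) (iv F28325)
theorem F35289 : act 2 n7398 = n5879 := d21_1 D7398 (iv D5879) (iv F28326)
theorem F35290 : act 4 n7398 = n5869 := d32_1 D7398 (iv D5869) (iv F28327)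
theorem F35291 : act 8 n7398 = n7398 := d42_2 F28328 D7398 (iv D7398)
def n7399 : Q := act 5 n5870
theorem D7399 : act 5 n5870 = n7399 := rfl
theorem F35292 : act 0 n7399 = n6260 := d4_1 D7399 (iv D6260) (iv F28334)
theorem F35293 : act 2 n7399 = n7399 := d19_1 D7399 (iv D7399) F28335
theorem F35294 : act 3 n7399 = n5871 := d25_1 D7399 (iv D5871) (iv F28336)
def n7400 : Q := act 7 n5870
theorem D7400 : act 7 n5870 = n7400 := rfl
theorem F35295 : act 0 n7400 = n6261 := d6_1 D7400 (iv D6261) (iv F28334)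
theorem F35296 : act 2 n7400 = n7400 := d21_1 D7400 (iv D7400) F28335
theorem F35297 : act 3 n7400 = n5872 := d27_1 D7400 (iv D5872) (iv F28336)
theorem F35298 : act 4 n7400 = n7400 := d32_1 D7400 (iv D7400) F28337
theorem F35299 : act 6 n7400 = n7400 := d39_1 D7400 (iv D7400) (iv D5870) F22871 D5870
theorem F35300 : act 8 n7400 = n5907 := d42_2 (iv F28338) D7400 (iv D5907)
def n7401 : Q := act 7 n5871
theorem D7401 : act 7 n5871 = n7401 := rfl
theorem F35301 : act 0 n7401 = n6262 := d6_1 D7401 (iv D6262) (iv F28339)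
theorem F35302 : act 2 n7401 = n5880 := d21_1 D7401 (iv D5880) (iv F28340)
theorem F35303 : act 5 n7401 = n5872 := d36_1 D7401 (iv D5872) D5871
def n7402 : Q := act 8 n5871
theorem D7402 : act 8 n5871 = n7402 := rfl
theorem F35304 : act 0 n7402 = n6263 := d7_1 D7402 (iv D6263) (iv F28339)
theorem F35305 : act 2 n7402 = n5881 := d22_1 D7402 (iv D5881) (iv F28340)
theorem F35306 : act 5 n7402 = n5909 := d37_1 D7402 (iv D5909) (iv D4716) (iv F22876) D5871
def n7403 : Q := act 2 n5873
theorem D7403 : act 2 n5873 = n7403 := rfl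
theorem F35307 : act 0 n7403 = n6264 := d1_1 D7403 (iv D6264) (iv F28346)
theorem F35308 : act 4 n7403 = n5882 := d18_2 (iv F28348) D7403 (iv D5882)
theorem F35309 : act 7 n7403 = n5876 := d21_2 (iv F28349) D7403 (iv D5876)
theorem F35310 : act 8 n7403 = n7403 := d22_2 F28350 D7403 (iv D7403)
def n7404 : Q := act 6 n5873
theorem D7404 : act 6 n5873 = n7404 := rfl
theorem F35311 : act 0 n7404 = n6265 := d5_1 D7404 (iv D6265) (iv F28346)
theorem F35313 : act 3 n7404 = n5874 := d26_1 D7404 (iv D5874) D5873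
theorem F35314 : act 4 n7404 = n5883 := d31_1 D7404 (iv D5883) (iv F28348)
def n7405 : Q := act 5 n5874
theorem D7405 : act 5 n5874 = n7405 := rfl
theorem F35316 : act 0 n7405 = n6266 := d4_1 D7405 (iv D6266) (iv F28351)
theorem F35317 : act 1 n7405 = n7405 := d12_1 D7405 (iv D7405) F28352
theorem F35318 : act 4 n7405 = n7405 := d30_1 D7405 (iv D7405) F28353 F22889 (iv F28353)
def n7406 : Q := act 7 n5874
theorem D7406 : act 7 n5874 = n7406 := rfl
theorem F35319 : act 0 n7406 = n6267 := d6_1 D7406 (iv D6267) (iv F28351)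
theorem F35320 : act 1 n7406 = n7406 := d14_1 D7406 (iv D7406) F28352
theorem F35321 : act 4 n7406 = n5875 := d32_1 D7406 (iv D5875) (iv F28353)
theorem F35322 : act 6 n7406 = n5879 := d39_1 D7406 (iv D5879) (iv D4690) (iv F22884) D5874
theorem F35323 : act 8 n7406 = n7406 := d42_2 F28354 D7406 (iv D7406)
def n7407 : Q := act 1 n5876
theorem D7407 : act 1 n5876 = n7407 := rfl
theorem F35324 : act 2 n7407 = n7407 := d9_2 D5876 D7407 (iv D7407) (iv D5876) F22892
theorem F35325 : act 4 n7407 = n5886 := d11_2 (iv F28362) D7407 (iv D5886)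
theorem F35326 : act 8 n7407 = n7407 := d15_2 F28363 D7407 (iv D7407)
def n7408 : Q := act 6 n5876
theorem D7408 : act 6 n5876 = n7408 := rfl
theorem F35327 : act 0 n7408 = n6269 := d5_1 D7408 (iv D6269) (iv F28361)
theorem F35328 : act 2 n7408 = n5877 := d20_1 D7408 (iv D5877) D5876
theorem F35329 : act 4 n7408 = n5887 := d31_1 D7408 (iv D5887) (iv F28362)
theorem F35330 : act 8 n7408 = n7408 := d40_2 F28363 D7408 (iv D7408)
def n7409 : Q := act 5 n5877
theorem D7409 : act 5 n5877 = n7409 := rfl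
theorem F35331 : act 0 n7409 = n6270 := d4_1 D7409 (iv D6270) (iv F28364)
theorem F35332 : act 1 n7409 = n7409 := d12_1 D7409 (iv D7409) F28365
theorem F35333 : act 3 n7409 = n5878 := d25_1 D7409 (iv D5878) (iv F28366)
theorem F35334 : act 4 n7409 = n7409 := d30_1 D7409 (iv D7409) F28367 F22936 (iv F28367)
def n7410 : Q := act 7 n5877
theorem D7410 : act 7 n5877 = n7410 := rfl
theorem F35335 : act 0 n7410 = n6271 := d6_1 D7410 (iv D6271) (iv F28364)
theorem F35336 : act 1 n7410 = n7410 := d14_1 D7410 (iv D7410) F28365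
theorem F35337 : act 3 n7410 = n5879 := d27_1 D7410 (iv D5879) (iv F28366)
theorem F35338 : act 4 n7410 = n5888 := d32_1 D7410 (iv D5888) (iv F28367)
theorem F35339 : act 8 n7410 = n7410 := d42_2 F28368 D7410 (iv D7410)
def n7411 : Q := act 7 n5878
theorem D7411 : act 7 n5878 = n7411 := rfl
theorem F35340 : act 0 n7411 = n6272 := d6_1 D7411 (iv D6272) (iv F28369)
theorem F35341 : act 1 n7411 = n7411 := d14_1 D7411 (iv D7411) F28370
theorem F35342 : act 4 n7411 = n5880 := d32_1 D7411 (iv D5880) (iv F28371)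
theorem F35343 : act 5 n7411 = n5879 := d36_1 D7411 (iv D5879) D5878
def n7412 : Q := act 8 n5878
theorem D7412 : act 8 n5878 = n7412 := rfl
theorem F35344 : act 0 n7412 = n6273 := d7_1 D7412 (iv D6273) (iv F28369)
theorem F35345 : act 1 n7412 = n7412 := d15_1 D7412 (iv D7412) F28370
theorem F35346 : act 4 n7412 = n5881 := d33_1 D7412 (iv D5881) (iv F28371)
theorem F35347 : act 5 n7412 = n7412 := d37_1 D7412 (iv D7412) (iv D5878) F22898 D5878
def n7413 : Q := act 6 n5880
theorem D7413 : act 6 n5880 = n7413 := rfl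
theorem F35348 : act 0 n7413 = n6274 := d5_1 D7413 (iv D6274) (iv F28376)
theorem F35349 : act 1 n7413 = n7413 := d13_1 D7413 (iv D7413) F28377
theorem F35350 : act 3 n7413 = n7413 := d26_1 D7413 (iv D7413) F28378
theorem F35351 : act 5 n7413 = n7413 := d35_1 D7413 (iv D7413) F28379 F22911 (iv F28379)
def n7414 : Q := act 8 n5880
theorem D7414 : act 8 n5880 = n7414 := rfl
theorem F35352 : act 0 n7414 = n6275 := d7_1 D7414 (iv D6275) (iv F28376)
theorem F35353 : act 1 n7414 = n7414 := d15_1 D7414 (iv D7414) F28377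
theorem F35354 : act 3 n7414 = n7414 := d28_1 D7414 (iv D7414) F28378
theorem F35355 : act 5 n7414 = n5911 := d37_1 D7414 (iv D5911) F23045 (iv F22912) (iv F28379)
theorem F35356 : act 7 n7414 = n5881 := d42_1 D7414 (iv D5881) D5880
def n7415 : Q := act 9 n5881
theorem D7415 : act 9 n5881 = n7415 := rfl
theorem F35357 : act 0 n7415 = n6276 := d8_1 D7415 (iv D6276) (iv F28380)
theorem F35358 : act 1 n7415 = n7415 := d16_1 D7415 (iv D7415) F28381
theorem F35359 : act 3 n7415 = n7415 := d29_1 D7415 (iv D7415) F28382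
theorem F35360 : act 5 n7415 = n5912 := d38_1 D7415 (iv D5912) (iv F28383)
def n7416 : Q := act 1 n5882
theorem D7416 : act 1 n5882 = n7416 := rfl
theorem F35364 : act 7 n7416 = n5886 := d14_2 (iv F28387) D7416 (iv D5886)
def n7417 : Q := act 6 n5882
theorem D7417 : act 6 n5882 = n7417 := rfl
theorem F35366 : act 0 n7417 = n6278 := d5_1 D7417 (iv D6278) (iv F28384)
theorem F35367 : act 2 n7417 = n5883 := d20_1 D7417 (iv D5883) D5882
theorem F35369 : act 8 n7417 = n7417 := d40_2 F28388 D7417 (iv D7417)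
def n7418 : Q := act 5 n5883
theorem D7418 : act 5 n5883 = n7418 := rfl
theorem F35370 : act 0 n7418 = n6279 := d4_1 D7418 (iv D6279) (iv F28389)
theorem F35372 : act 3 n7418 = n5884 := d25_1 D7418 (iv D5884) (iv F28391)
def n7419 : Q := act 7 n5883
theorem D7419 : act 7 n5883 = n7419 := rfl
theorem F35377 : act 6 n7419 = n5888 := d39_1 D7419 (iv D5888) (iv D4698) (iv F22916) D5883
def n7421 : Q := act 8 n5884
theorem D7421 : act 8 n5884 = n7421 := rfl
theorem F35390 : act 6 n7421 = n5892 := d40_1 D7421 (iv D5892) (iv F28397)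
def n7422 : Q := act 0 n5886
theorem D7422 : act 0 n5886 = n7422 := rfl
def n7423 : Q := act 6 n5886
theorem D7423 : act 6 n5886 = n7423 := rfl
theorem F35396 : act 1 n7423 = n5887 := d13_1 D7423 (iv D5887) D5886
theorem F35397 : act 2 n7423 = n7423 := d20_1 D7423 (iv D7423) F28404
theorem F35398 : act 3 n7423 = n7423 := d26_1 D7423 (iv D7423) F28405
theorem F35399 : act 5 n7423 = n7423 := d35_1 D7423 (iv D7423) F28406 F22960 (iv F28406)
theorem F35400 : act 8 n7423 = n7423 := d40_2 F28407 D7423 (iv D7423)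
def n7424 : Q := act 7 n5887
theorem D7424 : act 7 n5887 = n7424 := rfl
theorem F35402 : act 2 n7424 = n5888 := d21_1 D7424 (iv D5888) (iv F28409)
theorem F35403 : act 3 n7424 = n7424 := d27_1 D7424 (iv D7424) F28410
theorem F35404 : act 5 n7424 = n7424 := d36_1 D7424 (iv D7424) F28411
theorem F35405 : act 8 n7424 = n7424 := d42_2 F28412 D7424 (iv D7424)
def n7425 : Q := act 0 n5889
theorem D7425 : act 0 n5889 = n7425 := rfl
theorem F35406 : act 1 n7425 = n6286 := d0_2 D5889 D7425 (iv D6286) (iv D5011) (iv F22944)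
theorem F35409 : act 7 n7425 = n5893 := d6_2 (iv F28420) D7425 (iv D5893)
def n7426 : Q := act 6 n5889
theorem D7426 : act 6 n5889 = n7426 := rfl
def n7427 : Q := act 5 n5890
theorem D7427 : act 5 n5890 = n7427 := rfl
theorem F35416 : act 0 n7427 = n6288 := d4_1 D7427 (iv D6288) (iv F28422)
theorem F35417 : act 2 n7427 = n5891 := d19_1 D7427 (iv D5891) (iv F28423)
theorem F35419 : act 7 n7427 = n7427 := d36_2 F28425 D7427 (iv D7427)
def n7428 : Q := act 4 n5891
theorem D7428 : act 4 n5891 = n7428 := rfl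
theorem F35420 : act 0 n7428 = n6289 := d3_1 D7428 (iv D6289) (iv F28427)
theorem F35422 : act 3 n7428 = n7428 := d24_1 D7428 (iv D7428) F28429 F22956 (iv F28429)
def n7429 : Q := act 8 n5891
theorem D7429 : act 8 n5891 = n7429 := rfl
theorem F35424 : act 0 n7429 = n6290 := d7_1 D7429 (iv D6290) (iv F28427)
def n7430 : Q := act 9 n5892
theorem D7430 : act 9 n5892 = n7430 := rfl
theorem F35429 : act 0 n7430 = n6291 := d8_1 D7430 (iv D6291) (iv F28431)
def n7431 : Q := act 6 n5894
theorem D7431 : act 6 n5894 = n7431 := rfl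
theorem F35435 : act 0 n7431 = n5895 := d5_1 D7431 (iv D5895) D5894
theorem F35436 : act 1 n7431 = n6292 := d13_1 D7431 (iv D6292) (iv F28442)
def n7432 : Q := act 5 n5895
theorem D7432 : act 5 n5895 = n7432 := rfl
def n7433 : Q := act 8 n5896
theorem D7433 : act 8 n5896 = n7433 := rfl
theorem F35448 : act 0 n7433 = n6294 := d7_1 D7433 (iv D6294) (iv F28453)
def n7435 : Q := act 2 n5899
theorem D7435 : act 2 n5899 = n7435 := rfl
theorem F35461 : act 0 n7435 = n5902 := d1_1 D7435 (iv D5902) (iv F28473)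
theorem F35465 : act 7 n7435 = n7435 := d21_2 F28477 D7435 (iv D7435)
def n7436 : Q := act 6 n5899
theorem D7436 : act 6 n5899 = n7436 := rfl
theorem F35467 : act 0 n7436 = n5903 := d5_1 D7436 (iv D5903) (iv F28473)
theorem F35468 : act 1 n7436 = n6297 := d13_1 D7436 (iv D6297) (iv F28474)
theorem F35469 : act 3 n7436 = n5900 := d26_1 D7436 (iv D5900) D5899
def n7437 : Q := act 5 n5900
theorem D7437 : act 5 n5900 = n7437 := rfl
theorem F35472 : act 0 n7437 = n5904 := d4_1 D7437 (iv D5904) (iv F28479)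
theorem F35473 : act 1 n7437 = n6298 := d12_1 D7437 (iv D6298) (iv F28480)
def n7438 : Q := act 7 n5900
theorem D7438 : act 7 n5900 = n7438 := rfl
theorem F35478 : act 0 n7438 = n5905 := d6_1 D7438 (iv D5905) (iv F28479)
theorem F35479 : act 1 n7438 = n6299 := d14_1 D7438 (iv D6299) (iv F28480)
def n7439 : Q := act 6 n5902
theorem D7439 : act 6 n5902 = n7439 := rfl
theorem F35485 : act 2 n7439 = n5903 := d20_1 D7439 (iv D5903) D5902
def n7440 : Q := act 5 n5903
theorem D7440 : act 5 n5903 = n7440 := rfl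
theorem F35489 : act 1 n7440 = n5906 := d12_1 D7440 (iv D5906) (iv F28497)
theorem F35490 : act 3 n7440 = n5904 := d25_1 D7440 (iv D5904) (iv F28498)
def n7441 : Q := act 7 n5903
theorem D7441 : act 7 n5903 = n7441 := rfl
def n7442 : Q := act 7 n5904
theorem D7442 : act 7 n5904 = n7442 := rfl
theorem F35501 : act 5 n7442 = n5905 := d36_1 D7442 (iv D5905) D5904
def n7443 : Q := act 8 n5904
theorem D7443 : act 8 n5904 = n7443 := rfl
theorem F35503 : act 1 n7443 = n5909 := d15_1 D7443 (iv D5909) (iv F28501)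
def n7444 : Q := act 4 n5906
theorem D7444 : act 4 n5906 = n7444 := rfl
theorem F35507 : act 0 n7444 = n6305 := d3_1 D7444 (iv D6305) (iv F28511)
def n7445 : Q := act 7 n5906
theorem D7445 : act 7 n5906 = n7445 := rfl
theorem F35515 : act 3 n7445 = n5908 := d27_1 D7445 (iv D5908) (iv F28513)
theorem F35516 : act 5 n7445 = n5907 := d36_1 D7445 (iv D5907) D5906
def n7446 : Q := act 8 n5906
theorem D7446 : act 8 n5906 = n7446 := rfl
theorem F35518 : act 0 n7446 = n6307 := d7_1 D7446 (iv D6307) (iv F28511)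
def n7447 : Q := act 6 n5908
theorem D7447 : act 6 n5908 = n7447 := rfl
theorem F35523 : act 2 n7447 = n5910 := d20_1 D7447 (iv D5910) (iv F28523)
def n7448 : Q := act 8 n5908
theorem D7448 : act 8 n5908 = n7448 := rfl
theorem F35531 : act 7 n7448 = n5909 := d42_1 D7448 (iv D5909) D5908
def n7449 : Q := act 9 n5909
theorem D7449 : act 9 n5909 = n7449 := rfl
theorem F35532 : act 0 n7449 = n6310 := d8_1 D7449 (iv D6310) (iv F28527)
theorem F35533 : act 2 n7449 = n5912 := d23_1 D7449 (iv D5912) (iv F28528)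
theorem F35534 : act 4 n7449 = n7449 := d34_1 D7449 (iv D7449) F28529
theorem F35535 : act 6 n7449 = n7449 := d41_1 D7449 (iv D7449) F28530
theorem F35536 : act 8 n7449 = n7449 := d44_1 D7449 (iv D7449) (iv D5909) F23035 D5909
def n7450 : Q := act 8 n5910
theorem D7450 : act 8 n5910 = n7450 := rfl
theorem F35537 : act 0 n7450 = n6311 := d7_1 D7450 (iv D6311) (iv F28531)
theorem F35541 : act 6 n7450 = n5911 := d40_1 D7450 (iv D5911) D5910
theorem F35542 : act 7 n7450 = n7450 := d42_1 D7450 (iv D7450) F28536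
def n7451 : Q := act 9 n5911
theorem D7451 : act 9 n5911 = n7451 := rfl
theorem F35543 : act 0 n7451 = n6312 := d8_1 D7451 (iv D6312) (iv F28538)
theorem F35544 : act 1 n7451 = n7451 := d16_1 D7451 (iv D7451) F28539
theorem F35545 : act 3 n7451 = n7451 := d29_1 D7451 (iv D7451) F28540
theorem F35546 : act 4 n7451 = n7451 := d34_1 D7451 (iv D7451) F28541
theorem F35547 : act 7 n7451 = n5912 := d43_1 D7451 (iv D5912) (iv F28542)
theorem F35548 : act 8 n7451 = n7451 := d44_1 D7451 (iv D7451) (iv D5911) F23046 D5911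
def n7452 : Q := act 8 n5913
theorem D7452 : act 8 n5913 = n7452 := rfl
theorem F35549 : act 1 n7452 = n5915 := d15_1 D7452 (iv D5915) (iv F28549)
theorem F35550 : act 2 n7452 = n7452 := d22_1 D7452 (iv D7452) F28550
theorem F35551 : act 3 n7452 = n7452 := d28_1 D7452 (iv D7452) F28551
theorem F35552 : act 4 n7452 = n5925 := d33_1 D7452 (iv D5925) (iv F28552)
theorem F35553 : act 7 n7452 = n7452 := d42_1 D7452 (iv D7452) F28554
theorem F35554 : act 9 n7452 = n7452 := d44_2 D5913 D7452 (iv D7452) (iv D5913) F23057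
def n7453 : Q := act 8 n5914
theorem D7453 : act 8 n5914 = n7453 := rfl
theorem F35555 : act 0 n7453 = n6175 := d7_1 D7453 (iv D6175) (iv F28555)
theorem F35556 : act 2 n7453 = n5916 := d22_1 D7453 (iv D5916) (iv F28556)
theorem F35557 : act 3 n7453 = n7453 := d28_1 D7453 (iv D7453) F28557
theorem F35558 : act 4 n7453 = n5930 := d33_1 D7453 (iv D5930) (iv F28558)
theorem F35559 : act 6 n7453 = n5915 := d40_1 D7453 (iv D5915) (iv F28560)
theorem F35560 : act 7 n7453 = n6169 := d42_1 D7453 (iv D6169) (iv F28561)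
theorem F35561 : act 9 n7453 = n7453 := d44_2 D5914 D7453 (iv D7453) (iv D5914) F23062
def n7454 : Q := act 5 n5915
theorem D7454 : act 5 n5915 = n7454 := rfl
theorem F35562 : act 2 n7454 = n5917 := d19_1 D7454 (iv D5917) (iv F28562)
theorem F35563 : act 3 n7454 = n7454 := d25_1 D7454 (iv D7454) F28563
theorem F35564 : act 7 n7454 = n7454 := d36_2 F28565 D7454 (iv D7454)
theorem F35565 : act 8 n7454 = n7454 := d37_2 D5915 D7454 (iv D7454) (iv D5915) F23068
theorem F35566 : act 9 n7454 = n7454 := d38_2 F28566 D7454 (iv D7454)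
def n7455 : Q := act 5 n5916
theorem D7455 : act 5 n5916 = n7455 := rfl
theorem F35567 : act 0 n7455 = n6562 := d4_1 D7455 (iv D6562) (iv F28567)
theorem F35568 : act 1 n7455 = n7455 := d12_1 D7455 (iv D7455) F28568
theorem F35569 : act 3 n7455 = n5918 := d25_1 D7455 (iv D5918) (iv F28569)
theorem F35570 : act 7 n7455 = n6554 := d36_2 (iv F28572) D7455 (iv D6554)
theorem F35571 : act 8 n7455 = n6555 := d37_2 D5916 D7455 (iv D6555) (iv D5223) (iv F23074)
theorem F35572 : act 9 n7455 = n7455 := d38_2 F28573 D7455 (iv D7455)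
def n7456 : Q := act 4 n5917
theorem D7456 : act 4 n5917 = n7456 := rfl
theorem F35573 : act 1 n7456 = n7456 := d11_1 D7456 (iv D7456) F28574
theorem F35574 : act 3 n7456 = n7456 := d24_1 D7456 (iv D7456) F28575 F23091 (iv F28575)
theorem F35575 : act 5 n7456 = n5937 := d30_2 D5917 D7456 (iv D5937) (iv D4741) (iv F23079)
theorem F35576 : act 7 n7456 = n7456 := d32_2 F28576 D7456 (iv D7456)
theorem F35577 : act 8 n7456 = n7456 := d33_2 F28577 D7456 (iv D7456)
theorem F35578 : act 9 n7456 = n7456 := d34_2 F28578 D7456 (iv D7456)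
def n7457 : Q := act 6 n5917
theorem D7457 : act 6 n5917 = n7457 := rfl
theorem F35579 : act 1 n7457 = n7457 := d13_1 D7457 (iv D7457) F28574
theorem F35580 : act 3 n7457 = n5919 := d26_1 D7457 (iv D5919) (iv F28575)
theorem F35581 : act 8 n7457 = n7457 := d40_2 F28577 D7457 (iv D7457)
theorem F35582 : act 9 n7457 = n7457 := d41_2 F28578 D7457 (iv D7457)
def n7458 : Q := act 4 n5918
theorem D7458 : act 4 n5918 = n7458 := rfl
theorem F35583 : act 0 n7458 = n6760 := d3_1 D7458 (iv D6760) (iv F28579)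
theorem F35586 : act 5 n7458 = n5921 := d30_2 D5918 D7458 (iv D5921) (iv D4728) (iv F23085)
theorem F35587 : act 7 n7458 = n6747 := d32_2 (iv F28582) D7458 (iv D6747)
theorem F35588 : act 8 n7458 = n6749 := d33_2 (iv F28583) D7458 (iv D6749)
def n7459 : Q := act 6 n5918
theorem D7459 : act 6 n5918 = n7459 := rfl
theorem F35590 : act 0 n7459 = n6761 := d5_1 D7459 (iv D6761) (iv F28579)
theorem F35593 : act 5 n7459 = n5919 := d35_1 D7459 (iv D5919) (iv D4726) (iv F23086) D5918
def n7460 : Q := act 7 n5919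
theorem D7460 : act 7 n5919 = n7460 := rfl
def n7461 : Q := act 4 n5920
theorem D7461 : act 4 n5920 = n7461 := rfl
theorem F35605 : act 5 n7461 = n6747 := d30_2 D5920 D7461 (iv D6747) (iv D5366) (iv F23099)
theorem F35606 : act 7 n7461 = n5921 := d32_2 (iv F28594) D7461 (iv D5921)
def n7462 : Q := act 6 n5920
theorem D7462 : act 6 n5920 = n7462 := rfl
def n7463 : Q := act 3 n5921
theorem D7463 : act 3 n5921 = n7463 := rfl
theorem F35617 : act 1 n7463 = n7463 := d10_1 D7463 (iv D7463) F28597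
theorem F35618 : act 4 n7463 = n5947 := d24_2 D5921 D7463 (iv D5947) (iv D4748) (iv F23105)
theorem F35619 : act 6 n7463 = n7463 := d26_2 F28599 D7463 (iv D7463)
theorem F35620 : act 8 n7463 = n7463 := d28_2 F28600 D7463 (iv D7463)
theorem F35621 : act 9 n7463 = n7463 := d29_2 F28601 D7463 (iv D7463)
def n7464 : Q := act 8 n5922
theorem D7464 : act 8 n5922 = n7464 := rfl
theorem F35622 : act 0 n7464 = n5925 := d7_1 D7464 (iv D5925) (iv F28602)
theorem F35623 : act 2 n7464 = n7464 := d22_1 D7464 (iv D7464) F28603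
theorem F35624 : act 3 n7464 = n5995 := d28_1 D7464 (iv D5995) (iv F28604)
theorem F35625 : act 7 n7464 = n7464 := d42_1 D7464 (iv D7464) F28606
theorem F35626 : act 9 n7464 = n7464 := d44_2 D5922 D7464 (iv D7464) (iv D5922) F23113
def n7465 : Q := act 9 n5923
theorem D7465 : act 9 n5923 = n7465 := rfl
theorem F35627 : act 1 n7465 = n5928 := d16_1 D7465 (iv D5928) (iv F28607)
theorem F35628 : act 2 n7465 = n7465 := d23_1 D7465 (iv D7465) F28608
theorem F35629 : act 3 n7465 = n5999 := d29_1 D7465 (iv D5999) (iv F28609)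
theorem F35630 : act 5 n7465 = n5924 := d38_1 D7465 (iv D5924) D5923
theorem F35631 : act 6 n7465 = n5952 := d41_1 D7465 (iv D5952) (iv F28610)
def n7466 : Q := act 8 n5924
theorem D7466 : act 8 n5924 = n7466 := rfl
theorem F35632 : act 1 n7466 = n5930 := d15_1 D7466 (iv D5930) (iv F28611)
theorem F35633 : act 2 n7466 = n7466 := d22_1 D7466 (iv D7466) F28612
theorem F35634 : act 3 n7466 = n6001 := d28_1 D7466 (iv D6001) (iv F28613)
theorem F35635 : act 6 n7466 = n5925 := d40_1 D7466 (iv D5925) (iv F28614)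
theorem F35636 : act 9 n7466 = n7466 := d44_2 D5924 D7466 (iv D7466) (iv D5924) F23117
def n7467 : Q := act 5 n5925
theorem D7467 : act 5 n5925 = n7467 := rfl
theorem F35637 : act 1 n7467 = n5931 := d12_1 D7467 (iv D5931) (iv F28615)
theorem F35638 : act 2 n7467 = n7467 := d19_1 D7467 (iv D7467) F28616
theorem F35639 : act 3 n7467 = n6002 := d25_1 D7467 (iv D6002) (iv F28617)
theorem F35640 : act 7 n7467 = n7467 := d36_2 F28618 D7467 (iv D7467)
theorem F35641 : act 8 n7467 = n5954 := d37_2 D5925 D7467 (iv D5954) (iv D4753) (iv F23121)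
theorem F35642 : act 9 n7467 = n7467 := d38_2 F28619 D7467 (iv D7467)
def n7468 : Q := act 9 n5926
theorem D7468 : act 9 n5926 = n7468 := rfl
theorem F35643 : act 0 n7468 = n6046 := d8_1 D7468 (iv D6046) (iv F28620)
theorem F35644 : act 2 n7468 = n5932 := d23_1 D7468 (iv D5932) (iv F28621)
theorem F35645 : act 4 n7468 = n5928 := d34_1 D7468 (iv D5928) D5926
theorem F35646 : act 5 n7468 = n6042 := d38_1 D7468 (iv D6042) (iv F28622)
theorem F35647 : act 6 n7468 = n5956 := d41_1 D7468 (iv D5956) (iv F28623)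
theorem F35648 : act 7 n7468 = n6041 := d43_1 D7468 (iv D6041) F28624
def n7469 : Q := act 9 n5927
theorem D7469 : act 9 n5927 = n7469 := rfl
theorem F35649 : act 0 n7469 = n6045 := d8_1 D7469 (iv D6045) (iv F28625)
theorem F35650 : act 2 n7469 = n5933 := d23_1 D7469 (iv D5933) (iv F28626)
theorem F35651 : act 3 n7469 = n6006 := d29_1 D7469 (iv D6006) (iv F28627)
theorem F35652 : act 4 n7469 = n6041 := d34_1 D7469 (iv D6041) (iv F28628)
theorem F35653 : act 5 n7469 = n5929 := d38_1 D7469 (iv D5929) (iv F28629)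
theorem F35654 : act 7 n7469 = n5928 := d43_1 D7469 (iv D5928) D5927
def n7470 : Q := act 8 n5928
theorem D7470 : act 8 n5928 = n7470 := rfl
theorem F35655 : act 2 n7470 = n5934 := d22_1 D7470 (iv D5934) (iv F28630)
theorem F35656 : act 3 n7470 = n6008 := d28_1 D7470 (iv D6008) (iv F28631)
theorem F35657 : act 6 n7470 = n5957 := d40_1 D7470 (iv D5957) (iv F28633)
def n7471 : Q := act 8 n5929
theorem D7471 : act 8 n5929 = n7471 := rfl
theorem F35658 : act 0 n7471 = n6174 := d7_1 D7471 (iv D6174) (iv F28634)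
theorem F35659 : act 2 n7471 = n5935 := d22_1 D7471 (iv D5935) (iv F28635)
theorem F35660 : act 3 n7471 = n6009 := d28_1 D7471 (iv D6009) (iv F28636)
theorem F35661 : act 4 n7471 = n6169 := d33_1 D7471 (iv D6169) (iv F28637)
theorem F35662 : act 6 n7471 = n7471 := d40_1 D7471 (iv D7471) F28638
theorem F35663 : act 7 n7471 = n5930 := d42_1 D7471 (iv D5930) (iv F28639)
theorem F35664 : act 9 n7471 = n7471 := d44_2 D5929 D7471 (iv D7471) (iv D5929) F23131
def n7472 : Q := act 5 n5930
theorem D7472 : act 5 n5930 = n7472 := rfl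
theorem F35665 : act 2 n7472 = n5936 := d19_1 D7472 (iv D5936) (iv F28640)
theorem F35666 : act 3 n7472 = n6010 := d25_1 D7472 (iv D6010) (iv F28641)
theorem F35667 : act 9 n7472 = n7472 := d38_2 F28643 D7472 (iv D7472)
def n7473 : Q := act 4 n5931
theorem D7473 : act 4 n5931 = n7473 := rfl
theorem F35668 : act 2 n7473 = n5937 := d18_1 D7473 (iv D5937) (iv F28644)
theorem F35669 : act 7 n7473 = n7473 := d32_2 F28646 D7473 (iv D7473)
theorem F35670 : act 8 n7473 = n5959 := d33_2 (iv F28647) D7473 (iv D5959)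
theorem F35671 : act 9 n7473 = n7473 := d34_2 F28648 D7473 (iv D7473)
def n7474 : Q := act 6 n5931
theorem D7474 : act 6 n5931 = n7474 := rfl
theorem F35672 : act 2 n7474 = n5938 := d20_1 D7474 (iv D5938) (iv F28644)
theorem F35673 : act 3 n7474 = n6012 := d26_1 D7474 (iv D6012) (iv F28645)
theorem F35674 : act 8 n7474 = n5960 := d40_2 (iv F28647) D7474 (iv D5960)
theorem F35675 : act 9 n7474 = n7474 := d41_2 F28648 D7474 (iv D7474)
def n7475 : Q := act 8 n5932
theorem D7475 : act 8 n5932 = n7475 := rfl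
theorem F35676 : act 0 n7475 = n6372 := d7_1 D7475 (iv D6372) (iv F28649)
theorem F35677 : act 1 n7475 = n7475 := d15_1 D7475 (iv D7475) F28650
theorem F35678 : act 3 n7475 = n7475 := d28_1 D7475 (iv D7475) F28651
theorem F35679 : act 4 n7475 = n5934 := d33_1 D7475 (iv D5934) (iv F28652)
theorem F35680 : act 6 n7475 = n5961 := d40_1 D7475 (iv D5961) (iv F28654)
theorem F35681 : act 7 n7475 = n6366 := d42_1 D7475 (iv D6366) (iv F28655)
def n7476 : Q := act 8 n5933
theorem D7476 : act 8 n5933 = n7476 := rfl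
theorem F35682 : act 0 n7476 = n6371 := d7_1 D7476 (iv D6371) (iv F28656)
theorem F35683 : act 1 n7476 = n7476 := d15_1 D7476 (iv D7476) F28657
theorem F35684 : act 3 n7476 = n5939 := d28_1 D7476 (iv D5939) (iv F28658)
theorem F35685 : act 4 n7476 = n6366 := d33_1 D7476 (iv D6366) (iv F28659)
theorem F35686 : act 7 n7476 = n5934 := d42_1 D7476 (iv D5934) (iv F28661)
def n7477 : Q := act 5 n5934
theorem D7477 : act 5 n5934 = n7477 := rfl
theorem F35687 : act 1 n7477 = n7477 := d12_1 D7477 (iv D7477) F28662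
theorem F35688 : act 3 n7477 = n5940 := d25_1 D7477 (iv D5940) (iv F28663)
theorem F35689 : act 8 n7477 = n5936 := d37_2 D5934 D7477 (iv D5936) (iv D4740) (iv F23152)
def n7478 : Q := act 5 n5935
theorem D7478 : act 5 n5935 = n7478 := rfl
theorem F35690 : act 0 n7478 = n6561 := d4_1 D7478 (iv D6561) (iv F28665)
theorem F35691 : act 1 n7478 = n7478 := d12_1 D7478 (iv D7478) F28666
theorem F35692 : act 3 n7478 = n5941 := d25_1 D7478 (iv D5941) (iv F28667)
theorem F35693 : act 7 n7478 = n5936 := d36_2 (iv F28670) D7478 (iv D5936)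
theorem F35694 : act 9 n7478 = n7478 := d38_2 F28671 D7478 (iv D7478)
def n7479 : Q := act 4 n5936
theorem D7479 : act 4 n5936 = n7479 := rfl
theorem F35695 : act 1 n7479 = n7479 := d11_1 D7479 (iv D7479) F28672
theorem F35696 : act 9 n7479 = n7479 := d34_2 F28674 D7479 (iv D7479)
def n7480 : Q := act 6 n5936
theorem D7480 : act 6 n5936 = n7480 := rfl
theorem F35697 : act 1 n7480 = n7480 := d13_1 D7480 (iv D7480) F28672
theorem F35698 : act 3 n7480 = n5943 := d26_1 D7480 (iv D5943) (iv F28673)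
theorem F35699 : act 5 n7480 = n5938 := d35_1 D7480 (iv D5938) (iv D4741) (iv F23162) D5936
theorem F35700 : act 9 n7480 = n7480 := d41_2 F28674 D7480 (iv D7480)
def n7481 : Q := act 6 n5937
theorem D7481 : act 6 n5937 = n7481 := rfl
theorem F35701 : act 1 n7481 = n7481 := d13_1 D7481 (iv D7481) F28675
theorem F35702 : act 3 n7481 = n7481 := d26_1 D7481 (iv D7481) F28676
theorem F35703 : act 4 n7481 = n5938 := d31_1 D7481 (iv D5938) D5937
theorem F35704 : act 8 n7481 = n5965 := d40_2 (iv F28678) D7481 (iv D5965)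
theorem F35705 : act 9 n7481 = n7481 := d41_2 F28679 D7481 (iv D7481)
def n7482 : Q := act 7 n5938
theorem D7482 : act 7 n5938 = n7482 := rfl
theorem F35706 : act 1 n7482 = n7482 := d14_1 D7482 (iv D7482) F28680
theorem F35707 : act 3 n7482 = n5944 := d27_1 D7482 (iv D5944) (iv F28681)
theorem F35708 : act 6 n7482 = n7482 := d39_1 D7482 (iv D7482) (iv D5938) F23166 D5938
theorem F35709 : act 8 n7482 = n5966 := d42_2 (iv F28682) D7482 (iv D5966)
theorem F35710 : act 9 n7482 = n7482 := d43_2 F28683 D7482 (iv D7482)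
def n7483 : Q := act 5 n5939
theorem D7483 : act 5 n5939 = n7483 := rfl
theorem F35711 : act 1 n7483 = n7483 := d12_1 D7483 (iv D7483) F28684
theorem F35712 : act 2 n7483 = n6028 := d19_1 D7483 (iv D6028) (iv F28685)
theorem F35713 : act 7 n7483 = n5940 := d36_2 (iv F28687) D7483 (iv D5940)
theorem F35714 : act 8 n7483 = n5941 := d37_2 D5939 D7483 (iv D5941) (iv D4744) (iv F23172)
def n7484 : Q := act 4 n5940
theorem D7484 : act 4 n5940 = n7484 := rfl
theorem F35715 : act 1 n7484 = n7484 := d11_1 D7484 (iv D7484) F28688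
theorem F35716 : act 2 n7484 = n6030 := d18_1 D7484 (iv D6030) (iv F28689)
theorem F35717 : act 5 n7484 = n7484 := d30_2 D5940 D7484 (iv D7484) (iv D5940) F23176
theorem F35718 : act 8 n7484 = n5942 := d33_2 (iv F28690) D7484 (iv D5942)
def n7485 : Q := act 6 n5940
theorem D7485 : act 6 n5940 = n7485 := rfl
theorem F35719 : act 1 n7485 = n7485 := d13_1 D7485 (iv D7485) F28688
theorem F35720 : act 2 n7485 = n6031 := d20_1 D7485 (iv D6031) (iv F28689)
theorem F35721 : act 5 n7485 = n5968 := d35_1 D7485 (iv D5968) (iv D4763) (iv F23177) D5940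
theorem F35722 : act 8 n7485 = n5943 := d40_2 (iv F28690) D7485 (iv D5943)
def n7486 : Q := act 4 n5941
theorem D7486 : act 4 n5941 = n7486 := rfl
theorem F35723 : act 1 n7486 = n7486 := d11_1 D7486 (iv D7486) F28691
theorem F35724 : act 2 n7486 = n6032 := d18_1 D7486 (iv D6032) (iv F28692)
theorem F35725 : act 5 n7486 = n5945 := d30_2 D5941 D7486 (iv D5945) (iv D4747) (iv F23180)
theorem F35726 : act 7 n7486 = n5942 := d32_2 (iv F28693) D7486 (iv D5942)
theorem F35727 : act 9 n7486 = n7486 := d34_2 F28694 D7486 (iv D7486)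
def n7487 : Q := act 6 n5941
theorem D7487 : act 6 n5941 = n7487 := rfl
theorem F35728 : act 1 n7487 = n7487 := d13_1 D7487 (iv D7487) F28691
theorem F35729 : act 2 n7487 = n6033 := d20_1 D7487 (iv D6033) (iv F28692)
theorem F35730 : act 5 n7487 = n7487 := d35_1 D7487 (iv D7487) (iv D5941) F23181 D5941
theorem F35731 : act 9 n7487 = n7487 := d41_2 F28694 D7487 (iv D7487)
def n7488 : Q := act 3 n5942
theorem D7488 : act 3 n5942 = n7488 := rfl
theorem F35732 : act 1 n7488 = n7488 := d10_1 D7488 (iv D7488) F28695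
theorem F35733 : act 5 n7488 = n5947 := d25_2 (iv F28697) D7488 (iv D5947)
theorem F35734 : act 9 n7488 = n7488 := d29_2 F28698 D7488 (iv D7488)
def n7489 : Q := act 6 n5942
theorem D7489 : act 6 n5942 = n7489 := rfl
theorem F35735 : act 1 n7489 = n7489 := d13_1 D7489 (iv D7489) F28695
theorem F35736 : act 2 n7489 = n6035 := d20_1 D7489 (iv D6035) (iv F28696)
theorem F35737 : act 4 n7489 = n5943 := d31_1 D7489 (iv D5943) D5942
theorem F35738 : act 5 n7489 = n7489 := d35_1 D7489 (iv D7489) F28697 F23199 (iv F28697)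
theorem F35739 : act 9 n7489 = n7489 := d41_2 F28698 D7489 (iv D7489)
def n7490 : Q := act 7 n5943
theorem D7490 : act 7 n5943 = n7490 := rfl
theorem F35740 : act 1 n7490 = n7490 := d14_1 D7490 (iv D7490) F28699
theorem F35741 : act 2 n7490 = n6036 := d21_1 D7490 (iv D6036) (iv F28700)
theorem F35742 : act 5 n7490 = n5944 := d36_1 D7490 (iv D5944) (iv F28701)
theorem F35743 : act 9 n7490 = n7490 := d43_2 F28702 D7490 (iv D7490)
def n7491 : Q := act 3 n5945
theorem D7491 : act 3 n5945 = n7491 := rfl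
theorem F35744 : act 1 n7491 = n7491 := d10_1 D7491 (iv D7491) F28709
theorem F35745 : act 7 n7491 = n5947 := d27_2 (iv F28711) D7491 (iv D5947)
theorem F35746 : act 8 n7491 = n7491 := d28_2 F28712 D7491 (iv D7491)
theorem F35747 : act 9 n7491 = n7491 := d29_2 F28713 D7491 (iv D7491)
def n7492 : Q := act 6 n5945
theorem D7492 : act 6 n5945 = n7492 := rfl
theorem F35748 : act 1 n7492 = n7492 := d13_1 D7492 (iv D7492) F28709
theorem F35749 : act 2 n7492 = n6038 := d20_1 D7492 (iv D6038) (iv F28710)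
theorem F35750 : act 4 n7492 = n5946 := d31_1 D7492 (iv D5946) D5945
theorem F35751 : act 7 n7492 = n7492 := d39_2 (iv F28711) D7492 (iv D7492) F28711 F23199
theorem F35752 : act 8 n7492 = n7492 := d40_2 F28712 D7492 (iv D7492)
theorem F35753 : act 9 n7492 = n7492 := d41_2 F28713 D7492 (iv D7492)
def n7493 : Q := act 2 n5947
theorem D7493 : act 2 n5947 = n7493 := rfl
theorem F35754 : act 3 n7493 = n6039 := d17_2 D5947 D7493 (iv D6039) (iv D4820) (iv F23198)
theorem F35755 : act 6 n7493 = n7493 := d20_2 F28721 D7493 (iv D7493)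
theorem F35756 : act 8 n7493 = n7493 := d22_2 F28722 D7493 (iv D7493)
theorem F35757 : act 9 n7493 = n7493 := d23_2 F28723 D7493 (iv D7493)
def n7494 : Q := act 9 n5948
theorem D7494 : act 9 n5948 = n7494 := rfl
theorem F35758 : act 0 n7494 = n5952 := d8_1 D7494 (iv D5952) (iv F28724)
theorem F35759 : act 2 n7494 = n7494 := d23_1 D7494 (iv D7494) F28725
theorem F35760 : act 3 n7494 = n6041 := d29_1 D7494 (iv D6041) (iv F28726)
theorem F35761 : act 5 n7494 = n5949 := d38_1 D7494 (iv D5949) D5948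
def n7495 : Q := act 8 n5949
theorem D7495 : act 8 n5949 = n7495 := rfl
theorem F35762 : act 0 n7495 = n5953 := d7_1 D7495 (iv D5953) (iv F28727)
theorem F35763 : act 2 n7495 = n7495 := d22_1 D7495 (iv D7495) F28728
theorem F35764 : act 3 n7495 = n6043 := d28_1 D7495 (iv D6043) (iv F28729)
theorem F35765 : act 4 n7495 = n7495 := d33_1 D7495 (iv D7495) F28730
theorem F35766 : act 6 n7495 = n5950 := d40_1 D7495 (iv D5950) (iv F28731)
theorem F35767 : act 9 n7495 = n5973 := d44_2 D5949 D7495 (iv D5973) (iv D4768) (iv F23206)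
def n7496 : Q := act 5 n5950
theorem D7496 : act 5 n5950 = n7496 := rfl
theorem F35768 : act 0 n7496 = n5954 := d4_1 D7496 (iv D5954) (iv F28732)
theorem F35769 : act 2 n7496 = n7496 := d19_1 D7496 (iv D7496) F28733
theorem F35770 : act 3 n7496 = n6044 := d25_1 D7496 (iv D6044) (iv F28734)
theorem F35771 : act 7 n7496 = n7496 := d36_2 F28736 D7496 (iv D7496)
theorem F35772 : act 9 n7496 = n5974 := d38_2 (iv F28737) D7496 (iv D5974)
def n7497 : Q := act 9 n5951
theorem D7497 : act 9 n5951 = n7497 := rfl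
theorem F35773 : act 1 n7497 = n5956 := d16_1 D7497 (iv D5956) (iv F28738)
theorem F35774 : act 2 n7497 = n7497 := d23_1 D7497 (iv D7497) F28739
theorem F35775 : act 4 n7497 = n5952 := d34_1 D7497 (iv D5952) D5951
theorem F35776 : act 5 n7497 = n7497 := d38_1 D7497 (iv D7497) F28740
def n7498 : Q := act 8 n5952
theorem D7498 : act 8 n5952 = n7498 := rfl
theorem F35777 : act 1 n7498 = n5957 := d15_1 D7498 (iv D5957) (iv F28741)
theorem F35778 : act 2 n7498 = n7498 := d22_1 D7498 (iv D7498) F28742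
theorem F35779 : act 3 n7498 = n6048 := d28_1 D7498 (iv D6048) (iv F28743)
def n7499 : Q := act 5 n5953
theorem D7499 : act 5 n5953 = n7499 := rfl
theorem F35780 : act 1 n7499 = n5958 := d12_1 D7499 (iv D5958) (iv F28745)
theorem F35781 : act 2 n7499 = n7499 := d19_1 D7499 (iv D7499) F28746
theorem F35782 : act 3 n7499 = n6050 := d25_1 D7499 (iv D6050) (iv F28747)
theorem F35783 : act 9 n7499 = n5975 := d38_2 (iv F28750) D7499 (iv D5975)
def n7500 : Q := act 4 n5954
theorem D7500 : act 4 n5954 = n7500 := rfl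
theorem F35784 : act 1 n7500 = n5959 := d11_1 D7500 (iv D5959) (iv F28751)
theorem F35785 : act 2 n7500 = n7500 := d18_1 D7500 (iv D7500) F28752
theorem F35786 : act 5 n7500 = n7500 := d30_2 D5954 D7500 (iv D7500) (iv D5954) F23223
theorem F35787 : act 7 n7500 = n7500 := d32_2 F28754 D7500 (iv D7500)
theorem F35788 : act 9 n7500 = n5976 := d34_2 (iv F28755) D7500 (iv D5976)
def n7501 : Q := act 6 n5954
theorem D7501 : act 6 n5954 = n7501 := rfl
theorem F35789 : act 1 n7501 = n5960 := d13_1 D7501 (iv D5960) (iv F28751)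
theorem F35790 : act 2 n7501 = n7501 := d20_1 D7501 (iv D7501) F28752
theorem F35791 : act 3 n7501 = n6052 := d26_1 D7501 (iv D6052) (iv F28753)
theorem F35792 : act 9 n7501 = n5977 := d41_2 (iv F28755) D7501 (iv D5977)
def n7502 : Q := act 9 n5955
theorem D7502 : act 9 n5955 = n7502 := rfl
theorem F35793 : act 2 n7502 = n7502 := d23_1 D7502 (iv D7502) F28756
theorem F35794 : act 3 n7502 = n5956 := d29_1 D7502 (iv D5956) D5955
theorem F35795 : act 4 n7502 = n6054 := d34_1 D7502 (iv D6054) (iv F28757)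
theorem F35796 : act 5 n7502 = n7502 := d38_1 D7502 (iv D7502) F28758
def n7503 : Q := act 8 n5956
theorem D7503 : act 8 n5956 = n7503 := rfl
theorem F35797 : act 2 n7503 = n5961 := d22_1 D7503 (iv D5961) (iv F28759)
theorem F35798 : act 4 n7503 = n5957 := d33_1 D7503 (iv D5957) (iv F28760)
def n7504 : Q := act 5 n5957
theorem D7504 : act 5 n5957 = n7504 := rfl
theorem F35799 : act 2 n7504 = n5962 := d19_1 D7504 (iv D5962) (iv F28762)
theorem F35800 : act 3 n7504 = n6061 := d25_1 D7504 (iv D6061) (iv F28763)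
theorem F35801 : act 8 n7504 = n5958 := d37_2 D5957 D7504 (iv D5958) (iv D4756) (iv F23230)
def n7505 : Q := act 4 n5958
theorem D7505 : act 4 n5958 = n7505 := rfl
theorem F35802 : act 2 n7505 = n5963 := d18_1 D7505 (iv D5963) (iv F28764)
theorem F35803 : act 5 n7505 = n7505 := d30_2 D5958 D7505 (iv D7505) (iv D5958) F23233
theorem F35804 : act 9 n7505 = n5978 := d34_2 (iv F28766) D7505 (iv D5978)
def n7506 : Q := act 6 n5958
theorem D7506 : act 6 n5958 = n7506 := rfl
theorem F35805 : act 2 n7506 = n5964 := d20_1 D7506 (iv D5964) (iv F28764)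
theorem F35806 : act 3 n7506 = n6064 := d26_1 D7506 (iv D6064) (iv F28765)
theorem F35807 : act 5 n7506 = n5960 := d35_1 D7506 (iv D5960) (iv D4757) (iv F23234) D5958
theorem F35808 : act 9 n7506 = n5979 := d41_2 (iv F28766) D7506 (iv D5979)
def n7507 : Q := act 3 n5959
theorem D7507 : act 3 n5959 = n7507 := rfl
theorem F35809 : act 2 n7507 = n7507 := d17_1 D7507 (iv D7507) F28767 F23250 (iv F28767)
theorem F35810 : act 4 n7507 = n6065 := d24_2 D5959 D7507 (iv D6065) (iv D4842) (iv F23237)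
theorem F35811 : act 5 n7507 = n7507 := d25_2 F28768 D7507 (iv D7507)
theorem F35812 : act 7 n7507 = n7507 := d27_2 F28769 D7507 (iv D7507)
theorem F35813 : act 9 n7507 = n5980 := d29_2 (iv F28770) D7507 (iv D5980)
def n7508 : Q := act 6 n5959
theorem D7508 : act 6 n5959 = n7508 := rfl
theorem F35814 : act 2 n7508 = n5965 := d20_1 D7508 (iv D5965) (iv F28767)
theorem F35815 : act 4 n7508 = n5960 := d31_1 D7508 (iv D5960) D5959
theorem F35816 : act 9 n7508 = n5981 := d41_2 (iv F28770) D7508 (iv D5981)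
def n7509 : Q := act 7 n5960
theorem D7509 : act 7 n5960 = n7509 := rfl
theorem F35817 : act 2 n7509 = n5966 := d21_1 D7509 (iv D5966) (iv F28771)
theorem F35818 : act 3 n7509 = n6067 := d27_1 D7509 (iv D6067) (iv F28772)
theorem F35819 : act 6 n7509 = n7509 := d39_1 D7509 (iv D7509) (iv D5960) F23238 D5960
theorem F35820 : act 9 n7509 = n5982 := d43_2 (iv F28773) D7509 (iv D5982)
def n7510 : Q := act 5 n5961
theorem D7510 : act 5 n5961 = n7510 := rfl
theorem F35821 : act 1 n7510 = n7510 := d12_1 D7510 (iv D7510) F28774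
theorem F35822 : act 3 n7510 = n7510 := d25_1 D7510 (iv D7510) F28775
theorem F35823 : act 8 n7510 = n7510 := d37_2 D5961 D7510 (iv D7510) (iv D5961) F23243
def n7511 : Q := act 4 n5962
theorem D7511 : act 4 n5962 = n7511 := rfl
theorem F35824 : act 1 n7511 = n7511 := d11_1 D7511 (iv D7511) F28777
theorem F35825 : act 8 n7511 = n5963 := d33_2 (iv F28779) D7511 (iv D5963)
def n7512 : Q := act 6 n5962
theorem D7512 : act 6 n5962 = n7512 := rfl
theorem F35826 : act 1 n7512 = n7512 := d13_1 D7512 (iv D7512) F28777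
theorem F35827 : act 3 n7512 = n5968 := d26_1 D7512 (iv D5968) (iv F28778)
theorem F35828 : act 8 n7512 = n5964 := d40_2 (iv F28779) D7512 (iv D5964)
def n7513 : Q := act 3 n5963
theorem D7513 : act 3 n5963 = n7513 := rfl
theorem F35829 : act 1 n7513 = n7513 := d10_1 D7513 (iv D7513) F28780
theorem F35830 : act 4 n7513 = n5969 := d24_2 D5963 D7513 (iv D5969) (iv D4764) (iv F23247)
theorem F35831 : act 5 n7513 = n7513 := d25_2 F28781 D7513 (iv D7513)
theorem F35832 : act 9 n7513 = n5983 := d29_2 (iv F28782) D7513 (iv D5983)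
def n7514 : Q := act 6 n5963
theorem D7514 : act 6 n5963 = n7514 := rfl
theorem F35833 : act 1 n7514 = n7514 := d13_1 D7514 (iv D7514) F28780
theorem F35834 : act 4 n7514 = n5964 := d31_1 D7514 (iv D5964) D5963
theorem F35835 : act 9 n7514 = n5984 := d41_2 (iv F28782) D7514 (iv D5984)
def n7515 : Q := act 7 n5964
theorem D7515 : act 7 n5964 = n7515 := rfl
theorem F35836 : act 1 n7515 = n7515 := d14_1 D7515 (iv D7515) F28783
theorem F35837 : act 3 n7515 = n5971 := d27_1 D7515 (iv D5971) (iv F28784)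
theorem F35838 : act 5 n7515 = n5966 := d36_1 D7515 (iv D5966) (iv F28785)
theorem F35839 : act 9 n7515 = n5985 := d43_2 (iv F28786) D7515 (iv D5985)
def n7516 : Q := act 5 n5965
theorem D7516 : act 5 n5965 = n7516 := rfl
theorem F35840 : act 1 n7516 = n7516 := d12_1 D7516 (iv D7516) F28787
theorem F35841 : act 3 n7516 = n7516 := d25_1 D7516 (iv D7516) F28788
theorem F35842 : act 6 n7516 = n7516 := d35_2 D5965 D7516 (iv D7516) (iv D5965) F23251
theorem F35843 : act 9 n7516 = n5986 := d38_2 (iv F28790) D7516 (iv D5986)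
def n7517 : Q := act 7 n5965
theorem D7517 : act 7 n5965 = n7517 := rfl
theorem F35844 : act 1 n7517 = n7517 := d14_1 D7517 (iv D7517) F28787
theorem F35845 : act 3 n7517 = n7517 := d27_1 D7517 (iv D7517) F28788
theorem F35846 : act 4 n7517 = n5966 := d32_1 D7517 (iv D5966) (iv F28789)
theorem F35847 : act 6 n7517 = n7517 := d39_1 D7517 (iv D7517) (iv D5965) F23252 D5965
theorem F35848 : act 9 n7517 = n5987 := d43_2 (iv F28790) D7517 (iv D5987)
def n7518 : Q := act 3 n5967
theorem D7518 : act 3 n5967 = n7518 := rfl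
theorem F35849 : act 1 n7518 = n7518 := d10_1 D7518 (iv D7518) F28795
theorem F35850 : act 5 n7518 = n7518 := d25_2 F28797 D7518 (iv D7518)
theorem F35851 : act 8 n7518 = n5969 := d28_2 (iv F28798) D7518 (iv D5969)
def n7519 : Q := act 6 n5967
theorem D7519 : act 6 n5967 = n7519 := rfl
theorem F35852 : act 1 n7519 = n7519 := d13_1 D7519 (iv D7519) F28795
theorem F35853 : act 2 n7519 = n6090 := d20_1 D7519 (iv D6090) (iv F28796)
theorem F35854 : act 4 n7519 = n5968 := d31_1 D7519 (iv D5968) D5967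
theorem F35855 : act 8 n7519 = n5970 := d40_2 (iv F28798) D7519 (iv D5970)
def n7520 : Q := act 7 n5968
theorem D7520 : act 7 n5968 = n7520 := rfl
theorem F35856 : act 1 n7520 = n7520 := d14_1 D7520 (iv D7520) F28799
theorem F35857 : act 2 n7520 = n6091 := d21_1 D7520 (iv D6091) (iv F28800)
theorem F35858 : act 8 n7520 = n5971 := d42_2 (iv F28801) D7520 (iv D5971)
def n7521 : Q := act 2 n5969
theorem D7521 : act 2 n5969 = n7521 := rfl
theorem F35859 : act 3 n7521 = n6095 := d17_2 D5969 D7521 (iv D6095) (iv D4864) (iv F23261)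
theorem F35860 : act 5 n7521 = n5972 := d19_2 (iv F28803) D7521 (iv D5972)
theorem F35861 : act 9 n7521 = n5988 := d23_2 (iv F28804) D7521 (iv D5988)
def n7522 : Q := act 6 n5969
theorem D7522 : act 6 n5969 = n7522 := rfl
theorem F35862 : act 1 n7522 = n7522 := d13_1 D7522 (iv D7522) F28802
theorem F35863 : act 3 n7522 = n5970 := d26_1 D7522 (iv D5970) D5969
theorem F35864 : act 5 n7522 = n7522 := d35_1 D7522 (iv D7522) F28803 F23275 (iv F28803)
theorem F35865 : act 9 n7522 = n5989 := d41_2 (iv F28804) D7522 (iv D5989)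
def n7523 : Q := act 7 n5970
theorem D7523 : act 7 n5970 = n7523 := rfl
theorem F35866 : act 1 n7523 = n7523 := d14_1 D7523 (iv D7523) F28805
theorem F35867 : act 2 n7523 = n6097 := d21_1 D7523 (iv D6097) (iv F28806)
theorem F35868 : act 4 n7523 = n5971 := d32_1 D7523 (iv D5971) (iv F28807)
theorem F35869 : act 5 n7523 = n7523 := d36_1 D7523 (iv D7523) F28808
theorem F35870 : act 9 n7523 = n5990 := d43_2 (iv F28809) D7523 (iv D5990)
def n7524 : Q := act 1 n5972
theorem D7524 : act 1 n5972 = n7524 := rfl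
theorem F35871 : act 2 n7524 = n7524 := d9_2 D5972 D7524 (iv D7524) (iv D5972) F23273
theorem F35872 : act 3 n7524 = n6101 := d10_2 (iv F28814) D7524 (iv D6101)
theorem F35873 : act 4 n7524 = n7524 := d11_2 F28815 D7524 (iv D7524)
theorem F35874 : act 6 n7524 = n7524 := d13_2 F28816 D7524 (iv D7524)
theorem F35875 : act 8 n7524 = n7524 := d15_2 F28817 D7524 (iv D7524)
theorem F35876 : act 9 n7524 = n5991 := d16_2 (iv F28818) D7524 (iv D5991)
def n7525 : Q := act 5 n5973
theorem D7525 : act 5 n5973 = n7525 := rfl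
theorem F35877 : act 0 n7525 = n5975 := d4_1 D7525 (iv D5975) (iv F28819)
theorem F35878 : act 2 n7525 = n7525 := d19_1 D7525 (iv D7525) F28820
theorem F35879 : act 3 n7525 = n6105 := d25_1 D7525 (iv D6105) (iv F28821)
def n7526 : Q := act 4 n5974
theorem D7526 : act 4 n5974 = n7526 := rfl
theorem F35880 : act 0 n7526 = n5976 := d3_1 D7526 (iv D5976) (iv F28824)
theorem F35881 : act 2 n7526 = n7526 := d18_1 D7526 (iv D7526) F28825
theorem F35882 : act 5 n7526 = n7526 := d30_2 D5974 D7526 (iv D7526) (iv D5974) F23286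
theorem F35883 : act 7 n7526 = n7526 := d32_2 F28827 D7526 (iv D7526)
theorem F35884 : act 8 n7526 = n7526 := d33_2 F28828 D7526 (iv D7526)
def n7527 : Q := act 6 n5974
theorem D7527 : act 6 n5974 = n7527 := rfl
theorem F35885 : act 0 n7527 = n5977 := d5_1 D7527 (iv D5977) (iv F28824)
theorem F35886 : act 2 n7527 = n7527 := d20_1 D7527 (iv D7527) F28825
theorem F35887 : act 3 n7527 = n6107 := d26_1 D7527 (iv D6107) (iv F28826)
theorem F35888 : act 8 n7527 = n7527 := d40_2 F28828 D7527 (iv D7527)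
def n7528 : Q := act 4 n5975
theorem D7528 : act 4 n5975 = n7528 := rfl
theorem F35889 : act 1 n7528 = n5978 := d11_1 D7528 (iv D5978) (iv F28829)
theorem F35890 : act 2 n7528 = n7528 := d18_1 D7528 (iv D7528) F28830
theorem F35891 : act 5 n7528 = n7528 := d30_2 D5975 D7528 (iv D7528) (iv D5975) F23291
def n7529 : Q := act 6 n5975
theorem D7529 : act 6 n5975 = n7529 := rfl
theorem F35892 : act 1 n7529 = n5979 := d13_1 D7529 (iv D5979) (iv F28829)
theorem F35893 : act 2 n7529 = n7529 := d20_1 D7529 (iv D7529) F28830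
theorem F35894 : act 3 n7529 = n6112 := d26_1 D7529 (iv D6112) (iv F28831)
theorem F35895 : act 5 n7529 = n5977 := d35_1 D7529 (iv D5977) (iv D4771) (iv F23292) D5975
def n7530 : Q := act 3 n5976
theorem D7530 : act 3 n5976 = n7530 := rfl
theorem F35896 : act 1 n7530 = n5980 := d10_1 D7530 (iv D5980) (iv F28832)
theorem F35897 : act 4 n7530 = n6113 := d24_2 D5976 D7530 (iv D6113) (iv D4879) (iv F23295)
theorem F35898 : act 5 n7530 = n7530 := d25_2 F28834 D7530 (iv D7530)
theorem F35899 : act 7 n7530 = n7530 := d27_2 F28835 D7530 (iv D7530)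
theorem F35900 : act 8 n7530 = n7530 := d28_2 F28836 D7530 (iv D7530)
def n7531 : Q := act 6 n5976
theorem D7531 : act 6 n5976 = n7531 := rfl
theorem F35901 : act 1 n7531 = n5981 := d13_1 D7531 (iv D5981) (iv F28832)
theorem F35902 : act 2 n7531 = n7531 := d20_1 D7531 (iv D7531) F28833
theorem F35903 : act 4 n7531 = n5977 := d31_1 D7531 (iv D5977) D5976
theorem F35904 : act 8 n7531 = n7531 := d40_2 F28836 D7531 (iv D7531)
def n7532 : Q := act 7 n5977
theorem D7532 : act 7 n5977 = n7532 := rfl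
theorem F35905 : act 1 n7532 = n5982 := d14_1 D7532 (iv D5982) (iv F28837)
theorem F35906 : act 2 n7532 = n7532 := d21_1 D7532 (iv D7532) F28838
theorem F35907 : act 3 n7532 = n6115 := d27_1 D7532 (iv D6115) (iv F28839)
theorem F35908 : act 6 n7532 = n7532 := d39_1 D7532 (iv D7532) (iv D5977) F23296 D5977
theorem F35909 : act 8 n7532 = n7532 := d42_2 F28840 D7532 (iv D7532)
def n7533 : Q := act 3 n5978
theorem D7533 : act 3 n5978 = n7533 := rfl
theorem F35910 : act 4 n7533 = n6121 := d24_2 D5978 D7533 (iv D6121) (iv D4884) (iv F23299)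
theorem F35911 : act 5 n7533 = n7533 := d25_2 F28842 D7533 (iv D7533)
def n7534 : Q := act 6 n5978
theorem D7534 : act 6 n5978 = n7534 := rfl
theorem F35912 : act 2 n7534 = n5984 := d20_1 D7534 (iv D5984) (iv F28841)
theorem F35913 : act 4 n7534 = n5979 := d31_1 D7534 (iv D5979) D5978
def n7535 : Q := act 7 n5979
theorem D7535 : act 7 n5979 = n7535 := rfl
theorem F35914 : act 2 n7535 = n5985 := d21_1 D7535 (iv D5985) (iv F28843)
theorem F35915 : act 3 n7535 = n6123 := d27_1 D7535 (iv D6123) (iv F28844)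
theorem F35916 : act 5 n7535 = n5982 := d36_1 D7535 (iv D5982) (iv F28845)
def n7536 : Q := act 6 n5980
theorem D7536 : act 6 n5980 = n7536 := rfl
theorem F35917 : act 2 n7536 = n7536 := d20_1 D7536 (iv D7536) F28846
theorem F35918 : act 3 n7536 = n5981 := d26_1 D7536 (iv D5981) D5980
theorem F35919 : act 4 n7536 = n6124 := d31_1 D7536 (iv D6124) (iv F28847)
theorem F35920 : act 8 n7536 = n7536 := d40_2 F28850 D7536 (iv D7536)
def n7537 : Q := act 5 n5981
theorem D7537 : act 5 n5981 = n7537 := rfl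
theorem F35921 : act 2 n7537 = n5986 := d19_1 D7537 (iv D5986) (iv F28851)
theorem F35922 : act 6 n7537 = n7537 := d35_2 D5981 D7537 (iv D7537) (iv D5981) F23301
def n7538 : Q := act 7 n5981
theorem D7538 : act 7 n5981 = n7538 := rfl
theorem F35923 : act 2 n7538 = n5987 := d21_1 D7538 (iv D5987) (iv F28851)
theorem F35924 : act 4 n7538 = n5982 := d32_1 D7538 (iv D5982) (iv F28852)
theorem F35925 : act 6 n7538 = n7538 := d39_1 D7538 (iv D7538) (iv D5981) F23302 D5981
theorem F35926 : act 8 n7538 = n7538 := d42_2 F28853 D7538 (iv D7538)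
def n7539 : Q := act 2 n5983
theorem D7539 : act 2 n5983 = n7539 := rfl
theorem F35927 : act 4 n7539 = n5988 := d18_2 (iv F28859) D7539 (iv D5988)
theorem F35928 : act 5 n7539 = n7539 := d19_2 F28860 D7539 (iv D7539)
def n7540 : Q := act 6 n5983
theorem D7540 : act 6 n5983 = n7540 := rfl
theorem F35929 : act 1 n7540 = n7540 := d13_1 D7540 (iv D7540) F28858
theorem F35930 : act 3 n7540 = n5984 := d26_1 D7540 (iv D5984) D5983
theorem F35931 : act 4 n7540 = n5989 := d31_1 D7540 (iv D5989) (iv F28859)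
def n7541 : Q := act 5 n5984
theorem D7541 : act 5 n5984 = n7541 := rfl
theorem F35932 : act 1 n7541 = n7541 := d12_1 D7541 (iv D7541) F28861
theorem F35933 : act 4 n7541 = n5986 := d30_1 D7541 (iv D5986) F23314 (iv F23311) (iv F28862)
theorem F35934 : act 6 n7541 = n7541 := d35_2 D5984 D7541 (iv D7541) (iv D5984) F23308
def n7542 : Q := act 7 n5984
theorem D7542 : act 7 n5984 = n7542 := rfl
theorem F35935 : act 1 n7542 = n7542 := d14_1 D7542 (iv D7542) F28861
theorem F35936 : act 4 n7542 = n5985 := d32_1 D7542 (iv D5985) (iv F28862)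
def n7543 : Q := act 7 n5986
theorem D7543 : act 7 n5986 = n7543 := rfl
theorem F35937 : act 1 n7543 = n7543 := d14_1 D7543 (iv D7543) F28866
theorem F35938 : act 3 n7543 = n7543 := d27_1 D7543 (iv D7543) F28867
theorem F35939 : act 5 n7543 = n5987 := d36_1 D7543 (iv D5987) D5986
def n7544 : Q := act 8 n5986
theorem D7544 : act 8 n5986 = n7544 := rfl
theorem F35940 : act 1 n7544 = n7544 := d15_1 D7544 (iv D7544) F28866
theorem F35941 : act 3 n7544 = n7544 := d28_1 D7544 (iv D7544) F28867
theorem F35942 : act 5 n7544 = n7544 := d37_1 D7544 (iv D7544) (iv D5986) F23315 D5986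
theorem F35943 : act 6 n7544 = n7544 := d40_1 D7544 (iv D7544) F28868
def n7545 : Q := act 1 n5988
theorem D7545 : act 1 n5988 = n7545 := rfl
theorem F35944 : act 2 n7545 = n7545 := d9_2 D5988 D7545 (iv D7545) (iv D5988) F23320
theorem F35945 : act 3 n7545 = n6152 := d10_2 (iv F28874) D7545 (iv D6152)
theorem F35946 : act 5 n7545 = n5991 := d12_2 (iv F28875) D7545 (iv D5991)
def n7546 : Q := act 6 n5988
theorem D7546 : act 6 n5988 = n7546 := rfl
theorem F35947 : act 2 n7546 = n5989 := d20_1 D7546 (iv D5989) D5988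
theorem F35948 : act 3 n7546 = n6153 := d26_1 D7546 (iv D6153) (iv F28874)
theorem F35949 : act 5 n7546 = n7546 := d35_1 D7546 (iv D7546) F28875 F23331 (iv F28875)
def n7547 : Q := act 7 n5989
theorem D7547 : act 7 n5989 = n7547 := rfl
theorem F35950 : act 1 n7547 = n7547 := d14_1 D7547 (iv D7547) F28876
theorem F35951 : act 3 n7547 = n5990 := d27_1 D7547 (iv D5990) (iv F28877)
theorem F35952 : act 5 n7547 = n7547 := d36_1 D7547 (iv D7547) F28878
def n7548 : Q := act 0 n5991
theorem D7548 : act 0 n5991 = n7548 := rfl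
def n7549 : Q := act 9 n5993
theorem D7549 : act 9 n5993 = n7549 := rfl
theorem F35958 : act 0 n7549 = n5999 := d8_1 D7549 (iv D5999) (iv F28893)
theorem F35959 : act 2 n7549 = n6313 := d23_1 D7549 (iv D6313) (iv F28894)
theorem F35960 : act 5 n7549 = n5994 := d38_1 D7549 (iv D5994) D5993
theorem F35961 : act 6 n7549 = n6041 := d41_1 D7549 (iv D6041) (iv F28895)
def n7550 : Q := act 8 n5994
theorem D7550 : act 8 n5994 = n7550 := rfl
theorem F35962 : act 0 n7550 = n6001 := d7_1 D7550 (iv D6001) (iv F28896)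
theorem F35963 : act 2 n7550 = n6315 := d22_1 D7550 (iv D6315) (iv F28897)
theorem F35964 : act 4 n7550 = n7550 := d33_1 D7550 (iv D7550) F28898
theorem F35965 : act 6 n7550 = n5995 := d40_1 D7550 (iv D5995) (iv F28899)
theorem F35966 : act 9 n7550 = n7550 := d44_2 D5994 D7550 (iv D7550) (iv D5994) F23341
def n7551 : Q := act 5 n5995
theorem D7551 : act 5 n5995 = n7551 := rfl
theorem F35967 : act 0 n7551 = n6002 := d4_1 D7551 (iv D6002) (iv F28900)
theorem F35968 : act 2 n7551 = n6316 := d19_1 D7551 (iv D6316) (iv F28901)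
theorem F35969 : act 7 n7551 = n7551 := d36_2 F28903 D7551 (iv D7551)
theorem F35970 : act 8 n7551 = n6044 := d37_2 D5995 D7551 (iv D6044) (iv D4824) (iv F23345)
theorem F35971 : act 9 n7551 = n7551 := d38_2 F28904 D7551 (iv D7551)
def n7552 : Q := act 9 n5996
theorem D7552 : act 9 n5996 = n7552 := rfl
theorem F35972 : act 1 n7552 = n6004 := d16_1 D7552 (iv D6004) (iv F28905)
theorem F35973 : act 2 n7552 = n6017 := d23_1 D7552 (iv D6017) (iv F28906)
theorem F35974 : act 4 n7552 = n5999 := d34_1 D7552 (iv D5999) D5996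
theorem F35975 : act 5 n7552 = n7552 := d38_1 D7552 (iv D7552) F28907
theorem F35976 : act 6 n7552 = n6045 := d41_1 D7552 (iv D6045) (iv F28908)
theorem F35977 : act 7 n7552 = n6007 := d43_1 D7552 (iv D6007) F28909
def n7553 : Q := act 9 n5997
theorem D7553 : act 9 n5997 = n7553 := rfl
theorem F35978 : act 1 n7553 = n6006 := d16_1 D7553 (iv D6006) (iv F28911)
theorem F35979 : act 2 n7553 = n6014 := d23_1 D7553 (iv D6014) (iv F28912)
theorem F35980 : act 4 n7553 = n6007 := d34_1 D7553 (iv D6007) (iv F28913)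
theorem F35981 : act 5 n7553 = n6000 := d38_1 D7553 (iv D6000) (iv F28914)
theorem F35982 : act 6 n7553 = n6056 := d41_1 D7553 (iv D6056) (iv F28915)
theorem F35983 : act 7 n7553 = n5999 := d43_1 D7553 (iv D5999) D5997
def n7554 : Q := act 9 n5998
theorem D7554 : act 9 n5998 = n7554 := rfl
theorem F35984 : act 1 n7554 = n6007 := d16_1 D7554 (iv D6007) (iv F28917)
theorem F35985 : act 2 n7554 = n6013 := d23_1 D7554 (iv D6013) (iv F28918)
theorem F35986 : act 4 n7554 = n6006 := d34_1 D7554 (iv D6006) (iv F28919)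
theorem F35987 : act 5 n7554 = n7554 := d38_1 D7554 (iv D7554) F28920
theorem F35988 : act 6 n7554 = n6047 := d41_1 D7554 (iv D6047) (iv F28921)
theorem F35989 : act 7 n7554 = n6004 := d43_1 D7554 (iv D6004) (iv F28922)
def n7555 : Q := act 8 n5999
theorem D7555 : act 8 n5999 = n7555 := rfl
theorem F35990 : act 1 n7555 = n6008 := d15_1 D7555 (iv D6008) (iv F28923)
theorem F35991 : act 2 n7555 = n6317 := d22_1 D7555 (iv D6317) (iv F28924)
theorem F35992 : act 6 n7555 = n6048 := d40_1 D7555 (iv D6048) (iv F28926)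
def n7556 : Q := act 8 n6000
theorem D7556 : act 8 n6000 = n7556 := rfl
theorem F35993 : act 1 n7556 = n6009 := d15_1 D7556 (iv D6009) (iv F28927)
theorem F35994 : act 2 n7556 = n6318 := d22_1 D7556 (iv D6318) (iv F28928)
theorem F35995 : act 4 n7556 = n7556 := d33_1 D7556 (iv D7556) F28929
theorem F35996 : act 6 n7556 = n7556 := d40_1 D7556 (iv D7556) F28930
theorem F35997 : act 7 n7556 = n6001 := d42_1 D7556 (iv D6001) (iv F28931)
theorem F35998 : act 9 n7556 = n7556 := d44_2 D6000 D7556 (iv D7556) (iv D6000) F23354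
def n7557 : Q := act 5 n6001
theorem D7557 : act 5 n6001 = n7557 := rfl
theorem F35999 : act 1 n7557 = n6010 := d12_1 D7557 (iv D6010) (iv F28932)
theorem F36000 : act 2 n7557 = n6319 := d19_1 D7557 (iv D6319) (iv F28933)
theorem F36001 : act 9 n7557 = n7557 := d38_2 F28936 D7557 (iv D7557)
def n7558 : Q := act 4 n6002
theorem D7558 : act 4 n6002 = n7558 := rfl
theorem F36002 : act 1 n7558 = n6011 := d11_1 D7558 (iv D6011) (iv F28937)
theorem F36003 : act 2 n7558 = n6320 := d18_1 D7558 (iv D6320) (iv F28938)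
theorem F36004 : act 5 n7558 = n7558 := d30_2 D6002 D7558 (iv D7558) (iv D6002) F23361
theorem F36005 : act 7 n7558 = n7558 := d32_2 F28939 D7558 (iv D7558)
theorem F36006 : act 8 n7558 = n6051 := d33_2 (iv F28940) D7558 (iv D6051)
theorem F36007 : act 9 n7558 = n7558 := d34_2 F28941 D7558 (iv D7558)
def n7559 : Q := act 6 n6002
theorem D7559 : act 6 n6002 = n7559 := rfl
theorem F36008 : act 1 n7559 = n6012 := d13_1 D7559 (iv D6012) (iv F28937)
theorem F36009 : act 2 n7559 = n6321 := d20_1 D7559 (iv D6321) (iv F28938)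
theorem F36010 : act 8 n7559 = n6052 := d40_2 (iv F28940) D7559 (iv D6052)
theorem F36011 : act 9 n7559 = n7559 := d41_2 F28941 D7559 (iv D7559)
def n7560 : Q := act 9 n6003
theorem D7560 : act 9 n6003 = n7560 := rfl
theorem F36012 : act 2 n7560 = n7560 := d23_1 D7560 (iv D7560) F28942
theorem F36013 : act 3 n7560 = n6004 := d29_1 D7560 (iv D6004) D6003
theorem F36014 : act 5 n7560 = n7560 := d38_1 D7560 (iv D7560) F28943
theorem F36015 : act 6 n7560 = n6054 := d41_1 D7560 (iv D6054) (iv F28944)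
def n7561 : Q := act 8 n6004
theorem D7561 : act 8 n6004 = n7561 := rfl
theorem F36016 : act 2 n7561 = n6015 := d22_1 D7561 (iv D6015) (iv F28945)
theorem F36017 : act 4 n7561 = n6008 := d33_1 D7561 (iv D6008) (iv F28946)
theorem F36018 : act 6 n7561 = n6057 := d40_1 D7561 (iv D6057) (iv F28948)
def n7562 : Q := act 9 n6005
theorem D7562 : act 9 n6005 = n7562 := rfl
theorem F36019 : act 1 n7562 = n6056 := d16_1 D7562 (iv D6056) (iv F28949)
theorem F36020 : act 2 n7562 = n6016 := d23_1 D7562 (iv D6016) (iv F28950)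
theorem F36021 : act 4 n7562 = n6047 := d34_1 D7562 (iv D6047) (iv F28951)
theorem F36022 : act 5 n7562 = n7562 := d38_1 D7562 (iv D7562) F28952
theorem F36023 : act 6 n7562 = n6006 := d41_1 D7562 (iv D6006) D6005
theorem F36024 : act 7 n7562 = n6058 := d43_1 D7562 (iv D6058) (iv F28953)
def n7563 : Q := act 8 n6006
theorem D7563 : act 8 n6006 = n7563 := rfl
theorem F36025 : act 2 n7563 = n6018 := d22_1 D7563 (iv D6018) (iv F28955)
theorem F36026 : act 7 n7563 = n6008 := d42_1 D7563 (iv D6008) (iv F28957)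
def n7564 : Q := act 8 n6007
theorem D7564 : act 8 n6007 = n7564 := rfl
theorem F36027 : act 2 n7564 = n6019 := d22_1 D7564 (iv D6019) (iv F28958)
theorem F36028 : act 6 n7564 = n6060 := d40_1 D7564 (iv D6060) (iv F28960)
theorem F36029 : act 9 n7564 = n6008 := d44_2 D6007 D7564 (iv D6008) (iv D4793) D4792
def n7565 : Q := act 5 n6008
theorem D7565 : act 5 n6008 = n7565 := rfl
theorem F36030 : act 2 n7565 = n6020 := d19_1 D7565 (iv D6020) (iv F28961)
theorem F36031 : act 8 n7565 = n6010 := d37_2 D6008 D7565 (iv D6010) (iv D4795) (iv F23373)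
def n7566 : Q := act 5 n6009
theorem D7566 : act 5 n6009 = n7566 := rfl
theorem F36032 : act 2 n7566 = n6021 := d19_1 D7566 (iv D6021) (iv F28963)
theorem F36033 : act 7 n7566 = n6010 := d36_2 (iv F28966) D7566 (iv D6010)
theorem F36034 : act 9 n7566 = n7566 := d38_2 F28967 D7566 (iv D7566)
def n7567 : Q := act 4 n6010
theorem D7567 : act 4 n6010 = n7567 := rfl
theorem F36035 : act 2 n7567 = n6022 := d18_1 D7567 (iv D6022) (iv F28968)
theorem F36036 : act 5 n7567 = n7567 := d30_2 D6010 D7567 (iv D7567) (iv D6010) F23380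
theorem F36037 : act 9 n7567 = n7567 := d34_2 F28969 D7567 (iv D7567)
def n7568 : Q := act 6 n6010
theorem D7568 : act 6 n6010 = n7568 := rfl
theorem F36038 : act 2 n7568 = n6023 := d20_1 D7568 (iv D6023) (iv F28968)
theorem F36039 : act 5 n7568 = n6012 := d35_1 D7568 (iv D6012) (iv D4796) (iv F23381) D6010
theorem F36040 : act 9 n7568 = n7568 := d41_2 F28969 D7568 (iv D7568)
def n7569 : Q := act 3 n6011
theorem D7569 : act 3 n6011 = n7569 := rfl
theorem F36041 : act 2 n7569 = n7569 := d17_1 D7569 (iv D7569) F28970 F23437 (iv F28970)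
theorem F36042 : act 5 n7569 = n7569 := d25_2 F28971 D7569 (iv D7569)
theorem F36043 : act 7 n7569 = n7569 := d27_2 F28972 D7569 (iv D7569)
theorem F36044 : act 8 n7569 = n6065 := d28_2 (iv F28973) D7569 (iv D6065)
theorem F36045 : act 9 n7569 = n7569 := d29_2 F28974 D7569 (iv D7569)
def n7570 : Q := act 6 n6011
theorem D7570 : act 6 n6011 = n7570 := rfl
theorem F36046 : act 2 n7570 = n6024 := d20_1 D7570 (iv D6024) (iv F28970)
theorem F36047 : act 4 n7570 = n6012 := d31_1 D7570 (iv D6012) D6011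
theorem F36048 : act 8 n7570 = n6066 := d40_2 (iv F28973) D7570 (iv D6066)
theorem F36049 : act 9 n7570 = n7570 := d41_2 F28974 D7570 (iv D7570)
def n7571 : Q := act 7 n6012
theorem D7571 : act 7 n6012 = n7571 := rfl
theorem F36050 : act 2 n7571 = n6025 := d21_1 D7571 (iv D6025) (iv F28975)
theorem F36051 : act 6 n7571 = n7571 := d39_1 D7571 (iv D7571) (iv D6012) F23384 D6012
theorem F36052 : act 8 n7571 = n6067 := d42_2 (iv F28976) D7571 (iv D6067)
theorem F36053 : act 9 n7571 = n7571 := d43_2 F28977 D7571 (iv D7571)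
def n7572 : Q := act 8 n6013
theorem D7572 : act 8 n6013 = n7572 := rfl
theorem F36054 : act 1 n7572 = n6324 := d15_1 D7572 (iv D6324) (iv F28978)
theorem F36055 : act 3 n7572 = n7572 := d28_1 D7572 (iv D7572) F28979
theorem F36056 : act 4 n7572 = n6018 := d33_1 D7572 (iv D6018) (iv F28980)
theorem F36057 : act 6 n7572 = n6373 := d40_1 D7572 (iv D6373) (iv F28982)
theorem F36058 : act 7 n7572 = n6015 := d42_1 D7572 (iv D6015) (iv F28983)
theorem F36059 : act 9 n7572 = n6317 := d44_2 D6013 D7572 (iv D6317) (iv D5039) F23392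
def n7573 : Q := act 8 n6014
theorem D7573 : act 8 n6014 = n7573 := rfl
theorem F36060 : act 1 n7573 = n6323 := d15_1 D7573 (iv D6323) (iv F28984)
theorem F36061 : act 3 n7573 = n7573 := d28_1 D7573 (iv D7573) F28985
theorem F36062 : act 4 n7573 = n6019 := d33_1 D7573 (iv D6019) (iv F28986)
theorem F36063 : act 6 n7573 = n6070 := d40_1 D7573 (iv D6070) (iv F28988)
theorem F36064 : act 7 n7573 = n6317 := d42_1 D7573 (iv D6317) (iv F28989)
theorem F36065 : act 9 n7573 = n6015 := d44_2 D6014 D7573 (iv D6015) (iv D4799) D4798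
def n7574 : Q := act 5 n6015
theorem D7574 : act 5 n6015 = n7574 := rfl
theorem F36066 : act 1 n7574 = n6332 := d12_1 D7574 (iv D6332) (iv F28990)
theorem F36067 : act 3 n7574 = n7574 := d25_1 D7574 (iv D7574) F28991
theorem F36068 : act 8 n7574 = n7574 := d37_2 D6015 D7574 (iv D7574) (iv D6015) F23402
def n7575 : Q := act 8 n6016
theorem D7575 : act 8 n6016 = n7575 := rfl
theorem F36069 : act 1 n7575 = n6333 := d15_1 D7575 (iv D6333) (iv F28994)
theorem F36070 : act 3 n7575 = n6026 := d28_1 D7575 (iv D6026) (iv F28995)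
theorem F36071 : act 4 n7575 = n6373 := d33_1 D7575 (iv D6373) (iv F28996)
theorem F36072 : act 6 n7575 = n6018 := d40_1 D7575 (iv D6018) (iv F28998)
theorem F36073 : act 7 n7575 = n6072 := d42_1 D7575 (iv D6072) (iv F28999)
theorem F36074 : act 9 n7575 = n6371 := d44_2 D6016 D7575 (iv D6371) (iv D5081) F23409
def n7576 : Q := act 8 n6017
theorem D7576 : act 8 n6017 = n7576 := rfl
theorem F36075 : act 1 n7576 = n6322 := d15_1 D7576 (iv D6322) (iv F29000)
theorem F36076 : act 3 n7576 = n6027 := d28_1 D7576 (iv D6027) (iv F29001)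
theorem F36077 : act 4 n7576 = n6317 := d33_1 D7576 (iv D6317) (iv F29002)
theorem F36078 : act 6 n7576 = n6371 := d40_1 D7576 (iv D6371) (iv F29004)
theorem F36079 : act 7 n7576 = n6019 := d42_1 D7576 (iv D6019) (iv F29005)
theorem F36080 : act 9 n7576 = n6018 := d44_2 D6017 D7576 (iv D6018) (iv D4802) D4801
def n7577 : Q := act 5 n6018
theorem D7577 : act 5 n6018 = n7577 := rfl
theorem F36081 : act 1 n7577 = n6334 := d12_1 D7577 (iv D6334) (iv F29006)
theorem F36082 : act 3 n7577 = n6028 := d25_1 D7577 (iv D6028) (iv F29007)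
theorem F36083 : act 7 n7577 = n6020 := d36_2 (iv F29008) D7577 (iv D6020)
theorem F36084 : act 8 n7577 = n6021 := d37_2 D6018 D7577 (iv D6021) (iv D4805) (iv F23418)
def n7578 : Q := act 5 n6019
theorem D7578 : act 5 n6019 = n7578 := rfl
theorem F36085 : act 1 n7578 = n6335 := d12_1 D7578 (iv D6335) (iv F29009)
theorem F36086 : act 3 n7578 = n6029 := d25_1 D7578 (iv D6029) (iv F29010)
theorem F36087 : act 8 n7578 = n7578 := d37_2 D6019 D7578 (iv D7578) (iv D6019) F23422
theorem F36088 : act 9 n7578 = n6020 := d38_2 (iv F29012) D7578 (iv D6020)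
def n7579 : Q := act 4 n6020
theorem D7579 : act 4 n6020 = n7579 := rfl
theorem F36089 : act 1 n7579 = n6336 := d11_1 D7579 (iv D6336) (iv F29013)
theorem F36090 : act 8 n7579 = n6022 := d33_2 (iv F29015) D7579 (iv D6022)
def n7580 : Q := act 6 n6020
theorem D7580 : act 6 n6020 = n7580 := rfl
theorem F36091 : act 1 n7580 = n6337 := d13_1 D7580 (iv D6337) (iv F29013)
theorem F36092 : act 3 n7580 = n6031 := d26_1 D7580 (iv D6031) (iv F29014)
theorem F36093 : act 5 n7580 = n6076 := d35_1 D7580 (iv D6076) (iv D4851) (iv F23426) D6020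
theorem F36094 : act 8 n7580 = n6023 := d40_2 (iv F29015) D7580 (iv D6023)
def n7581 : Q := act 4 n6021
theorem D7581 : act 4 n6021 = n7581 := rfl
theorem F36095 : act 1 n7581 = n6338 := d11_1 D7581 (iv D6338) (iv F29016)
theorem F36096 : act 5 n7581 = n7581 := d30_2 D6021 D7581 (iv D7581) (iv D6021) F23429
theorem F36097 : act 7 n7581 = n6022 := d32_2 (iv F29018) D7581 (iv D6022)
theorem F36098 : act 9 n7581 = n7581 := d34_2 F29019 D7581 (iv D7581)
def n7582 : Q := act 6 n6021
theorem D7582 : act 6 n6021 = n7582 := rfl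
theorem F36099 : act 1 n7582 = n6339 := d13_1 D7582 (iv D6339) (iv F29016)
theorem F36100 : act 3 n7582 = n6033 := d26_1 D7582 (iv D6033) (iv F29017)
theorem F36101 : act 5 n7582 = n7582 := d35_1 D7582 (iv D7582) (iv D6021) F23430 D6021
theorem F36102 : act 9 n7582 = n7582 := d41_2 F29019 D7582 (iv D7582)
def n7583 : Q := act 3 n6022
theorem D7583 : act 3 n6022 = n7583 := rfl
theorem F36103 : act 1 n7583 = n6340 := d10_1 D7583 (iv D6340) (iv F29020)
theorem F36104 : act 4 n7583 = n6034 := d24_2 D6022 D7583 (iv D6034) (iv D4815) (iv F23434)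
theorem F36105 : act 5 n7583 = n7583 := d25_2 F29021 D7583 (iv D7583)
theorem F36106 : act 9 n7583 = n7583 := d29_2 F29022 D7583 (iv D7583)
def n7584 : Q := act 6 n6022
theorem D7584 : act 6 n6022 = n7584 := rfl
theorem F36107 : act 1 n7584 = n6341 := d13_1 D7584 (iv D6341) (iv F29020)
theorem F36108 : act 4 n7584 = n6023 := d31_1 D7584 (iv D6023) D6022
theorem F36109 : act 9 n7584 = n7584 := d41_2 F29022 D7584 (iv D7584)
def n7585 : Q := act 7 n6023
theorem D7585 : act 7 n6023 = n7585 := rfl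
theorem F36110 : act 1 n7585 = n6342 := d14_1 D7585 (iv D6342) (iv F29023)
theorem F36111 : act 3 n7585 = n6036 := d27_1 D7585 (iv D6036) (iv F29024)
theorem F36112 : act 5 n7585 = n6025 := d36_1 D7585 (iv D6025) (iv F29025)
theorem F36113 : act 9 n7585 = n7585 := d43_2 F29026 D7585 (iv D7585)
def n7586 : Q := act 5 n6024
theorem D7586 : act 5 n6024 = n7586 := rfl
theorem F36114 : act 1 n7586 = n6343 := d12_1 D7586 (iv D6343) (iv F29027)
theorem F36115 : act 3 n7586 = n7586 := d25_1 D7586 (iv D7586) F29028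
theorem F36116 : act 6 n7586 = n7586 := d35_2 D6024 D7586 (iv D7586) (iv D6024) F23438
theorem F36117 : act 9 n7586 = n7586 := d38_2 F29031 D7586 (iv D7586)
def n7587 : Q := act 7 n6024
theorem D7587 : act 7 n6024 = n7587 := rfl
theorem F36118 : act 1 n7587 = n6344 := d14_1 D7587 (iv D6344) (iv F29027)
theorem F36119 : act 3 n7587 = n7587 := d27_1 D7587 (iv D7587) F29028
theorem F36120 : act 4 n7587 = n6025 := d32_1 D7587 (iv D6025) (iv F29029)
theorem F36121 : act 6 n7587 = n7587 := d39_1 D7587 (iv D7587) (iv D6024) F23439 D6024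
theorem F36122 : act 8 n7587 = n6083 := d42_2 (iv F29030) D7587 (iv D6083)
theorem F36123 : act 9 n7587 = n7587 := d43_2 F29031 D7587 (iv D7587)
def n7588 : Q := act 5 n6026
theorem D7588 : act 5 n6026 = n7588 := rfl
theorem F36124 : act 1 n7588 = n6346 := d12_1 D7588 (iv D6346) (iv F29037)
theorem F36125 : act 7 n7588 = n6084 := d36_2 (iv F29040) D7588 (iv D6084)
theorem F36126 : act 8 n7588 = n7588 := d37_2 D6026 D7588 (iv D7588) (iv D6026) F23448
def n7589 : Q := act 5 n6027
theorem D7589 : act 5 n6027 = n7589 := rfl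
theorem F36127 : act 1 n7589 = n6347 := d12_1 D7589 (iv D6347) (iv F29041)
theorem F36128 : act 7 n7589 = n6029 := d36_2 (iv F29043) D7589 (iv D6029)
theorem F36129 : act 8 n7589 = n7589 := d37_2 D6027 D7589 (iv D7589) (iv D6027) F23453
theorem F36130 : act 9 n7589 = n6028 := d38_2 (iv F29044) D7589 (iv D6028)
def n7590 : Q := act 4 n6028
theorem D7590 : act 4 n6028 = n7590 := rfl
theorem F36131 : act 1 n7590 = n6348 := d11_1 D7590 (iv D6348) (iv F29045)
theorem F36132 : act 5 n7590 = n7590 := d30_2 D6028 D7590 (iv D7590) (iv D6028) F23456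
theorem F36133 : act 7 n7590 = n6030 := d32_2 (iv F29046) D7590 (iv D6030)
theorem F36134 : act 8 n7590 = n6032 := d33_2 (iv F29047) D7590 (iv D6032)
def n7591 : Q := act 6 n6028
theorem D7591 : act 6 n6028 = n7591 := rfl
theorem F36135 : act 1 n7591 = n6349 := d13_1 D7591 (iv D6349) (iv F29045)
theorem F36136 : act 8 n7591 = n6033 := d40_2 (iv F29047) D7591 (iv D6033)
def n7592 : Q := act 4 n6029
theorem D7592 : act 4 n6029 = n7592 := rfl
theorem F36137 : act 1 n7592 = n6350 := d11_1 D7592 (iv D6350) (iv F29048)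
theorem F36138 : act 5 n7592 = n7592 := d30_2 D6029 D7592 (iv D7592) (iv D6029) F23459
theorem F36139 : act 8 n7592 = n7592 := d33_2 F29049 D7592 (iv D7592)
theorem F36140 : act 9 n7592 = n6030 := d34_2 (iv F29050) D7592 (iv D6030)
def n7593 : Q := act 6 n6029
theorem D7593 : act 6 n6029 = n7593 := rfl
theorem F36141 : act 1 n7593 = n6351 := d13_1 D7593 (iv D6351) (iv F29048)
theorem F36142 : act 5 n7593 = n6088 := d35_1 D7593 (iv D6088) (iv D4859) (iv F23460) D6029
theorem F36143 : act 8 n7593 = n7593 := d40_2 F29049 D7593 (iv D7593)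
theorem F36144 : act 9 n7593 = n6031 := d41_2 (iv F29050) D7593 (iv D6031)
def n7594 : Q := act 3 n6030
theorem D7594 : act 3 n6030 = n7594 := rfl
theorem F36145 : act 1 n7594 = n6352 := d10_1 D7594 (iv D6352) (iv F29051)
theorem F36146 : act 5 n7594 = n7594 := d25_2 F29052 D7594 (iv D7594)
theorem F36147 : act 8 n7594 = n6034 := d28_2 (iv F29053) D7594 (iv D6034)
def n7595 : Q := act 6 n6030
theorem D7595 : act 6 n6030 = n7595 := rfl
theorem F36148 : act 1 n7595 = n6353 := d13_1 D7595 (iv D6353) (iv F29051)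
theorem F36149 : act 4 n7595 = n6031 := d31_1 D7595 (iv D6031) D6030
theorem F36150 : act 8 n7595 = n6035 := d40_2 (iv F29053) D7595 (iv D6035)
def n7596 : Q := act 7 n6031
theorem D7596 : act 7 n6031 = n7596 := rfl
theorem F36151 : act 1 n7596 = n6354 := d14_1 D7596 (iv D6354) (iv F29054)
theorem F36152 : act 5 n7596 = n6091 := d36_1 D7596 (iv D6091) (iv F29055)
theorem F36153 : act 8 n7596 = n6036 := d42_2 (iv F29056) D7596 (iv D6036)
def n7597 : Q := act 3 n6032
theorem D7597 : act 3 n6032 = n7597 := rfl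
theorem F36154 : act 1 n7597 = n6355 := d10_1 D7597 (iv D6355) (iv F29057)
theorem F36155 : act 5 n7597 = n6037 := d25_2 (iv F29058) D7597 (iv D6037)
theorem F36156 : act 7 n7597 = n6034 := d27_2 (iv F29059) D7597 (iv D6034)
theorem F36157 : act 9 n7597 = n7597 := d29_2 F29060 D7597 (iv D7597)
def n7598 : Q := act 6 n6032
theorem D7598 : act 6 n6032 = n7598 := rfl
theorem F36158 : act 1 n7598 = n6356 := d13_1 D7598 (iv D6356) (iv F29057)
theorem F36159 : act 4 n7598 = n6033 := d31_1 D7598 (iv D6033) D6032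
theorem F36160 : act 9 n7598 = n7598 := d41_2 F29060 D7598 (iv D7598)
def n7599 : Q := act 7 n6033
theorem D7599 : act 7 n6033 = n7599 := rfl
theorem F36161 : act 1 n7599 = n6357 := d14_1 D7599 (iv D6357) (iv F29061)
theorem F36162 : act 5 n7599 = n7599 := d36_1 D7599 (iv D7599) F29062
theorem F36163 : act 6 n7599 = n6036 := d39_1 D7599 (iv D6036) (iv D4816) (iv F23465) D6033
theorem F36164 : act 9 n7599 = n7599 := d43_2 F29063 D7599 (iv D7599)
def n7600 : Q := act 2 n6034
theorem D7600 : act 2 n6034 = n7600 := rfl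
theorem F36165 : act 5 n7600 = n6039 := d19_2 (iv F29065) D7600 (iv D6039)
theorem F36166 : act 9 n7600 = n7600 := d23_2 F29066 D7600 (iv D7600)
def n7601 : Q := act 6 n6034
theorem D7601 : act 6 n6034 = n7601 := rfl
theorem F36167 : act 1 n7601 = n6359 := d13_1 D7601 (iv D6359) (iv F29064)
theorem F36168 : act 3 n7601 = n6035 := d26_1 D7601 (iv D6035) D6034
theorem F36169 : act 5 n7601 = n7601 := d35_1 D7601 (iv D7601) F29065 F23490 (iv F29065)
theorem F36170 : act 9 n7601 = n7601 := d41_2 F29066 D7601 (iv D7601)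
def n7602 : Q := act 7 n6035
theorem D7602 : act 7 n6035 = n7602 := rfl
theorem F36171 : act 1 n7602 = n6360 := d14_1 D7602 (iv D6360) (iv F29067)
theorem F36172 : act 4 n7602 = n6036 := d32_1 D7602 (iv D6036) (iv F29068)
theorem F36173 : act 5 n7602 = n7602 := d36_1 D7602 (iv D7602) F29069
theorem F36174 : act 9 n7602 = n7602 := d43_2 F29070 D7602 (iv D7602)
def n7603 : Q := act 2 n6037
theorem D7603 : act 2 n6037 = n7603 := rfl
theorem F36175 : act 4 n7603 = n7603 := d18_2 F29075 D7603 (iv D7603)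
theorem F36176 : act 7 n7603 = n6039 := d21_2 (iv F29076) D7603 (iv D6039)
theorem F36177 : act 8 n7603 = n7603 := d22_2 F29077 D7603 (iv D7603)
theorem F36178 : act 9 n7603 = n7603 := d23_2 F29078 D7603 (iv D7603)
def n7604 : Q := act 6 n6037
theorem D7604 : act 6 n6037 = n7604 := rfl
theorem F36179 : act 1 n7604 = n6362 := d13_1 D7604 (iv D6362) (iv F29074)
theorem F36180 : act 3 n7604 = n6038 := d26_1 D7604 (iv D6038) D6037
theorem F36181 : act 4 n7604 = n7604 := d31_1 D7604 (iv D7604) F29075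
theorem F36182 : act 7 n7604 = n7604 := d39_2 (iv F29076) D7604 (iv D7604) F29076 F23490
theorem F36183 : act 8 n7604 = n7604 := d40_2 F29077 D7604 (iv D7604)
theorem F36184 : act 9 n7604 = n7604 := d41_2 F29078 D7604 (iv D7604)
def n7605 : Q := act 5 n6038
theorem D7605 : act 5 n6038 = n7605 := rfl
theorem F36185 : act 1 n7605 = n6363 := d12_1 D7605 (iv D6363) (iv F29079)
theorem F36186 : act 4 n7605 = n7605 := d30_1 D7605 (iv D7605) F29080 F23484 (iv F29080)
theorem F36187 : act 7 n7605 = n7605 := d36_2 F29081 D7605 (iv D7605)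
theorem F36188 : act 9 n7605 = n7605 := d38_2 F29083 D7605 (iv D7605)
def n7606 : Q := act 1 n6039
theorem D7606 : act 1 n6039 = n7606 := rfl
theorem F36189 : act 2 n7606 = n6364 := d9_2 D6039 D7606 (iv D6364) (iv D5075) (iv F23488)
theorem F36190 : act 4 n7606 = n7606 := d11_2 F29084 D7606 (iv D7606)
theorem F36191 : act 6 n7606 = n7606 := d13_2 F29085 D7606 (iv D7606)
theorem F36192 : act 8 n7606 = n7606 := d15_2 F29086 D7606 (iv D7606)
theorem F36193 : act 9 n7606 = n7606 := d16_2 F29087 D7606 (iv D7606)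
def n7607 : Q := act 9 n6040
theorem D7607 : act 9 n6040 = n7607 := rfl
theorem F36194 : act 0 n7607 = n6047 := d8_1 D7607 (iv D6047) (iv F29088)
theorem F36195 : act 2 n7607 = n6365 := d23_1 D7607 (iv D6365) (iv F29089)
theorem F36196 : act 5 n7607 = n6102 := d38_1 D7607 (iv D6102) (iv F29090)
def n7608 : Q := act 8 n6041
theorem D7608 : act 8 n6041 = n7608 := rfl
theorem F36197 : act 0 n7608 = n6048 := d7_1 D7608 (iv D6048) (iv F29091)
theorem F36198 : act 2 n7608 = n6366 := d22_1 D7608 (iv D6366) (iv F29092)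
def n7609 : Q := act 8 n6042
theorem D7609 : act 8 n6042 = n7609 := rfl
theorem F36199 : act 0 n7609 = n6049 := d7_1 D7609 (iv D6049) (iv F29094)
theorem F36200 : act 2 n7609 = n6367 := d22_1 D7609 (iv D6367) (iv F29095)
theorem F36201 : act 4 n7609 = n6170 := d33_1 D7609 (iv D6170) (iv F29096)
theorem F36202 : act 6 n7609 = n7609 := d40_1 D7609 (iv D7609) F29097
theorem F36203 : act 7 n7609 = n6043 := d42_1 D7609 (iv D6043) (iv F29098)
theorem F36204 : act 9 n7609 = n6104 := d44_2 D6042 D7609 (iv D6104) (iv D4872) (iv F23499)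
def n7610 : Q := act 5 n6043
theorem D7610 : act 5 n6043 = n7610 := rfl
theorem F36205 : act 0 n7610 = n6050 := d4_1 D7610 (iv D6050) (iv F29099)
theorem F36206 : act 2 n7610 = n6368 := d19_1 D7610 (iv D6368) (iv F29100)
theorem F36207 : act 9 n7610 = n6105 := d38_2 (iv F29103) D7610 (iv D6105)
def n7611 : Q := act 4 n6044
theorem D7611 : act 4 n6044 = n7611 := rfl
theorem F36208 : act 0 n7611 = n6051 := d3_1 D7611 (iv D6051) (iv F29104)
theorem F36209 : act 2 n7611 = n6369 := d18_1 D7611 (iv D6369) (iv F29105)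
theorem F36210 : act 5 n7611 = n6172 := d30_2 D6044 D7611 (iv D6172) (iv D4927) (iv F23506)
theorem F36211 : act 7 n7611 = n7611 := d32_2 F29106 D7611 (iv D7611)
theorem F36212 : act 9 n7611 = n6106 := d34_2 (iv F29107) D7611 (iv D6106)
def n7612 : Q := act 6 n6044
theorem D7612 : act 6 n6044 = n7612 := rfl
theorem F36213 : act 0 n7612 = n6052 := d5_1 D7612 (iv D6052) (iv F29104)
theorem F36214 : act 2 n7612 = n6370 := d20_1 D7612 (iv D6370) (iv F29105)
theorem F36215 : act 9 n7612 = n6107 := d41_2 (iv F29107) D7612 (iv D6107)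
def n7613 : Q := act 8 n6045
theorem D7613 : act 8 n6045 = n7613 := rfl
theorem F36216 : act 1 n7613 = n6057 := d15_1 D7613 (iv D6057) (iv F29108)
theorem F36217 : act 2 n7613 = n6371 := d22_1 D7613 (iv D6371) (iv F29109)
theorem F36218 : act 4 n7613 = n6048 := d33_1 D7613 (iv D6048) (iv F29110)
def n7614 : Q := act 8 n6046
theorem D7614 : act 8 n6046 = n7614 := rfl
theorem F36219 : act 1 n7614 = n6059 := d15_1 D7614 (iv D6059) (iv F29112)
theorem F36220 : act 2 n7614 = n6372 := d22_1 D7614 (iv D6372) (iv F29113)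
theorem F36221 : act 7 n7614 = n6048 := d42_1 D7614 (iv D6048) (iv F29115)
def n7615 : Q := act 8 n6047
theorem D7615 : act 8 n6047 = n7615 := rfl
theorem F36222 : act 1 n7615 = n6060 := d15_1 D7615 (iv D6060) (iv F29116)
theorem F36223 : act 2 n7615 = n6373 := d22_1 D7615 (iv D6373) (iv F29117)
theorem F36224 : act 9 n7615 = n6048 := d44_2 D6047 D7615 (iv D6048) (iv D4828) D4827
def n7616 : Q := act 5 n6048
theorem D7616 : act 5 n6048 = n7616 := rfl
theorem F36225 : act 1 n7616 = n6061 := d12_1 D7616 (iv D6061) (iv F29119)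
theorem F36226 : act 2 n7616 = n6374 := d19_1 D7616 (iv D6374) (iv F29120)
theorem F36227 : act 8 n7616 = n6050 := d37_2 D6048 D7616 (iv D6050) (iv D4830) (iv F23520)
def n7617 : Q := act 5 n6049
theorem D7617 : act 5 n6049 = n7617 := rfl
theorem F36228 : act 1 n7617 = n6062 := d12_1 D7617 (iv D6062) (iv F29121)
theorem F36229 : act 2 n7617 = n6375 := d19_1 D7617 (iv D6375) (iv F29122)
theorem F36230 : act 7 n7617 = n6050 := d36_2 (iv F29125) D7617 (iv D6050)
theorem F36231 : act 9 n7617 = n6110 := d38_2 (iv F29126) D7617 (iv D6110)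
def n7618 : Q := act 4 n6050
theorem D7618 : act 4 n6050 = n7618 := rfl
theorem F36232 : act 1 n7618 = n6063 := d11_1 D7618 (iv D6063) (iv F29127)
theorem F36233 : act 2 n7618 = n6376 := d18_1 D7618 (iv D6376) (iv F29128)
theorem F36234 : act 5 n7618 = n6178 := d30_2 D6050 D7618 (iv D6178) (iv D4932) (iv F23528)
theorem F36235 : act 9 n7618 = n6111 := d34_2 (iv F29129) D7618 (iv D6111)
def n7619 : Q := act 6 n6050
theorem D7619 : act 6 n6050 = n7619 := rfl
theorem F36236 : act 1 n7619 = n6064 := d13_1 D7619 (iv D6064) (iv F29127)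
theorem F36237 : act 2 n7619 = n6377 := d20_1 D7619 (iv D6377) (iv F29128)
theorem F36238 : act 5 n7619 = n6052 := d35_1 D7619 (iv D6052) (iv D4831) (iv F23529) D6050
theorem F36239 : act 9 n7619 = n6112 := d41_2 (iv F29129) D7619 (iv D6112)
def n7620 : Q := act 3 n6051
theorem D7620 : act 3 n6051 = n7620 := rfl
theorem F36240 : act 1 n7620 = n6065 := d10_1 D7620 (iv D6065) (iv F29130)
theorem F36241 : act 5 n7620 = n6180 := d25_2 (iv F29132) D7620 (iv D6180)
theorem F36242 : act 7 n7620 = n7620 := d27_2 F29133 D7620 (iv D7620)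
theorem F36243 : act 9 n7620 = n6113 := d29_2 (iv F29134) D7620 (iv D6113)
def n7621 : Q := act 6 n6051
theorem D7621 : act 6 n6051 = n7621 := rfl
theorem F36244 : act 1 n7621 = n6066 := d13_1 D7621 (iv D6066) (iv F29130)
theorem F36245 : act 2 n7621 = n6379 := d20_1 D7621 (iv D6379) (iv F29131)
theorem F36246 : act 4 n7621 = n6052 := d31_1 D7621 (iv D6052) D6051
theorem F36247 : act 9 n7621 = n6114 := d41_2 (iv F29134) D7621 (iv D6114)
def n7622 : Q := act 7 n6052
theorem D7622 : act 7 n6052 = n7622 := rfl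
theorem F36248 : act 1 n7622 = n6067 := d14_1 D7622 (iv D6067) (iv F29135)
theorem F36249 : act 2 n7622 = n6380 := d21_1 D7622 (iv D6380) (iv F29136)
theorem F36250 : act 6 n7622 = n7622 := d39_1 D7622 (iv D7622) (iv D6052) F23533 D6052
theorem F36251 : act 9 n7622 = n6115 := d43_2 (iv F29137) D7622 (iv D6115)
def n7623 : Q := act 9 n6053
theorem D7623 : act 9 n6053 = n7623 := rfl
theorem F36252 : act 2 n7623 = n7623 := d23_1 D7623 (iv D7623) F29138
theorem F36253 : act 3 n7623 = n6056 := d29_1 D7623 (iv D6056) (iv F29139)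
theorem F36254 : act 5 n7623 = n7623 := d38_1 D7623 (iv D7623) F29140
def n7624 : Q := act 8 n6054
theorem D7624 : act 8 n6054 = n7624 := rfl
theorem F36255 : act 2 n7624 = n7624 := d22_1 D7624 (iv D7624) F29141
theorem F36256 : act 3 n7624 = n6057 := d28_1 D7624 (iv D6057) (iv F29142)
def n7625 : Q := act 8 n6055
theorem D7625 : act 8 n6055 = n7625 := rfl
theorem F36257 : act 2 n7625 = n6069 := d22_1 D7625 (iv D6069) (iv F29144)
theorem F36258 : act 4 n7625 = n6059 := d33_1 D7625 (iv D6059) (iv F29145)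
theorem F36259 : act 7 n7625 = n6057 := d42_1 D7625 (iv D6057) (iv F29147)
def n7626 : Q := act 8 n6056
theorem D7626 : act 8 n6056 = n7626 := rfl
theorem F36260 : act 2 n7626 = n6070 := d22_1 D7626 (iv D6070) (iv F29148)
theorem F36261 : act 4 n7626 = n6060 := d33_1 D7626 (iv D6060) (iv F29149)
theorem F36262 : act 9 n7626 = n6057 := d44_2 D6056 D7626 (iv D6057) (iv D4835) D4834
def n7627 : Q := act 5 n6057
theorem D7627 : act 5 n6057 = n7627 := rfl
theorem F36263 : act 2 n7627 = n6071 := d19_1 D7627 (iv D6071) (iv F29151)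
theorem F36264 : act 8 n7627 = n6185 := d37_2 D6057 D7627 (iv D6185) (iv D4937) (iv F23545)
def n7628 : Q := act 8 n6058
theorem D7628 : act 8 n6058 = n7628 := rfl
theorem F36265 : act 2 n7628 = n6072 := d22_1 D7628 (iv D6072) (iv F29153)
theorem F36266 : act 6 n7628 = n6059 := d40_1 D7628 (iv D6059) (iv F29155)
def n7629 : Q := act 5 n6059
theorem D7629 : act 5 n6059 = n7629 := rfl
theorem F36267 : act 2 n7629 = n6073 := d19_1 D7629 (iv D6073) (iv F29156)
theorem F36268 : act 7 n7629 = n6061 := d36_2 (iv F29157) D7629 (iv D6061)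
theorem F36269 : act 8 n7629 = n6062 := d37_2 D6059 D7629 (iv D6062) (iv D4840) (iv F23549)
def n7630 : Q := act 5 n6060
theorem D7630 : act 5 n6060 = n7630 := rfl
theorem F36270 : act 2 n7630 = n6074 := d19_1 D7630 (iv D6074) (iv F29158)
theorem F36271 : act 8 n7630 = n6116 := d37_2 D6060 D7630 (iv D6116) (iv D4881) (iv F23552)
theorem F36272 : act 9 n7630 = n6061 := d38_2 (iv F29159) D7630 (iv D6061)
def n7631 : Q := act 4 n6061
theorem D7631 : act 4 n6061 = n7631 := rfl
theorem F36273 : act 2 n7631 = n6075 := d18_1 D7631 (iv D6075) (iv F29160)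
theorem F36274 : act 8 n7631 = n6063 := d33_2 (iv F29161) D7631 (iv D6063)
def n7632 : Q := act 6 n6061
theorem D7632 : act 6 n6061 = n7632 := rfl
theorem F36275 : act 2 n7632 = n6076 := d20_1 D7632 (iv D6076) (iv F29160)
theorem F36276 : act 8 n7632 = n6064 := d40_2 (iv F29161) D7632 (iv D6064)
def n7633 : Q := act 4 n6062
theorem D7633 : act 4 n6062 = n7633 := rfl
theorem F36277 : act 2 n7633 = n6077 := d18_1 D7633 (iv D6077) (iv F29162)
theorem F36278 : act 5 n7633 = n6190 := d30_2 D6062 D7633 (iv D6190) (iv D4941) (iv F23555)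
theorem F36279 : act 7 n7633 = n6063 := d32_2 (iv F29163) D7633 (iv D6063)
theorem F36280 : act 9 n7633 = n6119 := d34_2 (iv F29164) D7633 (iv D6119)
def n7634 : Q := act 6 n6062
theorem D7634 : act 6 n6062 = n7634 := rfl
theorem F36281 : act 2 n7634 = n6078 := d20_1 D7634 (iv D6078) (iv F29162)
theorem F36282 : act 5 n7634 = n7634 := d35_1 D7634 (iv D7634) (iv D6062) F23556 D6062
theorem F36283 : act 9 n7634 = n6120 := d41_2 (iv F29164) D7634 (iv D6120)
def n7635 : Q := act 3 n6063
theorem D7635 : act 3 n6063 = n7635 := rfl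
theorem F36284 : act 5 n7635 = n6192 := d25_2 (iv F29166) D7635 (iv D6192)
theorem F36285 : act 9 n7635 = n6121 := d29_2 (iv F29167) D7635 (iv D6121)
def n7636 : Q := act 6 n6063
theorem D7636 : act 6 n6063 = n7636 := rfl
theorem F36286 : act 2 n7636 = n6080 := d20_1 D7636 (iv D6080) (iv F29165)
theorem F36287 : act 4 n7636 = n6064 := d31_1 D7636 (iv D6064) D6063
theorem F36288 : act 9 n7636 = n6122 := d41_2 (iv F29167) D7636 (iv D6122)
def n7637 : Q := act 7 n6064
theorem D7637 : act 7 n6064 = n7637 := rfl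
theorem F36289 : act 2 n7637 = n6081 := d21_1 D7637 (iv D6081) (iv F29168)
theorem F36290 : act 5 n7637 = n6067 := d36_1 D7637 (iv D6067) (iv F29169)
theorem F36291 : act 9 n7637 = n6123 := d43_2 (iv F29170) D7637 (iv D6123)
def n7638 : Q := act 6 n6065
theorem D7638 : act 6 n6065 = n7638 := rfl
theorem F36292 : act 2 n7638 = n7638 := d20_1 D7638 (iv D7638) F29171
theorem F36293 : act 3 n7638 = n6066 := d26_1 D7638 (iv D6066) D6065
theorem F36294 : act 9 n7638 = n6124 := d41_2 (iv F29174) D7638 (iv D6124)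
def n7639 : Q := act 5 n6066
theorem D7639 : act 5 n6066 = n7639 := rfl
theorem F36295 : act 2 n7639 = n6082 := d19_1 D7639 (iv D6082) (iv F29175)
theorem F36296 : act 6 n7639 = n6196 := d35_2 D6066 D7639 (iv D6196) (iv D4945) (iv F23562)
theorem F36297 : act 9 n7639 = n6125 := d38_2 (iv F29177) D7639 (iv D6125)
def n7640 : Q := act 7 n6066
theorem D7640 : act 7 n6066 = n7640 := rfl
theorem F36298 : act 2 n7640 = n6083 := d21_1 D7640 (iv D6083) (iv F29175)
theorem F36299 : act 4 n7640 = n6067 := d32_1 D7640 (iv D6067) (iv F29176)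
theorem F36300 : act 6 n7640 = n7640 := d39_1 D7640 (iv D7640) (iv D6066) F23563 D6066
theorem F36301 : act 9 n7640 = n6126 := d43_2 (iv F29177) D7640 (iv D6126)
def n7641 : Q := act 8 n6068
theorem D7641 : act 8 n6068 = n7641 := rfl
theorem F36302 : act 1 n7641 = n6384 := d15_1 D7641 (iv D6384) (iv F29181)
theorem F36303 : act 3 n7641 = n7641 := d28_1 D7641 (iv D7641) F29182
theorem F36304 : act 4 n7641 = n6072 := d33_1 D7641 (iv D6072) (iv F29183)
theorem F36305 : act 6 n7641 = n6069 := d40_1 D7641 (iv D6069) (iv F29185)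
theorem F36306 : act 7 n7641 = n6373 := d42_1 D7641 (iv D6373) (iv F29186)
theorem F36307 : act 9 n7641 = n6372 := d44_2 D6068 D7641 (iv D6372) (iv D5082) (iv F23572)
def n7642 : Q := act 5 n6069
theorem D7642 : act 5 n6069 = n7642 := rfl
theorem F36308 : act 1 n7642 = n6397 := d12_1 D7642 (iv D6397) (iv F29187)
theorem F36309 : act 3 n7642 = n7642 := d25_1 D7642 (iv D7642) F29188
theorem F36310 : act 7 n7642 = n6071 := d36_2 (iv F29190) D7642 (iv D6071)
theorem F36311 : act 8 n7642 = n6199 := d37_2 D6069 D7642 (iv D6199) (iv D4948) (iv F23576)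
def n7643 : Q := act 5 n6070
theorem D7643 : act 5 n6070 = n7643 := rfl
theorem F36312 : act 1 n7643 = n6398 := d12_1 D7643 (iv D6398) (iv F29191)
theorem F36313 : act 3 n7643 = n7643 := d25_1 D7643 (iv D7643) F29192
theorem F36314 : act 8 n7643 = n7643 := d37_2 D6070 D7643 (iv D7643) (iv D6070) F23581
theorem F36315 : act 9 n7643 = n6071 := d38_2 (iv F29194) D7643 (iv D6071)
def n7644 : Q := act 4 n6071
theorem D7644 : act 4 n6071 = n7644 := rfl
theorem F36316 : act 1 n7644 = n6399 := d11_1 D7644 (iv D6399) (iv F29195)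
theorem F36317 : act 5 n7644 = n6075 := d30_2 D6071 D7644 (iv D6075) (iv D4851) (iv F23584)
theorem F36318 : act 8 n7644 = n6200 := d33_2 (iv F29197) D7644 (iv D6200)
def n7645 : Q := act 6 n6071
theorem D7645 : act 6 n6071 = n7645 := rfl
theorem F36319 : act 1 n7645 = n6400 := d13_1 D7645 (iv D6400) (iv F29195)
theorem F36320 : act 3 n7645 = n7645 := d26_1 D7645 (iv D7645) F29196
theorem F36321 : act 8 n7645 = n6201 := d40_2 (iv F29197) D7645 (iv D6201)
def n7646 : Q := act 5 n6072
theorem D7646 : act 5 n6072 = n7646 := rfl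
theorem F36322 : act 1 n7646 = n6401 := d12_1 D7646 (iv D6401) (iv F29198)
theorem F36323 : act 3 n7646 = n6084 := d25_1 D7646 (iv D6084) (iv F29199)
theorem F36324 : act 8 n7646 = n7646 := d37_2 D6072 D7646 (iv D7646) (iv D6072) F23587
def n7647 : Q := act 4 n6073
theorem D7647 : act 4 n6073 = n7647 := rfl
theorem F36325 : act 1 n7647 = n6403 := d11_1 D7647 (iv D6403) (iv F29201)
theorem F36326 : act 7 n7647 = n6075 := d32_2 (iv F29203) D7647 (iv D6075)
theorem F36327 : act 8 n7647 = n6077 := d33_2 (iv F29204) D7647 (iv D6077)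
def n7648 : Q := act 6 n6073
theorem D7648 : act 6 n6073 = n7648 := rfl
theorem F36328 : act 1 n7648 = n6404 := d13_1 D7648 (iv D6404) (iv F29201)
theorem F36329 : act 3 n7648 = n6086 := d26_1 D7648 (iv D6086) (iv F29202)
theorem F36330 : act 8 n7648 = n6078 := d40_2 (iv F29204) D7648 (iv D6078)
def n7649 : Q := act 4 n6074
theorem D7649 : act 4 n6074 = n7649 := rfl
theorem F36331 : act 1 n7649 = n6405 := d11_1 D7649 (iv D6405) (iv F29205)
theorem F36332 : act 8 n7649 = n6127 := d33_2 (iv F29207) D7649 (iv D6127)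
theorem F36333 : act 9 n7649 = n6075 := d34_2 (iv F29208) D7649 (iv D6075)
def n7650 : Q := act 6 n6074
theorem D7650 : act 6 n6074 = n7650 := rfl
theorem F36334 : act 1 n7650 = n6406 := d13_1 D7650 (iv D6406) (iv F29205)
theorem F36335 : act 3 n7650 = n6088 := d26_1 D7650 (iv D6088) (iv F29206)
theorem F36336 : act 8 n7650 = n6128 := d40_2 (iv F29207) D7650 (iv D6128)
theorem F36337 : act 9 n7650 = n6076 := d41_2 (iv F29208) D7650 (iv D6076)
def n7651 : Q := act 3 n6075
theorem D7651 : act 3 n6075 = n7651 := rfl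
theorem F36338 : act 1 n7651 = n6407 := d10_1 D7651 (iv D6407) (iv F29209)
theorem F36339 : act 4 n7651 = n6089 := d24_2 D6075 D7651 (iv D6089) (iv D4860) (iv F23596)
theorem F36340 : act 8 n7651 = n6079 := d28_2 (iv F29210) D7651 (iv D6079)
def n7652 : Q := act 6 n6075
theorem D7652 : act 6 n6075 = n7652 := rfl
theorem F36341 : act 1 n7652 = n6408 := d13_1 D7652 (iv D6408) (iv F29209)
theorem F36342 : act 4 n7652 = n6076 := d31_1 D7652 (iv D6076) D6075
theorem F36343 : act 8 n7652 = n6080 := d40_2 (iv F29210) D7652 (iv D6080)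
def n7653 : Q := act 7 n6076
theorem D7653 : act 7 n6076 = n7653 := rfl
theorem F36344 : act 1 n7653 = n6409 := d14_1 D7653 (iv D6409) (iv F29211)
theorem F36345 : act 3 n7653 = n6091 := d27_1 D7653 (iv D6091) (iv F29212)
theorem F36346 : act 8 n7653 = n6081 := d42_2 (iv F29213) D7653 (iv D6081)
def n7654 : Q := act 3 n6077
theorem D7654 : act 3 n6077 = n7654 := rfl
theorem F36347 : act 1 n7654 = n6410 := d10_1 D7654 (iv D6410) (iv F29214)
theorem F36348 : act 4 n7654 = n6092 := d24_2 D6077 D7654 (iv D6092) (iv D4862) (iv F23599)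
theorem F36349 : act 5 n7654 = n6208 := d25_2 (iv F29215) D7654 (iv D6208)
theorem F36350 : act 7 n7654 = n6079 := d27_2 (iv F29216) D7654 (iv D6079)
theorem F36351 : act 9 n7654 = n6132 := d29_2 (iv F29217) D7654 (iv D6132)
def n7655 : Q := act 6 n6077
theorem D7655 : act 6 n6077 = n7655 := rfl
theorem F36352 : act 1 n7655 = n6411 := d13_1 D7655 (iv D6411) (iv F29214)
theorem F36353 : act 4 n7655 = n6078 := d31_1 D7655 (iv D6078) D6077
theorem F36354 : act 9 n7655 = n6133 := d41_2 (iv F29217) D7655 (iv D6133)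
def n7656 : Q := act 7 n6078
theorem D7656 : act 7 n6078 = n7656 := rfl
theorem F36355 : act 1 n7656 = n6412 := d14_1 D7656 (iv D6412) (iv F29218)
theorem F36356 : act 3 n7656 = n6094 := d27_1 D7656 (iv D6094) (iv F29219)
theorem F36357 : act 5 n7656 = n7656 := d36_1 D7656 (iv D7656) F29220
theorem F36358 : act 6 n7656 = n6081 := d39_1 D7656 (iv D6081) (iv D4854) (iv F23600) D6078
theorem F36359 : act 9 n7656 = n6134 := d43_2 (iv F29221) D7656 (iv D6134)
def n7657 : Q := act 2 n6079
theorem D7657 : act 2 n6079 = n7657 := rfl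
theorem F36360 : act 4 n7657 = n6095 := d18_2 (iv F29223) D7657 (iv D6095)
theorem F36361 : act 5 n7657 = n6211 := d19_2 (iv F29224) D7657 (iv D6211)
theorem F36362 : act 9 n7657 = n6135 := d23_2 (iv F29225) D7657 (iv D6135)
def n7658 : Q := act 6 n6079
theorem D7658 : act 6 n6079 = n7658 := rfl
theorem F36363 : act 1 n7658 = n6414 := d13_1 D7658 (iv D6414) (iv F29222)
theorem F36364 : act 3 n7658 = n6080 := d26_1 D7658 (iv D6080) D6079
theorem F36365 : act 4 n7658 = n6096 := d31_1 D7658 (iv D6096) (iv F29223)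
theorem F36366 : act 9 n7658 = n6136 := d41_2 (iv F29225) D7658 (iv D6136)
def n7659 : Q := act 5 n6080
theorem D7659 : act 5 n6080 = n7659 := rfl
theorem F36367 : act 1 n7659 = n6415 := d12_1 D7659 (iv D6415) (iv F29226)
theorem F36368 : act 4 n7659 = n6082 := d30_1 D7659 (iv D6082) F23611 (iv F23607) (iv F29227)
theorem F36369 : act 6 n7659 = n6213 := d35_2 D6080 D7659 (iv D6213) (iv D4957) (iv F23603)
theorem F36370 : act 9 n7659 = n6137 := d38_2 (iv F29228) D7659 (iv D6137)
def n7660 : Q := act 7 n6080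
theorem D7660 : act 7 n6080 = n7660 := rfl
theorem F36371 : act 1 n7660 = n6416 := d14_1 D7660 (iv D6416) (iv F29226)
theorem F36372 : act 4 n7660 = n6081 := d32_1 D7660 (iv D6081) (iv F29227)
theorem F36373 : act 9 n7660 = n6138 := d43_2 (iv F29228) D7660 (iv D6138)
def n7661 : Q := act 7 n6082
theorem D7661 : act 7 n6082 = n7661 := rfl
theorem F36374 : act 1 n7661 = n6417 := d14_1 D7661 (iv D6417) (iv F29233)
theorem F36375 : act 3 n7661 = n7661 := d27_1 D7661 (iv D7661) F29234
theorem F36376 : act 5 n7661 = n6083 := d36_1 D7661 (iv D6083) D6082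
theorem F36377 : act 9 n7661 = n6139 := d43_2 (iv F29236) D7661 (iv D6139)
def n7662 : Q := act 8 n6082
theorem D7662 : act 8 n6082 = n7662 := rfl
theorem F36378 : act 1 n7662 = n6418 := d15_1 D7662 (iv D6418) (iv F29233)
theorem F36379 : act 3 n7662 = n7662 := d28_1 D7662 (iv D7662) F29234
theorem F36380 : act 6 n7662 = n6216 := d40_1 D7662 (iv D6216) (iv F29235)
def n7663 : Q := act 4 n6084
theorem D7663 : act 4 n6084 = n7663 := rfl
theorem F36381 : act 1 n7663 = n6420 := d11_1 D7663 (iv D6420) (iv F29242)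
theorem F36382 : act 5 n7663 = n7663 := d30_2 D6084 D7663 (iv D7663) (iv D6084) F23618
theorem F36383 : act 8 n7663 = n7663 := d33_2 F29243 D7663 (iv D7663)
def n7664 : Q := act 6 n6084
theorem D7664 : act 6 n6084 = n7664 := rfl
theorem F36384 : act 1 n7664 = n6421 := d13_1 D7664 (iv D6421) (iv F29242)
theorem F36385 : act 5 n7664 = n6086 := d35_1 D7664 (iv D6086) (iv D4858) (iv F23619) D6084
theorem F36386 : act 8 n7664 = n7664 := d40_2 F29243 D7664 (iv D7664)
def n7665 : Q := act 3 n6085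
theorem D7665 : act 3 n6085 = n7665 := rfl
theorem F36387 : act 1 n7665 = n6424 := d10_1 D7665 (iv D6424) (iv F29244)
theorem F36388 : act 5 n7665 = n7665 := d25_2 F29245 D7665 (iv D7665)
theorem F36389 : act 7 n7665 = n6089 := d27_2 (iv F29246) D7665 (iv D6089)
theorem F36390 : act 8 n7665 = n6092 := d28_2 (iv F29247) D7665 (iv D6092)
def n7666 : Q := act 6 n6085
theorem D7666 : act 6 n6085 = n7666 := rfl
theorem F36391 : act 1 n7666 = n6425 := d13_1 D7666 (iv D6425) (iv F29244)
theorem F36392 : act 4 n7666 = n6086 := d31_1 D7666 (iv D6086) D6085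
theorem F36393 : act 8 n7666 = n6093 := d40_2 (iv F29247) D7666 (iv D6093)
def n7667 : Q := act 7 n6086
theorem D7667 : act 7 n6086 = n7667 := rfl
theorem F36394 : act 1 n7667 = n6426 := d14_1 D7667 (iv D6426) (iv F29248)
theorem F36395 : act 6 n7667 = n6091 := d39_1 D7667 (iv D6091) (iv D4861) (iv F23621) D6086
theorem F36396 : act 8 n7667 = n6094 := d42_2 (iv F29249) D7667 (iv D6094)
def n7668 : Q := act 3 n6087
theorem D7668 : act 3 n6087 = n7668 := rfl
theorem F36397 : act 1 n7668 = n6427 := d10_1 D7668 (iv D6427) (iv F29250)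
theorem F36398 : act 5 n7668 = n7668 := d25_2 F29251 D7668 (iv D7668)
theorem F36399 : act 8 n7668 = n6141 := d28_2 (iv F29252) D7668 (iv D6141)
theorem F36400 : act 9 n7668 = n6089 := d29_2 (iv F29253) D7668 (iv D6089)
def n7669 : Q := act 6 n6087
theorem D7669 : act 6 n6087 = n7669 := rfl
theorem F36401 : act 1 n7669 = n6428 := d13_1 D7669 (iv D6428) (iv F29250)
theorem F36402 : act 4 n7669 = n6088 := d31_1 D7669 (iv D6088) D6087
theorem F36403 : act 8 n7669 = n6142 := d40_2 (iv F29252) D7669 (iv D6142)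
theorem F36404 : act 9 n7669 = n6090 := d41_2 (iv F29253) D7669 (iv D6090)
def n7670 : Q := act 7 n6088
theorem D7670 : act 7 n6088 = n7670 := rfl
theorem F36405 : act 1 n7670 = n6429 := d14_1 D7670 (iv D6429) (iv F29254)
theorem F36406 : act 8 n7670 = n6143 := d42_2 (iv F29255) D7670 (iv D6143)
theorem F36407 : act 9 n7670 = n6091 := d43_2 (iv F29256) D7670 (iv D6091)
def n7671 : Q := act 2 n6089
theorem D7671 : act 2 n6089 = n7671 := rfl
theorem F36408 : act 5 n7671 = n7671 := d19_2 F29258 D7671 (iv D7671)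
theorem F36409 : act 8 n7671 = n6095 := d22_2 (iv F29259) D7671 (iv D6095)
def n7672 : Q := act 6 n6089
theorem D7672 : act 6 n6089 = n7672 := rfl
theorem F36410 : act 1 n7672 = n6431 := d13_1 D7672 (iv D6431) (iv F29257)
theorem F36411 : act 3 n7672 = n6090 := d26_1 D7672 (iv D6090) D6089
theorem F36412 : act 8 n7672 = n6096 := d40_2 (iv F29259) D7672 (iv D6096)
def n7673 : Q := act 5 n6090
theorem D7673 : act 5 n6090 = n7673 := rfl
theorem F36413 : act 1 n7673 = n6432 := d12_1 D7673 (iv D6432) (iv F29260)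
theorem F36414 : act 6 n7673 = n7673 := d35_2 D6090 D7673 (iv D7673) (iv D6090) F23627
theorem F36415 : act 8 n7673 = n7673 := d37_2 (iv F29262) D7673 (iv D7673) F29262 F23643
def n7674 : Q := act 7 n6090
theorem D7674 : act 7 n6090 = n7674 := rfl
theorem F36416 : act 1 n7674 = n6433 := d14_1 D7674 (iv D6433) (iv F29260)
theorem F36417 : act 4 n7674 = n6091 := d32_1 D7674 (iv D6091) (iv F29261)
theorem F36418 : act 8 n7674 = n6097 := d42_2 (iv F29262) D7674 (iv D6097)
def n7675 : Q := act 2 n6092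
theorem D7675 : act 2 n6092 = n7675 := rfl
theorem F36419 : act 5 n7675 = n6098 := d19_2 (iv F29266) D7675 (iv D6098)
theorem F36420 : act 7 n7675 = n6095 := d21_2 (iv F29267) D7675 (iv D6095)
theorem F36421 : act 9 n7675 = n6148 := d23_2 (iv F29268) D7675 (iv D6148)
def n7676 : Q := act 6 n6092
theorem D7676 : act 6 n6092 = n7676 := rfl
theorem F36423 : act 3 n7676 = n6093 := d26_1 D7676 (iv D6093) D6092
theorem F36424 : act 9 n7676 = n6149 := d41_2 (iv F29268) D7676 (iv D6149)
def n7677 : Q := act 5 n6093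
theorem D7677 : act 5 n6093 = n7677 := rfl
theorem F36426 : act 4 n7677 = n7677 := d30_1 D7677 (iv D7677) F29270 F23636 (iv F29270)
theorem F36427 : act 6 n7677 = n6100 := d35_2 D6093 D7677 (iv D6100) (iv D4868) (iv F23632)
theorem F36428 : act 9 n7677 = n6150 := d38_2 (iv F29271) D7677 (iv D6150)
def n7678 : Q := act 7 n6093
theorem D7678 : act 7 n6093 = n7678 := rfl
theorem F36429 : act 1 n7678 = n6437 := d14_1 D7678 (iv D6437) (iv F29269)
theorem F36430 : act 4 n7678 = n6094 := d32_1 D7678 (iv D6094) (iv F29270)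
theorem F36431 : act 6 n7678 = n6097 := d39_1 D7678 (iv D6097) (iv D4865) (iv F23633) D6093
theorem F36432 : act 9 n7678 = n6151 := d43_2 (iv F29271) D7678 (iv D6151)
def n7679 : Q := act 1 n6095
theorem D7679 : act 1 n6095 = n7679 := rfl
theorem F36433 : act 2 n7679 = n6438 := d9_2 D6095 D7679 (iv D6438) (iv D5131) (iv F23638)
theorem F36434 : act 5 n7679 = n6101 := d12_2 (iv F29276) D7679 (iv D6101)
theorem F36435 : act 9 n7679 = n6152 := d16_2 (iv F29277) D7679 (iv D6152)
def n7680 : Q := act 6 n6095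
theorem D7680 : act 6 n6095 = n7680 := rfl
theorem F36436 : act 2 n7680 = n6096 := d20_1 D7680 (iv D6096) D6095
theorem F36437 : act 5 n7680 = n7680 := d35_1 D7680 (iv D7680) F29276 F23659 (iv F29276)
theorem F36438 : act 9 n7680 = n6153 := d41_2 (iv F29277) D7680 (iv D6153)
def n7681 : Q := act 7 n6096
theorem D7681 : act 7 n6096 = n7681 := rfl
theorem F36439 : act 1 n7681 = n6440 := d14_1 D7681 (iv D6440) (iv F29278)
theorem F36440 : act 3 n7681 = n6097 := d27_1 D7681 (iv D6097) (iv F29279)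
theorem F36441 : act 5 n7681 = n7681 := d36_1 D7681 (iv D7681) F29280
theorem F36442 : act 9 n7681 = n6154 := d43_2 (iv F29281) D7681 (iv D6154)
def n7682 : Q := act 1 n6098
theorem D7682 : act 1 n6098 = n7682 := rfl
theorem F36444 : act 4 n7682 = n6233 := d11_2 (iv F29286) D7682 (iv D6233)
theorem F36445 : act 7 n7682 = n6101 := d14_2 (iv F29287) D7682 (iv D6101)
def n7683 : Q := act 6 n6098
theorem D7683 : act 6 n6098 = n7683 := rfl
theorem F36448 : act 2 n7683 = n6099 := d20_1 D7683 (iv D6099) D6098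
theorem F36449 : act 4 n7683 = n6234 := d31_1 D7683 (iv D6234) (iv F29286)
theorem F36452 : act 9 n7683 = n6156 := d41_2 (iv F29289) D7683 (iv D6156)
def n7685 : Q := act 8 n6100
theorem D7685 : act 8 n6100 = n7685 := rfl
theorem F36458 : act 4 n7685 = n7685 := d33_1 D7685 (iv D7685) F29297
theorem F36459 : act 5 n7685 = n7685 := d37_1 D7685 (iv D7685) (iv D6100) F23656 D6100
theorem F36460 : act 7 n7685 = n7685 := d42_1 D7685 (iv D7685) F29298
theorem F36461 : act 9 n7685 = n7685 := d44_2 (iv F29299) D7685 (iv D7685) F29299 F23802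
def n7686 : Q := act 0 n6101
theorem D7686 : act 0 n6101 = n7686 := rfl
def n7687 : Q := act 8 n6102
theorem D7687 : act 8 n6102 = n7687 := rfl
theorem F36467 : act 0 n7687 = n6108 := d7_1 D7687 (iv D6108) (iv F29305)
theorem F36468 : act 2 n7687 = n6448 := d22_1 D7687 (iv D6448) (iv F29306)
theorem F36469 : act 4 n7687 = n7687 := d33_1 D7687 (iv D7687) F29307
theorem F36470 : act 6 n7687 = n7687 := d40_1 D7687 (iv D7687) F29308
theorem F36471 : act 9 n7687 = n6103 := d44_2 D6102 D7687 (iv D6103) (iv D4871) D4870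
def n7688 : Q := act 5 n6103
theorem D7688 : act 5 n6103 = n7688 := rfl
theorem F36472 : act 0 n7688 = n6109 := d4_1 D7688 (iv D6109) (iv F29309)
theorem F36473 : act 2 n7688 = n6449 := d19_1 D7688 (iv D6449) (iv F29310)
theorem F36474 : act 8 n7688 = n6105 := d37_2 D6103 D7688 (iv D6105) (iv D4873) (iv F23669)
def n7689 : Q := act 5 n6104
theorem D7689 : act 5 n6104 = n7689 := rfl
theorem F36475 : act 0 n7689 = n6110 := d4_1 D7689 (iv D6110) (iv F29313)
theorem F36476 : act 2 n7689 = n6450 := d19_1 D7689 (iv D6450) (iv F29314)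
theorem F36477 : act 7 n7689 = n6105 := d36_2 (iv F29317) D7689 (iv D6105)
def n7690 : Q := act 4 n6105
theorem D7690 : act 4 n6105 = n7690 := rfl
theorem F36478 : act 0 n7690 = n6111 := d3_1 D7690 (iv D6111) (iv F29318)
theorem F36479 : act 2 n7690 = n6451 := d18_1 D7690 (iv D6451) (iv F29319)
theorem F36480 : act 5 n7690 = n6239 := d30_2 D6105 D7690 (iv D6239) (iv D4978) (iv F23678)
def n7691 : Q := act 6 n6105
theorem D7691 : act 6 n6105 = n7691 := rfl
theorem F36481 : act 0 n7691 = n6112 := d5_1 D7691 (iv D6112) (iv F29318)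
theorem F36482 : act 2 n7691 = n6452 := d20_1 D7691 (iv D6452) (iv F29319)
theorem F36483 : act 5 n7691 = n6107 := d35_1 D7691 (iv D6107) (iv D4874) (iv F23679) D6105
def n7692 : Q := act 3 n6106
theorem D7692 : act 3 n6106 = n7692 := rfl
theorem F36484 : act 0 n7692 = n6113 := d2_1 D7692 (iv D6113) (iv F29320)
theorem F36485 : act 5 n7692 = n6241 := d25_2 (iv F29322) D7692 (iv D6241)
theorem F36486 : act 7 n7692 = n7692 := d27_2 F29323 D7692 (iv D7692)
theorem F36487 : act 8 n7692 = n7692 := d28_2 F29324 D7692 (iv D7692)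
def n7693 : Q := act 6 n6106
theorem D7693 : act 6 n6106 = n7693 := rfl
theorem F36488 : act 0 n7693 = n6114 := d5_1 D7693 (iv D6114) (iv F29320)
theorem F36489 : act 2 n7693 = n6454 := d20_1 D7693 (iv D6454) (iv F29321)
theorem F36490 : act 4 n7693 = n6107 := d31_1 D7693 (iv D6107) D6106
theorem F36491 : act 8 n7693 = n7693 := d40_2 F29324 D7693 (iv D7693)
def n7694 : Q := act 7 n6107
theorem D7694 : act 7 n6107 = n7694 := rfl
theorem F36492 : act 0 n7694 = n6115 := d6_1 D7694 (iv D6115) (iv F29325)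
theorem F36493 : act 2 n7694 = n6455 := d21_1 D7694 (iv D6455) (iv F29326)
theorem F36494 : act 6 n7694 = n7694 := d39_1 D7694 (iv D7694) (iv D6107) F23682 D6107
theorem F36495 : act 8 n7694 = n7694 := d42_2 F29327 D7694 (iv D7694)
def n7695 : Q := act 5 n6108
theorem D7695 : act 5 n6108 = n7695 := rfl
theorem F36496 : act 1 n7695 = n6116 := d12_1 D7695 (iv D6116) (iv F29328)
theorem F36497 : act 2 n7695 = n6458 := d19_1 D7695 (iv D6458) (iv F29329)
theorem F36498 : act 9 n7695 = n6109 := d38_2 (iv F29332) D7695 (iv D6109)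
def n7696 : Q := act 4 n6109
theorem D7696 : act 4 n6109 = n7696 := rfl
theorem F36499 : act 1 n7696 = n6117 := d11_1 D7696 (iv D6117) (iv F29333)
theorem F36500 : act 2 n7696 = n6459 := d18_1 D7696 (iv D6459) (iv F29334)
theorem F36501 : act 5 n7696 = n7696 := d30_2 D6109 D7696 (iv D7696) (iv D6109) F23690
theorem F36502 : act 8 n7696 = n6111 := d33_2 (iv F29335) D7696 (iv D6111)
def n7697 : Q := act 6 n6109
theorem D7697 : act 6 n6109 = n7697 := rfl
theorem F36503 : act 1 n7697 = n6118 := d13_1 D7697 (iv D6118) (iv F29333)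
theorem F36504 : act 2 n7697 = n6460 := d20_1 D7697 (iv D6460) (iv F29334)
theorem F36505 : act 5 n7697 = n7697 := d35_1 D7697 (iv D7697) (iv D6109) F23691 D6109
theorem F36506 : act 8 n7697 = n6112 := d40_2 (iv F29335) D7697 (iv D6112)
def n7698 : Q := act 4 n6110
theorem D7698 : act 4 n6110 = n7698 := rfl
theorem F36507 : act 1 n7698 = n6119 := d11_1 D7698 (iv D6119) (iv F29336)
theorem F36508 : act 2 n7698 = n6461 := d18_1 D7698 (iv D6461) (iv F29337)
theorem F36509 : act 5 n7698 = n6244 := d30_2 D6110 D7698 (iv D6244) (iv D4981) (iv F23694)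
theorem F36510 : act 7 n7698 = n6111 := d32_2 (iv F29338) D7698 (iv D6111)
def n7699 : Q := act 6 n6110
theorem D7699 : act 6 n6110 = n7699 := rfl
theorem F36511 : act 1 n7699 = n6120 := d13_1 D7699 (iv D6120) (iv F29336)
theorem F36512 : act 2 n7699 = n6462 := d20_1 D7699 (iv D6462) (iv F29337)
theorem F36513 : act 5 n7699 = n7699 := d35_1 D7699 (iv D7699) (iv D6110) F23695 D6110
def n7700 : Q := act 3 n6111
theorem D7700 : act 3 n6111 = n7700 := rfl
theorem F36514 : act 1 n7700 = n6121 := d10_1 D7700 (iv D6121) (iv F29339)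
theorem F36515 : act 5 n7700 = n6246 := d25_2 (iv F29341) D7700 (iv D6246)
def n7701 : Q := act 6 n6111
theorem D7701 : act 6 n6111 = n7701 := rfl
theorem F36516 : act 1 n7701 = n6122 := d13_1 D7701 (iv D6122) (iv F29339)
theorem F36517 : act 2 n7701 = n6464 := d20_1 D7701 (iv D6464) (iv F29340)
theorem F36518 : act 4 n7701 = n6112 := d31_1 D7701 (iv D6112) D6111
def n7702 : Q := act 7 n6112
theorem D7702 : act 7 n6112 = n7702 := rfl
theorem F36519 : act 1 n7702 = n6123 := d14_1 D7702 (iv D6123) (iv F29342)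
theorem F36520 : act 2 n7702 = n6465 := d21_1 D7702 (iv D6465) (iv F29343)
theorem F36521 : act 5 n7702 = n6115 := d36_1 D7702 (iv D6115) (iv F29344)
def n7703 : Q := act 2 n6113
theorem D7703 : act 2 n6113 = n7703 := rfl
theorem F36524 : act 5 n7703 = n6249 := d19_2 (iv F29346) D7703 (iv D6249)
def n7704 : Q := act 6 n6113
theorem D7704 : act 6 n6113 = n7704 := rfl
theorem F36527 : act 1 n7704 = n6124 := d13_1 D7704 (iv D6124) (iv F29345)
theorem F36528 : act 3 n7704 = n6114 := d26_1 D7704 (iv D6114) D6113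
theorem F36529 : act 8 n7704 = n7704 := d40_2 F29348 D7704 (iv D7704)
def n7705 : Q := act 5 n6114
theorem D7705 : act 5 n6114 = n7705 := rfl
theorem F36530 : act 1 n7705 = n6125 := d12_1 D7705 (iv D6125) (iv F29349)
theorem F36531 : act 2 n7705 = n6468 := d19_1 D7705 (iv D6468) (iv F29350)
def n7706 : Q := act 7 n6114
theorem D7706 : act 7 n6114 = n7706 := rfl
theorem F36533 : act 1 n7706 = n6126 := d14_1 D7706 (iv D6126) (iv F29349)
theorem F36534 : act 2 n7706 = n6469 := d21_1 D7706 (iv D6469) (iv F29350)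
theorem F36535 : act 4 n7706 = n6115 := d32_1 D7706 (iv D6115) (iv F29351)
theorem F36536 : act 6 n7706 = n7706 := d39_1 D7706 (iv D7706) (iv D6114) F23702 D6114
theorem F36537 : act 8 n7706 = n7706 := d42_2 F29352 D7706 (iv D7706)
def n7707 : Q := act 4 n6116
theorem D7707 : act 4 n6116 = n7707 := rfl
theorem F36538 : act 2 n7707 = n6127 := d18_1 D7707 (iv D6127) (iv F29357)
theorem F36539 : act 5 n7707 = n7707 := d30_2 D6116 D7707 (iv D7707) (iv D6116) F23708
theorem F36540 : act 9 n7707 = n6117 := d34_2 (iv F29358) D7707 (iv D6117)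
def n7708 : Q := act 6 n6116
theorem D7708 : act 6 n6116 = n7708 := rfl
theorem F36541 : act 2 n7708 = n6128 := d20_1 D7708 (iv D6128) (iv F29357)
theorem F36542 : act 5 n7708 = n7708 := d35_1 D7708 (iv D7708) (iv D6116) F23709 D6116
theorem F36543 : act 9 n7708 = n6118 := d41_2 (iv F29358) D7708 (iv D6118)
def n7709 : Q := act 3 n6117
theorem D7709 : act 3 n6117 = n7709 := rfl
theorem F36544 : act 5 n7709 = n7709 := d25_2 F29360 D7709 (iv D7709)
theorem F36545 : act 8 n7709 = n6121 := d28_2 (iv F29361) D7709 (iv D6121)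
def n7710 : Q := act 6 n6117
theorem D7710 : act 6 n6117 = n7710 := rfl
theorem F36546 : act 2 n7710 = n6130 := d20_1 D7710 (iv D6130) (iv F29359)
theorem F36547 : act 4 n7710 = n6118 := d31_1 D7710 (iv D6118) D6117
theorem F36548 : act 8 n7710 = n6122 := d40_2 (iv F29361) D7710 (iv D6122)
def n7711 : Q := act 7 n6118
theorem D7711 : act 7 n6118 = n7711 := rfl
theorem F36549 : act 2 n7711 = n6131 := d21_1 D7711 (iv D6131) (iv F29362)
theorem F36550 : act 5 n7711 = n7711 := d36_1 D7711 (iv D7711) F29363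
theorem F36551 : act 8 n7711 = n6123 := d42_2 (iv F29364) D7711 (iv D6123)
def n7712 : Q := act 3 n6119
theorem D7712 : act 3 n6119 = n7712 := rfl
theorem F36552 : act 5 n7712 = n6253 := d25_2 (iv F29366) D7712 (iv D6253)
theorem F36553 : act 7 n7712 = n6121 := d27_2 (iv F29367) D7712 (iv D6121)
def n7713 : Q := act 6 n6119
theorem D7713 : act 6 n6119 = n7713 := rfl
theorem F36554 : act 2 n7713 = n6133 := d20_1 D7713 (iv D6133) (iv F29365)
theorem F36555 : act 4 n7713 = n6120 := d31_1 D7713 (iv D6120) D6119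
def n7714 : Q := act 7 n6120
theorem D7714 : act 7 n6120 = n7714 := rfl
theorem F36556 : act 2 n7714 = n6134 := d21_1 D7714 (iv D6134) (iv F29368)
theorem F36557 : act 5 n7714 = n7714 := d36_1 D7714 (iv D7714) F29369
theorem F36558 : act 6 n7714 = n6123 := d39_1 D7714 (iv D6123) (iv D4885) (iv F23714) D6120
def n7715 : Q := act 2 n6121
theorem D7715 : act 2 n6121 = n7715 := rfl
theorem F36559 : act 3 n7715 = n6135 := d17_2 D6121 D7715 (iv D6135) (iv D4894) (iv F23715)
theorem F36560 : act 5 n7715 = n6256 := d19_2 (iv F29370) D7715 (iv D6256)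
def n7716 : Q := act 6 n6121
theorem D7716 : act 6 n6121 = n7716 := rfl
theorem F36561 : act 3 n7716 = n6122 := d26_1 D7716 (iv D6122) D6121
def n7717 : Q := act 5 n6122
theorem D7717 : act 5 n6122 = n7717 := rfl
theorem F36562 : act 2 n7717 = n6137 := d19_1 D7717 (iv D6137) (iv F29371)
theorem F36563 : act 4 n7717 = n6125 := d30_1 D7717 (iv D6125) F23724 (iv F23718) (iv F29372)
theorem F36564 : act 6 n7717 = n6258 := d35_2 D6122 D7717 (iv D6258) (iv D4990) (iv F23716)
def n7718 : Q := act 7 n6122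
theorem D7718 : act 7 n6122 = n7718 := rfl
theorem F36565 : act 2 n7718 = n6138 := d21_1 D7718 (iv D6138) (iv F29371)
theorem F36566 : act 4 n7718 = n6123 := d32_1 D7718 (iv D6123) (iv F29372)
def n7719 : Q := act 5 n6124
theorem D7719 : act 5 n6124 = n7719 := rfl
theorem F36567 : act 2 n7719 = n7719 := d19_1 D7719 (iv D7719) F29375
theorem F36568 : act 3 n7719 = n6125 := d25_1 D7719 (iv D6125) (iv F29376)
theorem F36569 : act 6 n7719 = n6260 := d35_2 D6124 D7719 (iv D6260) (iv D4992) (iv F23720)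
def n7720 : Q := act 7 n6124
theorem D7720 : act 7 n6124 = n7720 := rfl
theorem F36570 : act 2 n7720 = n7720 := d21_1 D7720 (iv D7720) F29375
theorem F36571 : act 3 n7720 = n6126 := d27_1 D7720 (iv D6126) (iv F29376)
theorem F36572 : act 6 n7720 = n7720 := d39_1 D7720 (iv D7720) (iv D6124) F23721 D6124
theorem F36573 : act 8 n7720 = n7720 := d42_2 F29377 D7720 (iv D7720)
def n7721 : Q := act 7 n6125
theorem D7721 : act 7 n6125 = n7721 := rfl
theorem F36574 : act 2 n7721 = n6139 := d21_1 D7721 (iv D6139) (iv F29378)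
theorem F36575 : act 5 n7721 = n6126 := d36_1 D7721 (iv D6126) D6125
def n7722 : Q := act 8 n6125
theorem D7722 : act 8 n6125 = n7722 := rfl
theorem F36576 : act 2 n7722 = n6140 := d22_1 D7722 (iv D6140) (iv F29378)
theorem F36577 : act 5 n7722 = n7722 := d37_1 D7722 (iv D7722) (iv D6125) F23725 D6125
theorem F36578 : act 6 n7722 = n6263 := d40_1 D7722 (iv D6263) (iv F29379)
def n7723 : Q := act 3 n6127
theorem D7723 : act 3 n6127 = n7723 := rfl
theorem F36579 : act 1 n7723 = n6494 := d10_1 D7723 (iv D6494) (iv F29384)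
theorem F36580 : act 4 n7723 = n6141 := d24_2 D6127 D7723 (iv D6141) (iv D4899) (iv F23730)
theorem F36581 : act 5 n7723 = n7723 := d25_2 F29385 D7723 (iv D7723)
theorem F36582 : act 9 n7723 = n6129 := d29_2 (iv F29386) D7723 (iv D6129)
def n7724 : Q := act 6 n6127
theorem D7724 : act 6 n6127 = n7724 := rfl
theorem F36583 : act 1 n7724 = n6495 := d13_1 D7724 (iv D6495) (iv F29384)
theorem F36584 : act 4 n7724 = n6128 := d31_1 D7724 (iv D6128) D6127
theorem F36585 : act 9 n7724 = n6130 := d41_2 (iv F29386) D7724 (iv D6130)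
def n7725 : Q := act 7 n6128
theorem D7725 : act 7 n6128 = n7725 := rfl
theorem F36586 : act 1 n7725 = n6496 := d14_1 D7725 (iv D6496) (iv F29387)
theorem F36587 : act 3 n7725 = n6143 := d27_1 D7725 (iv D6143) (iv F29388)
theorem F36588 : act 5 n7725 = n7725 := d36_1 D7725 (iv D7725) F29389
theorem F36589 : act 9 n7725 = n6131 := d43_2 (iv F29390) D7725 (iv D6131)
def n7726 : Q := act 2 n6129
theorem D7726 : act 2 n6129 = n7726 := rfl
theorem F36590 : act 4 n7726 = n6144 := d18_2 (iv F29392) D7726 (iv D6144)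
theorem F36591 : act 5 n7726 = n7726 := d19_2 F29393 D7726 (iv D7726)
theorem F36592 : act 8 n7726 = n6135 := d22_2 (iv F29394) D7726 (iv D6135)
def n7727 : Q := act 6 n6129
theorem D7727 : act 6 n6129 = n7727 := rfl
theorem F36593 : act 1 n7727 = n6498 := d13_1 D7727 (iv D6498) (iv F29391)
theorem F36594 : act 3 n7727 = n6130 := d26_1 D7727 (iv D6130) D6129
theorem F36595 : act 4 n7727 = n6145 := d31_1 D7727 (iv D6145) (iv F29392)
theorem F36596 : act 8 n7727 = n6136 := d40_2 (iv F29394) D7727 (iv D6136)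
def n7728 : Q := act 5 n6130
theorem D7728 : act 5 n6130 = n7728 := rfl
theorem F36597 : act 1 n7728 = n6499 := d12_1 D7728 (iv D6499) (iv F29395)
theorem F36598 : act 4 n7728 = n7728 := d30_1 D7728 (iv D7728) F29396 F23737 (iv F29396)
theorem F36599 : act 6 n7728 = n7728 := d35_2 D6130 D7728 (iv D7728) (iv D6130) F23733
def n7729 : Q := act 7 n6130
theorem D7729 : act 7 n6130 = n7729 := rfl
theorem F36600 : act 1 n7729 = n6500 := d14_1 D7729 (iv D6500) (iv F29395)
theorem F36601 : act 4 n7729 = n6131 := d32_1 D7729 (iv D6131) (iv F29396)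
theorem F36602 : act 8 n7729 = n6138 := d42_2 (iv F29397) D7729 (iv D6138)
def n7730 : Q := act 2 n6132
theorem D7730 : act 2 n6132 = n7730 := rfl
theorem F36603 : act 4 n7730 = n6148 := d18_2 (iv F29403) D7730 (iv D6148)
theorem F36604 : act 5 n7730 = n6264 := d19_2 (iv F29404) D7730 (iv D6264)
theorem F36605 : act 7 n7730 = n6135 := d21_2 (iv F29405) D7730 (iv D6135)
def n7731 : Q := act 6 n6132
theorem D7731 : act 6 n6132 = n7731 := rfl
theorem F36607 : act 3 n7731 = n6133 := d26_1 D7731 (iv D6133) D6132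
theorem F36608 : act 4 n7731 = n6149 := d31_1 D7731 (iv D6149) (iv F29403)
def n7732 : Q := act 5 n6133
theorem D7732 : act 5 n6133 = n7732 := rfl
theorem F36609 : act 1 n7732 = n6503 := d12_1 D7732 (iv D6503) (iv F29406)
theorem F36610 : act 4 n7732 = n7732 := d30_1 D7732 (iv D7732) F29407 F23744 (iv F29407)
theorem F36611 : act 6 n7732 = n6266 := d35_2 D6133 D7732 (iv D6266) (iv D4996) (iv F23740)
def n7733 : Q := act 7 n6133
theorem D7733 : act 7 n6133 = n7733 := rfl
theorem F36612 : act 1 n7733 = n6504 := d14_1 D7733 (iv D6504) (iv F29406)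
theorem F36613 : act 4 n7733 = n6134 := d32_1 D7733 (iv D6134) (iv F29407)
theorem F36614 : act 6 n7733 = n6138 := d39_1 D7733 (iv D6138) (iv D4895) (iv F23741) D6133
def n7734 : Q := act 1 n6135
theorem D7734 : act 1 n6135 = n7734 := rfl
theorem F36615 : act 2 n7734 = n6505 := d9_2 D6135 D7734 (iv D6505) (iv D5180) (iv F23745)
theorem F36616 : act 4 n7734 = n6152 := d11_2 (iv F29412) D7734 (iv D6152)
theorem F36617 : act 5 n7734 = n6268 := d12_2 (iv F29413) D7734 (iv D6268)
def n7735 : Q := act 6 n6135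
theorem D7735 : act 6 n6135 = n7735 := rfl
theorem F36618 : act 2 n7735 = n6136 := d20_1 D7735 (iv D6136) D6135
theorem F36619 : act 4 n7735 = n6153 := d31_1 D7735 (iv D6153) (iv F29412)
def n7736 : Q := act 5 n6136
theorem D7736 : act 5 n6136 = n7736 := rfl
theorem F36620 : act 1 n7736 = n6507 := d12_1 D7736 (iv D6507) (iv F29414)
theorem F36621 : act 3 n7736 = n6137 := d25_1 D7736 (iv D6137) (iv F29415)
theorem F36622 : act 4 n7736 = n7736 := d30_1 D7736 (iv D7736) F29416 F23787 (iv F29416)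
theorem F36623 : act 6 n7736 = n6270 := d35_2 D6136 D7736 (iv D6270) (iv D4999) (iv F23747)
def n7737 : Q := act 7 n6136
theorem D7737 : act 7 n6136 = n7737 := rfl
theorem F36624 : act 1 n7737 = n6508 := d14_1 D7737 (iv D6508) (iv F29414)
theorem F36625 : act 3 n7737 = n6138 := d27_1 D7737 (iv D6138) (iv F29415)
theorem F36626 : act 4 n7737 = n6154 := d32_1 D7737 (iv D6154) (iv F29416)
def n7738 : Q := act 7 n6137
theorem D7738 : act 7 n6137 = n7738 := rfl
theorem F36627 : act 1 n7738 = n6509 := d14_1 D7738 (iv D6509) (iv F29417)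
theorem F36628 : act 4 n7738 = n6139 := d32_1 D7738 (iv D6139) (iv F29418)
theorem F36629 : act 5 n7738 = n6138 := d36_1 D7738 (iv D6138) D6137
def n7739 : Q := act 8 n6137
theorem D7739 : act 8 n6137 = n7739 := rfl
theorem F36630 : act 1 n7739 = n6510 := d15_1 D7739 (iv D6510) (iv F29417)
theorem F36631 : act 4 n7739 = n6140 := d33_1 D7739 (iv D6140) (iv F29418)
theorem F36632 : act 6 n7739 = n6273 := d40_1 D7739 (iv D6273) (iv F29419)
def n7740 : Q := act 6 n6139
theorem D7740 : act 6 n6139 = n7740 := rfl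
theorem F36633 : act 1 n7740 = n6511 := d13_1 D7740 (iv D6511) (iv F29422)
theorem F36634 : act 3 n7740 = n7740 := d26_1 D7740 (iv D7740) F29423
theorem F36635 : act 5 n7740 = n7740 := d35_1 D7740 (iv D7740) F29424 F23759 (iv F29424)
theorem F36636 : act 7 n7740 = n6274 := d39_2 D6139 D7740 (iv D6274) (iv D5002) (iv F23755)
def n7741 : Q := act 8 n6139
theorem D7741 : act 8 n6139 = n7741 := rfl
theorem F36637 : act 1 n7741 = n6512 := d15_1 D7741 (iv D6512) (iv F29422)
theorem F36638 : act 3 n7741 = n7741 := d28_1 D7741 (iv D7741) F29423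
theorem F36639 : act 5 n7741 = n7741 := d37_1 D7741 (iv D7741) F29424 F23760 (iv F29424)
theorem F36640 : act 7 n7741 = n6140 := d42_1 D7741 (iv D6140) D6139
def n7742 : Q := act 9 n6140
theorem D7742 : act 9 n6140 = n7742 := rfl
theorem F36641 : act 1 n7742 = n6513 := d16_1 D7742 (iv D6513) (iv F29425)
theorem F36642 : act 3 n7742 = n7742 := d29_1 D7742 (iv D7742) F29426
theorem F36643 : act 5 n7742 = n7742 := d38_1 D7742 (iv D7742) F29427
theorem F36644 : act 6 n7742 = n6276 := d41_1 D7742 (iv D6276) (iv F29428)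
def n7743 : Q := act 2 n6141
theorem D7743 : act 2 n6141 = n7743 := rfl
theorem F36645 : act 5 n7743 = n6159 := d19_2 (iv F29430) D7743 (iv D6159)
theorem F36646 : act 9 n7743 = n6144 := d23_2 (iv F29431) D7743 (iv D6144)
def n7744 : Q := act 6 n6141
theorem D7744 : act 6 n6141 = n7744 := rfl
theorem F36647 : act 1 n7744 = n6521 := d13_1 D7744 (iv D6521) (iv F29429)
theorem F36648 : act 3 n7744 = n6142 := d26_1 D7744 (iv D6142) D6141
theorem F36649 : act 9 n7744 = n6145 := d41_2 (iv F29431) D7744 (iv D6145)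
def n7745 : Q := act 5 n6142
theorem D7745 : act 5 n6142 = n7745 := rfl
theorem F36650 : act 1 n7745 = n6522 := d12_1 D7745 (iv D6522) (iv F29432)
theorem F36651 : act 4 n7745 = n7745 := d30_1 D7745 (iv D7745) F29433 F23765 (iv F29433)
theorem F36652 : act 6 n7745 = n6161 := d35_2 D6142 D7745 (iv D6161) (iv D4915) (iv F23762)
theorem F36653 : act 9 n7745 = n6146 := d38_2 (iv F29434) D7745 (iv D6146)
def n7746 : Q := act 7 n6142
theorem D7746 : act 7 n6142 = n7746 := rfl
theorem F36654 : act 1 n7746 = n6523 := d14_1 D7746 (iv D6523) (iv F29432)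
theorem F36655 : act 4 n7746 = n6143 := d32_1 D7746 (iv D6143) (iv F29433)
theorem F36656 : act 9 n7746 = n6147 := d43_2 (iv F29434) D7746 (iv D6147)
def n7747 : Q := act 1 n6144
theorem D7747 : act 1 n6144 = n7747 := rfl
theorem F36657 : act 2 n7747 = n6524 := d9_2 D6144 D7747 (iv D6524) (iv D5194) (iv F23767)
theorem F36658 : act 5 n7747 = n6162 := d12_2 (iv F29438) D7747 (iv D6162)
theorem F36659 : act 8 n7747 = n6152 := d15_2 (iv F29439) D7747 (iv D6152)
def n7748 : Q := act 6 n6144
theorem D7748 : act 6 n6144 = n7748 := rfl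
theorem F36660 : act 2 n7748 = n6145 := d20_1 D7748 (iv D6145) D6144
theorem F36661 : act 8 n7748 = n6153 := d40_2 (iv F29439) D7748 (iv D6153)
def n7749 : Q := act 5 n6145
theorem D7749 : act 5 n6145 = n7749 := rfl
theorem F36662 : act 1 n7749 = n6526 := d12_1 D7749 (iv D6526) (iv F29440)
theorem F36663 : act 3 n7749 = n6146 := d25_1 D7749 (iv D6146) (iv F29441)
theorem F36664 : act 6 n7749 = n6164 := d35_2 D6145 D7749 (iv D6164) (iv D4917) (iv F23768)
theorem F36665 : act 8 n7749 = n7749 := d37_2 (iv F29442) D7749 (iv D7749) F29442 F23787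
def n7750 : Q := act 7 n6145
theorem D7750 : act 7 n6145 = n7750 := rfl
theorem F36666 : act 1 n7750 = n6527 := d14_1 D7750 (iv D6527) (iv F29440)
theorem F36667 : act 3 n7750 = n6147 := d27_1 D7750 (iv D6147) (iv F29441)
theorem F36668 : act 8 n7750 = n6154 := d42_2 (iv F29442) D7750 (iv D6154)
def n7751 : Q := act 7 n6146
theorem D7751 : act 7 n6146 = n7751 := rfl
theorem F36669 : act 1 n7751 = n6528 := d14_1 D7751 (iv D6528) (iv F29443)
theorem F36670 : act 4 n7751 = n7751 := d32_1 D7751 (iv D7751) F29444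
theorem F36671 : act 5 n7751 = n6147 := d36_1 D7751 (iv D6147) D6146
theorem F36672 : act 6 n7751 = n7751 := d39_1 D7751 (iv D7751) F29445 F23825 (iv F29445)
theorem F36673 : act 8 n7751 = n7751 := d42_2 F29446 D7751 (iv D7751)
def n7752 : Q := act 1 n6148
theorem D7752 : act 1 n6148 = n7752 := rfl
theorem F36674 : act 2 n7752 = n6529 := d9_2 D6148 D7752 (iv D6529) (iv D5198) (iv F23776)
theorem F36675 : act 5 n7752 = n6155 := d12_2 (iv F29450) D7752 (iv D6155)
theorem F36676 : act 7 n7752 = n6152 := d14_2 (iv F29451) D7752 (iv D6152)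
def n7753 : Q := act 6 n6148
theorem D7753 : act 6 n6148 = n7753 := rfl
def n7755 : Q := act 7 n6149
theorem D7755 : act 7 n6149 = n7755 := rfl
theorem F36682 : act 1 n7755 = n6532 := d14_1 D7755 (iv D6532) (iv F29452)
theorem F36683 : act 3 n7755 = n6151 := d27_1 D7755 (iv D6151) (iv F29453)
theorem F36684 : act 6 n7755 = n6154 := d39_1 D7755 (iv D6154) (iv D4908) (iv F23778) D6149
def n7756 : Q := act 7 n6150
theorem D7756 : act 7 n6150 = n7756 := rfl
theorem F36686 : act 4 n7756 = n7756 := d32_1 D7756 (iv D7756) F29455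
theorem F36687 : act 5 n7756 = n6151 := d36_1 D7756 (iv D6151) D6150
theorem F36688 : act 6 n7756 = n7756 := d39_1 D7756 (iv D7756) F29456 F23801 (iv F29456)
theorem F36689 : act 8 n7756 = n7756 := d42_2 F29457 D7756 (iv D7756)
def n7757 : Q := act 0 n6152
theorem D7757 : act 0 n6152 = n7757 := rfl
def n7758 : Q := act 6 n6152
theorem D7758 : act 6 n6152 = n7758 := rfl
theorem F36692 : act 1 n7758 = n6153 := d13_1 D7758 (iv D6153) D6152
theorem F36693 : act 2 n7758 = n6535 := d20_1 D7758 (iv D6535) (iv F29461)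
theorem F36694 : act 5 n7758 = n7758 := d35_1 D7758 (iv D7758) F29462 F23805 (iv F29462)
def n7759 : Q := act 7 n6153
theorem D7759 : act 7 n6153 = n7759 := rfl
theorem F36695 : act 2 n7759 = n6154 := d21_1 D7759 (iv D6154) (iv F29463)
theorem F36696 : act 5 n7759 = n7759 := d36_1 D7759 (iv D7759) F29464
def n7760 : Q := act 0 n6155
theorem D7760 : act 0 n6155 = n7760 := rfl
theorem F36698 : act 4 n7760 = n6286 := d3_2 (iv F29469) D7760 (iv D6286)
def n7761 : Q := act 6 n6155
theorem D7761 : act 6 n6155 = n7761 := rfl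
theorem F36703 : act 4 n7761 = n6287 := d31_1 D7761 (iv D6287) (iv F29469)
def n7762 : Q := act 5 n6156
theorem D7762 : act 5 n6156 = n7762 := rfl
def n7763 : Q := act 4 n6157
theorem D7763 : act 4 n6157 = n7763 := rfl
theorem F36711 : act 5 n7763 = n6289 := d30_2 D6157 D7763 (iv D6289) (iv D5013) (iv F23796)
def n7764 : Q := act 1 n6159
theorem D7764 : act 1 n6159 = n7764 := rfl
theorem F36714 : act 2 n7764 = n6543 := d9_2 D6159 D7764 (iv D6543) (iv D5211) (iv F23807)
theorem F36715 : act 4 n7764 = n7764 := d11_2 F29484 D7764 (iv D7764)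
theorem F36716 : act 8 n7764 = n7764 := d15_2 F29485 D7764 (iv D7764)
theorem F36717 : act 9 n7764 = n6162 := d16_2 (iv F29486) D7764 (iv D6162)
def n7765 : Q := act 6 n6159
theorem D7765 : act 6 n6159 = n7765 := rfl
theorem F36718 : act 2 n7765 = n6160 := d20_1 D7765 (iv D6160) D6159
theorem F36719 : act 4 n7765 = n7765 := d31_1 D7765 (iv D7765) F29484
theorem F36720 : act 7 n7765 = n7765 := d39_2 F33763 D7765 (iv D7765) (iv F33763) F33762
theorem F36721 : act 8 n7765 = n7765 := d40_2 F29485 D7765 (iv D7765)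
theorem F36722 : act 9 n7765 = n6163 := d41_2 (iv F29486) D7765 (iv D6163)
def n7766 : Q := act 5 n6160
theorem D7766 : act 5 n6160 = n7766 := rfl
theorem F36723 : act 1 n7766 = n6545 := d12_1 D7766 (iv D6545) (iv F29487)
theorem F36724 : act 3 n7766 = n6161 := d25_1 D7766 (iv D6161) (iv F29488)
theorem F36725 : act 7 n7766 = n7766 := d36_2 F29490 D7766 (iv D7766)
theorem F36726 : act 9 n7766 = n6164 := d38_2 (iv F29492) D7766 (iv D6164)
def n7767 : Q := act 8 n6161
theorem D7767 : act 8 n6161 = n7767 := rfl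
theorem F36727 : act 1 n7767 = n6546 := d15_1 D7767 (iv D6546) (iv F29493)
theorem F36728 : act 4 n7767 = n7767 := d33_1 D7767 (iv D7767) F29494
theorem F36729 : act 5 n7767 = n7767 := d37_1 D7767 (iv D7767) (iv D6161) F23814 D6161
theorem F36730 : act 7 n7767 = n7767 := d42_1 D7767 (iv D7767) F29495
theorem F36731 : act 9 n7767 = n7767 := d44_2 (iv F29496) D7767 (iv D7767) F29496 F23826
def n7768 : Q := act 0 n6162
theorem D7768 : act 0 n6162 = n7768 := rfl
theorem F36732 : act 2 n7768 = n6547 := d1_2 (iv F29497) D7768 (iv D6547)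
theorem F36734 : act 8 n7768 = n6165 := d7_2 (iv F29499) D7768 (iv D6165)
def n7769 : Q := act 6 n6162
theorem D7769 : act 6 n6162 = n7769 := rfl
theorem F36735 : act 1 n7769 = n6163 := d13_1 D7769 (iv D6163) D6162
def n7770 : Q := act 5 n6163
theorem D7770 : act 5 n6163 = n7770 := rfl
theorem F36740 : act 2 n7770 = n6164 := d19_1 D7770 (iv D6164) (iv F29500)
def n7771 : Q := act 4 n6164
theorem D7771 : act 4 n6164 = n7771 := rfl
theorem F36743 : act 1 n7771 = n6550 := d11_1 D7771 (iv D6550) (iv F29504)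
theorem F36744 : act 3 n7771 = n7771 := d24_1 D7771 (iv D7771) F29505 F23824 (iv F29505)
theorem F36745 : act 5 n7771 = n7771 := d30_2 D6164 D7771 (iv D7771) (iv D6164) F23820
theorem F36746 : act 7 n7771 = n7771 := d32_2 F29506 D7771 (iv D7771)
theorem F36747 : act 8 n7771 = n7771 := d33_2 F29507 D7771 (iv D7771)
def n7772 : Q := act 6 n6165
theorem D7772 : act 6 n6165 = n7772 := rfl
theorem F36749 : act 2 n7772 = n6552 := d20_1 D7772 (iv D6552) (iv F29508)
def n7773 : Q := act 6 n6167
theorem D7773 : act 6 n6167 = n7773 := rfl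
theorem F36756 : act 4 n7773 = n6292 := d31_1 D7773 (iv D6292) (iv F29519)
def n7774 : Q := act 5 n6169
theorem D7774 : act 5 n6169 = n7774 := rfl
theorem F36760 : act 0 n7774 = n6176 := d4_1 D7774 (iv D6176) (iv F29528)
theorem F36761 : act 2 n7774 = n6554 := d19_1 D7774 (iv D6554) (iv F29529)
theorem F36762 : act 3 n7774 = n7774 := d25_1 D7774 (iv D7774) F29530
theorem F36763 : act 8 n7774 = n6171 := d37_2 D6169 D7774 (iv D6171) (iv D4926) (iv F23852)
theorem F36764 : act 9 n7774 = n7774 := d38_2 F29532 D7774 (iv D7774)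
def n7775 : Q := act 5 n6170
theorem D7775 : act 5 n6170 = n7775 := rfl
theorem F36765 : act 0 n7775 = n6177 := d4_1 D7775 (iv D6177) (iv F29533)
theorem F36766 : act 2 n7775 = n6555 := d19_1 D7775 (iv D6555) (iv F29534)
theorem F36767 : act 3 n7775 = n7775 := d25_1 D7775 (iv D7775) F29535
theorem F36768 : act 7 n7775 = n6171 := d36_2 (iv F29537) D7775 (iv D6171)
theorem F36769 : act 9 n7775 = n6238 := d38_2 (iv F29538) D7775 (iv D6238)
def n7776 : Q := act 4 n6171
theorem D7776 : act 4 n6171 = n7776 := rfl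
theorem F36770 : act 0 n7776 = n6178 := d3_1 D7776 (iv D6178) (iv F29539)
theorem F36771 : act 2 n7776 = n6556 := d18_1 D7776 (iv D6556) (iv F29540)
theorem F36772 : act 9 n7776 = n6239 := d34_2 (iv F29542) D7776 (iv D6239)
def n7777 : Q := act 6 n6171
theorem D7777 : act 6 n6171 = n7777 := rfl
theorem F36773 : act 0 n7777 = n6179 := d5_1 D7777 (iv D6179) (iv F29539)
theorem F36774 : act 2 n7777 = n6557 := d20_1 D7777 (iv D6557) (iv F29540)
theorem F36776 : act 5 n7777 = n6173 := d35_1 D7777 (iv D6173) (iv D4927) (iv F23862) D6171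
def n7778 : Q := act 3 n6172
theorem D7778 : act 3 n6172 = n7778 := rfl
theorem F36778 : act 0 n7778 = n6180 := d2_1 D7778 (iv D6180) (iv F29543)
theorem F36782 : act 9 n7778 = n6241 := d29_2 (iv F29547) D7778 (iv D6241)
def n7779 : Q := act 6 n6172
theorem D7779 : act 6 n6172 = n7779 := rfl
theorem F36783 : act 0 n7779 = n6181 := d5_1 D7779 (iv D6181) (iv F29543)
theorem F36784 : act 2 n7779 = n6559 := d20_1 D7779 (iv D6559) (iv F29544)
theorem F36785 : act 4 n7779 = n6173 := d31_1 D7779 (iv D6173) D6172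
theorem F36787 : act 9 n7779 = n6242 := d41_2 (iv F29547) D7779 (iv D6242)
def n7780 : Q := act 7 n6173
theorem D7780 : act 7 n6173 = n7780 := rfl
theorem F36789 : act 2 n7780 = n6560 := d21_1 D7780 (iv D6560) (iv F29549)
def n7781 : Q := act 5 n6174
theorem D7781 : act 5 n6174 = n7781 := rfl
theorem F36794 : act 1 n7781 = n6185 := d12_1 D7781 (iv D6185) (iv F29553)
theorem F36795 : act 2 n7781 = n6561 := d19_1 D7781 (iv D6561) (iv F29554)
theorem F36796 : act 9 n7781 = n7781 := d38_2 F29557 D7781 (iv D7781)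
def n7782 : Q := act 5 n6175
theorem D7782 : act 5 n6175 = n7782 := rfl
theorem F36797 : act 1 n7782 = n6187 := d12_1 D7782 (iv D6187) (iv F29558)
theorem F36798 : act 2 n7782 = n6562 := d19_1 D7782 (iv D6562) (iv F29559)
theorem F36799 : act 3 n7782 = n7782 := d25_1 D7782 (iv D7782) F29560
theorem F36800 : act 7 n7782 = n6176 := d36_2 (iv F29561) D7782 (iv D6176)
theorem F36801 : act 8 n7782 = n6177 := d37_2 D6175 D7782 (iv D6177) (iv D4931) (iv F23877)
theorem F36802 : act 9 n7782 = n7782 := d38_2 F29562 D7782 (iv D7782)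
def n7783 : Q := act 4 n6176
theorem D7783 : act 4 n6176 = n7783 := rfl
theorem F36803 : act 1 n7783 = n6188 := d11_1 D7783 (iv D6188) (iv F29563)
theorem F36804 : act 2 n7783 = n6563 := d18_1 D7783 (iv D6563) (iv F29564)
theorem F36805 : act 8 n7783 = n6178 := d33_2 (iv F29566) D7783 (iv D6178)
theorem F36806 : act 9 n7783 = n7783 := d34_2 F29567 D7783 (iv D7783)
def n7784 : Q := act 6 n6176
theorem D7784 : act 6 n6176 = n7784 := rfl
theorem F36807 : act 1 n7784 = n6189 := d13_1 D7784 (iv D6189) (iv F29563)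
theorem F36808 : act 2 n7784 = n6564 := d20_1 D7784 (iv D6564) (iv F29564)
theorem F36809 : act 3 n7784 = n7784 := d26_1 D7784 (iv D7784) F29565
theorem F36810 : act 5 n7784 = n7784 := d35_1 D7784 (iv D7784) (iv D6176) F23882 D6176
theorem F36811 : act 8 n7784 = n6179 := d40_2 (iv F29566) D7784 (iv D6179)
theorem F36812 : act 9 n7784 = n7784 := d41_2 F29567 D7784 (iv D7784)
def n7785 : Q := act 4 n6177
theorem D7785 : act 4 n6177 = n7785 := rfl
theorem F36813 : act 1 n7785 = n6190 := d11_1 D7785 (iv D6190) (iv F29568)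
theorem F36814 : act 2 n7785 = n6565 := d18_1 D7785 (iv D6565) (iv F29569)
theorem F36815 : act 7 n7785 = n6178 := d32_2 (iv F29571) D7785 (iv D6178)
theorem F36816 : act 9 n7785 = n6244 := d34_2 (iv F29572) D7785 (iv D6244)
def n7786 : Q := act 6 n6177
theorem D7786 : act 6 n6177 = n7786 := rfl
theorem F36817 : act 1 n7786 = n6191 := d13_1 D7786 (iv D6191) (iv F29568)
theorem F36818 : act 2 n7786 = n6566 := d20_1 D7786 (iv D6566) (iv F29569)
theorem F36819 : act 3 n7786 = n7786 := d26_1 D7786 (iv D7786) F29570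
theorem F36820 : act 5 n7786 = n7786 := d35_1 D7786 (iv D7786) (iv D6177) F23887 D6177
theorem F36821 : act 9 n7786 = n6245 := d41_2 (iv F29572) D7786 (iv D6245)
def n7787 : Q := act 3 n6178
theorem D7787 : act 3 n6178 = n7787 := rfl
theorem F36822 : act 1 n7787 = n6192 := d10_1 D7787 (iv D6192) (iv F29573)
theorem F36823 : act 4 n7787 = n7787 := d24_2 D6178 D7787 (iv D7787) (iv D6178) F23892
theorem F36824 : act 9 n7787 = n6246 := d29_2 (iv F29575) D7787 (iv D6246)
def n7788 : Q := act 6 n6178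
theorem D7788 : act 6 n6178 = n7788 := rfl
theorem F36825 : act 1 n7788 = n6193 := d13_1 D7788 (iv D6193) (iv F29573)
theorem F36826 : act 2 n7788 = n6568 := d20_1 D7788 (iv D6568) (iv F29574)
theorem F36827 : act 4 n7788 = n6179 := d31_1 D7788 (iv D6179) D6178
theorem F36828 : act 9 n7788 = n6247 := d41_2 (iv F29575) D7788 (iv D6247)
def n7789 : Q := act 7 n6179
theorem D7789 : act 7 n6179 = n7789 := rfl
theorem F36829 : act 1 n7789 = n6194 := d14_1 D7789 (iv D6194) (iv F29576)
theorem F36830 : act 2 n7789 = n6569 := d21_1 D7789 (iv D6569) (iv F29577)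
def n7790 : Q := act 2 n6180
theorem D7790 : act 2 n6180 = n7790 := rfl
theorem F36835 : act 3 n7790 = n6570 := d17_2 D6180 D7790 (iv D6570) (iv D5233) (iv F23895)
def n7791 : Q := act 6 n6180
theorem D7791 : act 6 n6180 = n7791 := rfl
theorem F36840 : act 1 n7791 = n6195 := d13_1 D7791 (iv D6195) (iv F29581)
theorem F36841 : act 3 n7791 = n6181 := d26_1 D7791 (iv D6181) D6180
theorem F36844 : act 9 n7791 = n6250 := d41_2 (iv F29585) D7791 (iv D6250)
def n7792 : Q := act 5 n6181
theorem D7792 : act 5 n6181 = n7792 := rfl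
theorem F36845 : act 1 n7792 = n6196 := d12_1 D7792 (iv D6196) (iv F29586)
theorem F36846 : act 2 n7792 = n6572 := d19_1 D7792 (iv D6572) (iv F29587)
def n7793 : Q := act 7 n6181
theorem D7793 : act 7 n6181 = n7793 := rfl
theorem F36848 : act 1 n7793 = n6197 := d14_1 D7793 (iv D6197) (iv F29586)
theorem F36849 : act 2 n7793 = n6573 := d21_1 D7793 (iv D6573) (iv F29587)
def n7794 : Q := act 5 n6183
theorem D7794 : act 5 n6183 = n7794 := rfl
theorem F36854 : act 2 n7794 = n7794 := d19_1 D7794 (iv D7794) F29597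
theorem F36855 : act 3 n7794 = n6185 := d25_1 D7794 (iv D6185) (iv F29598)
theorem F36856 : act 9 n7794 = n7794 := d38_2 F29601 D7794 (iv D7794)
def n7795 : Q := act 5 n6184
theorem D7795 : act 5 n6184 = n7795 := rfl
theorem F36857 : act 2 n7795 = n6199 := d19_1 D7795 (iv D6199) (iv F29602)
theorem F36858 : act 7 n7795 = n6185 := d36_2 (iv F29604) D7795 (iv D6185)
theorem F36859 : act 9 n7795 = n7795 := d38_2 F29605 D7795 (iv D7795)
def n7796 : Q := act 4 n6185
theorem D7796 : act 4 n6185 = n7796 := rfl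
theorem F36860 : act 2 n7796 = n6200 := d18_1 D7796 (iv D6200) (iv F29606)
theorem F36861 : act 5 n7796 = n6188 := d30_2 D6185 D7796 (iv D6188) (iv D4940) (iv F23912)
theorem F36862 : act 9 n7796 = n7796 := d34_2 F29607 D7796 (iv D7796)
def n7797 : Q := act 6 n6185
theorem D7797 : act 6 n6185 = n7797 := rfl
theorem F36863 : act 2 n7797 = n6201 := d20_1 D7797 (iv D6201) (iv F29606)
theorem F36864 : act 5 n7797 = n7797 := d35_1 D7797 (iv D7797) (iv D6185) F23913 D6185
theorem F36865 : act 9 n7797 = n7797 := d41_2 F29607 D7797 (iv D7797)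
def n7798 : Q := act 5 n6186
theorem D7798 : act 5 n6186 = n7798 := rfl
theorem F36866 : act 2 n7798 = n6202 := d19_1 D7798 (iv D6202) (iv F29608)
theorem F36867 : act 3 n7798 = n7798 := d25_1 D7798 (iv D7798) F29609
theorem F36868 : act 7 n7798 = n7798 := d36_2 F29611 D7798 (iv D7798)
theorem F36869 : act 8 n7798 = n7798 := d37_2 D6186 D7798 (iv D7798) (iv D6186) F23917
theorem F36870 : act 9 n7798 = n7798 := d38_2 F29612 D7798 (iv D7798)
def n7799 : Q := act 4 n6187
theorem D7799 : act 4 n6187 = n7799 := rfl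
theorem F36871 : act 2 n7799 = n6203 := d18_1 D7799 (iv D6203) (iv F29613)
theorem F36872 : act 7 n7799 = n6188 := d32_2 (iv F29615) D7799 (iv D6188)
theorem F36873 : act 8 n7799 = n6190 := d33_2 (iv F29616) D7799 (iv D6190)
theorem F36874 : act 9 n7799 = n7799 := d34_2 F29617 D7799 (iv D7799)
def n7800 : Q := act 6 n6187
theorem D7800 : act 6 n6187 = n7800 := rfl
theorem F36875 : act 2 n7800 = n6204 := d20_1 D7800 (iv D6204) (iv F29613)
theorem F36876 : act 3 n7800 = n7800 := d26_1 D7800 (iv D7800) F29614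
theorem F36877 : act 8 n7800 = n6191 := d40_2 (iv F29616) D7800 (iv D6191)
theorem F36878 : act 9 n7800 = n7800 := d41_2 F29617 D7800 (iv D7800)
def n7801 : Q := act 3 n6188
theorem D7801 : act 3 n6188 = n7801 := rfl
theorem F36879 : act 4 n7801 = n7801 := d24_2 D6188 D7801 (iv D7801) (iv D6188) F23925
theorem F36880 : act 8 n7801 = n6192 := d28_2 (iv F29619) D7801 (iv D6192)
theorem F36881 : act 9 n7801 = n7801 := d29_2 F29620 D7801 (iv D7801)
def n7802 : Q := act 6 n6188
theorem D7802 : act 6 n6188 = n7802 := rfl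
theorem F36882 : act 2 n7802 = n6206 := d20_1 D7802 (iv D6206) (iv F29618)
theorem F36883 : act 4 n7802 = n6189 := d31_1 D7802 (iv D6189) D6188
theorem F36884 : act 8 n7802 = n6193 := d40_2 (iv F29619) D7802 (iv D6193)
theorem F36885 : act 9 n7802 = n7802 := d41_2 F29620 D7802 (iv D7802)
def n7803 : Q := act 7 n6189
theorem D7803 : act 7 n6189 = n7803 := rfl
theorem F36886 : act 2 n7803 = n6207 := d21_1 D7803 (iv D6207) (iv F29621)
theorem F36887 : act 3 n7803 = n7803 := d27_1 D7803 (iv D7803) F29622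
theorem F36888 : act 5 n7803 = n7803 := d36_1 D7803 (iv D7803) F29623
theorem F36889 : act 8 n7803 = n6194 := d42_2 (iv F29624) D7803 (iv D6194)
theorem F36890 : act 9 n7803 = n7803 := d43_2 F29625 D7803 (iv D7803)
def n7804 : Q := act 3 n6190
theorem D7804 : act 3 n6190 = n7804 := rfl
theorem F36891 : act 4 n7804 = n7804 := d24_2 D6190 D7804 (iv D7804) (iv D6190) F23929
theorem F36892 : act 7 n7804 = n6192 := d27_2 (iv F29627) D7804 (iv D6192)
theorem F36893 : act 9 n7804 = n6253 := d29_2 (iv F29628) D7804 (iv D6253)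
def n7805 : Q := act 6 n6190
theorem D7805 : act 6 n6190 = n7805 := rfl
theorem F36894 : act 2 n7805 = n6209 := d20_1 D7805 (iv D6209) (iv F29626)
theorem F36895 : act 4 n7805 = n6191 := d31_1 D7805 (iv D6191) D6190
theorem F36896 : act 9 n7805 = n6254 := d41_2 (iv F29628) D7805 (iv D6254)
def n7806 : Q := act 7 n6191
theorem D7806 : act 7 n6191 = n7806 := rfl
theorem F36897 : act 2 n7806 = n6210 := d21_1 D7806 (iv D6210) (iv F29629)
theorem F36898 : act 3 n7806 = n7806 := d27_1 D7806 (iv D7806) F29630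
theorem F36899 : act 5 n7806 = n7806 := d36_1 D7806 (iv D7806) F29631
theorem F36900 : act 6 n7806 = n6194 := d39_1 D7806 (iv D6194) (iv D4943) (iv F23930) D6191
theorem F36901 : act 9 n7806 = n6255 := d43_2 (iv F29632) D7806 (iv D6255)
def n7807 : Q := act 2 n6192
theorem D7807 : act 2 n6192 = n7807 := rfl
theorem F36902 : act 3 n7807 = n6211 := d17_2 D6192 D7807 (iv D6211) (iv D4956) (iv F23932)
theorem F36903 : act 4 n7807 = n7807 := d18_2 F29633 D7807 (iv D7807)
theorem F36904 : act 9 n7807 = n6256 := d23_2 (iv F29634) D7807 (iv D6256)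
def n7808 : Q := act 6 n6192
theorem D7808 : act 6 n6192 = n7808 := rfl
theorem F36905 : act 3 n7808 = n6193 := d26_1 D7808 (iv D6193) D6192
theorem F36906 : act 4 n7808 = n7808 := d31_1 D7808 (iv D7808) F29633
theorem F36907 : act 9 n7808 = n6257 := d41_2 (iv F29634) D7808 (iv D6257)
def n7809 : Q := act 5 n6193
theorem D7809 : act 5 n6193 = n7809 := rfl
theorem F36908 : act 2 n7809 = n6213 := d19_1 D7809 (iv D6213) (iv F29635)
theorem F36909 : act 4 n7809 = n6196 := d30_1 D7809 (iv D6196) F23944 (iv F23936) (iv F29636)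
theorem F36910 : act 9 n7809 = n6258 := d38_2 (iv F29637) D7809 (iv D6258)
def n7810 : Q := act 7 n6193
theorem D7810 : act 7 n6193 = n7810 := rfl
theorem F36911 : act 2 n7810 = n6214 := d21_1 D7810 (iv D6214) (iv F29635)
theorem F36912 : act 4 n7810 = n6194 := d32_1 D7810 (iv D6194) (iv F29636)
theorem F36913 : act 9 n7810 = n6259 := d43_2 (iv F29637) D7810 (iv D6259)
def n7811 : Q := act 5 n6195
theorem D7811 : act 5 n6195 = n7811 := rfl
theorem F36914 : act 2 n7811 = n7811 := d19_1 D7811 (iv D7811) F29642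
theorem F36915 : act 3 n7811 = n6196 := d25_1 D7811 (iv D6196) (iv F29643)
theorem F36916 : act 9 n7811 = n6260 := d38_2 (iv F29646) D7811 (iv D6260)
def n7812 : Q := act 7 n6195
theorem D7812 : act 7 n6195 = n7812 := rfl
def n7813 : Q := act 7 n6196
theorem D7813 : act 7 n6196 = n7813 := rfl
def n7814 : Q := act 8 n6196
theorem D7814 : act 8 n6196 = n7814 := rfl
theorem F36926 : act 2 n7814 = n6216 := d22_1 D7814 (iv D6216) (iv F29647)
theorem F36927 : act 5 n7814 = n7814 := d37_1 D7814 (iv D7814) (iv D6196) F23945 D6196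
def n7815 : Q := act 5 n6198
theorem D7815 : act 5 n6198 = n7815 := rfl
theorem F36928 : act 1 n7815 = n6595 := d12_1 D7815 (iv D6595) (iv F29654)
theorem F36929 : act 3 n7815 = n7815 := d25_1 D7815 (iv D7815) F29655
theorem F36930 : act 7 n7815 = n7815 := d36_2 F29658 D7815 (iv D7815)
theorem F36931 : act 9 n7815 = n7815 := d38_2 F29659 D7815 (iv D7815)
def n7816 : Q := act 4 n6199
theorem D7816 : act 4 n6199 = n7816 := rfl
theorem F36932 : act 1 n7816 = n6596 := d11_1 D7816 (iv D6596) (iv F29660)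
theorem F36933 : act 5 n7816 = n6203 := d30_2 D6199 D7816 (iv D6203) (iv D4951) (iv F23959)
theorem F36934 : act 7 n7816 = n6200 := d32_2 (iv F29662) D7816 (iv D6200)
theorem F36935 : act 9 n7816 = n7816 := d34_2 F29663 D7816 (iv D7816)
def n7817 : Q := act 6 n6199
theorem D7817 : act 6 n6199 = n7817 := rfl
theorem F36936 : act 1 n7817 = n6597 := d13_1 D7817 (iv D6597) (iv F29660)
theorem F36937 : act 3 n7817 = n7817 := d26_1 D7817 (iv D7817) F29661
theorem F36938 : act 9 n7817 = n7817 := d41_2 F29663 D7817 (iv D7817)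
def n7818 : Q := act 3 n6200
theorem D7818 : act 3 n6200 = n7818 := rfl
theorem F36939 : act 1 n7818 = n6598 := d10_1 D7818 (iv D6598) (iv F29664)
theorem F36940 : act 4 n7818 = n7818 := d24_2 D6200 D7818 (iv D7818) (iv D6200) F23963
theorem F36941 : act 5 n7818 = n6205 := d25_2 (iv F29665) D7818 (iv D6205)
theorem F36942 : act 9 n7818 = n7818 := d29_2 F29666 D7818 (iv D7818)
def n7819 : Q := act 6 n6200
theorem D7819 : act 6 n6200 = n7819 := rfl
theorem F36943 : act 1 n7819 = n6599 := d13_1 D7819 (iv D6599) (iv F29664)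
theorem F36944 : act 4 n7819 = n6201 := d31_1 D7819 (iv D6201) D6200
theorem F36945 : act 9 n7819 = n7819 := d41_2 F29666 D7819 (iv D7819)
def n7820 : Q := act 7 n6201
theorem D7820 : act 7 n6201 = n7820 := rfl
theorem F36946 : act 1 n7820 = n6600 := d14_1 D7820 (iv D6600) (iv F29667)
theorem F36947 : act 3 n7820 = n7820 := d27_1 D7820 (iv D7820) F29668
theorem F36948 : act 5 n7820 = n7820 := d36_1 D7820 (iv D7820) F29669
theorem F36949 : act 9 n7820 = n7820 := d43_2 F29670 D7820 (iv D7820)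
def n7821 : Q := act 4 n6202
theorem D7821 : act 4 n6202 = n7821 := rfl
theorem F36950 : act 1 n7821 = n6601 := d11_1 D7821 (iv D6601) (iv F29671)
theorem F36951 : act 7 n7821 = n7821 := d32_2 F29673 D7821 (iv D7821)
theorem F36952 : act 8 n7821 = n7821 := d33_2 F29674 D7821 (iv D7821)
theorem F36953 : act 9 n7821 = n7821 := d34_2 F29675 D7821 (iv D7821)
def n7822 : Q := act 6 n6202
theorem D7822 : act 6 n6202 = n7822 := rfl
theorem F36954 : act 1 n7822 = n6602 := d13_1 D7822 (iv D6602) (iv F29671)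
theorem F36955 : act 3 n7822 = n6218 := d26_1 D7822 (iv D6218) (iv F29672)
theorem F36956 : act 5 n7822 = n6204 := d35_1 D7822 (iv D6204) (iv D4951) (iv F23967) D6202
theorem F36957 : act 8 n7822 = n7822 := d40_2 F29674 D7822 (iv D7822)
theorem F36958 : act 9 n7822 = n7822 := d41_2 F29675 D7822 (iv D7822)
def n7823 : Q := act 3 n6203
theorem D7823 : act 3 n6203 = n7823 := rfl
theorem F36960 : act 4 n7823 = n6219 := d24_2 D6203 D7823 (iv D6219) (iv D4962) (iv F23971)
theorem F36961 : act 7 n7823 = n6205 := d27_2 (iv F29677) D7823 (iv D6205)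
theorem F36962 : act 8 n7823 = n6208 := d28_2 (iv F29678) D7823 (iv D6208)
theorem F36963 : act 9 n7823 = n7823 := d29_2 F29679 D7823 (iv D7823)
def n7824 : Q := act 6 n6203
theorem D7824 : act 6 n6203 = n7824 := rfl
theorem F36964 : act 1 n7824 = n6604 := d13_1 D7824 (iv D6604) (iv F29676)
theorem F36965 : act 4 n7824 = n6204 := d31_1 D7824 (iv D6204) D6203
theorem F36966 : act 8 n7824 = n6209 := d40_2 (iv F29678) D7824 (iv D6209)
theorem F36967 : act 9 n7824 = n7824 := d41_2 F29679 D7824 (iv D7824)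
def n7825 : Q := act 7 n6204
theorem D7825 : act 7 n6204 = n7825 := rfl
theorem F36968 : act 1 n7825 = n6605 := d14_1 D7825 (iv D6605) (iv F29680)
theorem F36969 : act 3 n7825 = n6221 := d27_1 D7825 (iv D6221) (iv F29681)
theorem F36970 : act 6 n7825 = n6207 := d39_1 D7825 (iv D6207) (iv D4953) (iv F23972) D6204
theorem F36971 : act 8 n7825 = n6210 := d42_2 (iv F29682) D7825 (iv D6210)
theorem F36972 : act 9 n7825 = n7825 := d43_2 F29683 D7825 (iv D7825)
def n7826 : Q := act 2 n6205
theorem D7826 : act 2 n6205 = n7826 := rfl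
theorem F36973 : act 4 n7826 = n6222 := d18_2 (iv F29685) D7826 (iv D6222)
theorem F36974 : act 8 n7826 = n6211 := d22_2 (iv F29686) D7826 (iv D6211)
theorem F36975 : act 9 n7826 = n7826 := d23_2 F29687 D7826 (iv D7826)
def n7827 : Q := act 6 n6205
theorem D7827 : act 6 n6205 = n7827 := rfl
theorem F36976 : act 1 n7827 = n6607 := d13_1 D7827 (iv D6607) (iv F29684)
theorem F36977 : act 3 n7827 = n6206 := d26_1 D7827 (iv D6206) D6205
theorem F36978 : act 4 n7827 = n6223 := d31_1 D7827 (iv D6223) (iv F29685)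
theorem F36979 : act 8 n7827 = n6212 := d40_2 (iv F29686) D7827 (iv D6212)
theorem F36980 : act 9 n7827 = n7827 := d41_2 F29687 D7827 (iv D7827)
def n7828 : Q := act 5 n6206
theorem D7828 : act 5 n6206 = n7828 := rfl
theorem F36981 : act 1 n7828 = n6608 := d12_1 D7828 (iv D6608) (iv F29688)
theorem F36982 : act 4 n7828 = n7828 := d30_1 D7828 (iv D7828) F29689 F23980 (iv F29689)
theorem F36983 : act 9 n7828 = n7828 := d38_2 F29691 D7828 (iv D7828)
def n7829 : Q := act 7 n6206
theorem D7829 : act 7 n6206 = n7829 := rfl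
theorem F36984 : act 1 n7829 = n6609 := d14_1 D7829 (iv D6609) (iv F29688)
theorem F36985 : act 4 n7829 = n6207 := d32_1 D7829 (iv D6207) (iv F29689)
theorem F36986 : act 8 n7829 = n6214 := d42_2 (iv F29690) D7829 (iv D6214)
theorem F36987 : act 9 n7829 = n7829 := d43_2 F29691 D7829 (iv D7829)
def n7830 : Q := act 2 n6208
theorem D7830 : act 2 n6208 = n7830 := rfl
theorem F36988 : act 4 n7830 = n6226 := d18_2 (iv F29698) D7830 (iv D6226)
theorem F36989 : act 7 n7830 = n6211 := d21_2 (iv F29699) D7830 (iv D6211)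
def n7831 : Q := act 6 n6208
theorem D7831 : act 6 n6208 = n7831 := rfl
theorem F36991 : act 1 n7831 = n6611 := d13_1 D7831 (iv D6611) (iv F29697)
theorem F36992 : act 3 n7831 = n6209 := d26_1 D7831 (iv D6209) D6208
theorem F36993 : act 4 n7831 = n6227 := d31_1 D7831 (iv D6227) (iv F29698)
def n7832 : Q := act 5 n6209
theorem D7832 : act 5 n6209 = n7832 := rfl
theorem F36995 : act 1 n7832 = n6612 := d12_1 D7832 (iv D6612) (iv F29701)
theorem F36996 : act 4 n7832 = n7832 := d30_1 D7832 (iv D7832) F29702 F23988 (iv F29702)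
theorem F36997 : act 9 n7832 = n6266 := d38_2 (iv F29703) D7832 (iv D6266)
def n7833 : Q := act 7 n6209
theorem D7833 : act 7 n6209 = n7833 := rfl
theorem F36998 : act 1 n7833 = n6613 := d14_1 D7833 (iv D6613) (iv F29701)
theorem F36999 : act 4 n7833 = n6210 := d32_1 D7833 (iv D6210) (iv F29702)
theorem F37000 : act 6 n7833 = n6214 := d39_1 D7833 (iv D6214) (iv D4957) (iv F23984) D6209
theorem F37001 : act 9 n7833 = n6267 := d43_2 (iv F29703) D7833 (iv D6267)
def n7834 : Q := act 1 n6211
theorem D7834 : act 1 n6211 = n7834 := rfl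
def n7835 : Q := act 6 n6211
theorem D7835 : act 6 n6211 = n7835 := rfl
theorem F37005 : act 2 n7835 = n6212 := d20_1 D7835 (iv D6212) D6211
theorem F37006 : act 4 n7835 = n6231 := d31_1 D7835 (iv D6231) (iv F29709)
theorem F37007 : act 9 n7835 = n6269 := d41_2 (iv F29710) D7835 (iv D6269)
def n7836 : Q := act 5 n6212
theorem D7836 : act 5 n6212 = n7836 := rfl
theorem F37008 : act 1 n7836 = n6616 := d12_1 D7836 (iv D6616) (iv F29711)
theorem F37009 : act 3 n7836 = n6213 := d25_1 D7836 (iv D6213) (iv F29712)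
theorem F37010 : act 4 n7836 = n7836 := d30_1 D7836 (iv D7836) F29713 F24056 (iv F29713)
theorem F37011 : act 9 n7836 = n6270 := d38_2 (iv F29714) D7836 (iv D6270)
def n7837 : Q := act 7 n6212
theorem D7837 : act 7 n6212 = n7837 := rfl
theorem F37012 : act 1 n7837 = n6617 := d14_1 D7837 (iv D6617) (iv F29711)
theorem F37013 : act 3 n7837 = n6214 := d27_1 D7837 (iv D6214) (iv F29712)
theorem F37014 : act 4 n7837 = n6232 := d32_1 D7837 (iv D6232) (iv F29713)
theorem F37015 : act 9 n7837 = n6271 := d43_2 (iv F29714) D7837 (iv D6271)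
def n7838 : Q := act 7 n6213
theorem D7838 : act 7 n6213 = n7838 := rfl
theorem F37016 : act 1 n7838 = n6618 := d14_1 D7838 (iv D6618) (iv F29715)
theorem F37017 : act 4 n7838 = n6215 := d32_1 D7838 (iv D6215) (iv F29716)
theorem F37018 : act 5 n7838 = n6214 := d36_1 D7838 (iv D6214) D6213
theorem F37019 : act 9 n7838 = n6272 := d43_2 (iv F29717) D7838 (iv D6272)
def n7839 : Q := act 8 n6213
theorem D7839 : act 8 n6213 = n7839 := rfl
theorem F37020 : act 1 n7839 = n6619 := d15_1 D7839 (iv D6619) (iv F29715)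
theorem F37021 : act 4 n7839 = n6216 := d33_1 D7839 (iv D6216) (iv F29716)
def n7840 : Q := act 6 n6215
theorem D7840 : act 6 n6215 = n7840 := rfl
theorem F37022 : act 1 n7840 = n6620 := d13_1 D7840 (iv D6620) (iv F29721)
theorem F37023 : act 3 n7840 = n7840 := d26_1 D7840 (iv D7840) F29722
theorem F37024 : act 5 n7840 = n7840 := d35_1 D7840 (iv D7840) F29723 F24006 (iv F29723)
theorem F37025 : act 9 n7840 = n6274 := d41_2 (iv F29724) D7840 (iv D6274)
def n7841 : Q := act 8 n6215
theorem D7841 : act 8 n6215 = n7841 := rfl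
theorem F37026 : act 1 n7841 = n6621 := d15_1 D7841 (iv D6621) (iv F29721)
theorem F37027 : act 3 n7841 = n7841 := d28_1 D7841 (iv D7841) F29722
theorem F37028 : act 5 n7841 = n7841 := d37_1 D7841 (iv D7841) F29723 F24007 (iv F29723)
theorem F37029 : act 7 n7841 = n6216 := d42_1 D7841 (iv D6216) D6215
def n7842 : Q := act 9 n6216
theorem D7842 : act 9 n6216 = n7842 := rfl
theorem F37030 : act 1 n7842 = n6622 := d16_1 D7842 (iv D6622) (iv F29725)
theorem F37031 : act 3 n7842 = n7842 := d29_1 D7842 (iv D7842) F29726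
theorem F37032 : act 5 n7842 = n7842 := d38_1 D7842 (iv D7842) F29727
theorem F37033 : act 8 n7842 = n6276 := d44_1 D7842 (iv D6276) (iv D5003) (iv F24002) D6216
def n7843 : Q := act 3 n6217
theorem D7843 : act 3 n6217 = n7843 := rfl
theorem F37034 : act 1 n7843 = n6623 := d10_1 D7843 (iv D6623) (iv F29728)
def n7844 : Q := act 6 n6217
theorem D7844 : act 6 n6217 = n7844 := rfl
theorem F37041 : act 4 n7844 = n6218 := d31_1 D7844 (iv D6218) D6217
def n7845 : Q := act 7 n6218
theorem D7845 : act 7 n6218 = n7845 := rfl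
theorem F37044 : act 1 n7845 = n6625 := d14_1 D7845 (iv D6625) (iv F29734)
theorem F37046 : act 5 n7845 = n6221 := d36_1 D7845 (iv D6221) (iv F29736)
def n7846 : Q := act 2 n6219
theorem D7846 : act 2 n6219 = n7846 := rfl
theorem F37052 : act 7 n7846 = n6222 := d21_2 (iv F29741) D7846 (iv D6222)
theorem F37053 : act 8 n7846 = n6226 := d22_2 (iv F29742) D7846 (iv D6226)
def n7847 : Q := act 6 n6219
theorem D7847 : act 6 n6219 = n7847 := rfl
theorem F37057 : act 8 n7847 = n6227 := d40_2 (iv F29742) D7847 (iv D6227)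
def n7848 : Q := act 5 n6220
theorem D7848 : act 5 n6220 = n7848 := rfl
def n7849 : Q := act 7 n6220
theorem D7849 : act 7 n6220 = n7849 := rfl
theorem F37065 : act 4 n7849 = n6221 := d32_1 D7849 (iv D6221) (iv F29746)
theorem F37066 : act 6 n7849 = n6225 := d39_1 D7849 (iv D6225) (iv D4965) (iv F24017) D6220
def n7850 : Q := act 1 n6222
theorem D7850 : act 1 n6222 = n7850 := rfl
def n7851 : Q := act 6 n6222
theorem D7851 : act 6 n6222 = n7851 := rfl
theorem F37074 : act 2 n7851 = n6223 := d20_1 D7851 (iv D6223) D6222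
theorem F37075 : act 3 n7851 = n7851 := d26_1 D7851 (iv D7851) F29754
theorem F37076 : act 8 n7851 = n6231 := d40_2 (iv F29756) D7851 (iv D6231)
theorem F37077 : act 9 n7851 = n7851 := d41_2 F29757 D7851 (iv D7851)
def n7852 : Q := act 5 n6223
theorem D7852 : act 5 n6223 = n7852 := rfl
theorem F37078 : act 1 n7852 = n6632 := d12_1 D7852 (iv D6632) (iv F29758)
theorem F37079 : act 3 n7852 = n6224 := d25_1 D7852 (iv D6224) (iv F29759)
theorem F37080 : act 6 n7852 = n7852 := d35_2 D6223 D7852 (iv D7852) (iv D6223) F24025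
theorem F37081 : act 8 n7852 = n7852 := d37_2 (iv F29760) D7852 (iv D7852) F29760 F24056
theorem F37082 : act 9 n7852 = n7852 := d38_2 F29761 D7852 (iv D7852)
def n7853 : Q := act 7 n6223
theorem D7853 : act 7 n6223 = n7853 := rfl
theorem F37084 : act 3 n7853 = n6225 := d27_1 D7853 (iv D6225) (iv F29759)
theorem F37085 : act 8 n7853 = n6232 := d42_2 (iv F29760) D7853 (iv D6232)
theorem F37086 : act 9 n7853 = n7853 := d43_2 F29761 D7853 (iv D7853)
def n7854 : Q := act 7 n6224
theorem D7854 : act 7 n6224 = n7854 := rfl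
theorem F37087 : act 1 n7854 = n6634 := d14_1 D7854 (iv D6634) (iv F29762)
theorem F37090 : act 5 n7854 = n6225 := d36_1 D7854 (iv D6225) D6224
def n7855 : Q := act 1 n6226
theorem D7855 : act 1 n6226 = n7855 := rfl
theorem F37093 : act 2 n7855 = n6635 := d9_2 D6226 D7855 (iv D6635) (iv D5279) (iv F24038)
theorem F37095 : act 5 n7855 = n6233 := d12_2 (iv F29774) D7855 (iv D6233)
theorem F37096 : act 7 n7855 = n6230 := d14_2 (iv F29775) D7855 (iv D6230)
def n7856 : Q := act 6 n6226
theorem D7856 : act 6 n6226 = n7856 := rfl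
def n7857 : Q := act 5 n6227
theorem D7857 : act 5 n6227 = n7857 := rfl
theorem F37101 : act 1 n7857 = n6637 := d12_1 D7857 (iv D6637) (iv F29777)
theorem F37103 : act 6 n7857 = n6235 := d35_2 D6227 D7857 (iv D6235) (iv D4974) (iv F24039)
def n7858 : Q := act 7 n6227
theorem D7858 : act 7 n6227 = n7858 := rfl
theorem F37107 : act 6 n7858 = n6232 := d39_1 D7858 (iv D6232) (iv D4971) (iv F24040) D6227
def n7859 : Q := act 7 n6228
theorem D7859 : act 7 n6228 = n7859 := rfl
theorem F37112 : act 5 n7859 = n6229 := d36_1 D7859 (iv D6229) D6228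
def n7860 : Q := act 8 n6228
theorem D7860 : act 8 n6228 = n7860 := rfl
theorem F37118 : act 6 n7860 = n6236 := d40_1 D7860 (iv D6236) (iv F29783)
def n7862 : Q := act 6 n6230
theorem D7862 : act 6 n6230 = n7862 := rfl
theorem F37123 : act 1 n7862 = n6231 := d13_1 D7862 (iv D6231) D6230
def n7863 : Q := act 7 n6231
theorem D7863 : act 7 n6231 = n7863 := rfl
def n7864 : Q := act 0 n6233
theorem D7864 : act 0 n6233 = n7864 := rfl
theorem F37132 : act 2 n7864 = n6644 := d1_2 (iv F29802) D7864 (iv D6644)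
def n7865 : Q := act 6 n6233
theorem D7865 : act 6 n6233 = n7865 := rfl
theorem F37137 : act 1 n7865 = n6234 := d13_1 D7865 (iv D6234) D6233
theorem F37138 : act 2 n7865 = n6645 := d20_1 D7865 (iv D6645) (iv F29802)
def n7866 : Q := act 5 n6234
theorem D7866 : act 5 n6234 = n7866 := rfl
def n7867 : Q := act 4 n6235
theorem D7867 : act 4 n6235 = n7867 := rfl
theorem F37147 : act 1 n7867 = n6647 := d11_1 D7867 (iv D6647) (iv F29812)
def n7868 : Q := act 8 n6235
theorem D7868 : act 8 n6235 = n7868 := rfl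
theorem F37151 : act 1 n7868 = n6648 := d15_1 D7868 (iv D6648) (iv F29812)
def n7869 : Q := act 9 n6236
theorem D7869 : act 9 n6236 = n7869 := rfl
theorem F37155 : act 1 n7869 = n6649 := d16_1 D7869 (iv D6649) (iv F29816)
def n7870 : Q := act 4 n6238
theorem D7870 : act 4 n6238 = n7870 := rfl
theorem F37161 : act 0 n7870 = n6244 := d3_1 D7870 (iv D6244) (iv F29826)
theorem F37162 : act 2 n7870 = n6650 := d18_1 D7870 (iv D6650) (iv F29827)
theorem F37163 : act 7 n7870 = n6239 := d32_2 (iv F29829) D7870 (iv D6239)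
theorem F37164 : act 8 n7870 = n7870 := d33_2 F29830 D7870 (iv D7870)
def n7871 : Q := act 6 n6238
theorem D7871 : act 6 n6238 = n7871 := rfl
theorem F37165 : act 0 n7871 = n6245 := d5_1 D7871 (iv D6245) (iv F29826)
def n7872 : Q := act 3 n6239
theorem D7872 : act 3 n6239 = n7872 := rfl
theorem F37170 : act 0 n7872 = n6246 := d2_1 D7872 (iv D6246) (iv F29831)
theorem F37171 : act 4 n7872 = n7872 := d24_2 D6239 D7872 (iv D7872) (iv D6239) F24089
theorem F37172 : act 8 n7872 = n7872 := d28_2 F29833 D7872 (iv D7872)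
def n7873 : Q := act 6 n6239
theorem D7873 : act 6 n6239 = n7873 := rfl
theorem F37173 : act 0 n7873 = n6247 := d5_1 D7873 (iv D6247) (iv F29831)
theorem F37174 : act 2 n7873 = n6653 := d20_1 D7873 (iv D6653) (iv F29832)
theorem F37175 : act 4 n7873 = n6240 := d31_1 D7873 (iv D6240) D6239
def n7874 : Q := act 7 n6240
theorem D7874 : act 7 n6240 = n7874 := rfl
theorem F37178 : act 2 n7874 = n6654 := d21_1 D7874 (iv D6654) (iv F29835)
def n7875 : Q := act 2 n6241
theorem D7875 : act 2 n6241 = n7875 := rfl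
theorem F37182 : act 0 n7875 = n6249 := d1_1 D7875 (iv D6249) (iv F29839)
theorem F37183 : act 3 n7875 = n6655 := d17_2 D6241 D7875 (iv D6655) (iv D5294) (iv F24092)
theorem F37186 : act 8 n7875 = n6296 := d22_2 (iv F29842) D7875 (iv D6296)
def n7876 : Q := act 6 n6241
theorem D7876 : act 6 n6241 = n7876 := rfl
theorem F37187 : act 0 n7876 = n6250 := d5_1 D7876 (iv D6250) (iv F29839)
theorem F37188 : act 3 n7876 = n6242 := d26_1 D7876 (iv D6242) D6241
theorem F37190 : act 8 n7876 = n6297 := d40_2 (iv F29842) D7876 (iv D6297)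
def n7877 : Q := act 5 n6242
theorem D7877 : act 5 n6242 = n7877 := rfl
theorem F37192 : act 2 n7877 = n6657 := d19_1 D7877 (iv D6657) (iv F29844)
def n7878 : Q := act 7 n6242
theorem D7878 : act 7 n6242 = n7878 := rfl
theorem F37194 : act 2 n7878 = n6658 := d21_1 D7878 (iv D6658) (iv F29844)
theorem F37197 : act 8 n7878 = n6299 := d42_2 (iv F29846) D7878 (iv D6299)
def n7879 : Q := act 3 n6244
theorem D7879 : act 3 n6244 = n7879 := rfl
theorem F37198 : act 1 n7879 = n6253 := d10_1 D7879 (iv D6253) (iv F29852)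
theorem F37199 : act 4 n7879 = n7879 := d24_2 D6244 D7879 (iv D7879) (iv D6244) F24101
theorem F37200 : act 7 n7879 = n6246 := d27_2 (iv F29854) D7879 (iv D6246)
theorem F37201 : act 8 n7879 = n7879 := d28_2 F29855 D7879 (iv D7879)
def n7880 : Q := act 6 n6244
theorem D7880 : act 6 n6244 = n7880 := rfl
theorem F37202 : act 1 n7880 = n6254 := d13_1 D7880 (iv D6254) (iv F29852)
theorem F37203 : act 2 n7880 = n6660 := d20_1 D7880 (iv D6660) (iv F29853)
theorem F37204 : act 4 n7880 = n6245 := d31_1 D7880 (iv D6245) D6244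
theorem F37205 : act 8 n7880 = n7880 := d40_2 F29855 D7880 (iv D7880)
def n7881 : Q := act 7 n6245
theorem D7881 : act 7 n6245 = n7881 := rfl
theorem F37206 : act 1 n7881 = n6255 := d14_1 D7881 (iv D6255) (iv F29856)
theorem F37210 : act 6 n7881 = n6248 := d39_1 D7881 (iv D6248) (iv D4983) (iv F24102) D6245
def n7882 : Q := act 2 n6246
theorem D7882 : act 2 n6246 = n7882 := rfl
theorem F37212 : act 3 n7882 = n6662 := d17_2 D6246 D7882 (iv D6662) (iv D5299) (iv F24105)
theorem F37213 : act 4 n7882 = n7882 := d18_2 F29862 D7882 (iv D7882)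
theorem F37214 : act 8 n7882 = n7882 := d22_2 F29863 D7882 (iv D7882)
def n7883 : Q := act 6 n6246
theorem D7883 : act 6 n6246 = n7883 := rfl
theorem F37215 : act 1 n7883 = n6257 := d13_1 D7883 (iv D6257) (iv F29861)
theorem F37216 : act 3 n7883 = n6247 := d26_1 D7883 (iv D6247) D6246
theorem F37217 : act 4 n7883 = n7883 := d31_1 D7883 (iv D7883) F29862
theorem F37218 : act 8 n7883 = n7883 := d40_2 F29863 D7883 (iv D7883)
def n7884 : Q := act 5 n6247
theorem D7884 : act 5 n6247 = n7884 := rfl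
theorem F37219 : act 1 n7884 = n6258 := d12_1 D7884 (iv D6258) (iv F29864)
theorem F37220 : act 2 n7884 = n6664 := d19_1 D7884 (iv D6664) (iv F29865)
theorem F37221 : act 4 n7884 = n6251 := d30_1 D7884 (iv D6251) F24118 (iv F24110) (iv F29866)
def n7885 : Q := act 7 n6247
theorem D7885 : act 7 n6247 = n7885 := rfl
theorem F37222 : act 1 n7885 = n6259 := d14_1 D7885 (iv D6259) (iv F29864)
theorem F37223 : act 2 n7885 = n6665 := d21_1 D7885 (iv D6665) (iv F29865)
def n7886 : Q := act 6 n6249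
theorem D7886 : act 6 n6249 = n7886 := rfl
theorem F37227 : act 2 n7886 = n6250 := d20_1 D7886 (iv D6250) D6249
theorem F37228 : act 3 n7886 = n6666 := d26_1 D7886 (iv D6666) (iv F29874)
theorem F37230 : act 8 n7886 = n6300 := d40_2 (iv F29877) D7886 (iv D6300)
def n7887 : Q := act 5 n6250
theorem D7887 : act 5 n6250 = n7887 := rfl
theorem F37231 : act 1 n7887 = n6260 := d12_1 D7887 (iv D6260) (iv F29878)
theorem F37232 : act 3 n7887 = n6251 := d25_1 D7887 (iv D6251) (iv F29879)
def n7888 : Q := act 7 n6250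
theorem D7888 : act 7 n6250 = n7888 := rfl
theorem F37233 : act 1 n7888 = n6261 := d14_1 D7888 (iv D6261) (iv F29878)
theorem F37237 : act 8 n7888 = n6302 := d42_2 (iv F29881) D7888 (iv D6302)
def n7889 : Q := act 7 n6251
theorem D7889 : act 7 n6251 = n7889 := rfl
theorem F37238 : act 1 n7889 = n6262 := d14_1 D7889 (iv D6262) (iv F29882)
theorem F37239 : act 2 n7889 = n6669 := d21_1 D7889 (iv D6669) (iv F29883)
theorem F37240 : act 5 n7889 = n6252 := d36_1 D7889 (iv D6252) D6251
def n7890 : Q := act 8 n6251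
theorem D7890 : act 8 n6251 = n7890 := rfl
theorem F37241 : act 1 n7890 = n6263 := d15_1 D7890 (iv D6263) (iv F29882)
def n7891 : Q := act 2 n6253
theorem D7891 : act 2 n6253 = n7891 := rfl
theorem F37244 : act 3 n7891 = n6264 := d17_2 D6253 D7891 (iv D6264) (iv D4995) (iv F24125)
theorem F37246 : act 7 n7891 = n6256 := d21_2 (iv F29890) D7891 (iv D6256)
def n7892 : Q := act 6 n6253
theorem D7892 : act 6 n6253 = n7892 := rfl
theorem F37248 : act 3 n7892 = n6254 := d26_1 D7892 (iv D6254) D6253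
def n7893 : Q := act 5 n6254
theorem D7893 : act 5 n6254 = n7893 := rfl
theorem F37251 : act 2 n7893 = n6266 := d19_1 D7893 (iv D6266) (iv F29892)
theorem F37252 : act 4 n7893 = n7893 := d30_1 D7893 (iv D7893) F29893 F24130 (iv F29893)
def n7894 : Q := act 7 n6254
theorem D7894 : act 7 n6254 = n7894 := rfl
theorem F37253 : act 2 n7894 = n6267 := d21_1 D7894 (iv D6267) (iv F29892)
theorem F37254 : act 4 n7894 = n6255 := d32_1 D7894 (iv D6255) (iv F29893)
theorem F37255 : act 6 n7894 = n6259 := d39_1 D7894 (iv D6259) (iv D4990) (iv F24126) D6254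
theorem F37256 : act 8 n7894 = n7894 := d42_2 F29894 D7894 (iv D7894)
def n7895 : Q := act 1 n6256
theorem D7895 : act 1 n6256 = n7895 := rfl
theorem F37257 : act 3 n7895 = n6268 := d10_2 (iv F29900) D7895 (iv D6268)
theorem F37258 : act 4 n7895 = n7895 := d11_2 F29901 D7895 (iv D7895)
theorem F37259 : act 8 n7895 = n7895 := d15_2 F29902 D7895 (iv D7895)
def n7896 : Q := act 6 n6256
theorem D7896 : act 6 n6256 = n7896 := rfl
theorem F37260 : act 2 n7896 = n6257 := d20_1 D7896 (iv D6257) D6256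
theorem F37261 : act 3 n7896 = n6269 := d26_1 D7896 (iv D6269) (iv F29900)
theorem F37262 : act 4 n7896 = n7896 := d31_1 D7896 (iv D7896) F29901
theorem F37263 : act 8 n7896 = n7896 := d40_2 F29902 D7896 (iv D7896)
def n7897 : Q := act 5 n6257
theorem D7897 : act 5 n6257 = n7897 := rfl
theorem F37264 : act 3 n7897 = n6258 := d25_1 D7897 (iv D6258) (iv F29903)
def n7898 : Q := act 7 n6257
theorem D7898 : act 7 n6257 = n7898 := rfl
theorem F37265 : act 3 n7898 = n6259 := d27_1 D7898 (iv D6259) (iv F29903)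
def n7899 : Q := act 7 n6258
theorem D7899 : act 7 n6258 = n7899 := rfl
theorem F37269 : act 4 n7899 = n6262 := d32_1 D7899 (iv D6262) (iv F29907)
theorem F37270 : act 5 n7899 = n6259 := d36_1 D7899 (iv D6259) D6258
def n7900 : Q := act 8 n6258
theorem D7900 : act 8 n6258 = n7900 := rfl
theorem F37271 : act 2 n7900 = n6273 := d22_1 D7900 (iv D6273) (iv F29906)
theorem F37272 : act 4 n7900 = n6263 := d33_1 D7900 (iv D6263) (iv F29907)
theorem F37273 : act 5 n7900 = n7900 := d37_1 D7900 (iv D7900) (iv D6258) F24136 D6258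
def n7901 : Q := act 4 n6260
theorem D7901 : act 4 n6260 = n7901 := rfl
theorem F37274 : act 2 n7901 = n7901 := d18_1 D7901 (iv D7901) F29911
theorem F37275 : act 5 n7901 = n7901 := d30_2 D6260 D7901 (iv D7901) (iv D6260) F24143
def n7902 : Q := act 7 n6260
theorem D7902 : act 7 n6260 = n7902 := rfl
theorem F37278 : act 5 n7902 = n6261 := d36_1 D7902 (iv D6261) D6260
def n7903 : Q := act 8 n6260
theorem D7903 : act 8 n6260 = n7903 := rfl
theorem F37280 : act 3 n7903 = n6263 := d28_1 D7903 (iv D6263) (iv F29912)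
theorem F37281 : act 5 n7903 = n6307 := d37_1 D7903 (iv D6307) (iv D5028) (iv F24144) D6260
def n7904 : Q := act 6 n6262
theorem D7904 : act 6 n6262 = n7904 := rfl
def n7905 : Q := act 8 n6262
theorem D7905 : act 8 n6262 = n7905 := rfl
theorem F37285 : act 5 n7905 = n6309 := d37_1 D7905 (iv D6309) F24300 (iv F24149) (iv F29919)
theorem F37286 : act 7 n7905 = n6263 := d42_1 D7905 (iv D6263) D6262
def n7906 : Q := act 9 n6263
theorem D7906 : act 9 n6263 = n7906 := rfl
theorem F37287 : act 2 n7906 = n6276 := d23_1 D7906 (iv D6276) (iv F29920)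
theorem F37288 : act 5 n7906 = n6310 := d38_1 D7906 (iv D6310) (iv F29921)
def n7907 : Q := act 1 n6264
theorem D7907 : act 1 n6264 = n7907 := rfl
theorem F37289 : act 2 n7907 = n6687 := d9_2 D6264 D7907 (iv D6687) (iv D5317) (iv F24150)
theorem F37290 : act 4 n7907 = n6277 := d11_2 (iv F29922) D7907 (iv D6277)
theorem F37291 : act 7 n7907 = n6268 := d14_2 (iv F29923) D7907 (iv D6268)
def n7908 : Q := act 6 n6264
theorem D7908 : act 6 n6264 = n7908 := rfl
theorem F37294 : act 4 n7908 = n6278 := d31_1 D7908 (iv D6278) (iv F29922)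
def n7909 : Q := act 5 n6265
theorem D7909 : act 5 n6265 = n7909 := rfl
theorem F37296 : act 1 n7909 = n6689 := d12_1 D7909 (iv D6689) (iv F29925)
theorem F37297 : act 3 n7909 = n6266 := d25_1 D7909 (iv D6266) (iv F29926)
def n7910 : Q := act 7 n6265
theorem D7910 : act 7 n6265 = n7910 := rfl
theorem F37301 : act 6 n7910 = n6271 := d39_1 D7910 (iv D6271) (iv D4999) (iv F24152) D6265
def n7911 : Q := act 7 n6266
theorem D7911 : act 7 n6266 = n7911 := rfl
theorem F37303 : act 1 n7911 = n6691 := d14_1 D7911 (iv D6691) (iv F29929)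
theorem F37304 : act 4 n7911 = n7911 := d32_1 D7911 (iv D7911) F29930
theorem F37305 : act 5 n7911 = n6267 := d36_1 D7911 (iv D6267) D6266
def n7912 : Q := act 8 n6266
theorem D7912 : act 8 n6266 = n7912 := rfl
theorem F37307 : act 4 n7912 = n7912 := d33_1 D7912 (iv D7912) F29930
theorem F37308 : act 5 n7912 = n7912 := d37_1 D7912 (iv D7912) (iv D6266) F24156 D6266
def n7913 : Q := act 0 n6268
theorem D7913 : act 0 n6268 = n7913 := rfl
theorem F37309 : act 2 n7913 = n6693 := d1_2 (iv F29935) D7913 (iv D6693)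
def n7914 : Q := act 6 n6268
theorem D7914 : act 6 n6268 = n7914 := rfl
theorem F37312 : act 1 n7914 = n6269 := d13_1 D7914 (iv D6269) D6268
def n7915 : Q := act 5 n6269
theorem D7915 : act 5 n6269 = n7915 := rfl
theorem F37316 : act 2 n7915 = n6270 := d19_1 D7915 (iv D6270) (iv F29938)
theorem F37317 : act 4 n7915 = n7915 := d30_1 D7915 (iv D7915) F29939 F24201 (iv F29939)
def n7916 : Q := act 7 n6269
theorem D7916 : act 7 n6269 = n7916 := rfl
def n7917 : Q := act 7 n6270
theorem D7917 : act 7 n6270 = n7917 := rfl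
theorem F37321 : act 1 n7917 = n6697 := d14_1 D7917 (iv D6697) (iv F29941)
theorem F37322 : act 3 n7917 = n6272 := d27_1 D7917 (iv D6272) (iv F29942)
theorem F37323 : act 4 n7917 = n7917 := d32_1 D7917 (iv D7917) F29943
theorem F37324 : act 5 n7917 = n6271 := d36_1 D7917 (iv D6271) D6270
def n7918 : Q := act 8 n6270
theorem D7918 : act 8 n6270 = n7918 := rfl
theorem F37325 : act 1 n7918 = n6698 := d15_1 D7918 (iv D6698) (iv F29941)
theorem F37326 : act 3 n7918 = n6273 := d28_1 D7918 (iv D6273) (iv F29942)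
theorem F37327 : act 4 n7918 = n7918 := d33_1 D7918 (iv D7918) F29943
theorem F37328 : act 5 n7918 = n7918 := d37_1 D7918 (iv D7918) (iv D6270) F24167 D6270
def n7919 : Q := act 6 n6272
theorem D7919 : act 6 n6272 = n7919 := rfl
theorem F37329 : act 1 n7919 = n6699 := d13_1 D7919 (iv D6699) (iv F29948)
theorem F37330 : act 4 n7919 = n6274 := d31_1 D7919 (iv D6274) (iv F29949)
def n7920 : Q := act 8 n6272
theorem D7920 : act 8 n6272 = n7920 := rfl
theorem F37331 : act 1 n7920 = n6700 := d15_1 D7920 (iv D6700) (iv F29948)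
theorem F37332 : act 4 n7920 = n6275 := d33_1 D7920 (iv D6275) (iv F29949)
theorem F37333 : act 5 n7920 = n7920 := d37_1 D7920 (iv D7920) F29950 F24172 (iv F29950)
theorem F37334 : act 7 n7920 = n6273 := d42_1 D7920 (iv D6273) D6272
def n7921 : Q := act 9 n6273
theorem D7921 : act 9 n6273 = n7921 := rfl
theorem F37335 : act 1 n7921 = n6701 := d16_1 D7921 (iv D6701) (iv F29951)
theorem F37336 : act 4 n7921 = n6276 := d34_1 D7921 (iv D6276) (iv F29952)
theorem F37337 : act 5 n7921 = n7921 := d38_1 D7921 (iv D7921) F29953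
def n7922 : Q := act 8 n6274
theorem D7922 : act 8 n6274 = n7922 := rfl
theorem F37338 : act 1 n7922 = n6702 := d15_1 D7922 (iv D6702) (iv F29954)
theorem F37339 : act 3 n7922 = n7922 := d28_1 D7922 (iv D7922) F29955
theorem F37340 : act 6 n7922 = n6275 := d40_1 D7922 (iv D6275) D6274
def n7923 : Q := act 9 n6275
theorem D7923 : act 9 n6275 = n7923 := rfl
theorem F37341 : act 1 n7923 = n6703 := d16_1 D7923 (iv D6703) (iv F29957)
theorem F37342 : act 3 n7923 = n7923 := d29_1 D7923 (iv D7923) F29958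
theorem F37343 : act 5 n7923 = n6312 := d38_1 D7923 (iv D6312) (iv F29959)
theorem F37344 : act 7 n7923 = n6276 := d43_1 D7923 (iv D6276) (iv F29960)
def n7924 : Q := act 0 n6277
theorem D7924 : act 0 n6277 = n7924 := rfl
theorem F37345 : act 2 n7924 = n6704 := d1_2 (iv F29964) D7924 (iv D6704)
theorem F37347 : act 5 n7924 = n6286 := d4_2 (iv F29966) D7924 (iv D6286)
def n7925 : Q := act 6 n6277
theorem D7925 : act 6 n6277 = n7925 := rfl
theorem F37350 : act 1 n7925 = n6278 := d13_1 D7925 (iv D6278) D6277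
theorem F37351 : act 2 n7925 = n6705 := d20_1 D7925 (iv D6705) (iv F29964)
def n7926 : Q := act 5 n6278
theorem D7926 : act 5 n6278 = n7926 := rfl
theorem F37356 : act 6 n7926 = n6288 := d35_2 D6278 D7926 (iv D6288) (iv D5012) (iv F24180)
def n7927 : Q := act 7 n6278
theorem D7927 : act 7 n6278 = n7927 := rfl
theorem F37357 : act 2 n7927 = n6280 := d21_1 D7927 (iv D6280) (iv F29969)
theorem F37359 : act 6 n7927 = n6285 := d39_1 D7927 (iv D6285) (iv D5009) (iv F24181) D6278
def n7928 : Q := act 4 n6279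
theorem D7928 : act 4 n6279 = n7928 := rfl
theorem F37361 : act 1 n7928 = n6708 := d11_1 D7928 (iv D6708) (iv F29972)
def n7929 : Q := act 7 n6279
theorem D7929 : act 7 n6279 = n7929 := rfl
theorem F37366 : act 5 n7929 = n6280 := d36_1 D7929 (iv D6280) D6279
def n7930 : Q := act 8 n6279
theorem D7930 : act 8 n6279 = n7930 := rfl
theorem F37371 : act 6 n7930 = n6290 := d40_1 D7930 (iv D6290) (iv F29974)
def n7932 : Q := act 9 n6282
theorem D7932 : act 9 n6282 = n7932 := rfl
theorem F37382 : act 6 n7932 = n6291 := d41_1 D7932 (iv D6291) (iv F29988)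
def n7934 : Q := act 7 n6284
theorem D7934 : act 7 n6284 = n7934 := rfl
def n7935 : Q := act 6 n6286
theorem D7935 : act 6 n6286 = n7935 := rfl
theorem F37394 : act 2 n7935 = n6715 := d20_1 D7935 (iv D6715) (iv F30002)
def n7936 : Q := act 5 n6287
theorem D7936 : act 5 n6287 = n7936 := rfl
theorem F37398 : act 1 n7936 = n6288 := d12_1 D7936 (iv D6288) (iv F30006)
theorem F37399 : act 2 n7936 = n6716 := d19_1 D7936 (iv D6716) (iv F30007)
def n7937 : Q := act 4 n6288
theorem D7937 : act 4 n6288 = n7937 := rfl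
def n7938 : Q := act 8 n6288
theorem D7938 : act 8 n6288 = n7938 := rfl
def n7939 : Q := act 8 n6289
theorem D7939 : act 8 n6289 = n7939 := rfl
theorem F37408 : act 1 n7939 = n6719 := d15_1 D7939 (iv D6719) (iv F30014)
def n7940 : Q := act 9 n6290
theorem D7940 : act 9 n6290 = n7940 := rfl
theorem F37413 : act 1 n7940 = n6720 := d16_1 D7940 (iv D6720) (iv F30017)
def n7941 : Q := act 5 n6292
theorem D7941 : act 5 n6292 = n7941 := rfl
theorem F37418 : act 2 n7941 = n6721 := d19_1 D7941 (iv D6721) (iv F30027)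
def n7942 : Q := act 8 n6293
theorem D7942 : act 8 n6293 = n7942 := rfl
theorem F37424 : act 1 n7942 = n6294 := d15_1 D7942 (iv D6294) (iv F30031)
theorem F37425 : act 2 n7942 = n6722 := d22_1 D7942 (iv D6722) (iv F30032)
def n7944 : Q := act 1 n6296
theorem D7944 : act 1 n6296 = n7944 := rfl
theorem F37437 : act 3 n7944 = n6724 := d10_2 (iv F30050) D7944 (iv D6724)
def n7945 : Q := act 6 n6296
theorem D7945 : act 6 n6296 = n7945 := rfl
theorem F37442 : act 0 n7945 = n6300 := d5_1 D7945 (iv D6300) (iv F30049)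
theorem F37443 : act 2 n7945 = n6297 := d20_1 D7945 (iv D6297) D6296
theorem F37444 : act 3 n7945 = n6725 := d26_1 D7945 (iv D6725) (iv F30050)
def n7946 : Q := act 5 n6297
theorem D7946 : act 5 n6297 = n7946 := rfl
theorem F37447 : act 0 n7946 = n6301 := d4_1 D7946 (iv D6301) (iv F30055)
theorem F37448 : act 3 n7946 = n6298 := d25_1 D7946 (iv D6298) (iv F30056)
def n7947 : Q := act 7 n6297
theorem D7947 : act 7 n6297 = n7947 := rfl
def n7948 : Q := act 7 n6298
theorem D7948 : act 7 n6298 = n7948 := rfl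
theorem F37457 : act 2 n7948 = n6728 := d21_1 D7948 (iv D6728) (iv F30060)
theorem F37459 : act 5 n7948 = n6299 := d36_1 D7948 (iv D6299) D6298
def n7949 : Q := act 8 n6298
theorem D7949 : act 8 n6298 = n7949 := rfl
theorem F37462 : act 2 n7949 = n6729 := d22_1 D7949 (iv D6729) (iv F30060)
def n7950 : Q := act 5 n6300
theorem D7950 : act 5 n6300 = n7950 := rfl
theorem F37466 : act 2 n7950 = n6301 := d19_1 D7950 (iv D6301) (iv F30070)
theorem F37467 : act 3 n7950 = n6730 := d25_1 D7950 (iv D6730) (iv F30071)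
def n7951 : Q := act 7 n6300
theorem D7951 : act 7 n6300 = n7951 := rfl
theorem F37471 : act 2 n7951 = n6302 := d21_1 D7951 (iv D6302) (iv F30070)
theorem F37472 : act 3 n7951 = n6731 := d27_1 D7951 (iv D6731) (iv F30071)
def n7952 : Q := act 4 n6301
theorem D7952 : act 4 n6301 = n7952 := rfl
theorem F37476 : act 1 n7952 = n6305 := d11_1 D7952 (iv D6305) (iv F30074)
def n7953 : Q := act 7 n6301
theorem D7953 : act 7 n6301 = n7953 := rfl
theorem F37481 : act 1 n7953 = n6306 := d14_1 D7953 (iv D6306) (iv F30074)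
theorem F37482 : act 3 n7953 = n6303 := d27_1 D7953 (iv D6303) (iv F30075)
theorem F37483 : act 5 n7953 = n6302 := d36_1 D7953 (iv D6302) D6301
def n7954 : Q := act 8 n6301
theorem D7954 : act 8 n6301 = n7954 := rfl
theorem F37485 : act 1 n7954 = n6307 := d15_1 D7954 (iv D6307) (iv F30074)
def n7955 : Q := act 6 n6303
theorem D7955 : act 6 n6303 = n7955 := rfl
def n7956 : Q := act 8 n6303
theorem D7956 : act 8 n6303 = n7956 := rfl
theorem F37494 : act 1 n7956 = n6309 := d15_1 D7956 (iv D6309) (iv F30083)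
theorem F37495 : act 2 n7956 = n6736 := d22_1 D7956 (iv D6736) (iv F30084)
def n7957 : Q := act 9 n6304
theorem D7957 : act 9 n6304 = n7957 := rfl
theorem F37498 : act 1 n7957 = n6310 := d16_1 D7957 (iv D6310) (iv F30088)
def n7958 : Q := act 7 n6305
theorem D7958 : act 7 n6305 = n7958 := rfl
theorem F37505 : act 4 n7958 = n6306 := d32_1 D7958 (iv D6306) D6305
def n7959 : Q := act 8 n6305
theorem D7959 : act 8 n6305 = n7959 := rfl
theorem F37510 : act 4 n7959 = n6307 := d33_1 D7959 (iv D6307) D6305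
def n7960 : Q := act 6 n6306
theorem D7960 : act 6 n6306 = n7960 := rfl
theorem F37513 : act 3 n7960 = n6308 := d26_1 D7960 (iv D6308) (iv F30098)
def n7961 : Q := act 8 n6306
theorem D7961 : act 8 n6306 = n7961 := rfl
def n7962 : Q := act 9 n6307
theorem D7962 : act 9 n6307 = n7962 := rfl
theorem F37521 : act 3 n7962 = n6310 := d29_1 D7962 (iv D6310) (iv F30102)
def n7963 : Q := act 8 n6308
theorem D7963 : act 8 n6308 = n7963 := rfl
theorem F37524 : act 2 n7963 = n6311 := d22_1 D7963 (iv D6311) (iv F30104)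
theorem F37526 : act 6 n7963 = n6309 := d40_1 D7963 (iv D6309) D6308
def n7964 : Q := act 9 n6309
theorem D7964 : act 9 n6309 = n7964 := rfl
theorem F37530 : act 7 n7964 = n6310 := d43_1 D7964 (iv D6310) (iv F30111)
def n7965 : Q := act 5 n6311
theorem D7965 : act 5 n6311 = n7965 := rfl
theorem F37532 : act 1 n7965 = n6745 := d12_1 D7965 (iv D6745) (iv F30116)
theorem F37533 : act 3 n7965 = n7965 := d25_1 D7965 (iv D7965) F30117
theorem F37534 : act 7 n7965 = n7965 := d36_2 F30120 D7965 (iv D7965)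
theorem F37535 : act 8 n7965 = n7965 := d37_2 D6311 D7965 (iv D7965) (iv D6311) F24308
def n7966 : Q := act 9 n6311
theorem D7966 : act 9 n6311 = n7966 := rfl
theorem F37536 : act 1 n7966 = n6746 := d16_1 D7966 (iv D6746) (iv F30116)
theorem F37537 : act 3 n7966 = n7966 := d29_1 D7966 (iv D7966) F30117
theorem F37538 : act 4 n7966 = n7966 := d34_1 D7966 (iv D7966) F30118
theorem F37539 : act 6 n7966 = n6312 := d41_1 D7966 (iv D6312) (iv F30119)
theorem F37540 : act 7 n7966 = n7966 := d43_1 D7966 (iv D7966) F30120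
theorem F37541 : act 8 n7966 = n7966 := d44_1 D7966 (iv D7966) (iv D6311) F24310 D6311
def n7967 : Q := act 8 n6313
theorem D7967 : act 8 n6313 = n7967 := rfl
theorem F37542 : act 0 n7967 = n6317 := d7_1 D7967 (iv D6317) (iv F30126)
theorem F37543 : act 1 n7967 = n7967 := d15_1 D7967 (iv D7967) F30127
theorem F37544 : act 3 n7967 = n7967 := d28_1 D7967 (iv D7967) F30128
theorem F37545 : act 6 n7967 = n6366 := d40_1 D7967 (iv D6366) (iv F30130)
def n7968 : Q := act 8 n6314
theorem D7968 : act 8 n6314 = n7968 := rfl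
theorem F37546 : act 0 n7968 = n6318 := d7_1 D7968 (iv D6318) (iv F30131)
theorem F37547 : act 1 n7968 = n7968 := d15_1 D7968 (iv D7968) F30132
theorem F37548 : act 3 n7968 = n7968 := d28_1 D7968 (iv D7968) F30133
theorem F37549 : act 4 n7968 = n7968 := d33_1 D7968 (iv D7968) F30134
theorem F37550 : act 6 n7968 = n7968 := d40_1 D7968 (iv D7968) F30135
theorem F37551 : act 7 n7968 = n6315 := d42_1 D7968 (iv D6315) (iv F30136)
theorem F37552 : act 9 n7968 = n7968 := d44_2 D6314 D7968 (iv D7968) (iv D6314) F24329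
def n7969 : Q := act 5 n6315
theorem D7969 : act 5 n6315 = n7969 := rfl
theorem F37553 : act 0 n7969 = n6319 := d4_1 D7969 (iv D6319) (iv F30137)
theorem F37554 : act 1 n7969 = n7969 := d12_1 D7969 (iv D7969) F30138
theorem F37555 : act 3 n7969 = n7969 := d25_1 D7969 (iv D7969) F30139
theorem F37556 : act 9 n7969 = n7969 := d38_2 F30142 D7969 (iv D7969)
def n7970 : Q := act 4 n6316
theorem D7970 : act 4 n6316 = n7970 := rfl
theorem F37557 : act 0 n7970 = n6320 := d3_1 D7970 (iv D6320) (iv F30143)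
theorem F37558 : act 1 n7970 = n7970 := d11_1 D7970 (iv D7970) F30144
theorem F37559 : act 5 n7970 = n7970 := d30_2 D6316 D7970 (iv D7970) (iv D6316) F24338
theorem F37560 : act 7 n7970 = n7970 := d32_2 F30146 D7970 (iv D7970)
theorem F37561 : act 8 n7970 = n6369 := d33_2 (iv F30147) D7970 (iv D6369)
theorem F37562 : act 9 n7970 = n7970 := d34_2 F30148 D7970 (iv D7970)
def n7971 : Q := act 6 n6316
theorem D7971 : act 6 n6316 = n7971 := rfl
theorem F37563 : act 0 n7971 = n6321 := d5_1 D7971 (iv D6321) (iv F30143)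
theorem F37564 : act 1 n7971 = n7971 := d13_1 D7971 (iv D7971) F30144
theorem F37565 : act 3 n7971 = n7971 := d26_1 D7971 (iv D7971) F30145
theorem F37566 : act 8 n7971 = n6370 := d40_2 (iv F30147) D7971 (iv D6370)
theorem F37567 : act 9 n7971 = n7971 := d41_2 F30148 D7971 (iv D7971)
def n7972 : Q := act 5 n6317
theorem D7972 : act 5 n6317 = n7972 := rfl
theorem F37568 : act 1 n7972 = n6325 := d12_1 D7972 (iv D6325) (iv F30149)
theorem F37569 : act 3 n7972 = n7972 := d25_1 D7972 (iv D7972) F30150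
theorem F37570 : act 8 n7972 = n6319 := d37_2 D6317 D7972 (iv D6319) (iv D5041) (iv F24343)
def n7973 : Q := act 5 n6318
theorem D7973 : act 5 n6318 = n7973 := rfl
theorem F37571 : act 1 n7973 = n6326 := d12_1 D7973 (iv D6326) (iv F30152)
theorem F37572 : act 3 n7973 = n7973 := d25_1 D7973 (iv D7973) F30153
theorem F37573 : act 7 n7973 = n6319 := d36_2 (iv F30156) D7973 (iv D6319)
theorem F37574 : act 9 n7973 = n7973 := d38_2 F30157 D7973 (iv D7973)
def n7974 : Q := act 4 n6319
theorem D7974 : act 4 n6319 = n7974 := rfl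
theorem F37575 : act 1 n7974 = n6327 := d11_1 D7974 (iv D6327) (iv F30158)
theorem F37576 : act 5 n7974 = n7974 := d30_2 D6319 D7974 (iv D7974) (iv D6319) F24352
theorem F37577 : act 9 n7974 = n7974 := d34_2 F30160 D7974 (iv D7974)
def n7975 : Q := act 6 n6319
theorem D7975 : act 6 n6319 = n7975 := rfl
theorem F37578 : act 1 n7975 = n6328 := d13_1 D7975 (iv D6328) (iv F30158)
theorem F37579 : act 3 n7975 = n7975 := d26_1 D7975 (iv D7975) F30159
theorem F37580 : act 5 n7975 = n6321 := d35_1 D7975 (iv D6321) (iv D5042) (iv F24353) D6319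
theorem F37581 : act 9 n7975 = n7975 := d41_2 F30160 D7975 (iv D7975)
def n7976 : Q := act 3 n6320
theorem D7976 : act 3 n6320 = n7976 := rfl
theorem F37582 : act 1 n7976 = n6329 := d10_1 D7976 (iv D6329) (iv F30161)
theorem F37586 : act 8 n7976 = n6378 := d28_2 (iv F30164) D7976 (iv D6378)
def n7977 : Q := act 6 n6320
theorem D7977 : act 6 n6320 = n7977 := rfl
theorem F37588 : act 1 n7977 = n6330 := d13_1 D7977 (iv D6330) (iv F30161)
theorem F37589 : act 4 n7977 = n6321 := d31_1 D7977 (iv D6321) D6320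
theorem F37590 : act 8 n7977 = n6379 := d40_2 (iv F30164) D7977 (iv D6379)
theorem F37591 : act 9 n7977 = n7977 := d41_2 F30165 D7977 (iv D7977)
def n7978 : Q := act 7 n6321
theorem D7978 : act 7 n6321 = n7978 := rfl
theorem F37592 : act 1 n7978 = n6331 := d14_1 D7978 (iv D6331) (iv F30166)
theorem F37593 : act 3 n7978 = n7978 := d27_1 D7978 (iv D7978) F30167
theorem F37594 : act 6 n7978 = n7978 := d39_1 D7978 (iv D7978) (iv D6321) F24357 D6321
theorem F37595 : act 8 n7978 = n6380 := d42_2 (iv F30168) D7978 (iv D6380)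
theorem F37596 : act 9 n7978 = n7978 := d43_2 F30169 D7978 (iv D7978)
def n7979 : Q := act 5 n6322
theorem D7979 : act 5 n6322 = n7979 := rfl
theorem F37597 : act 0 n7979 = n7979 := d4_1 D7979 (iv D7979) F30170
theorem F37598 : act 2 n7979 = n6332 := d19_1 D7979 (iv D6332) (iv F30171)
theorem F37599 : act 3 n7979 = n6347 := d25_1 D7979 (iv D6347) (iv F30172)
theorem F37600 : act 7 n7979 = n6335 := d36_2 (iv F30175) D7979 (iv D6335)
theorem F37601 : act 8 n7979 = n7979 := d37_2 D6322 D7979 (iv D7979) (iv D6322) F24364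
theorem F37602 : act 9 n7979 = n6334 := d38_2 (iv F30176) D7979 (iv D6334)
def n7980 : Q := act 5 n6323
theorem D7980 : act 5 n6323 = n7980 := rfl
theorem F37603 : act 0 n7980 = n7980 := d4_1 D7980 (iv D7980) F30177
theorem F37604 : act 2 n7980 = n6334 := d19_1 D7980 (iv D6334) (iv F30178)
theorem F37605 : act 3 n7980 = n7980 := d25_1 D7980 (iv D7980) F30179
theorem F37606 : act 7 n7980 = n6325 := d36_2 (iv F30182) D7980 (iv D6325)
theorem F37607 : act 8 n7980 = n6326 := d37_2 D6323 D7980 (iv D6326) (iv D5047) (iv F24371)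
theorem F37608 : act 9 n7980 = n6332 := d38_2 (iv F30183) D7980 (iv D6332)
def n7981 : Q := act 5 n6324
theorem D7981 : act 5 n6324 = n7981 := rfl
theorem F37609 : act 0 n7981 = n7981 := d4_1 D7981 (iv D7981) F30184
theorem F37610 : act 2 n7981 = n6335 := d19_1 D7981 (iv D6335) (iv F30185)
theorem F37611 : act 3 n7981 = n7981 := d25_1 D7981 (iv D7981) F30186
theorem F37612 : act 7 n7981 = n6332 := d36_2 (iv F30189) D7981 (iv D6332)
theorem F37613 : act 8 n7981 = n7981 := d37_2 D6324 D7981 (iv D7981) (iv D6324) F24378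
theorem F37614 : act 9 n7981 = n6325 := d38_2 (iv F30190) D7981 (iv D6325)
def n7982 : Q := act 4 n6325
theorem D7982 : act 4 n6325 = n7982 := rfl
theorem F37615 : act 0 n7982 = n7982 := d3_1 D7982 (iv D7982) F30191
theorem F37616 : act 2 n7982 = n6336 := d18_1 D7982 (iv D6336) (iv F30192)
theorem F37617 : act 8 n7982 = n6327 := d33_2 (iv F30194) D7982 (iv D6327)
def n7983 : Q := act 6 n6325
theorem D7983 : act 6 n6325 = n7983 := rfl
theorem F37618 : act 0 n7983 = n7983 := d5_1 D7983 (iv D7983) F30191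
theorem F37619 : act 2 n7983 = n6337 := d20_1 D7983 (iv D6337) (iv F30192)
theorem F37620 : act 3 n7983 = n7983 := d26_1 D7983 (iv D7983) F30193
theorem F37621 : act 5 n7983 = n6388 := d35_1 D7983 (iv D6388) (iv D5095) (iv F24384) D6325
theorem F37622 : act 8 n7983 = n6328 := d40_2 (iv F30194) D7983 (iv D6328)
def n7984 : Q := act 4 n6326
theorem D7984 : act 4 n6326 = n7984 := rfl
theorem F37623 : act 0 n7984 = n7984 := d3_1 D7984 (iv D7984) F30195
theorem F37624 : act 2 n7984 = n6338 := d18_1 D7984 (iv D6338) (iv F30196)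
theorem F37625 : act 5 n7984 = n7984 := d30_2 D6326 D7984 (iv D7984) (iv D6326) F24388
theorem F37626 : act 7 n7984 = n6327 := d32_2 (iv F30198) D7984 (iv D6327)
theorem F37627 : act 9 n7984 = n7984 := d34_2 F30199 D7984 (iv D7984)
def n7985 : Q := act 6 n6326
theorem D7985 : act 6 n6326 = n7985 := rfl
theorem F37628 : act 0 n7985 = n7985 := d5_1 D7985 (iv D7985) F30195
theorem F37629 : act 2 n7985 = n6339 := d20_1 D7985 (iv D6339) (iv F30196)
theorem F37630 : act 3 n7985 = n7985 := d26_1 D7985 (iv D7985) F30197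
theorem F37631 : act 5 n7985 = n7985 := d35_1 D7985 (iv D7985) (iv D6326) F24389 D6326
theorem F37632 : act 9 n7985 = n7985 := d41_2 F30199 D7985 (iv D7985)
def n7986 : Q := act 3 n6327
theorem D7986 : act 3 n6327 = n7986 := rfl
theorem F37633 : act 0 n7986 = n7986 := d2_1 D7986 (iv D7986) F30200
theorem F37634 : act 4 n7986 = n7986 := d24_2 D6327 D7986 (iv D7986) (iv D6327) F24394
theorem F37635 : act 5 n7986 = n7986 := d25_2 F30202 D7986 (iv D7986)
theorem F37636 : act 9 n7986 = n7986 := d29_2 F30203 D7986 (iv D7986)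
def n7987 : Q := act 6 n6327
theorem D7987 : act 6 n6327 = n7987 := rfl
theorem F37637 : act 0 n7987 = n7987 := d5_1 D7987 (iv D7987) F30200
theorem F37638 : act 2 n7987 = n6341 := d20_1 D7987 (iv D6341) (iv F30201)
theorem F37639 : act 4 n7987 = n6328 := d31_1 D7987 (iv D6328) D6327
theorem F37640 : act 9 n7987 = n7987 := d41_2 F30203 D7987 (iv D7987)
def n7988 : Q := act 7 n6328
theorem D7988 : act 7 n6328 = n7988 := rfl
theorem F37641 : act 0 n7988 = n7988 := d6_1 D7988 (iv D7988) F30204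
theorem F37642 : act 2 n7988 = n6342 := d21_1 D7988 (iv D6342) (iv F30205)
theorem F37643 : act 3 n7988 = n7988 := d27_1 D7988 (iv D7988) F30206
theorem F37644 : act 5 n7988 = n6331 := d36_1 D7988 (iv D6331) (iv F30207)
theorem F37645 : act 9 n7988 = n7988 := d43_2 F30208 D7988 (iv D7988)
def n7989 : Q := act 6 n6329
theorem D7989 : act 6 n6329 = n7989 := rfl
theorem F37646 : act 0 n7989 = n7989 := d5_1 D7989 (iv D7989) F30209
theorem F37647 : act 2 n7989 = n7989 := d20_1 D7989 (iv D7989) F30210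
theorem F37648 : act 3 n7989 = n6330 := d26_1 D7989 (iv D6330) D6329
theorem F37649 : act 4 n7989 = n7989 := d31_1 D7989 (iv D7989) F30211
theorem F37650 : act 8 n7989 = n6394 := d40_2 (iv F30214) D7989 (iv D6394)
theorem F37651 : act 9 n7989 = n7989 := d41_2 F30215 D7989 (iv D7989)
def n7990 : Q := act 5 n6330
theorem D7990 : act 5 n6330 = n7990 := rfl
theorem F37652 : act 0 n7990 = n7990 := d4_1 D7990 (iv D7990) F30216
theorem F37653 : act 2 n7990 = n6343 := d19_1 D7990 (iv D6343) (iv F30217)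
theorem F37654 : act 6 n7990 = n7990 := d35_2 D6330 D7990 (iv D7990) (iv D6330) F24398
theorem F37655 : act 9 n7990 = n7990 := d38_2 F30220 D7990 (iv D7990)
def n7991 : Q := act 7 n6330
theorem D7991 : act 7 n6330 = n7991 := rfl
theorem F37656 : act 0 n7991 = n7991 := d6_1 D7991 (iv D7991) F30216
theorem F37657 : act 2 n7991 = n6344 := d21_1 D7991 (iv D6344) (iv F30217)
theorem F37658 : act 4 n7991 = n6331 := d32_1 D7991 (iv D6331) (iv F30218)
theorem F37659 : act 6 n7991 = n7991 := d39_1 D7991 (iv D7991) (iv D6330) F24399 D6330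
theorem F37660 : act 8 n7991 = n6396 := d42_2 (iv F30219) D7991 (iv D6396)
theorem F37661 : act 9 n7991 = n7991 := d43_2 F30220 D7991 (iv D7991)
def n7992 : Q := act 4 n6332
theorem D7992 : act 4 n6332 = n7992 := rfl
theorem F37662 : act 0 n7992 = n7992 := d3_1 D7992 (iv D7992) F30227
theorem F37663 : act 5 n7992 = n6336 := d30_2 D6332 D7992 (iv D6336) (iv D5055) (iv F24409)
theorem F37664 : act 8 n7992 = n7992 := d33_2 F30229 D7992 (iv D7992)
def n7993 : Q := act 6 n6332
theorem D7993 : act 6 n6332 = n7993 := rfl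
theorem F37665 : act 0 n7993 = n7993 := d5_1 D7993 (iv D7993) F30227
theorem F37666 : act 3 n7993 = n7993 := d26_1 D7993 (iv D7993) F30228
theorem F37667 : act 5 n7993 = n6400 := d35_1 D7993 (iv D6400) (iv D5104) (iv F24410) D6332
theorem F37668 : act 8 n7993 = n7993 := d40_2 F30229 D7993 (iv D7993)
def n7994 : Q := act 5 n6333
theorem D7994 : act 5 n6333 = n7994 := rfl
theorem F37669 : act 0 n7994 = n7994 := d4_1 D7994 (iv D7994) F30230
theorem F37670 : act 2 n7994 = n6398 := d19_1 D7994 (iv D6398) (iv F30231)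
theorem F37671 : act 3 n7994 = n6346 := d25_1 D7994 (iv D6346) (iv F30232)
theorem F37672 : act 7 n7994 = n6401 := d36_2 (iv F30235) D7994 (iv D6401)
theorem F37673 : act 8 n7994 = n7994 := d37_2 D6333 D7994 (iv D7994) (iv D6333) F24415
theorem F37674 : act 9 n7994 = n6382 := d38_2 (iv F30236) D7994 (iv D6382)
def n7995 : Q := act 4 n6334
theorem D7995 : act 4 n6334 = n7995 := rfl
theorem F37675 : act 0 n7995 = n7995 := d3_1 D7995 (iv D7995) F30237
theorem F37676 : act 7 n7995 = n6336 := d32_2 (iv F30239) D7995 (iv D6336)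
theorem F37677 : act 8 n7995 = n6338 := d33_2 (iv F30240) D7995 (iv D6338)
def n7996 : Q := act 6 n6334
theorem D7996 : act 6 n6334 = n7996 := rfl
theorem F37678 : act 0 n7996 = n7996 := d5_1 D7996 (iv D7996) F30237
theorem F37679 : act 3 n7996 = n6349 := d26_1 D7996 (iv D6349) (iv F30238)
theorem F37680 : act 8 n7996 = n6339 := d40_2 (iv F30240) D7996 (iv D6339)
def n7997 : Q := act 4 n6335
theorem D7997 : act 4 n6335 = n7997 := rfl
theorem F37681 : act 0 n7997 = n7997 := d3_1 D7997 (iv D7997) F30241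
theorem F37682 : act 8 n7997 = n7997 := d33_2 F30243 D7997 (iv D7997)
theorem F37683 : act 9 n7997 = n6336 := d34_2 (iv F30244) D7997 (iv D6336)
def n7998 : Q := act 6 n6335
theorem D7998 : act 6 n6335 = n7998 := rfl
theorem F37684 : act 0 n7998 = n7998 := d5_1 D7998 (iv D7998) F30241
theorem F37685 : act 3 n7998 = n6351 := d26_1 D7998 (iv D6351) (iv F30242)
theorem F37686 : act 5 n7998 = n6406 := d35_1 D7998 (iv D6406) (iv D5108) (iv F24423) D6335
theorem F37687 : act 8 n7998 = n7998 := d40_2 F30243 D7998 (iv D7998)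
theorem F37688 : act 9 n7998 = n6337 := d41_2 (iv F30244) D7998 (iv D6337)
def n7999 : Q := act 3 n6336
theorem D7999 : act 3 n6336 = n7999 := rfl
theorem F37689 : act 0 n7999 = n7999 := d2_1 D7999 (iv D7999) F30245
theorem F37690 : act 4 n7999 = n6352 := d24_2 D6336 D7999 (iv D6352) (iv D5066) (iv F24426)
theorem F37691 : act 8 n7999 = n6340 := d28_2 (iv F30246) D7999 (iv D6340)
def n8000 : Q := act 6 n6336
theorem D8000 : act 6 n6336 = n8000 := rfl
theorem F37692 : act 0 n8000 = n8000 := d5_1 D8000 (iv D8000) F30245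
theorem F37693 : act 4 n8000 = n6337 := d31_1 D8000 (iv D6337) D6336
theorem F37694 : act 8 n8000 = n6341 := d40_2 (iv F30246) D8000 (iv D6341)
def n8001 : Q := act 7 n6337
theorem D8001 : act 7 n6337 = n8001 := rfl
theorem F37695 : act 0 n8001 = n8001 := d6_1 D8001 (iv D8001) F30247
theorem F37696 : act 3 n8001 = n6354 := d27_1 D8001 (iv D6354) (iv F30248)
theorem F37697 : act 5 n8001 = n6409 := d36_1 D8001 (iv D6409) (iv F30249)
theorem F37698 : act 8 n8001 = n6342 := d42_2 (iv F30250) D8001 (iv D6342)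
def n8002 : Q := act 3 n6338
theorem D8002 : act 3 n6338 = n8002 := rfl
theorem F37699 : act 0 n8002 = n8002 := d2_1 D8002 (iv D8002) F30251
theorem F37700 : act 4 n8002 = n6355 := d24_2 D6338 D8002 (iv D6355) (iv D5068) (iv F24429)
theorem F37701 : act 5 n8002 = n8002 := d25_2 F30252 D8002 (iv D8002)
theorem F37702 : act 7 n8002 = n6340 := d27_2 (iv F30253) D8002 (iv D6340)
theorem F37703 : act 9 n8002 = n8002 := d29_2 F30254 D8002 (iv D8002)
def n8003 : Q := act 6 n6338
theorem D8003 : act 6 n6338 = n8003 := rfl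
theorem F37704 : act 0 n8003 = n8003 := d5_1 D8003 (iv D8003) F30251
theorem F37705 : act 4 n8003 = n6339 := d31_1 D8003 (iv D6339) D6338
theorem F37706 : act 9 n8003 = n8003 := d41_2 F30254 D8003 (iv D8003)
def n8004 : Q := act 7 n6339
theorem D8004 : act 7 n6339 = n8004 := rfl
theorem F37707 : act 0 n8004 = n8004 := d6_1 D8004 (iv D8004) F30255
theorem F37708 : act 3 n8004 = n6357 := d27_1 D8004 (iv D6357) (iv F30256)
theorem F37709 : act 5 n8004 = n8004 := d36_1 D8004 (iv D8004) F30257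
theorem F37710 : act 6 n8004 = n6342 := d39_1 D8004 (iv D6342) (iv D5058) (iv F24430) D6339
theorem F37711 : act 9 n8004 = n8004 := d43_2 F30258 D8004 (iv D8004)
def n8005 : Q := act 2 n6340
theorem D8005 : act 2 n6340 = n8005 := rfl
theorem F37712 : act 0 n8005 = n8005 := d1_1 D8005 (iv D8005) F30259
theorem F37713 : act 4 n8005 = n6358 := d18_2 (iv F30260) D8005 (iv D6358)
theorem F37714 : act 5 n8005 = n8005 := d19_2 F30261 D8005 (iv D8005)
theorem F37715 : act 9 n8005 = n8005 := d23_2 F30262 D8005 (iv D8005)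
def n8006 : Q := act 6 n6340
theorem D8006 : act 6 n6340 = n8006 := rfl
theorem F37716 : act 0 n8006 = n8006 := d5_1 D8006 (iv D8006) F30259
theorem F37717 : act 3 n8006 = n6341 := d26_1 D8006 (iv D6341) D6340
theorem F37718 : act 4 n8006 = n6359 := d31_1 D8006 (iv D6359) (iv F30260)
theorem F37719 : act 9 n8006 = n8006 := d41_2 F30262 D8006 (iv D8006)
def n8007 : Q := act 5 n6341
theorem D8007 : act 5 n6341 = n8007 := rfl
theorem F37720 : act 0 n8007 = n8007 := d4_1 D8007 (iv D8007) F30263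
theorem F37721 : act 4 n8007 = n6343 := d30_1 D8007 (iv D6343) F24441 (iv F24437) (iv F30264)
theorem F37722 : act 6 n8007 = n8007 := d35_2 D6341 D8007 (iv D8007) (iv D6341) F24433
theorem F37723 : act 9 n8007 = n8007 := d38_2 F30265 D8007 (iv D8007)
def n8008 : Q := act 7 n6341
theorem D8008 : act 7 n6341 = n8008 := rfl
theorem F37724 : act 0 n8008 = n8008 := d6_1 D8008 (iv D8008) F30263
theorem F37725 : act 4 n8008 = n6342 := d32_1 D8008 (iv D6342) (iv F30264)
theorem F37726 : act 9 n8008 = n8008 := d43_2 F30265 D8008 (iv D8008)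
def n8009 : Q := act 7 n6343
theorem D8009 : act 7 n6343 = n8009 := rfl
theorem F37727 : act 0 n8009 = n8009 := d6_1 D8009 (iv D8009) F30270
theorem F37728 : act 3 n8009 = n8009 := d27_1 D8009 (iv D8009) F30271
theorem F37729 : act 5 n8009 = n6344 := d36_1 D8009 (iv D6344) D6343
theorem F37730 : act 9 n8009 = n8009 := d43_2 F30273 D8009 (iv D8009)
def n8010 : Q := act 8 n6343
theorem D8010 : act 8 n6343 = n8010 := rfl
theorem F37731 : act 0 n8010 = n8010 := d7_1 D8010 (iv D8010) F30270
theorem F37732 : act 3 n8010 = n8010 := d28_1 D8010 (iv D8010) F30271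
theorem F37733 : act 5 n8010 = n6418 := d37_1 D8010 (iv D6418) (iv D5116) (iv F24442) D6343
theorem F37734 : act 6 n8010 = n8010 := d40_1 D8010 (iv D8010) F30272
def n8011 : Q := act 5 n6345
theorem D8011 : act 5 n6345 = n8011 := rfl
theorem F37735 : act 0 n8011 = n8011 := d4_1 D8011 (iv D8011) F30280
theorem F37736 : act 2 n8011 = n8011 := d19_1 D8011 (iv D8011) F30281
theorem F37737 : act 3 n8011 = n6382 := d25_1 D8011 (iv D6382) (iv F30282)
theorem F37738 : act 7 n8011 = n6419 := d36_2 (iv F30285) D8011 (iv D6419)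
theorem F37739 : act 8 n8011 = n6574 := d37_2 D6345 D8011 (iv D6574) (iv D5236) (iv F24453)
theorem F37740 : act 9 n8011 = n6346 := d38_2 (iv F30286) D8011 (iv D6346)
def n8012 : Q := act 4 n6346
theorem D8012 : act 4 n6346 = n8012 := rfl
theorem F37741 : act 0 n8012 = n8012 := d3_1 D8012 (iv D8012) F30287
theorem F37742 : act 2 n8012 = n8012 := d18_1 D8012 (iv D8012) F30288
theorem F37743 : act 5 n8012 = n8012 := d30_2 D6346 D8012 (iv D8012) (iv D6346) F24458
theorem F37744 : act 7 n8012 = n6420 := d32_2 (iv F30289) D8012 (iv D6420)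
theorem F37745 : act 8 n8012 = n8012 := d33_2 F30290 D8012 (iv D8012)
def n8013 : Q := act 6 n6346
theorem D8013 : act 6 n6346 = n8013 := rfl
theorem F37746 : act 0 n8013 = n8013 := d5_1 D8013 (iv D8013) F30287
theorem F37747 : act 2 n8013 = n8013 := d20_1 D8013 (iv D8013) F30288
theorem F37748 : act 5 n8013 = n6349 := d35_1 D8013 (iv D6349) (iv D5064) (iv F24459) D6346
theorem F37749 : act 8 n8013 = n8013 := d40_2 F30290 D8013 (iv D8013)
def n8014 : Q := act 4 n6347
theorem D8014 : act 4 n6347 = n8014 := rfl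
theorem F37750 : act 0 n8014 = n8014 := d3_1 D8014 (iv D8014) F30291
theorem F37751 : act 2 n8014 = n8014 := d18_1 D8014 (iv D8014) F30292
theorem F37752 : act 5 n8014 = n8014 := d30_2 D6347 D8014 (iv D8014) (iv D6347) F24463
theorem F37753 : act 7 n8014 = n6350 := d32_2 (iv F30293) D8014 (iv D6350)
theorem F37754 : act 8 n8014 = n8014 := d33_2 F30294 D8014 (iv D8014)
theorem F37755 : act 9 n8014 = n6348 := d34_2 (iv F30295) D8014 (iv D6348)
def n8015 : Q := act 6 n6347
theorem D8015 : act 6 n6347 = n8015 := rfl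
theorem F37756 : act 0 n8015 = n8015 := d5_1 D8015 (iv D8015) F30291
theorem F37757 : act 2 n8015 = n8015 := d20_1 D8015 (iv D8015) F30292
theorem F37758 : act 8 n8015 = n8015 := d40_2 F30294 D8015 (iv D8015)
theorem F37759 : act 9 n8015 = n6349 := d41_2 (iv F30295) D8015 (iv D6349)
def n8016 : Q := act 3 n6348
theorem D8016 : act 3 n6348 = n8016 := rfl
theorem F37760 : act 0 n8016 = n8016 := d2_1 D8016 (iv D8016) F30296
theorem F37761 : act 5 n8016 = n8016 := d25_2 F30298 D8016 (iv D8016)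
theorem F37762 : act 7 n8016 = n6352 := d27_2 (iv F30299) D8016 (iv D6352)
theorem F37763 : act 8 n8016 = n6355 := d28_2 (iv F30300) D8016 (iv D6355)
def n8017 : Q := act 6 n6348
theorem D8017 : act 6 n6348 = n8017 := rfl
theorem F37764 : act 0 n8017 = n8017 := d5_1 D8017 (iv D8017) F30296
theorem F37765 : act 2 n8017 = n8017 := d20_1 D8017 (iv D8017) F30297
theorem F37766 : act 4 n8017 = n6349 := d31_1 D8017 (iv D6349) D6348
theorem F37767 : act 8 n8017 = n6356 := d40_2 (iv F30300) D8017 (iv D6356)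
def n8018 : Q := act 7 n6349
theorem D8018 : act 7 n6349 = n8018 := rfl
theorem F37768 : act 0 n8018 = n8018 := d6_1 D8018 (iv D8018) F30301
theorem F37769 : act 2 n8018 = n8018 := d21_1 D8018 (iv D8018) F30302
theorem F37770 : act 6 n8018 = n6354 := d39_1 D8018 (iv D6354) (iv D5067) (iv F24468) D6349
theorem F37771 : act 8 n8018 = n6357 := d42_2 (iv F30303) D8018 (iv D6357)
def n8019 : Q := act 3 n6350
theorem D8019 : act 3 n6350 = n8019 := rfl
theorem F37772 : act 0 n8019 = n8019 := d2_1 D8019 (iv D8019) F30304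
theorem F37773 : act 5 n8019 = n8019 := d25_2 F30306 D8019 (iv D8019)
theorem F37774 : act 8 n8019 = n8019 := d28_2 F30307 D8019 (iv D8019)
theorem F37775 : act 9 n8019 = n6352 := d29_2 (iv F30308) D8019 (iv D6352)
def n8020 : Q := act 6 n6350
theorem D8020 : act 6 n6350 = n8020 := rfl
theorem F37776 : act 0 n8020 = n8020 := d5_1 D8020 (iv D8020) F30304
theorem F37777 : act 2 n8020 = n8020 := d20_1 D8020 (iv D8020) F30305
theorem F37778 : act 4 n8020 = n6351 := d31_1 D8020 (iv D6351) D6350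
theorem F37779 : act 8 n8020 = n8020 := d40_2 F30307 D8020 (iv D8020)
theorem F37780 : act 9 n8020 = n6353 := d41_2 (iv F30308) D8020 (iv D6353)
def n8021 : Q := act 7 n6351
theorem D8021 : act 7 n6351 = n8021 := rfl
theorem F37781 : act 0 n8021 = n8021 := d6_1 D8021 (iv D8021) F30309
theorem F37782 : act 2 n8021 = n8021 := d21_1 D8021 (iv D8021) F30310
theorem F37783 : act 5 n8021 = n6429 := d36_1 D8021 (iv D6429) (iv F30311)
theorem F37784 : act 8 n8021 = n8021 := d42_2 F30312 D8021 (iv D8021)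
theorem F37785 : act 9 n8021 = n6354 := d43_2 (iv F30313) D8021 (iv D6354)
def n8022 : Q := act 2 n6352
theorem D8022 : act 2 n6352 = n8022 := rfl
theorem F37786 : act 0 n8022 = n8022 := d1_1 D8022 (iv D8022) F30314
theorem F37787 : act 3 n8022 = n8022 := d17_2 D6352 D8022 (iv D8022) (iv D6352) F24475
theorem F37788 : act 5 n8022 = n8022 := d19_2 F30315 D8022 (iv D8022)
theorem F37789 : act 8 n8022 = n6358 := d22_2 (iv F30316) D8022 (iv D6358)
def n8023 : Q := act 6 n6352
theorem D8023 : act 6 n6352 = n8023 := rfl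
theorem F37790 : act 0 n8023 = n8023 := d5_1 D8023 (iv D8023) F30314
theorem F37791 : act 3 n8023 = n6353 := d26_1 D8023 (iv D6353) D6352
theorem F37792 : act 8 n8023 = n6359 := d40_2 (iv F30316) D8023 (iv D6359)
def n8024 : Q := act 5 n6353
theorem D8024 : act 5 n6353 = n8024 := rfl
theorem F37793 : act 0 n8024 = n8024 := d4_1 D8024 (iv D8024) F30317
theorem F37794 : act 2 n8024 = n8024 := d19_1 D8024 (iv D8024) F30318
theorem F37795 : act 4 n8024 = n6432 := d30_1 D8024 (iv D6432) F24732 (iv F24480) (iv F30319)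
theorem F37796 : act 6 n8024 = n8024 := d35_2 D6353 D8024 (iv D8024) (iv D6353) F24476
theorem F37797 : act 8 n8024 = n8024 := d37_2 (iv F30320) D8024 (iv D8024) F30320 F24497
def n8025 : Q := act 7 n6353
theorem D8025 : act 7 n6353 = n8025 := rfl
theorem F37798 : act 0 n8025 = n8025 := d6_1 D8025 (iv D8025) F30317
theorem F37799 : act 2 n8025 = n8025 := d21_1 D8025 (iv D8025) F30318
theorem F37800 : act 4 n8025 = n6354 := d32_1 D8025 (iv D6354) (iv F30319)
theorem F37801 : act 8 n8025 = n6360 := d42_2 (iv F30320) D8025 (iv D6360)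
def n8026 : Q := act 2 n6355
theorem D8026 : act 2 n6355 = n8026 := rfl
theorem F37802 : act 0 n8026 = n8026 := d1_1 D8026 (iv D8026) F30325
theorem F37803 : act 3 n8026 = n8026 := d17_2 D6355 D8026 (iv D8026) (iv D6355) F24483
theorem F37804 : act 5 n8026 = n6361 := d19_2 (iv F30326) D8026 (iv D6361)
theorem F37805 : act 7 n8026 = n6358 := d21_2 (iv F30327) D8026 (iv D6358)
theorem F37806 : act 9 n8026 = n8026 := d23_2 F30328 D8026 (iv D8026)
def n8027 : Q := act 6 n6355
theorem D8027 : act 6 n6355 = n8027 := rfl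
theorem F37807 : act 0 n8027 = n8027 := d5_1 D8027 (iv D8027) F30325
theorem F37808 : act 3 n8027 = n6356 := d26_1 D8027 (iv D6356) D6355
theorem F37809 : act 9 n8027 = n8027 := d41_2 F30328 D8027 (iv D8027)
def n8028 : Q := act 5 n6356
theorem D8028 : act 5 n6356 = n8028 := rfl
theorem F37810 : act 0 n8028 = n8028 := d4_1 D8028 (iv D8028) F30329
theorem F37811 : act 2 n8028 = n8028 := d19_1 D8028 (iv D8028) F30330
theorem F37812 : act 4 n8028 = n8028 := d30_1 D8028 (iv D8028) F30331 F24489 (iv F30331)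
theorem F37813 : act 6 n8028 = n6363 := d35_2 D6356 D8028 (iv D6363) (iv D5074) (iv F24484)
theorem F37814 : act 9 n8028 = n8028 := d38_2 F30332 D8028 (iv D8028)
def n8029 : Q := act 7 n6356
theorem D8029 : act 7 n6356 = n8029 := rfl
theorem F37815 : act 0 n8029 = n8029 := d6_1 D8029 (iv D8029) F30329
theorem F37816 : act 2 n8029 = n8029 := d21_1 D8029 (iv D8029) F30330
theorem F37817 : act 4 n8029 = n6357 := d32_1 D8029 (iv D6357) (iv F30331)
theorem F37818 : act 6 n8029 = n6360 := d39_1 D8029 (iv D6360) (iv D5071) (iv F24485) D6356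
theorem F37819 : act 9 n8029 = n8029 := d43_2 F30332 D8029 (iv D8029)
def n8030 : Q := act 1 n6358
theorem D8030 : act 1 n6358 = n8030 := rfl
theorem F37820 : act 3 n8030 = n8030 := d10_2 F30339 D8030 (iv D8030)
theorem F37821 : act 5 n8030 = n6364 := d12_2 (iv F30340) D8030 (iv D6364)
theorem F37822 : act 9 n8030 = n8030 := d16_2 F30341 D8030 (iv D8030)
def n8031 : Q := act 6 n6358
theorem D8031 : act 6 n6358 = n8031 := rfl
theorem F37823 : act 0 n8031 = n8031 := d5_1 D8031 (iv D8031) F30338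
theorem F37824 : act 2 n8031 = n6359 := d20_1 D8031 (iv D6359) D6358
theorem F37825 : act 3 n8031 = n8031 := d26_1 D8031 (iv D8031) F30339
theorem F37826 : act 5 n8031 = n8031 := d35_1 D8031 (iv D8031) F30340 F24517 (iv F30340)
theorem F37827 : act 9 n8031 = n8031 := d41_2 F30341 D8031 (iv D8031)
def n8032 : Q := act 7 n6359
theorem D8032 : act 7 n6359 = n8032 := rfl
theorem F37828 : act 0 n8032 = n8032 := d6_1 D8032 (iv D8032) F30342
theorem F37829 : act 3 n8032 = n6360 := d27_1 D8032 (iv D6360) (iv F30343)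
theorem F37830 : act 5 n8032 = n8032 := d36_1 D8032 (iv D8032) F30344
theorem F37831 : act 9 n8032 = n8032 := d43_2 F30345 D8032 (iv D8032)
def n8033 : Q := act 1 n6361
theorem D8033 : act 1 n6361 = n8033 := rfl
theorem F37832 : act 3 n8033 = n8033 := d10_2 F30352 D8033 (iv D8033)
theorem F37833 : act 4 n8033 = n8033 := d11_2 F30353 D8033 (iv D8033)
theorem F37834 : act 7 n8033 = n6364 := d14_2 (iv F30354) D8033 (iv D6364)
theorem F37835 : act 8 n8033 = n8033 := d15_2 F30355 D8033 (iv D8033)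
theorem F37836 : act 9 n8033 = n8033 := d16_2 F30356 D8033 (iv D8033)
def n8034 : Q := act 6 n6361
theorem D8034 : act 6 n6361 = n8034 := rfl
theorem F37837 : act 0 n8034 = n8034 := d5_1 D8034 (iv D8034) F30351
theorem F37838 : act 2 n8034 = n6362 := d20_1 D8034 (iv D6362) D6361
theorem F37839 : act 3 n8034 = n8034 := d26_1 D8034 (iv D8034) F30352
theorem F37840 : act 4 n8034 = n8034 := d31_1 D8034 (iv D8034) F30353
theorem F37841 : act 7 n8034 = n8034 := d39_2 (iv F30354) D8034 (iv D8034) F30354 F24517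
theorem F37842 : act 8 n8034 = n8034 := d40_2 F30355 D8034 (iv D8034)
theorem F37843 : act 9 n8034 = n8034 := d41_2 F30356 D8034 (iv D8034)
def n8035 : Q := act 5 n6362
theorem D8035 : act 5 n6362 = n8035 := rfl
theorem F37844 : act 0 n8035 = n8035 := d4_1 D8035 (iv D8035) F30357
theorem F37845 : act 3 n8035 = n6363 := d25_1 D8035 (iv D6363) (iv F30358)
theorem F37846 : act 7 n8035 = n8035 := d36_2 F30360 D8035 (iv D8035)
theorem F37847 : act 9 n8035 = n8035 := d38_2 F30362 D8035 (iv D8035)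
def n8036 : Q := act 8 n6363
theorem D8036 : act 8 n6363 = n8036 := rfl
theorem F37848 : act 0 n8036 = n8036 := d7_1 D8036 (iv D8036) F30363
theorem F37849 : act 2 n8036 = n8036 := d22_1 D8036 (iv D8036) F30364
theorem F37850 : act 4 n8036 = n8036 := d33_1 D8036 (iv D8036) F30365
theorem F37851 : act 5 n8036 = n8036 := d37_1 D8036 (iv D8036) (iv D6363) F24512 D6363
theorem F37852 : act 7 n8036 = n8036 := d42_1 D8036 (iv D8036) F30366
def n8037 : Q := act 0 n6364
theorem D8037 : act 0 n6364 = n8037 := rfl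
theorem F37853 : act 1 n8037 = n8037 := d0_2 D6364 D8037 (iv D8037) (iv D6364) F24514
theorem F37854 : act 3 n8037 = n8037 := d2_2 F30368 D8037 (iv D8037)
theorem F37855 : act 4 n8037 = n8037 := d3_2 F30369 D8037 (iv D8037)
theorem F37856 : act 6 n8037 = n8037 := d5_2 F30370 D8037 (iv D8037)
theorem F37857 : act 8 n8037 = n8037 := d7_2 F30371 D8037 (iv D8037)
theorem F37858 : act 9 n8037 = n8037 := d8_2 F30372 D8037 (iv D8037)
def n8038 : Q := act 8 n6365
theorem D8038 : act 8 n6365 = n8038 := rfl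
theorem F37859 : act 0 n8038 = n6373 := d7_1 D8038 (iv D6373) (iv F30373)
theorem F37860 : act 1 n8038 = n8038 := d15_1 D8038 (iv D8038) F30374
theorem F37861 : act 3 n8038 = n8038 := d28_1 D8038 (iv D8038) F30375
theorem F37862 : act 9 n8038 = n6366 := d44_2 D6365 D8038 (iv D6366) (iv D5077) D5076
def n8039 : Q := act 5 n6366
theorem D8039 : act 5 n6366 = n8039 := rfl
theorem F37863 : act 0 n8039 = n6374 := d4_1 D8039 (iv D6374) (iv F30377)
theorem F37864 : act 1 n8039 = n8039 := d12_1 D8039 (iv D8039) F30378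
theorem F37865 : act 3 n8039 = n8039 := d25_1 D8039 (iv D8039) F30379
theorem F37866 : act 8 n8039 = n6368 := d37_2 D6366 D8039 (iv D6368) (iv D5079) (iv F24527)
def n8040 : Q := act 5 n6367
theorem D8040 : act 5 n6367 = n8040 := rfl
theorem F37867 : act 0 n8040 = n6375 := d4_1 D8040 (iv D6375) (iv F30380)
theorem F37868 : act 1 n8040 = n8040 := d12_1 D8040 (iv D8040) F30381
theorem F37869 : act 3 n8040 = n8040 := d25_1 D8040 (iv D8040) F30382
theorem F37870 : act 7 n8040 = n6368 := d36_2 (iv F30385) D8040 (iv D6368)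
theorem F37871 : act 9 n8040 = n6450 := d38_2 (iv F30386) D8040 (iv D6450)
def n8041 : Q := act 4 n6368
theorem D8041 : act 4 n6368 = n8041 := rfl
theorem F37872 : act 0 n8041 = n6376 := d3_1 D8041 (iv D6376) (iv F30387)
theorem F37873 : act 1 n8041 = n8041 := d11_1 D8041 (iv D8041) F30388
theorem F37874 : act 5 n8041 = n6556 := d30_2 D6368 D8041 (iv D6556) (iv D5224) (iv F24537)
theorem F37875 : act 9 n8041 = n6451 := d34_2 (iv F30390) D8041 (iv D6451)
def n8042 : Q := act 6 n6368
theorem D8042 : act 6 n6368 = n8042 := rfl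
theorem F37876 : act 0 n8042 = n6377 := d5_1 D8042 (iv D6377) (iv F30387)
theorem F37877 : act 1 n8042 = n8042 := d13_1 D8042 (iv D8042) F30388
theorem F37878 : act 3 n8042 = n8042 := d26_1 D8042 (iv D8042) F30389
theorem F37879 : act 5 n8042 = n6370 := d35_1 D8042 (iv D6370) (iv D5080) (iv F24538) D6368
theorem F37880 : act 9 n8042 = n6452 := d41_2 (iv F30390) D8042 (iv D6452)
def n8043 : Q := act 3 n6369
theorem D8043 : act 3 n6369 = n8043 := rfl
def n8044 : Q := act 6 n6369
theorem D8044 : act 6 n6369 = n8044 := rfl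
theorem F37887 : act 0 n8044 = n6379 := d5_1 D8044 (iv D6379) (iv F30391)
theorem F37888 : act 1 n8044 = n8044 := d13_1 D8044 (iv D8044) F30392
theorem F37889 : act 4 n8044 = n6370 := d31_1 D8044 (iv D6370) D6369
theorem F37890 : act 9 n8044 = n6454 := d41_2 (iv F30395) D8044 (iv D6454)
def n8045 : Q := act 7 n6370
theorem D8045 : act 7 n6370 = n8045 := rfl
theorem F37891 : act 0 n8045 = n6380 := d6_1 D8045 (iv D6380) (iv F30396)
theorem F37892 : act 1 n8045 = n8045 := d14_1 D8045 (iv D8045) F30397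
theorem F37893 : act 3 n8045 = n8045 := d27_1 D8045 (iv D8045) F30398
theorem F37894 : act 6 n8045 = n8045 := d39_1 D8045 (iv D8045) (iv D6370) F24543 D6370
theorem F37895 : act 9 n8045 = n6455 := d43_2 (iv F30399) D8045 (iv D6455)
def n8046 : Q := act 5 n6371
theorem D8046 : act 5 n6371 = n8046 := rfl
theorem F37896 : act 1 n8046 = n6382 := d12_1 D8046 (iv D6382) (iv F30400)
theorem F37897 : act 8 n8046 = n6561 := d37_2 D6371 D8046 (iv D6561) (iv D5227) (iv F24547)
def n8047 : Q := act 5 n6372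
theorem D8047 : act 5 n6372 = n8047 := rfl
theorem F37898 : act 1 n8047 = n6385 := d12_1 D8047 (iv D6385) (iv F30402)
theorem F37899 : act 3 n8047 = n8047 := d25_1 D8047 (iv D8047) F30403
theorem F37900 : act 7 n8047 = n6374 := d36_2 (iv F30404) D8047 (iv D6374)
theorem F37901 : act 8 n8047 = n6375 := d37_2 D6372 D8047 (iv D6375) (iv D5085) (iv F24550)
def n8048 : Q := act 5 n6373
theorem D8048 : act 5 n6373 = n8048 := rfl
theorem F37902 : act 1 n8048 = n6386 := d12_1 D8048 (iv D6386) (iv F30405)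
theorem F37903 : act 3 n8048 = n8048 := d25_1 D8048 (iv D8048) F30406
theorem F37904 : act 8 n8048 = n6458 := d37_2 D6373 D8048 (iv D6458) (iv D5148) (iv F24554)
theorem F37905 : act 9 n8048 = n6374 := d38_2 (iv F30407) D8048 (iv D6374)
def n8049 : Q := act 4 n6374
theorem D8049 : act 4 n6374 = n8049 := rfl
theorem F37906 : act 1 n8049 = n6387 := d11_1 D8049 (iv D6387) (iv F30408)
theorem F37907 : act 8 n8049 = n6376 := d33_2 (iv F30410) D8049 (iv D6376)
def n8050 : Q := act 6 n6374
theorem D8050 : act 6 n6374 = n8050 := rfl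
theorem F37908 : act 1 n8050 = n6388 := d13_1 D8050 (iv D6388) (iv F30408)
theorem F37909 : act 3 n8050 = n8050 := d26_1 D8050 (iv D8050) F30409
theorem F37910 : act 8 n8050 = n6377 := d40_2 (iv F30410) D8050 (iv D6377)
def n8051 : Q := act 4 n6375
theorem D8051 : act 4 n6375 = n8051 := rfl
theorem F37911 : act 1 n8051 = n6389 := d11_1 D8051 (iv D6389) (iv F30411)
theorem F37912 : act 5 n8051 = n6565 := d30_2 D6375 D8051 (iv D6565) (iv D5230) (iv F24559)
theorem F37913 : act 7 n8051 = n6376 := d32_2 (iv F30413) D8051 (iv D6376)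
theorem F37914 : act 9 n8051 = n6461 := d34_2 (iv F30414) D8051 (iv D6461)
def n8052 : Q := act 6 n6375
theorem D8052 : act 6 n6375 = n8052 := rfl
theorem F37915 : act 1 n8052 = n6390 := d13_1 D8052 (iv D6390) (iv F30411)
theorem F37916 : act 3 n8052 = n8052 := d26_1 D8052 (iv D8052) F30412
theorem F37917 : act 5 n8052 = n8052 := d35_1 D8052 (iv D8052) (iv D6375) F24560 D6375
theorem F37918 : act 9 n8052 = n6462 := d41_2 (iv F30414) D8052 (iv D6462)
def n8053 : Q := act 3 n6376
theorem D8053 : act 3 n6376 = n8053 := rfl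
theorem F37919 : act 1 n8053 = n6391 := d10_1 D8053 (iv D6391) (iv F30415)
theorem F37921 : act 5 n8053 = n6567 := d25_2 (iv F30416) D8053 (iv D6567)
theorem F37922 : act 9 n8053 = n6463 := d29_2 (iv F30417) D8053 (iv D6463)
def n8054 : Q := act 6 n6376
theorem D8054 : act 6 n6376 = n8054 := rfl
theorem F37923 : act 1 n8054 = n6392 := d13_1 D8054 (iv D6392) (iv F30415)
theorem F37924 : act 4 n8054 = n6377 := d31_1 D8054 (iv D6377) D6376
theorem F37925 : act 9 n8054 = n6464 := d41_2 (iv F30417) D8054 (iv D6464)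
def n8055 : Q := act 7 n6377
theorem D8055 : act 7 n6377 = n8055 := rfl
theorem F37926 : act 1 n8055 = n6393 := d14_1 D8055 (iv D6393) (iv F30418)
theorem F37927 : act 3 n8055 = n8055 := d27_1 D8055 (iv D8055) F30419
theorem F37928 : act 5 n8055 = n6380 := d36_1 D8055 (iv D6380) (iv F30420)
theorem F37929 : act 9 n8055 = n6465 := d43_2 (iv F30421) D8055 (iv D6465)
def n8057 : Q := act 6 n6378
theorem D8057 : act 6 n6378 = n8057 := rfl
theorem F37935 : act 1 n8057 = n6394 := d13_1 D8057 (iv D6394) (iv F30422)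
theorem F37936 : act 3 n8057 = n6379 := d26_1 D8057 (iv D6379) D6378
def n8058 : Q := act 5 n6379
theorem D8058 : act 5 n6379 = n8058 := rfl
theorem F37939 : act 1 n8058 = n6395 := d12_1 D8058 (iv D6395) (iv F30427)
theorem F37940 : act 6 n8058 = n6572 := d35_2 D6379 D8058 (iv D6572) (iv D5234) (iv F24567)
def n8059 : Q := act 7 n6379
theorem D8059 : act 7 n6379 = n8059 := rfl
theorem F37942 : act 1 n8059 = n6396 := d14_1 D8059 (iv D6396) (iv F30427)
theorem F37943 : act 4 n8059 = n6380 := d32_1 D8059 (iv D6380) (iv F30428)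
theorem F37944 : act 6 n8059 = n8059 := d39_1 D8059 (iv D8059) (iv D6379) F24568 D6379
theorem F37945 : act 9 n8059 = n6469 := d43_2 (iv F30429) D8059 (iv D6469)
def n8060 : Q := act 5 n6381
theorem D8060 : act 5 n6381 = n8060 := rfl
theorem F37946 : act 0 n8060 = n8060 := d4_1 D8060 (iv D8060) F30434
theorem F37947 : act 2 n8060 = n6397 := d19_1 D8060 (iv D6397) (iv F30435)
theorem F37948 : act 3 n8060 = n6419 := d25_1 D8060 (iv D6419) (iv F30436)
theorem F37949 : act 7 n8060 = n6382 := d36_2 (iv F30439) D8060 (iv D6382)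
theorem F37950 : act 8 n8060 = n6575 := d37_2 D6381 D8060 (iv D6575) (iv D5237) (iv F24577)
theorem F37951 : act 9 n8060 = n6401 := d38_2 (iv F30440) D8060 (iv D6401)
def n8061 : Q := act 4 n6382
theorem D8061 : act 4 n6382 = n8061 := rfl
theorem F37952 : act 0 n8061 = n8061 := d3_1 D8061 (iv D8061) F30441
theorem F37953 : act 2 n8061 = n6399 := d18_1 D8061 (iv D6399) (iv F30442)
theorem F37954 : act 5 n8061 = n6387 := d30_2 D6382 D8061 (iv D6387) (iv D5095) (iv F24582)
theorem F37955 : act 8 n8061 = n6576 := d33_2 (iv F30443) D8061 (iv D6576)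
def n8062 : Q := act 6 n6382
theorem D8062 : act 6 n6382 = n8062 := rfl
theorem F37956 : act 0 n8062 = n8062 := d5_1 D8062 (iv D8062) F30441
theorem F37957 : act 2 n8062 = n6400 := d20_1 D8062 (iv D6400) (iv F30442)
theorem F37958 : act 8 n8062 = n6577 := d40_2 (iv F30443) D8062 (iv D6577)
def n8063 : Q := act 5 n6383
theorem D8063 : act 5 n6383 = n8063 := rfl
theorem F37959 : act 0 n8063 = n8063 := d4_1 D8063 (iv D8063) F30444
theorem F37960 : act 2 n8063 = n6401 := d19_1 D8063 (iv D6401) (iv F30445)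
theorem F37961 : act 3 n8063 = n8063 := d25_1 D8063 (iv D8063) F30446
theorem F37962 : act 7 n8063 = n6398 := d36_2 (iv F30449) D8063 (iv D6398)
theorem F37963 : act 8 n8063 = n8063 := d37_2 D6383 D8063 (iv D8063) (iv D6383) F24587
theorem F37964 : act 9 n8063 = n6397 := d38_2 (iv F30450) D8063 (iv D6397)
def n8064 : Q := act 5 n6384
theorem D8064 : act 5 n6384 = n8064 := rfl
theorem F37965 : act 0 n8064 = n8064 := d4_1 D8064 (iv D8064) F30451
theorem F37966 : act 2 n8064 = n6402 := d19_1 D8064 (iv D6402) (iv F30452)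
theorem F37967 : act 3 n8064 = n8064 := d25_1 D8064 (iv D8064) F30453
theorem F37968 : act 7 n8064 = n6386 := d36_2 (iv F30456) D8064 (iv D6386)
theorem F37969 : act 8 n8064 = n6470 := d37_2 D6384 D8064 (iv D6470) (iv D5156) (iv F24594)
theorem F37970 : act 9 n8064 = n6385 := d38_2 (iv F30457) D8064 (iv D6385)
def n8065 : Q := act 4 n6385
theorem D8065 : act 4 n6385 = n8065 := rfl
theorem F37971 : act 0 n8065 = n8065 := d3_1 D8065 (iv D8065) F30458
theorem F37972 : act 2 n8065 = n6403 := d18_1 D8065 (iv D6403) (iv F30459)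
theorem F37973 : act 7 n8065 = n6387 := d32_2 (iv F30461) D8065 (iv D6387)
theorem F37974 : act 8 n8065 = n6389 := d33_2 (iv F30462) D8065 (iv D6389)
def n8066 : Q := act 6 n6385
theorem D8066 : act 6 n6385 = n8066 := rfl
theorem F37975 : act 0 n8066 = n8066 := d5_1 D8066 (iv D8066) F30458
theorem F37976 : act 2 n8066 = n6404 := d20_1 D8066 (iv D6404) (iv F30459)
theorem F37977 : act 3 n8066 = n8066 := d26_1 D8066 (iv D8066) F30460
theorem F37978 : act 8 n8066 = n6390 := d40_2 (iv F30462) D8066 (iv D6390)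
def n8067 : Q := act 4 n6386
theorem D8067 : act 4 n6386 = n8067 := rfl
theorem F37979 : act 0 n8067 = n8067 := d3_1 D8067 (iv D8067) F30463
theorem F37980 : act 2 n8067 = n6405 := d18_1 D8067 (iv D6405) (iv F30464)
theorem F37981 : act 8 n8067 = n6473 := d33_2 (iv F30466) D8067 (iv D6473)
theorem F37982 : act 9 n8067 = n6387 := d34_2 (iv F30467) D8067 (iv D6387)
def n8068 : Q := act 6 n6386
theorem D8068 : act 6 n6386 = n8068 := rfl
theorem F37983 : act 0 n8068 = n8068 := d5_1 D8068 (iv D8068) F30463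
theorem F37984 : act 2 n8068 = n6406 := d20_1 D8068 (iv D6406) (iv F30464)
theorem F37985 : act 3 n8068 = n8068 := d26_1 D8068 (iv D8068) F30465
theorem F37986 : act 8 n8068 = n6474 := d40_2 (iv F30466) D8068 (iv D6474)
theorem F37987 : act 9 n8068 = n6388 := d41_2 (iv F30467) D8068 (iv D6388)
def n8069 : Q := act 3 n6387
theorem D8069 : act 3 n6387 = n8069 := rfl
theorem F37988 : act 0 n8069 = n8069 := d2_1 D8069 (iv D8069) F30468
theorem F37989 : act 4 n8069 = n8069 := d24_2 D6387 D8069 (iv D8069) (iv D6387) F24607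
theorem F37990 : act 8 n8069 = n6391 := d28_2 (iv F30470) D8069 (iv D6391)
def n8070 : Q := act 6 n6387
theorem D8070 : act 6 n6387 = n8070 := rfl
theorem F37991 : act 0 n8070 = n8070 := d5_1 D8070 (iv D8070) F30468
theorem F37992 : act 2 n8070 = n6408 := d20_1 D8070 (iv D6408) (iv F30469)
theorem F37993 : act 4 n8070 = n6388 := d31_1 D8070 (iv D6388) D6387
theorem F37994 : act 8 n8070 = n6392 := d40_2 (iv F30470) D8070 (iv D6392)
def n8071 : Q := act 7 n6388
theorem D8071 : act 7 n6388 = n8071 := rfl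
theorem F37995 : act 0 n8071 = n8071 := d6_1 D8071 (iv D8071) F30471
theorem F37996 : act 2 n8071 = n6409 := d21_1 D8071 (iv D6409) (iv F30472)
theorem F37997 : act 3 n8071 = n8071 := d27_1 D8071 (iv D8071) F30473
theorem F37998 : act 8 n8071 = n6393 := d42_2 (iv F30474) D8071 (iv D6393)
def n8072 : Q := act 3 n6389
theorem D8072 : act 3 n6389 = n8072 := rfl
theorem F37999 : act 0 n8072 = n8072 := d2_1 D8072 (iv D8072) F30475
theorem F38000 : act 4 n8072 = n8072 := d24_2 D6389 D8072 (iv D8072) (iv D6389) F24611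
theorem F38001 : act 5 n8072 = n6584 := d25_2 (iv F30477) D8072 (iv D6584)
theorem F38002 : act 7 n8072 = n6391 := d27_2 (iv F30478) D8072 (iv D6391)
theorem F38003 : act 9 n8072 = n6478 := d29_2 (iv F30479) D8072 (iv D6478)
def n8073 : Q := act 6 n6389
theorem D8073 : act 6 n6389 = n8073 := rfl
theorem F38004 : act 0 n8073 = n8073 := d5_1 D8073 (iv D8073) F30475
theorem F38005 : act 2 n8073 = n6411 := d20_1 D8073 (iv D6411) (iv F30476)
theorem F38006 : act 4 n8073 = n6390 := d31_1 D8073 (iv D6390) D6389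
theorem F38007 : act 9 n8073 = n6479 := d41_2 (iv F30479) D8073 (iv D6479)
def n8074 : Q := act 7 n6390
theorem D8074 : act 7 n6390 = n8074 := rfl
theorem F38008 : act 0 n8074 = n8074 := d6_1 D8074 (iv D8074) F30480
theorem F38009 : act 2 n8074 = n6412 := d21_1 D8074 (iv D6412) (iv F30481)
theorem F38010 : act 3 n8074 = n8074 := d27_1 D8074 (iv D8074) F30482
theorem F38011 : act 5 n8074 = n8074 := d36_1 D8074 (iv D8074) F30483
theorem F38012 : act 6 n8074 = n6393 := d39_1 D8074 (iv D6393) (iv D5098) (iv F24612) D6390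
theorem F38013 : act 9 n8074 = n6480 := d43_2 (iv F30484) D8074 (iv D6480)
def n8075 : Q := act 2 n6391
theorem D8075 : act 2 n6391 = n8075 := rfl
theorem F38014 : act 0 n8075 = n8075 := d1_1 D8075 (iv D8075) F30485
theorem F38015 : act 3 n8075 = n6413 := d17_2 D6391 D8075 (iv D6413) (iv D5113) (iv F24615)
theorem F38016 : act 4 n8075 = n8075 := d18_2 F30486 D8075 (iv D8075)
theorem F38017 : act 5 n8075 = n6587 := d19_2 (iv F30487) D8075 (iv D6587)
theorem F38018 : act 9 n8075 = n6481 := d23_2 (iv F30488) D8075 (iv D6481)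
def n8076 : Q := act 6 n6391
theorem D8076 : act 6 n6391 = n8076 := rfl
theorem F38019 : act 0 n8076 = n8076 := d5_1 D8076 (iv D8076) F30485
theorem F38020 : act 3 n8076 = n6392 := d26_1 D8076 (iv D6392) D6391
theorem F38021 : act 4 n8076 = n8076 := d31_1 D8076 (iv D8076) F30486
theorem F38022 : act 9 n8076 = n6482 := d41_2 (iv F30488) D8076 (iv D6482)
def n8077 : Q := act 5 n6392
theorem D8077 : act 5 n6392 = n8077 := rfl
theorem F38023 : act 0 n8077 = n8077 := d4_1 D8077 (iv D8077) F30489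
theorem F38024 : act 2 n8077 = n6415 := d19_1 D8077 (iv D6415) (iv F30490)
theorem F38025 : act 4 n8077 = n6395 := d30_1 D8077 (iv D6395) F24631 (iv F24621) (iv F30491)
theorem F38026 : act 6 n8077 = n6589 := d35_2 D6392 D8077 (iv D6589) (iv D5246) (iv F24616)
theorem F38027 : act 9 n8077 = n6483 := d38_2 (iv F30492) D8077 (iv D6483)
def n8078 : Q := act 7 n6392
theorem D8078 : act 7 n6392 = n8078 := rfl
theorem F38028 : act 0 n8078 = n8078 := d6_1 D8078 (iv D8078) F30489
theorem F38029 : act 2 n8078 = n6416 := d21_1 D8078 (iv D6416) (iv F30490)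
theorem F38030 : act 4 n8078 = n6393 := d32_1 D8078 (iv D6393) (iv F30491)
theorem F38031 : act 9 n8078 = n6484 := d43_2 (iv F30492) D8078 (iv D6484)
def n8079 : Q := act 5 n6394
theorem D8079 : act 5 n6394 = n8079 := rfl
theorem F38034 : act 3 n8079 = n6395 := d25_1 D8079 (iv D6395) (iv F30500)
theorem F38035 : act 6 n8079 = n6591 := d35_2 D6394 D8079 (iv D6591) (iv D5248) (iv F24626)
def n8080 : Q := act 7 n6394
theorem D8080 : act 7 n6394 = n8080 := rfl
theorem F38037 : act 0 n8080 = n8080 := d6_1 D8080 (iv D8080) F30498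
theorem F38038 : act 2 n8080 = n8080 := d21_1 D8080 (iv D8080) F30499
theorem F38039 : act 3 n8080 = n6396 := d27_1 D8080 (iv D6396) (iv F30500)
theorem F38040 : act 4 n8080 = n8080 := d32_1 D8080 (iv D8080) F30501
theorem F38041 : act 6 n8080 = n8080 := d39_1 D8080 (iv D8080) (iv D6394) F24627 D6394
theorem F38042 : act 9 n8080 = n6486 := d43_2 (iv F30502) D8080 (iv D6486)
def n8081 : Q := act 7 n6395
theorem D8081 : act 7 n6395 = n8081 := rfl
theorem F38043 : act 0 n8081 = n8081 := d6_1 D8081 (iv D8081) F30503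
theorem F38044 : act 2 n8081 = n6417 := d21_1 D8081 (iv D6417) (iv F30504)
theorem F38045 : act 5 n8081 = n6396 := d36_1 D8081 (iv D6396) D6395
theorem F38046 : act 9 n8081 = n6487 := d43_2 (iv F30506) D8081 (iv D6487)
def n8082 : Q := act 8 n6395
theorem D8082 : act 8 n6395 = n8082 := rfl
theorem F38047 : act 0 n8082 = n8082 := d7_1 D8082 (iv D8082) F30503
theorem F38048 : act 2 n8082 = n6418 := d22_1 D8082 (iv D6418) (iv F30504)
theorem F38049 : act 6 n8082 = n6594 := d40_1 D8082 (iv D6594) (iv F30505)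
def n8083 : Q := act 4 n6397
theorem D8083 : act 4 n6397 = n8083 := rfl
theorem F38050 : act 0 n8083 = n8083 := d3_1 D8083 (iv D8083) F30512
theorem F38051 : act 5 n8083 = n6403 := d30_2 D6397 D8083 (iv D6403) (iv D5107) (iv F24640)
theorem F38052 : act 7 n8083 = n6399 := d32_2 (iv F30514) D8083 (iv D6399)
theorem F38053 : act 8 n8083 = n6596 := d33_2 (iv F30515) D8083 (iv D6596)
def n8084 : Q := act 6 n6397
theorem D8084 : act 6 n6397 = n8084 := rfl
theorem F38054 : act 0 n8084 = n8084 := d5_1 D8084 (iv D8084) F30512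
theorem F38055 : act 3 n8084 = n8084 := d26_1 D8084 (iv D8084) F30513
theorem F38056 : act 8 n8084 = n6597 := d40_2 (iv F30515) D8084 (iv D6597)
def n8085 : Q := act 4 n6398
theorem D8085 : act 4 n6398 = n8085 := rfl
theorem F38057 : act 0 n8085 = n8085 := d3_1 D8085 (iv D8085) F30516
theorem F38058 : act 5 n8085 = n6405 := d30_2 D6398 D8085 (iv D6405) (iv D5108) (iv F24644)
theorem F38059 : act 8 n8085 = n8085 := d33_2 F30518 D8085 (iv D8085)
theorem F38060 : act 9 n8085 = n6399 := d34_2 (iv F30519) D8085 (iv D6399)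
def n8086 : Q := act 6 n6398
theorem D8086 : act 6 n6398 = n8086 := rfl
theorem F38061 : act 0 n8086 = n8086 := d5_1 D8086 (iv D8086) F30516
theorem F38062 : act 3 n8086 = n8086 := d26_1 D8086 (iv D8086) F30517
theorem F38063 : act 8 n8086 = n8086 := d40_2 F30518 D8086 (iv D8086)
theorem F38064 : act 9 n8086 = n6400 := d41_2 (iv F30519) D8086 (iv D6400)
def n8087 : Q := act 3 n6399
theorem D8087 : act 3 n6399 = n8087 := rfl
theorem F38065 : act 0 n8087 = n8087 := d2_1 D8087 (iv D8087) F30520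
theorem F38066 : act 4 n8087 = n8087 := d24_2 D6399 D8087 (iv D8087) (iv D6399) F24647
theorem F38067 : act 5 n8087 = n6407 := d25_2 (iv F30521) D8087 (iv D6407)
theorem F38068 : act 8 n8087 = n6598 := d28_2 (iv F30522) D8087 (iv D6598)
def n8088 : Q := act 6 n6399
theorem D8088 : act 6 n6399 = n8088 := rfl
theorem F38069 : act 0 n8088 = n8088 := d5_1 D8088 (iv D8088) F30520
theorem F38070 : act 4 n8088 = n6400 := d31_1 D8088 (iv D6400) D6399
theorem F38071 : act 8 n8088 = n6599 := d40_2 (iv F30522) D8088 (iv D6599)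
def n8089 : Q := act 7 n6400
theorem D8089 : act 7 n6400 = n8089 := rfl
theorem F38072 : act 0 n8089 = n8089 := d6_1 D8089 (iv D8089) F30523
theorem F38073 : act 3 n8089 = n8089 := d27_1 D8089 (iv D8089) F30524
theorem F38074 : act 8 n8089 = n6600 := d42_2 (iv F30525) D8089 (iv D6600)
def n8090 : Q := act 4 n6401
theorem D8090 : act 4 n6401 = n8090 := rfl
theorem F38075 : act 0 n8090 = n8090 := d3_1 D8090 (iv D8090) F30526
theorem F38076 : act 8 n8090 = n8090 := d33_2 F30528 D8090 (iv D8090)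
def n8091 : Q := act 6 n6401
theorem D8091 : act 6 n6401 = n8091 := rfl
theorem F38077 : act 0 n8091 = n8091 := d5_1 D8091 (iv D8091) F30526
theorem F38078 : act 3 n8091 = n6421 := d26_1 D8091 (iv D6421) (iv F30527)
theorem F38079 : act 5 n8091 = n6404 := d35_1 D8091 (iv D6404) (iv D5107) (iv F24651) D6401
theorem F38080 : act 8 n8091 = n8091 := d40_2 F30528 D8091 (iv D8091)
def n8092 : Q := act 4 n6402
theorem D8092 : act 4 n6402 = n8092 := rfl
theorem F38081 : act 0 n8092 = n8092 := d3_1 D8092 (iv D8092) F30529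
theorem F38082 : act 7 n8092 = n6405 := d32_2 (iv F30531) D8092 (iv D6405)
theorem F38083 : act 8 n8092 = n6489 := d33_2 (iv F30532) D8092 (iv D6489)
theorem F38084 : act 9 n8092 = n6403 := d34_2 (iv F30533) D8092 (iv D6403)
def n8093 : Q := act 6 n6402
theorem D8093 : act 6 n6402 = n8093 := rfl
theorem F38085 : act 0 n8093 = n8093 := d5_1 D8093 (iv D8093) F30529
theorem F38086 : act 3 n8093 = n6423 := d26_1 D8093 (iv D6423) (iv F30530)
theorem F38087 : act 8 n8093 = n6490 := d40_2 (iv F30532) D8093 (iv D6490)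
theorem F38088 : act 9 n8093 = n6404 := d41_2 (iv F30533) D8093 (iv D6404)
def n8094 : Q := act 3 n6403
theorem D8094 : act 3 n6403 = n8094 := rfl
theorem F38089 : act 0 n8094 = n8094 := d2_1 D8094 (iv D8094) F30534
theorem F38090 : act 4 n8094 = n6424 := d24_2 D6403 D8094 (iv D6424) (iv D5121) (iv F24657)
theorem F38091 : act 7 n8094 = n6407 := d27_2 (iv F30535) D8094 (iv D6407)
theorem F38092 : act 8 n8094 = n6410 := d28_2 (iv F30536) D8094 (iv D6410)
def n8095 : Q := act 6 n6403
theorem D8095 : act 6 n6403 = n8095 := rfl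
theorem F38093 : act 0 n8095 = n8095 := d5_1 D8095 (iv D8095) F30534
theorem F38094 : act 4 n8095 = n6404 := d31_1 D8095 (iv D6404) D6403
theorem F38095 : act 8 n8095 = n6411 := d40_2 (iv F30536) D8095 (iv D6411)
def n8096 : Q := act 7 n6404
theorem D8096 : act 7 n6404 = n8096 := rfl
theorem F38096 : act 0 n8096 = n8096 := d6_1 D8096 (iv D8096) F30537
theorem F38097 : act 3 n8096 = n6426 := d27_1 D8096 (iv D6426) (iv F30538)
theorem F38098 : act 6 n8096 = n6409 := d39_1 D8096 (iv D6409) (iv D5110) (iv F24658) D6404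
theorem F38099 : act 8 n8096 = n6412 := d42_2 (iv F30539) D8096 (iv D6412)
def n8097 : Q := act 3 n6405
theorem D8097 : act 3 n6405 = n8097 := rfl
theorem F38100 : act 0 n8097 = n8097 := d2_1 D8097 (iv D8097) F30540
theorem F38101 : act 4 n8097 = n6427 := d24_2 D6405 D8097 (iv D6427) (iv D5123) (iv F24661)
theorem F38102 : act 8 n8097 = n6494 := d28_2 (iv F30541) D8097 (iv D6494)
theorem F38103 : act 9 n8097 = n6407 := d29_2 (iv F30542) D8097 (iv D6407)
def n8098 : Q := act 6 n6405
theorem D8098 : act 6 n6405 = n8098 := rfl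
theorem F38104 : act 0 n8098 = n8098 := d5_1 D8098 (iv D8098) F30540
theorem F38105 : act 4 n8098 = n6406 := d31_1 D8098 (iv D6406) D6405
theorem F38106 : act 8 n8098 = n6495 := d40_2 (iv F30541) D8098 (iv D6495)
theorem F38107 : act 9 n8098 = n6408 := d41_2 (iv F30542) D8098 (iv D6408)
def n8099 : Q := act 7 n6406
theorem D8099 : act 7 n6406 = n8099 := rfl
theorem F38108 : act 0 n8099 = n8099 := d6_1 D8099 (iv D8099) F30543
theorem F38109 : act 3 n8099 = n6429 := d27_1 D8099 (iv D6429) (iv F30544)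
theorem F38110 : act 8 n8099 = n6496 := d42_2 (iv F30545) D8099 (iv D6496)
theorem F38111 : act 9 n8099 = n6409 := d43_2 (iv F30546) D8099 (iv D6409)
def n8100 : Q := act 2 n6407
theorem D8100 : act 2 n6407 = n8100 := rfl
theorem F38112 : act 0 n8100 = n8100 := d1_1 D8100 (iv D8100) F30547
theorem F38113 : act 4 n8100 = n6430 := d18_2 (iv F30548) D8100 (iv D6430)
theorem F38114 : act 8 n8100 = n6413 := d22_2 (iv F30549) D8100 (iv D6413)
def n8101 : Q := act 6 n6407
theorem D8101 : act 6 n6407 = n8101 := rfl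
theorem F38115 : act 0 n8101 = n8101 := d5_1 D8101 (iv D8101) F30547
theorem F38116 : act 3 n8101 = n6408 := d26_1 D8101 (iv D6408) D6407
theorem F38117 : act 4 n8101 = n6431 := d31_1 D8101 (iv D6431) (iv F30548)
theorem F38118 : act 8 n8101 = n6414 := d40_2 (iv F30549) D8101 (iv D6414)
def n8102 : Q := act 5 n6408
theorem D8102 : act 5 n6408 = n8102 := rfl
theorem F38119 : act 0 n8102 = n8102 := d4_1 D8102 (iv D8102) F30550
def n8103 : Q := act 7 n6408
theorem D8103 : act 7 n6408 = n8103 := rfl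
theorem F38120 : act 0 n8103 = n8103 := d6_1 D8103 (iv D8103) F30550
theorem F38121 : act 4 n8103 = n6409 := d32_1 D8103 (iv D6409) (iv F30551)
theorem F38122 : act 8 n8103 = n6416 := d42_2 (iv F30552) D8103 (iv D6416)
def n8104 : Q := act 2 n6410
theorem D8104 : act 2 n6410 = n8104 := rfl
theorem F38125 : act 5 n8104 = n6610 := d19_2 (iv F30558) D8104 (iv D6610)
theorem F38126 : act 7 n8104 = n6413 := d21_2 (iv F30559) D8104 (iv D6413)
def n8105 : Q := act 6 n6410
theorem D8105 : act 6 n6410 = n8105 := rfl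
theorem F38129 : act 3 n8105 = n6411 := d26_1 D8105 (iv D6411) D6410
def n8106 : Q := act 5 n6411
theorem D8106 : act 5 n6411 = n8106 := rfl
theorem F38134 : act 6 n8106 = n6612 := d35_2 D6411 D8106 (iv D6612) (iv D5262) (iv F24670)
def n8107 : Q := act 7 n6411
theorem D8107 : act 7 n6411 = n8107 := rfl
theorem F38136 : act 0 n8107 = n8107 := d6_1 D8107 (iv D8107) F30561
theorem F38137 : act 4 n8107 = n6412 := d32_1 D8107 (iv D6412) (iv F30562)
theorem F38138 : act 6 n8107 = n6416 := d39_1 D8107 (iv D6416) (iv D5114) (iv F24671) D6411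
theorem F38139 : act 9 n8107 = n6504 := d43_2 (iv F30563) D8107 (iv D6504)
def n8108 : Q := act 1 n6413
theorem D8108 : act 1 n6413 = n8108 := rfl
theorem F38141 : act 5 n8108 = n6614 := d12_2 (iv F30571) D8108 (iv D6614)
theorem F38142 : act 9 n8108 = n6505 := d16_2 (iv F30572) D8108 (iv D6505)
def n8109 : Q := act 6 n6413
theorem D8109 : act 6 n6413 = n8109 := rfl
theorem F38143 : act 0 n8109 = n8109 := d5_1 D8109 (iv D8109) F30569
theorem F38144 : act 2 n8109 = n6414 := d20_1 D8109 (iv D6414) D6413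
theorem F38145 : act 4 n8109 = n6439 := d31_1 D8109 (iv D6439) (iv F30570)
theorem F38146 : act 9 n8109 = n6506 := d41_2 (iv F30572) D8109 (iv D6506)
def n8110 : Q := act 5 n6414
theorem D8110 : act 5 n6414 = n8110 := rfl
theorem F38147 : act 0 n8110 = n8110 := d4_1 D8110 (iv D8110) F30573
theorem F38148 : act 3 n8110 = n6415 := d25_1 D8110 (iv D6415) (iv F30574)
theorem F38149 : act 4 n8110 = n8110 := d30_1 D8110 (iv D8110) F30575 F24756 (iv F30575)
theorem F38150 : act 6 n8110 = n6616 := d35_2 D6414 D8110 (iv D6616) (iv D5265) (iv F24679)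
theorem F38151 : act 9 n8110 = n6507 := d38_2 (iv F30576) D8110 (iv D6507)
def n8111 : Q := act 7 n6414
theorem D8111 : act 7 n6414 = n8111 := rfl
theorem F38152 : act 0 n8111 = n8111 := d6_1 D8111 (iv D8111) F30573
theorem F38153 : act 3 n8111 = n6416 := d27_1 D8111 (iv D6416) (iv F30574)
theorem F38154 : act 4 n8111 = n6440 := d32_1 D8111 (iv D6440) (iv F30575)
theorem F38155 : act 9 n8111 = n6508 := d43_2 (iv F30576) D8111 (iv D6508)
def n8112 : Q := act 7 n6415
theorem D8112 : act 7 n6415 = n8112 := rfl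
theorem F38156 : act 0 n8112 = n8112 := d6_1 D8112 (iv D8112) F30577
theorem F38157 : act 4 n8112 = n6417 := d32_1 D8112 (iv D6417) (iv F30578)
theorem F38158 : act 5 n8112 = n6416 := d36_1 D8112 (iv D6416) D6415
theorem F38159 : act 9 n8112 = n6509 := d43_2 (iv F30580) D8112 (iv D6509)
def n8113 : Q := act 8 n6415
theorem D8113 : act 8 n6415 = n8113 := rfl
theorem F38160 : act 0 n8113 = n8113 := d7_1 D8113 (iv D8113) F30577
theorem F38161 : act 4 n8113 = n6418 := d33_1 D8113 (iv D6418) (iv F30578)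
theorem F38162 : act 6 n8113 = n6619 := d40_1 D8113 (iv D6619) (iv F30579)
def n8114 : Q := act 6 n6417
theorem D8114 : act 6 n6417 = n8114 := rfl
theorem F38163 : act 0 n8114 = n8114 := d5_1 D8114 (iv D8114) F30584
theorem F38164 : act 3 n8114 = n8114 := d26_1 D8114 (iv D8114) F30585
theorem F38165 : act 5 n8114 = n8114 := d35_1 D8114 (iv D8114) F30586 F24695 (iv F30586)
theorem F38166 : act 7 n8114 = n6620 := d39_2 D6417 D8114 (iv D6620) (iv D5268) (iv F24690)
theorem F38167 : act 9 n8114 = n6511 := d41_2 (iv F30587) D8114 (iv D6511)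
def n8115 : Q := act 8 n6417
theorem D8115 : act 8 n6417 = n8115 := rfl
theorem F38168 : act 0 n8115 = n8115 := d7_1 D8115 (iv D8115) F30584
theorem F38169 : act 3 n8115 = n8115 := d28_1 D8115 (iv D8115) F30585
theorem F38170 : act 7 n8115 = n6418 := d42_1 D8115 (iv D6418) D6417
def n8116 : Q := act 9 n6418
theorem D8116 : act 9 n6418 = n8116 := rfl
theorem F38171 : act 0 n8116 = n8116 := d8_1 D8116 (iv D8116) F30588
theorem F38172 : act 3 n8116 = n8116 := d29_1 D8116 (iv D8116) F30589
theorem F38173 : act 6 n8116 = n6622 := d41_1 D8116 (iv D6622) (iv F30590)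
theorem F38174 : act 8 n8116 = n6513 := d44_1 D8116 (iv D6513) (iv D5185) (iv F24691) D6418
def n8117 : Q := act 4 n6419
theorem D8117 : act 4 n6419 = n8117 := rfl
theorem F38175 : act 0 n8117 = n8117 := d3_1 D8117 (iv D8117) F30591
theorem F38176 : act 2 n8117 = n8117 := d18_1 D8117 (iv D8117) F30592
theorem F38177 : act 5 n8117 = n8117 := d30_2 D6419 D8117 (iv D8117) (iv D6419) F24699
theorem F38178 : act 9 n8117 = n6420 := d34_2 (iv F30593) D8117 (iv D6420)
def n8118 : Q := act 6 n6419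
theorem D8118 : act 6 n6419 = n8118 := rfl
theorem F38179 : act 0 n8118 = n8118 := d5_1 D8118 (iv D8118) F30591
theorem F38180 : act 2 n8118 = n8118 := d20_1 D8118 (iv D8118) F30592
theorem F38181 : act 5 n8118 = n6423 := d35_1 D8118 (iv D6423) (iv D5120) (iv F24700) D6419
theorem F38182 : act 9 n8118 = n6421 := d41_2 (iv F30593) D8118 (iv D6421)
def n8119 : Q := act 3 n6420
theorem D8119 : act 3 n6420 = n8119 := rfl
theorem F38183 : act 0 n8119 = n8119 := d2_1 D8119 (iv D8119) F30594
theorem F38184 : act 5 n8119 = n8119 := d25_2 F30596 D8119 (iv D8119)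
theorem F38185 : act 8 n8119 = n8119 := d28_2 F30597 D8119 (iv D8119)
def n8120 : Q := act 6 n6420
theorem D8120 : act 6 n6420 = n8120 := rfl
theorem F38186 : act 0 n8120 = n8120 := d5_1 D8120 (iv D8120) F30594
theorem F38187 : act 2 n8120 = n8120 := d20_1 D8120 (iv D8120) F30595
theorem F38188 : act 4 n8120 = n6421 := d31_1 D8120 (iv D6421) D6420
theorem F38189 : act 8 n8120 = n8120 := d40_2 F30597 D8120 (iv D8120)
def n8121 : Q := act 7 n6421
theorem D8121 : act 7 n6421 = n8121 := rfl
theorem F38190 : act 0 n8121 = n8121 := d6_1 D8121 (iv D8121) F30598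
theorem F38191 : act 2 n8121 = n8121 := d21_1 D8121 (iv D8121) F30599
theorem F38192 : act 5 n8121 = n6426 := d36_1 D8121 (iv D6426) (iv F30600)
theorem F38193 : act 8 n8121 = n8121 := d42_2 F30601 D8121 (iv D8121)
def n8122 : Q := act 3 n6422
theorem D8122 : act 3 n6422 = n8122 := rfl
theorem F38194 : act 0 n8122 = n8122 := d2_1 D8122 (iv D8122) F30602
theorem F38195 : act 5 n8122 = n8122 := d25_2 F30604 D8122 (iv D8122)
theorem F38196 : act 7 n8122 = n6427 := d27_2 (iv F30605) D8122 (iv D6427)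
theorem F38197 : act 8 n8122 = n6514 := d28_2 (iv F30606) D8122 (iv D6514)
theorem F38198 : act 9 n8122 = n6424 := d29_2 (iv F30607) D8122 (iv D6424)
def n8123 : Q := act 6 n6422
theorem D8123 : act 6 n6422 = n8123 := rfl
theorem F38199 : act 0 n8123 = n8123 := d5_1 D8123 (iv D8123) F30602
theorem F38200 : act 2 n8123 = n8123 := d20_1 D8123 (iv D8123) F30603
theorem F38201 : act 4 n8123 = n6423 := d31_1 D8123 (iv D6423) D6422
theorem F38202 : act 8 n8123 = n6515 := d40_2 (iv F30606) D8123 (iv D6515)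
theorem F38203 : act 9 n8123 = n6425 := d41_2 (iv F30607) D8123 (iv D6425)
def n8124 : Q := act 7 n6423
theorem D8124 : act 7 n6423 = n8124 := rfl
theorem F38204 : act 0 n8124 = n8124 := d6_1 D8124 (iv D8124) F30608
theorem F38205 : act 2 n8124 = n8124 := d21_1 D8124 (iv D8124) F30609
theorem F38206 : act 6 n8124 = n6429 := d39_1 D8124 (iv D6429) (iv D5124) (iv F24707) D6423
theorem F38207 : act 8 n8124 = n6516 := d42_2 (iv F30610) D8124 (iv D6516)
theorem F38208 : act 9 n8124 = n6426 := d43_2 (iv F30611) D8124 (iv D6426)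
def n8125 : Q := act 2 n6424
theorem D8125 : act 2 n6424 = n8125 := rfl
theorem F38212 : act 7 n8125 = n6430 := d21_2 (iv F30614) D8125 (iv D6430)
def n8126 : Q := act 6 n6424
theorem D8126 : act 6 n6424 = n8126 := rfl
theorem F38215 : act 3 n8126 = n6425 := d26_1 D8126 (iv D6425) D6424
def n8127 : Q := act 5 n6425
theorem D8127 : act 5 n6425 = n8127 := rfl
theorem F38217 : act 0 n8127 = n8127 := d4_1 D8127 (iv D8127) F30616
theorem F38218 : act 2 n8127 = n8127 := d19_1 D8127 (iv D8127) F30617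
theorem F38219 : act 6 n8127 = n8127 := d35_2 D6425 D8127 (iv D8127) (iv D6425) F24712
def n8128 : Q := act 7 n6425
theorem D8128 : act 7 n6425 = n8128 := rfl
theorem F38220 : act 0 n8128 = n8128 := d6_1 D8128 (iv D8128) F30616
theorem F38221 : act 2 n8128 = n8128 := d21_1 D8128 (iv D8128) F30617
theorem F38222 : act 4 n8128 = n6426 := d32_1 D8128 (iv D6426) (iv F30618)
theorem F38223 : act 6 n8128 = n6433 := d39_1 D8128 (iv D6433) (iv D5126) (iv F24713) D6425
theorem F38224 : act 8 n8128 = n6437 := d42_2 (iv F30619) D8128 (iv D6437)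
def n8129 : Q := act 2 n6427
theorem D8129 : act 2 n6427 = n8129 := rfl
theorem F38225 : act 0 n8129 = n8129 := d1_1 D8129 (iv D8129) F30624
theorem F38226 : act 3 n8129 = n8129 := d17_2 D6427 D8129 (iv D8129) (iv D6427) F24719
theorem F38227 : act 5 n8129 = n8129 := d19_2 F30625 D8129 (iv D8129)
theorem F38228 : act 8 n8129 = n6520 := d22_2 (iv F30626) D8129 (iv D6520)
theorem F38229 : act 9 n8129 = n6430 := d23_2 (iv F30627) D8129 (iv D6430)
def n8130 : Q := act 6 n6427
theorem D8130 : act 6 n6427 = n8130 := rfl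
theorem F38230 : act 0 n8130 = n8130 := d5_1 D8130 (iv D8130) F30624
theorem F38231 : act 3 n8130 = n6428 := d26_1 D8130 (iv D6428) D6427
theorem F38232 : act 8 n8130 = n6521 := d40_2 (iv F30626) D8130 (iv D6521)
theorem F38233 : act 9 n8130 = n6431 := d41_2 (iv F30627) D8130 (iv D6431)
def n8131 : Q := act 5 n6428
theorem D8131 : act 5 n6428 = n8131 := rfl
theorem F38234 : act 0 n8131 = n8131 := d4_1 D8131 (iv D8131) F30628
theorem F38235 : act 2 n8131 = n8131 := d19_1 D8131 (iv D8131) F30629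
theorem F38236 : act 6 n8131 = n8131 := d35_2 D6428 D8131 (iv D8131) (iv D6428) F24720
theorem F38237 : act 9 n8131 = n6432 := d38_2 (iv F30632) D8131 (iv D6432)
def n8132 : Q := act 7 n6428
theorem D8132 : act 7 n6428 = n8132 := rfl
theorem F38238 : act 0 n8132 = n8132 := d6_1 D8132 (iv D8132) F30628
theorem F38239 : act 2 n8132 = n8132 := d21_1 D8132 (iv D8132) F30629
theorem F38240 : act 4 n8132 = n6429 := d32_1 D8132 (iv D6429) (iv F30630)
theorem F38241 : act 8 n8132 = n6523 := d42_2 (iv F30631) D8132 (iv D6523)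
theorem F38242 : act 9 n8132 = n6433 := d43_2 (iv F30632) D8132 (iv D6433)
def n8133 : Q := act 1 n6430
theorem D8133 : act 1 n6430 = n8133 := rfl
def n8134 : Q := act 6 n6430
theorem D8134 : act 6 n6430 = n8134 := rfl
theorem F38246 : act 0 n8134 = n8134 := d5_1 D8134 (iv D8134) F30637
theorem F38247 : act 2 n8134 = n6431 := d20_1 D8134 (iv D6431) D6430
theorem F38248 : act 3 n8134 = n8134 := d26_1 D8134 (iv D8134) F30638
theorem F38249 : act 8 n8134 = n6439 := d40_2 (iv F30640) D8134 (iv D6439)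
def n8135 : Q := act 5 n6431
theorem D8135 : act 5 n6431 = n8135 := rfl
theorem F38250 : act 0 n8135 = n8135 := d4_1 D8135 (iv D8135) F30641
theorem F38251 : act 3 n8135 = n6432 := d25_1 D8135 (iv D6432) (iv F30642)
theorem F38252 : act 6 n8135 = n8135 := d35_2 D6431 D8135 (iv D8135) (iv D6431) F24728
theorem F38253 : act 8 n8135 = n8135 := d37_2 (iv F30643) D8135 (iv D8135) F30643 F24756
def n8136 : Q := act 7 n6431
theorem D8136 : act 7 n6431 = n8136 := rfl
theorem F38254 : act 0 n8136 = n8136 := d6_1 D8136 (iv D8136) F30641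
theorem F38255 : act 3 n8136 = n6433 := d27_1 D8136 (iv D6433) (iv F30642)
theorem F38256 : act 8 n8136 = n6440 := d42_2 (iv F30643) D8136 (iv D6440)
def n8137 : Q := act 7 n6432
theorem D8137 : act 7 n6432 = n8137 := rfl
theorem F38257 : act 0 n8137 = n8137 := d6_1 D8137 (iv D8137) F30644
theorem F38258 : act 2 n8137 = n8137 := d21_1 D8137 (iv D8137) F30645
theorem F38259 : act 5 n8137 = n6433 := d36_1 D8137 (iv D6433) D6432
theorem F38260 : act 8 n8137 = n8137 := d42_2 F30647 D8137 (iv D8137)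
def n8139 : Q := act 6 n6434
theorem D8139 : act 6 n6434 = n8139 := rfl
def n8142 : Q := act 7 n6436
theorem D8142 : act 7 n6436 = n8142 := rfl
theorem F38280 : act 5 n8142 = n6437 := d36_1 D8142 (iv D6437) D6436
def n8143 : Q := act 8 n6436
theorem D8143 : act 8 n6436 = n8143 := rfl
def n8145 : Q := act 6 n6438
theorem D8145 : act 6 n6438 = n8145 := rfl
theorem F38292 : act 1 n8145 = n6439 := d13_1 D8145 (iv D6439) D6438
def n8146 : Q := act 7 n6439
theorem D8146 : act 7 n6439 = n8146 := rfl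
def n8149 : Q := act 5 n6442
theorem D8149 : act 5 n6442 = n8149 := rfl
def n8152 : Q := act 8 n6446
theorem D8152 : act 8 n6446 = n8152 := rfl
theorem F38328 : act 0 n8152 = n6456 := d7_1 D8152 (iv D6456) (iv F30710)
theorem F38329 : act 1 n8152 = n8152 := d15_1 D8152 (iv D8152) F30711
theorem F38330 : act 3 n8152 = n8152 := d28_1 D8152 (iv D8152) F30712
theorem F38331 : act 4 n8152 = n8152 := d33_1 D8152 (iv D8152) F30713
theorem F38332 : act 7 n8152 = n6448 := d42_1 D8152 (iv D6448) (iv F30714)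
theorem F38333 : act 9 n8152 = n6447 := d44_2 D6446 D8152 (iv D6447) (iv D5139) D5138
def n8153 : Q := act 5 n6447
theorem D8153 : act 5 n6447 = n8153 := rfl
theorem F38334 : act 0 n8153 = n6457 := d4_1 D8153 (iv D6457) (iv F30715)
theorem F38335 : act 1 n8153 = n8153 := d12_1 D8153 (iv D8153) F30716
theorem F38336 : act 3 n8153 = n8153 := d25_1 D8153 (iv D8153) F30717
theorem F38337 : act 7 n8153 = n6449 := d36_2 (iv F30719) D8153 (iv D6449)
theorem F38338 : act 8 n8153 = n6450 := d37_2 D6447 D8153 (iv D6450) (iv D5142) (iv F24794)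
def n8154 : Q := act 5 n6448
theorem D8154 : act 5 n6448 = n8154 := rfl
theorem F38339 : act 0 n8154 = n6458 := d4_1 D8154 (iv D6458) (iv F30720)
theorem F38340 : act 1 n8154 = n8154 := d12_1 D8154 (iv D8154) F30721
theorem F38341 : act 3 n8154 = n8154 := d25_1 D8154 (iv D8154) F30722
theorem F38342 : act 9 n8154 = n6449 := d38_2 (iv F30725) D8154 (iv D6449)
def n8155 : Q := act 4 n6449
theorem D8155 : act 4 n6449 = n8155 := rfl
theorem F38343 : act 0 n8155 = n6459 := d3_1 D8155 (iv D6459) (iv F30726)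
theorem F38344 : act 1 n8155 = n8155 := d11_1 D8155 (iv D8155) F30727
theorem F38345 : act 5 n8155 = n8155 := d30_2 D6449 D8155 (iv D8155) (iv D6449) F24804
theorem F38346 : act 8 n8155 = n6451 := d33_2 (iv F30729) D8155 (iv D6451)
def n8156 : Q := act 6 n6449
theorem D8156 : act 6 n6449 = n8156 := rfl
theorem F38347 : act 0 n8156 = n6460 := d5_1 D8156 (iv D6460) (iv F30726)
theorem F38348 : act 1 n8156 = n8156 := d13_1 D8156 (iv D8156) F30727
theorem F38349 : act 3 n8156 = n8156 := d26_1 D8156 (iv D8156) F30728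
theorem F38350 : act 5 n8156 = n8156 := d35_1 D8156 (iv D8156) (iv D6449) F24805 D6449
theorem F38351 : act 8 n8156 = n6452 := d40_2 (iv F30729) D8156 (iv D6452)
def n8157 : Q := act 4 n6450
theorem D8157 : act 4 n6450 = n8157 := rfl
theorem F38352 : act 0 n8157 = n6461 := d3_1 D8157 (iv D6461) (iv F30730)
theorem F38353 : act 1 n8157 = n8157 := d11_1 D8157 (iv D8157) F30731
theorem F38354 : act 5 n8157 = n6650 := d30_2 D6450 D8157 (iv D6650) (iv D5291) (iv F24809)
theorem F38355 : act 7 n8157 = n6451 := d32_2 (iv F30733) D8157 (iv D6451)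
def n8158 : Q := act 6 n6450
theorem D8158 : act 6 n6450 = n8158 := rfl
theorem F38356 : act 0 n8158 = n6462 := d5_1 D8158 (iv D6462) (iv F30730)
theorem F38357 : act 1 n8158 = n8158 := d13_1 D8158 (iv D8158) F30731
theorem F38358 : act 3 n8158 = n8158 := d26_1 D8158 (iv D8158) F30732
theorem F38359 : act 5 n8158 = n8158 := d35_1 D8158 (iv D8158) (iv D6450) F24810 D6450
def n8159 : Q := act 3 n6451
theorem D8159 : act 3 n6451 = n8159 := rfl
theorem F38363 : act 5 n8159 = n6652 := d25_2 (iv F30736) D8159 (iv D6652)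
def n8160 : Q := act 6 n6451
theorem D8160 : act 6 n6451 = n8160 := rfl
theorem F38364 : act 0 n8160 = n6464 := d5_1 D8160 (iv D6464) (iv F30734)
theorem F38365 : act 1 n8160 = n8160 := d13_1 D8160 (iv D8160) F30735
theorem F38366 : act 4 n8160 = n6452 := d31_1 D8160 (iv D6452) D6451
def n8161 : Q := act 7 n6452
theorem D8161 : act 7 n6452 = n8161 := rfl
theorem F38367 : act 0 n8161 = n6465 := d6_1 D8161 (iv D6465) (iv F30737)
theorem F38368 : act 1 n8161 = n8161 := d14_1 D8161 (iv D8161) F30738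
theorem F38369 : act 3 n8161 = n8161 := d27_1 D8161 (iv D8161) F30739
theorem F38370 : act 5 n8161 = n6455 := d36_1 D8161 (iv D6455) (iv F30740)
def n8163 : Q := act 6 n6453
theorem D8163 : act 6 n6453 = n8163 := rfl
theorem F38378 : act 3 n8163 = n6454 := d26_1 D8163 (iv D6454) D6453
def n8164 : Q := act 5 n6454
theorem D8164 : act 5 n6454 = n8164 := rfl
def n8165 : Q := act 7 n6454
theorem D8165 : act 7 n6454 = n8165 := rfl
theorem F38384 : act 0 n8165 = n6469 := d6_1 D8165 (iv D6469) (iv F30747)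
theorem F38385 : act 1 n8165 = n8165 := d14_1 D8165 (iv D8165) F30748
theorem F38386 : act 4 n8165 = n6455 := d32_1 D8165 (iv D6455) (iv F30749)
theorem F38387 : act 6 n8165 = n8165 := d39_1 D8165 (iv D8165) (iv D6454) F24818 D6454
theorem F38388 : act 8 n8165 = n8165 := d42_2 F30750 D8165 (iv D8165)
def n8166 : Q := act 5 n6456
theorem D8166 : act 5 n6456 = n8166 := rfl
theorem F38389 : act 1 n8166 = n6470 := d12_1 D8166 (iv D6470) (iv F30756)
theorem F38390 : act 3 n8166 = n8166 := d25_1 D8166 (iv D8166) F30757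
theorem F38391 : act 7 n8166 = n6458 := d36_2 (iv F30759) D8166 (iv D6458)
theorem F38392 : act 9 n8166 = n6457 := d38_2 (iv F30760) D8166 (iv D6457)
def n8167 : Q := act 4 n6457
theorem D8167 : act 4 n6457 = n8167 := rfl
theorem F38393 : act 1 n8167 = n6471 := d11_1 D8167 (iv D6471) (iv F30761)
theorem F38394 : act 5 n8167 = n8167 := d30_2 D6457 D8167 (iv D8167) (iv D6457) F24830
theorem F38395 : act 7 n8167 = n6459 := d32_2 (iv F30763) D8167 (iv D6459)
theorem F38396 : act 8 n8167 = n6461 := d33_2 (iv F30764) D8167 (iv D6461)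
def n8168 : Q := act 6 n6457
theorem D8168 : act 6 n6457 = n8168 := rfl
theorem F38397 : act 1 n8168 = n6472 := d13_1 D8168 (iv D6472) (iv F30761)
theorem F38398 : act 3 n8168 = n8168 := d26_1 D8168 (iv D8168) F30762
theorem F38399 : act 8 n8168 = n6462 := d40_2 (iv F30764) D8168 (iv D6462)
def n8169 : Q := act 4 n6458
theorem D8169 : act 4 n6458 = n8169 := rfl
theorem F38400 : act 1 n8169 = n6473 := d11_1 D8169 (iv D6473) (iv F30765)
theorem F38401 : act 5 n8169 = n8169 := d30_2 D6458 D8169 (iv D8169) (iv D6458) F24834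
theorem F38402 : act 9 n8169 = n6459 := d34_2 (iv F30767) D8169 (iv D6459)
def n8170 : Q := act 6 n6458
theorem D8170 : act 6 n6458 = n8170 := rfl
theorem F38403 : act 1 n8170 = n6474 := d13_1 D8170 (iv D6474) (iv F30765)
theorem F38404 : act 3 n8170 = n8170 := d26_1 D8170 (iv D8170) F30766
theorem F38405 : act 5 n8170 = n8170 := d35_1 D8170 (iv D8170) (iv D6458) F24835 D6458
theorem F38406 : act 9 n8170 = n6460 := d41_2 (iv F30767) D8170 (iv D6460)
def n8171 : Q := act 3 n6459
theorem D8171 : act 3 n6459 = n8171 := rfl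
theorem F38407 : act 1 n8171 = n6475 := d10_1 D8171 (iv D6475) (iv F30768)
theorem F38410 : act 8 n8171 = n6463 := d28_2 (iv F30770) D8171 (iv D6463)
def n8172 : Q := act 6 n6459
theorem D8172 : act 6 n6459 = n8172 := rfl
theorem F38411 : act 1 n8172 = n6476 := d13_1 D8172 (iv D6476) (iv F30768)
theorem F38412 : act 4 n8172 = n6460 := d31_1 D8172 (iv D6460) D6459
theorem F38413 : act 8 n8172 = n6464 := d40_2 (iv F30770) D8172 (iv D6464)
def n8173 : Q := act 7 n6460
theorem D8173 : act 7 n6460 = n8173 := rfl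
theorem F38414 : act 1 n8173 = n6477 := d14_1 D8173 (iv D6477) (iv F30771)
theorem F38415 : act 3 n8173 = n8173 := d27_1 D8173 (iv D8173) F30772
theorem F38416 : act 5 n8173 = n8173 := d36_1 D8173 (iv D8173) F30773
theorem F38417 : act 8 n8173 = n6465 := d42_2 (iv F30774) D8173 (iv D6465)
def n8174 : Q := act 3 n6461
theorem D8174 : act 3 n6461 = n8174 := rfl
theorem F38418 : act 1 n8174 = n6478 := d10_1 D8174 (iv D6478) (iv F30775)
theorem F38420 : act 5 n8174 = n6659 := d25_2 (iv F30776) D8174 (iv D6659)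
theorem F38421 : act 7 n8174 = n6463 := d27_2 (iv F30777) D8174 (iv D6463)
def n8175 : Q := act 6 n6461
theorem D8175 : act 6 n6461 = n8175 := rfl
theorem F38422 : act 1 n8175 = n6479 := d13_1 D8175 (iv D6479) (iv F30775)
theorem F38423 : act 4 n8175 = n6462 := d31_1 D8175 (iv D6462) D6461
def n8176 : Q := act 7 n6462
theorem D8176 : act 7 n6462 = n8176 := rfl
theorem F38424 : act 1 n8176 = n6480 := d14_1 D8176 (iv D6480) (iv F30778)
theorem F38425 : act 3 n8176 = n8176 := d27_1 D8176 (iv D8176) F30779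
theorem F38426 : act 5 n8176 = n8176 := d36_1 D8176 (iv D8176) F30780
theorem F38427 : act 6 n8176 = n6465 := d39_1 D8176 (iv D6465) (iv D5152) (iv F24842) D6462
def n8177 : Q := act 2 n6463
theorem D8177 : act 2 n6463 = n8177 := rfl
theorem F38429 : act 5 n8177 = n6662 := d19_2 (iv F30783) D8177 (iv D6662)
def n8178 : Q := act 6 n6463
theorem D8178 : act 6 n6463 = n8178 := rfl
theorem F38430 : act 1 n8178 = n6482 := d13_1 D8178 (iv D6482) (iv F30781)
theorem F38431 : act 3 n8178 = n6464 := d26_1 D8178 (iv D6464) D6463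
def n8179 : Q := act 5 n6464
theorem D8179 : act 5 n6464 = n8179 := rfl
theorem F38433 : act 1 n8179 = n6483 := d12_1 D8179 (iv D6483) (iv F30784)
theorem F38434 : act 4 n8179 = n6468 := d30_1 D8179 (iv D6468) F24854 (iv F24847) (iv F30785)
def n8180 : Q := act 7 n6464
theorem D8180 : act 7 n6464 = n8180 := rfl
theorem F38436 : act 1 n8180 = n6484 := d14_1 D8180 (iv D6484) (iv F30784)
theorem F38437 : act 4 n8180 = n6465 := d32_1 D8180 (iv D6465) (iv F30785)
def n8181 : Q := act 6 n6466
theorem D8181 : act 6 n6466 = n8181 := rfl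
theorem F38439 : act 2 n8181 = n6467 := d20_1 D8181 (iv D6467) D6466
def n8182 : Q := act 5 n6467
theorem D8182 : act 5 n6467 = n8182 := rfl
theorem F38443 : act 3 n8182 = n6468 := d25_1 D8182 (iv D6468) (iv F30795)
def n8183 : Q := act 7 n6467
theorem D8183 : act 7 n6467 = n8183 := rfl
theorem F38445 : act 1 n8183 = n6486 := d14_1 D8183 (iv D6486) (iv F30794)
theorem F38446 : act 3 n8183 = n6469 := d27_1 D8183 (iv D6469) (iv F30795)
def n8184 : Q := act 7 n6468
theorem D8184 : act 7 n6468 = n8184 := rfl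
theorem F38450 : act 1 n8184 = n6487 := d14_1 D8184 (iv D6487) (iv F30798)
theorem F38451 : act 5 n8184 = n6469 := d36_1 D8184 (iv D6469) D6468
def n8185 : Q := act 8 n6468
theorem D8185 : act 8 n6468 = n8185 := rfl
theorem F38452 : act 1 n8185 = n6488 := d15_1 D8185 (iv D6488) (iv F30798)
def n8186 : Q := act 4 n6470
theorem D8186 : act 4 n6470 = n8186 := rfl
theorem F38455 : act 0 n8186 = n8186 := d3_1 D8186 (iv D8186) F30804
theorem F38456 : act 2 n8186 = n6489 := d18_1 D8186 (iv D6489) (iv F30805)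
theorem F38457 : act 5 n8186 = n8186 := d30_2 D6470 D8186 (iv D8186) (iv D6470) F24863
theorem F38458 : act 7 n8186 = n6473 := d32_2 (iv F30807) D8186 (iv D6473)
theorem F38459 : act 9 n8186 = n6471 := d34_2 (iv F30808) D8186 (iv D6471)
def n8187 : Q := act 6 n6470
theorem D8187 : act 6 n6470 = n8187 := rfl
theorem F38460 : act 0 n8187 = n8187 := d5_1 D8187 (iv D8187) F30804
theorem F38461 : act 2 n8187 = n6490 := d20_1 D8187 (iv D6490) (iv F30805)
theorem F38462 : act 3 n8187 = n8187 := d26_1 D8187 (iv D8187) F30806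
theorem F38463 : act 9 n8187 = n6472 := d41_2 (iv F30808) D8187 (iv D6472)
def n8188 : Q := act 3 n6471
theorem D8188 : act 3 n6471 = n8188 := rfl
theorem F38464 : act 0 n8188 = n8188 := d2_1 D8188 (iv D8188) F30809
theorem F38465 : act 4 n8188 = n8188 := d24_2 D6471 D8188 (iv D8188) (iv D6471) F24868
theorem F38466 : act 5 n8188 = n8188 := d25_2 F30811 D8188 (iv D8188)
theorem F38467 : act 7 n8188 = n6475 := d27_2 (iv F30812) D8188 (iv D6475)
theorem F38468 : act 8 n8188 = n6478 := d28_2 (iv F30813) D8188 (iv D6478)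
def n8189 : Q := act 6 n6471
theorem D8189 : act 6 n6471 = n8189 := rfl
theorem F38469 : act 0 n8189 = n8189 := d5_1 D8189 (iv D8189) F30809
theorem F38470 : act 2 n8189 = n6492 := d20_1 D8189 (iv D6492) (iv F30810)
theorem F38471 : act 4 n8189 = n6472 := d31_1 D8189 (iv D6472) D6471
theorem F38472 : act 8 n8189 = n6479 := d40_2 (iv F30813) D8189 (iv D6479)
def n8190 : Q := act 7 n6472
theorem D8190 : act 7 n6472 = n8190 := rfl
theorem F38473 : act 0 n8190 = n8190 := d6_1 D8190 (iv D8190) F30814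
theorem F38474 : act 2 n8190 = n6493 := d21_1 D8190 (iv D6493) (iv F30815)
theorem F38475 : act 3 n8190 = n8190 := d27_1 D8190 (iv D8190) F30816
theorem F38476 : act 6 n8190 = n6477 := d39_1 D8190 (iv D6477) (iv D5160) (iv F24869) D6472
theorem F38477 : act 8 n8190 = n6480 := d42_2 (iv F30817) D8190 (iv D6480)
def n8191 : Q := act 3 n6473
theorem D8191 : act 3 n6473 = n8191 := rfl
theorem F38478 : act 0 n8191 = n8191 := d2_1 D8191 (iv D8191) F30818
theorem F38479 : act 4 n8191 = n8191 := d24_2 D6473 D8191 (iv D8191) (iv D6473) F24873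
theorem F38480 : act 5 n8191 = n8191 := d25_2 F30820 D8191 (iv D8191)
theorem F38481 : act 9 n8191 = n6475 := d29_2 (iv F30821) D8191 (iv D6475)
def n8192 : Q := act 6 n6473
theorem D8192 : act 6 n6473 = n8192 := rfl
theorem F38482 : act 0 n8192 = n8192 := d5_1 D8192 (iv D8192) F30818
theorem F38483 : act 2 n8192 = n6495 := d20_1 D8192 (iv D6495) (iv F30819)
theorem F38484 : act 4 n8192 = n6474 := d31_1 D8192 (iv D6474) D6473
theorem F38485 : act 9 n8192 = n6476 := d41_2 (iv F30821) D8192 (iv D6476)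
def n8193 : Q := act 7 n6474
theorem D8193 : act 7 n6474 = n8193 := rfl
theorem F38486 : act 0 n8193 = n8193 := d6_1 D8193 (iv D8193) F30822
theorem F38487 : act 2 n8193 = n6496 := d21_1 D8193 (iv D6496) (iv F30823)
theorem F38488 : act 3 n8193 = n8193 := d27_1 D8193 (iv D8193) F30824
theorem F38489 : act 5 n8193 = n8193 := d36_1 D8193 (iv D8193) F30825
theorem F38490 : act 9 n8193 = n6477 := d43_2 (iv F30826) D8193 (iv D6477)
def n8194 : Q := act 2 n6475
theorem D8194 : act 2 n6475 = n8194 := rfl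
theorem F38491 : act 0 n8194 = n8194 := d1_1 D8194 (iv D8194) F30827
theorem F38492 : act 3 n8194 = n6497 := d17_2 D6475 D8194 (iv D6497) (iv D5174) (iv F24876)
theorem F38493 : act 4 n8194 = n8194 := d18_2 F30828 D8194 (iv D8194)
theorem F38494 : act 5 n8194 = n8194 := d19_2 F30829 D8194 (iv D8194)
theorem F38495 : act 8 n8194 = n6481 := d22_2 (iv F30830) D8194 (iv D6481)
def n8195 : Q := act 6 n6475
theorem D8195 : act 6 n6475 = n8195 := rfl
theorem F38496 : act 0 n8195 = n8195 := d5_1 D8195 (iv D8195) F30827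
theorem F38497 : act 3 n8195 = n6476 := d26_1 D8195 (iv D6476) D6475
theorem F38498 : act 4 n8195 = n8195 := d31_1 D8195 (iv D8195) F30828
theorem F38499 : act 8 n8195 = n6482 := d40_2 (iv F30830) D8195 (iv D6482)
def n8196 : Q := act 5 n6476
theorem D8196 : act 5 n6476 = n8196 := rfl
theorem F38500 : act 0 n8196 = n8196 := d4_1 D8196 (iv D8196) F30831
theorem F38501 : act 2 n8196 = n6499 := d19_1 D8196 (iv D6499) (iv F30832)
theorem F38502 : act 4 n8196 = n8196 := d30_1 D8196 (iv D8196) F30833 F24882 (iv F30833)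
theorem F38503 : act 6 n8196 = n8196 := d35_2 D6476 D8196 (iv D8196) (iv D6476) F24877
def n8197 : Q := act 7 n6476
theorem D8197 : act 7 n6476 = n8197 := rfl
theorem F38504 : act 0 n8197 = n8197 := d6_1 D8197 (iv D8197) F30831
theorem F38505 : act 2 n8197 = n6500 := d21_1 D8197 (iv D6500) (iv F30832)
theorem F38506 : act 4 n8197 = n6477 := d32_1 D8197 (iv D6477) (iv F30833)
theorem F38507 : act 8 n8197 = n6484 := d42_2 (iv F30834) D8197 (iv D6484)
def n8198 : Q := act 2 n6478
theorem D8198 : act 2 n6478 = n8198 := rfl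
theorem F38509 : act 3 n8198 = n6501 := d17_2 D6478 D8198 (iv D6501) (iv D5177) (iv F24885)
theorem F38511 : act 5 n8198 = n6671 := d19_2 (iv F30842) D8198 (iv D6671)
theorem F38512 : act 7 n8198 = n6481 := d21_2 (iv F30843) D8198 (iv D6481)
def n8199 : Q := act 6 n6478
theorem D8199 : act 6 n6478 = n8199 := rfl
theorem F38513 : act 0 n8199 = n8199 := d5_1 D8199 (iv D8199) F30840
theorem F38514 : act 3 n8199 = n6479 := d26_1 D8199 (iv D6479) D6478
theorem F38515 : act 4 n8199 = n8199 := d31_1 D8199 (iv D8199) F30841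
def n8200 : Q := act 5 n6479
theorem D8200 : act 5 n6479 = n8200 := rfl
theorem F38516 : act 0 n8200 = n8200 := d4_1 D8200 (iv D8200) F30844
theorem F38517 : act 2 n8200 = n6503 := d19_1 D8200 (iv D6503) (iv F30845)
theorem F38518 : act 4 n8200 = n8200 := d30_1 D8200 (iv D8200) F30846 F24891 (iv F30846)
theorem F38519 : act 6 n8200 = n6673 := d35_2 D6479 D8200 (iv D6673) (iv D5307) (iv F24886)
def n8201 : Q := act 7 n6479
theorem D8201 : act 7 n6479 = n8201 := rfl
theorem F38520 : act 0 n8201 = n8201 := d6_1 D8201 (iv D8201) F30844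
theorem F38521 : act 2 n8201 = n6504 := d21_1 D8201 (iv D6504) (iv F30845)
theorem F38522 : act 4 n8201 = n6480 := d32_1 D8201 (iv D6480) (iv F30846)
theorem F38523 : act 6 n8201 = n6484 := d39_1 D8201 (iv D6484) (iv D5164) (iv F24887) D6479
def n8202 : Q := act 1 n6481
theorem D8202 : act 1 n6481 = n8202 := rfl
theorem F38524 : act 3 n8202 = n6505 := d10_2 (iv F30853) D8202 (iv D6505)
theorem F38526 : act 5 n8202 = n6675 := d12_2 (iv F30855) D8202 (iv D6675)
def n8203 : Q := act 6 n6481
theorem D8203 : act 6 n6481 = n8203 := rfl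
theorem F38528 : act 2 n8203 = n6482 := d20_1 D8203 (iv D6482) D6481
theorem F38529 : act 3 n8203 = n6506 := d26_1 D8203 (iv D6506) (iv F30853)
def n8204 : Q := act 5 n6482
theorem D8204 : act 5 n6482 = n8204 := rfl
theorem F38532 : act 3 n8204 = n6483 := d25_1 D8204 (iv D6483) (iv F30857)
theorem F38533 : act 6 n8204 = n6677 := d35_2 D6482 D8204 (iv D6677) (iv D5310) (iv F24894)
def n8205 : Q := act 7 n6482
theorem D8205 : act 7 n6482 = n8205 := rfl
theorem F38534 : act 0 n8205 = n8205 := d6_1 D8205 (iv D8205) F30856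
theorem F38535 : act 3 n8205 = n6484 := d27_1 D8205 (iv D6484) (iv F30857)
theorem F38536 : act 4 n8205 = n8205 := d32_1 D8205 (iv D8205) F30858
def n8206 : Q := act 7 n6483
theorem D8206 : act 7 n6483 = n8206 := rfl
theorem F38537 : act 0 n8206 = n8206 := d6_1 D8206 (iv D8206) F30859
theorem F38538 : act 2 n8206 = n6509 := d21_1 D8206 (iv D6509) (iv F30860)
theorem F38539 : act 4 n8206 = n6487 := d32_1 D8206 (iv D6487) (iv F30861)
theorem F38540 : act 5 n8206 = n6484 := d36_1 D8206 (iv D6484) D6483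
def n8207 : Q := act 8 n6483
theorem D8207 : act 8 n6483 = n8207 := rfl
theorem F38541 : act 0 n8207 = n8207 := d7_1 D8207 (iv D8207) F30859
theorem F38542 : act 2 n8207 = n6510 := d22_1 D8207 (iv D6510) (iv F30860)
theorem F38543 : act 4 n8207 = n6488 := d33_1 D8207 (iv D6488) (iv F30861)
theorem F38544 : act 6 n8207 = n6680 := d40_1 D8207 (iv D6680) (iv F30862)
def n8209 : Q := act 7 n6485
theorem D8209 : act 7 n6485 = n8209 := rfl
theorem F38551 : act 3 n8209 = n6487 := d27_1 D8209 (iv D6487) (iv F30868)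
theorem F38552 : act 5 n8209 = n6486 := d36_1 D8209 (iv D6486) D6485
def n8210 : Q := act 8 n6485
theorem D8210 : act 8 n6485 = n8210 := rfl
theorem F38555 : act 3 n8210 = n6488 := d28_1 D8210 (iv D6488) (iv F30868)
def n8211 : Q := act 6 n6487
theorem D8211 : act 6 n6487 = n8211 := rfl
theorem F38559 : act 2 n8211 = n6511 := d20_1 D8211 (iv D6511) (iv F30877)
def n8212 : Q := act 8 n6487
theorem D8212 : act 8 n6487 = n8212 := rfl
theorem F38562 : act 0 n8212 = n8212 := d7_1 D8212 (iv D8212) F30876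
theorem F38563 : act 2 n8212 = n6512 := d22_1 D8212 (iv D6512) (iv F30877)
theorem F38564 : act 5 n8212 = n8212 := d37_1 D8212 (iv D8212) F30878 F24914 (iv F30878)
theorem F38565 : act 7 n8212 = n6488 := d42_1 D8212 (iv D6488) D6487
def n8213 : Q := act 9 n6488
theorem D8213 : act 9 n6488 = n8213 := rfl
theorem F38566 : act 0 n8213 = n8213 := d8_1 D8213 (iv D8213) F30879
theorem F38567 : act 2 n8213 = n6513 := d23_1 D8213 (iv D6513) (iv F30880)
theorem F38568 : act 5 n8213 = n8213 := d38_1 D8213 (iv D8213) F30881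
def n8214 : Q := act 3 n6489
theorem D8214 : act 3 n6489 = n8214 := rfl
theorem F38570 : act 0 n8214 = n8214 := d2_1 D8214 (iv D8214) F30883
theorem F38571 : act 4 n8214 = n6514 := d24_2 D6489 D8214 (iv D6514) (iv D5186) (iv F24916)
theorem F38572 : act 5 n8214 = n8214 := d25_2 F30884 D8214 (iv D8214)
theorem F38573 : act 7 n8214 = n6494 := d27_2 (iv F30885) D8214 (iv D6494)
theorem F38574 : act 9 n8214 = n6491 := d29_2 (iv F30886) D8214 (iv D6491)
def n8215 : Q := act 6 n6489
theorem D8215 : act 6 n6489 = n8215 := rfl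
theorem F38575 : act 0 n8215 = n8215 := d5_1 D8215 (iv D8215) F30883
theorem F38576 : act 4 n8215 = n6490 := d31_1 D8215 (iv D6490) D6489
theorem F38577 : act 9 n8215 = n6492 := d41_2 (iv F30886) D8215 (iv D6492)
def n8216 : Q := act 7 n6490
theorem D8216 : act 7 n6490 = n8216 := rfl
theorem F38578 : act 0 n8216 = n8216 := d6_1 D8216 (iv D8216) F30887
theorem F38579 : act 3 n8216 = n6516 := d27_1 D8216 (iv D6516) (iv F30888)
theorem F38580 : act 6 n8216 = n6496 := d39_1 D8216 (iv D6496) (iv D5173) (iv F24917) D6490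
theorem F38581 : act 9 n8216 = n6493 := d43_2 (iv F30889) D8216 (iv D6493)
def n8217 : Q := act 2 n6491
theorem D8217 : act 2 n6491 = n8217 := rfl
theorem F38586 : act 8 n8217 = n6501 := d22_2 (iv F30894) D8217 (iv D6501)
def n8218 : Q := act 6 n6491
theorem D8218 : act 6 n6491 = n8218 := rfl
theorem F38590 : act 8 n8218 = n6502 := d40_2 (iv F30894) D8218 (iv D6502)
def n8219 : Q := act 5 n6492
theorem D8219 : act 5 n6492 = n8219 := rfl
theorem F38591 : act 0 n8219 = n8219 := d4_1 D8219 (iv D8219) F30895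
theorem F38592 : act 6 n8219 = n8219 := d35_2 D6492 D8219 (iv D8219) (iv D6492) F24920
def n8220 : Q := act 7 n6492
theorem D8220 : act 7 n6492 = n8220 := rfl
theorem F38593 : act 0 n8220 = n8220 := d6_1 D8220 (iv D8220) F30895
theorem F38594 : act 4 n8220 = n6493 := d32_1 D8220 (iv D6493) (iv F30896)
theorem F38595 : act 6 n8220 = n6500 := d39_1 D8220 (iv D6500) (iv D5175) (iv F24921) D6492
theorem F38596 : act 8 n8220 = n6504 := d42_2 (iv F30897) D8220 (iv D6504)
def n8221 : Q := act 2 n6494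
theorem D8221 : act 2 n6494 = n8221 := rfl
theorem F38597 : act 0 n8221 = n8221 := d1_1 D8221 (iv D8221) F30902
theorem F38598 : act 4 n8221 = n6520 := d18_2 (iv F30903) D8221 (iv D6520)
theorem F38599 : act 5 n8221 = n8221 := d19_2 F30904 D8221 (iv D8221)
theorem F38600 : act 9 n8221 = n6497 := d23_2 (iv F30905) D8221 (iv D6497)
def n8222 : Q := act 6 n6494
theorem D8222 : act 6 n6494 = n8222 := rfl
theorem F38601 : act 0 n8222 = n8222 := d5_1 D8222 (iv D8222) F30902
theorem F38602 : act 3 n8222 = n6495 := d26_1 D8222 (iv D6495) D6494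
theorem F38603 : act 4 n8222 = n6521 := d31_1 D8222 (iv D6521) (iv F30903)
theorem F38604 : act 9 n8222 = n6498 := d41_2 (iv F30905) D8222 (iv D6498)
def n8223 : Q := act 5 n6495
theorem D8223 : act 5 n6495 = n8223 := rfl
theorem F38605 : act 0 n8223 = n8223 := d4_1 D8223 (iv D8223) F30906
theorem F38606 : act 4 n8223 = n8223 := d30_1 D8223 (iv D8223) F30907 F24931 (iv F30907)
theorem F38607 : act 6 n8223 = n8223 := d35_2 D6495 D8223 (iv D8223) (iv D6495) F24927
theorem F38608 : act 9 n8223 = n6499 := d38_2 (iv F30908) D8223 (iv D6499)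
def n8224 : Q := act 7 n6495
theorem D8224 : act 7 n6495 = n8224 := rfl
theorem F38609 : act 0 n8224 = n8224 := d6_1 D8224 (iv D8224) F30906
theorem F38610 : act 4 n8224 = n6496 := d32_1 D8224 (iv D6496) (iv F30907)
theorem F38611 : act 9 n8224 = n6500 := d43_2 (iv F30908) D8224 (iv D6500)
def n8225 : Q := act 1 n6497
theorem D8225 : act 1 n6497 = n8225 := rfl
theorem F38612 : act 4 n8225 = n6524 := d11_2 (iv F30914) D8225 (iv D6524)
theorem F38614 : act 8 n8225 = n6505 := d15_2 (iv F30916) D8225 (iv D6505)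
def n8226 : Q := act 6 n6497
theorem D8226 : act 6 n6497 = n8226 := rfl
theorem F38615 : act 0 n8226 = n8226 := d5_1 D8226 (iv D8226) F30913
theorem F38616 : act 2 n8226 = n6498 := d20_1 D8226 (iv D6498) D6497
theorem F38617 : act 4 n8226 = n6525 := d31_1 D8226 (iv D6525) (iv F30914)
theorem F38618 : act 8 n8226 = n6506 := d40_2 (iv F30916) D8226 (iv D6506)
def n8227 : Q := act 5 n6498
theorem D8227 : act 5 n6498 = n8227 := rfl
theorem F38619 : act 0 n8227 = n8227 := d4_1 D8227 (iv D8227) F30917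
theorem F38620 : act 3 n8227 = n6499 := d25_1 D8227 (iv D6499) (iv F30918)
theorem F38621 : act 6 n8227 = n8227 := d35_2 D6498 D8227 (iv D8227) (iv D6498) F24935
def n8228 : Q := act 7 n6498
theorem D8228 : act 7 n6498 = n8228 := rfl
theorem F38622 : act 0 n8228 = n8228 := d6_1 D8228 (iv D8228) F30917
theorem F38623 : act 3 n8228 = n6500 := d27_1 D8228 (iv D6500) (iv F30918)
theorem F38624 : act 4 n8228 = n6527 := d32_1 D8228 (iv D6527) (iv F30919)
theorem F38625 : act 8 n8228 = n6508 := d42_2 (iv F30920) D8228 (iv D6508)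
def n8229 : Q := act 7 n6499
theorem D8229 : act 7 n6499 = n8229 := rfl
theorem F38626 : act 0 n8229 = n8229 := d6_1 D8229 (iv D8229) F30921
theorem F38627 : act 4 n8229 = n8229 := d32_1 D8229 (iv D8229) F30922
theorem F38628 : act 5 n8229 = n6500 := d36_1 D8229 (iv D6500) D6499
def n8230 : Q := act 8 n6499
theorem D8230 : act 8 n6499 = n8230 := rfl
theorem F38629 : act 0 n8230 = n8230 := d7_1 D8230 (iv D8230) F30921
theorem F38630 : act 4 n8230 = n8230 := d33_1 D8230 (iv D8230) F30922
theorem F38631 : act 5 n8230 = n6510 := d37_1 D8230 (iv D6510) (iv D5182) (iv F24939) D6499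
theorem F38632 : act 6 n8230 = n8230 := d40_1 D8230 (iv D8230) F30923
def n8231 : Q := act 1 n6501
theorem D8231 : act 1 n6501 = n8231 := rfl
theorem F38634 : act 5 n8231 = n6687 := d12_2 (iv F30929) D8231 (iv D6687)
theorem F38635 : act 7 n8231 = n6505 := d14_2 (iv F30930) D8231 (iv D6505)
def n8232 : Q := act 6 n6501
theorem D8232 : act 6 n6501 = n8232 := rfl
theorem F38637 : act 2 n8232 = n6502 := d20_1 D8232 (iv D6502) D6501
def n8233 : Q := act 5 n6502
theorem D8233 : act 5 n6502 = n8233 := rfl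
theorem F38640 : act 3 n8233 = n6503 := d25_1 D8233 (iv D6503) (iv F30932)
theorem F38641 : act 6 n8233 = n6689 := d35_2 D6502 D8233 (iv D6689) (iv D5318) (iv F24946)
def n8234 : Q := act 7 n6502
theorem D8234 : act 7 n6502 = n8234 := rfl
theorem F38645 : act 6 n8234 = n6508 := d39_1 D8234 (iv D6508) (iv D5181) (iv F24947) D6502
def n8235 : Q := act 7 n6503
theorem D8235 : act 7 n6503 = n8235 := rfl
def n8236 : Q := act 8 n6503
theorem D8236 : act 8 n6503 = n8236 := rfl
def n8237 : Q := act 0 n6505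
theorem D8237 : act 0 n6505 = n8237 := rfl
theorem F38654 : act 5 n8237 = n6693 := d4_2 (iv F30941) D8237 (iv D6693)
def n8238 : Q := act 6 n6505
theorem D8238 : act 6 n6505 = n8238 := rfl
theorem F38655 : act 1 n8238 = n6506 := d13_1 D8238 (iv D6506) D6505
def n8239 : Q := act 5 n6506
theorem D8239 : act 5 n6506 = n8239 := rfl
theorem F38658 : act 2 n8239 = n6507 := d19_1 D8239 (iv D6507) (iv F30943)
theorem F38660 : act 6 n8239 = n6695 := d35_2 D6506 D8239 (iv D6695) (iv D5322) (iv F24956)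
def n8240 : Q := act 7 n6506
theorem D8240 : act 7 n6506 = n8240 := rfl
theorem F38661 : act 0 n8240 = n8240 := d6_1 D8240 (iv D8240) F30942
theorem F38662 : act 2 n8240 = n6508 := d21_1 D8240 (iv D6508) (iv F30943)
def n8241 : Q := act 7 n6507
theorem D8241 : act 7 n6507 = n8241 := rfl
theorem F38664 : act 0 n8241 = n8241 := d6_1 D8241 (iv D8241) F30945
theorem F38665 : act 3 n8241 = n6509 := d27_1 D8241 (iv D6509) (iv F30946)
theorem F38666 : act 4 n8241 = n8241 := d32_1 D8241 (iv D8241) F30947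
theorem F38667 : act 5 n8241 = n6508 := d36_1 D8241 (iv D6508) D6507
def n8242 : Q := act 8 n6507
theorem D8242 : act 8 n6507 = n8242 := rfl
theorem F38668 : act 0 n8242 = n8242 := d7_1 D8242 (iv D8242) F30945
theorem F38669 : act 3 n8242 = n6510 := d28_1 D8242 (iv D6510) (iv F30946)
theorem F38670 : act 4 n8242 = n8242 := d33_1 D8242 (iv D8242) F30947
theorem F38671 : act 6 n8242 = n6698 := d40_1 D8242 (iv D6698) (iv F30948)
def n8243 : Q := act 6 n6509
theorem D8243 : act 6 n6509 = n8243 := rfl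
theorem F38673 : act 4 n8243 = n6511 := d31_1 D8243 (iv D6511) (iv F30953)
theorem F38674 : act 7 n8243 = n6699 := d39_2 D6509 D8243 (iv D6699) (iv D5325) (iv F24962)
def n8244 : Q := act 8 n6509
theorem D8244 : act 8 n6509 = n8244 := rfl
theorem F38675 : act 0 n8244 = n8244 := d7_1 D8244 (iv D8244) F30952
theorem F38676 : act 4 n8244 = n6512 := d33_1 D8244 (iv D6512) (iv F30953)
theorem F38677 : act 7 n8244 = n6510 := d42_1 D8244 (iv D6510) D6509
def n8245 : Q := act 9 n6510
theorem D8245 : act 9 n6510 = n8245 := rfl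
theorem F38678 : act 0 n8245 = n8245 := d8_1 D8245 (iv D8245) F30955
theorem F38679 : act 4 n8245 = n6513 := d34_1 D8245 (iv D6513) (iv F30956)
theorem F38680 : act 6 n8245 = n6701 := d41_1 D8245 (iv D6701) (iv F30957)
def n8246 : Q := act 8 n6511
theorem D8246 : act 8 n6511 = n8246 := rfl
theorem F38681 : act 0 n8246 = n8246 := d7_1 D8246 (iv D8246) F30958
theorem F38682 : act 3 n8246 = n8246 := d28_1 D8246 (iv D8246) F30959
theorem F38683 : act 6 n8246 = n6512 := d40_1 D8246 (iv D6512) D6511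
def n8247 : Q := act 9 n6512
theorem D8247 : act 9 n6512 = n8247 := rfl
theorem F38685 : act 0 n8247 = n8247 := d8_1 D8247 (iv D8247) F30962
theorem F38686 : act 3 n8247 = n8247 := d29_1 D8247 (iv D8247) F30963
theorem F38687 : act 5 n8247 = n8247 := d38_1 D8247 (iv D8247) F30964
theorem F38688 : act 7 n8247 = n6513 := d43_1 D8247 (iv D6513) (iv F30965)
def n8248 : Q := act 2 n6514
theorem D8248 : act 2 n6514 = n8248 := rfl
theorem F38693 : act 9 n8248 = n6517 := d23_2 (iv F30973) D8248 (iv D6517)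
def n8249 : Q := act 6 n6514
theorem D8249 : act 6 n6514 = n8249 := rfl
theorem F38696 : act 5 n8249 = n8249 := d35_1 D8249 (iv D8249) F30971 F25065 (iv F30971)
theorem F38697 : act 9 n8249 = n6518 := d41_2 (iv F30973) D8249 (iv D6518)
def n8250 : Q := act 7 n6515
theorem D8250 : act 7 n6515 = n8250 := rfl
theorem F38698 : act 0 n8250 = n8250 := d6_1 D8250 (iv D8250) F30974
theorem F38699 : act 2 n8250 = n8250 := d21_1 D8250 (iv D8250) F30975
theorem F38700 : act 4 n8250 = n6516 := d32_1 D8250 (iv D6516) (iv F30976)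
theorem F38701 : act 5 n8250 = n8250 := d36_1 D8250 (iv D8250) F30977
theorem F38702 : act 6 n8250 = n6523 := d39_1 D8250 (iv D6523) (iv D5192) (iv F24975) D6515
theorem F38703 : act 9 n8250 = n6519 := d43_2 (iv F30978) D8250 (iv D6519)
def n8251 : Q := act 1 n6517
theorem D8251 : act 1 n6517 = n8251 := rfl
theorem F38707 : act 8 n8251 = n6529 := d15_2 (iv F30987) D8251 (iv D6529)
def n8252 : Q := act 6 n6517
theorem D8252 : act 6 n6517 = n8252 := rfl
theorem F38712 : act 8 n8252 = n6530 := d40_2 (iv F30987) D8252 (iv D6530)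
def n8254 : Q := act 1 n6520
theorem D8254 : act 1 n6520 = n8254 := rfl
theorem F38719 : act 5 n8254 = n6543 := d12_2 (iv F31000) D8254 (iv D6543)
theorem F38720 : act 9 n8254 = n6524 := d16_2 (iv F31001) D8254 (iv D6524)
def n8255 : Q := act 6 n6520
theorem D8255 : act 6 n6520 = n8255 := rfl
theorem F38721 : act 0 n8255 = n8255 := d5_1 D8255 (iv D8255) F30998
theorem F38722 : act 2 n8255 = n6521 := d20_1 D8255 (iv D6521) D6520
theorem F38723 : act 3 n8255 = n8255 := d26_1 D8255 (iv D8255) F30999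
theorem F38724 : act 9 n8255 = n6525 := d41_2 (iv F31001) D8255 (iv D6525)
def n8256 : Q := act 5 n6521
theorem D8256 : act 5 n6521 = n8256 := rfl
theorem F38725 : act 0 n8256 = n8256 := d4_1 D8256 (iv D8256) F31002
theorem F38726 : act 3 n8256 = n6522 := d25_1 D8256 (iv D6522) (iv F31003)
theorem F38727 : act 6 n8256 = n6545 := d35_2 D6521 D8256 (iv D6545) (iv D5212) (iv F24994)
theorem F38728 : act 9 n8256 = n6526 := d38_2 (iv F31004) D8256 (iv D6526)
def n8257 : Q := act 7 n6521
theorem D8257 : act 7 n6521 = n8257 := rfl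
theorem F38729 : act 0 n8257 = n8257 := d6_1 D8257 (iv D8257) F31002
theorem F38730 : act 3 n8257 = n6523 := d27_1 D8257 (iv D6523) (iv F31003)
theorem F38731 : act 9 n8257 = n6527 := d43_2 (iv F31004) D8257 (iv D6527)
def n8258 : Q := act 7 n6522
theorem D8258 : act 7 n6522 = n8258 := rfl
theorem F38732 : act 0 n8258 = n8258 := d6_1 D8258 (iv D8258) F31005
theorem F38733 : act 2 n8258 = n8258 := d21_1 D8258 (iv D8258) F31006
theorem F38734 : act 4 n8258 = n8258 := d32_1 D8258 (iv D8258) F31007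
theorem F38735 : act 5 n8258 = n6523 := d36_1 D8258 (iv D6523) D6522
theorem F38736 : act 6 n8258 = n8258 := d39_1 D8258 (iv D8258) F31008 F25089 (iv F31008)
theorem F38737 : act 9 n8258 = n6528 := d43_2 (iv F31009) D8258 (iv D6528)
def n8259 : Q := act 8 n6522
theorem D8259 : act 8 n6522 = n8259 := rfl
theorem F38738 : act 0 n8259 = n8259 := d7_1 D8259 (iv D8259) F31005
theorem F38739 : act 2 n8259 = n8259 := d22_1 D8259 (iv D8259) F31006
theorem F38740 : act 4 n8259 = n8259 := d33_1 D8259 (iv D8259) F31007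
theorem F38741 : act 6 n8259 = n6546 := d40_1 D8259 (iv D6546) (iv F31008)
theorem F38742 : act 9 n8259 = n8259 := d44_2 (iv F31009) D8259 (iv D8259) F31009 F25015
def n8260 : Q := act 0 n6524
theorem D8260 : act 0 n6524 = n8260 := rfl
theorem F38745 : act 5 n8260 = n6547 := d4_2 (iv F31015) D8260 (iv D6547)
def n8261 : Q := act 6 n6524
theorem D8261 : act 6 n6524 = n8261 := rfl
theorem F38747 : act 1 n8261 = n6525 := d13_1 D8261 (iv D6525) D6524
theorem F38749 : act 8 n8261 = n6535 := d40_2 (iv F31016) D8261 (iv D6535)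
def n8262 : Q := act 5 n6525
theorem D8262 : act 5 n6525 = n8262 := rfl
theorem F38750 : act 0 n8262 = n8262 := d4_1 D8262 (iv D8262) F31017
theorem F38751 : act 2 n8262 = n6526 := d19_1 D8262 (iv D6526) (iv F31018)
theorem F38752 : act 3 n8262 = n8262 := d25_1 D8262 (iv D8262) F31019
theorem F38753 : act 6 n8262 = n6549 := d35_2 D6525 D8262 (iv D6549) (iv D5215) (iv F25006)
theorem F38754 : act 8 n8262 = n8262 := d37_2 (iv F31020) D8262 (iv D8262) F31020 F25040
def n8263 : Q := act 7 n6525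
theorem D8263 : act 7 n6525 = n8263 := rfl
def n8264 : Q := act 4 n6526
theorem D8264 : act 4 n6526 = n8264 := rfl
theorem F38759 : act 0 n8264 = n8264 := d3_1 D8264 (iv D8264) F31021
theorem F38760 : act 3 n8264 = n8264 := d24_1 D8264 (iv D8264) F31022 F25013 (iv F31022)
theorem F38761 : act 6 n8264 = n6550 := d31_2 (iv F31023) D8264 (iv D6550)
theorem F38762 : act 8 n8264 = n8264 := d33_2 F31024 D8264 (iv D8264)
def n8265 : Q := act 7 n6526
theorem D8265 : act 7 n6526 = n8265 := rfl
theorem F38763 : act 0 n8265 = n8265 := d6_1 D8265 (iv D8265) F31021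
theorem F38764 : act 3 n8265 = n6528 := d27_1 D8265 (iv D6528) (iv F31022)
theorem F38765 : act 5 n8265 = n6527 := d36_1 D8265 (iv D6527) D6526
theorem F38766 : act 6 n8265 = n8265 := d39_1 D8265 (iv D8265) F31023 F25102 (iv F31023)
theorem F38767 : act 8 n8265 = n8265 := d42_2 F31024 D8265 (iv D8265)
def n8267 : Q := act 6 n6529
theorem D8267 : act 6 n6529 = n8267 := rfl
def n8268 : Q := act 5 n6530
theorem D8268 : act 5 n6530 = n8268 := rfl
theorem F38777 : act 6 n8268 = n6539 := d35_2 D6530 D8268 (iv D6539) (iv D5206) (iv F25022)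
def n8269 : Q := act 7 n6530
theorem D8269 : act 7 n6530 = n8269 := rfl
theorem F38780 : act 2 n8269 = n6532 := d21_1 D8269 (iv D6532) (iv F31038)
def n8273 : Q := act 7 n6535
theorem D8273 : act 7 n6535 = n8273 := rfl
def n8275 : Q := act 5 n6538
theorem D8275 : act 5 n6538 = n8275 := rfl
def n8276 : Q := act 4 n6539
theorem D8276 : act 4 n6539 = n8276 := rfl
theorem F38811 : act 5 n8276 = n6717 := d30_2 D6539 D8276 (iv D6717) (iv D5341) (iv F25051)
def n8279 : Q := act 0 n6543
theorem D8279 : act 0 n6543 = n8279 := rfl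
theorem F38830 : act 9 n8279 = n6547 := d8_2 (iv F31098) D8279 (iv D6547)
def n8280 : Q := act 6 n6543
theorem D8280 : act 6 n6543 = n8280 := rfl
theorem F38831 : act 1 n8280 = n6544 := d13_1 D8280 (iv D6544) D6543
theorem F38836 : act 9 n8280 = n6548 := d41_2 (iv F31098) D8280 (iv D6548)
def n8281 : Q := act 5 n6544
theorem D8281 : act 5 n6544 = n8281 := rfl
theorem F38837 : act 0 n8281 = n8281 := d4_1 D8281 (iv D8281) F31099
theorem F38838 : act 2 n8281 = n6545 := d19_1 D8281 (iv D6545) (iv F31100)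
theorem F38839 : act 3 n8281 = n8281 := d25_1 D8281 (iv D8281) F31101
theorem F38840 : act 7 n8281 = n8281 := d36_2 F31103 D8281 (iv D8281)
theorem F38841 : act 9 n8281 = n6549 := d38_2 (iv F31105) D8281 (iv D6549)
def n8282 : Q := act 4 n6545
theorem D8282 : act 4 n6545 = n8282 := rfl
theorem F38842 : act 0 n8282 = n8282 := d3_1 D8282 (iv D8282) F31106
theorem F38843 : act 3 n8282 = n8282 := d24_1 D8282 (iv D8282) F31107 F25088 (iv F31107)
theorem F38844 : act 5 n8282 = n8282 := d30_2 D6545 D8282 (iv D8282) (iv D6545) F25082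
theorem F38845 : act 7 n8282 = n8282 := d32_2 F31108 D8282 (iv D8282)
theorem F38846 : act 9 n8282 = n6550 := d34_2 (iv F31109) D8282 (iv D6550)
def n8283 : Q := act 8 n6545
theorem D8283 : act 8 n6545 = n8283 := rfl
theorem F38847 : act 0 n8283 = n8283 := d7_1 D8283 (iv D8283) F31106
theorem F38848 : act 3 n8283 = n6546 := d28_1 D8283 (iv D6546) (iv F31107)
theorem F38849 : act 5 n8283 = n8283 := d37_1 D8283 (iv D8283) (iv D6545) F25084 D6545
theorem F38850 : act 7 n8283 = n8283 := d42_1 D8283 (iv D8283) F31108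
theorem F38851 : act 9 n8283 = n8283 := d44_2 (iv F31109) D8283 (iv D8283) F31109 F25103
def n8284 : Q := act 6 n6547
theorem D8284 : act 6 n6547 = n8284 := rfl
theorem F38857 : act 8 n8284 = n6552 := d40_2 (iv F31119) D8284 (iv D6552)
def n8285 : Q := act 5 n6548
theorem D8285 : act 5 n6548 = n8285 := rfl
theorem F38858 : act 1 n8285 = n6549 := d12_1 D8285 (iv D6549) (iv F31120)
def n8286 : Q := act 4 n6549
theorem D8286 : act 4 n6549 = n8286 := rfl
theorem F38862 : act 0 n8286 = n8286 := d3_1 D8286 (iv D8286) F31125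
theorem F38863 : act 2 n8286 = n6550 := d18_1 D8286 (iv D6550) (iv F31126)
theorem F38864 : act 5 n8286 = n8286 := d30_2 D6549 D8286 (iv D8286) (iv D6549) F25097
theorem F38865 : act 7 n8286 = n8286 := d32_2 F31128 D8286 (iv D8286)
theorem F38866 : act 8 n8286 = n8286 := d33_2 F31129 D8286 (iv D8286)
def n8287 : Q := act 4 n6554
theorem D8287 : act 4 n6554 = n8287 := rfl
theorem F38867 : act 0 n8287 = n6563 := d3_1 D8287 (iv D6563) (iv F31156)
theorem F38868 : act 1 n8287 = n8287 := d11_1 D8287 (iv D8287) F31157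
theorem F38869 : act 8 n8287 = n6556 := d33_2 (iv F31159) D8287 (iv D6556)
theorem F38870 : act 9 n8287 = n8287 := d34_2 F31160 D8287 (iv D8287)
def n8288 : Q := act 6 n6554
theorem D8288 : act 6 n6554 = n8288 := rfl
theorem F38873 : act 3 n8288 = n6748 := d26_1 D8288 (iv D6748) (iv F31158)
def n8289 : Q := act 4 n6555
theorem D8289 : act 4 n6555 = n8289 := rfl
theorem F38877 : act 0 n8289 = n6565 := d3_1 D8289 (iv D6565) (iv F31161)
theorem F38878 : act 1 n8289 = n8289 := d11_1 D8289 (iv D8289) F31162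
theorem F38879 : act 7 n8289 = n6556 := d32_2 (iv F31164) D8289 (iv D6556)
theorem F38880 : act 9 n8289 = n6650 := d34_2 (iv F31165) D8289 (iv D6650)
def n8290 : Q := act 6 n6555
theorem D8290 : act 6 n6555 = n8290 := rfl
def n8291 : Q := act 3 n6556
theorem D8291 : act 3 n6556 = n8291 := rfl
theorem F38888 : act 4 n8291 = n6751 := d24_2 D6556 D8291 (iv D6751) (iv D5368) (iv F25145)
theorem F38889 : act 9 n8291 = n6652 := d29_2 (iv F31168) D8291 (iv D6652)
def n8292 : Q := act 6 n6556
theorem D8292 : act 6 n6556 = n8292 := rfl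
def n8293 : Q := act 7 n6557
theorem D8293 : act 7 n6557 = n8293 := rfl
theorem F38896 : act 3 n8293 = n6753 := d27_1 D8293 (iv D6753) (iv F31171)
def n8294 : Q := act 2 n6558
theorem D8294 : act 2 n6558 = n8294 := rfl
theorem F38900 : act 4 n8294 = n6754 := d18_2 (iv F31176) D8294 (iv D6754)
theorem F38903 : act 9 n8294 = n6655 := d23_2 (iv F31179) D8294 (iv D6655)
def n8295 : Q := act 6 n6558
theorem D8295 : act 6 n6558 = n8295 := rfl
theorem F38906 : act 3 n8295 = n6559 := d26_1 D8295 (iv D6559) D6558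
theorem F38907 : act 4 n8295 = n6755 := d31_1 D8295 (iv D6755) (iv F31176)
def n8296 : Q := act 5 n6559
theorem D8296 : act 5 n6559 = n8296 := rfl
theorem F38910 : act 0 n8296 = n6572 := d4_1 D8296 (iv D6572) (iv F31180)
def n8297 : Q := act 7 n6559
theorem D8297 : act 7 n6559 = n8297 := rfl
def n8298 : Q := act 4 n6561
theorem D8298 : act 4 n6561 = n8298 := rfl
theorem F38919 : act 1 n8298 = n6576 := d11_1 D8298 (iv D6576) (iv F31191)
theorem F38920 : act 5 n8298 = n6563 := d30_2 D6561 D8298 (iv D6563) (iv D5229) (iv F25158)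
theorem F38921 : act 9 n8298 = n8298 := d34_2 F31192 D8298 (iv D8298)
def n8299 : Q := act 6 n6561
theorem D8299 : act 6 n6561 = n8299 := rfl
theorem F38922 : act 1 n8299 = n6577 := d13_1 D8299 (iv D6577) (iv F31191)
theorem F38923 : act 5 n8299 = n8299 := d35_1 D8299 (iv D8299) (iv D6561) F25159 D6561
theorem F38924 : act 9 n8299 = n8299 := d41_2 F31192 D8299 (iv D8299)
def n8300 : Q := act 4 n6562
theorem D8300 : act 4 n6562 = n8300 := rfl
theorem F38925 : act 1 n8300 = n6579 := d11_1 D8300 (iv D6579) (iv F31193)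
theorem F38926 : act 7 n8300 = n6563 := d32_2 (iv F31195) D8300 (iv D6563)
theorem F38927 : act 8 n8300 = n6565 := d33_2 (iv F31196) D8300 (iv D6565)
theorem F38928 : act 9 n8300 = n8300 := d34_2 F31197 D8300 (iv D8300)
def n8301 : Q := act 6 n6562
theorem D8301 : act 6 n6562 = n8301 := rfl
theorem F38929 : act 1 n8301 = n6580 := d13_1 D8301 (iv D6580) (iv F31193)
theorem F38930 : act 3 n8301 = n6761 := d26_1 D8301 (iv D6761) (iv F31194)
def n8302 : Q := act 3 n6563
theorem D8302 : act 3 n6563 = n8302 := rfl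
theorem F38933 : act 1 n8302 = n6581 := d10_1 D8302 (iv D6581) (iv F31198)
theorem F38934 : act 4 n8302 = n6762 := d24_2 D6563 D8302 (iv D6762) (iv D5375) (iv F25166)
def n8303 : Q := act 6 n6563
theorem D8303 : act 6 n6563 = n8303 := rfl
theorem F38937 : act 1 n8303 = n6582 := d13_1 D8303 (iv D6582) (iv F31198)
def n8304 : Q := act 7 n6564
theorem D8304 : act 7 n6564 = n8304 := rfl
theorem F38942 : act 3 n8304 = n6764 := d27_1 D8304 (iv D6764) (iv F31202)
def n8305 : Q := act 3 n6565
theorem D8305 : act 3 n6565 = n8305 := rfl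
theorem F38946 : act 1 n8305 = n6584 := d10_1 D8305 (iv D6584) (iv F31206)
theorem F38947 : act 4 n8305 = n6765 := d24_2 D6565 D8305 (iv D6765) (iv D5377) (iv F25170)
theorem F38948 : act 7 n8305 = n6567 := d27_2 (iv F31207) D8305 (iv D6567)
theorem F38949 : act 9 n8305 = n6659 := d29_2 (iv F31208) D8305 (iv D6659)
def n8306 : Q := act 6 n6565
theorem D8306 : act 6 n6565 = n8306 := rfl
theorem F38950 : act 1 n8306 = n6585 := d13_1 D8306 (iv D6585) (iv F31206)
def n8308 : Q := act 2 n6567
theorem D8308 : act 2 n6567 = n8308 := rfl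
theorem F38958 : act 4 n8308 = n6768 := d18_2 (iv F31214) D8308 (iv D6768)
theorem F38959 : act 9 n8308 = n6662 := d23_2 (iv F31215) D8308 (iv D6662)
def n8309 : Q := act 6 n6567
theorem D8309 : act 6 n6567 = n8309 := rfl
theorem F38961 : act 3 n8309 = n6568 := d26_1 D8309 (iv D6568) D6567
theorem F38962 : act 4 n8309 = n6769 := d31_1 D8309 (iv D6769) (iv F31214)
def n8310 : Q := act 5 n6568
theorem D8310 : act 5 n6568 = n8310 := rfl
def n8311 : Q := act 7 n6568
theorem D8311 : act 7 n6568 = n8311 := rfl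
def n8312 : Q := act 6 n6570
theorem D8312 : act 6 n6570 = n8312 := rfl
theorem F38972 : act 4 n8312 = n6772 := d31_1 D8312 (iv D6772) (iv F31224)
def n8313 : Q := act 5 n6571
theorem D8313 : act 5 n6571 = n8313 := rfl
theorem F38976 : act 3 n8313 = n6572 := d25_1 D8313 (iv D6572) (iv F31229)
def n8314 : Q := act 7 n6571
theorem D8314 : act 7 n6571 = n8314 := rfl
theorem F38979 : act 3 n8314 = n6573 := d27_1 D8314 (iv D6573) (iv F31229)
theorem F38980 : act 4 n8314 = n6774 := d32_1 D8314 (iv D6774) (iv F31230)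
def n8315 : Q := act 7 n6572
theorem D8315 : act 7 n6572 = n8315 := rfl
theorem F38986 : act 9 n8315 = n6669 := d43_2 (iv F31234) D8315 (iv D6669)
def n8316 : Q := act 8 n6572
theorem D8316 : act 8 n6572 = n8316 := rfl
theorem F38987 : act 1 n8316 = n6594 := d15_1 D8316 (iv D6594) (iv F31233)
def n8317 : Q := act 4 n6574
theorem D8317 : act 4 n6574 = n8317 := rfl
theorem F38989 : act 0 n8317 = n8317 := d3_1 D8317 (iv D8317) F31240
theorem F38990 : act 2 n8317 = n8317 := d18_1 D8317 (iv D8317) F31241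
theorem F38991 : act 5 n8317 = n6777 := d30_2 D6574 D8317 (iv D6777) (iv D5386) (iv F25196)
theorem F38992 : act 9 n8317 = n8317 := d34_2 F31243 D8317 (iv D8317)
def n8318 : Q := act 6 n6574
theorem D8318 : act 6 n6574 = n8318 := rfl
theorem F38993 : act 0 n8318 = n8318 := d5_1 D8318 (iv D8318) F31240
theorem F38994 : act 2 n8318 = n8318 := d20_1 D8318 (iv D8318) F31241
theorem F38995 : act 3 n8318 = n6577 := d26_1 D8318 (iv D6577) (iv F31242)
theorem F38996 : act 5 n8318 = n8318 := d35_1 D8318 (iv D8318) (iv D6574) F25197 D6574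
theorem F38997 : act 9 n8318 = n8318 := d41_2 F31243 D8318 (iv D8318)
def n8319 : Q := act 4 n6575
theorem D8319 : act 4 n6575 = n8319 := rfl
theorem F38998 : act 0 n8319 = n8319 := d3_1 D8319 (iv D8319) F31244
theorem F38999 : act 2 n8319 = n6596 := d18_1 D8319 (iv D6596) (iv F31245)
theorem F39000 : act 5 n8319 = n6579 := d30_2 D6575 D8319 (iv D6579) (iv D5240) (iv F25201)
theorem F39001 : act 7 n8319 = n6576 := d32_2 (iv F31246) D8319 (iv D6576)
theorem F39002 : act 9 n8319 = n8319 := d34_2 F31247 D8319 (iv D8319)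
def n8320 : Q := act 6 n6575
theorem D8320 : act 6 n6575 = n8320 := rfl
theorem F39003 : act 0 n8320 = n8320 := d5_1 D8320 (iv D8320) F31244
theorem F39004 : act 2 n8320 = n6597 := d20_1 D8320 (iv D6597) (iv F31245)
theorem F39005 : act 9 n8320 = n8320 := d41_2 F31247 D8320 (iv D8320)
def n8321 : Q := act 3 n6576
theorem D8321 : act 3 n6576 = n8321 := rfl
theorem F39006 : act 0 n8321 = n8321 := d2_1 D8321 (iv D8321) F31248
theorem F39007 : act 5 n8321 = n6581 := d25_2 (iv F31250) D8321 (iv D6581)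
theorem F39008 : act 9 n8321 = n8321 := d29_2 F31251 D8321 (iv D8321)
def n8322 : Q := act 6 n6576
theorem D8322 : act 6 n6576 = n8322 := rfl
theorem F39009 : act 0 n8322 = n8322 := d5_1 D8322 (iv D8322) F31248
theorem F39010 : act 2 n8322 = n6599 := d20_1 D8322 (iv D6599) (iv F31249)
theorem F39011 : act 4 n8322 = n6577 := d31_1 D8322 (iv D6577) D6576
theorem F39012 : act 9 n8322 = n8322 := d41_2 F31251 D8322 (iv D8322)
def n8323 : Q := act 7 n6577
theorem D8323 : act 7 n6577 = n8323 := rfl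
theorem F39013 : act 0 n8323 = n8323 := d6_1 D8323 (iv D8323) F31252
theorem F39014 : act 2 n8323 = n6600 := d21_1 D8323 (iv D6600) (iv F31253)
theorem F39015 : act 5 n8323 = n8323 := d36_1 D8323 (iv D8323) F31254
theorem F39016 : act 9 n8323 = n8323 := d43_2 F31255 D8323 (iv D8323)
def n8324 : Q := act 4 n6578
theorem D8324 : act 4 n6578 = n8324 := rfl
theorem F39017 : act 0 n8324 = n8324 := d3_1 D8324 (iv D8324) F31256
theorem F39018 : act 2 n8324 = n6601 := d18_1 D8324 (iv D6601) (iv F31257)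
theorem F39019 : act 3 n8324 = n8324 := d24_1 D8324 (iv D8324) F31258 F25869 (iv F31258)
theorem F39020 : act 7 n8324 = n8324 := d32_2 F31259 D8324 (iv D8324)
theorem F39021 : act 8 n8324 = n8324 := d33_2 F31260 D8324 (iv D8324)
theorem F39022 : act 9 n8324 = n8324 := d34_2 F31261 D8324 (iv D8324)
def n8325 : Q := act 6 n6578
theorem D8325 : act 6 n6578 = n8325 := rfl
theorem F39023 : act 0 n8325 = n8325 := d5_1 D8325 (iv D8325) F31256
theorem F39024 : act 2 n8325 = n6602 := d20_1 D8325 (iv D6602) (iv F31257)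
theorem F39026 : act 5 n8325 = n6580 := d35_1 D8325 (iv D6580) (iv D5240) (iv F25210) D6578
theorem F39027 : act 8 n8325 = n8325 := d40_2 F31260 D8325 (iv D8325)
theorem F39028 : act 9 n8325 = n8325 := d41_2 F31261 D8325 (iv D8325)
def n8326 : Q := act 3 n6579
theorem D8326 : act 3 n6579 = n8326 := rfl
theorem F39029 : act 0 n8326 = n8326 := d2_1 D8326 (iv D8326) F31262
theorem F39030 : act 4 n8326 = n6783 := d24_2 D6579 D8326 (iv D6783) (iv D5391) (iv F25215)
theorem F39031 : act 7 n8326 = n6581 := d27_2 (iv F31264) D8326 (iv D6581)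
theorem F39032 : act 8 n8326 = n6584 := d28_2 (iv F31265) D8326 (iv D6584)
theorem F39033 : act 9 n8326 = n8326 := d29_2 F31266 D8326 (iv D8326)
def n8327 : Q := act 6 n6579
theorem D8327 : act 6 n6579 = n8327 := rfl
theorem F39034 : act 0 n8327 = n8327 := d5_1 D8327 (iv D8327) F31262
theorem F39035 : act 2 n8327 = n6604 := d20_1 D8327 (iv D6604) (iv F31263)
theorem F39036 : act 4 n8327 = n6580 := d31_1 D8327 (iv D6580) D6579
theorem F39037 : act 8 n8327 = n6585 := d40_2 (iv F31265) D8327 (iv D6585)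
theorem F39038 : act 9 n8327 = n8327 := d41_2 F31266 D8327 (iv D8327)
def n8328 : Q := act 7 n6580
theorem D8328 : act 7 n6580 = n8328 := rfl
theorem F39040 : act 2 n8328 = n6605 := d21_1 D8328 (iv D6605) (iv F31268)
theorem F39041 : act 3 n8328 = n6785 := d27_1 D8328 (iv D6785) (iv F31269)
theorem F39042 : act 6 n8328 = n6583 := d39_1 D8328 (iv D6583) (iv D5242) (iv F25216) D6580
def n8329 : Q := act 2 n6581
theorem D8329 : act 2 n6581 = n8329 := rfl
theorem F39046 : act 3 n8329 = n6606 := d17_2 D6581 D8329 (iv D6606) (iv D5258) (iv F25220)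
theorem F39047 : act 4 n8329 = n6786 := d18_2 (iv F31273) D8329 (iv D6786)
theorem F39048 : act 8 n8329 = n6587 := d22_2 (iv F31274) D8329 (iv D6587)
def n8330 : Q := act 6 n6581
theorem D8330 : act 6 n6581 = n8330 := rfl
theorem F39051 : act 3 n8330 = n6582 := d26_1 D8330 (iv D6582) D6581
theorem F39052 : act 4 n8330 = n6787 := d31_1 D8330 (iv D6787) (iv F31273)
def n8331 : Q := act 5 n6582
theorem D8331 : act 5 n6582 = n8331 := rfl
theorem F39055 : act 0 n8331 = n8331 := d4_1 D8331 (iv D8331) F31276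
theorem F39056 : act 2 n8331 = n6608 := d19_1 D8331 (iv D6608) (iv F31277)
theorem F39057 : act 4 n8331 = n8331 := d30_1 D8331 (iv D8331) F31278 F25226 (iv F31278)
theorem F39058 : act 9 n8331 = n8331 := d38_2 F31280 D8331 (iv D8331)
def n8332 : Q := act 7 n6582
theorem D8332 : act 7 n6582 = n8332 := rfl
theorem F39060 : act 2 n8332 = n6609 := d21_1 D8332 (iv D6609) (iv F31277)
def n8333 : Q := act 2 n6584
theorem D8333 : act 2 n6584 = n8333 := rfl
theorem F39065 : act 3 n8333 = n6610 := d17_2 D6584 D8333 (iv D6610) (iv D5261) (iv F25230)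
theorem F39066 : act 4 n8333 = n6790 := d18_2 (iv F31288) D8333 (iv D6790)
theorem F39067 : act 7 n8333 = n6587 := d21_2 (iv F31289) D8333 (iv D6587)
theorem F39068 : act 9 n8333 = n6671 := d23_2 (iv F31290) D8333 (iv D6671)
def n8334 : Q := act 6 n6584
theorem D8334 : act 6 n6584 = n8334 := rfl
theorem F39070 : act 3 n8334 = n6585 := d26_1 D8334 (iv D6585) D6584
theorem F39071 : act 4 n8334 = n6791 := d31_1 D8334 (iv D6791) (iv F31288)
theorem F39072 : act 9 n8334 = n6672 := d41_2 (iv F31290) D8334 (iv D6672)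
def n8335 : Q := act 5 n6585
theorem D8335 : act 5 n6585 = n8335 := rfl
theorem F39076 : act 9 n8335 = n6673 := d38_2 (iv F31294) D8335 (iv D6673)
def n8336 : Q := act 7 n6585
theorem D8336 : act 7 n6585 = n8336 := rfl
theorem F39080 : act 6 n8336 = n6590 := d39_1 D8336 (iv D6590) (iv D5246) (iv F25231) D6585
theorem F39081 : act 9 n8336 = n6674 := d43_2 (iv F31294) D8336 (iv D6674)
def n8337 : Q := act 1 n6587
theorem D8337 : act 1 n6587 = n8337 := rfl
theorem F39083 : act 4 n8337 = n6794 := d11_2 (iv F31303) D8337 (iv D6794)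
theorem F39084 : act 9 n8337 = n6675 := d16_2 (iv F31304) D8337 (iv D6675)
def n8338 : Q := act 6 n6587
theorem D8338 : act 6 n6587 = n8338 := rfl
theorem F39087 : act 3 n8338 = n6615 := d26_1 D8338 (iv D6615) (iv F31302)
theorem F39088 : act 4 n8338 = n6795 := d31_1 D8338 (iv D6795) (iv F31303)
def n8339 : Q := act 5 n6588
theorem D8339 : act 5 n6588 = n8339 := rfl
theorem F39091 : act 3 n8339 = n6589 := d25_1 D8339 (iv D6589) (iv F31306)
def n8340 : Q := act 7 n6588
theorem D8340 : act 7 n6588 = n8340 := rfl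
theorem F39094 : act 3 n8340 = n6590 := d27_1 D8340 (iv D6590) (iv F31306)
theorem F39095 : act 4 n8340 = n6797 := d32_1 D8340 (iv D6797) (iv F31307)
def n8341 : Q := act 7 n6589
theorem D8341 : act 7 n6589 = n8341 := rfl
theorem F39098 : act 2 n8341 = n6618 := d21_1 D8341 (iv D6618) (iv F31310)
theorem F39100 : act 5 n8341 = n6590 := d36_1 D8341 (iv D6590) D6589
def n8342 : Q := act 8 n6589
theorem D8342 : act 8 n6589 = n8342 := rfl
theorem F39103 : act 2 n8342 = n6619 := d22_1 D8342 (iv D6619) (iv F31310)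
def n8343 : Q := act 4 n6591
theorem D8343 : act 4 n6591 = n8343 := rfl
theorem F39107 : act 5 n8343 = n6800 := d30_2 D6591 D8343 (iv D6800) (iv D5403) (iv F25253)
def n8344 : Q := act 7 n6591
theorem D8344 : act 7 n6591 = n8344 := rfl
theorem F39111 : act 3 n8344 = n6593 := d27_1 D8344 (iv D6593) (iv F31319)
def n8345 : Q := act 8 n6591
theorem D8345 : act 8 n6591 = n8345 := rfl
theorem F39116 : act 3 n8345 = n6594 := d28_1 D8345 (iv D6594) (iv F31319)
def n8346 : Q := act 6 n6593
theorem D8346 : act 6 n6593 = n8346 := rfl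
theorem F39119 : act 2 n8346 = n6620 := d20_1 D8346 (iv D6620) (iv F31329)
def n8347 : Q := act 8 n6593
theorem D8347 : act 8 n6593 = n8347 := rfl
theorem F39123 : act 2 n8347 = n6621 := d22_1 D8347 (iv D6621) (iv F31329)
theorem F39125 : act 7 n8347 = n6594 := d42_1 D8347 (iv D6594) D6593
def n8348 : Q := act 9 n6594
theorem D8348 : act 9 n6594 = n8348 := rfl
theorem F39127 : act 2 n8348 = n6622 := d23_1 D8348 (iv D6622) (iv F31333)
def n8349 : Q := act 4 n6595
theorem D8349 : act 4 n6595 = n8349 := rfl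
theorem F39130 : act 0 n8349 = n8349 := d3_1 D8349 (iv D8349) F31335
theorem F39131 : act 5 n8349 = n6601 := d30_2 D6595 D8349 (iv D6601) (iv D5255) (iv F25267)
theorem F39132 : act 7 n8349 = n8349 := d32_2 F31337 D8349 (iv D8349)
theorem F39133 : act 9 n8349 = n8349 := d34_2 F31338 D8349 (iv D8349)
def n8350 : Q := act 6 n6595
theorem D8350 : act 6 n6595 = n8350 := rfl
theorem F39134 : act 0 n8350 = n8350 := d5_1 D8350 (iv D8350) F31335
theorem F39135 : act 3 n8350 = n8350 := d26_1 D8350 (iv D8350) F31336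
theorem F39136 : act 5 n8350 = n6597 := d35_1 D8350 (iv D6597) (iv D5252) (iv F25268) D6595
theorem F39137 : act 9 n8350 = n8350 := d41_2 F31338 D8350 (iv D8350)
def n8351 : Q := act 3 n6596
theorem D8351 : act 3 n6596 = n8351 := rfl
theorem F39140 : act 5 n8351 = n6603 := d25_2 (iv F31340) D8351 (iv D6603)
theorem F39141 : act 7 n8351 = n6598 := d27_2 (iv F31341) D8351 (iv D6598)
def n8352 : Q := act 6 n6596
theorem D8352 : act 6 n6596 = n8352 := rfl
theorem F39143 : act 0 n8352 = n8352 := d5_1 D8352 (iv D8352) F31339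
theorem F39144 : act 4 n8352 = n6597 := d31_1 D8352 (iv D6597) D6596
theorem F39145 : act 9 n8352 = n8352 := d41_2 F31342 D8352 (iv D8352)
def n8353 : Q := act 7 n6597
theorem D8353 : act 7 n6597 = n8353 := rfl
theorem F39146 : act 0 n8353 = n8353 := d6_1 D8353 (iv D8353) F31343
theorem F39147 : act 3 n8353 = n8353 := d27_1 D8353 (iv D8353) F31344
theorem F39148 : act 6 n8353 = n6600 := d39_1 D8353 (iv D6600) (iv D5254) (iv F25273) D6597
theorem F39149 : act 9 n8353 = n8353 := d43_2 F31345 D8353 (iv D8353)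
def n8354 : Q := act 2 n6598
theorem D8354 : act 2 n6598 = n8354 := rfl
theorem F39150 : act 0 n8354 = n8354 := d1_1 D8354 (iv D8354) F31346
theorem F39151 : act 4 n8354 = n8354 := d18_2 F31347 D8354 (iv D8354)
theorem F39152 : act 5 n8354 = n6606 := d19_2 (iv F31348) D8354 (iv D6606)
theorem F39153 : act 9 n8354 = n8354 := d23_2 F31349 D8354 (iv D8354)
def n8355 : Q := act 6 n6598
theorem D8355 : act 6 n6598 = n8355 := rfl
theorem F39154 : act 0 n8355 = n8355 := d5_1 D8355 (iv D8355) F31346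
theorem F39155 : act 3 n8355 = n6599 := d26_1 D8355 (iv D6599) D6598
theorem F39156 : act 4 n8355 = n8355 := d31_1 D8355 (iv D8355) F31347
theorem F39157 : act 9 n8355 = n8355 := d41_2 F31349 D8355 (iv D8355)
def n8356 : Q := act 5 n6599
theorem D8356 : act 5 n6599 = n8356 := rfl
theorem F39158 : act 0 n8356 = n8356 := d4_1 D8356 (iv D8356) F31350
theorem F39159 : act 4 n8356 = n8356 := d30_1 D8356 (iv D8356) F31351 F25280 (iv F31351)
theorem F39160 : act 6 n8356 = n6608 := d35_2 D6599 D8356 (iv D6608) (iv D5259) (iv F25276)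
theorem F39161 : act 9 n8356 = n8356 := d38_2 F31352 D8356 (iv D8356)
def n8357 : Q := act 7 n6599
theorem D8357 : act 7 n6599 = n8357 := rfl
theorem F39162 : act 0 n8357 = n8357 := d6_1 D8357 (iv D8357) F31350
theorem F39163 : act 4 n8357 = n6600 := d32_1 D8357 (iv D6600) (iv F31351)
theorem F39164 : act 9 n8357 = n8357 := d43_2 F31352 D8357 (iv D8357)
def n8358 : Q := act 3 n6601
theorem D8358 : act 3 n6601 = n8358 := rfl
theorem F39165 : act 0 n8358 = n8358 := d2_1 D8358 (iv D8358) F31357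
theorem F39166 : act 2 n8358 = n8358 := d17_1 D8358 (iv D8358) (iv F39018) F39019 F39018
theorem F39167 : act 4 n8358 = n6623 := d24_2 D6601 D8358 (iv D6623) (iv D5270) (iv F25283)
theorem F39168 : act 7 n8358 = n8358 := d27_2 F31358 D8358 (iv D8358)
theorem F39169 : act 8 n8358 = n8358 := d28_2 F31359 D8358 (iv D8358)
theorem F39170 : act 9 n8358 = n8358 := d29_2 F31360 D8358 (iv D8358)
def n8359 : Q := act 6 n6601
theorem D8359 : act 6 n6601 = n8359 := rfl
theorem F39171 : act 0 n8359 = n8359 := d5_1 D8359 (iv D8359) F31357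
theorem F39172 : act 4 n8359 = n6602 := d31_1 D8359 (iv D6602) D6601
theorem F39173 : act 8 n8359 = n8359 := d40_2 F31359 D8359 (iv D8359)
theorem F39174 : act 9 n8359 = n8359 := d41_2 F31360 D8359 (iv D8359)
def n8360 : Q := act 7 n6602
theorem D8360 : act 7 n6602 = n8360 := rfl
theorem F39175 : act 0 n8360 = n8360 := d6_1 D8360 (iv D8360) F31361
theorem F39176 : act 3 n8360 = n6625 := d27_1 D8360 (iv D6625) (iv F31362)
theorem F39177 : act 5 n8360 = n6605 := d36_1 D8360 (iv D6605) (iv F31363)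
theorem F39178 : act 6 n8360 = n8360 := d39_1 D8360 (iv D8360) (iv D6602) F25284 D6602
theorem F39179 : act 8 n8360 = n8360 := d42_2 F31364 D8360 (iv D8360)
theorem F39180 : act 9 n8360 = n8360 := d43_2 F31365 D8360 (iv D8360)
def n8361 : Q := act 2 n6603
theorem D8361 : act 2 n6603 = n8361 := rfl
theorem F39182 : act 4 n8361 = n6626 := d18_2 (iv F31367) D8361 (iv D6626)
theorem F39183 : act 7 n8361 = n6606 := d21_2 (iv F31368) D8361 (iv D6606)
def n8362 : Q := act 6 n6603
theorem D8362 : act 6 n6603 = n8362 := rfl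
theorem F39187 : act 3 n8362 = n6604 := d26_1 D8362 (iv D6604) D6603
theorem F39188 : act 4 n8362 = n6627 := d31_1 D8362 (iv D6627) (iv F31367)
theorem F39189 : act 8 n8362 = n6611 := d40_2 (iv F31369) D8362 (iv D6611)
def n8363 : Q := act 5 n6604
theorem D8363 : act 5 n6604 = n8363 := rfl
def n8364 : Q := act 7 n6604
theorem D8364 : act 7 n6604 = n8364 := rfl
theorem F39194 : act 4 n8364 = n6605 := d32_1 D8364 (iv D6605) (iv F31372)
def n8365 : Q := act 1 n6606
theorem D8365 : act 1 n6606 = n8365 := rfl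
theorem F39198 : act 4 n8365 = n6630 := d11_2 (iv F31381) D8365 (iv D6630)
def n8366 : Q := act 6 n6606
theorem D8366 : act 6 n6606 = n8366 := rfl
theorem F39202 : act 2 n8366 = n6607 := d20_1 D8366 (iv D6607) D6606
theorem F39204 : act 8 n8366 = n6615 := d40_2 (iv F31382) D8366 (iv D6615)
def n8367 : Q := act 5 n6607
theorem D8367 : act 5 n6607 = n8367 := rfl
theorem F39206 : act 0 n8367 = n8367 := d4_1 D8367 (iv D8367) F31384
theorem F39207 : act 3 n8367 = n6608 := d25_1 D8367 (iv D6608) (iv F31385)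
theorem F39208 : act 9 n8367 = n8367 := d38_2 F31388 D8367 (iv D8367)
def n8368 : Q := act 7 n6607
theorem D8368 : act 7 n6607 = n8368 := rfl
theorem F39212 : act 8 n8368 = n6617 := d42_2 (iv F31387) D8368 (iv D6617)
def n8369 : Q := act 7 n6608
theorem D8369 : act 7 n6608 = n8369 := rfl
def n8370 : Q := act 8 n6608
theorem D8370 : act 8 n6608 = n8370 := rfl
theorem F39218 : act 0 n8370 = n8370 := d7_1 D8370 (iv D8370) F31389
theorem F39219 : act 4 n8370 = n8370 := d33_1 D8370 (iv D8370) F31390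
theorem F39220 : act 5 n8370 = n6619 := d37_1 D8370 (iv D6619) (iv D5266) (iv F25301) D6608
def n8371 : Q := act 1 n6610
theorem D8371 : act 1 n6610 = n8371 := rfl
theorem F39221 : act 4 n8371 = n6635 := d11_2 (iv F31397) D8371 (iv D6635)
theorem F39222 : act 7 n8371 = n6614 := d14_2 (iv F31398) D8371 (iv D6614)
theorem F39223 : act 9 n8371 = n6687 := d16_2 (iv F31399) D8371 (iv D6687)
def n8372 : Q := act 6 n6610
theorem D8372 : act 6 n6610 = n8372 := rfl
theorem F39226 : act 4 n8372 = n6636 := d31_1 D8372 (iv D6636) (iv F31397)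
theorem F39227 : act 9 n8372 = n6688 := d41_2 (iv F31399) D8372 (iv D6688)
def n8373 : Q := act 5 n6611
theorem D8373 : act 5 n6611 = n8373 := rfl
theorem F39229 : act 3 n8373 = n6612 := d25_1 D8373 (iv D6612) (iv F31401)
theorem F39230 : act 9 n8373 = n6689 := d38_2 (iv F31403) D8373 (iv D6689)
def n8374 : Q := act 7 n6611
theorem D8374 : act 7 n6611 = n8374 := rfl
theorem F39232 : act 3 n8374 = n6613 := d27_1 D8374 (iv D6613) (iv F31401)
theorem F39233 : act 4 n8374 = n6638 := d32_1 D8374 (iv D6638) (iv F31402)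
theorem F39234 : act 6 n8374 = n6617 := d39_1 D8374 (iv D6617) (iv D5265) (iv F25310) D6611
theorem F39235 : act 9 n8374 = n6690 := d43_2 (iv F31403) D8374 (iv D6690)
def n8375 : Q := act 7 n6612
theorem D8375 : act 7 n6612 = n8375 := rfl
def n8376 : Q := act 8 n6612
theorem D8376 : act 8 n6612 = n8376 := rfl
def n8378 : Q := act 6 n6614
theorem D8378 : act 6 n6614 = n8378 := rfl
def n8379 : Q := act 5 n6615
theorem D8379 : act 5 n6615 = n8379 := rfl
theorem F39249 : act 2 n8379 = n6616 := d19_1 D8379 (iv D6616) (iv F31414)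
theorem F39251 : act 9 n8379 = n6695 := d38_2 (iv F31416) D8379 (iv D6695)
def n8380 : Q := act 7 n6615
theorem D8380 : act 7 n6615 = n8380 := rfl
def n8381 : Q := act 7 n6616
theorem D8381 : act 7 n6616 = n8381 := rfl
theorem F39259 : act 5 n8381 = n6617 := d36_1 D8381 (iv D6617) D6616
def n8382 : Q := act 8 n6616
theorem D8382 : act 8 n6616 = n8382 := rfl
theorem F39261 : act 0 n8382 = n8382 := d7_1 D8382 (iv D8382) F31417
theorem F39262 : act 3 n8382 = n6619 := d28_1 D8382 (iv D6619) (iv F31418)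
theorem F39263 : act 4 n8382 = n8382 := d33_1 D8382 (iv D8382) F31419
def n8383 : Q := act 6 n6618
theorem D8383 : act 6 n6618 = n8383 := rfl
def n8384 : Q := act 8 n6618
theorem D8384 : act 8 n6618 = n8384 := rfl
theorem F39269 : act 7 n8384 = n6619 := d42_1 D8384 (iv D6619) D6618
def n8385 : Q := act 9 n6619
theorem D8385 : act 9 n6619 = n8385 := rfl
theorem F39270 : act 0 n8385 = n8385 := d8_1 D8385 (iv D8385) F31429
theorem F39271 : act 4 n8385 = n6622 := d34_1 D8385 (iv D6622) (iv F31430)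
theorem F39272 : act 8 n8385 = n6701 := d44_1 D8385 (iv D6701) (iv D5326) (iv F25329) D6619
def n8386 : Q := act 8 n6620
theorem D8386 : act 8 n6620 = n8386 := rfl
def n8387 : Q := act 9 n6621
theorem D8387 : act 9 n6621 = n8387 := rfl
theorem F39279 : act 7 n8387 = n6622 := d43_1 D8387 (iv D6622) (iv F31438)
def n8388 : Q := act 6 n6623
theorem D8388 : act 6 n6623 = n8388 := rfl
theorem F39283 : act 3 n8388 = n6624 := d26_1 D8388 (iv D6624) D6623
def n8389 : Q := act 5 n6624
theorem D8389 : act 5 n6624 = n8389 := rfl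
theorem F39288 : act 4 n8389 = n6628 := d30_1 D8389 (iv D6628) F25358 (iv F25348) (iv F31451)
def n8390 : Q := act 7 n6624
theorem D8390 : act 7 n6624 = n8390 := rfl
theorem F39293 : act 4 n8390 = n6625 := d32_1 D8390 (iv D6625) (iv F31451)
def n8391 : Q := act 1 n6626
theorem D8391 : act 1 n6626 = n8391 := rfl
theorem F39299 : act 7 n8391 = n6630 := d14_2 (iv F31463) D8391 (iv D6630)
theorem F39300 : act 8 n8391 = n6635 := d15_2 (iv F31464) D8391 (iv D6635)
def n8392 : Q := act 6 n6626
theorem D8392 : act 6 n6626 = n8392 := rfl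
theorem F39305 : act 8 n8392 = n6636 := d40_2 (iv F31464) D8392 (iv D6636)
def n8393 : Q := act 5 n6627
theorem D8393 : act 5 n6627 = n8393 := rfl
theorem F39308 : act 3 n8393 = n6628 := d25_1 D8393 (iv D6628) (iv F31467)
def n8394 : Q := act 7 n6627
theorem D8394 : act 7 n6627 = n8394 := rfl
theorem F39313 : act 6 n8394 = n6633 := d39_1 D8394 (iv D6633) (iv D5276) (iv F25353) D6627
theorem F39314 : act 8 n8394 = n6638 := d42_2 (iv F31468) D8394 (iv D6638)
def n8395 : Q := act 7 n6628
theorem D8395 : act 7 n6628 = n8395 := rfl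
theorem F39318 : act 5 n8395 = n6629 := d36_1 D8395 (iv D6629) D6628
def n8396 : Q := act 8 n6628
theorem D8396 : act 8 n6628 = n8396 := rfl
theorem F39322 : act 5 n8396 = n6640 := d37_1 D8396 (iv D6640) (iv D5281) (iv F25359) D6628
def n8398 : Q := act 6 n6630
theorem D8398 : act 6 n6630 = n8398 := rfl
def n8399 : Q := act 5 n6631
theorem D8399 : act 5 n6631 = n8399 := rfl
def n8400 : Q := act 7 n6631
theorem D8400 : act 7 n6631 = n8400 := rfl
def n8401 : Q := act 4 n6632
theorem D8401 : act 4 n6632 = n8401 := rfl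
theorem F39344 : act 0 n8401 = n8401 := d3_1 D8401 (iv D8401) F31489
theorem F39345 : act 3 n8401 = n8401 := d24_1 D8401 (iv D8401) F31490 F25377 (iv F31490)
theorem F39346 : act 6 n8401 = n8401 := d31_2 F31491 D8401 (iv D8401)
theorem F39347 : act 8 n8401 = n8401 := d33_2 F31492 D8401 (iv D8401)
theorem F39348 : act 9 n8401 = n8401 := d34_2 F31493 D8401 (iv D8401)
def n8402 : Q := act 7 n6632
theorem D8402 : act 7 n6632 = n8402 := rfl
theorem F39350 : act 3 n8402 = n6634 := d27_1 D8402 (iv D6634) (iv F31490)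
theorem F39351 : act 5 n8402 = n6633 := d36_1 D8402 (iv D6633) D6632
def n8403 : Q := act 6 n6634
theorem D8403 : act 6 n6634 = n8403 := rfl
def n8404 : Q := act 0 n6635
theorem D8404 : act 0 n6635 = n8404 := rfl
theorem F39362 : act 5 n8404 = n6644 := d4_2 (iv F31505) D8404 (iv D6644)
theorem F39364 : act 9 n8404 = n6704 := d8_2 (iv F31507) D8404 (iv D6704)
def n8405 : Q := act 6 n6635
theorem D8405 : act 6 n6635 = n8405 := rfl
theorem F39367 : act 9 n8405 = n6705 := d41_2 (iv F31507) D8405 (iv D6705)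
def n8406 : Q := act 5 n6636
theorem D8406 : act 5 n6636 = n8406 := rfl
theorem F39371 : act 6 n8406 = n6646 := d35_2 D6636 D8406 (iv D6646) (iv D5287) (iv F25388)
def n8407 : Q := act 7 n6636
theorem D8407 : act 7 n6636 = n8407 := rfl
def n8408 : Q := act 4 n6637
theorem D8408 : act 4 n6637 = n8408 := rfl
theorem F39380 : act 6 n8408 = n6647 := d31_2 (iv F31514) D8408 (iv D6647)
def n8409 : Q := act 7 n6637
theorem D8409 : act 7 n6637 = n8409 := rfl
theorem F39384 : act 5 n8409 = n6638 := d36_1 D8409 (iv D6638) D6637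
def n8410 : Q := act 8 n6637
theorem D8410 : act 8 n6637 = n8410 := rfl
theorem F39389 : act 6 n8410 = n6648 := d40_1 D8410 (iv D6648) (iv F31514)
def n8411 : Q := act 8 n6639
theorem D8411 : act 8 n6639 = n8411 := rfl
theorem F39394 : act 7 n8411 = n6640 := d42_1 D8411 (iv D6640) D6639
def n8412 : Q := act 9 n6640
theorem D8412 : act 9 n6640 = n8412 := rfl
theorem F39398 : act 6 n8412 = n6649 := d41_1 D8412 (iv D6649) (iv F31529)
def n8414 : Q := act 7 n6642
theorem D8414 : act 7 n6642 = n8414 := rfl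
def n8415 : Q := act 6 n6644
theorem D8415 : act 6 n6644 = n8415 := rfl
theorem F39411 : act 3 n8415 = n6862 := d26_1 D8415 (iv D6862) (iv F31544)
def n8416 : Q := act 5 n6645
theorem D8416 : act 5 n6645 = n8416 := rfl
theorem F39416 : act 3 n8416 = n6863 := d25_1 D8416 (iv D6863) (iv F31549)
def n8417 : Q := act 4 n6646
theorem D8417 : act 4 n6646 = n8417 := rfl
theorem F39420 : act 2 n8417 = n6647 := d18_1 D8417 (iv D6647) (iv F31554)
def n8418 : Q := act 8 n6646
theorem D8418 : act 8 n6646 = n8418 := rfl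
theorem F39424 : act 2 n8418 = n6648 := d22_1 D8418 (iv D6648) (iv F31554)
theorem F39425 : act 3 n8418 = n6865 := d28_1 D8418 (iv D6865) (iv F31555)
def n8419 : Q := act 8 n6647
theorem D8419 : act 8 n6647 = n8419 := rfl
def n8420 : Q := act 9 n6648
theorem D8420 : act 9 n6648 = n8420 := rfl
def n8421 : Q := act 3 n6650
theorem D8421 : act 3 n6650 = n8421 := rfl
theorem F39437 : act 0 n8421 = n6659 := d2_1 D8421 (iv D6659) (iv F31572)
theorem F39439 : act 4 n8421 = n6868 := d24_2 D6650 D8421 (iv D6868) (iv D5457) (iv F25442)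
theorem F39440 : act 7 n8421 = n6652 := d27_2 (iv F31574) D8421 (iv D6652)
def n8422 : Q := act 6 n6650
theorem D8422 : act 6 n6650 = n8422 := rfl
theorem F39442 : act 0 n8422 = n6660 := d5_1 D8422 (iv D6660) (iv F31572)
def n8424 : Q := act 2 n6652
theorem D8424 : act 2 n6652 = n8424 := rfl
theorem F39452 : act 0 n8424 = n6662 := d1_1 D8424 (iv D6662) (iv F31581)
theorem F39453 : act 4 n8424 = n6871 := d18_2 (iv F31583) D8424 (iv D6871)
def n8425 : Q := act 6 n6652
theorem D8425 : act 6 n6652 = n8425 := rfl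
theorem F39457 : act 3 n8425 = n6653 := d26_1 D8425 (iv D6653) D6652
theorem F39458 : act 4 n8425 = n6872 := d31_1 D8425 (iv D6872) (iv F31583)
def n8426 : Q := act 5 n6653
theorem D8426 : act 5 n6653 = n8426 := rfl
theorem F39462 : act 4 n8426 = n6657 := d30_1 D8426 (iv D6657) F25460 (iv F25451) (iv F31587)
def n8427 : Q := act 7 n6653
theorem D8427 : act 7 n6653 = n8427 := rfl
def n8428 : Q := act 1 n6655
theorem D8428 : act 1 n6655 = n8428 := rfl
theorem F39469 : act 4 n8428 = n6875 := d11_2 (iv F31595) D8428 (iv D6875)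
def n8429 : Q := act 6 n6655
theorem D8429 : act 6 n6655 = n8429 := rfl
theorem F39473 : act 2 n8429 = n6656 := d20_1 D8429 (iv D6656) D6655
theorem F39474 : act 4 n8429 = n6876 := d31_1 D8429 (iv D6876) (iv F31595)
theorem F39475 : act 8 n8429 = n6725 := d40_2 (iv F31597) D8429 (iv D6725)
def n8430 : Q := act 5 n6656
theorem D8430 : act 5 n6656 = n8430 := rfl
theorem F39478 : act 3 n8430 = n6657 := d25_1 D8430 (iv D6657) (iv F31600)
def n8431 : Q := act 7 n6656
theorem D8431 : act 7 n6656 = n8431 := rfl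
theorem F39481 : act 3 n8431 = n6658 := d27_1 D8431 (iv D6658) (iv F31600)
theorem F39482 : act 4 n8431 = n6878 := d32_1 D8431 (iv D6878) (iv F31601)
def n8432 : Q := act 7 n6657
theorem D8432 : act 7 n6657 = n8432 := rfl
def n8433 : Q := act 8 n6657
theorem D8433 : act 8 n6657 = n8433 := rfl
def n8434 : Q := act 2 n6659
theorem D8434 : act 2 n6659 = n8434 := rfl
theorem F39491 : act 4 n8434 = n6881 := d18_2 (iv F31611) D8434 (iv D6881)
theorem F39492 : act 7 n8434 = n6662 := d21_2 (iv F31612) D8434 (iv D6662)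
def n8435 : Q := act 6 n6659
theorem D8435 : act 6 n6659 = n8435 := rfl
theorem F39495 : act 3 n8435 = n6660 := d26_1 D8435 (iv D6660) D6659
theorem F39496 : act 4 n8435 = n6882 := d31_1 D8435 (iv D6882) (iv F31611)
def n8436 : Q := act 5 n6660
theorem D8436 : act 5 n6660 = n8436 := rfl
def n8437 : Q := act 7 n6660
theorem D8437 : act 7 n6660 = n8437 := rfl
theorem F39502 : act 6 n8437 = n6665 := d39_1 D8437 (iv D6665) (iv D5300) (iv F25468) D6660
def n8438 : Q := act 1 n6662
theorem D8438 : act 1 n6662 = n8438 := rfl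
theorem F39504 : act 2 n8438 = n6675 := d9_2 D6662 D8438 (iv D6675) (iv D5309) (iv F25474)
theorem F39505 : act 4 n8438 = n6885 := d11_2 (iv F31622) D8438 (iv D6885)
def n8439 : Q := act 6 n6662
theorem D8439 : act 6 n6662 = n8439 := rfl
theorem F39508 : act 4 n8439 = n6886 := d31_1 D8439 (iv D6886) (iv F31622)
def n8440 : Q := act 5 n6663
theorem D8440 : act 5 n6663 = n8440 := rfl
theorem F39511 : act 3 n8440 = n6664 := d25_1 D8440 (iv D6664) (iv F31625)
def n8441 : Q := act 7 n6663
theorem D8441 : act 7 n6663 = n8441 := rfl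
theorem F39513 : act 3 n8441 = n6665 := d27_1 D8441 (iv D6665) (iv F31625)
theorem F39514 : act 4 n8441 = n6888 := d32_1 D8441 (iv D6888) (iv F31626)
def n8442 : Q := act 7 n6664
theorem D8442 : act 7 n6664 = n8442 := rfl
theorem F39518 : act 5 n8442 = n6665 := d36_1 D8442 (iv D6665) D6664
def n8444 : Q := act 5 n6666
theorem D8444 : act 5 n6666 = n8444 := rfl
def n8445 : Q := act 7 n6666
theorem D8445 : act 7 n6666 = n8445 := rfl
theorem F39526 : act 4 n8445 = n6892 := d32_1 D8445 (iv D6892) (iv F31635)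
theorem F39528 : act 8 n8445 = n6731 := d42_2 (iv F31636) D8445 (iv D6731)
def n8446 : Q := act 4 n6667
theorem D8446 : act 4 n6667 = n8446 := rfl
theorem F39530 : act 5 n8446 = n6893 := d30_2 D6667 D8446 (iv D6893) (iv D5474) (iv F25490)
def n8447 : Q := act 7 n6667
theorem D8447 : act 7 n6667 = n8447 := rfl
theorem F39532 : act 3 n8447 = n6669 := d27_1 D8447 (iv D6669) (iv F31638)
def n8449 : Q := act 6 n6669
theorem D8449 : act 6 n6669 = n8449 := rfl
def n8450 : Q := act 8 n6669
theorem D8450 : act 8 n6669 = n8450 := rfl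
def n8452 : Q := act 1 n6671
theorem D8452 : act 1 n6671 = n8452 := rfl
theorem F39544 : act 3 n8452 = n6687 := d10_2 (iv F31649) D8452 (iv D6687)
theorem F39545 : act 4 n8452 = n6899 := d11_2 (iv F31650) D8452 (iv D6899)
theorem F39546 : act 7 n8452 = n6675 := d14_2 (iv F31651) D8452 (iv D6675)
def n8453 : Q := act 6 n6671
theorem D8453 : act 6 n6671 = n8453 := rfl
theorem F39549 : act 2 n8453 = n6672 := d20_1 D8453 (iv D6672) D6671
theorem F39550 : act 3 n8453 = n6688 := d26_1 D8453 (iv D6688) (iv F31649)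
theorem F39551 : act 4 n8453 = n6900 := d31_1 D8453 (iv D6900) (iv F31650)
def n8454 : Q := act 5 n6672
theorem D8454 : act 5 n6672 = n8454 := rfl
theorem F39554 : act 3 n8454 = n6673 := d25_1 D8454 (iv D6673) (iv F31654)
def n8455 : Q := act 7 n6672
theorem D8455 : act 7 n6672 = n8455 := rfl
theorem F39558 : act 6 n8455 = n6678 := d39_1 D8455 (iv D6678) (iv D5310) (iv F25499) D6672
def n8456 : Q := act 7 n6673
theorem D8456 : act 7 n6673 = n8456 := rfl
theorem F39563 : act 5 n8456 = n6674 := d36_1 D8456 (iv D6674) D6673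
def n8458 : Q := act 0 n6675
theorem D8458 : act 0 n6675 = n8458 := rfl
theorem F39569 : act 3 n8458 = n6693 := d2_2 (iv F31665) D8458 (iv D6693)
theorem F39570 : act 4 n8458 = n6905 := d3_2 (iv F31666) D8458 (iv D6905)
def n8459 : Q := act 6 n6675
theorem D8459 : act 6 n6675 = n8459 := rfl
theorem F39572 : act 1 n8459 = n6676 := d13_1 D8459 (iv D6676) D6675
theorem F39574 : act 4 n8459 = n6906 := d31_1 D8459 (iv D6906) (iv F31666)
def n8460 : Q := act 5 n6676
theorem D8460 : act 5 n6676 = n8460 := rfl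
theorem F39578 : act 3 n8460 = n6695 := d25_1 D8460 (iv D6695) (iv F31670)
def n8461 : Q := act 7 n6676
theorem D8461 : act 7 n6676 = n8461 := rfl
theorem F39581 : act 3 n8461 = n6696 := d27_1 D8461 (iv D6696) (iv F31670)
theorem F39582 : act 4 n8461 = n6908 := d32_1 D8461 (iv D6908) (iv F31671)
def n8462 : Q := act 4 n6677
theorem D8462 : act 4 n6677 = n8462 := rfl
theorem F39586 : act 5 n8462 = n6909 := d30_2 D6677 D8462 (iv D6909) (iv D5484) (iv F25517)
def n8463 : Q := act 7 n6677
theorem D8463 : act 7 n6677 = n8463 := rfl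
theorem F39588 : act 3 n8463 = n6679 := d27_1 D8463 (iv D6679) (iv F31674)
theorem F39589 : act 5 n8463 = n6678 := d36_1 D8463 (iv D6678) D6677
def n8464 : Q := act 8 n6677
theorem D8464 : act 8 n6677 = n8464 := rfl
theorem F39591 : act 3 n8464 = n6680 := d28_1 D8464 (iv D6680) (iv F31674)
def n8465 : Q := act 6 n6679
theorem D8465 : act 6 n6679 = n8465 := rfl
theorem F39594 : act 2 n8465 = n6699 := d20_1 D8465 (iv D6699) (iv F31680)
def n8466 : Q := act 8 n6679
theorem D8466 : act 8 n6679 = n8466 := rfl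
theorem F39597 : act 2 n8466 = n6700 := d22_1 D8466 (iv D6700) (iv F31680)
def n8467 : Q := act 9 n6680
theorem D8467 : act 9 n6680 = n8467 := rfl
theorem F39602 : act 2 n8467 = n6701 := d23_1 D8467 (iv D6701) (iv F31684)
def n8468 : Q := act 7 n6681
theorem D8468 : act 7 n6681 = n8468 := rfl
theorem F39607 : act 4 n8468 = n6682 := d32_1 D8468 (iv D6682) D6681
theorem F39608 : act 5 n8468 = n6915 := d36_1 D8468 (iv D6915) (iv F31689)
def n8471 : Q := act 8 n6682
theorem D8471 : act 8 n6682 = n8471 := rfl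
theorem F39618 : act 3 n8471 = n6685 := d28_1 D8471 (iv D6685) (iv F31692)
def n8473 : Q := act 8 n6684
theorem D8473 : act 8 n6684 = n8473 := rfl
theorem F39626 : act 2 n8473 = n6702 := d22_1 D8473 (iv D6702) (iv F31699)
theorem F39627 : act 6 n8473 = n6685 := d40_1 D8473 (iv D6685) D6684
def n8474 : Q := act 9 n6685
theorem D8474 : act 9 n6685 = n8474 := rfl
theorem F39629 : act 2 n8474 = n6703 := d23_1 D8474 (iv D6703) (iv F31702)
def n8475 : Q := act 0 n6687
theorem D8475 : act 0 n6687 = n8475 := rfl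
theorem F39633 : act 4 n8475 = n6704 := d3_2 (iv F31708) D8475 (iv D6704)
theorem F39634 : act 7 n8475 = n6693 := d6_2 (iv F31709) D8475 (iv D6693)
def n8476 : Q := act 6 n6687
theorem D8476 : act 6 n6687 = n8476 := rfl
theorem F39636 : act 1 n8476 = n6688 := d13_1 D8476 (iv D6688) D6687
theorem F39637 : act 4 n8476 = n6705 := d31_1 D8476 (iv D6705) (iv F31708)
def n8477 : Q := act 5 n6688
theorem D8477 : act 5 n6688 = n8477 := rfl
def n8478 : Q := act 7 n6688
theorem D8478 : act 7 n6688 = n8478 := rfl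
theorem F39643 : act 4 n8478 = n6707 := d32_1 D8478 (iv D6707) (iv F31713)
theorem F39644 : act 6 n8478 = n6696 := d39_1 D8478 (iv D6696) (iv D5322) (iv F25543) D6688
def n8479 : Q := act 4 n6689
theorem D8479 : act 4 n6689 = n8479 := rfl
theorem F39648 : act 5 n8479 = n6708 := d30_2 D6689 D8479 (iv D6708) (iv D5332) (iv F25547)
def n8480 : Q := act 7 n6689
theorem D8480 : act 7 n6689 = n8480 := rfl
theorem F39650 : act 3 n8480 = n6691 := d27_1 D8480 (iv D6691) (iv F31716)
theorem F39651 : act 5 n8480 = n6690 := d36_1 D8480 (iv D6690) D6689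
def n8481 : Q := act 8 n6689
theorem D8481 : act 8 n6689 = n8481 := rfl
theorem F39653 : act 3 n8481 = n6692 := d28_1 D8481 (iv D6692) (iv F31716)
def n8482 : Q := act 6 n6691
theorem D8482 : act 6 n6691 = n8482 := rfl
def n8483 : Q := act 8 n6691
theorem D8483 : act 8 n6691 = n8483 := rfl
def n8485 : Q := act 6 n6693
theorem D8485 : act 6 n6693 = n8485 := rfl
def n8486 : Q := act 5 n6694
theorem D8486 : act 5 n6694 = n8486 := rfl
def n8487 : Q := act 7 n6694
theorem D8487 : act 7 n6694 = n8487 := rfl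
def n8488 : Q := act 7 n6695
theorem D8488 : act 7 n6695 = n8488 := rfl
theorem F39675 : act 2 n8488 = n6697 := d21_1 D8488 (iv D6697) (iv F31735)
theorem F39677 : act 5 n8488 = n6696 := d36_1 D8488 (iv D6696) D6695
def n8489 : Q := act 8 n6695
theorem D8489 : act 8 n6695 = n8489 := rfl
def n8490 : Q := act 6 n6697
theorem D8490 : act 6 n6697 = n8490 := rfl
def n8491 : Q := act 8 n6697
theorem D8491 : act 8 n6697 = n8491 := rfl
theorem F39689 : act 7 n8491 = n6698 := d42_1 D8491 (iv D6698) D6697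
def n8492 : Q := act 9 n6698
theorem D8492 : act 9 n6698 = n8492 := rfl
theorem F39690 : act 0 n8492 = n8492 := d8_1 D8492 (iv D8492) F31745
theorem F39691 : act 3 n8492 = n6701 := d29_1 D8492 (iv D6701) (iv F31746)
theorem F39692 : act 4 n8492 = n8492 := d34_1 D8492 (iv D8492) F31747
theorem F39693 : act 5 n8492 = n8492 := d38_1 D8492 (iv D8492) F31748
def n8493 : Q := act 8 n6699
theorem D8493 : act 8 n6699 = n8493 := rfl
def n8494 : Q := act 9 n6700
theorem D8494 : act 9 n6700 = n8494 := rfl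
theorem F39700 : act 7 n8494 = n6701 := d43_1 D8494 (iv D6701) (iv F31754)
def n8495 : Q := act 5 n6702
theorem D8495 : act 5 n6702 = n8495 := rfl
def n8496 : Q := act 9 n6702
theorem D8496 : act 9 n6702 = n8496 := rfl
def n8497 : Q := act 6 n6704
theorem D8497 : act 6 n6704 = n8497 := rfl
def n8498 : Q := act 5 n6705
theorem D8498 : act 5 n6705 = n8498 := rfl
theorem F39713 : act 3 n8498 = n6944 := d25_1 D8498 (iv D6944) (iv F31771)
theorem F39714 : act 6 n8498 = n6716 := d35_2 D6705 D8498 (iv D6716) (iv D5340) (iv F25585)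
def n8499 : Q := act 7 n6705
theorem D8499 : act 7 n6705 = n8499 := rfl
def n8500 : Q := act 4 n6706
theorem D8500 : act 4 n6706 = n8500 := rfl
theorem F39720 : act 2 n8500 = n6708 := d18_1 D8500 (iv D6708) (iv F31774)
theorem F39721 : act 6 n8500 = n6717 := d31_2 (iv F31776) D8500 (iv D6717)
def n8501 : Q := act 7 n6706
theorem D8501 : act 7 n6706 = n8501 := rfl
theorem F39725 : act 5 n8501 = n6707 := d36_1 D8501 (iv D6707) D6706
def n8502 : Q := act 8 n6706
theorem D8502 : act 8 n6706 = n8502 := rfl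
theorem F39731 : act 6 n8502 = n6718 := d40_1 D8502 (iv D6718) (iv F31776)
def n8503 : Q := act 7 n6708
theorem D8503 : act 7 n6708 = n8503 := rfl
def n8504 : Q := act 8 n6708
theorem D8504 : act 8 n6708 = n8504 := rfl
theorem F39739 : act 6 n8504 = n6719 := d40_1 D8504 (iv D6719) (iv F31784)
def n8505 : Q := act 8 n6709
theorem D8505 : act 8 n6709 = n8505 := rfl
theorem F39744 : act 7 n8505 = n6710 := d42_1 D8505 (iv D6710) D6709
def n8506 : Q := act 9 n6710
theorem D8506 : act 9 n6710 = n8506 := rfl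
theorem F39748 : act 6 n8506 = n6720 := d41_1 D8506 (iv D6720) (iv F31792)
def n8507 : Q := act 9 n6711
theorem D8507 : act 9 n6711 = n8507 := rfl
theorem F39754 : act 7 n8507 = n6712 := d43_1 D8507 (iv D6712) (iv F31798)
def n8509 : Q := act 5 n6715
theorem D8509 : act 5 n6715 = n8509 := rfl
theorem F39762 : act 3 n8509 = n6955 := d25_1 D8509 (iv D6955) (iv F31815)
def n8510 : Q := act 4 n6716
theorem D8510 : act 4 n6716 = n8510 := rfl
def n8511 : Q := act 8 n6716
theorem D8511 : act 8 n6716 = n8511 := rfl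
theorem F39767 : act 3 n8511 = n6957 := d28_1 D8511 (iv D6957) (iv F31819)
def n8512 : Q := act 3 n6717
theorem D8512 : act 3 n6717 = n8512 := rfl
theorem F39772 : act 4 n8512 = n6958 := d24_2 D6717 D8512 (iv D6958) (iv D5524) (iv F25632)
def n8513 : Q := act 8 n6717
theorem D8513 : act 8 n6717 = n8513 := rfl
theorem F39775 : act 2 n8513 = n6719 := d22_1 D8513 (iv D6719) (iv F31822)
def n8514 : Q := act 9 n6718
theorem D8514 : act 9 n6718 = n8514 := rfl
theorem F39780 : act 2 n8514 = n6720 := d23_1 D8514 (iv D6720) (iv F31825)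
theorem F39781 : act 3 n8514 = n6960 := d29_1 D8514 (iv D6960) (iv F31826)
def n8515 : Q := act 9 n6719
theorem D8515 : act 9 n6719 = n8515 := rfl
def n8516 : Q := act 8 n6721
theorem D8516 : act 8 n6721 = n8516 := rfl
theorem F39791 : act 3 n8516 = n6964 := d28_1 D8516 (iv D6964) (iv F31840)
def n8517 : Q := act 9 n6722
theorem D8517 : act 9 n6722 = n8517 := rfl
theorem F39796 : act 3 n8517 = n6966 := d29_1 D8517 (iv D6966) (iv F31846)
def n8518 : Q := act 6 n6724
theorem D8518 : act 6 n6724 = n8518 := rfl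
theorem F39802 : act 1 n8518 = n6725 := d13_1 D8518 (iv D6725) D6724
theorem F39804 : act 4 n8518 = n6974 := d31_1 D8518 (iv D6974) (iv F31859)
def n8519 : Q := act 5 n6725
theorem D8519 : act 5 n6725 = n8519 := rfl
theorem F39806 : act 0 n8519 = n6730 := d4_1 D8519 (iv D6730) (iv F31863)
theorem F39807 : act 2 n8519 = n6726 := d19_1 D8519 (iv D6726) (iv F31864)
theorem F39808 : act 6 n8519 = n8519 := d35_2 D6725 D8519 (iv D8519) (iv D6725) F25671
def n8520 : Q := act 7 n6725
theorem D8520 : act 7 n6725 = n8520 := rfl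
theorem F39812 : act 4 n8520 = n6976 := d32_1 D8520 (iv D6976) (iv F31865)
def n8521 : Q := act 4 n6726
theorem D8521 : act 4 n6726 = n8521 := rfl
theorem F39818 : act 5 n8521 = n6977 := d30_2 D6726 D8521 (iv D6977) (iv D5539) (iv F25677)
def n8522 : Q := act 7 n6726
theorem D8522 : act 7 n6726 = n8522 := rfl
theorem F39823 : act 3 n8522 = n6728 := d27_1 D8522 (iv D6728) (iv F31869)
def n8523 : Q := act 8 n6726
theorem D8523 : act 8 n6726 = n8523 := rfl
theorem F39828 : act 3 n8523 = n6729 := d28_1 D8523 (iv D6729) (iv F31869)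
def n8526 : Q := act 9 n6729
theorem D8526 : act 9 n6729 = n8526 := rfl
def n8527 : Q := act 4 n6730
theorem D8527 : act 4 n6730 = n8527 := rfl
theorem F39846 : act 2 n8527 = n6732 := d18_1 D8527 (iv D6732) (iv F31888)
theorem F39847 : act 5 n8527 = n6983 := d30_2 D6730 D8527 (iv D6983) (iv D5543) (iv F25691)
def n8528 : Q := act 7 n6730
theorem D8528 : act 7 n6730 = n8528 := rfl
theorem F39852 : act 5 n8528 = n6731 := d36_1 D8528 (iv D6731) D6730
def n8529 : Q := act 8 n6730
theorem D8529 : act 8 n6730 = n8529 := rfl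
def n8530 : Q := act 7 n6732
theorem D8530 : act 7 n6732 = n8530 := rfl
theorem F39859 : act 4 n8530 = n6733 := d32_1 D8530 (iv D6733) D6732
theorem F39860 : act 5 n8530 = n6986 := d36_1 D8530 (iv D6986) (iv F31898)
def n8533 : Q := act 8 n6733
theorem D8533 : act 8 n6733 = n8533 := rfl
theorem F39872 : act 3 n8533 = n6736 := d28_1 D8533 (iv D6736) (iv F31902)
def n8536 : Q := act 9 n6736
theorem D8536 : act 9 n6736 = n8536 := rfl
def n8538 : Q := act 8 n6738
theorem D8538 : act 8 n6738 = n8538 := rfl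
theorem F39895 : act 4 n8538 = n6741 := d33_1 D8538 (iv D6741) (iv F31923)
def n8542 : Q := act 9 n6741
theorem D8542 : act 9 n6741 = n8542 := rfl
theorem F39914 : act 3 n8542 = n6744 := d29_1 D8542 (iv D6744) (iv F31939)
def n8544 : Q := act 9 n6743
theorem D8544 : act 9 n6743 = n8544 := rfl
theorem F39922 : act 2 n8544 = n6746 := d23_1 D8544 (iv D6746) (iv F31947)
theorem F39924 : act 6 n8544 = n6744 := d41_1 D8544 (iv D6744) (iv F31949)
def n8545 : Q := act 4 n6745
theorem D8545 : act 4 n6745 = n8545 := rfl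
def n8546 : Q := act 9 n6745
theorem D8546 : act 9 n6745 = n8546 := rfl
theorem F39933 : act 5 n8546 = n6746 := d38_1 D8546 (iv D6746) D6745
def n8547 : Q := act 3 n6747
theorem D8547 : act 3 n6747 = n8547 := rfl
theorem F39937 : act 8 n8547 = n6751 := d28_2 (iv F31969) D8547 (iv D6751)
def n8548 : Q := act 6 n6747
theorem D8548 : act 6 n6747 = n8548 := rfl
theorem F39942 : act 4 n8548 = n6748 := d31_1 D8548 (iv D6748) D6747
theorem F39943 : act 8 n8548 = n6752 := d40_2 (iv F31969) D8548 (iv D6752)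
def n8549 : Q := act 7 n6748
theorem D8549 : act 7 n6748 = n8549 := rfl
def n8550 : Q := act 3 n6749
theorem D8550 : act 3 n6749 = n8550 := rfl
theorem F39954 : act 7 n8550 = n6751 := d27_2 (iv F31981) D8550 (iv D6751)
theorem F39955 : act 9 n8550 = n6868 := d29_2 (iv F31982) D8550 (iv D6868)
def n8553 : Q := act 2 n6751
theorem D8553 : act 2 n6751 = n8553 := rfl
theorem F39970 : act 9 n8553 = n6871 := d23_2 (iv F31991) D8553 (iv D6871)
def n8554 : Q := act 6 n6751
theorem D8554 : act 6 n6751 = n8554 := rfl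
theorem F39973 : act 3 n8554 = n6752 := d26_1 D8554 (iv D6752) D6751
theorem F39974 : act 9 n8554 = n6872 := d41_2 (iv F31991) D8554 (iv D6872)
def n8555 : Q := act 5 n6752
theorem D8555 : act 5 n6752 = n8555 := rfl
theorem F39978 : act 4 n8555 = n6756 := d30_1 D8555 (iv D6756) F25778 (iv F25767) (iv F31995)
def n8556 : Q := act 7 n6752
theorem D8556 : act 7 n6752 = n8556 := rfl
theorem F39984 : act 4 n8556 = n6753 := d32_1 D8556 (iv D6753) (iv F31995)
def n8557 : Q := act 1 n6754
theorem D8557 : act 1 n6754 = n8557 := rfl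
theorem F39992 : act 9 n8557 = n6875 := d16_2 (iv F32007) D8557 (iv D6875)
def n8558 : Q := act 6 n6754
theorem D8558 : act 6 n6754 = n8558 := rfl
theorem F39997 : act 9 n8558 = n6876 := d41_2 (iv F32007) D8558 (iv D6876)
def n8559 : Q := act 5 n6755
theorem D8559 : act 5 n6755 = n8559 := rfl
theorem F40002 : act 9 n8559 = n6877 := d38_2 (iv F32012) D8559 (iv D6877)
def n8560 : Q := act 7 n6755
theorem D8560 : act 7 n6755 = n8560 := rfl
def n8561 : Q := act 7 n6756
theorem D8561 : act 7 n6756 = n8561 := rfl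
theorem F40012 : act 5 n8561 = n6757 := d36_1 D8561 (iv D6757) D6756
theorem F40013 : act 9 n8561 = n6879 := d43_2 (iv F32017) D8561 (iv D6879)
def n8562 : Q := act 8 n6756
theorem D8562 : act 8 n6756 = n8562 := rfl
def n8563 : Q := act 3 n6758
theorem D8563 : act 3 n6758 = n8563 := rfl
theorem F40020 : act 5 n8563 = n6762 := d25_2 (iv F32027) D8563 (iv D6762)
def n8565 : Q := act 3 n6760
theorem D8565 : act 3 n6760 = n8565 := rfl
theorem F40029 : act 1 n8565 = n6783 := d10_1 D8565 (iv D6783) (iv F32036)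
theorem F40030 : act 7 n8565 = n6762 := d27_2 (iv F32038) D8565 (iv D6762)
theorem F40031 : act 8 n8565 = n6765 := d28_2 (iv F32039) D8565 (iv D6765)
def n8566 : Q := act 6 n6760
theorem D8566 : act 6 n6760 = n8566 := rfl
theorem F40036 : act 5 n8566 = n8566 := d35_1 D8566 (iv D8566) (iv F33512) F33513 F33512
theorem F40037 : act 8 n8566 = n6766 := d40_2 (iv F32039) D8566 (iv D6766)
def n8567 : Q := act 7 n6761
theorem D8567 : act 7 n6761 = n8567 := rfl
theorem F40039 : act 1 n8567 = n6785 := d14_1 D8567 (iv D6785) (iv F32041)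
def n8568 : Q := act 2 n6762
theorem D8568 : act 2 n6762 = n8568 := rfl
theorem F40045 : act 8 n8568 = n6768 := d22_2 (iv F32046) D8568 (iv D6768)
def n8569 : Q := act 6 n6762
theorem D8569 : act 6 n6762 = n8569 := rfl
theorem F40049 : act 8 n8569 = n6769 := d40_2 (iv F32046) D8569 (iv D6769)
def n8570 : Q := act 5 n6763
theorem D8570 : act 5 n6763 = n8570 := rfl
def n8571 : Q := act 7 n6763
theorem D8571 : act 7 n6763 = n8571 := rfl
theorem F40057 : act 4 n8571 = n6764 := d32_1 D8571 (iv D6764) (iv F32050)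
theorem F40058 : act 8 n8571 = n6771 := d42_2 (iv F32051) D8571 (iv D6771)
def n8572 : Q := act 2 n6765
theorem D8572 : act 2 n6765 = n8572 := rfl
theorem F40062 : act 7 n8572 = n6768 := d21_2 (iv F32060) D8572 (iv D6768)
theorem F40063 : act 9 n8572 = n6881 := d23_2 (iv F32061) D8572 (iv D6881)
def n8574 : Q := act 5 n6766
theorem D8574 : act 5 n6766 = n8574 := rfl
theorem F40071 : act 8 n8574 = n8574 := d37_2 F40037 D8574 (iv D8574) (iv F40037) F40036
theorem F40072 : act 9 n8574 = n6883 := d38_2 (iv F32065) D8574 (iv D6883)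
def n8576 : Q := act 1 n6768
theorem D8576 : act 1 n6768 = n8576 := rfl
theorem F40081 : act 9 n8576 = n6885 := d16_2 (iv F32073) D8576 (iv D6885)
def n8577 : Q := act 6 n6768
theorem D8577 : act 6 n6768 = n8577 := rfl
theorem F40082 : act 2 n8577 = n6769 := d20_1 D8577 (iv D6769) D6768
def n8578 : Q := act 5 n6769
theorem D8578 : act 5 n6769 = n8578 := rfl
theorem F40086 : act 3 n8578 = n6770 := d25_1 D8578 (iv D6770) (iv F32075)
def n8579 : Q := act 7 n6769
theorem D8579 : act 7 n6769 = n8579 := rfl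

end Cfsg.Agent.Helper17.SP6TC
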